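import Mathlib
import Cfsg.Prelude.Def_Spor_ON

set_option autoImplicit false
set_option linter.all false

noncomputable section

namespace Cfsg.Agent.Helper17.ONTC

open Cfsg.Spor

abbrev Gn := Cfsg.Spor.ON.Gen

abbrev Rels : Set (FreeGroup Gn) :=
  Cfsg.Spor.coxRelators Cfsg.Spor.ON.edges ∪ {r | r ∈ Cfsg.Spor.ON.extra}

abbrev G := PresentedGroup Rels

def Hs : Subgroup G :=
  (Subgroup.closure ({ON.a, ON.b, ON.c, ON.d, ON.e, ON.f} : Set (FreeGroup Gn))).map (PresentedGroup.mk Rels)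

abbrev Q := G ⧸ Hs

/-- the group element of a letter -/
def gG : ℕ → G
  | 0 => PresentedGroup.of ON.Gen.g
  | 1 => (PresentedGroup.of ON.Gen.g)⁻¹
  | 2 => PresentedGroup.of ON.Gen.a
  | 3 => PresentedGroup.of ON.Gen.b
  | 4 => PresentedGroup.of ON.Gen.c
  | 5 => PresentedGroup.of ON.Gen.d
  | 6 => PresentedGroup.of ON.Gen.e
  | 7 => PresentedGroup.of ON.Gen.f
  | _ => 1

/-- the inverse letter -/
def li : ℕ → ℕ
  | 0 => 1
  | 1 => 0
  | l => l

def act (l : ℕ) (x : Q) : Q := gG l • x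

def n0 : Q := ((1 : G) : Q)

def actw : List ℕ → Q → Q
  | [], x => x
  | l :: w, x => actw w (act l x)

def prodw : List ℕ → G
  | [] => 1
  | l :: w => prodw w * gG l

theorem actw_eq (w : List ℕ) (x : Q) : actw w x = prodw w • x := by
  induction w generalizing x with
  | nil => simp [actw, prodw]
  | cons l w ih => simp [actw, prodw, ih, act, mul_smul]

theorem cox (x y : Gn) (hx : x ∈ coxNodes ON.edges) (hy : y ∈ coxNodes ON.edges) :
    ((PresentedGroup.of x : G) * PresentedGroup.of y) ^ coxLabel ON.edges x y = 1 := by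
  have h : (FreeGroup.of x * FreeGroup.of y) ^ coxLabel ON.edges x y ∈ Rels :=
    Or.inl ⟨x, hx, y, hy, rfl⟩
  have := PresentedGroup.one_of_mem h
  simpa [PresentedGroup.of] using this

theorem of_inv_of_node (x : Gn) (hx : x ∈ coxNodes ON.edges) :
    (PresentedGroup.of x : G)⁻¹ = PresentedGroup.of x := by
  have := cox x x hx hx
  rw [inv_eq_iff_mul_eq_one]
  simpa [coxLabel] using this

theorem invn_a : (PresentedGroup.of ON.Gen.a : G)⁻¹ = PresentedGroup.of ON.Gen.a := of_inv_of_node _ (by decide)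
theorem invn_b : (PresentedGroup.of ON.Gen.b : G)⁻¹ = PresentedGroup.of ON.Gen.b := of_inv_of_node _ (by decide)
theorem invn_c : (PresentedGroup.of ON.Gen.c : G)⁻¹ = PresentedGroup.of ON.Gen.c := of_inv_of_node _ (by decide)
theorem invn_d : (PresentedGroup.of ON.Gen.d : G)⁻¹ = PresentedGroup.of ON.Gen.d := of_inv_of_node _ (by decide)
theorem invn_e : (PresentedGroup.of ON.Gen.e : G)⁻¹ = PresentedGroup.of ON.Gen.e := of_inv_of_node _ (by decide)
theorem invn_f : (PresentedGroup.of ON.Gen.f : G)⁻¹ = PresentedGroup.of ON.Gen.f := of_inv_of_node _ (by decide)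

theorem gG_li : ∀ l : ℕ, gG (li l) = (gG l)⁻¹
  | 0 => rfl
  | 1 => (inv_inv _).symm
  | 2 => (of_inv_of_node _ (by decide)).symm
  | 3 => (of_inv_of_node _ (by decide)).symm
  | 4 => (of_inv_of_node _ (by decide)).symm
  | 5 => (of_inv_of_node _ (by decide)).symm
  | 6 => (of_inv_of_node _ (by decide)).symm
  | 7 => (of_inv_of_node _ (by decide)).symm
  | (l + 8) => by simp [gG, li]

theorem act_li (l : ℕ) (x : Q) : act (li l) (act l x) = x := by
  simp [act, ← mul_smul, gG_li]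

theorem ij {l : ℕ} {x y : Q} (h : act l x = act l y) : x = y := by
  have := congrArg (act (li l)) h
  simpa [act_li] using this

theorem tr {l : ℕ} {x y z : Q} (h : act l x = y) (e : y = z) : act l x = z := h.trans e

theorem sb {l : ℕ} {x x' y : Q} (e : x = x') (h : act l x = y) : act l x' = y := e ▸ h

theorem extra_one {r : FreeGroup Gn} (h : r ∈ ON.extra) : PresentedGroup.mk Rels r = 1 :=
  PresentedGroup.one_of_mem (Or.inr h)

theorem mk_of (x : Gn) : PresentedGroup.mk Rels (FreeGroup.of x) = PresentedGroup.of x := rfl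

theorem act_n0_of_mem {g : G} (h : g ∈ Hs) : g • n0 = n0 := by
  unfold n0
  rw [MulAction.Quotient.smul_mk, QuotientGroup.eq]
  simpa using Hs.inv_mem h

theorem R_of_prod (w : List ℕ) (h : prodw w = 1) (x : Q) : actw w x = x := by
  rw [actw_eq, h, one_smul]

theorem iv0 {x y : Q} (h : act 0 x = y) : act 1 y = x := by
  rw [← h]; exact act_li 0 x

theorem iv1 {x y : Q} (h : act 1 x = y) : act 0 y = x := by
  rw [← h]; exact act_li 1 x

theorem iv2 {x y : Q} (h : act 2 x = y) : act 2 y = x := by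
  rw [← h]; exact act_li 2 x

theorem iv3 {x y : Q} (h : act 3 x = y) : act 3 y = x := by
  rw [← h]; exact act_li 3 x

theorem iv4 {x y : Q} (h : act 4 x = y) : act 4 y = x := by
  rw [← h]; exact act_li 4 x

theorem iv5 {x y : Q} (h : act 5 x = y) : act 5 y = x := by
  rw [← h]; exact act_li 5 x

theorem iv6 {x y : Q} (h : act 6 x = y) : act 6 y = x := by
  rw [← h]; exact act_li 6 x

theorem iv7 {x y : Q} (h : act 7 x = y) : act 7 y = x := by
  rw [← h]; exact act_li 7 x

theorem P0 : prodw [3, 2, 3, 2, 3, 2] = 1 := by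
  have h := cox ON.Gen.a ON.Gen.b (by decide) (by decide)
  rw [show coxLabel ON.edges ON.Gen.a ON.Gen.b = 3 from by decide] at h
  simp only [pow_succ, pow_zero, one_mul, mul_assoc] at h
  simp only [prodw, gG, one_mul, mul_assoc]
  exact h
theorem R0 (x : Q) : act 2 (act 3 (act 2 (act 3 (act 2 (act 3 x))))) = x := R_of_prod [3, 2, 3, 2, 3, 2] P0 x

theorem P1 : prodw [4, 2, 4, 2] = 1 := by
  have h := cox ON.Gen.a ON.Gen.c (by decide) (by decide)
  rw [show coxLabel ON.edges ON.Gen.a ON.Gen.c = 2 from by decide] at h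
  simp only [pow_succ, pow_zero, one_mul, mul_assoc] at h
  simp only [prodw, gG, one_mul, mul_assoc]
  exact h
theorem R1 (x : Q) : act 2 (act 4 (act 2 (act 4 x))) = x := R_of_prod [4, 2, 4, 2] P1 x

theorem P2 : prodw [5, 2, 5, 2] = 1 := by
  have h := cox ON.Gen.a ON.Gen.d (by decide) (by decide)
  rw [show coxLabel ON.edges ON.Gen.a ON.Gen.d = 2 from by decide] at h
  simp only [pow_succ, pow_zero, one_mul, mul_assoc] at h
  simp only [prodw, gG, one_mul, mul_assoc]
  exact h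
theorem R2 (x : Q) : act 2 (act 5 (act 2 (act 5 x))) = x := R_of_prod [5, 2, 5, 2] P2 x

theorem P3 : prodw [6, 2, 6, 2] = 1 := by
  have h := cox ON.Gen.a ON.Gen.e (by decide) (by decide)
  rw [show coxLabel ON.edges ON.Gen.a ON.Gen.e = 2 from by decide] at h
  simp only [pow_succ, pow_zero, one_mul, mul_assoc] at h
  simp only [prodw, gG, one_mul, mul_assoc]
  exact h
theorem R3 (x : Q) : act 2 (act 6 (act 2 (act 6 x))) = x := R_of_prod [6, 2, 6, 2] P3 x

theorem P4 : prodw [7, 2, 7, 2] = 1 := by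
  have h := cox ON.Gen.a ON.Gen.f (by decide) (by decide)
  rw [show coxLabel ON.edges ON.Gen.a ON.Gen.f = 2 from by decide] at h
  simp only [pow_succ, pow_zero, one_mul, mul_assoc] at h
  simp only [prodw, gG, one_mul, mul_assoc]
  exact h
theorem R4 (x : Q) : act 2 (act 7 (act 2 (act 7 x))) = x := R_of_prod [7, 2, 7, 2] P4 x

theorem P5 : prodw [4, 3, 4, 3, 4, 3] = 1 := by
  have h := cox ON.Gen.b ON.Gen.c (by decide) (by decide)
  rw [show coxLabel ON.edges ON.Gen.b ON.Gen.c = 3 from by decide] at h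
  simp only [pow_succ, pow_zero, one_mul, mul_assoc] at h
  simp only [prodw, gG, one_mul, mul_assoc]
  exact h
theorem R5 (x : Q) : act 3 (act 4 (act 3 (act 4 (act 3 (act 4 x))))) = x := R_of_prod [4, 3, 4, 3, 4, 3] P5 x

theorem P6 : prodw [5, 3, 5, 3] = 1 := by
  have h := cox ON.Gen.b ON.Gen.d (by decide) (by decide)
  rw [show coxLabel ON.edges ON.Gen.b ON.Gen.d = 2 from by decide] at h
  simp only [pow_succ, pow_zero, one_mul, mul_assoc] at h
  simp only [prodw, gG, one_mul, mul_assoc]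
  exact h
theorem R6 (x : Q) : act 3 (act 5 (act 3 (act 5 x))) = x := R_of_prod [5, 3, 5, 3] P6 x

theorem P7 : prodw [6, 3, 6, 3] = 1 := by
  have h := cox ON.Gen.b ON.Gen.e (by decide) (by decide)
  rw [show coxLabel ON.edges ON.Gen.b ON.Gen.e = 2 from by decide] at h
  simp only [pow_succ, pow_zero, one_mul, mul_assoc] at h
  simp only [prodw, gG, one_mul, mul_assoc]
  exact h
theorem R7 (x : Q) : act 3 (act 6 (act 3 (act 6 x))) = x := R_of_prod [6, 3, 6, 3] P7 x

theorem P8 : prodw [7, 3, 7, 3] = 1 := by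
  have h := cox ON.Gen.b ON.Gen.f (by decide) (by decide)
  rw [show coxLabel ON.edges ON.Gen.b ON.Gen.f = 2 from by decide] at h
  simp only [pow_succ, pow_zero, one_mul, mul_assoc] at h
  simp only [prodw, gG, one_mul, mul_assoc]
  exact h
theorem R8 (x : Q) : act 3 (act 7 (act 3 (act 7 x))) = x := R_of_prod [7, 3, 7, 3] P8 x

theorem P9 : prodw [5, 4, 5, 4, 5, 4, 5, 4, 5, 4, 5, 4, 5, 4, 5, 4] = 1 := by
  have h := cox ON.Gen.c ON.Gen.d (by decide) (by decide)
  rw [show coxLabel ON.edges ON.Gen.c ON.Gen.d = 8 from by decide] at h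
  simp only [pow_succ, pow_zero, one_mul, mul_assoc] at h
  simp only [prodw, gG, one_mul, mul_assoc]
  exact h
theorem R9 (x : Q) : act 4 (act 5 (act 4 (act 5 (act 4 (act 5 (act 4 (act 5 (act 4 (act 5 (act 4 (act 5 (act 4 (act 5 (act 4 (act 5 x))))))))))))))) = x := R_of_prod [5, 4, 5, 4, 5, 4, 5, 4, 5, 4, 5, 4, 5, 4, 5, 4] P9 x

theorem P10 : prodw [6, 4, 6, 4] = 1 := by
  have h := cox ON.Gen.c ON.Gen.e (by decide) (by decide)
  rw [show coxLabel ON.edges ON.Gen.c ON.Gen.e = 2 from by decide] at h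
  simp only [pow_succ, pow_zero, one_mul, mul_assoc] at h
  simp only [prodw, gG, one_mul, mul_assoc]
  exact h
theorem R10 (x : Q) : act 4 (act 6 (act 4 (act 6 x))) = x := R_of_prod [6, 4, 6, 4] P10 x

theorem P11 : prodw [7, 4, 7, 4] = 1 := by
  have h := cox ON.Gen.c ON.Gen.f (by decide) (by decide)
  rw [show coxLabel ON.edges ON.Gen.c ON.Gen.f = 2 from by decide] at h
  simp only [pow_succ, pow_zero, one_mul, mul_assoc] at h
  simp only [prodw, gG, one_mul, mul_assoc]
  exact h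
theorem R11 (x : Q) : act 4 (act 7 (act 4 (act 7 x))) = x := R_of_prod [7, 4, 7, 4] P11 x

theorem P12 : prodw [6, 5, 6, 5, 6, 5] = 1 := by
  have h := cox ON.Gen.d ON.Gen.e (by decide) (by decide)
  rw [show coxLabel ON.edges ON.Gen.d ON.Gen.e = 3 from by decide] at h
  simp only [pow_succ, pow_zero, one_mul, mul_assoc] at h
  simp only [prodw, gG, one_mul, mul_assoc]
  exact h
theorem R12 (x : Q) : act 5 (act 6 (act 5 (act 6 (act 5 (act 6 x))))) = x := R_of_prod [6, 5, 6, 5, 6, 5] P12 x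

theorem P13 : prodw [7, 5, 7, 5] = 1 := by
  have h := cox ON.Gen.d ON.Gen.f (by decide) (by decide)
  rw [show coxLabel ON.edges ON.Gen.d ON.Gen.f = 2 from by decide] at h
  simp only [pow_succ, pow_zero, one_mul, mul_assoc] at h
  simp only [prodw, gG, one_mul, mul_assoc]
  exact h
theorem R13 (x : Q) : act 5 (act 7 (act 5 (act 7 x))) = x := R_of_prod [7, 5, 7, 5] P13 x

theorem P14 : prodw [7, 6, 7, 6, 7, 6] = 1 := by
  have h := cox ON.Gen.e ON.Gen.f (by decide) (by decide)
  rw [show coxLabel ON.edges ON.Gen.e ON.Gen.f = 3 from by decide] at h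
  simp only [pow_succ, pow_zero, one_mul, mul_assoc] at h
  simp only [prodw, gG, one_mul, mul_assoc]
  exact h
theorem R14 (x : Q) : act 6 (act 7 (act 6 (act 7 (act 6 (act 7 x))))) = x := R_of_prod [7, 6, 7, 6, 7, 6] P14 x

theorem P15 : prodw [1, 1, 7, 2] = 1 := by
  have h := extra_one (r := (ON.a * ON.f) * ((ON.g ^ 2)⁻¹)) (by simp [ON.extra])
  simp only [map_mul, map_inv, map_pow, mk_of] at h
  simp only [pow_succ, pow_zero, one_mul, mul_inv_rev, inv_inv, invn_a, invn_b, invn_c, invn_d, invn_e, invn_f, mul_assoc] at h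
  simp only [prodw, gG, one_mul, mul_assoc]
  exact h
theorem R15 (x : Q) : act 2 (act 7 (act 1 (act 1 x))) = x := R_of_prod [1, 1, 7, 2] P15 x

theorem P16 : prodw [4, 5, 4, 5, 4, 5, 4, 5, 7, 2] = 1 := by
  have h := extra_one (r := (ON.a * ON.f) * (((ON.c * ON.d) ^ 4)⁻¹)) (by simp [ON.extra])
  simp only [map_mul, map_inv, map_pow, mk_of] at h
  simp only [pow_succ, pow_zero, one_mul, mul_inv_rev, inv_inv, invn_a, invn_b, invn_c, invn_d, invn_e, invn_f, mul_assoc] at h
  simp only [prodw, gG, one_mul, mul_assoc]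
  exact h
theorem R16 (x : Q) : act 2 (act 7 (act 5 (act 4 (act 5 (act 4 (act 5 (act 4 (act 5 (act 4 x))))))))) = x := R_of_prod [4, 5, 4, 5, 4, 5, 4, 5, 7, 2] P16 x

theorem P17 : prodw [0, 5, 0, 5, 4, 5, 1, 5, 1, 4] = 1 := by
  have h := extra_one (r := ON.c * ((ON.d * ON.g * ON.d * ON.g)⁻¹ * ON.c * (ON.d * ON.g * ON.d * ON.g))) (by simp [ON.extra])
  simp only [map_mul, map_inv, map_pow, mk_of] at h
  simp only [pow_succ, pow_zero, one_mul, mul_inv_rev, inv_inv, invn_a, invn_b, invn_c, invn_d, invn_e, invn_f, mul_assoc] at h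
  simp only [prodw, gG, one_mul, mul_assoc]
  exact h
theorem R17 (x : Q) : act 4 (act 1 (act 5 (act 1 (act 5 (act 4 (act 5 (act 0 (act 5 (act 0 x))))))))) = x := R_of_prod [0, 5, 0, 5, 4, 5, 1, 5, 1, 4] P17 x

theorem P18 : prodw [0, 4, 0, 4, 5, 4, 1, 4, 1, 5] = 1 := by
  have h := extra_one (r := ON.d * ((ON.c * ON.g * ON.c * ON.g)⁻¹ * ON.d * (ON.c * ON.g * ON.c * ON.g))) (by simp [ON.extra])
  simp only [map_mul, map_inv, map_pow, mk_of] at h
  simp only [pow_succ, pow_zero, one_mul, mul_inv_rev, inv_inv, invn_a, invn_b, invn_c, invn_d, invn_e, invn_f, mul_assoc] at h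
  simp only [prodw, gG, one_mul, mul_assoc]
  exact h
theorem R18 (x : Q) : act 5 (act 1 (act 4 (act 1 (act 4 (act 5 (act 4 (act 0 (act 4 (act 0 x))))))))) = x := R_of_prod [0, 4, 0, 4, 5, 4, 1, 4, 1, 5] P18 x

theorem P19 : prodw [0, 5, 4, 3, 0, 5, 4, 3, 0, 5, 4, 3, 0, 5, 4, 3, 0, 5, 4, 3] = 1 := by
  have h := extra_one (r := (ON.b * ON.c * ON.d * ON.g) ^ 5) (by simp [ON.extra])
  simp only [map_mul, map_inv, map_pow, mk_of] at h
  simp only [pow_succ, pow_zero, one_mul, mul_inv_rev, inv_inv, invn_a, invn_b, invn_c, invn_d, invn_e, invn_f, mul_assoc] at h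
  simp only [prodw, gG, one_mul, mul_assoc]
  exact h
theorem R19 (x : Q) : act 3 (act 4 (act 5 (act 0 (act 3 (act 4 (act 5 (act 0 (act 3 (act 4 (act 5 (act 0 (act 3 (act 4 (act 5 (act 0 (act 3 (act 4 (act 5 (act 0 x))))))))))))))))))) = x := R_of_prod [0, 5, 4, 3, 0, 5, 4, 3, 0, 5, 4, 3, 0, 5, 4, 3, 0, 5, 4, 3] P19 x

theorem P20 : prodw [4, 0, 4, 3, 0, 3, 4, 0, 4, 3, 0] = 1 := by
  have h := extra_one (r := ON.g * ON.b * (ON.c⁻¹ * ON.g * ON.c) * (ON.b⁻¹ * ON.g * ON.b) * (ON.c⁻¹ * ON.g * ON.c)) (by simp [ON.extra])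
  simp only [map_mul, map_inv, map_pow, mk_of] at h
  simp only [pow_succ, pow_zero, one_mul, mul_inv_rev, inv_inv, invn_a, invn_b, invn_c, invn_d, invn_e, invn_f, mul_assoc] at h
  simp only [prodw, gG, one_mul, mul_assoc]
  exact h
theorem R20 (x : Q) : act 0 (act 3 (act 4 (act 0 (act 4 (act 3 (act 0 (act 3 (act 4 (act 0 (act 4 x)))))))))) = x := R_of_prod [4, 0, 4, 3, 0, 3, 4, 0, 4, 3, 0] P20 x

theorem P21 : prodw [5, 0, 5, 6, 0, 6, 5, 0, 5, 6, 0] = 1 := by
  have h := extra_one (r := ON.g * ON.e * (ON.d⁻¹ * ON.g * ON.d) * (ON.e⁻¹ * ON.g * ON.e) * (ON.d⁻¹ * ON.g * ON.d)) (by simp [ON.extra])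
  simp only [map_mul, map_inv, map_pow, mk_of] at h
  simp only [pow_succ, pow_zero, one_mul, mul_inv_rev, inv_inv, invn_a, invn_b, invn_c, invn_d, invn_e, invn_f, mul_assoc] at h
  simp only [prodw, gG, one_mul, mul_assoc]
  exact h
theorem R21 (x : Q) : act 0 (act 6 (act 5 (act 0 (act 5 (act 6 (act 0 (act 6 (act 5 (act 0 (act 5 x)))))))))) = x := R_of_prod [5, 0, 5, 6, 0, 6, 5, 0, 5, 6, 0] P21 x

theorem B0 : act 2 n0 = n0 := by
  have hm : prodw [2] ∈ Hs := by
    have h1 : PresentedGroup.mk Rels (ON.a) ∈ Hs := Subgroup.mem_map_of_mem _ (Subgroup.subset_closure (Or.inl rfl))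
    simp only [map_mul, map_inv, map_pow, mk_of] at h1
    try simp only [pow_succ, pow_zero, one_mul, mul_inv_rev, inv_inv, invn_a, invn_b, invn_c, invn_d, invn_e, invn_f, mul_assoc] at h1
    simp only [prodw, gG, one_mul, mul_assoc]
    exact h1
  have := act_n0_of_mem hm
  rw [← actw_eq] at this
  exact this

theorem B1 : act 3 n0 = n0 := by
  have hm : prodw [3] ∈ Hs := by
    have h1 : PresentedGroup.mk Rels (ON.b) ∈ Hs := Subgroup.mem_map_of_mem _ (Subgroup.subset_closure (Or.inr (Or.inl rfl)))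
    simp only [map_mul, map_inv, map_pow, mk_of] at h1
    try simp only [pow_succ, pow_zero, one_mul, mul_inv_rev, inv_inv, invn_a, invn_b, invn_c, invn_d, invn_e, invn_f, mul_assoc] at h1
    simp only [prodw, gG, one_mul, mul_assoc]
    exact h1
  have := act_n0_of_mem hm
  rw [← actw_eq] at this
  exact this

theorem B2 : act 4 n0 = n0 := by
  have hm : prodw [4] ∈ Hs := by
    have h1 : PresentedGroup.mk Rels (ON.c) ∈ Hs := Subgroup.mem_map_of_mem _ (Subgroup.subset_closure (Or.inr (Or.inr (Or.inl rfl))))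
    simp only [map_mul, map_inv, map_pow, mk_of] at h1
    try simp only [pow_succ, pow_zero, one_mul, mul_inv_rev, inv_inv, invn_a, invn_b, invn_c, invn_d, invn_e, invn_f, mul_assoc] at h1
    simp only [prodw, gG, one_mul, mul_assoc]
    exact h1
  have := act_n0_of_mem hm
  rw [← actw_eq] at this
  exact this

theorem B3 : act 5 n0 = n0 := by
  have hm : prodw [5] ∈ Hs := by
    have h1 : PresentedGroup.mk Rels (ON.d) ∈ Hs := Subgroup.mem_map_of_mem _ (Subgroup.subset_closure (Or.inr (Or.inr (Or.inr (Or.inl rfl)))))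
    simp only [map_mul, map_inv, map_pow, mk_of] at h1
    try simp only [pow_succ, pow_zero, one_mul, mul_inv_rev, inv_inv, invn_a, invn_b, invn_c, invn_d, invn_e, invn_f, mul_assoc] at h1
    simp only [prodw, gG, one_mul, mul_assoc]
    exact h1
  have := act_n0_of_mem hm
  rw [← actw_eq] at this
  exact this

theorem B4 : act 6 n0 = n0 := by
  have hm : prodw [6] ∈ Hs := by
    have h1 : PresentedGroup.mk Rels (ON.e) ∈ Hs := Subgroup.mem_map_of_mem _ (Subgroup.subset_closure (Or.inr (Or.inr (Or.inr (Or.inr (Or.inl rfl))))))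
    simp only [map_mul, map_inv, map_pow, mk_of] at h1
    try simp only [pow_succ, pow_zero, one_mul, mul_inv_rev, inv_inv, invn_a, invn_b, invn_c, invn_d, invn_e, invn_f, mul_assoc] at h1
    simp only [prodw, gG, one_mul, mul_assoc]
    exact h1
  have := act_n0_of_mem hm
  rw [← actw_eq] at this
  exact this

theorem B5 : act 7 n0 = n0 := by
  have hm : prodw [7] ∈ Hs := by
    have h1 : PresentedGroup.mk Rels (ON.f) ∈ Hs := Subgroup.mem_map_of_mem _ (Subgroup.subset_closure (Or.inr (Or.inr (Or.inr (Or.inr (Or.inr rfl))))))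
    simp only [map_mul, map_inv, map_pow, mk_of] at h1
    try simp only [pow_succ, pow_zero, one_mul, mul_inv_rev, inv_inv, invn_a, invn_b, invn_c, invn_d, invn_e, invn_f, mul_assoc] at h1
    simp only [prodw, gG, one_mul, mul_assoc]
    exact h1
  have := act_n0_of_mem hm
  rw [← actw_eq] at this
  exact this

end Cfsg.Agent.Helper17.ONTC
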