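import Cfsg.Agent.Helper17.ONTC.Lemmas

set_option autoImplicit false
set_option linter.all false

noncomputable section

namespace Cfsg.Agent.Helper17.ONTC

theorem F1 : act 2 n0 = n0 := d22_0 B0 
theorem F2 : act 3 n0 = n0 := d23_0 B1 
theorem F3 : act 4 n0 = n0 := d24_0 B2 
theorem F4 : act 5 n0 = n0 := d25_0 B3 
theorem F5 : act 7 n0 = n0 := d16_8 F3 F4 F3 F4 F3 F4 F3 F4 F1
theorem F6 : act 6 n0 = n0 := d26_0 B4 
def n1 : Q := act 0 n0
theorem D1 : act 0 n0 = n1 := rfl
theorem F7 : act 1 n0 = n1 := d15_0 (iv0 D1) F5 F1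
def n2 : Q := act 2 n1
theorem D2 : act 2 n1 = n2 := rfl
theorem F8 : act 7 n1 = n2 := d15_2 (iv0 D1) F7 (iv2 D2)
def n3 : Q := act 3 n1
theorem D3 : act 3 n1 = n3 := rfl
def n4 : Q := act 4 n1
theorem D4 : act 4 n1 = n4 := rfl
def n5 : Q := act 5 n1
theorem D5 : act 5 n1 = n5 := rfl
def n6 : Q := act 6 n1
theorem D6 : act 6 n1 = n6 := rfl
def n8 : Q := act 3 n2
theorem D8 : act 3 n2 = n8 := rfl
theorem F10 : act 7 n8 = n3 := d8_2 F8 D8 (iv3 D3)
def n9 : Q := act 4 n2
theorem D9 : act 4 n2 = n9 := rfl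
theorem F11 : act 2 n9 = n4 := d1_1 D9 (iv4 D4) D2
theorem F12 : act 7 n9 = n4 := d11_2 F8 D9 (iv4 D4)
def n10 : Q := act 5 n2
theorem D10 : act 5 n2 = n10 := rfl
theorem F13 : act 2 n10 = n5 := d2_1 D10 (iv5 D5) D2
theorem F14 : act 7 n10 = n5 := d13_2 F8 D10 (iv5 D5)
def n11 : Q := act 6 n2
theorem D11 : act 6 n2 = n11 := rfl
theorem F15 : act 2 n11 = n6 := d3_1 D11 (iv6 D6) D2
def n12 : Q := act 0 n3
theorem D12 : act 0 n3 = n12 := rfl
def n13 : Q := act 1 n3
theorem D13 : act 1 n3 = n13 := rfl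
def n14 : Q := act 2 n3
theorem D14 : act 2 n3 = n14 := rfl
def n15 : Q := act 4 n3
theorem D15 : act 4 n3 = n15 := rfl
def n16 : Q := act 5 n3
theorem D16 : act 5 n3 = n16 := rfl
theorem F16 : act 3 n16 = n5 := d6_1 D16 (iv5 D5) D3
def n17 : Q := act 6 n3
theorem D17 : act 6 n3 = n17 := rfl
theorem F17 : act 3 n17 = n6 := d7_1 D17 (iv6 D6) D3
def n18 : Q := act 0 n4
theorem D18 : act 0 n4 = n18 := rfl
theorem F18 : act 1 n4 = n18 := d15_0 (iv0 D18) (iv7 F12) F11
theorem F19 : act 5 n18 = n18 := d18_9 (iv1 F18) (iv4 D4) (iv1 F7) F3 F4 F3 F7 D4 F18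
def n19 : Q := act 3 n4
theorem D19 : act 3 n4 = n19 := rfl
def n20 : Q := act 5 n4
theorem D20 : act 5 n4 = n20 := rfl
theorem F20 : act 4 n20 = n5 := d17_4 D18 F19 (iv1 F18) D20 (iv5 D5) (iv0 D1) F4 F7 D4
def n21 : Q := act 6 n4
theorem D21 : act 6 n4 = n21 := rfl
theorem F21 : act 4 n21 = n6 := d10_1 D21 (iv6 D6) D4
def n22 : Q := act 0 n5
theorem D22 : act 0 n5 = n22 := rfl
theorem F22 : act 1 n5 = n22 := d15_0 (iv0 D22) (iv7 F14) F13
theorem F23 : act 4 n22 = n22 := d18_7 (iv1 F7) F3 D1 D4 D20 F20 F22 (iv0 D22) (iv5 D5)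
def n23 : Q := act 6 n5
theorem D23 : act 6 n5 = n23 := rfl
def n24 : Q := act 0 n6
theorem D24 : act 0 n6 = n24 := rfl
def n25 : Q := act 1 n6
theorem D25 : act 1 n6 = n25 := rfl
def n26 : Q := act 5 n6
theorem D26 : act 5 n6 = n26 := rfl
def n27 : Q := act 7 n6
theorem D27 : act 7 n6 = n27 := rfl
def n33 : Q := act 0 n8
theorem D33 : act 0 n8 = n33 := rfl
theorem F25 : act 1 n14 = n33 := d15_0 (iv0 D33) F10 D14
def n34 : Q := act 1 n8
theorem D34 : act 1 n8 = n34 := rfl
def n35 : Q := act 2 n8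
theorem D35 : act 2 n8 = n35 := rfl
theorem F26 : act 3 n35 = n14 := d0_2 D8 D35 (iv2 D14) (iv3 D3) D2
theorem F27 : act 7 n35 = n14 := d4_2 (iv7 F10) D35 (iv2 D14)
theorem F28 : act 1 n35 = n12 := d15_0 (iv0 D12) (iv7 F10) D35
theorem F29 : act 1 n34 = n14 := d15_1 D34 (iv7 F27) (iv2 D35)
theorem F30 : act 1 n13 = n35 := d15_1 D13 F27 (iv2 D14)
def n36 : Q := act 4 n8
theorem D36 : act 4 n8 = n36 := rfl
theorem F31 : act 7 n36 = n15 := d11_2 (iv7 F10) D36 (iv4 D15)
def n37 : Q := act 5 n8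
theorem D37 : act 5 n8 = n37 := rfl
theorem F33 : act 7 n37 = n16 := d13_2 (iv7 F10) D37 (iv5 D16)
def n38 : Q := act 6 n8
theorem D38 : act 6 n8 = n38 := rfl
def n39 : Q := act 0 n9
theorem D39 : act 0 n9 = n39 := rfl
theorem F35 : act 1 n9 = n39 := d15_0 (iv0 D39) F12 (iv2 F11)
def n40 : Q := act 3 n9
theorem D40 : act 3 n9 = n40 := rfl
theorem F36 : act 7 n40 = n19 := d8_2 (iv7 F12) D40 (iv3 D19)
def n41 : Q := act 5 n9
theorem D41 : act 5 n9 = n41 := rfl
theorem F37 : act 2 n41 = n20 := d2_1 D41 (iv5 D20) (iv2 F11)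
theorem F38 : act 7 n41 = n20 := d13_2 (iv7 F12) D41 (iv5 D20)
def n42 : Q := act 6 n9
theorem D42 : act 6 n9 = n42 := rfl
theorem F40 : act 2 n42 = n21 := d3_1 D42 (iv6 D21) (iv2 F11)
def n44 : Q := act 6 n10
theorem D44 : act 6 n10 = n44 := rfl
theorem F43 : act 2 n44 = n23 := d3_1 D44 (iv6 D23) (iv2 F13)
def n46 : Q := act 1 n11
theorem D46 : act 1 n11 = n46 := rfl
theorem F44 : act 1 n46 = n27 := d15_1 D46 (iv7 D27) (iv2 F15)
def n47 : Q := act 5 n11
theorem D47 : act 5 n11 = n47 := rfl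
theorem F45 : act 2 n47 = n26 := d2_1 D47 (iv5 D26) (iv2 F15)
def n48 : Q := act 7 n11
theorem D48 : act 7 n11 = n48 := rfl
theorem F46 : act 2 n48 = n27 := d4_1 D48 (iv7 D27) (iv2 F15)
theorem F47 : act 6 n48 = n27 := d14_1 D48 (iv7 D27) (iv6 D6) F8 D11
theorem F49 : act 1 n25 = n48 := d15_1 D25 (iv7 D48) F15
theorem F50 : act 1 n48 = n24 := d15_0 (iv0 D24) D27 (iv2 F46)
def n49 : Q := act 2 n12
theorem D49 : act 2 n12 = n49 := rfl
theorem F51 : act 7 n13 = n49 := d15_2 (iv0 D12) D13 (iv2 D49)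
def n50 : Q := act 3 n12
theorem D50 : act 3 n12 = n50 := rfl
def n51 : Q := act 4 n12
theorem D51 : act 4 n12 = n51 := rfl
def n52 : Q := act 5 n12
theorem D52 : act 5 n12 = n52 := rfl
def n53 : Q := act 6 n12
theorem D53 : act 6 n12 = n53 := rfl
def n54 : Q := act 7 n12
theorem D54 : act 7 n12 = n54 := rfl
theorem F52 : act 2 n54 = n13 := d4_1 D54 F51 (iv2 D49)
def n55 : Q := act 3 n13
theorem D55 : act 3 n13 = n55 := rfl
def n56 : Q := act 4 n13
theorem D56 : act 4 n13 = n56 := rfl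
def n57 : Q := act 5 n13
theorem D57 : act 5 n13 = n57 := rfl
def n58 : Q := act 6 n13
theorem D58 : act 6 n13 = n58 := rfl
def n59 : Q := act 4 n14
theorem D59 : act 4 n14 = n59 := rfl
theorem F53 : act 2 n59 = n15 := d1_1 D59 (iv4 D15) D14
def n60 : Q := act 5 n14
theorem D60 : act 5 n14 = n60 := rfl
theorem F54 : act 2 n60 = n16 := d2_1 D60 (iv5 D16) D14
def n61 : Q := act 6 n14
theorem D61 : act 6 n14 = n61 := rfl
theorem F55 : act 2 n61 = n17 := d3_1 D61 (iv6 D17) D14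
def n62 : Q := act 0 n15
theorem D62 : act 0 n15 = n62 := rfl
def n63 : Q := act 1 n15
theorem D63 : act 1 n15 = n63 := rfl
def n64 : Q := act 3 n15
theorem D64 : act 3 n15 = n64 := rfl
theorem F56 : act 4 n64 = n19 := d5_2 D15 D64 (iv3 D19) (iv4 D4) D3
def n65 : Q := act 5 n15
theorem D65 : act 5 n15 = n65 := rfl
def n66 : Q := act 6 n15
theorem D66 : act 6 n15 = n66 := rfl
theorem F57 : act 4 n66 = n17 := d10_1 D66 (iv6 D17) D15
def n67 : Q := act 0 n16
theorem D67 : act 0 n16 = n67 := rfl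
def n68 : Q := act 1 n16
theorem D68 : act 1 n16 = n68 := rfl
def n69 : Q := act 4 n16
theorem D69 : act 4 n16 = n69 := rfl
def n70 : Q := act 6 n16
theorem D70 : act 6 n16 = n70 := rfl
theorem F58 : act 3 n70 = n23 := d7_1 D70 (iv6 D23) (iv3 F16)
def n71 : Q := act 0 n17
theorem D71 : act 0 n17 = n71 := rfl
def n72 : Q := act 1 n17
theorem D72 : act 1 n17 = n72 := rfl
def n73 : Q := act 5 n17
theorem D73 : act 5 n17 = n73 := rfl
theorem F59 : act 3 n73 = n26 := d6_1 D73 (iv5 D26) (iv3 F17)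
def n74 : Q := act 7 n17
theorem D74 : act 7 n17 = n74 := rfl
theorem F60 : act 3 n74 = n27 := d8_1 D74 (iv7 D27) (iv3 F17)
def n75 : Q := act 2 n18
theorem D75 : act 2 n18 = n75 := rfl
theorem F62 : act 7 n18 = n75 := d15_2 (iv0 D18) F18 (iv2 D75)
def n76 : Q := act 3 n18
theorem D76 : act 3 n18 = n76 := rfl
theorem F63 : act 5 n76 = n76 := d6_2 F19 D76 (iv3 D76)
theorem F64 : act 4 n62 = n76 := d20_8 (iv4 D4) (iv1 F7) F3 F2 D1 D3 D15 D62 (iv3 D76) (iv1 F18)
theorem E1 : n57 = n13 := (c18_10 (iv1 D13) D15 D62 F64 F63 (iv4 F64) (iv0 D62) (iv4 D15) D13 D57)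
theorem F65 : act 5 n13 = n13 := (sb E1 (iv5 D57))
theorem F68 : act 5 n49 = n49 := d13_3 (iv7 F51) F65 F51
theorem E2 : n52 = n12 := (c2_3 F68 (iv2 D49) D52 D49)
theorem F69 : act 5 n12 = n12 := (sb E2 (iv5 D52))
def n77 : Q := act 4 n18
theorem D77 : act 4 n18 = n77 := rfl
def n78 : Q := act 6 n18
theorem D78 : act 6 n18 = n78 := rfl
def n79 : Q := act 0 n19
theorem D79 : act 0 n19 = n79 := rfl
theorem F72 : act 4 n79 = n63 := d20_0 (iv1 D63) (iv4 D15) (iv3 D3) (iv1 F7) F2 F3 D1 D4 D19 D79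
theorem F73 : act 3 n79 = n79 := d20_5 F3 D1 D4 D19 D79 F72 (iv1 D63) (iv4 D15) (iv3 D3) (iv1 F7)
def n80 : Q := act 1 n19
theorem D80 : act 1 n19 = n80 := rfl
theorem F74 : act 3 n77 = n80 := d20_3 D4 D18 D77 (iv1 D80) (iv3 D19) (iv4 D4) (iv1 F7) F3 F2 D1
def n81 : Q := act 2 n19
theorem D81 : act 2 n19 = n81 := rfl
def n82 : Q := act 5 n19
theorem D82 : act 5 n19 = n82 := rfl
theorem F76 : act 3 n82 = n20 := d6_1 D82 (iv5 D20) D19
def n83 : Q := act 6 n19
theorem D83 : act 6 n19 = n83 := rfl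
theorem F77 : act 3 n83 = n21 := d7_1 D83 (iv6 D21) D19
def n84 : Q := act 0 n20
theorem D84 : act 0 n20 = n84 := rfl
theorem F78 : act 1 n20 = n84 := d15_0 (iv0 D84) (iv7 F38) F37
def n85 : Q := act 6 n20
theorem D85 : act 6 n20 = n85 := rfl
theorem F79 : act 4 n85 = n23 := d10_1 D85 (iv6 D23) (iv4 F20)
def n86 : Q := act 0 n21
theorem D86 : act 0 n21 = n86 := rfl
def n87 : Q := act 1 n21
theorem D87 : act 1 n21 = n87 := rfl
def n88 : Q := act 5 n21
theorem D88 : act 5 n21 = n88 := rfl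
def n89 : Q := act 7 n21
theorem D89 : act 7 n21 = n89 := rfl
theorem F80 : act 4 n89 = n27 := d11_1 D89 (iv7 D27) (iv4 F21)
def n90 : Q := act 2 n22
theorem D90 : act 2 n22 = n90 := rfl
theorem F82 : act 7 n22 = n90 := d15_2 (iv0 D22) F22 (iv2 D90)
def n91 : Q := act 3 n22
theorem D91 : act 3 n22 = n91 := rfl
def n92 : Q := act 5 n22
theorem D92 : act 5 n22 = n92 := rfl
theorem F83 : act 4 n92 = n92 := d17_4 D1 D5 D22 D92 (iv5 D92) (iv0 D22) (iv5 D5) (iv0 D1) F3
def n93 : Q := act 6 n22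
theorem D93 : act 6 n22 = n93 := rfl
theorem F84 : act 4 n93 = n93 := d10_1 D93 (iv6 D93) F23
def n94 : Q := act 0 n23
theorem D94 : act 0 n23 = n94 := rfl
def n95 : Q := act 1 n23
theorem D95 : act 1 n23 = n95 := rfl
theorem F85 : act 6 n92 = n95 := d21_3 D5 D22 D92 (iv1 D95) (iv6 D23) (iv5 D5) (iv1 F7) F4 F6 D1
def n96 : Q := act 5 n23
theorem D96 : act 5 n23 = n96 := rfl
theorem F87 : act 6 n96 = n26 := d12_2 D23 D96 (iv5 D26) (iv6 D6) D5
def n97 : Q := act 7 n23
theorem D97 : act 7 n23 = n97 := rfl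
def n98 : Q := act 2 n24
theorem D98 : act 2 n24 = n98 := rfl
theorem F88 : act 7 n25 = n98 := d15_2 (iv0 D24) D25 (iv2 D98)
def n99 : Q := act 3 n24
theorem D99 : act 3 n24 = n99 := rfl
def n100 : Q := act 4 n24
theorem D100 : act 4 n24 = n100 := rfl
def n101 : Q := act 5 n24
theorem D101 : act 5 n24 = n101 := rfl
def n102 : Q := act 6 n24
theorem D102 : act 6 n24 = n102 := rfl
def n103 : Q := act 7 n24
theorem D103 : act 7 n24 = n103 := rfl
theorem F89 : act 2 n103 = n25 := d4_1 D103 F88 (iv2 D98)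
def n104 : Q := act 3 n25
theorem D104 : act 3 n25 = n104 := rfl
def n105 : Q := act 4 n25
theorem D105 : act 4 n25 = n105 := rfl
def n106 : Q := act 5 n25
theorem D106 : act 5 n25 = n106 := rfl
def n107 : Q := act 6 n25
theorem D107 : act 6 n25 = n107 := rfl
def n108 : Q := act 0 n26
theorem D108 : act 0 n26 = n108 := rfl
theorem F90 : act 5 n108 = n93 := d21_8 (iv5 D5) (iv1 F7) F4 F6 D1 D6 D26 D108 (iv6 D93) (iv1 F22)
theorem E3 : n105 = n25 := (c17_10 (iv1 D25) D26 D108 F90 F84 (iv5 F90) (iv0 D108) (iv5 D26) D25 D105)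
theorem F91 : act 4 n25 = n25 := (sb E3 (iv4 D105))
theorem F94 : act 4 n98 = n98 := d11_3 (iv7 F88) F91 F88
theorem E4 : n100 = n24 := (c1_3 F94 (iv2 D98) D100 D98)
theorem F95 : act 4 n24 = n24 := (sb E4 (iv4 D100))
def n109 : Q := act 1 n26
theorem D109 : act 1 n26 = n109 := rfl
theorem F97 : act 5 n94 = n109 := d21_0 (iv1 D109) (iv5 D26) (iv6 D6) (iv1 F7) F6 F4 D1 D5 D23 D94
theorem F98 : act 6 n94 = n94 := d21_5 F4 D1 D5 D23 D94 F97 (iv1 D109) (iv5 D26) (iv6 D6) (iv1 F7)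
def n110 : Q := act 4 n26
theorem D110 : act 4 n26 = n110 := rfl
def n111 : Q := act 7 n26
theorem D111 : act 7 n26 = n111 := rfl
theorem F99 : act 5 n111 = n27 := d13_1 D111 (iv7 D27) D26
def n134 : Q := act 2 n33
theorem D134 : act 2 n33 = n134 := rfl
theorem F112 : act 7 n34 = n134 := d15_2 (iv0 D33) D34 (iv2 D134)
def n135 : Q := act 3 n33
theorem D135 : act 3 n33 = n135 := rfl
def n140 : Q := act 3 n34
theorem D140 : act 3 n34 = n140 := rfl
def n141 : Q := act 4 n34
theorem D141 : act 4 n34 = n141 := rfl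
def n144 : Q := act 4 n35
theorem D144 : act 4 n35 = n144 := rfl
theorem F114 : act 2 n144 = n36 := d1_1 D144 (iv4 D36) D35
theorem F115 : act 7 n144 = n59 := d11_2 (iv7 F27) D144 (iv4 D59)
theorem F116 : act 1 n63 = n144 := d15_1 D63 F115 F53
theorem F117 : act 5 n79 = n79 := d18_4 (iv1 F28) D144 (iv1 F116) (iv4 F72) F72 F116 (iv4 D144) F28 F69
theorem F118 : act 1 n144 = n62 := d15_0 (iv0 D62) (iv7 F31) (iv2 F114)
theorem F119 : act 0 n141 = n64 := d20_1 D141 F56 (iv3 D19) D18 D76 (iv4 F64) (iv1 F118) (iv4 D144) F26 (iv1 F29)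
def n145 : Q := act 5 n35
theorem D145 : act 5 n35 = n145 := rfl
theorem F120 : act 2 n145 = n37 := d2_1 D145 (iv5 D37) D35
theorem F121 : act 3 n145 = n60 := d6_1 D145 (iv5 D60) (iv3 F26)
theorem F122 : act 7 n145 = n60 := d13_2 (iv7 F27) D145 (iv5 D60)
def n146 : Q := act 6 n35
theorem D146 : act 6 n35 = n146 := rfl
theorem F126 : act 3 n146 = n61 := d7_1 D146 (iv6 D61) (iv3 F26)
def n147 : Q := act 0 n36
theorem D147 : act 0 n36 = n147 := rfl
theorem F127 : act 1 n59 = n147 := d15_0 (iv0 D147) F31 (iv2 F53)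
def n149 : Q := act 3 n36
theorem D149 : act 3 n36 = n149 := rfl
theorem F129 : act 4 n149 = n40 := d5_2 D36 D149 (iv3 D40) (iv4 D9) D8
theorem F130 : act 7 n149 = n64 := d8_2 (iv7 F31) D149 (iv3 D64)
def n150 : Q := act 5 n36
theorem D150 : act 5 n36 = n150 := rfl
theorem F131 : act 7 n150 = n65 := d13_2 (iv7 F31) D150 (iv5 D65)
def n152 : Q := act 0 n37
theorem D152 : act 0 n37 = n152 := rfl
theorem F133 : act 1 n60 = n152 := d15_0 (iv0 D152) F33 (iv2 F54)
def n153 : Q := act 1 n37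
theorem D153 : act 1 n37 = n153 := rfl
theorem F134 : act 1 n153 = n60 := d15_1 D153 (iv7 F122) F120
def n154 : Q := act 4 n37
theorem D154 : act 4 n37 = n154 := rfl
theorem F135 : act 7 n154 = n69 := d11_2 (iv7 F33) D154 (iv4 D69)
def n159 : Q := act 7 n38
theorem D159 : act 7 n38 = n159 := rfl
theorem F139 : act 6 n159 = n74 := d14_1 D159 (iv7 D74) (iv6 D17) (iv7 F10) D38
def n161 : Q := act 3 n39
theorem D161 : act 3 n39 = n161 := rfl
def n167 : Q := act 2 n40
theorem D167 : act 2 n40 = n167 := rfl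
theorem F142 : act 3 n167 = n81 := d0_2 D40 D167 (iv2 D81) (iv3 D19) (iv2 F11)
theorem F143 : act 7 n167 = n81 := d4_2 (iv7 F36) D167 (iv2 D81)
theorem F144 : act 1 n167 = n79 := d15_0 (iv0 D79) (iv7 F36) D167
theorem F146 : act 1 n80 = n167 := d15_1 D80 F143 (iv2 D81)
def n168 : Q := act 5 n40
theorem D168 : act 5 n40 = n168 := rfl
theorem F148 : act 7 n168 = n82 := d13_2 (iv7 F36) D168 (iv5 D82)
def n171 : Q := act 6 n41
theorem D171 : act 6 n41 = n171 := rfl
theorem F151 : act 2 n171 = n85 := d3_1 D171 (iv6 D85) (iv2 F37)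
def n174 : Q := act 5 n42
theorem D174 : act 5 n42 = n174 := rfl
theorem F154 : act 2 n174 = n88 := d2_1 D174 (iv5 D88) (iv2 F40)
def n175 : Q := act 7 n42
theorem D175 : act 7 n42 = n175 := rfl
theorem F155 : act 2 n175 = n89 := d4_1 D175 (iv7 D89) (iv2 F40)
theorem F157 : act 6 n175 = n89 := d14_1 D175 (iv7 D89) (iv6 D21) (iv7 F12) D42
theorem F159 : act 1 n87 = n175 := d15_1 D87 (iv7 D175) F40
theorem F160 : act 1 n175 = n86 := d15_0 (iv0 D86) D89 (iv2 F155)
def n183 : Q := act 5 n44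
theorem D183 : act 5 n44 = n183 := rfl
theorem F163 : act 2 n183 = n96 := d2_1 D183 (iv5 D96) (iv2 F43)
def n184 : Q := act 7 n44
theorem D184 : act 7 n44 = n184 := rfl
theorem F165 : act 2 n184 = n97 := d4_1 D184 (iv7 D97) (iv2 F43)
theorem F166 : act 6 n184 = n97 := d14_1 D184 (iv7 D97) (iv6 D23) (iv7 F14) D44
theorem F168 : act 1 n95 = n184 := d15_1 D95 (iv7 D184) F43
theorem F169 : act 1 n184 = n94 := d15_0 (iv0 D94) D97 (iv2 F165)
def n193 : Q := act 5 n46
theorem D193 : act 5 n46 = n193 := rfl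
def n197 : Q := act 4 n47
theorem D197 : act 4 n47 = n197 := rfl
theorem F173 : act 2 n197 = n110 := d1_1 D197 (iv4 D110) (iv2 F45)
def n198 : Q := act 7 n47
theorem D198 : act 7 n47 = n198 := rfl
theorem F174 : act 2 n198 = n111 := d4_1 D198 (iv7 D111) (iv2 F45)
theorem F175 : act 5 n198 = n48 := d13_1 D198 (iv7 D48) D47
theorem F177 : act 1 n109 = n198 := d15_1 D109 (iv7 D198) F45
theorem F178 : act 4 n94 = n94 := d17_4 (iv1 F50) (iv5 F175) (iv1 F177) (iv5 F97) F97 F177 F175 F50 F95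
theorem F179 : act 1 n198 = n108 := d15_0 (iv0 D108) D111 (iv2 F174)
theorem F180 : act 0 n193 = n96 := d21_1 D193 (iv5 D96) (iv6 D23) D22 D93 (iv5 F90) (iv1 F179) F175 F47 (iv1 F44)
def n201 : Q := act 3 n49
theorem D201 : act 3 n49 = n201 := rfl
theorem F184 : act 7 n201 = n55 := d8_2 F51 D201 (iv3 D55)
def n202 : Q := act 4 n49
theorem D202 : act 4 n49 = n202 := rfl
theorem F185 : act 2 n202 = n51 := d1_1 D202 (iv4 D51) D49
theorem F186 : act 7 n202 = n56 := d11_2 F51 D202 (iv4 D56)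
def n203 : Q := act 6 n49
theorem D203 : act 6 n49 = n203 := rfl
theorem F187 : act 2 n203 = n53 := d3_1 D203 (iv6 D53) D49
def n204 : Q := act 0 n50
theorem D204 : act 0 n50 = n204 := rfl
def n207 : Q := act 4 n50
theorem D207 : act 4 n50 = n207 := rfl
def n209 : Q := act 7 n50
theorem D209 : act 7 n50 = n209 := rfl
theorem F190 : act 3 n209 = n54 := d8_1 D209 (iv7 D54) D50
def n210 : Q := act 0 n51
theorem D210 : act 0 n51 = n210 := rfl
theorem F192 : act 4 n210 = n81 := d20_2 D51 D210 (iv3 F142) (iv1 F146) (iv3 F74) (iv4 D77) (iv1 F18) (iv4 D4) D3 D12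
theorem F193 : act 2 n64 = n210 := d1_3 F192 (iv2 D81) (iv4 F56)
theorem F194 : act 0 n210 = n207 := d20_7 D144 (iv1 F116) (iv4 F72) F73 (iv1 F144) F142 (iv4 F192) (iv4 D207) (iv3 D50) (iv1 F28)
theorem F196 : act 1 n51 = n149 := d15_1 (iv0 D210) F130 F193
theorem F197 : act 1 n149 = n56 := d15_1 F196 (iv7 F186) F185
theorem F199 : act 4 n161 = n147 := d20_6 D56 (iv1 F197) F129 (iv3 D40) D39 D161 (iv1 F127) (iv4 D59) (iv3 F26) (iv1 F30)
theorem E5 : n204 = n8 := (c20_11 D36 D147 (iv4 F199) (iv3 D161) (iv1 F35) D40 (iv4 F129) (iv1 F196) (iv4 D51) D50 D204)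
theorem E6 : n50 = n34 := (((D34).symm.trans (sb E5 (iv0 D204)))).symm
theorem E9 : n140 = n12 := ((D140).symm.trans (sb E6 (iv3 D50)))
theorem E10 : n207 = n141 := (((D141).symm.trans (sb E6 D207))).symm
theorem E13 : n209 = n134 := (((F112).symm.trans (sb E6 D209))).symm
theorem F201 : act 3 n12 = n34 := (sb E9 (iv3 D140))
theorem F202 : act 1 n141 = n210 := (sb E10 (iv0 F194))
theorem F205 : act 3 n134 = n54 := (sb E13 F190)
theorem F255 : act 2 n55 = n135 := d0_3 F205 F52 D55 (iv3 D135) D134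
theorem F256 : act 7 n210 = n210 := d15_2 (iv0 F119) F202 (iv2 F193)
theorem E40 : n149 = n64 := (c4_3 F256 (iv2 F193) (iv7 F130) F193)
theorem F257 : act 0 n64 = n51 := (sb E40 (iv1 F196))
theorem E41 : n141 = n56 := (((iv0 F119)).symm.trans (sb E40 F197))
theorem E42 : n36 = n15 := ((((iv3 D64)).symm.trans (sb E40 (iv3 D149)))).symm
theorem E43 : n40 = n19 := (((F56).symm.trans (sb E40 F129))).symm
theorem F258 : act 7 n64 = n64 := (sb E40 F130)
theorem F259 : act 0 n56 = n64 := (sb E41 F119)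
theorem F260 : act 1 n56 = n210 := (sb E41 F202)
theorem E44 : n34 = n13 := ((((iv4 D56)).symm.trans (sb E41 (iv4 D141)))).symm
theorem E47 : n144 = n59 := ((((iv2 F53)).symm.trans (sb E42 (iv2 F114)))).symm
theorem E48 : n8 = n3 := ((((iv4 D15)).symm.trans (sb E42 (iv4 D36)))).symm
theorem E49 : n150 = n65 := (((D65).symm.trans (sb E42 D150))).symm
theorem F261 : act 7 n15 = n15 := (sb E42 F31)
theorem E53 : n167 = n81 := (((D81).symm.trans (sb E43 D167))).symm
theorem E54 : n9 = n4 := ((((iv3 D19)).symm.trans (sb E43 (iv3 D40)))).symm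
theorem E55 : n168 = n82 := (((D82).symm.trans (sb E43 D168))).symm
theorem F262 : act 7 n19 = n19 := (sb E43 F36)
theorem E57 : n35 = n14 := ((F30).symm.trans (sb E44 F29))
theorem E59 : n55 = n12 := ((D55).symm.trans (sb E44 (iv3 F201)))
theorem F263 : act 0 n59 = n63 := (sb E47 (iv1 F116))
theorem F264 : act 1 n59 = n62 := (sb E47 F118)
theorem F265 : act 7 n59 = n59 := (sb E47 F115)
theorem E63 : n33 = n12 := (((D12).symm.trans (sb E48 D33))).symm
theorem E64 : n2 = n1 := ((((iv3 D3)).symm.trans (sb E48 (iv3 D8)))).symm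
theorem E65 : n37 = n16 := (((D16).symm.trans (sb E48 D37))).symm
theorem E66 : n38 = n17 := (((D17).symm.trans (sb E48 D38))).symm
theorem F266 : act 7 n3 = n3 := (sb E48 F10)
theorem F267 : act 7 n65 = n65 := (sb E49 F131)
theorem F268 : act 0 n81 = n80 := (sb E53 (iv1 F146))
theorem F269 : act 1 n81 = n79 := (sb E53 F144)
theorem F270 : act 3 n81 = n81 := (sb E53 F142)
theorem F271 : act 7 n81 = n81 := (sb E53 F143)
theorem F272 : act 2 n4 = n4 := (sb E54 F11)
theorem E69 : n41 = n20 := (((D20).symm.trans (sb E54 D41))).symm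
theorem E70 : n42 = n21 := (((D21).symm.trans (sb E54 D42))).symm
theorem F273 : act 7 n4 = n4 := (sb E54 F12)
theorem F274 : act 7 n82 = n82 := (sb E55 F148)
theorem F275 : act 0 n14 = n13 := (sb E57 (iv1 F30))
theorem F276 : act 3 n14 = n14 := (sb E57 F26)
theorem E71 : n145 = n60 := (((D60).symm.trans (sb E57 D145))).symm
theorem E72 : n146 = n61 := (((D61).symm.trans (sb E57 D146))).symm
theorem F277 : act 7 n14 = n14 := (sb E57 F27)
theorem E73 : n135 = n49 := (((D49).symm.trans (sb E59 F255))).symm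
theorem F278 : act 3 n12 = n13 := (sb E59 (iv3 D55))
theorem E74 : n201 = n54 := (((D54).symm.trans (sb E59 (iv7 F184)))).symm
theorem F280 : act 0 n12 = n14 := (sb E63 (iv1 F25))
theorem E75 : n49 = n13 := (((F278).symm.trans (sb E63 (tr D135 E73)))).symm
theorem F281 : act 2 n1 = n1 := (sb E64 (iv2 D2))
theorem E79 : n10 = n5 := (((D5).symm.trans (sb E64 D10))).symm
theorem E80 : n11 = n6 := (((D6).symm.trans (sb E64 D11))).symm
theorem F282 : act 7 n1 = n1 := (sb E64 (iv7 F8))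
theorem E81 : n152 = n67 := (((D67).symm.trans (sb E65 D152))).symm
theorem E82 : n153 = n68 := (((D68).symm.trans (sb E65 D153))).symm
theorem E83 : n154 = n69 := (((D69).symm.trans (sb E65 D154))).symm
theorem F283 : act 7 n16 = n16 := (sb E65 F33)
theorem E88 : n159 = n74 := (((D74).symm.trans (sb E66 D159))).symm
theorem F284 : act 2 n20 = n20 := (sb E69 F37)
theorem E92 : n171 = n85 := (((D85).symm.trans (sb E69 D171))).symm
theorem F285 : act 7 n20 = n20 := (sb E69 F38)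
theorem F286 : act 2 n21 = n21 := (sb E70 F40)
theorem E95 : n174 = n88 := (((D88).symm.trans (sb E70 D174))).symm
theorem E96 : n175 = n89 := (((D89).symm.trans (sb E70 D175))).symm
theorem F287 : act 3 n60 = n60 := (sb E71 F121)
theorem F288 : act 7 n60 = n60 := (sb E71 F122)
theorem F289 : act 3 n61 = n61 := (sb E72 F126)
theorem E98 : n54 = n12 := ((((iv3 F278)).symm.trans (iv3 (sb E74 (tr (iv3 D201) E75))))).symm
theorem E102 : n202 = n56 := (((D56).symm.trans (sb E75 D202))).symm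
theorem E103 : n203 = n58 := (((D58).symm.trans (sb E75 D203))).symm
theorem F290 : act 7 n13 = n13 := (sb E75 (iv7 F51))
theorem F291 : act 2 n5 = n5 := (sb E79 F13)
theorem E106 : n44 = n23 := (((D23).symm.trans (sb E79 D44))).symm
theorem F292 : act 7 n5 = n5 := (sb E79 F14)
theorem E108 : n46 = n25 := (((D25).symm.trans (sb E80 D46))).symm
theorem F293 : act 2 n6 = n6 := (sb E80 F15)
theorem E109 : n47 = n26 := (((D26).symm.trans (sb E80 D47))).symm
theorem E110 : n48 = n27 := (((D27).symm.trans (sb E80 D48))).symm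
theorem F294 : act 0 n67 = n60 := (sb E81 (iv1 F133))
theorem F295 : act 1 n68 = n60 := (sb E82 F134)
theorem F296 : act 7 n69 = n69 := (sb E83 F135)
theorem F297 : act 6 n74 = n74 := (sb E88 F139)
theorem F298 : act 2 n85 = n85 := (sb E92 F151)
theorem F299 : act 2 n88 = n88 := (sb E95 F154)
theorem F300 : act 0 n89 = n87 := (sb E96 (iv1 F159))
theorem F301 : act 1 n89 = n86 := (sb E96 F160)
theorem F302 : act 2 n89 = n89 := (sb E96 F155)
theorem F303 : act 6 n89 = n89 := (sb E96 F157)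
theorem F304 : act 2 n12 = n13 := (sb E98 F52)
theorem F305 : act 7 n12 = n12 := (sb E98 (iv7 D54))
theorem F306 : act 2 n56 = n51 := (sb E102 F185)
theorem F307 : act 7 n56 = n56 := (sb E102 F186)
theorem F308 : act 2 n58 = n53 := (sb E103 F187)
theorem F309 : act 2 n23 = n23 := (sb E106 F43)
theorem E121 : n183 = n96 := (((D96).symm.trans (sb E106 D183))).symm
theorem E122 : n184 = n97 := (((D97).symm.trans (sb E106 D184))).symm
theorem E131 : n193 = n106 := (((D106).symm.trans (sb E108 D193))).symm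
theorem F310 : act 2 n26 = n26 := (sb E109 F45)
theorem E135 : n197 = n110 := (((D110).symm.trans (sb E109 D197))).symm
theorem E136 : n198 = n111 := (((D111).symm.trans (sb E109 D198))).symm
theorem F311 : act 0 n27 = n25 := (sb E110 (iv1 F49))
theorem F312 : act 1 n27 = n24 := (sb E110 F50)
theorem F313 : act 2 n27 = n27 := (sb E110 F46)
theorem F314 : act 6 n27 = n27 := (sb E110 F47)
theorem F315 : act 2 n96 = n96 := (sb E121 F163)
theorem F316 : act 0 n97 = n95 := (sb E122 (iv1 F168))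
theorem F317 : act 1 n97 = n94 := (sb E122 F169)
theorem F318 : act 2 n97 = n97 := (sb E122 F165)
theorem F319 : act 6 n97 = n97 := (sb E122 F166)
theorem F320 : act 0 n106 = n96 := (sb E131 F180)
theorem F321 : act 2 n110 = n110 := (sb E135 F173)
theorem F322 : act 0 n111 = n109 := (sb E136 (iv1 F177))
theorem F323 : act 1 n111 = n108 := (sb E136 F179)
theorem F324 : act 2 n111 = n111 := (sb E136 F174)
theorem F325 : act 7 n51 = n51 := d4_2 F307 F306 (iv2 F306)
theorem E137 : n77 = n18 := (c20_1 D77 (iv1 F18) (iv4 D4) D3 D12 F278 D56 F259 F56 (iv3 D19) D18)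
theorem E138 : n80 = n76 := (((D76).symm.trans (sb E137 F74))).symm
theorem F326 : act 4 n18 = n18 := (sb E137 (iv4 D77))
theorem F327 : act 0 n76 = n19 := (sb E138 (iv1 D80))
theorem F328 : act 1 n76 = n81 := (sb E138 (iv0 F268))
theorem F329 : act 3 n62 = n62 := d20_5 F64 F327 (iv4 F56) (iv3 D64) D62 F64 F327 (iv4 F56) (iv3 D64) D62
theorem F332 : act 4 n84 = n84 := d17_9 (iv1 F78) (iv5 D20) D18 F19 F326 F19 (iv0 D18) D20 F78
def n211 : Q := act 3 n51
theorem D211 : act 3 n51 = n211 := rfl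
theorem F333 : act 7 n211 = n211 := d8_2 F325 D211 (iv3 D211)
def n212 : Q := act 5 n51
theorem D212 : act 5 n51 = n212 := rfl
theorem F334 : act 7 n212 = n212 := d13_2 F325 D212 (iv5 D212)
def n213 : Q := act 6 n51
theorem D213 : act 6 n51 = n213 := rfl
theorem F335 : act 4 n213 = n53 := d10_1 D213 (iv6 D53) D51
def n216 : Q := act 5 n53
theorem D216 : act 5 n53 = n216 := rfl
def n217 : Q := act 7 n53
theorem D217 : act 7 n53 = n217 := rfl
theorem F337 : act 6 n217 = n217 := d14_1 D217 (iv7 D217) (iv6 D53) F305 D53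
def n218 : Q := act 3 n56
theorem D218 : act 3 n56 = n218 := rfl
theorem F338 : act 4 n218 = n211 := d5_2 D56 D218 (iv3 D211) (iv4 D51) F278
theorem F339 : act 7 n218 = n218 := d8_2 F307 D218 (iv3 D218)
def n219 : Q := act 5 n56
theorem D219 : act 5 n56 = n219 := rfl
theorem F340 : act 2 n219 = n212 := d2_1 D219 (iv5 D212) (iv2 F306)
theorem F341 : act 7 n219 = n219 := d13_2 F307 D219 (iv5 D219)
def n220 : Q := act 6 n56
theorem D220 : act 6 n56 = n220 := rfl
def n223 : Q := act 5 n58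
theorem D223 : act 5 n58 = n223 := rfl
theorem F345 : act 2 n223 = n216 := d2_1 D223 (iv5 D216) (iv2 F308)
theorem F347 : act 6 n223 = n223 := d12_2 D58 D223 (iv5 D223) (iv6 D58) F65
def n225 : Q := act 3 n59
theorem D225 : act 3 n59 = n225 := rfl
theorem F354 : act 4 n225 = n225 := d5_2 D59 D225 (iv3 D225) (iv4 D59) F276
theorem F355 : act 7 n225 = n225 := d8_2 F265 D225 (iv3 D225)
theorem F356 : act 0 n225 = n218 := d20_4 (iv4 D51) F280 D59 D225 (iv3 D218) (iv4 D56) (iv1 D13) D15 D64 F257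
def n226 : Q := act 5 n59
theorem D226 : act 5 n59 = n226 := rfl
theorem F357 : act 2 n226 = n65 := d2_1 D226 (iv5 D65) (iv2 F53)
theorem F358 : act 7 n226 = n226 := d13_2 F265 D226 (iv5 D226)
def n227 : Q := act 6 n59
theorem D227 : act 6 n59 = n227 := rfl
theorem F359 : act 2 n227 = n66 := d3_1 D227 (iv6 D66) (iv2 F53)
theorem F360 : act 4 n227 = n61 := d10_1 D227 (iv6 D61) D59
def n228 : Q := act 4 n60
theorem D228 : act 4 n60 = n228 := rfl
theorem F361 : act 2 n228 = n69 := d1_1 D228 (iv4 D69) (iv2 F54)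
theorem F362 : act 7 n228 = n228 := d11_2 F288 D228 (iv4 D228)
def n229 : Q := act 6 n60
theorem D229 : act 6 n60 = n229 := rfl
theorem F363 : act 2 n229 = n70 := d3_1 D229 (iv6 D70) (iv2 F54)
theorem F364 : act 3 n229 = n229 := d7_1 D229 (iv6 D229) F287
def n230 : Q := act 0 n61
theorem D230 : act 0 n61 = n230 := rfl
def n231 : Q := act 1 n61
theorem D231 : act 1 n61 = n231 := rfl
theorem F365 : act 1 n231 = n74 := d15_1 D231 (iv7 D74) (iv2 F55)
def n232 : Q := act 5 n61
theorem D232 : act 5 n61 = n232 := rfl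
theorem F366 : act 2 n232 = n73 := d2_1 D232 (iv5 D73) (iv2 F55)
theorem F367 : act 3 n232 = n232 := d6_1 D232 (iv5 D232) F289
def n233 : Q := act 7 n61
theorem D233 : act 7 n61 = n233 := rfl
theorem F368 : act 2 n233 = n74 := d4_1 D233 (iv7 D74) (iv2 F55)
theorem F369 : act 3 n233 = n233 := d8_1 D233 (iv7 D233) F289
theorem F370 : act 6 n233 = n233 := d14_1 D233 (iv7 D233) (iv6 D61) F277 D61
theorem F371 : act 1 n74 = n230 := d15_0 (iv0 D230) D233 F368
theorem F372 : act 1 n72 = n233 := d15_1 D72 (iv7 D233) F55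
theorem F373 : act 1 n233 = n71 := d15_0 (iv0 D71) D74 (iv2 F368)
def n234 : Q := act 2 n62
theorem D234 : act 2 n62 = n234 := rfl
theorem F374 : act 7 n63 = n234 := d15_2 (iv0 D62) D63 (iv2 D234)
def n235 : Q := act 5 n62
theorem D235 : act 5 n62 = n235 := rfl
theorem F375 : act 3 n235 = n235 := d6_1 D235 (iv5 D235) F329
def n236 : Q := act 6 n62
theorem D236 : act 6 n62 = n236 := rfl
def n237 : Q := act 7 n62
theorem D237 : act 7 n62 = n237 := rfl
theorem F377 : act 2 n237 = n63 := d4_1 D237 F374 (iv2 D234)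
theorem F378 : act 3 n237 = n237 := d8_1 D237 (iv7 D237) F329
def n238 : Q := act 3 n63
theorem D238 : act 3 n63 = n238 := rfl
theorem F379 : act 2 n238 = n238 := d0_1 D238 (iv3 D238) (iv2 F377) F378 F377
theorem F380 : act 4 n238 = n238 := d5_2 F72 D238 (iv3 D238) (iv4 F72) F73
def n239 : Q := act 5 n63
theorem D239 : act 5 n63 = n239 := rfl
def n240 : Q := act 6 n63
theorem D240 : act 6 n63 = n240 := rfl
def n241 : Q := act 5 n64
theorem D241 : act 5 n64 = n241 := rfl
theorem F381 : act 3 n241 = n65 := d6_1 D241 (iv5 D65) D64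
theorem F382 : act 7 n241 = n241 := d13_2 F258 D241 (iv5 D241)
def n242 : Q := act 6 n64
theorem D242 : act 6 n64 = n242 := rfl
theorem F383 : act 3 n242 = n66 := d7_1 D242 (iv6 D66) D64
theorem F384 : act 4 n242 = n83 := d10_1 D242 (iv6 D83) (iv4 F56)
def n243 : Q := act 0 n65
theorem D243 : act 0 n65 = n243 := rfl
theorem F385 : act 1 n226 = n243 := d15_0 (iv0 D243) F267 (iv2 F357)
def n244 : Q := act 1 n65
theorem D244 : act 1 n65 = n244 := rfl
theorem F386 : act 1 n244 = n226 := d15_1 D244 F358 F357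
def n245 : Q := act 4 n65
theorem D245 : act 4 n65 = n245 := rfl
theorem F387 : act 7 n245 = n245 := d11_2 F267 D245 (iv4 D245)
def n246 : Q := act 6 n65
theorem D246 : act 6 n65 = n246 := rfl
def n247 : Q := act 0 n66
theorem D247 : act 0 n66 = n247 := rfl
def n248 : Q := act 1 n66
theorem D248 : act 1 n66 = n248 := rfl
def n249 : Q := act 5 n66
theorem D249 : act 5 n66 = n249 := rfl
def n250 : Q := act 7 n66
theorem D250 : act 7 n66 = n250 := rfl
theorem F388 : act 4 n250 = n74 := d11_1 D250 (iv7 D74) (iv4 F57)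
theorem F389 : act 6 n250 = n250 := d14_1 D250 (iv7 D250) (iv6 D66) F261 D66
def n251 : Q := act 2 n67
theorem D251 : act 2 n67 = n251 := rfl
theorem F390 : act 7 n68 = n251 := d15_2 (iv0 D67) D68 (iv2 D251)
def n252 : Q := act 3 n67
theorem D252 : act 3 n67 = n252 := rfl
def n253 : Q := act 4 n67
theorem D253 : act 4 n67 = n253 := rfl
def n254 : Q := act 5 n67
theorem D254 : act 5 n67 = n254 := rfl
def n255 : Q := act 6 n67
theorem D255 : act 6 n67 = n255 := rfl
def n256 : Q := act 7 n67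
theorem D256 : act 7 n67 = n256 := rfl
theorem F391 : act 2 n256 = n68 := d4_1 D256 F390 (iv2 D251)
def n257 : Q := act 3 n68
theorem D257 : act 3 n68 = n257 := rfl
def n258 : Q := act 4 n68
theorem D258 : act 4 n68 = n258 := rfl
def n259 : Q := act 5 n68
theorem D259 : act 5 n68 = n259 := rfl
def n260 : Q := act 6 n68
theorem D260 : act 6 n68 = n260 := rfl
def n261 : Q := act 0 n69
theorem D261 : act 0 n69 = n261 := rfl
theorem F392 : act 1 n228 = n261 := d15_0 (iv0 D261) F296 (iv2 F361)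
def n262 : Q := act 1 n69
theorem D262 : act 1 n69 = n262 := rfl
theorem F393 : act 1 n262 = n228 := d15_1 D262 F362 F361
def n263 : Q := act 3 n69
theorem D263 : act 3 n69 = n263 := rfl
theorem F394 : act 4 n263 = n82 := d5_2 D69 D263 F76 F20 (iv3 F16)
theorem F395 : act 7 n263 = n263 := d8_2 F296 D263 (iv3 D263)
theorem F396 : act 0 n258 = n263 := d18_2 (iv1 F295) D258 F394 (iv5 D82) (iv4 F56) (iv0 F259) (iv4 D56) (iv0 F275) D60
theorem E139 : n252 = n68 := (c20_6 F332 (iv1 F78) F20 (iv3 F16) D67 D252 D258 F396 F394 F76 D84)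
theorem E140 : n257 = n67 := ((D257).symm.trans (sb E139 (iv3 D252)))
theorem F397 : act 3 n67 = n68 := (sb E140 (iv3 D257))
theorem F399 : act 3 n260 = n255 := d7_3 (iv6 D255) F397 D260
theorem F400 : act 3 n251 = n256 := d8_3 (iv7 D256) F397 F390
theorem E141 : n251 = n68 := (c0_6 (iv3 F397) D251 F400 F391 (iv3 F397) D251)
theorem E142 : n256 = n67 := (((iv2 F391)).symm.trans (sb E141 (iv2 D251)))
theorem F401 : act 7 n68 = n68 := (sb E141 (iv7 F390))
theorem F402 : act 2 n67 = n68 := (sb E142 F391)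
theorem F403 : act 7 n67 = n67 := (sb E142 (iv7 D256))
theorem F404 : act 7 n253 = n253 := d11_2 F403 D253 (iv4 D253)
theorem F407 : act 2 n258 = n253 := d1_3 (iv4 D253) F402 D258
theorem F408 : act 2 n259 = n254 := d2_3 (iv5 D254) F402 D259
theorem F409 : act 2 n260 = n255 := d3_3 (iv6 D255) F402 D260
theorem F410 : act 7 n258 = n258 := d4_0 F407 F404 (iv2 F407)
theorem F411 : act 1 n253 = n263 := d15_0 (iv0 F396) F410 F407
def n264 : Q := act 5 n69
theorem D264 : act 5 n69 = n264 := rfl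
theorem F412 : act 7 n264 = n264 := d13_2 F296 D264 (iv5 D264)
theorem F413 : act 1 n264 = n239 := d17_6 F275 F65 (iv1 D13) D16 D69 D264 (iv5 D239) (iv0 F263) (iv4 D59)
def n265 : Q := act 6 n69
theorem D265 : act 6 n69 = n265 := rfl
theorem F414 : act 4 n265 = n70 := d10_1 D265 (iv6 D70) D69
def n266 : Q := act 0 n70
theorem D266 : act 0 n70 = n266 := rfl
def n267 : Q := act 1 n70
theorem D267 : act 1 n70 = n267 := rfl
def n268 : Q := act 5 n70
theorem D268 : act 5 n70 = n268 := rfl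
theorem F415 : act 3 n268 = n96 := d6_1 D268 (iv5 D96) (iv3 F58)
theorem F416 : act 6 n268 = n73 := d12_2 D70 D268 (iv5 D73) (iv6 D17) D16
def n269 : Q := act 7 n70
theorem D269 : act 7 n70 = n269 := rfl
theorem F417 : act 3 n269 = n97 := d8_1 D269 (iv7 D97) (iv3 F58)
theorem F418 : act 6 n269 = n269 := d14_1 D269 (iv7 D269) (iv6 D70) F283 D70
def n270 : Q := act 2 n71
theorem D270 : act 2 n71 = n270 := rfl
theorem F419 : act 7 n72 = n270 := d15_2 (iv0 D71) D72 (iv2 D270)
def n271 : Q := act 3 n71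
theorem D271 : act 3 n71 = n271 := rfl
def n272 : Q := act 4 n71
theorem D272 : act 4 n71 = n272 := rfl
def n273 : Q := act 5 n71
theorem D273 : act 5 n71 = n273 := rfl
def n274 : Q := act 6 n71
theorem D274 : act 6 n71 = n274 := rfl
def n275 : Q := act 7 n71
theorem D275 : act 7 n71 = n275 := rfl
theorem F420 : act 2 n275 = n72 := d4_1 D275 F419 (iv2 D270)
def n276 : Q := act 3 n72
theorem D276 : act 3 n72 = n276 := rfl
def n277 : Q := act 4 n72
theorem D277 : act 4 n72 = n277 := rfl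
def n278 : Q := act 5 n72
theorem D278 : act 5 n72 = n278 := rfl
def n279 : Q := act 6 n72
theorem D279 : act 6 n72 = n279 := rfl
def n280 : Q := act 0 n73
theorem D280 : act 0 n73 = n280 := rfl
def n281 : Q := act 1 n73
theorem D281 : act 1 n73 = n281 := rfl
def n282 : Q := act 4 n73
theorem D282 : act 4 n73 = n282 := rfl
def n283 : Q := act 7 n73
theorem D283 : act 7 n73 = n283 := rfl
theorem F421 : act 3 n283 = n111 := d8_1 D283 (iv7 D111) (iv3 F59)
theorem F422 : act 5 n283 = n74 := d13_1 D283 (iv7 D74) D73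
def n285 : Q := act 3 n75
theorem D285 : act 3 n75 = n285 := rfl
theorem F425 : act 7 n285 = n76 := d8_2 F62 D285 (iv3 D76)
theorem F426 : act 4 n237 = n285 := d11_3 F425 (iv4 F64) D237
theorem F427 : act 2 n285 = n79 := d15_3 (iv0 D79) (iv0 F327) (iv7 F425)
theorem E143 : n285 = n76 := ((c0_1 D76 F427 F73 (iv2 F427) (iv3 D285) (iv2 D75))).symm
theorem F428 : act 2 n76 = n79 := (sb E143 F427)
theorem E144 : n75 = n18 := ((((iv3 D76)).symm.trans (sb E143 (iv3 D285)))).symm
theorem E145 : n237 = n62 := ((((iv4 F64)).symm.trans (sb E143 (iv4 F426)))).symm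
theorem F429 : act 7 n76 = n76 := (sb E143 F425)
theorem F430 : act 2 n18 = n18 := (sb E144 (iv2 D75))
theorem F431 : act 7 n18 = n18 := (sb E144 (iv7 F62))
theorem E147 : n234 = n63 := ((D234).symm.trans (sb E145 F377))
theorem F432 : act 7 n62 = n62 := (sb E145 (iv7 D237))
theorem F433 : act 2 n63 = n62 := (sb E147 (iv2 D234))
theorem F434 : act 7 n63 = n63 := (sb E147 (iv7 F374))
theorem F435 : act 7 n238 = n238 := d8_2 F434 D238 (iv3 D238)
theorem F436 : act 7 n79 = n79 := d11_2 F434 (iv4 F72) F72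
theorem F437 : act 7 n239 = n239 := d13_2 F434 D239 (iv5 D239)
theorem F438 : act 2 n235 = n239 := d2_3 (iv5 D239) F433 D235
theorem F440 : act 7 n235 = n235 := d4_0 F438 F437 (iv2 F438)
theorem F441 : act 1 n235 = n264 := d15_0 F413 F437 (iv2 F438)
def n286 : Q := act 6 n76
theorem D286 : act 6 n76 = n286 := rfl
theorem F443 : act 3 n286 = n78 := d7_1 D286 (iv6 D78) D76
theorem F444 : act 4 n286 = n236 := d10_1 D286 (iv6 D236) F64
def n287 : Q := act 0 n78
theorem D287 : act 0 n78 = n287 := rfl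
def n291 : Q := act 6 n79
theorem D291 : act 6 n79 = n291 := rfl
theorem F452 : act 2 n291 = n286 := d3_1 D291 (iv6 D286) F428
theorem F454 : act 4 n291 = n240 := d10_1 D291 (iv6 D240) (iv4 F72)
def n292 : Q := act 5 n81
theorem D292 : act 5 n81 = n292 := rfl
theorem F455 : act 2 n292 = n82 := d2_1 D292 (iv5 D82) D81
theorem F456 : act 3 n292 = n292 := d6_1 D292 (iv5 D292) F270
theorem F457 : act 7 n292 = n292 := d13_2 F271 D292 (iv5 D292)
def n293 : Q := act 6 n81
theorem D293 : act 6 n81 = n293 := rfl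
theorem F458 : act 2 n293 = n83 := d3_1 D293 (iv6 D83) D81
theorem F459 : act 3 n293 = n293 := d7_1 D293 (iv6 D293) F270
def n294 : Q := act 0 n82
theorem D294 : act 0 n82 = n294 := rfl
theorem F460 : act 4 n294 = n262 := d18_1 D294 (iv1 D262) (iv4 D69) (iv5 D16) D15 D63 (iv4 F72) (iv0 D79) D82
theorem F461 : act 3 n294 = n294 := d20_5 F23 (iv1 F22) (iv4 F20) (iv3 F76) D294 F460 (iv1 D262) (iv4 D69) F16 D22
theorem E148 : n91 = n22 := (c20_6 F460 (iv1 D262) (iv4 D69) F16 D22 D91 F23 (iv1 F22) (iv4 F20) (iv3 F76) D294)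
theorem F462 : act 3 n22 = n22 := (sb E148 (iv3 D91))
theorem F463 : act 1 n292 = n294 := d15_0 (iv0 D294) F274 (iv2 F455)
theorem F465 : act 3 n93 = n93 := d7_3 (iv6 D93) F462 D93
theorem F466 : act 3 n90 = n90 := d8_3 (iv7 F82) F462 F82
theorem E149 : n90 = n22 := (c0_6 F462 D90 F466 (iv2 D90) F462 D90)
theorem F467 : act 2 n22 = n22 := (sb E149 (iv2 D90))
theorem F468 : act 7 n22 = n22 := (sb E149 (iv7 F82))
theorem F469 : act 7 n92 = n92 := d13_2 F468 D92 (iv5 D92)
theorem F470 : act 2 n92 = n92 := d16_9 F83 (iv5 D92) F23 D92 F83 (iv5 D92) F23 D92 F469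
theorem F471 : act 2 n95 = n95 := d3_3 (iv6 F85) F470 F85
theorem F472 : act 7 n94 = n95 := d15_2 (iv0 F316) F317 F471
theorem F473 : act 2 n94 = n94 := d4_3 F472 F471 (iv7 F472)
theorem F474 : act 2 n109 = n109 := d2_3 (iv5 F97) F473 F97
theorem F475 : act 7 n108 = n109 := d15_2 (iv0 F322) F323 F474
theorem F476 : act 2 n108 = n108 := d4_3 F475 F474 (iv7 F475)
theorem F477 : act 2 n93 = n93 := d2_3 (iv5 F90) F476 F90
theorem E150 : n95 = n93 := (c13_3 F475 (iv5 F97) F472 (iv5 F90))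
theorem F478 : act 0 n93 = n23 := (sb E150 (iv1 D95))
theorem F479 : act 1 n93 = n97 := (sb E150 (iv0 F316))
theorem E151 : n92 = n22 := ((((iv6 D93)).symm.trans (sb E150 (iv6 F85)))).symm
theorem F480 : act 7 n93 = n94 := (sb E150 (iv7 F472))
theorem F481 : act 5 n22 = n22 := (sb E151 (iv5 D92))
theorem F482 : act 6 n108 = n108 := d12_4 (iv6 D93) F481 D93 (iv5 F90) F90
theorem F483 : act 5 n84 = n84 := d17_7 D22 F481 (iv1 F22) (iv5 D5) D4 D20 F78 (iv0 D84) F20
theorem E152 : n102 = n25 := (c21_6 F481 (iv1 F22) (iv5 D5) D6 D24 D102 D106 F320 (iv5 D96) (iv6 D23) D22)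
theorem E153 : n107 = n24 := ((D107).symm.trans (sb E152 (iv6 D102)))
theorem F484 : act 6 n24 = n25 := (sb E153 (iv6 D107))
theorem F485 : act 0 n96 = n101 := d21_1 D96 (iv5 D101) F484 (iv1 D25) (iv6 D6) D5 D22 F481 D93 F478
theorem F486 : act 6 n103 = n98 := d3_2 F484 (iv2 F89) (iv2 D98)
theorem F487 : act 6 n104 = n99 := d7_2 F484 D104 (iv3 D99)
theorem E154 : n98 = n24 := (c14_1 F88 F484 F88 (iv6 F486) (iv7 D103) F484)
theorem F488 : act 2 n24 = n24 := (sb E154 (iv2 D98))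
theorem E155 : n103 = n25 := (((F484).symm.trans (sb E154 (iv6 F486)))).symm
theorem F489 : act 2 n25 = n25 := (sb E155 F89)
theorem F490 : act 7 n25 = n24 := (sb E155 (iv7 D103))
theorem F491 : act 7 n99 = n104 := d8_2 F490 D99 (iv3 D104)
theorem F492 : act 7 n101 = n106 := d13_2 F490 D101 (iv5 D106)
theorem F493 : act 2 n101 = n101 := d15_3 (iv0 F485) (iv0 F320) (iv7 F492)
theorem F494 : act 2 n106 = n106 := d4_3 (iv7 F492) F493 F492
theorem F495 : act 3 n94 = n94 := d8_1 F480 (iv7 F480) F465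
theorem F496 : act 3 n109 = n109 := d6_3 (iv5 F97) F495 F97
theorem F497 : act 3 n108 = n108 := d8_3 F475 F496 (iv7 F475)
def n295 : Q := act 1 n82
theorem D295 : act 1 n82 = n295 := rfl
theorem F498 : act 1 n295 = n292 := d15_1 D295 F457 F455
theorem F499 : act 3 n84 = n295 := d20_3 (iv4 F20) D84 F332 (iv1 D295) F76 F20 D22 F23 F462 (iv1 F22)
theorem F500 : act 5 n295 = n295 := d6_2 F483 F499 (iv3 F499)
theorem F501 : act 4 n295 = n261 := d20_6 D258 F396 F394 F76 D84 F499 (iv1 F392) (iv4 D228) F287 (iv1 F295)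
theorem F502 : act 3 n261 = n261 := d5_5 (iv4 F501) (iv3 F499) F332 F499 F501
theorem F503 : act 5 n261 = n243 := d17_5 (iv1 F269) D292 (iv1 F498) F500 F501 (iv0 D243) (iv5 D65) D63 (iv4 F72)
theorem E156 : n259 = n68 := (c18_10 (iv1 D68) D69 D261 (iv4 F501) F500 F501 (iv0 D261) (iv4 D69) D68 D259)
theorem E157 : n254 = n67 := ((((iv2 F402)).symm.trans (sb E156 F408))).symm
theorem F504 : act 5 n68 = n68 := (sb E156 (iv5 D259))
theorem F505 : act 5 n67 = n67 := (sb E157 (iv5 D254))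
theorem F506 : act 5 n294 = n294 := d18_4 F294 D228 (iv1 F393) (iv4 F460) F460 F393 (iv4 D228) (iv0 F294) F505
theorem F507 : act 5 n262 = n244 := d17_5 F327 D82 D294 F506 F460 F386 (iv5 D226) F264 F64
theorem F508 : act 3 n243 = n243 := d6_1 F503 (iv5 F503) F502
def n296 : Q := act 6 n82
theorem D296 : act 6 n82 = n296 := rfl
theorem F509 : act 3 n296 = n85 := d7_1 D296 (iv6 D85) (iv3 F76)
def n297 : Q := act 0 n83
theorem D297 : act 0 n83 = n297 := rfl
def n298 : Q := act 1 n83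
theorem D298 : act 1 n83 = n298 := rfl
def n299 : Q := act 5 n83
theorem D299 : act 5 n83 = n299 := rfl
theorem F510 : act 3 n299 = n88 := d6_1 D299 (iv5 D88) (iv3 F77)
def n300 : Q := act 7 n83
theorem D300 : act 7 n83 = n300 := rfl
theorem F511 : act 3 n300 = n89 := d8_1 D300 (iv7 D89) (iv3 F77)
theorem F512 : act 6 n300 = n300 := d14_1 D300 (iv7 D300) (iv6 D83) F262 D83
def n301 : Q := act 2 n84
theorem D301 : act 2 n84 = n301 := rfl
theorem F513 : act 4 n301 = n301 := d1_2 F332 D301 (iv2 D301)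
theorem F514 : act 5 n301 = n301 := d2_2 F483 D301 (iv2 D301)
theorem F515 : act 7 n301 = n84 := d16_8 F513 F514 F513 F514 F513 F514 F513 F514 D301
def n302 : Q := act 6 n84
theorem D302 : act 6 n84 = n302 := rfl
theorem F516 : act 4 n302 = n302 := d10_1 D302 (iv6 D302) F332
def n303 : Q := act 0 n85
theorem D303 : act 0 n85 = n303 := rfl
def n304 : Q := act 1 n85
theorem D304 : act 1 n85 = n304 := rfl
def n305 : Q := act 5 n85
theorem D305 : act 5 n85 = n305 := rfl
theorem F517 : act 2 n305 = n305 := d2_1 D305 (iv5 D305) F298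
theorem F518 : act 6 n305 = n88 := d12_2 D85 D305 (iv5 D88) (iv6 D21) D20
def n306 : Q := act 7 n85
theorem D306 : act 7 n85 = n306 := rfl
theorem F519 : act 2 n306 = n306 := d4_1 D306 (iv7 D306) F298
theorem F520 : act 4 n306 = n97 := d11_1 D306 (iv7 D97) (iv4 F79)
theorem F521 : act 6 n306 = n306 := d14_1 D306 (iv7 D306) (iv6 D85) F285 D85
theorem F522 : act 1 n306 = n303 := d15_0 (iv0 D303) D306 F519
theorem F523 : act 1 n304 = n306 := d15_1 D304 (iv7 D306) F298
def n307 : Q := act 2 n86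
theorem D307 : act 2 n86 = n307 := rfl
theorem F524 : act 7 n87 = n307 := d15_2 (iv0 D86) D87 (iv2 D307)
def n308 : Q := act 3 n86
theorem D308 : act 3 n86 = n308 := rfl
def n309 : Q := act 4 n86
theorem D309 : act 4 n86 = n309 := rfl
def n310 : Q := act 5 n86
theorem D310 : act 5 n86 = n310 := rfl
def n311 : Q := act 6 n86
theorem D311 : act 6 n86 = n311 := rfl
def n312 : Q := act 7 n86
theorem D312 : act 7 n86 = n312 := rfl
theorem F525 : act 2 n312 = n87 := d4_1 D312 F524 (iv2 D307)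
def n313 : Q := act 3 n87
theorem D313 : act 3 n87 = n313 := rfl
def n314 : Q := act 4 n87
theorem D314 : act 4 n87 = n314 := rfl
def n315 : Q := act 5 n87
theorem D315 : act 5 n87 = n315 := rfl
theorem F526 : act 0 n315 = n305 := d17_2 F300 D315 (iv5 D305) F79 D96 (iv0 F320) (iv5 D106) (iv0 F311) (iv4 F80)
theorem E158 : n311 = n87 := (c21_6 F483 (iv1 F78) (iv5 D20) D21 D86 D311 D315 F526 (iv5 D305) (iv6 D85) D84)
theorem F527 : act 6 n87 = n86 := (sb E158 (iv6 D311))
theorem F528 : act 6 n307 = n312 := d3_2 F527 D307 F525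
theorem F529 : act 6 n308 = n313 := d7_2 F527 D308 (iv3 D313)
theorem F530 : act 6 n309 = n314 := d10_2 F527 D309 (iv4 D314)
theorem E159 : n312 = n87 := (c14_1 D312 F527 D312 (iv6 F528) (iv7 F524) F527)
theorem F531 : act 2 n87 = n87 := (sb E159 F525)
theorem E160 : n307 = n86 := (((F527).symm.trans (sb E159 (iv6 F528)))).symm
theorem F532 : act 2 n86 = n86 := (sb E160 (iv2 D307))
theorem F533 : act 7 n86 = n87 := (sb E160 (iv7 F524))
theorem F534 : act 7 n313 = n308 := d8_2 F533 D313 (iv3 D308)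
theorem F536 : act 7 n315 = n310 := d13_2 F533 D315 (iv5 D310)
theorem F538 : act 2 n310 = n310 := d2_3 (iv5 D310) F532 D310
theorem F539 : act 2 n315 = n315 := d4_3 F536 F538 (iv7 F536)
theorem F540 : act 1 n310 = n305 := d15_0 (iv0 F526) F536 F538
theorem E161 : n304 = n302 := ((c21_10 D305 (iv1 F540) (iv5 D310) (iv6 F527) (iv1 D87) (iv6 D21) D20 D84 F483 D302 (iv1 D304))).symm
theorem F541 : act 0 n302 = n85 := (sb E161 (iv1 D304))
theorem F542 : act 1 n302 = n306 := (sb E161 F523)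
theorem E162 : n309 = n86 := (c17_5 F541 D305 (iv1 F540) (iv5 D310) D309 D310 F540 (iv5 D305) (iv0 F541) F516)
theorem F543 : act 4 n86 = n86 := (sb E162 (iv4 D309))
theorem E163 : n314 = n87 := ((((iv6 F527)).symm.trans (sb E162 F530))).symm
theorem F544 : act 4 n87 = n87 := (sb E163 (iv4 D314))
theorem E164 : n287 = n4 := (c21_11 D20 D84 F483 D302 F541 (iv6 D85) (iv5 D20) D18 F19 D78 D287)
theorem E166 : n78 = n18 := (((F18).symm.trans (sb E164 (iv0 D287)))).symm
theorem E168 : n286 = n76 := (((D76).symm.trans (sb E166 (iv3 F443)))).symm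
theorem F545 : act 6 n18 = n18 := (sb E166 (iv6 D78))
theorem E170 : n291 = n79 := (((F428).symm.trans (sb E168 (iv2 F452)))).symm
theorem E171 : n236 = n62 := ((((iv4 F64)).symm.trans (sb E168 F444))).symm
theorem F546 : act 6 n76 = n76 := (sb E168 (iv6 D286))
theorem E172 : n240 = n63 := (((F72).symm.trans (sb E170 F454))).symm
theorem F547 : act 6 n79 = n79 := (sb E170 (iv6 D291))
theorem F548 : act 6 n62 = n62 := (sb E171 (iv6 D236))
theorem F549 : act 6 n63 = n63 := (sb E172 (iv6 D240))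
theorem F550 : act 6 n238 = n238 := d7_2 F549 D238 (iv3 D238)
def n316 : Q := act 0 n88
theorem D316 : act 0 n88 = n316 := rfl
theorem F551 : act 5 n316 = n302 := d21_2 D88 D316 (iv6 D302) (iv1 F78) D85 D305 (iv1 F540) (iv5 D310) (iv6 F527) (iv1 D87)
theorem F552 : act 6 n316 = n316 := d21_5 F551 F541 D305 F518 D316 F551 F541 D305 F518 D316
def n317 : Q := act 1 n88
theorem D317 : act 1 n88 = n317 := rfl
theorem F553 : act 5 n317 = n303 := d17_7 D94 F97 (iv1 D109) (iv5 D26) (iv4 F21) D88 D317 (iv0 D303) F79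
theorem F554 : act 6 n303 = n303 := d21_5 F19 (iv1 F18) D20 D85 D303 (iv5 F553) (iv1 D317) (iv5 D88) (iv6 D21) D18
def n318 : Q := act 4 n88
theorem D318 : act 4 n88 = n318 := rfl
theorem F555 : act 2 n318 = n318 := d1_1 D318 (iv4 D318) F299
def n319 : Q := act 7 n88
theorem D319 : act 7 n88 = n319 := rfl
theorem F556 : act 2 n319 = n319 := d4_1 D319 (iv7 D319) F299
theorem F557 : act 5 n319 = n89 := d13_1 D319 (iv7 D89) D88
theorem F558 : act 1 n319 = n316 := d15_0 (iv0 D316) D319 F556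
theorem F559 : act 1 n317 = n319 := d15_1 D317 (iv7 D319) F299
theorem F560 : act 4 n303 = n303 := d17_4 (iv1 F301) (iv5 F557) (iv1 F559) F553 (iv5 F553) F559 F557 F301 F543
def n320 : Q := act 4 n96
theorem D320 : act 4 n96 = n320 := rfl
theorem F561 : act 2 n320 = n320 := d1_1 D320 (iv4 D320) F315
theorem F562 : act 6 n320 = n110 := d10_2 (iv6 F87) D320 (iv4 D110)
def n321 : Q := act 7 n96
theorem D321 : act 7 n96 = n321 := rfl
theorem F563 : act 2 n321 = n321 := d4_1 D321 (iv7 D321) F315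
theorem F564 : act 5 n321 = n97 := d13_1 D321 (iv7 D97) D96
theorem F565 : act 1 n321 = n101 := d15_0 (iv0 F485) D321 F563
theorem F566 : act 1 n106 = n321 := d15_1 (iv0 F320) (iv7 D321) F315
def n325 : Q := act 4 n99
theorem D325 : act 4 n99 = n325 := rfl
theorem F568 : act 3 n325 = n325 := d5_1 D325 (iv4 D325) (iv3 D99) F95 D99
def n326 : Q := act 5 n99
theorem D326 : act 5 n99 = n326 := rfl
theorem F569 : act 3 n326 = n101 := d6_1 D326 (iv5 D101) D99
def n327 : Q := act 4 n101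
theorem D327 : act 4 n101 = n327 := rfl
theorem F570 : act 2 n327 = n327 := d1_1 D327 (iv4 D327) F493
def n328 : Q := act 6 n101
theorem D328 : act 6 n101 = n328 := rfl
theorem F571 : act 2 n328 = n328 := d3_1 D328 (iv6 D328) F493
def n333 : Q := act 5 n104
theorem D333 : act 5 n104 = n333 := rfl
theorem F582 : act 3 n333 = n106 := d6_1 D333 (iv5 D106) D104
theorem F583 : act 7 n333 = n326 := d13_2 F491 D333 (iv5 D326)
def n334 : Q := act 4 n106
theorem D334 : act 4 n106 = n334 := rfl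
theorem F584 : act 2 n334 = n334 := d1_1 D334 (iv4 D334) F494
theorem F585 : act 7 n334 = n327 := d11_2 F492 D334 (iv4 D327)
def n335 : Q := act 6 n106
theorem D335 : act 6 n106 = n335 := rfl
theorem F586 : act 2 n335 = n335 := d3_1 D335 (iv6 D335) F494
theorem F587 : act 5 n335 = n328 := d12_1 D335 (iv6 D328) (iv5 D101) F484 D106
def n336 : Q := act 4 n108
theorem D336 : act 4 n108 = n336 := rfl
theorem F588 : act 2 n336 = n336 := d1_1 D336 (iv4 D336) F476
theorem F589 : act 6 n336 = n336 := d10_2 F482 D336 (iv4 D336)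
theorem F590 : act 1 n336 = n318 := d18_6 (iv1 F522) F520 (iv1 F479) F84 (iv5 F90) D336 (iv4 D318) D317 F553
def n337 : Q := act 4 n109
theorem D337 : act 4 n109 = n337 := rfl
theorem F591 : act 2 n337 = n337 := d1_1 D337 (iv4 D337) F474
theorem F592 : act 7 n337 = n336 := d11_2 F475 D337 (iv4 D336)
theorem F593 : act 0 n337 = n318 := d18_2 F322 D337 (iv4 D318) (iv5 D88) F21 D25 F91 (iv0 F311) (iv5 F99)
def n338 : Q := act 6 n109
theorem D338 : act 6 n109 = n338 := rfl
theorem F594 : act 2 n338 = n338 := d3_1 D338 (iv6 D338) F474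
theorem F595 : act 3 n338 = n338 := d7_1 D338 (iv6 D338) F496
theorem F596 : act 5 n338 = n338 := d12_1 D338 (iv6 D338) (iv5 F97) F98 F97
theorem F597 : act 7 n338 = n338 := d14_2 F475 D338 (iv6 D338) (iv7 F475) F482
def n339 : Q := act 0 n110
theorem D339 : act 0 n110 = n339 := rfl
theorem F598 : act 4 n339 = n316 := d18_3 (iv1 D109) D110 D339 F551 F516 F542 F520 F317 F97
theorem F599 : act 6 n339 = n339 := d10_0 F598 F552 (iv4 F598)
def n340 : Q := act 1 n110
theorem D340 : act 1 n110 = n340 := rfl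
theorem F600 : act 4 n340 = n317 := d18_7 F300 F544 (iv1 D87) F21 D26 D110 D340 F559 F557
def n341 : Q := act 3 n110
theorem D341 : act 3 n110 = n341 := rfl
def n342 : Q := act 5 n110
theorem D342 : act 5 n110 = n342 := rfl
theorem F601 : act 2 n342 = n342 := d2_1 D342 (iv5 D342) F321
def n343 : Q := act 7 n110
theorem D343 : act 7 n110 = n343 := rfl
theorem F602 : act 2 n343 = n343 := d4_1 D343 (iv7 D343) F321
theorem F603 : act 4 n343 = n111 := d11_1 D343 (iv7 D111) D110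
theorem F604 : act 1 n343 = n339 := d15_0 (iv0 D339) D343 F602
theorem F605 : act 1 n340 = n343 := d15_1 D340 (iv7 D343) F321
def n344 : Q := act 6 n111
theorem D344 : act 6 n111 = n344 := rfl
theorem F606 : act 2 n344 = n344 := d3_1 D344 (iv6 D344) F324
theorem F607 : act 5 n344 = n344 := d12_1 D344 (iv6 D344) F99 F314 (iv5 F99)
theorem F608 : act 0 n344 = n335 := d21_4 (iv5 D101) (iv1 F312) (iv5 F99) D344 (iv6 D335) (iv5 D106) (iv1 D25) D26 (iv6 F87) F485
def n345 : Q := act 3 n210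
theorem D345 : act 3 n210 = n345 := rfl
theorem F609 : act 2 n345 = n225 := d0_1 D345 (iv3 D225) F53 D64 F193
theorem F610 : act 4 n345 = n345 := d5_2 (iv4 F192) D345 (iv3 D345) F192 F270
theorem F611 : act 7 n345 = n345 := d8_2 F256 D345 (iv3 D345)
theorem F612 : act 0 n218 = n345 := d20_4 (iv4 D59) F275 D56 D218 (iv3 D345) F192 (iv1 F328) (iv4 F64) F329 (iv1 F264)
def n346 : Q := act 5 n210
theorem D346 : act 5 n210 = n346 := rfl
theorem F613 : act 2 n346 = n241 := d2_1 D346 (iv5 D241) F193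
theorem F614 : act 7 n346 = n346 := d13_2 F256 D346 (iv5 D346)
def n347 : Q := act 6 n210
theorem D347 : act 6 n210 = n347 := rfl
theorem F615 : act 2 n347 = n242 := d3_1 D347 (iv6 D242) F193
theorem F616 : act 4 n347 = n293 := d10_1 D347 (iv6 D293) (iv4 F192)
def n348 : Q := act 0 n211
theorem D348 : act 0 n211 = n348 := rfl
def n349 : Q := act 1 n211
theorem D349 : act 1 n211 = n349 := rfl
theorem F617 : act 4 n348 = n349 := d20_0 (iv1 D349) (iv4 F338) (iv3 D218) F259 (iv3 D64) (iv4 D15) D12 D51 D211 D348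
theorem F618 : act 3 n349 = n349 := d20_3 F338 D348 F617 (iv1 D349) (iv3 D211) (iv4 D51) F280 D59 D225 F356
def n350 : Q := act 2 n211
theorem D350 : act 2 n211 = n350 := rfl
theorem F619 : act 7 n350 = n350 := d4_2 F333 D350 (iv2 D350)
theorem F620 : act 1 n350 = n348 := d15_0 (iv0 D348) F333 D350
theorem F621 : act 1 n349 = n350 := d15_1 D349 F619 (iv2 D350)
def n351 : Q := act 5 n211
theorem D351 : act 5 n211 = n351 := rfl
theorem F622 : act 3 n351 = n212 := d6_1 D351 (iv5 D212) D211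
theorem F623 : act 7 n351 = n351 := d13_2 F333 D351 (iv5 D351)
def n352 : Q := act 6 n211
theorem D352 : act 6 n211 = n352 := rfl
theorem F624 : act 3 n352 = n213 := d7_1 D352 (iv6 D213) D211
def n353 : Q := act 0 n212
theorem D353 : act 0 n212 = n353 := rfl
theorem F625 : act 1 n219 = n353 := d15_0 (iv0 D353) F334 (iv2 F340)
def n354 : Q := act 1 n212
theorem D354 : act 1 n212 = n354 := rfl
theorem F626 : act 1 n354 = n219 := d15_1 D354 F341 F340
theorem F627 : act 5 n354 = n263 := d17_7 (iv1 D68) (iv5 D16) D12 F69 D51 D212 D354 (iv0 F396) (iv4 D258)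
theorem F628 : act 3 n264 = n354 := d6_3 F627 (iv3 D263) D264
theorem F629 : act 7 n354 = n354 := d13_0 F627 F395 (iv5 F627)
theorem F630 : act 2 n354 = n353 := d15_3 (iv0 D353) D354 F629
theorem F631 : act 7 n353 = n353 := d4_2 F629 F630 (iv2 F630)
def n355 : Q := act 4 n212
theorem D355 : act 4 n212 = n355 := rfl
theorem F632 : act 7 n355 = n355 := d11_2 F334 D355 (iv4 D355)
def n356 : Q := act 6 n212
theorem D356 : act 6 n212 = n356 := rfl
def n360 : Q := act 7 n213
theorem D360 : act 7 n213 = n360 := rfl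
theorem F633 : act 4 n360 = n217 := d11_1 D360 (iv7 D217) (iv4 F335)
theorem F634 : act 6 n360 = n360 := d14_1 D360 (iv7 D360) (iv6 D213) F325 D213
def n374 : Q := act 7 n216
theorem D374 : act 7 n216 = n374 := rfl
theorem F638 : act 5 n374 = n217 := d13_1 D374 (iv7 D217) D216
def n375 : Q := act 2 n218
theorem D375 : act 2 n218 = n375 := rfl
theorem F639 : act 3 n375 = n350 := d0_2 D218 D375 (iv2 D350) (iv3 D211) (iv2 F306)
theorem F640 : act 4 n375 = n350 := d1_2 (iv4 F338) D375 (iv2 D350)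
theorem F641 : act 7 n375 = n375 := d4_2 F339 D375 (iv2 D375)
theorem F642 : act 1 n375 = n345 := d15_0 (iv0 F612) F339 D375
theorem F643 : act 1 n225 = n375 := d15_1 (iv0 F356) F641 (iv2 D375)
def n376 : Q := act 5 n218
theorem D376 : act 5 n218 = n376 := rfl
theorem F644 : act 3 n376 = n219 := d6_1 D376 (iv5 D219) D218
theorem F645 : act 7 n376 = n376 := d13_2 F339 D376 (iv5 D376)
def n377 : Q := act 6 n218
theorem D377 : act 6 n218 = n377 := rfl
theorem F646 : act 3 n377 = n220 := d7_1 D377 (iv6 D220) D218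
def n378 : Q := act 4 n219
theorem D378 : act 4 n219 = n378 := rfl
theorem F648 : act 2 n378 = n355 := d1_1 D378 (iv4 D355) (iv2 F340)
theorem F649 : act 7 n378 = n378 := d11_2 F341 D378 (iv4 D378)
theorem F650 : act 5 n378 = n355 := d16_1 D378 (iv4 D355) (iv5 D212) (iv4 D51) F69 D51 D212 F334 (iv2 F340)
def n379 : Q := act 6 n219
theorem D379 : act 6 n219 = n379 := rfl
theorem F651 : act 2 n379 = n356 := d3_1 D379 (iv6 D356) (iv2 F340)
def n394 : Q := act 0 n223
theorem D394 : act 0 n223 = n394 := rfl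
def n396 : Q := act 4 n223
theorem D396 : act 4 n223 = n396 := rfl
theorem F664 : act 6 n396 = n396 := d10_2 F347 D396 (iv4 D396)
def n397 : Q := act 7 n223
theorem D397 : act 7 n223 = n397 := rfl
theorem F665 : act 2 n397 = n374 := d4_1 D397 (iv7 D374) (iv2 F345)
theorem F668 : act 1 n374 = n394 := d15_0 (iv0 D394) D397 F665
def n398 : Q := act 5 n225
theorem D398 : act 5 n225 = n398 := rfl
theorem F671 : act 3 n398 = n226 := d6_1 D398 (iv5 D226) D225
theorem F672 : act 7 n398 = n398 := d13_2 F355 D398 (iv5 D398)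
def n399 : Q := act 6 n225
theorem D399 : act 6 n225 = n399 := rfl
theorem F673 : act 3 n399 = n227 := d7_1 D399 (iv6 D227) D225
theorem F674 : act 4 n399 = n399 := d10_1 D399 (iv6 D399) F354
def n400 : Q := act 4 n226
theorem D400 : act 4 n226 = n400 := rfl
theorem F675 : act 2 n400 = n245 := d1_1 D400 (iv4 D245) (iv2 F357)
theorem F676 : act 7 n400 = n400 := d11_2 F358 D400 (iv4 D400)
def n401 : Q := act 6 n226
theorem D401 : act 6 n226 = n401 := rfl
theorem F677 : act 2 n401 = n246 := d3_1 D401 (iv6 D246) (iv2 F357)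
def n402 : Q := act 0 n227
theorem D402 : act 0 n227 = n402 := rfl
def n403 : Q := act 1 n227
theorem D403 : act 1 n227 = n403 := rfl
theorem F678 : act 1 n403 = n250 := d15_1 D403 (iv7 D250) (iv2 F359)
def n404 : Q := act 5 n227
theorem D404 : act 5 n227 = n404 := rfl
theorem F679 : act 2 n404 = n249 := d2_1 D404 (iv5 D249) (iv2 F359)
def n405 : Q := act 7 n227
theorem D405 : act 7 n227 = n405 := rfl
theorem F680 : act 2 n405 = n250 := d4_1 D405 (iv7 D250) (iv2 F359)
theorem F681 : act 4 n405 = n233 := d11_1 D405 (iv7 D233) (iv4 F360)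
theorem F682 : act 6 n405 = n405 := d14_1 D405 (iv7 D405) (iv6 D227) F265 D227
theorem F683 : act 1 n250 = n402 := d15_0 (iv0 D402) D405 F680
theorem F684 : act 1 n248 = n405 := d15_1 D248 (iv7 D405) F359
theorem F685 : act 1 n405 = n247 := d15_0 (iv0 D247) D250 (iv2 F680)
def n406 : Q := act 3 n228
theorem D406 : act 3 n228 = n406 := rfl
theorem F686 : act 4 n406 = n406 := d5_2 D228 D406 (iv3 D406) (iv4 D228) F287
theorem F687 : act 7 n406 = n406 := d8_2 F362 D406 (iv3 D406)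
def n407 : Q := act 5 n228
theorem D407 : act 5 n228 = n407 := rfl
theorem F688 : act 2 n407 = n264 := d2_1 D407 (iv5 D264) (iv2 F361)
theorem F689 : act 7 n407 = n407 := d13_2 F362 D407 (iv5 D407)
theorem F690 : act 0 n407 = n239 := d17_2 (iv1 F392) D407 (iv5 D239) (iv4 F72) F117 (iv0 D79) D82 D295 F501
theorem F691 : act 1 n407 = n235 := d17_6 D12 F69 F280 D60 D228 D407 (iv5 D235) (iv0 D62) (iv4 D15)
def n408 : Q := act 6 n228
theorem D408 : act 6 n228 = n408 := rfl
theorem F692 : act 2 n408 = n265 := d3_1 D408 (iv6 D265) (iv2 F361)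
theorem F693 : act 4 n408 = n229 := d10_1 D408 (iv6 D229) D228
def n409 : Q := act 0 n229
theorem D409 : act 0 n229 = n409 := rfl
def n410 : Q := act 1 n229
theorem D410 : act 1 n229 = n410 := rfl
theorem F694 : act 1 n410 = n269 := d15_1 D410 (iv7 D269) (iv2 F363)
def n411 : Q := act 5 n229
theorem D411 : act 5 n229 = n411 := rfl
theorem F695 : act 2 n411 = n268 := d2_1 D411 (iv5 D268) (iv2 F363)
theorem F696 : act 3 n411 = n411 := d6_1 D411 (iv5 D411) F364
theorem F697 : act 6 n411 = n232 := d12_2 D229 D411 (iv5 D232) (iv6 D61) D60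
def n412 : Q := act 7 n229
theorem D412 : act 7 n229 = n412 := rfl
theorem F698 : act 2 n412 = n269 := d4_1 D412 (iv7 D269) (iv2 F363)
theorem F699 : act 3 n412 = n412 := d8_1 D412 (iv7 D412) F364
theorem F700 : act 6 n412 = n412 := d14_1 D412 (iv7 D412) (iv6 D229) F288 D229
theorem F701 : act 1 n269 = n409 := d15_0 (iv0 D409) D412 F698
theorem F702 : act 1 n267 = n412 := d15_1 D267 (iv7 D412) F363
theorem F703 : act 1 n412 = n266 := d15_0 (iv0 D266) D269 (iv2 F698)
def n413 : Q := act 2 n230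
theorem D413 : act 2 n230 = n413 := rfl
theorem F704 : act 7 n231 = n413 := d15_2 (iv0 D230) D231 (iv2 D413)
def n414 : Q := act 3 n230
theorem D414 : act 3 n230 = n414 := rfl
def n415 : Q := act 4 n230
theorem D415 : act 4 n230 = n415 := rfl
def n416 : Q := act 5 n230
theorem D416 : act 5 n230 = n416 := rfl
def n417 : Q := act 6 n230
theorem D417 : act 6 n230 = n417 := rfl
def n418 : Q := act 7 n230
theorem D418 : act 7 n230 = n418 := rfl
theorem F705 : act 2 n418 = n231 := d4_1 D418 F704 (iv2 D413)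
def n419 : Q := act 3 n231
theorem D419 : act 3 n231 = n419 := rfl
def n420 : Q := act 4 n231
theorem D420 : act 4 n231 = n420 := rfl
def n421 : Q := act 5 n231
theorem D421 : act 5 n231 = n421 := rfl
def n422 : Q := act 6 n231
theorem D422 : act 6 n231 = n422 := rfl
def n423 : Q := act 0 n232
theorem D423 : act 0 n232 = n423 := rfl
def n424 : Q := act 1 n232
theorem D424 : act 1 n232 = n424 := rfl
theorem F706 : act 1 n424 = n283 := d15_1 D424 (iv7 D283) (iv2 F366)
def n425 : Q := act 4 n232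
theorem D425 : act 4 n232 = n425 := rfl
theorem F707 : act 2 n425 = n282 := d1_1 D425 (iv4 D282) (iv2 F366)
def n426 : Q := act 7 n232
theorem D426 : act 7 n232 = n426 := rfl
theorem F708 : act 2 n426 = n283 := d4_1 D426 (iv7 D283) (iv2 F366)
theorem F709 : act 3 n426 = n426 := d8_1 D426 (iv7 D426) F367
theorem F710 : act 5 n426 = n233 := d13_1 D426 (iv7 D233) D232
theorem F711 : act 1 n283 = n423 := d15_0 (iv0 D423) D426 F708
theorem F712 : act 1 n281 = n426 := d15_1 D281 (iv7 D426) F366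
theorem F713 : act 1 n426 = n280 := d15_0 (iv0 D280) D283 (iv2 F708)
def n427 : Q := act 4 n235
theorem D427 : act 4 n235 = n427 := rfl
theorem F714 : act 7 n427 = n427 := d11_2 F440 D427 (iv4 D427)
def n428 : Q := act 6 n235
theorem D428 : act 6 n235 = n428 := rfl
theorem F715 : act 3 n428 = n428 := d7_1 D428 (iv6 D428) F375
theorem F716 : act 5 n428 = n428 := d12_1 D428 (iv6 D428) (iv5 D235) F548 D235
def n429 : Q := act 0 n238
theorem D429 : act 0 n238 = n429 := rfl
theorem F717 : act 3 n429 = n348 := d20_5 F56 D79 F72 D238 D429 F617 (iv1 D349) (iv4 F338) (iv3 D218) F259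
theorem F718 : act 4 n429 = n429 := d20_8 (iv4 F640) (iv1 F643) F354 (iv3 D225) F263 D238 F380 D429 F717 (iv1 F620)
theorem F719 : act 0 n429 = n238 := d20_1 F718 F380 (iv3 D238) (iv1 D63) D64 F56 D79 F72 D238 D429
def n430 : Q := act 5 n238
theorem D430 : act 5 n238 = n430 := rfl
theorem F720 : act 2 n430 = n430 := d2_1 D430 (iv5 D430) F379
theorem F721 : act 3 n430 = n239 := d6_1 D430 (iv5 D239) D238
theorem F722 : act 7 n430 = n430 := d13_2 F435 D430 (iv5 D430)
def n431 : Q := act 4 n239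
theorem D431 : act 4 n239 = n431 := rfl
theorem F723 : act 2 n431 = n427 := d1_1 D431 (iv4 D427) F438
theorem F724 : act 7 n431 = n431 := d11_2 F437 D431 (iv4 D431)
theorem F725 : act 5 n431 = n427 := d16_1 D431 (iv4 D427) (iv5 D235) F64 F63 (iv4 F64) D235 F440 F438
def n432 : Q := act 6 n239
theorem D432 : act 6 n239 = n432 := rfl
theorem F726 : act 2 n432 = n428 := d3_1 D432 (iv6 D428) F438
theorem F727 : act 5 n432 = n432 := d12_1 D432 (iv6 D432) (iv5 D239) F549 D239
def n433 : Q := act 0 n241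
theorem D433 : act 0 n241 = n433 := rfl
theorem F728 : act 5 n433 = n253 := d17_3 F259 D241 D433 (iv4 D253) F505 (iv0 D67) (iv5 D16) D13 D56
theorem F729 : act 1 n346 = n433 := d15_0 (iv0 D433) F382 (iv2 F613)
theorem F730 : act 7 n433 = n433 := d13_0 F728 F404 (iv5 F728)
def n434 : Q := act 1 n241
theorem D434 : act 1 n241 = n434 := rfl
theorem F731 : act 1 n434 = n346 := d15_1 D434 F614 F613
theorem F732 : act 2 n433 = n434 := d15_3 F731 F729 F730
theorem F733 : act 5 n258 = n434 := d17_5 F280 D60 (iv1 F295) F504 D258 F731 (iv5 D346) (iv0 D210) (iv4 D51)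
theorem F734 : act 7 n434 = n434 := d13_2 F410 F733 (iv5 F733)
def n435 : Q := act 4 n241
theorem D435 : act 4 n241 = n435 := rfl
theorem F735 : act 7 n435 = n435 := d11_2 F382 D435 (iv4 D435)
def n436 : Q := act 6 n241
theorem D436 : act 6 n241 = n436 := rfl
theorem F736 : act 3 n436 = n246 := d7_1 D436 (iv6 D246) (iv3 F381)
def n437 : Q := act 0 n242
theorem D437 : act 0 n242 = n437 := rfl
def n438 : Q := act 1 n242
theorem D438 : act 1 n242 = n438 := rfl
theorem F737 : act 4 n419 = n438 := d20_6 F543 (iv1 F301) F80 (iv3 F60) (iv1 F365) D419 (iv1 D438) F384 F77 D86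
def n439 : Q := act 5 n242
theorem D439 : act 5 n242 = n439 := rfl
theorem F738 : act 3 n439 = n249 := d6_1 D439 (iv5 D249) (iv3 F383)
def n440 : Q := act 7 n242
theorem D440 : act 7 n242 = n440 := rfl
theorem F739 : act 3 n440 = n250 := d8_1 D440 (iv7 D250) (iv3 F383)
theorem F740 : act 4 n440 = n300 := d11_1 D440 (iv7 D300) (iv4 F384)
theorem F741 : act 6 n440 = n440 := d14_1 D440 (iv7 D440) (iv6 D242) F258 D242
def n441 : Q := act 2 n243
theorem D441 : act 2 n243 = n441 := rfl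
theorem F742 : act 7 n244 = n441 := d15_2 (iv0 D243) D244 (iv2 D441)
def n442 : Q := act 4 n243
theorem D442 : act 4 n243 = n442 := rfl
theorem F743 : act 0 n442 = n435 := d18_2 D243 D442 (iv4 D435) (iv5 D241) F56 (iv0 F327) (iv4 F64) (iv0 D62) D65
def n443 : Q := act 6 n243
theorem D443 : act 6 n243 = n443 := rfl
theorem F744 : act 3 n443 = n443 := d7_1 D443 (iv6 D443) F508
def n444 : Q := act 7 n243
theorem D444 : act 7 n243 = n444 := rfl
theorem F745 : act 2 n444 = n244 := d4_1 D444 F742 (iv2 D441)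
theorem F746 : act 3 n444 = n444 := d8_1 D444 (iv7 D444) F508
def n445 : Q := act 3 n244
theorem D445 : act 3 n244 = n445 := rfl
theorem F747 : act 2 n445 = n445 := d0_1 D445 (iv3 D445) (iv2 F745) F746 F745
def n446 : Q := act 4 n244
theorem D446 : act 4 n244 = n446 := rfl
theorem F748 : act 5 n446 = n442 := d16_1 D446 (iv4 D442) (iv5 F503) (iv4 F501) F500 F501 F503 D444 F745
theorem F749 : act 1 n446 = n435 := d18_6 F396 F394 D294 F460 F507 D446 (iv4 D435) D434 (iv5 F733)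
def n447 : Q := act 6 n244
theorem D447 : act 6 n244 = n447 := rfl
def n448 : Q := act 0 n245
theorem D448 : act 0 n245 = n448 := rfl
theorem F750 : act 4 n448 = n433 := d18_3 (iv1 D244) D245 D448 F728 (iv4 D253) (iv0 D67) D69 D262 F507
theorem F751 : act 1 n400 = n448 := d15_0 (iv0 D448) F387 (iv2 F675)
theorem F752 : act 7 n448 = n448 := d11_0 F750 F730 (iv4 F750)
def n449 : Q := act 1 n245
theorem D449 : act 1 n245 = n449 := rfl
theorem F753 : act 1 n449 = n400 := d15_1 D449 F676 F675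
theorem F754 : act 4 n449 = n434 := d18_7 (iv1 F260) (iv4 D56) (iv1 D13) D15 D65 D245 D449 F731 (iv5 D346)
theorem F755 : act 5 n449 = n448 := d18_9 (iv1 F751) (iv4 D400) (iv1 F386) D446 F748 (iv4 D442) (iv0 D243) D245 D449
theorem F756 : act 7 n449 = n449 := d13_0 F755 F752 (iv5 F755)
theorem F757 : act 2 n448 = n449 := d16_9 F754 (iv5 F733) (iv4 D258) F504 D258 F733 (iv4 F754) F755 F752
def n450 : Q := act 3 n245
theorem D450 : act 3 n245 = n450 := rfl
theorem F758 : act 7 n450 = n450 := d8_2 F387 D450 (iv3 D450)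
def n451 : Q := act 5 n245
theorem D451 : act 5 n245 = n451 := rfl
theorem F759 : act 7 n451 = n451 := d13_2 F387 D451 (iv5 D451)
theorem F760 : act 4 n451 = n407 := d16_2 D245 D451 (iv5 D407) (iv4 D228) (iv5 D60) D59 D226 F358 F357
theorem F761 : act 0 n451 = n378 := d17_2 (iv1 D449) D451 F650 (iv4 D355) (iv5 D212) (iv0 F257) D241 D434 (iv4 F754)
theorem F762 : act 1 n451 = n355 := d17_6 F690 (iv5 D239) (iv1 D63) D65 D245 D451 (iv5 F650) (iv0 F761) F760
def n452 : Q := act 6 n245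
theorem D452 : act 6 n245 = n452 := rfl
theorem F763 : act 4 n452 = n246 := d10_1 D452 (iv6 D246) D245
def n453 : Q := act 0 n246
theorem D453 : act 0 n246 = n453 := rfl
def n454 : Q := act 1 n246
theorem D454 : act 1 n246 = n454 := rfl
def n455 : Q := act 5 n246
theorem D455 : act 5 n246 = n455 := rfl
theorem F764 : act 6 n455 = n249 := d12_2 D246 D455 (iv5 D249) (iv6 D66) D65
def n456 : Q := act 7 n246
theorem D456 : act 7 n246 = n456 := rfl
theorem F765 : act 6 n456 = n456 := d14_1 D456 (iv7 D456) (iv6 D246) F267 D246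
def n457 : Q := act 2 n247
theorem D457 : act 2 n247 = n457 := rfl
theorem F766 : act 7 n248 = n457 := d15_2 (iv0 D247) D248 (iv2 D457)
def n458 : Q := act 3 n247
theorem D458 : act 3 n247 = n458 := rfl
def n459 : Q := act 4 n247
theorem D459 : act 4 n247 = n459 := rfl
def n460 : Q := act 5 n247
theorem D460 : act 5 n247 = n460 := rfl
def n461 : Q := act 6 n247
theorem D461 : act 6 n247 = n461 := rfl
def n462 : Q := act 7 n247
theorem D462 : act 7 n247 = n462 := rfl
theorem F767 : act 2 n462 = n248 := d4_1 D462 F766 (iv2 D457)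
def n463 : Q := act 3 n248
theorem D463 : act 3 n248 = n463 := rfl
def n464 : Q := act 4 n248
theorem D464 : act 4 n248 = n464 := rfl
def n465 : Q := act 5 n248
theorem D465 : act 5 n248 = n465 := rfl
def n466 : Q := act 6 n248
theorem D466 : act 6 n248 = n466 := rfl
def n467 : Q := act 0 n249
theorem D467 : act 0 n249 = n467 := rfl
def n468 : Q := act 1 n249
theorem D468 : act 1 n249 = n468 := rfl
def n469 : Q := act 4 n249
theorem D469 : act 4 n249 = n469 := rfl
def n470 : Q := act 7 n249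
theorem D470 : act 7 n249 = n470 := rfl
theorem F768 : act 5 n470 = n250 := d13_1 D470 (iv7 D250) D249
def n471 : Q := act 0 n253
theorem D471 : act 0 n253 = n471 := rfl
theorem F769 : act 5 n471 = n353 := d17_1 D471 (iv1 F625) (iv5 D219) (iv4 D56) F65 (iv0 F275) D60 (iv0 F294) D253
theorem F770 : act 4 n471 = n292 := d18_3 D67 D253 D471 (iv5 D292) (iv4 F192) (iv0 D210) (iv4 D51) (iv0 D12) D16
theorem F771 : act 2 n263 = n471 := d15_3 (iv0 D471) F411 F395
theorem F772 : act 1 n258 = n471 := d15_0 (iv0 D471) F404 (iv2 F407)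
theorem F773 : act 7 n471 = n471 := d15_2 (iv0 F396) F772 (iv2 F771)
def n472 : Q := act 3 n253
theorem D472 : act 3 n253 = n472 := rfl
theorem F774 : act 7 n472 = n472 := d8_2 F404 D472 (iv3 D472)
def n473 : Q := act 6 n253
theorem D473 : act 6 n253 = n473 := rfl
theorem F775 : act 4 n473 = n255 := d10_1 D473 (iv6 D255) D253
def n474 : Q := act 0 n255
theorem D474 : act 0 n255 = n474 := rfl
def n475 : Q := act 1 n255
theorem D475 : act 1 n255 = n475 := rfl
def n476 : Q := act 5 n255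
theorem D476 : act 5 n255 = n476 := rfl
theorem F776 : act 6 n476 = n476 := d12_2 D255 D476 (iv5 D476) (iv6 D255) F505
def n477 : Q := act 7 n255
theorem D477 : act 7 n255 = n477 := rfl
theorem F777 : act 6 n477 = n477 := d14_1 D477 (iv7 D477) (iv6 D255) F403 D255
def n478 : Q := act 3 n258
theorem D478 : act 3 n258 = n478 := rfl
theorem F778 : act 4 n478 = n472 := d5_2 D258 D478 (iv3 D472) (iv4 D253) F397
theorem F779 : act 7 n478 = n478 := d8_2 F410 D478 (iv3 D478)
theorem F780 : act 0 n406 = n478 := d20_4 (iv4 D253) F294 D228 D406 (iv3 D478) (iv4 D258) (iv1 D68) D69 D263 (iv1 F411)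
def n479 : Q := act 6 n258
theorem D479 : act 6 n258 = n479 := rfl
theorem F781 : act 2 n479 = n473 := d3_1 D479 (iv6 D473) (iv2 F407)
theorem F782 : act 4 n479 = n260 := d10_1 D479 (iv6 D260) D258
def n480 : Q := act 0 n260
theorem D480 : act 0 n260 = n480 := rfl
def n481 : Q := act 1 n260
theorem D481 : act 1 n260 = n481 := rfl
def n482 : Q := act 5 n260
theorem D482 : act 5 n260 = n482 := rfl
theorem F784 : act 2 n482 = n476 := d2_1 D482 (iv5 D476) (iv2 F409)
theorem F785 : act 3 n482 = n476 := d6_1 D482 (iv5 D476) (iv3 F399)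
theorem F786 : act 6 n482 = n482 := d12_2 D260 D482 (iv5 D482) (iv6 D260) F504
def n483 : Q := act 7 n260
theorem D483 : act 7 n260 = n483 := rfl
theorem F787 : act 2 n483 = n477 := d4_1 D483 (iv7 D477) (iv2 F409)
theorem F788 : act 3 n483 = n477 := d8_1 D483 (iv7 D477) (iv3 F399)
theorem F789 : act 6 n483 = n483 := d14_1 D483 (iv7 D483) (iv6 D260) F401 D260
theorem F790 : act 1 n477 = n480 := d15_0 (iv0 D480) D483 F787
theorem F792 : act 1 n483 = n474 := d15_0 (iv0 D474) D477 (iv2 F787)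
def n484 : Q := act 2 n261
theorem D484 : act 2 n261 = n484 := rfl
theorem F793 : act 5 n484 = n441 := d2_2 (iv5 F503) D484 (iv2 D441)
theorem F794 : act 7 n262 = n484 := d15_2 (iv0 D261) D262 (iv2 D484)
def n485 : Q := act 6 n261
theorem D485 : act 6 n261 = n485 := rfl
theorem F795 : act 3 n485 = n485 := d7_1 D485 (iv6 D485) F502
theorem F796 : act 0 n485 = n408 := d21_4 D65 D243 (iv5 F503) D485 (iv6 D408) D407 F690 (iv5 D239) F549 (iv1 D63)
theorem F797 : act 5 n467 = n485 := d21_8 D407 F690 (iv5 D239) F549 (iv1 D63) D66 D249 D467 (iv6 D485) (iv1 F392)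
theorem F798 : act 3 n467 = n467 := d6_3 F797 F795 (iv5 F797)
def n486 : Q := act 7 n261
theorem D486 : act 7 n261 = n486 := rfl
theorem F799 : act 2 n486 = n262 := d4_1 D486 F794 (iv2 D484)
theorem F800 : act 3 n486 = n486 := d8_1 D486 (iv7 D486) F502
theorem F801 : act 5 n486 = n444 := d13_1 D486 (iv7 D444) (iv5 F503)
def n487 : Q := act 3 n262
theorem D487 : act 3 n262 = n487 := rfl
theorem F802 : act 2 n487 = n487 := d0_1 D487 (iv3 D487) (iv2 F799) F800 F799
theorem F803 : act 4 n487 = n487 := d5_2 F460 D487 (iv3 D487) (iv4 F460) F461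
theorem F804 : act 5 n487 = n445 := d6_2 (iv5 F507) D487 (iv3 D445)
def n488 : Q := act 6 n262
theorem D488 : act 6 n262 = n488 := rfl
theorem F805 : act 0 n488 = n265 := d21_4 D226 (iv1 F386) (iv5 F507) D488 (iv6 D265) D264 (iv1 F441) (iv5 D235) F548 (iv1 F264)
def n489 : Q := act 6 n263
theorem D489 : act 6 n263 = n489 := rfl
theorem F806 : act 3 n489 = n265 := d7_1 D489 (iv6 D265) D263
theorem F807 : act 4 n489 = n296 := d10_1 D489 (iv6 D296) (iv4 F394)
def n490 : Q := act 4 n264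
theorem D490 : act 4 n264 = n490 := rfl
theorem F808 : act 2 n490 = n451 := d1_1 D490 F760 F688
theorem F809 : act 5 n490 = n400 := d9_2 D264 D490 (iv4 D400) (iv5 D226) (iv4 D59) D60 D228 D407 (iv4 F760) (iv5 D451) (iv4 D245) (iv5 D65) (iv4 D15) D16 D69
theorem F810 : act 7 n490 = n490 := d11_2 F412 D490 (iv4 D490)
theorem F811 : act 0 n490 = n355 := d18_2 (iv1 F413) D490 (iv4 D355) (iv5 D212) (iv4 D51) (iv0 D12) D15 D63 D239
theorem F812 : act 1 n490 = n378 := d18_6 (iv1 F772) (iv4 D258) (iv1 D68) D69 D264 D490 (iv4 D378) F625 (iv5 F769)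
def n491 : Q := act 6 n264
theorem D491 : act 6 n264 = n491 := rfl
def n492 : Q := act 0 n265
theorem D492 : act 0 n265 = n492 := rfl
def n493 : Q := act 5 n265
theorem D493 : act 5 n265 = n493 := rfl
def n494 : Q := act 7 n265
theorem D494 : act 7 n265 = n494 := rfl
theorem F813 : act 4 n494 = n269 := d11_1 D494 (iv7 D269) (iv4 F414)
theorem F814 : act 6 n494 = n494 := d14_1 D494 (iv7 D494) (iv6 D265) F296 D265
theorem F815 : act 1 n485 = n494 := d15_1 (iv0 F796) (iv7 D494) (iv2 F692)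
def n496 : Q := act 3 n266
theorem D496 : act 3 n266 = n496 := rfl
def n497 : Q := act 4 n266
theorem D497 : act 4 n266 = n497 := rfl
def n498 : Q := act 5 n266
theorem D498 : act 5 n266 = n498 := rfl
def n499 : Q := act 6 n266
theorem D499 : act 6 n266 = n499 := rfl
theorem F817 : act 5 n499 = n424 := d21_6 F65 (iv1 D13) D16 D70 D266 D499 (iv1 D424) (iv5 D232) (iv6 D61) F275
def n504 : Q := act 6 n267
theorem D504 : act 6 n267 = n504 := rfl
def n505 : Q := act 0 n268
theorem D505 : act 0 n268 = n505 := rfl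
def n506 : Q := act 1 n268
theorem D506 : act 1 n268 = n506 := rfl
theorem F819 : act 5 n417 = n506 := d21_6 F505 F294 (iv5 D60) D61 D230 D417 (iv1 D506) (iv5 D268) (iv6 D70) D67
def n507 : Q := act 4 n268
theorem D507 : act 4 n268 = n507 := rfl
theorem F820 : act 6 n507 = n282 := d10_2 (iv6 F416) D507 (iv4 D282)
def n508 : Q := act 7 n268
theorem D508 : act 7 n268 = n508 := rfl
theorem F821 : act 3 n508 = n321 := d8_1 D508 (iv7 D321) (iv3 F415)
theorem F822 : act 5 n508 = n269 := d13_1 D508 (iv7 D269) D268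
def n512 : Q := act 4 n270
theorem D512 : act 4 n270 = n512 := rfl
theorem F826 : act 2 n512 = n272 := d1_1 D512 (iv4 D272) D270
theorem F827 : act 7 n512 = n277 := d11_2 F419 D512 (iv4 D277)
def n513 : Q := act 5 n270
theorem D513 : act 5 n270 = n513 := rfl
theorem F828 : act 2 n513 = n273 := d2_1 D513 (iv5 D273) D270
theorem F829 : act 7 n513 = n278 := d13_2 F419 D513 (iv5 D278)
def n514 : Q := act 6 n270
theorem D514 : act 6 n270 = n514 := rfl
theorem F830 : act 2 n514 = n274 := d3_1 D514 (iv6 D274) D270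
def n518 : Q := act 4 n271
theorem D518 : act 4 n271 = n518 := rfl
theorem F831 : act 0 n518 = n440 := d20_7 F544 (iv1 D87) F21 (iv3 F17) D71 D271 D518 F740 F511 F300
def n519 : Q := act 5 n271
theorem D519 : act 5 n271 = n519 := rfl
theorem F832 : act 3 n519 = n273 := d6_1 D519 (iv5 D273) D271
def n520 : Q := act 6 n271
theorem D520 : act 6 n271 = n520 := rfl
theorem F833 : act 3 n520 = n274 := d7_1 D520 (iv6 D274) D271
def n521 : Q := act 7 n271
theorem D521 : act 7 n271 = n521 := rfl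
theorem F834 : act 3 n521 = n275 := d8_1 D521 (iv7 D275) D271
def n522 : Q := act 0 n272
theorem D522 : act 0 n272 = n522 := rfl
def n523 : Q := act 1 n272
theorem D523 : act 1 n272 = n523 := rfl
theorem F835 : act 1 n523 = n277 := d15_1 D523 (iv7 F827) F826
def n524 : Q := act 3 n272
theorem D524 : act 3 n272 = n524 := rfl
def n525 : Q := act 5 n272
theorem D525 : act 5 n272 = n525 := rfl
def n526 : Q := act 6 n272
theorem D526 : act 6 n272 = n526 := rfl
theorem F836 : act 4 n526 = n274 := d10_1 D526 (iv6 D274) D272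
def n527 : Q := act 7 n272
theorem D527 : act 7 n272 = n527 := rfl
theorem F837 : act 2 n527 = n277 := d4_1 D527 (iv7 F827) F826
theorem F838 : act 4 n527 = n275 := d11_1 D527 (iv7 D275) D272
theorem F839 : act 1 n277 = n522 := d15_0 (iv0 D522) D527 F837
def n528 : Q := act 0 n273
theorem D528 : act 0 n273 = n528 := rfl
def n529 : Q := act 1 n273
theorem D529 : act 1 n273 = n529 := rfl
theorem F840 : act 1 n529 = n278 := d15_1 D529 (iv7 F829) F828
def n530 : Q := act 4 n273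
theorem D530 : act 4 n273 = n530 := rfl
def n531 : Q := act 6 n273
theorem D531 : act 6 n273 = n531 := rfl
def n532 : Q := act 7 n273
theorem D532 : act 7 n273 = n532 := rfl
theorem F841 : act 2 n532 = n278 := d4_1 D532 (iv7 F829) F828
theorem F842 : act 5 n532 = n275 := d13_1 D532 (iv7 D275) D273
theorem F843 : act 1 n278 = n528 := d15_0 (iv0 D528) D532 F841
def n533 : Q := act 0 n274
theorem D533 : act 0 n274 = n533 := rfl
def n535 : Q := act 5 n274
theorem D535 : act 5 n274 = n535 := rfl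
theorem F844 : act 0 n535 = n411 := d21_7 F504 (iv1 D68) (iv5 D16) D17 D71 D274 D535 (iv5 D411) (iv6 D229) (iv1 F295)
theorem F845 : act 1 n535 = n508 := d15_1 (iv0 F844) (iv7 D508) (iv2 F695)
def n537 : Q := act 6 n275
theorem D537 : act 6 n275 = n537 := rfl
theorem F846 : act 2 n537 = n279 := d3_1 D537 (iv6 D279) (iv2 F420)
def n541 : Q := act 4 n276
theorem D541 : act 4 n276 = n541 := rfl
def n542 : Q := act 5 n276
theorem D542 : act 5 n276 = n542 := rfl
theorem F847 : act 3 n542 = n278 := d6_1 D542 (iv5 D278) D276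
def n543 : Q := act 6 n276
theorem D543 : act 6 n276 = n543 := rfl
theorem F848 : act 3 n543 = n279 := d7_1 D543 (iv6 D279) D276
def n544 : Q := act 3 n277
theorem D544 : act 3 n277 = n544 := rfl
def n545 : Q := act 5 n277
theorem D545 : act 5 n277 = n545 := rfl
def n546 : Q := act 6 n277
theorem D546 : act 6 n277 = n546 := rfl
theorem F849 : act 4 n546 = n279 := d10_1 D546 (iv6 D279) D277
def n547 : Q := act 4 n278
theorem D547 : act 4 n278 = n547 := rfl
def n548 : Q := act 6 n278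
theorem D548 : act 6 n278 = n548 := rfl
def n553 : Q := act 2 n280
theorem D553 : act 2 n280 = n553 := rfl
theorem F850 : act 7 n281 = n553 := d15_2 (iv0 D280) D281 (iv2 D553)
def n554 : Q := act 3 n280
theorem D554 : act 3 n280 = n554 := rfl
def n555 : Q := act 4 n280
theorem D555 : act 4 n280 = n555 := rfl
def n556 : Q := act 5 n280
theorem D556 : act 5 n280 = n556 := rfl
def n557 : Q := act 6 n280
theorem D557 : act 6 n280 = n557 := rfl
def n558 : Q := act 7 n280
theorem D558 : act 7 n280 = n558 := rfl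
theorem F851 : act 2 n558 = n281 := d4_1 D558 F850 (iv2 D553)
def n559 : Q := act 3 n281
theorem D559 : act 3 n281 = n559 := rfl
def n560 : Q := act 4 n281
theorem D560 : act 4 n281 = n560 := rfl
def n561 : Q := act 5 n281
theorem D561 : act 5 n281 = n561 := rfl
theorem F852 : act 6 n561 = n409 := d21_3 (iv5 F710) (iv1 F712) D561 (iv1 F701) F418 (iv5 F822) (iv1 F845) (iv5 D535) (iv6 D274) (iv1 F373)
def n562 : Q := act 6 n281
theorem D562 : act 6 n281 = n562 := rfl
def n563 : Q := act 0 n282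
theorem D563 : act 0 n282 = n563 := rfl
def n564 : Q := act 1 n282
theorem D564 : act 1 n282 = n564 := rfl
def n565 : Q := act 3 n282
theorem D565 : act 3 n282 = n565 := rfl
theorem F853 : act 4 n565 = n341 := d5_2 D282 D565 (iv3 D341) (iv4 D110) (iv3 F59)
def n566 : Q := act 5 n282
theorem D566 : act 5 n282 = n566 := rfl
def n567 : Q := act 7 n282
theorem D567 : act 7 n282 = n567 := rfl
theorem F854 : act 4 n567 = n283 := d11_1 D567 (iv7 D283) D282
def n568 : Q := act 6 n283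
theorem D568 : act 6 n283 = n568 := rfl
theorem F855 : act 3 n568 = n344 := d7_1 D568 (iv6 D344) (iv3 F421)
theorem F856 : act 5 n568 = n568 := d12_1 D568 (iv6 D568) F422 F297 (iv5 F422)
def n569 : Q := act 6 n292
theorem D569 : act 6 n292 = n569 := rfl
theorem F857 : act 2 n569 = n296 := d3_1 D569 (iv6 D296) (iv2 F455)
theorem F858 : act 3 n569 = n569 := d7_1 D569 (iv6 D569) F456
def n570 : Q := act 0 n293
theorem D570 : act 0 n293 = n570 := rfl
def n571 : Q := act 1 n293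
theorem D571 : act 1 n293 = n571 := rfl
theorem F859 : act 1 n571 = n300 := d15_1 D571 (iv7 D300) (iv2 F458)
theorem F860 : act 3 n571 = n464 := d20_5 F95 (iv1 F312) (iv4 F80) (iv3 F511) (iv1 F859) (iv4 D464) (iv1 D248) F57 F17 D24
theorem F861 : act 0 n347 = n518 := d20_7 (iv4 F681) (iv1 F684) D464 (iv3 F860) (iv1 D571) F459 (iv4 F616) (iv4 D518) (iv3 D271) (iv1 F373)
def n572 : Q := act 5 n293
theorem D572 : act 5 n293 = n572 := rfl
theorem F862 : act 2 n572 = n299 := d2_1 D572 (iv5 D299) (iv2 F458)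
theorem F863 : act 3 n572 = n572 := d6_1 D572 (iv5 D572) F459
def n573 : Q := act 7 n293
theorem D573 : act 7 n293 = n573 := rfl
theorem F864 : act 2 n573 = n300 := d4_1 D573 (iv7 D300) (iv2 F458)
theorem F865 : act 3 n573 = n573 := d8_1 D573 (iv7 D573) F459
theorem F866 : act 6 n573 = n573 := d14_1 D573 (iv7 D573) (iv6 D293) F271 D293
theorem F867 : act 1 n300 = n570 := d15_0 (iv0 D570) D573 F864
theorem F868 : act 1 n298 = n573 := d15_1 D298 (iv7 D573) F458
theorem F869 : act 1 n573 = n297 := d15_0 (iv0 D297) D300 (iv2 F864)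
def n574 : Q := act 2 n294
theorem D574 : act 2 n294 = n574 := rfl
theorem F870 : act 4 n574 = n486 := d1_2 (iv4 F460) D574 F799
theorem F872 : act 7 n295 = n574 := d15_2 (iv0 D294) D295 (iv2 D574)
theorem F873 : act 3 n574 = n301 := d8_1 F872 F515 F499
theorem E173 : n574 = n295 := ((c0_3 F873 (iv2 D301) F499 (iv2 D574) F461 D574)).symm
theorem F874 : act 2 n295 = n294 := (sb E173 (iv2 D574))
theorem E174 : n301 = n84 := ((((iv3 F499)).symm.trans (sb E173 F873))).symm
theorem E175 : n486 = n261 := (((F501).symm.trans (sb E173 F870))).symm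
theorem F875 : act 7 n295 = n295 := (sb E173 (iv7 F872))
theorem F876 : act 2 n84 = n84 := (sb E174 (iv2 D301))
theorem F877 : act 7 n84 = n84 := (sb E174 F515)
theorem E176 : n484 = n262 := ((D484).symm.trans (sb E175 F799))
theorem E177 : n444 = n243 := (((F503).symm.trans (sb E175 F801))).symm
theorem F878 : act 7 n261 = n261 := (sb E175 (iv7 D486))
theorem F879 : act 2 n262 = n261 := (sb E176 (iv2 D484))
theorem E178 : n441 = n244 := (((F507).symm.trans (sb E176 F793))).symm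
theorem F880 : act 7 n262 = n262 := (sb E176 (iv7 F794))
theorem F881 : act 7 n243 = n243 := (sb E177 (iv7 D444))
theorem F882 : act 2 n244 = n243 := (sb E178 (iv2 D441))
theorem F883 : act 7 n244 = n244 := (sb E178 (iv7 F742))
theorem F884 : act 7 n445 = n445 := d8_2 F883 D445 (iv3 D445)
theorem F885 : act 7 n446 = n446 := d11_2 F883 D446 (iv4 D446)
theorem F886 : act 7 n442 = n442 := d13_2 F885 F748 (iv5 F748)
theorem F887 : act 2 n446 = n442 := d16_9 (iv4 D442) (iv5 F503) (iv4 F501) F500 F501 F503 D442 (iv5 F748) F885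
theorem F888 : act 7 n487 = n487 := d13_2 F884 (iv5 F804) F804
theorem F889 : act 2 n443 = n447 := d3_3 (iv6 D447) F882 D443
theorem F890 : act 7 n294 = n294 := d11_2 F880 (iv4 F460) F460
theorem F891 : act 2 n485 = n488 := d3_3 (iv6 D488) F879 D485
theorem F892 : act 2 n302 = n302 := d3_3 (iv6 D302) F876 D302
theorem F893 : act 2 n316 = n316 := d2_3 F551 F892 (iv5 F551)
theorem F894 : act 7 n303 = n302 := d15_2 F542 F522 F892
theorem F895 : act 2 n303 = n303 := d4_3 F894 F892 (iv7 F894)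
theorem F896 : act 2 n317 = n317 := d2_3 F553 F895 (iv5 F553)
theorem F897 : act 2 n340 = n340 := d1_3 F600 F896 (iv4 F600)
theorem F898 : act 7 n316 = n317 := d15_2 F559 F558 F896
theorem F899 : act 7 n340 = n339 := d11_2 F898 (iv4 F600) F598
theorem F900 : act 2 n339 = n339 := d4_1 F899 (iv7 F899) F897
def n575 : Q := act 6 n294
theorem D575 : act 6 n294 = n575 := rfl
theorem F901 : act 3 n575 = n575 := d7_1 D575 (iv6 D575) F461
theorem F902 : act 4 n575 = n488 := d10_1 D575 (iv6 D488) (iv4 F460)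
theorem F903 : act 0 n575 = n569 := d21_4 D82 D294 F506 D575 (iv6 D569) (iv5 D292) (iv1 F328) F63 F546 F327
def n576 : Q := act 6 n295
theorem D576 : act 6 n295 = n576 := rfl
theorem F904 : act 2 n576 = n575 := d3_1 D576 (iv6 D575) (iv2 F874)
theorem F905 : act 3 n576 = n302 := d7_1 D576 (iv6 D302) F499
theorem F906 : act 4 n576 = n485 := d10_1 D576 (iv6 D485) (iv4 F501)
theorem F907 : act 0 n576 = n296 := d21_4 D292 (iv1 F498) F500 D576 (iv6 D296) (iv5 D82) D79 F117 F547 (iv1 F269)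
def n577 : Q := act 0 n296
theorem D577 : act 0 n296 = n577 := rfl
def n578 : Q := act 5 n296
theorem D578 : act 5 n296 = n578 := rfl
theorem F908 : act 3 n578 = n305 := d6_1 D578 (iv5 D305) (iv3 F509)
theorem F909 : act 6 n578 = n299 := d12_2 D296 D578 (iv5 D299) (iv6 D83) D82
def n579 : Q := act 7 n296
theorem D579 : act 7 n296 = n579 := rfl
theorem F910 : act 3 n579 = n306 := d8_1 D579 (iv7 D306) (iv3 F509)
theorem F911 : act 6 n579 = n579 := d14_1 D579 (iv7 D579) (iv6 D296) F274 D296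
theorem F912 : act 1 n575 = n579 := d15_1 (iv0 F903) (iv7 D579) (iv2 F857)
def n580 : Q := act 2 n297
theorem D580 : act 2 n297 = n580 := rfl
theorem F913 : act 7 n298 = n580 := d15_2 (iv0 D297) D298 (iv2 D580)
def n581 : Q := act 3 n297
theorem D581 : act 3 n297 = n581 := rfl
theorem F914 : act 4 n581 = n402 := d20_6 F91 (iv1 D25) (iv4 F21) (iv3 F77) D297 D581 (iv1 F683) F388 F60 F311
def n582 : Q := act 4 n297
theorem D582 : act 4 n297 = n582 := rfl
def n583 : Q := act 5 n297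
theorem D583 : act 5 n297 = n583 := rfl
def n584 : Q := act 6 n297
theorem D584 : act 6 n297 = n584 := rfl
def n585 : Q := act 7 n297
theorem D585 : act 7 n297 = n585 := rfl
theorem F915 : act 2 n585 = n298 := d4_1 D585 F913 (iv2 D580)
def n586 : Q := act 3 n298
theorem D586 : act 3 n298 = n586 := rfl
def n587 : Q := act 4 n298
theorem D587 : act 4 n298 = n587 := rfl
def n588 : Q := act 5 n298
theorem D588 : act 5 n298 = n588 := rfl
def n589 : Q := act 6 n298
theorem D589 : act 6 n298 = n589 := rfl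
def n590 : Q := act 0 n299
theorem D590 : act 0 n299 = n590 := rfl
theorem F916 : act 5 n590 = n575 := d21_8 (iv5 D292) (iv1 F328) F63 F546 F327 D83 D299 D590 (iv6 D575) (iv1 F463)
theorem F917 : act 3 n590 = n590 := d6_3 F916 F901 (iv5 F916)
theorem F918 : act 6 n590 = n590 := d12_0 F916 (iv6 D575) F506 D575 (iv5 F916)
def n591 : Q := act 1 n299
theorem D591 : act 1 n299 = n591 := rfl
theorem F919 : act 3 n317 = n591 := d20_3 (iv4 F603) (iv1 F605) F600 (iv1 D591) F510 D318 (iv1 F590) (iv4 D336) F497 (iv1 F323)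
def n592 : Q := act 4 n299
theorem D592 : act 4 n299 = n592 := rfl
def n593 : Q := act 7 n299
theorem D593 : act 7 n299 = n593 := rfl
theorem F920 : act 3 n593 = n319 := d8_1 D593 (iv7 D319) (iv3 F510)
theorem F921 : act 5 n593 = n300 := d13_1 D593 (iv7 D300) D299
def n594 : Q := act 3 n303
theorem D594 : act 3 n303 = n594 := rfl
theorem F922 : act 5 n594 = n591 := d6_2 F553 D594 (iv3 F919)
theorem F923 : act 6 n594 = n594 := d7_2 F554 D594 (iv3 D594)
theorem F924 : act 7 n594 = n576 := d8_2 (iv7 F894) D594 F905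
theorem F925 : act 0 n594 = n579 := d20_4 (iv4 F79) D303 F560 D594 F910 F520 (iv1 F479) F84 F465 F478
theorem F926 : act 4 n492 = n594 := d20_8 F520 (iv1 F479) F84 F465 F478 (iv3 F58) (iv4 F414) D492 (iv3 D594) (iv1 F522)
theorem F927 : act 3 n492 = n492 := d5_5 F926 (iv3 D594) F560 D594 (iv4 F926)
theorem F928 : act 6 n492 = n492 := d10_0 F926 F923 (iv4 F926)
theorem F929 : act 7 n485 = n492 := d11_0 F926 F924 F906
theorem F930 : act 2 n594 = n577 := d15_3 (iv0 D577) (iv0 F907) (iv7 F924)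
theorem F931 : act 3 n577 = n577 := d0_2 D594 F930 (iv2 F930) (iv3 D594) F895
theorem F932 : act 6 n577 = n577 := d3_2 F923 F930 (iv2 F930)
theorem F933 : act 7 n577 = n575 := d4_2 (iv7 F924) F930 (iv2 F904)
theorem F934 : act 1 n594 = n569 := d15_0 (iv0 F903) (iv7 F933) (iv2 F930)
def n595 : Q := act 4 n305
theorem D595 : act 4 n305 = n595 := rfl
theorem F935 : act 2 n595 = n595 := d1_1 D595 (iv4 D595) F517
theorem F936 : act 6 n595 = n318 := d10_2 (iv6 F518) D595 (iv4 D318)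
theorem F937 : act 0 n595 = n327 := d18_2 F526 D595 (iv4 D327) (iv5 D101) F95 (iv0 D24) (iv4 F21) D87 D315
theorem F938 : act 1 n595 = n334 := d18_6 (iv1 F479) F84 F478 (iv4 F79) D305 D595 (iv4 D334) F566 F564
def n596 : Q := act 7 n305
theorem D596 : act 7 n305 = n596 := rfl
theorem F939 : act 2 n596 = n596 := d4_1 D596 (iv7 D596) F517
theorem F940 : act 5 n596 = n306 := d13_1 D596 (iv7 D306) D305
theorem F941 : act 1 n596 = n310 := d15_0 F540 D596 F939
theorem F942 : act 1 n315 = n596 := d15_1 (iv0 F526) (iv7 D596) F517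
def n597 : Q := act 0 n308
theorem D597 : act 0 n308 = n597 := rfl
def n598 : Q := act 1 n308
theorem D598 : act 1 n308 = n598 := rfl
def n599 : Q := act 2 n308
theorem D599 : act 2 n308 = n599 := rfl
def n600 : Q := act 4 n308
theorem D600 : act 4 n308 = n600 := rfl
theorem F944 : act 3 n600 = n600 := d5_1 D600 (iv4 D600) (iv3 D308) F543 D308
def n601 : Q := act 5 n308
theorem D601 : act 5 n308 = n601 := rfl
theorem F945 : act 3 n601 = n310 := d6_1 D601 (iv5 D310) D308
def n602 : Q := act 4 n310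
theorem D602 : act 4 n310 = n602 := rfl
theorem F946 : act 2 n602 = n602 := d1_1 D602 (iv4 D602) F538
theorem F947 : act 1 n602 = n320 := d18_6 (iv1 D25) (iv4 F21) D86 F543 D310 D602 (iv4 D320) (iv0 F320) (iv5 D106)
def n603 : Q := act 6 n310
theorem D603 : act 6 n310 = n603 := rfl
theorem F948 : act 2 n603 = n603 := d3_1 D603 (iv6 D603) F538
def n604 : Q := act 0 n313
theorem D604 : act 0 n313 = n604 := rfl
theorem F949 : act 1 n599 = n604 := d15_0 (iv0 D604) F534 D599
def n606 : Q := act 2 n313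
theorem D606 : act 2 n313 = n606 := rfl
theorem F951 : act 6 n606 = n599 := d3_2 F529 D606 (iv2 D599)
theorem F952 : act 7 n606 = n599 := d4_2 (iv7 F534) D606 (iv2 D599)
theorem F953 : act 1 n606 = n597 := d15_0 (iv0 D597) (iv7 F534) D606
theorem F955 : act 1 n598 = n606 := d15_1 D598 F952 (iv2 D599)
def n607 : Q := act 4 n313
theorem D607 : act 4 n313 = n607 := rfl
theorem F956 : act 3 n607 = n607 := d5_1 D607 (iv4 D607) (iv3 D313) F544 D313
theorem F957 : act 6 n607 = n600 := d10_2 F529 D607 (iv4 D600)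
theorem F958 : act 7 n607 = n600 := d11_2 (iv7 F534) D607 (iv4 D600)
def n608 : Q := act 5 n313
theorem D608 : act 5 n313 = n608 := rfl
theorem F959 : act 3 n608 = n315 := d6_1 D608 (iv5 D315) D313
theorem F960 : act 7 n608 = n601 := d13_2 (iv7 F534) D608 (iv5 D601)
def n609 : Q := act 4 n315
theorem D609 : act 4 n315 = n609 := rfl
theorem F961 : act 2 n609 = n609 := d1_1 D609 (iv4 D609) F539
theorem F962 : act 7 n609 = n602 := d11_2 (iv7 F536) D609 (iv4 D602)
theorem F963 : act 0 n609 = n320 := d18_2 (iv1 F942) D609 (iv4 D320) (iv5 D96) (iv4 F79) (iv0 F541) F516 F542 (iv5 F940)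
def n610 : Q := act 6 n315
theorem D610 : act 6 n315 = n610 := rfl
theorem F964 : act 2 n610 = n610 := d3_1 D610 (iv6 D610) F539
theorem F965 : act 5 n610 = n603 := d12_1 D610 (iv6 D603) (iv5 D310) (iv6 F527) D315
def n611 : Q := act 3 n316
theorem D611 : act 3 n316 = n611 := rfl
theorem F966 : act 5 n611 = n576 := d6_2 (iv5 F551) D611 F905
theorem F967 : act 6 n611 = n611 := d7_2 F552 D611 (iv3 D611)
theorem F968 : act 7 n611 = n591 := d8_2 (iv7 F898) D611 (iv3 F919)
theorem F969 : act 2 n611 = n590 := d15_3 (iv0 D590) D591 (iv7 F968)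
theorem F970 : act 0 n572 = n611 := d21_7 (iv5 D82) D79 F117 F547 (iv1 F269) D293 D572 F966 (iv6 D576) (iv1 D295)
theorem E179 : n571 = n464 := (c17_9 (iv1 D248) D249 D467 F797 (iv4 F906) (iv5 F966) (iv0 F970) (iv5 D572) D571 (iv4 D464))
theorem F971 : act 0 n464 = n293 := (sb E179 (iv1 D571))
theorem F972 : act 1 n464 = n300 := (sb E179 F859)
theorem F973 : act 3 n464 = n464 := (sb E179 F860)
theorem F974 : act 4 n463 = n463 := d5_4 D464 F973 (iv4 D464) D463 (iv3 D463)
theorem E180 : n325 = n24 := (c20_7 (iv4 D464) (iv1 D248) F57 F17 D24 D99 D325 (iv1 F312) (iv4 F80) (iv3 F511) (iv1 F972))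
theorem E181 : n99 = n24 := ((D99).symm.trans (sb E180 (tr F568 E180)))
theorem F975 : act 3 n24 = n24 := (sb E181 (iv3 D99))
theorem E186 : n326 = n101 := (((D101).symm.trans (sb E181 D326))).symm
theorem E187 : n104 = n25 := (((F484).symm.trans (sb E181 (iv6 F487)))).symm
theorem F976 : act 3 n101 = n101 := (sb E186 F569)
theorem E191 : n333 = n106 := (((F492).symm.trans (sb E186 (iv7 F583)))).symm
theorem F977 : act 3 n25 = n25 := (sb E187 (iv3 D104))
theorem F978 : act 3 n106 = n106 := (sb E191 F582)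
theorem F979 : act 3 n335 = n335 := d7_3 (iv6 D335) F978 D335
theorem F980 : act 3 n328 = n328 := d6_3 (iv5 F587) F979 F587
theorem E192 : n459 = n308 := (c20_9 F80 F311 F91 F977 (iv1 D25) (iv3 F17) (iv4 F57) D247 D459 (iv3 D308) (iv1 F301))
theorem E193 : n600 = n247 := ((D600).symm.trans (sb E192 (iv4 D459)))
theorem E194 : n458 = n247 := ((D458).symm.trans (sb E193 (tr F944 E193)))
theorem F981 : act 4 n247 = n308 := (sb E193 (iv4 D600))
theorem E195 : n607 = n461 := (((D461).symm.trans (sb E193 (iv6 F957)))).symm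
theorem E196 : n462 = n461 := ((D462).symm.trans (sb E193 (tr (iv7 F958) E195)))
theorem F982 : act 3 n247 = n247 := (sb E194 (iv3 D458))
theorem F983 : act 3 n461 = n461 := (sb E195 (tr F956 E195))
theorem F984 : act 4 n461 = n313 := (sb E195 (iv4 D607))
theorem F985 : act 2 n461 = n248 := (sb E196 F767)
theorem F986 : act 7 n461 = n247 := (sb E196 (iv7 D462))
theorem E197 : n582 = n402 := (c20_1 D582 (iv1 F683) F388 F60 F311 F977 F91 (iv1 D25) (iv4 F21) (iv3 F77) D297)
theorem E198 : n581 = n297 := (((iv4 F914)).symm.trans (sb E197 (iv4 D582)))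
theorem F987 : act 3 n297 = n297 := (sb E198 (iv3 D581))
theorem F988 : act 4 n297 = n402 := (sb E198 F914)
theorem E199 : n597 = n300 := (c20_5 (iv4 F21) D86 F543 D308 D597 F511 F80 F311 F91 F977 (iv1 D25))
theorem E200 : n606 = n464 := ((((iv1 F972)).symm.trans (sb E199 (iv1 F953)))).symm
theorem E201 : n570 = n308 := ((F867).symm.trans (sb E199 (iv0 D597)))
theorem E202 : n598 = n293 := (((F971).symm.trans (sb E200 (iv1 F955)))).symm
theorem F989 : act 2 n464 = n313 := (sb E200 (iv2 D606))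
theorem F990 : act 6 n464 = n599 := (sb E200 F951)
theorem F991 : act 7 n464 = n599 := (sb E200 F952)
theorem F992 : act 0 n308 = n300 := (sb E201 (iv1 F867))
theorem F993 : act 0 n293 = n308 := (sb E202 (iv1 D598))
theorem F994 : act 0 n420 = n347 := d20_1 D420 F616 F459 F993 (iv3 D308) F543 (iv1 F301) F80 (iv3 F60) (iv1 F365)
theorem E203 : n541 = n420 := (c20_7 (iv4 F981) (iv1 F685) F681 F369 (iv1 F372) D276 D541 F994 F616 F459 F993)
theorem E204 : n276 = n231 := ((((iv4 D420)).symm.trans (sb E203 (iv4 D541)))).symm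
theorem E208 : n419 = n72 := ((D419).symm.trans (sb E204 (iv3 D276)))
theorem E209 : n542 = n421 := (((D421).symm.trans (sb E204 D542))).symm
theorem E210 : n543 = n422 := (((D422).symm.trans (sb E204 D543))).symm
theorem F995 : act 3 n72 = n231 := (sb E208 (iv3 D419))
theorem E212 : n438 = n277 := (((D277).symm.trans (sb E208 F737))).symm
theorem F996 : act 3 n421 = n278 := (sb E209 F847)
theorem F997 : act 3 n422 = n279 := (sb E210 F848)
theorem E213 : n523 = n242 := (((iv1 F835)).symm.trans (sb E212 (iv1 D438)))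
theorem E214 : n437 = n272 := ((D437).symm.trans (sb E213 (iv1 D523)))
theorem F999 : act 1 n242 = n277 := (sb E213 F835)
theorem F1000 : act 1 n272 = n242 := (sb E214 (iv0 D437))
theorem F1001 : act 0 n608 = n578 := d21_7 F506 (iv1 F463) (iv5 D292) D293 F993 F529 D608 (iv5 D578) (iv6 D296) D294
theorem F1002 : act 2 n440 = n522 := d15_3 (iv0 D522) F1000 D440
theorem F1003 : act 4 n522 = n573 := d1_2 (iv4 F740) F1002 F864
theorem F1004 : act 6 n522 = n522 := d3_2 F741 F1002 (iv2 F1002)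
theorem F1005 : act 7 n522 = n347 := d4_2 D440 F1002 F615
theorem E215 : n586 = n87 := (c20_6 D272 D522 F1003 F865 (iv1 F868) D586 F544 (iv1 D87) F21 (iv3 F17) D71)
theorem E216 : n313 = n298 := ((D313).symm.trans (sb E215 (iv3 D586)))
theorem E217 : n604 = n83 := ((((iv1 D298)).symm.trans (sb E216 D604))).symm
theorem E219 : n585 = n464 := (((iv2 F915)).symm.trans (sb E216 (iv2 F989)))
theorem F1006 : act 3 n298 = n87 := (sb E216 (iv3 D313))
theorem E220 : n587 = n461 := ((D587).symm.trans (sb E216 (iv4 F984)))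
theorem E221 : n608 = n588 := (((D588).symm.trans (sb E216 D608))).symm
theorem E222 : n589 = n308 := ((D589).symm.trans (sb E216 (iv6 F529)))
theorem E223 : n580 = n308 := ((F913).symm.trans (sb E216 F534))
theorem E224 : n599 = n297 := (((D297).symm.trans (sb E217 (iv1 F949)))).symm
theorem F1007 : act 2 n464 = n298 := (sb E219 F915)
theorem F1008 : act 4 n461 = n298 := (sb E220 (iv4 D587))
theorem F1009 : act 0 n588 = n578 := (sb E221 F1001)
theorem F1010 : act 3 n588 = n315 := (sb E221 F959)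
theorem F1011 : act 7 n588 = n601 := (sb E221 F960)
theorem F1012 : act 6 n308 = n298 := (sb E222 (iv6 D589))
theorem F1013 : act 7 n308 = n298 := (sb E223 (iv7 F913))
theorem F1014 : act 2 n297 = n308 := (sb E224 (iv2 D599))
theorem E225 : n584 = n464 := ((D584).symm.trans (sb E224 (iv6 F990)))
theorem F1015 : act 7 n297 = n464 := (sb E224 (iv7 F991))
theorem F1016 : act 6 n464 = n297 := (sb E225 (iv6 D584))
theorem E226 : n466 = n402 := ((c10_2 F1016 F988 (iv6 D466) D464)).symm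
theorem F1017 : act 6 n402 = n248 := (sb E226 (iv6 D466))
theorem F1018 : act 0 n578 = n583 := d21_1 D578 (iv5 D583) (iv6 F1016) F971 (iv6 D293) D292 (iv1 F498) F500 D576 F907
theorem F1019 : act 2 n601 = n583 := d15_3 (iv0 F1018) (iv0 F1009) F1011
theorem F1020 : act 3 n583 = n583 := d0_2 (iv3 F945) F1019 (iv2 F1019) F945 F538
theorem E227 : n457 = n402 := (c3_4 F1017 (iv2 F985) (iv6 D461) D457)
theorem F1021 : act 2 n402 = n247 := (sb E227 (iv2 D457))
theorem F1022 : act 7 n402 = n248 := (sb E227 (iv7 F766))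
theorem F1023 : act 0 n465 = n493 := d21_7 F503 (iv1 F385) (iv5 D226) D227 D402 F1017 D465 (iv5 D493) (iv6 D265) D261
theorem E228 : n417 = n72 := (c17_8 (iv1 F684) D465 F1023 (iv5 D493) F414 D268 D506 (iv5 F819) F372 (iv4 F681))
theorem E229 : n506 = n278 := (((D278).symm.trans (sb E228 F819))).symm
theorem E230 : n279 = n230 := ((D279).symm.trans (sb E228 (iv6 D417)))
theorem E231 : n529 = n268 := (((iv1 F840)).symm.trans (sb E229 (iv1 D506)))
theorem E234 : n537 = n413 := (((D413).symm.trans (sb E230 (iv2 F846)))).symm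
theorem E235 : n422 = n414 := (((D414).symm.trans (sb E230 (iv3 F997)))).symm
theorem E236 : n546 = n415 := (((D415).symm.trans (sb E230 (iv4 F849)))).symm
theorem F1024 : act 6 n230 = n72 := (sb E230 (iv6 D279))
theorem E239 : n505 = n273 := ((D505).symm.trans (sb E231 (iv1 D529)))
theorem F1025 : act 1 n268 = n278 := (sb E231 F840)
theorem F1026 : act 6 n413 = n275 := (sb E234 (iv6 D537))
theorem F1027 : act 6 n414 = n231 := (sb E235 (iv6 D422))
theorem F1028 : act 6 n415 = n277 := (sb E236 (iv6 D546))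
theorem F1029 : act 1 n273 = n268 := (sb E239 (iv0 D505))
theorem F1030 : act 2 n508 = n528 := d15_3 (iv0 D528) F1029 D508
theorem F1031 : act 3 n528 = n528 := d0_2 (iv3 F821) F1030 (iv2 F1030) F821 F563
theorem F1032 : act 5 n528 = n412 := d2_2 (iv5 F822) F1030 F698
theorem F1033 : act 7 n528 = n411 := d4_2 D508 F1030 F695
theorem E240 : n504 = n68 := (c21_6 D273 D528 F1032 F700 (iv1 F702) D504 F504 (iv1 D68) (iv5 D16) D17 D71)
theorem E241 : n267 = n260 := (((D260).symm.trans (sb E240 (iv6 D504)))).symm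
theorem E242 : n480 = n70 := ((D480).symm.trans (sb E241 (iv1 D267)))
theorem E243 : n481 = n412 := ((D481).symm.trans (sb E241 F702))
theorem E249 : n477 = n266 := (((D266).symm.trans (sb E242 (iv1 F790)))).symm
theorem F1034 : act 1 n70 = n260 := (sb E242 (iv0 D480))
theorem F1035 : act 0 n412 = n260 := (sb E243 (iv1 D481))
theorem F1036 : act 2 n266 = n483 := (sb E249 (iv2 F787))
theorem E250 : n496 = n483 := ((D496).symm.trans (sb E249 (iv3 F788)))
theorem E251 : n499 = n266 := ((D499).symm.trans (sb E249 (tr F777 E249)))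
theorem F1037 : act 7 n266 = n255 := (sb E249 (iv7 D477))
theorem F1038 : act 3 n483 = n266 := (sb E250 (iv3 D496))
theorem E252 : n498 = n424 := ((D498).symm.trans (sb E251 F817))
theorem F1039 : act 6 n266 = n266 := (sb E251 (iv6 D499))
theorem F1040 : act 5 n424 = n266 := (sb E252 (iv5 D498))
theorem F1041 : act 7 n476 = n424 := d13_0 F1040 F1037 D476
theorem E253 : n394 = n3 := (c21_8 (iv5 F1040) (iv1 D424) (iv5 D232) (iv6 D61) F275 D58 D223 D394 D16 D70 D266)
theorem E254 : n374 = n12 := (((D12).symm.trans (sb E253 (iv1 F668)))).symm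
theorem E255 : n223 = n13 := (((D13).symm.trans (sb E253 (iv0 D394)))).symm
theorem E258 : n217 = n12 := (((F69).symm.trans (sb E254 F638))).symm
theorem E260 : n396 = n56 := (((D56).symm.trans (sb E255 D396))).symm
theorem E261 : n58 = n13 := (((F65).symm.trans (sb E255 (iv5 D223)))).symm
theorem E267 : n360 = n51 := (((D51).symm.trans (sb E258 (iv4 F633)))).symm
theorem E268 : n53 = n12 := ((D53).symm.trans (sb E258 (tr F337 E258)))
theorem E270 : n220 = n56 := ((D220).symm.trans (sb E260 (tr F664 E260)))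
theorem F1042 : act 6 n13 = n13 := (sb E261 (iv6 D58))
theorem E286 : n213 = n51 := ((D213).symm.trans (sb E267 (tr F634 E267)))
theorem F1043 : act 6 n12 = n12 := (sb E268 (iv6 D53))
theorem E287 : n377 = n218 := (((D218).symm.trans (sb E270 (iv3 F646)))).symm
theorem F1044 : act 6 n56 = n56 := (sb E270 (iv6 D220))
theorem E301 : n352 = n211 := (((D211).symm.trans (sb E286 (iv3 F624)))).symm
theorem F1045 : act 6 n51 = n51 := (sb E286 (iv6 D213))
theorem F1046 : act 6 n218 = n218 := (sb E287 (iv6 D377))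
theorem F1047 : act 6 n211 = n211 := (sb E301 (iv6 D352))
theorem F1048 : act 6 n350 = n350 := d3_2 F1047 D350 (iv2 D350)
theorem F1049 : act 6 n375 = n375 := d7_2 F1048 (iv3 F639) F639
theorem F1050 : act 5 n356 = n356 := d12_3 F1045 D212 D356 (iv6 D356) (iv5 D212)
theorem F1051 : act 0 n479 = n489 := d21_4 D346 (iv1 F731) (iv5 F733) D479 (iv6 D489) (iv5 F627) (iv1 D354) (iv5 D212) F1045 D210
theorem E303 : n410 = n255 := (c20_5 F560 (iv1 F522) F520 (iv3 F417) (iv1 F694) (iv3 F399) (iv4 F782) F1051 F807 F509 D303)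
theorem E304 : n474 = n229 := ((D474).symm.trans (sb E303 (iv1 D410)))
theorem E305 : n475 = n269 := ((D475).symm.trans (sb E303 F694))
theorem E306 : n483 = n409 := (((D409).symm.trans (sb E304 (iv1 F792)))).symm
theorem F1052 : act 1 n229 = n255 := (sb E304 (iv0 D474))
theorem F1053 : act 0 n269 = n255 := (sb E305 (iv1 D475))
theorem F1054 : act 2 n409 = n266 := (sb E306 (iv2 F1036))
theorem F1055 : act 3 n409 = n266 := (sb E306 F1038)
theorem E307 : n561 = n409 := (((iv6 F852)).symm.trans (sb E306 (tr F789 E306)))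
theorem F1056 : act 7 n409 = n260 := (sb E306 (iv7 D483))
theorem F1057 : act 5 n409 = n281 := (sb E307 (iv5 D561))
theorem F1058 : act 6 n409 = n409 := (sb E307 F852)
theorem F1059 : act 5 n562 = n562 := d12_3 F1058 F1057 D562 (iv6 D562) (iv5 F1057)
theorem E308 : n558 = n424 := (c2_2 F1057 (iv2 F851) F1040 (iv2 F1054))
theorem F1060 : act 2 n424 = n281 := (sb E308 F851)
theorem E309 : n476 = n280 := (((iv7 F1041)).symm.trans (sb E308 (iv7 D558)))
theorem E310 : n553 = n482 := ((D553).symm.trans (sb E309 (iv2 F784)))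
theorem E311 : n554 = n482 := ((D554).symm.trans (sb E309 (iv3 F785)))
theorem E312 : n556 = n255 := ((D556).symm.trans (sb E309 (iv5 D476)))
theorem E313 : n557 = n280 := ((D557).symm.trans (sb E309 (tr F776 E309)))
theorem F1061 : act 7 n280 = n424 := (sb E309 F1041)
theorem F1062 : act 2 n482 = n280 := (sb E310 (iv2 D553))
theorem F1063 : act 7 n482 = n281 := (sb E310 (iv7 F850))
theorem F1064 : act 3 n482 = n280 := (sb E311 (iv3 D554))
theorem F1065 : act 5 n255 = n280 := (sb E312 (iv5 D556))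
theorem F1066 : act 6 n280 = n280 := (sb E313 (iv6 D557))
theorem E314 : n559 = n424 := (c6_2 F1057 D559 F1040 (iv3 F1055))
theorem F1067 : act 3 n424 = n281 := (sb E314 (iv3 D559))
theorem F1068 : act 4 n563 = n611 := d18_3 (iv1 D281) D282 D563 F966 F906 F815 F813 F701 F1057
theorem F1069 : act 6 n563 = n563 := d10_0 F1068 F967 (iv4 F1068)
theorem F1070 : act 0 n560 = n592 := d20_7 (iv4 F598) (iv1 F604) F603 (iv3 F421) (iv1 F706) F1067 D560 (iv4 D592) F510 D316
theorem F1071 : act 6 n555 = n555 := d10_2 F1066 D555 (iv4 D555)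
theorem E315 : n482 = n423 := ((c21_11 (iv5 D482) (iv1 F1034) D268 F416 D280 F1066 (iv5 F1065) (iv1 F1052) D411 F697 D423)).symm
theorem F1072 : act 2 n423 = n280 := (sb E315 F1062)
theorem F1073 : act 3 n423 = n280 := (sb E315 F1064)
theorem F1074 : act 5 n423 = n260 := (sb E315 (iv5 D482))
theorem F1075 : act 6 n423 = n423 := (sb E315 (tr F786 E315))
theorem F1076 : act 7 n423 = n281 := (sb E315 F1063)
theorem F1077 : act 7 n562 = n562 := d14_2 F1076 D562 (iv6 D562) (iv7 F1076) F1075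
theorem E316 : n533 = n61 := (c21_11 D232 D423 F1074 (iv6 D260) (iv1 D68) D70 D268 (iv1 F1029) (iv5 D273) D274 D533)
theorem E317 : n274 = n231 := (((D231).symm.trans (sb E316 (iv0 D533)))).symm
theorem E319 : n514 = n418 := ((((iv2 F705)).symm.trans (sb E317 (iv2 F830)))).symm
theorem E320 : n520 = n72 := ((((iv3 F995)).symm.trans (sb E317 (iv3 F833)))).symm
theorem E321 : n526 = n420 := (((D420).symm.trans (sb E317 (iv4 F836)))).symm
theorem E322 : n535 = n421 := (((D421).symm.trans (sb E317 D535))).symm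
theorem E323 : n414 = n71 := (((iv6 F1027)).symm.trans (sb E317 (iv6 D274)))
theorem F1078 : act 6 n418 = n270 := (sb E319 (iv6 D514))
theorem E325 : n271 = n230 := ((((iv6 F1024)).symm.trans (sb E320 (iv6 D520)))).symm
theorem F1079 : act 6 n420 = n272 := (sb E321 (iv6 D526))
theorem F1080 : act 0 n421 = n411 := (sb E322 F844)
theorem F1081 : act 1 n421 = n508 := (sb E322 F845)
theorem F1082 : act 6 n71 = n231 := (sb E323 F1027)
theorem F1083 : act 3 n230 = n71 := (sb E325 (iv3 D271))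
theorem E329 : n518 = n415 := (((D415).symm.trans (sb E325 D518))).symm
theorem E330 : n519 = n416 := (((D416).symm.trans (sb E325 D519))).symm
theorem E331 : n521 = n418 := (((D418).symm.trans (sb E325 D521))).symm
theorem F1084 : act 0 n415 = n440 := (sb E329 F831)
theorem F1085 : act 1 n415 = n347 := (sb E329 (iv0 F861))
theorem F1086 : act 3 n416 = n273 := (sb E330 F832)
theorem F1087 : act 3 n418 = n275 := (sb E331 F834)
theorem E332 : n418 = n72 := ((c0_6 F1087 F420 F995 (iv2 F705) F1087 F420)).symm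
theorem E333 : n275 = n231 := (((iv2 F420)).symm.trans (sb E332 F705))
theorem E334 : n270 = n230 := ((((iv6 F1024)).symm.trans (sb E332 F1078))).symm
theorem F1088 : act 2 n231 = n72 := (sb E333 F420)
theorem E337 : n527 = n420 := (((D420).symm.trans (sb E333 (iv4 F838)))).symm
theorem E338 : n532 = n421 := (((D421).symm.trans (sb E333 (iv5 F842)))).symm
theorem E339 : n413 = n71 := ((((iv6 F1082)).symm.trans (sb E333 (iv6 F1026)))).symm
theorem E340 : n512 = n415 := (((D415).symm.trans (sb E334 D512))).symm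
theorem E341 : n513 = n416 := (((D416).symm.trans (sb E334 D513))).symm
theorem F1089 : act 7 n230 = n72 := (sb E334 (iv7 F419))
theorem F1090 : act 2 n420 = n277 := (sb E337 F837)
theorem F1091 : act 7 n420 = n272 := (sb E337 (iv7 D527))
theorem F1092 : act 2 n421 = n278 := (sb E338 F841)
theorem F1093 : act 7 n421 = n273 := (sb E338 (iv7 D532))
theorem F1094 : act 2 n71 = n230 := (sb E339 (iv2 D413))
theorem F1095 : act 7 n71 = n231 := (sb E339 (iv7 F704))
theorem F1096 : act 2 n415 = n272 := (sb E340 F826)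
theorem F1097 : act 7 n415 = n277 := (sb E340 F827)
theorem F1098 : act 2 n416 = n273 := (sb E341 F828)
theorem F1099 : act 7 n416 = n278 := (sb E341 F829)
theorem F1100 : act 1 n508 = n416 := d15_1 F1081 F1099 (iv2 F1092)
theorem F1101 : act 1 n416 = n411 := d15_1 F1100 (iv7 F1033) (iv2 F1030)
theorem F1102 : act 1 n420 = n440 := d15_0 (iv0 F1084) F1097 (iv2 F1090)
theorem E342 : n461 = n403 := (c20_7 D415 F1084 F740 F511 F300 (iv3 F1006) (iv4 F1008) (iv1 D403) F360 F289 D230)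
theorem F1103 : act 2 n403 = n248 := (sb E342 F985)
theorem F1104 : act 3 n403 = n403 := (sb E342 (tr F983 E342))
theorem F1105 : act 4 n403 = n298 := (sb E342 F1008)
theorem F1106 : act 6 n403 = n247 := (sb E342 (iv6 D461))
theorem F1107 : act 7 n403 = n247 := (sb E342 F986)
theorem F1108 : act 0 n493 = n460 := d21_1 D493 (iv5 D460) (iv6 F1106) (iv1 D403) (iv6 D227) D226 (iv1 F386) (iv5 F507) D488 F805
theorem F1109 : act 2 n463 = n463 := d0_3 F1104 F1103 D463 (iv3 D463) (iv2 F1103)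
theorem F1110 : act 0 n592 = n555 := d20_1 D592 (iv4 D555) (iv3 F1073) (iv1 F711) F421 (iv4 F603) (iv1 F605) F600 F919 (iv1 D591)
theorem F1111 : act 0 n489 = n497 := d20_1 (iv4 F807) (iv4 D497) (iv3 F1055) (iv1 F701) F417 (iv4 F520) (iv1 F542) F516 (iv3 F905) F907
theorem F1112 : act 5 n379 = n379 := d2_2 F1050 (iv2 F651) F651
theorem F1113 : act 6 n497 = n497 := d10_2 F1039 D497 (iv4 D497)
theorem F1114 : act 7 n473 = n497 := d11_2 F1037 (iv4 F775) (iv4 D497)
theorem F1115 : act 3 n460 = n460 := d6_3 (iv5 D460) F982 D460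
def n612 : Q := act 6 n317
theorem D612 : act 6 n317 = n612 := rfl
theorem F1116 : act 2 n612 = n612 := d3_1 D612 (iv6 D612) F896
theorem F1117 : act 5 n612 = n612 := d12_1 D612 (iv6 D612) F553 F554 (iv5 F553)
theorem F1118 : act 7 n612 = n612 := d14_2 F898 D612 (iv6 D612) (iv7 F898) F552
def n613 : Q := act 3 n318
theorem D613 : act 3 n318 = n613 := rfl
def n614 : Q := act 5 n318
theorem D614 : act 5 n318 = n614 := rfl
theorem F1119 : act 2 n614 = n614 := d2_1 D614 (iv5 D614) F555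
def n615 : Q := act 7 n318
theorem D615 : act 7 n318 = n615 := rfl
theorem F1120 : act 2 n615 = n615 := d4_1 D615 (iv7 D615) F555
theorem F1121 : act 4 n615 = n319 := d11_1 D615 (iv7 D319) D318
theorem F1122 : act 1 n615 = n336 := d15_0 F590 D615 F1120
theorem F1123 : act 1 n337 = n615 := d15_1 (iv0 F593) (iv7 D615) F555
theorem F1124 : act 0 n611 = n593 := d20_4 D110 D339 F598 D611 F920 (iv4 F1121) (iv1 F1123) (iv4 D337) F496 (iv1 D109)
def n616 : Q := act 6 n319
theorem D616 : act 6 n319 = n616 := rfl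
theorem F1125 : act 2 n616 = n616 := d3_1 D616 (iv6 D616) F556
theorem F1126 : act 5 n616 = n616 := d12_1 D616 (iv6 D616) F557 F303 (iv5 F557)
theorem F1127 : act 0 n616 = n610 := d21_4 (iv5 D310) (iv1 F301) (iv5 F557) D616 (iv6 D610) (iv5 D315) (iv1 D87) D88 (iv6 F518) (iv1 F540)
def n617 : Q := act 3 n320
theorem D617 : act 3 n320 = n617 := rfl
theorem F1128 : act 6 n617 = n341 := d7_2 (iv6 F562) D617 (iv3 D341)
def n618 : Q := act 5 n320
theorem D618 : act 5 n320 = n618 := rfl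
theorem F1129 : act 2 n618 = n618 := d2_1 D618 (iv5 D618) F561
def n619 : Q := act 7 n320
theorem D619 : act 7 n320 = n619 := rfl
theorem F1130 : act 2 n619 = n619 := d4_1 D619 (iv7 D619) F561
theorem F1131 : act 4 n619 = n321 := d11_1 D619 (iv7 D321) D320
theorem F1132 : act 1 n619 = n602 := d15_0 F947 D619 F1130
theorem F1133 : act 1 n609 = n619 := d15_1 (iv0 F963) (iv7 D619) F561
def n620 : Q := act 6 n321
theorem D620 : act 6 n321 = n620 := rfl
theorem F1134 : act 2 n620 = n620 := d3_1 D620 (iv6 D620) F563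
theorem F1135 : act 5 n620 = n620 := d12_1 D620 (iv6 D620) F564 F319 (iv5 F564)
theorem F1136 : act 7 n620 = n344 := d14_2 D321 D620 (iv6 D344) (iv7 D111) (iv6 F87)
theorem F1137 : act 0 n335 = n620 := d21_4 F99 F311 D106 D335 (iv6 D620) F564 (iv1 F479) (iv5 F90) F482 (iv1 F323)
def n621 : Q := act 0 n327
theorem D621 : act 0 n327 = n621 := rfl
theorem F1138 : act 4 n621 = n596 := d18_3 F485 D327 D621 F940 F520 F317 F178 (iv0 D94) D96
theorem F1139 : act 1 n334 = n621 := d15_0 (iv0 D621) (iv7 F585) F584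
theorem F1140 : act 7 n621 = n595 := d15_2 F938 F1139 F935
theorem F1141 : act 2 n621 = n621 := d4_3 F1140 F935 (iv7 F1140)
def n622 : Q := act 3 n327
theorem D622 : act 3 n327 = n622 := rfl
theorem F1142 : act 4 n622 = n622 := d5_2 D327 D622 (iv3 D622) (iv4 D327) F976
def n623 : Q := act 5 n327
theorem D623 : act 5 n327 = n623 := rfl
theorem F1143 : act 2 n623 = n623 := d2_1 D623 (iv5 D623) F570
theorem F1144 : act 1 n623 = n614 := d17_6 (iv1 D109) (iv5 D26) D24 D101 D327 D623 (iv5 D614) (iv0 F593) (iv4 D337)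
def n624 : Q := act 6 n327
theorem D624 : act 6 n327 = n624 := rfl
theorem F1145 : act 2 n624 = n624 := d3_1 D624 (iv6 D624) F570
theorem F1146 : act 4 n624 = n328 := d10_1 D624 (iv6 D328) D327
def n625 : Q := act 0 n328
theorem D625 : act 0 n328 = n625 := rfl
def n626 : Q := act 1 n328
theorem D626 : act 1 n328 = n626 := rfl
theorem F1147 : act 5 n625 = n626 := d21_0 (iv1 D626) (iv5 F587) (iv6 D335) F320 F87 (iv5 D26) D24 D101 D328 D625
theorem F1148 : act 6 n626 = n626 := d21_3 F587 D625 F1147 (iv1 D626) (iv6 D328) (iv5 D101) (iv1 F312) (iv5 F99) D344 F608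
def n627 : Q := act 7 n328
theorem D627 : act 7 n328 = n627 := rfl
theorem F1149 : act 2 n627 = n627 := d4_1 D627 (iv7 D627) F571
theorem F1150 : act 3 n627 = n627 := d8_1 D627 (iv7 D627) F980
theorem F1151 : act 1 n627 = n625 := d15_0 (iv0 D625) D627 F1149
theorem F1152 : act 1 n626 = n627 := d15_1 D626 (iv7 D627) F571
def n628 : Q := act 3 n334
theorem D628 : act 3 n334 = n628 := rfl
theorem F1153 : act 4 n628 = n628 := d5_2 D334 D628 (iv3 D628) (iv4 D334) F978
theorem F1154 : act 7 n628 = n622 := d8_2 (iv7 F585) D628 (iv3 D622)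
def n629 : Q := act 5 n334
theorem D629 : act 5 n334 = n629 := rfl
theorem F1155 : act 2 n629 = n629 := d2_1 D629 (iv5 D629) F584
theorem F1156 : act 7 n629 = n623 := d13_2 (iv7 F585) D629 (iv5 D623)
theorem F1157 : act 4 n629 = n623 := d16_2 D334 D629 (iv5 D623) (iv4 D327) (iv5 D101) F95 D101 F492 F494
theorem F1158 : act 0 n629 = n614 := d17_2 (iv1 F1139) D629 (iv5 D614) (iv4 D318) (iv5 D88) D87 D315 F942 (iv4 F1138)
def n630 : Q := act 6 n334
theorem D630 : act 6 n334 = n630 := rfl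
theorem F1159 : act 2 n630 = n630 := d3_1 D630 (iv6 D630) F584
theorem F1160 : act 4 n630 = n335 := d10_1 D630 (iv6 D335) D334
def n631 : Q := act 7 n335
theorem D631 : act 7 n335 = n631 := rfl
theorem F1161 : act 2 n631 = n631 := d4_1 D631 (iv7 D631) F586
theorem F1162 : act 3 n631 = n631 := d8_1 D631 (iv7 D631) F979
theorem F1163 : act 5 n631 = n627 := d13_1 D631 (iv7 D627) (iv5 F587)
theorem F1164 : act 6 n631 = n627 := d14_1 D631 (iv7 D627) (iv6 D328) F492 D335
theorem F1165 : act 1 n631 = n620 := d15_0 (iv0 F1137) D631 F1161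
theorem F1166 : act 1 n344 = n631 := d15_1 (iv0 F608) (iv7 D631) F586
def n632 : Q := act 3 n336
theorem D632 : act 3 n336 = n632 := rfl
theorem F1167 : act 4 n632 = n632 := d5_2 D336 D632 (iv3 D632) (iv4 D336) F497
theorem F1168 : act 6 n632 = n632 := d7_2 F589 D632 (iv3 D632)
def n633 : Q := act 5 n336
theorem D633 : act 5 n336 = n633 := rfl
theorem F1169 : act 2 n633 = n633 := d2_1 D633 (iv5 D633) F588
def n634 : Q := act 3 n337
theorem D634 : act 3 n337 = n634 := rfl
theorem F1170 : act 4 n634 = n634 := d5_2 D337 D634 (iv3 D634) (iv4 D337) F496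
theorem F1171 : act 7 n634 = n632 := d8_2 (iv7 F592) D634 (iv3 D632)
def n635 : Q := act 5 n337
theorem D635 : act 5 n337 = n635 := rfl
theorem F1172 : act 2 n635 = n635 := d2_1 D635 (iv5 D635) F591
theorem F1173 : act 7 n635 = n633 := d13_2 (iv7 F592) D635 (iv5 D633)
theorem F1174 : act 4 n635 = n633 := d16_2 D337 D635 (iv5 D633) (iv4 D336) F90 F84 (iv5 F90) F475 F474
def n636 : Q := act 6 n337
theorem D636 : act 6 n337 = n636 := rfl
theorem F1175 : act 2 n636 = n636 := d3_1 D636 (iv6 D636) F591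
theorem F1176 : act 4 n636 = n338 := d10_1 D636 (iv6 D338) D337
theorem F1177 : act 7 n636 = n636 := d14_2 (iv7 F592) D636 (iv6 D636) F592 F589
def n637 : Q := act 0 n338
theorem D637 : act 0 n338 = n637 := rfl
theorem F1178 : act 6 n637 = n625 := d21_5 (iv5 D96) D94 F97 D338 D637 F1147 (iv1 D626) (iv5 F587) (iv6 D335) F320
theorem F1179 : act 5 n637 = n637 := d21_8 (iv5 F1163) (iv1 F1166) F607 (iv6 D344) F322 D338 F596 D637 F1178 (iv1 F1151)
theorem F1180 : act 0 n637 = n338 := d21_1 F1179 F596 (iv6 D338) (iv1 D109) (iv6 F87) (iv5 D96) D94 F97 D338 D637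
def n638 : Q := act 3 n339
theorem D638 : act 3 n339 = n638 := rfl
theorem F1181 : act 6 n638 = n638 := d7_2 F599 D638 (iv3 D638)
def n639 : Q := act 5 n339
theorem D639 : act 5 n339 = n639 := rfl
theorem F1182 : act 2 n639 = n639 := d2_1 D639 (iv5 D639) F900
theorem F1183 : act 0 n639 = n618 := d17_2 D339 D639 (iv5 D618) (iv4 D320) (iv5 D96) (iv0 F478) (iv5 F90) (iv0 D108) D110
def n640 : Q := act 3 n340
theorem D640 : act 3 n340 = n640 := rfl
theorem F1184 : act 7 n640 = n638 := d8_2 (iv7 F899) D640 (iv3 D638)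
def n641 : Q := act 5 n340
theorem D641 : act 5 n340 = n641 := rfl
theorem F1185 : act 2 n641 = n641 := d2_1 D641 (iv5 D641) F897
theorem F1186 : act 7 n641 = n639 := d13_2 (iv7 F899) D641 (iv5 D639)
theorem F1187 : act 4 n641 = n639 := d16_2 (iv4 F600) D641 (iv5 D639) F598 F551 F516 (iv5 F551) F898 F896
theorem F1188 : act 1 n641 = n618 := d17_6 F526 (iv5 D305) D303 (iv5 F553) (iv4 F600) D641 (iv5 D618) (iv0 F963) (iv4 D609)
def n642 : Q := act 6 n340
theorem D642 : act 6 n340 = n642 := rfl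
theorem F1189 : act 2 n642 = n642 := d3_1 D642 (iv6 D642) F897
theorem F1190 : act 4 n642 = n612 := d10_1 D642 (iv6 D612) (iv4 F600)
theorem F1191 : act 7 n642 = n642 := d14_2 (iv7 F899) D642 (iv6 D642) F899 F599
def n643 : Q := act 0 n341
theorem D643 : act 0 n341 = n643 := rfl
def n644 : Q := act 1 n341
theorem D644 : act 1 n341 = n644 := rfl
def n645 : Q := act 2 n341
theorem D645 : act 2 n341 = n645 := rfl
theorem F1192 : act 3 n645 = n645 := d0_2 D341 D645 (iv2 D645) (iv3 D341) F321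
def n646 : Q := act 5 n341
theorem D646 : act 5 n341 = n646 := rfl
theorem F1193 : act 3 n646 = n342 := d6_1 D646 (iv5 D342) D341
def n647 : Q := act 7 n341
theorem D647 : act 7 n341 = n647 := rfl
theorem F1194 : act 3 n647 = n343 := d8_1 D647 (iv7 D343) D341
def n648 : Q := act 0 n342
theorem D648 : act 0 n342 = n648 := rfl
theorem F1195 : act 5 n648 = n602 := d17_3 (iv1 D340) D342 D648 (iv4 D602) (iv5 D310) (iv0 D86) D88 D317 (iv4 F600)
theorem F1196 : act 2 n648 = n648 := d2_3 F1195 F946 (iv5 F1195)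
def n649 : Q := act 1 n342
theorem D649 : act 1 n342 = n649 := rfl
theorem F1197 : act 7 n649 = n648 := d15_2 (iv0 D648) D649 F1196
theorem F1198 : act 5 n649 = n609 := d17_7 (iv1 F566) (iv5 D106) (iv1 D25) D26 D110 D342 D649 F1133 F1131
theorem F1199 : act 2 n649 = n649 := d2_3 F1198 F961 (iv5 F1198)
theorem F1200 : act 4 n648 = n649 := d16_0 F1198 (iv4 D609) (iv5 D315) F544 D315 D609 (iv5 F1198) F1197 F1196
def n650 : Q := act 4 n342
theorem D650 : act 4 n342 = n650 := rfl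
theorem F1201 : act 2 n650 = n650 := d1_1 D650 (iv4 D650) F601
theorem F1202 : act 5 n650 = n615 := d16_3 D110 D342 D650 F1121 F557 F80 (iv5 F99) (iv7 D111) F310
theorem F1203 : act 0 n650 = n629 := d18_2 (iv1 D649) D650 F1157 (iv5 D623) (iv4 D327) (iv0 F485) D320 (iv0 F963) (iv5 F1198)
theorem F1204 : act 1 n650 = n623 := d18_6 (iv1 F1123) (iv4 D337) (iv1 D109) D110 D342 D650 (iv4 F1157) (iv0 F1203) F1202
theorem F1205 : act 7 n614 = n650 := d16_8 (iv4 D650) (iv5 D342) (iv4 D110) (iv5 D26) (iv4 F21) D88 D318 D614 F1201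
def n651 : Q := act 6 n342
theorem D651 : act 6 n342 = n651 := rfl
theorem F1206 : act 2 n651 = n651 := d3_1 D651 (iv6 D651) F601
def n652 : Q := act 7 n342
theorem D652 : act 7 n342 = n652 := rfl
theorem F1207 : act 2 n652 = n652 := d4_1 D652 (iv7 D652) F601
theorem F1208 : act 4 n652 = n614 := d11_1 D652 F1205 (iv4 D650)
theorem F1209 : act 5 n652 = n343 := d13_1 D652 (iv7 D343) D342
theorem F1210 : act 1 n652 = n648 := d15_0 (iv0 D648) D652 F1207
theorem F1211 : act 1 n649 = n652 := d15_1 D649 (iv7 D652) F601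
def n653 : Q := act 6 n343
theorem D653 : act 6 n343 = n653 := rfl
theorem F1212 : act 2 n653 = n653 := d3_1 D653 (iv6 D653) F602
theorem F1213 : act 4 n653 = n344 := d10_1 D653 (iv6 D344) (iv4 F603)
def n654 : Q := act 5 n345
theorem D654 : act 5 n345 = n654 := rfl
theorem F1214 : act 2 n654 = n398 := d2_1 D654 (iv5 D398) (iv2 F609)
theorem F1215 : act 3 n654 = n346 := d6_1 D654 (iv5 D346) D345
theorem F1216 : act 7 n654 = n654 := d13_2 F611 D654 (iv5 D654)
def n655 : Q := act 6 n345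
theorem D655 : act 6 n345 = n655 := rfl
theorem F1217 : act 2 n655 = n399 := d3_1 D655 (iv6 D399) (iv2 F609)
theorem F1218 : act 3 n655 = n347 := d7_1 D655 (iv6 D347) D345
theorem F1219 : act 4 n655 = n655 := d10_1 D655 (iv6 D655) F610
theorem F1220 : act 0 n544 = n655 := d20_4 F681 (iv1 F372) D277 D544 F1218 F616 F993 (iv4 F981) F982 (iv1 F685)
def n656 : Q := act 4 n346
theorem D656 : act 4 n346 = n656 := rfl
theorem F1221 : act 2 n656 = n435 := d1_1 D656 (iv4 D435) (iv2 F613)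
theorem F1222 : act 7 n656 = n656 := d11_2 F614 D656 (iv4 D656)
theorem F1223 : act 0 n656 = n442 := d18_2 (iv1 F729) D656 (iv4 D442) (iv5 F503) (iv4 F501) F498 (iv4 F770) (iv0 D471) (iv5 F728)
theorem F1224 : act 1 n656 = n446 := d18_6 F263 (iv4 F72) (iv1 F269) (iv4 F192) D346 D656 (iv4 D446) F386 (iv5 D226)
def n657 : Q := act 6 n346
theorem D657 : act 6 n346 = n657 := rfl
theorem F1225 : act 2 n657 = n436 := d3_1 D657 (iv6 D436) (iv2 F613)
def n658 : Q := act 5 n347
theorem D658 : act 5 n347 = n658 := rfl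
theorem F1226 : act 2 n658 = n439 := d2_1 D658 (iv5 D439) (iv2 F615)
def n659 : Q := act 2 n348
theorem D659 : act 2 n348 = n659 := rfl
theorem F1227 : act 7 n349 = n659 := d15_2 (iv0 D348) D349 (iv2 D659)
theorem F1228 : act 3 n659 = n659 := d8_1 F1227 (iv7 F1227) F618
theorem F1229 : act 2 n429 = n429 := d0_3 F1228 (iv2 D659) (iv3 F717) F717 D659
theorem F1230 : act 7 n429 = n429 := d15_2 (iv0 D429) (iv0 F719) F1229
theorem F1231 : act 7 n348 = n348 := d8_2 F1230 F717 (iv3 F717)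
theorem E343 : n659 = n349 := ((c4_3 F1231 D659 (iv7 F1227) (iv2 D659))).symm
theorem F1232 : act 2 n349 = n348 := (sb E343 (iv2 D659))
theorem F1233 : act 7 n349 = n349 := (sb E343 (iv7 F1227))
def n660 : Q := act 5 n348
theorem D660 : act 5 n348 = n660 := rfl
theorem F1234 : act 7 n660 = n660 := d13_2 F1231 D660 (iv5 D660)
def n661 : Q := act 6 n348
theorem D661 : act 6 n348 = n661 := rfl
def n662 : Q := act 5 n349
theorem D662 : act 5 n349 = n662 := rfl
theorem F1235 : act 2 n662 = n660 := d2_1 D662 (iv5 D660) (iv2 F1232)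
theorem F1236 : act 3 n662 = n662 := d6_1 D662 (iv5 D662) F618
theorem F1237 : act 7 n662 = n662 := d13_2 F1233 D662 (iv5 D662)
def n663 : Q := act 6 n349
theorem D663 : act 6 n349 = n663 := rfl
theorem F1238 : act 2 n663 = n661 := d3_1 D663 (iv6 D661) (iv2 F1232)
theorem F1239 : act 3 n663 = n663 := d7_1 D663 (iv6 D663) F618
theorem F1240 : act 4 n663 = n661 := d10_1 D663 (iv6 D661) F617
def n664 : Q := act 5 n350
theorem D664 : act 5 n350 = n664 := rfl
theorem F1241 : act 2 n664 = n351 := d2_1 D664 (iv5 D351) D350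
theorem F1242 : act 7 n664 = n664 := d13_2 F619 D664 (iv5 D664)
def n665 : Q := act 0 n351
theorem D665 : act 0 n351 = n665 := rfl
theorem F1243 : act 1 n664 = n665 := d15_0 (iv0 D665) F623 (iv2 F1241)
def n666 : Q := act 1 n351
theorem D666 : act 1 n351 = n666 := rfl
theorem F1244 : act 1 n666 = n664 := d15_1 D666 F1242 F1241
def n667 : Q := act 4 n351
theorem D667 : act 4 n351 = n667 := rfl
theorem F1245 : act 7 n667 = n667 := d11_2 F623 D667 (iv4 D667)
def n668 : Q := act 6 n351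
theorem D668 : act 6 n351 = n668 := rfl
theorem F1246 : act 3 n668 = n356 := d7_1 D668 (iv6 D356) (iv3 F622)
theorem F1247 : act 5 n668 = n668 := d12_1 D668 (iv6 D668) (iv5 D351) F1047 D351
def n669 : Q := act 3 n353
theorem D669 : act 3 n353 = n669 := rfl
theorem F1248 : act 7 n669 = n669 := d8_2 F631 D669 (iv3 D669)
def n670 : Q := act 4 n353
theorem D670 : act 4 n353 = n670 := rfl
theorem F1249 : act 7 n670 = n670 := d11_2 F631 D670 (iv4 D670)
theorem F1250 : act 5 n670 = n435 := d16_1 D670 (iv4 D435) (iv5 D241) F56 D82 (iv4 F394) (iv5 F627) F629 F630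
theorem F1251 : act 0 n670 = n427 := d18_2 D353 D670 (iv4 D427) (iv5 D235) F64 F328 (iv4 F192) (iv0 D210) D212
theorem F1252 : act 1 n670 = n431 := d18_6 (iv1 F393) (iv4 F460) (iv1 F463) (iv4 F770) F769 D670 (iv4 D431) (iv0 F690) (iv5 D407)
theorem F1253 : act 0 n376 = n669 := d20_4 (iv4 F760) F761 (iv4 D378) (iv3 F644) (iv3 D669) D670 F1251 (iv4 D427) F375 (iv1 F691)
def n671 : Q := act 6 n353
theorem D671 : act 6 n353 = n671 := rfl
def n672 : Q := act 4 n354
theorem D672 : act 4 n354 = n672 := rfl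
theorem F1254 : act 2 n672 = n670 := d1_1 D672 (iv4 D670) (iv2 F630)
theorem F1255 : act 5 n672 = n656 := d9_2 (iv5 F627) D672 (iv4 D656) (iv5 D346) F192 D292 (iv4 F770) F769 D670 F1250 (iv4 D435) (iv5 D241) F56 D82 (iv4 F394)
theorem F1256 : act 7 n672 = n672 := d11_2 F629 D672 (iv4 D672)
theorem F1257 : act 0 n672 = n431 := d18_2 (iv1 F626) D672 (iv4 D431) (iv5 D239) (iv4 F72) (iv0 D79) (iv4 F56) (iv0 F259) D219
theorem F1258 : act 1 n672 = n427 := d18_6 D261 (iv4 F501) (iv1 D295) (iv4 F394) (iv5 F627) D672 (iv4 D427) F441 (iv5 D264)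
def n673 : Q := act 6 n354
theorem D673 : act 6 n354 = n673 := rfl
theorem F1259 : act 2 n673 = n671 := d3_1 D673 (iv6 D671) (iv2 F630)
theorem F1260 : act 3 n673 = n491 := d7_1 D673 (iv6 D491) F628
def n674 : Q := act 3 n355
theorem D674 : act 3 n355 = n674 := rfl
theorem F1261 : act 7 n674 = n674 := d8_2 F632 D674 (iv3 D674)
def n675 : Q := act 6 n355
theorem D675 : act 6 n355 = n675 := rfl
theorem F1262 : act 4 n675 = n356 := d10_1 D675 (iv6 D356) D355
def n676 : Q := act 0 n356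
theorem D676 : act 0 n356 = n676 := rfl
def n677 : Q := act 1 n356
theorem D677 : act 1 n356 = n677 := rfl
def n678 : Q := act 7 n356
theorem D678 : act 7 n356 = n678 := rfl
theorem F1263 : act 5 n678 = n678 := d13_1 D678 (iv7 D678) F1050
theorem F1264 : act 6 n678 = n678 := d14_1 D678 (iv7 D678) (iv6 D356) F334 D356
def n679 : Q := act 5 n375
theorem D679 : act 5 n375 = n679 := rfl
theorem F1265 : act 2 n679 = n376 := d2_1 D679 (iv5 D376) D375
theorem F1266 : act 3 n679 = n664 := d6_1 D679 (iv5 D664) (iv3 F639)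
theorem F1267 : act 7 n679 = n679 := d13_2 F641 D679 (iv5 D679)
theorem F1268 : act 1 n679 = n669 := d15_0 (iv0 F1253) F645 (iv2 F1265)
def n680 : Q := act 1 n376
theorem D680 : act 1 n376 = n680 := rfl
theorem F1269 : act 1 n680 = n679 := d15_1 D680 F1267 F1265
theorem F1270 : act 3 n407 = n680 := d20_3 D355 (iv1 F762) F760 (iv1 D680) F644 D378 (iv1 F812) (iv4 D490) F628 (iv1 D354)
theorem F1271 : act 2 n680 = n669 := d0_1 F1270 (iv3 D669) (iv2 F630) (iv3 F628) (iv2 F688)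
theorem F1272 : act 5 n680 = n406 := d6_2 D407 F1270 (iv3 D406)
theorem F1273 : act 7 n680 = n680 := d8_2 F689 F1270 (iv3 F1270)
def n681 : Q := act 4 n376
theorem D681 : act 4 n376 = n681 := rfl
theorem F1274 : act 7 n681 = n681 := d11_2 F645 D681 (iv4 D681)
def n682 : Q := act 6 n376
theorem D682 : act 6 n376 = n682 := rfl
theorem F1275 : act 3 n682 = n379 := d7_1 D682 (iv6 D379) (iv3 F644)
theorem F1276 : act 5 n682 = n682 := d12_1 D682 (iv6 D682) (iv5 D376) F1046 D376
def n683 : Q := act 3 n378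
theorem D683 : act 3 n378 = n683 := rfl
theorem F1277 : act 5 n683 = n674 := d6_2 (iv5 F650) D683 (iv3 D674)
theorem F1278 : act 7 n683 = n683 := d8_2 F649 D683 (iv3 D683)
def n684 : Q := act 6 n378
theorem D684 : act 6 n378 = n684 := rfl
theorem F1279 : act 2 n684 = n675 := d3_1 D684 (iv6 D675) (iv2 F648)
theorem F1280 : act 4 n684 = n379 := d10_1 D684 (iv6 D379) D378
def n685 : Q := act 0 n379
theorem D685 : act 0 n379 = n685 := rfl
def n686 : Q := act 1 n379
theorem D686 : act 1 n379 = n686 := rfl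
theorem F1281 : act 1 n686 = n678 := d15_1 D686 (iv7 D678) (iv2 F651)
def n687 : Q := act 7 n379
theorem D687 : act 7 n379 = n687 := rfl
theorem F1282 : act 2 n687 = n678 := d4_1 D687 (iv7 D678) (iv2 F651)
theorem F1283 : act 5 n687 = n687 := d13_1 D687 (iv7 D687) F1112
theorem F1284 : act 6 n687 = n687 := d14_1 D687 (iv7 D687) (iv6 D379) F341 D379
theorem F1285 : act 1 n678 = n685 := d15_0 (iv0 D685) D687 F1282
theorem F1286 : act 1 n677 = n687 := d15_1 D677 (iv7 D687) F651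
theorem F1287 : act 1 n687 = n676 := d15_0 (iv0 D676) D678 (iv2 F1282)
def n688 : Q := act 0 n398
theorem D688 : act 0 n398 = n688 := rfl
theorem F1288 : act 3 n688 = n434 := d20_5 (iv4 F750) (iv1 F751) (iv4 D400) (iv3 F671) D688 (iv4 F754) (iv1 D449) (iv4 D245) (iv3 F381) D433
theorem F1289 : act 1 n654 = n688 := d15_0 (iv0 D688) F672 (iv2 F1214)
theorem F1290 : act 5 n478 = n688 := d6_0 F1288 (iv5 F733) D478
theorem F1291 : act 7 n688 = n688 := d8_0 F1288 F734 (iv3 F1288)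
def n689 : Q := act 1 n398
theorem D689 : act 1 n398 = n689 := rfl
theorem F1292 : act 1 n689 = n654 := d15_1 D689 F1216 F1214
theorem F1293 : act 2 n688 = n689 := d15_3 F1292 F1289 F1291
theorem F1294 : act 7 n689 = n689 := d4_2 F1291 F1293 (iv2 F1293)
def n690 : Q := act 4 n398
theorem D690 : act 4 n398 = n690 := rfl
theorem F1295 : act 7 n690 = n690 := d11_2 F672 D690 (iv4 D690)
def n691 : Q := act 6 n398
theorem D691 : act 6 n398 = n691 := rfl
theorem F1296 : act 3 n691 = n401 := d7_1 D691 (iv6 D401) (iv3 F671)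
def n692 : Q := act 0 n399
theorem D692 : act 0 n399 = n692 := rfl
theorem F1297 : act 3 n692 = n415 := d20_5 (iv4 D420) (iv1 D231) (iv4 F360) (iv3 F673) D692 (iv4 D415) (iv1 F371) (iv4 F388) (iv3 F739) (iv1 F1102)
theorem F1298 : act 4 n692 = n524 := d20_8 F1003 (iv1 F868) (iv4 F1105) F1104 (iv1 D403) (iv3 F673) F674 D692 (iv3 D524) D522
theorem F1299 : act 6 n544 = n692 := d7_0 F1297 F1028 D544
theorem F1300 : act 7 n544 = n692 := d8_0 F1297 F1097 D544
def n693 : Q := act 1 n399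
theorem D693 : act 1 n399 = n693 := rfl
def n694 : Q := act 5 n399
theorem D694 : act 5 n399 = n694 := rfl
theorem F1301 : act 3 n694 = n404 := d6_1 D694 (iv5 D404) (iv3 F673)
def n695 : Q := act 7 n399
theorem D695 : act 7 n399 = n695 := rfl
theorem F1302 : act 3 n695 = n405 := d8_1 D695 (iv7 D405) (iv3 F673)
theorem F1303 : act 4 n695 = n695 := d11_1 D695 (iv7 D695) F674
theorem F1304 : act 6 n695 = n695 := d14_1 D695 (iv7 D695) (iv6 D399) F355 D399
theorem F1305 : act 1 n544 = n695 := d15_1 (iv0 F1220) (iv7 D695) (iv2 F1217)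
def n696 : Q := act 3 n400
theorem D696 : act 3 n400 = n696 := rfl
theorem F1306 : act 7 n696 = n696 := d8_2 F676 D696 (iv3 D696)
def n697 : Q := act 6 n400
theorem D697 : act 6 n400 = n697 := rfl
theorem F1307 : act 2 n697 = n452 := d3_1 D697 (iv6 D452) (iv2 F675)
theorem F1308 : act 4 n697 = n401 := d10_1 D697 (iv6 D401) D400
def n698 : Q := act 0 n401
theorem D698 : act 0 n401 = n698 := rfl
def n699 : Q := act 1 n401
theorem D699 : act 1 n401 = n699 := rfl
theorem F1309 : act 1 n699 = n456 := d15_1 D699 (iv7 D456) (iv2 F677)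
def n700 : Q := act 5 n401
theorem D700 : act 5 n401 = n700 := rfl
theorem F1310 : act 2 n700 = n455 := d2_1 D700 (iv5 D455) (iv2 F677)
theorem F1311 : act 6 n700 = n404 := d12_2 D401 D700 (iv5 D404) (iv6 D227) D226
def n701 : Q := act 7 n401
theorem D701 : act 7 n401 = n701 := rfl
theorem F1312 : act 2 n701 = n456 := d4_1 D701 (iv7 D456) (iv2 F677)
theorem F1313 : act 6 n701 = n701 := d14_1 D701 (iv7 D701) (iv6 D401) F358 D401
theorem F1314 : act 1 n456 = n698 := d15_0 (iv0 D698) D701 F1312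
theorem F1315 : act 1 n454 = n701 := d15_1 D454 (iv7 D701) F677
theorem F1316 : act 1 n701 = n453 := d15_0 (iv0 D453) D456 (iv2 F1312)
def n702 : Q := act 3 n402
theorem D702 : act 3 n402 = n702 := rfl
theorem F1317 : act 2 n702 = n702 := d0_1 D702 (iv3 D702) F1021 F982 (iv2 F1021)
theorem F1318 : act 4 n702 = n702 := d5_2 F988 D702 (iv3 D702) (iv4 F988) F987
theorem F1319 : act 6 n702 = n463 := d7_2 (iv6 F1017) D702 (iv3 D463)
theorem F1320 : act 7 n702 = n463 := d8_2 (iv7 F1022) D702 (iv3 D463)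
def n703 : Q := act 5 n402
theorem D703 : act 5 n402 = n703 := rfl
theorem F1321 : act 2 n703 = n460 := d2_1 D703 (iv5 D460) (iv2 F1021)
theorem F1322 : act 7 n703 = n465 := d13_2 (iv7 F1022) D703 (iv5 D465)
def n704 : Q := act 5 n403
theorem D704 : act 5 n403 = n704 := rfl
theorem F1323 : act 2 n704 = n465 := d2_1 D704 (iv5 D465) (iv2 F1103)
theorem F1324 : act 3 n704 = n704 := d6_1 D704 (iv5 D704) F1104
theorem F1325 : act 7 n704 = n460 := d13_2 (iv7 F1107) D704 (iv5 D460)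
def n705 : Q := act 0 n404
theorem D705 : act 0 n404 = n705 := rfl
theorem F1326 : act 5 n705 = n488 := d17_3 (iv1 D403) D404 D705 (iv4 F902) (iv5 F916) (iv0 D590) (iv5 D299) D298 (iv4 F1105)
theorem F1327 : act 2 n467 = n705 := d2_3 F1326 (iv2 F891) (iv5 F797)
theorem F1328 : act 7 n468 = n705 := d15_2 (iv0 D467) D468 (iv2 F1327)
def n706 : Q := act 1 n404
theorem D706 : act 1 n404 = n706 := rfl
theorem F1329 : act 1 n706 = n470 := d15_1 D706 (iv7 D470) (iv2 F679)
theorem F1330 : act 7 n706 = n467 := d15_2 (iv0 D705) D706 F1327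
theorem F1331 : act 5 n706 = n492 := d17_7 D266 (iv5 F1040) (iv1 D424) (iv5 D232) (iv4 F360) D404 D706 (iv0 D492) F414
theorem F1332 : act 3 n706 = n706 := d6_3 F1331 F927 (iv5 F1331)
theorem F1333 : act 2 n468 = n706 := d4_3 F1330 F1327 (iv7 F1328)
theorem F1334 : act 1 n470 = n705 := d15_1 F1329 (iv7 F1328) F1333
def n707 : Q := act 4 n404
theorem D707 : act 4 n404 = n707 := rfl
theorem F1335 : act 2 n707 = n469 := d1_1 D707 (iv4 D469) (iv2 F679)
def n708 : Q := act 7 n404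
theorem D708 : act 7 n404 = n708 := rfl
theorem F1336 : act 2 n708 = n470 := d4_1 D708 (iv7 D470) (iv2 F679)
theorem F1337 : act 5 n708 = n405 := d13_1 D708 (iv7 D405) D404
theorem F1338 : act 1 n468 = n708 := d15_1 D468 (iv7 D708) F679
theorem F1339 : act 1 n708 = n467 := d15_1 F1338 (iv7 F1330) (iv2 F1333)
def n709 : Q := act 1 n406
theorem D709 : act 1 n406 = n709 := rfl
def n710 : Q := act 2 n406
theorem D710 : act 2 n406 = n710 := rfl
theorem F1340 : act 3 n710 = n471 := d0_2 D406 D710 (iv2 F771) (iv3 D263) (iv2 F361)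
theorem F1341 : act 4 n710 = n710 := d1_2 F686 D710 (iv2 D710)
theorem F1342 : act 5 n710 = n669 := d2_2 F1272 D710 (iv2 F1271)
theorem F1343 : act 7 n710 = n710 := d4_2 F687 D710 (iv2 D710)
theorem F1344 : act 1 n710 = n478 := d15_0 (iv0 F780) F687 D710
theorem F1345 : act 1 n709 = n710 := d15_1 D709 F1343 (iv2 D710)
theorem F1346 : act 2 n478 = n709 := d15_3 F1345 F1344 F779
theorem F1347 : act 5 n709 = n689 := d2_2 (iv5 F1290) F1346 (iv2 F1293)
theorem F1348 : act 7 n709 = n709 := d4_2 F779 F1346 (iv2 F1346)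
def n711 : Q := act 6 n406
theorem D711 : act 6 n406 = n711 := rfl
theorem F1349 : act 3 n711 = n408 := d7_1 D711 (iv6 D408) D406
theorem F1350 : act 4 n711 = n711 := d10_1 D711 (iv6 D711) F686
def n712 : Q := act 6 n407
theorem D712 : act 6 n407 = n712 := rfl
theorem F1351 : act 2 n712 = n491 := d3_1 D712 (iv6 D491) (iv2 F688)
def n713 : Q := act 0 n408
theorem D713 : act 0 n408 = n713 := rfl
theorem F1352 : act 5 n713 = n468 := d17_1 D713 (iv1 D468) (iv5 D249) F57 D73 D281 (iv5 F1057) (iv0 D409) (iv4 F693)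
theorem F1353 : act 6 n713 = n713 := d21_5 D235 (iv1 F691) (iv5 D407) D408 D713 F1352 (iv1 D468) (iv5 D249) (iv6 D66) D62
theorem F1354 : act 2 n492 = n713 := d15_3 (iv0 D713) (iv0 F796) F929
theorem F1355 : act 4 n713 = n577 := d1_2 (iv4 F926) F1354 (iv2 F930)
theorem F1356 : act 7 n713 = n488 := d4_2 F929 F1354 (iv2 F891)
theorem F1357 : act 1 n494 = n713 := d15_1 F815 F1356 (iv2 F891)
def n714 : Q := act 5 n408
theorem D714 : act 5 n408 = n714 := rfl
theorem F1358 : act 2 n714 = n493 := d2_1 D714 (iv5 D493) (iv2 F692)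
theorem F1359 : act 0 n714 = n703 := d17_2 F796 D714 (iv5 D703) (iv4 F988) D583 (iv0 F1018) (iv5 D578) (iv0 F907) F906
theorem F1360 : act 1 n714 = n704 := d17_6 (iv1 F365) D421 F1080 (iv5 D411) (iv4 F693) D714 (iv5 D704) F678 F388
def n715 : Q := act 7 n408
theorem D715 : act 7 n408 = n715 := rfl
theorem F1361 : act 2 n715 = n494 := d4_1 D715 (iv7 D494) (iv2 F692)
theorem F1362 : act 4 n715 = n412 := d11_1 D715 (iv7 D412) (iv4 F693)
theorem F1363 : act 6 n715 = n715 := d14_1 D715 (iv7 D715) (iv6 D408) F362 D408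
theorem F1364 : act 1 n488 = n715 := d15_1 (iv0 F805) (iv7 D715) F692
theorem F1365 : act 1 n715 = n492 := d15_1 F1364 (iv7 F929) F891
def n716 : Q := act 4 n409
theorem D716 : act 4 n409 = n716 := rfl
theorem F1366 : act 2 n716 = n497 := d1_1 D716 (iv4 D497) (iv2 F1054)
theorem F1367 : act 6 n716 = n716 := d10_2 F1058 D716 (iv4 D716)
theorem F1368 : act 7 n716 = n479 := d11_2 (iv7 F1056) D716 F782
def n717 : Q := act 4 n411
theorem D717 : act 4 n411 = n717 := rfl
theorem F1369 : act 2 n717 = n507 := d1_1 D717 (iv4 D507) (iv2 F695)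
theorem F1370 : act 6 n717 = n425 := d10_2 (iv6 F697) D717 (iv4 D425)
def n718 : Q := act 5 n415
theorem D718 : act 5 n415 = n718 := rfl
theorem F1371 : act 2 n718 = n525 := d2_1 D718 (iv5 D525) (iv2 F1096)
theorem F1372 : act 7 n718 = n545 := d13_2 (iv7 F1097) D718 (iv5 D545)
def n719 : Q := act 4 n416
theorem D719 : act 4 n416 = n719 := rfl
theorem F1373 : act 2 n719 = n530 := d1_1 D719 (iv4 D530) (iv2 F1098)
theorem F1374 : act 7 n719 = n547 := d11_2 (iv7 F1099) D719 (iv4 D547)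
def n720 : Q := act 6 n416
theorem D720 : act 6 n416 = n720 := rfl
theorem F1375 : act 2 n720 = n531 := d3_1 D720 (iv6 D531) (iv2 F1098)
theorem F1376 : act 3 n720 = n531 := d7_1 D720 (iv6 D531) (iv3 F1086)
theorem F1377 : act 5 n720 = n548 := d12_1 D720 (iv6 D548) (iv5 D278) (iv6 F1024) D416
def n721 : Q := act 3 n420
theorem D721 : act 3 n420 = n721 := rfl
theorem F1378 : act 4 n721 = n544 := d5_2 D420 D721 (iv3 D544) (iv4 D277) F995
theorem F1379 : act 6 n721 = n524 := d7_2 (iv6 F1079) D721 (iv3 D524)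
theorem F1380 : act 7 n721 = n524 := d8_2 (iv7 F1091) D721 (iv3 D524)
def n722 : Q := act 5 n420
theorem D722 : act 5 n420 = n722 := rfl
theorem F1381 : act 2 n722 = n545 := d2_1 D722 (iv5 D545) (iv2 F1090)
theorem F1382 : act 7 n722 = n525 := d13_2 (iv7 F1091) D722 (iv5 D525)
def n723 : Q := act 4 n421
theorem D723 : act 4 n421 = n723 := rfl
theorem F1383 : act 2 n723 = n547 := d1_1 D723 (iv4 D547) (iv2 F1092)
theorem F1384 : act 7 n723 = n530 := d11_2 (iv7 F1093) D723 (iv4 D530)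
def n724 : Q := act 6 n421
theorem D724 : act 6 n421 = n724 := rfl
theorem F1385 : act 2 n724 = n548 := d3_1 D724 (iv6 D548) (iv2 F1092)
theorem F1386 : act 3 n724 = n548 := d7_1 D724 (iv6 D548) (iv3 F996)
theorem F1387 : act 5 n724 = n531 := d12_1 D724 (iv6 D531) (iv5 D273) F1082 D421
theorem F1388 : act 0 n568 = n724 := d21_4 (iv5 D416) (iv1 F371) (iv5 F422) D568 (iv6 D724) (iv5 D421) (iv1 D231) D232 (iv6 F697) (iv1 F1101)
def n725 : Q := act 4 n423
theorem D725 : act 4 n423 = n725 := rfl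
theorem F1389 : act 2 n725 = n555 := d1_1 D725 (iv4 D555) (iv2 F1072)
theorem F1390 : act 6 n725 = n725 := d10_2 F1075 D725 (iv4 D725)
theorem F1391 : act 7 n725 = n560 := d11_2 (iv7 F1076) D725 (iv4 D560)
def n726 : Q := act 4 n424
theorem D726 : act 4 n424 = n726 := rfl
theorem F1392 : act 2 n726 = n560 := d1_1 D726 (iv4 D560) (iv2 F1060)
theorem F1393 : act 7 n726 = n555 := d11_2 F1061 D726 (iv4 D555)
def n727 : Q := act 6 n424
theorem D727 : act 6 n424 = n727 := rfl
theorem F1394 : act 2 n727 = n562 := d3_1 D727 (iv6 D562) (iv2 F1060)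
theorem F1395 : act 3 n727 = n562 := d7_1 D727 (iv6 D562) (iv3 F1067)
theorem F1396 : act 5 n727 = n727 := d12_1 D727 (iv6 D727) F1040 F1039 (iv5 F1040)
theorem F1397 : act 7 n727 = n727 := d14_2 F1061 D727 (iv6 D727) (iv7 F1061) F1066
def n728 : Q := act 0 n425
theorem D728 : act 0 n425 = n728 := rfl
theorem F1398 : act 4 n728 = n590 := d18_3 (iv1 D424) D425 D728 F916 F902 F1364 F1362 F703 (iv5 F1040)
theorem F1399 : act 2 n563 = n728 := d1_3 F1398 (iv2 F969) (iv4 F1068)
theorem F1400 : act 6 n728 = n728 := d10_0 F1398 F918 (iv4 F1398)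
theorem F1401 : act 1 n567 = n728 := d18_6 D297 F988 (iv1 F683) F388 (iv5 F422) (iv4 F854) F1398 (iv0 D590) (iv5 D299)
theorem F1402 : act 7 n564 = n728 := d15_2 (iv0 D563) D564 (iv2 F1399)
def n729 : Q := act 1 n425
theorem D729 : act 1 n425 = n729 := rfl
theorem F1403 : act 1 n729 = n567 := d15_1 D729 (iv7 D567) (iv2 F707)
theorem F1404 : act 7 n729 = n563 := d15_2 (iv0 D728) D729 F1399
theorem F1405 : act 2 n564 = n729 := d4_3 F1404 F1399 (iv7 F1402)
theorem F1406 : act 4 n591 = n729 := d11_3 F1404 F1068 F968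
def n730 : Q := act 3 n425
theorem D730 : act 3 n425 = n730 := rfl
theorem F1407 : act 4 n730 = n730 := d5_2 D425 D730 (iv3 D730) (iv4 D425) F367
def n731 : Q := act 5 n425
theorem D731 : act 5 n425 = n731 := rfl
theorem F1408 : act 2 n731 = n566 := d2_1 D731 (iv5 D566) (iv2 F707)
def n732 : Q := act 7 n425
theorem D732 : act 7 n425 = n732 := rfl
theorem F1409 : act 2 n732 = n567 := d4_1 D732 (iv7 D567) (iv2 F707)
theorem F1410 : act 4 n732 = n426 := d11_1 D732 (iv7 D426) D425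
theorem F1411 : act 1 n564 = n732 := d15_1 D564 (iv7 D732) F707
theorem F1412 : act 1 n732 = n563 := d15_1 F1411 (iv7 F1404) (iv2 F1405)
def n733 : Q := act 6 n426
theorem D733 : act 6 n426 = n733 := rfl
theorem F1413 : act 2 n733 = n568 := d3_1 D733 (iv6 D568) (iv2 F708)
theorem F1414 : act 3 n733 = n733 := d7_1 D733 (iv6 D733) F709
theorem F1415 : act 5 n733 = n733 := d12_1 D733 (iv6 D733) F710 F370 (iv5 F710)
theorem F1416 : act 0 n733 = n548 := d21_4 (iv5 D273) (iv1 F373) (iv5 F710) D733 (iv6 D548) (iv5 D278) (iv1 D72) D73 (iv6 F416) (iv1 F1029)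
def n734 : Q := act 3 n427
theorem D734 : act 3 n427 = n734 := rfl
theorem F1417 : act 4 n734 = n734 := d5_2 D427 D734 (iv3 D734) (iv4 D427) F375
theorem F1418 : act 7 n734 = n734 := d8_2 F714 D734 (iv3 D734)
def n735 : Q := act 6 n427
theorem D735 : act 6 n427 = n735 := rfl
theorem F1419 : act 4 n735 = n428 := d10_1 D735 (iv6 D428) D427
def n736 : Q := act 0 n428
theorem D736 : act 0 n428 = n736 := rfl
def n737 : Q := act 1 n428
theorem D737 : act 1 n428 = n737 := rfl
def n738 : Q := act 7 n428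
theorem D738 : act 7 n428 = n738 := rfl
theorem F1420 : act 3 n738 = n738 := d8_1 D738 (iv7 D738) F715
theorem F1421 : act 5 n738 = n738 := d13_1 D738 (iv7 D738) F716
theorem F1422 : act 6 n738 = n738 := d14_1 D738 (iv7 D738) (iv6 D428) F440 D428
def n739 : Q := act 5 n429
theorem D739 : act 5 n429 = n739 := rfl
theorem F1423 : act 2 n739 = n739 := d2_1 D739 (iv5 D739) F1229
theorem F1424 : act 3 n739 = n660 := d6_1 D739 (iv5 D660) (iv3 F717)
theorem F1425 : act 7 n739 = n739 := d13_2 F1230 D739 (iv5 D739)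
theorem F1426 : act 4 n739 = n430 := d19_2 D429 D739 F721 (iv1 F413) (iv5 D264) (iv4 D69) F16 D22 F481 F23 F462 (iv1 F22) (iv5 D5) D4 D19 D79 F117 F72 D238
def n740 : Q := act 6 n429
theorem D740 : act 6 n429 = n740 := rfl
theorem F1427 : act 2 n740 = n740 := d3_1 D740 (iv6 D740) F1229
theorem F1428 : act 3 n740 = n661 := d7_1 D740 (iv6 D661) (iv3 F717)
theorem F1429 : act 4 n740 = n740 := d10_1 D740 (iv6 D740) F718
def n741 : Q := act 0 n430
theorem D741 : act 0 n430 = n741 := rfl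
theorem F1430 : act 1 n430 = n741 := d15_0 (iv0 D741) F722 F720
def n742 : Q := act 6 n430
theorem D742 : act 6 n430 = n742 := rfl
theorem F1431 : act 2 n742 = n742 := d3_1 D742 (iv6 D742) F720
theorem F1432 : act 3 n742 = n432 := d7_1 D742 (iv6 D432) (iv3 F721)
theorem F1433 : act 5 n742 = n742 := d12_1 D742 (iv6 D742) (iv5 D430) F550 D430
def n743 : Q := act 3 n431
theorem D743 : act 3 n431 = n743 := rfl
theorem F1434 : act 4 n743 = n660 := d5_2 D431 D743 (iv3 F1424) F1426 F721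
theorem F1435 : act 5 n743 = n734 := d6_2 (iv5 F725) D743 (iv3 D734)
theorem F1436 : act 7 n743 = n743 := d8_2 F724 D743 (iv3 D743)
def n744 : Q := act 6 n431
theorem D744 : act 6 n431 = n744 := rfl
theorem F1437 : act 2 n744 = n735 := d3_1 D744 (iv6 D735) (iv2 F723)
theorem F1438 : act 4 n744 = n432 := d10_1 D744 (iv6 D432) D431
def n745 : Q := act 0 n432
theorem D745 : act 0 n432 = n745 := rfl
def n746 : Q := act 1 n432
theorem D746 : act 1 n432 = n746 := rfl
theorem F1439 : act 1 n746 = n738 := d15_1 D746 (iv7 D738) (iv2 F726)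
def n747 : Q := act 7 n432
theorem D747 : act 7 n432 = n747 := rfl
theorem F1440 : act 2 n747 = n738 := d4_1 D747 (iv7 D738) (iv2 F726)
theorem F1441 : act 5 n747 = n747 := d13_1 D747 (iv7 D747) F727
theorem F1442 : act 6 n747 = n747 := d14_1 D747 (iv7 D747) (iv6 D432) F437 D432
theorem F1443 : act 1 n738 = n745 := d15_0 (iv0 D745) D747 F1440
theorem F1444 : act 1 n737 = n747 := d15_1 D737 (iv7 D747) F726
theorem F1445 : act 1 n747 = n736 := d15_0 (iv0 D736) D738 (iv2 F1440)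
def n748 : Q := act 3 n433
theorem D748 : act 3 n433 = n748 := rfl
theorem F1446 : act 5 n748 = n472 := d6_2 (iv5 F728) D748 (iv3 D472)
theorem F1447 : act 7 n748 = n748 := d8_2 F730 D748 (iv3 D748)
theorem F1448 : act 0 n662 = n748 := d17_2 (iv1 F621) D662 F1446 (iv4 F778) F1290 (iv0 D688) (iv5 D398) F643 F640
theorem F1449 : act 1 n660 = n748 := d15_0 (iv0 F1448) F1237 F1235
theorem F1450 : act 4 n741 = n445 := d20_8 D245 D448 F750 D748 (iv1 F1449) (iv3 F1424) F1426 D741 (iv3 D445) (iv1 D244)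
theorem F1451 : act 2 n741 = n741 := d1_3 F1450 F747 (iv4 F1450)
theorem F1452 : act 7 n741 = n741 := d11_0 F1450 F884 (iv4 F1450)
theorem F1453 : act 0 n445 = n739 := d17_0 (iv5 D739) F719 D430 (iv4 F1426) (iv5 D739) (iv0 D429) D430 F1430 F1450
theorem F1454 : act 1 n445 = n739 := d18_8 F719 F380 D429 F718 D739 F1426 F1430 F1450 (iv5 D739)
theorem F1455 : act 3 n665 = n741 := d20_5 D490 F811 (iv4 D355) (iv3 F622) D665 F1450 F1453 F1426 F721 (iv1 F413)
theorem F1456 : act 7 n665 = n665 := d8_0 F1455 F1452 (iv3 F1455)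
theorem F1457 : act 2 n665 = n666 := d15_3 F1244 F1243 F1456
theorem F1458 : act 7 n666 = n666 := d4_2 F1456 F1457 (iv2 F1457)
theorem F1459 : act 3 n666 = n666 := d0_2 (iv3 F1455) F1457 (iv2 F1457) F1455 F1451
def n749 : Q := act 6 n433
theorem D749 : act 6 n433 = n749 := rfl
def n750 : Q := act 6 n434
theorem D750 : act 6 n434 = n750 := rfl
theorem F1460 : act 2 n750 = n749 := d3_1 D750 (iv6 D749) F732
def n751 : Q := act 3 n435
theorem D751 : act 3 n435 = n751 := rfl
theorem F1461 : act 4 n751 = n450 := d5_2 D435 D751 (iv3 D450) (iv4 D245) (iv3 F381)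
theorem F1462 : act 7 n751 = n751 := d8_2 F735 D751 (iv3 D751)
def n752 : Q := act 6 n435
theorem D752 : act 6 n435 = n752 := rfl
theorem F1463 : act 4 n752 = n436 := d10_1 D752 (iv6 D436) D435
def n753 : Q := act 0 n436
theorem D753 : act 0 n436 = n753 := rfl
def n754 : Q := act 1 n436
theorem D754 : act 1 n436 = n754 := rfl
def n755 : Q := act 5 n436
theorem D755 : act 5 n436 = n755 := rfl
theorem F1464 : act 3 n755 = n455 := d6_1 D755 (iv5 D455) (iv3 F736)
theorem F1465 : act 6 n755 = n439 := d12_2 D436 D755 (iv5 D439) (iv6 D242) D241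
def n756 : Q := act 7 n436
theorem D756 : act 7 n436 = n756 := rfl
theorem F1466 : act 3 n756 = n456 := d8_1 D756 (iv7 D456) (iv3 F736)
theorem F1467 : act 6 n756 = n756 := d14_1 D756 (iv7 D756) (iv6 D436) F382 D436
def n757 : Q := act 0 n439
theorem D757 : act 0 n439 = n757 := rfl
theorem F1468 : act 5 n757 = n473 := d17_3 (iv1 F999) D439 D757 F775 F1065 (iv0 D280) (iv5 D73) D72 D277
def n758 : Q := act 1 n439
theorem D758 : act 1 n439 = n758 := rfl
def n759 : Q := act 4 n439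
theorem D759 : act 4 n439 = n759 := rfl
def n760 : Q := act 7 n439
theorem D760 : act 7 n439 = n760 := rfl
theorem F1469 : act 3 n760 = n470 := d8_1 D760 (iv7 D470) (iv3 F738)
theorem F1470 : act 5 n760 = n440 := d13_1 D760 (iv7 D440) D439
def n761 : Q := act 3 n442
theorem D761 : act 3 n442 = n761 := rfl
theorem F1471 : act 4 n761 = n761 := d5_2 D442 D761 (iv3 D761) (iv4 D442) F508
theorem F1472 : act 7 n761 = n761 := d8_2 F886 D761 (iv3 D761)
def n762 : Q := act 6 n442
theorem D762 : act 6 n442 = n762 := rfl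
theorem F1473 : act 4 n762 = n443 := d10_1 D762 (iv6 D443) D442
def n763 : Q := act 0 n443
theorem D763 : act 0 n443 = n763 := rfl
def n764 : Q := act 1 n443
theorem D764 : act 1 n443 = n764 := rfl
def n765 : Q := act 5 n443
theorem D765 : act 5 n443 = n765 := rfl
theorem F1474 : act 3 n765 = n765 := d6_1 D765 (iv5 D765) F744
theorem F1475 : act 6 n765 = n467 := d12_2 D443 D765 F797 (iv6 D485) F503
def n766 : Q := act 7 n443
theorem D766 : act 7 n443 = n766 := rfl
theorem F1476 : act 3 n766 = n766 := d8_1 D766 (iv7 D766) F744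
theorem F1477 : act 6 n766 = n766 := d14_1 D766 (iv7 D766) (iv6 D443) F881 D443
def n767 : Q := act 6 n445
theorem D767 : act 6 n445 = n767 := rfl
theorem F1478 : act 2 n767 = n767 := d3_1 D767 (iv6 D767) F747
theorem F1479 : act 3 n767 = n447 := d7_1 D767 (iv6 D447) D445
def n768 : Q := act 3 n446
theorem D768 : act 3 n446 = n768 := rfl
theorem F1480 : act 4 n768 = n665 := d5_2 D446 D768 F1455 F1450 (iv3 D445)
theorem F1481 : act 5 n768 = n761 := d6_2 (iv5 F748) D768 (iv3 D761)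
theorem F1482 : act 7 n768 = n768 := d8_2 F885 D768 (iv3 D768)
theorem F1483 : act 1 n681 = n768 := d18_6 D348 F617 (iv1 D349) (iv4 F338) D376 D681 F1480 (iv0 D665) (iv5 D351)
def n769 : Q := act 6 n446
theorem D769 : act 6 n446 = n769 := rfl
theorem F1484 : act 2 n769 = n762 := d3_1 D769 (iv6 D762) (iv2 F887)
theorem F1485 : act 4 n769 = n447 := d10_1 D769 (iv6 D447) D446
def n770 : Q := act 0 n447
theorem D770 : act 0 n447 = n770 := rfl
def n771 : Q := act 1 n447
theorem D771 : act 1 n447 = n771 := rfl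
theorem F1486 : act 1 n771 = n766 := d15_1 D771 (iv7 D766) F889
def n772 : Q := act 5 n447
theorem D772 : act 5 n447 = n772 := rfl
theorem F1487 : act 2 n772 = n765 := d2_1 D772 (iv5 D765) F889
theorem F1488 : act 6 n772 = n705 := d12_2 D447 D772 F1326 (iv6 D488) F507
def n773 : Q := act 7 n447
theorem D773 : act 7 n447 = n773 := rfl
theorem F1489 : act 2 n773 = n766 := d4_1 D773 (iv7 D766) F889
theorem F1490 : act 6 n773 = n773 := d14_1 D773 (iv7 D773) (iv6 D447) F883 D447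
theorem F1491 : act 1 n766 = n770 := d15_0 (iv0 D770) D773 F1489
theorem F1492 : act 1 n764 = n773 := d15_1 D764 (iv7 D773) (iv2 F889)
theorem F1493 : act 1 n773 = n763 := d15_0 (iv0 D763) D766 (iv2 F1489)
def n774 : Q := act 3 n448
theorem D774 : act 3 n448 = n774 := rfl
theorem F1494 : act 7 n774 = n774 := d8_2 F752 D774 (iv3 D774)
def n775 : Q := act 6 n448
theorem D775 : act 6 n448 = n775 := rfl
theorem F1495 : act 4 n775 = n749 := d10_1 D775 (iv6 D749) (iv4 F750)
def n776 : Q := act 3 n449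
theorem D776 : act 3 n449 = n776 := rfl
theorem F1496 : act 5 n776 = n774 := d6_2 (iv5 F755) D776 (iv3 D774)
theorem F1497 : act 7 n776 = n776 := d8_2 F756 D776 (iv3 D776)
def n777 : Q := act 6 n449
theorem D777 : act 6 n449 = n777 := rfl
theorem F1498 : act 2 n777 = n775 := d3_1 D777 (iv6 D775) F757
theorem F1499 : act 4 n777 = n750 := d10_1 D777 (iv6 D750) (iv4 F754)
def n778 : Q := act 0 n450
theorem D778 : act 0 n450 = n778 := rfl
def n779 : Q := act 1 n450
theorem D779 : act 1 n450 = n779 := rfl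
def n780 : Q := act 2 n450
theorem D780 : act 2 n450 = n780 := rfl
theorem F1500 : act 7 n780 = n780 := d4_2 F758 D780 (iv2 D780)
theorem F1501 : act 1 n780 = n778 := d15_0 (iv0 D778) F758 D780
theorem F1502 : act 1 n779 = n780 := d15_1 D779 F1500 (iv2 D780)
def n781 : Q := act 5 n450
theorem D781 : act 5 n450 = n781 := rfl
theorem F1503 : act 3 n781 = n451 := d6_1 D781 (iv5 D451) D450
theorem F1504 : act 7 n781 = n781 := d13_2 F758 D781 (iv5 D781)
def n782 : Q := act 6 n450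
theorem D782 : act 6 n450 = n782 := rfl
theorem F1505 : act 3 n782 = n452 := d7_1 D782 (iv6 D452) D450
def n783 : Q := act 6 n451
theorem D783 : act 6 n451 = n783 := rfl
theorem F1506 : act 4 n783 = n712 := d10_1 D783 (iv6 D712) (iv4 F760)
def n784 : Q := act 0 n452
theorem D784 : act 0 n452 = n784 := rfl
def n785 : Q := act 1 n452
theorem D785 : act 1 n452 = n785 := rfl
def n786 : Q := act 5 n452
theorem D786 : act 5 n452 = n786 := rfl
def n787 : Q := act 7 n452
theorem D787 : act 7 n452 = n787 := rfl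
theorem F1507 : act 4 n787 = n456 := d11_1 D787 (iv7 D456) (iv4 F763)
theorem F1508 : act 6 n787 = n787 := d14_1 D787 (iv7 D787) (iv6 D452) F387 D452
def n788 : Q := act 2 n453
theorem D788 : act 2 n453 = n788 := rfl
theorem F1509 : act 7 n454 = n788 := d15_2 (iv0 D453) D454 (iv2 D788)
def n789 : Q := act 3 n453
theorem D789 : act 3 n453 = n789 := rfl
def n790 : Q := act 4 n453
theorem D790 : act 4 n453 = n790 := rfl
def n791 : Q := act 5 n453
theorem D791 : act 5 n453 = n791 := rfl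
def n792 : Q := act 6 n453
theorem D792 : act 6 n453 = n792 := rfl
def n793 : Q := act 7 n453
theorem D793 : act 7 n453 = n793 := rfl
theorem F1510 : act 2 n793 = n454 := d4_1 D793 F1509 (iv2 D788)
def n794 : Q := act 3 n454
theorem D794 : act 3 n454 = n794 := rfl
def n795 : Q := act 4 n454
theorem D795 : act 4 n454 = n795 := rfl
def n796 : Q := act 5 n454
theorem D796 : act 5 n454 = n796 := rfl
def n797 : Q := act 6 n454
theorem D797 : act 6 n454 = n797 := rfl
def n798 : Q := act 0 n455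
theorem D798 : act 0 n455 = n798 := rfl
def n799 : Q := act 1 n455
theorem D799 : act 1 n455 = n799 := rfl
def n800 : Q := act 4 n455
theorem D800 : act 4 n455 = n800 := rfl
theorem F1511 : act 6 n800 = n469 := d10_2 (iv6 F764) D800 (iv4 D469)
def n801 : Q := act 7 n455
theorem D801 : act 7 n455 = n801 := rfl
theorem F1512 : act 5 n801 = n456 := d13_1 D801 (iv7 D456) D455
def n802 : Q := act 0 n460
theorem D802 : act 0 n460 = n802 := rfl
theorem F1513 : act 5 n802 = n715 := d17_3 D247 D460 D802 F1362 (iv5 F1032) (iv0 D528) (iv5 D273) (iv0 D71) (iv4 F57)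
theorem F1514 : act 1 n465 = n802 := d15_0 (iv0 D802) (iv7 F1325) F1323
theorem F1515 : act 7 n802 = n714 := d15_2 (iv0 F1023) F1514 F1358
def n803 : Q := act 4 n460
theorem D803 : act 4 n460 = n803 := rfl
def n804 : Q := act 6 n460
theorem D804 : act 6 n460 = n804 := rfl
theorem F1516 : act 3 n804 = n804 := d7_1 D804 (iv6 D804) F1115
def n806 : Q := act 1 n463
theorem D806 : act 1 n463 = n806 := rfl
theorem F1519 : act 1 n806 = n702 := d15_1 D806 F1320 F1109
theorem F1520 : act 4 n806 = n806 := d20_0 (iv1 D806) F974 (iv3 D463) (iv1 D248) (iv3 F383) F384 D297 F988 D702 (iv1 F1519)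
def n807 : Q := act 5 n463
theorem D807 : act 5 n463 = n807 := rfl
theorem F1521 : act 2 n807 = n807 := d2_1 D807 (iv5 D807) F1109
theorem F1522 : act 3 n807 = n465 := d6_1 D807 (iv5 D465) D463
def n808 : Q := act 5 n464
theorem D808 : act 5 n464 = n808 := rfl
theorem F1523 : act 2 n808 = n588 := d2_1 D808 (iv5 D588) (iv2 F1007)
theorem F1524 : act 3 n808 = n808 := d6_1 D808 (iv5 D808) F973
theorem F1525 : act 7 n808 = n583 := d13_2 F1015 D808 (iv5 D583)
def n809 : Q := act 4 n465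
theorem D809 : act 4 n465 = n809 := rfl
def n810 : Q := act 6 n465
theorem D810 : act 6 n465 = n810 := rfl
def n811 : Q := act 4 n467
theorem D811 : act 4 n467 = n811 := rfl
def n812 : Q := act 3 n468
theorem D812 : act 3 n468 = n812 := rfl
theorem F1526 : act 2 n812 = n812 := d0_1 D812 (iv3 D812) F1333 F1332 (iv2 F1333)
def n813 : Q := act 4 n468
theorem D813 : act 4 n468 = n813 := rfl
def n814 : Q := act 6 n468
theorem D814 : act 6 n468 = n814 := rfl
theorem F1527 : act 5 n814 = n814 := d12_1 D814 (iv6 D814) (iv5 F1352) F1353 F1352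
def n815 : Q := act 0 n469
theorem D815 : act 0 n469 = n815 := rfl
theorem F1528 : act 4 n815 = n757 := d18_3 (iv1 D468) D469 D815 F1468 F775 (iv0 F1053) (iv4 F813) F1357 F1352
def n816 : Q := act 1 n469
theorem D816 : act 1 n469 = n816 := rfl
def n817 : Q := act 3 n469
theorem D817 : act 3 n469 = n817 := rfl
def n818 : Q := act 5 n469
theorem D818 : act 5 n469 = n818 := rfl
def n819 : Q := act 7 n469
theorem D819 : act 7 n469 = n819 := rfl
theorem F1529 : act 4 n819 = n470 := d11_1 D819 (iv7 D470) D469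
def n820 : Q := act 6 n470
theorem D820 : act 6 n470 = n820 := rfl
theorem F1530 : act 5 n820 = n820 := d12_1 D820 (iv6 D820) F768 F389 (iv5 F768)
def n821 : Q := act 6 n471
theorem D821 : act 6 n471 = n821 := rfl
theorem F1531 : act 2 n821 = n489 := d3_1 D821 (iv6 D489) F771
theorem F1532 : act 4 n821 = n569 := d10_1 D821 (iv6 D569) (iv4 F770)
theorem F1533 : act 0 n473 = n821 := d21_4 D241 D433 F728 D473 (iv6 D821) F769 (iv1 F625) (iv5 D219) F1044 F259
theorem F1534 : act 1 n716 = n821 := d15_0 (iv0 F1533) F1114 (iv2 F1366)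
theorem F1535 : act 5 n758 = n716 := d17_7 (iv1 F934) F922 (iv1 D591) (iv5 D299) (iv4 F384) D439 D758 F1534 F1532
def n822 : Q := act 0 n472
theorem D822 : act 0 n472 = n822 := rfl
theorem F1536 : act 5 n822 = n665 := d17_1 D822 (iv1 F1243) (iv5 D664) (iv4 F640) D679 F1268 (iv5 F1342) F1344 F778
theorem F1537 : act 7 n822 = n822 := d13_0 F1536 F1456 (iv5 F1536)
def n823 : Q := act 1 n472
theorem D823 : act 1 n472 = n823 := rfl
theorem F1538 : act 4 n822 = n823 := d20_0 (iv1 D823) (iv4 F778) (iv3 D478) F396 (iv3 D263) (iv4 D69) D67 D253 D472 D822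
theorem F1539 : act 3 n823 = n823 := d20_3 F778 D822 F1538 (iv1 D823) (iv3 D472) (iv4 D253) F294 D228 D406 F780
theorem F1540 : act 7 n823 = n823 := d11_2 F1537 F1538 (iv4 F1538)
theorem F1541 : act 5 n823 = n666 := d16_7 (iv4 F1480) F1481 F1471 (iv5 F1481) F1480 (iv5 F1536) F1538 F1458 (iv2 F1457)
theorem F1542 : act 2 n822 = n823 := d16_9 (iv4 F1538) F1536 (iv4 F1480) F1481 F1471 (iv5 F1481) F1480 (iv5 F1536) F1537
def n824 : Q := act 2 n472
theorem D824 : act 2 n472 = n824 := rfl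
theorem F1543 : act 3 n824 = n709 := d0_2 D472 D824 (iv2 F1346) (iv3 D478) F407
theorem F1544 : act 4 n824 = n709 := d1_2 F778 D824 (iv2 F1346)
theorem F1545 : act 7 n824 = n824 := d4_2 F774 D824 (iv2 D824)
theorem F1546 : act 1 n824 = n822 := d15_0 (iv0 D822) F774 D824
theorem F1547 : act 1 n823 = n824 := d15_1 D823 F1545 (iv2 D824)
def n825 : Q := act 6 n472
theorem D825 : act 6 n472 = n825 := rfl
theorem F1548 : act 3 n825 = n473 := d7_1 D825 (iv6 D473) D472
def n826 : Q := act 1 n473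
theorem D826 : act 1 n473 = n826 := rfl
theorem F1549 : act 1 n826 = n716 := d15_1 D826 F1368 F781
theorem F1550 : act 7 n826 = n489 := d15_2 (iv0 F1533) D826 (iv2 F1531)
theorem F1551 : act 4 n826 = n579 := d18_7 (iv1 D591) D592 F1110 (iv4 D555) (iv5 F1065) (iv4 F775) D826 (iv0 F925) F922
theorem F1552 : act 3 n494 = n826 := d5_5 F1551 F910 F520 (iv3 F417) (iv4 F813)
theorem F1553 : act 6 n826 = n826 := d10_0 F1551 F911 (iv4 F1551)
def n827 : Q := act 6 n478
theorem D827 : act 6 n478 = n827 := rfl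
theorem F1554 : act 3 n827 = n479 := d7_1 D827 (iv6 D479) D478
theorem F1555 : act 4 n827 = n825 := d10_1 D827 (iv6 D825) (iv4 F778)
def n828 : Q := act 1 n479
theorem D828 : act 1 n479 = n828 := rfl
theorem F1556 : act 1 n828 = n497 := d15_1 D828 (iv7 F1114) (iv2 F781)
theorem F1557 : act 7 n828 = n821 := d15_2 (iv0 F1051) D828 F1531
theorem F1558 : act 2 n826 = n828 := d4_3 F1557 F1531 (iv7 F1550)
theorem F1559 : act 6 n828 = n828 := d14_5 F1557 (iv6 D821) F773 D821 (iv7 F1557)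
def n829 : Q := act 5 n479
theorem D829 : act 5 n479 = n829 := rfl
theorem F1560 : act 2 n829 = n757 := d2_1 D829 F1468 (iv2 F781)
theorem F1561 : act 7 n829 = n758 := d13_2 F1368 D829 F1535
theorem F1562 : act 1 n829 = n658 := d17_6 (iv1 D231) D232 D423 F1074 (iv4 F782) D829 (iv5 D658) (iv0 F994) (iv4 D420)
def n830 : Q := act 0 n487
theorem D830 : act 0 n487 = n830 := rfl
theorem F1563 : act 5 n830 = n741 := d19_1 D830 F1450 (iv3 D445) (iv1 D244) (iv5 D65) (iv4 D15) (iv3 D3) (iv1 F7) F4 F3 F2 D1 D5 (iv4 F20) (iv3 F76) D294 F506 F460 D487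
theorem F1564 : act 3 n830 = n822 := d20_5 F394 D294 F460 D487 D830 F1538 (iv1 D823) (iv4 F778) (iv3 D478) F396
theorem F1565 : act 4 n830 = n830 := d20_8 F1544 (iv1 D709) F686 (iv3 D406) (iv1 F393) D487 F803 D830 F1564 (iv1 F1546)
theorem F1566 : act 0 n830 = n487 := d20_1 F1565 F803 (iv3 D487) (iv1 D262) D263 F394 D294 F460 D487 D830
theorem F1567 : act 2 n830 = n830 := d0_5 F1564 F1542 F1539 (iv2 F1542) (iv3 F1564)
theorem F1568 : act 7 n830 = n830 := d8_0 F1564 F1537 (iv3 F1564)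
def n831 : Q := act 6 n487
theorem D831 : act 6 n487 = n831 := rfl
theorem F1569 : act 2 n831 = n831 := d3_1 D831 (iv6 D831) F802
theorem F1570 : act 3 n831 = n488 := d7_1 D831 (iv6 D488) D487
theorem F1571 : act 4 n831 = n831 := d10_1 D831 (iv6 D831) F803
def n832 : Q := act 5 n489
theorem D832 : act 5 n489 = n832 := rfl
theorem F1572 : act 3 n832 = n493 := d6_1 D832 (iv5 D493) (iv3 F806)
theorem F1573 : act 0 n832 = n525 := d17_2 F1051 D832 (iv5 D525) (iv4 D272) D273 F1029 (iv5 D268) F1034 (iv4 F782)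
theorem F1574 : act 1 n832 = n545 := d17_6 (iv1 F868) D588 F1009 (iv5 D578) (iv4 F807) D832 (iv5 D545) F839 F1003
def n833 : Q := act 3 n490
theorem D833 : act 3 n490 = n833 := rfl
theorem F1575 : act 5 n833 = n696 := d6_2 (iv5 F809) D833 (iv3 D696)
theorem F1576 : act 7 n833 = n833 := d8_2 F810 D833 (iv3 D833)
def n834 : Q := act 6 n490
theorem D834 : act 6 n490 = n834 := rfl
theorem F1577 : act 2 n834 = n783 := d3_1 D834 (iv6 D783) (iv2 F808)
theorem F1578 : act 4 n834 = n491 := d10_1 D834 (iv6 D491) D490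
def n835 : Q := act 0 n491
theorem D835 : act 0 n491 = n835 := rfl
def n836 : Q := act 1 n491
theorem D836 : act 1 n491 = n836 := rfl
def n837 : Q := act 5 n491
theorem D837 : act 5 n491 = n837 := rfl
theorem F1579 : act 6 n837 = n493 := d12_2 D491 D837 (iv5 D493) (iv6 D265) D264
def n838 : Q := act 7 n491
theorem D838 : act 7 n491 = n838 := rfl
theorem F1580 : act 6 n838 = n838 := d14_1 D838 (iv7 D838) (iv6 D491) F412 D491
def n839 : Q := act 4 n493
theorem D839 : act 4 n493 = n839 := rfl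
def n840 : Q := act 7 n493
theorem D840 : act 7 n493 = n840 := rfl
theorem F1581 : act 2 n840 = n802 := d4_1 D840 F1515 F1358
theorem F1582 : act 5 n840 = n494 := d13_1 D840 (iv7 D494) D493
theorem F1583 : act 1 n704 = n840 := d15_1 F1360 (iv7 D840) (iv2 F1358)
theorem F1584 : act 1 n840 = n703 := d15_1 F1583 F1322 (iv2 F1323)
def n841 : Q := act 3 n497
theorem D841 : act 3 n497 = n841 := rfl
theorem F1585 : act 6 n841 = n841 := d7_2 F1113 D841 (iv3 D841)
theorem F1586 : act 7 n841 = n825 := d8_2 F1114 D841 F1548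
def n842 : Q := act 5 n497
theorem D842 : act 5 n497 = n842 := rfl
theorem F1587 : act 2 n842 = n758 := d2_1 D842 F1535 F1366
theorem F1588 : act 7 n842 = n757 := d13_2 F1114 D842 F1468
theorem F1589 : act 1 n842 = n760 := d17_6 (iv1 F371) (iv5 F422) (iv1 F706) F1040 D497 D842 F1470 (iv0 F1084) (iv4 D415)
theorem F1590 : act 0 n842 = n658 := d21_1 D842 (iv5 D658) (iv6 D347) (iv1 F260) F1044 D219 (iv1 F626) F627 D489 F1111
theorem F1591 : act 1 n760 = n829 := d15_1 F1589 F1561 (iv2 F1587)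
def n843 : Q := act 0 n507
theorem D843 : act 0 n507 = n843 := rfl
theorem F1592 : act 4 n843 = n601 := d18_3 (iv1 F1025) D507 D843 (iv5 D601) (iv4 F981) (iv0 D247) F57 D72 D278
def n844 : Q := act 1 n507
theorem D844 : act 1 n507 = n844 := rfl
def n845 : Q := act 3 n507
theorem D845 : act 3 n507 = n845 := rfl
theorem F1593 : act 4 n845 = n617 := d5_2 D507 D845 (iv3 D617) (iv4 D320) (iv3 F415)
theorem F1594 : act 6 n845 = n565 := d7_2 (iv6 F820) D845 (iv3 D565)
def n846 : Q := act 5 n507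
theorem D846 : act 5 n507 = n846 := rfl
def n847 : Q := act 7 n507
theorem D847 : act 7 n507 = n847 := rfl
theorem F1595 : act 4 n847 = n508 := d11_1 D847 (iv7 D508) D507
def n848 : Q := act 6 n508
theorem D848 : act 6 n508 = n848 := rfl
theorem F1596 : act 3 n848 = n620 := d7_1 D848 (iv6 D620) (iv3 F821)
theorem F1597 : act 5 n848 = n848 := d12_1 D848 (iv6 D848) F822 F418 (iv5 F822)
theorem F1598 : act 7 n848 = n568 := d14_2 D508 D848 (iv6 D568) (iv7 D283) (iv6 F416)
theorem F1599 : act 0 n548 = n848 := d21_4 F710 (iv1 F372) D278 D548 (iv6 D848) F822 F1053 F1065 F1066 (iv1 F713)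
def n849 : Q := act 3 n522
theorem D849 : act 3 n522 = n849 := rfl
theorem F1600 : act 2 n849 = n695 := d0_1 D849 F1302 F680 (iv3 F739) F1002
theorem F1601 : act 4 n849 = n849 := d5_2 (iv4 F1003) D849 (iv3 D849) F1003 F865
theorem F1602 : act 6 n849 = n849 := d7_2 F1004 D849 (iv3 D849)
theorem F1603 : act 7 n849 = n655 := d8_2 (iv7 F1005) D849 F1218
theorem F1604 : act 0 n692 = n849 := d20_4 F360 D230 D415 (iv3 F1297) (iv3 D849) F1003 (iv1 F868) (iv4 F1105) F1104 (iv1 D403)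
theorem F1605 : act 1 n693 = n849 := d15_1 D693 F1603 F1217
theorem F1606 : act 2 n544 = n693 := d15_3 F1605 (iv0 F1604) (iv7 F1300)
def n850 : Q := act 5 n522
theorem D850 : act 5 n522 = n850 := rfl
theorem F1607 : act 2 n850 = n760 := d2_1 D850 F1470 F1002
theorem F1608 : act 7 n850 = n658 := d13_2 (iv7 F1005) D850 (iv5 D658)
theorem F1609 : act 0 n850 = n758 := d17_2 D522 D850 F1535 (iv4 D716) F1057 F712 F710 F373 D272
theorem F1610 : act 4 n758 = n816 := d18_1 F1609 (iv1 D816) (iv4 D469) (iv5 D249) F57 D72 D277 F839 D850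
theorem F1611 : act 0 n757 = n850 := d21_7 D545 (iv1 F1574) (iv5 D832) (iv6 D489) (iv1 F411) D473 (iv5 F1468) (iv5 D850) F1004 (iv1 F839)
def n851 : Q := act 0 n524
theorem D851 : act 0 n524 = n851 := rfl
theorem F1612 : act 3 n851 = n806 := d20_5 F57 D71 D272 D524 D851 F1520 (iv1 D806) F974 (iv3 D463) (iv1 D248)
def n852 : Q := act 1 n524
theorem D852 : act 1 n524 = n852 := rfl
def n853 : Q := act 2 n524
theorem D853 : act 2 n524 = n853 := rfl
def n854 : Q := act 5 n524
theorem D854 : act 5 n524 = n854 := rfl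
theorem F1613 : act 3 n854 = n525 := d6_1 D854 (iv5 D525) D524
def n855 : Q := act 0 n525
theorem D855 : act 0 n525 = n855 := rfl
theorem F1614 : act 5 n855 = n828 := d21_2 D525 D855 F1559 (iv1 D828) (iv6 D479) F733 (iv1 D434) (iv5 D241) D242 (iv1 F1000)
theorem F1615 : act 1 n545 = n855 := d15_0 (iv0 D855) (iv7 F1382) F1381
def n856 : Q := act 4 n525
theorem D856 : act 4 n525 = n856 := rfl
theorem F1616 : act 1 n856 = n839 := d18_6 (iv1 D248) F57 D71 D272 D525 D856 (iv4 D839) (iv0 F1023) (iv5 D465)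
def n857 : Q := act 6 n525
theorem D857 : act 6 n525 = n857 := rfl
def n858 : Q := act 4 n528
theorem D858 : act 4 n528 = n858 := rfl
theorem F1617 : act 2 n858 = n847 := d1_1 D858 F1595 F1030
theorem F1618 : act 7 n858 = n717 := d11_2 (iv7 F1033) D858 (iv4 D717)
theorem F1619 : act 1 n844 = n858 := d15_1 D844 F1618 F1369
theorem F1620 : act 4 n808 = n844 := d18_5 (iv1 F373) (iv4 F681) (iv1 F684) D464 D808 F1619 (iv4 D858) (iv0 D528) (iv5 D273)
theorem F1621 : act 1 n858 = n843 := d15_0 (iv0 D843) D847 (iv2 F1617)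
def n859 : Q := act 6 n528
theorem D859 : act 6 n528 = n859 := rfl
theorem F1622 : act 2 n859 = n848 := d3_1 D859 (iv6 D848) F1030
theorem F1623 : act 3 n859 = n859 := d7_1 D859 (iv6 D859) F1031
theorem F1624 : act 5 n859 = n859 := d12_1 D859 (iv6 D859) F1032 F700 (iv5 F1032)
theorem F1625 : act 7 n859 = n733 := d14_2 (iv7 F1033) D859 (iv6 D733) (iv7 D426) (iv6 F697)
theorem F1626 : act 0 n724 = n859 := d21_4 F422 (iv1 F365) D421 D724 (iv6 D859) F1032 F1035 (iv5 F1074) F1075 (iv1 F711)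
def n860 : Q := act 0 n530
theorem D860 : act 0 n530 = n860 := rfl
theorem F1627 : act 1 n547 = n860 := d15_0 (iv0 D860) (iv7 F1384) F1383
def n861 : Q := act 1 n530
theorem D861 : act 1 n530 = n861 := rfl
theorem F1628 : act 1 n861 = n547 := d15_1 D861 (iv7 F1374) F1373
theorem F1629 : act 4 n861 = n578 := d18_7 (iv1 D298) (iv4 F384) (iv1 F1000) (iv4 D272) D273 D530 D861 (iv0 F1009) (iv5 D588)
theorem F1630 : act 6 n592 = n861 := d10_0 F1629 F909 D592
def n862 : Q := act 3 n530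
theorem D862 : act 3 n530 = n862 := rfl
def n863 : Q := act 5 n530
theorem D863 : act 5 n530 = n863 := rfl
def n864 : Q := act 6 n530
theorem D864 : act 6 n530 = n864 := rfl
theorem F1631 : act 4 n864 = n531 := d10_1 D864 (iv6 D531) D530
def n865 : Q := act 0 n531
theorem D865 : act 0 n531 = n865 := rfl
def n866 : Q := act 1 n531
theorem D866 : act 1 n531 = n866 := rfl
def n867 : Q := act 7 n531
theorem D867 : act 7 n531 = n867 := rfl
def n868 : Q := act 5 n544
theorem D868 : act 5 n544 = n868 := rfl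
theorem F1632 : act 3 n868 = n545 := d6_1 D868 (iv5 D545) D544
def n869 : Q := act 4 n545
theorem D869 : act 4 n545 = n869 := rfl
theorem F1633 : act 0 n869 = n839 := d18_2 (iv1 F1615) D869 (iv4 D839) (iv5 D493) F414 F1034 (iv4 F782) D828 (iv5 F1614)
def n870 : Q := act 6 n545
theorem D870 : act 6 n545 = n870 := rfl
def n871 : Q := act 3 n547
theorem D871 : act 3 n547 = n871 := rfl
def n872 : Q := act 5 n547
theorem D872 : act 5 n547 = n872 := rfl
def n873 : Q := act 6 n547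
theorem D873 : act 6 n547 = n873 := rfl
theorem F1634 : act 4 n873 = n548 := d10_1 D873 (iv6 D548) D547
def n874 : Q := act 7 n548
theorem D874 : act 7 n548 = n874 := rfl
theorem F1635 : act 1 n568 = n874 := d15_1 (iv0 F1388) (iv7 D874) (iv2 F1385)
theorem F1636 : act 1 n874 = n859 := d15_1 F1635 F1625 F1413
def n875 : Q := act 0 n555
theorem D875 : act 0 n555 = n875 := rfl
theorem F1637 : act 1 n560 = n875 := d15_0 (iv0 D875) (iv7 F1393) F1392
def n876 : Q := act 3 n555
theorem D876 : act 3 n555 = n876 := rfl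
theorem F1638 : act 6 n876 = n876 := d7_2 F1071 D876 (iv3 D876)
def n877 : Q := act 5 n555
theorem D877 : act 5 n555 = n877 := rfl
def n878 : Q := act 3 n560
theorem D878 : act 3 n560 = n878 := rfl
def n879 : Q := act 5 n560
theorem D879 : act 5 n560 = n879 := rfl
def n880 : Q := act 6 n560
theorem D880 : act 6 n560 = n880 := rfl
theorem F1639 : act 4 n880 = n562 := d10_1 D880 (iv6 D562) D560
theorem F1640 : act 7 n880 = n880 := d14_2 F1391 D880 (iv6 D880) (iv7 F1391) F1390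
def n881 : Q := act 0 n562
theorem D881 : act 0 n562 = n881 := rfl
theorem F1641 : act 1 n727 = n881 := d15_0 (iv0 D881) F1077 (iv2 F1394)
theorem F1642 : act 5 n881 = n881 := d21_0 (iv1 F1641) F1396 (iv6 D727) (iv1 D424) (iv6 F697) (iv5 D411) D409 F1057 D562 D881
def n882 : Q := act 1 n562
theorem D882 : act 1 n562 = n882 := rfl
theorem F1643 : act 1 n882 = n727 := d15_1 D882 F1397 F1394
theorem F1644 : act 5 n882 = n882 := d21_0 (iv1 D882) F1059 (iv6 D562) (iv1 D281) (iv6 F416) (iv5 D268) D266 (iv5 F1040) D727 (iv1 F1643)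
theorem F1645 : act 6 n865 = n882 := d21_5 (iv5 D73) D71 D273 D531 D865 F1644 (iv1 D882) F1059 (iv6 D562) (iv1 D281)
def n883 : Q := act 3 n563
theorem D883 : act 3 n563 = n883 := rfl
theorem F1646 : act 4 n883 = n638 := d5_2 (iv4 F1068) D883 (iv3 D638) F598 D611
theorem F1647 : act 6 n883 = n883 := d7_2 F1069 D883 (iv3 D883)
def n884 : Q := act 5 n563
theorem D884 : act 5 n563 = n884 := rfl
def n885 : Q := act 3 n564
theorem D885 : act 3 n564 = n885 := rfl
def n886 : Q := act 4 n564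
theorem D886 : act 4 n564 = n886 := rfl
theorem F1648 : act 2 n886 = n591 := d1_1 D886 F1406 (iv2 F1405)
theorem F1649 : act 7 n886 = n590 := d11_2 (iv7 F1402) D886 (iv4 F1398)
theorem F1650 : act 5 n886 = n577 := d18_4 (iv1 F713) (iv4 F1410) (iv1 F1411) D886 (iv4 F1355) (iv0 D713) F693 F1052 F1065
theorem F1651 : act 1 n886 = n593 := d18_8 (iv1 F972) (iv4 D464) (iv1 D248) F57 D73 D282 D564 D886 F921
theorem F1652 : act 3 n886 = n886 := d20_5 D336 (iv1 F1122) F1121 (iv3 F920) (iv1 F1651) (iv4 D886) (iv1 D564) (iv4 D282) F59 D108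
theorem F1653 : act 4 n885 = n885 := d5_4 D886 F1652 (iv4 D886) D885 (iv3 D885)
theorem F1654 : act 1 n572 = n886 := d15_0 F1651 (iv7 D593) (iv2 F862)
def n887 : Q := act 5 n564
theorem D887 : act 5 n564 = n887 := rfl
def n888 : Q := act 6 n564
theorem D888 : act 6 n564 = n888 := rfl
theorem F1655 : act 7 n888 = n888 := d14_2 (iv7 F1402) D888 (iv6 D888) F1402 F1400
def n889 : Q := act 0 n565
theorem D889 : act 0 n565 = n889 := rfl
def n890 : Q := act 1 n565
theorem D890 : act 1 n565 = n890 := rfl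
def n891 : Q := act 2 n565
theorem D891 : act 2 n565 = n891 := rfl
theorem F1656 : act 4 n891 = n645 := d1_2 (iv4 F853) D891 (iv2 D645)
def n892 : Q := act 5 n565
theorem D892 : act 5 n565 = n892 := rfl
theorem F1657 : act 3 n892 = n566 := d6_1 D892 (iv5 D566) D565
def n893 : Q := act 7 n565
theorem D893 : act 7 n565 = n893 := rfl
theorem F1658 : act 3 n893 = n567 := d8_1 D893 (iv7 D567) D565
theorem F1659 : act 4 n893 = n647 := d11_1 D893 (iv7 D647) (iv4 F853)
def n894 : Q := act 0 n566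
theorem D894 : act 0 n566 = n894 := rfl
theorem F1660 : act 5 n894 = n843 := d17_3 (iv1 D564) D566 D894 F1592 (iv5 D601) (iv0 F993) D572 F1654 (iv4 D886)
def n895 : Q := act 1 n566
theorem D895 : act 1 n566 = n895 := rfl
theorem F1661 : act 5 n895 = n844 := d17_7 (iv1 F843) (iv5 D278) (iv1 D72) D73 D282 D566 D895 F1619 (iv4 D858)
def n896 : Q := act 4 n566
theorem D896 : act 4 n566 = n896 := rfl
def n897 : Q := act 6 n566
theorem D897 : act 6 n566 = n897 := rfl
def n898 : Q := act 7 n566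
theorem D898 : act 7 n566 = n898 := rfl
theorem F1662 : act 5 n898 = n567 := d13_1 D898 (iv7 D567) D566
def n899 : Q := act 6 n567
theorem D899 : act 6 n567 = n899 := rfl
theorem F1663 : act 4 n899 = n568 := d10_1 D899 (iv6 D568) (iv4 F854)
def n900 : Q := act 5 n569
theorem D900 : act 5 n569 = n900 := rfl
theorem F1664 : act 2 n900 = n578 := d2_1 D900 (iv5 D578) (iv2 F857)
theorem F1665 : act 3 n900 = n900 := d6_1 D900 (iv5 D900) F858
theorem F1666 : act 6 n900 = n572 := d12_2 D569 D900 (iv5 D572) (iv6 D293) D292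
theorem F1667 : act 0 n900 = n601 := d17_2 F903 D900 (iv5 D601) (iv4 F981) D460 (iv0 F1108) (iv5 D493) (iv0 F805) (iv4 F902)
theorem F1668 : act 0 n808 = n900 := d21_1 D808 (iv5 D900) (iv6 D569) (iv1 F498) D576 (iv5 F966) F1124 F921 F512 (iv1 F972)
def n901 : Q := act 7 n569
theorem D901 : act 7 n569 = n901 := rfl
theorem F1669 : act 2 n901 = n579 := d4_1 D901 (iv7 D579) (iv2 F857)
theorem F1670 : act 3 n901 = n901 := d8_1 D901 (iv7 D901) F858
theorem F1671 : act 4 n901 = n828 := d11_1 D901 F1557 F1532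
theorem F1672 : act 6 n901 = n901 := d14_1 D901 (iv7 D901) (iv6 D569) F457 D569
theorem F1673 : act 1 n576 = n901 := d15_1 (iv0 F907) (iv7 D901) F857
theorem F1674 : act 1 n901 = n577 := d15_1 F1673 F933 (iv2 F904)
def n902 : Q := act 4 n572
theorem D902 : act 4 n572 = n902 := rfl
theorem F1675 : act 2 n902 = n592 := d1_1 D902 (iv4 D592) (iv2 F862)
theorem F1676 : act 0 n902 = n725 := d18_2 (iv1 F1654) D902 (iv4 D725) F1074 (iv4 F782) D828 (iv4 F1671) F1674 (iv5 F1650)
theorem F1677 : act 1 n902 = n726 := d18_6 (iv1 F365) D420 F994 F616 D572 D902 (iv4 D726) F706 F422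
theorem F1678 : act 7 n875 = n902 := d15_2 (iv0 F1070) F1637 F1675
def n903 : Q := act 7 n572
theorem D903 : act 7 n572 = n903 := rfl
theorem F1679 : act 2 n903 = n593 := d4_1 D903 (iv7 D593) (iv2 F862)
theorem F1680 : act 3 n903 = n903 := d8_1 D903 (iv7 D903) F863
theorem F1681 : act 4 n903 = n875 := d11_1 D903 F1678 (iv4 D902)
theorem F1682 : act 5 n903 = n573 := d13_1 D903 (iv7 D573) D572
theorem F1683 : act 1 n591 = n903 := d15_1 D591 (iv7 D903) F862
theorem F1684 : act 1 n903 = n590 := d15_1 F1683 (iv7 F1649) F1648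
def n904 : Q := act 7 n578
theorem D904 : act 7 n578 = n904 := rfl
theorem F1685 : act 3 n904 = n596 := d8_1 D904 (iv7 D596) (iv3 F908)
theorem F1686 : act 5 n904 = n579 := d13_1 D904 (iv7 D579) D578
theorem F1687 : act 1 n808 = n904 := d15_1 (iv0 F1668) (iv7 D904) (iv2 F1664)
theorem F1688 : act 1 n904 = n601 := d15_1 F1687 (iv7 F1011) (iv2 F1523)
def n905 : Q := act 0 n583
theorem D905 : act 0 n583 = n905 := rfl
theorem F1689 : act 5 n905 = n901 := d17_3 D297 D583 D905 F1671 (iv5 F1614) (iv0 D855) (iv5 D525) F1000 F384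
theorem F1690 : act 4 n905 = n860 := d18_1 D905 (iv1 F1627) (iv4 D547) (iv5 D278) D277 F839 F1003 F869 D583
theorem F1691 : act 2 n904 = n905 := d15_3 (iv0 D905) (iv0 F1018) D904
theorem F1692 : act 1 n588 = n905 := d15_0 (iv0 D905) (iv7 F1525) F1523
theorem F1693 : act 7 n905 = n900 := d15_2 (iv0 F1009) F1692 F1664
theorem F1694 : act 3 n905 = n905 := d20_3 D530 D860 (iv4 F1690) (iv1 F1692) F1010 D609 F963 (iv4 D320) (iv3 F415) (iv1 F1029)
def n906 : Q := act 4 n583
theorem D906 : act 4 n583 = n906 := rfl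
theorem F1695 : act 2 n906 = n843 := d1_1 D906 F1592 F1019
theorem F1696 : act 7 n906 = n844 := d11_2 F1525 D906 (iv4 F1620)
theorem F1697 : act 0 n906 = n847 := d18_2 F1018 D906 F1595 F822 (iv4 F813) F1357 F1355 (iv0 D577) D578
theorem F1698 : act 1 n906 = n717 := d18_6 (iv1 D231) (iv4 F360) D402 (iv4 F988) D583 D906 (iv4 D717) (iv0 F1080) (iv5 D421)
def n907 : Q := act 6 n583
theorem D907 : act 6 n583 = n907 := rfl
theorem F1699 : act 3 n907 = n907 := d7_1 D907 (iv6 D907) F1020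
def n908 : Q := act 4 n588
theorem D908 : act 4 n588 = n908 := rfl
theorem F1700 : act 2 n908 = n844 := d1_1 D908 (iv4 F1620) F1523
theorem F1701 : act 7 n908 = n843 := d11_2 (iv7 F1011) D908 F1592
theorem F1702 : act 0 n908 = n717 := d18_2 (iv1 F1692) D908 (iv4 D717) (iv5 D411) (iv4 F693) (iv0 F796) (iv4 F906) F1673 (iv5 F1689)
theorem F1703 : act 1 n908 = n847 := d18_6 (iv1 F371) (iv4 F388) (iv1 F678) F1105 D588 D908 F1595 F1100 (iv5 D416)
def n909 : Q := act 6 n588
theorem D909 : act 6 n588 = n909 := rfl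
theorem F1704 : act 3 n909 = n610 := d7_1 D909 (iv6 D610) (iv3 F1010)
def n910 : Q := act 6 n591
theorem D910 : act 6 n591 = n910 := rfl
theorem F1705 : act 3 n910 = n612 := d7_1 D910 (iv6 D612) F919
theorem F1706 : act 5 n910 = n910 := d12_1 D910 (iv6 D910) (iv5 F922) F923 F922
theorem F1707 : act 7 n910 = n910 := d14_2 F968 D910 (iv6 D910) (iv7 F968) F967
def n911 : Q := act 3 n592
theorem D911 : act 3 n592 = n911 := rfl
theorem F1708 : act 4 n911 = n613 := d5_2 D592 D911 (iv3 D613) (iv4 D318) (iv3 F510)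
def n912 : Q := act 5 n592
theorem D912 : act 5 n592 = n912 := rfl
theorem F1709 : act 0 n912 = n863 := d17_2 F1070 D912 (iv5 D863) (iv4 D530) (iv5 D273) (iv0 D71) D73 D281 D560
theorem F1710 : act 1 n912 = n872 := d17_6 (iv1 F1692) (iv5 D588) (iv1 D298) D299 D592 D912 (iv5 D872) F1627 (iv4 F1690)
def n913 : Q := act 7 n592
theorem D913 : act 7 n592 = n913 := rfl
theorem F1711 : act 2 n913 = n875 := d4_1 D913 F1678 F1675
theorem F1712 : act 4 n913 = n593 := d11_1 D913 (iv7 D593) D592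
theorem F1713 : act 1 n726 = n913 := d15_1 F1677 (iv7 D913) (iv2 F1675)
theorem F1714 : act 1 n913 = n725 := d15_1 F1713 F1391 (iv2 F1392)
def n914 : Q := act 6 n593
theorem D914 : act 6 n593 = n914 := rfl
theorem F1715 : act 3 n914 = n616 := d7_1 D914 (iv6 D616) (iv3 F920)
theorem F1716 : act 5 n914 = n914 := d12_1 D914 (iv6 D914) F921 F512 (iv5 F921)
def n915 : Q := act 3 n595
theorem D915 : act 3 n595 = n915 := rfl
theorem F1717 : act 6 n915 = n613 := d7_2 (iv6 F936) D915 (iv3 D613)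
def n916 : Q := act 5 n595
theorem D916 : act 5 n595 = n916 := rfl
theorem F1718 : act 2 n916 = n916 := d2_1 D916 (iv5 D916) F935
theorem F1719 : act 0 n916 = n635 := d17_2 (iv1 F938) D916 (iv5 D635) (iv4 D337) (iv5 F97) (iv0 D94) D96 (iv0 F320) D334
theorem F1720 : act 1 n916 = n633 := d17_6 D316 F551 F541 D305 D595 D916 (iv5 D633) F590 (iv4 D318)
def n917 : Q := act 6 n596
theorem D917 : act 6 n596 = n917 := rfl
theorem F1721 : act 2 n917 = n917 := d3_1 D917 (iv6 D917) F939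
theorem F1722 : act 5 n917 = n917 := d12_1 D917 (iv6 D917) F940 F521 (iv5 F940)
theorem F1723 : act 7 n917 = n616 := d14_2 D596 D917 (iv6 D616) (iv7 D319) (iv6 F518)
theorem F1724 : act 0 n610 = n917 := d21_4 F557 F300 D315 D610 (iv6 D917) F940 (iv1 F542) (iv5 F551) F552 (iv1 F558)
def n918 : Q := act 6 n601
theorem D918 : act 6 n601 = n918 := rfl
theorem F1725 : act 2 n918 = n907 := d3_1 D918 (iv6 D907) (iv2 F1019)
theorem F1726 : act 3 n918 = n603 := d7_1 D918 (iv6 D603) (iv3 F945)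
theorem F1727 : act 5 n918 = n909 := d12_1 D918 (iv6 D909) (iv5 D588) (iv6 F1012) D601
def n919 : Q := act 3 n602
theorem D919 : act 3 n602 = n919 := rfl
def n920 : Q := act 6 n602
theorem D920 : act 6 n602 = n920 := rfl
theorem F1728 : act 2 n920 = n920 := d3_1 D920 (iv6 D920) F946
theorem F1729 : act 4 n920 = n603 := d10_1 D920 (iv6 D603) D602
def n921 : Q := act 0 n603
theorem D921 : act 0 n603 = n921 := rfl
def n922 : Q := act 1 n603
theorem D922 : act 1 n603 = n922 := rfl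
theorem F1730 : act 5 n921 = n922 := d21_0 (iv1 D922) (iv5 F965) (iv6 D610) F526 F518 (iv5 D88) D86 D310 D603 D921
theorem F1731 : act 6 n922 = n922 := d21_3 F965 D921 F1730 (iv1 D922) (iv6 D603) (iv5 D310) (iv1 F301) (iv5 F557) D616 F1127
def n923 : Q := act 7 n603
theorem D923 : act 7 n603 = n923 := rfl
theorem F1732 : act 2 n923 = n923 := d4_1 D923 (iv7 D923) F948
theorem F1733 : act 1 n923 = n921 := d15_0 (iv0 D921) D923 F1732
theorem F1734 : act 1 n922 = n923 := d15_1 D922 (iv7 D923) F948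
def n924 : Q := act 3 n609
theorem D924 : act 3 n609 = n924 := rfl
theorem F1735 : act 7 n924 = n919 := d8_2 (iv7 F962) D924 (iv3 D919)
def n925 : Q := act 6 n609
theorem D925 : act 6 n609 = n925 := rfl
theorem F1736 : act 2 n925 = n925 := d3_1 D925 (iv6 D925) F961
theorem F1737 : act 4 n925 = n610 := d10_1 D925 (iv6 D610) D609
theorem F1738 : act 0 n653 = n925 := d21_4 (iv5 F1195) (iv1 F1210) F1209 D653 (iv6 D925) (iv5 F1198) (iv1 D649) (iv5 D342) (iv6 F562) (iv1 F947)
def n926 : Q := act 7 n610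
theorem D926 : act 7 n610 = n926 := rfl
theorem F1739 : act 2 n926 = n926 := d4_1 D926 (iv7 D926) F964
theorem F1740 : act 5 n926 = n923 := d13_1 D926 (iv7 D923) (iv5 F965)
theorem F1741 : act 6 n926 = n923 := d14_1 D926 (iv7 D923) (iv6 D603) (iv7 F536) D610
theorem F1742 : act 1 n926 = n917 := d15_0 (iv0 F1724) D926 F1739
theorem F1743 : act 1 n616 = n926 := d15_1 (iv0 F1127) (iv7 D926) F964
def n927 : Q := act 0 n612
theorem D927 : act 0 n612 = n927 := rfl
theorem F1744 : act 6 n927 = n921 := d21_5 (iv5 D305) D303 (iv5 F553) D612 D927 F1730 (iv1 D922) (iv5 F965) (iv6 D610) F526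
theorem F1745 : act 5 n927 = n927 := d21_8 (iv5 F1740) (iv1 F1743) F1126 (iv6 D616) (iv1 F559) D612 F1117 D927 F1744 (iv1 F1733)
theorem F1746 : act 0 n927 = n612 := d21_1 F1745 F1117 (iv6 D612) (iv1 D317) (iv6 F518) (iv5 D305) D303 (iv5 F553) D612 D927
def n928 : Q := act 0 n613
theorem D928 : act 0 n613 = n928 := rfl
def n929 : Q := act 1 n613
theorem D929 : act 1 n613 = n929 := rfl
def n930 : Q := act 2 n613
theorem D930 : act 2 n613 = n930 := rfl
theorem F1747 : act 3 n930 = n930 := d0_2 D613 D930 (iv2 D930) (iv3 D613) F555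
def n931 : Q := act 5 n613
theorem D931 : act 5 n613 = n931 := rfl
theorem F1748 : act 3 n931 = n614 := d6_1 D931 (iv5 D614) D613
def n932 : Q := act 7 n613
theorem D932 : act 7 n613 = n932 := rfl
theorem F1749 : act 3 n932 = n615 := d8_1 D932 (iv7 D615) D613
def n933 : Q := act 6 n614
theorem D933 : act 6 n614 = n933 := rfl
theorem F1750 : act 2 n933 = n933 := d3_1 D933 (iv6 D933) F1119
def n934 : Q := act 6 n615
theorem D934 : act 6 n615 = n934 := rfl
theorem F1751 : act 2 n934 = n934 := d3_1 D934 (iv6 D934) F1120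
theorem F1752 : act 4 n934 = n616 := d10_1 D934 (iv6 D616) (iv4 F1121)
theorem F1753 : act 0 n934 = n630 := d21_4 D623 (iv1 F1204) F1202 D934 (iv6 D630) D629 F1158 (iv5 D614) (iv6 F936) F937
def n935 : Q := act 0 n617
theorem D935 : act 0 n617 = n935 := rfl
def n936 : Q := act 1 n617
theorem D936 : act 1 n617 = n936 := rfl
def n937 : Q := act 2 n617
theorem D937 : act 2 n617 = n937 := rfl
theorem F1754 : act 3 n937 = n937 := d0_2 D617 D937 (iv2 D937) (iv3 D617) F561
theorem F1755 : act 6 n937 = n645 := d3_2 (iv6 F1128) D937 (iv2 D645)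
def n938 : Q := act 5 n617
theorem D938 : act 5 n617 = n938 := rfl
theorem F1756 : act 3 n938 = n618 := d6_1 D938 (iv5 D618) D617
def n939 : Q := act 7 n617
theorem D939 : act 7 n617 = n939 := rfl
theorem F1757 : act 3 n939 = n619 := d8_1 D939 (iv7 D619) D617
def n940 : Q := act 4 n618
theorem D940 : act 4 n618 = n940 := rfl
theorem F1758 : act 2 n940 = n940 := d1_1 D940 (iv4 D940) F1129
theorem F1759 : act 5 n940 = n621 := d16_3 D320 D618 D940 F1138 F940 F520 (iv5 F564) (iv7 D321) F315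
theorem F1760 : act 0 n940 = n633 := d17_0 (iv5 D633) (iv1 F1122) (iv5 F1202) (iv4 D650) (iv5 D342) D340 D641 F1188 D940
theorem F1761 : act 1 n940 = n635 := d18_6 (iv1 F1139) (iv4 D334) F320 D320 D618 D940 F1174 (iv0 F1760) F1759
theorem F1762 : act 7 n916 = n940 := d16_8 (iv4 D940) (iv5 D618) (iv4 D320) (iv5 D96) (iv4 F79) D305 D595 D916 F1758
def n941 : Q := act 6 n618
theorem D941 : act 6 n618 = n941 := rfl
theorem F1763 : act 2 n941 = n941 := d3_1 D941 (iv6 D941) F1129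
theorem F1764 : act 5 n941 = n651 := d12_1 D941 (iv6 D651) (iv5 D342) (iv6 F562) D618
def n942 : Q := act 7 n618
theorem D942 : act 7 n618 = n942 := rfl
theorem F1765 : act 2 n942 = n942 := d4_1 D942 (iv7 D942) F1129
theorem F1766 : act 4 n942 = n916 := d11_1 D942 F1762 (iv4 D940)
theorem F1767 : act 5 n942 = n619 := d13_1 D942 (iv7 D619) D618
theorem F1768 : act 1 n942 = n641 := d15_0 F1188 D942 F1765
theorem F1769 : act 1 n639 = n942 := d15_1 (iv0 F1183) (iv7 D942) F1129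
def n943 : Q := act 6 n619
theorem D943 : act 6 n619 = n943 := rfl
theorem F1770 : act 2 n943 = n943 := d3_1 D943 (iv6 D943) F1130
theorem F1771 : act 4 n943 = n620 := d10_1 D943 (iv6 D620) (iv4 F1131)
theorem F1772 : act 7 n943 = n653 := d14_2 D619 D943 (iv6 D653) (iv7 D343) (iv6 F562)
theorem F1773 : act 0 n925 = n943 := d21_4 (iv5 F1209) (iv1 F1211) F1198 D925 (iv6 D943) (iv5 F1767) (iv1 F1769) (iv5 D639) F599 (iv1 F604)
def n944 : Q := act 3 n621
theorem D944 : act 3 n621 = n944 := rfl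
theorem F1774 : act 7 n944 = n915 := d8_2 (iv7 F1140) D944 (iv3 D915)
def n945 : Q := act 6 n621
theorem D945 : act 6 n621 = n945 := rfl
theorem F1775 : act 2 n945 = n945 := d3_1 D945 (iv6 D945) F1141
theorem F1776 : act 4 n945 = n917 := d10_1 D945 (iv6 D917) (iv4 F1138)
theorem F1777 : act 7 n945 = n934 := d14_2 (iv7 F1140) D945 (iv6 D934) (iv7 D615) (iv6 F936)
theorem F1778 : act 0 n630 = n945 := d21_4 (iv5 F1202) F1203 (iv5 D629) D630 (iv6 D945) (iv5 F1759) F1760 (iv5 D633) F589 (iv1 F1122)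
def n946 : Q := act 0 n622
theorem D946 : act 0 n622 = n946 := rfl
def n947 : Q := act 1 n622
theorem D947 : act 1 n622 = n947 := rfl
def n948 : Q := act 2 n622
theorem D948 : act 2 n622 = n948 := rfl
theorem F1779 : act 3 n948 = n948 := d0_2 D622 D948 (iv2 D948) (iv3 D622) F570
theorem F1780 : act 4 n948 = n948 := d1_2 F1142 D948 (iv2 D948)
def n949 : Q := act 5 n622
theorem D949 : act 5 n622 = n949 := rfl
theorem F1781 : act 3 n949 = n623 := d6_1 D949 (iv5 D623) D622
def n950 : Q := act 6 n622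
theorem D950 : act 6 n622 = n950 := rfl
theorem F1782 : act 3 n950 = n624 := d7_1 D950 (iv6 D624) D622
theorem F1783 : act 4 n950 = n950 := d10_1 D950 (iv6 D950) F1142
def n951 : Q := act 6 n623
theorem D951 : act 6 n623 = n951 := rfl
theorem F1784 : act 2 n951 = n951 := d3_1 D951 (iv6 D951) F1143
def n952 : Q := act 0 n624
theorem D952 : act 0 n624 = n952 := rfl
def n953 : Q := act 1 n624
theorem D953 : act 1 n624 = n953 := rfl
theorem F1785 : act 4 n953 = n922 := d18_7 (iv1 F1743) (iv4 F1752) F1753 F1160 F587 (iv4 F1146) D953 F1734 (iv5 F1740)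
theorem F1786 : act 6 n953 = n953 := d10_0 F1785 F1731 (iv4 F1785)
def n954 : Q := act 5 n624
theorem D954 : act 5 n624 = n954 := rfl
theorem F1787 : act 2 n954 = n954 := d2_1 D954 (iv5 D954) F1145
def n955 : Q := act 7 n624
theorem D955 : act 7 n624 = n955 := rfl
theorem F1788 : act 2 n955 = n955 := d4_1 D955 (iv7 D955) F1145
theorem F1789 : act 4 n955 = n627 := d11_1 D955 (iv7 D627) (iv4 F1146)
theorem F1790 : act 1 n955 = n952 := d15_0 (iv0 D952) D955 F1788
theorem F1791 : act 1 n953 = n955 := d15_1 D953 (iv7 D955) F1145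
theorem F1792 : act 4 n952 = n921 := d18_3 (iv1 D626) (iv4 F1146) D952 F1730 (iv4 F1785) F1791 F1789 F1151 F1147
def n956 : Q := act 2 n625
theorem D956 : act 2 n625 = n956 := rfl
theorem F1793 : act 7 n626 = n956 := d15_2 (iv0 D625) D626 (iv2 D956)
def n957 : Q := act 3 n625
theorem D957 : act 3 n625 = n957 := rfl
def n958 : Q := act 4 n625
theorem D958 : act 4 n625 = n958 := rfl
def n959 : Q := act 7 n625
theorem D959 : act 7 n625 = n959 := rfl
theorem F1794 : act 2 n959 = n626 := d4_1 D959 F1793 (iv2 D956)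
theorem F1795 : act 5 n959 = n956 := d13_1 D959 (iv7 F1793) (iv5 F1147)
theorem F1796 : act 6 n959 = n959 := d3_0 F1794 F1148 (iv2 F1794)
theorem F1797 : act 7 n637 = n637 := d14_4 D959 F1796 (iv7 D959) (iv6 F1178) F1178
theorem F1798 : act 2 n637 = n637 := d15_3 (iv0 D637) (iv0 F1180) F1797
theorem E344 : n956 = n625 := (c3_4 (iv6 F1178) F1798 F1178 D956)
theorem F1799 : act 2 n625 = n625 := (sb E344 (iv2 D956))
theorem E345 : n959 = n626 := (((F1147).symm.trans (sb E344 (iv5 F1795)))).symm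
theorem F1800 : act 2 n626 = n626 := (sb E345 F1794)
theorem F1801 : act 7 n626 = n625 := (sb E345 (iv7 D959))
theorem F1802 : act 2 n958 = n958 := d1_3 (iv4 D958) F1799 D958
def n960 : Q := act 3 n626
theorem D960 : act 3 n626 = n960 := rfl
theorem F1803 : act 5 n960 = n957 := d6_2 F1147 D960 (iv3 D957)
def n961 : Q := act 4 n626
theorem D961 : act 4 n626 = n961 := rfl
theorem F1806 : act 2 n961 = n961 := d1_1 D961 (iv4 D961) F1800
theorem F1807 : act 6 n961 = n961 := d10_2 F1148 D961 (iv4 D961)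
theorem F1808 : act 7 n961 = n958 := d11_2 (iv7 F1801) D961 (iv4 D958)
theorem F1809 : act 0 n961 = n920 := d18_2 (iv1 F1152) D961 F1729 (iv5 F965) (iv4 F1737) (iv0 F1738) F1213 F1166 F1163
theorem F1810 : act 1 n958 = n920 := d15_0 (iv0 F1809) F1808 F1802
def n962 : Q := act 0 n628
theorem D962 : act 0 n628 = n962 := rfl
theorem F1811 : act 1 n948 = n962 := d15_0 (iv0 D962) F1154 D948
def n963 : Q := act 1 n628
theorem D963 : act 1 n628 = n963 := rfl
def n964 : Q := act 2 n628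
theorem D964 : act 2 n628 = n964 := rfl
theorem F1812 : act 3 n964 = n964 := d0_2 D628 D964 (iv2 D964) (iv3 D628) F584
theorem F1813 : act 4 n964 = n964 := d1_2 F1153 D964 (iv2 D964)
theorem F1814 : act 7 n964 = n948 := d4_2 (iv7 F1154) D964 (iv2 D948)
theorem F1815 : act 1 n964 = n946 := d15_0 (iv0 D946) (iv7 F1154) D964
theorem F1816 : act 1 n963 = n948 := d15_1 D963 (iv7 F1814) (iv2 D964)
theorem F1817 : act 1 n947 = n964 := d15_1 D947 F1814 (iv2 D948)
def n965 : Q := act 5 n628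
theorem D965 : act 5 n628 = n965 := rfl
theorem F1818 : act 3 n965 = n629 := d6_1 D965 (iv5 D629) D628
theorem F1819 : act 7 n965 = n949 := d13_2 (iv7 F1154) D965 (iv5 D949)
def n966 : Q := act 6 n628
theorem D966 : act 6 n628 = n966 := rfl
theorem F1820 : act 3 n966 = n630 := d7_1 D966 (iv6 D630) D628
theorem F1821 : act 4 n966 = n966 := d10_1 D966 (iv6 D966) F1153
def n967 : Q := act 6 n629
theorem D967 : act 6 n629 = n967 := rfl
theorem F1822 : act 2 n967 = n967 := d3_1 D967 (iv6 D967) F1155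
theorem F1823 : act 4 n967 = n951 := d10_1 D967 (iv6 D951) (iv4 F1157)
def n968 : Q := act 5 n630
theorem D968 : act 5 n630 = n968 := rfl
theorem F1824 : act 2 n968 = n968 := d2_1 D968 (iv5 D968) F1159
def n969 : Q := act 7 n630
theorem D969 : act 7 n630 = n969 := rfl
theorem F1825 : act 2 n969 = n969 := d4_1 D969 (iv7 D969) F1159
theorem F1826 : act 4 n969 = n631 := d11_1 D969 (iv7 D631) (iv4 F1160)
theorem F1827 : act 6 n969 = n955 := d14_1 D969 (iv7 D955) (iv6 D624) (iv7 F585) D630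
theorem F1828 : act 1 n969 = n945 := d15_0 (iv0 F1778) D969 F1825
theorem F1829 : act 1 n934 = n969 := d15_1 (iv0 F1753) (iv7 D969) F1159
def n970 : Q := act 0 n632
theorem D970 : act 0 n632 = n970 := rfl
def n971 : Q := act 1 n632
theorem D971 : act 1 n632 = n971 := rfl
def n972 : Q := act 2 n632
theorem D972 : act 2 n632 = n972 := rfl
theorem F1830 : act 3 n972 = n972 := d0_2 D632 D972 (iv2 D972) (iv3 D632) F588
theorem F1831 : act 4 n972 = n972 := d1_2 F1167 D972 (iv2 D972)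
theorem F1832 : act 6 n972 = n972 := d3_2 F1168 D972 (iv2 D972)
def n973 : Q := act 5 n632
theorem D973 : act 5 n632 = n973 := rfl
theorem F1833 : act 3 n973 = n633 := d6_1 D973 (iv5 D633) D632
def n974 : Q := act 6 n633
theorem D974 : act 6 n633 = n974 := rfl
theorem F1834 : act 2 n974 = n974 := d3_1 D974 (iv6 D974) F1169
theorem F1835 : act 5 n974 = n974 := d12_1 D974 (iv6 D974) (iv5 D633) F589 D633
def n975 : Q := act 0 n634
theorem D975 : act 0 n634 = n975 := rfl
theorem F1836 : act 1 n972 = n975 := d15_0 (iv0 D975) F1171 D972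
def n976 : Q := act 1 n634
theorem D976 : act 1 n634 = n976 := rfl
def n977 : Q := act 2 n634
theorem D977 : act 2 n634 = n977 := rfl
theorem F1837 : act 3 n977 = n977 := d0_2 D634 D977 (iv2 D977) (iv3 D634) F591
theorem F1838 : act 4 n977 = n977 := d1_2 F1170 D977 (iv2 D977)
theorem F1839 : act 7 n977 = n972 := d4_2 (iv7 F1171) D977 (iv2 D972)
theorem F1840 : act 1 n977 = n970 := d15_0 (iv0 D970) (iv7 F1171) D977
theorem F1841 : act 1 n976 = n972 := d15_1 D976 (iv7 F1839) (iv2 D977)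
theorem F1842 : act 1 n971 = n977 := d15_1 D971 F1839 (iv2 D972)
def n978 : Q := act 5 n634
theorem D978 : act 5 n634 = n978 := rfl
theorem F1843 : act 3 n978 = n635 := d6_1 D978 (iv5 D635) D634
theorem F1844 : act 7 n978 = n973 := d13_2 (iv7 F1171) D978 (iv5 D973)
def n979 : Q := act 6 n634
theorem D979 : act 6 n634 = n979 := rfl
theorem F1845 : act 3 n979 = n636 := d7_1 D979 (iv6 D636) D634
theorem F1846 : act 4 n979 = n979 := d10_1 D979 (iv6 D979) F1170
theorem F1847 : act 7 n979 = n979 := d14_2 (iv7 F1171) D979 (iv6 D979) F1171 F1168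
def n980 : Q := act 6 n635
theorem D980 : act 6 n635 = n980 := rfl
theorem F1848 : act 2 n980 = n980 := d3_1 D980 (iv6 D980) F1172
theorem F1849 : act 4 n980 = n974 := d10_1 D980 (iv6 D974) (iv4 F1174)
def n981 : Q := act 0 n636
theorem D981 : act 0 n636 = n981 := rfl
theorem F1850 : act 1 n636 = n981 := d15_0 (iv0 D981) F1177 F1175
def n982 : Q := act 5 n636
theorem D982 : act 5 n636 = n982 := rfl
theorem F1851 : act 2 n982 = n982 := d2_1 D982 (iv5 D982) F1175
theorem F1852 : act 7 n982 = n982 := d13_2 F1177 D982 (iv5 D982)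
def n983 : Q := act 3 n637
theorem D983 : act 3 n637 = n983 := rfl
theorem F1854 : act 6 n983 = n957 := d7_2 (iv6 F1178) D983 (iv3 D957)
def n984 : Q := act 4 n637
theorem D984 : act 4 n637 = n984 := rfl
theorem F1856 : act 2 n984 = n984 := d1_1 D984 (iv4 D984) F1798
theorem F1857 : act 6 n984 = n958 := d10_2 (iv6 F1178) D984 (iv4 D958)
theorem F1858 : act 7 n984 = n984 := d11_2 F1797 D984 (iv4 D984)
def n985 : Q := act 0 n638
theorem D985 : act 0 n638 = n985 := rfl
def n986 : Q := act 1 n638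
theorem D986 : act 1 n638 = n986 := rfl
def n987 : Q := act 2 n638
theorem D987 : act 2 n638 = n987 := rfl
theorem F1859 : act 3 n987 = n987 := d0_2 D638 D987 (iv2 D987) (iv3 D638) F900
theorem F1860 : act 6 n987 = n987 := d3_2 F1181 D987 (iv2 D987)
def n988 : Q := act 5 n638
theorem D988 : act 5 n638 = n988 := rfl
theorem F1861 : act 3 n988 = n639 := d6_1 D988 (iv5 D639) D638
def n989 : Q := act 6 n639
theorem D989 : act 6 n639 = n989 := rfl
theorem F1862 : act 2 n989 = n989 := d3_1 D989 (iv6 D989) F1182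
theorem F1863 : act 5 n989 = n989 := d12_1 D989 (iv6 D989) (iv5 D639) F599 D639
def n990 : Q := act 0 n640
theorem D990 : act 0 n640 = n990 := rfl
theorem F1864 : act 1 n987 = n990 := d15_0 (iv0 D990) F1184 D987
def n991 : Q := act 1 n640
theorem D991 : act 1 n640 = n991 := rfl
def n992 : Q := act 2 n640
theorem D992 : act 2 n640 = n992 := rfl
theorem F1865 : act 3 n992 = n992 := d0_2 D640 D992 (iv2 D992) (iv3 D640) F897
theorem F1866 : act 7 n992 = n987 := d4_2 (iv7 F1184) D992 (iv2 D987)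
theorem F1867 : act 1 n992 = n985 := d15_0 (iv0 D985) (iv7 F1184) D992
theorem F1868 : act 1 n991 = n987 := d15_1 D991 (iv7 F1866) (iv2 D992)
theorem F1869 : act 1 n986 = n992 := d15_1 D986 F1866 (iv2 D987)
def n993 : Q := act 4 n640
theorem D993 : act 4 n640 = n993 := rfl
theorem F1870 : act 3 n993 = n729 := d5_1 D993 (iv4 F1406) (iv3 F919) (iv4 F600) D640
theorem F1871 : act 7 n993 = n883 := d11_2 (iv7 F1184) D993 F1646
def n994 : Q := act 5 n640
theorem D994 : act 5 n640 = n994 := rfl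
theorem F1872 : act 3 n994 = n641 := d6_1 D994 (iv5 D641) D640
theorem F1873 : act 7 n994 = n988 := d13_2 (iv7 F1184) D994 (iv5 D988)
def n995 : Q := act 6 n640
theorem D995 : act 6 n640 = n995 := rfl
theorem F1874 : act 3 n995 = n642 := d7_1 D995 (iv6 D642) D640
theorem F1875 : act 7 n995 = n995 := d14_2 (iv7 F1184) D995 (iv6 D995) F1184 F1181
def n996 : Q := act 6 n641
theorem D996 : act 6 n641 = n996 := rfl
theorem F1876 : act 2 n996 = n996 := d3_1 D996 (iv6 D996) F1185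
theorem F1877 : act 4 n996 = n989 := d10_1 D996 (iv6 D989) (iv4 F1187)
def n997 : Q := act 0 n642
theorem D997 : act 0 n642 = n997 := rfl
theorem F1878 : act 1 n642 = n997 := d15_0 (iv0 D997) F1191 F1189
def n998 : Q := act 5 n642
theorem D998 : act 5 n642 = n998 := rfl
theorem F1879 : act 2 n998 = n998 := d2_1 D998 (iv5 D998) F1189
theorem F1880 : act 7 n998 = n998 := d13_2 F1191 D998 (iv5 D998)
def n999 : Q := act 0 n643
theorem D999 : act 0 n643 = n999 := rfl
theorem F1881 : act 2 n647 = n999 := d15_3 (iv0 D999) (iv0 D643) D647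
theorem F1882 : act 3 n999 = n999 := d0_2 (iv3 F1194) F1881 (iv2 F1881) F1194 F602
theorem F1883 : act 7 n999 = n645 := d4_2 D647 F1881 (iv2 D645)
theorem F1884 : act 1 n644 = n999 := d15_1 D644 F1883 (iv2 D645)
def n1000 : Q := act 2 n643
theorem D1000 : act 2 n643 = n1000 := rfl
theorem F1885 : act 7 n644 = n1000 := d15_2 (iv0 D643) D644 (iv2 D1000)
def n1001 : Q := act 3 n643
theorem D1001 : act 3 n643 = n1001 := rfl
def n1002 : Q := act 4 n643
theorem D1002 : act 4 n643 = n1002 := rfl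
def n1003 : Q := act 5 n643
theorem D1003 : act 5 n643 = n1003 := rfl
def n1004 : Q := act 6 n643
theorem D1004 : act 6 n643 = n1004 := rfl
def n1005 : Q := act 7 n643
theorem D1005 : act 7 n643 = n1005 := rfl
theorem F1886 : act 2 n1005 = n644 := d4_1 D1005 F1885 (iv2 D1000)
def n1006 : Q := act 3 n644
theorem D1006 : act 3 n644 = n1006 := rfl
def n1007 : Q := act 4 n644
theorem D1007 : act 4 n644 = n1007 := rfl
def n1008 : Q := act 5 n644
theorem D1008 : act 5 n644 = n1008 := rfl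
def n1009 : Q := act 6 n644
theorem D1009 : act 6 n644 = n1009 := rfl
def n1010 : Q := act 0 n645
theorem D1010 : act 0 n645 = n1010 := rfl
theorem F1887 : act 1 n647 = n1010 := d15_0 (iv0 D1010) (iv7 F1883) (iv2 F1881)
def n1011 : Q := act 1 n645
theorem D1011 : act 1 n645 = n1011 := rfl
theorem F1888 : act 1 n1011 = n647 := d15_1 D1011 (iv7 D647) D645
def n1012 : Q := act 5 n645
theorem D1012 : act 5 n645 = n1012 := rfl
theorem F1889 : act 2 n1012 = n646 := d2_1 D1012 (iv5 D646) D645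
theorem F1890 : act 3 n1012 = n1012 := d6_1 D1012 (iv5 D1012) F1192
def n1013 : Q := act 0 n646
theorem D1013 : act 0 n646 = n1013 := rfl
def n1014 : Q := act 1 n646
theorem D1014 : act 1 n646 = n1014 := rfl
def n1015 : Q := act 4 n646
theorem D1015 : act 4 n646 = n1015 := rfl
def n1016 : Q := act 6 n646
theorem D1016 : act 6 n646 = n1016 := rfl
theorem F1891 : act 3 n1016 = n651 := d7_1 D1016 (iv6 D651) (iv3 F1193)
def n1017 : Q := act 7 n646
theorem D1017 : act 7 n646 = n1017 := rfl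
theorem F1892 : act 3 n1017 = n652 := d8_1 D1017 (iv7 D652) (iv3 F1193)
theorem F1893 : act 5 n1017 = n647 := d13_1 D1017 (iv7 D647) D646
def n1018 : Q := act 6 n647
theorem D1018 : act 6 n647 = n1018 := rfl
theorem F1894 : act 3 n1018 = n653 := d7_1 D1018 (iv6 D653) (iv3 F1194)
def n1019 : Q := act 3 n648
theorem D1019 : act 3 n648 = n1019 := rfl
theorem F1895 : act 5 n1019 = n919 := d6_2 (iv5 F1195) D1019 (iv3 D919)
def n1020 : Q := act 6 n648
theorem D1020 : act 6 n648 = n1020 := rfl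
theorem F1896 : act 2 n1020 = n1020 := d3_1 D1020 (iv6 D1020) F1196
def n1021 : Q := act 3 n649
theorem D1021 : act 3 n649 = n1021 := rfl
theorem F1897 : act 5 n1021 = n924 := d6_2 (iv5 F1198) D1021 (iv3 D924)
theorem F1898 : act 7 n1021 = n1019 := d8_2 (iv7 F1197) D1021 (iv3 D1019)
def n1022 : Q := act 6 n649
theorem D1022 : act 6 n649 = n1022 := rfl
theorem F1899 : act 2 n1022 = n1022 := d3_1 D1022 (iv6 D1022) F1199
theorem F1900 : act 4 n1022 = n1020 := d10_1 D1022 (iv6 D1020) F1200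
def n1023 : Q := act 3 n650
theorem D1023 : act 3 n650 = n1023 := rfl
theorem F1901 : act 5 n1023 = n932 := d6_2 (iv5 F1202) D1023 F1749
theorem F1902 : act 7 n1023 = n931 := d8_2 F1205 D1023 F1748
def n1024 : Q := act 6 n650
theorem D1024 : act 6 n650 = n1024 := rfl
theorem F1903 : act 2 n1024 = n1024 := d3_1 D1024 (iv6 D1024) F1201
theorem F1904 : act 4 n1024 = n651 := d10_1 D1024 (iv6 D651) D650
def n1025 : Q := act 0 n651
theorem D1025 : act 0 n651 = n1025 := rfl
def n1026 : Q := act 1 n651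
theorem D1026 : act 1 n651 = n1026 := rfl
def n1027 : Q := act 7 n651
theorem D1027 : act 7 n651 = n1027 := rfl
theorem F1905 : act 2 n1027 = n1027 := d4_1 D1027 (iv7 D1027) F1206
theorem F1906 : act 1 n1027 = n1025 := d15_0 (iv0 D1025) D1027 F1905
theorem F1907 : act 1 n1026 = n1027 := d15_1 D1026 (iv7 D1027) F1206
def n1028 : Q := act 6 n652
theorem D1028 : act 6 n652 = n1028 := rfl
theorem F1908 : act 2 n1028 = n1028 := d3_1 D1028 (iv6 D1028) F1207
theorem F1909 : act 4 n1028 = n933 := d10_1 D1028 (iv6 D933) (iv4 F1208)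
def n1029 : Q := act 1 n653
theorem D1029 : act 1 n653 = n1029 := rfl
theorem F1910 : act 1 n1029 = n943 := d15_1 D1029 F1772 F1212
theorem F1911 : act 7 n1029 = n925 := d15_2 (iv0 F1738) D1029 F1736
theorem F1912 : act 2 n1029 = n1029 := d4_3 F1911 F1736 (iv7 F1911)
theorem F1913 : act 4 n926 = n1029 := d11_3 F1911 F1737 D926
def n1030 : Q := act 5 n653
theorem D1030 : act 5 n653 = n1030 := rfl
theorem F1914 : act 2 n1030 = n1030 := d2_1 D1030 (iv5 D1030) F1212
def n1031 : Q := act 4 n654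
theorem D1031 : act 4 n654 = n1031 := rfl
theorem F1915 : act 2 n1031 = n690 := d1_1 D1031 (iv4 D690) (iv2 F1214)
theorem F1916 : act 7 n1031 = n1031 := d11_2 F1216 D1031 (iv4 D1031)
def n1032 : Q := act 6 n654
theorem D1032 : act 6 n654 = n1032 := rfl
theorem F1917 : act 2 n1032 = n691 := d3_1 D1032 (iv6 D691) (iv2 F1214)
theorem F1918 : act 3 n1032 = n657 := d7_1 D1032 (iv6 D657) (iv3 F1215)
def n1033 : Q := act 0 n655
theorem D1033 : act 0 n655 = n1033 := rfl
theorem F1919 : act 2 n692 = n1033 := d15_3 (iv0 D1033) (iv0 F1220) F1300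
theorem F1920 : act 1 n695 = n1033 := d15_0 (iv0 D1033) (iv7 F1603) F1600
theorem F1921 : act 7 n1033 = n693 := d15_2 F1305 F1920 (iv2 F1606)
theorem F1922 : act 3 n1033 = n853 := d0_2 (iv3 F1297) F1919 (iv2 D853) (iv3 D524) (iv2 F1096)
theorem F1923 : act 4 n1033 = n853 := d1_2 (iv4 F1298) F1919 (iv2 D853)
theorem F1924 : act 6 n1033 = n693 := d3_2 F1299 F1919 (iv2 F1606)
def n1034 : Q := act 5 n655
theorem D1034 : act 5 n655 = n1034 := rfl
theorem F1925 : act 2 n1034 = n694 := d2_1 D1034 (iv5 D694) (iv2 F1217)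
theorem F1926 : act 3 n1034 = n658 := d6_1 D1034 (iv5 D658) (iv3 F1218)
def n1035 : Q := act 3 n656
theorem D1035 : act 3 n656 = n1035 := rfl
theorem F1927 : act 7 n1035 = n1035 := d8_2 F1222 D1035 (iv3 D1035)
def n1036 : Q := act 6 n656
theorem D1036 : act 6 n656 = n1036 := rfl
theorem F1928 : act 2 n1036 = n752 := d3_1 D1036 (iv6 D752) (iv2 F1221)
theorem F1929 : act 4 n1036 = n657 := d10_1 D1036 (iv6 D657) D656
def n1037 : Q := act 0 n657
theorem D1037 : act 0 n657 = n1037 := rfl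
def n1038 : Q := act 1 n657
theorem D1038 : act 1 n657 = n1038 := rfl
theorem F1930 : act 1 n1038 = n756 := d15_1 D1038 (iv7 D756) (iv2 F1225)
def n1039 : Q := act 5 n657
theorem D1039 : act 5 n657 = n1039 := rfl
theorem F1931 : act 2 n1039 = n755 := d2_1 D1039 (iv5 D755) (iv2 F1225)
theorem F1932 : act 6 n1039 = n658 := d12_2 D657 D1039 (iv5 D658) (iv6 D347) D346
def n1040 : Q := act 7 n657
theorem D1040 : act 7 n657 = n1040 := rfl
theorem F1933 : act 2 n1040 = n756 := d4_1 D1040 (iv7 D756) (iv2 F1225)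
theorem F1934 : act 6 n1040 = n1040 := d14_1 D1040 (iv7 D1040) (iv6 D657) F614 D657
theorem F1935 : act 1 n756 = n1037 := d15_0 (iv0 D1037) D1040 F1933
theorem F1936 : act 1 n754 = n1040 := d15_1 D754 (iv7 D1040) F1225
theorem F1937 : act 1 n1040 = n753 := d15_0 (iv0 D753) D756 (iv2 F1933)
def n1041 : Q := act 4 n658
theorem D1041 : act 4 n658 = n1041 := rfl
theorem F1938 : act 2 n1041 = n759 := d1_1 D1041 (iv4 D759) (iv2 F1226)
theorem F1939 : act 0 n1041 = n811 := d18_2 F1590 D1041 (iv4 D811) F797 (iv4 F906) F1673 F1671 F1556 D842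
theorem F1940 : act 1 n1041 = n813 := d18_6 (iv1 F684) D464 F971 (iv4 F616) D658 D1041 (iv4 D813) F1338 F1337
def n1042 : Q := act 0 n660
theorem D1042 : act 0 n660 = n1042 := rfl
theorem F1941 : act 5 n1042 = n824 := d17_3 D348 D660 D1042 F1544 F1347 F1292 (iv5 D654) (iv0 F612) F338
theorem F1942 : act 2 n748 = n1042 := d15_3 (iv0 D1042) F1449 F1447
theorem F1943 : act 1 n662 = n1042 := d15_0 (iv0 D1042) F1234 (iv2 F1235)
theorem F1944 : act 7 n1042 = n1042 := d15_2 (iv0 F1448) F1943 (iv2 F1942)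
theorem F1945 : act 3 n1042 = n689 := d0_2 D748 F1942 (iv2 F1293) F1288 (iv2 F732)
def n1043 : Q := act 6 n660
theorem D1043 : act 6 n660 = n1043 := rfl
def n1044 : Q := act 0 n661
theorem D1044 : act 0 n661 = n1044 := rfl
def n1045 : Q := act 1 n661
theorem D1045 : act 1 n661 = n1045 := rfl
def n1046 : Q := act 5 n661
theorem D1046 : act 5 n661 = n1046 := rfl
def n1047 : Q := act 7 n661
theorem D1047 : act 7 n661 = n1047 := rfl
theorem F1946 : act 6 n1047 = n1047 := d14_1 D1047 (iv7 D1047) (iv6 D661) F1231 D661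
def n1048 : Q := act 4 n662
theorem D1048 : act 4 n662 = n1048 := rfl
theorem F1947 : act 2 n1048 = n743 := d1_1 D1048 F1434 (iv2 F1235)
theorem F1948 : act 7 n1048 = n1048 := d11_2 F1237 D1048 (iv4 D1048)
def n1049 : Q := act 6 n662
theorem D1049 : act 6 n662 = n1049 := rfl
theorem F1949 : act 2 n1049 = n1043 := d3_1 D1049 (iv6 D1043) (iv2 F1235)
theorem F1950 : act 3 n1049 = n1049 := d7_1 D1049 (iv6 D1049) F1236
def n1050 : Q := act 0 n663
theorem D1050 : act 0 n663 = n1050 := rfl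
def n1051 : Q := act 1 n663
theorem D1051 : act 1 n663 = n1051 := rfl
theorem F1951 : act 1 n1051 = n1047 := d15_1 D1051 (iv7 D1047) (iv2 F1238)
def n1052 : Q := act 5 n663
theorem D1052 : act 5 n663 = n1052 := rfl
theorem F1952 : act 2 n1052 = n1046 := d2_1 D1052 (iv5 D1046) (iv2 F1238)
theorem F1953 : act 3 n1052 = n1052 := d6_1 D1052 (iv5 D1052) F1239
def n1053 : Q := act 7 n663
theorem D1053 : act 7 n663 = n1053 := rfl
theorem F1954 : act 2 n1053 = n1047 := d4_1 D1053 (iv7 D1047) (iv2 F1238)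
theorem F1955 : act 3 n1053 = n1053 := d8_1 D1053 (iv7 D1053) F1239
theorem F1956 : act 4 n1053 = n1047 := d11_1 D1053 (iv7 D1047) (iv4 F1240)
theorem F1957 : act 6 n1053 = n1053 := d14_1 D1053 (iv7 D1053) (iv6 D663) F1233 D663
theorem F1959 : act 1 n1045 = n1053 := d15_1 D1045 (iv7 D1053) F1238
theorem F1960 : act 1 n1053 = n1044 := d15_0 (iv0 D1044) D1047 (iv2 F1954)
def n1054 : Q := act 4 n664
theorem D1054 : act 4 n664 = n1054 := rfl
theorem F1961 : act 2 n1054 = n667 := d1_1 D1054 (iv4 D667) (iv2 F1241)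
theorem F1962 : act 7 n1054 = n1054 := d11_2 F1242 D1054 (iv4 D1054)
def n1055 : Q := act 6 n664
theorem D1055 : act 6 n664 = n1055 := rfl
theorem F1963 : act 2 n1055 = n668 := d3_1 D1055 (iv6 D668) (iv2 F1241)
theorem F1964 : act 5 n1055 = n1055 := d12_1 D1055 (iv6 D1055) (iv5 D664) F1048 D664
def n1056 : Q := act 6 n665
theorem D1056 : act 6 n665 = n1056 := rfl
def n1057 : Q := act 4 n666
theorem D1057 : act 4 n666 = n1057 := rfl
theorem F1965 : act 2 n1057 = n768 := d1_1 D1057 F1480 F1457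
theorem F1966 : act 7 n1057 = n1057 := d11_2 F1458 D1057 (iv4 D1057)
theorem F1967 : act 1 n1057 = n681 := d18_6 F780 F778 D822 F1538 F1541 D1057 (iv4 D681) D680 F1272
def n1058 : Q := act 6 n666
theorem D1058 : act 6 n666 = n1058 := rfl
theorem F1968 : act 2 n1058 = n1056 := d3_1 D1058 (iv6 D1056) F1457
theorem F1969 : act 3 n1058 = n1058 := d7_1 D1058 (iv6 D1058) F1459
def n1059 : Q := act 0 n667
theorem D1059 : act 0 n667 = n1059 := rfl
theorem F1970 : act 4 n1059 = n669 := d18_3 (iv1 D666) D667 D1059 (iv5 F1342) F1341 F1344 F778 D823 F1541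
theorem F1971 : act 1 n1054 = n1059 := d15_0 (iv0 D1059) F1245 (iv2 F1961)
theorem F1972 : act 7 n1059 = n1059 := d11_0 F1970 F1248 (iv4 F1970)
def n1060 : Q := act 1 n667
theorem D1060 : act 1 n667 = n1060 := rfl
theorem F1973 : act 1 n1060 = n1054 := d15_1 D1060 F1962 F1961
theorem F1974 : act 4 n1060 = n680 := d18_7 (iv1 F643) F354 F356 F338 D351 D667 D1060 F1269 (iv5 D679)
theorem F1975 : act 2 n1059 = n1060 := d1_3 F1974 F1271 (iv4 F1970)
theorem F1976 : act 7 n1060 = n1060 := d11_0 F1974 F1273 (iv4 F1974)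
def n1061 : Q := act 3 n667
theorem D1061 : act 3 n667 = n1061 := rfl
theorem F1977 : act 4 n1061 = n674 := d5_2 D667 D1061 (iv3 D674) (iv4 D355) (iv3 F622)
theorem F1978 : act 7 n1061 = n1061 := d8_2 F1245 D1061 (iv3 D1061)
theorem F1979 : act 0 n776 = n1061 := d20_4 (iv4 D656) (iv1 F731) (iv4 F754) D776 (iv3 D1061) (iv4 D667) D665 (iv4 F1480) (iv3 D768) (iv1 F1224)
def n1062 : Q := act 5 n667
theorem D1062 : act 5 n667 = n1062 := rfl
theorem F1980 : act 7 n1062 = n1062 := d13_2 F1245 D1062 (iv5 D1062)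
def n1063 : Q := act 6 n667
theorem D1063 : act 6 n667 = n1063 := rfl
theorem F1981 : act 4 n1063 = n668 := d10_1 D1063 (iv6 D668) D667
def n1064 : Q := act 0 n668
theorem D1064 : act 0 n668 = n1064 := rfl
def n1065 : Q := act 1 n668
theorem D1065 : act 1 n668 = n1065 := rfl
def n1066 : Q := act 7 n668
theorem D1066 : act 7 n668 = n1066 := rfl
theorem F1982 : act 3 n1066 = n678 := d8_1 D1066 (iv7 D678) (iv3 F1246)
theorem F1983 : act 5 n1066 = n1066 := d13_1 D1066 (iv7 D1066) F1247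
theorem F1984 : act 6 n1066 = n1066 := d14_1 D1066 (iv7 D1066) (iv6 D668) F623 D668
def n1067 : Q := act 6 n669
theorem D1067 : act 6 n669 = n1067 := rfl
theorem F1985 : act 3 n1067 = n671 := d7_1 D1067 (iv6 D671) D669
def n1068 : Q := act 3 n670
theorem D1068 : act 3 n670 = n1068 := rfl
theorem F1986 : act 5 n1068 = n751 := d6_2 (iv5 F1250) D1068 (iv3 D751)
theorem F1987 : act 7 n1068 = n1068 := d8_2 F1249 D1068 (iv3 D1068)
def n1069 : Q := act 6 n670
theorem D1069 : act 6 n670 = n1069 := rfl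
theorem F1988 : act 4 n1069 = n671 := d10_1 D1069 (iv6 D671) D670
def n1070 : Q := act 0 n671
theorem D1070 : act 0 n671 = n1070 := rfl
def n1071 : Q := act 1 n671
theorem D1071 : act 1 n671 = n1071 := rfl
def n1072 : Q := act 5 n671
theorem D1072 : act 5 n671 = n1072 := rfl
def n1073 : Q := act 7 n671
theorem D1073 : act 7 n671 = n1073 := rfl
theorem F1989 : act 6 n1073 = n1073 := d14_1 D1073 (iv7 D1073) (iv6 D671) F631 D671
def n1074 : Q := act 3 n672
theorem D1074 : act 3 n672 = n1074 := rfl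
theorem F1990 : act 4 n1074 = n833 := d5_2 D672 D1074 (iv3 D833) (iv4 D490) F628
theorem F1991 : act 5 n1074 = n1035 := d6_2 (iv5 F1255) D1074 (iv3 D1035)
theorem F1992 : act 7 n1074 = n1074 := d8_2 F1256 D1074 (iv3 D1074)
def n1075 : Q := act 6 n672
theorem D1075 : act 6 n672 = n1075 := rfl
theorem F1993 : act 2 n1075 = n1069 := d3_1 D1075 (iv6 D1069) (iv2 F1254)
theorem F1994 : act 4 n1075 = n673 := d10_1 D1075 (iv6 D673) D672
def n1076 : Q := act 0 n673
theorem D1076 : act 0 n673 = n1076 := rfl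
def n1077 : Q := act 1 n673
theorem D1077 : act 1 n673 = n1077 := rfl
theorem F1995 : act 1 n1077 = n1073 := d15_1 D1077 (iv7 D1073) (iv2 F1259)
def n1078 : Q := act 5 n673
theorem D1078 : act 5 n673 = n1078 := rfl
theorem F1996 : act 2 n1078 = n1072 := d2_1 D1078 (iv5 D1072) (iv2 F1259)
theorem F1997 : act 3 n1078 = n837 := d6_1 D1078 (iv5 D837) (iv3 F1260)
theorem F1998 : act 6 n1078 = n832 := d12_2 D673 D1078 (iv5 D832) (iv6 D489) (iv5 F627)
def n1079 : Q := act 7 n673
theorem D1079 : act 7 n673 = n1079 := rfl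
theorem F1999 : act 2 n1079 = n1073 := d4_1 D1079 (iv7 D1073) (iv2 F1259)
theorem F2000 : act 3 n1079 = n838 := d8_1 D1079 (iv7 D838) (iv3 F1260)
theorem F2001 : act 6 n1079 = n1079 := d14_1 D1079 (iv7 D1079) (iv6 D673) F629 D673
theorem F2002 : act 1 n1073 = n1076 := d15_0 (iv0 D1076) D1079 F1999
theorem F2003 : act 1 n1071 = n1079 := d15_1 D1071 (iv7 D1079) F1259
theorem F2004 : act 1 n1079 = n1070 := d15_0 (iv0 D1070) D1073 (iv2 F1999)
def n1080 : Q := act 0 n674
theorem D1080 : act 0 n674 = n1080 := rfl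
theorem F2005 : act 5 n1080 = n1061 := d19_1 D1080 F1977 (iv3 D674) (iv1 F762) (iv5 D451) (iv4 D245) (iv3 F381) D433 F728 (iv4 D253) F397 (iv1 D68) (iv5 D16) D15 D64 F257 D212 D355 D674
theorem F2006 : act 3 n1062 = n1080 := d6_3 F2005 (iv3 D1061) D1062
theorem F2007 : act 7 n1080 = n1080 := d13_0 F2005 F1978 (iv5 F2005)
def n1081 : Q := act 1 n674
theorem D1081 : act 1 n674 = n1081 := rfl
def n1082 : Q := act 2 n674
theorem D1082 : act 2 n674 = n1082 := rfl
theorem F2008 : act 7 n1082 = n1082 := d4_2 F1261 D1082 (iv2 D1082)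
theorem F2009 : act 1 n1082 = n1080 := d15_0 (iv0 D1080) F1261 D1082
theorem F2010 : act 1 n1081 = n1082 := d15_1 D1081 F2008 (iv2 D1082)
theorem F2011 : act 2 n1080 = n1081 := d15_3 F2010 F2009 F2007
theorem F2012 : act 7 n1081 = n1081 := d4_2 F2007 F2011 (iv2 F2011)
def n1083 : Q := act 6 n674
theorem D1083 : act 6 n674 = n1083 := rfl
theorem F2013 : act 3 n1083 = n675 := d7_1 D1083 (iv6 D675) D674
def n1084 : Q := act 0 n675
theorem D1084 : act 0 n675 = n1084 := rfl
def n1085 : Q := act 1 n675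
theorem D1085 : act 1 n675 = n1085 := rfl
def n1086 : Q := act 5 n675
theorem D1086 : act 5 n675 = n1086 := rfl
def n1087 : Q := act 7 n675
theorem D1087 : act 7 n675 = n1087 := rfl
theorem F2014 : act 4 n1087 = n678 := d11_1 D1087 (iv7 D678) (iv4 F1262)
theorem F2015 : act 6 n1087 = n1087 := d14_1 D1087 (iv7 D1087) (iv6 D675) F632 D675
def n1088 : Q := act 2 n676
theorem D1088 : act 2 n676 = n1088 := rfl
theorem F2016 : act 7 n677 = n1088 := d15_2 (iv0 D676) D677 (iv2 D1088)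
def n1089 : Q := act 3 n676
theorem D1089 : act 3 n676 = n1089 := rfl
def n1090 : Q := act 4 n676
theorem D1090 : act 4 n676 = n1090 := rfl
def n1091 : Q := act 5 n676
theorem D1091 : act 5 n676 = n1091 := rfl
def n1092 : Q := act 6 n676
theorem D1092 : act 6 n676 = n1092 := rfl
def n1093 : Q := act 7 n676
theorem D1093 : act 7 n676 = n1093 := rfl
theorem F2017 : act 2 n1093 = n677 := d4_1 D1093 F2016 (iv2 D1088)
def n1094 : Q := act 3 n677
theorem D1094 : act 3 n677 = n1094 := rfl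
def n1095 : Q := act 4 n677
theorem D1095 : act 4 n677 = n1095 := rfl
def n1096 : Q := act 5 n677
theorem D1096 : act 5 n677 = n1096 := rfl
def n1097 : Q := act 6 n677
theorem D1097 : act 6 n677 = n1097 := rfl
def n1098 : Q := act 4 n679
theorem D1098 : act 4 n679 = n1098 := rfl
theorem F2018 : act 2 n1098 = n681 := d1_1 D1098 (iv4 D681) (iv2 F1265)
theorem F2019 : act 7 n1098 = n1098 := d11_2 F1267 D1098 (iv4 D1098)
theorem F2020 : act 0 n1098 = n768 := d18_2 (iv1 F1268) D1098 F1480 (iv5 F1536) F1538 F1547 F1544 F1345 F1342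
theorem F2021 : act 1 n1098 = n1057 := d18_6 (iv1 F621) (iv4 F617) (iv1 F620) (iv4 F640) D679 D1098 (iv4 D1057) F1244 (iv5 D664)
def n1099 : Q := act 6 n679
theorem D1099 : act 6 n679 = n1099 := rfl
theorem F2022 : act 2 n1099 = n682 := d3_1 D1099 (iv6 D682) (iv2 F1265)
theorem F2023 : act 3 n1099 = n1055 := d7_1 D1099 (iv6 D1055) (iv3 F1266)
theorem F2024 : act 5 n1099 = n1099 := d12_1 D1099 (iv6 D1099) (iv5 D679) F1049 D679
def n1100 : Q := act 6 n680
theorem D1100 : act 6 n680 = n1100 := rfl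
theorem F2025 : act 2 n1100 = n1067 := d3_1 D1100 (iv6 D1067) (iv2 F1271)
theorem F2026 : act 3 n1100 = n712 := d7_1 D1100 (iv6 D712) F1270
def n1101 : Q := act 3 n681
theorem D1101 : act 3 n681 = n1101 := rfl
theorem F2027 : act 4 n1101 = n683 := d5_2 D681 D1101 (iv3 D683) (iv4 D378) (iv3 F644)
theorem F2028 : act 7 n1101 = n1101 := d8_2 F1274 D1101 (iv3 D1101)
def n1102 : Q := act 5 n681
theorem D1102 : act 5 n681 = n1102 := rfl
theorem F2029 : act 7 n1102 = n1102 := d13_2 F1274 D1102 (iv5 D1102)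
theorem F2030 : act 0 n734 = n1102 := d19_0 (iv5 D1102) (iv4 D681) F644 (iv1 F626) F627 F394 F76 D84 F483 F332 F499 (iv1 D295) (iv5 D82) (iv4 F56) (iv3 D64) D62 D235 D427 D734
def n1103 : Q := act 6 n681
theorem D1103 : act 6 n681 = n1103 := rfl
theorem F2031 : act 4 n1103 = n682 := d10_1 D1103 (iv6 D682) D681
def n1104 : Q := act 0 n682
theorem D1104 : act 0 n682 = n1104 := rfl
def n1105 : Q := act 1 n682
theorem D1105 : act 1 n682 = n1105 := rfl
def n1106 : Q := act 7 n682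
theorem D1106 : act 7 n682 = n1106 := rfl
theorem F2032 : act 3 n1106 = n687 := d8_1 D1106 (iv7 D687) (iv3 F1275)
theorem F2033 : act 5 n1106 = n1106 := d13_1 D1106 (iv7 D1106) F1276
theorem F2034 : act 6 n1106 = n1106 := d14_1 D1106 (iv7 D1106) (iv6 D682) F645 D682
def n1107 : Q := act 0 n683
theorem D1107 : act 0 n683 = n1107 := rfl
theorem F2035 : act 4 n1107 = n774 := d20_8 (iv4 D400) (iv1 F386) D446 D768 (iv1 F1483) D1101 F2027 D1107 (iv3 D774) (iv1 F751)
theorem F2036 : act 7 n1107 = n1107 := d11_0 F2035 F1494 (iv4 F2035)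
def n1108 : Q := act 1 n683
theorem D1108 : act 1 n683 = n1108 := rfl
def n1109 : Q := act 2 n683
theorem D1109 : act 2 n683 = n1109 := rfl
theorem F2037 : act 3 n1109 = n1082 := d0_2 D683 D1109 (iv2 D1082) (iv3 D674) (iv2 F648)
theorem F2038 : act 5 n1109 = n1082 := d2_2 (iv5 F1277) D1109 (iv2 D1082)
theorem F2039 : act 7 n1109 = n1109 := d4_2 F1278 D1109 (iv2 D1109)
theorem F2040 : act 1 n1109 = n1107 := d15_0 (iv0 D1107) F1278 D1109
theorem F2041 : act 1 n1108 = n1109 := d15_1 D1108 F2039 (iv2 D1109)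
theorem F2042 : act 2 n1107 = n1108 := d15_3 F2041 F2040 F2036
theorem F2043 : act 7 n1108 = n1108 := d4_2 F2036 F2042 (iv2 F2042)
def n1110 : Q := act 6 n683
theorem D1110 : act 6 n683 = n1110 := rfl
theorem F2044 : act 3 n1110 = n684 := d7_1 D1110 (iv6 D684) D683
def n1111 : Q := act 0 n684
theorem D1111 : act 0 n684 = n1111 := rfl
def n1112 : Q := act 1 n684
theorem D1112 : act 1 n684 = n1112 := rfl
theorem F2045 : act 1 n1112 = n1087 := d15_1 D1112 (iv7 D1087) (iv2 F1279)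
def n1113 : Q := act 5 n684
theorem D1113 : act 5 n684 = n1113 := rfl
theorem F2046 : act 2 n1113 = n1086 := d2_1 D1113 (iv5 D1086) (iv2 F1279)
theorem F2047 : act 6 n1113 = n1086 := d12_2 D684 D1113 (iv5 D1086) (iv6 D675) (iv5 F650)
def n1114 : Q := act 7 n684
theorem D1114 : act 7 n684 = n1114 := rfl
theorem F2048 : act 2 n1114 = n1087 := d4_1 D1114 (iv7 D1087) (iv2 F1279)
theorem F2049 : act 4 n1114 = n687 := d11_1 D1114 (iv7 D687) (iv4 F1280)
theorem F2050 : act 6 n1114 = n1114 := d14_1 D1114 (iv7 D1114) (iv6 D684) F649 D684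
theorem F2051 : act 1 n1087 = n1111 := d15_0 (iv0 D1111) D1114 F2048
theorem F2052 : act 1 n1085 = n1114 := d15_1 D1085 (iv7 D1114) F1279
theorem F2053 : act 1 n1114 = n1084 := d15_0 (iv0 D1084) D1087 (iv2 F2048)
def n1115 : Q := act 2 n685
theorem D1115 : act 2 n685 = n1115 := rfl
theorem F2054 : act 7 n686 = n1115 := d15_2 (iv0 D685) D686 (iv2 D1115)
def n1116 : Q := act 3 n685
theorem D1116 : act 3 n685 = n1116 := rfl
def n1117 : Q := act 4 n685
theorem D1117 : act 4 n685 = n1117 := rfl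
def n1118 : Q := act 5 n685
theorem D1118 : act 5 n685 = n1118 := rfl
def n1119 : Q := act 6 n685
theorem D1119 : act 6 n685 = n1119 := rfl
def n1120 : Q := act 7 n685
theorem D1120 : act 7 n685 = n1120 := rfl
def n1121 : Q := act 3 n686
theorem D1121 : act 3 n686 = n1121 := rfl
def n1122 : Q := act 4 n686
theorem D1122 : act 4 n686 = n1122 := rfl
def n1123 : Q := act 5 n686
theorem D1123 : act 5 n686 = n1123 := rfl
def n1124 : Q := act 6 n686
theorem D1124 : act 6 n686 = n1124 := rfl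
def n1125 : Q := act 4 n688
theorem D1125 : act 4 n688 = n1125 := rfl
theorem F2056 : act 7 n1125 = n1125 := d11_2 F1291 D1125 (iv4 D1125)
theorem F2057 : act 0 n1125 = n1048 := d18_2 D688 D1125 (iv4 D1048) (iv5 D662) (iv4 F617) (iv0 D348) (iv4 F338) (iv0 F356) D398
theorem F2058 : act 1 n1125 = n743 := d18_6 D822 F1538 (iv1 D823) (iv4 F778) F1290 D1125 F1434 F1449 F1446
def n1126 : Q := act 6 n688
theorem D1126 : act 6 n688 = n1126 := rfl
theorem F2059 : act 3 n1126 = n750 := d7_1 D1126 (iv6 D750) (iv3 F1288)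
def n1127 : Q := act 4 n689
theorem D1127 : act 4 n689 = n1127 := rfl
theorem F2060 : act 2 n1127 = n1125 := d1_1 D1127 (iv4 D1125) F1293
theorem F2061 : act 7 n1127 = n1127 := d11_2 F1294 D1127 (iv4 D1127)
theorem F2062 : act 0 n1127 = n743 := d17_0 F1435 F2030 (iv5 D1102) (iv4 D681) (iv5 D376) (iv0 F356) D398 D689 D1127
theorem F2063 : act 1 n1127 = n1048 := d18_6 (iv1 F1547) (iv4 F1538) (iv1 F1546) F1544 F1347 D1127 (iv4 D1048) F1943 F1941
def n1128 : Q := act 6 n689
theorem D1128 : act 6 n689 = n1128 := rfl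
theorem F2064 : act 2 n1128 = n1126 := d3_1 D1128 (iv6 D1126) F1293
def n1129 : Q := act 0 n690
theorem D1129 : act 0 n690 = n1129 := rfl
theorem F2065 : act 4 n1129 = n748 := d18_3 (iv1 D689) D690 D1129 F1446 (iv4 F778) (iv0 F780) F686 D709 F1347
theorem F2066 : act 1 n1031 = n1129 := d15_0 (iv0 D1129) F1295 (iv2 F1915)
theorem F2067 : act 3 n1107 = n1129 := d5_5 F2065 (iv3 D748) (iv4 F750) D774 (iv4 F2035)
theorem F2068 : act 7 n1129 = n1129 := d11_0 F2065 F1447 (iv4 F2065)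
def n1130 : Q := act 1 n690
theorem D1130 : act 1 n690 = n1130 := rfl
theorem F2069 : act 1 n1130 = n1031 := d15_1 D1130 F1916 F1915
theorem F2070 : act 4 n1130 = n1042 := d18_7 (iv1 F620) (iv4 F640) (iv1 F643) F354 D398 D690 D1130 (iv0 D1042) (iv5 D660)
theorem F2071 : act 2 n1129 = n1130 := d1_3 F2070 (iv2 F1942) (iv4 F2065)
theorem F2072 : act 7 n1130 = n1130 := d11_0 F2070 F1944 (iv4 F2070)
def n1131 : Q := act 3 n690
theorem D1131 : act 3 n690 = n1131 := rfl
theorem F2073 : act 4 n1131 = n696 := d5_2 D690 D1131 (iv3 D696) (iv4 D400) (iv3 F671)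
theorem F2074 : act 7 n1131 = n1131 := d8_2 F1295 D1131 (iv3 D1131)
def n1132 : Q := act 5 n690
theorem D1132 : act 5 n690 = n1132 := rfl
theorem F2075 : act 7 n1132 = n1132 := d13_2 F1295 D1132 (iv5 D1132)
theorem F2076 : act 0 n1132 = n1062 := d17_2 (iv1 D1130) D1132 (iv5 D1062) (iv4 D667) (iv5 D351) D349 D662 F1943 (iv4 F2070)
def n1133 : Q := act 6 n690
theorem D1133 : act 6 n690 = n1133 := rfl
theorem F2077 : act 4 n1133 = n691 := d10_1 D1133 (iv6 D691) D690
def n1134 : Q := act 0 n691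
theorem D1134 : act 0 n691 = n1134 := rfl
def n1135 : Q := act 1 n691
theorem D1135 : act 1 n691 = n1135 := rfl
def n1136 : Q := act 5 n691
theorem D1136 : act 5 n691 = n1136 := rfl
theorem F2078 : act 3 n1136 = n700 := d6_1 D1136 (iv5 D700) (iv3 F1296)
theorem F2079 : act 6 n1136 = n694 := d12_2 D691 D1136 (iv5 D694) (iv6 D399) D398
def n1137 : Q := act 7 n691
theorem D1137 : act 7 n691 = n1137 := rfl
theorem F2080 : act 3 n1137 = n701 := d8_1 D1137 (iv7 D701) (iv3 F1296)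
theorem F2081 : act 6 n1137 = n1137 := d14_1 D1137 (iv7 D1137) (iv6 D691) F672 D691
def n1138 : Q := act 5 n692
theorem D1138 : act 5 n692 = n1138 := rfl
theorem F2082 : act 3 n1138 = n718 := d6_1 D1138 (iv5 D718) (iv3 F1297)
theorem F2083 : act 7 n1138 = n868 := d13_2 F1300 D1138 (iv5 D868)
def n1139 : Q := act 3 n693
theorem D1139 : act 3 n693 = n1139 := rfl
theorem F2084 : act 2 n1139 = n721 := d0_1 D1139 (iv3 D721) F1090 D544 F1606
theorem F2085 : act 6 n1139 = n853 := d7_2 F1924 D1139 (iv3 F1922)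
theorem F2086 : act 7 n1139 = n853 := d8_2 F1921 D1139 (iv3 F1922)
theorem F2087 : act 4 n1139 = n693 := d20_6 (iv4 F988) (iv1 F869) (iv4 F1003) D849 (iv1 F1605) D1139 (iv1 D693) F674 F673 D402
theorem F2088 : act 0 n851 = n1139 := d20_10 F2087 (iv1 D693) F674 F673 D402 D702 F1318 (iv1 F1519) F1520 (iv3 F1612)
theorem F2089 : act 1 n852 = n1139 := d15_1 D852 F2086 (iv2 D853)
def n1140 : Q := act 5 n693
theorem D1140 : act 5 n693 = n1140 := rfl
theorem F2090 : act 2 n1140 = n868 := d2_1 D1140 (iv5 D868) F1606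
def n1141 : Q := act 0 n694
theorem D1141 : act 0 n694 = n1141 := rfl
theorem F2091 : act 5 n1141 = n827 := d21_8 F1342 (iv1 F1268) (iv5 D679) F1049 (iv1 F643) D399 D694 D1141 (iv6 D827) (iv1 F1344)
theorem F2092 : act 3 n829 = n1141 := d6_3 F2091 F1554 D829
def n1142 : Q := act 1 n694
theorem D1142 : act 1 n694 = n1142 := rfl
def n1143 : Q := act 4 n694
theorem D1143 : act 4 n694 = n1143 := rfl
def n1144 : Q := act 7 n694
theorem D1144 : act 7 n694 = n1144 := rfl
theorem F2093 : act 3 n1144 = n708 := d8_1 D1144 (iv7 D708) (iv3 F1301)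
theorem F2094 : act 5 n1144 = n695 := d13_1 D1144 (iv7 D695) D694
def n1145 : Q := act 0 n696
theorem D1145 : act 0 n696 = n1145 := rfl
def n1146 : Q := act 1 n696
theorem D1146 : act 1 n696 = n1146 := rfl
theorem F2095 : act 3 n1059 = n1146 := d19_19 (iv1 D1146) (iv5 F1575) (iv4 F1990) (iv3 D1074) F1257 F725 (iv4 D427) F375 (iv1 F691) (iv5 D407) (iv4 D228) F287 (iv1 F295) F504 D258 D478 (iv1 F1344) F1342 (iv4 F1970)
theorem F2096 : act 4 n1068 = n1146 := d20_6 F2065 (iv1 F1449) (iv4 F1434) (iv3 D743) (iv1 F1252) D1068 (iv1 D1146) (iv4 F2073) (iv3 D1131) D1129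
theorem F2097 : act 7 n1146 = n1146 := d11_2 F1987 F2096 (iv4 F2096)
theorem F2098 : act 2 n1146 = n1145 := d15_3 (iv0 D1145) D1146 F2097
theorem F2099 : act 7 n1145 = n1145 := d4_2 F2097 F2098 (iv2 F2098)
def n1147 : Q := act 2 n696
theorem D1147 : act 2 n696 = n1147 := rfl
theorem F2100 : act 3 n1147 = n780 := d0_2 D696 D1147 (iv2 D780) (iv3 D450) (iv2 F675)
theorem F2101 : act 7 n1147 = n1147 := d4_2 F1306 D1147 (iv2 D1147)
theorem F2102 : act 1 n1147 = n1145 := d15_0 (iv0 D1145) F1306 D1147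
theorem F2103 : act 1 n1146 = n1147 := d15_1 D1146 F2101 (iv2 D1147)
def n1148 : Q := act 6 n696
theorem D1148 : act 6 n696 = n1148 := rfl
theorem F2104 : act 3 n1148 = n697 := d7_1 D1148 (iv6 D697) D696
def n1149 : Q := act 0 n697
theorem D1149 : act 0 n697 = n1149 := rfl
def n1150 : Q := act 1 n697
theorem D1150 : act 1 n697 = n1150 := rfl
theorem F2105 : act 1 n1150 = n787 := d15_1 D1150 (iv7 D787) (iv2 F1307)
def n1151 : Q := act 5 n697
theorem D1151 : act 5 n697 = n1151 := rfl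
theorem F2106 : act 2 n1151 = n786 := d2_1 D1151 (iv5 D786) (iv2 F1307)
def n1152 : Q := act 7 n697
theorem D1152 : act 7 n697 = n1152 := rfl
theorem F2107 : act 2 n1152 = n787 := d4_1 D1152 (iv7 D787) (iv2 F1307)
theorem F2108 : act 4 n1152 = n701 := d11_1 D1152 (iv7 D701) (iv4 F1308)
theorem F2109 : act 6 n1152 = n1152 := d14_1 D1152 (iv7 D1152) (iv6 D697) F676 D697
theorem F2110 : act 1 n787 = n1149 := d15_0 (iv0 D1149) D1152 F2107
theorem F2111 : act 1 n785 = n1152 := d15_1 D785 (iv7 D1152) F1307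
theorem F2112 : act 1 n1152 = n784 := d15_0 (iv0 D784) D787 (iv2 F2107)
def n1153 : Q := act 2 n698
theorem D1153 : act 2 n698 = n1153 := rfl
theorem F2113 : act 7 n699 = n1153 := d15_2 (iv0 D698) D699 (iv2 D1153)
def n1154 : Q := act 3 n698
theorem D1154 : act 3 n698 = n1154 := rfl
def n1155 : Q := act 4 n698
theorem D1155 : act 4 n698 = n1155 := rfl
def n1156 : Q := act 5 n698
theorem D1156 : act 5 n698 = n1156 := rfl
def n1157 : Q := act 6 n698
theorem D1157 : act 6 n698 = n1157 := rfl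
def n1158 : Q := act 7 n698
theorem D1158 : act 7 n698 = n1158 := rfl
theorem F2114 : act 2 n1158 = n699 := d4_1 D1158 F2113 (iv2 D1153)
def n1159 : Q := act 3 n699
theorem D1159 : act 3 n699 = n1159 := rfl
def n1160 : Q := act 4 n699
theorem D1160 : act 4 n699 = n1160 := rfl
def n1161 : Q := act 5 n699
theorem D1161 : act 5 n699 = n1161 := rfl
def n1162 : Q := act 6 n699
theorem D1162 : act 6 n699 = n1162 := rfl
def n1163 : Q := act 0 n700
theorem D1163 : act 0 n700 = n1163 := rfl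
def n1164 : Q := act 1 n700
theorem D1164 : act 1 n700 = n1164 := rfl
theorem F2115 : act 1 n1164 = n801 := d15_1 D1164 (iv7 D801) (iv2 F1310)
def n1165 : Q := act 4 n700
theorem D1165 : act 4 n700 = n1165 := rfl
theorem F2116 : act 2 n1165 = n800 := d1_1 D1165 (iv4 D800) (iv2 F1310)
theorem F2117 : act 6 n1165 = n707 := d10_2 (iv6 F1311) D1165 (iv4 D707)
def n1166 : Q := act 7 n700
theorem D1166 : act 7 n700 = n1166 := rfl
theorem F2118 : act 2 n1166 = n801 := d4_1 D1166 (iv7 D801) (iv2 F1310)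
theorem F2119 : act 5 n1166 = n701 := d13_1 D1166 (iv7 D701) D700
theorem F2120 : act 1 n801 = n1163 := d15_0 (iv0 D1163) D1166 F2118
theorem F2121 : act 1 n799 = n1166 := d15_1 D799 (iv7 D1166) F1310
theorem F2122 : act 1 n1166 = n798 := d15_0 (iv0 D798) D801 (iv2 F2118)
def n1167 : Q := act 5 n702
theorem D1167 : act 5 n702 = n1167 := rfl
theorem F2123 : act 2 n1167 = n1167 := d2_1 D1167 (iv5 D1167) F1317
theorem F2124 : act 3 n1167 = n703 := d6_1 D1167 (iv5 D703) D702
theorem F2125 : act 7 n1167 = n807 := d13_2 (iv7 F1320) D1167 (iv5 D807)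
def n1168 : Q := act 4 n703
theorem D1168 : act 4 n703 = n1168 := rfl
theorem F2126 : act 2 n1168 = n803 := d1_1 D1168 (iv4 D803) (iv2 F1321)
theorem F2127 : act 7 n1168 = n809 := d11_2 (iv7 F1322) D1168 (iv4 D809)
def n1169 : Q := act 6 n703
theorem D1169 : act 6 n703 = n1169 := rfl
theorem F2128 : act 2 n1169 = n804 := d3_1 D1169 (iv6 D804) (iv2 F1321)
theorem F2129 : act 5 n1169 = n810 := d12_1 D1169 (iv6 D810) (iv5 D465) (iv6 F1017) D703
def n1170 : Q := act 4 n704
theorem D1170 : act 4 n704 = n1170 := rfl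
theorem F2130 : act 2 n1170 = n809 := d1_1 D1170 (iv4 D809) (iv2 F1323)
theorem F2131 : act 7 n1170 = n803 := d11_2 (iv7 F1325) D1170 (iv4 D803)
def n1171 : Q := act 6 n704
theorem D1171 : act 6 n704 = n1171 := rfl
theorem F2132 : act 2 n1171 = n810 := d3_1 D1171 (iv6 D810) (iv2 F1323)
theorem F2133 : act 3 n1171 = n1171 := d7_1 D1171 (iv6 D1171) F1324
theorem F2134 : act 5 n1171 = n804 := d12_1 D1171 (iv6 D804) (iv5 D460) (iv6 F1106) D704
def n1172 : Q := act 3 n705
theorem D1172 : act 3 n705 = n1172 := rfl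
theorem F2135 : act 2 n1172 = n1172 := d0_1 D1172 (iv3 D1172) (iv2 F1327) F798 F1327
theorem F2136 : act 5 n1172 = n831 := d6_2 (iv5 F1326) D1172 F1570
theorem F2137 : act 7 n1172 = n812 := d8_2 F1328 D1172 (iv3 D812)
def n1173 : Q := act 4 n705
theorem D1173 : act 4 n705 = n1173 := rfl
theorem F2138 : act 2 n1173 = n811 := d1_1 D1173 (iv4 D811) F1327
theorem F2139 : act 7 n1173 = n813 := d11_2 F1328 D1173 (iv4 D813)
theorem F2140 : act 1 n1173 = n759 := d18_6 (iv1 F1549) F1551 (iv1 F912) F902 (iv5 F1326) D1173 (iv4 D759) D758 F1535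
def n1174 : Q := act 4 n706
theorem D1174 : act 4 n706 = n1174 := rfl
theorem F2141 : act 2 n1174 = n813 := d1_1 D1174 (iv4 D813) F1333
theorem F2142 : act 7 n1174 = n811 := d11_2 (iv7 F1330) D1174 (iv4 D811)
theorem F2143 : act 0 n1174 = n759 := d18_2 (iv1 F1329) D1174 (iv4 D759) (iv5 D439) F384 D298 (iv4 F1105) F678 (iv5 F768)
def n1175 : Q := act 6 n706
theorem D1175 : act 6 n706 = n1175 := rfl
theorem F2144 : act 2 n1175 = n814 := d3_1 D1175 (iv6 D814) F1333
theorem F2145 : act 3 n1175 = n1175 := d7_1 D1175 (iv6 D1175) F1332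
theorem F2146 : act 5 n1175 = n1175 := d12_1 D1175 (iv6 D1175) F1331 F928 (iv5 F1331)
def n1176 : Q := act 0 n707
theorem D1176 : act 0 n707 = n1176 := rfl
theorem F2147 : act 4 n1176 = n829 := d18_3 (iv1 D706) D707 D1176 (iv5 D829) F782 (iv0 F1035) (iv4 F1362) F1365 (iv5 F1331)
theorem F2148 : act 2 n815 = n1176 := d1_3 F2147 F1560 (iv4 F1528)
theorem F2149 : act 7 n816 = n1176 := d11_0 F2147 F1561 F1610
theorem F2150 : act 1 n819 = n1176 := d18_6 (iv1 F1085) (iv4 D415) (iv1 F371) (iv4 F388) (iv5 F768) (iv4 F1529) F2147 F1562 (iv5 D658)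
def n1177 : Q := act 1 n707
theorem D1177 : act 1 n707 = n1177 := rfl
theorem F2151 : act 1 n1177 = n819 := d15_1 D1177 (iv7 D819) (iv2 F1335)
theorem F2152 : act 7 n1177 = n815 := d15_2 (iv0 D1176) D1177 F2148
theorem F2153 : act 4 n1177 = n842 := d18_7 (iv1 F1102) (iv4 D420) (iv1 D231) (iv4 F360) D404 D707 D1177 F1589 F1470
theorem F2154 : act 2 n816 = n1177 := d1_3 F2153 F1587 F1610
def n1178 : Q := act 3 n707
theorem D1178 : act 3 n707 = n1178 := rfl
def n1179 : Q := act 5 n707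
theorem D1179 : act 5 n707 = n1179 := rfl
theorem F2155 : act 2 n1179 = n818 := d2_1 D1179 (iv5 D818) (iv2 F1335)
theorem F2156 : act 4 n1179 = n898 := d16_2 D707 D1179 F1662 F854 F422 (iv4 F388) (iv5 F768) (iv7 D470) (iv2 F679)
theorem F2157 : act 7 n896 = n1179 := d11_0 F2156 (iv7 D898) D896
def n1180 : Q := act 7 n707
theorem D1180 : act 7 n707 = n1180 := rfl
theorem F2158 : act 2 n1180 = n819 := d4_1 D1180 (iv7 D819) (iv2 F1335)
theorem F2159 : act 4 n1180 = n708 := d11_1 D1180 (iv7 D708) D707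
theorem F2160 : act 5 n1180 = n896 := d13_1 D1180 F2157 (iv5 D1179)
theorem F2161 : act 1 n816 = n1180 := d15_1 D816 (iv7 D1180) F1335
theorem F2162 : act 1 n1180 = n815 := d15_1 F2161 (iv7 F2152) (iv2 F2154)
def n1181 : Q := act 6 n708
theorem D1181 : act 6 n708 = n1181 := rfl
theorem F2163 : act 2 n1181 = n820 := d3_1 D1181 (iv6 D820) (iv2 F1336)
theorem F2164 : act 5 n1181 = n1181 := d12_1 D1181 (iv6 D1181) F1337 F682 (iv5 F1337)
def n1182 : Q := act 6 n709
theorem D1182 : act 6 n709 = n1182 := rfl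
theorem F2165 : act 2 n1182 = n827 := d3_1 D1182 (iv6 D827) F1346
theorem F2166 : act 0 n1182 = n711 := d21_4 D654 (iv1 F1292) (iv5 F1347) D1182 (iv6 D711) (iv5 F1272) (iv1 D680) (iv5 D376) F1046 F612
def n1183 : Q := act 6 n710
theorem D1183 : act 6 n710 = n1183 := rfl
theorem F2167 : act 2 n1183 = n711 := d3_1 D1183 (iv6 D711) D710
theorem F2168 : act 3 n1183 = n821 := d7_1 D1183 (iv6 D821) (iv3 F1340)
theorem F2169 : act 4 n1183 = n1183 := d10_1 D1183 (iv6 D1183) F1341
theorem F2170 : act 0 n827 = n1183 := d21_4 D398 D688 (iv5 F1290) D827 (iv6 D1183) F1342 (iv1 F1268) (iv5 D679) F1049 (iv1 F643)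
def n1184 : Q := act 0 n711
theorem D1184 : act 0 n711 = n1184 := rfl
theorem F2171 : act 3 n1184 = n716 := d20_5 F775 (iv1 F1052) (iv4 F693) (iv3 F1349) D1184 (iv4 D716) (iv1 F701) (iv4 F813) F1552 (iv1 D826)
theorem F2172 : act 4 n1184 = n841 := d20_8 (iv4 F1671) (iv1 F1673) F906 F795 F796 (iv3 F1349) F1350 D1184 (iv3 D841) (iv1 F1556)
theorem F2173 : act 6 n1184 = n1184 := d10_0 F2172 F1585 (iv4 F2172)
theorem F2174 : act 7 n827 = n1184 := d11_0 F2172 F1586 (iv4 F1555)
def n1185 : Q := act 5 n711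
theorem D1185 : act 5 n711 = n1185 := rfl
theorem F2175 : act 3 n1185 = n714 := d6_1 D1185 (iv5 D714) (iv3 F1349)
theorem F2176 : act 0 n1185 = n1138 := d21_1 D1185 (iv5 D1138) (iv6 F1299) F1220 (iv6 D655) D654 (iv1 F1292) (iv5 F1347) D1182 F2166
theorem F2177 : act 0 n1140 = n1185 := d21_7 F1290 (iv1 F1289) (iv5 D654) D655 D1033 F1924 D1140 (iv5 D1185) (iv6 D711) F780
def n1186 : Q := act 7 n711
theorem D1186 : act 7 n711 = n1186 := rfl
theorem F2178 : act 3 n1186 = n715 := d8_1 D1186 (iv7 D715) (iv3 F1349)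
theorem F2179 : act 4 n1186 = n1186 := d11_1 D1186 (iv7 D1186) F1350
theorem F2180 : act 6 n1186 = n1186 := d14_1 D1186 (iv7 D1186) (iv6 D711) F687 D711
theorem F2181 : act 1 n827 = n1186 := d15_1 (iv0 F2170) (iv7 D1186) (iv2 F2167)
def n1187 : Q := act 0 n712
theorem D1187 : act 0 n712 = n1187 := rfl
def n1188 : Q := act 1 n712
theorem D1188 : act 1 n712 = n1188 := rfl
theorem F2182 : act 1 n1188 = n838 := d15_1 D1188 (iv7 D838) (iv2 F1351)
def n1189 : Q := act 5 n712
theorem D1189 : act 5 n712 = n1189 := rfl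
theorem F2183 : act 2 n1189 = n837 := d2_1 D1189 (iv5 D837) (iv2 F1351)
theorem F2184 : act 6 n1189 = n714 := d12_2 D712 D1189 (iv5 D714) (iv6 D408) D407
def n1190 : Q := act 7 n712
theorem D1190 : act 7 n712 = n1190 := rfl
theorem F2185 : act 2 n1190 = n838 := d4_1 D1190 (iv7 D838) (iv2 F1351)
theorem F2186 : act 6 n1190 = n1190 := d14_1 D1190 (iv7 D1190) (iv6 D712) F689 D712
theorem F2187 : act 1 n838 = n1187 := d15_0 (iv0 D1187) D1190 F2185
theorem F2188 : act 1 n836 = n1190 := d15_1 D836 (iv7 D1190) F1351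
theorem F2189 : act 1 n1190 = n835 := d15_0 (iv0 D835) D838 (iv2 F2185)
def n1191 : Q := act 3 n713
theorem D1191 : act 3 n713 = n1191 := rfl
theorem F2190 : act 2 n1191 = n1191 := d0_1 D1191 (iv3 D1191) (iv2 F1354) F927 F1354
theorem F2191 : act 4 n1191 = n1191 := d5_2 (iv4 F1355) D1191 (iv3 D1191) F1355 F931
theorem F2192 : act 5 n1191 = n812 := d6_2 (iv5 F1352) D1191 (iv3 D812)
theorem F2193 : act 6 n1191 = n1191 := d7_2 F1353 D1191 (iv3 D1191)
theorem F2194 : act 7 n1191 = n831 := d8_2 (iv7 F1356) D1191 F1570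
def n1192 : Q := act 4 n714
theorem D1192 : act 4 n714 = n1192 := rfl
theorem F2195 : act 2 n1192 = n839 := d1_1 D1192 (iv4 D839) (iv2 F1358)
def n1193 : Q := act 3 n717
theorem D1193 : act 3 n717 = n1193 := rfl
theorem F2196 : act 4 n1193 = n1193 := d5_2 D717 D1193 (iv3 D1193) (iv4 D717) F696
theorem F2197 : act 6 n1193 = n730 := d7_2 (iv6 F1370) D1193 (iv3 D730)
def n1194 : Q := act 5 n717
theorem D1194 : act 5 n717 = n1194 := rfl
theorem F2198 : act 2 n1194 = n846 := d2_1 D1194 (iv5 D846) (iv2 F1369)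
theorem F2199 : act 0 n1194 = n887 := d17_2 F1702 D1194 (iv5 D887) D886 F1650 (iv0 D577) D578 (iv0 F1009) D908
theorem F2200 : act 1 n1194 = n884 := d17_6 D280 (iv5 F1065) (iv1 F1052) D411 D717 D1194 (iv5 D884) (iv0 D563) (iv4 D282)
def n1195 : Q := act 0 n718
theorem D1195 : act 0 n718 = n1195 := rfl
theorem F2201 : act 5 n1195 = n826 := d17_3 (iv1 F1085) D718 D1195 F1551 (iv5 F1686) F1688 (iv5 D601) (iv0 F993) (iv4 F616)
theorem F2202 : act 1 n722 = n1195 := d15_0 (iv0 D1195) F1372 (iv2 F1381)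
theorem F2203 : act 2 n855 = n1195 := d2_3 F2201 F1558 (iv5 F1614)
theorem F2204 : act 3 n840 = n1195 := d6_3 F2201 (iv3 F1552) (iv5 F1582)
theorem F2205 : act 7 n832 = n1195 := d13_0 F2201 F1550 D832
def n1196 : Q := act 1 n718
theorem D1196 : act 1 n718 = n1196 := rfl
theorem F2206 : act 1 n1196 = n722 := d15_1 D1196 F1382 (iv2 F1371)
theorem F2207 : act 7 n1196 = n855 := d15_2 (iv0 D1195) D1196 F2203
theorem F2208 : act 5 n1196 = n821 := d17_7 (iv1 F1052) D411 (iv1 F1101) (iv5 D416) D415 D718 D1196 (iv0 F1533) F775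
theorem F2209 : act 2 n832 = n1196 := d2_3 F2208 F1531 D832
theorem F2210 : act 6 n1072 = n1196 := d12_0 F2208 (iv6 D821) F769 D671 D1072
def n1197 : Q := act 4 n718
theorem D1197 : act 4 n718 = n1197 := rfl
theorem F2211 : act 2 n1197 = n856 := d1_1 D1197 (iv4 D856) (iv2 F1371)
theorem F2212 : act 7 n1197 = n869 := d11_2 (iv7 F1372) D1197 (iv4 D869)
theorem F2213 : act 1 n1197 = n1192 := d18_6 (iv1 D403) F360 D230 D415 D718 D1197 (iv4 D1192) F1360 (iv5 D704)
def n1198 : Q := act 6 n718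
theorem D1198 : act 6 n718 = n1198 := rfl
theorem F2214 : act 2 n1198 = n857 := d3_1 D1198 (iv6 D857) (iv2 F1371)
theorem F2215 : act 5 n1198 = n870 := d12_1 D1198 (iv6 D870) (iv5 D545) (iv6 F1028) D718
def n1199 : Q := act 0 n719
theorem D1199 : act 0 n719 = n1199 := rfl
theorem F2216 : act 4 n1199 = n904 := d18_3 (iv1 F1101) D719 D1199 F1686 (iv4 F1551) F1549 (iv4 D716) (iv0 D409) D411
theorem F2217 : act 1 n723 = n1199 := d15_0 (iv0 D1199) F1374 (iv2 F1383)
theorem F2218 : act 2 n860 = n1199 := d1_3 F2216 F1691 F1690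
theorem F2219 : act 7 n861 = n1199 := d11_0 F2216 (iv7 D904) (iv4 F1629)
def n1200 : Q := act 1 n719
theorem D1200 : act 1 n719 = n1200 := rfl
theorem F2220 : act 1 n1200 = n723 := d15_1 D1200 F1384 (iv2 F1373)
theorem F2221 : act 7 n1200 = n860 := d15_2 (iv0 D1199) D1200 F2218
theorem F2222 : act 4 n1200 = n900 := d18_7 F971 (iv4 F616) (iv1 F1085) (iv4 D415) D416 D719 D1200 (iv0 F1668) (iv5 D808)
theorem F2223 : act 2 n861 = n1200 := d1_3 F2222 F1664 (iv4 F1629)
theorem F2224 : act 6 n902 = n1200 := d10_0 F2222 F1666 D902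
def n1201 : Q := act 3 n719
theorem D1201 : act 3 n719 = n1201 := rfl
theorem F2225 : act 4 n1201 = n862 := d5_2 D719 D1201 (iv3 D862) (iv4 D530) (iv3 F1086)
theorem F2226 : act 7 n1201 = n871 := d8_2 (iv7 F1374) D1201 (iv3 D871)
def n1202 : Q := act 5 n719
theorem D1202 : act 5 n719 = n1202 := rfl
theorem F2227 : act 2 n1202 = n863 := d2_1 D1202 (iv5 D863) (iv2 F1373)
theorem F2228 : act 7 n1202 = n872 := d13_2 (iv7 F1374) D1202 (iv5 D872)
def n1203 : Q := act 6 n719
theorem D1203 : act 6 n719 = n1203 := rfl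
theorem F2229 : act 2 n1203 = n864 := d3_1 D1203 (iv6 D864) (iv2 F1373)
theorem F2230 : act 4 n1203 = n720 := d10_1 D1203 (iv6 D720) D719
def n1204 : Q := act 0 n720
theorem D1204 : act 0 n720 = n1204 := rfl
theorem F2231 : act 6 n1204 = n881 := d21_5 (iv5 D232) D230 D416 D720 D1204 F1642 (iv1 F1641) F1396 (iv6 D727) (iv1 D424)
theorem F2232 : act 5 n1204 = n866 := d21_0 (iv1 D866) (iv5 F1387) (iv6 D724) F1080 F697 (iv5 D232) D230 D416 D720 D1204
theorem F2233 : act 6 n866 = n866 := d12_2 (iv6 F2231) F2232 (iv5 F2232) F2231 F1642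
def n1205 : Q := act 1 n720
theorem D1205 : act 1 n720 = n1205 := rfl
theorem F2234 : act 1 n1205 = n867 := d15_1 D1205 (iv7 D867) (iv2 F1375)
theorem F2235 : act 5 n865 = n1205 := d21_0 (iv1 D1205) F1377 (iv6 D548) (iv1 F1025) F416 (iv5 D73) D71 D273 D531 D865
theorem F2236 : act 6 n1205 = n1205 := d21_3 F1387 D865 F2235 (iv1 D1205) (iv6 D720) (iv5 D416) (iv1 F371) (iv5 F422) D568 F1388
def n1206 : Q := act 7 n720
theorem D1206 : act 7 n720 = n1206 := rfl
theorem F2237 : act 2 n1206 = n867 := d4_1 D1206 (iv7 D867) (iv2 F1375)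
theorem F2238 : act 3 n1206 = n867 := d8_1 D1206 (iv7 D867) (iv3 F1376)
theorem F2239 : act 5 n1206 = n874 := d13_1 D1206 (iv7 D874) (iv5 F1377)
theorem F2240 : act 6 n1206 = n874 := d14_1 D1206 (iv7 D874) (iv6 D548) (iv7 F1099) D720
theorem F2241 : act 1 n867 = n1204 := d15_0 (iv0 D1204) D1206 F2237
theorem F2242 : act 1 n866 = n1206 := d15_1 D866 (iv7 D1206) F1375
theorem F2243 : act 0 n865 = n1206 := d21_4 F1396 (iv1 F1643) F1644 (iv6 F1645) F2240 (iv5 F2239) (iv1 F2242) (iv5 F2232) F2231 (iv1 F1641)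
def n1207 : Q := act 0 n721
theorem D1207 : act 0 n721 = n1207 := rfl
theorem F2245 : act 4 n1207 = n852 := d20_0 (iv1 D852) (iv4 F1298) F1297 F1084 F739 F388 (iv1 F365) D420 D721 D1207
theorem F2246 : act 1 n853 = n1207 := d15_0 (iv0 D1207) F1380 D853
def n1208 : Q := act 1 n721
theorem D1208 : act 1 n721 = n1208 := rfl
theorem F2249 : act 4 n851 = n1208 := d20_0 (iv1 D1208) F1378 (iv3 D544) (iv1 F999) F383 F57 D71 D272 D524 D851
def n1209 : Q := act 5 n721
theorem D1209 : act 5 n721 = n1209 := rfl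
theorem F2251 : act 3 n1209 = n722 := d6_1 D1209 (iv5 D722) D721
theorem F2252 : act 7 n1209 = n854 := d13_2 (iv7 F1380) D1209 (iv5 D854)
def n1210 : Q := act 4 n722
theorem D1210 : act 4 n722 = n1210 := rfl
theorem F2253 : act 2 n1210 = n869 := d1_1 D1210 (iv4 D869) (iv2 F1381)
theorem F2254 : act 7 n1210 = n856 := d11_2 (iv7 F1382) D1210 (iv4 D856)
theorem F2255 : act 0 n1210 = n1192 := d18_2 (iv1 F2202) D1210 (iv4 D1192) (iv5 D714) F693 F1052 (iv4 F775) D826 (iv5 F2201)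
def n1211 : Q := act 6 n722
theorem D1211 : act 6 n722 = n1211 := rfl
theorem F2256 : act 2 n1211 = n870 := d3_1 D1211 (iv6 D870) (iv2 F1381)
theorem F2257 : act 5 n1211 = n857 := d12_1 D1211 (iv6 D857) (iv5 D525) (iv6 F1079) D722
def n1212 : Q := act 3 n723
theorem D1212 : act 3 n723 = n1212 := rfl
theorem F2258 : act 4 n1212 = n871 := d5_2 D723 D1212 (iv3 D871) (iv4 D547) (iv3 F996)
theorem F2259 : act 7 n1212 = n862 := d8_2 (iv7 F1384) D1212 (iv3 D862)
def n1213 : Q := act 5 n723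
theorem D1213 : act 5 n723 = n1213 := rfl
theorem F2260 : act 2 n1213 = n872 := d2_1 D1213 (iv5 D872) (iv2 F1383)
theorem F2261 : act 7 n1213 = n863 := d13_2 (iv7 F1384) D1213 (iv5 D863)
def n1214 : Q := act 6 n723
theorem D1214 : act 6 n723 = n1214 := rfl
theorem F2262 : act 2 n1214 = n873 := d3_1 D1214 (iv6 D873) (iv2 F1383)
theorem F2263 : act 4 n1214 = n724 := d10_1 D1214 (iv6 D724) D723
def n1215 : Q := act 7 n724
theorem D1215 : act 7 n724 = n1215 := rfl
theorem F2264 : act 2 n1215 = n874 := d4_1 D1215 (iv7 D874) (iv2 F1385)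
theorem F2265 : act 3 n1215 = n874 := d8_1 D1215 (iv7 D874) (iv3 F1386)
theorem F2266 : act 5 n1215 = n867 := d13_1 D1215 (iv7 D867) (iv5 F1387)
theorem F2267 : act 6 n1215 = n867 := d14_1 D1215 (iv7 D867) (iv6 D531) (iv7 F1093) D724
theorem F2268 : act 1 n733 = n1215 := d15_1 (iv0 F1416) (iv7 D1215) F1385
theorem F2269 : act 1 n1215 = n848 := d15_1 F2268 F1598 (iv2 F1413)
def n1216 : Q := act 3 n725
theorem D1216 : act 3 n725 = n1216 := rfl
theorem F2270 : act 4 n1216 = n876 := d5_2 D725 D1216 (iv3 D876) (iv4 D555) (iv3 F1073)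
theorem F2271 : act 6 n1216 = n1216 := d7_2 F1390 D1216 (iv3 D1216)
theorem F2272 : act 7 n1216 = n878 := d8_2 (iv7 F1391) D1216 (iv3 D878)
def n1217 : Q := act 5 n725
theorem D1217 : act 5 n725 = n1217 := rfl
theorem F2273 : act 2 n1217 = n877 := d2_1 D1217 (iv5 D877) (iv2 F1389)
theorem F2274 : act 7 n1217 = n879 := d13_2 (iv7 F1391) D1217 (iv5 D879)
def n1218 : Q := act 3 n726
theorem D1218 : act 3 n726 = n1218 := rfl
theorem F2275 : act 4 n1218 = n878 := d5_2 D726 D1218 (iv3 D878) (iv4 D560) (iv3 F1067)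
theorem F2276 : act 7 n1218 = n876 := d8_2 (iv7 F1393) D1218 (iv3 D876)
def n1219 : Q := act 5 n726
theorem D1219 : act 5 n726 = n1219 := rfl
theorem F2277 : act 2 n1219 = n879 := d2_1 D1219 (iv5 D879) (iv2 F1392)
theorem F2278 : act 7 n1219 = n877 := d13_2 (iv7 F1393) D1219 (iv5 D877)
def n1220 : Q := act 6 n726
theorem D1220 : act 6 n726 = n1220 := rfl
theorem F2279 : act 2 n1220 = n880 := d3_1 D1220 (iv6 D880) (iv2 F1392)
theorem F2280 : act 4 n1220 = n727 := d10_1 D1220 (iv6 D727) D726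
theorem F2281 : act 7 n1220 = n1220 := d14_2 (iv7 F1393) D1220 (iv6 D1220) F1393 F1071
def n1221 : Q := act 3 n728
theorem D1221 : act 3 n728 = n1221 := rfl
theorem F2282 : act 4 n1221 = n1221 := d5_2 (iv4 F1398) D1221 (iv3 D1221) F1398 F917
theorem F2283 : act 6 n1221 = n1221 := d7_2 F1400 D1221 (iv3 D1221)
theorem F2284 : act 7 n1221 = n885 := d8_2 F1402 D1221 (iv3 D885)
def n1222 : Q := act 5 n728
theorem D1222 : act 5 n728 = n1222 := rfl
theorem F2285 : act 2 n1222 = n884 := d2_1 D1222 (iv5 D884) F1399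
theorem F2286 : act 7 n1222 = n887 := d13_2 F1402 D1222 (iv5 D887)
theorem F2287 : act 0 n1222 = n846 := d17_2 D728 D1222 (iv5 D846) (iv4 D507) (iv5 D268) F1034 (iv5 F1074) (iv0 D423) D425
def n1223 : Q := act 5 n729
theorem D1223 : act 5 n729 = n1223 := rfl
theorem F2288 : act 2 n1223 = n887 := d2_1 D1223 (iv5 D887) F1405
theorem F2289 : act 7 n1223 = n884 := d13_2 (iv7 F1404) D1223 (iv5 D884)
theorem F2290 : act 1 n1223 = n846 := d17_6 F1668 (iv5 D900) (iv1 F934) F922 F1406 D1223 (iv5 D846) D844 (iv4 F1620)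
def n1224 : Q := act 6 n729
theorem D1224 : act 6 n729 = n1224 := rfl
theorem F2291 : act 2 n1224 = n888 := d3_1 D1224 (iv6 D888) F1405
theorem F2292 : act 4 n1224 = n910 := d10_1 D1224 (iv6 D910) F1406
theorem F2293 : act 7 n1224 = n1224 := d14_2 (iv7 F1404) D1224 (iv6 D1224) F1404 F1069
def n1225 : Q := act 0 n730
theorem D1225 : act 0 n730 = n1225 := rfl
def n1226 : Q := act 1 n730
theorem D1226 : act 1 n730 = n1226 := rfl
def n1227 : Q := act 2 n730
theorem D1227 : act 2 n730 = n1227 := rfl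
theorem F2294 : act 3 n1227 = n891 := d0_2 D730 D1227 (iv2 D891) (iv3 D565) (iv2 F707)
theorem F2295 : act 4 n1227 = n1227 := d1_2 F1407 D1227 (iv2 D1227)
def n1228 : Q := act 5 n730
theorem D1228 : act 5 n730 = n1228 := rfl
theorem F2296 : act 3 n1228 = n731 := d6_1 D1228 (iv5 D731) D730
def n1229 : Q := act 7 n730
theorem D1229 : act 7 n730 = n1229 := rfl
theorem F2297 : act 3 n1229 = n732 := d8_1 D1229 (iv7 D732) D730
theorem F2298 : act 4 n1229 = n1229 := d11_1 D1229 (iv7 D1229) F1407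
def n1230 : Q := act 0 n731
theorem D1230 : act 0 n731 = n1230 := rfl
theorem F2299 : act 5 n1230 = n906 := d17_3 (iv1 D729) D731 D1230 (iv4 D906) (iv5 D583) (iv0 D297) D299 D591 F1406
theorem F2300 : act 2 n894 = n1230 := d2_3 F2299 F1695 (iv5 F1660)
theorem F2301 : act 7 n895 = n1230 := d13_0 F2299 F1696 (iv5 F1661)
theorem F2302 : act 1 n898 = n1230 := d17_6 (iv1 F1101) (iv5 D416) (iv1 F371) (iv5 F422) (iv4 F854) (iv5 F1662) F2299 F1698 (iv4 D717)
def n1231 : Q := act 1 n731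
theorem D1231 : act 1 n731 = n1231 := rfl
theorem F2303 : act 1 n1231 = n898 := d15_1 D1231 (iv7 D898) (iv2 F1408)
theorem F2304 : act 7 n1231 = n894 := d15_2 (iv0 D1230) D1231 F2300
theorem F2305 : act 5 n1231 = n908 := d17_7 (iv1 F1081) (iv5 D421) (iv1 D231) D232 D425 D731 D1231 F1703 F1595
theorem F2306 : act 2 n895 = n1231 := d2_3 F2305 F1700 (iv5 F1661)
def n1232 : Q := act 4 n731
theorem D1232 : act 4 n731 = n1232 := rfl
theorem F2307 : act 2 n1232 = n896 := d1_1 D1232 (iv4 D896) (iv2 F1408)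
theorem F2308 : act 5 n1232 = n819 := d9_2 D731 D1232 F1529 F768 F388 (iv5 F422) (iv4 F854) (iv5 F1662) (iv4 F2156) (iv5 D1179) (iv4 D707) (iv5 D404) F360 D232 D425
theorem F2309 : act 7 n818 = n1232 := d13_0 F2308 (iv7 D819) D818
def n1233 : Q := act 6 n731
theorem D1233 : act 6 n731 = n1233 := rfl
theorem F2310 : act 2 n1233 = n897 := d3_1 D1233 (iv6 D897) (iv2 F1408)
def n1234 : Q := act 7 n731
theorem D1234 : act 7 n731 = n1234 := rfl
theorem F2311 : act 2 n1234 = n898 := d4_1 D1234 (iv7 D898) (iv2 F1408)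
theorem F2312 : act 4 n1234 = n818 := d11_1 D1234 F2309 (iv4 D1232)
theorem F2313 : act 5 n1234 = n732 := d13_1 D1234 (iv7 D732) D731
theorem F2314 : act 1 n895 = n1234 := d15_1 D895 (iv7 D1234) F1408
theorem F2315 : act 1 n1234 = n894 := d15_1 F2314 (iv7 F2304) (iv2 F2306)
def n1235 : Q := act 6 n732
theorem D1235 : act 6 n732 = n1235 := rfl
theorem F2316 : act 2 n1235 = n899 := d3_1 D1235 (iv6 D899) (iv2 F1409)
theorem F2317 : act 4 n1235 = n733 := d10_1 D1235 (iv6 D733) (iv4 F1410)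
def n1236 : Q := act 1 n734
theorem D1236 : act 1 n734 = n1236 := rfl
theorem F2318 : act 5 n1236 = n1098 := d17_7 (iv1 D666) (iv5 D351) D348 D660 (iv4 F1434) F1435 D1236 F2021 (iv4 D1057)
theorem F2319 : act 4 n1236 = n1062 := d18_7 D1129 F2065 (iv1 F1449) (iv4 F1434) F1435 F1417 D1236 (iv0 F2076) (iv5 D1132)
theorem F2320 : act 7 n1236 = n1236 := d11_0 F2319 F1980 (iv4 F2319)
theorem F2321 : act 2 n1102 = n1236 := d16_9 F2319 (iv5 D1062) (iv4 D667) (iv5 D351) (iv4 F338) D376 D681 D1102 F2029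
def n1237 : Q := act 2 n734
theorem D1237 : act 2 n734 = n1237 := rfl
theorem F2322 : act 3 n1237 = n1048 := d0_2 D734 D1237 F1947 (iv3 D743) F723
theorem F2323 : act 4 n1237 = n1237 := d1_2 F1417 D1237 (iv2 D1237)
theorem F2324 : act 5 n1237 = n1048 := d2_2 F1435 D1237 F1947
theorem F2325 : act 7 n1237 = n1237 := d4_2 F1418 D1237 (iv2 D1237)
theorem F2326 : act 1 n1237 = n1102 := d15_0 (iv0 F2030) F1418 D1237
theorem F2327 : act 1 n1236 = n1237 := d15_1 D1236 F2325 (iv2 D1237)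
def n1238 : Q := act 6 n734
theorem D1238 : act 6 n734 = n1238 := rfl
theorem F2328 : act 3 n1238 = n735 := d7_1 D1238 (iv6 D735) D734
theorem F2329 : act 4 n1238 = n1238 := d10_1 D1238 (iv6 D1238) F1417
def n1239 : Q := act 0 n735
theorem D1239 : act 0 n735 = n1239 := rfl
def n1240 : Q := act 1 n735
theorem D1240 : act 1 n735 = n1240 := rfl
def n1241 : Q := act 5 n735
theorem D1241 : act 5 n735 = n1241 := rfl
def n1242 : Q := act 7 n735
theorem D1242 : act 7 n735 = n1242 := rfl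
theorem F2330 : act 4 n1242 = n738 := d11_1 D1242 (iv7 D738) (iv4 F1419)
theorem F2331 : act 6 n1242 = n1242 := d14_1 D1242 (iv7 D1242) (iv6 D735) F714 D735
def n1243 : Q := act 2 n736
theorem D1243 : act 2 n736 = n1243 := rfl
theorem F2332 : act 7 n737 = n1243 := d15_2 (iv0 D736) D737 (iv2 D1243)
def n1244 : Q := act 3 n736
theorem D1244 : act 3 n736 = n1244 := rfl
def n1245 : Q := act 4 n736
theorem D1245 : act 4 n736 = n1245 := rfl
def n1246 : Q := act 5 n736
theorem D1246 : act 5 n736 = n1246 := rfl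
def n1247 : Q := act 6 n736
theorem D1247 : act 6 n736 = n1247 := rfl
def n1248 : Q := act 7 n736
theorem D1248 : act 7 n736 = n1248 := rfl
theorem F2333 : act 2 n1248 = n737 := d4_1 D1248 F2332 (iv2 D1243)
def n1249 : Q := act 3 n737
theorem D1249 : act 3 n737 = n1249 := rfl
def n1250 : Q := act 4 n737
theorem D1250 : act 4 n737 = n1250 := rfl
def n1251 : Q := act 5 n737
theorem D1251 : act 5 n737 = n1251 := rfl
theorem F2334 : act 6 n770 = n1251 := d21_5 (iv5 D407) (iv1 F393) F507 D447 D770 (iv5 D1251) (iv1 D737) F716 (iv6 D428) (iv1 F691)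
def n1252 : Q := act 6 n737
theorem D1252 : act 6 n737 = n1252 := rfl
def n1253 : Q := act 6 n739
theorem D1253 : act 6 n739 = n1253 := rfl
theorem F2335 : act 2 n1253 = n1253 := d3_1 D1253 (iv6 D1253) F1423
theorem F2336 : act 3 n1253 = n1043 := d7_1 D1253 (iv6 D1043) (iv3 F1424)
theorem F2337 : act 4 n1253 = n742 := d10_1 D1253 (iv6 D742) (iv4 F1426)
def n1254 : Q := act 0 n740
theorem D1254 : act 0 n740 = n1254 := rfl
def n1255 : Q := act 1 n740
theorem D1255 : act 1 n740 = n1255 := rfl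
def n1256 : Q := act 5 n740
theorem D1256 : act 5 n740 = n1256 := rfl
theorem F2338 : act 2 n1256 = n1256 := d2_1 D1256 (iv5 D1256) F1427
theorem F2339 : act 3 n1256 = n1046 := d6_1 D1256 (iv5 D1046) (iv3 F1428)
theorem F2340 : act 0 n1256 = n1172 := d21_7 F1563 (iv1 F1430) (iv5 D430) F550 D429 D740 D1256 F2136 (iv6 D831) D830
theorem F2342 : act 1 n1256 = n812 := d15_1 (iv0 F2340) (iv7 F2137) F2135
def n1257 : Q := act 7 n740
theorem D1257 : act 7 n740 = n1257 := rfl
theorem F2343 : act 2 n1257 = n1257 := d4_1 D1257 (iv7 D1257) F1427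
theorem F2344 : act 3 n1257 = n1047 := d8_1 D1257 (iv7 D1047) (iv3 F1428)
theorem F2346 : act 6 n1257 = n1257 := d14_1 D1257 (iv7 D1257) (iv6 D740) F1230 D740
theorem F2347 : act 1 n1257 = n1254 := d15_0 (iv0 D1254) D1257 F2343
theorem F2348 : act 1 n1255 = n1257 := d15_1 D1255 (iv7 D1257) F1427
def n1258 : Q := act 6 n741
theorem D1258 : act 6 n741 = n1258 := rfl
theorem F2349 : act 2 n1258 = n1258 := d3_1 D1258 (iv6 D1258) F1451
theorem F2350 : act 3 n1258 = n1056 := d7_1 D1258 (iv6 D1056) F1455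
theorem F2351 : act 4 n1258 = n767 := d10_1 D1258 (iv6 D767) (iv4 F1450)
def n1259 : Q := act 0 n742
theorem D1259 : act 0 n742 = n1259 := rfl
def n1260 : Q := act 1 n742
theorem D1260 : act 1 n742 = n1260 := rfl
def n1261 : Q := act 7 n742
theorem D1261 : act 7 n742 = n1261 := rfl
theorem F2352 : act 2 n1261 = n1261 := d4_1 D1261 (iv7 D1261) F1431
theorem F2353 : act 3 n1261 = n747 := d8_1 D1261 (iv7 D747) (iv3 F1432)
theorem F2354 : act 5 n1261 = n1261 := d13_1 D1261 (iv7 D1261) F1433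
theorem F2355 : act 6 n1261 = n1261 := d14_1 D1261 (iv7 D1261) (iv6 D742) F722 D742
theorem F2356 : act 1 n1261 = n1259 := d15_0 (iv0 D1259) D1261 F2352
theorem F2357 : act 1 n1260 = n1261 := d15_1 D1260 (iv7 D1261) F1431
def n1262 : Q := act 6 n743
theorem D1262 : act 6 n743 = n1262 := rfl
theorem F2358 : act 3 n1262 = n744 := d7_1 D1262 (iv6 D744) D743
theorem F2359 : act 4 n1262 = n1043 := d10_1 D1262 (iv6 D1043) (iv4 F1434)
def n1263 : Q := act 0 n744
theorem D1263 : act 0 n744 = n1263 := rfl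
def n1264 : Q := act 1 n744
theorem D1264 : act 1 n744 = n1264 := rfl
theorem F2360 : act 1 n1264 = n1242 := d15_1 D1264 (iv7 D1242) (iv2 F1437)
def n1265 : Q := act 5 n744
theorem D1265 : act 5 n744 = n1265 := rfl
theorem F2361 : act 2 n1265 = n1241 := d2_1 D1265 (iv5 D1241) (iv2 F1437)
theorem F2362 : act 6 n1265 = n1241 := d12_2 D744 D1265 (iv5 D1241) (iv6 D735) (iv5 F725)
def n1266 : Q := act 7 n744
theorem D1266 : act 7 n744 = n1266 := rfl
theorem F2363 : act 2 n1266 = n1242 := d4_1 D1266 (iv7 D1242) (iv2 F1437)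
theorem F2364 : act 4 n1266 = n747 := d11_1 D1266 (iv7 D747) (iv4 F1438)
theorem F2365 : act 6 n1266 = n1266 := d14_1 D1266 (iv7 D1266) (iv6 D744) F724 D744
theorem F2366 : act 1 n1242 = n1263 := d15_0 (iv0 D1263) D1266 F2363
theorem F2367 : act 1 n1240 = n1266 := d15_1 D1240 (iv7 D1266) F1437
theorem F2368 : act 1 n1266 = n1239 := d15_0 (iv0 D1239) D1242 (iv2 F2363)
def n1267 : Q := act 2 n745
theorem D1267 : act 2 n745 = n1267 := rfl
theorem F2369 : act 7 n746 = n1267 := d15_2 (iv0 D745) D746 (iv2 D1267)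
def n1268 : Q := act 3 n745
theorem D1268 : act 3 n745 = n1268 := rfl
def n1269 : Q := act 4 n745
theorem D1269 : act 4 n745 = n1269 := rfl
def n1270 : Q := act 5 n745
theorem D1270 : act 5 n745 = n1270 := rfl
def n1271 : Q := act 6 n745
theorem D1271 : act 6 n745 = n1271 := rfl
def n1272 : Q := act 7 n745
theorem D1272 : act 7 n745 = n1272 := rfl
def n1273 : Q := act 3 n746
theorem D1273 : act 3 n746 = n1273 := rfl
def n1274 : Q := act 4 n746
theorem D1274 : act 4 n746 = n1274 := rfl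
def n1275 : Q := act 5 n746
theorem D1275 : act 5 n746 = n1275 := rfl
theorem F2371 : act 6 n763 = n1275 := d21_5 (iv5 D264) D261 F503 D443 D763 (iv5 D1275) (iv1 D746) F727 (iv6 D432) (iv1 F413)
def n1276 : Q := act 6 n746
theorem D1276 : act 6 n746 = n1276 := rfl
def n1277 : Q := act 6 n748
theorem D1277 : act 6 n748 = n1277 := rfl
theorem F2372 : act 3 n1277 = n749 := d7_1 D1277 (iv6 D749) D748
def n1278 : Q := act 0 n749
theorem D1278 : act 0 n749 = n1278 := rfl
theorem F2373 : act 6 n1278 = n1123 := d21_5 F627 (iv1 F411) (iv5 F728) D749 D1278 (iv5 D1123) (iv1 D686) F1112 (iv6 D379) (iv1 F626)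
def n1279 : Q := act 1 n749
theorem D1279 : act 1 n749 = n1279 := rfl
def n1280 : Q := act 5 n749
theorem D1280 : act 5 n749 = n1280 := rfl
theorem F2374 : act 6 n1280 = n757 := d12_2 D749 D1280 F1468 (iv6 D473) (iv5 F728)
def n1281 : Q := act 7 n749
theorem D1281 : act 7 n749 = n1281 := rfl
theorem F2375 : act 6 n1281 = n1281 := d14_1 D1281 (iv7 D1281) (iv6 D749) F730 D749
def n1282 : Q := act 0 n750
theorem D1282 : act 0 n750 = n1282 := rfl
theorem F2376 : act 6 n1282 = n1096 := d21_5 (iv5 F769) (iv1 F772) F733 D750 D1282 (iv5 D1096) (iv1 D677) F1050 (iv6 D356) D353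
def n1283 : Q := act 1 n750
theorem D1283 : act 1 n750 = n1283 := rfl
theorem F2377 : act 1 n1283 = n1281 := d15_1 D1283 (iv7 D1281) (iv2 F1460)
def n1284 : Q := act 5 n750
theorem D1284 : act 5 n750 = n1284 := rfl
theorem F2378 : act 2 n1284 = n1280 := d2_1 D1284 (iv5 D1280) (iv2 F1460)
theorem F2379 : act 6 n1284 = n829 := d12_2 D750 D1284 (iv5 D829) (iv6 D479) F733
def n1285 : Q := act 7 n750
theorem D1285 : act 7 n750 = n1285 := rfl
theorem F2380 : act 2 n1285 = n1281 := d4_1 D1285 (iv7 D1281) (iv2 F1460)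
theorem F2381 : act 6 n1285 = n1285 := d14_1 D1285 (iv7 D1285) (iv6 D750) F734 D750
theorem F2382 : act 1 n1281 = n1282 := d15_0 (iv0 D1282) D1285 F2380
theorem F2383 : act 1 n1279 = n1285 := d15_1 D1279 (iv7 D1285) F1460
theorem F2384 : act 1 n1285 = n1278 := d15_0 (iv0 D1278) D1281 (iv2 F2380)
def n1286 : Q := act 0 n751
theorem D1286 : act 0 n751 = n1286 := rfl
def n1287 : Q := act 1 n751
theorem D1287 : act 1 n751 = n1287 := rfl
def n1288 : Q := act 2 n751
theorem D1288 : act 2 n751 = n1288 := rfl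
theorem F2385 : act 4 n1288 = n780 := d1_2 (iv4 F1461) D1288 (iv2 D780)
theorem F2386 : act 7 n1288 = n1288 := d4_2 F1462 D1288 (iv2 D1288)
theorem F2387 : act 1 n1288 = n1286 := d15_0 (iv0 D1286) F1462 D1288
theorem F2388 : act 1 n1287 = n1288 := d15_1 D1287 F2386 (iv2 D1288)
def n1289 : Q := act 6 n751
theorem D1289 : act 6 n751 = n1289 := rfl
theorem F2389 : act 3 n1289 = n752 := d7_1 D1289 (iv6 D752) D751
theorem F2390 : act 4 n1289 = n782 := d10_1 D1289 (iv6 D782) (iv4 F1461)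
def n1290 : Q := act 0 n752
theorem D1290 : act 0 n752 = n1290 := rfl
def n1291 : Q := act 1 n752
theorem D1291 : act 1 n752 = n1291 := rfl
def n1292 : Q := act 5 n752
theorem D1292 : act 5 n752 = n1292 := rfl
def n1293 : Q := act 7 n752
theorem D1293 : act 7 n752 = n1293 := rfl
theorem F2391 : act 4 n1293 = n756 := d11_1 D1293 (iv7 D756) (iv4 F1463)
theorem F2392 : act 6 n1293 = n1293 := d14_1 D1293 (iv7 D1293) (iv6 D752) F735 D752
def n1294 : Q := act 2 n753
theorem D1294 : act 2 n753 = n1294 := rfl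
theorem F2393 : act 7 n754 = n1294 := d15_2 (iv0 D753) D754 (iv2 D1294)
def n1295 : Q := act 3 n753
theorem D1295 : act 3 n753 = n1295 := rfl
def n1296 : Q := act 4 n753
theorem D1296 : act 4 n753 = n1296 := rfl
def n1297 : Q := act 5 n753
theorem D1297 : act 5 n753 = n1297 := rfl
def n1298 : Q := act 6 n753
theorem D1298 : act 6 n753 = n1298 := rfl
def n1299 : Q := act 7 n753
theorem D1299 : act 7 n753 = n1299 := rfl
theorem F2394 : act 2 n1299 = n754 := d4_1 D1299 F2393 (iv2 D1294)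
def n1300 : Q := act 3 n754
theorem D1300 : act 3 n754 = n1300 := rfl
def n1301 : Q := act 4 n754
theorem D1301 : act 4 n754 = n1301 := rfl
def n1302 : Q := act 5 n754
theorem D1302 : act 5 n754 = n1302 := rfl
def n1303 : Q := act 6 n754
theorem D1303 : act 6 n754 = n1303 := rfl
def n1304 : Q := act 0 n755
theorem D1304 : act 0 n755 = n1304 := rfl
def n1305 : Q := act 1 n755
theorem D1305 : act 1 n755 = n1305 := rfl
def n1306 : Q := act 4 n755
theorem D1306 : act 4 n755 = n1306 := rfl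
theorem F2395 : act 6 n1306 = n759 := d10_2 (iv6 F1465) D1306 (iv4 D759)
def n1307 : Q := act 7 n755
theorem D1307 : act 7 n755 = n1307 := rfl
theorem F2396 : act 3 n1307 = n801 := d8_1 D1307 (iv7 D801) (iv3 F1464)
theorem F2397 : act 5 n1307 = n756 := d13_1 D1307 (iv7 D756) D755
def n1308 : Q := act 3 n757
theorem D1308 : act 3 n757 = n1308 := rfl
theorem F2398 : act 5 n1308 = n825 := d6_2 (iv5 F1468) D1308 F1548
theorem F2399 : act 0 n1052 = n1308 := d21_7 F1536 (iv1 F1243) (iv5 D664) F1048 (iv1 F621) D663 D1052 F2398 (iv6 D825) D822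
theorem E346 : n1139 = n1051 := ((c17_9 (iv1 D693) D694 D1141 F2091 F1555 (iv5 F2398) (iv0 F2399) (iv5 D1052) D1051 F2087)).symm
theorem E347 : n852 = n663 := ((((iv1 D1051)).symm.trans (sb E346 (iv1 F2089)))).symm
theorem E348 : n1047 = n851 := ((F1951).symm.trans (sb E346 (iv0 F2088)))
theorem F2400 : act 2 n1051 = n721 := (sb E346 F2084)
theorem F2401 : act 3 n1051 = n693 := (sb E346 (iv3 D1139))
theorem F2402 : act 4 n1051 = n693 := (sb E346 F2087)
theorem F2403 : act 6 n1051 = n853 := (sb E346 F2085)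
theorem F2404 : act 7 n1051 = n853 := (sb E346 F2086)
theorem E349 : n1050 = n524 := ((D1050).symm.trans (sb E347 (iv1 D852)))
theorem E350 : n1207 = n661 := (((F1240).symm.trans (sb E347 (iv4 F2245)))).symm
theorem F2405 : act 0 n851 = n1051 := (sb E348 (iv1 F1951))
theorem F2406 : act 2 n851 = n1053 := (sb E348 (iv2 F1954))
theorem E351 : n1257 = n806 := (((F1612).symm.trans (sb E348 (iv3 F2344)))).symm
theorem E352 : n1208 = n1053 := ((F2249).symm.trans (sb E348 (iv4 F1956)))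
theorem F2407 : act 6 n851 = n851 := (sb E348 (tr F1946 E348))
theorem F2408 : act 7 n851 = n661 := (sb E348 (iv7 D1047))
theorem F2409 : act 1 n524 = n663 := (sb E349 (iv0 D1050))
theorem E353 : n1044 = n853 := ((D1044).symm.trans (sb E350 (iv1 F2246)))
theorem E354 : n1045 = n721 := ((D1045).symm.trans (sb E350 (iv0 D1207)))
theorem E356 : n1255 = n463 := ((((iv1 D806)).symm.trans (sb E351 (iv1 F2348)))).symm
theorem E357 : n1254 = n702 := (((F1519).symm.trans (sb E351 F2347))).symm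
theorem F2410 : act 2 n806 = n806 := (sb E351 (tr F2343 E351))
theorem F2411 : act 6 n806 = n806 := (sb E351 (tr F2346 E351))
theorem F2412 : act 7 n806 = n740 := (sb E351 (iv7 D1257))
theorem F2413 : act 4 n1053 = n851 := (sb E352 (iv4 F2249))
theorem F2414 : act 0 n853 = n1053 := (sb E353 (iv1 F1960))
theorem F2415 : act 1 n853 = n661 := (sb E353 (iv0 D1044))
theorem F2416 : act 0 n721 = n661 := (sb E354 (iv1 D1045))
theorem F2417 : act 1 n721 = n1053 := (sb E354 F1959)
theorem F2418 : act 0 n463 = n740 := (sb E356 (iv1 D1255))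
theorem F2419 : act 1 n702 = n740 := (sb E357 (iv0 D1254))
def n1309 : Q := act 3 n758
theorem D1309 : act 3 n758 = n1309 := rfl
theorem F2420 : act 5 n1309 = n1184 := d6_2 (iv5 F1535) D1309 F2171
theorem F2421 : act 7 n1309 = n1141 := d8_2 F1561 D1309 (iv3 F2092)
theorem F2422 : act 0 n1309 = n1034 := d20_4 (iv4 F2159) (iv1 F2161) (iv4 F1610) D1309 F1926 D1041 F1939 (iv4 D811) F798 (iv1 F1339)
theorem F2423 : act 0 n1144 = n1309 := d20_4 (iv4 F1528) (iv1 F2162) F2159 (iv3 F2093) (iv3 D1309) F1610 (iv1 D816) (iv4 D469) (iv3 F738) D757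
def n1310 : Q := act 6 n758
theorem D1310 : act 6 n758 = n1310 := rfl
theorem F2424 : act 5 n1310 = n1310 := d12_1 D1310 (iv6 D1310) F1535 F1367 (iv5 F1535)
def n1311 : Q := act 3 n759
theorem D1311 : act 3 n759 = n1311 := rfl
theorem F2425 : act 4 n1311 = n817 := d5_2 D759 D1311 (iv3 D817) (iv4 D469) (iv3 F738)
def n1312 : Q := act 5 n759
theorem D1312 : act 5 n759 = n1312 := rfl
def n1313 : Q := act 7 n759
theorem D1313 : act 7 n759 = n1313 := rfl
theorem F2426 : act 4 n1313 = n760 := d11_1 D1313 (iv7 D760) D759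
theorem F2427 : act 1 n813 = n1313 := d15_1 F1940 (iv7 D1313) (iv2 F1938)
theorem F2428 : act 1 n1313 = n811 := d15_1 F2427 (iv7 F2142) F2141
def n1314 : Q := act 6 n760
theorem D1314 : act 6 n760 = n1314 := rfl
theorem F2429 : act 3 n1314 = n820 := d7_1 D1314 (iv6 D820) (iv3 F1469)
theorem F2430 : act 5 n1314 = n1314 := d12_1 D1314 (iv6 D1314) F1470 F741 (iv5 F1470)
def n1315 : Q := act 0 n761
theorem D1315 : act 0 n761 = n1315 := rfl
theorem F2431 : act 5 n1315 = n1125 := d17_3 F2020 F1481 D1315 (iv4 D1125) (iv5 F1290) (iv0 F780) (iv5 F1272) F1269 D1098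
theorem F2432 : act 7 n1315 = n1315 := d13_0 F2431 F2056 (iv5 F2431)
def n1316 : Q := act 1 n761
theorem D1316 : act 1 n761 = n1316 := rfl
theorem F2433 : act 5 n1316 = n1127 := d17_7 F1448 F1446 D822 F1536 (iv4 F1480) F1481 D1316 F2063 (iv4 D1048)
theorem F2434 : act 2 n1315 = n1316 := d2_3 F2433 F2060 (iv5 F2431)
theorem F2435 : act 7 n1316 = n1316 := d13_0 F2433 F2061 (iv5 F2433)
def n1317 : Q := act 2 n761
theorem D1317 : act 2 n761 = n1317 := rfl
theorem F2436 : act 3 n1317 = n1057 := d0_2 D761 D1317 F1965 (iv3 D768) F887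
theorem F2437 : act 4 n1317 = n1317 := d1_2 F1471 D1317 (iv2 D1317)
theorem F2438 : act 5 n1317 = n1057 := d2_2 F1481 D1317 F1965
theorem F2439 : act 7 n1317 = n1317 := d4_2 F1472 D1317 (iv2 D1317)
theorem F2440 : act 1 n1317 = n1315 := d15_0 (iv0 D1315) F1472 D1317
theorem F2441 : act 1 n1316 = n1317 := d15_1 D1316 F2439 (iv2 D1317)
def n1318 : Q := act 6 n761
theorem D1318 : act 6 n761 = n1318 := rfl
theorem F2442 : act 3 n1318 = n762 := d7_1 D1318 (iv6 D762) D761
theorem F2443 : act 4 n1318 = n1318 := d10_1 D1318 (iv6 D1318) F1471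
def n1319 : Q := act 0 n762
theorem D1319 : act 0 n762 = n1319 := rfl
def n1320 : Q := act 1 n762
theorem D1320 : act 1 n762 = n1320 := rfl
def n1321 : Q := act 5 n762
theorem D1321 : act 5 n762 = n1321 := rfl
def n1322 : Q := act 7 n762
theorem D1322 : act 7 n762 = n1322 := rfl
theorem F2444 : act 4 n1322 = n766 := d11_1 D1322 (iv7 D766) (iv4 F1473)
theorem F2445 : act 6 n1322 = n1322 := d14_1 D1322 (iv7 D1322) (iv6 D762) F886 D762
def n1323 : Q := act 2 n763
theorem D1323 : act 2 n763 = n1323 := rfl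
theorem F2446 : act 7 n764 = n1323 := d15_2 (iv0 D763) D764 (iv2 D1323)
def n1324 : Q := act 3 n763
theorem D1324 : act 3 n763 = n1324 := rfl
def n1325 : Q := act 4 n763
theorem D1325 : act 4 n763 = n1325 := rfl
def n1326 : Q := act 5 n763
theorem D1326 : act 5 n763 = n1326 := rfl
def n1327 : Q := act 7 n763
theorem D1327 : act 7 n763 = n1327 := rfl
theorem F2447 : act 2 n1327 = n764 := d4_1 D1327 F2446 (iv2 D1323)
def n1328 : Q := act 3 n764
theorem D1328 : act 3 n764 = n1328 := rfl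
def n1329 : Q := act 4 n764
theorem D1329 : act 4 n764 = n1329 := rfl
def n1330 : Q := act 5 n764
theorem D1330 : act 5 n764 = n1330 := rfl
def n1331 : Q := act 6 n764
theorem D1331 : act 6 n764 = n1331 := rfl
def n1332 : Q := act 0 n765
theorem D1332 : act 0 n765 = n1332 := rfl
def n1333 : Q := act 1 n765
theorem D1333 : act 1 n765 = n1333 := rfl
theorem F2448 : act 5 n1271 = n1333 := d21_6 (iv5 D226) F263 D239 D432 D745 D1271 (iv1 D1333) (iv5 D765) (iv6 D443) (iv1 F385)
def n1334 : Q := act 4 n765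
theorem D1334 : act 4 n765 = n1334 := rfl
theorem F2449 : act 6 n1334 = n811 := d10_2 (iv6 F1475) D1334 (iv4 D811)
def n1335 : Q := act 7 n765
theorem D1335 : act 7 n765 = n1335 := rfl
theorem F2450 : act 3 n1335 = n1335 := d8_1 D1335 (iv7 D1335) F1474
theorem F2451 : act 5 n1335 = n766 := d13_1 D1335 (iv7 D766) D765
def n1336 : Q := act 0 n767
theorem D1336 : act 0 n767 = n1336 := rfl
def n1337 : Q := act 1 n767
theorem D1337 : act 1 n767 = n1337 := rfl
def n1338 : Q := act 5 n767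
theorem D1338 : act 5 n767 = n1338 := rfl
theorem F2452 : act 2 n1338 = n1338 := d2_1 D1338 (iv5 D1338) F1478
theorem F2453 : act 3 n1338 = n772 := d6_1 D1338 (iv5 D772) (iv3 F1479)
theorem F2454 : act 6 n1338 = n1172 := d12_2 D767 D1338 F2136 (iv6 D831) F804
def n1339 : Q := act 7 n767
theorem D1339 : act 7 n767 = n1339 := rfl
theorem F2455 : act 2 n1339 = n1339 := d4_1 D1339 (iv7 D1339) F1478
theorem F2456 : act 3 n1339 = n773 := d8_1 D1339 (iv7 D773) (iv3 F1479)
theorem F2457 : act 6 n1339 = n1339 := d14_1 D1339 (iv7 D1339) (iv6 D767) F884 D767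
theorem F2458 : act 1 n1339 = n1336 := d15_0 (iv0 D1336) D1339 F2455
theorem F2459 : act 1 n1337 = n1339 := d15_1 D1337 (iv7 D1339) F1478
def n1340 : Q := act 6 n768
theorem D1340 : act 6 n768 = n1340 := rfl
theorem F2460 : act 3 n1340 = n769 := d7_1 D1340 (iv6 D769) D768
theorem F2461 : act 4 n1340 = n1056 := d10_1 D1340 (iv6 D1056) (iv4 F1480)
def n1341 : Q := act 0 n769
theorem D1341 : act 0 n769 = n1341 := rfl
def n1342 : Q := act 1 n769
theorem D1342 : act 1 n769 = n1342 := rfl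
theorem F2462 : act 1 n1342 = n1322 := d15_1 D1342 (iv7 D1322) (iv2 F1484)
def n1343 : Q := act 5 n769
theorem D1343 : act 5 n769 = n1343 := rfl
theorem F2463 : act 2 n1343 = n1321 := d2_1 D1343 (iv5 D1321) (iv2 F1484)
theorem F2464 : act 6 n1343 = n1321 := d12_2 D769 D1343 (iv5 D1321) (iv6 D762) (iv5 F748)
def n1344 : Q := act 7 n769
theorem D1344 : act 7 n769 = n1344 := rfl
theorem F2465 : act 2 n1344 = n1322 := d4_1 D1344 (iv7 D1322) (iv2 F1484)
theorem F2466 : act 4 n1344 = n773 := d11_1 D1344 (iv7 D773) (iv4 F1485)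
theorem F2467 : act 6 n1344 = n1344 := d14_1 D1344 (iv7 D1344) (iv6 D769) F885 D769
theorem F2468 : act 1 n1322 = n1341 := d15_0 (iv0 D1341) D1344 F2465
theorem F2469 : act 1 n1320 = n1344 := d15_1 D1320 (iv7 D1344) F1484
theorem F2470 : act 1 n1344 = n1319 := d15_0 (iv0 D1319) D1322 (iv2 F2465)
def n1345 : Q := act 2 n770
theorem D1345 : act 2 n770 = n1345 := rfl
theorem F2471 : act 7 n771 = n1345 := d15_2 (iv0 D770) D771 (iv2 D1345)
def n1346 : Q := act 3 n770
theorem D1346 : act 3 n770 = n1346 := rfl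
def n1347 : Q := act 4 n770
theorem D1347 : act 4 n770 = n1347 := rfl
def n1348 : Q := act 5 n770
theorem D1348 : act 5 n770 = n1348 := rfl
def n1349 : Q := act 7 n770
theorem D1349 : act 7 n770 = n1349 := rfl
theorem F2472 : act 2 n1349 = n771 := d4_1 D1349 F2471 (iv2 D1345)
def n1350 : Q := act 3 n771
theorem D1350 : act 3 n771 = n1350 := rfl
def n1351 : Q := act 4 n771
theorem D1351 : act 4 n771 = n1351 := rfl
def n1352 : Q := act 5 n771
theorem D1352 : act 5 n771 = n1352 := rfl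
def n1353 : Q := act 6 n771
theorem D1353 : act 6 n771 = n1353 := rfl
def n1354 : Q := act 0 n772
theorem D1354 : act 0 n772 = n1354 := rfl
def n1355 : Q := act 1 n772
theorem D1355 : act 1 n772 = n1355 := rfl
theorem F2473 : act 1 n1355 = n1335 := d15_1 D1355 (iv7 D1335) (iv2 F1487)
theorem F2474 : act 5 n1247 = n1355 := d21_6 (iv5 D65) D62 D235 D428 D736 D1247 (iv1 D1355) (iv5 D772) (iv6 D447) (iv1 D244)
def n1356 : Q := act 4 n772
theorem D1356 : act 4 n772 = n1356 := rfl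
theorem F2475 : act 2 n1356 = n1334 := d1_1 D1356 (iv4 D1334) (iv2 F1487)
theorem F2476 : act 6 n1356 = n1173 := d10_2 (iv6 F1488) D1356 (iv4 D1173)
def n1357 : Q := act 7 n772
theorem D1357 : act 7 n772 = n1357 := rfl
theorem F2477 : act 2 n1357 = n1335 := d4_1 D1357 (iv7 D1335) (iv2 F1487)
theorem F2478 : act 5 n1357 = n773 := d13_1 D1357 (iv7 D773) D772
theorem F2479 : act 1 n1335 = n1354 := d15_0 (iv0 D1354) D1357 F2477
theorem F2480 : act 1 n1333 = n1357 := d15_1 D1333 (iv7 D1357) F1487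
theorem F2481 : act 1 n1357 = n1332 := d15_0 (iv0 D1332) D1335 (iv2 F2477)
def n1358 : Q := act 0 n774
theorem D1358 : act 0 n774 = n1358 := rfl
theorem F2482 : act 5 n1358 = n1107 := d19_1 D1358 F2035 (iv3 D774) (iv1 F751) (iv5 F809) (iv4 D490) F628 (iv1 D354) (iv5 D212) (iv4 D51) F278 (iv1 D13) D16 D69 D263 (iv1 F411) (iv5 F728) (iv4 F750) D774
theorem F2483 : act 7 n1358 = n1358 := d13_0 F2482 F2036 (iv5 F2482)
def n1359 : Q := act 1 n774
theorem D1359 : act 1 n774 = n1359 := rfl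
def n1360 : Q := act 2 n774
theorem D1360 : act 2 n774 = n1360 := rfl
theorem F2484 : act 4 n1360 = n1108 := d1_2 F2035 D1360 (iv2 F2042)
theorem F2485 : act 7 n1360 = n1360 := d4_2 F1494 D1360 (iv2 D1360)
theorem F2486 : act 1 n1360 = n1358 := d15_0 (iv0 D1358) F1494 D1360
theorem F2487 : act 1 n1359 = n1360 := d15_1 D1359 F2485 (iv2 D1360)
theorem F2488 : act 2 n1358 = n1359 := d15_3 F2487 F2486 F2483
theorem F2489 : act 5 n1108 = n1359 := d17_7 (iv1 D1108) F1277 D1080 F2005 F1977 (iv5 F1277) D1108 F2487 F2484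
theorem F2490 : act 7 n1359 = n1359 := d13_2 F2043 F2489 (iv5 F2489)
def n1361 : Q := act 6 n774
theorem D1361 : act 6 n774 = n1361 := rfl
theorem F2491 : act 3 n1361 = n775 := d7_1 D1361 (iv6 D775) D774
def n1362 : Q := act 0 n775
theorem D1362 : act 0 n775 = n1362 := rfl
def n1363 : Q := act 1 n775
theorem D1363 : act 1 n775 = n1363 := rfl
def n1364 : Q := act 5 n775
theorem D1364 : act 5 n775 = n1364 := rfl
def n1365 : Q := act 7 n775
theorem D1365 : act 7 n775 = n1365 := rfl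
theorem F2492 : act 4 n1365 = n1281 := d11_1 D1365 (iv7 D1281) (iv4 F1495)
theorem F2493 : act 6 n1365 = n1365 := d14_1 D1365 (iv7 D1365) (iv6 D775) F752 D775
def n1366 : Q := act 1 n776
theorem D1366 : act 1 n776 = n1366 := rfl
def n1367 : Q := act 2 n776
theorem D1367 : act 2 n776 = n1367 := rfl
theorem F2494 : act 3 n1367 = n1360 := d0_2 D776 D1367 (iv2 D1360) (iv3 D774) F757
theorem F2495 : act 5 n1367 = n1360 := d2_2 (iv5 F1496) D1367 (iv2 D1360)
theorem F2496 : act 7 n1367 = n1367 := d4_2 F1497 D1367 (iv2 D1367)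
theorem F2497 : act 1 n1367 = n1061 := d15_0 (iv0 F1979) F1497 D1367
theorem F2498 : act 1 n1366 = n1367 := d15_1 D1366 F2496 (iv2 D1367)
theorem F2499 : act 2 n1061 = n1366 := d15_3 F2498 F2497 F1978
theorem F2500 : act 4 n1366 = n1082 := d1_2 (iv4 F1977) F2499 (iv2 D1082)
theorem F2501 : act 5 n1366 = n1081 := d2_2 F2005 F2499 (iv2 F2011)
theorem F2502 : act 7 n1366 = n1366 := d4_2 F1978 F2499 (iv2 F2499)
def n1368 : Q := act 4 n776
theorem D1368 : act 4 n776 = n1368 := rfl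
theorem F2503 : act 3 n1368 = n1125 := d5_1 D1368 (iv4 D1125) F1288 (iv4 F754) D776
theorem F2504 : act 7 n1368 = n1368 := d11_2 F1497 D1368 (iv4 D1368)
def n1369 : Q := act 6 n776
theorem D1369 : act 6 n776 = n1369 := rfl
theorem F2505 : act 3 n1369 = n777 := d7_1 D1369 (iv6 D777) D776
def n1370 : Q := act 0 n777
theorem D1370 : act 0 n777 = n1370 := rfl
def n1371 : Q := act 1 n777
theorem D1371 : act 1 n777 = n1371 := rfl
theorem F2506 : act 1 n1371 = n1365 := d15_1 D1371 (iv7 D1365) (iv2 F1498)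
def n1372 : Q := act 5 n777
theorem D1372 : act 5 n777 = n1372 := rfl
theorem F2507 : act 2 n1372 = n1364 := d2_1 D1372 (iv5 D1364) (iv2 F1498)
theorem F2508 : act 6 n1372 = n1364 := d12_2 D777 D1372 (iv5 D1364) (iv6 D775) (iv5 F755)
def n1373 : Q := act 7 n777
theorem D1373 : act 7 n777 = n1373 := rfl
theorem F2509 : act 2 n1373 = n1365 := d4_1 D1373 (iv7 D1365) (iv2 F1498)
theorem F2510 : act 4 n1373 = n1285 := d11_1 D1373 (iv7 D1285) (iv4 F1499)
theorem F2511 : act 6 n1373 = n1373 := d14_1 D1373 (iv7 D1373) (iv6 D777) F756 D777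
theorem F2512 : act 1 n1365 = n1370 := d15_0 (iv0 D1370) D1373 F2509
theorem F2513 : act 1 n1363 = n1373 := d15_1 D1363 (iv7 D1373) F1498
theorem F2514 : act 1 n1373 = n1362 := d15_0 (iv0 D1362) D1365 (iv2 F2509)
def n1374 : Q := act 2 n778
theorem D1374 : act 2 n778 = n1374 := rfl
theorem F2515 : act 7 n779 = n1374 := d15_2 (iv0 D778) D779 (iv2 D1374)
def n1375 : Q := act 3 n778
theorem D1375 : act 3 n778 = n1375 := rfl
theorem F2516 : act 4 n1375 = n779 := d20_6 (iv4 D446) (iv1 D244) D245 D450 D778 D1375 (iv1 D779) (iv4 F1461) (iv3 D751) (iv1 F749)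
def n1376 : Q := act 4 n778
theorem D1376 : act 4 n778 = n1376 := rfl
def n1377 : Q := act 5 n778
theorem D1377 : act 5 n778 = n1377 := rfl
def n1378 : Q := act 6 n778
theorem D1378 : act 6 n778 = n1378 := rfl
def n1379 : Q := act 7 n778
theorem D1379 : act 7 n778 = n1379 := rfl
theorem F2517 : act 2 n1379 = n779 := d4_1 D1379 F2515 (iv2 D1374)
def n1380 : Q := act 3 n779
theorem D1380 : act 3 n779 = n1380 := rfl
def n1381 : Q := act 5 n779
theorem D1381 : act 5 n779 = n1381 := rfl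
def n1382 : Q := act 6 n779
theorem D1382 : act 6 n779 = n1382 := rfl
def n1383 : Q := act 5 n780
theorem D1383 : act 5 n780 = n1383 := rfl
theorem F2518 : act 2 n1383 = n781 := d2_1 D1383 (iv5 D781) D780
theorem F2519 : act 7 n1383 = n1383 := d13_2 F1500 D1383 (iv5 D1383)
def n1384 : Q := act 6 n780
theorem D1384 : act 6 n780 = n1384 := rfl
theorem F2520 : act 2 n1384 = n782 := d3_1 D1384 (iv6 D782) D780
def n1385 : Q := act 0 n781
theorem D1385 : act 0 n781 = n1385 := rfl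
theorem F2521 : act 1 n1383 = n1385 := d15_0 (iv0 D1385) F1504 (iv2 F2518)
def n1386 : Q := act 1 n781
theorem D1386 : act 1 n781 = n1386 := rfl
theorem F2522 : act 1 n1386 = n1383 := d15_1 D1386 F2519 F2518
theorem F2523 : act 3 n1031 = n1386 := d19_19 (iv1 D1386) (iv5 D781) (iv4 F1461) (iv3 D751) (iv1 F749) F748 (iv4 D442) F508 (iv1 F385) (iv5 D226) (iv4 D59) F276 F275 F65 D56 D218 F612 D654 D1031
theorem F2524 : act 4 n1386 = n1035 := d5_2 D1031 F2523 (iv3 D1035) (iv4 D656) (iv3 F1215)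
theorem F2525 : act 7 n1386 = n1386 := d8_2 F1916 F2523 (iv3 F2523)
theorem F2526 : act 2 n1386 = n1385 := d15_3 (iv0 D1385) D1386 F2525
theorem F2527 : act 7 n1385 = n1385 := d4_2 F2525 F2526 (iv2 F2526)
def n1387 : Q := act 4 n781
theorem D1387 : act 4 n781 = n1387 := rfl
theorem F2528 : act 3 n1387 = n1060 := d5_1 D1387 F1974 (iv3 F1270) (iv4 F760) (iv3 F1503)
theorem F2529 : act 7 n1387 = n1387 := d11_2 F1504 D1387 (iv4 D1387)
def n1388 : Q := act 6 n781
theorem D1388 : act 6 n781 = n1388 := rfl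
theorem F2530 : act 3 n1388 = n783 := d7_1 D1388 (iv6 D783) (iv3 F1503)
def n1389 : Q := act 0 n782
theorem D1389 : act 0 n782 = n1389 := rfl
def n1390 : Q := act 1 n782
theorem D1390 : act 1 n782 = n1390 := rfl
def n1391 : Q := act 5 n782
theorem D1391 : act 5 n782 = n1391 := rfl
theorem F2531 : act 3 n1391 = n786 := d6_1 D1391 (iv5 D786) (iv3 F1505)
def n1392 : Q := act 7 n782
theorem D1392 : act 7 n782 = n1392 := rfl
theorem F2532 : act 3 n1392 = n787 := d8_1 D1392 (iv7 D787) (iv3 F1505)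
theorem F2533 : act 6 n1392 = n1392 := d14_1 D1392 (iv7 D1392) (iv6 D782) F758 D782
def n1393 : Q := act 0 n783
theorem D1393 : act 0 n783 = n1393 := rfl
def n1394 : Q := act 1 n783
theorem D1394 : act 1 n783 = n1394 := rfl
def n1395 : Q := act 5 n783
theorem D1395 : act 5 n783 = n1395 := rfl
theorem F2534 : act 6 n1395 = n786 := d12_2 D783 D1395 (iv5 D786) (iv6 D452) D451
def n1396 : Q := act 7 n783
theorem D1396 : act 7 n783 = n1396 := rfl
theorem F2535 : act 4 n1396 = n1190 := d11_1 D1396 (iv7 D1190) (iv4 F1506)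
theorem F2536 : act 6 n1396 = n1396 := d14_1 D1396 (iv7 D1396) (iv6 D783) F759 D783
def n1397 : Q := act 2 n784
theorem D1397 : act 2 n784 = n1397 := rfl
theorem F2537 : act 7 n785 = n1397 := d15_2 (iv0 D784) D785 (iv2 D1397)
def n1398 : Q := act 3 n784
theorem D1398 : act 3 n784 = n1398 := rfl
def n1399 : Q := act 4 n784
theorem D1399 : act 4 n784 = n1399 := rfl
def n1400 : Q := act 5 n784
theorem D1400 : act 5 n784 = n1400 := rfl
def n1401 : Q := act 6 n784
theorem D1401 : act 6 n784 = n1401 := rfl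
def n1402 : Q := act 7 n784
theorem D1402 : act 7 n784 = n1402 := rfl
theorem F2538 : act 2 n1402 = n785 := d4_1 D1402 F2537 (iv2 D1397)
def n1403 : Q := act 3 n785
theorem D1403 : act 3 n785 = n1403 := rfl
def n1404 : Q := act 4 n785
theorem D1404 : act 4 n785 = n1404 := rfl
def n1405 : Q := act 5 n785
theorem D1405 : act 5 n785 = n1405 := rfl
def n1406 : Q := act 6 n785
theorem D1406 : act 6 n785 = n1406 := rfl
def n1407 : Q := act 0 n786
theorem D1407 : act 0 n786 = n1407 := rfl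
def n1408 : Q := act 1 n786
theorem D1408 : act 1 n786 = n1408 := rfl
def n1409 : Q := act 4 n786
theorem D1409 : act 4 n786 = n1409 := rfl
def n1410 : Q := act 7 n786
theorem D1410 : act 7 n786 = n1410 := rfl
theorem F2539 : act 5 n1410 = n787 := d13_1 D1410 (iv7 D787) D786
def n1413 : Q := act 3 n788
theorem D1413 : act 3 n788 = n1413 := rfl
theorem F2542 : act 7 n1413 = n794 := d8_2 F1509 D1413 (iv3 D794)
def n1414 : Q := act 4 n788
theorem D1414 : act 4 n788 = n1414 := rfl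
theorem F2543 : act 2 n1414 = n790 := d1_1 D1414 (iv4 D790) D788
theorem F2544 : act 7 n1414 = n795 := d11_2 F1509 D1414 (iv4 D795)
def n1415 : Q := act 5 n788
theorem D1415 : act 5 n788 = n1415 := rfl
theorem F2545 : act 2 n1415 = n791 := d2_1 D1415 (iv5 D791) D788
theorem F2546 : act 7 n1415 = n796 := d13_2 F1509 D1415 (iv5 D796)
def n1416 : Q := act 6 n788
theorem D1416 : act 6 n788 = n1416 := rfl
theorem F2547 : act 2 n1416 = n792 := d3_1 D1416 (iv6 D792) D788
def n1419 : Q := act 2 n789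
theorem D1419 : act 2 n789 = n1419 := rfl
def n1420 : Q := act 4 n789
theorem D1420 : act 4 n789 = n1420 := rfl
def n1421 : Q := act 5 n789
theorem D1421 : act 5 n789 = n1421 := rfl
theorem F2548 : act 3 n1421 = n791 := d6_1 D1421 (iv5 D791) D789
def n1422 : Q := act 6 n789
theorem D1422 : act 6 n789 = n1422 := rfl
theorem F2549 : act 3 n1422 = n792 := d7_1 D1422 (iv6 D792) D789
def n1423 : Q := act 7 n789
theorem D1423 : act 7 n789 = n1423 := rfl
theorem F2550 : act 3 n1423 = n793 := d8_1 D1423 (iv7 D793) D789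
def n1424 : Q := act 0 n790
theorem D1424 : act 0 n790 = n1424 := rfl
def n1425 : Q := act 1 n790
theorem D1425 : act 1 n790 = n1425 := rfl
def n1426 : Q := act 3 n790
theorem D1426 : act 3 n790 = n1426 := rfl
def n1427 : Q := act 5 n790
theorem D1427 : act 5 n790 = n1427 := rfl
def n1428 : Q := act 6 n790
theorem D1428 : act 6 n790 = n1428 := rfl
theorem F2552 : act 4 n1428 = n792 := d10_1 D1428 (iv6 D792) D790
def n1429 : Q := act 7 n790
theorem D1429 : act 7 n790 = n1429 := rfl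
theorem F2553 : act 2 n1429 = n795 := d4_1 D1429 (iv7 F2544) F2543
theorem F2554 : act 4 n1429 = n793 := d11_1 D1429 (iv7 D793) D790
theorem F2555 : act 1 n795 = n1424 := d15_0 (iv0 D1424) D1429 F2553
def n1430 : Q := act 0 n791
theorem D1430 : act 0 n791 = n1430 := rfl
theorem F2556 : act 5 n1430 = n1276 := d21_2 D791 D1430 (iv6 D1276) (iv1 D746) (iv6 D432) (iv5 D239) (iv1 D63) D65 D246 D453
theorem F2557 : act 6 n1326 = n1430 := d12_0 F2556 (iv6 D1276) D1275 (iv6 F2371) D1326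
theorem F2558 : act 0 n1430 = n796 := d21_10 (iv5 D796) (iv1 D454) D455 F764 D467 (iv6 F1475) (iv5 D765) D763 D1326 F2557
theorem F2559 : act 0 n797 = n1270 := d21_10 (iv5 D1270) (iv1 F1443) F1421 F1422 (iv1 F1439) D1276 (iv5 F2556) F2558 (iv5 D796) D797
def n1431 : Q := act 1 n791
theorem D1431 : act 1 n791 = n1431 := rfl
theorem F2560 : act 1 n1431 = n796 := d15_1 D1431 (iv7 F2546) F2545
def n1432 : Q := act 4 n791
theorem D1432 : act 4 n791 = n1432 := rfl
def n1433 : Q := act 6 n791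
theorem D1433 : act 6 n791 = n1433 := rfl
def n1434 : Q := act 7 n791
theorem D1434 : act 7 n791 = n1434 := rfl
theorem F2561 : act 2 n1434 = n796 := d4_1 D1434 (iv7 F2546) F2545
theorem F2562 : act 5 n1434 = n793 := d13_1 D1434 (iv7 D793) D791
def n1435 : Q := act 0 n792
theorem D1435 : act 0 n792 = n1435 := rfl
def n1436 : Q := act 1 n792
theorem D1436 : act 1 n792 = n1436 := rfl
theorem F2563 : act 6 n1270 = n1436 := d21_3 F727 D745 D1270 (iv1 D1436) (iv6 D792) D791 D1430 F2556 (iv6 D1276) (iv1 D746)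
def n1437 : Q := act 5 n792
theorem D1437 : act 5 n792 = n1437 := rfl
theorem F2564 : act 0 n1437 = n1189 := d21_1 D1437 (iv5 D1189) (iv6 D712) F690 D432 F727 D745 D1270 F2563 (iv1 D1436)
def n1438 : Q := act 7 n792
theorem D1438 : act 7 n792 = n1438 := rfl
def n1439 : Q := act 6 n793
theorem D1439 : act 6 n793 = n1439 := rfl
theorem F2565 : act 2 n1439 = n797 := d3_1 D1439 (iv6 D797) (iv2 F1510)
def n1440 : Q := act 0 n794
theorem D1440 : act 0 n794 = n1440 := rfl
def n1441 : Q := act 1 n794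
theorem D1441 : act 1 n794 = n1441 := rfl
def n1442 : Q := act 2 n794
theorem D1442 : act 2 n794 = n1442 := rfl
def n1443 : Q := act 4 n794
theorem D1443 : act 4 n794 = n1443 := rfl
def n1444 : Q := act 5 n794
theorem D1444 : act 5 n794 = n1444 := rfl
theorem F2566 : act 3 n1444 = n796 := d6_1 D1444 (iv5 D796) D794
def n1445 : Q := act 6 n794
theorem D1445 : act 6 n794 = n1445 := rfl
theorem F2567 : act 3 n1445 = n797 := d7_1 D1445 (iv6 D797) D794
def n1446 : Q := act 3 n795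
theorem D1446 : act 3 n795 = n1446 := rfl
def n1447 : Q := act 5 n795
theorem D1447 : act 5 n795 = n1447 := rfl
def n1448 : Q := act 6 n795
theorem D1448 : act 6 n795 = n1448 := rfl
theorem F2568 : act 4 n1448 = n797 := d10_1 D1448 (iv6 D797) D795
def n1449 : Q := act 4 n796
theorem D1449 : act 4 n796 = n1449 := rfl
def n1450 : Q := act 6 n796
theorem D1450 : act 6 n796 = n1450 := rfl
theorem F2569 : act 0 n1189 = n1450 := d21_4 F797 F796 D714 (iv6 F2184) (iv6 D1450) (iv5 D796) (iv1 D454) D455 F764 D467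
def n1451 : Q := act 1 n797
theorem D1451 : act 1 n797 = n1451 := rfl
def n1452 : Q := act 5 n797
theorem D1452 : act 5 n797 = n1452 := rfl
theorem F2570 : act 0 n1246 = n1452 := d21_1 D1246 (iv5 D1452) (iv6 D797) (iv1 D454) (iv6 D246) (iv5 D65) D62 D235 D428 D736
def n1453 : Q := act 7 n797
theorem D1453 : act 7 n797 = n1453 := rfl
def n1454 : Q := act 2 n798
theorem D1454 : act 2 n798 = n1454 := rfl
theorem F2571 : act 7 n799 = n1454 := d15_2 (iv0 D798) D799 (iv2 D1454)
def n1455 : Q := act 3 n798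
theorem D1455 : act 3 n798 = n1455 := rfl
def n1456 : Q := act 4 n798
theorem D1456 : act 4 n798 = n1456 := rfl
def n1457 : Q := act 5 n798
theorem D1457 : act 5 n798 = n1457 := rfl
def n1458 : Q := act 6 n798
theorem D1458 : act 6 n798 = n1458 := rfl
def n1459 : Q := act 7 n798
theorem D1459 : act 7 n798 = n1459 := rfl
theorem F2572 : act 2 n1459 = n799 := d4_1 D1459 F2571 (iv2 D1454)
def n1460 : Q := act 3 n799
theorem D1460 : act 3 n799 = n1460 := rfl
def n1461 : Q := act 4 n799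
theorem D1461 : act 4 n799 = n1461 := rfl
def n1462 : Q := act 5 n799
theorem D1462 : act 5 n799 = n1462 := rfl
theorem F2573 : act 6 n1187 = n1462 := d21_5 (iv5 F503) (iv1 F392) D407 D712 D1187 (iv5 D1462) (iv1 D799) (iv5 D455) (iv6 D246) D243
def n1463 : Q := act 6 n799
theorem D1463 : act 6 n799 = n1463 := rfl
def n1464 : Q := act 0 n800
theorem D1464 : act 0 n800 = n1464 := rfl
def n1465 : Q := act 1 n800
theorem D1465 : act 1 n800 = n1465 := rfl
def n1466 : Q := act 3 n800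
theorem D1466 : act 3 n800 = n1466 := rfl
theorem F2574 : act 6 n1466 = n817 := d7_2 (iv6 F1511) D1466 (iv3 D817)
def n1467 : Q := act 5 n800
theorem D1467 : act 5 n800 = n1467 := rfl
def n1468 : Q := act 7 n800
theorem D1468 : act 7 n800 = n1468 := rfl
theorem F2575 : act 4 n1468 = n801 := d11_1 D1468 (iv7 D801) D800
def n1469 : Q := act 6 n801
theorem D1469 : act 6 n801 = n1469 := rfl
theorem F2576 : act 5 n1469 = n1469 := d12_1 D1469 (iv6 D1469) F1512 F765 (iv5 F1512)
theorem F2577 : act 7 n1469 = n820 := d14_2 D801 D1469 (iv6 D820) (iv7 D470) (iv6 F764)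
def n1470 : Q := act 3 n802
theorem D1470 : act 3 n802 = n1470 := rfl
theorem F2578 : act 5 n1470 = n1186 := d6_2 (iv5 F1513) D1470 F2178
theorem F2579 : act 7 n1470 = n1185 := d8_2 (iv7 F1515) D1470 F2175
def n1471 : Q := act 4 n802
theorem D1471 : act 4 n802 = n1471 := rfl
theorem F2580 : act 7 n1471 = n1192 := d11_2 (iv7 F1515) D1471 (iv4 D1192)
theorem F2581 : act 0 n1471 = n869 := d18_2 D802 D1471 (iv4 D869) (iv5 D545) (iv4 D277) F372 (iv4 F681) F685 D460
theorem F2582 : act 1 n1471 = n856 := d18_6 F1111 (iv4 D497) (iv1 F703) (iv4 F1362) (iv5 F1513) D1471 (iv4 D856) (iv0 F1573) (iv5 D832)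
theorem F2583 : act 0 n1470 = n868 := d20_4 D856 (iv1 F2582) (iv4 D1471) D1470 F1632 D869 F1633 (iv4 D839) (iv3 F1572) F1573
def n1472 : Q := act 6 n802
theorem D1472 : act 6 n802 = n1472 := rfl
theorem F2584 : act 5 n1472 = n1472 := d12_1 D1472 (iv6 D1472) F1513 F1363 (iv5 F1513)
def n1473 : Q := act 0 n803
theorem D1473 : act 0 n803 = n1473 := rfl
theorem F2585 : act 4 n1473 = n1195 := d18_3 F1108 D803 D1473 F2201 F1551 (iv0 F925) (iv4 F926) (iv0 D492) D493
theorem F2586 : act 1 n809 = n1473 := d15_0 (iv0 D1473) (iv7 F2131) F2130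
def n1474 : Q := act 1 n803
theorem D1474 : act 1 n803 = n1474 := rfl
theorem F2587 : act 1 n1474 = n809 := d15_1 D1474 (iv7 F2127) F2126
theorem F2588 : act 4 n1474 = n1196 := d18_7 F994 F616 F993 (iv4 F981) D460 D803 D1474 F2206 (iv5 D722)
def n1475 : Q := act 3 n803
theorem D1475 : act 3 n803 = n1475 := rfl
theorem F2589 : act 4 n1475 = n1475 := d5_2 D803 D1475 (iv3 D1475) (iv4 D803) F1115
def n1476 : Q := act 5 n803
theorem D1476 : act 5 n803 = n1476 := rfl
theorem F2590 : act 4 n1476 = n895 := d16_2 D803 D1476 F1661 (iv4 F1620) (iv5 D808) (iv4 D464) D465 (iv7 F1322) F1321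
def n1477 : Q := act 6 n803
theorem D1477 : act 6 n803 = n1477 := rfl
theorem F2591 : act 4 n1477 = n804 := d10_1 D1477 (iv6 D804) D803
def n1478 : Q := act 0 n804
theorem D1478 : act 0 n804 = n1478 := rfl
def n1479 : Q := act 1 n804
theorem D1479 : act 1 n804 = n1479 := rfl
def n1480 : Q := act 7 n804
theorem D1480 : act 7 n804 = n1480 := rfl
theorem F2592 : act 3 n1480 = n1480 := d8_1 D1480 (iv7 D1480) F1516
def n1481 : Q := act 5 n806
theorem D1481 : act 5 n806 = n1481 := rfl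
theorem F2593 : act 2 n1481 = n1481 := d2_1 D1481 (iv5 D1481) F2410
theorem F2594 : act 7 n1481 = n1256 := d13_2 (iv7 F2412) D1481 (iv5 D1256)
theorem F2595 : act 1 n812 = n1481 := d15_1 F2342 F2594 F2338
theorem F2596 : act 1 n1481 = n1172 := d15_0 (iv0 F2340) (iv7 F2594) F2593
def n1482 : Q := act 0 n807
theorem D1482 : act 0 n807 = n1482 := rfl
theorem F2597 : act 1 n1167 = n1482 := d15_0 (iv0 D1482) (iv7 F2125) F2123
def n1483 : Q := act 1 n807
theorem D1483 : act 1 n807 = n1483 := rfl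
theorem F2598 : act 1 n1483 = n1167 := d15_1 D1483 F2125 F1521
def n1484 : Q := act 4 n807
theorem D1484 : act 4 n807 = n1484 := rfl
theorem F2599 : act 2 n1484 = n1484 := d1_1 D1484 (iv4 D1484) F1521
def n1485 : Q := act 6 n807
theorem D1485 : act 6 n807 = n1485 := rfl
theorem F2600 : act 2 n1485 = n1485 := d3_1 D1485 (iv6 D1485) F1521
theorem F2601 : act 3 n1485 = n810 := d7_1 D1485 (iv6 D810) (iv3 F1522)
def n1486 : Q := act 6 n808
theorem D1486 : act 6 n808 = n1486 := rfl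
theorem F2602 : act 2 n1486 = n909 := d3_1 D1486 (iv6 D909) (iv2 F1523)
theorem F2603 : act 3 n1486 = n1486 := d7_1 D1486 (iv6 D1486) F1524
theorem F2604 : act 5 n1486 = n907 := d12_1 D1486 (iv6 D907) (iv5 D583) (iv6 F1016) D808
theorem F2605 : act 0 n914 = n1486 := d21_4 (iv5 D601) F992 (iv5 F921) D914 (iv6 D1486) (iv5 D808) F971 D572 (iv6 F1666) F1667
def n1487 : Q := act 3 n809
theorem D1487 : act 3 n809 = n1487 := rfl
def n1488 : Q := act 5 n809
theorem D1488 : act 5 n809 = n1488 := rfl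
theorem F2606 : act 4 n1488 = n894 := d9_1 D1488 F1660 F1592 (iv5 D601) (iv4 F981) D460 D803 D1476 F2590 F1661 (iv4 F1620) (iv5 D808) (iv4 D464) D465 D809
def n1489 : Q := act 6 n809
theorem D1489 : act 6 n809 = n1489 := rfl
theorem F2607 : act 4 n1489 = n810 := d10_1 D1489 (iv6 D810) D809
def n1490 : Q := act 0 n810
theorem D1490 : act 0 n810 = n1490 := rfl
theorem F2608 : act 6 n1490 = n1330 := d21_5 F1337 (iv1 F684) D465 D810 D1490 (iv5 D1330) (iv1 D764) D765 F1475 (iv1 F1339)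
def n1491 : Q := act 1 n810
theorem D1491 : act 1 n810 = n1491 := rfl
def n1492 : Q := act 7 n810
theorem D1492 : act 7 n810 = n1492 := rfl
def n1493 : Q := act 3 n811
theorem D1493 : act 3 n811 = n1493 := rfl
theorem F2609 : act 4 n1493 = n1493 := d5_2 D811 D1493 (iv3 D1493) (iv4 D811) F798
def n1494 : Q := act 5 n811
theorem D1494 : act 5 n811 = n1494 := rfl
theorem F2610 : act 4 n1494 = n887 := d16_2 D811 D1494 (iv5 D887) D886 F1650 (iv4 F1355) F1352 F1328 (iv2 F1327)
def n1495 : Q := act 4 n812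
theorem D1495 : act 4 n812 = n1495 := rfl
theorem F2611 : act 2 n1495 = n1495 := d1_1 D1495 (iv4 D1495) F1526
def n1496 : Q := act 6 n812
theorem D1496 : act 6 n812 = n1496 := rfl
theorem F2612 : act 2 n1496 = n1496 := d3_1 D1496 (iv6 D1496) F1526
theorem F2613 : act 3 n1496 = n814 := d7_1 D1496 (iv6 D814) D812
theorem F2614 : act 5 n1496 = n1496 := d12_1 D1496 (iv6 D1496) (iv5 F2192) F2193 F2192
def n1497 : Q := act 3 n813
theorem D1497 : act 3 n813 = n1497 := rfl
def n1498 : Q := act 5 n813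
theorem D1498 : act 5 n813 = n1498 := rfl
theorem F2615 : act 4 n1498 = n884 := d9_1 D1498 (iv5 D884) F1068 F966 F906 (iv5 F797) D811 D1494 F2610 (iv5 D887) D886 F1650 (iv4 F1355) F1352 D813
def n1499 : Q := act 6 n813
theorem D1499 : act 6 n813 = n1499 := rfl
theorem F2616 : act 4 n1499 = n814 := d10_1 D1499 (iv6 D814) D813
def n1500 : Q := act 0 n814
theorem D1500 : act 0 n814 = n1500 := rfl
def n1501 : Q := act 1 n814
theorem D1501 : act 1 n814 = n1501 := rfl
def n1502 : Q := act 7 n814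
theorem D1502 : act 7 n814 = n1502 := rfl
theorem F2617 : act 5 n1502 = n1502 := d13_1 D1502 (iv7 D1502) F1527
theorem F2618 : act 6 n1502 = n1357 := d14_1 D1502 (iv7 D1357) F1488 (iv7 F1328) D814
def n1503 : Q := act 3 n815
theorem D1503 : act 3 n815 = n1503 := rfl
def n1504 : Q := act 5 n815
theorem D1504 : act 5 n815 = n1504 := rfl
theorem F2619 : act 4 n1504 = n879 := d16_2 (iv4 F1528) D1504 (iv5 D879) (iv4 D560) (iv5 F1057) D716 (iv5 F1535) (iv7 F1561) F1560
def n1505 : Q := act 6 n815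
theorem D1505 : act 6 n815 = n1505 := rfl
theorem F2620 : act 4 n1505 = n1280 := d10_1 D1505 F2374 (iv4 F1528)
def n1506 : Q := act 3 n816
theorem D1506 : act 3 n816 = n1506 := rfl
def n1507 : Q := act 5 n816
theorem D1507 : act 5 n816 = n1507 := rfl
theorem F2621 : act 4 n1507 = n877 := d9_1 D1507 (iv5 D877) (iv4 D555) (iv5 F1065) (iv4 F775) (iv5 F1468) (iv4 F1528) D1504 F2619 (iv5 D879) (iv4 D560) (iv5 F1057) D716 (iv5 F1535) F1610
def n1508 : Q := act 6 n816
theorem D1508 : act 6 n816 = n1508 := rfl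
theorem F2622 : act 4 n1508 = n1310 := d10_1 D1508 (iv6 D1310) F1610
def n1509 : Q := act 0 n817
theorem D1509 : act 0 n817 = n1509 := rfl
def n1510 : Q := act 1 n817
theorem D1510 : act 1 n817 = n1510 := rfl
def n1511 : Q := act 2 n817
theorem D1511 : act 2 n817 = n1511 := rfl
def n1512 : Q := act 5 n817
theorem D1512 : act 5 n817 = n1512 := rfl
theorem F2623 : act 3 n1512 = n818 := d6_1 D1512 (iv5 D818) D817
def n1513 : Q := act 7 n817
theorem D1513 : act 7 n817 = n1513 := rfl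
theorem F2624 : act 3 n1513 = n819 := d8_1 D1513 (iv7 D819) D817
def n1514 : Q := act 0 n818
theorem D1514 : act 0 n818 = n1514 := rfl
theorem F2625 : act 5 n1514 = n856 := d17_3 (iv1 D816) D818 D1514 (iv4 D856) (iv5 D525) F1000 D439 D758 F1610
theorem F2626 : act 4 n1514 = n872 := d18_3 (iv1 F2315) F2312 D1514 (iv5 D872) (iv4 D547) F843 D858 F1621 (iv5 F1660)
theorem F2627 : act 1 n896 = n1514 := d15_0 (iv0 D1514) F2309 F2307
def n1515 : Q := act 1 n818
theorem D1515 : act 1 n818 = n1515 := rfl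
theorem F2628 : act 1 n1515 = n896 := d15_1 D1515 F2157 F2155
theorem F2629 : act 5 n1515 = n869 := d17_7 (iv1 F1514) (iv5 D465) (iv1 D248) D249 D469 D818 D1515 (iv0 F2581) (iv4 D1471)
theorem F2630 : act 4 n1515 = n863 := d18_7 F1110 (iv4 D555) (iv1 F713) (iv4 F1410) (iv5 F2313) F2312 D1515 (iv0 F1709) (iv5 D912)
def n1516 : Q := act 6 n818
theorem D1516 : act 6 n818 = n1516 := rfl
def n1517 : Q := act 6 n819
theorem D1517 : act 6 n819 = n1517 := rfl
theorem F2631 : act 4 n1517 = n820 := d10_1 D1517 (iv6 D820) (iv4 F1529)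
def n1518 : Q := act 0 n820
theorem D1518 : act 0 n820 = n1518 := rfl
def n1519 : Q := act 1 n820
theorem D1519 : act 1 n820 = n1519 := rfl
def n1520 : Q := act 6 n822
theorem D1520 : act 6 n822 = n1520 := rfl
theorem F2632 : act 0 n825 = n1520 := d21_4 D662 F1448 F1446 D825 (iv6 D1520) F1536 (iv1 F1243) (iv5 D664) F1048 (iv1 F621)
def n1521 : Q := act 6 n823
theorem D1521 : act 6 n823 = n1521 := rfl
theorem F2633 : act 2 n1521 = n1520 := d3_1 D1521 (iv6 D1520) F1542
theorem F2634 : act 3 n1521 = n1521 := d7_1 D1521 (iv6 D1521) F1539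
theorem F2635 : act 4 n1521 = n1520 := d10_1 D1521 (iv6 D1520) F1538
theorem F2636 : act 0 n1521 = n841 := d20_1 (iv4 F2635) (iv4 F2172) F2171 (iv1 F1549) (iv3 F1552) F813 F1053 (iv4 F775) (iv3 F1548) F2632
def n1522 : Q := act 6 n824
theorem D1522 : act 6 n824 = n1522 := rfl
theorem F2637 : act 2 n1522 = n825 := d3_1 D1522 (iv6 D825) D824
theorem F2638 : act 3 n1522 = n1182 := d7_1 D1522 (iv6 D1182) (iv3 F1543)
theorem F2639 : act 4 n1522 = n1182 := d10_1 D1522 (iv6 D1182) (iv4 F1544)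
theorem F2640 : act 0 n1522 = n1521 := d21_4 D660 D1042 F1941 D1522 (iv6 D1521) F1541 (iv1 D666) (iv5 D351) F1047 D348
def n1523 : Q := act 1 n825
theorem D1523 : act 1 n825 = n1523 := rfl
theorem F2641 : act 7 n1523 = n1521 := d15_2 (iv0 F2632) D1523 F2633
theorem F2642 : act 3 n1523 = n1523 := d8_3 F2641 F2634 (iv7 F2641)
theorem F2643 : act 6 n1523 = n1523 := d14_5 F2641 (iv6 D1521) F1540 D1521 (iv7 F2641)
def n1524 : Q := act 3 n828
theorem D1524 : act 3 n828 = n1524 := rfl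
theorem F2644 : act 2 n1524 = n1186 := d0_1 D1524 F2178 F1361 F1552 F1558
theorem F2645 : act 4 n1524 = n1524 := d5_2 F1671 D1524 (iv3 D1524) (iv4 F1671) F1670
theorem F2646 : act 6 n1524 = n1524 := d7_2 F1559 D1524 (iv3 D1524)
theorem F2647 : act 7 n1524 = n1183 := d8_2 (iv7 F1557) D1524 F2168
theorem F2648 : act 0 n1524 = n1182 := d20_4 F1355 (iv1 F1674) F1671 D1524 (iv3 F2638) F2639 F2166 F1350 F1349 D713
theorem F2649 : act 0 n1184 = n1524 := d20_1 (iv4 F2172) F2645 (iv3 D1524) (iv1 D828) (iv3 F1554) F1555 F2632 (iv4 F2635) F2634 F2636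
def n1525 : Q := act 6 n830
theorem D1525 : act 6 n830 = n1525 := rfl
theorem F2650 : act 2 n1525 = n1525 := d3_1 D1525 (iv6 D1525) F1567
theorem F2651 : act 3 n1525 = n1520 := d7_1 D1525 (iv6 D1520) (iv3 F1564)
theorem F2652 : act 4 n1525 = n1525 := d10_1 D1525 (iv6 D1525) F1565
theorem F2653 : act 0 n1525 = n1191 := d21_4 D430 D741 (iv5 F1563) D1525 F2193 F2192 (iv1 F2342) (iv5 D1256) (iv6 D740) F719
theorem F2654 : act 5 n1525 = n1482 := d21_6 D1256 F2340 F2136 (iv6 D831) D830 D1525 (iv1 F2597) (iv5 D1167) F1319 F2418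
theorem F2655 : act 0 n831 = n1525 := d21_4 D739 (iv1 F1454) (iv5 F804) D831 (iv6 D1525) F1563 (iv1 F1430) (iv5 D430) F550 D429
theorem F2656 : act 2 n1482 = n1482 := d2_1 F2654 (iv5 F2654) F2650
theorem F2657 : act 7 n1483 = n1482 := d15_2 (iv0 D1482) D1483 F2656
theorem F2658 : act 2 n1483 = n1483 := d4_3 F2657 F2656 (iv7 F2657)
def n1526 : Q := act 1 n831
theorem D1526 : act 1 n831 = n1526 := rfl
theorem F2659 : act 1 n1526 = n1191 := d15_1 D1526 F2194 F1569
theorem F2660 : act 7 n1526 = n1525 := d15_2 (iv0 F2655) D1526 F2650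
theorem F2661 : act 4 n1526 = n1526 := d17_9 (iv1 D1526) (iv5 F2136) (iv1 F2596) (iv5 D1481) F1520 D1481 F2596 F2136 D1526
theorem F2662 : act 2 n1526 = n1526 := d4_3 F2660 F2650 (iv7 F2660)
theorem F2663 : act 5 n1483 = n1526 := d13_3 F2660 F2654 (iv7 F2657)
theorem F2664 : act 6 n1526 = n1526 := d14_5 F2660 (iv6 D1525) F1568 D1525 (iv7 F2660)
def n1527 : Q := act 4 n832
theorem D1527 : act 4 n832 = n1527 := rfl
theorem F2665 : act 2 n1527 = n1474 := d1_1 D1527 F2588 (iv2 F2209)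
theorem F2666 : act 7 n1527 = n1473 := d11_2 (iv7 F2205) D1527 F2585
theorem F2667 : act 0 n1527 = n1168 := d18_2 (iv1 F1574) D1527 (iv4 D1168) (iv5 D703) (iv4 F988) (iv0 D297) (iv4 F384) F999 D545
theorem F2668 : act 1 n1527 = n1170 := d18_6 (iv1 F815) (iv4 F906) F907 (iv4 F807) D832 D1527 (iv4 D1170) F1583 F1582
def n1528 : Q := act 0 n833
theorem D1528 : act 0 n833 = n1528 := rfl
def n1529 : Q := act 1 n833
theorem D1529 : act 1 n833 = n1529 := rfl
def n1530 : Q := act 2 n833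
theorem D1530 : act 2 n833 = n1530 := rfl
theorem F2669 : act 3 n1530 = n1383 := d0_2 D833 D1530 F2518 F1503 (iv2 F808)
theorem F2670 : act 5 n1530 = n1147 := d2_2 (iv5 F1575) D1530 (iv2 D1147)
theorem F2671 : act 7 n1530 = n1530 := d4_2 F1576 D1530 (iv2 D1530)
theorem F2672 : act 1 n1530 = n1528 := d15_0 (iv0 D1528) F1576 D1530
theorem F2673 : act 1 n1529 = n1530 := d15_1 D1529 F2671 (iv2 D1530)
def n1531 : Q := act 6 n833
theorem D1531 : act 6 n833 = n1531 := rfl
theorem F2674 : act 3 n1531 = n834 := d7_1 D1531 (iv6 D834) D833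
def n1532 : Q := act 0 n834
theorem D1532 : act 0 n834 = n1532 := rfl
def n1533 : Q := act 1 n834
theorem D1533 : act 1 n834 = n1533 := rfl
theorem F2675 : act 1 n1533 = n1396 := d15_1 D1533 (iv7 D1396) (iv2 F1577)
def n1534 : Q := act 5 n834
theorem D1534 : act 5 n834 = n1534 := rfl
theorem F2676 : act 2 n1534 = n1395 := d2_1 D1534 (iv5 D1395) (iv2 F1577)
theorem F2677 : act 6 n1534 = n1151 := d12_2 D834 D1534 (iv5 D1151) (iv6 D697) (iv5 F809)
def n1535 : Q := act 7 n834
theorem D1535 : act 7 n834 = n1535 := rfl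
theorem F2678 : act 2 n1535 = n1396 := d4_1 D1535 (iv7 D1396) (iv2 F1577)
theorem F2679 : act 4 n1535 = n838 := d11_1 D1535 (iv7 D838) (iv4 F1578)
theorem F2680 : act 6 n1535 = n1535 := d14_1 D1535 (iv7 D1535) (iv6 D834) F810 D834
theorem F2681 : act 1 n1396 = n1532 := d15_0 (iv0 D1532) D1535 F2678
theorem F2682 : act 1 n1394 = n1535 := d15_1 D1394 (iv7 D1535) F1577
theorem F2683 : act 1 n1535 = n1393 := d15_0 (iv0 D1393) D1396 (iv2 F2678)
def n1536 : Q := act 2 n835
theorem D1536 : act 2 n835 = n1536 := rfl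
theorem F2684 : act 7 n836 = n1536 := d15_2 (iv0 D835) D836 (iv2 D1536)
def n1537 : Q := act 3 n835
theorem D1537 : act 3 n835 = n1537 := rfl
def n1538 : Q := act 4 n835
theorem D1538 : act 4 n835 = n1538 := rfl
def n1539 : Q := act 5 n835
theorem D1539 : act 5 n835 = n1539 := rfl
def n1540 : Q := act 6 n835
theorem D1540 : act 6 n835 = n1540 := rfl
theorem F2685 : act 5 n1540 = n1164 := d21_6 (iv5 F507) (iv1 D262) D264 D491 D835 D1540 (iv1 D1164) (iv5 D700) (iv6 D401) (iv1 F386)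
def n1541 : Q := act 7 n835
theorem D1541 : act 7 n835 = n1541 := rfl
theorem F2686 : act 2 n1541 = n836 := d4_1 D1541 F2684 (iv2 D1536)
def n1542 : Q := act 3 n836
theorem D1542 : act 3 n836 = n1542 := rfl
def n1543 : Q := act 4 n836
theorem D1543 : act 4 n836 = n1543 := rfl
def n1544 : Q := act 5 n836
theorem D1544 : act 5 n836 = n1544 := rfl
def n1545 : Q := act 6 n836
theorem D1545 : act 6 n836 = n1545 := rfl
def n1546 : Q := act 0 n837
theorem D1546 : act 0 n837 = n1546 := rfl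
theorem F2687 : act 6 n1546 = n1161 := d21_5 F1326 F805 D493 (iv6 F1579) D1546 (iv5 D1161) (iv1 D699) D700 F1311 D705
def n1547 : Q := act 1 n837
theorem D1547 : act 1 n837 = n1547 := rfl
theorem F2688 : act 5 n1157 = n1547 := d21_6 (iv5 D235) (iv1 F264) D226 D401 D698 D1157 (iv1 D1547) (iv5 D837) (iv6 D491) (iv1 F441)
def n1548 : Q := act 4 n837
theorem D1548 : act 4 n837 = n1548 := rfl
theorem F2689 : act 6 n1548 = n839 := d10_2 (iv6 F1579) D1548 (iv4 D839)
def n1549 : Q := act 7 n837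
theorem D1549 : act 7 n837 = n1549 := rfl
theorem F2690 : act 5 n1549 = n838 := d13_1 D1549 (iv7 D838) D837
theorem F2691 : act 1 n1437 = n1549 := d15_1 (iv0 F2564) (iv7 D1549) (iv2 F2183)
def n1550 : Q := act 3 n839
theorem D1550 : act 3 n839 = n1550 := rfl
def n1551 : Q := act 5 n839
theorem D1551 : act 5 n839 = n1551 := rfl
def n1552 : Q := act 7 n839
theorem D1552 : act 7 n839 = n1552 := rfl
theorem F2692 : act 2 n1552 = n1471 := d4_1 D1552 F2580 F2195
theorem F2693 : act 4 n1552 = n840 := d11_1 D1552 (iv7 D840) D839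
theorem F2694 : act 1 n1210 = n1552 := d15_1 (iv0 F2255) (iv7 D1552) (iv2 F2195)
theorem F2695 : act 1 n1552 = n1197 := d15_1 F2694 F2212 (iv2 F2253)
def n1553 : Q := act 6 n840
theorem D1553 : act 6 n840 = n1553 := rfl
theorem F2696 : act 2 n1553 = n1472 := d3_1 D1553 (iv6 D1472) (iv2 F1581)
theorem F2697 : act 5 n1553 = n1553 := d12_1 D1553 (iv6 D1553) F1582 F814 (iv5 F1582)
def n1554 : Q := act 0 n841
theorem D1554 : act 0 n841 = n1554 := rfl
theorem F2698 : act 4 n1554 = n1523 := d20_2 F2172 D1554 F2642 (iv1 D1523) F1548 F775 (iv1 F1052) (iv4 F693) (iv3 F1349) D1184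
theorem F2699 : act 3 n1554 = n1526 := d20_5 F414 D266 D497 D841 D1554 F2661 (iv1 D1526) F1571 F1570 F805
theorem F2700 : act 2 n1523 = n1554 := d15_3 (iv0 D1554) (iv0 F2636) (iv7 F2641)
theorem F2701 : act 1 n1522 = n1554 := d15_0 (iv0 D1554) F1586 (iv2 F2637)
theorem F2702 : act 7 n1554 = n1520 := d15_2 (iv0 F2640) F2701 (iv2 F2633)
theorem F2703 : act 6 n1554 = n1554 := d14_5 F2702 (iv6 D1520) F1537 D1520 (iv7 F2702)
def n1555 : Q := act 2 n841
theorem D1555 : act 2 n841 = n1555 := rfl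
theorem F2704 : act 6 n1555 = n1555 := d3_2 F1585 D1555 (iv2 D1555)
theorem F2705 : act 7 n1555 = n1522 := d4_2 (iv7 F1586) D1555 F2637
theorem F2706 : act 1 n1555 = n1520 := d15_0 (iv0 F2632) (iv7 F1586) D1555
theorem F2707 : act 1 n1523 = n1555 := d15_0 F2706 (iv7 F2702) (iv2 F2700)
def n1556 : Q := act 5 n841
theorem D1556 : act 5 n841 = n1556 := rfl
theorem F2708 : act 3 n1556 = n842 := d6_1 D1556 (iv5 D842) D841
theorem F2709 : act 7 n1556 = n1308 := d13_2 (iv7 F1586) D1556 F2398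
theorem F2710 : act 0 n1556 = n1046 := d21_1 D1556 (iv5 D1046) (iv6 D661) (iv1 F620) F1048 D664 (iv1 F1244) (iv5 F1541) D1521 F2636
def n1557 : Q := act 6 n842
theorem D1557 : act 6 n842 = n1557 := rfl
theorem F2711 : act 2 n1557 = n1310 := d3_1 D1557 (iv6 D1310) (iv2 F1587)
theorem F2712 : act 5 n1557 = n1557 := d12_1 D1557 (iv6 D1557) (iv5 D842) F1113 D842
def n1558 : Q := act 3 n843
theorem D1558 : act 3 n843 = n1558 := rfl
theorem F2713 : act 4 n1558 = n919 := d5_2 (iv4 F1592) D1558 (iv3 D919) (iv4 D602) (iv3 F945)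
def n1559 : Q := act 6 n843
theorem D1559 : act 6 n843 = n1559 := rfl
theorem F2714 : act 4 n1559 = n918 := d10_1 D1559 (iv6 D918) (iv4 F1592)
def n1560 : Q := act 3 n844
theorem D1560 : act 3 n844 = n1560 := rfl
theorem F2715 : act 4 n1560 = n1560 := d5_2 F1620 D1560 (iv3 D1560) (iv4 F1620) F1524
def n1561 : Q := act 6 n844
theorem D1561 : act 6 n844 = n1561 := rfl
theorem F2716 : act 4 n1561 = n1486 := d10_1 D1561 (iv6 D1486) F1620
theorem F2717 : act 0 n1235 = n1561 := d21_4 (iv5 F1660) (iv1 F2315) F2313 D1235 (iv6 D1561) (iv5 F1661) (iv1 D895) (iv5 D566) (iv6 F820) D843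
def n1562 : Q := act 0 n845
theorem D1562 : act 0 n845 = n1562 := rfl
def n1563 : Q := act 1 n845
theorem D1563 : act 1 n845 = n1563 := rfl
def n1564 : Q := act 2 n845
theorem D1564 : act 2 n845 = n1564 := rfl
theorem F2718 : act 4 n1564 = n937 := d1_2 (iv4 F1593) D1564 (iv2 D937)
theorem F2719 : act 6 n1564 = n891 := d3_2 (iv6 F1594) D1564 (iv2 D891)
def n1565 : Q := act 5 n845
theorem D1565 : act 5 n845 = n1565 := rfl
theorem F2720 : act 3 n1565 = n846 := d6_1 D1565 (iv5 D846) D845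
def n1566 : Q := act 7 n845
theorem D1566 : act 7 n845 = n1566 := rfl
theorem F2721 : act 3 n1566 = n847 := d8_1 D1566 (iv7 D847) D845
theorem F2722 : act 4 n1566 = n939 := d11_1 D1566 (iv7 D939) (iv4 F1593)
def n1567 : Q := act 4 n846
theorem D1567 : act 4 n846 = n1567 := rfl
theorem F2723 : act 5 n1567 = n1471 := d16_3 D507 D846 D1567 (iv4 D1471) F1513 F1362 (iv5 F1032) F1033 F695
def n1568 : Q := act 6 n846
theorem D1568 : act 6 n846 = n1568 := rfl
theorem F2724 : act 5 n1568 = n897 := d12_1 D1568 (iv6 D897) (iv5 D566) (iv6 F820) D846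
def n1569 : Q := act 7 n846
theorem D1569 : act 7 n846 = n1569 := rfl
theorem F2725 : act 5 n1569 = n847 := d13_1 D1569 (iv7 D847) D846
theorem F2726 : act 1 n884 = n1569 := d15_1 F2200 (iv7 D1569) (iv2 F2198)
theorem F2727 : act 1 n1569 = n887 := d15_1 F2726 (iv7 F2286) F2285
def n1570 : Q := act 6 n847
theorem D1570 : act 6 n847 = n1570 := rfl
theorem F2728 : act 4 n1570 = n848 := d10_1 D1570 (iv6 D848) (iv4 F1595)
theorem F2729 : act 7 n1570 = n899 := d14_2 D847 D1570 (iv6 D899) (iv7 D567) (iv6 F820)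
theorem F2730 : act 0 n1561 = n1570 := d21_4 (iv5 F2313) (iv1 F2314) F1661 D1561 (iv6 D1570) (iv5 F2725) (iv1 F2726) (iv5 D884) F1069 (iv1 F1412)
def n1571 : Q := act 5 n849
theorem D1571 : act 5 n849 = n1571 := rfl
theorem F2731 : act 2 n1571 = n1144 := d2_1 D1571 F2094 (iv2 F1600)
theorem F2732 : act 3 n1571 = n850 := d6_1 D1571 (iv5 D850) D849
theorem F2733 : act 7 n1571 = n1034 := d13_2 (iv7 F1603) D1571 (iv5 D1034)
theorem F2734 : act 0 n1141 = n1571 := d21_7 D1140 F2177 (iv5 D1185) (iv6 D711) F780 D827 (iv5 F2091) (iv5 D1571) F1602 (iv1 F1605)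
theorem F2735 : act 1 n1142 = n1571 := d15_1 D1142 F2733 F1925
theorem F2736 : act 2 n1309 = n1142 := d15_3 F2735 (iv0 F2734) (iv7 F2421)
def n1572 : Q := act 4 n850
theorem D1572 : act 4 n850 = n1572 := rfl
theorem F2737 : act 2 n1572 = n1313 := d1_1 D1572 F2426 (iv2 F1607)
theorem F2738 : act 7 n1572 = n1041 := d11_2 (iv7 F1608) D1572 (iv4 D1041)
theorem F2739 : act 0 n1572 = n1174 := d18_2 F1611 D1572 (iv4 D1174) F1331 F926 F934 (iv4 F1532) (iv0 F1533) (iv5 F1468)
theorem F2740 : act 1 n1572 = n1173 := d18_6 D402 (iv4 F988) (iv1 F869) (iv4 F1003) D850 D1572 (iv4 D1173) (iv0 D705) (iv5 D404)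
def n1573 : Q := act 6 n850
theorem D1573 : act 6 n850 = n1573 := rfl
theorem F2741 : act 2 n1573 = n1314 := d3_1 D1573 (iv6 D1314) (iv2 F1607)
theorem F2742 : act 5 n1573 = n1573 := d12_1 D1573 (iv6 D1573) (iv5 D850) F1004 D850
def n1574 : Q := act 5 n851
theorem D1574 : act 5 n851 = n1574 := rfl
theorem F2743 : act 3 n1574 = n1481 := d6_1 D1574 (iv5 D1481) (iv3 F1612)
theorem F2744 : act 7 n1574 = n1046 := d13_2 (iv7 F2408) D1574 (iv5 D1046)
def n1575 : Q := act 5 n853
theorem D1575 : act 5 n853 = n1575 := rfl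
theorem F2745 : act 2 n1575 = n854 := d2_1 D1575 (iv5 D854) D853
def n1576 : Q := act 0 n854
theorem D1576 : act 0 n854 = n1576 := rfl
theorem F2746 : act 5 n1576 = n1554 := d21_2 D854 D1576 F2703 (iv1 F2701) (iv6 D1522) (iv5 F1941) (iv1 F1943) (iv5 D662) D663 (iv1 F2409)
theorem F2747 : act 3 n1483 = n1576 := d6_3 F2746 F2699 (iv5 F2663)
def n1577 : Q := act 1 n854
theorem D1577 : act 1 n854 = n1577 := rfl
theorem F2748 : act 5 n1577 = n1521 := d17_7 F2166 D1185 F2176 (iv5 D1138) F1298 D854 D1577 (iv0 F2640) F2639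
theorem F2749 : act 3 n1577 = n1577 := d6_3 F2748 F2634 (iv5 F2748)
def n1578 : Q := act 4 n854
theorem D1578 : act 4 n854 = n1578 := rfl
def n1579 : Q := act 6 n854
theorem D1579 : act 6 n854 = n1579 := rfl
theorem F2750 : act 3 n1579 = n857 := d7_1 D1579 (iv6 D857) (iv3 F1613)
def n1580 : Q := act 3 n855
theorem D1580 : act 3 n855 = n1580 := rfl
theorem F2751 : act 2 n1580 = n1470 := d0_1 D1580 (iv3 D1470) (iv2 F1581) F2204 (iv2 F2203)
theorem F2752 : act 5 n1580 = n1524 := d6_2 (iv5 F1614) D1580 (iv3 D1524)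
theorem F2753 : act 0 n1138 = n1580 := d21_1 D1138 F2752 F2646 F2648 (iv6 D1182) F1347 (iv1 D689) (iv5 D398) D399 D692
theorem F2754 : act 0 n1580 = n1140 := d21_1 (iv5 F2752) (iv5 D1140) (iv6 F1924) (iv1 F1920) F1304 (iv5 F2094) F2423 F2420 F2173 F2649
def n1581 : Q := act 4 n855
theorem D1581 : act 4 n855 = n1581 := rfl
theorem F2755 : act 2 n1581 = n1473 := d1_1 D1581 F2585 (iv2 F2203)
theorem F2756 : act 7 n1581 = n1474 := d11_2 F2207 D1581 F2588
theorem F2757 : act 0 n1581 = n1170 := d18_2 D855 D1581 (iv4 D1170) (iv5 D704) F1105 F868 (iv4 F1003) (iv0 D522) D525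
theorem F2758 : act 1 n1581 = n1168 := d18_6 D713 F1355 (iv1 F1674) F1671 (iv5 F1614) D1581 (iv4 D1168) (iv0 F1359) (iv5 D714)
def n1582 : Q := act 6 n855
theorem D1582 : act 6 n855 = n1582 := rfl
theorem F2759 : act 5 n1582 = n1582 := d12_1 D1582 (iv6 D1582) F1614 F1559 (iv5 F1614)
def n1583 : Q := act 3 n856
theorem D1583 : act 3 n856 = n1583 := rfl
def n1584 : Q := act 6 n856
theorem D1584 : act 6 n856 = n1584 := rfl
theorem F2760 : act 4 n1584 = n857 := d10_1 D1584 (iv6 D857) D856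
def n1585 : Q := act 0 n857
theorem D1585 : act 0 n857 = n1585 := rfl
def n1586 : Q := act 1 n857
theorem D1586 : act 1 n857 = n1586 := rfl
def n1587 : Q := act 7 n857
theorem D1587 : act 7 n857 = n1587 := rfl
def n1588 : Q := act 3 n858
theorem D1588 : act 3 n858 = n1588 := rfl
theorem F2761 : act 4 n1588 = n1588 := d5_2 D858 D1588 (iv3 D1588) (iv4 D858) F1031
theorem F2762 : act 7 n1588 = n1193 := d8_2 (iv7 F1618) D1588 (iv3 D1193)
def n1589 : Q := act 5 n858
theorem D1589 : act 5 n858 = n1589 := rfl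
theorem F2763 : act 2 n1589 = n1569 := d2_1 D1589 F2725 (iv2 F1617)
theorem F2764 : act 4 n1589 = n1551 := d9_1 D1589 (iv5 D1551) (iv4 D839) (iv5 D493) F414 D268 D507 D846 D1567 F2723 (iv4 D1471) F1513 F1362 (iv5 F1032) D858
theorem F2765 : act 7 n1589 = n1194 := d13_2 (iv7 F1618) D1589 (iv5 D1194)
theorem F2766 : act 0 n1589 = n1222 := d17_2 (iv1 F1621) D1589 (iv5 D1222) F1398 F916 F912 (iv5 F1686) F1688 (iv4 F1592)
theorem F2767 : act 1 n1589 = n1223 := d17_6 (iv1 F706) F1040 (iv1 F703) (iv5 F1032) D858 D1589 (iv5 D1223) F1403 F854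
def n1590 : Q := act 6 n858
theorem D1590 : act 6 n858 = n1590 := rfl
theorem F2768 : act 2 n1590 = n1570 := d3_1 D1590 (iv6 D1570) (iv2 F1617)
theorem F2769 : act 4 n1590 = n859 := d10_1 D1590 (iv6 D859) D858
theorem F2770 : act 7 n1590 = n1235 := d14_2 (iv7 F1618) D1590 (iv6 D1235) (iv7 D732) (iv6 F1370)
def n1591 : Q := act 3 n860
theorem D1591 : act 3 n860 = n1591 := rfl
theorem F2771 : act 4 n1591 = n1591 := d5_2 F1690 D1591 (iv3 D1591) (iv4 F1690) F1694
def n1592 : Q := act 5 n860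
theorem D1592 : act 5 n860 = n1592 := rfl
theorem F2772 : act 0 n1592 = n1217 := d17_2 D860 D1592 (iv5 D1217) (iv4 D725) F1074 (iv0 F1035) (iv5 F1032) (iv0 D528) D530
theorem F2773 : act 1 n1592 = n1219 := d17_6 (iv1 F1651) F1650 (iv1 F1674) (iv5 F1689) F1690 D1592 (iv5 D1219) F1713 F1712
def n1593 : Q := act 6 n860
theorem D1593 : act 6 n860 = n1593 := rfl
def n1594 : Q := act 3 n861
theorem D1594 : act 3 n861 = n1594 := rfl
theorem F2774 : act 4 n1594 = n915 := d5_2 (iv4 F1629) D1594 (iv3 D915) (iv4 D595) (iv3 F908)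
theorem F2775 : act 6 n1594 = n911 := d7_2 F1630 D1594 (iv3 D911)
def n1595 : Q := act 5 n861
theorem D1595 : act 5 n861 = n1595 := rfl
theorem F2776 : act 0 n1595 = n1219 := d17_2 (iv1 F1628) D1595 (iv5 D1219) (iv4 D726) F1040 (iv0 D266) D268 F1025 D547
theorem F2777 : act 1 n1595 = n1217 := d17_6 F970 F966 F907 D578 (iv4 F1629) D1595 (iv5 D1217) (iv0 F1676) (iv4 D902)
def n1596 : Q := act 0 n862
theorem D1596 : act 0 n862 = n1596 := rfl
def n1597 : Q := act 1 n862
theorem D1597 : act 1 n862 = n1597 := rfl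
def n1598 : Q := act 2 n862
theorem D1598 : act 2 n862 = n1598 := rfl
def n1599 : Q := act 5 n862
theorem D1599 : act 5 n862 = n1599 := rfl
theorem F2778 : act 3 n1599 = n863 := d6_1 D1599 (iv5 D863) D862
def n1600 : Q := act 6 n862
theorem D1600 : act 6 n862 = n1600 := rfl
theorem F2779 : act 3 n1600 = n864 := d7_1 D1600 (iv6 D864) D862
def n1601 : Q := act 0 n863
theorem D1601 : act 0 n863 = n1601 := rfl
theorem F2780 : act 5 n1601 = n875 := d17_1 D1601 (iv1 F1637) D879 (iv4 F2619) (iv5 D1504) (iv0 D815) D818 D1515 F2630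
theorem F2781 : act 4 n1601 = n1312 := d18_3 (iv1 F2628) F2630 D1601 (iv5 D1312) (iv4 D759) D758 F1610 F2161 F2160
theorem F2782 : act 1 n872 = n1601 := d15_0 (iv0 D1601) (iv7 F2261) F2260
def n1602 : Q := act 6 n863
theorem D1602 : act 6 n863 = n1602 := rfl
def n1603 : Q := act 0 n864
theorem D1603 : act 0 n864 = n1603 := rfl
def n1604 : Q := act 1 n864
theorem D1604 : act 1 n864 = n1604 := rfl
def n1605 : Q := act 5 n864
theorem D1605 : act 5 n864 = n1605 := rfl
def n1606 : Q := act 7 n864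
theorem D1606 : act 7 n864 = n1606 := rfl
theorem F2783 : act 4 n1606 = n867 := d11_1 D1606 (iv7 D867) (iv4 F1631)
def n1607 : Q := act 2 n865
theorem D1607 : act 2 n865 = n1607 := rfl
theorem F2784 : act 7 n866 = n1607 := d15_2 (iv0 D865) D866 (iv2 D1607)
def n1608 : Q := act 3 n865
theorem D1608 : act 3 n865 = n1608 := rfl
def n1609 : Q := act 4 n865
theorem D1609 : act 4 n865 = n1609 := rfl
def n1610 : Q := act 7 n865
theorem D1610 : act 7 n865 = n1610 := rfl
theorem F2785 : act 2 n1610 = n866 := d4_1 D1610 F2784 (iv2 D1607)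
theorem F2786 : act 6 n1610 = n1610 := d3_0 F2785 F2233 (iv2 F2785)
theorem F2787 : act 7 n882 = n882 := d14_4 D1610 F2786 (iv7 D1610) F1645 (iv6 F1645)
theorem F2788 : act 2 n882 = n881 := d15_3 (iv0 D881) D882 F2787
theorem F2789 : act 7 n881 = n881 := d4_2 F2787 F2788 (iv2 F2788)
theorem E358 : n1607 = n1204 := ((c3_3 F1645 F2788 (iv6 F2231) (iv2 D1607))).symm
theorem F2790 : act 2 n1204 = n865 := (sb E358 (iv2 D1607))
theorem F2791 : act 7 n1204 = n866 := (sb E358 (iv7 F2784))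
theorem E359 : n1610 = n1205 := (c15_4 F2234 F2241 F2791 (iv2 F2785))
theorem F2792 : act 2 n1205 = n866 := (sb E359 F2785)
theorem F2793 : act 7 n1205 = n865 := (sb E359 (iv7 D1610))
def n1611 : Q := act 3 n866
theorem D1611 : act 3 n866 = n1611 := rfl
def n1612 : Q := act 4 n866
theorem D1612 : act 4 n866 = n1612 := rfl
theorem F2795 : act 6 n1612 = n1612 := d10_2 F2233 D1612 (iv4 D1612)
def n1613 : Q := act 0 n868
theorem D1613 : act 0 n868 = n1613 := rfl
theorem F2796 : act 3 n1613 = n1196 := d20_5 D1471 F2581 (iv4 D869) (iv3 F1632) D1613 (iv4 F2588) (iv1 D1474) (iv4 D803) F1115 D802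
theorem F2797 : act 5 n1613 = n1183 := d21_8 F1347 (iv1 D689) (iv5 D398) D399 D692 (iv6 F1299) D868 D1613 (iv6 D1183) (iv1 F1345)
theorem F2798 : act 2 n1185 = n1613 := d15_3 (iv0 D1613) (iv0 F2583) F2579
theorem F2799 : act 7 n1613 = n1580 := d4_2 F2579 F2798 F2751
def n1614 : Q := act 4 n868
theorem D1614 : act 4 n868 = n1614 := rfl
def n1615 : Q := act 6 n868
theorem D1615 : act 6 n868 = n1615 := rfl
theorem F2800 : act 3 n1615 = n870 := d7_1 D1615 (iv6 D870) (iv3 F1632)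
def n1616 : Q := act 3 n869
theorem D1616 : act 3 n869 = n1616 := rfl
def n1617 : Q := act 6 n869
theorem D1617 : act 6 n869 = n1617 := rfl
theorem F2801 : act 4 n1617 = n870 := d10_1 D1617 (iv6 D870) D869
def n1618 : Q := act 0 n870
theorem D1618 : act 0 n870 = n1618 := rfl
def n1619 : Q := act 1 n870
theorem D1619 : act 1 n870 = n1619 := rfl
def n1620 : Q := act 7 n870
theorem D1620 : act 7 n870 = n1620 := rfl
def n1621 : Q := act 0 n871
theorem D1621 : act 0 n871 = n1621 := rfl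
def n1622 : Q := act 1 n871
theorem D1622 : act 1 n871 = n1622 := rfl
def n1623 : Q := act 2 n871
theorem D1623 : act 2 n871 = n1623 := rfl
def n1624 : Q := act 5 n871
theorem D1624 : act 5 n871 = n1624 := rfl
theorem F2802 : act 3 n1624 = n872 := d6_1 D1624 (iv5 D872) D871
def n1625 : Q := act 6 n871
theorem D1625 : act 6 n871 = n1625 := rfl
theorem F2803 : act 3 n1625 = n873 := d7_1 D1625 (iv6 D873) D871
def n1626 : Q := act 6 n872
theorem D1626 : act 6 n872 = n1626 := rfl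
def n1627 : Q := act 0 n873
theorem D1627 : act 0 n873 = n1627 := rfl
def n1628 : Q := act 1 n873
theorem D1628 : act 1 n873 = n1628 := rfl
theorem F2804 : act 6 n875 = n1628 := d21_3 D863 D1601 F2780 (iv1 D1628) (iv6 D873) D872 (iv1 F1710) (iv5 D912) F1630 (iv1 D861)
theorem F2805 : act 7 n1628 = n1593 := d14_2 (iv7 F1678) F2804 (iv6 D1593) (iv7 F2221) (iv6 F2224)
theorem F2806 : act 2 n1593 = n1627 := d15_3 (iv0 D1627) D1628 F2805
theorem F2807 : act 6 n1627 = n1199 := d3_2 D1593 F2806 (iv2 F2218)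
def n1629 : Q := act 5 n873
theorem D1629 : act 5 n873 = n1629 := rfl
def n1630 : Q := act 7 n873
theorem D1630 : act 7 n873 = n1630 := rfl
theorem F2808 : act 4 n1630 = n874 := d11_1 D1630 (iv7 D874) (iv4 F1634)
def n1631 : Q := act 3 n875
theorem D1631 : act 3 n875 = n1631 := rfl
theorem F2809 : act 4 n1631 = n1631 := d5_2 F1681 D1631 (iv3 D1631) (iv4 F1681) F1680
def n1632 : Q := act 0 n876
theorem D1632 : act 0 n876 = n1632 := rfl
def n1633 : Q := act 1 n876
theorem D1633 : act 1 n876 = n1633 := rfl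
def n1634 : Q := act 2 n876
theorem D1634 : act 2 n876 = n1634 := rfl
theorem F2810 : act 6 n1634 = n1634 := d3_2 F1638 D1634 (iv2 D1634)
def n1635 : Q := act 5 n876
theorem D1635 : act 5 n876 = n1635 := rfl
theorem F2811 : act 3 n1635 = n877 := d6_1 D1635 (iv5 D877) D876
def n1636 : Q := act 0 n877
theorem D1636 : act 0 n877 = n1636 := rfl
theorem F2812 : act 5 n1636 = n1200 := d17_3 F1110 D877 D1636 F2222 (iv5 D900) (iv0 F903) (iv5 F916) (iv0 D590) D592
theorem F2813 : act 1 n879 = n1636 := d15_0 (iv0 D1636) (iv7 F2278) F2277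
theorem F2814 : act 2 n1595 = n1636 := d2_3 F2812 (iv2 F2223) D1595
theorem F2815 : act 7 n1592 = n1636 := d13_0 F2812 F2221 D1592
def n1637 : Q := act 1 n877
theorem D1637 : act 1 n877 = n1637 := rfl
theorem F2816 : act 1 n1637 = n879 := d15_1 D1637 (iv7 F2274) F2273
theorem F2817 : act 7 n1637 = n1595 := d15_2 (iv0 D1636) D1637 F2814
theorem F2818 : act 5 n1637 = n1199 := d17_7 (iv1 F1100) F822 F1053 F1065 D555 D877 D1637 (iv0 D1199) (iv4 D719)
theorem F2819 : act 2 n1592 = n1637 := d2_3 F2818 (iv2 F2218) D1592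
def n1638 : Q := act 6 n877
theorem D1638 : act 6 n877 = n1638 := rfl
theorem F2820 : act 5 n1638 = n1638 := d12_1 D1638 (iv6 D1638) (iv5 D877) F1071 D877
def n1639 : Q := act 0 n878
theorem D1639 : act 0 n878 = n1639 := rfl
def n1640 : Q := act 1 n878
theorem D1640 : act 1 n878 = n1640 := rfl
def n1641 : Q := act 2 n878
theorem D1641 : act 2 n878 = n1641 := rfl
def n1642 : Q := act 5 n878
theorem D1642 : act 5 n878 = n1642 := rfl
theorem F2821 : act 3 n1642 = n879 := d6_1 D1642 (iv5 D879) D878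
def n1643 : Q := act 6 n878
theorem D1643 : act 6 n878 = n1643 := rfl
theorem F2822 : act 3 n1643 = n880 := d7_1 D1643 (iv6 D880) D878
theorem F2823 : act 7 n1643 = n1643 := d14_2 F2272 D1643 (iv6 D1643) (iv7 F2272) F2271
def n1644 : Q := act 6 n879
theorem D1644 : act 6 n879 = n1644 := rfl
def n1645 : Q := act 0 n880
theorem D1645 : act 0 n880 = n1645 := rfl
theorem F2824 : act 1 n1220 = n1645 := d15_0 (iv0 D1645) F1640 (iv2 F2279)
def n1646 : Q := act 1 n880
theorem D1646 : act 1 n880 = n1646 := rfl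
theorem F2825 : act 1 n1646 = n1220 := d15_1 D1646 F2281 F2279
def n1647 : Q := act 5 n880
theorem D1647 : act 5 n880 = n1647 := rfl
theorem F2826 : act 7 n1647 = n1647 := d13_2 F1640 D1647 (iv5 D1647)
def n1648 : Q := act 3 n881
theorem D1648 : act 3 n881 = n1648 := rfl
def n1649 : Q := act 4 n881
theorem D1649 : act 4 n881 = n1649 := rfl
theorem F2829 : act 7 n1649 = n1649 := d11_2 F2789 D1649 (iv4 D1649)
def n1650 : Q := act 3 n882
theorem D1650 : act 3 n882 = n1650 := rfl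
theorem F2831 : act 6 n1650 = n1608 := d7_2 F1645 D1650 (iv3 D1608)
def n1651 : Q := act 4 n882
theorem D1651 : act 4 n882 = n1651 := rfl
theorem F2833 : act 2 n1651 = n1649 := d1_1 D1651 (iv4 D1649) (iv2 F2788)
theorem F2834 : act 6 n1651 = n1609 := d10_2 F1645 D1651 (iv4 D1609)
theorem F2835 : act 7 n1651 = n1651 := d11_2 F2787 D1651 (iv4 D1651)
def n1652 : Q := act 0 n883
theorem D1652 : act 0 n883 = n1652 := rfl
def n1653 : Q := act 1 n883
theorem D1653 : act 1 n883 = n1653 := rfl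
def n1654 : Q := act 2 n883
theorem D1654 : act 2 n883 = n1654 := rfl
theorem F2836 : act 4 n1654 = n987 := d1_2 (iv4 F1646) D1654 (iv2 D987)
theorem F2837 : act 6 n1654 = n1654 := d3_2 F1647 D1654 (iv2 D1654)
def n1655 : Q := act 5 n883
theorem D1655 : act 5 n883 = n1655 := rfl
theorem F2838 : act 3 n1655 = n884 := d6_1 D1655 (iv5 D884) D883
def n1656 : Q := act 6 n884
theorem D1656 : act 6 n884 = n1656 := rfl
theorem F2839 : act 5 n1656 = n1656 := d12_1 D1656 (iv6 D1656) (iv5 D884) F1069 D884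
def n1657 : Q := act 0 n885
theorem D1657 : act 0 n885 = n1657 := rfl
def n1658 : Q := act 1 n885
theorem D1658 : act 1 n885 = n1658 := rfl
def n1659 : Q := act 2 n885
theorem D1659 : act 2 n885 = n1659 := rfl
theorem F2840 : act 4 n1659 = n1659 := d1_2 F1653 D1659 (iv2 D1659)
def n1660 : Q := act 5 n885
theorem D1660 : act 5 n885 = n1660 := rfl
theorem F2841 : act 3 n1660 = n887 := d6_1 D1660 (iv5 D887) D885
def n1661 : Q := act 6 n885
theorem D1661 : act 6 n885 = n1661 := rfl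
theorem F2842 : act 3 n1661 = n888 := d7_1 D1661 (iv6 D888) D885
theorem F2843 : act 4 n1661 = n1661 := d10_1 D1661 (iv6 D1661) F1653
theorem F2844 : act 7 n1661 = n1661 := d14_2 F2284 D1661 (iv6 D1661) (iv7 F2284) F2283
def n1662 : Q := act 6 n886
theorem D1662 : act 6 n886 = n1662 := rfl
theorem F2845 : act 2 n1662 = n910 := d3_1 D1662 (iv6 D910) (iv2 F1648)
theorem F2846 : act 3 n1662 = n1662 := d7_1 D1662 (iv6 D1662) F1652
theorem F2847 : act 4 n1662 = n888 := d10_1 D1662 (iv6 D888) D886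
theorem F2848 : act 5 n1662 = n1662 := d12_1 D1662 (iv6 D1662) F1650 F932 (iv5 F1650)
theorem F2849 : act 7 n1662 = n1662 := d14_2 (iv7 F1649) D1662 (iv6 D1662) F1649 F918
def n1663 : Q := act 6 n887
theorem D1663 : act 6 n887 = n1663 := rfl
def n1664 : Q := act 0 n888
theorem D1664 : act 0 n888 = n1664 := rfl
theorem F2850 : act 1 n1224 = n1664 := d15_0 (iv0 D1664) F1655 (iv2 F2291)
def n1665 : Q := act 1 n888
theorem D1665 : act 1 n888 = n1665 := rfl
theorem F2851 : act 1 n1665 = n1224 := d15_1 D1665 F2293 F2291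
def n1666 : Q := act 5 n888
theorem D1666 : act 5 n888 = n1666 := rfl
theorem F2852 : act 7 n1666 = n1666 := d13_2 F1655 D1666 (iv5 D1666)
def n1667 : Q := act 0 n889
theorem D1667 : act 0 n889 = n1667 := rfl
theorem F2853 : act 2 n893 = n1667 := d15_3 (iv0 D1667) (iv0 D889) D893
theorem F2854 : act 4 n1667 = n999 := d1_2 (iv4 F1659) F2853 (iv2 F1881)
theorem F2855 : act 7 n1667 = n891 := d4_2 D893 F2853 (iv2 D891)
theorem F2856 : act 1 n890 = n1667 := d15_1 D890 F2855 (iv2 D891)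
def n1668 : Q := act 2 n889
theorem D1668 : act 2 n889 = n1668 := rfl
theorem F2857 : act 7 n890 = n1668 := d15_2 (iv0 D889) D890 (iv2 D1668)
def n1669 : Q := act 3 n889
theorem D1669 : act 3 n889 = n1669 := rfl
def n1670 : Q := act 4 n889
theorem D1670 : act 4 n889 = n1670 := rfl
def n1671 : Q := act 5 n889
theorem D1671 : act 5 n889 = n1671 := rfl
def n1672 : Q := act 6 n889
theorem D1672 : act 6 n889 = n1672 := rfl
def n1673 : Q := act 7 n889
theorem D1673 : act 7 n889 = n1673 := rfl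
theorem F2858 : act 2 n1673 = n890 := d4_1 D1673 F2857 (iv2 D1668)
def n1674 : Q := act 3 n890
theorem D1674 : act 3 n890 = n1674 := rfl
def n1675 : Q := act 4 n890
theorem D1675 : act 4 n890 = n1675 := rfl
def n1676 : Q := act 5 n890
theorem D1676 : act 5 n890 = n1676 := rfl
def n1677 : Q := act 6 n890
theorem D1677 : act 6 n890 = n1677 := rfl
def n1678 : Q := act 0 n891
theorem D1678 : act 0 n891 = n1678 := rfl
theorem F2859 : act 1 n893 = n1678 := d15_0 (iv0 D1678) (iv7 F2855) (iv2 F2853)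
def n1679 : Q := act 1 n891
theorem D1679 : act 1 n891 = n1679 := rfl
theorem F2860 : act 1 n1679 = n893 := d15_1 D1679 (iv7 D893) D891
def n1680 : Q := act 5 n891
theorem D1680 : act 5 n891 = n1680 := rfl
theorem F2861 : act 2 n1680 = n892 := d2_1 D1680 (iv5 D892) D891
def n1681 : Q := act 0 n892
theorem D1681 : act 0 n892 = n1681 := rfl
def n1682 : Q := act 1 n892
theorem D1682 : act 1 n892 = n1682 := rfl
def n1683 : Q := act 4 n892
theorem D1683 : act 4 n892 = n1683 := rfl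
def n1684 : Q := act 6 n892
theorem D1684 : act 6 n892 = n1684 := rfl
theorem F2862 : act 3 n1684 = n897 := d7_1 D1684 (iv6 D897) (iv3 F1657)
def n1685 : Q := act 7 n892
theorem D1685 : act 7 n892 = n1685 := rfl
theorem F2863 : act 3 n1685 = n898 := d8_1 D1685 (iv7 D898) (iv3 F1657)
theorem F2864 : act 5 n1685 = n893 := d13_1 D1685 (iv7 D893) D892
def n1686 : Q := act 6 n893
theorem D1686 : act 6 n893 = n1686 := rfl
theorem F2865 : act 3 n1686 = n899 := d7_1 D1686 (iv6 D899) (iv3 F1658)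
theorem F2866 : act 4 n1686 = n1018 := d10_1 D1686 (iv6 D1018) (iv4 F1659)
def n1687 : Q := act 3 n894
theorem D1687 : act 3 n894 = n1687 := rfl
theorem F2867 : act 5 n1687 = n1558 := d6_2 (iv5 F1660) D1687 (iv3 D1558)
def n1688 : Q := act 6 n894
theorem D1688 : act 6 n894 = n1688 := rfl
def n1689 : Q := act 3 n895
theorem D1689 : act 3 n895 = n1689 := rfl
theorem F2868 : act 5 n1689 = n1560 := d6_2 (iv5 F1661) D1689 (iv3 D1560)
def n1690 : Q := act 6 n895
theorem D1690 : act 6 n895 = n1690 := rfl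
def n1691 : Q := act 3 n896
theorem D1691 : act 3 n896 = n1691 := rfl
def n1692 : Q := act 6 n896
theorem D1692 : act 6 n896 = n1692 := rfl
theorem F2869 : act 4 n1692 = n897 := d10_1 D1692 (iv6 D897) D896
def n1693 : Q := act 0 n897
theorem D1693 : act 0 n897 = n1693 := rfl
def n1694 : Q := act 1 n897
theorem D1694 : act 1 n897 = n1694 := rfl
def n1695 : Q := act 7 n897
theorem D1695 : act 7 n897 = n1695 := rfl
def n1696 : Q := act 6 n898
theorem D1696 : act 6 n898 = n1696 := rfl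
def n1697 : Q := act 0 n899
theorem D1697 : act 0 n899 = n1697 := rfl
theorem F2870 : act 4 n1697 = n909 := d20_8 (iv4 F1776) (iv1 F1828) F1826 F1162 (iv1 F1166) (iv3 F855) (iv4 F1663) D1697 F1704 F1724
theorem F2871 : act 6 n1697 = n908 := d21_5 (iv5 F2299) (iv1 F2302) F1662 D899 D1697 (iv5 F2305) (iv1 D1231) (iv5 D731) (iv6 F1370) (iv1 F1698)
theorem F2872 : act 1 n1590 = n1697 := d15_0 (iv0 D1697) (iv7 F2729) (iv2 F2768)
theorem F2873 : act 0 n1612 = n1559 := d18_2 (iv1 F2242) D1612 F2714 F1727 (iv4 F2870) (iv0 D1697) F1663 F1635 (iv5 F2239)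
theorem E360 : n960 = n866 := (c20_6 (iv4 F1792) (iv1 F1790) F1789 F1150 (iv1 F1152) D960 D1612 F2873 F2714 F1726 D921)
theorem E361 : n1611 = n626 := ((D1611).symm.trans (sb E360 (iv3 D960)))
theorem E362 : n1204 = n957 := (((iv5 F2232)).symm.trans (sb E360 F1803))
theorem F2874 : act 3 n626 = n866 := (sb E361 (iv3 D1611))
theorem F2875 : act 0 n957 = n867 := (sb E362 (iv1 F2241))
theorem F2876 : act 1 n957 = n720 := (sb E362 (iv0 D1204))
theorem F2877 : act 2 n957 = n865 := (sb E362 F2790)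
theorem F2878 : act 5 n957 = n866 := (sb E362 F2232)
theorem E363 : n983 = n881 := (((iv6 F1854)).symm.trans (sb E362 F2231))
theorem F2879 : act 7 n957 = n866 := (sb E362 F2791)
theorem E364 : n1648 = n637 := ((D1648).symm.trans (sb E363 (iv3 D983)))
theorem F2880 : act 6 n881 = n957 := (sb E363 F1854)
theorem F2881 : act 3 n637 = n881 := (sb E364 (iv3 D1648))
theorem E365 : n1650 = n882 := (c0_3 F2881 (iv2 F2788) D1650 F2788 (iv3 F2881) F1798)
theorem F2882 : act 3 n882 = n882 := (sb E365 (iv3 D1650))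
theorem E366 : n1608 = n865 := ((((iv6 F1645)).symm.trans (sb E365 F2831))).symm
theorem F2883 : act 3 n865 = n865 := (sb E366 (iv3 D1608))
theorem F2884 : act 3 n1205 = n1205 := d6_3 (iv5 F2235) F2883 F2235
theorem F2885 : act 2 n1561 = n1697 := d3_3 F2871 F1700 D1561
def n1698 : Q := act 1 n899
theorem D1698 : act 1 n899 = n1698 := rfl
theorem F2886 : act 1 n1698 = n1590 := d15_1 D1698 F2770 F2316
theorem F2887 : act 7 n1698 = n1561 := d15_2 (iv0 D1697) D1698 F2885
def n1699 : Q := act 5 n899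
theorem D1699 : act 5 n899 = n1699 := rfl
def n1700 : Q := act 3 n902
theorem D1700 : act 3 n902 = n1700 := rfl
theorem F2888 : act 4 n1700 = n1700 := d5_2 D902 D1700 (iv3 D1700) (iv4 D902) F863
theorem F2889 : act 7 n1700 = n1631 := d8_2 F1678 D1700 (iv3 D1631)
def n1701 : Q := act 5 n902
theorem D1701 : act 5 n902 = n1701 := rfl
theorem F2890 : act 2 n1701 = n912 := d2_1 D1701 (iv5 D912) (iv2 F1675)
theorem F2891 : act 7 n1701 = n1601 := d13_2 F1678 D1701 F2780
theorem F2892 : act 0 n1701 = n1202 := d17_2 (iv1 F1677) D1701 (iv5 D1202) (iv4 D719) (iv5 D416) (iv0 D230) D232 D424 D726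
theorem F2893 : act 1 n1701 = n1213 := d17_6 (iv1 F1687) (iv5 D808) F971 D572 D902 D1701 (iv5 D1213) F2217 F2216
def n1702 : Q := act 6 n903
theorem D1702 : act 6 n903 = n1702 := rfl
theorem F2894 : act 2 n1702 = n914 := d3_1 D1702 (iv6 D914) (iv2 F1679)
theorem F2895 : act 3 n1702 = n1702 := d7_1 D1702 (iv6 D1702) F1680
theorem F2896 : act 4 n1702 = n1628 := d10_1 D1702 (iv6 F2804) (iv4 F1681)
theorem F2897 : act 5 n1702 = n1702 := d12_1 D1702 (iv6 D1702) F1682 F866 (iv5 F1682)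
theorem F2898 : act 0 n1702 = n909 := d21_4 (iv5 D583) (iv1 F869) (iv5 F1682) D1702 (iv6 D909) (iv5 D588) (iv1 D298) D299 (iv6 F909) F1018
def n1703 : Q := act 6 n904
theorem D1703 : act 6 n904 = n1703 := rfl
theorem F2899 : act 3 n1703 = n917 := d7_1 D1703 (iv6 D917) (iv3 F1685)
theorem F2900 : act 4 n1703 = n1627 := d10_1 D1703 F2807 F2216
theorem F2901 : act 5 n1703 = n1703 := d12_1 D1703 (iv6 D1703) F1686 F911 (iv5 F1686)
theorem F2902 : act 7 n1703 = n914 := d14_2 D904 D1703 (iv6 D914) (iv7 D593) (iv6 F909)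
theorem F2903 : act 0 n909 = n1703 := d21_4 F1682 (iv1 F868) D588 D909 (iv6 D1703) F1686 (iv1 F912) (iv5 F916) F918 (iv1 F1684)
def n1704 : Q := act 6 n905
theorem D1704 : act 6 n905 = n1704 := rfl
theorem F2904 : act 2 n1704 = n1703 := d3_1 D1704 (iv6 D1703) F1691
theorem F2905 : act 3 n1704 = n1704 := d7_1 D1704 (iv6 D1704) F1694
theorem F2906 : act 4 n1704 = n1593 := d10_1 D1704 (iv6 D1593) (iv4 F1690)
theorem F2907 : act 5 n1704 = n1704 := d12_1 D1704 (iv6 D1704) F1689 F1672 (iv5 F1689)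
theorem F2908 : act 7 n1704 = n1702 := d14_2 (iv7 F1693) D1704 (iv6 D1702) (iv7 D903) (iv6 F1666)
theorem F2909 : act 0 n1486 = n1704 := d21_4 F921 (iv1 F972) D808 D1486 (iv6 D1704) F1689 (iv1 F1673) (iv5 F966) F967 F1124
theorem F2910 : act 0 n1593 = n1630 := d20_7 (iv4 F2317) F2717 F2716 F2603 F2909 F2905 F2906 F2808 (iv3 F2265) (iv1 F2268)
def n1705 : Q := act 3 n906
theorem D1705 : act 3 n906 = n1705 := rfl
theorem F2911 : act 4 n1705 = n1705 := d5_2 D906 D1705 (iv3 D1705) (iv4 D906) F1020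
theorem F2912 : act 7 n1705 = n1560 := d8_2 (iv7 F1696) D1705 (iv3 D1560)
def n1706 : Q := act 6 n906
theorem D1706 : act 6 n906 = n1706 := rfl
theorem F2913 : act 2 n1706 = n1559 := d3_1 D1706 (iv6 D1559) (iv2 F1695)
theorem F2914 : act 4 n1706 = n907 := d10_1 D1706 (iv6 D907) D906
def n1707 : Q := act 0 n907
theorem D1707 : act 0 n907 = n1707 := rfl
def n1708 : Q := act 1 n907
theorem D1708 : act 1 n907 = n1708 := rfl
def n1709 : Q := act 7 n907
theorem D1709 : act 7 n907 = n1709 := rfl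
theorem F2915 : act 3 n1709 = n1709 := d8_1 D1709 (iv7 D1709) F1699
def n1710 : Q := act 3 n908
theorem D1710 : act 3 n908 = n1710 := rfl
theorem F2916 : act 4 n1710 = n924 := d5_2 D908 D1710 (iv3 D924) (iv4 D609) (iv3 F1010)
theorem F2917 : act 7 n1710 = n1558 := d8_2 (iv7 F1701) D1710 (iv3 D1558)
def n1711 : Q := act 7 n909
theorem D1711 : act 7 n909 = n1711 := rfl
theorem F2918 : act 3 n1711 = n926 := d8_1 D1711 (iv7 D926) (iv3 F1704)
theorem F2919 : act 1 n914 = n1711 := d15_1 (iv0 F2605) (iv7 D1711) (iv2 F2602)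
theorem F2920 : act 1 n1711 = n1704 := d15_1 F2919 F2908 F2894
theorem F2921 : act 0 n1214 = n1593 := d20_1 (iv4 F2263) (iv4 F2906) F2905 (iv1 F2920) F2918 F1913 (iv1 D1029) F1213 (iv3 F855) F1388
def n1712 : Q := act 0 n910
theorem D1712 : act 0 n910 = n1712 := rfl
theorem F2922 : act 1 n1662 = n1712 := d15_0 (iv0 D1712) F1707 (iv2 F2845)
theorem F2923 : act 5 n1712 = n1712 := d21_0 (iv1 F2922) F2848 (iv6 D1662) (iv1 F1654) (iv6 F1666) (iv5 D900) (iv1 F934) F922 D910 D1712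
def n1713 : Q := act 1 n910
theorem D1713 : act 1 n910 = n1713 := rfl
theorem F2924 : act 1 n1713 = n1662 := d15_1 D1713 F2849 F2845
theorem F2925 : act 5 n1713 = n1713 := d21_0 (iv1 D1713) F1706 (iv6 D910) (iv1 D591) (iv6 F909) (iv5 D578) D577 (iv5 F1650) D1662 (iv1 F2924)
theorem F2926 : act 6 n1707 = n1713 := d21_5 (iv5 D299) D297 D583 D907 D1707 F2925 (iv1 D1713) F1706 (iv6 D910) (iv1 D591)
def n1714 : Q := act 0 n911
theorem D1714 : act 0 n911 = n1714 := rfl
def n1715 : Q := act 1 n911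
theorem D1715 : act 1 n911 = n1715 := rfl
def n1716 : Q := act 2 n911
theorem D1716 : act 2 n911 = n1716 := rfl
theorem F2927 : act 4 n1716 = n930 := d1_2 (iv4 F1708) D1716 (iv2 D930)
def n1717 : Q := act 5 n911
theorem D1717 : act 5 n911 = n1717 := rfl
theorem F2928 : act 3 n1717 = n912 := d6_1 D1717 (iv5 D912) D911
def n1718 : Q := act 7 n911
theorem D1718 : act 7 n911 = n1718 := rfl
theorem F2929 : act 3 n1718 = n913 := d8_1 D1718 (iv7 D913) D911
theorem F2930 : act 4 n1718 = n932 := d11_1 D1718 (iv7 D932) (iv4 F1708)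
def n1719 : Q := act 4 n912
theorem D1719 : act 4 n912 = n1719 := rfl
theorem F2931 : act 5 n1719 = n1572 := d9_2 D912 D1719 (iv4 D1572) (iv5 D850) F1003 (iv5 F1682) F1681 (iv5 F2780) F2781 (iv5 D1312) (iv4 D759) (iv5 D439) F384 D299 D592
def n1720 : Q := act 6 n912
theorem D1720 : act 6 n912 = n1720 := rfl
def n1721 : Q := act 7 n912
theorem D1721 : act 7 n912 = n1721 := rfl
theorem F2932 : act 2 n1721 = n1601 := d4_1 D1721 (iv7 F2891) F2890
theorem F2933 : act 5 n1721 = n913 := d13_1 D1721 (iv7 D913) D912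
theorem F2934 : act 1 n1213 = n1721 := d15_1 F2893 (iv7 D1721) (iv2 F2890)
theorem F2935 : act 1 n1721 = n1202 := d15_1 F2934 F2228 (iv2 F2260)
def n1722 : Q := act 6 n913
theorem D1722 : act 6 n913 = n1722 := rfl
theorem F2936 : act 2 n1722 = n1628 := d3_1 D1722 (iv6 F2804) (iv2 F1711)
theorem F2937 : act 4 n1722 = n914 := d10_1 D1722 (iv6 D914) (iv4 F1712)
theorem F2938 : act 7 n1722 = n1627 := d14_2 D913 D1722 F2807 (iv7 F2219) (iv6 F1630)
theorem F2939 : act 0 n1722 = n1214 := d21_4 D1202 (iv1 F2935) F2933 D1722 (iv6 D1214) D1213 (iv1 F2893) (iv5 D1701) F2224 (iv1 D1200)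
theorem F2940 : act 1 n1722 = n1630 := d15_1 (iv0 F2939) (iv7 D1630) (iv2 F2262)
def n1723 : Q := act 0 n915
theorem D1723 : act 0 n915 = n1723 := rfl
def n1724 : Q := act 1 n915
theorem D1724 : act 1 n915 = n1724 := rfl
def n1725 : Q := act 2 n915
theorem D1725 : act 2 n915 = n1725 := rfl
theorem F2941 : act 3 n1725 = n1725 := d0_2 D915 D1725 (iv2 D1725) (iv3 D915) F935
theorem F2942 : act 6 n1725 = n930 := d3_2 (iv6 F1717) D1725 (iv2 D930)
def n1726 : Q := act 5 n915
theorem D1726 : act 5 n915 = n1726 := rfl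
theorem F2943 : act 3 n1726 = n916 := d6_1 D1726 (iv5 D916) D915
def n1727 : Q := act 6 n916
theorem D1727 : act 6 n916 = n1727 := rfl
theorem F2944 : act 2 n1727 = n1727 := d3_1 D1727 (iv6 D1727) F1718
theorem F2945 : act 5 n1727 = n933 := d12_1 D1727 (iv6 D933) (iv5 D614) (iv6 F936) D916
def n1728 : Q := act 0 n918
theorem D1728 : act 0 n918 = n1728 := rfl
theorem F2946 : act 3 n1728 = n921 := d20_5 D961 F1809 F1729 (iv3 F1726) D1728 (iv4 F1792) (iv1 F1790) F1789 F1150 (iv1 F1152)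
theorem F2947 : act 6 n1728 = n1712 := d21_5 (iv5 D572) F993 D601 D918 D1728 F2923 (iv1 F2922) F2848 (iv6 D1662) (iv1 F1654)
theorem F2948 : act 5 n1728 = n1708 := d21_0 (iv1 D1708) (iv5 F2604) (iv6 D1486) F1668 F1666 (iv5 D572) F993 D601 D918 D1728
theorem F2949 : act 3 n1708 = n922 := d6_1 F2948 (iv5 F1730) (iv3 F2946)
theorem F2950 : act 6 n1708 = n1708 := d12_2 (iv6 F2947) F2948 (iv5 F2948) F2947 F2923
theorem F2951 : act 3 n1712 = n927 := d7_1 F2947 F1744 (iv3 F2946)
def n1729 : Q := act 1 n918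
theorem D1729 : act 1 n918 = n1729 := rfl
theorem F2952 : act 1 n1729 = n1709 := d15_1 D1729 (iv7 D1709) (iv2 F1725)
theorem F2953 : act 5 n1707 = n1729 := d21_0 (iv1 D1729) F1727 (iv6 D909) F1009 F909 (iv5 D299) D297 D583 D907 D1707
theorem F2954 : act 6 n1729 = n1729 := d21_3 F2604 D1707 F2953 (iv1 D1729) (iv6 D918) (iv5 D601) F992 (iv5 F921) D914 F2605
def n1730 : Q := act 7 n918
theorem D1730 : act 7 n918 = n1730 := rfl
theorem F2955 : act 2 n1730 = n1709 := d4_1 D1730 (iv7 D1709) (iv2 F1725)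
theorem F2956 : act 3 n1730 = n923 := d8_1 D1730 (iv7 D923) (iv3 F1726)
theorem F2957 : act 5 n1730 = n1711 := d13_1 D1730 (iv7 D1711) (iv5 F1727)
theorem F2958 : act 6 n1730 = n1711 := d14_1 D1730 (iv7 D1711) (iv6 D909) F1011 D918
theorem F2959 : act 1 n1709 = n1728 := d15_0 (iv0 D1728) D1730 F2955
theorem F2960 : act 1 n1708 = n1730 := d15_1 D1708 (iv7 D1730) F1725
theorem F2961 : act 4 n1604 = n1708 := d18_7 (iv1 F2919) (iv4 F2937) F2939 F2263 F1387 (iv4 F1631) D1604 F2960 F2957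
theorem F2962 : act 0 n1707 = n1730 := d21_4 F2848 (iv1 F2924) F2925 (iv6 F2926) F2958 (iv5 F2957) (iv1 F2960) (iv5 F2948) F2947 (iv1 F2922)
theorem F2963 : act 6 n1604 = n1604 := d10_0 F2961 F2950 (iv4 F2961)
def n1731 : Q := act 0 n919
theorem D1731 : act 0 n919 = n1731 := rfl
def n1732 : Q := act 1 n919
theorem D1732 : act 1 n919 = n1732 := rfl
def n1733 : Q := act 2 n919
theorem D1733 : act 2 n919 = n1733 := rfl
theorem F2964 : act 3 n1733 = n1733 := d0_2 D919 D1733 (iv2 D1733) (iv3 D919) F946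
def n1734 : Q := act 6 n919
theorem D1734 : act 6 n919 = n1734 := rfl
theorem F2965 : act 3 n1734 = n920 := d7_1 D1734 (iv6 D920) D919
def n1735 : Q := act 5 n920
theorem D1735 : act 5 n920 = n1735 := rfl
theorem F2966 : act 2 n1735 = n1735 := d2_1 D1735 (iv5 D1735) F1728
theorem F2967 : act 1 n1735 = n1030 := d17_6 (iv1 F1743) F1126 F1127 F965 (iv4 F1729) D1735 (iv5 D1030) D1029 (iv4 F1913)
def n1736 : Q := act 7 n920
theorem D1736 : act 7 n920 = n1736 := rfl
theorem F2968 : act 2 n1736 = n1736 := d4_1 D1736 (iv7 D1736) F1728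
theorem F2969 : act 4 n1736 = n923 := d11_1 D1736 (iv7 D923) (iv4 F1729)
theorem F2970 : act 6 n1736 = n1029 := d14_1 D1736 F1911 (iv6 D925) F962 D920
theorem F2971 : act 1 n1736 = n958 := d15_0 F1810 D1736 F2968
theorem F2972 : act 1 n961 = n1736 := d15_1 (iv0 F1809) (iv7 D1736) F1728
def n1737 : Q := act 2 n921
theorem D1737 : act 2 n921 = n1737 := rfl
theorem F2973 : act 7 n922 = n1737 := d15_2 (iv0 D921) D922 (iv2 D1737)
def n1738 : Q := act 7 n921
theorem D1738 : act 7 n921 = n1738 := rfl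
theorem F2974 : act 2 n1738 = n922 := d4_1 D1738 F2973 (iv2 D1737)
theorem F2975 : act 5 n1738 = n1737 := d13_1 D1738 (iv7 F2973) (iv5 F1730)
theorem F2976 : act 6 n1738 = n1738 := d3_0 F2974 F1731 (iv2 F2974)
theorem F2977 : act 7 n927 = n927 := d14_4 D1738 F2976 (iv7 D1738) (iv6 F1744) F1744
theorem F2978 : act 7 n1712 = n1712 := d8_2 F2977 (iv3 F2951) F2951
theorem F2979 : act 2 n927 = n927 := d15_3 (iv0 D927) (iv0 F1746) F2977
theorem E367 : n1737 = n921 := (c3_4 (iv6 F1744) F2979 F1744 D1737)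
theorem F2980 : act 2 n921 = n921 := (sb E367 (iv2 D1737))
theorem E368 : n1738 = n922 := (((F1730).symm.trans (sb E367 (iv5 F2975)))).symm
theorem F2981 : act 2 n922 = n922 := (sb E368 F2974)
theorem F2982 : act 7 n922 = n921 := (sb E368 (iv7 D1738))
theorem F2983 : act 7 n1728 = n1708 := d8_2 F2982 (iv3 F2946) F2949
theorem F2984 : act 7 n952 = n953 := d11_2 F2982 (iv4 F1792) F1785
theorem F2985 : act 2 n953 = n953 := d15_3 F1791 F1790 F2984
theorem F2986 : act 2 n952 = n952 := d4_1 (iv7 F2984) F2984 F2985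
theorem F2987 : act 2 n1708 = n1729 := d15_3 F2952 F2959 F2983
theorem F2988 : act 2 n1728 = n1707 := d15_3 (iv0 D1707) D1708 (iv7 F2983)
theorem F2989 : act 3 n1707 = n1707 := d0_2 (iv3 F2946) F2988 (iv2 F2988) F2946 F2980
theorem F2990 : act 2 n1713 = n1712 := d3_3 (iv6 F2947) F2988 F2926
theorem F2991 : act 7 n1707 = n1729 := d4_2 (iv7 F2983) F2988 (iv2 F2987)
theorem F2992 : act 3 n1729 = n1729 := d8_1 F2991 (iv7 F2991) F2989
theorem F2993 : act 7 n1713 = n1713 := d14_4 F2991 F2954 (iv7 F2991) F2926 (iv6 F2926)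
theorem F2994 : act 3 n1713 = n1713 := d0_0 F2990 F2951 F2979 (iv3 F2951) (iv2 F2990)
theorem F2995 : act 4 n1603 = n1707 := d20_2 (iv4 F1631) D1603 F2989 F2962 F2956 (iv4 F2969) (iv1 F2972) (iv4 D961) F2874 (iv1 D866)
def n1739 : Q := act 0 n924
theorem D1739 : act 0 n924 = n1739 := rfl
theorem F2996 : act 1 n1733 = n1739 := d15_0 (iv0 D1739) F1735 D1733
def n1740 : Q := act 1 n924
theorem D1740 : act 1 n924 = n1740 := rfl
def n1741 : Q := act 2 n924
theorem D1741 : act 2 n924 = n1741 := rfl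
theorem F2997 : act 3 n1741 = n1741 := d0_2 D924 D1741 (iv2 D1741) (iv3 D924) F961
theorem F2998 : act 7 n1741 = n1733 := d4_2 (iv7 F1735) D1741 (iv2 D1733)
theorem F2999 : act 1 n1741 = n1731 := d15_0 (iv0 D1731) (iv7 F1735) D1741
theorem F3000 : act 1 n1740 = n1733 := d15_1 D1740 (iv7 F2998) (iv2 D1741)
theorem F3001 : act 1 n1732 = n1741 := d15_1 D1732 F2998 (iv2 D1733)
def n1742 : Q := act 6 n924
theorem D1742 : act 6 n924 = n1742 := rfl
theorem F3002 : act 3 n1742 = n925 := d7_1 D1742 (iv6 D925) D924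
def n1743 : Q := act 5 n925
theorem D1743 : act 5 n925 = n1743 := rfl
theorem F3003 : act 2 n1743 = n1743 := d2_1 D1743 (iv5 D1743) F1736
def n1744 : Q := act 4 n927
theorem D1744 : act 4 n927 = n1744 := rfl
theorem F3004 : act 2 n1744 = n1744 := d1_1 D1744 (iv4 D1744) F2979
theorem F3005 : act 6 n1744 = n952 := d10_2 (iv6 F1744) D1744 F1792
theorem F3006 : act 7 n1744 = n1744 := d11_2 F2977 D1744 (iv4 D1744)
def n1745 : Q := act 0 n928
theorem D1745 : act 0 n928 = n1745 := rfl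
theorem F3007 : act 2 n932 = n1745 := d15_3 (iv0 D1745) (iv0 D928) D932
theorem F3008 : act 3 n1745 = n1745 := d0_2 (iv3 F1749) F3007 (iv2 F3007) F1749 F1120
theorem F3009 : act 7 n1745 = n930 := d4_2 D932 F3007 (iv2 D930)
theorem F3010 : act 1 n929 = n1745 := d15_1 D929 F3009 (iv2 D930)
def n1746 : Q := act 2 n928
theorem D1746 : act 2 n928 = n1746 := rfl
theorem F3011 : act 7 n929 = n1746 := d15_2 (iv0 D928) D929 (iv2 D1746)
def n1747 : Q := act 3 n928
theorem D1747 : act 3 n928 = n1747 := rfl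
theorem F3012 : act 4 n1747 = n1678 := d20_6 F600 (iv1 D317) D318 D613 D928 D1747 (iv1 F2859) F1659 F1194 (iv1 F605)
def n1748 : Q := act 4 n928
theorem D1748 : act 4 n928 = n1748 := rfl
def n1749 : Q := act 5 n928
theorem D1749 : act 5 n928 = n1749 := rfl
def n1750 : Q := act 6 n928
theorem D1750 : act 6 n928 = n1750 := rfl
def n1751 : Q := act 7 n928
theorem D1751 : act 7 n928 = n1751 := rfl
theorem F3013 : act 2 n1751 = n929 := d4_1 D1751 F3011 (iv2 D1746)
def n1752 : Q := act 3 n929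
theorem D1752 : act 3 n929 = n1752 := rfl
def n1753 : Q := act 4 n929
theorem D1753 : act 4 n929 = n1753 := rfl
def n1754 : Q := act 5 n929
theorem D1754 : act 5 n929 = n1754 := rfl
def n1755 : Q := act 6 n929
theorem D1755 : act 6 n929 = n1755 := rfl
def n1756 : Q := act 0 n930
theorem D1756 : act 0 n930 = n1756 := rfl
theorem F3014 : act 1 n932 = n1756 := d15_0 (iv0 D1756) (iv7 F3009) (iv2 F3007)
def n1757 : Q := act 1 n930
theorem D1757 : act 1 n930 = n1757 := rfl
theorem F3015 : act 1 n1757 = n932 := d15_1 D1757 (iv7 D932) D930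
theorem F3016 : act 3 n1757 = n1675 := d20_5 F598 (iv1 F558) (iv4 F1121) (iv3 F1749) (iv1 F3015) (iv4 D1675) (iv1 D890) F853 (iv3 D341) D339
def n1758 : Q := act 5 n930
theorem D1758 : act 5 n930 = n1758 := rfl
theorem F3017 : act 2 n1758 = n931 := d2_1 D1758 (iv5 D931) D930
theorem F3018 : act 3 n1758 = n1758 := d6_1 D1758 (iv5 D1758) F1747
def n1759 : Q := act 0 n931
theorem D1759 : act 0 n931 = n1759 := rfl
def n1760 : Q := act 1 n931
theorem D1760 : act 1 n931 = n1760 := rfl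
def n1761 : Q := act 4 n931
theorem D1761 : act 4 n931 = n1761 := rfl
def n1762 : Q := act 6 n931
theorem D1762 : act 6 n931 = n1762 := rfl
theorem F3019 : act 3 n1762 = n933 := d7_1 D1762 (iv6 D933) (iv3 F1748)
def n1763 : Q := act 6 n932
theorem D1763 : act 6 n932 = n1763 := rfl
theorem F3020 : act 3 n1763 = n934 := d7_1 D1763 (iv6 D934) (iv3 F1749)
def n1764 : Q := act 0 n933
theorem D1764 : act 0 n933 = n1764 := rfl
def n1765 : Q := act 1 n933
theorem D1765 : act 1 n933 = n1765 := rfl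
def n1766 : Q := act 7 n933
theorem D1766 : act 7 n933 = n1766 := rfl
theorem F3021 : act 2 n1766 = n1766 := d4_1 D1766 (iv7 D1766) F1750
theorem F3022 : act 1 n1766 = n1764 := d15_0 (iv0 D1764) D1766 F3021
theorem F3023 : act 1 n1765 = n1766 := d15_1 D1765 (iv7 D1766) F1750
def n1767 : Q := act 5 n934
theorem D1767 : act 5 n934 = n1767 := rfl
theorem F3024 : act 2 n1767 = n1767 := d2_1 D1767 (iv5 D1767) F1751
theorem F3025 : act 0 n1767 = n954 := d17_2 (iv1 F1829) D1767 (iv5 D954) F1146 (iv5 F587) (iv0 F608) F607 F1166 (iv4 F1826)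
def n1768 : Q := act 0 n935
theorem D1768 : act 0 n935 = n1768 := rfl
theorem F3026 : act 2 n939 = n1768 := d15_3 (iv0 D1768) (iv0 D935) D939
theorem F3027 : act 3 n1768 = n1768 := d0_2 (iv3 F1757) F3026 (iv2 F3026) F1757 F1130
theorem F3028 : act 7 n1768 = n937 := d4_2 D939 F3026 (iv2 D937)
theorem F3029 : act 1 n936 = n1768 := d15_1 D936 F3028 (iv2 D937)
def n1769 : Q := act 2 n935
theorem D1769 : act 2 n935 = n1769 := rfl
theorem F3030 : act 7 n936 = n1769 := d15_2 (iv0 D935) D936 (iv2 D1769)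
def n1770 : Q := act 3 n935
theorem D1770 : act 3 n935 = n1770 := rfl
def n1771 : Q := act 4 n935
theorem D1771 : act 4 n935 = n1771 := rfl
def n1772 : Q := act 5 n935
theorem D1772 : act 5 n935 = n1772 := rfl
def n1773 : Q := act 6 n935
theorem D1773 : act 6 n935 = n1773 := rfl
def n1774 : Q := act 7 n935
theorem D1774 : act 7 n935 = n1774 := rfl
theorem F3031 : act 2 n1774 = n936 := d4_1 D1774 F3030 (iv2 D1769)
def n1775 : Q := act 3 n936
theorem D1775 : act 3 n936 = n1775 := rfl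
def n1776 : Q := act 4 n936
theorem D1776 : act 4 n936 = n1776 := rfl
def n1777 : Q := act 5 n936
theorem D1777 : act 5 n936 = n1777 := rfl
def n1778 : Q := act 6 n936
theorem D1778 : act 6 n936 = n1778 := rfl
def n1779 : Q := act 0 n937
theorem D1779 : act 0 n937 = n1779 := rfl
theorem F3032 : act 1 n939 = n1779 := d15_0 (iv0 D1779) (iv7 F3028) (iv2 F3026)
def n1780 : Q := act 1 n937
theorem D1780 : act 1 n937 = n1780 := rfl
theorem F3033 : act 1 n1780 = n939 := d15_1 D1780 (iv7 D939) D937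
def n1781 : Q := act 5 n937
theorem D1781 : act 5 n937 = n1781 := rfl
theorem F3034 : act 2 n1781 = n938 := d2_1 D1781 (iv5 D938) D937
theorem F3035 : act 3 n1781 = n1781 := d6_1 D1781 (iv5 D1781) F1754
def n1782 : Q := act 0 n938
theorem D1782 : act 0 n938 = n1782 := rfl
def n1783 : Q := act 1 n938
theorem D1783 : act 1 n938 = n1783 := rfl
def n1784 : Q := act 4 n938
theorem D1784 : act 4 n938 = n1784 := rfl
def n1785 : Q := act 6 n938
theorem D1785 : act 6 n938 = n1785 := rfl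
theorem F3036 : act 3 n1785 = n941 := d7_1 D1785 (iv6 D941) (iv3 F1756)
theorem F3037 : act 5 n1785 = n1016 := d12_1 D1785 (iv6 D1016) (iv5 D646) (iv6 F1128) D938
def n1786 : Q := act 7 n938
theorem D1786 : act 7 n938 = n1786 := rfl
theorem F3038 : act 3 n1786 = n942 := d8_1 D1786 (iv7 D942) (iv3 F1756)
theorem F3039 : act 5 n1786 = n939 := d13_1 D1786 (iv7 D939) D938
def n1787 : Q := act 6 n939
theorem D1787 : act 6 n939 = n1787 := rfl
theorem F3040 : act 3 n1787 = n943 := d7_1 D1787 (iv6 D943) (iv3 F1757)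
theorem F3041 : act 7 n1787 = n1018 := d14_2 D939 D1787 (iv6 D1018) (iv7 D647) (iv6 F1128)
def n1788 : Q := act 3 n940
theorem D1788 : act 3 n940 = n1788 := rfl
theorem F3042 : act 5 n1788 = n944 := d6_2 (iv5 F1759) D1788 (iv3 D944)
theorem F3043 : act 7 n1788 = n1726 := d8_2 F1762 D1788 F2943
def n1789 : Q := act 6 n940
theorem D1789 : act 6 n940 = n1789 := rfl
theorem F3044 : act 2 n1789 = n1789 := d3_1 D1789 (iv6 D1789) F1758
theorem F3045 : act 4 n1789 = n941 := d10_1 D1789 (iv6 D941) D940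
def n1790 : Q := act 0 n941
theorem D1790 : act 0 n941 = n1790 := rfl
def n1791 : Q := act 1 n941
theorem D1791 : act 1 n941 = n1791 := rfl
def n1792 : Q := act 7 n941
theorem D1792 : act 7 n941 = n1792 := rfl
theorem F3046 : act 2 n1792 = n1792 := d4_1 D1792 (iv7 D1792) F1763
theorem F3047 : act 5 n1792 = n1027 := d13_1 D1792 (iv7 D1027) (iv5 F1764)
theorem F3048 : act 1 n1792 = n1790 := d15_0 (iv0 D1790) D1792 F3046
theorem F3049 : act 1 n1791 = n1792 := d15_1 D1791 (iv7 D1792) F1763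
def n1793 : Q := act 6 n942
theorem D1793 : act 6 n942 = n1793 := rfl
theorem F3050 : act 2 n1793 = n1793 := d3_1 D1793 (iv6 D1793) F1765
theorem F3051 : act 4 n1793 = n1727 := d10_1 D1793 (iv6 D1727) (iv4 F1766)
def n1794 : Q := act 5 n943
theorem D1794 : act 5 n943 = n1794 := rfl
theorem F3052 : act 2 n1794 = n1794 := d2_1 D1794 (iv5 D1794) F1770
theorem F3053 : act 7 n1794 = n1030 := d13_2 (iv7 F1772) D1794 (iv5 D1030)
theorem F3054 : act 1 n1794 = n1735 := d17_6 (iv1 D626) (iv5 F587) F1137 F1135 (iv4 F1771) D1794 (iv5 D1735) (iv0 F1809) (iv4 D961)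
def n1795 : Q := act 0 n944
theorem D1795 : act 0 n944 = n1795 := rfl
theorem F3055 : act 1 n1725 = n1795 := d15_0 (iv0 D1795) F1774 D1725
def n1796 : Q := act 1 n944
theorem D1796 : act 1 n944 = n1796 := rfl
def n1797 : Q := act 2 n944
theorem D1797 : act 2 n944 = n1797 := rfl
theorem F3056 : act 3 n1797 = n1797 := d0_2 D944 D1797 (iv2 D1797) (iv3 D944) F1141
theorem F3057 : act 7 n1797 = n1725 := d4_2 (iv7 F1774) D1797 (iv2 D1725)
theorem F3058 : act 1 n1797 = n1723 := d15_0 (iv0 D1723) (iv7 F1774) D1797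
theorem F3059 : act 1 n1796 = n1725 := d15_1 D1796 (iv7 F3057) (iv2 D1797)
theorem F3060 : act 1 n1724 = n1797 := d15_1 D1724 F3057 (iv2 D1725)
def n1798 : Q := act 4 n944
theorem D1798 : act 4 n944 = n1798 := rfl
theorem F3061 : act 3 n1798 = n1199 := d5_1 D1798 F2216 F1685 (iv4 F1138) D944
theorem F3062 : act 7 n1798 = n1594 := d11_2 (iv7 F1774) D1798 F2774
def n1799 : Q := act 6 n944
theorem D1799 : act 6 n944 = n1799 := rfl
theorem F3063 : act 3 n1799 = n945 := d7_1 D1799 (iv6 D945) D944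
theorem F3064 : act 7 n1799 = n1763 := d14_2 (iv7 F1774) D1799 (iv6 D1763) (iv7 D932) (iv6 F1717)
def n1800 : Q := act 5 n945
theorem D1800 : act 5 n945 = n1800 := rfl
theorem F3065 : act 2 n1800 = n1800 := d2_1 D1800 (iv5 D1800) F1775
theorem F3066 : act 7 n1800 = n1767 := d13_2 (iv7 F1777) D1800 (iv5 D1767)
theorem F3067 : act 1 n1800 = n954 := d17_6 (iv1 D922) (iv5 F965) F1724 F1722 (iv4 F1776) D1800 (iv5 D954) D953 F1785
def n1801 : Q := act 2 n946
theorem D1801 : act 2 n946 = n1801 := rfl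
theorem F3068 : act 7 n947 = n1801 := d15_2 (iv0 D946) D947 (iv2 D1801)
def n1802 : Q := act 3 n946
theorem D1802 : act 3 n946 = n1802 := rfl
def n1803 : Q := act 4 n946
theorem D1803 : act 4 n946 = n1803 := rfl
def n1804 : Q := act 5 n946
theorem D1804 : act 5 n946 = n1804 := rfl
def n1805 : Q := act 6 n946
theorem D1805 : act 6 n946 = n1805 := rfl
def n1806 : Q := act 7 n946
theorem D1806 : act 7 n946 = n1806 := rfl
theorem F3069 : act 2 n1806 = n947 := d4_1 D1806 F3068 (iv2 D1801)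
def n1807 : Q := act 3 n947
theorem D1807 : act 3 n947 = n1807 := rfl
def n1808 : Q := act 4 n947
theorem D1808 : act 4 n947 = n1808 := rfl
theorem F3070 : act 3 n1739 = n1808 := d20_5 F1138 (iv1 F942) D609 D924 D1739 (iv4 D1808) (iv1 D947) F1142 (iv3 D622) D621
def n1809 : Q := act 5 n947
theorem D1809 : act 5 n947 = n1809 := rfl
def n1810 : Q := act 6 n947
theorem D1810 : act 6 n947 = n1810 := rfl
def n1811 : Q := act 5 n948
theorem D1811 : act 5 n948 = n1811 := rfl
theorem F3071 : act 2 n1811 = n949 := d2_1 D1811 (iv5 D949) D948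
theorem F3072 : act 3 n1811 = n1811 := d6_1 D1811 (iv5 D1811) F1779
def n1812 : Q := act 6 n948
theorem D1812 : act 6 n948 = n1812 := rfl
theorem F3073 : act 2 n1812 = n950 := d3_1 D1812 (iv6 D950) D948
theorem F3074 : act 3 n1812 = n1812 := d7_1 D1812 (iv6 D1812) F1779
theorem F3075 : act 4 n1812 = n1812 := d10_1 D1812 (iv6 D1812) F1780
def n1813 : Q := act 0 n949
theorem D1813 : act 0 n949 = n1813 := rfl
def n1814 : Q := act 1 n949
theorem D1814 : act 1 n949 = n1814 := rfl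
def n1815 : Q := act 4 n949
theorem D1815 : act 4 n949 = n1815 := rfl
def n1816 : Q := act 6 n949
theorem D1816 : act 6 n949 = n1816 := rfl
theorem F3076 : act 3 n1816 = n951 := d7_1 D1816 (iv6 D951) (iv3 F1781)
def n1817 : Q := act 0 n950
theorem D1817 : act 0 n950 = n1817 := rfl
def n1818 : Q := act 1 n950
theorem D1818 : act 1 n950 = n1818 := rfl
def n1819 : Q := act 5 n950
theorem D1819 : act 5 n950 = n1819 := rfl
theorem F3077 : act 3 n1819 = n954 := d6_1 D1819 (iv5 D954) (iv3 F1782)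
def n1820 : Q := act 7 n950
theorem D1820 : act 7 n950 = n1820 := rfl
theorem F3078 : act 3 n1820 = n955 := d8_1 D1820 (iv7 D955) (iv3 F1782)
theorem F3079 : act 4 n1820 = n1820 := d11_1 D1820 (iv7 D1820) F1783
def n1821 : Q := act 0 n951
theorem D1821 : act 0 n951 = n1821 := rfl
def n1822 : Q := act 1 n951
theorem D1822 : act 1 n951 = n1822 := rfl
def n1823 : Q := act 5 n951
theorem D1823 : act 5 n951 = n1823 := rfl
theorem F3080 : act 2 n1823 = n1823 := d2_1 D1823 (iv5 D1823) F1784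
theorem F3081 : act 6 n1823 = n954 := d12_2 D951 D1823 (iv5 D954) (iv6 D624) D623
def n1824 : Q := act 7 n951
theorem D1824 : act 7 n951 = n1824 := rfl
theorem F3082 : act 2 n1824 = n1824 := d4_1 D1824 (iv7 D1824) F1784
theorem F3083 : act 1 n1824 = n1821 := d15_0 (iv0 D1821) D1824 F3082
theorem F3084 : act 1 n1822 = n1824 := d15_1 D1822 (iv7 D1824) F1784
def n1825 : Q := act 3 n952
theorem D1825 : act 3 n952 = n1825 := rfl
def n1826 : Q := act 5 n952
theorem D1826 : act 5 n952 = n1826 := rfl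
theorem F3085 : act 2 n1826 = n1826 := d2_1 D1826 (iv5 D1826) F2986
theorem F3086 : act 0 n1826 = n968 := d17_2 D952 D1826 (iv5 D968) F1160 F587 D626 (iv5 F1147) (iv0 D625) (iv4 F1146)
theorem E369 : n1744 = n981 := ((c21_5 D916 F1719 (iv5 D635) D636 D981 F3005 D1826 F3086 (iv5 D968) (iv6 D630) (iv1 F938))).symm
theorem F3087 : act 2 n981 = n981 := (sb E369 (tr F3004 E369))
theorem F3088 : act 4 n981 = n927 := (sb E369 (iv4 D1744))
theorem F3089 : act 6 n981 = n952 := (sb E369 F3005)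
theorem F3090 : act 7 n981 = n981 := (sb E369 (tr F3006 E369))
theorem E370 : n1664 = n1649 := (c20_8 (iv4 F1176) D981 F3088 (iv3 F2951) (iv1 F2922) F2846 F2847 D1664 (iv4 D1649) (iv3 F2881) F1180)
theorem F3091 : act 0 n1649 = n1224 := (sb E370 (iv1 F2850))
theorem F3092 : act 1 n1649 = n888 := (sb E370 (iv0 D1664))
theorem E371 : n997 = n984 := ((c20_1 D984 (iv1 F1878) F1190 (iv3 F1705) D1712 F2951 (iv4 F3088) (iv1 F1850) F1176 F595 D637)).symm
theorem F3093 : act 0 n984 = n642 := (sb E371 (iv1 F1878))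
theorem F3094 : act 1 n984 = n642 := (sb E371 (iv0 D997))
theorem F3095 : act 4 n1645 = n1712 := d20_8 (iv4 F1190) (iv1 F3094) (iv4 D984) F2881 (iv1 F1641) F1395 (iv4 F1639) D1645 F2951 F1746
theorem F3096 : act 4 n1646 = n1713 := d20_2 (iv4 F2280) (iv1 F2825) F2994 (iv1 D1713) F1705 (iv4 F1190) (iv1 F3094) (iv4 D984) F2881 (iv1 F1641)
theorem F3097 : act 2 n1645 = n1646 := d1_3 F3096 F2990 (iv4 F3095)
theorem F3098 : act 6 n1603 = n1646 := d10_0 F3096 (iv6 F2926) (iv4 F2995)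
theorem F3099 : act 7 n1646 = n1646 := d11_0 F3096 F2993 (iv4 F3096)
theorem E372 : n1665 = n1651 := (c20_2 (iv4 F2292) (iv1 F2851) (iv4 D1651) F2882 (iv1 D882) (iv3 F1395) (iv4 F2280) (iv1 F2825) F3096 F2994 (iv1 D1713))
theorem F3100 : act 0 n1651 = n888 := (sb E372 (iv1 D1665))
theorem F3101 : act 1 n1651 = n1224 := (sb E372 F2851)
theorem F3102 : act 7 n1645 = n1645 := d4_2 F3099 (iv2 F3097) F3097
def n1827 : Q := act 3 n953
theorem D1827 : act 3 n953 = n1827 := rfl
theorem F3103 : act 6 n1827 = n1827 := d7_2 F1786 D1827 (iv3 D1827)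
theorem F3104 : act 7 n1827 = n1825 := d8_2 F2984 D1827 (iv3 D1825)
def n1828 : Q := act 5 n953
theorem D1828 : act 5 n953 = n1828 := rfl
theorem F3105 : act 2 n1828 = n1828 := d2_1 D1828 (iv5 D1828) F2985
theorem F3106 : act 7 n1828 = n1826 := d13_2 F2984 D1828 (iv5 D1826)
theorem F3107 : act 1 n1828 = n968 := d17_6 F1127 F965 D921 F1730 (iv4 F1785) D1828 (iv5 D968) (iv0 F1753) F1752
def n1829 : Q := act 4 n954
theorem D1829 : act 4 n954 = n1829 := rfl
theorem F3108 : act 2 n1829 = n1829 := d1_1 D1829 (iv4 D1829) F1787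
def n1830 : Q := act 7 n954
theorem D1830 : act 7 n954 = n1830 := rfl
theorem F3109 : act 2 n1830 = n1830 := d4_1 D1830 (iv7 D1830) F1787
theorem F3110 : act 5 n1830 = n955 := d13_1 D1830 (iv7 D955) D954
theorem F3111 : act 1 n1830 = n1800 := d15_0 F3067 D1830 F3109
theorem F3112 : act 1 n1767 = n1830 := d15_1 (iv0 F3025) (iv7 D1830) F1787
def n1831 : Q := act 4 n957
theorem D1831 : act 4 n957 = n1831 := rfl
theorem F3113 : act 2 n1831 = n1609 := d1_1 D1831 (iv4 D1609) (iv2 F2877)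
theorem F3114 : act 6 n1831 = n1649 := d10_2 F2880 D1831 (iv4 D1649)
theorem F3115 : act 7 n1831 = n1612 := d11_2 (iv7 F2879) D1831 (iv4 D1612)
theorem F3116 : act 0 n1706 = n1831 := d20_1 (iv4 F2914) (iv4 D1831) (iv3 D957) (iv1 F1151) F1150 (iv4 F1789) (iv1 F1791) F1785 (iv3 F2949) (iv1 D1708)
theorem F3117 : act 1 n1609 = n1559 := d15_0 (iv0 F2873) (iv7 F3115) F3113
def n1832 : Q := act 3 n958
theorem D1832 : act 3 n958 = n1832 := rfl
def n1833 : Q := act 5 n958
theorem D1833 : act 5 n958 = n1833 := rfl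
theorem F3118 : act 2 n1833 = n1833 := d2_1 D1833 (iv5 D1833) F1802
theorem F3119 : act 0 n1833 = n1743 := d17_2 (iv1 F1810) D1833 (iv5 D1743) F1737 F965 D922 (iv5 F1730) (iv0 D921) (iv4 F1729)
def n1834 : Q := act 3 n961
theorem D1834 : act 3 n961 = n1834 := rfl
theorem F3120 : act 6 n1834 = n1834 := d7_2 F1807 D1834 (iv3 D1834)
theorem F3121 : act 7 n1834 = n1832 := d8_2 (iv7 F1808) D1834 (iv3 D1832)
def n1835 : Q := act 5 n961
theorem D1835 : act 5 n961 = n1835 := rfl
theorem F3122 : act 2 n1835 = n1835 := d2_1 D1835 (iv5 D1835) F1806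
theorem F3123 : act 7 n1835 = n1833 := d13_2 (iv7 F1808) D1835 (iv5 D1833)
theorem F3124 : act 1 n1835 = n1743 := d17_6 F608 F587 D625 F1147 D961 D1835 (iv5 D1743) (iv0 F1738) F1213
def n1836 : Q := act 2 n962
theorem D1836 : act 2 n962 = n1836 := rfl
theorem F3125 : act 7 n963 = n1836 := d15_2 (iv0 D962) D963 (iv2 D1836)
def n1837 : Q := act 3 n962
theorem D1837 : act 3 n962 = n1837 := rfl
def n1838 : Q := act 4 n962
theorem D1838 : act 4 n962 = n1838 := rfl
def n1839 : Q := act 5 n962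
theorem D1839 : act 5 n962 = n1839 := rfl
def n1840 : Q := act 6 n962
theorem D1840 : act 6 n962 = n1840 := rfl
def n1841 : Q := act 7 n962
theorem D1841 : act 7 n962 = n1841 := rfl
theorem F3126 : act 2 n1841 = n963 := d4_1 D1841 F3125 (iv2 D1836)
def n1842 : Q := act 3 n963
theorem D1842 : act 3 n963 = n1842 := rfl
def n1843 : Q := act 4 n963
theorem D1843 : act 4 n963 = n1843 := rfl
theorem F3127 : act 3 n1731 = n1843 := d20_5 (iv4 D595) (iv1 F540) D602 D919 D1731 (iv4 D1843) (iv1 D963) F1153 (iv3 D628) (iv1 F938)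
def n1844 : Q := act 5 n963
theorem D1844 : act 5 n963 = n1844 := rfl
def n1845 : Q := act 6 n963
theorem D1845 : act 6 n963 = n1845 := rfl
def n1846 : Q := act 5 n964
theorem D1846 : act 5 n964 = n1846 := rfl
theorem F3128 : act 2 n1846 = n965 := d2_1 D1846 (iv5 D965) D964
theorem F3129 : act 3 n1846 = n1846 := d6_1 D1846 (iv5 D1846) F1812
theorem F3130 : act 7 n1846 = n1811 := d13_2 (iv7 F1814) D1846 (iv5 D1811)
theorem F3131 : act 1 n1814 = n1846 := d15_1 D1814 F3130 F3071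
theorem F3132 : act 1 n1846 = n1813 := d15_0 (iv0 D1813) (iv7 F1819) (iv2 F3128)
def n1847 : Q := act 6 n964
theorem D1847 : act 6 n964 = n1847 := rfl
theorem F3133 : act 2 n1847 = n966 := d3_1 D1847 (iv6 D966) D964
theorem F3134 : act 3 n1847 = n1847 := d7_1 D1847 (iv6 D1847) F1812
theorem F3135 : act 4 n1847 = n1847 := d10_1 D1847 (iv6 D1847) F1813
def n1848 : Q := act 0 n965
theorem D1848 : act 0 n965 = n1848 := rfl
theorem F3136 : act 1 n1811 = n1848 := d15_0 (iv0 D1848) F1819 (iv2 F3071)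
def n1849 : Q := act 1 n965
theorem D1849 : act 1 n965 = n1849 := rfl
theorem F3137 : act 1 n1849 = n1811 := d15_1 D1849 (iv7 F3130) F3128
def n1850 : Q := act 4 n965
theorem D1850 : act 4 n965 = n1850 := rfl
theorem F3138 : act 3 n1850 = n1815 := d5_1 D1850 (iv4 D1815) F1781 (iv4 F1157) (iv3 F1818)
theorem F3139 : act 7 n1850 = n1815 := d11_2 (iv7 F1819) D1850 (iv4 D1815)
def n1851 : Q := act 6 n965
theorem D1851 : act 6 n965 = n1851 := rfl
theorem F3140 : act 3 n1851 = n967 := d7_1 D1851 (iv6 D967) (iv3 F1818)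
def n1852 : Q := act 0 n966
theorem D1852 : act 0 n966 = n1852 := rfl
def n1853 : Q := act 1 n966
theorem D1853 : act 1 n966 = n1853 := rfl
def n1854 : Q := act 5 n966
theorem D1854 : act 5 n966 = n1854 := rfl
theorem F3141 : act 3 n1854 = n968 := d6_1 D1854 (iv5 D968) (iv3 F1820)
def n1855 : Q := act 7 n966
theorem D1855 : act 7 n966 = n1855 := rfl
theorem F3142 : act 3 n1855 = n969 := d8_1 D1855 (iv7 D969) (iv3 F1820)
theorem F3143 : act 4 n1855 = n1855 := d11_1 D1855 (iv7 D1855) F1821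
theorem F3144 : act 6 n1855 = n1820 := d14_1 D1855 (iv7 D1820) (iv6 D950) (iv7 F1154) D966
def n1856 : Q := act 0 n967
theorem D1856 : act 0 n967 = n1856 := rfl
def n1857 : Q := act 1 n967
theorem D1857 : act 1 n967 = n1857 := rfl
def n1858 : Q := act 5 n967
theorem D1858 : act 5 n967 = n1858 := rfl
theorem F3145 : act 2 n1858 = n1858 := d2_1 D1858 (iv5 D1858) F1822
theorem F3146 : act 6 n1858 = n968 := d12_2 D967 D1858 (iv5 D968) (iv6 D630) D629
def n1859 : Q := act 7 n967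
theorem D1859 : act 7 n967 = n1859 := rfl
theorem F3147 : act 2 n1859 = n1859 := d4_1 D1859 (iv7 D1859) F1822
theorem F3148 : act 4 n1859 = n1824 := d11_1 D1859 (iv7 D1824) (iv4 F1823)
theorem F3149 : act 6 n1859 = n1824 := d14_1 D1859 (iv7 D1824) (iv6 D951) (iv7 F1156) D967
theorem F3150 : act 1 n1859 = n1856 := d15_0 (iv0 D1856) D1859 F3147
theorem F3151 : act 1 n1857 = n1859 := d15_1 D1857 (iv7 D1859) F1822
def n1860 : Q := act 4 n968
theorem D1860 : act 4 n968 = n1860 := rfl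
theorem F3152 : act 2 n1860 = n1860 := d1_1 D1860 (iv4 D1860) F1824
def n1861 : Q := act 7 n968
theorem D1861 : act 7 n968 = n1861 := rfl
theorem F3153 : act 2 n1861 = n1861 := d4_1 D1861 (iv7 D1861) F1824
theorem F3154 : act 5 n1861 = n969 := d13_1 D1861 (iv7 D969) D968
theorem F3155 : act 1 n1861 = n1828 := d15_0 F3107 D1861 F3153
theorem F3156 : act 1 n1826 = n1861 := d15_1 (iv0 F3086) (iv7 D1861) F1824
def n1862 : Q := act 2 n970
theorem D1862 : act 2 n970 = n1862 := rfl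
theorem F3157 : act 7 n971 = n1862 := d15_2 (iv0 D970) D971 (iv2 D1862)
def n1863 : Q := act 3 n970
theorem D1863 : act 3 n970 = n1863 := rfl
def n1864 : Q := act 4 n970
theorem D1864 : act 4 n970 = n1864 := rfl
def n1865 : Q := act 5 n970
theorem D1865 : act 5 n970 = n1865 := rfl
def n1866 : Q := act 6 n970
theorem D1866 : act 6 n970 = n1866 := rfl
def n1867 : Q := act 7 n970
theorem D1867 : act 7 n970 = n1867 := rfl
theorem F3158 : act 2 n1867 = n971 := d4_1 D1867 F3157 (iv2 D1862)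
def n1868 : Q := act 3 n971
theorem D1868 : act 3 n971 = n1868 := rfl
def n1869 : Q := act 4 n971
theorem D1869 : act 4 n971 = n1869 := rfl
theorem F3159 : act 3 n990 = n1869 := d20_5 F1121 (iv1 F559) (iv4 F600) D640 D990 (iv4 D1869) (iv1 D971) F1167 (iv3 D632) (iv1 F1122)
def n1870 : Q := act 5 n971
theorem D1870 : act 5 n971 = n1870 := rfl
def n1871 : Q := act 6 n971
theorem D1871 : act 6 n971 = n1871 := rfl
def n1872 : Q := act 5 n972
theorem D1872 : act 5 n972 = n1872 := rfl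
theorem F3160 : act 2 n1872 = n973 := d2_1 D1872 (iv5 D973) D972
theorem F3161 : act 3 n1872 = n1872 := d6_1 D1872 (iv5 D1872) F1830
def n1873 : Q := act 0 n973
theorem D1873 : act 0 n973 = n1873 := rfl
def n1874 : Q := act 1 n973
theorem D1874 : act 1 n973 = n1874 := rfl
def n1875 : Q := act 4 n973
theorem D1875 : act 4 n973 = n1875 := rfl
def n1876 : Q := act 6 n973
theorem D1876 : act 6 n973 = n1876 := rfl
theorem F3162 : act 3 n1876 = n974 := d7_1 D1876 (iv6 D974) (iv3 F1833)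
theorem F3163 : act 5 n1876 = n1876 := d12_1 D1876 (iv6 D1876) (iv5 D973) F1168 D973
def n1877 : Q := act 0 n974
theorem D1877 : act 0 n974 = n1877 := rfl
def n1878 : Q := act 1 n974
theorem D1878 : act 1 n974 = n1878 := rfl
def n1879 : Q := act 7 n974
theorem D1879 : act 7 n974 = n1879 := rfl
theorem F3164 : act 2 n1879 = n1879 := d4_1 D1879 (iv7 D1879) F1834
theorem F3165 : act 5 n1879 = n1879 := d13_1 D1879 (iv7 D1879) F1835
theorem F3166 : act 1 n1879 = n1877 := d15_0 (iv0 D1877) D1879 F3164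
theorem F3167 : act 1 n1878 = n1879 := d15_1 D1878 (iv7 D1879) F1834
def n1880 : Q := act 2 n975
theorem D1880 : act 2 n975 = n1880 := rfl
def n1881 : Q := act 3 n975
theorem D1881 : act 3 n975 = n1881 := rfl
theorem F3169 : act 4 n1881 = n1653 := d20_6 F603 F322 D337 D634 D975 D1881 (iv1 D1653) F1646 (iv3 D638) (iv1 F604)
def n1882 : Q := act 4 n975
theorem D1882 : act 4 n975 = n1882 := rfl
def n1883 : Q := act 5 n975
theorem D1883 : act 5 n975 = n1883 := rfl
def n1884 : Q := act 6 n975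
theorem D1884 : act 6 n975 = n1884 := rfl
def n1885 : Q := act 7 n975
theorem D1885 : act 7 n975 = n1885 := rfl
def n1886 : Q := act 3 n976
theorem D1886 : act 3 n976 = n1886 := rfl
def n1887 : Q := act 4 n976
theorem D1887 : act 4 n976 = n1887 := rfl
theorem F3171 : act 3 n985 = n1887 := d20_5 (iv4 D318) D316 (iv4 F598) D638 D985 (iv4 D1887) (iv1 D976) F1170 (iv3 D634) F593
def n1888 : Q := act 5 n976
theorem D1888 : act 5 n976 = n1888 := rfl
def n1889 : Q := act 6 n976
theorem D1889 : act 6 n976 = n1889 := rfl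
def n1890 : Q := act 5 n977
theorem D1890 : act 5 n977 = n1890 := rfl
theorem F3172 : act 2 n1890 = n978 := d2_1 D1890 (iv5 D978) D977
theorem F3173 : act 3 n1890 = n1890 := d6_1 D1890 (iv5 D1890) F1837
theorem F3174 : act 7 n1890 = n1872 := d13_2 (iv7 F1839) D1890 (iv5 D1872)
theorem F3175 : act 1 n1874 = n1890 := d15_1 D1874 F3174 F3160
theorem F3176 : act 1 n1890 = n1873 := d15_0 (iv0 D1873) (iv7 F1844) (iv2 F3172)
def n1891 : Q := act 6 n977
theorem D1891 : act 6 n977 = n1891 := rfl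
theorem F3177 : act 2 n1891 = n979 := d3_1 D1891 (iv6 D979) D977
theorem F3178 : act 3 n1891 = n1891 := d7_1 D1891 (iv6 D1891) F1837
theorem F3179 : act 4 n1891 = n1891 := d10_1 D1891 (iv6 D1891) F1838
theorem F3180 : act 7 n1891 = n1891 := d14_2 (iv7 F1839) D1891 (iv6 D1891) F1839 F1832
def n1892 : Q := act 0 n978
theorem D1892 : act 0 n978 = n1892 := rfl
theorem F3181 : act 1 n1872 = n1892 := d15_0 (iv0 D1892) F1844 (iv2 F3160)
def n1893 : Q := act 1 n978
theorem D1893 : act 1 n978 = n1893 := rfl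
theorem F3182 : act 1 n1893 = n1872 := d15_1 D1893 (iv7 F3174) F3172
def n1894 : Q := act 4 n978
theorem D1894 : act 4 n978 = n1894 := rfl
theorem F3183 : act 3 n1894 = n1875 := d5_1 D1894 (iv4 D1875) F1833 (iv4 F1174) (iv3 F1843)
theorem F3184 : act 7 n1894 = n1875 := d11_2 (iv7 F1844) D1894 (iv4 D1875)
def n1895 : Q := act 6 n978
theorem D1895 : act 6 n978 = n1895 := rfl
theorem F3185 : act 3 n1895 = n980 := d7_1 D1895 (iv6 D980) (iv3 F1843)
def n1896 : Q := act 0 n979
theorem D1896 : act 0 n979 = n1896 := rfl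
theorem F3186 : act 1 n1891 = n1896 := d15_0 (iv0 D1896) F1847 (iv2 F3177)
def n1897 : Q := act 1 n979
theorem D1897 : act 1 n979 = n1897 := rfl
theorem F3187 : act 1 n1897 = n1891 := d15_1 D1897 F3180 F3177
def n1898 : Q := act 5 n979
theorem D1898 : act 5 n979 = n1898 := rfl
theorem F3188 : act 3 n1898 = n982 := d6_1 D1898 (iv5 D982) (iv3 F1845)
theorem F3189 : act 7 n1898 = n1898 := d13_2 F1847 D1898 (iv5 D1898)
def n1899 : Q := act 0 n980
theorem D1899 : act 0 n980 = n1899 := rfl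
def n1900 : Q := act 1 n980
theorem D1900 : act 1 n980 = n1900 := rfl
def n1901 : Q := act 5 n980
theorem D1901 : act 5 n980 = n1901 := rfl
theorem F3190 : act 2 n1901 = n1901 := d2_1 D1901 (iv5 D1901) F1848
theorem F3191 : act 6 n1901 = n982 := d12_2 D980 D1901 (iv5 D982) (iv6 D636) D635
def n1902 : Q := act 7 n980
theorem D1902 : act 7 n980 = n1902 := rfl
theorem F3192 : act 2 n1902 = n1902 := d4_1 D1902 (iv7 D1902) F1848
theorem F3193 : act 4 n1902 = n1879 := d11_1 D1902 (iv7 D1879) (iv4 F1849)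
theorem F3194 : act 6 n1902 = n1879 := d14_1 D1902 (iv7 D1879) (iv6 D974) (iv7 F1173) D980
theorem F3195 : act 1 n1902 = n1899 := d15_0 (iv0 D1899) D1902 F3192
theorem F3196 : act 1 n1900 = n1902 := d15_1 D1900 (iv7 D1902) F1848
def n1903 : Q := act 3 n981
theorem D1903 : act 3 n981 = n1903 := rfl
theorem F3197 : act 6 n1903 = n1825 := d7_2 (iv6 F3089) D1903 (iv3 D1825)
theorem F3198 : act 7 n1903 = n1903 := d8_2 F3090 D1903 (iv3 D1903)
def n1904 : Q := act 5 n981
theorem D1904 : act 5 n981 = n1904 := rfl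
theorem F3199 : act 2 n1904 = n1904 := d2_1 D1904 (iv5 D1904) F3087
theorem F3200 : act 7 n1904 = n1904 := d13_2 F3090 D1904 (iv5 D1904)
theorem F3201 : act 0 n1904 = n982 := d17_2 D981 D1904 (iv5 D982) F1176 F596 (iv0 F1180) F1179 (iv0 D637) (iv4 F1176)
theorem F3202 : act 1 n1904 = n982 := d17_6 F1746 F1117 D927 F1745 (iv4 F3088) D1904 (iv5 D982) F1850 F3088
def n1905 : Q := act 4 n982
theorem D1905 : act 4 n982 = n1905 := rfl
theorem F3203 : act 2 n1905 = n1905 := d1_1 D1905 (iv4 D1905) F1851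
theorem F3204 : act 7 n1905 = n1905 := d11_2 F1852 D1905 (iv4 D1905)
def n1906 : Q := act 3 n984
theorem D1906 : act 3 n984 = n1906 := rfl
theorem F3206 : act 6 n1906 = n1832 := d7_2 (iv6 F1857) D1906 (iv3 D1832)
theorem F3207 : act 7 n1906 = n1906 := d8_2 F1858 D1906 (iv3 D1906)
def n1907 : Q := act 5 n984
theorem D1907 : act 5 n984 = n1907 := rfl
theorem F3208 : act 2 n1907 = n1907 := d2_1 D1907 (iv5 D1907) F1856
theorem F3210 : act 0 n1907 = n998 := d17_2 (iv1 F3094) D1907 (iv5 D998) F1190 F1117 (iv0 F1746) F1745 (iv0 D927) (iv4 F1190)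
theorem F3211 : act 1 n1907 = n998 := d17_6 F1180 F596 D637 F1179 D984 D1907 (iv5 D998) (iv0 F3093) (iv4 D984)
def n1908 : Q := act 2 n985
theorem D1908 : act 2 n985 = n1908 := rfl
theorem F3212 : act 7 n986 = n1908 := d15_2 (iv0 D985) D986 (iv2 D1908)
def n1909 : Q := act 4 n985
theorem D1909 : act 4 n985 = n1909 := rfl
def n1910 : Q := act 5 n985
theorem D1910 : act 5 n985 = n1910 := rfl
def n1911 : Q := act 6 n985
theorem D1911 : act 6 n985 = n1911 := rfl
def n1912 : Q := act 7 n985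
theorem D1912 : act 7 n985 = n1912 := rfl
def n1913 : Q := act 3 n986
theorem D1913 : act 3 n986 = n1913 := rfl
def n1914 : Q := act 4 n986
theorem D1914 : act 4 n986 = n1914 := rfl
theorem F3214 : act 3 n1639 = n1914 := d20_5 F1410 (iv1 F712) D560 D878 D1639 (iv4 D1914) (iv1 D986) (iv4 F1646) (iv3 D883) (iv1 F1412)
def n1915 : Q := act 5 n986
theorem D1915 : act 5 n986 = n1915 := rfl
def n1916 : Q := act 6 n986
theorem D1916 : act 6 n986 = n1916 := rfl
def n1917 : Q := act 5 n987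
theorem D1917 : act 5 n987 = n1917 := rfl
theorem F3215 : act 2 n1917 = n988 := d2_1 D1917 (iv5 D988) D987
theorem F3216 : act 3 n1917 = n1917 := d6_1 D1917 (iv5 D1917) F1859
def n1918 : Q := act 0 n988
theorem D1918 : act 0 n988 = n1918 := rfl
def n1919 : Q := act 1 n988
theorem D1919 : act 1 n988 = n1919 := rfl
def n1920 : Q := act 4 n988
theorem D1920 : act 4 n988 = n1920 := rfl
def n1921 : Q := act 6 n988
theorem D1921 : act 6 n988 = n1921 := rfl
theorem F3217 : act 3 n1921 = n989 := d7_1 D1921 (iv6 D989) (iv3 F1861)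
theorem F3218 : act 5 n1921 = n1921 := d12_1 D1921 (iv6 D1921) (iv5 D988) F1181 D988
def n1922 : Q := act 0 n989
theorem D1922 : act 0 n989 = n1922 := rfl
def n1923 : Q := act 1 n989
theorem D1923 : act 1 n989 = n1923 := rfl
def n1924 : Q := act 7 n989
theorem D1924 : act 7 n989 = n1924 := rfl
theorem F3219 : act 2 n1924 = n1924 := d4_1 D1924 (iv7 D1924) F1862
theorem F3220 : act 5 n1924 = n1924 := d13_1 D1924 (iv7 D1924) F1863
theorem F3221 : act 1 n1924 = n1922 := d15_0 (iv0 D1922) D1924 F3219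
theorem F3222 : act 1 n1923 = n1924 := d15_1 D1923 (iv7 D1924) F1862
def n1925 : Q := act 2 n990
theorem D1925 : act 2 n990 = n1925 := rfl
theorem F3223 : act 7 n991 = n1925 := d15_2 (iv0 D990) D991 (iv2 D1925)
def n1926 : Q := act 4 n990
theorem D1926 : act 4 n990 = n1926 := rfl
def n1927 : Q := act 5 n990
theorem D1927 : act 5 n990 = n1927 := rfl
def n1928 : Q := act 6 n990
theorem D1928 : act 6 n990 = n1928 := rfl
def n1929 : Q := act 7 n990
theorem D1929 : act 7 n990 = n1929 := rfl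
theorem F3224 : act 2 n1929 = n991 := d4_1 D1929 F3223 (iv2 D1925)
def n1930 : Q := act 3 n991
theorem D1930 : act 3 n991 = n1930 := rfl
def n1931 : Q := act 4 n991
theorem D1931 : act 4 n991 = n1931 := rfl
def n1932 : Q := act 5 n991
theorem D1932 : act 5 n991 = n1932 := rfl
def n1933 : Q := act 6 n991
theorem D1933 : act 6 n991 = n1933 := rfl
def n1934 : Q := act 4 n992
theorem D1934 : act 4 n992 = n1934 := rfl
theorem F3225 : act 2 n1934 = n993 := d1_1 D1934 (iv4 D993) D992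
theorem F3226 : act 7 n1934 = n1654 := d11_2 (iv7 F1866) D1934 F2836
theorem F3227 : act 0 n1934 = n1653 := d20_1 D1934 (iv4 F3169) (iv3 D1881) (iv1 F1836) F1830 F1831 (iv1 F1841) D1887 (iv3 F3171) (iv1 F1867)
theorem F3228 : act 3 n1659 = n1934 := d0_0 F3225 F1870 (iv2 F1405) D885 D1659
theorem F3229 : act 1 n1934 = n1652 := d15_0 (iv0 D1652) (iv7 F1871) (iv2 F3225)
def n1935 : Q := act 5 n992
theorem D1935 : act 5 n992 = n1935 := rfl
theorem F3230 : act 2 n1935 = n994 := d2_1 D1935 (iv5 D994) D992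
theorem F3231 : act 3 n1935 = n1935 := d6_1 D1935 (iv5 D1935) F1865
theorem F3232 : act 7 n1935 = n1917 := d13_2 (iv7 F1866) D1935 (iv5 D1917)
theorem F3233 : act 1 n1919 = n1935 := d15_1 D1919 F3232 F3215
theorem F3234 : act 1 n1935 = n1918 := d15_0 (iv0 D1918) (iv7 F1873) (iv2 F3230)
def n1936 : Q := act 6 n992
theorem D1936 : act 6 n992 = n1936 := rfl
theorem F3235 : act 2 n1936 = n995 := d3_1 D1936 (iv6 D995) D992
theorem F3236 : act 3 n1936 = n1936 := d7_1 D1936 (iv6 D1936) F1865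
theorem F3237 : act 7 n1936 = n1936 := d14_2 (iv7 F1866) D1936 (iv6 D1936) F1866 F1860
def n1937 : Q := act 0 n993
theorem D1937 : act 0 n993 = n1937 := rfl
theorem F3238 : act 1 n1654 = n1937 := d15_0 (iv0 D1937) F1871 D1654
def n1938 : Q := act 1 n993
theorem D1938 : act 1 n993 = n1938 := rfl
theorem F3239 : act 1 n1938 = n1654 := d15_1 D1938 (iv7 F3226) F3225
theorem F3240 : act 4 n1863 = n1938 := d20_6 (iv4 D110) D108 D336 D632 D970 D1863 (iv1 D1938) (iv4 D993) (iv3 D640) (iv1 D340)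
def n1939 : Q := act 5 n993
theorem D1939 : act 5 n993 = n1939 := rfl
theorem F3241 : act 3 n1939 = n1223 := d6_1 D1939 (iv5 D1223) (iv3 F1870)
theorem F3242 : act 7 n1939 = n1655 := d13_2 (iv7 F1871) D1939 (iv5 D1655)
def n1940 : Q := act 6 n993
theorem D1940 : act 6 n993 = n1940 := rfl
theorem F3243 : act 3 n1940 = n1224 := d7_1 D1940 (iv6 D1224) (iv3 F1870)
theorem F3244 : act 4 n1940 = n995 := d10_1 D1940 (iv6 D995) D993
theorem F3245 : act 7 n1940 = n1940 := d14_2 (iv7 F1871) D1940 (iv6 D1940) F1871 F1647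
def n1941 : Q := act 0 n994
theorem D1941 : act 0 n994 = n1941 := rfl
theorem F3246 : act 1 n1917 = n1941 := d15_0 (iv0 D1941) F1873 (iv2 F3215)
def n1942 : Q := act 1 n994
theorem D1942 : act 1 n994 = n1942 := rfl
theorem F3247 : act 1 n1942 = n1917 := d15_1 D1942 (iv7 F3232) F3230
def n1943 : Q := act 4 n994
theorem D1943 : act 4 n994 = n1943 := rfl
theorem F3248 : act 3 n1943 = n1920 := d5_1 D1943 (iv4 D1920) F1861 (iv4 F1187) (iv3 F1872)
theorem F3249 : act 7 n1943 = n1920 := d11_2 (iv7 F1873) D1943 (iv4 D1920)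
def n1944 : Q := act 6 n994
theorem D1944 : act 6 n994 = n1944 := rfl
theorem F3250 : act 3 n1944 = n996 := d7_1 D1944 (iv6 D996) (iv3 F1872)
def n1945 : Q := act 0 n995
theorem D1945 : act 0 n995 = n1945 := rfl
theorem F3251 : act 1 n1936 = n1945 := d15_0 (iv0 D1945) F1875 (iv2 F3235)
def n1946 : Q := act 1 n995
theorem D1946 : act 1 n995 = n1946 := rfl
theorem F3252 : act 1 n1946 = n1936 := d15_1 D1946 F3237 F3235
def n1947 : Q := act 5 n995
theorem D1947 : act 5 n995 = n1947 := rfl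
theorem F3253 : act 3 n1947 = n998 := d6_1 D1947 (iv5 D998) (iv3 F1874)
theorem F3254 : act 7 n1947 = n1947 := d13_2 F1875 D1947 (iv5 D1947)
def n1948 : Q := act 0 n996
theorem D1948 : act 0 n996 = n1948 := rfl
def n1949 : Q := act 1 n996
theorem D1949 : act 1 n996 = n1949 := rfl
def n1950 : Q := act 5 n996
theorem D1950 : act 5 n996 = n1950 := rfl
theorem F3255 : act 2 n1950 = n1950 := d2_1 D1950 (iv5 D1950) F1876
theorem F3256 : act 6 n1950 = n998 := d12_2 D996 D1950 (iv5 D998) (iv6 D642) D641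
def n1951 : Q := act 7 n996
theorem D1951 : act 7 n996 = n1951 := rfl
theorem F3257 : act 2 n1951 = n1951 := d4_1 D1951 (iv7 D1951) F1876
theorem F3258 : act 4 n1951 = n1924 := d11_1 D1951 (iv7 D1924) (iv4 F1877)
theorem F3259 : act 6 n1951 = n1924 := d14_1 D1951 (iv7 D1924) (iv6 D989) (iv7 F1186) D996
theorem F3260 : act 1 n1951 = n1948 := d15_0 (iv0 D1948) D1951 F3257
theorem F3261 : act 1 n1949 = n1951 := d15_1 D1949 (iv7 D1951) F1876
def n1952 : Q := act 4 n998
theorem D1952 : act 4 n998 = n1952 := rfl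
theorem F3264 : act 5 n1952 = n1952 := d16_1 D1952 (iv4 D1952) (iv5 D998) F1190 F1117 (iv4 F1190) D998 F1880 F1879
def n1953 : Q := act 5 n999
theorem D1953 : act 5 n999 = n1953 := rfl
theorem F3265 : act 2 n1953 = n1017 := d2_1 D1953 F1893 F1881
theorem F3266 : act 3 n1953 = n1953 := d6_1 D1953 (iv5 D1953) F1882
theorem F3267 : act 7 n1953 = n1012 := d13_2 (iv7 F1883) D1953 (iv5 D1012)
theorem F3268 : act 1 n1014 = n1953 := d15_1 D1014 F3267 F1889
theorem F3269 : act 1 n1953 = n1013 := d15_0 (iv0 D1013) D1017 (iv2 F3265)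
def n1954 : Q := act 6 n999
theorem D1954 : act 6 n999 = n1954 := rfl
theorem F3270 : act 2 n1954 = n1018 := d3_1 D1954 (iv6 D1018) F1881
theorem F3271 : act 3 n1954 = n1954 := d7_1 D1954 (iv6 D1954) F1882
def n1955 : Q := act 0 n1000
theorem D1955 : act 0 n1000 = n1955 := rfl
theorem F3272 : act 1 n1005 = n1955 := d15_0 (iv0 D1955) (iv7 F1885) (iv2 F1886)
def n1956 : Q := act 1 n1000
theorem D1956 : act 1 n1000 = n1956 := rfl
theorem F3273 : act 1 n1956 = n1005 := d15_1 D1956 (iv7 D1005) D1000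
def n1957 : Q := act 3 n1000
theorem D1957 : act 3 n1000 = n1957 := rfl
theorem F3274 : act 7 n1957 = n1006 := d8_2 F1885 D1957 (iv3 D1006)
def n1958 : Q := act 4 n1000
theorem D1958 : act 4 n1000 = n1958 := rfl
theorem F3275 : act 2 n1958 = n1002 := d1_1 D1958 (iv4 D1002) D1000
theorem F3276 : act 7 n1958 = n1007 := d11_2 F1885 D1958 (iv4 D1007)
def n1959 : Q := act 5 n1000
theorem D1959 : act 5 n1000 = n1959 := rfl
theorem F3277 : act 2 n1959 = n1003 := d2_1 D1959 (iv5 D1003) D1000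
theorem F3278 : act 7 n1959 = n1008 := d13_2 F1885 D1959 (iv5 D1008)
def n1960 : Q := act 6 n1000
theorem D1960 : act 6 n1000 = n1960 := rfl
theorem F3279 : act 2 n1960 = n1004 := d3_1 D1960 (iv6 D1004) D1000
def n1961 : Q := act 0 n1001
theorem D1961 : act 0 n1001 = n1961 := rfl
def n1962 : Q := act 1 n1001
theorem D1962 : act 1 n1001 = n1962 := rfl
def n1963 : Q := act 2 n1001
theorem D1963 : act 2 n1001 = n1963 := rfl
def n1964 : Q := act 4 n1001
theorem D1964 : act 4 n1001 = n1964 := rfl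
theorem F3280 : act 0 n1964 = n1718 := d20_7 (iv4 D337) (iv1 D109) D110 D341 D643 D1001 D1964 F2930 F1749 (iv1 F1123)
theorem F3281 : act 0 n1716 = n1964 := d20_1 (iv4 F2927) (iv4 D1964) (iv3 D1001) D999 F1882 (iv4 F2854) (iv1 F2856) D1675 (iv3 F3016) (iv1 D1757)
theorem F3282 : act 3 n1882 = n1962 := d20_9 D1964 F3280 F2930 F1749 (iv1 F1123) D634 F1170 D975 D1882 (iv1 D1962)
def n1965 : Q := act 5 n1001
theorem D1965 : act 5 n1001 = n1965 := rfl
theorem F3283 : act 3 n1965 = n1003 := d6_1 D1965 (iv5 D1003) D1001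
def n1966 : Q := act 6 n1001
theorem D1966 : act 6 n1001 = n1966 := rfl
theorem F3284 : act 3 n1966 = n1004 := d7_1 D1966 (iv6 D1004) D1001
def n1967 : Q := act 7 n1001
theorem D1967 : act 7 n1001 = n1967 := rfl
theorem F3285 : act 3 n1967 = n1005 := d8_1 D1967 (iv7 D1005) D1001
def n1968 : Q := act 0 n1002
theorem D1968 : act 0 n1002 = n1968 := rfl
theorem F3286 : act 4 n1968 = n1886 := d20_2 D1002 D1968 (iv3 D1886) (iv1 D976) (iv3 D634) (iv4 D337) (iv1 D109) D110 D341 D643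
theorem F3287 : act 3 n1909 = n1968 := d5_5 F3286 (iv3 D1886) D1887 (iv3 F3171) D1909
theorem F3288 : act 0 n1968 = n1007 := d20_10 (iv4 D1007) (iv1 D644) (iv4 F853) (iv3 D565) D563 D883 F1646 D985 D1909 F3287
theorem F3289 : act 0 n1006 = n1882 := d20_10 (iv4 D1882) (iv1 F1836) F1831 F1830 (iv1 F1841) D1886 (iv4 F3286) F3288 (iv4 D1007) D1006
def n1969 : Q := act 1 n1002
theorem D1969 : act 1 n1002 = n1969 := rfl
theorem F3290 : act 1 n1969 = n1007 := d15_1 D1969 (iv7 F3276) F3275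
def n1970 : Q := act 3 n1002
theorem D1970 : act 3 n1002 = n1970 := rfl
def n1971 : Q := act 5 n1002
theorem D1971 : act 5 n1002 = n1971 := rfl
def n1972 : Q := act 6 n1002
theorem D1972 : act 6 n1002 = n1972 := rfl
theorem F3291 : act 4 n1972 = n1004 := d10_1 D1972 (iv6 D1004) D1002
def n1973 : Q := act 7 n1002
theorem D1973 : act 7 n1002 = n1973 := rfl
theorem F3292 : act 2 n1973 = n1007 := d4_1 D1973 (iv7 F3276) F3275
theorem F3293 : act 4 n1973 = n1005 := d11_1 D1973 (iv7 D1005) D1002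
def n1974 : Q := act 0 n1003
theorem D1974 : act 0 n1003 = n1974 := rfl
def n1975 : Q := act 1 n1003
theorem D1975 : act 1 n1003 = n1975 := rfl
def n1976 : Q := act 4 n1003
theorem D1976 : act 4 n1003 = n1976 := rfl
def n1977 : Q := act 6 n1003
theorem D1977 : act 6 n1003 = n1977 := rfl
def n1978 : Q := act 7 n1003
theorem D1978 : act 7 n1003 = n1978 := rfl
theorem F3295 : act 2 n1978 = n1008 := d4_1 D1978 (iv7 F3278) F3277
theorem F3296 : act 5 n1978 = n1005 := d13_1 D1978 (iv7 D1005) D1003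
theorem F3297 : act 1 n1008 = n1974 := d15_0 (iv0 D1974) D1978 F3295
def n1979 : Q := act 0 n1004
theorem D1979 : act 0 n1004 = n1979 := rfl
def n1981 : Q := act 5 n1004
theorem D1981 : act 5 n1004 = n1981 := rfl
def n1982 : Q := act 7 n1004
theorem D1982 : act 7 n1004 = n1982 := rfl
def n1983 : Q := act 6 n1005
theorem D1983 : act 6 n1005 = n1983 := rfl
theorem F3298 : act 2 n1983 = n1009 := d3_1 D1983 (iv6 D1009) (iv2 F1886)
def n1984 : Q := act 1 n1006
theorem D1984 : act 1 n1006 = n1984 := rfl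
def n1985 : Q := act 2 n1006
theorem D1985 : act 2 n1006 = n1985 := rfl
def n1986 : Q := act 4 n1006
theorem D1986 : act 4 n1006 = n1986 := rfl
theorem F3299 : act 0 n1864 = n1986 := d20_1 D1864 (iv4 D1986) (iv3 D1006) (iv1 D644) (iv3 D341) (iv4 D110) D108 D336 D632 D970
def n1987 : Q := act 5 n1006
theorem D1987 : act 5 n1006 = n1987 := rfl
theorem F3300 : act 3 n1987 = n1008 := d6_1 D1987 (iv5 D1008) D1006
def n1988 : Q := act 6 n1006
theorem D1988 : act 6 n1006 = n1988 := rfl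
theorem F3301 : act 3 n1988 = n1009 := d7_1 D1988 (iv6 D1009) D1006
def n1989 : Q := act 3 n1007
theorem D1989 : act 3 n1007 = n1989 := rfl
theorem F3302 : act 0 n1718 = n1989 := d20_4 F1068 F1124 (iv4 F1712) (iv3 F2929) (iv3 D1989) (iv4 D1007) (iv1 D644) (iv4 F853) (iv3 D565) D563
theorem F3303 : act 1 n1716 = n1989 := d15_0 (iv0 F3302) (iv7 D1718) D1716
def n1990 : Q := act 5 n1007
theorem D1990 : act 5 n1007 = n1990 := rfl
def n1991 : Q := act 6 n1007
theorem D1991 : act 6 n1007 = n1991 := rfl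
theorem F3304 : act 4 n1991 = n1009 := d10_1 D1991 (iv6 D1009) D1007
def n1992 : Q := act 4 n1008
theorem D1992 : act 4 n1008 = n1992 := rfl
def n1993 : Q := act 6 n1008
theorem D1993 : act 6 n1008 = n1993 := rfl
def n1994 : Q := act 0 n1009
theorem D1994 : act 0 n1009 = n1994 := rfl
def n1995 : Q := act 1 n1009
theorem D1995 : act 1 n1009 = n1995 := rfl
def n1996 : Q := act 5 n1009
theorem D1996 : act 5 n1009 = n1996 := rfl
def n1997 : Q := act 7 n1009
theorem D1997 : act 7 n1009 = n1997 := rfl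
def n1999 : Q := act 3 n1010
theorem D1999 : act 3 n1010 = n1999 := rfl
def n2000 : Q := act 4 n1010
theorem D2000 : act 4 n1010 = n2000 := rfl
theorem F3306 : act 3 n1714 = n2000 := d20_5 (iv4 F1406) (iv1 D591) D592 D911 D1714 (iv4 D2000) (iv1 F1887) (iv4 F1659) F1658 (iv1 F1403)
def n2004 : Q := act 3 n1011
theorem D2004 : act 3 n1011 = n2004 := rfl
theorem F3308 : act 4 n2004 = n1715 := d20_6 (iv4 D336) (iv1 F323) (iv4 F603) (iv3 F1194) (iv1 F1888) D2004 (iv1 D1715) F1708 (iv3 D613) (iv1 F590)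
def n2005 : Q := act 4 n1011
theorem D2005 : act 4 n1011 = n2005 := rfl
def n2008 : Q := act 0 n1012
theorem D2008 : act 0 n1012 = n2008 := rfl
theorem F3309 : act 1 n1017 = n2008 := d15_0 (iv0 D2008) (iv7 F3267) F3265
def n2009 : Q := act 1 n1012
theorem D2009 : act 1 n1012 = n2009 := rfl
theorem F3310 : act 1 n2009 = n1017 := d15_1 D2009 (iv7 D1017) (iv2 F1889)
def n2010 : Q := act 4 n1012
theorem D2010 : act 4 n1012 = n2010 := rfl
theorem F3311 : act 2 n2010 = n1015 := d1_1 D2010 (iv4 D1015) (iv2 F1889)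
def n2011 : Q := act 6 n1012
theorem D2011 : act 6 n1012 = n2011 := rfl
theorem F3312 : act 2 n2011 = n1016 := d3_1 D2011 (iv6 D1016) (iv2 F1889)
theorem F3313 : act 3 n2011 = n2011 := d7_1 D2011 (iv6 D2011) F1890
def n2012 : Q := act 2 n1013
theorem D2012 : act 2 n1013 = n2012 := rfl
theorem F3314 : act 7 n1014 = n2012 := d15_2 (iv0 D1013) D1014 (iv2 D2012)
def n2013 : Q := act 3 n1013
theorem D2013 : act 3 n1013 = n2013 := rfl
def n2014 : Q := act 4 n1013
theorem D2014 : act 4 n1013 = n2014 := rfl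
def n2015 : Q := act 5 n1013
theorem D2015 : act 5 n1013 = n2015 := rfl
def n2016 : Q := act 6 n1013
theorem D2016 : act 6 n1013 = n2016 := rfl
def n2017 : Q := act 7 n1013
theorem D2017 : act 7 n1013 = n2017 := rfl
def n2018 : Q := act 3 n1014
theorem D2018 : act 3 n1014 = n2018 := rfl
def n2019 : Q := act 4 n1014
theorem D2019 : act 4 n1014 = n2019 := rfl
def n2020 : Q := act 5 n1014
theorem D2020 : act 5 n1014 = n2020 := rfl
def n2021 : Q := act 6 n1014
theorem D2021 : act 6 n1014 = n2021 := rfl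
def n2022 : Q := act 0 n1015
theorem D2022 : act 0 n1015 = n2022 := rfl
def n2023 : Q := act 1 n1015
theorem D2023 : act 1 n1015 = n2023 := rfl
def n2024 : Q := act 3 n1015
theorem D2024 : act 3 n1015 = n2024 := rfl
theorem F3316 : act 4 n2024 = n1023 := d5_2 D1015 D2024 (iv3 D1023) (iv4 D650) (iv3 F1193)
theorem F3317 : act 7 n1761 = n2024 := d11_0 F3316 F1902 D1761
def n2025 : Q := act 5 n1015
theorem D2025 : act 5 n1015 = n2025 := rfl
def n2026 : Q := act 6 n1015
theorem D2026 : act 6 n1015 = n2026 := rfl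
theorem F3318 : act 4 n2026 = n1016 := d10_1 D2026 (iv6 D1016) D1015
def n2027 : Q := act 7 n1015
theorem D2027 : act 7 n1015 = n2027 := rfl
theorem F3319 : act 3 n2027 = n1761 := d8_1 D2027 F3317 (iv3 D2024)
theorem F3320 : act 4 n2027 = n1017 := d11_1 D2027 (iv7 D1017) D1015
def n2028 : Q := act 0 n1016
theorem D2028 : act 0 n1016 = n2028 := rfl
def n2029 : Q := act 1 n1016
theorem D2029 : act 1 n1016 = n2029 := rfl
def n2030 : Q := act 7 n1016
theorem D2030 : act 7 n1016 = n2030 := rfl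
theorem F3321 : act 3 n2030 = n1027 := d8_1 D2030 (iv7 D1027) (iv3 F1891)
def n2031 : Q := act 6 n1017
theorem D2031 : act 6 n1017 = n2031 := rfl
theorem F3322 : act 3 n2031 = n1028 := d7_1 D2031 (iv6 D1028) (iv3 F1892)
def n2032 : Q := act 0 n1018
theorem D2032 : act 0 n1018 = n2032 := rfl
def n2033 : Q := act 1 n1018
theorem D2033 : act 1 n1018 = n2033 := rfl
def n2034 : Q := act 5 n1018
theorem D2034 : act 5 n1018 = n2034 := rfl
theorem F3323 : act 3 n2034 = n1030 := d6_1 D2034 (iv5 D1030) (iv3 F1894)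
def n2035 : Q := act 0 n1019
theorem D2035 : act 0 n1019 = n2035 := rfl
def n2036 : Q := act 1 n1019
theorem D2036 : act 1 n1019 = n2036 := rfl
def n2037 : Q := act 2 n1019
theorem D2037 : act 2 n1019 = n2037 := rfl
theorem F3324 : act 3 n2037 = n2037 := d0_2 D1019 D2037 (iv2 D2037) (iv3 D1019) F1196
theorem F3325 : act 5 n2037 = n1733 := d2_2 (iv5 F1895) D2037 (iv2 D1733)
def n2038 : Q := act 4 n1019
theorem D2038 : act 4 n1019 = n2038 := rfl
def n2039 : Q := act 6 n1019
theorem D2039 : act 6 n1019 = n2039 := rfl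
theorem F3326 : act 3 n2039 = n1020 := d7_1 D2039 (iv6 D1020) D1019
def n2040 : Q := act 0 n1020
theorem D2040 : act 0 n1020 = n2040 := rfl
def n2041 : Q := act 1 n1020
theorem D2041 : act 1 n1020 = n2041 := rfl
def n2042 : Q := act 5 n1020
theorem D2042 : act 5 n1020 = n2042 := rfl
theorem F3327 : act 2 n2042 = n2042 := d2_1 D2042 (iv5 D2042) F1896
theorem F3328 : act 6 n2042 = n1735 := d12_2 D1020 D2042 (iv5 D1735) (iv6 D920) (iv5 F1195)
def n2043 : Q := act 7 n1020
theorem D2043 : act 7 n1020 = n2043 := rfl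
theorem F3329 : act 2 n2043 = n2043 := d4_1 D2043 (iv7 D2043) F1896
theorem F3330 : act 1 n2043 = n2040 := d15_0 (iv0 D2040) D2043 F3329
theorem F3331 : act 1 n2041 = n2043 := d15_1 D2041 (iv7 D2043) F1896
def n2044 : Q := act 0 n1021
theorem D2044 : act 0 n1021 = n2044 := rfl
theorem F3332 : act 1 n2037 = n2044 := d15_0 (iv0 D2044) F1898 D2037
def n2045 : Q := act 1 n1021
theorem D2045 : act 1 n1021 = n2045 := rfl
def n2046 : Q := act 2 n1021
theorem D2046 : act 2 n1021 = n2046 := rfl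
theorem F3333 : act 3 n2046 = n2046 := d0_2 D1021 D2046 (iv2 D2046) (iv3 D1021) F1199
theorem F3334 : act 5 n2046 = n1741 := d2_2 (iv5 F1897) D2046 (iv2 D1741)
theorem F3335 : act 7 n2046 = n2037 := d4_2 (iv7 F1898) D2046 (iv2 D2037)
theorem F3336 : act 1 n2046 = n2035 := d15_0 (iv0 D2035) (iv7 F1898) D2046
theorem F3337 : act 1 n2045 = n2037 := d15_1 D2045 (iv7 F3335) (iv2 D2046)
theorem F3338 : act 1 n2036 = n2046 := d15_1 D2036 F3335 (iv2 D2037)
def n2047 : Q := act 4 n1021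
theorem D2047 : act 4 n1021 = n2047 := rfl
theorem F3339 : act 3 n2047 = n2038 := d5_1 D2047 (iv4 D2038) (iv3 D1019) F1200 D1021
theorem F3340 : act 7 n2047 = n2038 := d11_2 (iv7 F1898) D2047 (iv4 D2038)
def n2048 : Q := act 6 n1021
theorem D2048 : act 6 n1021 = n2048 := rfl
theorem F3341 : act 3 n2048 = n1022 := d7_1 D2048 (iv6 D1022) D1021
def n2049 : Q := act 0 n1022
theorem D2049 : act 0 n1022 = n2049 := rfl
def n2050 : Q := act 1 n1022
theorem D2050 : act 1 n1022 = n2050 := rfl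
def n2051 : Q := act 5 n1022
theorem D2051 : act 5 n1022 = n2051 := rfl
theorem F3342 : act 2 n2051 = n2051 := d2_1 D2051 (iv5 D2051) F1899
theorem F3343 : act 6 n2051 = n1743 := d12_2 D1022 D2051 (iv5 D1743) (iv6 D925) (iv5 F1198)
def n2052 : Q := act 7 n1022
theorem D2052 : act 7 n1022 = n2052 := rfl
theorem F3344 : act 2 n2052 = n2052 := d4_1 D2052 (iv7 D2052) F1899
theorem F3345 : act 4 n2052 = n2043 := d11_1 D2052 (iv7 D2043) (iv4 F1900)
theorem F3346 : act 6 n2052 = n2043 := d14_1 D2052 (iv7 D2043) (iv6 D1020) (iv7 F1197) D1022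
theorem F3347 : act 1 n2052 = n2049 := d15_0 (iv0 D2049) D2052 F3344
theorem F3348 : act 1 n2050 = n2052 := d15_1 D2050 (iv7 D2052) F1899
def n2053 : Q := act 0 n1023
theorem D2053 : act 0 n1023 = n2053 := rfl
theorem F3349 : act 1 n1758 = n2053 := d15_0 (iv0 D2053) F1902 (iv2 F3017)
def n2054 : Q := act 1 n1023
theorem D2054 : act 1 n1023 = n2054 := rfl
def n2055 : Q := act 2 n1023
theorem D2055 : act 2 n1023 = n2055 := rfl
theorem F3350 : act 3 n2055 = n2055 := d0_2 D1023 D2055 (iv2 D2055) (iv3 D1023) F1201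
theorem F3351 : act 5 n2055 = n1745 := d2_2 (iv5 F1901) D2055 (iv2 F3007)
theorem F3352 : act 7 n2055 = n1758 := d4_2 (iv7 F1902) D2055 F3017
theorem F3353 : act 1 n2055 = n1759 := d15_0 (iv0 D1759) (iv7 F1902) D2055
theorem F3354 : act 1 n2054 = n1758 := d15_1 D2054 (iv7 F3352) (iv2 D2055)
theorem F3355 : act 1 n1760 = n2055 := d15_1 D1760 F3352 F3017
def n2056 : Q := act 6 n1023
theorem D2056 : act 6 n1023 = n2056 := rfl
theorem F3356 : act 3 n2056 = n1024 := d7_1 D2056 (iv6 D1024) D1023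
def n2057 : Q := act 0 n1024
theorem D2057 : act 0 n1024 = n2057 := rfl
def n2058 : Q := act 1 n1024
theorem D2058 : act 1 n1024 = n2058 := rfl
def n2059 : Q := act 5 n1024
theorem D2059 : act 5 n1024 = n2059 := rfl
theorem F3357 : act 2 n2059 = n2059 := d2_1 D2059 (iv5 D2059) F1903
theorem F3358 : act 6 n2059 = n1767 := d12_2 D1024 D2059 (iv5 D1767) (iv6 D934) (iv5 F1202)
def n2060 : Q := act 7 n1024
theorem D2060 : act 7 n1024 = n2060 := rfl
theorem F3359 : act 2 n2060 = n2060 := d4_1 D2060 (iv7 D2060) F1903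
theorem F3360 : act 4 n2060 = n1027 := d11_1 D2060 (iv7 D1027) (iv4 F1904)
theorem F3361 : act 6 n2060 = n1766 := d14_1 D2060 (iv7 D1766) (iv6 D933) F1205 D1024
theorem F3362 : act 1 n2060 = n2057 := d15_0 (iv0 D2057) D2060 F3359
theorem F3363 : act 1 n2058 = n2060 := d15_1 D2058 (iv7 D2060) F1903
def n2061 : Q := act 2 n1025
theorem D2061 : act 2 n1025 = n2061 := rfl
theorem F3364 : act 7 n1026 = n2061 := d15_2 (iv0 D1025) D1026 (iv2 D2061)
def n2062 : Q := act 3 n1025
theorem D2062 : act 3 n1025 = n2062 := rfl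
def n2063 : Q := act 4 n1025
theorem D2063 : act 4 n1025 = n2063 := rfl
def n2064 : Q := act 5 n1025
theorem D2064 : act 5 n1025 = n2064 := rfl
def n2065 : Q := act 6 n1025
theorem D2065 : act 6 n1025 = n2065 := rfl
theorem F3365 : act 5 n2065 = n1026 := d21_6 (iv5 D641) (iv1 D340) D342 D651 D1025 D2065 (iv1 D1026) (iv5 F1764) (iv6 D941) (iv1 F1188)
def n2066 : Q := act 7 n1025
theorem D2066 : act 7 n1025 = n2066 := rfl
theorem F3366 : act 2 n2066 = n1026 := d4_1 D2066 F3364 (iv2 D2061)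
def n2067 : Q := act 3 n1026
theorem D2067 : act 3 n1026 = n2067 := rfl
def n2068 : Q := act 4 n1026
theorem D2068 : act 4 n1026 = n2068 := rfl
def n2069 : Q := act 6 n1026
theorem D2069 : act 6 n1026 = n2069 := rfl
def n2070 : Q := act 6 n1027
theorem D2070 : act 6 n1027 = n2070 := rfl
theorem F3367 : act 2 n2070 = n2070 := d3_1 D2070 (iv6 D2070) F1905
theorem F3368 : act 4 n2070 = n1766 := d10_1 D2070 (iv6 F3361) F3360
theorem F3369 : act 7 n2070 = n1028 := d14_2 D1027 D2070 (iv6 D1028) (iv7 D652) D651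
def n2071 : Q := act 0 n1028
theorem D2071 : act 0 n1028 = n2071 := rfl
theorem F3370 : act 1 n2070 = n2071 := d15_0 (iv0 D2071) (iv7 F3369) F3367
def n2072 : Q := act 1 n1028
theorem D2072 : act 1 n1028 = n2072 := rfl
theorem F3371 : act 1 n2072 = n2070 := d15_1 D2072 F3369 F1908
def n2073 : Q := act 5 n1028
theorem D2073 : act 5 n1028 = n2073 := rfl
theorem F3372 : act 2 n2073 = n2073 := d2_1 D2073 (iv5 D2073) F1908
theorem F3373 : act 6 n2073 = n1030 := d12_2 D1028 D2073 (iv5 D1030) (iv6 D653) (iv5 F1209)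
def n2074 : Q := act 3 n1029
theorem D2074 : act 3 n1029 = n2074 := rfl
theorem F3374 : act 7 n2074 = n1742 := d8_2 (iv7 F1911) D2074 F3002
def n2075 : Q := act 5 n1029
theorem D2075 : act 5 n1029 = n2075 := rfl
theorem F3375 : act 2 n2075 = n2075 := d2_1 D2075 (iv5 D2075) F1912
theorem F3376 : act 7 n2075 = n1743 := d13_2 (iv7 F1911) D2075 (iv5 D1743)
theorem F3377 : act 0 n2075 = n1833 := d17_2 (iv1 F1910) D2075 (iv5 D1833) (iv4 D958) F1147 F1152 (iv5 F1163) F1165 (iv4 F1771)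
theorem F3378 : act 1 n2075 = n1835 := d17_6 (iv1 F1734) (iv5 F1730) (iv1 F1733) (iv5 F1740) F1913 D2075 (iv5 D1835) F2972 F2969
def n2076 : Q := act 1 n1030
theorem D2076 : act 1 n1030 = n2076 := rfl
theorem F3379 : act 1 n2076 = n1794 := d15_1 D2076 F3053 F1914
theorem F3380 : act 7 n2076 = n1735 := d15_2 F2967 D2076 F2966
theorem F3381 : act 5 n2076 = n1736 := d17_7 (iv1 F1151) (iv5 F1163) (iv1 F1166) F607 (iv4 F1213) D1030 D2076 F2971 (iv4 D958)
theorem F3382 : act 2 n2076 = n2076 := d2_3 F3381 F2968 (iv5 F3381)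
def n2077 : Q := act 4 n1030
theorem D2077 : act 4 n1030 = n2077 := rfl
theorem F3383 : act 2 n2077 = n2077 := d1_1 D2077 (iv4 D2077) F1914
theorem F3384 : act 0 n2077 = n1829 := d18_2 (iv1 D2076) D2077 (iv4 D1829) (iv5 D954) F1146 D626 D961 F2972 (iv5 F3381)
def n2078 : Q := act 5 n1031
theorem D2078 : act 5 n1031 = n2078 := rfl
theorem F3385 : act 2 n2078 = n1132 := d2_1 D2078 (iv5 D1132) (iv2 F1915)
theorem F3386 : act 7 n2078 = n2078 := d13_2 F1916 D2078 (iv5 D2078)
theorem F3387 : act 4 n2078 = n1132 := d16_2 D1031 D2078 (iv5 D1132) (iv4 D690) (iv5 D398) F354 D398 F672 (iv2 F1214)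
theorem F3388 : act 1 n2078 = n1062 := d17_6 (iv1 D680) (iv5 D376) F612 D654 D1031 D2078 (iv5 D1062) D1060 F1974
def n2079 : Q := act 6 n1031
theorem D2079 : act 6 n1031 = n2079 := rfl
theorem F3389 : act 2 n2079 = n1133 := d3_1 D2079 (iv6 D1133) (iv2 F1915)
theorem F3390 : act 4 n2079 = n1032 := d10_1 D2079 (iv6 D1032) D1031
def n2080 : Q := act 0 n1032
theorem D2080 : act 0 n1032 = n2080 := rfl
def n2081 : Q := act 1 n1032
theorem D2081 : act 1 n1032 = n2081 := rfl
theorem F3391 : act 1 n2081 = n1137 := d15_1 D2081 (iv7 D1137) (iv2 F1917)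
def n2082 : Q := act 5 n1032
theorem D2082 : act 5 n1032 = n2082 := rfl
theorem F3392 : act 2 n2082 = n1136 := d2_1 D2082 (iv5 D1136) (iv2 F1917)
theorem F3393 : act 3 n2082 = n1039 := d6_1 D2082 (iv5 D1039) (iv3 F1918)
theorem F3394 : act 6 n2082 = n1034 := d12_2 D1032 D2082 (iv5 D1034) (iv6 D655) D654
def n2083 : Q := act 7 n1032
theorem D2083 : act 7 n1032 = n2083 := rfl
theorem F3395 : act 2 n2083 = n1137 := d4_1 D2083 (iv7 D1137) (iv2 F1917)
theorem F3396 : act 3 n2083 = n1040 := d8_1 D2083 (iv7 D1040) (iv3 F1918)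
theorem F3397 : act 6 n2083 = n2083 := d14_1 D2083 (iv7 D2083) (iv6 D1032) F1216 D1032
theorem F3398 : act 1 n1137 = n2080 := d15_0 (iv0 D2080) D2083 F3395
theorem F3399 : act 1 n1135 = n2083 := d15_1 D1135 (iv7 D2083) F1917
theorem F3400 : act 1 n2083 = n1134 := d15_0 (iv0 D1134) D1137 (iv2 F3395)
def n2084 : Q := act 5 n1033
theorem D2084 : act 5 n1033 = n2084 := rfl
theorem F3401 : act 2 n2084 = n1138 := d2_1 D2084 (iv5 D1138) F1919
theorem F3402 : act 3 n2084 = n1575 := d6_1 D2084 (iv5 D1575) (iv3 F1922)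
theorem F3403 : act 7 n2084 = n1140 := d13_2 (iv7 F1921) D2084 (iv5 D1140)
theorem F3404 : act 0 n2084 = n1470 := d21_1 D2084 F2578 F2180 (iv1 F2181) (iv6 D827) F1290 (iv1 F1289) (iv5 D654) D655 D1033
theorem F3405 : act 0 n1613 = n2084 := d21_1 (iv5 F2797) (iv5 D2084) F1924 (iv1 D693) (iv6 D399) D398 D688 (iv5 F1290) D827 F2170
def n2085 : Q := act 0 n1034
theorem D2085 : act 0 n1034 = n2085 := rfl
theorem F3406 : act 5 n2085 = n1182 := d21_2 D1034 D2085 (iv6 D1182) (iv1 D709) D711 D1185 F2176 (iv5 D1138) (iv6 F1299) F1220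
theorem F3407 : act 2 n1141 = n2085 := d15_3 (iv0 D2085) (iv0 F2422) F2421
theorem F3408 : act 1 n1144 = n2085 := d15_0 (iv0 D2085) (iv7 F2733) F2731
theorem F3409 : act 7 n2085 = n1142 := d15_2 (iv0 F2423) F3408 (iv2 F2736)
def n2086 : Q := act 4 n1034
theorem D2086 : act 4 n1034 = n2086 := rfl
theorem F3410 : act 2 n2086 = n1143 := d1_1 D2086 (iv4 D1143) (iv2 F1925)
def n2087 : Q := act 0 n1035
theorem D2087 : act 0 n1035 = n2087 := rfl
def n2088 : Q := act 1 n1035
theorem D2088 : act 1 n1035 = n2088 := rfl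
def n2089 : Q := act 2 n1035
theorem D2089 : act 2 n1035 = n2089 := rfl
theorem F3411 : act 3 n2089 = n1288 := d0_2 D1035 D2089 (iv2 D1288) (iv3 D751) (iv2 F1221)
theorem F3412 : act 4 n2089 = n1385 := d1_2 F2524 D2089 (iv2 F2526)
theorem F3413 : act 7 n2089 = n2089 := d4_2 F1927 D2089 (iv2 D2089)
theorem F3414 : act 1 n2089 = n2087 := d15_0 (iv0 D2087) F1927 D2089
theorem F3415 : act 1 n2088 = n2089 := d15_1 D2088 F3413 (iv2 D2089)
def n2090 : Q := act 6 n1035
theorem D2090 : act 6 n1035 = n2090 := rfl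
theorem F3416 : act 3 n2090 = n1036 := d7_1 D2090 (iv6 D1036) D1035
def n2091 : Q := act 0 n1036
theorem D2091 : act 0 n1036 = n2091 := rfl
def n2092 : Q := act 1 n1036
theorem D2092 : act 1 n1036 = n2092 := rfl
theorem F3417 : act 1 n2092 = n1293 := d15_1 D2092 (iv7 D1293) (iv2 F1928)
def n2093 : Q := act 5 n1036
theorem D2093 : act 5 n1036 = n2093 := rfl
theorem F3418 : act 2 n2093 = n1292 := d2_1 D2093 (iv5 D1292) (iv2 F1928)
def n2094 : Q := act 7 n1036
theorem D2094 : act 7 n1036 = n2094 := rfl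
theorem F3419 : act 2 n2094 = n1293 := d4_1 D2094 (iv7 D1293) (iv2 F1928)
theorem F3420 : act 4 n2094 = n1040 := d11_1 D2094 (iv7 D1040) (iv4 F1929)
theorem F3421 : act 6 n2094 = n2094 := d14_1 D2094 (iv7 D2094) (iv6 D1036) F1222 D1036
theorem F3422 : act 1 n1293 = n2091 := d15_0 (iv0 D2091) D2094 F3419
theorem F3424 : act 1 n2094 = n1290 := d15_0 (iv0 D1290) D1293 (iv2 F3419)
def n2095 : Q := act 2 n1037
theorem D2095 : act 2 n1037 = n2095 := rfl
def n2096 : Q := act 3 n1037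
theorem D2096 : act 3 n1037 = n2096 := rfl
def n2098 : Q := act 5 n1037
theorem D2098 : act 5 n1037 = n2098 := rfl
def n2099 : Q := act 6 n1037
theorem D2099 : act 6 n1037 = n2099 := rfl
def n2100 : Q := act 7 n1037
theorem D2100 : act 7 n1037 = n2100 := rfl
def n2101 : Q := act 3 n1038
theorem D2101 : act 3 n1038 = n2101 := rfl
def n2102 : Q := act 4 n1038
theorem D2102 : act 4 n1038 = n2102 := rfl
def n2103 : Q := act 5 n1038
theorem D2103 : act 5 n1038 = n2103 := rfl
def n2104 : Q := act 6 n1038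
theorem D2104 : act 6 n1038 = n2104 := rfl
def n2105 : Q := act 0 n1039
theorem D2105 : act 0 n1039 = n2105 := rfl
def n2106 : Q := act 1 n1039
theorem D2106 : act 1 n1039 = n2106 := rfl
theorem F3427 : act 1 n2106 = n1307 := d15_1 D2106 (iv7 D1307) (iv2 F1931)
def n2107 : Q := act 4 n1039
theorem D2107 : act 4 n1039 = n2107 := rfl
theorem F3428 : act 2 n2107 = n1306 := d1_1 D2107 (iv4 D1306) (iv2 F1931)
theorem F3429 : act 6 n2107 = n1041 := d10_2 (iv6 F1932) D2107 (iv4 D1041)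
def n2108 : Q := act 7 n1039
theorem D2108 : act 7 n1039 = n2108 := rfl
theorem F3430 : act 2 n2108 = n1307 := d4_1 D2108 (iv7 D1307) (iv2 F1931)
theorem F3431 : act 5 n2108 = n1040 := d13_1 D2108 (iv7 D1040) D1039
theorem F3432 : act 1 n1307 = n2105 := d15_0 (iv0 D2105) D2108 F3430
theorem F3433 : act 1 n1305 = n2108 := d15_1 D1305 (iv7 D2108) F1931
theorem F3434 : act 1 n2108 = n1304 := d15_0 (iv0 D1304) D1307 (iv2 F3430)
def n2109 : Q := act 3 n1041
theorem D2109 : act 3 n1041 = n2109 := rfl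
def n2110 : Q := act 5 n1041
theorem D2110 : act 5 n1041 = n2110 := rfl
theorem F3435 : act 2 n2110 = n1312 := d2_1 D2110 (iv5 D1312) (iv2 F1938)
theorem F3436 : act 7 n2110 = n1719 := d13_2 F2738 D2110 F2931
theorem F3437 : act 4 n2110 = n1721 := d16_2 D1041 D2110 F2933 F1712 F921 (iv4 F740) (iv5 F1470) (iv7 D760) (iv2 F1226)
theorem F3438 : act 0 n2110 = n1476 := d17_2 (iv1 F1940) D2110 (iv5 D1476) (iv4 D803) (iv5 D460) (iv0 D247) D249 D468 D813
theorem F3439 : act 1 n2110 = n1488 := d17_6 (iv1 F2202) (iv5 D722) F994 D658 D1041 D2110 (iv5 D1488) F2586 F2585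
def n2111 : Q := act 6 n1042
theorem D2111 : act 6 n1042 = n2111 := rfl
theorem F3440 : act 2 n2111 = n1277 := d3_1 D2111 (iv6 D1277) F1942
theorem F3441 : act 3 n2111 = n1128 := d7_1 D2111 (iv6 D1128) (iv3 F1945)
def n2112 : Q := act 0 n1043
theorem D2112 : act 0 n1043 = n2112 := rfl
def n2113 : Q := act 1 n1043
theorem D2113 : act 1 n1043 = n2113 := rfl
def n2114 : Q := act 5 n1043
theorem D2114 : act 5 n1043 = n2114 := rfl
theorem F3442 : act 6 n2114 = n1046 := d12_2 D1043 D2114 (iv5 D1046) (iv6 D661) D660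
def n2115 : Q := act 7 n1043
theorem D2115 : act 7 n1043 = n2115 := rfl
theorem F3443 : act 6 n2115 = n2115 := d14_1 D2115 (iv7 D2115) (iv6 D1043) F1234 D1043
def n2116 : Q := act 0 n1046
theorem D2116 : act 0 n1046 = n2116 := rfl
theorem F3444 : act 5 n2116 = n1522 := d17_3 F2416 D1046 D2116 F2639 (iv5 F3406) (iv0 D2085) (iv5 D1034) (iv0 F1220) (iv4 F1378)
theorem F3445 : act 2 n1308 = n2116 := d15_3 (iv0 D2116) (iv0 F2710) F2709
theorem F3446 : act 3 n2116 = n2085 := d0_2 D1308 F3445 (iv2 F3407) (iv3 F2092) F1560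
def n2117 : Q := act 4 n1046
theorem D2117 : act 4 n1046 = n2117 := rfl
def n2118 : Q := act 6 n1048
theorem D2118 : act 6 n1048 = n2118 := rfl
theorem F3447 : act 2 n2118 = n1262 := d3_1 D2118 (iv6 D1262) (iv2 F1947)
theorem F3448 : act 4 n2118 = n1049 := d10_1 D2118 (iv6 D1049) D1048
def n2119 : Q := act 0 n1049
theorem D2119 : act 0 n1049 = n2119 := rfl
def n2120 : Q := act 1 n1049
theorem D2120 : act 1 n1049 = n2120 := rfl
theorem F3449 : act 1 n2120 = n2115 := d15_1 D2120 (iv7 D2115) (iv2 F1949)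
def n2121 : Q := act 5 n1049
theorem D2121 : act 5 n1049 = n2121 := rfl
theorem F3450 : act 2 n2121 = n2114 := d2_1 D2121 (iv5 D2114) (iv2 F1949)
theorem F3451 : act 3 n2121 = n2121 := d6_1 D2121 (iv5 D2121) F1950
theorem F3452 : act 6 n2121 = n1052 := d12_2 D1049 D2121 (iv5 D1052) (iv6 D663) D662
def n2122 : Q := act 7 n1049
theorem D2122 : act 7 n1049 = n2122 := rfl
theorem F3453 : act 2 n2122 = n2115 := d4_1 D2122 (iv7 D2115) (iv2 F1949)
theorem F3454 : act 3 n2122 = n2122 := d8_1 D2122 (iv7 D2122) F1950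
theorem F3455 : act 6 n2122 = n2122 := d14_1 D2122 (iv7 D2122) (iv6 D1049) F1237 D1049
theorem F3456 : act 1 n2115 = n2119 := d15_0 (iv0 D2119) D2122 F3453
theorem F3458 : act 1 n2122 = n2112 := d15_0 (iv0 D2112) D2115 (iv2 F3453)
def n2123 : Q := act 5 n1051
theorem D2123 : act 5 n1051 = n2123 := rfl
theorem F3459 : act 2 n2123 = n1209 := d2_1 D2123 (iv5 D1209) (iv2 F2400)
theorem F3460 : act 3 n2123 = n1140 := d6_1 D2123 (iv5 D1140) (iv3 F2401)
theorem F3461 : act 7 n2123 = n1575 := d13_2 (iv7 F2404) D2123 (iv5 D1575)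
theorem F3462 : act 1 n2123 = n1576 := d17_6 F2649 (iv5 F2752) F2754 (iv5 D1140) (iv4 F2402) D2123 F2746 (iv0 D1554) (iv4 F2172)
theorem F3463 : act 0 n2123 = n1577 := d21_7 (iv5 F1446) (iv1 F1449) (iv5 D660) D661 (iv1 F2415) (iv6 F2403) D2123 F2748 (iv6 D1521) (iv1 D823)
theorem F3464 : act 0 n1308 = n1574 := d21_7 D2123 F3463 F2748 (iv6 D1521) (iv1 D823) D825 (iv5 F2398) (iv5 D1574) F2407 F2405
def n2124 : Q := act 1 n1052
theorem D2124 : act 1 n1052 = n2124 := rfl
theorem F3465 : act 1 n2124 = n1574 := d15_1 D2124 F2744 (iv2 F1952)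
theorem F3466 : act 7 n2124 = n2116 := d15_2 (iv0 F2399) D2124 (iv2 F3445)
theorem F3467 : act 5 n2124 = n1555 := d17_7 F2636 D1556 F2710 (iv5 D1046) (iv4 F1240) D1052 D2124 F2706 (iv4 F2635)
theorem F3468 : act 2 n1556 = n2124 := d2_3 F3467 (iv2 D1555) D1556
theorem F3469 : act 3 n2124 = n1142 := d0_2 (iv3 F2708) F3468 (iv2 F2736) (iv3 D1309) (iv2 F1587)
def n2125 : Q := act 4 n1052
theorem D2125 : act 4 n1052 = n2125 := rfl
theorem F3470 : act 2 n2125 = n2117 := d1_1 D2125 (iv4 D2117) (iv2 F1952)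
def n2126 : Q := act 7 n1052
theorem D2126 : act 7 n1052 = n2126 := rfl
theorem F3471 : act 2 n2126 = n1574 := d4_1 D2126 F2744 (iv2 F1952)
theorem F3472 : act 3 n2126 = n2126 := d8_1 D2126 (iv7 D2126) F1953
theorem F3473 : act 5 n2126 = n1053 := d13_1 D2126 (iv7 D1053) D1052
theorem F3474 : act 1 n1556 = n2126 := d15_1 (iv0 F2710) (iv7 D2126) F1952
theorem F3475 : act 1 n2126 = n2116 := d15_1 F3474 (iv7 F3466) (iv2 F3468)
def n2127 : Q := act 3 n1054
theorem D2127 : act 3 n1054 = n2127 := rfl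
theorem F3476 : act 7 n2127 = n2127 := d8_2 F1962 D2127 (iv3 D2127)
theorem F3477 : act 0 n2127 = n1375 := d20_10 F2516 (iv1 D779) (iv4 F1461) (iv3 D751) (iv1 F749) D768 F1480 (iv1 F1243) D1054 D2127
def n2128 : Q := act 5 n1054
theorem D2128 : act 5 n1054 = n2128 := rfl
theorem F3478 : act 2 n2128 = n1062 := d2_1 D2128 (iv5 D1062) (iv2 F1961)
theorem F3479 : act 4 n2128 = n1102 := d9_1 D2128 (iv5 D1102) (iv4 D681) (iv5 D376) F338 D351 D667 D1062 (iv4 F2319) F2318 (iv4 D1098) (iv5 D679) F640 D664 D1054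
theorem F3480 : act 7 n2128 = n2128 := d13_2 F1962 D2128 (iv5 D2128)
theorem F3481 : act 0 n2128 = n1132 := d17_2 (iv1 F1971) D2128 (iv5 D1132) (iv4 D690) (iv5 D398) F643 D679 F1268 (iv4 F1970)
theorem F3482 : act 1 n2128 = n2078 := d17_6 (iv1 F1449) (iv5 D660) (iv1 F620) D664 D1054 D2128 (iv5 D2078) F2066 F2065
theorem F3483 : act 3 n2078 = n1529 := d20_3 (iv4 F3479) F3481 (iv4 F3387) (iv1 D1529) (iv3 D833) (iv4 D490) (iv1 F441) D427 D734 F2030
theorem F3484 : act 5 n1529 = n1386 := d6_2 D2078 F3483 (iv3 F2523)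
theorem F3485 : act 7 n1529 = n1529 := d8_2 F3386 F3483 (iv3 F3483)
theorem F3486 : act 2 n1529 = n1528 := d15_3 (iv0 D1528) D1529 F3485
theorem F3487 : act 7 n1528 = n1528 := d4_2 F3485 F3486 (iv2 F3486)
theorem F3488 : act 5 n1528 = n1385 := d2_2 (iv5 F3484) F3486 (iv2 F2526)
def n2129 : Q := act 6 n1054
theorem D2129 : act 6 n1054 = n2129 := rfl
theorem F3489 : act 2 n2129 = n1063 := d3_1 D2129 (iv6 D1063) (iv2 F1961)
theorem F3490 : act 4 n2129 = n1055 := d10_1 D2129 (iv6 D1055) D1054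
def n2130 : Q := act 0 n1055
theorem D2130 : act 0 n1055 = n2130 := rfl
def n2131 : Q := act 1 n1055
theorem D2131 : act 1 n1055 = n2131 := rfl
theorem F3491 : act 1 n2131 = n1066 := d15_1 D2131 (iv7 D1066) (iv2 F1963)
def n2132 : Q := act 7 n1055
theorem D2132 : act 7 n1055 = n2132 := rfl
theorem F3492 : act 2 n2132 = n1066 := d4_1 D2132 (iv7 D1066) (iv2 F1963)
theorem F3493 : act 5 n2132 = n2132 := d13_1 D2132 (iv7 D2132) F1964
theorem F3494 : act 6 n2132 = n2132 := d14_1 D2132 (iv7 D2132) (iv6 D1055) F1242 D1055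
theorem F3495 : act 1 n1066 = n2130 := d15_0 (iv0 D2130) D2132 F3492
theorem F3496 : act 1 n1065 = n2132 := d15_1 D1065 (iv7 D2132) F1963
theorem F3497 : act 1 n2132 = n1064 := d15_0 (iv0 D1064) D1066 (iv2 F3492)
def n2133 : Q := act 0 n1056
theorem D2133 : act 0 n1056 = n2133 := rfl
def n2134 : Q := act 1 n1056
theorem D2134 : act 1 n1056 = n2134 := rfl
def n2135 : Q := act 5 n1056
theorem D2135 : act 5 n1056 = n2135 := rfl
def n2136 : Q := act 7 n1056
theorem D2136 : act 7 n1056 = n2136 := rfl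
theorem F3498 : act 6 n2136 = n2136 := d14_1 D2136 (iv7 D2136) (iv6 D1056) F1456 D1056
def n2137 : Q := act 6 n1057
theorem D2137 : act 6 n1057 = n2137 := rfl
theorem F3499 : act 2 n2137 = n1340 := d3_1 D2137 (iv6 D1340) (iv2 F1965)
theorem F3500 : act 4 n2137 = n1058 := d10_1 D2137 (iv6 D1058) D1057
def n2138 : Q := act 0 n1058
theorem D2138 : act 0 n1058 = n2138 := rfl
def n2139 : Q := act 1 n1058
theorem D2139 : act 1 n1058 = n2139 := rfl
theorem F3501 : act 1 n2139 = n2136 := d15_1 D2139 (iv7 D2136) (iv2 F1968)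
def n2140 : Q := act 5 n1058
theorem D2140 : act 5 n1058 = n2140 := rfl
theorem F3502 : act 2 n2140 = n2135 := d2_1 D2140 (iv5 D2135) (iv2 F1968)
theorem F3503 : act 3 n2140 = n2140 := d6_1 D2140 (iv5 D2140) F1969
theorem F3504 : act 6 n2140 = n1577 := d12_2 D1058 D2140 F2748 (iv6 D1521) F1541
def n2141 : Q := act 7 n1058
theorem D2141 : act 7 n1058 = n2141 := rfl
theorem F3505 : act 2 n2141 = n2136 := d4_1 D2141 (iv7 D2136) (iv2 F1968)
theorem F3506 : act 3 n2141 = n2141 := d8_1 D2141 (iv7 D2141) F1969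
theorem F3507 : act 6 n2141 = n2141 := d14_1 D2141 (iv7 D2141) (iv6 D1058) F1458 D1058
theorem F3508 : act 1 n2136 = n2138 := d15_0 (iv0 D2138) D2141 F3505
theorem F3509 : act 1 n2134 = n2141 := d15_1 D2134 (iv7 D2141) F1968
theorem F3510 : act 1 n2141 = n2133 := d15_0 (iv0 D2133) D2136 (iv2 F3505)
def n2142 : Q := act 5 n1059
theorem D2142 : act 5 n1059 = n2142 := rfl
theorem F3511 : act 7 n2142 = n2142 := d13_2 F1972 D2142 (iv5 D2142)
def n2143 : Q := act 6 n1059
theorem D2143 : act 6 n1059 = n2143 := rfl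
theorem F3512 : act 4 n2143 = n1067 := d10_1 D2143 (iv6 D1067) (iv4 F1970)
def n2144 : Q := act 5 n1060
theorem D2144 : act 5 n1060 = n2144 := rfl
theorem F3513 : act 2 n2144 = n2142 := d2_1 D2144 (iv5 D2142) F1975
theorem F3514 : act 7 n2144 = n2144 := d13_2 F1976 D2144 (iv5 D2144)
theorem F3515 : act 4 n2144 = n2142 := d16_2 (iv4 F1974) D2144 (iv5 D2142) F1970 (iv5 F1342) F1341 F1342 F1248 (iv2 F1271)
def n2145 : Q := act 6 n1060
theorem D2145 : act 6 n1060 = n2145 := rfl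
theorem F3516 : act 2 n2145 = n2143 := d3_1 D2145 (iv6 D2143) F1975
theorem F3517 : act 4 n2145 = n1100 := d10_1 D2145 (iv6 D1100) (iv4 F1974)
def n2146 : Q := act 6 n1061
theorem D2146 : act 6 n1061 = n2146 := rfl
theorem F3518 : act 3 n2146 = n1063 := d7_1 D2146 (iv6 D1063) D1061
theorem F3519 : act 4 n2146 = n1083 := d10_1 D2146 (iv6 D1083) (iv4 F1977)
def n2147 : Q := act 6 n1062
theorem D2147 : act 6 n1062 = n2147 := rfl
def n2148 : Q := act 0 n1063
theorem D2148 : act 0 n1063 = n2148 := rfl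
def n2149 : Q := act 1 n1063
theorem D2149 : act 1 n1063 = n2149 := rfl
def n2150 : Q := act 5 n1063
theorem D2150 : act 5 n1063 = n2150 := rfl
def n2151 : Q := act 7 n1063
theorem D2151 : act 7 n1063 = n2151 := rfl
theorem F3520 : act 4 n2151 = n1066 := d11_1 D2151 (iv7 D1066) (iv4 F1981)
theorem F3521 : act 6 n2151 = n2151 := d14_1 D2151 (iv7 D2151) (iv6 D1063) F1245 D1063
def n2152 : Q := act 2 n1064
theorem D2152 : act 2 n1064 = n2152 := rfl
theorem F3522 : act 7 n1065 = n2152 := d15_2 (iv0 D1064) D1065 (iv2 D2152)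
def n2153 : Q := act 3 n1064
theorem D2153 : act 3 n1064 = n2153 := rfl
def n2154 : Q := act 4 n1064
theorem D2154 : act 4 n1064 = n2154 := rfl
def n2155 : Q := act 5 n1064
theorem D2155 : act 5 n1064 = n2155 := rfl
def n2156 : Q := act 6 n1064
theorem D2156 : act 6 n1064 = n2156 := rfl
def n2157 : Q := act 7 n1064
theorem D2157 : act 7 n1064 = n2157 := rfl
theorem F3523 : act 2 n2157 = n1065 := d4_1 D2157 F3522 (iv2 D2152)
def n2158 : Q := act 3 n1065
theorem D2158 : act 3 n1065 = n2158 := rfl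
def n2159 : Q := act 4 n1065
theorem D2159 : act 4 n1065 = n2159 := rfl
def n2160 : Q := act 5 n1065
theorem D2160 : act 5 n1065 = n2160 := rfl
def n2161 : Q := act 6 n1065
theorem D2161 : act 6 n1065 = n2161 := rfl
def n2162 : Q := act 0 n1067
theorem D2162 : act 0 n1067 = n2162 := rfl
def n2163 : Q := act 1 n1067
theorem D2163 : act 1 n1067 = n2163 := rfl
def n2164 : Q := act 5 n1067
theorem D2164 : act 5 n1067 = n2164 := rfl
theorem F3524 : act 3 n2164 = n1072 := d6_1 D2164 (iv5 D1072) (iv3 F1985)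
theorem F3525 : act 6 n2164 = n1613 := d12_2 D1067 D2164 F2797 (iv6 D1183) F1342
def n2165 : Q := act 7 n1067
theorem D2165 : act 7 n1067 = n2165 := rfl
theorem F3526 : act 3 n2165 = n1073 := d8_1 D2165 (iv7 D1073) (iv3 F1985)
theorem F3527 : act 6 n2165 = n2165 := d14_1 D2165 (iv7 D2165) (iv6 D1067) F1248 D1067
def n2166 : Q := act 0 n1068
theorem D2166 : act 0 n1068 = n2166 := rfl
def n2167 : Q := act 1 n1068
theorem D2167 : act 1 n1068 = n2167 := rfl
def n2168 : Q := act 2 n1068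
theorem D2168 : act 2 n1068 = n2168 := rfl
theorem F3528 : act 4 n2168 = n1145 := d1_2 (iv4 F2096) D2168 (iv2 F2098)
theorem F3529 : act 5 n2168 = n1288 := d2_2 (iv5 F1986) D2168 (iv2 D1288)
theorem F3530 : act 7 n2168 = n2168 := d4_2 F1987 D2168 (iv2 D2168)
theorem F3531 : act 1 n2168 = n2166 := d15_0 (iv0 D2166) F1987 D2168
theorem F3532 : act 1 n2167 = n2168 := d15_1 D2167 F3530 (iv2 D2168)
def n2169 : Q := act 6 n1068
theorem D2169 : act 6 n1068 = n2169 := rfl
theorem F3533 : act 3 n2169 = n1069 := d7_1 D2169 (iv6 D1069) D1068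
def n2170 : Q := act 0 n1069
theorem D2170 : act 0 n1069 = n2170 := rfl
def n2171 : Q := act 1 n1069
theorem D2171 : act 1 n1069 = n2171 := rfl
def n2172 : Q := act 5 n1069
theorem D2172 : act 5 n1069 = n2172 := rfl
theorem F3534 : act 6 n2172 = n1292 := d12_2 D1069 D2172 (iv5 D1292) (iv6 D752) (iv5 F1250)
def n2173 : Q := act 7 n1069
theorem D2173 : act 7 n1069 = n2173 := rfl
theorem F3535 : act 4 n2173 = n1073 := d11_1 D2173 (iv7 D1073) (iv4 F1988)
theorem F3536 : act 6 n2173 = n2173 := d14_1 D2173 (iv7 D2173) (iv6 D1069) F1249 D1069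
def n2174 : Q := act 2 n1070
theorem D2174 : act 2 n1070 = n2174 := rfl
theorem F3537 : act 7 n1071 = n2174 := d15_2 (iv0 D1070) D1071 (iv2 D2174)
def n2175 : Q := act 3 n1070
theorem D2175 : act 3 n1070 = n2175 := rfl
def n2176 : Q := act 4 n1070
theorem D2176 : act 4 n1070 = n2176 := rfl
def n2177 : Q := act 5 n1070
theorem D2177 : act 5 n1070 = n2177 := rfl
def n2178 : Q := act 6 n1070
theorem D2178 : act 6 n1070 = n2178 := rfl
theorem F3538 : act 5 n2178 = n1305 := d21_6 F728 D471 F769 D671 D1070 D2178 (iv1 D1305) (iv5 D755) (iv6 D436) D433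
def n2179 : Q := act 7 n1070
theorem D2179 : act 7 n1070 = n2179 := rfl
theorem F3539 : act 2 n2179 = n1071 := d4_1 D2179 F3537 (iv2 D2174)
def n2180 : Q := act 3 n1071
theorem D2180 : act 3 n1071 = n2180 := rfl
def n2181 : Q := act 4 n1071
theorem D2181 : act 4 n1071 = n2181 := rfl
def n2182 : Q := act 5 n1071
theorem D2182 : act 5 n1071 = n2182 := rfl
def n2183 : Q := act 6 n1071
theorem D2183 : act 6 n1071 = n2183 := rfl
def n2184 : Q := act 0 n1072
theorem D2184 : act 0 n1072 = n2184 := rfl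
theorem F3540 : act 6 n2184 = n1302 := d21_5 F1468 F1533 (iv5 F2208) (iv6 F2210) D2184 (iv5 D1302) (iv1 D754) D755 F1465 D757
def n2185 : Q := act 1 n1072
theorem D2185 : act 1 n1072 = n2185 := rfl
theorem F3541 : act 5 n1298 = n2185 := d21_6 (iv5 D219) F259 D241 D436 D753 D1298 (iv1 D2185) (iv5 D1072) (iv6 D671) (iv1 F625)
def n2186 : Q := act 4 n1072
theorem D2186 : act 4 n1072 = n2186 := rfl
theorem F3542 : act 6 n2186 = n1474 := d10_2 (iv6 F2210) D2186 F2588
def n2187 : Q := act 7 n1072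
theorem D2187 : act 7 n1072 = n2187 := rfl
theorem F3543 : act 5 n2187 = n1073 := d13_1 D2187 (iv7 D1073) D1072
def n2188 : Q := act 0 n1074
theorem D2188 : act 0 n1074 = n2188 := rfl
theorem F3544 : act 5 n2188 = n2166 := d17_1 D2188 (iv1 F3531) F3529 F2385 D1383 F2521 (iv5 F3488) (iv0 D1528) (iv4 F1990)
def n2189 : Q := act 1 n1074
theorem D2189 : act 1 n1074 = n2189 := rfl
theorem F3545 : act 5 n2189 = n2167 := d17_7 (iv1 F2102) (iv5 F2670) (iv1 F2673) F3484 F2524 (iv5 F1991) D2189 F3532 F3528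
def n2190 : Q := act 2 n1074
theorem D2190 : act 2 n1074 = n2190 := rfl
theorem F3546 : act 3 n2190 = n2168 := d0_2 D1074 D2190 (iv2 D2168) (iv3 D1068) (iv2 F1254)
theorem F3547 : act 4 n2190 = n1530 := d1_2 (iv4 F1990) D2190 (iv2 D1530)
theorem F3548 : act 5 n2190 = n2089 := d2_2 (iv5 F1991) D2190 (iv2 D2089)
theorem F3549 : act 7 n2190 = n2190 := d4_2 F1992 D2190 (iv2 D2190)
theorem F3550 : act 1 n2190 = n2188 := d15_0 (iv0 D2188) F1992 D2190
theorem F3551 : act 1 n2189 = n2190 := d15_1 D2189 F3549 (iv2 D2190)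
def n2191 : Q := act 6 n1074
theorem D2191 : act 6 n1074 = n2191 := rfl
theorem F3552 : act 3 n2191 = n1075 := d7_1 D2191 (iv6 D1075) D1074
theorem F3553 : act 4 n2191 = n1531 := d10_1 D2191 (iv6 D1531) (iv4 F1990)
def n2192 : Q := act 0 n1075
theorem D2192 : act 0 n1075 = n2192 := rfl
def n2193 : Q := act 1 n1075
theorem D2193 : act 1 n1075 = n2193 := rfl
theorem F3554 : act 1 n2193 = n2173 := d15_1 D2193 (iv7 D2173) (iv2 F1993)
def n2194 : Q := act 5 n1075
theorem D2194 : act 5 n1075 = n2194 := rfl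
theorem F3555 : act 2 n2194 = n2172 := d2_1 D2194 (iv5 D2172) (iv2 F1993)
theorem F3556 : act 6 n2194 = n2093 := d12_2 D1075 D2194 (iv5 D2093) (iv6 D1036) (iv5 F1255)
def n2195 : Q := act 7 n1075
theorem D2195 : act 7 n1075 = n2195 := rfl
theorem F3557 : act 2 n2195 = n2173 := d4_1 D2195 (iv7 D2173) (iv2 F1993)
theorem F3558 : act 4 n2195 = n1079 := d11_1 D2195 (iv7 D1079) (iv4 F1994)
theorem F3559 : act 6 n2195 = n2195 := d14_1 D2195 (iv7 D2195) (iv6 D1075) F1256 D1075
theorem F3560 : act 1 n2173 = n2192 := d15_0 (iv0 D2192) D2195 F3557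
theorem F3561 : act 1 n2171 = n2195 := d15_1 D2171 (iv7 D2195) F1993
theorem F3562 : act 1 n2195 = n2170 := d15_0 (iv0 D2170) D2173 (iv2 F3557)
def n2196 : Q := act 2 n1076
theorem D2196 : act 2 n1076 = n2196 := rfl
theorem F3563 : act 7 n1077 = n2196 := d15_2 (iv0 D1076) D1077 (iv2 D2196)
def n2197 : Q := act 3 n1076
theorem D2197 : act 3 n1076 = n2197 := rfl
def n2198 : Q := act 4 n1076
theorem D2198 : act 4 n1076 = n2198 := rfl
def n2199 : Q := act 5 n1076
theorem D2199 : act 5 n1076 = n2199 := rfl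
def n2200 : Q := act 6 n1076
theorem D2200 : act 6 n1076 = n2200 := rfl
theorem F3564 : act 5 n2200 = n2106 := d21_6 (iv5 F733) F396 (iv5 F627) D673 D1076 D2200 (iv1 D2106) (iv5 D1039) (iv6 D657) (iv1 F731)
def n2201 : Q := act 7 n1076
theorem D2201 : act 7 n1076 = n2201 := rfl
def n2202 : Q := act 3 n1077
theorem D2202 : act 3 n1077 = n2202 := rfl
def n2203 : Q := act 4 n1077
theorem D2203 : act 4 n1077 = n2203 := rfl
def n2204 : Q := act 5 n1077
theorem D2204 : act 5 n1077 = n2204 := rfl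
def n2205 : Q := act 6 n1077
theorem D2205 : act 6 n1077 = n2205 := rfl
def n2206 : Q := act 0 n1078
theorem D2206 : act 0 n1078 = n2206 := rfl
theorem F3566 : act 6 n2206 = n2103 := d21_5 (iv5 D829) F1051 D832 (iv6 F1998) D2206 (iv5 D2103) (iv1 D1038) D1039 F1932 (iv1 F1562)
def n2207 : Q := act 1 n1078
theorem D2207 : act 1 n1078 = n2207 := rfl
theorem F3567 : act 1 n2207 = n2187 := d15_1 D2207 (iv7 D2187) (iv2 F1996)
theorem F3568 : act 5 n2099 = n2207 := d21_6 (iv5 D212) D210 D346 D657 D1037 D2099 (iv1 D2207) (iv5 D1078) (iv6 D673) (iv1 D354)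
def n2208 : Q := act 4 n1078
theorem D2208 : act 4 n1078 = n2208 := rfl
theorem F3569 : act 2 n2208 = n2186 := d1_1 D2208 (iv4 D2186) (iv2 F1996)
theorem F3570 : act 6 n2208 = n1527 := d10_2 (iv6 F1998) D2208 (iv4 D1527)
def n2209 : Q := act 7 n1078
theorem D2209 : act 7 n1078 = n2209 := rfl
theorem F3571 : act 2 n2209 = n2187 := d4_1 D2209 (iv7 D2187) (iv2 F1996)
theorem F3572 : act 3 n2209 = n1549 := d8_1 D2209 (iv7 D1549) (iv3 F1997)
theorem F3573 : act 5 n2209 = n1079 := d13_1 D2209 (iv7 D1079) D1078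
theorem F3574 : act 1 n2187 = n2206 := d15_0 (iv0 D2206) D2209 F3571
theorem F3575 : act 1 n2185 = n2209 := d15_1 D2185 (iv7 D2209) F1996
theorem F3576 : act 1 n2209 = n2184 := d15_0 (iv0 D2184) D2187 (iv2 F3571)
def n2210 : Q := act 4 n1080
theorem D2210 : act 4 n1080 = n2210 := rfl
theorem F3577 : act 7 n2210 = n2210 := d11_2 F2007 D2210 (iv4 D2210)
theorem F3578 : act 3 n2210 = n2088 := d19_3 F1979 (iv5 F2005) D2210 (iv1 D2088) (iv5 F1991) F1990 (iv3 D833) F811 (iv5 F650) (iv4 D378) (iv3 F644) F1253 (iv5 F1342) F1341 F1340 (iv1 F772) F733 (iv4 F754) D776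
theorem F3579 : act 7 n2088 = n2088 := d8_2 F3577 F3578 (iv3 F3578)
theorem F3580 : act 2 n2088 = n2087 := d15_3 (iv0 D2087) D2088 F3579
theorem F3581 : act 7 n2087 = n2087 := d4_2 F3579 F3580 (iv2 F3580)
def n2211 : Q := act 6 n1080
theorem D2211 : act 6 n1080 = n2211 := rfl
theorem F3582 : act 3 n2211 = n2147 := d7_1 D2211 (iv6 D2147) F2006
def n2212 : Q := act 3 n1081
theorem D2212 : act 3 n1081 = n2212 := rfl
theorem F3583 : act 7 n2212 = n2212 := d8_2 F2012 D2212 (iv3 D2212)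
def n2213 : Q := act 4 n1081
theorem D2213 : act 4 n1081 = n2213 := rfl
theorem F3584 : act 2 n2213 = n2210 := d1_1 D2213 (iv4 D2210) F2011
theorem F3585 : act 7 n2213 = n2213 := d11_2 F2012 D2213 (iv4 D2213)
def n2214 : Q := act 6 n1081
theorem D2214 : act 6 n1081 = n2214 := rfl
theorem F3586 : act 2 n2214 = n2211 := d3_1 D2214 (iv6 D2211) F2011
def n2215 : Q := act 6 n1082
theorem D2215 : act 6 n1082 = n2215 := rfl
theorem F3587 : act 2 n2215 = n1083 := d3_1 D2215 (iv6 D1083) D1082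
def n2216 : Q := act 0 n1083
theorem D2216 : act 0 n1083 = n2216 := rfl
def n2217 : Q := act 1 n1083
theorem D2217 : act 1 n1083 = n2217 := rfl
def n2218 : Q := act 5 n1083
theorem D2218 : act 5 n1083 = n2218 := rfl
theorem F3588 : act 3 n2218 = n1086 := d6_1 D2218 (iv5 D1086) (iv3 F2013)
def n2219 : Q := act 7 n1083
theorem D2219 : act 7 n1083 = n2219 := rfl
theorem F3589 : act 3 n2219 = n1087 := d8_1 D2219 (iv7 D1087) (iv3 F2013)
theorem F3590 : act 6 n2219 = n2219 := d14_1 D2219 (iv7 D2219) (iv6 D1083) F1261 D1083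
def n2220 : Q := act 2 n1084
theorem D2220 : act 2 n1084 = n2220 := rfl
def n2221 : Q := act 3 n1084
theorem D2221 : act 3 n1084 = n2221 := rfl
def n2222 : Q := act 4 n1084
theorem D2222 : act 4 n1084 = n2222 := rfl
def n2223 : Q := act 5 n1084
theorem D2223 : act 5 n1084 = n2223 := rfl
def n2224 : Q := act 6 n1084
theorem D2224 : act 6 n1084 = n2224 := rfl
def n2225 : Q := act 7 n1084
theorem D2225 : act 7 n1084 = n2225 := rfl
def n2226 : Q := act 3 n1085
theorem D2226 : act 3 n1085 = n2226 := rfl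
def n2227 : Q := act 4 n1085
theorem D2227 : act 4 n1085 = n2227 := rfl
def n2228 : Q := act 5 n1085
theorem D2228 : act 5 n1085 = n2228 := rfl
def n2229 : Q := act 6 n1085
theorem D2229 : act 6 n1085 = n2229 := rfl
def n2230 : Q := act 0 n1086
theorem D2230 : act 0 n1086 = n2230 := rfl
def n2231 : Q := act 1 n1086
theorem D2231 : act 1 n1086 = n2231 := rfl
def n2232 : Q := act 4 n1086
theorem D2232 : act 4 n1086 = n2232 := rfl
def n2233 : Q := act 7 n1086
theorem D2233 : act 7 n1086 = n2233 := rfl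
theorem F3593 : act 5 n2233 = n1087 := d13_1 D2233 (iv7 D1087) D1086
def n2237 : Q := act 4 n1088
theorem D2237 : act 4 n1088 = n2237 := rfl
theorem F3597 : act 2 n2237 = n1090 := d1_1 D2237 (iv4 D1090) D1088
theorem F3598 : act 7 n2237 = n1095 := d11_2 F2016 D2237 (iv4 D1095)
def n2238 : Q := act 5 n1088
theorem D2238 : act 5 n1088 = n2238 := rfl
theorem F3599 : act 2 n2238 = n1091 := d2_1 D2238 (iv5 D1091) D1088
theorem F3600 : act 7 n2238 = n1096 := d13_2 F2016 D2238 (iv5 D1096)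
def n2239 : Q := act 6 n1088
theorem D2239 : act 6 n1088 = n2239 := rfl
theorem F3601 : act 2 n2239 = n1092 := d3_1 D2239 (iv6 D1092) D1088
def n2240 : Q := act 0 n1089
theorem D2240 : act 0 n1089 = n2240 := rfl
def n2241 : Q := act 1 n1089
theorem D2241 : act 1 n1089 = n2241 := rfl
def n2242 : Q := act 2 n1089
theorem D2242 : act 2 n1089 = n2242 := rfl
def n2243 : Q := act 4 n1089
theorem D2243 : act 4 n1089 = n2243 := rfl
def n2244 : Q := act 5 n1089
theorem D2244 : act 5 n1089 = n2244 := rfl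
theorem F3602 : act 3 n2244 = n1091 := d6_1 D2244 (iv5 D1091) D1089
def n2245 : Q := act 6 n1089
theorem D2245 : act 6 n1089 = n2245 := rfl
theorem F3603 : act 3 n2245 = n1092 := d7_1 D2245 (iv6 D1092) D1089
def n2246 : Q := act 7 n1089
theorem D2246 : act 7 n1089 = n2246 := rfl
theorem F3604 : act 3 n2246 = n1093 := d8_1 D2246 (iv7 D1093) D1089
def n2247 : Q := act 0 n1090
theorem D2247 : act 0 n1090 = n2247 := rfl
def n2248 : Q := act 1 n1090
theorem D2248 : act 1 n1090 = n2248 := rfl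
theorem F3605 : act 1 n2248 = n1095 := d15_1 D2248 (iv7 F3598) F3597
def n2249 : Q := act 3 n1090
theorem D2249 : act 3 n1090 = n2249 := rfl
def n2250 : Q := act 5 n1090
theorem D2250 : act 5 n1090 = n2250 := rfl
def n2251 : Q := act 6 n1090
theorem D2251 : act 6 n1090 = n2251 := rfl
theorem F3606 : act 4 n2251 = n1092 := d10_1 D2251 (iv6 D1092) D1090
def n2252 : Q := act 7 n1090
theorem D2252 : act 7 n1090 = n2252 := rfl
theorem F3607 : act 2 n2252 = n1095 := d4_1 D2252 (iv7 F3598) F3597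
theorem F3609 : act 1 n1095 = n2247 := d15_0 (iv0 D2247) D2252 F3607
def n2253 : Q := act 0 n1091
theorem D2253 : act 0 n1091 = n2253 := rfl
theorem F3610 : act 5 n2253 = n1303 := d21_2 D1091 D2253 (iv6 D1303) (iv1 D754) (iv6 D436) (iv5 D241) F257 D212 D356 D676
def n2254 : Q := act 1 n1091
theorem D2254 : act 1 n1091 = n2254 := rfl
theorem F3611 : act 1 n2254 = n1096 := d15_1 D2254 (iv7 F3600) F3599
def n2255 : Q := act 4 n1091
theorem D2255 : act 4 n1091 = n2255 := rfl
def n2256 : Q := act 6 n1091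
theorem D2256 : act 6 n1091 = n2256 := rfl
theorem F3612 : act 0 n2256 = n2099 := d21_10 F3568 (iv1 D2207) (iv5 D1078) (iv6 D673) (iv1 D354) D356 F1050 D676 D1091 D2256
def n2257 : Q := act 7 n1091
theorem D2257 : act 7 n1091 = n2257 := rfl
theorem F3613 : act 2 n2257 = n1096 := d4_1 D2257 (iv7 F3600) F3599
theorem F3615 : act 1 n1096 = n2253 := d15_0 (iv0 D2253) D2257 F3613
def n2258 : Q := act 0 n1092
theorem D2258 : act 0 n1092 = n2258 := rfl
def n2259 : Q := act 1 n1092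
theorem D2259 : act 1 n1092 = n2259 := rfl
def n2260 : Q := act 5 n1092
theorem D2260 : act 5 n1092 = n2260 := rfl
theorem F3616 : act 0 n2260 = n1284 := d21_7 (iv5 D241) F257 D212 D356 D676 D1092 D2260 (iv5 D1284) (iv6 D750) (iv1 D434)
def n2261 : Q := act 7 n1092
theorem D2261 : act 7 n1092 = n2261 := rfl
def n2262 : Q := act 6 n1093
theorem D2262 : act 6 n1093 = n2262 := rfl
theorem F3617 : act 2 n2262 = n1097 := d3_1 D2262 (iv6 D1097) (iv2 F2017)
def n2265 : Q := act 2 n1094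
theorem D2265 : act 2 n1094 = n2265 := rfl
def n2266 : Q := act 4 n1094
theorem D2266 : act 4 n1094 = n2266 := rfl
def n2267 : Q := act 5 n1094
theorem D2267 : act 5 n1094 = n2267 := rfl
theorem F3618 : act 3 n2267 = n1096 := d6_1 D2267 (iv5 D1096) D1094
def n2268 : Q := act 6 n1094
theorem D2268 : act 6 n1094 = n2268 := rfl
theorem F3619 : act 3 n2268 = n1097 := d7_1 D2268 (iv6 D1097) D1094
def n2269 : Q := act 3 n1095
theorem D2269 : act 3 n1095 = n2269 := rfl
def n2270 : Q := act 5 n1095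
theorem D2270 : act 5 n1095 = n2270 := rfl
def n2271 : Q := act 6 n1095
theorem D2271 : act 6 n1095 = n2271 := rfl
theorem F3620 : act 4 n2271 = n1097 := d10_1 D2271 (iv6 D1097) D1095
def n2272 : Q := act 4 n1096
theorem D2272 : act 4 n1096 = n2272 := rfl
def n2273 : Q := act 0 n1097
theorem D2273 : act 0 n1097 = n2273 := rfl
theorem F3621 : act 5 n2273 = n1304 := d21_0 (iv1 F3434) F3431 F1934 (iv1 F1936) D1303 (iv5 F3610) (iv1 F3615) (iv5 D1096) D1097 D2273
theorem F3622 : act 6 n2273 = n2259 := d21_3 D755 D1304 (iv5 F3621) (iv1 D2259) (iv6 D1092) D1091 D2253 F3610 (iv6 D1303) (iv1 D754)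
def n2274 : Q := act 1 n1097
theorem D2274 : act 1 n1097 = n2274 := rfl
def n2275 : Q := act 5 n1097
theorem D2275 : act 5 n1097 = n2275 := rfl
theorem F3623 : act 0 n2098 = n2275 := d21_1 D2098 (iv5 D2275) (iv6 D1097) (iv1 D677) (iv6 D356) (iv5 D212) D210 D346 D657 D1037
def n2276 : Q := act 7 n1097
theorem D2276 : act 7 n1097 = n2276 := rfl
def n2277 : Q := act 3 n1098
theorem D2277 : act 3 n1098 = n2277 := rfl
theorem F3624 : act 4 n2277 = n2127 := d5_2 D1098 D2277 (iv3 D2127) (iv4 D1054) (iv3 F1266)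
theorem F3625 : act 7 n2277 = n2277 := d8_2 F2019 D2277 (iv3 D2277)
theorem F3626 : act 0 n1376 = n2127 := d20_1 D1376 (iv4 F3624) (iv3 D2277) F2020 (iv3 D768) (iv4 D446) (iv1 D244) D245 D450 D778
def n2278 : Q := act 6 n1098
theorem D2278 : act 6 n1098 = n2278 := rfl
theorem F3627 : act 2 n2278 = n1103 := d3_1 D2278 (iv6 D1103) (iv2 F2018)
theorem F3628 : act 4 n2278 = n1099 := d10_1 D2278 (iv6 D1099) D1098
def n2279 : Q := act 0 n1099
theorem D2279 : act 0 n1099 = n2279 := rfl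
def n2280 : Q := act 1 n1099
theorem D2280 : act 1 n1099 = n2280 := rfl
theorem F3629 : act 1 n2280 = n1106 := d15_1 D2280 (iv7 D1106) (iv2 F2022)
def n2281 : Q := act 7 n1099
theorem D2281 : act 7 n1099 = n2281 := rfl
theorem F3630 : act 2 n2281 = n1106 := d4_1 D2281 (iv7 D1106) (iv2 F2022)
theorem F3631 : act 3 n2281 = n2132 := d8_1 D2281 (iv7 D2132) (iv3 F2023)
theorem F3632 : act 5 n2281 = n2281 := d13_1 D2281 (iv7 D2281) F2024
theorem F3633 : act 6 n2281 = n2281 := d14_1 D2281 (iv7 D2281) (iv6 D1099) F1267 D1099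
theorem F3634 : act 1 n1106 = n2279 := d15_0 (iv0 D2279) D2281 F3630
theorem F3635 : act 1 n1105 = n2281 := d15_1 D1105 (iv7 D2281) F2022
theorem F3636 : act 1 n2281 = n1104 := d15_0 (iv0 D1104) D1106 (iv2 F3630)
def n2282 : Q := act 0 n1100
theorem D2282 : act 0 n1100 = n2282 := rfl
def n2283 : Q := act 1 n1100
theorem D2283 : act 1 n1100 = n2283 := rfl
theorem F3637 : act 1 n2283 = n2165 := d15_1 D2283 (iv7 D2165) (iv2 F2025)
def n2284 : Q := act 5 n1100
theorem D2284 : act 5 n1100 = n2284 := rfl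
theorem F3638 : act 2 n2284 = n2164 := d2_1 D2284 (iv5 D2164) (iv2 F2025)
theorem F3639 : act 3 n2284 = n1189 := d6_1 D2284 (iv5 D1189) (iv3 F2026)
theorem F3640 : act 6 n2284 = n1185 := d12_2 D1100 D2284 (iv5 D1185) (iv6 D711) (iv5 F1272)
def n2285 : Q := act 7 n1100
theorem D2285 : act 7 n1100 = n2285 := rfl
theorem F3641 : act 2 n2285 = n2165 := d4_1 D2285 (iv7 D2165) (iv2 F2025)
theorem F3642 : act 3 n2285 = n1190 := d8_1 D2285 (iv7 D1190) (iv3 F2026)
theorem F3643 : act 6 n2285 = n2285 := d14_1 D2285 (iv7 D2285) (iv6 D1100) F1273 D1100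
theorem F3644 : act 1 n2165 = n2282 := d15_0 (iv0 D2282) D2285 F3641
theorem F3645 : act 1 n2163 = n2285 := d15_1 D2163 (iv7 D2285) F2025
theorem F3646 : act 1 n2285 = n2162 := d15_0 (iv0 D2162) D2165 (iv2 F3641)
def n2286 : Q := act 0 n1101
theorem D2286 : act 0 n1101 = n2286 := rfl
theorem F3647 : act 5 n2286 = n2210 := d19_1 D2286 (iv4 D2210) (iv3 F2006) (iv1 F3388) (iv5 D2078) (iv4 D1031) F1215 (iv1 F731) (iv5 F733) (iv4 D258) (iv3 F397) F294 (iv5 D60) D59 D225 F356 D376 D681 D1101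
theorem F3648 : act 7 n2286 = n2286 := d13_0 F3647 F3577 (iv5 F3647)
def n2287 : Q := act 1 n1101
theorem D2287 : act 1 n1101 = n2287 := rfl
def n2288 : Q := act 2 n1101
theorem D2288 : act 2 n1101 = n2288 := rfl
theorem F3649 : act 4 n2288 = n1109 := d1_2 (iv4 F2027) D2288 (iv2 D1109)
theorem F3650 : act 7 n2288 = n2288 := d4_2 F2028 D2288 (iv2 D2288)
theorem F3651 : act 1 n2288 = n2286 := d15_0 (iv0 D2286) F2028 D2288
theorem F3652 : act 1 n2287 = n2288 := d15_1 D2287 F3650 (iv2 D2288)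
theorem F3653 : act 2 n2286 = n2287 := d15_3 F3652 F3651 F3648
theorem F3654 : act 5 n2287 = n2213 := d2_2 (iv5 F3647) F3653 F3584
theorem F3655 : act 7 n2287 = n2287 := d4_2 F3648 F3653 (iv2 F3653)
def n2289 : Q := act 5 n1101
theorem D2289 : act 5 n1101 = n2289 := rfl
theorem F3656 : act 3 n2289 = n1102 := d6_1 D2289 (iv5 D1102) D1101
theorem F3657 : act 7 n2289 = n2289 := d13_2 F2028 D2289 (iv5 D2289)
theorem F3658 : act 4 n2289 = n2287 := d16_2 (iv4 F2027) D2289 F3654 (iv4 D2213) (iv5 F2501) F2500 (iv5 F2038) F2039 (iv2 D1109)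
def n2290 : Q := act 6 n1101
theorem D2290 : act 6 n1101 = n2290 := rfl
theorem F3659 : act 3 n2290 = n1103 := d7_1 D2290 (iv6 D1103) D1101
theorem F3660 : act 4 n2290 = n1110 := d10_1 D2290 (iv6 D1110) (iv4 F2027)
def n2291 : Q := act 6 n1102
theorem D2291 : act 6 n1102 = n2291 := rfl
def n2292 : Q := act 0 n1103
theorem D2292 : act 0 n1103 = n2292 := rfl
def n2293 : Q := act 1 n1103
theorem D2293 : act 1 n1103 = n2293 := rfl
def n2294 : Q := act 5 n1103
theorem D2294 : act 5 n1103 = n2294 := rfl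
def n2295 : Q := act 7 n1103
theorem D2295 : act 7 n1103 = n2295 := rfl
theorem F3661 : act 4 n2295 = n1106 := d11_1 D2295 (iv7 D1106) (iv4 F2031)
theorem F3662 : act 6 n2295 = n2295 := d14_1 D2295 (iv7 D2295) (iv6 D1103) F1274 D1103
def n2296 : Q := act 2 n1104
theorem D2296 : act 2 n1104 = n2296 := rfl
theorem F3663 : act 7 n1105 = n2296 := d15_2 (iv0 D1104) D1105 (iv2 D2296)
def n2297 : Q := act 3 n1104
theorem D2297 : act 3 n1104 = n2297 := rfl
def n2301 : Q := act 7 n1104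
theorem D2301 : act 7 n1104 = n2301 := rfl
theorem F3664 : act 2 n2301 = n1105 := d4_1 D2301 F3663 (iv2 D2296)
def n2302 : Q := act 3 n1105
theorem D2302 : act 3 n1105 = n2302 := rfl
def n2303 : Q := act 4 n1105
theorem D2303 : act 4 n1105 = n2303 := rfl
def n2304 : Q := act 5 n1105
theorem D2304 : act 5 n1105 = n2304 := rfl
def n2305 : Q := act 6 n1105
theorem D2305 : act 6 n1105 = n2305 := rfl
def n2306 : Q := act 6 n1107
theorem D2306 : act 6 n1107 = n2306 := rfl
theorem F3665 : act 4 n2306 = n1361 := d10_1 D2306 (iv6 D1361) (iv4 F2035)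
def n2307 : Q := act 3 n1108
theorem D2307 : act 3 n1108 = n2307 := rfl
theorem F3666 : act 7 n2307 = n2307 := d8_2 F2043 D2307 (iv3 D2307)
def n2308 : Q := act 6 n1108
theorem D2308 : act 6 n1108 = n2308 := rfl
theorem F3667 : act 2 n2308 = n2306 := d3_1 D2308 (iv6 D2306) F2042
def n2309 : Q := act 6 n1109
theorem D2309 : act 6 n1109 = n2309 := rfl
theorem F3668 : act 2 n2309 = n1110 := d3_1 D2309 (iv6 D1110) D1109
theorem F3669 : act 3 n2309 = n2215 := d7_1 D2309 (iv6 D2215) (iv3 F2037)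
def n2310 : Q := act 0 n1110
theorem D2310 : act 0 n1110 = n2310 := rfl
def n2311 : Q := act 1 n1110
theorem D2311 : act 1 n1110 = n2311 := rfl
def n2312 : Q := act 5 n1110
theorem D2312 : act 5 n1110 = n2312 := rfl
theorem F3670 : act 3 n2312 = n1113 := d6_1 D2312 (iv5 D1113) (iv3 F2044)
theorem F3671 : act 6 n2312 = n2218 := d12_2 D1110 D2312 (iv5 D2218) (iv6 D1083) (iv5 F1277)
def n2313 : Q := act 7 n1110
theorem D2313 : act 7 n1110 = n2313 := rfl
theorem F3672 : act 3 n2313 = n1114 := d8_1 D2313 (iv7 D1114) (iv3 F2044)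
theorem F3673 : act 6 n2313 = n2313 := d14_1 D2313 (iv7 D2313) (iv6 D1110) F1278 D1110
def n2314 : Q := act 2 n1111
theorem D2314 : act 2 n1111 = n2314 := rfl
theorem F3674 : act 7 n1112 = n2314 := d15_2 (iv0 D1111) D1112 (iv2 D2314)
def n2315 : Q := act 3 n1111
theorem D2315 : act 3 n1111 = n2315 := rfl
def n2316 : Q := act 4 n1111
theorem D2316 : act 4 n1111 = n2316 := rfl
def n2317 : Q := act 5 n1111
theorem D2317 : act 5 n1111 = n2317 := rfl
def n2318 : Q := act 6 n1111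
theorem D2318 : act 6 n1111 = n2318 := rfl
def n2319 : Q := act 7 n1111
theorem D2319 : act 7 n1111 = n2319 := rfl
theorem F3675 : act 2 n2319 = n1112 := d4_1 D2319 F3674 (iv2 D2314)
def n2320 : Q := act 3 n1112
theorem D2320 : act 3 n1112 = n2320 := rfl
def n2321 : Q := act 4 n1112
theorem D2321 : act 4 n1112 = n2321 := rfl
def n2322 : Q := act 5 n1112
theorem D2322 : act 5 n1112 = n2322 := rfl
def n2323 : Q := act 6 n1112
theorem D2323 : act 6 n1112 = n2323 := rfl
def n2324 : Q := act 0 n1113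
theorem D2324 : act 0 n1113 = n2324 := rfl
def n2325 : Q := act 1 n1113
theorem D2325 : act 1 n1113 = n2325 := rfl
theorem F3676 : act 1 n2325 = n2233 := d15_1 D2325 (iv7 D2233) (iv2 F2046)
def n2326 : Q := act 4 n1113
theorem D2326 : act 4 n1113 = n2326 := rfl
theorem F3677 : act 2 n2326 = n2232 := d1_1 D2326 (iv4 D2232) (iv2 F2046)
theorem F3678 : act 6 n2326 = n2232 := d10_2 (iv6 F2047) D2326 (iv4 D2232)
def n2327 : Q := act 7 n1113
theorem D2327 : act 7 n1113 = n2327 := rfl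
theorem F3679 : act 2 n2327 = n2233 := d4_1 D2327 (iv7 D2233) (iv2 F2046)
theorem F3680 : act 5 n2327 = n1114 := d13_1 D2327 (iv7 D1114) D1113
theorem F3681 : act 1 n2233 = n2324 := d15_0 (iv0 D2324) D2327 F3679
theorem F3682 : act 1 n2231 = n2327 := d15_1 D2231 (iv7 D2327) F2046
theorem F3683 : act 1 n2327 = n2230 := d15_0 (iv0 D2230) D2233 (iv2 F3679)
def n2330 : Q := act 3 n1115
theorem D2330 : act 3 n1115 = n2330 := rfl
theorem F3686 : act 7 n2330 = n1121 := d8_2 F2054 D2330 (iv3 D1121)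
def n2331 : Q := act 4 n1115
theorem D2331 : act 4 n1115 = n2331 := rfl
theorem F3687 : act 2 n2331 = n1117 := d1_1 D2331 (iv4 D1117) D1115
theorem F3688 : act 7 n2331 = n1122 := d11_2 F2054 D2331 (iv4 D1122)
def n2332 : Q := act 5 n1115
theorem D2332 : act 5 n1115 = n2332 := rfl
theorem F3689 : act 2 n2332 = n1118 := d2_1 D2332 (iv5 D1118) D1115
theorem F3690 : act 7 n2332 = n1123 := d13_2 F2054 D2332 (iv5 D1123)
def n2333 : Q := act 6 n1115
theorem D2333 : act 6 n1115 = n2333 := rfl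
theorem F3691 : act 2 n2333 = n1119 := d3_1 D2333 (iv6 D1119) D1115
def n2336 : Q := act 2 n1116
theorem D2336 : act 2 n1116 = n2336 := rfl
def n2339 : Q := act 6 n1116
theorem D2339 : act 6 n1116 = n2339 := rfl
theorem F3693 : act 3 n2339 = n1119 := d7_1 D2339 (iv6 D1119) D1116
def n2341 : Q := act 0 n1117
theorem D2341 : act 0 n1117 = n2341 := rfl
def n2342 : Q := act 1 n1117
theorem D2342 : act 1 n1117 = n2342 := rfl
theorem F3695 : act 1 n2342 = n1122 := d15_1 D2342 (iv7 F3688) F3687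
def n2343 : Q := act 3 n1117
theorem D2343 : act 3 n1117 = n2343 := rfl
def n2344 : Q := act 5 n1117
theorem D2344 : act 5 n1117 = n2344 := rfl
def n2345 : Q := act 6 n1117
theorem D2345 : act 6 n1117 = n2345 := rfl
theorem F3696 : act 4 n2345 = n1119 := d10_1 D2345 (iv6 D1119) D1117
def n2346 : Q := act 7 n1117
theorem D2346 : act 7 n1117 = n2346 := rfl
theorem F3697 : act 2 n2346 = n1122 := d4_1 D2346 (iv7 F3688) F3687
theorem F3699 : act 1 n1122 = n2341 := d15_0 (iv0 D2341) D2346 F3697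
def n2347 : Q := act 0 n1118
theorem D2347 : act 0 n1118 = n2347 := rfl
theorem F3700 : act 5 n2347 = n2104 := d21_2 D1118 D2347 (iv6 D2104) (iv1 D1038) (iv6 D657) (iv5 D346) (iv1 F260) D219 D379 D685
def n2348 : Q := act 1 n1118
theorem D2348 : act 1 n1118 = n2348 := rfl
theorem F3701 : act 1 n2348 = n1123 := d15_1 D2348 (iv7 F3690) F3689
def n2349 : Q := act 4 n1118
theorem D2349 : act 4 n1118 = n2349 := rfl
def n2350 : Q := act 6 n1118
theorem D2350 : act 6 n1118 = n2350 := rfl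
theorem F3702 : act 0 n2350 = n1298 := d21_10 F3541 (iv1 D2185) (iv5 D1072) (iv6 D671) (iv1 F625) D379 F1112 D685 D1118 D2350
def n2351 : Q := act 7 n1118
theorem D2351 : act 7 n1118 = n2351 := rfl
theorem F3703 : act 2 n2351 = n1123 := d4_1 D2351 (iv7 F3690) F3689
theorem F3705 : act 1 n1123 = n2347 := d15_0 (iv0 D2347) D2351 F3703
def n2352 : Q := act 0 n1119
theorem D2352 : act 0 n1119 = n2352 := rfl
def n2353 : Q := act 1 n1119
theorem D2353 : act 1 n1119 = n2353 := rfl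
def n2354 : Q := act 5 n1119
theorem D2354 : act 5 n1119 = n2354 := rfl
theorem F3706 : act 0 n2354 = n1280 := d21_7 (iv5 D346) (iv1 F260) D219 D379 D685 D1119 D2354 (iv5 D1280) (iv6 D749) (iv1 F729)
def n2355 : Q := act 7 n1119
theorem D2355 : act 7 n1119 = n2355 := rfl
def n2357 : Q := act 0 n1121
theorem D2357 : act 0 n1121 = n2357 := rfl
def n2358 : Q := act 1 n1121
theorem D2358 : act 1 n1121 = n2358 := rfl
def n2359 : Q := act 2 n1121
theorem D2359 : act 2 n1121 = n2359 := rfl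
def n2360 : Q := act 4 n1121
theorem D2360 : act 4 n1121 = n2360 := rfl
def n2361 : Q := act 5 n1121
theorem D2361 : act 5 n1121 = n2361 := rfl
theorem F3708 : act 3 n2361 = n1123 := d6_1 D2361 (iv5 D1123) D1121
def n2362 : Q := act 6 n1121
theorem D2362 : act 6 n1121 = n2362 := rfl
theorem F3709 : act 3 n2362 = n1124 := d7_1 D2362 (iv6 D1124) D1121
def n2363 : Q := act 3 n1122
theorem D2363 : act 3 n1122 = n2363 := rfl
def n2364 : Q := act 5 n1122
theorem D2364 : act 5 n1122 = n2364 := rfl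
def n2365 : Q := act 6 n1122
theorem D2365 : act 6 n1122 = n2365 := rfl
theorem F3710 : act 4 n2365 = n1124 := d10_1 D2365 (iv6 D1124) D1122
def n2366 : Q := act 4 n1123
theorem D2366 : act 4 n1123 = n2366 := rfl
def n2367 : Q := act 0 n1124
theorem D2367 : act 0 n1124 = n2367 := rfl
theorem F3711 : act 5 n2367 = n2105 := d21_0 (iv1 F3432) F2397 F1467 (iv1 F1930) D2104 (iv5 F3700) (iv1 F3705) (iv5 D1123) D1124 D2367
theorem F3712 : act 6 n2367 = n2353 := d21_3 D1039 D2105 (iv5 F3711) (iv1 D2353) (iv6 D1119) D1118 D2347 F3700 (iv6 D2104) (iv1 D1038)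
def n2368 : Q := act 1 n1124
theorem D2368 : act 1 n1124 = n2368 := rfl
def n2369 : Q := act 5 n1124
theorem D2369 : act 5 n1124 = n2369 := rfl
theorem F3713 : act 0 n1297 = n2369 := d21_1 D1297 (iv5 D2369) (iv6 D1124) (iv1 D686) (iv6 D379) (iv5 D219) F259 D241 D436 D753
def n2370 : Q := act 7 n1124
theorem D2370 : act 7 n1124 = n2370 := rfl
def n2371 : Q := act 6 n1125
theorem D2371 : act 6 n1125 = n2371 := rfl
theorem F3714 : act 4 n2371 = n1126 := d10_1 D2371 (iv6 D1126) D1125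
def n2372 : Q := act 0 n1126
theorem D2372 : act 0 n1126 = n2372 := rfl
def n2373 : Q := act 1 n1126
theorem D2373 : act 1 n1126 = n2373 := rfl
def n2374 : Q := act 5 n1126
theorem D2374 : act 5 n1126 = n2374 := rfl
theorem F3715 : act 3 n2374 = n1284 := d6_1 D2374 (iv5 D1284) (iv3 F2059)
theorem F3716 : act 6 n2374 = n1141 := d12_2 D1126 D2374 F2091 (iv6 D827) F1290
def n2375 : Q := act 7 n1126
theorem D2375 : act 7 n1126 = n2375 := rfl
theorem F3717 : act 3 n2375 = n1285 := d8_1 D2375 (iv7 D1285) (iv3 F2059)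
theorem F3718 : act 6 n2375 = n2375 := d14_1 D2375 (iv7 D2375) (iv6 D1126) F1291 D1126
def n2376 : Q := act 3 n1127
theorem D2376 : act 3 n1127 = n2376 := rfl
theorem F3719 : act 7 n2376 = n2376 := d8_2 F2061 D2376 (iv3 D2376)
def n2377 : Q := act 6 n1127
theorem D2377 : act 6 n1127 = n2377 := rfl
theorem F3720 : act 2 n2377 = n2371 := d3_1 D2377 (iv6 D2371) (iv2 F2060)
theorem F3721 : act 4 n2377 = n1128 := d10_1 D2377 (iv6 D1128) D1127
def n2378 : Q := act 0 n1128
theorem D2378 : act 0 n1128 = n2378 := rfl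
theorem F3722 : act 6 n2378 = n2304 := d21_5 (iv5 F1342) (iv1 F1345) F1347 D1128 D2378 (iv5 D2304) (iv1 D1105) F1276 (iv6 D682) F1253
def n2379 : Q := act 1 n1128
theorem D2379 : act 1 n1128 = n2379 := rfl
theorem F3723 : act 1 n2379 = n2375 := d15_1 D2379 (iv7 D2375) (iv2 F2064)
def n2380 : Q := act 5 n1128
theorem D2380 : act 5 n1128 = n2380 := rfl
theorem F3724 : act 2 n2380 = n2374 := d2_1 D2380 (iv5 D2374) (iv2 F2064)
theorem F3725 : act 6 n2380 = n2085 := d12_2 D1128 D2380 F3406 (iv6 D1182) F1347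
def n2381 : Q := act 7 n1128
theorem D2381 : act 7 n1128 = n2381 := rfl
theorem F3726 : act 2 n2381 = n2375 := d4_1 D2381 (iv7 D2375) (iv2 F2064)
theorem F3727 : act 6 n2381 = n2381 := d14_1 D2381 (iv7 D2381) (iv6 D1128) F1294 D1128
theorem F3728 : act 1 n2375 = n2378 := d15_0 (iv0 D2378) D2381 F3726
theorem F3729 : act 1 n2373 = n2381 := d15_1 D2373 (iv7 D2381) F2064
theorem F3730 : act 1 n2381 = n2372 := d15_0 (iv0 D2372) D2375 (iv2 F3726)
def n2382 : Q := act 5 n1129
theorem D2382 : act 5 n1129 = n2382 := rfl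
theorem F3731 : act 3 n2382 = n1358 := d6_1 D2382 F2482 F2067
theorem F3732 : act 7 n2382 = n2382 := d13_2 F2068 D2382 (iv5 D2382)
theorem F3733 : act 4 n2382 = n1316 := d16_2 (iv4 F2065) D2382 F2433 (iv4 D1127) (iv5 F1347) (iv4 F1544) (iv5 F1941) F1944 (iv2 F1942)
theorem F3734 : act 0 n2382 = n2142 := d17_2 D1129 D2382 (iv5 D2142) F1970 (iv5 F1342) F1344 F1290 (iv0 D688) D690
theorem F3735 : act 1 n2382 = n2144 := d17_6 (iv1 F1244) (iv5 F1541) (iv1 D823) (iv5 F1446) (iv4 F2065) D2382 (iv5 D2144) F1973 (iv4 D1054)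
theorem F3736 : act 3 n1376 = n2144 := d20_9 F3733 (iv1 D1316) F1471 (iv3 D761) F743 D751 F1461 D778 D1376 (iv1 F3735)
theorem E373 : n2142 = n1380 := (c5_3 D1376 F3736 F3515 (iv3 D1380) (iv4 F2516) (iv3 D1375))
theorem F3737 : act 1 n1380 = n2382 := (sb E373 (iv0 F3734))
theorem F3738 : act 2 n1380 = n2144 := (sb E373 (iv2 F3513))
theorem F3739 : act 4 n1380 = n2144 := (sb E373 (iv4 F3515))
theorem F3740 : act 5 n1380 = n1059 := (sb E373 (iv5 D2142))
theorem F3741 : act 7 n1380 = n1380 := (sb E373 (tr F3511 E373))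
theorem F3742 : act 5 n1387 = n1376 := d6_0 F3736 (iv5 D2144) (iv3 F2528)
theorem F3743 : act 7 n1376 = n1376 := d8_0 F3736 F3514 (iv3 F3736)
theorem E374 : n1377 = n1145 := ((c19_1 D1145 (iv5 D1377) D1376 F3736 (iv1 F3735) (iv5 D2382) F2065 (iv3 D748) (iv1 F729) (iv5 D346) F192 F270 (iv1 F328) F63 (iv4 F64) F329 (iv1 F264) D226 D400 D696)).symm
theorem F3744 : act 5 n1145 = n778 := (sb E374 (iv5 D1377))
theorem F3745 : act 5 n1374 = n1146 := d2_2 F3744 D1374 F2098
theorem E375 : n1379 = n778 := (c13_3 F2099 F3744 D1379 (iv5 F3744))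
theorem E376 : n1374 = n779 := ((D1374).symm.trans (sb E375 F2517))
theorem F3746 : act 7 n778 = n778 := (sb E375 (iv7 D1379))
theorem F3747 : act 2 n779 = n778 := (sb E376 (iv2 D1374))
theorem E377 : n1381 = n1146 := ((D1381).symm.trans (sb E376 F3745))
theorem F3748 : act 7 n779 = n779 := (sb E376 (iv7 F2515))
theorem F3749 : act 5 n1146 = n779 := (sb E377 (iv5 D1381))
theorem F3750 : act 5 n2087 = n1286 := d17_1 D2087 (iv1 F2387) (iv5 F3529) F3528 F3744 (iv0 D778) D781 D1386 F2524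
theorem F3751 : act 7 n1286 = n1286 := d13_2 F3581 F3750 (iv5 F3750)
theorem F3752 : act 2 n1286 = n1287 := d15_3 F2388 F2387 F3751
theorem F3753 : act 7 n1287 = n1287 := d4_2 F3751 F3752 (iv2 F3752)
theorem F3754 : act 5 n1287 = n2088 := d2_2 F3750 F3752 F3580
theorem F3755 : act 3 n2286 = n1287 := d6_3 F3754 (iv3 F3578) (iv5 F3647)
theorem F3756 : act 2 n1376 = n1375 := d16_9 F2516 (iv5 F3749) (iv4 F2096) F1986 F1461 D781 D1387 F3742 F3743
theorem F3757 : act 7 n1375 = n1375 := d4_2 F3743 F3756 (iv2 F3756)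
theorem F3758 : act 2 n1378 = n1382 := d3_3 (iv6 D1382) F3747 D1378
def n2383 : Q := act 6 n1129
theorem D2383 : act 6 n1129 = n2383 := rfl
theorem F3759 : act 3 n2383 = n2306 := d7_1 D2383 (iv6 D2306) F2067
theorem F3760 : act 4 n2383 = n1277 := d10_1 D2383 (iv6 D1277) (iv4 F2065)
def n2384 : Q := act 3 n1130
theorem D2384 : act 3 n1130 = n2384 := rfl
theorem F3761 : act 2 n2384 = n2307 := d0_1 D2384 (iv3 D2307) (iv2 F2042) F2067 F2071
theorem F3762 : act 4 n2384 = n2376 := d5_2 (iv4 F2070) D2384 (iv3 D2376) (iv4 D1127) (iv3 F1945)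
theorem F3763 : act 7 n2384 = n2384 := d8_2 F2072 D2384 (iv3 D2384)
def n2385 : Q := act 5 n1130
theorem D2385 : act 5 n1130 = n2385 := rfl
theorem F3764 : act 2 n2385 = n2382 := d2_1 D2385 (iv5 D2382) F2071
theorem F3765 : act 4 n2385 = n1315 := d9_1 D2385 F2431 (iv4 D1125) (iv5 F1290) F778 (iv5 F1446) (iv4 F2065) D2382 F3733 F2433 (iv4 D1127) (iv5 F1347) (iv4 F1544) (iv5 F1941) (iv4 F2070)
theorem F3766 : act 7 n2385 = n2385 := d13_2 F2072 D2385 (iv5 D2385)
theorem F3767 : act 0 n2385 = n2144 := d17_2 (iv1 F2069) D2385 (iv5 D2144) F1974 F1272 D709 F1347 F1292 D1031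
theorem F3768 : act 1 n2385 = n1380 := d17_6 D665 (iv5 F1536) (iv1 F1546) (iv5 F1941) (iv4 F2070) D2385 F3740 (iv0 D1059) (iv4 D667)
def n2386 : Q := act 6 n1130
theorem D2386 : act 6 n1130 = n2386 := rfl
theorem F3769 : act 2 n2386 = n2383 := d3_1 D2386 (iv6 D2383) F2071
theorem F3770 : act 4 n2386 = n2111 := d10_1 D2386 (iv6 D2111) (iv4 F2070)
def n2387 : Q := act 0 n1131
theorem D2387 : act 0 n1131 = n2387 := rfl
theorem F3771 : act 5 n2387 = n2127 := d19_1 D2387 (iv4 F3624) (iv3 D2277) F2020 F1481 F1471 (iv3 D761) F743 (iv5 F1250) (iv4 D670) D669 (iv1 F1268) (iv5 D679) F640 (iv3 F639) (iv1 F643) D398 D690 D1131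
theorem F3772 : act 3 n2387 = n2128 := d20_5 (iv4 D1127) (iv1 D689) D690 D1131 D2387 F3479 (iv1 F2326) F2323 F2322 (iv1 F2063)
theorem F3773 : act 2 n2212 = n2387 := d0_5 F3772 F3478 F2006 F2011 D2212
theorem F3774 : act 7 n2387 = n2387 := d8_0 F3772 F3480 (iv3 F3772)
theorem F3775 : act 1 n1131 = n2212 := d15_1 (iv0 D2387) F3583 F3773
def n2388 : Q := act 2 n1131
theorem D2388 : act 2 n1131 = n2388 := rfl
theorem F3776 : act 3 n2388 = n1385 := d0_2 D1131 D2388 (iv2 F2526) (iv3 F2523) F1915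
theorem F3777 : act 4 n2388 = n1147 := d1_2 (iv4 F2073) D2388 (iv2 D1147)
theorem F3778 : act 7 n2388 = n2388 := d4_2 F2074 D2388 (iv2 D2388)
theorem F3779 : act 1 n2388 = n2387 := d15_0 (iv0 D2387) F2074 D2388
theorem F3780 : act 1 n2212 = n2388 := d15_1 F3775 F3778 (iv2 D2388)
def n2389 : Q := act 5 n1131
theorem D2389 : act 5 n1131 = n2389 := rfl
theorem F3781 : act 3 n2389 = n1132 := d6_1 D2389 (iv5 D1132) D1131
theorem F3782 : act 7 n2389 = n2389 := d13_2 F2074 D2389 (iv5 D2389)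
theorem F3783 : act 4 n2389 = n1528 := d16_2 (iv4 F2073) D2389 F3488 (iv4 F3412) (iv5 F3548) F3547 F2670 F2101 (iv2 D1147)
theorem F3784 : act 0 n2307 = n2389 := d19_0 (iv5 D2389) F2073 (iv3 D696) (iv1 F753) F755 F750 D748 (iv1 F1449) (iv5 D660) F617 F618 (iv1 D349) D351 D667 D1061 (iv1 F2497) F2495 F2484 D2307
theorem F3785 : act 1 n2384 = n2389 := d15_0 (iv0 F3784) F3666 (iv2 F3761)
def n2390 : Q := act 6 n1131
theorem D2390 : act 6 n1131 = n2390 := rfl
theorem F3786 : act 3 n2390 = n1133 := d7_1 D2390 (iv6 D1133) D1131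
theorem F3787 : act 4 n2390 = n1148 := d10_1 D2390 (iv6 D1148) (iv4 F2073)
def n2391 : Q := act 6 n1132
theorem D2391 : act 6 n1132 = n2391 := rfl
def n2392 : Q := act 0 n1133
theorem D2392 : act 0 n1133 = n2392 := rfl
def n2393 : Q := act 1 n1133
theorem D2393 : act 1 n1133 = n2393 := rfl
def n2394 : Q := act 5 n1133
theorem D2394 : act 5 n1133 = n2394 := rfl
def n2395 : Q := act 7 n1133
theorem D2395 : act 7 n1133 = n2395 := rfl
theorem F3788 : act 4 n2395 = n1137 := d11_1 D2395 (iv7 D1137) (iv4 F2077)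
theorem F3789 : act 6 n2395 = n2395 := d14_1 D2395 (iv7 D2395) (iv6 D1133) F1295 D1133
def n2396 : Q := act 2 n1134
theorem D2396 : act 2 n1134 = n2396 := rfl
theorem F3790 : act 7 n1135 = n2396 := d15_2 (iv0 D1134) D1135 (iv2 D2396)
def n2397 : Q := act 3 n1134
theorem D2397 : act 3 n1134 = n2397 := rfl
def n2398 : Q := act 4 n1134
theorem D2398 : act 4 n1134 = n2398 := rfl
def n2399 : Q := act 5 n1134
theorem D2399 : act 5 n1134 = n2399 := rfl
def n2400 : Q := act 6 n1134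
theorem D2400 : act 6 n1134 = n2400 := rfl
def n2401 : Q := act 7 n1134
theorem D2401 : act 7 n1134 = n2401 := rfl
theorem F3791 : act 2 n2401 = n1135 := d4_1 D2401 F3790 (iv2 D2396)
def n2402 : Q := act 3 n1135
theorem D2402 : act 3 n1135 = n2402 := rfl
def n2403 : Q := act 4 n1135
theorem D2403 : act 4 n1135 = n2403 := rfl
def n2404 : Q := act 5 n1135
theorem D2404 : act 5 n1135 = n2404 := rfl
def n2405 : Q := act 6 n1135
theorem D2405 : act 6 n1135 = n2405 := rfl
def n2406 : Q := act 0 n1136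
theorem D2406 : act 0 n1136 = n2406 := rfl
def n2407 : Q := act 1 n1136
theorem D2407 : act 1 n1136 = n2407 := rfl
def n2408 : Q := act 4 n1136
theorem D2408 : act 4 n1136 = n2408 := rfl
theorem F3792 : act 6 n2408 = n1143 := d10_2 (iv6 F2079) D2408 (iv4 D1143)
def n2409 : Q := act 7 n1136
theorem D2409 : act 7 n1136 = n2409 := rfl
theorem F3793 : act 3 n2409 = n1166 := d8_1 D2409 (iv7 D1166) (iv3 F2078)
theorem F3794 : act 5 n2409 = n1137 := d13_1 D2409 (iv7 D1137) D1136
def n2410 : Q := act 4 n1138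
theorem D2410 : act 4 n1138 = n2410 := rfl
theorem F3795 : act 7 n2410 = n1614 := d11_2 (iv7 F2083) D2410 (iv4 D1614)
def n2411 : Q := act 6 n1138
theorem D2411 : act 6 n1138 = n2411 := rfl
theorem F3796 : act 3 n2411 = n1198 := d7_1 D2411 (iv6 D1198) (iv3 F2082)
theorem F3797 : act 5 n2411 = n1615 := d12_1 D2411 (iv6 D1615) (iv5 D868) F1299 D1138
def n2412 : Q := act 4 n1140
theorem D2412 : act 4 n1140 = n2412 := rfl
theorem F3798 : act 2 n2412 = n1614 := d1_1 D2412 (iv4 D1614) (iv2 F2090)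
def n2413 : Q := act 6 n1140
theorem D2413 : act 6 n1140 = n2413 := rfl
theorem F3799 : act 2 n2413 = n1615 := d3_1 D2413 (iv6 D1615) (iv2 F2090)
def n2414 : Q := act 4 n1141
theorem D2414 : act 4 n1141 = n2414 := rfl
theorem F3800 : act 1 n2414 = n2117 := d18_6 D1554 F2698 (iv1 D1523) (iv4 F1555) (iv5 F2091) D2414 (iv4 D2117) (iv0 F2710) (iv5 D1556)
def n2415 : Q := act 4 n1142
theorem D2415 : act 4 n1142 = n2415 := rfl
theorem F3801 : act 0 n2415 = n2117 := d18_2 (iv1 F2735) D2415 (iv4 D2117) (iv5 D1046) (iv4 F1240) D1051 F2402 F1605 D1571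
def n2416 : Q := act 5 n1142
theorem D2416 : act 5 n1142 = n2416 := rfl
theorem F3802 : act 2 n2416 = n1184 := d2_1 D2416 (iv5 F2420) F2736
theorem F3803 : act 3 n2416 = n1555 := d6_1 D2416 (iv5 F3467) F3469
theorem F3804 : act 7 n2416 = n1182 := d13_2 F3409 D2416 (iv5 F3406)
theorem F3805 : act 4 n2416 = n1555 := d17_4 F1604 D1571 (iv1 F2735) D2416 (iv5 F3467) F3465 (iv5 D1574) (iv0 D851) (iv4 F1298)
theorem F3806 : act 0 n1183 = n2416 := d21_10 (iv5 D2416) (iv1 D1142) (iv5 D694) (iv6 D399) F356 F1046 D376 F1253 (iv5 F1342) D1183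
theorem F3807 : act 6 n2416 = n2416 := d21_5 D376 F1253 (iv5 F1342) D1183 F3806 (iv5 D2416) (iv1 D1142) (iv5 D694) (iv6 D399) F356
theorem F3808 : act 0 n2416 = n1186 := d21_4 D1571 (iv1 F2735) D2416 F3807 F2180 (iv5 F2578) F2583 (iv5 D868) F1299 F1604
def n2417 : Q := act 6 n1142
theorem D2417 : act 6 n1142 = n2417 := rfl
theorem F3809 : act 5 n2417 = n2417 := d12_1 D2417 (iv6 D2417) D2416 F3807 (iv5 D2416)
def n2418 : Q := act 0 n1143
theorem D2418 : act 0 n1143 = n2418 := rfl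
theorem F3810 : act 4 n2418 = n1308 := d18_3 (iv1 D1142) D1143 D2418 F2398 (iv4 F1555) F2181 F2179 (iv0 F3808) (iv5 D2416)
def n2419 : Q := act 1 n1143
theorem D2419 : act 1 n1143 = n2419 := rfl
theorem F3811 : act 4 n2419 = n2124 := d18_7 F2405 F2402 (iv1 D693) F674 D694 D1143 D2419 F3465 (iv5 D1574)
def n2420 : Q := act 3 n1143
theorem D2420 : act 3 n1143 = n2420 := rfl
theorem F3812 : act 4 n2420 = n1178 := d5_2 D1143 D2420 (iv3 D1178) (iv4 D707) (iv3 F1301)
def n2421 : Q := act 5 n1143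
theorem D2421 : act 5 n1143 = n2421 := rfl
def n2422 : Q := act 7 n1143
theorem D2422 : act 7 n1143 = n2422 := rfl
theorem F3813 : act 4 n2422 = n1144 := d11_1 D2422 (iv7 D1144) D1143
def n2423 : Q := act 6 n1144
theorem D2423 : act 6 n1144 = n2423 := rfl
theorem F3814 : act 3 n2423 = n1181 := d7_1 D2423 (iv6 D1181) (iv3 F2093)
theorem F3815 : act 5 n2423 = n2423 := d12_1 D2423 (iv6 D2423) F2094 F1304 (iv5 F2094)
def n2424 : Q := act 3 n1145
theorem D2424 : act 3 n1145 = n2424 := rfl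
theorem F3816 : act 2 n2424 = n1387 := d0_1 D2424 F2528 (iv2 F1975) F2095 F2098
theorem F3817 : act 4 n2424 = n1383 := d5_2 F3528 D2424 (iv3 F2669) (iv4 F3547) F3546
theorem F3818 : act 5 n2424 = n1375 := d6_2 (iv5 F3744) D2424 (iv3 D1375)
theorem F3819 : act 7 n2424 = n2424 := d8_2 F2099 D2424 (iv3 D2424)
def n2425 : Q := act 6 n1145
theorem D2425 : act 6 n1145 = n2425 := rfl
def n2426 : Q := act 6 n1146
theorem D2426 : act 6 n1146 = n2426 := rfl
theorem F3820 : act 2 n2426 = n2425 := d3_1 D2426 (iv6 D2425) (iv2 F2098)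
theorem F3821 : act 3 n2426 = n2143 := d7_1 D2426 (iv6 D2143) F2095
theorem F3822 : act 4 n2426 = n2169 := d10_1 D2426 (iv6 D2169) F2096
def n2427 : Q := act 6 n1147
theorem D2427 : act 6 n1147 = n2427 := rfl
theorem F3823 : act 2 n2427 = n1148 := d3_1 D2427 (iv6 D1148) D1147
theorem F3824 : act 3 n2427 = n1384 := d7_1 D2427 (iv6 D1384) (iv3 F2100)
def n2428 : Q := act 0 n1148
theorem D2428 : act 0 n1148 = n2428 := rfl
def n2429 : Q := act 1 n1148
theorem D2429 : act 1 n1148 = n2429 := rfl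
def n2430 : Q := act 5 n1148
theorem D2430 : act 5 n1148 = n2430 := rfl
theorem F3825 : act 3 n2430 = n1151 := d6_1 D2430 (iv5 D1151) (iv3 F2104)
def n2431 : Q := act 7 n1148
theorem D2431 : act 7 n1148 = n2431 := rfl
theorem F3826 : act 3 n2431 = n1152 := d8_1 D2431 (iv7 D1152) (iv3 F2104)
theorem F3827 : act 6 n2431 = n2431 := d14_1 D2431 (iv7 D2431) (iv6 D1148) F1306 D1148
def n2432 : Q := act 2 n1149
theorem D2432 : act 2 n1149 = n2432 := rfl
def n2433 : Q := act 3 n1149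
theorem D2433 : act 3 n1149 = n2433 := rfl
def n2434 : Q := act 4 n1149
theorem D2434 : act 4 n1149 = n2434 := rfl
def n2435 : Q := act 5 n1149
theorem D2435 : act 5 n1149 = n2435 := rfl
def n2436 : Q := act 6 n1149
theorem D2436 : act 6 n1149 = n2436 := rfl
def n2437 : Q := act 7 n1149
theorem D2437 : act 7 n1149 = n2437 := rfl
def n2438 : Q := act 3 n1150
theorem D2438 : act 3 n1150 = n2438 := rfl
def n2439 : Q := act 4 n1150
theorem D2439 : act 4 n1150 = n2439 := rfl
def n2440 : Q := act 5 n1150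
theorem D2440 : act 5 n1150 = n2440 := rfl
def n2441 : Q := act 6 n1150
theorem D2441 : act 6 n1150 = n2441 := rfl
def n2442 : Q := act 0 n1151
theorem D2442 : act 0 n1151 = n2442 := rfl
def n2443 : Q := act 1 n1151
theorem D2443 : act 1 n1151 = n2443 := rfl
theorem F3830 : act 1 n2443 = n1410 := d15_1 D2443 (iv7 D1410) (iv2 F2106)
def n2444 : Q := act 4 n1151
theorem D2444 : act 4 n1151 = n2444 := rfl
theorem F3831 : act 2 n2444 = n1409 := d1_1 D2444 (iv4 D1409) (iv2 F2106)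
def n2445 : Q := act 7 n1151
theorem D2445 : act 7 n1151 = n2445 := rfl
theorem F3832 : act 2 n2445 = n1410 := d4_1 D2445 (iv7 D1410) (iv2 F2106)
theorem F3833 : act 5 n2445 = n1152 := d13_1 D2445 (iv7 D1152) D1151
theorem F3834 : act 1 n1410 = n2442 := d15_0 (iv0 D2442) D2445 F3832
theorem F3835 : act 1 n1408 = n2445 := d15_1 D1408 (iv7 D2445) F2106
theorem F3836 : act 1 n2445 = n1407 := d15_0 (iv0 D1407) D1410 (iv2 F3832)
def n2448 : Q := act 3 n1153
theorem D2448 : act 3 n1153 = n2448 := rfl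
theorem F3839 : act 7 n2448 = n1159 := d8_2 F2113 D2448 (iv3 D1159)
def n2449 : Q := act 4 n1153
theorem D2449 : act 4 n1153 = n2449 := rfl
theorem F3840 : act 2 n2449 = n1155 := d1_1 D2449 (iv4 D1155) D1153
theorem F3841 : act 7 n2449 = n1160 := d11_2 F2113 D2449 (iv4 D1160)
def n2450 : Q := act 5 n1153
theorem D2450 : act 5 n1153 = n2450 := rfl
theorem F3842 : act 2 n2450 = n1156 := d2_1 D2450 (iv5 D1156) D1153
theorem F3843 : act 7 n2450 = n1161 := d13_2 F2113 D2450 (iv5 D1161)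
def n2452 : Q := act 0 n1154
theorem D2452 : act 0 n1154 = n2452 := rfl
def n2453 : Q := act 1 n1154
theorem D2453 : act 1 n1154 = n2453 := rfl
def n2454 : Q := act 2 n1154
theorem D2454 : act 2 n1154 = n2454 := rfl
def n2455 : Q := act 4 n1154
theorem D2455 : act 4 n1154 = n2455 := rfl
def n2456 : Q := act 5 n1154
theorem D2456 : act 5 n1154 = n2456 := rfl
theorem F3845 : act 3 n2456 = n1156 := d6_1 D2456 (iv5 D1156) D1154
def n2457 : Q := act 6 n1154
theorem D2457 : act 6 n1154 = n2457 := rfl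
theorem F3846 : act 3 n2457 = n1157 := d7_1 D2457 (iv6 D1157) D1154
def n2458 : Q := act 7 n1154
theorem D2458 : act 7 n1154 = n2458 := rfl
theorem F3847 : act 3 n2458 = n1158 := d8_1 D2458 (iv7 D1158) D1154
def n2459 : Q := act 0 n1155
theorem D2459 : act 0 n1155 = n2459 := rfl
def n2460 : Q := act 1 n1155
theorem D2460 : act 1 n1155 = n2460 := rfl
theorem F3848 : act 1 n2460 = n1160 := d15_1 D2460 (iv7 F3841) F3840
def n2461 : Q := act 3 n1155
theorem D2461 : act 3 n1155 = n2461 := rfl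
def n2462 : Q := act 5 n1155
theorem D2462 : act 5 n1155 = n2462 := rfl
def n2463 : Q := act 6 n1155
theorem D2463 : act 6 n1155 = n2463 := rfl
theorem F3849 : act 4 n2463 = n1157 := d10_1 D2463 (iv6 D1157) D1155
def n2464 : Q := act 7 n1155
theorem D2464 : act 7 n1155 = n2464 := rfl
theorem F3850 : act 2 n2464 = n1160 := d4_1 D2464 (iv7 F3841) F3840
theorem F3851 : act 4 n2464 = n1158 := d11_1 D2464 (iv7 D1158) D1155
theorem F3852 : act 1 n1160 = n2459 := d15_0 (iv0 D2459) D2464 F3850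
def n2465 : Q := act 0 n1156
theorem D2465 : act 0 n1156 = n2465 := rfl
theorem F3853 : act 5 n2465 = n1252 := d21_2 D1156 D2465 (iv6 D1252) (iv1 D737) (iv6 D428) (iv5 D235) (iv1 F264) D226 D401 D698
theorem F3854 : act 6 n1348 = n2465 := d12_0 F3853 (iv6 D1252) D1251 (iv6 F2334) D1348
theorem F3855 : act 0 n2465 = n1161 := d21_10 (iv5 D1161) (iv1 D699) D700 F1311 D705 (iv6 F1488) (iv5 D772) D770 D1348 F3854
theorem F3856 : act 0 n1162 = n1246 := d21_10 (iv5 D1246) (iv1 F1445) F1441 F1442 (iv1 F1444) D1252 (iv5 F3853) F3855 (iv5 D1161) D1162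
def n2466 : Q := act 1 n1156
theorem D2466 : act 1 n1156 = n2466 := rfl
theorem F3857 : act 1 n2466 = n1161 := d15_1 D2466 (iv7 F3843) F3842
def n2467 : Q := act 4 n1156
theorem D2467 : act 4 n1156 = n2467 := rfl
def n2468 : Q := act 6 n1156
theorem D2468 : act 6 n1156 = n2468 := rfl
def n2469 : Q := act 7 n1156
theorem D2469 : act 7 n1156 = n2469 := rfl
theorem F3858 : act 2 n2469 = n1161 := d4_1 D2469 (iv7 F3843) F3842
theorem F3859 : act 5 n2469 = n1158 := d13_1 D2469 (iv7 D1158) D1156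
def n2470 : Q := act 0 n1157
theorem D2470 : act 0 n1157 = n2470 := rfl
def n2471 : Q := act 1 n1157
theorem D2471 : act 1 n1157 = n2471 := rfl
theorem F3860 : act 6 n1246 = n2471 := d21_3 F716 D736 D1246 (iv1 D2471) (iv6 D1157) D1156 D2465 F3853 (iv6 D1252) (iv1 D737)
def n2472 : Q := act 7 n1157
theorem D2472 : act 7 n1157 = n2472 := rfl
def n2473 : Q := act 6 n1158
theorem D2473 : act 6 n1158 = n2473 := rfl
theorem F3861 : act 2 n2473 = n1162 := d3_1 D2473 (iv6 D1162) (iv2 F2114)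
def n2476 : Q := act 2 n1159
theorem D2476 : act 2 n1159 = n2476 := rfl
def n2477 : Q := act 4 n1159
theorem D2477 : act 4 n1159 = n2477 := rfl
def n2478 : Q := act 5 n1159
theorem D2478 : act 5 n1159 = n2478 := rfl
theorem F3862 : act 3 n2478 = n1161 := d6_1 D2478 (iv5 D1161) D1159
def n2479 : Q := act 6 n1159
theorem D2479 : act 6 n1159 = n2479 := rfl
theorem F3863 : act 3 n2479 = n1162 := d7_1 D2479 (iv6 D1162) D1159
def n2480 : Q := act 3 n1160
theorem D2480 : act 3 n1160 = n2480 := rfl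
def n2481 : Q := act 5 n1160
theorem D2481 : act 5 n1160 = n2481 := rfl
def n2482 : Q := act 6 n1160
theorem D2482 : act 6 n1160 = n2482 := rfl
theorem F3864 : act 4 n2482 = n1162 := d10_1 D2482 (iv6 D1162) D1160
def n2483 : Q := act 4 n1161
theorem D2483 : act 4 n1161 = n2483 := rfl
def n2484 : Q := act 1 n1162
theorem D2484 : act 1 n1162 = n2484 := rfl
def n2485 : Q := act 5 n1162
theorem D2485 : act 5 n1162 = n2485 := rfl
theorem F3865 : act 0 n1270 = n2485 := d21_1 D1270 (iv5 D2485) (iv6 D1162) (iv1 D699) (iv6 D401) (iv5 D226) F263 D239 D432 D745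
theorem F3866 : act 2 n1453 = n2485 := d15_3 (iv0 F3865) (iv0 F2559) D1453
theorem F3867 : act 5 n2473 = n1453 := d2_0 F3866 (iv5 D2485) (iv2 F3861)
theorem F3868 : act 7 n2485 = n1439 := d4_2 D1453 F3866 F2565
theorem F3869 : act 6 n1438 = n2485 := d14_5 F3868 (iv6 D1439) (iv7 D793) D792 D1438
theorem F3870 : act 1 n1451 = n2485 := d15_1 D1451 F3868 F2565
theorem F3871 : act 5 n1546 = n1438 := d12_5 F3869 (iv5 D2485) (iv6 D1162) D1161 (iv6 F2687)
theorem E378 : n1451 = n1275 := (c21_11 (iv5 D1275) (iv1 D746) F727 (iv6 D432) (iv1 F413) D491 D837 D1546 F3871 F3869 (iv1 F3870))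
theorem F3872 : act 0 n1275 = n797 := (sb E378 (iv1 D1451))
theorem F3873 : act 1 n1275 = n2485 := (sb E378 F3870)
theorem F3874 : act 7 n1437 = n1546 := d13_0 F3871 (iv7 D1438) D1437
theorem F3875 : act 2 n1546 = n1450 := d15_3 (iv0 F2569) (iv0 F2564) F3874
theorem E379 : n1434 = n1161 := (c3_4 (iv6 F2687) F3875 (iv6 D1450) (iv2 F2561))
theorem E380 : n2469 = n796 := (((iv2 F3858)).symm.trans (sb E379 F2561))
theorem E381 : n793 = n699 := ((((iv5 D1161)).symm.trans (sb E379 F2562))).symm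
theorem E382 : n2450 = n791 := (((iv7 F3843)).symm.trans (sb E379 (iv7 D1434)))
theorem F3876 : act 2 n796 = n1161 := (sb E380 F3858)
theorem E383 : n1158 = n454 := ((((iv5 D796)).symm.trans (sb E380 F3859))).symm
theorem E384 : n1415 = n1156 := (((iv7 F2546)).symm.trans (sb E380 (iv7 D2469)))
theorem E387 : n1423 = n1159 := (((D1159).symm.trans (sb E381 (iv3 F2550)))).symm
theorem E388 : n1429 = n1160 := (((D1160).symm.trans (sb E381 (iv4 F2554)))).symm
theorem E389 : n1439 = n1162 := (((D1162).symm.trans (sb E381 D1439))).symm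
theorem E390 : n1153 = n453 := ((F2113).symm.trans (sb E381 (iv7 D793)))
theorem F3877 : act 7 n791 = n1161 := (sb E382 F3843)
theorem F3878 : act 2 n454 = n699 := (sb E383 F2114)
theorem E393 : n2458 = n794 := (((D794).symm.trans (sb E383 (iv3 F3847)))).symm
theorem E394 : n2464 = n795 := (((D795).symm.trans (sb E383 (iv4 F3851)))).symm
theorem E395 : n2473 = n797 := (((D797).symm.trans (sb E383 D2473))).symm
theorem E396 : n788 = n698 := ((F1509).symm.trans (sb E383 (iv7 D1158)))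
theorem F3879 : act 2 n1156 = n791 := (sb E384 F2545)
theorem F3880 : act 7 n1156 = n796 := (sb E384 F2546)
theorem E397 : n2448 = n789 := (((iv7 F3839)).symm.trans (sb E387 (iv7 D1423)))
theorem E398 : n2449 = n790 := (((iv7 F3841)).symm.trans (sb E388 (iv7 D1429)))
theorem F3881 : act 7 n1162 = n2485 := (sb E389 (iv7 F3868))
theorem F3882 : act 7 n453 = n699 := (sb E390 (iv7 F2113))
theorem E400 : n1413 = n1154 := (((iv7 F2542)).symm.trans (sb E393 (iv7 D2458)))
theorem F3883 : act 2 n795 = n1160 := (sb E394 F3850)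
theorem E401 : n1414 = n1155 := (((iv7 F2544)).symm.trans (sb E394 (iv7 D2464)))
theorem F3884 : act 2 n797 = n1162 := (sb E395 F3861)
theorem E402 : n1453 = n1452 := (((D1452).symm.trans (sb E395 F3867))).symm
theorem F3885 : act 2 n698 = n453 := (sb E396 (iv2 D788))
theorem E403 : n1416 = n1157 := (((D1157).symm.trans (sb E396 D1416))).symm
theorem F3886 : act 7 n698 = n454 := (sb E396 (iv7 F1509))
theorem F3887 : act 7 n789 = n1159 := (sb E397 F3839)
theorem F3888 : act 7 n790 = n1160 := (sb E398 F3841)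
theorem F3889 : act 7 n1154 = n794 := (sb E400 F2542)
theorem F3890 : act 2 n1155 = n790 := (sb E401 F2543)
theorem F3891 : act 7 n1155 = n795 := (sb E401 F2544)
theorem F3892 : act 2 n1452 = n2485 := (sb E402 F3866)
theorem F3893 : act 7 n1452 = n797 := (sb E402 (iv7 D1453))
theorem F3894 : act 2 n1157 = n792 := (sb E403 F2547)
theorem F3895 : act 7 n1547 = n1450 := d15_2 (iv0 D1546) D1547 (iv2 F3875)
theorem F3896 : act 2 n1437 = n1547 := d4_3 F3895 (iv2 F3875) (iv7 F3874)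
theorem F3897 : act 5 n1450 = n2472 := d13_1 F3895 (iv7 D2472) F2688
theorem F3898 : act 1 n1549 = n1450 := d15_1 F2691 (iv7 F3895) (iv2 F3896)
theorem F3899 : act 2 n2472 = n1438 := d2_1 F3897 (iv5 F3871) F3875
theorem F3900 : act 6 n2472 = n1452 := d12_2 D1450 F3897 (iv5 D1452) (iv6 D797) D796
theorem F3901 : act 0 n1452 = n1251 := d21_10 (iv5 D1251) (iv1 D737) F716 (iv6 D428) (iv1 F691) D712 D1189 F2569 F3897 F3900
theorem F3902 : act 0 n1252 = n1457 := d21_10 (iv5 D1457) (iv1 F2122) F2119 F1313 (iv1 F1315) D797 D1452 F3901 (iv5 D1251) D1252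
theorem E404 : n2484 = n1251 := (c15_1 D2484 (iv0 F3901) F3893 F3884)
theorem F3903 : act 0 n1251 = n1162 := (sb E404 (iv1 D2484))
theorem F3904 : act 0 n1438 = n2471 := d21_4 D1251 F3903 D2485 (iv6 F3869) (iv6 F3860) (iv5 D1246) (iv1 F1445) F1441 F1442 (iv1 F1444)
theorem F3905 : act 0 n2472 = n1436 := d21_4 D1275 F3872 D1452 (iv6 F3900) (iv6 F2563) (iv5 D1270) (iv1 F1443) F1421 F1422 (iv1 F1439)
theorem F3906 : act 1 n1438 = n2470 := d15_0 (iv0 D2470) D2472 F3899
theorem F3907 : act 1 n2472 = n1435 := d15_0 (iv0 D1435) D1438 (iv2 F3899)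
theorem F3908 : act 2 n1428 = n2463 := d1_3 F3849 F3894 (iv4 F2552)
theorem F3909 : act 7 n1446 = n2461 := d8_2 F3891 D1446 (iv3 D2461)
theorem F3910 : act 7 n1447 = n2462 := d13_2 F3891 D1447 (iv5 D2462)
theorem F3911 : act 2 n1427 = n2462 := d2_3 (iv5 D2462) F3890 D1427
theorem F3912 : act 7 n1442 = n2454 := d4_2 F3889 D1442 (iv2 D2454)
theorem F3913 : act 7 n1443 = n2455 := d11_2 F3889 D1443 (iv4 D2455)
theorem F3914 : act 7 n1444 = n2456 := d13_2 F3889 D1444 (iv5 D2456)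
theorem F3916 : act 1 n2454 = n1440 := d15_0 (iv0 D1440) (iv7 F3889) D2454
theorem F3918 : act 1 n1441 = n2454 := d15_1 D1441 (iv7 F3912) (iv2 D1442)
theorem F3919 : act 7 n2480 = n1426 := d8_2 F3888 D2480 (iv3 D1426)
theorem F3920 : act 7 n2481 = n1427 := d13_2 F3888 D2481 (iv5 D1427)
theorem F3921 : act 2 n1447 = n2481 := d4_3 F3920 F3911 (iv7 F3910)
theorem F3922 : act 7 n2476 = n1419 := d4_2 F3887 D2476 (iv2 D1419)
theorem F3923 : act 7 n2477 = n1420 := d11_2 F3887 D2477 (iv4 D1420)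
theorem F3924 : act 7 n2478 = n1421 := d13_2 F3887 D2478 (iv5 D1421)
theorem F3929 : act 3 n1419 = n2454 := d0_4 (iv3 D1154) F3885 D789 D1419 (iv2 D2454)
theorem F3930 : act 3 n1442 = n2476 := d8_3 F3922 F3929 (iv7 F3912)
theorem F3931 : act 2 n2482 = n1448 := d1_3 F2568 F3884 (iv4 F3864)
theorem F3932 : act 7 n1449 = n2467 := d11_2 F3880 D1449 (iv4 D2467)
theorem F3933 : act 2 n1432 = n2467 := d1_3 (iv4 D2467) F3879 D1432
theorem F3934 : act 2 n1433 = n2468 := d3_3 (iv6 D2468) F3879 D1433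
theorem F3935 : act 7 n2483 = n1432 := d11_2 F3877 D2483 (iv4 D1432)
theorem F3936 : act 2 n1449 = n2483 := d4_3 F3935 F3933 (iv7 F3932)
def n2486 : Q := act 2 n1163
theorem D2486 : act 2 n1163 = n2486 := rfl
theorem F3937 : act 7 n1164 = n2486 := d15_2 (iv0 D1163) D1164 (iv2 D2486)
def n2487 : Q := act 3 n1163
theorem D2487 : act 3 n1163 = n2487 := rfl
def n2488 : Q := act 4 n1163
theorem D2488 : act 4 n1163 = n2488 := rfl
def n2489 : Q := act 5 n1163
theorem D2489 : act 5 n1163 = n2489 := rfl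
theorem F3938 : act 0 n1276 = n2489 := d21_10 (iv5 D2489) (iv1 F2120) F1512 F765 (iv1 F1309) D1162 D2485 (iv1 F3873) (iv5 D1275) D1276
def n2490 : Q := act 6 n1163
theorem D2490 : act 6 n1163 = n2490 := rfl
def n2491 : Q := act 7 n1163
theorem D2491 : act 7 n1163 = n2491 := rfl
def n2492 : Q := act 3 n1164
theorem D2492 : act 3 n1164 = n2492 := rfl
def n2493 : Q := act 4 n1164
theorem D2493 : act 4 n1164 = n2493 := rfl
def n2494 : Q := act 6 n1164
theorem D2494 : act 6 n1164 = n2494 := rfl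
def n2495 : Q := act 0 n1165
theorem D2495 : act 0 n1165 = n2495 := rfl
def n2496 : Q := act 1 n1165
theorem D2496 : act 1 n1165 = n2496 := rfl
theorem F3940 : act 1 n2496 = n1468 := d15_1 D2496 (iv7 D1468) (iv2 F2116)
def n2497 : Q := act 3 n1165
theorem D2497 : act 3 n1165 = n2497 := rfl
theorem F3941 : act 6 n2497 = n1178 := d7_2 (iv6 F2117) D2497 (iv3 D1178)
def n2498 : Q := act 5 n1165
theorem D2498 : act 5 n1165 = n2498 := rfl
theorem F3942 : act 2 n2498 = n1467 := d2_1 D2498 (iv5 D1467) (iv2 F2116)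
def n2499 : Q := act 7 n1165
theorem D2499 : act 7 n1165 = n2499 := rfl
theorem F3943 : act 2 n2499 = n1468 := d4_1 D2499 (iv7 D1468) (iv2 F2116)
theorem F3944 : act 4 n2499 = n1166 := d11_1 D2499 (iv7 D1166) D1165
theorem F3945 : act 1 n1468 = n2495 := d15_0 (iv0 D2495) D2499 F3943
theorem F3946 : act 1 n1465 = n2499 := d15_1 D1465 (iv7 D2499) F2116
theorem F3947 : act 1 n2499 = n1464 := d15_0 (iv0 D1464) D1468 (iv2 F3943)
def n2500 : Q := act 6 n1166
theorem D2500 : act 6 n1166 = n2500 := rfl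
theorem F3948 : act 2 n2500 = n1469 := d3_1 D2500 (iv6 D1469) (iv2 F2118)
theorem F3949 : act 5 n2500 = n2500 := d12_1 D2500 (iv6 D2500) F2119 F1313 (iv5 F2119)
theorem F3950 : act 7 n2500 = n1181 := d14_2 D1166 D2500 (iv6 D1181) (iv7 D708) (iv6 F1311)
theorem F3951 : act 1 n1519 = n2500 := d15_1 D1519 F3950 F2163
theorem F3952 : act 1 n2500 = n1518 := d15_0 (iv0 D1518) (iv7 F2577) (iv2 F3948)
def n2501 : Q := act 4 n1167
theorem D2501 : act 4 n1167 = n2501 := rfl
theorem F3953 : act 2 n2501 = n2501 := d1_1 D2501 (iv4 D2501) F2123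
theorem F3954 : act 7 n2501 = n1484 := d11_2 (iv7 F2125) D2501 (iv4 D1484)
def n2502 : Q := act 6 n1167
theorem D2502 : act 6 n1167 = n2502 := rfl
theorem F3955 : act 2 n2502 = n2502 := d3_1 D2502 (iv6 D2502) F2123
theorem F3956 : act 3 n2502 = n1169 := d7_1 D2502 (iv6 D1169) (iv3 F2124)
theorem F3957 : act 5 n2502 = n1485 := d12_1 D2502 (iv6 D1485) (iv5 D807) (iv6 F1319) D1167
def n2503 : Q := act 3 n1168
theorem D2503 : act 3 n1168 = n2503 := rfl
theorem F3958 : act 7 n2503 = n1487 := d8_2 (iv7 F2127) D2503 (iv3 D1487)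
def n2504 : Q := act 5 n1168
theorem D2504 : act 5 n1168 = n2504 := rfl
theorem F3959 : act 2 n2504 = n1476 := d2_1 D2504 (iv5 D1476) (iv2 F2126)
theorem F3960 : act 7 n2504 = n1488 := d13_2 (iv7 F2127) D2504 (iv5 D1488)
theorem F3961 : act 4 n2504 = n1231 := d16_2 D1168 D2504 F2305 (iv4 D908) (iv5 D588) (iv4 F1105) D704 F1325 (iv2 F1321)
theorem F3962 : act 0 n2504 = n1719 := d17_2 F2667 D2504 F2931 (iv4 D1572) (iv5 D850) (iv0 D522) D525 (iv0 F1573) D1527
theorem F3963 : act 1 n2504 = n1312 := d17_6 (iv1 D706) (iv5 D404) D402 D703 D1168 D2504 (iv5 D1312) (iv0 F2143) (iv4 D1174)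
def n2505 : Q := act 6 n1168
theorem D2505 : act 6 n1168 = n2505 := rfl
theorem F3964 : act 2 n2505 = n1477 := d3_1 D2505 (iv6 D1477) (iv2 F2126)
theorem F3965 : act 4 n2505 = n1169 := d10_1 D2505 (iv6 D1169) D1168
def n2506 : Q := act 0 n1169
theorem D2506 : act 0 n1169 = n2506 := rfl
def n2507 : Q := act 1 n1169
theorem D2507 : act 1 n1169 = n2507 := rfl
theorem F3966 : act 1 n2507 = n1480 := d15_1 D2507 (iv7 D1480) (iv2 F2128)
def n2508 : Q := act 7 n1169
theorem D2508 : act 7 n1169 = n2508 := rfl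
theorem F3967 : act 2 n2508 = n1480 := d4_1 D2508 (iv7 D1480) (iv2 F2128)
theorem F3968 : act 5 n2508 = n1492 := d13_1 D2508 (iv7 D1492) (iv5 F2129)
theorem F3969 : act 6 n2508 = n1492 := d14_1 D2508 (iv7 D1492) (iv6 D810) (iv7 F1322) D1169
theorem F3970 : act 1 n1480 = n2506 := d15_0 (iv0 D2506) D2508 F3967
theorem F3971 : act 1 n1479 = n2508 := d15_1 D1479 (iv7 D2508) F2128
theorem F3972 : act 1 n2508 = n1478 := d15_0 (iv0 D1478) D1480 (iv2 F3967)
def n2509 : Q := act 3 n1170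
theorem D2509 : act 3 n1170 = n2509 := rfl
theorem F3973 : act 4 n2509 = n2509 := d5_2 D1170 D2509 (iv3 D2509) (iv4 D1170) F1324
theorem F3974 : act 7 n2509 = n1475 := d8_2 (iv7 F2131) D2509 (iv3 D1475)
def n2510 : Q := act 5 n1170
theorem D2510 : act 5 n1170 = n2510 := rfl
theorem F3975 : act 2 n2510 = n1488 := d2_1 D2510 (iv5 D1488) (iv2 F2130)
theorem F3976 : act 4 n2510 = n1230 := d9_1 D2510 F2299 (iv4 D906) (iv5 D583) F988 D703 D1168 D2504 F3961 F2305 (iv4 D908) (iv5 D588) (iv4 F1105) D704 D1170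
theorem F3977 : act 7 n2510 = n1476 := d13_2 (iv7 F2131) D2510 (iv5 D1476)
theorem F3978 : act 0 n2510 = n1312 := d17_2 F2757 D2510 (iv5 D1312) (iv4 D759) (iv5 D439) F999 D545 F1615 D1581
theorem F3979 : act 1 n2510 = n1719 := d17_6 (iv1 F1334) F768 (iv1 F678) D704 D1170 D2510 F2931 F2740 (iv4 D1173)
def n2511 : Q := act 6 n1170
theorem D2511 : act 6 n1170 = n2511 := rfl
theorem F3980 : act 2 n2511 = n1489 := d3_1 D2511 (iv6 D1489) (iv2 F2130)
theorem F3981 : act 4 n2511 = n1171 := d10_1 D2511 (iv6 D1171) D1170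
def n2512 : Q := act 0 n1171
theorem D2512 : act 0 n1171 = n2512 := rfl
theorem F3982 : act 6 n2512 = n1352 := d21_5 F768 (iv1 F678) D704 D1171 D2512 (iv5 D1352) (iv1 D771) D772 F1488 (iv1 F1334)
def n2513 : Q := act 1 n1171
theorem D2513 : act 1 n1171 = n2513 := rfl
theorem F3983 : act 1 n2513 = n1492 := d15_1 D2513 (iv7 D1492) (iv2 F2132)
def n2514 : Q := act 7 n1171
theorem D2514 : act 7 n1171 = n2514 := rfl
theorem F3984 : act 2 n2514 = n1492 := d4_1 D2514 (iv7 D1492) (iv2 F2132)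
theorem F3985 : act 3 n2514 = n2514 := d8_1 D2514 (iv7 D2514) F2133
theorem F3986 : act 5 n2514 = n1480 := d13_1 D2514 (iv7 D1480) (iv5 F2134)
theorem F3987 : act 6 n2514 = n1480 := d14_1 D2514 (iv7 D1480) (iv6 D804) (iv7 F1325) D1171
theorem F3988 : act 1 n1492 = n2512 := d15_0 (iv0 D2512) D2514 F3984
theorem F3989 : act 1 n1491 = n2514 := d15_1 D1491 (iv7 D2514) F2132
theorem F3990 : act 1 n2514 = n1490 := d15_0 (iv0 D1490) D1492 (iv2 F3984)
def n2515 : Q := act 4 n1172
theorem D2515 : act 4 n1172 = n2515 := rfl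
theorem F3991 : act 2 n2515 = n2515 := d1_1 D2515 (iv4 D2515) F2135
theorem F3992 : act 7 n2515 = n1495 := d11_2 (iv7 F2137) D2515 (iv4 D1495)
def n2516 : Q := act 3 n1173
theorem D2516 : act 3 n1173 = n2516 := rfl
theorem F3993 : act 7 n2516 = n1497 := d8_2 (iv7 F2139) D2516 (iv3 D1497)
def n2517 : Q := act 5 n1173
theorem D2517 : act 5 n1173 = n2517 := rfl
theorem F3994 : act 2 n2517 = n1494 := d2_1 D2517 (iv5 D1494) (iv2 F2138)
theorem F3995 : act 7 n2517 = n1498 := d13_2 (iv7 F2139) D2517 (iv5 D1498)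
theorem F3996 : act 4 n2517 = n1223 := d16_2 D1173 D2517 (iv5 D1223) (iv4 F1406) (iv5 F922) (iv4 F926) (iv5 F1331) F1330 F1327
def n2518 : Q := act 3 n1174
theorem D2518 : act 3 n1174 = n2518 := rfl
theorem F3997 : act 4 n2518 = n2518 := d5_2 D1174 D2518 (iv3 D2518) (iv4 D1174) F1332
theorem F3998 : act 7 n2518 = n1493 := d8_2 (iv7 F2142) D2518 (iv3 D1493)
def n2519 : Q := act 5 n1174
theorem D2519 : act 5 n1174 = n2519 := rfl
theorem F3999 : act 2 n2519 = n1498 := d2_1 D2519 (iv5 D1498) (iv2 F2141)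
theorem F4000 : act 4 n2519 = n1222 := d9_1 D2519 (iv5 D1222) F1398 F916 F902 (iv5 F1326) D1173 D2517 F3996 (iv5 D1223) (iv4 F1406) (iv5 F922) (iv4 F926) (iv5 F1331) D1174
theorem F4001 : act 7 n2519 = n1494 := d13_2 (iv7 F2142) D2519 (iv5 D1494)
def n2520 : Q := act 6 n1174
theorem D2520 : act 6 n1174 = n2520 := rfl
theorem F4002 : act 2 n2520 = n1499 := d3_1 D2520 (iv6 D1499) (iv2 F2141)
theorem F4003 : act 4 n2520 = n1175 := d10_1 D2520 (iv6 D1175) D1174
def n2521 : Q := act 0 n1175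
theorem D2521 : act 0 n1175 = n2521 := rfl
def n2522 : Q := act 1 n1175
theorem D2522 : act 1 n1175 = n2522 := rfl
theorem F4004 : act 1 n2522 = n1502 := d15_1 D2522 (iv7 D1502) (iv2 F2144)
def n2523 : Q := act 7 n1175
theorem D2523 : act 7 n1175 = n2523 := rfl
theorem F4005 : act 2 n2523 = n1502 := d4_1 D2523 (iv7 D1502) (iv2 F2144)
theorem F4006 : act 3 n2523 = n2523 := d8_1 D2523 (iv7 D2523) F2145
theorem F4007 : act 5 n2523 = n2523 := d13_1 D2523 (iv7 D2523) F2146
theorem F4008 : act 6 n2523 = n1335 := d14_1 D2523 (iv7 D1335) F1475 (iv7 F1330) D1175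
theorem F4009 : act 1 n1502 = n2521 := d15_0 (iv0 D2521) D2523 F4005
theorem F4010 : act 1 n1501 = n2523 := d15_1 D1501 (iv7 D2523) F2144
theorem F4011 : act 1 n2523 = n1500 := d15_0 (iv0 D1500) D1502 (iv2 F4005)
def n2524 : Q := act 3 n1176
theorem D2524 : act 3 n1176 = n2524 := rfl
theorem F4012 : act 7 n2524 = n1506 := d8_2 F2149 D2524 (iv3 D1506)
def n2525 : Q := act 5 n1176
theorem D2525 : act 5 n1176 = n2525 := rfl
theorem F4013 : act 2 n2525 = n1504 := d2_1 D2525 (iv5 D1504) F2148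
theorem F4014 : act 7 n2525 = n1507 := d13_2 F2149 D2525 (iv5 D1507)
theorem F4015 : act 4 n2525 = n1219 := d16_2 (iv4 F2147) D2525 (iv5 D1219) (iv4 D726) F1040 D497 D842 F1588 (iv2 F1560)
theorem F4016 : act 0 n2525 = n1551 := d17_2 D1176 D2525 (iv5 D1551) (iv4 D839) (iv5 D493) (iv0 F805) (iv5 F1326) (iv0 D705) D707
theorem F4017 : act 1 n2525 = n1567 := d17_6 D855 F1614 (iv1 D828) D829 (iv4 F2147) D2525 F2723 F2582 (iv4 D856)
def n2526 : Q := act 6 n1176
theorem D2526 : act 6 n1176 = n2526 := rfl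
theorem F4018 : act 2 n2526 = n1505 := d3_1 D2526 (iv6 D1505) F2148
theorem F4019 : act 4 n2526 = n1284 := d10_1 D2526 F2379 (iv4 F2147)
def n2527 : Q := act 3 n1177
theorem D2527 : act 3 n1177 = n2527 := rfl
theorem F4020 : act 7 n2527 = n1503 := d8_2 (iv7 F2152) D2527 (iv3 D1503)
def n2528 : Q := act 5 n1177
theorem D2528 : act 5 n1177 = n2528 := rfl
theorem F4021 : act 2 n2528 = n1507 := d2_1 D2528 (iv5 D1507) F2154
theorem F4022 : act 4 n2528 = n1217 := d9_1 D2528 (iv5 D1217) (iv4 D725) F1074 (iv4 F782) D829 (iv4 F2147) D2525 F4015 (iv5 D1219) (iv4 D726) F1040 D497 D842 (iv4 F2153)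
theorem F4023 : act 7 n2528 = n1504 := d13_2 (iv7 F2152) D2528 (iv5 D1504)
theorem F4024 : act 0 n2528 = n1567 := d17_2 (iv1 F2151) D2528 F2723 (iv4 D1471) F1513 F1365 (iv5 F1331) F1329 (iv4 F1529)
theorem F4025 : act 1 n2528 = n1551 := d17_6 (iv1 F1574) (iv5 D832) F1111 D842 (iv4 F2153) D2528 (iv5 D1551) (iv0 F1633) (iv4 D869)
def n2529 : Q := act 6 n1177
theorem D2529 : act 6 n1177 = n2529 := rfl
theorem F4026 : act 2 n2529 = n1508 := d3_1 D2529 (iv6 D1508) F2154
theorem F4027 : act 4 n2529 = n1557 := d10_1 D2529 (iv6 D1557) (iv4 F2153)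
def n2530 : Q := act 0 n1178
theorem D2530 : act 0 n1178 = n2530 := rfl
def n2531 : Q := act 1 n1178
theorem D2531 : act 1 n1178 = n2531 := rfl
def n2532 : Q := act 2 n1178
theorem D2532 : act 2 n1178 = n2532 := rfl
theorem F4028 : act 3 n2532 = n1511 := d0_2 D1178 D2532 (iv2 D1511) (iv3 D817) (iv2 F1335)
def n2533 : Q := act 5 n1178
theorem D2533 : act 5 n1178 = n2533 := rfl
theorem F4029 : act 3 n2533 = n1179 := d6_1 D2533 (iv5 D1179) D1178
theorem F4030 : act 7 n1691 = n2533 := d8_0 F4029 (iv7 F2157) D1691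
def n2534 : Q := act 7 n1178
theorem D2534 : act 7 n1178 = n2534 := rfl
theorem F4031 : act 3 n2534 = n1180 := d8_1 D2534 (iv7 D1180) D1178
theorem F4032 : act 5 n2534 = n1691 := d13_1 D2534 F4030 (iv5 D2533)
def n2535 : Q := act 0 n1179
theorem D2535 : act 0 n1179 = n2535 := rfl
theorem F4033 : act 5 n2535 = n1197 := d17_3 (iv1 D1177) D1179 D2535 (iv4 D1197) (iv5 D718) F1085 D658 (iv0 F1590) (iv4 F2153)
theorem F4034 : act 4 n2535 = n1213 := d18_3 (iv1 F2302) (iv4 F2156) D2535 (iv5 D1213) (iv4 D723) F1081 (iv4 F1595) (iv0 F1697) (iv5 F2299)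
theorem F4035 : act 1 n1232 = n2535 := d15_0 (iv0 D2535) (iv7 F2157) (iv2 F2307)
theorem F4036 : act 2 n1514 = n2535 := d1_3 F4034 F2260 (iv4 F2626)
theorem F4037 : act 7 n1515 = n2535 := d11_0 F4034 F2261 (iv4 F2630)
def n2536 : Q := act 1 n1179
theorem D2536 : act 1 n1179 = n2536 := rfl
theorem F4038 : act 1 n2536 = n1232 := d15_1 D2536 (iv7 F2309) (iv2 F2155)
theorem F4039 : act 7 n2536 = n1514 := d15_2 (iv0 D2535) D2536 F4036
theorem F4040 : act 5 n2536 = n1210 := d17_7 (iv1 F1583) (iv5 D704) (iv1 D403) D404 D707 D1179 D2536 F2694 F2693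
theorem F4041 : act 4 n2536 = n1202 := d17_9 (iv1 F2935) F2933 (iv1 F1713) D1219 (iv4 F4015) (iv5 D2525) (iv0 D1176) D1179 D2536
theorem F4042 : act 2 n1515 = n2536 := d1_3 F4041 F2227 (iv4 F2630)
def n2537 : Q := act 6 n1179
theorem D2537 : act 6 n1179 = n2537 := rfl
theorem F4043 : act 2 n2537 = n1516 := d3_1 D2537 (iv6 D1516) (iv2 F2155)
theorem F4044 : act 4 n2537 = n1696 := d10_1 D2537 (iv6 D1696) (iv4 F2156)
def n2538 : Q := act 6 n1180
theorem D2538 : act 6 n1180 = n2538 := rfl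
theorem F4045 : act 2 n2538 = n1517 := d3_1 D2538 (iv6 D1517) (iv2 F2158)
theorem F4046 : act 4 n2538 = n1181 := d10_1 D2538 (iv6 D1181) (iv4 F2159)
def n2539 : Q := act 0 n1181
theorem D2539 : act 0 n1181 = n2539 := rfl
theorem F4047 : act 6 n2539 = n1544 := d21_5 (iv5 D460) (iv1 F685) (iv5 F1337) D1181 D2539 (iv5 D1544) (iv1 D836) D837 F1579 F1108
theorem F4048 : act 1 n1469 = n2539 := d15_0 (iv0 D2539) (iv7 F3950) F3948
def n2540 : Q := act 1 n1181
theorem D2540 : act 1 n1181 = n2540 := rfl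
theorem F4049 : act 1 n2540 = n1469 := d15_1 D2540 F2577 (iv2 F2163)
def n2541 : Q := act 4 n1185
theorem D2541 : act 4 n1185 = n2541 := rfl
theorem F4050 : act 0 n2541 = n1578 := d18_2 F2177 D2541 (iv4 D1578) (iv5 D854) (iv4 F1298) (iv0 D692) F674 D693 D1140
def n2542 : Q := act 2 n1187
theorem D2542 : act 2 n1187 = n2542 := rfl
theorem F4051 : act 7 n1188 = n2542 := d15_2 (iv0 D1187) D1188 (iv2 D2542)
def n2543 : Q := act 3 n1187
theorem D2543 : act 3 n1187 = n2543 := rfl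
def n2544 : Q := act 4 n1187
theorem D2544 : act 4 n1187 = n2544 := rfl
def n2545 : Q := act 5 n1187
theorem D2545 : act 5 n1187 = n2545 := rfl
def n2546 : Q := act 7 n1187
theorem D2546 : act 7 n1187 = n2546 := rfl
theorem F4052 : act 2 n2546 = n1188 := d4_1 D2546 F4051 (iv2 D2542)
def n2547 : Q := act 3 n1188
theorem D2547 : act 3 n1188 = n2547 := rfl
def n2548 : Q := act 4 n1188
theorem D2548 : act 4 n1188 = n2548 := rfl
def n2549 : Q := act 5 n1188
theorem D2549 : act 5 n1188 = n2549 := rfl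
theorem F4053 : act 6 n2549 = n1518 := d21_3 F2690 (iv1 F2182) D2549 (iv1 F3952) (iv6 D2500) F2119 (iv1 F1315) D796 D1450 (iv1 F3898)
def n2550 : Q := act 6 n1188
theorem D2550 : act 6 n1188 = n2550 := rfl
def n2551 : Q := act 4 n1189
theorem D2551 : act 4 n1189 = n2551 := rfl
theorem F4054 : act 2 n2551 = n1548 := d1_1 D2551 (iv4 D1548) (iv2 F2183)
theorem F4055 : act 6 n2551 = n1192 := d10_2 (iv6 F2184) D2551 (iv4 D1192)
def n2552 : Q := act 7 n1189
theorem D2552 : act 7 n1189 = n2552 := rfl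
theorem F4056 : act 2 n2552 = n1549 := d4_1 D2552 (iv7 D1549) (iv2 F2183)
theorem F4057 : act 5 n2552 = n1190 := d13_1 D2552 (iv7 D1190) D1189
theorem F4058 : act 1 n1547 = n2552 := d15_1 D1547 (iv7 D2552) F2183
theorem F4059 : act 1 n2552 = n1546 := d15_1 F4058 (iv7 F3874) F3896
def n2553 : Q := act 3 n1192
theorem D2553 : act 3 n1192 = n2553 := rfl
def n2554 : Q := act 5 n1192
theorem D2554 : act 5 n1192 = n2554 := rfl
theorem F4060 : act 2 n2554 = n1551 := d2_1 D2554 (iv5 D1551) (iv2 F2195)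
theorem F4061 : act 7 n2554 = n1567 := d13_2 F2580 D2554 F2723
theorem F4062 : act 4 n2554 = n1569 := d16_2 D1192 D2554 F2725 F1595 F822 (iv4 F813) (iv5 F1582) (iv7 D840) (iv2 F1358)
theorem F4063 : act 0 n2554 = n1507 := d17_2 F2255 D2554 (iv5 D1507) (iv4 F1610) F1535 F1534 (iv5 F2208) F2206 D1210
theorem F4064 : act 1 n2554 = n1504 := d17_6 D467 F797 F796 D714 D1192 D2554 (iv5 D1504) (iv0 D815) (iv4 D469)
def n2555 : Q := act 0 n1193
theorem D2555 : act 0 n1193 = n2555 := rfl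
def n2556 : Q := act 1 n1193
theorem D2556 : act 1 n1193 = n2556 := rfl
def n2557 : Q := act 2 n1193
theorem D2557 : act 2 n1193 = n2557 := rfl
theorem F4065 : act 3 n2557 = n1564 := d0_2 D1193 D2557 (iv2 D1564) (iv3 D845) (iv2 F1369)
theorem F4066 : act 4 n2557 = n2557 := d1_2 F2196 D2557 (iv2 D2557)
theorem F4067 : act 6 n2557 = n1227 := d3_2 (iv6 F2197) D2557 (iv2 D1227)
def n2558 : Q := act 5 n1193
theorem D2558 : act 5 n1193 = n2558 := rfl
theorem F4068 : act 3 n2558 = n1194 := d6_1 D2558 (iv5 D1194) D1193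
def n2559 : Q := act 4 n1194
theorem D2559 : act 4 n1194 = n2559 := rfl
theorem F4069 : act 2 n2559 = n1567 := d1_1 D2559 (iv4 D1567) (iv2 F2198)
theorem F4070 : act 5 n2559 = n1552 := d9_2 D1194 D2559 F2693 F1582 F813 (iv5 F822) (iv4 F1595) (iv5 F2725) (iv4 F4062) (iv5 D2554) (iv4 D1192) (iv5 D714) F693 D411 D717
theorem F4071 : act 7 n2559 = n1551 := d11_2 F2765 D2559 (iv4 F2764)
theorem F4072 : act 0 n2559 = n1504 := d17_0 (iv5 D1504) (iv1 F2162) F2160 (iv4 D896) (iv5 D566) D564 D887 (iv0 F2199) D2559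
theorem F4073 : act 1 n2559 = n1507 := d18_6 (iv1 F2217) (iv4 D723) F1080 D717 D1194 D2559 F2621 D1637 F2818
def n2560 : Q := act 6 n1194
theorem D2560 : act 6 n1194 = n2560 := rfl
theorem F4074 : act 2 n2560 = n1568 := d3_1 D2560 (iv6 D1568) (iv2 F2198)
theorem F4075 : act 5 n2560 = n1233 := d12_1 D2560 (iv6 D1233) (iv5 D731) (iv6 F1370) D1194
def n2561 : Q := act 6 n1195
theorem D2561 : act 6 n1195 = n2561 := rfl
theorem F4076 : act 2 n2561 = n1582 := d3_1 D2561 (iv6 D1582) F2203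
theorem F4077 : act 3 n2561 = n1553 := d7_1 D2561 (iv6 D1553) F2204
theorem F4078 : act 5 n2561 = n2561 := d12_1 D2561 (iv6 D2561) F2201 F1553 (iv5 F2201)
def n2562 : Q := act 3 n1197
theorem D2562 : act 3 n1197 = n2562 := rfl
theorem F4079 : act 7 n2562 = n1616 := d8_2 (iv7 F2212) D2562 (iv3 D1616)
def n2563 : Q := act 6 n1197
theorem D2563 : act 6 n1197 = n2563 := rfl
theorem F4080 : act 2 n2563 = n1584 := d3_1 D2563 (iv6 D1584) (iv2 F2211)
theorem F4081 : act 4 n2563 = n1198 := d10_1 D2563 (iv6 D1198) D1197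
def n2564 : Q := act 0 n1198
theorem D2564 : act 0 n1198 = n2564 := rfl
def n2565 : Q := act 1 n1198
theorem D2565 : act 1 n1198 = n2565 := rfl
theorem F4082 : act 1 n2565 = n1587 := d15_1 D2565 (iv7 D1587) (iv2 F2214)
def n2566 : Q := act 7 n1198
theorem D2566 : act 7 n1198 = n2566 := rfl
theorem F4083 : act 2 n2566 = n1587 := d4_1 D2566 (iv7 D1587) (iv2 F2214)
theorem F4084 : act 5 n2566 = n1620 := d13_1 D2566 (iv7 D1620) (iv5 F2215)
theorem F4085 : act 6 n2566 = n1620 := d14_1 D2566 (iv7 D1620) (iv6 D870) (iv7 F1372) D1198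
theorem F4086 : act 1 n1587 = n2564 := d15_0 (iv0 D2564) D2566 F4083
theorem F4087 : act 1 n1586 = n2566 := d15_1 D1586 (iv7 D2566) F2214
theorem F4088 : act 1 n2566 = n1585 := d15_0 (iv0 D1585) D1587 (iv2 F4083)
def n2567 : Q := act 3 n1200
theorem D2567 : act 3 n1200 = n2567 := rfl
theorem F4089 : act 4 n2567 = n2567 := d5_2 (iv4 F2222) D2567 (iv3 D2567) F2222 F1665
theorem F4090 : act 6 n2567 = n1700 := d7_2 F2224 D2567 (iv3 D1700)
theorem F4091 : act 7 n2567 = n1591 := d8_2 (iv7 F2221) D2567 (iv3 D1591)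
def n2568 : Q := act 0 n1201
theorem D2568 : act 0 n1201 = n2568 := rfl
theorem F4092 : act 1 n1623 = n2568 := d15_0 (iv0 D2568) F2226 D1623
def n2569 : Q := act 1 n1201
theorem D2569 : act 1 n1201 = n2569 := rfl
def n2570 : Q := act 2 n1201
theorem D2570 : act 2 n1201 = n2570 := rfl
theorem F4093 : act 3 n2570 = n1598 := d0_2 D1201 D2570 (iv2 D1598) (iv3 D862) (iv2 F1373)
theorem F4094 : act 4 n2570 = n1598 := d1_2 (iv4 F2225) D2570 (iv2 D1598)
theorem F4095 : act 7 n2570 = n1623 := d4_2 (iv7 F2226) D2570 (iv2 D1623)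
theorem F4096 : act 1 n2570 = n1621 := d15_0 (iv0 D1621) (iv7 F2226) D2570
theorem F4097 : act 1 n2569 = n1623 := d15_1 D2569 (iv7 F4095) (iv2 D2570)
theorem F4098 : act 1 n1622 = n2570 := d15_1 D1622 F4095 (iv2 D1623)
def n2571 : Q := act 5 n1201
theorem D2571 : act 5 n1201 = n2571 := rfl
theorem F4099 : act 3 n2571 = n1202 := d6_1 D2571 (iv5 D1202) D1201
theorem F4100 : act 7 n2571 = n1624 := d13_2 (iv7 F2226) D2571 (iv5 D1624)
def n2572 : Q := act 6 n1201
theorem D2572 : act 6 n1201 = n2572 := rfl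
theorem F4101 : act 3 n2572 = n1203 := d7_1 D2572 (iv6 D1203) D1201
theorem F4102 : act 4 n2572 = n1600 := d10_1 D2572 (iv6 D1600) (iv4 F2225)
def n2573 : Q := act 6 n1202
theorem D2573 : act 6 n1202 = n2573 := rfl
theorem F4103 : act 2 n2573 = n1602 := d3_1 D2573 (iv6 D1602) (iv2 F2227)
def n2574 : Q := act 0 n1203
theorem D2574 : act 0 n1203 = n2574 := rfl
theorem F4104 : act 4 n2574 = n1728 := d20_8 (iv4 F2969) (iv1 F2972) (iv4 D961) F2874 (iv1 D866) (iv3 F1376) (iv4 F2230) D2574 F2946 (iv1 F1733)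
theorem F4105 : act 2 n1603 = n2574 := d1_3 F4104 F2988 (iv4 F2995)
theorem F4106 : act 6 n1645 = n2574 := d10_0 F4104 F2947 (iv4 F3095)
theorem F4107 : act 7 n1604 = n2574 := d11_0 F4104 F2983 (iv4 F2961)
theorem F4108 : act 0 n2574 = n1606 := d20_1 (iv4 F4104) F2783 (iv3 F2238) (iv1 F2242) (iv3 F2874) D961 F1809 F1729 (iv3 F1726) D1728
def n2575 : Q := act 1 n1203
theorem D2575 : act 1 n1203 = n2575 := rfl
theorem F4109 : act 1 n2575 = n1606 := d15_1 D2575 (iv7 D1606) (iv2 F2229)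
theorem F4110 : act 7 n2575 = n1603 := d15_2 (iv0 D2574) D2575 F4105
theorem F4111 : act 2 n1604 = n2575 := d4_3 F4110 F4105 (iv7 F4107)
theorem F4112 : act 4 n1729 = n2575 := d11_3 F4110 F2995 F2991
theorem F4113 : act 6 n2575 = n2575 := d14_5 F4110 F3098 F3099 (iv6 F3098) (iv7 F4110)
def n2576 : Q := act 5 n1203
theorem D2576 : act 5 n1203 = n2576 := rfl
theorem F4114 : act 2 n2576 = n1605 := d2_1 D2576 (iv5 D1605) (iv2 F2229)
def n2577 : Q := act 7 n1203
theorem D2577 : act 7 n1203 = n2577 := rfl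
theorem F4115 : act 2 n2577 = n1606 := d4_1 D2577 (iv7 D1606) (iv2 F2229)
theorem F4116 : act 4 n2577 = n1206 := d11_1 D2577 (iv7 D1206) (iv4 F2230)
theorem F4117 : act 6 n2577 = n1630 := d14_1 D2577 (iv7 D1630) (iv6 D873) (iv7 F1374) D1203
theorem F4118 : act 1 n1604 = n2577 := d15_1 D1604 (iv7 D2577) F2229
theorem F4119 : act 1 n2577 = n1603 := d15_1 F4118 (iv7 F4110) (iv2 F4111)
def n2578 : Q := act 4 n1205
theorem D2578 : act 4 n1205 = n2578 := rfl
theorem F4120 : act 2 n2578 = n1612 := d1_1 D2578 (iv4 D1612) (iv2 F2792)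
theorem F4121 : act 6 n2578 = n2578 := d10_2 F2236 D2578 (iv4 D2578)
theorem F4122 : act 7 n2578 = n1609 := d11_2 (iv7 F2793) D2578 (iv4 D1609)
theorem F4123 : act 0 n2578 = n1706 := d18_2 (iv1 F2234) D2578 F2914 (iv5 F2604) (iv4 F2716) (iv0 F2717) F2317 F2268 F2266
def n2579 : Q := act 0 n1209
theorem D2579 : act 0 n1209 = n2579 := rfl
theorem F4124 : act 5 n2579 = n1520 := d17_3 (iv1 F2417) D1209 D2579 (iv4 F2635) (iv5 F2748) (iv0 F3463) (iv5 D2123) (iv0 F2405) (iv4 F2413)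
theorem F4125 : act 1 n1575 = n2579 := d15_0 (iv0 D2579) F2252 (iv2 F2745)
theorem F4126 : act 2 n1577 = n2579 := d2_3 F4124 (iv2 F2633) (iv5 F2748)
theorem F4127 : act 3 n1482 = n2579 := d6_3 F4124 (iv3 F2651) F2654
theorem F4128 : act 6 n2135 = n2579 := d12_0 F4124 (iv6 D1520) F1536 D1056 D2135
theorem F4129 : act 7 n1576 = n2579 := d13_0 F4124 (iv7 F2702) (iv5 F2746)
def n2580 : Q := act 1 n1209
theorem D2580 : act 1 n1209 = n2580 := rfl
theorem F4130 : act 1 n2580 = n1575 := d15_1 D2580 (iv7 F3461) F3459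
theorem F4131 : act 7 n2580 = n1577 := d15_2 (iv0 D2579) D2580 F4126
theorem F4132 : act 5 n2580 = n1523 := d17_7 F3808 (iv5 F2578) F2583 (iv5 D868) (iv4 F1378) D1209 D2580 F2707 (iv4 F3805)
theorem F4133 : act 2 n1576 = n2580 := d2_3 F4132 F2700 (iv5 F2746)
theorem F4134 : act 3 n2580 = n2580 := d6_3 F4132 F2642 (iv5 F4132)
def n2581 : Q := act 4 n1209
theorem D2581 : act 4 n1209 = n2581 := rfl
theorem F4135 : act 7 n2581 = n1578 := d11_2 (iv7 F2252) D2581 (iv4 D1578)
def n2582 : Q := act 6 n1209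
theorem D2582 : act 6 n1209 = n2582 := rfl
theorem F4136 : act 3 n2582 = n1211 := d7_1 D2582 (iv6 D1211) (iv3 F2251)
theorem F4137 : act 5 n2582 = n1579 := d12_1 D2582 (iv6 D1579) (iv5 D854) (iv6 F1379) D1209
def n2583 : Q := act 3 n1210
theorem D2583 : act 3 n1210 = n2583 := rfl
theorem F4138 : act 7 n2583 = n1583 := d8_2 (iv7 F2254) D2583 (iv3 D1583)
def n2584 : Q := act 6 n1210
theorem D2584 : act 6 n1210 = n2584 := rfl
theorem F4139 : act 2 n2584 = n1617 := d3_1 D2584 (iv6 D1617) (iv2 F2253)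
theorem F4140 : act 4 n2584 = n1211 := d10_1 D2584 (iv6 D1211) D1210
def n2585 : Q := act 0 n1211
theorem D2585 : act 0 n1211 = n2585 := rfl
def n2586 : Q := act 1 n1211
theorem D2586 : act 1 n1211 = n2586 := rfl
theorem F4141 : act 1 n2586 = n1620 := d15_1 D2586 (iv7 D1620) (iv2 F2256)
def n2587 : Q := act 7 n1211
theorem D2587 : act 7 n1211 = n2587 := rfl
theorem F4142 : act 2 n2587 = n1620 := d4_1 D2587 (iv7 D1620) (iv2 F2256)
theorem F4143 : act 5 n2587 = n1587 := d13_1 D2587 (iv7 D1587) (iv5 F2257)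
theorem F4144 : act 6 n2587 = n1587 := d14_1 D2587 (iv7 D1587) (iv6 D857) (iv7 F1382) D1211
theorem F4145 : act 1 n1620 = n2585 := d15_0 (iv0 D2585) D2587 F4142
theorem F4146 : act 1 n1619 = n2587 := d15_1 D1619 (iv7 D2587) F2256
theorem F4147 : act 1 n2587 = n1618 := d15_0 (iv0 D1618) D1620 (iv2 F4142)
def n2588 : Q := act 0 n1212
theorem D2588 : act 0 n1212 = n2588 := rfl
theorem F4148 : act 1 n1598 = n2588 := d15_0 (iv0 D2588) F2259 D1598
def n2589 : Q := act 1 n1212
theorem D2589 : act 1 n1212 = n2589 := rfl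
def n2590 : Q := act 2 n1212
theorem D2590 : act 2 n1212 = n2590 := rfl
theorem F4149 : act 3 n2590 = n1623 := d0_2 D1212 D2590 (iv2 D1623) (iv3 D871) (iv2 F1383)
theorem F4150 : act 4 n2590 = n1623 := d1_2 (iv4 F2258) D2590 (iv2 D1623)
theorem F4151 : act 7 n2590 = n1598 := d4_2 (iv7 F2259) D2590 (iv2 D1598)
theorem F4152 : act 1 n2590 = n1596 := d15_0 (iv0 D1596) (iv7 F2259) D2590
theorem F4153 : act 1 n2589 = n1598 := d15_1 D2589 (iv7 F4151) (iv2 D2590)
theorem F4154 : act 1 n1597 = n2590 := d15_1 D1597 F4151 (iv2 D1598)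
def n2591 : Q := act 5 n1212
theorem D2591 : act 5 n1212 = n2591 := rfl
theorem F4155 : act 3 n2591 = n1213 := d6_1 D2591 (iv5 D1213) D1212
theorem F4156 : act 7 n2591 = n1599 := d13_2 (iv7 F2259) D2591 (iv5 D1599)
def n2592 : Q := act 6 n1212
theorem D2592 : act 6 n1212 = n2592 := rfl
theorem F4157 : act 3 n2592 = n1214 := d7_1 D2592 (iv6 D1214) D1212
theorem F4158 : act 4 n2592 = n1625 := d10_1 D2592 (iv6 D1625) (iv4 F2258)
def n2593 : Q := act 6 n1213
theorem D2593 : act 6 n1213 = n2593 := rfl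
theorem F4159 : act 2 n2593 = n1626 := d3_1 D2593 (iv6 D1626) (iv2 F2260)
def n2594 : Q := act 5 n1214
theorem D2594 : act 5 n1214 = n2594 := rfl
theorem F4160 : act 2 n2594 = n1629 := d2_1 D2594 (iv5 D1629) (iv2 F2262)
def n2595 : Q := act 7 n1214
theorem D2595 : act 7 n1214 = n2595 := rfl
theorem F4161 : act 2 n2595 = n1630 := d4_1 D2595 (iv7 D1630) (iv2 F2262)
theorem F4162 : act 4 n2595 = n1215 := d11_1 D2595 (iv7 D1215) (iv4 F2263)
theorem F4163 : act 6 n2595 = n1606 := d14_1 D2595 (iv7 D1606) (iv6 D864) (iv7 F1384) D1214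
theorem F4164 : act 1 n1628 = n2595 := d15_1 D1628 (iv7 D2595) F2262
theorem F4165 : act 1 n2595 = n1627 := d15_1 F4164 (iv7 F2938) F2936
def n2596 : Q := act 0 n1216
theorem D2596 : act 0 n1216 = n2596 := rfl
theorem F4166 : act 3 n2596 = n1931 := d20_5 (iv4 D425) D423 D725 D1216 D2596 (iv4 D1931) (iv1 D991) D993 F1870 (iv1 D729)
theorem F4167 : act 1 n1641 = n2596 := d15_0 (iv0 D2596) F2272 D1641
def n2597 : Q := act 1 n1216
theorem D2597 : act 1 n1216 = n2597 := rfl
def n2598 : Q := act 2 n1216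
theorem D2598 : act 2 n1216 = n2598 := rfl
theorem F4168 : act 3 n2598 = n1634 := d0_2 D1216 D2598 (iv2 D1634) (iv3 D876) (iv2 F1389)
theorem F4169 : act 4 n2598 = n1634 := d1_2 (iv4 F2270) D2598 (iv2 D1634)
theorem F4170 : act 6 n2598 = n2598 := d3_2 F2271 D2598 (iv2 D2598)
theorem F4171 : act 7 n2598 = n1641 := d4_2 (iv7 F2272) D2598 (iv2 D1641)
theorem F4172 : act 1 n2598 = n1639 := d15_0 (iv0 D1639) (iv7 F2272) D2598
theorem F4173 : act 1 n2597 = n1641 := d15_1 D2597 (iv7 F4171) (iv2 D2598)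
theorem F4174 : act 1 n1640 = n2598 := d15_1 D1640 F4171 (iv2 D1641)
def n2599 : Q := act 5 n1216
theorem D2599 : act 5 n1216 = n2599 := rfl
theorem F4175 : act 3 n2599 = n1217 := d6_1 D2599 (iv5 D1217) D1216
theorem F4176 : act 7 n2599 = n1642 := d13_2 (iv7 F2272) D2599 (iv5 D1642)
def n2600 : Q := act 6 n1217
theorem D2600 : act 6 n1217 = n2600 := rfl
theorem F4177 : act 2 n2600 = n1638 := d3_1 D2600 (iv6 D1638) (iv2 F2273)
theorem F4178 : act 5 n2600 = n2600 := d12_1 D2600 (iv6 D2600) (iv5 D1217) F1390 D1217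
def n2601 : Q := act 0 n1218
theorem D2601 : act 0 n1218 = n2601 := rfl
theorem F4179 : act 1 n1634 = n2601 := d15_0 (iv0 D2601) F2276 D1634
def n2602 : Q := act 1 n1218
theorem D2602 : act 1 n1218 = n2602 := rfl
def n2603 : Q := act 2 n1218
theorem D2603 : act 2 n1218 = n2603 := rfl
theorem F4180 : act 3 n2603 = n1641 := d0_2 D1218 D2603 (iv2 D1641) (iv3 D878) (iv2 F1392)
theorem F4181 : act 4 n2603 = n1641 := d1_2 (iv4 F2275) D2603 (iv2 D1641)
theorem F4182 : act 7 n2603 = n1634 := d4_2 (iv7 F2276) D2603 (iv2 D1634)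
theorem F4183 : act 1 n2603 = n1632 := d15_0 (iv0 D1632) (iv7 F2276) D2603
theorem F4184 : act 1 n2602 = n1634 := d15_1 D2602 (iv7 F4182) (iv2 D2603)
theorem F4185 : act 1 n1633 = n2603 := d15_1 D1633 F4182 (iv2 D1634)
def n2604 : Q := act 5 n1218
theorem D2604 : act 5 n1218 = n2604 := rfl
theorem F4186 : act 3 n2604 = n1219 := d6_1 D2604 (iv5 D1219) D1218
theorem F4187 : act 7 n2604 = n1635 := d13_2 (iv7 F2276) D2604 (iv5 D1635)
def n2605 : Q := act 6 n1218
theorem D2605 : act 6 n1218 = n2605 := rfl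
theorem F4188 : act 3 n2605 = n1220 := d7_1 D2605 (iv6 D1220) D1218
theorem F4189 : act 4 n2605 = n1643 := d10_1 D2605 (iv6 D1643) (iv4 F2275)
theorem F4190 : act 7 n2605 = n2605 := d14_2 (iv7 F2276) D2605 (iv6 D2605) F2276 F1638
def n2606 : Q := act 6 n1219
theorem D2606 : act 6 n1219 = n2606 := rfl
theorem F4191 : act 2 n2606 = n1644 := d3_1 D2606 (iv6 D1644) (iv2 F2277)
def n2607 : Q := act 5 n1220
theorem D2607 : act 5 n1220 = n2607 := rfl
theorem F4192 : act 2 n2607 = n1647 := d2_1 D2607 (iv5 D1647) (iv2 F2279)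
theorem F4193 : act 7 n2607 = n2607 := d13_2 F2281 D2607 (iv5 D2607)
def n2608 : Q := act 0 n1221
theorem D2608 : act 0 n1221 = n2608 := rfl
theorem F4194 : act 1 n1659 = n2608 := d15_0 (iv0 D2608) F2284 D1659
def n2609 : Q := act 1 n1221
theorem D2609 : act 1 n1221 = n2609 := rfl
def n2610 : Q := act 2 n1221
theorem D2610 : act 2 n1221 = n2610 := rfl
theorem F4195 : act 3 n2610 = n1654 := d0_2 D1221 D2610 (iv2 D1654) (iv3 D883) F1399
theorem F4196 : act 4 n2610 = n2610 := d1_2 F2282 D2610 (iv2 D2610)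
theorem F4197 : act 6 n2610 = n2610 := d3_2 F2283 D2610 (iv2 D2610)
theorem F4198 : act 7 n2610 = n1659 := d4_2 (iv7 F2284) D2610 (iv2 D1659)
theorem F4199 : act 1 n2610 = n1657 := d15_0 (iv0 D1657) (iv7 F2284) D2610
theorem F4200 : act 1 n2609 = n1659 := d15_1 D2609 (iv7 F4198) (iv2 D2610)
theorem F4201 : act 1 n1658 = n2610 := d15_1 D1658 F4198 (iv2 D1659)
def n2611 : Q := act 5 n1221
theorem D2611 : act 5 n1221 = n2611 := rfl
theorem F4202 : act 3 n2611 = n1222 := d6_1 D2611 (iv5 D1222) D1221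
theorem F4203 : act 7 n2611 = n1660 := d13_2 (iv7 F2284) D2611 (iv5 D1660)
def n2612 : Q := act 6 n1222
theorem D2612 : act 6 n1222 = n2612 := rfl
theorem F4204 : act 2 n2612 = n1656 := d3_1 D2612 (iv6 D1656) (iv2 F2285)
theorem F4205 : act 5 n2612 = n2612 := d12_1 D2612 (iv6 D2612) (iv5 D1222) F1400 D1222
def n2613 : Q := act 6 n1223
theorem D2613 : act 6 n1223 = n2613 := rfl
theorem F4206 : act 2 n2613 = n1663 := d3_1 D2613 (iv6 D1663) (iv2 F2288)
def n2614 : Q := act 5 n1224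
theorem D2614 : act 5 n1224 = n2614 := rfl
theorem F4207 : act 2 n2614 = n1666 := d2_1 D2614 (iv5 D1666) (iv2 F2291)
theorem F4208 : act 7 n2614 = n2614 := d13_2 F2293 D2614 (iv5 D2614)
def n2615 : Q := act 0 n1225
theorem D2615 : act 0 n1225 = n2615 := rfl
theorem F4209 : act 2 n1229 = n2615 := d15_3 (iv0 D2615) (iv0 D1225) D1229
theorem F4210 : act 3 n2615 = n1667 := d0_2 (iv3 F2297) F4209 (iv2 F2853) F1658 (iv2 F1409)
theorem F4211 : act 4 n2615 = n2615 := d1_2 F2298 F4209 (iv2 F4209)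
theorem F4212 : act 7 n2615 = n1227 := d4_2 D1229 F4209 (iv2 D1227)
theorem F4213 : act 1 n1226 = n2615 := d15_1 D1226 F4212 (iv2 D1227)
def n2616 : Q := act 2 n1225
theorem D2616 : act 2 n1225 = n2616 := rfl
theorem F4214 : act 7 n1226 = n2616 := d15_2 (iv0 D1225) D1226 (iv2 D2616)
def n2617 : Q := act 3 n1225
theorem D2617 : act 3 n1225 = n2617 := rfl
theorem F4215 : act 4 n2617 = n1756 := d20_6 (iv4 D726) (iv1 D424) D425 D730 D1225 D2617 (iv1 F3014) (iv4 F2930) F2929 (iv1 F1713)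
def n2618 : Q := act 4 n1225
theorem D2618 : act 4 n1225 = n2618 := rfl
def n2619 : Q := act 5 n1225
theorem D2619 : act 5 n1225 = n2619 := rfl
def n2620 : Q := act 6 n1225
theorem D2620 : act 6 n1225 = n2620 := rfl
def n2621 : Q := act 7 n1225
theorem D2621 : act 7 n1225 = n2621 := rfl
theorem F4216 : act 2 n2621 = n1226 := d4_1 D2621 F4214 (iv2 D2616)
def n2622 : Q := act 3 n1226
theorem D2622 : act 3 n1226 = n2622 := rfl
def n2623 : Q := act 4 n1226
theorem D2623 : act 4 n1226 = n2623 := rfl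
def n2624 : Q := act 5 n1226
theorem D2624 : act 5 n1226 = n2624 := rfl
def n2625 : Q := act 6 n1226
theorem D2625 : act 6 n1226 = n2625 := rfl
def n2626 : Q := act 0 n1227
theorem D2626 : act 0 n1227 = n2626 := rfl
theorem F4217 : act 1 n1229 = n2626 := d15_0 (iv0 D2626) (iv7 F4212) (iv2 F4209)
def n2627 : Q := act 1 n1227
theorem D2627 : act 1 n1227 = n2627 := rfl
theorem F4218 : act 1 n2627 = n1229 := d15_1 D2627 (iv7 D1229) D1227
theorem F4219 : act 3 n2627 = n1753 := d20_5 (iv4 D555) (iv1 F713) (iv4 F1410) (iv3 F2297) (iv1 F4218) (iv4 D1753) (iv1 D929) (iv4 F1708) (iv3 D911) F1110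
def n2628 : Q := act 5 n1227
theorem D2628 : act 5 n1227 = n2628 := rfl
theorem F4220 : act 2 n2628 = n1228 := d2_1 D2628 (iv5 D1228) D1227
theorem F4221 : act 3 n2628 = n1680 := d6_1 D2628 (iv5 D1680) (iv3 F2294)
def n2629 : Q := act 0 n1228
theorem D2629 : act 0 n1228 = n2629 := rfl
def n2630 : Q := act 1 n1228
theorem D2630 : act 1 n1228 = n2630 := rfl
def n2631 : Q := act 4 n1228
theorem D2631 : act 4 n1228 = n2631 := rfl
def n2632 : Q := act 6 n1228
theorem D2632 : act 6 n1228 = n2632 := rfl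
theorem F4222 : act 3 n2632 = n1233 := d7_1 D2632 (iv6 D1233) (iv3 F2296)
def n2633 : Q := act 7 n1228
theorem D2633 : act 7 n1228 = n2633 := rfl
theorem F4223 : act 3 n2633 = n1234 := d8_1 D2633 (iv7 D1234) (iv3 F2296)
theorem F4224 : act 5 n2633 = n1229 := d13_1 D2633 (iv7 D1229) D1228
def n2634 : Q := act 6 n1229
theorem D2634 : act 6 n1229 = n2634 := rfl
theorem F4225 : act 3 n2634 = n1235 := d7_1 D2634 (iv6 D1235) (iv3 F2297)
theorem F4226 : act 4 n2634 = n2634 := d10_1 D2634 (iv6 D2634) F2298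
def n2635 : Q := act 3 n1230
theorem D2635 : act 3 n1230 = n2635 := rfl
theorem F4227 : act 5 n2635 = n1705 := d6_2 (iv5 F2299) D2635 (iv3 D1705)
theorem F4228 : act 7 n2635 = n1689 := d8_2 F2301 D2635 (iv3 D1689)
def n2636 : Q := act 6 n1230
theorem D2636 : act 6 n1230 = n2636 := rfl
theorem F4229 : act 2 n2636 = n1688 := d3_1 D2636 (iv6 D1688) F2300
def n2637 : Q := act 3 n1231
theorem D2637 : act 3 n1231 = n2637 := rfl
theorem F4230 : act 5 n2637 = n1710 := d6_2 (iv5 F2305) D2637 (iv3 D1710)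
theorem F4231 : act 7 n2637 = n1687 := d8_2 (iv7 F2304) D2637 (iv3 D1687)
def n2638 : Q := act 6 n1231
theorem D2638 : act 6 n1231 = n2638 := rfl
theorem F4232 : act 2 n2638 = n1690 := d3_1 D2638 (iv6 D1690) F2306
def n2639 : Q := act 3 n1232
theorem D2639 : act 3 n1232 = n2639 := rfl
theorem F4233 : act 5 n2639 = n1513 := d6_2 (iv5 F2308) D2639 F2624
theorem F4234 : act 7 n2639 = n1512 := d8_2 F2309 D2639 F2623
def n2640 : Q := act 6 n1232
theorem D2640 : act 6 n1232 = n2640 := rfl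
theorem F4235 : act 2 n2640 = n1692 := d3_1 D2640 (iv6 D1692) (iv2 F2307)
theorem F4236 : act 4 n2640 = n1233 := d10_1 D2640 (iv6 D1233) D1232
def n2641 : Q := act 0 n1233
theorem D2641 : act 0 n1233 = n2641 := rfl
def n2642 : Q := act 1 n1233
theorem D2642 : act 1 n1233 = n2642 := rfl
theorem F4237 : act 1 n2642 = n1695 := d15_1 D2642 (iv7 D1695) (iv2 F2310)
def n2643 : Q := act 7 n1233
theorem D2643 : act 7 n1233 = n2643 := rfl
theorem F4238 : act 2 n2643 = n1695 := d4_1 D2643 (iv7 D1695) (iv2 F2310)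
theorem F4239 : act 1 n1695 = n2641 := d15_0 (iv0 D2641) D2643 F4238
theorem F4240 : act 1 n1694 = n2643 := d15_1 D1694 (iv7 D2643) F2310
theorem F4241 : act 1 n2643 = n1693 := d15_0 (iv0 D1693) D1695 (iv2 F4238)
def n2644 : Q := act 6 n1234
theorem D2644 : act 6 n1234 = n2644 := rfl
theorem F4242 : act 2 n2644 = n1696 := d3_1 D2644 (iv6 D1696) (iv2 F2311)
theorem F4243 : act 4 n2644 = n1516 := d10_1 D2644 (iv6 D1516) (iv4 F2312)
def n2645 : Q := act 1 n1235
theorem D2645 : act 1 n1235 = n2645 := rfl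
theorem F4244 : act 1 n2645 = n1570 := d15_1 D2645 F2729 (iv2 F2316)
theorem F4245 : act 7 n2645 = n1697 := d15_2 (iv0 F2717) D2645 (iv2 F2885)
theorem F4246 : act 4 n1711 = n2645 := d20_0 (iv1 D2645) F2317 F1414 F1416 (iv3 F1386) (iv4 F2263) F2921 (iv4 F2906) F2905 (iv1 F2920)
theorem F4247 : act 2 n1698 = n2645 := d4_3 F4245 (iv2 F2885) (iv7 F2887)
def n2646 : Q := act 5 n1235
theorem D2646 : act 5 n1235 = n2646 := rfl
theorem F4248 : act 2 n2646 = n1699 := d2_1 D2646 (iv5 D1699) (iv2 F2316)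
def n2647 : Q := act 3 n1236
theorem D2647 : act 3 n1236 = n2647 := rfl
theorem F4249 : act 4 n2647 = n2088 := d5_2 (iv4 F2319) D2647 (iv3 F3578) (iv4 D2210) (iv3 F2006)
theorem F4250 : act 5 n2647 = n2277 := d6_2 (iv5 F2318) D2647 (iv3 D2277)
theorem F4251 : act 7 n2647 = n2647 := d8_2 F2320 D2647 (iv3 D2647)
def n2648 : Q := act 6 n1236
theorem D2648 : act 6 n1236 = n2648 := rfl
theorem F4252 : act 2 n2648 = n2291 := d3_1 D2648 (iv6 D2291) F2321
theorem F4253 : act 4 n2648 = n2147 := d10_1 D2648 (iv6 D2147) (iv4 F2319)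
def n2649 : Q := act 6 n1237
theorem D2649 : act 6 n1237 = n2649 := rfl
theorem F4254 : act 2 n2649 = n1238 := d3_1 D2649 (iv6 D1238) D1237
theorem F4255 : act 3 n2649 = n2118 := d7_1 D2649 (iv6 D2118) (iv3 F2322)
theorem F4256 : act 4 n2649 = n2649 := d10_1 D2649 (iv6 D2649) F2323
def n2650 : Q := act 0 n1238
theorem D2650 : act 0 n1238 = n2650 := rfl
def n2651 : Q := act 1 n1238
theorem D2651 : act 1 n1238 = n2651 := rfl
def n2652 : Q := act 5 n1238
theorem D2652 : act 5 n1238 = n2652 := rfl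
theorem F4257 : act 3 n2652 = n1241 := d6_1 D2652 (iv5 D1241) (iv3 F2328)
def n2653 : Q := act 7 n1238
theorem D2653 : act 7 n1238 = n2653 := rfl
theorem F4258 : act 3 n2653 = n1242 := d8_1 D2653 (iv7 D1242) (iv3 F2328)
theorem F4259 : act 4 n2653 = n2653 := d11_1 D2653 (iv7 D2653) F2329
theorem F4260 : act 6 n2653 = n2653 := d14_1 D2653 (iv7 D2653) (iv6 D1238) F1418 D1238
def n2657 : Q := act 5 n1239
theorem D2657 : act 5 n1239 = n2657 := rfl
def n2658 : Q := act 6 n1239
theorem D2658 : act 6 n1239 = n2658 := rfl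
def n2661 : Q := act 4 n1240
theorem D2661 : act 4 n1240 = n2661 := rfl
def n2664 : Q := act 0 n1241
theorem D2664 : act 0 n1241 = n2664 := rfl
def n2665 : Q := act 1 n1241
theorem D2665 : act 1 n1241 = n2665 := rfl
def n2666 : Q := act 4 n1241
theorem D2666 : act 4 n1241 = n2666 := rfl
def n2667 : Q := act 7 n1241
theorem D2667 : act 7 n1241 = n2667 := rfl
theorem F4263 : act 5 n2667 = n1242 := d13_1 D2667 (iv7 D1242) D1241
def n2670 : Q := act 3 n1243
theorem D2670 : act 3 n1243 = n2670 := rfl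
theorem F4266 : act 7 n2670 = n1249 := d8_2 F2332 D2670 (iv3 D1249)
def n2671 : Q := act 4 n1243
theorem D2671 : act 4 n1243 = n2671 := rfl
theorem F4267 : act 2 n2671 = n1245 := d1_1 D2671 (iv4 D1245) D1243
theorem F4268 : act 7 n2671 = n1250 := d11_2 F2332 D2671 (iv4 D1250)
def n2672 : Q := act 5 n1243
theorem D2672 : act 5 n1243 = n2672 := rfl
theorem F4269 : act 2 n2672 = n1246 := d2_1 D2672 (iv5 D1246) D1243
theorem F4270 : act 7 n2672 = n1251 := d13_2 F2332 D2672 (iv5 D1251)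
def n2674 : Q := act 0 n1244
theorem D2674 : act 0 n1244 = n2674 := rfl
def n2675 : Q := act 1 n1244
theorem D2675 : act 1 n1244 = n2675 := rfl
def n2676 : Q := act 2 n1244
theorem D2676 : act 2 n1244 = n2676 := rfl
def n2677 : Q := act 4 n1244
theorem D2677 : act 4 n1244 = n2677 := rfl
def n2678 : Q := act 5 n1244
theorem D2678 : act 5 n1244 = n2678 := rfl
theorem F4272 : act 3 n2678 = n1246 := d6_1 D2678 (iv5 D1246) D1244
def n2679 : Q := act 6 n1244
theorem D2679 : act 6 n1244 = n2679 := rfl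
theorem F4273 : act 3 n2679 = n1247 := d7_1 D2679 (iv6 D1247) D1244
def n2680 : Q := act 7 n1244
theorem D2680 : act 7 n1244 = n2680 := rfl
theorem F4274 : act 3 n2680 = n1248 := d8_1 D2680 (iv7 D1248) D1244
def n2681 : Q := act 0 n1245
theorem D2681 : act 0 n1245 = n2681 := rfl
def n2683 : Q := act 3 n1245
theorem D2683 : act 3 n1245 = n2683 := rfl
def n2684 : Q := act 5 n1245
theorem D2684 : act 5 n1245 = n2684 := rfl
def n2685 : Q := act 6 n1245
theorem D2685 : act 6 n1245 = n2685 := rfl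
theorem F4276 : act 4 n2685 = n1247 := d10_1 D2685 (iv6 D1247) D1245
def n2686 : Q := act 7 n1245
theorem D2686 : act 7 n1245 = n2686 := rfl
theorem F4277 : act 2 n2686 = n1250 := d4_1 D2686 (iv7 F4268) F4267
theorem F4278 : act 4 n2686 = n1248 := d11_1 D2686 (iv7 D1248) D1245
theorem F4279 : act 1 n1250 = n2681 := d15_0 (iv0 D2681) D2686 F4277
def n2687 : Q := act 4 n1246
theorem D2687 : act 4 n1246 = n2687 := rfl
def n2688 : Q := act 7 n1246
theorem D2688 : act 7 n1246 = n2688 := rfl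
theorem F4280 : act 2 n2688 = n1251 := d4_1 D2688 (iv7 F4270) F4269
theorem F4281 : act 5 n2688 = n1248 := d13_1 D2688 (iv7 D1248) D1246
theorem F4282 : act 6 n1345 = n2688 := d3_0 F4280 (iv6 F2334) D1345
theorem F4283 : act 7 n2471 = n1353 := d14_4 F2471 F4282 (iv7 D2688) F3860 (iv6 D1353)
theorem F4284 : act 2 n1353 = n2470 := d15_3 (iv0 D2470) D2471 F4283
theorem F4285 : act 6 n2470 = n1349 := d3_2 D1353 F4284 F2472
def n2689 : Q := act 0 n1247
theorem D2689 : act 0 n1247 = n2689 := rfl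
def n2690 : Q := act 1 n1247
theorem D2690 : act 1 n1247 = n2690 := rfl
theorem F4286 : act 6 n1457 = n2690 := d21_3 D455 D798 D1457 (iv1 D2690) (iv6 D1247) D1246 F2570 (iv5 D1452) (iv6 D797) (iv1 D454)
def n2691 : Q := act 7 n1247
theorem D2691 : act 7 n1247 = n2691 := rfl
def n2692 : Q := act 6 n1248
theorem D2692 : act 6 n1248 = n2692 := rfl
theorem F4287 : act 2 n2692 = n1252 := d3_1 D2692 (iv6 D1252) (iv2 F2333)
def n2694 : Q := act 1 n1249
theorem D2694 : act 1 n1249 = n2694 := rfl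
def n2695 : Q := act 2 n1249
theorem D2695 : act 2 n1249 = n2695 := rfl
def n2696 : Q := act 4 n1249
theorem D2696 : act 4 n1249 = n2696 := rfl
def n2697 : Q := act 5 n1249
theorem D2697 : act 5 n1249 = n2697 := rfl
theorem F4288 : act 3 n2697 = n1251 := d6_1 D2697 (iv5 D1251) D1249
theorem F4289 : act 6 n1346 = n2697 := d7_0 F4288 (iv6 F2334) D1346
def n2698 : Q := act 6 n1249
theorem D2698 : act 6 n1249 = n2698 := rfl
theorem F4290 : act 3 n2698 = n1252 := d7_1 D2698 (iv6 D1252) D1249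
def n2699 : Q := act 3 n1250
theorem D2699 : act 3 n1250 = n2699 := rfl
def n2700 : Q := act 5 n1250
theorem D2700 : act 5 n1250 = n2700 := rfl
def n2701 : Q := act 6 n1250
theorem D2701 : act 6 n1250 = n2701 := rfl
theorem F4291 : act 4 n2701 = n1252 := d10_1 D2701 (iv6 D1252) D1250
def n2702 : Q := act 4 n1251
theorem D2702 : act 4 n1251 = n2702 := rfl
theorem F4292 : act 6 n2702 = n1347 := d10_2 F2334 D2702 (iv4 D1347)
def n2703 : Q := act 1 n1252
theorem D2703 : act 1 n1252 = n2703 := rfl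
def n2704 : Q := act 7 n1252
theorem D2704 : act 7 n1252 = n2704 := rfl
def n2705 : Q := act 0 n1253
theorem D2705 : act 0 n1253 = n2705 := rfl
def n2706 : Q := act 1 n1253
theorem D2706 : act 1 n1253 = n2706 := rfl
def n2707 : Q := act 5 n1253
theorem D2707 : act 5 n1253 = n2707 := rfl
theorem F4293 : act 2 n2707 = n2707 := d2_1 D2707 (iv5 D2707) F2335
theorem F4294 : act 3 n2707 = n2114 := d6_1 D2707 (iv5 D2114) (iv3 F2336)
theorem F4295 : act 6 n2707 = n1256 := d12_2 D1253 D2707 (iv5 D1256) (iv6 D740) D739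
def n2708 : Q := act 7 n1253
theorem D2708 : act 7 n1253 = n2708 := rfl
theorem F4296 : act 2 n2708 = n2708 := d4_1 D2708 (iv7 D2708) F2335
theorem F4297 : act 3 n2708 = n2115 := d8_1 D2708 (iv7 D2115) (iv3 F2336)
theorem F4298 : act 4 n2708 = n1261 := d11_1 D2708 (iv7 D1261) (iv4 F2337)
theorem F4299 : act 6 n2708 = n2708 := d14_1 D2708 (iv7 D2708) (iv6 D1253) F1425 D1253
theorem F4300 : act 1 n2708 = n2705 := d15_0 (iv0 D2705) D2708 F4296
def n2709 : Q := act 4 n1256
theorem D2709 : act 4 n1256 = n2709 := rfl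
theorem F4302 : act 2 n2709 = n2709 := d1_1 D2709 (iv4 D2709) F2338
theorem F4303 : act 0 n2709 = n2515 := d18_2 (iv1 F2342) D2709 (iv4 D2515) F2136 F1571 D1526 F2661 F2659 F2192
theorem F4304 : act 1 n2709 = n1495 := d18_6 (iv1 D806) F974 F2418 F1429 D1256 D2709 (iv4 D1495) F2595 (iv5 D1481)
def n2710 : Q := act 0 n1258
theorem D2710 : act 0 n1258 = n2710 := rfl
def n2711 : Q := act 1 n1258
theorem D2711 : act 1 n1258 = n2711 := rfl
def n2712 : Q := act 5 n1258
theorem D2712 : act 5 n1258 = n2712 := rfl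
theorem F4305 : act 2 n2712 = n2712 := d2_1 D2712 (iv5 D2712) F2349
theorem F4306 : act 3 n2712 = n2135 := d6_1 D2712 (iv5 D2135) (iv3 F2350)
theorem F4307 : act 6 n2712 = n1482 := d12_2 D1258 D2712 (iv5 F2654) (iv6 D1525) F1563
def n2713 : Q := act 7 n1258
theorem D2713 : act 7 n1258 = n2713 := rfl
theorem F4308 : act 2 n2713 = n2713 := d4_1 D2713 (iv7 D2713) F2349
theorem F4309 : act 3 n2713 = n2136 := d8_1 D2713 (iv7 D2136) (iv3 F2350)
theorem F4310 : act 4 n2713 = n1339 := d11_1 D2713 (iv7 D1339) (iv4 F2351)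
theorem F4311 : act 6 n2713 = n2713 := d14_1 D2713 (iv7 D2713) (iv6 D1258) F1452 D1258
theorem F4312 : act 1 n2713 = n2710 := d15_0 (iv0 D2710) D2713 F4308
theorem F4313 : act 1 n2711 = n2713 := d15_1 D2711 (iv7 D2713) F2349
def n2714 : Q := act 2 n1259
theorem D2714 : act 2 n1259 = n2714 := rfl
theorem F4314 : act 7 n1260 = n2714 := d15_2 (iv0 D1259) D1260 (iv2 D2714)
def n2715 : Q := act 3 n1259
theorem D2715 : act 3 n1259 = n2715 := rfl
def n2716 : Q := act 4 n1259
theorem D2716 : act 4 n1259 = n2716 := rfl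
def n2717 : Q := act 5 n1259
theorem D2717 : act 5 n1259 = n2717 := rfl
def n2718 : Q := act 6 n1259
theorem D2718 : act 6 n1259 = n2718 := rfl
def n2719 : Q := act 7 n1259
theorem D2719 : act 7 n1259 = n2719 := rfl
theorem F4315 : act 2 n2719 = n1260 := d4_1 D2719 F4314 (iv2 D2714)
def n2720 : Q := act 3 n1260
theorem D2720 : act 3 n1260 = n2720 := rfl
def n2721 : Q := act 4 n1260
theorem D2721 : act 4 n1260 = n2721 := rfl
def n2722 : Q := act 5 n1260
theorem D2722 : act 5 n1260 = n2722 := rfl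
theorem F4316 : act 6 n1336 = n2722 := d21_5 (iv5 F1563) F1566 F804 D767 D1336 (iv5 D2722) (iv1 D1260) F1433 (iv6 D742) D741
def n2723 : Q := act 6 n1260
theorem D2723 : act 6 n1260 = n2723 := rfl
def n2724 : Q := act 0 n1262
theorem D2724 : act 0 n1262 = n2724 := rfl
def n2725 : Q := act 1 n1262
theorem D2725 : act 1 n1262 = n2725 := rfl
def n2726 : Q := act 5 n1262
theorem D2726 : act 5 n1262 = n2726 := rfl
theorem F4317 : act 3 n2726 = n1265 := d6_1 D2726 (iv5 D1265) (iv3 F2358)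
theorem F4318 : act 6 n2726 = n2652 := d12_2 D1262 D2726 (iv5 D2652) (iv6 D1238) (iv5 F1435)
def n2727 : Q := act 7 n1262
theorem D2727 : act 7 n1262 = n2727 := rfl
theorem F4319 : act 3 n2727 = n1266 := d8_1 D2727 (iv7 D1266) (iv3 F2358)
theorem F4320 : act 4 n2727 = n2115 := d11_1 D2727 (iv7 D2115) (iv4 F2359)
theorem F4321 : act 6 n2727 = n2727 := d14_1 D2727 (iv7 D2727) (iv6 D1262) F1436 D1262
def n2730 : Q := act 4 n1263
theorem D2730 : act 4 n1263 = n2730 := rfl
def n2732 : Q := act 6 n1263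
theorem D2732 : act 6 n1263 = n2732 := rfl
def n2735 : Q := act 4 n1264
theorem D2735 : act 4 n1264 = n2735 := rfl
def n2737 : Q := act 6 n1264
theorem D2737 : act 6 n1264 = n2737 := rfl
def n2738 : Q := act 0 n1265
theorem D2738 : act 0 n1265 = n2738 := rfl
def n2739 : Q := act 1 n1265
theorem D2739 : act 1 n1265 = n2739 := rfl
theorem F4324 : act 1 n2739 = n2667 := d15_1 D2739 (iv7 D2667) (iv2 F2361)
def n2740 : Q := act 4 n1265
theorem D2740 : act 4 n1265 = n2740 := rfl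
theorem F4325 : act 2 n2740 = n2666 := d1_1 D2740 (iv4 D2666) (iv2 F2361)
theorem F4326 : act 6 n2740 = n2666 := d10_2 (iv6 F2362) D2740 (iv4 D2666)
def n2741 : Q := act 7 n1265
theorem D2741 : act 7 n1265 = n2741 := rfl
theorem F4327 : act 2 n2741 = n2667 := d4_1 D2741 (iv7 D2667) (iv2 F2361)
theorem F4328 : act 5 n2741 = n1266 := d13_1 D2741 (iv7 D1266) D1265
theorem F4329 : act 1 n2667 = n2738 := d15_0 (iv0 D2738) D2741 F4327
theorem F4330 : act 1 n2665 = n2741 := d15_1 D2665 (iv7 D2741) F2361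
theorem F4331 : act 1 n2741 = n2664 := d15_0 (iv0 D2664) D2667 (iv2 F4327)
def n2744 : Q := act 3 n1267
theorem D2744 : act 3 n1267 = n2744 := rfl
theorem F4334 : act 7 n2744 = n1273 := d8_2 F2369 D2744 (iv3 D1273)
def n2745 : Q := act 4 n1267
theorem D2745 : act 4 n1267 = n2745 := rfl
theorem F4335 : act 2 n2745 = n1269 := d1_1 D2745 (iv4 D1269) D1267
theorem F4336 : act 7 n2745 = n1274 := d11_2 F2369 D2745 (iv4 D1274)
def n2746 : Q := act 5 n1267
theorem D2746 : act 5 n1267 = n2746 := rfl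
theorem F4337 : act 2 n2746 = n1270 := d2_1 D2746 (iv5 D1270) D1267
theorem F4338 : act 7 n2746 = n1275 := d13_2 F2369 D2746 (iv5 D1275)
def n2747 : Q := act 6 n1267
theorem D2747 : act 6 n1267 = n2747 := rfl
theorem F4339 : act 2 n2747 = n1271 := d3_1 D2747 (iv6 D1271) D1267
def n2750 : Q := act 2 n1268
theorem D2750 : act 2 n1268 = n2750 := rfl
def n2752 : Q := act 5 n1268
theorem D2752 : act 5 n1268 = n2752 := rfl
theorem F4340 : act 3 n2752 = n1270 := d6_1 D2752 (iv5 D1270) D1268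
def n2753 : Q := act 6 n1268
theorem D2753 : act 6 n1268 = n2753 := rfl
theorem F4341 : act 3 n2753 = n1271 := d7_1 D2753 (iv6 D1271) D1268
def n2754 : Q := act 7 n1268
theorem D2754 : act 7 n1268 = n2754 := rfl
theorem F4342 : act 3 n2754 = n1272 := d8_1 D2754 (iv7 D1272) D1268
def n2756 : Q := act 1 n1269
theorem D2756 : act 1 n1269 = n2756 := rfl
theorem F4343 : act 1 n2756 = n1274 := d15_1 D2756 (iv7 F4336) F4335
def n2757 : Q := act 3 n1269
theorem D2757 : act 3 n1269 = n2757 := rfl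
def n2758 : Q := act 5 n1269
theorem D2758 : act 5 n1269 = n2758 := rfl
def n2759 : Q := act 6 n1269
theorem D2759 : act 6 n1269 = n2759 := rfl
theorem F4344 : act 4 n2759 = n1271 := d10_1 D2759 (iv6 D1271) D1269
def n2760 : Q := act 7 n1269
theorem D2760 : act 7 n1269 = n2760 := rfl
theorem F4346 : act 4 n2760 = n1272 := d11_1 D2760 (iv7 D1272) D1269
def n2761 : Q := act 4 n1270
theorem D2761 : act 4 n1270 = n2761 := rfl
def n2762 : Q := act 7 n1270
theorem D2762 : act 7 n1270 = n2762 := rfl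
theorem F4348 : act 2 n2762 = n1275 := d4_1 D2762 (iv7 F4338) F4337
theorem F4349 : act 5 n2762 = n1272 := d13_1 D2762 (iv7 D1272) D1270
theorem F4350 : act 6 n1323 = n2762 := d3_0 F4348 (iv6 F2371) D1323
theorem F4351 : act 7 n1436 = n1331 := d14_4 F2446 F4350 (iv7 D2762) F2563 (iv6 D1331)
theorem F4352 : act 2 n1331 = n1435 := d15_3 (iv0 D1435) D1436 F4351
theorem F4353 : act 6 n1435 = n1327 := d3_2 D1331 F4352 F2447
def n2763 : Q := act 0 n1271
theorem D2763 : act 0 n1271 = n2763 := rfl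
def n2764 : Q := act 1 n1271
theorem D2764 : act 1 n1271 = n2764 := rfl
theorem F4354 : act 6 n2489 = n2764 := d21_3 D700 D1163 D2489 (iv1 D2764) (iv6 D1271) D1270 F3865 (iv5 D2485) (iv6 D1162) (iv1 D699)
def n2765 : Q := act 7 n1271
theorem D2765 : act 7 n1271 = n2765 := rfl
def n2769 : Q := act 2 n1273
theorem D2769 : act 2 n1273 = n2769 := rfl
def n2770 : Q := act 4 n1273
theorem D2770 : act 4 n1273 = n2770 := rfl
def n2771 : Q := act 5 n1273
theorem D2771 : act 5 n1273 = n2771 := rfl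
theorem F4356 : act 3 n2771 = n1275 := d6_1 D2771 (iv5 D1275) D1273
theorem F4357 : act 6 n1324 = n2771 := d7_0 F4356 (iv6 F2371) D1324
def n2772 : Q := act 6 n1273
theorem D2772 : act 6 n1273 = n2772 := rfl
theorem F4358 : act 3 n2772 = n1276 := d7_1 D2772 (iv6 D1276) D1273
def n2773 : Q := act 3 n1274
theorem D2773 : act 3 n1274 = n2773 := rfl
def n2774 : Q := act 5 n1274
theorem D2774 : act 5 n1274 = n2774 := rfl
def n2775 : Q := act 6 n1274
theorem D2775 : act 6 n1274 = n2775 := rfl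
theorem F4359 : act 4 n2775 = n1276 := d10_1 D2775 (iv6 D1276) D1274
def n2776 : Q := act 4 n1275
theorem D2776 : act 4 n1275 = n2776 := rfl
theorem F4360 : act 6 n2776 = n1325 := d10_2 F2371 D2776 (iv4 D1325)
def n2777 : Q := act 1 n1276
theorem D2777 : act 1 n1276 = n2777 := rfl
def n2778 : Q := act 7 n1276
theorem D2778 : act 7 n1276 = n2778 := rfl
def n2779 : Q := act 0 n1277
theorem D2779 : act 0 n1277 = n2779 := rfl
def n2780 : Q := act 1 n1277
theorem D2780 : act 1 n1277 = n2780 := rfl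
def n2781 : Q := act 5 n1277
theorem D2781 : act 5 n1277 = n2781 := rfl
theorem F4361 : act 3 n2781 = n1280 := d6_1 D2781 (iv5 D1280) (iv3 F2372)
theorem F4362 : act 6 n2781 = n1308 := d12_2 D1277 D2781 F2398 (iv6 D825) (iv5 F1446)
def n2782 : Q := act 7 n1277
theorem D2782 : act 7 n1277 = n2782 := rfl
theorem F4363 : act 3 n2782 = n1281 := d8_1 D2782 (iv7 D1281) (iv3 F2372)
theorem F4364 : act 6 n2782 = n2782 := d14_1 D2782 (iv7 D2782) (iv6 D1277) F1447 D1277
def n2783 : Q := act 2 n1278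
theorem D2783 : act 2 n1278 = n2783 := rfl
theorem F4365 : act 6 n2783 = n2351 := d3_2 (iv6 F2373) D2783 F3703
theorem F4366 : act 7 n1279 = n2783 := d15_2 (iv0 D1278) D1279 (iv2 D2783)
def n2784 : Q := act 3 n1278
theorem D2784 : act 3 n1278 = n2784 := rfl
theorem F4367 : act 6 n2784 = n2361 := d7_2 (iv6 F2373) D2784 F3708
def n2785 : Q := act 4 n1278
theorem D2785 : act 4 n1278 = n2785 := rfl
theorem F4368 : act 6 n2785 = n2366 := d10_2 (iv6 F2373) D2785 (iv4 D2366)
def n2786 : Q := act 5 n1278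
theorem D2786 : act 5 n1278 = n2786 := rfl
theorem F4369 : act 6 n2786 = n2369 := d12_2 (iv6 F2373) D2786 (iv5 D2369) (iv6 D1124) D1123
theorem F4370 : act 0 n2369 = n1302 := d21_10 (iv5 D1302) (iv1 D754) D755 F1465 D757 (iv6 F2374) (iv5 D1280) D1278 D2786 F4369
theorem E405 : n2348 = n1303 := ((c21_10 (iv5 D1118) (iv1 F1285) F1263 F1264 (iv1 F1281) D1124 D2369 F4370 (iv5 D1302) D1303 (iv1 D2348))).symm
theorem F4371 : act 0 n1303 = n1118 := (sb E405 (iv1 D2348))
theorem F4372 : act 1 n1303 = n1123 := (sb E405 F3701)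
def n2787 : Q := act 7 n1278
theorem D2787 : act 7 n1278 = n2787 := rfl
theorem F4373 : act 2 n2787 = n1279 := d4_1 D2787 F4366 (iv2 D2783)
def n2788 : Q := act 3 n1279
theorem D2788 : act 3 n1279 = n2788 := rfl
def n2789 : Q := act 4 n1279
theorem D2789 : act 4 n1279 = n2789 := rfl
def n2790 : Q := act 5 n1279
theorem D2790 : act 5 n1279 = n2790 := rfl
theorem F4374 : act 6 n1618 = n2790 := d21_5 (iv5 D850) (iv1 F839) D545 D870 D1618 (iv5 D2790) (iv1 D1279) D1280 F2374 F1611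
def n2791 : Q := act 6 n1279
theorem D2791 : act 6 n1279 = n2791 := rfl
theorem F4375 : act 7 n2791 = n2350 := d14_2 (iv7 F4366) D2791 (iv6 D2350) D2351 (iv6 F4365)
def n2792 : Q := act 0 n1280
theorem D2792 : act 0 n1280 = n2792 := rfl
def n2793 : Q := act 7 n1280
theorem D2793 : act 7 n1280 = n2793 := rfl
theorem F4376 : act 5 n2793 = n1281 := d13_1 D2793 (iv7 D1281) D1280
theorem F4377 : act 1 n2260 = n2793 := d15_1 (iv0 F3616) (iv7 D2793) (iv2 F2378)
def n2794 : Q := act 2 n1282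
theorem D2794 : act 2 n1282 = n2794 := rfl
theorem F4378 : act 6 n2794 = n2257 := d3_2 (iv6 F2376) D2794 F3613
theorem F4379 : act 7 n1283 = n2794 := d15_2 (iv0 D1282) D1283 (iv2 D2794)
def n2795 : Q := act 3 n1282
theorem D2795 : act 3 n1282 = n2795 := rfl
theorem F4380 : act 6 n2795 = n2267 := d7_2 (iv6 F2376) D2795 F3618
def n2796 : Q := act 4 n1282
theorem D2796 : act 4 n1282 = n2796 := rfl
theorem F4381 : act 6 n2796 = n2272 := d10_2 (iv6 F2376) D2796 (iv4 D2272)
def n2797 : Q := act 5 n1282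
theorem D2797 : act 5 n1282 = n2797 := rfl
theorem F4382 : act 6 n2797 = n2275 := d12_2 (iv6 F2376) D2797 (iv5 D2275) (iv6 D1097) D1096
theorem F4383 : act 0 n2275 = n2103 := d21_10 (iv5 D2103) (iv1 D1038) D1039 F1932 (iv1 F1562) (iv6 F2379) (iv5 D1284) D1282 D2797 F4382
theorem E406 : n2254 = n2104 := ((c21_10 (iv5 D1091) (iv1 F1287) F1283 F1284 (iv1 F1286) D1097 D2275 F4383 (iv5 D2103) D2104 (iv1 D2254))).symm
theorem F4384 : act 0 n2104 = n1091 := (sb E406 (iv1 D2254))
theorem F4385 : act 1 n2104 = n1096 := (sb E406 F3611)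
def n2798 : Q := act 7 n1282
theorem D2798 : act 7 n1282 = n2798 := rfl
theorem F4386 : act 2 n2798 = n1283 := d4_1 D2798 F4379 (iv2 D2794)
def n2799 : Q := act 3 n1283
theorem D2799 : act 3 n1283 = n2799 := rfl
def n2800 : Q := act 4 n1283
theorem D2800 : act 4 n1283 = n2800 := rfl
def n2801 : Q := act 5 n1283
theorem D2801 : act 5 n1283 = n2801 := rfl
theorem F4387 : act 6 n2585 = n2801 := d21_5 F1470 (iv1 F1102) D722 D1211 D2585 (iv5 D2801) (iv1 D1283) D1284 F2379 (iv1 F1591)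
def n2802 : Q := act 6 n1283
theorem D2802 : act 6 n1283 = n2802 := rfl
theorem F4388 : act 7 n2802 = n2256 := d14_2 (iv7 F4379) D2802 (iv6 D2256) D2257 (iv6 F4378)
def n2803 : Q := act 0 n1284
theorem D2803 : act 0 n1284 = n2803 := rfl
def n2804 : Q := act 7 n1284
theorem D2804 : act 7 n1284 = n2804 := rfl
theorem F4389 : act 2 n2804 = n2793 := d4_1 D2804 (iv7 D2793) (iv2 F2378)
theorem F4390 : act 5 n2804 = n1285 := d13_1 D2804 (iv7 D1285) D1284
theorem F4391 : act 1 n2793 = n2803 := d15_0 (iv0 D2803) D2804 F4389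
theorem F4392 : act 1 n2354 = n2804 := d15_1 (iv0 F3706) (iv7 D2804) F2378
theorem F4393 : act 1 n2804 = n2792 := d15_0 (iv0 D2792) D2793 (iv2 F4389)
def n2805 : Q := act 3 n1286
theorem D2805 : act 3 n1286 = n2805 := rfl
theorem F4394 : act 7 n2805 = n2805 := d8_2 F3751 D2805 (iv3 D2805)
theorem F4395 : act 4 n2805 = n2212 := d20_6 F754 (iv1 D434) D435 D751 D1286 D2805 (iv1 F3775) F2073 (iv3 D696) (iv1 F753)
def n2806 : Q := act 4 n1286
theorem D2806 : act 4 n1286 = n2806 := rfl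
theorem F4396 : act 3 n2806 = n2213 := d5_1 D2806 (iv4 D2213) D2212 (iv4 F4395) (iv3 D2805)
theorem F4397 : act 7 n2806 = n2806 := d11_2 F3751 D2806 (iv4 D2806)
theorem F4398 : act 0 n2277 = n2806 := d20_10 (iv4 D2806) (iv1 F2387) F2385 (iv3 F2100) (iv1 F2103) (iv3 F2095) F1970 (iv1 F1268) D1098 D2277
def n2807 : Q := act 6 n1286
theorem D2807 : act 6 n1286 = n2807 := rfl
def n2808 : Q := act 4 n1287
theorem D2808 : act 4 n1287 = n2808 := rfl
theorem F4399 : act 2 n2808 = n2806 := d1_1 D2808 (iv4 D2806) F3752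
theorem F4400 : act 7 n2808 = n2808 := d11_2 F3753 D2808 (iv4 D2808)
theorem F4401 : act 5 n2808 = n2805 := d18_4 (iv1 F1501) (iv4 F2385) (iv1 F2388) D2808 F4395 F3780 F3777 F2102 F3744
theorem F4402 : act 0 n2808 = n2277 := d20_1 D2808 F3624 (iv3 D2127) (iv1 F1973) (iv3 F2528) (iv4 D1387) D1385 (iv4 F3412) F3411 (iv1 F2388)
theorem F4403 : act 3 n2808 = n2087 := d20_3 (iv4 F2385) (iv1 F2388) D2808 (iv1 F3414) F3411 F2385 (iv1 F1502) (iv4 F2516) (iv3 D1375) (iv1 F1501)
def n2809 : Q := act 6 n1287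
theorem D2809 : act 6 n1287 = n2809 := rfl
theorem F4404 : act 2 n2809 = n2807 := d3_1 D2809 (iv6 D2807) F3752
def n2810 : Q := act 6 n1288
theorem D2810 : act 6 n1288 = n2810 := rfl
theorem F4405 : act 2 n2810 = n1289 := d3_1 D2810 (iv6 D1289) D1288
theorem F4406 : act 4 n2810 = n1384 := d10_1 D2810 (iv6 D1384) (iv4 F2385)
def n2811 : Q := act 0 n1289
theorem D2811 : act 0 n1289 = n2811 := rfl
def n2812 : Q := act 1 n1289
theorem D2812 : act 1 n1289 = n2812 := rfl
def n2813 : Q := act 5 n1289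
theorem D2813 : act 5 n1289 = n2813 := rfl
theorem F4407 : act 3 n2813 = n1292 := d6_1 D2813 (iv5 D1292) (iv3 F2389)
def n2814 : Q := act 7 n1289
theorem D2814 : act 7 n1289 = n2814 := rfl
theorem F4408 : act 3 n2814 = n1293 := d8_1 D2814 (iv7 D1293) (iv3 F2389)
theorem F4409 : act 4 n2814 = n1392 := d11_1 D2814 (iv7 D1392) (iv4 F2390)
theorem F4410 : act 6 n2814 = n2814 := d14_1 D2814 (iv7 D2814) (iv6 D1289) F1462 D1289
def n2825 : Q := act 0 n1292
theorem D2825 : act 0 n1292 = n2825 := rfl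
def n2826 : Q := act 1 n1292
theorem D2826 : act 1 n1292 = n2826 := rfl
def n2827 : Q := act 4 n1292
theorem D2827 : act 4 n1292 = n2827 := rfl
def n2828 : Q := act 7 n1292
theorem D2828 : act 7 n1292 = n2828 := rfl
theorem F4413 : act 5 n2828 = n1293 := d13_1 D2828 (iv7 D1293) D1292
def n2829 : Q := act 0 n1294
theorem D2829 : act 0 n1294 = n2829 := rfl
theorem F4414 : act 1 n1299 = n2829 := d15_0 (iv0 D2829) (iv7 F2393) (iv2 F2394)
def n2831 : Q := act 3 n1294
theorem D2831 : act 3 n1294 = n2831 := rfl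
theorem F4416 : act 7 n2831 = n1300 := d8_2 F2393 D2831 (iv3 D1300)
def n2832 : Q := act 4 n1294
theorem D2832 : act 4 n1294 = n2832 := rfl
theorem F4417 : act 2 n2832 = n1296 := d1_1 D2832 (iv4 D1296) D1294
theorem F4418 : act 7 n2832 = n1301 := d11_2 F2393 D2832 (iv4 D1301)
def n2833 : Q := act 5 n1294
theorem D2833 : act 5 n1294 = n2833 := rfl
theorem F4419 : act 2 n2833 = n1297 := d2_1 D2833 (iv5 D1297) D1294
theorem F4420 : act 7 n2833 = n1302 := d13_2 F2393 D2833 (iv5 D1302)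
def n2834 : Q := act 6 n1294
theorem D2834 : act 6 n1294 = n2834 := rfl
theorem F4421 : act 2 n2834 = n1298 := d3_1 D2834 (iv6 D1298) D1294
def n2835 : Q := act 0 n1295
theorem D2835 : act 0 n1295 = n2835 := rfl
def n2836 : Q := act 1 n1295
theorem D2836 : act 1 n1295 = n2836 := rfl
def n2837 : Q := act 2 n1295
theorem D2837 : act 2 n1295 = n2837 := rfl
def n2838 : Q := act 4 n1295
theorem D2838 : act 4 n1295 = n2838 := rfl
def n2839 : Q := act 5 n1295
theorem D2839 : act 5 n1295 = n2839 := rfl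
theorem F4422 : act 3 n2839 = n1297 := d6_1 D2839 (iv5 D1297) D1295
def n2840 : Q := act 6 n1295
theorem D2840 : act 6 n1295 = n2840 := rfl
theorem F4423 : act 3 n2840 = n1298 := d7_1 D2840 (iv6 D1298) D1295
def n2841 : Q := act 7 n1295
theorem D2841 : act 7 n1295 = n2841 := rfl
theorem F4424 : act 3 n2841 = n1299 := d8_1 D2841 (iv7 D1299) D1295
def n2843 : Q := act 1 n1296
theorem D2843 : act 1 n1296 = n2843 := rfl
theorem F4425 : act 1 n2843 = n1301 := d15_1 D2843 (iv7 F4418) F4417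
def n2847 : Q := act 7 n1296
theorem D2847 : act 7 n1296 = n2847 := rfl
theorem F4427 : act 2 n2847 = n1301 := d4_1 D2847 (iv7 F4418) F4417
theorem F4428 : act 4 n2847 = n1299 := d11_1 D2847 (iv7 D1299) D1296
def n2848 : Q := act 1 n1297
theorem D2848 : act 1 n1297 = n2848 := rfl
theorem F4430 : act 1 n2848 = n1302 := d15_1 D2848 (iv7 F4420) F4419
def n2849 : Q := act 4 n1297
theorem D2849 : act 4 n1297 = n2849 := rfl
def n2850 : Q := act 6 n1297
theorem D2850 : act 6 n1297 = n2850 := rfl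
def n2851 : Q := act 7 n1297
theorem D2851 : act 7 n1297 = n2851 := rfl
theorem F4431 : act 2 n2851 = n1302 := d4_1 D2851 (iv7 F4420) F4419
theorem F4432 : act 5 n2851 = n1299 := d13_1 D2851 (iv7 D1299) D1297
def n2852 : Q := act 0 n1298
theorem D2852 : act 0 n1298 = n2852 := rfl
theorem F4433 : act 2 n2791 = n2852 := d15_3 (iv0 D2852) (iv0 F3702) (iv7 F4375)
theorem F4434 : act 6 n2852 = n2787 := d3_2 D2791 F4433 F4373
def n2853 : Q := act 7 n1298
theorem D2853 : act 7 n1298 = n2853 := rfl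
def n2854 : Q := act 6 n1299
theorem D2854 : act 6 n1299 = n2854 := rfl
theorem F4435 : act 2 n2854 = n1303 := d3_1 D2854 (iv6 D1303) (iv2 F2394)
theorem F4436 : act 7 n2347 = n2854 := d15_2 F4372 F3705 F4435
theorem F4437 : act 6 n2853 = n2347 := d14_5 F4436 (iv6 D2854) (iv7 D1299) D1298 D2853
theorem F4438 : act 5 n2206 = n2853 := d12_5 F4437 F3700 (iv6 D2104) D2103 (iv6 F3566)
theorem F4439 : act 0 n2853 = n2256 := d21_4 D1096 (iv1 F4385) (iv5 F3700) (iv6 F4437) (iv6 D2256) (iv5 D1091) (iv1 F1287) F1283 F1284 (iv1 F1286)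
theorem E407 : n2834 = n2099 := (c15_4 (iv0 F3612) (iv0 F4439) (iv7 D2853) (iv2 F4421))
theorem F4440 : act 2 n2099 = n1298 := (sb E407 F4421)
theorem E408 : n1294 = n1037 := ((((iv6 D2099)).symm.trans (sb E407 (iv6 D2834)))).symm
theorem E409 : n2829 = n756 := ((((iv1 F1935)).symm.trans (sb E408 D2829))).symm
theorem E411 : n2095 = n753 := ((D2095).symm.trans (sb E408 (iv2 D1294)))
theorem E412 : n2831 = n2096 := (((D2096).symm.trans (sb E408 D2831))).symm
theorem E414 : n2833 = n2098 := (((D2098).symm.trans (sb E408 D2833))).symm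
theorem E415 : n2100 = n754 := ((D2100).symm.trans (sb E408 (iv7 F2393)))
theorem E416 : n1299 = n1038 := ((((iv1 F1930)).symm.trans (sb E409 (iv1 F4414)))).symm
theorem F4441 : act 2 n753 = n1037 := (sb E411 (iv2 D2095))
theorem F4442 : act 7 n2096 = n1300 := (sb E412 F4416)
theorem F4445 : act 2 n2098 = n1297 := (sb E414 F4419)
theorem F4446 : act 7 n2098 = n1302 := (sb E414 F4420)
theorem F4447 : act 7 n754 = n1037 := (sb E415 (iv7 D2100))
theorem F4448 : act 2 n1038 = n754 := (sb E416 F2394)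
theorem E417 : n2841 = n2101 := (((D2101).symm.trans (sb E416 (iv3 F4424)))).symm
theorem E418 : n2847 = n2102 := (((D2102).symm.trans (sb E416 (iv4 F4428)))).symm
theorem E419 : n2851 = n2103 := (((D2103).symm.trans (sb E416 (iv5 F4432)))).symm
theorem E420 : n2854 = n2104 := (((D2104).symm.trans (sb E416 D2854))).symm
theorem F4449 : act 7 n1038 = n753 := (sb E416 (iv7 D1299))
theorem F4450 : act 7 n2101 = n1295 := (sb E417 (iv7 D2841))
theorem F4451 : act 2 n2102 = n1301 := (sb E418 F4427)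
theorem F4453 : act 2 n2103 = n1302 := (sb E419 F4431)
theorem F4454 : act 7 n2103 = n1297 := (sb E419 (iv7 D2851))
theorem F4455 : act 2 n2104 = n1303 := (sb E420 F4435)
theorem F4456 : act 7 n2104 = n2347 := (sb E420 (iv7 F4436))
theorem F4457 : act 2 n2347 = n2253 := d15_3 (iv0 D2253) (iv0 F4384) F4456
theorem F4458 : act 7 n1303 = n2253 := d4_2 (iv7 F4456) F4455 (iv2 F4457)
theorem F4459 : act 2 n2184 = n2206 := d3_3 F3566 F4453 (iv6 F3540)
theorem F4460 : act 7 n2207 = n2184 := d15_2 (iv0 D2206) D2207 F4459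
theorem F4461 : act 7 n2185 = n2206 := d15_2 (iv0 D2184) D2185 (iv2 F4459)
theorem F4462 : act 2 n2207 = n2185 := d4_3 F4461 (iv2 F4459) (iv7 F4460)
def n2855 : Q := act 0 n1300
theorem D2855 : act 0 n1300 = n2855 := rfl
def n2856 : Q := act 1 n1300
theorem D2856 : act 1 n1300 = n2856 := rfl
def n2857 : Q := act 2 n1300
theorem D2857 : act 2 n1300 = n2857 := rfl
def n2858 : Q := act 4 n1300
theorem D2858 : act 4 n1300 = n2858 := rfl
def n2859 : Q := act 5 n1300
theorem D2859 : act 5 n1300 = n2859 := rfl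
theorem F4463 : act 3 n2859 = n1302 := d6_1 D2859 (iv5 D1302) D1300
def n2860 : Q := act 6 n1300
theorem D2860 : act 6 n1300 = n2860 := rfl
theorem F4464 : act 3 n2860 = n1303 := d7_1 D2860 (iv6 D1303) D1300
def n2862 : Q := act 5 n1301
theorem D2862 : act 5 n1301 = n2862 := rfl
def n2863 : Q := act 6 n1301
theorem D2863 : act 6 n1301 = n2863 := rfl
theorem F4465 : act 4 n2863 = n1303 := d10_1 D2863 (iv6 D1303) D1301
def n2864 : Q := act 4 n1302
theorem D2864 : act 4 n1302 = n2864 := rfl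
def n2865 : Q := act 2 n1304
theorem D2865 : act 2 n1304 = n2865 := rfl
theorem F4466 : act 7 n1305 = n2865 := d15_2 (iv0 D1304) D1305 (iv2 D2865)
def n2866 : Q := act 3 n1304
theorem D2866 : act 3 n1304 = n2866 := rfl
def n2867 : Q := act 4 n1304
theorem D2867 : act 4 n1304 = n2867 := rfl
def n2868 : Q := act 6 n1304
theorem D2868 : act 6 n1304 = n2868 := rfl
def n2869 : Q := act 7 n1304
theorem D2869 : act 7 n1304 = n2869 := rfl
theorem F4467 : act 2 n2869 = n1305 := d4_1 D2869 F4466 (iv2 D2865)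
def n2870 : Q := act 3 n1305
theorem D2870 : act 3 n1305 = n2870 := rfl
def n2871 : Q := act 4 n1305
theorem D2871 : act 4 n1305 = n2871 := rfl
def n2872 : Q := act 6 n1305
theorem D2872 : act 6 n1305 = n2872 := rfl
def n2873 : Q := act 0 n1306
theorem D2873 : act 0 n1306 = n2873 := rfl
def n2874 : Q := act 1 n1306
theorem D2874 : act 1 n1306 = n2874 := rfl
def n2875 : Q := act 3 n1306
theorem D2875 : act 3 n1306 = n2875 := rfl
theorem F4468 : act 4 n2875 = n1466 := d5_2 D1306 D2875 (iv3 D1466) (iv4 D800) (iv3 F1464)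
theorem F4469 : act 6 n2875 = n1311 := d7_2 (iv6 F2395) D2875 (iv3 D1311)
def n2876 : Q := act 5 n1306
theorem D2876 : act 5 n1306 = n2876 := rfl
def n2877 : Q := act 7 n1306
theorem D2877 : act 7 n1306 = n2877 := rfl
theorem F4470 : act 4 n2877 = n1307 := d11_1 D2877 (iv7 D1307) D1306
def n2878 : Q := act 6 n1307
theorem D2878 : act 6 n1307 = n2878 := rfl
theorem F4471 : act 3 n2878 = n1469 := d7_1 D2878 (iv6 D1469) (iv3 F2396)
theorem F4472 : act 5 n2878 = n2878 := d12_1 D2878 (iv6 D2878) F2397 F1467 (iv5 F2397)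
theorem F4473 : act 7 n2878 = n1314 := d14_2 D1307 D2878 (iv6 D1314) (iv7 D760) (iv6 F1465)
def n2879 : Q := act 4 n1309
theorem D2879 : act 4 n1309 = n2879 := rfl
theorem F4474 : act 2 n2879 = n2415 := d1_1 D2879 (iv4 D2415) (iv2 F2736)
theorem F4475 : act 7 n2879 = n2414 := d11_2 (iv7 F2421) D2879 (iv4 D2414)
theorem F4476 : act 0 n2879 = n2125 := d18_2 F2423 D2879 (iv4 D2125) (iv5 D1052) F1240 (iv0 F2416) F1378 F1305 (iv5 F2094)
def n2880 : Q := act 6 n1309
theorem D2880 : act 6 n1309 = n2880 := rfl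
theorem F4477 : act 2 n2880 = n2417 := d3_1 D2880 (iv6 D2417) (iv2 F2736)
theorem F4478 : act 3 n2880 = n1310 := d7_1 D2880 (iv6 D1310) D1309
theorem F4479 : act 5 n2880 = n2880 := d12_1 D2880 (iv6 D2880) F2420 F2173 (iv5 F2420)
def n2881 : Q := act 0 n1310
theorem D2881 : act 0 n1310 = n2881 := rfl
def n2882 : Q := act 1 n1310
theorem D2882 : act 1 n1310 = n2882 := rfl
def n2883 : Q := act 7 n1310
theorem D2883 : act 7 n1310 = n2883 := rfl
theorem F4480 : act 5 n2883 = n2883 := d13_1 D2883 (iv7 D2883) F2424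
theorem F4481 : act 6 n2883 = n2804 := d14_1 D2883 (iv7 D2804) F2379 F1561 D1310
def n2884 : Q := act 0 n1311
theorem D2884 : act 0 n1311 = n2884 := rfl
def n2885 : Q := act 1 n1311
theorem D2885 : act 1 n1311 = n2885 := rfl
def n2886 : Q := act 2 n1311
theorem D2886 : act 2 n1311 = n2886 := rfl
theorem F4482 : act 4 n2886 = n1511 := d1_2 (iv4 F2425) D2886 (iv2 D1511)
def n2887 : Q := act 5 n1311
theorem D2887 : act 5 n1311 = n2887 := rfl
theorem F4483 : act 3 n2887 = n1312 := d6_1 D2887 (iv5 D1312) D1311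
def n2888 : Q := act 7 n1311
theorem D2888 : act 7 n1311 = n2888 := rfl
theorem F4484 : act 3 n2888 = n1313 := d8_1 D2888 (iv7 D1313) D1311
theorem F4485 : act 4 n2888 = n1513 := d11_1 D2888 (iv7 D1513) (iv4 F2425)
def n2889 : Q := act 6 n1312
theorem D2889 : act 6 n1312 = n2889 := rfl
def n2890 : Q := act 7 n1312
theorem D2890 : act 7 n1312 = n2890 := rfl
theorem F4486 : act 2 n2890 = n1719 := d4_1 D2890 (iv7 F3436) F3435
theorem F4487 : act 4 n2890 = n1701 := d11_1 D2890 F2891 F2781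
theorem F4488 : act 5 n2890 = n1313 := d13_1 D2890 (iv7 D1313) D1312
theorem F4489 : act 1 n1488 = n2890 := d15_1 F3439 (iv7 D2890) (iv2 F3435)
theorem F4490 : act 1 n2890 = n1476 := d15_1 F4489 (iv7 F3977) F3975
def n2891 : Q := act 6 n1313
theorem D2891 : act 6 n1313 = n2891 := rfl
theorem F4491 : act 4 n2891 = n1314 := d10_1 D2891 (iv6 D1314) (iv4 F2426)
def n2892 : Q := act 0 n1314
theorem D2892 : act 0 n1314 = n2892 := rfl
theorem F4492 : act 6 n2892 = n2182 := d21_5 (iv5 D718) F1084 (iv5 F1470) D1314 D2892 (iv5 D2182) (iv1 D1071) D1072 F2210 (iv1 D1196)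
def n2893 : Q := act 1 n1314
theorem D2893 : act 1 n1314 = n2893 := rfl
def n2894 : Q := act 3 n1315
theorem D2894 : act 3 n1315 = n2894 := rfl
theorem F4493 : act 5 n2894 = n1368 := d6_2 (iv5 F2431) D2894 F2503
theorem F4494 : act 7 n2894 = n2894 := d8_2 F2432 D2894 (iv3 D2894)
theorem F4495 : act 0 n2213 = n2894 := d20_4 (iv4 F1461) D1286 D2806 F4396 (iv3 D2894) (iv4 F3765) F3767 (iv4 F3739) (iv3 D1380) (iv1 D779)
theorem F4496 : act 1 n2210 = n2894 := d15_0 (iv0 F4495) F3585 F3584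
def n2895 : Q := act 6 n1315
theorem D2895 : act 6 n1315 = n2895 := rfl
def n2896 : Q := act 3 n1316
theorem D2896 : act 3 n1316 = n2896 := rfl
theorem F4497 : act 5 n2896 = n2376 := d6_2 (iv5 F2433) D2896 (iv3 D2376)
theorem F4498 : act 7 n2896 = n2896 := d8_2 F2435 D2896 (iv3 D2896)
theorem F4499 : act 4 n2896 = n2167 := d20_6 (iv4 D1054) (iv1 F1244) D1057 (iv3 F2436) (iv1 F2441) D2896 (iv1 D2167) F2096 (iv3 F2095) (iv1 F1971)
theorem F4500 : act 0 n2805 = n2896 := d20_4 (iv4 F3624) F4398 (iv4 D2806) D2805 (iv3 D2896) (iv4 F3733) (iv1 F3737) F3739 (iv3 F3736) F3626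
theorem F4501 : act 7 n2167 = n2167 := d11_2 F4498 F4499 (iv4 F4499)
theorem F4502 : act 7 n2189 = n2189 := d13_2 F4501 (iv5 F3545) F3545
theorem F4503 : act 2 n2167 = n2166 := d15_3 (iv0 D2166) D2167 F4501
theorem F4504 : act 7 n2166 = n2166 := d4_2 F4501 F4503 (iv2 F4503)
theorem F4505 : act 7 n2188 = n2188 := d13_2 F4504 (iv5 F3544) F3544
theorem F4506 : act 2 n2188 = n2189 := d15_3 F3551 F3550 F4505
def n2897 : Q := act 6 n1316
theorem D2897 : act 6 n1316 = n2897 := rfl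
theorem F4507 : act 2 n2897 = n2895 := d3_1 D2897 (iv6 D2895) F2434
def n2898 : Q := act 6 n1317
theorem D2898 : act 6 n1317 = n2898 := rfl
theorem F4508 : act 2 n2898 = n1318 := d3_1 D2898 (iv6 D1318) D1317
theorem F4509 : act 3 n2898 = n2137 := d7_1 D2898 (iv6 D2137) (iv3 F2436)
theorem F4510 : act 4 n2898 = n2898 := d10_1 D2898 (iv6 D2898) F2437
def n2899 : Q := act 0 n1318
theorem D2899 : act 0 n1318 = n2899 := rfl
def n2900 : Q := act 1 n1318
theorem D2900 : act 1 n1318 = n2900 := rfl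
def n2901 : Q := act 5 n1318
theorem D2901 : act 5 n1318 = n2901 := rfl
theorem F4511 : act 3 n2901 = n1321 := d6_1 D2901 (iv5 D1321) (iv3 F2442)
def n2902 : Q := act 7 n1318
theorem D2902 : act 7 n1318 = n2902 := rfl
theorem F4512 : act 3 n2902 = n1322 := d8_1 D2902 (iv7 D1322) (iv3 F2442)
theorem F4513 : act 4 n2902 = n2902 := d11_1 D2902 (iv7 D2902) F2443
theorem F4514 : act 6 n2902 = n2902 := d14_1 D2902 (iv7 D2902) (iv6 D1318) F1472 D1318
def n2903 : Q := act 2 n1319
theorem D2903 : act 2 n1319 = n2903 := rfl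
theorem F4515 : act 7 n1320 = n2903 := d15_2 (iv0 D1319) D1320 (iv2 D2903)
def n2904 : Q := act 3 n1319
theorem D2904 : act 3 n1319 = n2904 := rfl
def n2905 : Q := act 4 n1319
theorem D2905 : act 4 n1319 = n2905 := rfl
def n2906 : Q := act 5 n1319
theorem D2906 : act 5 n1319 = n2906 := rfl
def n2907 : Q := act 6 n1319
theorem D2907 : act 6 n1319 = n2907 := rfl
theorem F4516 : act 5 n2907 = n2739 := d21_6 F1250 (iv1 F749) F748 D762 D1319 D2907 (iv1 D2739) (iv5 D1265) (iv6 D744) (iv1 F1252)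
def n2908 : Q := act 7 n1319
theorem D2908 : act 7 n1319 = n2908 := rfl
theorem F4517 : act 2 n2908 = n1320 := d4_1 D2908 F4515 (iv2 D2903)
def n2909 : Q := act 3 n1320
theorem D2909 : act 3 n1320 = n2909 := rfl
def n2910 : Q := act 4 n1320
theorem D2910 : act 4 n1320 = n2910 := rfl
def n2911 : Q := act 5 n1320
theorem D2911 : act 5 n1320 = n2911 := rfl
def n2912 : Q := act 6 n1320
theorem D2912 : act 6 n1320 = n2912 := rfl
def n2913 : Q := act 0 n1321
theorem D2913 : act 0 n1321 = n2913 := rfl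
def n2914 : Q := act 1 n1321
theorem D2914 : act 1 n1321 = n2914 := rfl
theorem F4518 : act 5 n2732 = n2914 := d21_6 (iv5 F1250) F1251 (iv5 F725) D744 D1263 D2732 (iv1 D2914) (iv5 D1321) (iv6 D762) F743
def n2915 : Q := act 4 n1321
theorem D2915 : act 4 n1321 = n2915 := rfl
def n2916 : Q := act 7 n1321
theorem D2916 : act 7 n1321 = n2916 := rfl
theorem F4519 : act 5 n2916 = n1322 := d13_1 D2916 (iv7 D1322) D1321
def n2919 : Q := act 3 n1323
theorem D2919 : act 3 n1323 = n2919 := rfl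
theorem F4522 : act 7 n2919 = n1328 := d8_2 F2446 D2919 (iv3 D1328)
def n2920 : Q := act 4 n1323
theorem D2920 : act 4 n1323 = n2920 := rfl
theorem F4523 : act 2 n2920 = n1325 := d1_1 D2920 (iv4 D1325) D1323
theorem F4524 : act 7 n2920 = n1329 := d11_2 F2446 D2920 (iv4 D1329)
def n2921 : Q := act 5 n1323
theorem D2921 : act 5 n1323 = n2921 := rfl
theorem F4525 : act 2 n2921 = n1326 := d2_1 D2921 (iv5 D1326) D1323
theorem F4526 : act 7 n2921 = n1330 := d13_2 F2446 D2921 (iv5 D1330)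
def n2922 : Q := act 0 n1324
theorem D2922 : act 0 n1324 = n2922 := rfl
def n2923 : Q := act 1 n1324
theorem D2923 : act 1 n1324 = n2923 := rfl
def n2924 : Q := act 2 n1324
theorem D2924 : act 2 n1324 = n2924 := rfl
def n2925 : Q := act 4 n1324
theorem D2925 : act 4 n1324 = n2925 := rfl
def n2926 : Q := act 5 n1324
theorem D2926 : act 5 n1324 = n2926 := rfl
theorem F4527 : act 3 n2926 = n1326 := d6_1 D2926 (iv5 D1326) D1324
def n2927 : Q := act 7 n1324
theorem D2927 : act 7 n1324 = n2927 := rfl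
theorem F4528 : act 3 n2927 = n1327 := d8_1 D2927 (iv7 D1327) D1324
def n2928 : Q := act 0 n1325
theorem D2928 : act 0 n1325 = n2928 := rfl
def n2929 : Q := act 1 n1325
theorem D2929 : act 1 n1325 = n2929 := rfl
theorem F4529 : act 1 n2929 = n1329 := d15_1 D2929 (iv7 F4524) F4523
def n2930 : Q := act 3 n1325
theorem D2930 : act 3 n1325 = n2930 := rfl
def n2931 : Q := act 5 n1325
theorem D2931 : act 5 n1325 = n2931 := rfl
def n2932 : Q := act 7 n1325
theorem D2932 : act 7 n1325 = n2932 := rfl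
theorem F4530 : act 2 n2932 = n1329 := d4_1 D2932 (iv7 F4524) F4523
theorem F4531 : act 4 n2932 = n1327 := d11_1 D2932 (iv7 D1327) D1325
theorem F4532 : act 1 n1329 = n2928 := d15_0 (iv0 D2928) D2932 F4530
def n2933 : Q := act 0 n1326
theorem D2933 : act 0 n1326 = n2933 := rfl
theorem F4533 : act 5 n2933 = n1545 := d21_2 D1326 D2933 (iv6 D1545) (iv1 D836) (iv6 D491) (iv5 D264) D261 F503 D443 D763
def n2934 : Q := act 1 n1326
theorem D2934 : act 1 n1326 = n2934 := rfl
theorem F4534 : act 1 n2934 = n1330 := d15_1 D2934 (iv7 F4526) F4525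
theorem F4535 : act 5 n2690 = n2934 := d21_6 D1452 F3901 (iv5 D1251) D1252 F3902 F4286 (iv1 D2934) (iv5 D1326) F2371 F3872
def n2935 : Q := act 4 n1326
theorem D2935 : act 4 n1326 = n2935 := rfl
def n2936 : Q := act 7 n1326
theorem D2936 : act 7 n1326 = n2936 := rfl
theorem F4536 : act 2 n2936 = n1330 := d4_1 D2936 (iv7 F4526) F4525
theorem F4537 : act 5 n2936 = n1327 := d13_1 D2936 (iv7 D1327) D1326
theorem F4538 : act 1 n1330 = n2933 := d15_0 (iv0 D2933) D2936 F4536
theorem E421 : n2470 = n1331 := ((c21_10 (iv5 F3871) (iv1 F4059) F4057 F2186 (iv1 F2188) D1545 (iv5 F4533) (iv1 F4538) (iv5 D1330) D1331 (iv1 F3906))).symm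
theorem F4539 : act 0 n1331 = n1438 := (sb E421 (iv1 F3906))
theorem F4540 : act 1 n1331 = n1157 := (sb E421 (iv0 D2470))
theorem E422 : n1435 = n1353 := ((F4352).symm.trans (sb E421 (iv2 F4284)))
theorem E423 : n1349 = n764 := ((((iv6 D1331)).symm.trans (sb E421 F4285))).symm
theorem F4541 : act 0 n1353 = n2472 := (sb E422 (iv1 F3907))
theorem F4542 : act 1 n1353 = n792 := (sb E422 (iv0 D1435))
theorem F4543 : act 2 n1353 = n1331 := (sb E422 (iv2 F4352))
theorem E424 : n1327 = n771 := ((((iv6 D1353)).symm.trans (sb E422 F4353))).symm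
theorem E425 : n1323 = n770 := ((F2446).symm.trans (sb E423 (iv7 D1349)))
theorem F4544 : act 2 n771 = n764 := (sb E424 F2447)
theorem E428 : n2927 = n1350 := (((D1350).symm.trans (sb E424 (iv3 F4528)))).symm
theorem E429 : n2932 = n1351 := (((D1351).symm.trans (sb E424 (iv4 F4531)))).symm
theorem E430 : n2936 = n1352 := (((D1352).symm.trans (sb E424 (iv5 F4537)))).symm
theorem E431 : n1345 = n763 := ((F2471).symm.trans (sb E424 (iv7 D1327)))
theorem E432 : n2919 = n1346 := (((D1346).symm.trans (sb E425 D2919))).symm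
theorem E433 : n2920 = n1347 := (((D1347).symm.trans (sb E425 D2920))).symm
theorem E434 : n2921 = n1348 := (((D1348).symm.trans (sb E425 D2921))).symm
theorem E435 : n2762 = n1251 := (((F2334).symm.trans (sb E425 F4350))).symm
theorem F4545 : act 7 n770 = n764 := (sb E425 (iv7 F2446))
theorem F4546 : act 7 n1350 = n1324 := (sb E428 (iv7 D2927))
theorem F4547 : act 2 n1351 = n1329 := (sb E429 F4530)
theorem F4548 : act 7 n1351 = n1325 := (sb E429 (iv7 D2932))
theorem F4549 : act 2 n1352 = n1330 := (sb E430 F4536)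
theorem F4550 : act 7 n1352 = n1326 := (sb E430 (iv7 D2936))
theorem F4551 : act 2 n763 = n770 := (sb E431 (iv2 D1345))
theorem E436 : n2688 = n1275 := (((F2371).symm.trans (sb E431 F4282))).symm
theorem F4552 : act 7 n763 = n771 := (sb E431 (iv7 F2471))
theorem F4553 : act 7 n1346 = n1328 := (sb E432 F4522)
theorem F4554 : act 2 n1347 = n1325 := (sb E433 F4523)
theorem F4555 : act 7 n1347 = n1329 := (sb E433 F4524)
theorem F4556 : act 2 n1348 = n1326 := (sb E434 F4525)
theorem F4557 : act 7 n1348 = n1330 := (sb E434 F4526)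
theorem E437 : n1272 = n737 := ((((iv5 D1251)).symm.trans (sb E435 F4349))).symm
theorem E438 : n2672 = n1270 := (((iv7 F4270)).symm.trans (sb E435 (iv7 D2762)))
theorem F4558 : act 2 n1275 = n1251 := (sb E436 F4280)
theorem E439 : n1248 = n746 := ((((iv5 D1275)).symm.trans (sb E436 F4281))).symm
theorem E440 : n2746 = n1246 := (((iv7 F4338)).symm.trans (sb E436 (iv7 D2688)))
theorem E443 : n2754 = n1249 := (((D1249).symm.trans (sb E437 (iv3 F4342)))).symm
theorem E444 : n2760 = n1250 := (((D1250).symm.trans (sb E437 (iv4 F4346)))).symm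
theorem E446 : n1243 = n745 := ((F2332).symm.trans (sb E437 (iv7 D1272)))
theorem F4559 : act 7 n1270 = n1251 := (sb E438 F4270)
theorem F4560 : act 2 n746 = n737 := (sb E439 F2333)
theorem E449 : n2680 = n1273 := (((D1273).symm.trans (sb E439 (iv3 F4274)))).symm
theorem E450 : n2686 = n1274 := (((D1274).symm.trans (sb E439 (iv4 F4278)))).symm
theorem E451 : n2692 = n1276 := (((D1276).symm.trans (sb E439 D2692))).symm
theorem E452 : n1267 = n736 := ((F2369).symm.trans (sb E439 (iv7 D1248)))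
theorem F4561 : act 2 n1246 = n1270 := (sb E440 F4337)
theorem F4562 : act 7 n1246 = n1275 := (sb E440 F4338)
theorem E453 : n2670 = n1268 := (((iv7 F4266)).symm.trans (sb E443 (iv7 D2754)))
theorem E454 : n2671 = n1269 := (((iv7 F4268)).symm.trans (sb E444 (iv7 D2760)))
theorem F4563 : act 7 n745 = n737 := (sb E446 (iv7 F2332))
theorem E456 : n2744 = n1244 := (((iv7 F4334)).symm.trans (sb E449 (iv7 D2680)))
theorem E457 : n2745 = n1245 := (((iv7 F4336)).symm.trans (sb E450 (iv7 D2686)))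
theorem F4565 : act 2 n1276 = n1252 := (sb E451 F4287)
theorem F4566 : act 2 n736 = n745 := (sb E452 (iv2 D1267))
theorem E458 : n2747 = n1247 := (((D1247).symm.trans (sb E452 D2747))).symm
theorem F4567 : act 7 n736 = n746 := (sb E452 (iv7 F2369))
theorem F4568 : act 7 n1268 = n1249 := (sb E453 F4266)
theorem F4569 : act 7 n1269 = n1250 := (sb E454 F4268)
theorem F4570 : act 7 n1244 = n1273 := (sb E456 F4334)
theorem F4571 : act 2 n1245 = n1269 := (sb E457 F4335)
theorem F4572 : act 7 n1245 = n1274 := (sb E457 F4336)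
theorem F4573 : act 2 n1247 = n1271 := (sb E458 F4339)
theorem F4574 : act 2 n2759 = n2685 := d1_3 F4276 F4573 (iv4 F4344)
theorem F4575 : act 2 n1333 = n1355 := d2_3 (iv5 F2474) F4573 F2448
theorem F4576 : act 2 n2765 = n2691 := d4_3 (iv7 D2691) F4573 D2765
theorem F4577 : act 1 n2764 = n2691 := d15_1 D2764 (iv7 D2691) F4573
theorem F4578 : act 1 n2690 = n2765 := d15_1 D2690 (iv7 D2765) (iv2 F4573)
theorem F4579 : act 1 n2691 = n2763 := d15_0 (iv0 D2763) D2765 F4576
theorem F4580 : act 1 n2765 = n2689 := d15_0 (iv0 D2689) D2691 (iv2 F4576)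
theorem F4581 : act 7 n1354 = n1333 := d15_2 F2473 F2479 F4575
theorem F4582 : act 7 n1332 = n1355 := d15_2 F2480 F2481 (iv2 F4575)
theorem F4583 : act 2 n1354 = n1332 := d4_3 F4582 (iv2 F4575) (iv7 F4581)
theorem F4584 : act 5 n2691 = n1332 := d13_3 F4582 (iv5 F2474) D2691
theorem F4585 : act 5 n1354 = n2765 := d2_2 F4584 (iv2 F4583) F4576
theorem F4586 : act 7 n2773 = n2683 := d8_2 F4572 D2773 (iv3 D2683)
theorem F4587 : act 7 n2774 = n2684 := d13_2 F4572 D2774 (iv5 D2684)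
theorem F4588 : act 2 n2758 = n2684 := d2_3 (iv5 D2684) F4571 D2758
theorem F4589 : act 7 n2769 = n2676 := d4_2 F4570 D2769 (iv2 D2676)
theorem F4590 : act 7 n2770 = n2677 := d11_2 F4570 D2770 (iv4 D2677)
theorem F4591 : act 7 n2771 = n2678 := d13_2 F4570 D2771 (iv5 D2678)
theorem F4592 : act 1 n2769 = n2674 := d15_0 (iv0 D2674) F4570 D2769
theorem F4594 : act 1 n2675 = n2769 := d15_1 D2675 F4589 (iv2 D2676)
theorem F4596 : act 7 n2699 = n2757 := d8_2 F4569 D2699 (iv3 D2757)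
theorem F4597 : act 7 n2700 = n2758 := d13_2 F4569 D2700 (iv5 D2758)
theorem F4598 : act 2 n2774 = n2700 := d4_3 F4597 F4588 (iv7 F4587)
theorem F4599 : act 7 n2695 = n2750 := d4_2 F4568 D2695 (iv2 D2750)
theorem F4601 : act 7 n2697 = n2752 := d13_2 F4568 D2697 (iv5 D2752)
theorem F4605 : act 1 n2694 = n2750 := d15_1 D2694 (iv7 F4599) (iv2 D2695)
theorem F4606 : act 6 n2778 = n2691 := d14_3 F4567 D1276 D2778 (iv7 D2691) (iv6 D1247)
theorem F4607 : act 5 n2466 = n2778 := d21_2 D1161 (iv1 F3857) F4606 (iv1 F4577) (iv6 F4354) (iv5 D2489) (iv1 F2120) F1512 F765 (iv1 F1309)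
theorem F4608 : act 0 n1457 = n2778 := d21_4 D1330 (iv1 F4534) (iv5 F4535) (iv6 F4286) F4606 F4584 (iv1 F2481) F2478 F1490 (iv1 F1492)
theorem F4609 : act 0 n2778 = n1462 := d21_10 (iv5 D1462) (iv1 D799) (iv5 D455) (iv6 D246) D243 D443 D765 D1332 (iv5 F4584) (iv6 F4606)
theorem E459 : n2703 = n1462 := (c15_1 D2703 (iv0 F4609) (iv7 D2778) F4565)
theorem F4610 : act 0 n1462 = n1252 := (sb E459 (iv1 D2703))
theorem F4611 : act 6 n2466 = n1491 := d21_3 D1457 F4608 (iv5 F4607) (iv1 D1491) (iv6 D810) (iv5 D465) (iv1 D248) D249 (iv6 F764) D798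
theorem F4612 : act 2 n2704 = n2778 := d15_3 (iv0 F4608) (iv0 F3902) D2704
theorem F4613 : act 6 n2765 = n2704 := d3_0 F4612 F4606 (iv2 F4576)
theorem F4614 : act 1 n2704 = n2489 := d15_0 (iv0 F3938) D2778 (iv2 F4612)
theorem F4615 : act 0 n2704 = n1540 := d21_10 F2685 (iv1 D1164) (iv5 D700) (iv6 D401) (iv1 F386) D447 D772 D1354 F4585 F4613
theorem F4616 : act 5 n1431 = n2704 := d21_2 D796 (iv1 F2560) (iv6 F4613) (iv1 F4578) (iv6 F4286) (iv5 D1457) (iv1 F2122) F2119 F1313 (iv1 F1315)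
theorem F4617 : act 2 n2466 = n1431 := d2_3 F4616 F4612 (iv5 F4607)
theorem F4618 : act 7 n2465 = n1431 := d13_0 F4616 (iv7 D2704) (iv5 F3853)
theorem F4619 : act 6 n1431 = n2513 := d21_3 D2489 (iv1 F4614) (iv5 F4616) (iv1 D2513) (iv6 D1171) (iv5 D704) (iv1 D403) D404 (iv6 F1311) D1163
theorem F4620 : act 2 n2513 = n1491 := d3_1 F4619 (iv6 F4611) F4617
theorem F4621 : act 7 n2513 = n1490 := d14_2 F4618 F4619 F2608 (iv7 F4557) F3854
theorem F4622 : act 2 n1490 = n2512 := d15_3 (iv0 D2512) D2513 F4621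
theorem F4623 : act 7 n1491 = n2512 := d4_2 (iv7 F4621) F4620 (iv2 F4622)
theorem F4624 : act 7 n1430 = n2466 := d14_4 F4623 F3982 F4550 F2557 F4611
theorem F4625 : act 2 n2465 = n1430 := d4_3 F4624 F4617 (iv7 F4618)
theorem E460 : n2777 = n1540 := (c15_1 D2777 (iv0 F4615) (iv7 D2704) (iv2 F4565))
theorem F4626 : act 0 n1540 = n1276 := (sb E460 (iv1 D2777))
theorem F4627 : act 3 n2750 = n2676 := d0_4 (iv3 D1244) F4566 D1268 D2750 (iv2 D2676)
theorem F4629 : act 2 n2701 = n2775 := d1_3 F4359 F4565 (iv4 F4291)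
theorem F4630 : act 7 n2776 = n2687 := d11_2 F4562 D2776 (iv4 D2687)
theorem F4631 : act 2 n2761 = n2687 := d1_3 (iv4 D2687) F4561 D2761
theorem F4632 : act 2 n1436 = n2471 := d3_3 (iv6 F3860) F4561 F2563
theorem F4633 : act 7 n2702 = n2761 := d11_2 F4559 D2702 (iv4 D2761)
theorem F4634 : act 2 n2776 = n2702 := d4_3 F4633 F4631 (iv7 F4630)
theorem E461 : n2689 = n1545 := (c21_11 (iv5 F4533) (iv1 F4538) (iv5 D1330) D1331 F4539 F3869 (iv5 D2485) F3856 (iv5 D1246) D1247 D2689)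
theorem F4635 : act 0 n1545 = n2765 := (sb E461 (iv1 F4580))
theorem F4636 : act 1 n1545 = n1247 := (sb E461 (iv0 D2689))
def n2941 : Q := act 5 n1328
theorem D2941 : act 5 n1328 = n2941 := rfl
theorem F4637 : act 3 n2941 = n1330 := d6_1 D2941 (iv5 D1330) D1328
def n2942 : Q := act 6 n1328
theorem D2942 : act 6 n1328 = n2942 := rfl
theorem F4638 : act 3 n2942 = n1331 := d7_1 D2942 (iv6 D1331) D1328
def n2943 : Q := act 3 n1329
theorem D2943 : act 3 n1329 = n2943 := rfl
def n2944 : Q := act 5 n1329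
theorem D2944 : act 5 n1329 = n2944 := rfl
def n2945 : Q := act 6 n1329
theorem D2945 : act 6 n1329 = n2945 := rfl
theorem F4639 : act 4 n2945 = n1331 := d10_1 D2945 (iv6 D1331) D1329
def n2946 : Q := act 4 n1330
theorem D2946 : act 4 n1330 = n2946 := rfl
def n2947 : Q := act 5 n1331
theorem D2947 : act 5 n1331 = n2947 := rfl
theorem F4640 : act 0 n2545 = n2947 := d21_1 D2545 (iv5 D2947) (iv6 D1331) (iv1 D764) (iv6 D443) (iv5 F503) (iv1 F392) D407 D712 D1187
def n2948 : Q := act 3 n1332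
theorem D2948 : act 3 n1332 = n2948 := rfl
def n2949 : Q := act 4 n1332
theorem D2949 : act 4 n1332 = n2949 := rfl
def n2950 : Q := act 6 n1332
theorem D2950 : act 6 n1332 = n2950 := rfl
theorem F4641 : act 5 n2950 = n1491 := d12_1 D2950 (iv6 F4611) F4607 F4606 F4584
def n2951 : Q := act 3 n1333
theorem D2951 : act 3 n1333 = n2951 := rfl
theorem F4642 : act 5 n2951 = n2753 := d6_2 F2448 D2951 F4341
def n2952 : Q := act 4 n1333
theorem D2952 : act 4 n1333 = n2952 := rfl
def n2953 : Q := act 6 n1333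
theorem D2953 : act 6 n1333 = n2953 := rfl
theorem F4643 : act 5 n2953 = n1436 := d12_1 D2953 (iv6 F2563) (iv5 D1270) D1271 F2448
theorem F4644 : act 7 n2947 = n2953 := d13_0 F4643 F4351 D2947
theorem F4645 : act 0 n1544 = n2953 := d21_1 D1544 F4643 (iv6 F2563) F3865 (iv6 F3869) (iv5 F3871) (iv1 F4059) F4057 F2186 (iv1 F2188)
theorem F4646 : act 0 n2953 = n1539 := d21_1 (iv5 F4643) (iv5 D1539) D1540 F4626 (iv6 D1276) D1275 F3872 D1452 (iv6 F3900) F3905
def n2954 : Q := act 0 n1334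
theorem D2954 : act 0 n1334 = n2954 := rfl
def n2955 : Q := act 1 n1334
theorem D2955 : act 1 n1334 = n2955 := rfl
def n2956 : Q := act 3 n1334
theorem D2956 : act 3 n1334 = n2956 := rfl
theorem F4647 : act 4 n2956 = n2956 := d5_2 D1334 D2956 (iv3 D2956) (iv4 D1334) F1474
theorem F4648 : act 6 n2956 = n1493 := d7_2 (iv6 F2449) D2956 (iv3 D1493)
def n2957 : Q := act 5 n1334
theorem D2957 : act 5 n1334 = n2957 := rfl
def n2958 : Q := act 7 n1334
theorem D2958 : act 7 n1334 = n2958 := rfl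
theorem F4649 : act 4 n2958 = n1335 := d11_1 D2958 (iv7 D1335) D1334
def n2959 : Q := act 2 n1336
theorem D2959 : act 2 n1336 = n2959 := rfl
theorem F4650 : act 7 n1337 = n2959 := d15_2 (iv0 D1336) D1337 (iv2 D2959)
def n2960 : Q := act 3 n1336
theorem D2960 : act 3 n1336 = n2960 := rfl
def n2961 : Q := act 4 n1336
theorem D2961 : act 4 n1336 = n2961 := rfl
def n2962 : Q := act 5 n1336
theorem D2962 : act 5 n1336 = n2962 := rfl
def n2963 : Q := act 7 n1336
theorem D2963 : act 7 n1336 = n2963 := rfl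
theorem F4651 : act 2 n2963 = n1337 := d4_1 D2963 F4650 (iv2 D2959)
def n2964 : Q := act 3 n1337
theorem D2964 : act 3 n1337 = n2964 := rfl
def n2965 : Q := act 4 n1337
theorem D2965 : act 4 n1337 = n2965 := rfl
def n2966 : Q := act 5 n1337
theorem D2966 : act 5 n1337 = n2966 := rfl
def n2967 : Q := act 6 n1337
theorem D2967 : act 6 n1337 = n2967 := rfl
def n2968 : Q := act 0 n1338
theorem D2968 : act 0 n1338 = n2968 := rfl
def n2969 : Q := act 1 n1338
theorem D2969 : act 1 n1338 = n2969 := rfl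
theorem F4652 : act 5 n2718 = n2969 := d21_6 (iv5 D739) F719 D430 D742 D1259 D2718 (iv1 D2969) (iv5 D1338) (iv6 D767) F1453
def n2970 : Q := act 4 n1338
theorem D2970 : act 4 n1338 = n2970 := rfl
theorem F4653 : act 2 n2970 = n2970 := d1_1 D2970 (iv4 D2970) F2452
theorem F4654 : act 6 n2970 = n2515 := d10_2 (iv6 F2454) D2970 (iv4 D2515)
def n2971 : Q := act 7 n1338
theorem D2971 : act 7 n1338 = n2971 := rfl
theorem F4655 : act 2 n2971 = n2971 := d4_1 D2971 (iv7 D2971) F2452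
theorem F4656 : act 3 n2971 = n1357 := d8_1 D2971 (iv7 D1357) (iv3 F2453)
theorem F4657 : act 5 n2971 = n1339 := d13_1 D2971 (iv7 D1339) D1338
theorem F4658 : act 1 n2971 = n2968 := d15_0 (iv0 D2968) D2971 F4655
theorem F4659 : act 1 n2969 = n2971 := d15_1 D2969 (iv7 D2971) F2452
def n2972 : Q := act 0 n1340
theorem D2972 : act 0 n1340 = n2972 := rfl
def n2973 : Q := act 1 n1340
theorem D2973 : act 1 n1340 = n2973 := rfl
def n2974 : Q := act 5 n1340
theorem D2974 : act 5 n1340 = n2974 := rfl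
theorem F4660 : act 3 n2974 = n1343 := d6_1 D2974 (iv5 D1343) (iv3 F2460)
theorem F4661 : act 6 n2974 = n2901 := d12_2 D1340 D2974 (iv5 D2901) (iv6 D1318) (iv5 F1481)
def n2975 : Q := act 7 n1340
theorem D2975 : act 7 n1340 = n2975 := rfl
theorem F4662 : act 3 n2975 = n1344 := d8_1 D2975 (iv7 D1344) (iv3 F2460)
theorem F4663 : act 4 n2975 = n2136 := d11_1 D2975 (iv7 D2136) (iv4 F2461)
theorem F4664 : act 6 n2975 = n2975 := d14_1 D2975 (iv7 D2975) (iv6 D1340) F1482 D1340
def n2976 : Q := act 2 n1341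
theorem D2976 : act 2 n1341 = n2976 := rfl
theorem F4665 : act 7 n1342 = n2976 := d15_2 (iv0 D1341) D1342 (iv2 D2976)
def n2977 : Q := act 3 n1341
theorem D2977 : act 3 n1341 = n2977 := rfl
def n2978 : Q := act 4 n1341
theorem D2978 : act 4 n1341 = n2978 := rfl
def n2979 : Q := act 5 n1341
theorem D2979 : act 5 n1341 = n2979 := rfl
def n2980 : Q := act 6 n1341
theorem D2980 : act 6 n1341 = n2980 := rfl
theorem F4666 : act 5 n2980 = n2665 := d21_6 F1255 F1223 (iv5 F748) D769 D1341 D2980 (iv1 D2665) (iv5 D1241) (iv6 D735) (iv1 F1258)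
def n2981 : Q := act 7 n1341
theorem D2981 : act 7 n1341 = n2981 := rfl
theorem F4667 : act 2 n2981 = n1342 := d4_1 D2981 F4665 (iv2 D2976)
def n2982 : Q := act 3 n1342
theorem D2982 : act 3 n1342 = n2982 := rfl
def n2983 : Q := act 4 n1342
theorem D2983 : act 4 n1342 = n2983 := rfl
def n2984 : Q := act 5 n1342
theorem D2984 : act 5 n1342 = n2984 := rfl
def n2985 : Q := act 6 n1342
theorem D2985 : act 6 n1342 = n2985 := rfl
def n2986 : Q := act 0 n1343
theorem D2986 : act 0 n1343 = n2986 := rfl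
def n2987 : Q := act 1 n1343
theorem D2987 : act 1 n1343 = n2987 := rfl
theorem F4668 : act 1 n2987 = n2916 := d15_1 D2987 (iv7 D2916) (iv2 F2463)
theorem F4669 : act 5 n2658 = n2987 := d21_6 (iv5 F1255) F1257 F725 D735 D1239 D2658 (iv1 D2987) (iv5 D1343) (iv6 D769) (iv1 F1224)
def n2988 : Q := act 4 n1343
theorem D2988 : act 4 n1343 = n2988 := rfl
theorem F4670 : act 2 n2988 = n2915 := d1_1 D2988 (iv4 D2915) (iv2 F2463)
theorem F4671 : act 6 n2988 = n2915 := d10_2 (iv6 F2464) D2988 (iv4 D2915)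
def n2989 : Q := act 7 n1343
theorem D2989 : act 7 n1343 = n2989 := rfl
theorem F4672 : act 2 n2989 = n2916 := d4_1 D2989 (iv7 D2916) (iv2 F2463)
theorem F4673 : act 5 n2989 = n1344 := d13_1 D2989 (iv7 D1344) D1343
theorem F4674 : act 1 n2916 = n2986 := d15_0 (iv0 D2986) D2989 F4672
theorem F4675 : act 1 n2914 = n2989 := d15_1 D2914 (iv7 D2989) F2463
theorem F4676 : act 1 n2989 = n2913 := d15_0 (iv0 D2913) D2916 (iv2 F4672)
def n2994 : Q := act 5 n1346
theorem D2994 : act 5 n1346 = n2994 := rfl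
theorem F4684 : act 3 n2994 = n1348 := d6_1 D2994 (iv5 D1348) D1346
theorem F4685 : act 7 n2994 = n2941 := d13_2 (iv7 F4553) D2994 (iv5 D2941)
def n2995 : Q := act 0 n1347
theorem D2995 : act 0 n1347 = n2995 := rfl
theorem F4686 : act 1 n1351 = n2995 := d15_0 (iv0 D2995) F4555 (iv2 F4547)
def n2996 : Q := act 1 n1347
theorem D2996 : act 1 n1347 = n2996 := rfl
def n2997 : Q := act 3 n1347
theorem D2997 : act 3 n1347 = n2997 := rfl
theorem F4688 : act 7 n2997 = n2943 := d8_2 (iv7 F4555) D2997 (iv3 D2943)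
def n2998 : Q := act 5 n1347
theorem D2998 : act 5 n1347 = n2998 := rfl
theorem F4689 : act 2 n2998 = n2931 := d2_1 D2998 (iv5 D2931) (iv2 F4554)
theorem F4690 : act 7 n2998 = n2944 := d13_2 (iv7 F4555) D2998 (iv5 D2944)
def n2999 : Q := act 0 n1348
theorem D2999 : act 0 n1348 = n2999 := rfl
theorem F4691 : act 5 n2999 = n2550 := d21_2 D1348 D2999 (iv6 D2550) (iv1 D1188) (iv6 D712) (iv5 D407) (iv1 F393) F507 D447 D770
theorem F4692 : act 1 n1352 = n2999 := d15_0 (iv0 D2999) F4557 (iv2 F4549)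
theorem E462 : n2763 = n2550 := (c21_11 (iv5 F4691) (iv1 F4692) (iv5 D1352) D1353 F4541 F3900 (iv5 D1452) F2559 (iv5 D1270) D1271 D2763)
theorem F4693 : act 0 n2550 = n2691 := (sb E462 (iv1 F4579))
theorem F4694 : act 1 n2550 = n1271 := (sb E462 (iv0 D2763))
theorem F4695 : act 0 n2950 = n1463 := d21_4 F4691 F4693 F4584 D2950 (iv6 D1463) D1462 F4610 (iv5 F3853) (iv6 F3854) D2999
theorem F4696 : act 0 n2947 = n2549 := d21_1 D2947 (iv5 D2549) D2550 F4693 (iv6 F4606) (iv5 F4607) (iv1 D2466) (iv5 D1156) D1157 (iv1 F4540)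
def n3000 : Q := act 1 n1348
theorem D3000 : act 1 n1348 = n3000 := rfl
theorem F4697 : act 1 n3000 = n1352 := d15_1 D3000 F4550 (iv2 F4556)
theorem F4698 : act 5 n2764 = n3000 := d21_0 (iv1 D3000) (iv5 D1348) F2334 F3903 (iv6 D1162) D1161 (iv1 F3857) F4607 F4606 (iv1 F4577)
def n3001 : Q := act 4 n1348
theorem D3001 : act 4 n1348 = n3001 := rfl
theorem F4699 : act 2 n3001 = n2935 := d1_1 D3001 (iv4 D2935) (iv2 F4556)
theorem F4700 : act 7 n3001 = n2946 := d11_2 (iv7 F4557) D3001 (iv4 D2946)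
def n3002 : Q := act 0 n1350
theorem D3002 : act 0 n1350 = n3002 := rfl
theorem F4701 : act 1 n2924 = n3002 := d15_0 (iv0 D3002) F4546 D2924
def n3003 : Q := act 1 n1350
theorem D3003 : act 1 n1350 = n3003 := rfl
def n3004 : Q := act 2 n1350
theorem D3004 : act 2 n1350 = n3004 := rfl
theorem F4703 : act 7 n3004 = n2924 := d4_2 (iv7 F4546) D3004 (iv2 D2924)
theorem F4704 : act 1 n3004 = n2922 := d15_0 (iv0 D2922) (iv7 F4546) D3004
theorem F4705 : act 1 n3003 = n2924 := d15_1 D3003 (iv7 F4703) (iv2 D3004)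
def n3005 : Q := act 4 n1350
theorem D3005 : act 4 n1350 = n3005 := rfl
theorem F4707 : act 7 n3005 = n2925 := d11_2 (iv7 F4546) D3005 (iv4 D2925)
def n3006 : Q := act 5 n1350
theorem D3006 : act 5 n1350 = n3006 := rfl
theorem F4708 : act 3 n3006 = n1352 := d6_1 D3006 (iv5 D1352) D1350
theorem F4709 : act 7 n3006 = n2926 := d13_2 (iv7 F4546) D3006 (iv5 D2926)
def n3007 : Q := act 6 n1350
theorem D3007 : act 6 n1350 = n3007 := rfl
theorem F4710 : act 3 n3007 = n1353 := d7_1 D3007 (iv6 D1353) D1350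
def n3008 : Q := act 3 n1351
theorem D3008 : act 3 n1351 = n3008 := rfl
theorem F4711 : act 7 n3008 = n2930 := d8_2 (iv7 F4548) D3008 (iv3 D2930)
def n3009 : Q := act 5 n1351
theorem D3009 : act 5 n1351 = n3009 := rfl
theorem F4712 : act 2 n3009 = n2944 := d2_1 D3009 (iv5 D2944) (iv2 F4547)
theorem F4713 : act 7 n3009 = n2931 := d13_2 (iv7 F4548) D3009 (iv5 D2931)
def n3010 : Q := act 6 n1351
theorem D3010 : act 6 n1351 = n3010 := rfl
theorem F4714 : act 2 n3010 = n2945 := d3_1 D3010 (iv6 D2945) (iv2 F4547)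
theorem F4715 : act 4 n3010 = n1353 := d10_1 D3010 (iv6 D1353) D1351
def n3011 : Q := act 4 n1352
theorem D3011 : act 4 n1352 = n3011 := rfl
theorem F4716 : act 2 n3011 = n2946 := d1_1 D3011 (iv4 D2946) (iv2 F4549)
theorem F4717 : act 7 n3011 = n2935 := d11_2 (iv7 F4550) D3011 (iv4 D2935)
def n3012 : Q := act 5 n1353
theorem D3012 : act 5 n1353 = n3012 := rfl
theorem F4718 : act 2 n3012 = n2947 := d2_1 D3012 (iv5 D2947) (iv2 F4543)
theorem F4719 : act 0 n3012 = n1544 := d21_1 D3012 (iv5 D1544) D1545 F4635 F4613 (iv5 F4616) (iv1 D1431) (iv5 D791) D792 (iv1 F4542)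
theorem F4720 : act 0 n1539 = n3012 := d21_1 D1539 (iv5 D3012) (iv6 D1353) (iv1 D771) (iv6 D447) (iv5 F507) (iv1 D262) D264 D491 D835
def n3013 : Q := act 3 n1354
theorem D3013 : act 3 n1354 = n3013 := rfl
theorem F4721 : act 7 n3013 = n2951 := d8_2 (iv7 F4581) D3013 (iv3 D2951)
def n3014 : Q := act 4 n1354
theorem D3014 : act 4 n1354 = n3014 := rfl
theorem F4722 : act 2 n3014 = n2949 := d1_1 D3014 (iv4 D2949) (iv2 F4583)
theorem F4723 : act 7 n3014 = n2952 := d11_2 (iv7 F4581) D3014 (iv4 D2952)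
def n3015 : Q := act 6 n1354
theorem D3015 : act 6 n1354 = n3015 := rfl
theorem F4724 : act 2 n3015 = n2950 := d3_1 D3015 (iv6 D2950) (iv2 F4583)
theorem F4725 : act 5 n3015 = n2513 := d12_1 D3015 (iv6 F4619) F4616 (iv6 F4613) (iv5 F4585)
theorem F4726 : act 0 n3015 = n2494 := d21_4 F4533 F4635 (iv5 F4585) D3015 (iv6 D2494) (iv5 F2685) F4626 (iv5 F2556) (iv6 F2557) D2933
def n3016 : Q := act 3 n1355
theorem D3016 : act 3 n1355 = n3016 := rfl
theorem F4727 : act 5 n3016 = n2679 := d6_2 F2474 D3016 F4273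
theorem F4728 : act 7 n3016 = n2948 := d8_2 F4582 D3016 (iv3 D2948)
def n3017 : Q := act 4 n1355
theorem D3017 : act 4 n1355 = n3017 := rfl
theorem F4729 : act 2 n3017 = n2952 := d1_1 D3017 (iv4 D2952) F4575
theorem F4730 : act 7 n3017 = n2949 := d11_2 F4582 D3017 (iv4 D2949)
def n3018 : Q := act 6 n1355
theorem D3018 : act 6 n1355 = n3018 := rfl
theorem F4731 : act 2 n3018 = n2953 := d3_1 D3018 (iv6 D2953) F4575
theorem F4732 : act 5 n3018 = n2471 := d12_1 D3018 (iv6 F3860) (iv5 D1246) D1247 F2474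
theorem F4733 : act 7 n3012 = n3018 := d13_0 F4732 F4283 D3012
theorem F4734 : act 0 n2549 = n3018 := d21_1 D2549 F4732 (iv6 F3860) F2570 (iv6 F3900) (iv5 F3897) (iv1 F3898) F2690 F1580 (iv1 F2182)
theorem F4735 : act 0 n3018 = n2545 := d21_1 (iv5 F4732) (iv5 D2545) F2573 F4610 (iv6 D1252) D1251 F3903 D2485 (iv6 F3869) F3904
def n3019 : Q := act 0 n1356
theorem D3019 : act 0 n1356 = n3019 := rfl
def n3020 : Q := act 1 n1356
theorem D3020 : act 1 n1356 = n3020 := rfl
theorem F4736 : act 1 n3020 = n2958 := d15_1 D3020 (iv7 D2958) (iv2 F2475)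
def n3021 : Q := act 3 n1356
theorem D3021 : act 3 n1356 = n3021 := rfl
theorem F4737 : act 6 n3021 = n2516 := d7_2 (iv6 F2476) D3021 (iv3 D2516)
def n3022 : Q := act 5 n1356
theorem D3022 : act 5 n1356 = n3022 := rfl
theorem F4738 : act 2 n3022 = n2957 := d2_1 D3022 (iv5 D2957) (iv2 F2475)
def n3023 : Q := act 7 n1356
theorem D3023 : act 7 n1356 = n3023 := rfl
theorem F4739 : act 2 n3023 = n2958 := d4_1 D3023 (iv7 D2958) (iv2 F2475)
theorem F4740 : act 4 n3023 = n1357 := d11_1 D3023 (iv7 D1357) D1356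
theorem F4741 : act 1 n2958 = n3019 := d15_0 (iv0 D3019) D3023 F4739
theorem F4742 : act 1 n2955 = n3023 := d15_1 D2955 (iv7 D3023) F2475
theorem F4743 : act 1 n3023 = n2954 := d15_0 (iv0 D2954) D2958 (iv2 F4739)
def n3024 : Q := act 4 n1358
theorem D3024 : act 4 n1358 = n3024 := rfl
theorem F4744 : act 3 n3024 = n2167 := d5_1 D3024 (iv4 F4499) (iv3 D2896) (iv4 F3733) F3731
theorem F4745 : act 7 n3024 = n3024 := d11_2 F2483 D3024 (iv4 D3024)
theorem F4746 : act 0 n2289 = n3024 := d20_10 (iv4 D3024) (iv1 F2486) F2484 D2307 F3784 F3781 (iv4 F3387) (iv1 F3482) F3479 (iv3 F3656)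
def n3025 : Q := act 6 n1358
theorem D3025 : act 6 n1358 = n3025 := rfl
def n3026 : Q := act 3 n1359
theorem D3026 : act 3 n1359 = n3026 := rfl
theorem F4747 : act 5 n3026 = n2307 := d6_2 F2489 D3026 (iv3 D2307)
theorem F4748 : act 7 n3026 = n3026 := d8_2 F2490 D3026 (iv3 D3026)
theorem F4749 : act 0 n2424 = n3026 := d17_0 F4747 F3784 (iv5 D2389) F2073 (iv5 F1575) D1529 F3484 F2522 (iv4 F3817)
theorem F4750 : act 1 n1387 = n3026 := d18_8 F3784 F3783 (iv1 F2672) (iv4 F3547) F3548 F3412 (iv0 D1385) D1387 F4747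
def n3027 : Q := act 4 n1359
theorem D3027 : act 4 n1359 = n3027 := rfl
theorem F4751 : act 2 n3027 = n3024 := d1_1 D3027 (iv4 D3024) F2488
theorem F4752 : act 7 n3027 = n3027 := d11_2 F2490 D3027 (iv4 D3027)
theorem F4753 : act 0 n3027 = n2289 := d17_0 (iv5 D2289) D2286 F3647 (iv4 D2210) F2005 (iv0 F1979) F1496 D1359 D3027
def n3028 : Q := act 6 n1359
theorem D3028 : act 6 n1359 = n3028 := rfl
theorem F4754 : act 2 n3028 = n3025 := d3_1 D3028 (iv6 D3025) F2488
def n3029 : Q := act 6 n1360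
theorem D3029 : act 6 n1360 = n3029 := rfl
theorem F4755 : act 2 n3029 = n1361 := d3_1 D3029 (iv6 D1361) D1360
theorem F4756 : act 4 n3029 = n2308 := d10_1 D3029 (iv6 D2308) (iv4 F2484)
def n3030 : Q := act 0 n1361
theorem D3030 : act 0 n1361 = n3030 := rfl
def n3031 : Q := act 1 n1361
theorem D3031 : act 1 n1361 = n3031 := rfl
def n3032 : Q := act 5 n1361
theorem D3032 : act 5 n1361 = n3032 := rfl
theorem F4757 : act 3 n3032 = n1364 := d6_1 D3032 (iv5 D1364) (iv3 F2491)
def n3033 : Q := act 7 n1361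
theorem D3033 : act 7 n1361 = n3033 := rfl
theorem F4758 : act 3 n3033 = n1365 := d8_1 D3033 (iv7 D1365) (iv3 F2491)
theorem F4759 : act 6 n3033 = n3033 := d14_1 D3033 (iv7 D3033) (iv6 D1361) F1494 D1361
def n3038 : Q := act 6 n1362
theorem D3038 : act 6 n1362 = n3038 := rfl
theorem F4761 : act 5 n3038 = n2325 := d21_6 F809 (iv1 F753) F755 D775 D1362 D3038 (iv1 D2325) (iv5 D1113) (iv6 D684) (iv1 F812)
def n3044 : Q := act 0 n1364
theorem D3044 : act 0 n1364 = n3044 := rfl
def n3045 : Q := act 1 n1364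
theorem D3045 : act 1 n1364 = n3045 := rfl
theorem F4763 : act 5 n2318 = n3045 := d21_6 (iv5 F809) F811 (iv5 F650) D684 D1111 D2318 (iv1 D3045) (iv5 D1364) (iv6 D775) (iv1 F751)
def n3046 : Q := act 4 n1364
theorem D3046 : act 4 n1364 = n3046 := rfl
def n3047 : Q := act 7 n1364
theorem D3047 : act 7 n1364 = n3047 := rfl
theorem F4764 : act 5 n3047 = n1365 := d13_1 D3047 (iv7 D1365) D1364
def n3048 : Q := act 3 n1366
theorem D3048 : act 3 n1366 = n3048 := rfl
theorem F4765 : act 2 n3048 = n2127 := d0_1 D3048 (iv3 D2127) F1961 D1061 F2499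
theorem F4766 : act 5 n3048 = n2212 := d6_2 (iv5 F2501) D3048 (iv3 D2212)
theorem F4767 : act 7 n3048 = n3048 := d8_2 F2502 D3048 (iv3 D3048)
theorem F4768 : act 0 n3048 = n1376 := d19_4 (iv1 F2040) F2038 (iv4 F2500) D3048 (iv5 F3742) (iv4 D1387) F1503 F761 F650 (iv4 D355) (iv3 F622) D665 (iv5 F1536) F1538 F1539 (iv1 D823) (iv5 F1446) (iv4 F2065) (iv3 F2067)
theorem F4769 : act 1 n3048 = n1375 := d15_1 (iv0 F4768) F3757 (iv2 F3756)
def n3049 : Q := act 6 n1366
theorem D3049 : act 6 n1366 = n3049 := rfl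
theorem F4770 : act 2 n3049 = n2146 := d3_1 D3049 (iv6 D2146) F2499
theorem F4771 : act 4 n3049 = n2215 := d10_1 D3049 (iv6 D2215) (iv4 F2500)
def n3050 : Q := act 4 n1367
theorem D3050 : act 4 n1367 = n3050 := rfl
theorem F4772 : act 2 n3050 = n1368 := d1_1 D3050 (iv4 D1368) D1367
theorem F4773 : act 7 n3050 = n3050 := d11_2 F2496 D3050 (iv4 D3050)
def n3051 : Q := act 6 n1367
theorem D3051 : act 6 n1367 = n3051 := rfl
theorem F4774 : act 2 n3051 = n1369 := d3_1 D3051 (iv6 D1369) D1367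
theorem F4775 : act 3 n3051 = n3029 := d7_1 D3051 (iv6 D3029) (iv3 F2494)
def n3052 : Q := act 0 n1368
theorem D3052 : act 0 n1368 = n3052 := rfl
theorem F4776 : act 5 n3052 = n3024 := d17_3 F4495 F4493 D3052 (iv4 D3024) F2482 (iv0 D1107) F1277 D1081 D2213
theorem F4777 : act 1 n3050 = n3052 := d15_0 (iv0 D3052) F2504 (iv2 F4772)
theorem F4778 : act 3 n2189 = n3052 := d6_3 F4776 F4744 (iv5 F3545)
theorem F4779 : act 7 n3052 = n3052 := d13_0 F4776 F4745 (iv5 F4776)
def n3053 : Q := act 1 n1368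
theorem D3053 : act 1 n1368 = n3053 := rfl
theorem F4780 : act 1 n3053 = n3050 := d15_1 D3053 F4773 F4772
theorem F4781 : act 4 n3053 = n2894 := d18_7 (iv1 D2287) F2027 D1107 F2035 (iv5 F1496) D1368 D3053 (iv0 F4495) (iv5 F3654)
theorem F4782 : act 5 n3053 = n3027 := d18_9 F4753 F3658 (iv1 D2287) F2027 F1277 (iv4 F1977) (iv0 F1979) D1368 D3053
theorem F4783 : act 2 n3052 = n3053 := d2_3 F4782 F4751 (iv5 F4776)
theorem F4784 : act 7 n3053 = n3053 := d13_0 F4782 F4752 (iv5 F4782)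
def n3054 : Q := act 6 n1368
theorem D3054 : act 6 n1368 = n3054 := rfl
theorem F4785 : act 3 n3054 = n2371 := d7_1 D3054 (iv6 D2371) (iv3 F2503)
theorem F4786 : act 4 n3054 = n1369 := d10_1 D3054 (iv6 D1369) D1368
def n3055 : Q := act 0 n1369
theorem D3055 : act 0 n1369 = n3055 := rfl
def n3056 : Q := act 1 n1369
theorem D3056 : act 1 n1369 = n3056 := rfl
def n3057 : Q := act 5 n1369
theorem D3057 : act 5 n1369 = n3057 := rfl
theorem F4787 : act 3 n3057 = n1372 := d6_1 D3057 (iv5 D1372) (iv3 F2505)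
theorem F4788 : act 6 n3057 = n3032 := d12_2 D1369 D3057 (iv5 D3032) (iv6 D1361) (iv5 F1496)
def n3058 : Q := act 7 n1369
theorem D3058 : act 7 n1369 = n3058 := rfl
theorem F4789 : act 3 n3058 = n1373 := d8_1 D3058 (iv7 D1373) (iv3 F2505)
theorem F4790 : act 6 n3058 = n3058 := d14_1 D3058 (iv7 D3058) (iv6 D1369) F1497 D1369
def n3063 : Q := act 6 n1370
theorem D3063 : act 6 n1370 = n3063 := rfl
theorem F4792 : act 5 n3063 = n2231 := d21_6 (iv5 D451) D448 (iv5 F755) D777 D1370 D3063 (iv1 D2231) (iv5 D1086) (iv6 D675) (iv1 F762)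
def n3069 : Q := act 0 n1372
theorem D3069 : act 0 n1372 = n3069 := rfl
def n3070 : Q := act 1 n1372
theorem D3070 : act 1 n1372 = n3070 := rfl
theorem F4794 : act 1 n3070 = n3047 := d15_1 D3070 (iv7 D3047) (iv2 F2507)
theorem F4795 : act 5 n2224 = n3070 := d21_6 D451 F761 F650 D675 D1084 D2224 (iv1 D3070) (iv5 D1372) (iv6 D777) (iv1 D449)
def n3071 : Q := act 4 n1372
theorem D3071 : act 4 n1372 = n3071 := rfl
theorem F4796 : act 2 n3071 = n3046 := d1_1 D3071 (iv4 D3046) (iv2 F2507)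
theorem F4797 : act 6 n3071 = n3046 := d10_2 (iv6 F2508) D3071 (iv4 D3046)
def n3072 : Q := act 7 n1372
theorem D3072 : act 7 n1372 = n3072 := rfl
theorem F4798 : act 2 n3072 = n3047 := d4_1 D3072 (iv7 D3047) (iv2 F2507)
theorem F4799 : act 5 n3072 = n1373 := d13_1 D3072 (iv7 D1373) D1372
theorem F4800 : act 1 n3047 = n3069 := d15_0 (iv0 D3069) D3072 F4798
theorem F4801 : act 1 n3045 = n3072 := d15_1 D3045 (iv7 D3072) F2507
theorem F4802 : act 1 n3072 = n3044 := d15_0 (iv0 D3044) D3047 (iv2 F4798)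
def n3073 : Q := act 6 n1375
theorem D3073 : act 6 n1375 = n3073 := rfl
theorem F4803 : act 3 n3073 = n1378 := d7_1 D3073 (iv6 D1378) D1375
theorem F4804 : act 4 n3073 = n1382 := d10_1 D3073 (iv6 D1382) (iv4 F2516)
def n3074 : Q := act 6 n1376
theorem D3074 : act 6 n1376 = n3074 := rfl
theorem F4805 : act 2 n3074 = n3073 := d3_1 D3074 (iv6 D3073) (iv2 F3756)
theorem F4806 : act 4 n3074 = n1378 := d10_1 D3074 (iv6 D1378) D1376
def n3075 : Q := act 0 n1378
theorem D3075 : act 0 n1378 = n3075 := rfl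
def n3076 : Q := act 1 n1378
theorem D3076 : act 1 n1378 = n3076 := rfl
def n3077 : Q := act 5 n1378
theorem D3077 : act 5 n1378 = n3077 := rfl
def n3078 : Q := act 7 n1378
theorem D3078 : act 7 n1378 = n3078 := rfl
theorem F4807 : act 6 n3078 = n3078 := d14_1 D3078 (iv7 D3078) (iv6 D1378) F3746 D1378
def n3079 : Q := act 6 n1380
theorem D3079 : act 6 n1380 = n3079 := rfl
theorem F4808 : act 3 n3079 = n1382 := d7_1 D3079 (iv6 D1382) D1380
def n3080 : Q := act 0 n1382
theorem D3080 : act 0 n1382 = n3080 := rfl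
def n3081 : Q := act 1 n1382
theorem D3081 : act 1 n1382 = n3081 := rfl
theorem F4809 : act 1 n3081 = n3078 := d15_1 D3081 (iv7 D3078) F3758
def n3082 : Q := act 5 n1382
theorem D3082 : act 5 n1382 = n3082 := rfl
theorem F4810 : act 2 n3082 = n3077 := d2_1 D3082 (iv5 D3077) F3758
def n3083 : Q := act 7 n1382
theorem D3083 : act 7 n1382 = n3083 := rfl
theorem F4811 : act 2 n3083 = n3078 := d4_1 D3083 (iv7 D3078) F3758
theorem F4812 : act 6 n3083 = n3083 := d14_1 D3083 (iv7 D3083) (iv6 D1382) F3748 D1382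
theorem F4813 : act 1 n3078 = n3080 := d15_0 (iv0 D3080) D3083 F4811
theorem F4814 : act 1 n3076 = n3083 := d15_1 D3076 (iv7 D3083) (iv2 F3758)
theorem F4815 : act 1 n3083 = n3075 := d15_0 (iv0 D3075) D3078 (iv2 F4811)
def n3084 : Q := act 6 n1383
theorem D3084 : act 6 n1383 = n3084 := rfl
theorem F4816 : act 2 n3084 = n1388 := d3_1 D3084 (iv6 D1388) (iv2 F2518)
def n3085 : Q := act 0 n1384
theorem D3085 : act 0 n1384 = n3085 := rfl
def n3086 : Q := act 1 n1384
theorem D3086 : act 1 n1384 = n3086 := rfl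
theorem F4817 : act 1 n3086 = n1392 := d15_1 D3086 (iv7 D1392) (iv2 F2520)
def n3087 : Q := act 5 n1384
theorem D3087 : act 5 n1384 = n3087 := rfl
theorem F4818 : act 2 n3087 = n1391 := d2_1 D3087 (iv5 D1391) (iv2 F2520)
def n3088 : Q := act 7 n1384
theorem D3088 : act 7 n1384 = n3088 := rfl
theorem F4819 : act 2 n3088 = n1392 := d4_1 D3088 (iv7 D1392) (iv2 F2520)
theorem F4820 : act 6 n3088 = n3088 := d14_1 D3088 (iv7 D3088) (iv6 D1384) F1500 D1384
theorem F4821 : act 1 n1392 = n3085 := d15_0 (iv0 D3085) D3088 F4819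
theorem F4822 : act 1 n1390 = n3088 := d15_1 D1390 (iv7 D3088) F2520
theorem F4823 : act 1 n3088 = n1389 := d15_0 (iv0 D1389) D1392 (iv2 F4819)
def n3089 : Q := act 6 n1385
theorem D3089 : act 6 n1385 = n3089 := rfl
def n3090 : Q := act 6 n1386
theorem D3090 : act 6 n1386 = n3090 := rfl
theorem F4824 : act 2 n3090 = n3089 := d3_1 D3090 (iv6 D3089) (iv2 F2526)
theorem F4825 : act 3 n3090 = n2079 := d7_1 D3090 (iv6 D2079) F2523
theorem F4826 : act 4 n3090 = n2090 := d10_1 D3090 (iv6 D2090) (iv4 F2524)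
def n3091 : Q := act 0 n1387
theorem D3091 : act 0 n1387 = n3091 := rfl
theorem F4827 : act 5 n3091 = n2384 := d19_1 D3091 F3762 (iv3 D2376) F2062 F1435 F1417 (iv3 D734) (iv1 F1258) F1255 (iv4 D656) (iv3 F1215) (iv1 F1292) (iv5 F1347) (iv4 F1544) F1543 (iv1 D709) (iv5 F1272) (iv4 F1974) (iv3 F2528)
theorem F4828 : act 3 n3091 = n2385 := d20_5 (iv4 D1098) (iv1 F1269) (iv4 F1974) (iv3 F2528) D3091 F3765 (iv1 F2440) F2437 F2436 (iv1 F2021)
theorem F4829 : act 2 n3026 = n3091 := d15_3 (iv0 D3091) F4750 F4748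
theorem F4830 : act 1 n2424 = n3091 := d15_0 (iv0 D3091) F2529 (iv2 F3816)
theorem F4831 : act 7 n3091 = n3091 := d15_2 (iv0 F4749) F4830 (iv2 F4829)
def n3092 : Q := act 6 n1387
theorem D3092 : act 6 n1387 = n3092 := rfl
theorem F4832 : act 3 n3092 = n2145 := d7_1 D3092 (iv6 D2145) (iv3 F2528)
theorem F4833 : act 4 n3092 = n1388 := d10_1 D3092 (iv6 D1388) D1387
def n3093 : Q := act 0 n1388
theorem D3093 : act 0 n1388 = n3093 := rfl
def n3094 : Q := act 1 n1388
theorem D3094 : act 1 n1388 = n3094 := rfl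
def n3095 : Q := act 5 n1388
theorem D3095 : act 5 n1388 = n3095 := rfl
theorem F4834 : act 3 n3095 = n1395 := d6_1 D3095 (iv5 D1395) (iv3 F2530)
theorem F4835 : act 6 n3095 = n1391 := d12_2 D1388 D3095 (iv5 D1391) (iv6 D782) D781
def n3096 : Q := act 7 n1388
theorem D3096 : act 7 n1388 = n3096 := rfl
theorem F4836 : act 3 n3096 = n1396 := d8_1 D3096 (iv7 D1396) (iv3 F2530)
theorem F4837 : act 6 n3096 = n3096 := d14_1 D3096 (iv7 D3096) (iv6 D1388) F1504 D1388
def n3097 : Q := act 2 n1389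
theorem D3097 : act 2 n1389 = n3097 := rfl
theorem F4838 : act 7 n1390 = n3097 := d15_2 (iv0 D1389) D1390 (iv2 D3097)
def n3098 : Q := act 3 n1389
theorem D3098 : act 3 n1389 = n3098 := rfl
def n3099 : Q := act 4 n1389
theorem D3099 : act 4 n1389 = n3099 := rfl
def n3100 : Q := act 5 n1389
theorem D3100 : act 5 n1389 = n3100 := rfl
def n3101 : Q := act 6 n1389
theorem D3101 : act 6 n1389 = n3101 := rfl
def n3102 : Q := act 7 n1389
theorem D3102 : act 7 n1389 = n3102 := rfl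
theorem F4839 : act 2 n3102 = n1390 := d4_1 D3102 F4838 (iv2 D3097)
def n3103 : Q := act 3 n1390
theorem D3103 : act 3 n1390 = n3103 := rfl
def n3104 : Q := act 4 n1390
theorem D3104 : act 4 n1390 = n3104 := rfl
def n3105 : Q := act 5 n1390
theorem D3105 : act 5 n1390 = n3105 := rfl
def n3106 : Q := act 6 n1390
theorem D3106 : act 6 n1390 = n3106 := rfl
def n3107 : Q := act 0 n1391
theorem D3107 : act 0 n1391 = n3107 := rfl
def n3108 : Q := act 1 n1391
theorem D3108 : act 1 n1391 = n3108 := rfl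
def n3109 : Q := act 4 n1391
theorem D3109 : act 4 n1391 = n3109 := rfl
def n3110 : Q := act 7 n1391
theorem D3110 : act 7 n1391 = n3110 := rfl
theorem F4840 : act 3 n3110 = n1410 := d8_1 D3110 (iv7 D1410) (iv3 F2531)
theorem F4841 : act 5 n3110 = n1392 := d13_1 D3110 (iv7 D1392) D1391
def n3111 : Q := act 2 n1393
theorem D3111 : act 2 n1393 = n3111 := rfl
theorem F4842 : act 7 n1394 = n3111 := d15_2 (iv0 D1393) D1394 (iv2 D3111)
def n3112 : Q := act 3 n1393
theorem D3112 : act 3 n1393 = n3112 := rfl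
def n3113 : Q := act 4 n1393
theorem D3113 : act 4 n1393 = n3113 := rfl
def n3114 : Q := act 5 n1393
theorem D3114 : act 5 n1393 = n3114 := rfl
def n3115 : Q := act 6 n1393
theorem D3115 : act 6 n1393 = n3115 := rfl
theorem F4843 : act 5 n3115 = n1408 := d21_6 (iv5 F755) (iv1 D449) D451 D783 D1393 D3115 (iv1 D1408) (iv5 D786) (iv6 D452) D448
def n3116 : Q := act 7 n1393
theorem D3116 : act 7 n1393 = n3116 := rfl
theorem F4844 : act 2 n3116 = n1394 := d4_1 D3116 F4842 (iv2 D3111)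
def n3117 : Q := act 3 n1394
theorem D3117 : act 3 n1394 = n3117 := rfl
def n3118 : Q := act 4 n1394
theorem D3118 : act 4 n1394 = n3118 := rfl
def n3119 : Q := act 5 n1394
theorem D3119 : act 5 n1394 = n3119 := rfl
def n3120 : Q := act 6 n1394
theorem D3120 : act 6 n1394 = n3120 := rfl
def n3121 : Q := act 0 n1395
theorem D3121 : act 0 n1395 = n3121 := rfl
def n3122 : Q := act 1 n1395
theorem D3122 : act 1 n1395 = n3122 := rfl
theorem F4845 : act 5 n1401 = n3122 := d21_6 F650 (iv1 F762) (iv5 D451) D452 D784 D1401 (iv1 D3122) (iv5 D1395) (iv6 D783) F761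
def n3123 : Q := act 4 n1395
theorem D3123 : act 4 n1395 = n3123 := rfl
theorem F4846 : act 6 n3123 = n1409 := d10_2 (iv6 F2534) D3123 (iv4 D1409)
def n3124 : Q := act 7 n1395
theorem D3124 : act 7 n1395 = n3124 := rfl
theorem F4847 : act 5 n3124 = n1396 := d13_1 D3124 (iv7 D1396) D1395
def n3125 : Q := act 0 n1397
theorem D3125 : act 0 n1397 = n3125 := rfl
theorem F4848 : act 1 n1402 = n3125 := d15_0 (iv0 D3125) (iv7 F2537) (iv2 F2538)
def n3127 : Q := act 3 n1397
theorem D3127 : act 3 n1397 = n3127 := rfl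
theorem F4850 : act 7 n3127 = n1403 := d8_2 F2537 D3127 (iv3 D1403)
def n3128 : Q := act 4 n1397
theorem D3128 : act 4 n1397 = n3128 := rfl
theorem F4852 : act 7 n3128 = n1404 := d11_2 F2537 D3128 (iv4 D1404)
def n3129 : Q := act 5 n1397
theorem D3129 : act 5 n1397 = n3129 := rfl
theorem F4853 : act 2 n3129 = n1400 := d2_1 D3129 (iv5 D1400) D1397
theorem F4854 : act 7 n3129 = n1405 := d13_2 F2537 D3129 (iv5 D1405)
def n3130 : Q := act 6 n1397
theorem D3130 : act 6 n1397 = n3130 := rfl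
theorem F4855 : act 2 n3130 = n1401 := d3_1 D3130 (iv6 D1401) D1397
def n3131 : Q := act 0 n1398
theorem D3131 : act 0 n1398 = n3131 := rfl
def n3132 : Q := act 1 n1398
theorem D3132 : act 1 n1398 = n3132 := rfl
def n3133 : Q := act 2 n1398
theorem D3133 : act 2 n1398 = n3133 := rfl
def n3134 : Q := act 4 n1398
theorem D3134 : act 4 n1398 = n3134 := rfl
def n3135 : Q := act 5 n1398
theorem D3135 : act 5 n1398 = n3135 := rfl
theorem F4856 : act 3 n3135 = n1400 := d6_1 D3135 (iv5 D1400) D1398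
def n3136 : Q := act 6 n1398
theorem D3136 : act 6 n1398 = n3136 := rfl
theorem F4857 : act 3 n3136 = n1401 := d7_1 D3136 (iv6 D1401) D1398
def n3137 : Q := act 7 n1398
theorem D3137 : act 7 n1398 = n3137 := rfl
theorem F4858 : act 3 n3137 = n1402 := d8_1 D3137 (iv7 D1402) D1398
def n3142 : Q := act 6 n1399
theorem D3142 : act 6 n1399 = n3142 := rfl
theorem F4860 : act 4 n3142 = n1401 := d10_1 D3142 (iv6 D1401) D1399
def n3143 : Q := act 7 n1399
theorem D3143 : act 7 n1399 = n3143 := rfl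
theorem F4862 : act 4 n3143 = n1402 := d11_1 D3143 (iv7 D1402) D1399
def n3144 : Q := act 0 n1400
theorem D3144 : act 0 n1400 = n3144 := rfl
theorem F4864 : act 5 n3144 = n2775 := d17_3 D784 D1400 D3144 F4359 (iv5 F2556) (iv0 D1430) (iv5 D791) (iv0 D453) (iv4 F763)
theorem E463 : n2756 = n684 := (c21_5 D1400 D3144 F4864 (iv6 D2775) (iv1 F4343) (iv6 D684) F650 (iv1 F762) (iv5 D451) D452 D784)
theorem E464 : n1269 = n1111 := (((D1111).symm.trans (sb E463 (iv1 D2756)))).symm
theorem E465 : n1274 = n1112 := (((D1112).symm.trans (sb E463 F4343))).symm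
theorem E467 : n2314 = n1245 := ((D2314).symm.trans (sb E464 (iv2 F4571)))
theorem E468 : n2757 = n2315 := (((D2315).symm.trans (sb E464 D2757))).symm
theorem E469 : n2316 = n745 := ((D2316).symm.trans (sb E464 (iv4 D1269)))
theorem E470 : n2758 = n2317 := (((D2317).symm.trans (sb E464 D2758))).symm
theorem E471 : n2759 = n2318 := (((D2318).symm.trans (sb E464 D2759))).symm
theorem E472 : n2319 = n1250 := ((D2319).symm.trans (sb E464 F4569))
theorem E473 : n2773 = n2320 := (((D2320).symm.trans (sb E465 D2773))).symm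
theorem E474 : n2321 = n746 := ((D2321).symm.trans (sb E465 (iv4 D1274)))
theorem E475 : n2774 = n2322 := (((D2322).symm.trans (sb E465 D2774))).symm
theorem E476 : n2775 = n2323 := (((D2323).symm.trans (sb E465 D2775))).symm
theorem F4865 : act 2 n1245 = n1111 := (sb E467 (iv2 D2314))
theorem F4866 : act 7 n1245 = n1112 := (sb E467 (iv7 F3674))
theorem F4867 : act 7 n2315 = n2699 := (sb E468 (iv7 F4596))
theorem F4868 : act 4 n745 = n1111 := (sb E469 (iv4 D2316))
theorem F4869 : act 2 n2317 = n2684 := (sb E470 F4588)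
theorem F4870 : act 7 n2317 = n2700 := (sb E470 (iv7 F4597))
theorem F4871 : act 2 n2318 = n2685 := (sb E471 F4574)
theorem F4872 : act 4 n2318 = n1271 := (sb E471 F4344)
theorem F4873 : act 2 n1250 = n1112 := (sb E472 F3675)
theorem F4874 : act 7 n1250 = n1111 := (sb E472 (iv7 D2319))
theorem F4875 : act 7 n2320 = n2683 := (sb E473 F4586)
theorem F4876 : act 4 n746 = n1112 := (sb E474 (iv4 D2321))
theorem F4877 : act 2 n2322 = n2700 := (sb E475 F4598)
theorem F4878 : act 7 n2322 = n2684 := (sb E475 F4587)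
theorem F4879 : act 2 n2323 = n2701 := (sb E476 (iv2 F4629))
theorem F4880 : act 4 n2323 = n1276 := (sb E476 F4359)
theorem F4881 : act 5 n2323 = n3144 := (sb E476 (iv5 F4864))
theorem F4882 : act 5 n2324 = n2761 := d17_3 (iv1 D1112) D1113 D2324 (iv4 D2761) (iv5 D1270) (iv0 D745) F727 D746 F4876
theorem E477 : n2730 = n2297 := ((c20_6 F4876 (iv1 D1112) F1280 (iv3 F1275) D1104 D2297 (iv4 D2730) (iv1 F2366) F2330 F1420 (iv1 F1439))).symm
theorem F4883 : act 4 n2297 = n1263 := (sb E477 (iv4 D2730))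
theorem F4884 : act 1 n2761 = n2863 := d17_8 F4371 (iv5 D1118) (iv1 F1285) F1263 (iv4 F2014) (iv5 F3593) F3681 F4882 F4465
theorem F4885 : act 0 n3144 = n2862 := d21_7 (iv5 F4882) (iv1 F3681) F3593 F2015 (iv1 F2045) D2323 F4881 (iv5 D2862) D2863 (iv1 F4884)
theorem F4886 : act 1 n2863 = n2776 := d15_1 F4884 F4630 (iv2 F4631)
theorem E478 : n2928 = n1373 := (c17_1 D2928 (iv5 F4799) (iv1 F4801) (iv5 F4763) F4872 F2448 F2480 F2478 F1493 D1325)
theorem E479 : n1363 = n1329 := (((iv1 F2513)).symm.trans (sb E478 (iv1 F4532)))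
theorem E480 : n1362 = n1325 := ((F2514).symm.trans (sb E478 (iv0 D2928)))
theorem E481 : n2929 = n775 := (((iv1 F4529)).symm.trans (sb E479 (iv1 D1363)))
theorem F4887 : act 1 n1329 = n1373 := (sb E479 F2513)
theorem F4888 : act 0 n1325 = n1373 := (sb E480 (iv1 F2514))
theorem E491 : n3038 = n2776 := ((((iv6 F4360)).symm.trans (sb E480 D3038))).symm
theorem F4889 : act 0 n775 = n1325 := (sb E481 (iv1 D2929))
theorem F4890 : act 1 n775 = n1329 := (sb E481 F4529)
theorem F4891 : act 5 n2776 = n2325 := (sb E491 F4761)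
theorem F4892 : act 0 n2952 = n1505 := d18_2 (iv1 F2480) D2952 F2620 (iv5 D1280) (iv4 F1495) F4890 (iv4 D1329) F1492 (iv5 F2478)
theorem F4893 : act 1 n2949 = n1505 := d15_0 (iv0 F4892) (iv7 F4723) F4722
theorem F4894 : act 3 n2379 = n2910 := d20_5 D1325 F4888 F2510 (iv3 F3717) (iv1 F3723) (iv4 D2910) (iv1 D1320) F1473 F744 D763
theorem F4895 : act 0 n2386 = n2925 := d20_7 (iv4 F2466) (iv1 F2469) D2910 (iv3 F4894) (iv1 D2379) (iv3 F3441) (iv4 F3770) (iv4 D2925) (iv3 D1324) (iv1 F1493)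
def n3145 : Q := act 1 n1400
theorem D3145 : act 1 n1400 = n3145 := rfl
theorem F4896 : act 1 n3145 = n1405 := d15_1 D3145 (iv7 F4854) F4853
def n3146 : Q := act 4 n1400
theorem D3146 : act 4 n1400 = n3146 := rfl
def n3147 : Q := act 6 n1400
theorem D3147 : act 6 n1400 = n3147 := rfl
def n3148 : Q := act 7 n1400
theorem D3148 : act 7 n1400 = n3148 := rfl
theorem F4897 : act 2 n3148 = n1405 := d4_1 D3148 (iv7 F4854) F4853
theorem F4898 : act 5 n3148 = n1402 := d13_1 D3148 (iv7 D1402) D1400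
theorem E492 : n2862 = n1405 := ((c15_4 (iv0 F4885) (iv0 D3144) D3148 F4897)).symm
theorem F4899 : act 1 n1405 = n3144 := (sb E492 (iv0 F4885))
theorem E493 : n1301 = n785 := ((((iv5 D1405)).symm.trans (sb E492 (iv5 D2862)))).symm
theorem E494 : n2843 = n452 := ((((iv1 D785)).symm.trans (sb E493 (iv1 F4425)))).symm
theorem E496 : n2102 = n1402 := ((((iv2 F2538)).symm.trans (sb E493 (iv2 F4451)))).symm
theorem E498 : n1404 = n754 := ((D1404).symm.trans (sb E493 (iv4 D1301)))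
theorem E499 : n2863 = n1406 := (((D1406).symm.trans (sb E493 D2863))).symm
theorem E501 : n1296 = n784 := (((D784).symm.trans (sb E494 (iv1 D2843)))).symm
theorem E502 : n3143 = n1038 := (((iv4 F4862)).symm.trans (sb E496 (iv4 D2102)))
theorem F4900 : act 4 n754 = n785 := (sb E498 (iv4 D1404))
theorem E505 : n3128 = n1037 := (((F4447).symm.trans (sb E498 (iv7 F4852)))).symm
theorem F4901 : act 0 n1406 = n2761 := (sb E499 (iv1 F4884))
theorem F4902 : act 1 n1406 = n2776 := (sb E499 F4886)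
theorem F4903 : act 4 n1406 = n1303 := (sb E499 F4465)
theorem E507 : n1399 = n753 := ((D1399).symm.trans (sb E501 (iv4 D1296)))
theorem F4904 : act 4 n1038 = n1402 := (sb E502 F4862)
theorem F4905 : act 4 n1037 = n1397 := (sb E505 (iv4 D3128))
theorem F4906 : act 4 n753 = n784 := (sb E507 (iv4 D1399))
theorem E512 : n3142 = n1298 := (((D1298).symm.trans (sb E507 D3142))).symm
theorem F4907 : act 4 n1298 = n1401 := (sb E512 F4860)
theorem F4908 : act 4 n3130 = n2099 := d1_2 F4907 (iv2 F4855) F4440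
theorem F4909 : act 3 n3134 = n2838 := d5_3 F4906 D1398 D3134 (iv4 D2838) (iv3 D1295)
theorem F4910 : act 4 n3115 = n2178 := d17_4 (iv1 F2112) (iv5 F3833) (iv1 F3835) (iv5 F4843) F3538 F3433 F3431 F1937 F4906
theorem E513 : n2867 = n1464 := ((c18_7 D753 F4906 (iv1 F2112) F2108 (iv5 F2119) (iv4 F3944) F3947 (iv4 D2867) (iv0 D1304) (iv5 D755))).symm
theorem F4911 : act 4 n1464 = n1304 := (sb E513 (iv4 D2867))
theorem E514 : n2081 = n1300 := (c20_5 F4906 (iv1 F2112) F2108 (iv3 F2080) (iv1 F3391) (iv3 D1300) F4900 (iv1 D785) F763 (iv3 F736) D753)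
theorem E515 : n2855 = n1032 := ((D2855).symm.trans (sb E514 (iv1 D2081)))
theorem E516 : n2856 = n1137 := ((D2856).symm.trans (sb E514 F3391))
theorem F4912 : act 1 n1032 = n1300 := (sb E515 (iv0 D2855))
theorem F4913 : act 0 n1137 = n1300 := (sb E516 (iv1 D2856))
theorem F4914 : act 7 n2080 = n2857 := d15_2 (iv0 F4913) F3398 (iv2 D2857)
theorem F4915 : act 2 n2096 = n2080 := d4_3 F4914 (iv2 D2857) (iv7 F4442)
theorem F4916 : act 3 n2080 = n2837 := d0_2 D2096 F4915 (iv2 D2837) (iv3 D1295) F4441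
theorem E517 : n2091 = n1420 := (c20_8 (iv4 F2108) (iv1 F2111) (iv4 F4900) D1300 (iv1 F4912) F1918 (iv4 F1929) D2091 (iv4 D1420) (iv3 D789) (iv1 F1316))
theorem F4917 : act 0 n1420 = n1293 := (sb E517 (iv1 F3422))
theorem F4918 : act 1 n1420 = n1036 := (sb E517 (iv0 D2091))
theorem E518 : n2460 = n752 := (c20_2 D1160 (iv1 F3848) F1463 F736 D453 D789 D1420 F4917 F2391 F1466 (iv1 F1309))
theorem E519 : n1290 = n1155 := ((D1290).symm.trans (sb E518 (iv1 D2460)))
theorem E520 : n1291 = n1160 := ((D1291).symm.trans (sb E518 F3848))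
theorem E521 : n2459 = n2094 := ((D2459).symm.trans (sb E519 (iv1 F3424)))
theorem F4919 : act 1 n1155 = n752 := (sb E519 (iv0 D1290))
theorem F4920 : act 0 n1160 = n752 := (sb E520 (iv1 D1291))
theorem F4921 : act 0 n2094 = n1160 := (sb E521 (iv1 F3852))
theorem F4922 : act 1 n2094 = n1155 := (sb E521 (iv0 D2459))
theorem F4923 : act 2 n2477 = n2092 := d15_3 F3417 (iv0 F4917) (iv7 F3923)
theorem F4924 : act 4 n2092 = n2476 := d1_2 D2477 F4923 (iv2 D2476)
theorem F4925 : act 4 n2402 = n2393 := d20_6 D1155 (iv1 F4922) F3420 (iv3 F3396) (iv1 F3399) D2402 (iv1 D2393) F2077 F1296 D698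
theorem E532 : n2874 = n2493 := (c18_7 (iv1 F1309) D1160 F4920 F1463 D755 D1306 D2874 (iv4 D2493) F2115 F1512)
theorem F4926 : act 0 n2493 = n1306 := (sb E532 (iv1 D2874))
theorem F4927 : act 3 n3086 = n3104 := d20_5 (iv4 D1155) (iv1 F1314) (iv4 F1507) (iv3 F2532) (iv1 F4817) (iv4 D3104) (iv1 D1390) (iv4 F2390) F2389 (iv1 F4919)
theorem E533 : n2176 = n1393 := (c10_4 D3115 F4910 (iv6 D2178) D2176)
theorem E534 : n3113 = n1070 := ((D3113).symm.trans (sb E533 (iv4 D2176)))
theorem F4928 : act 4 n1070 = n1393 := (sb E534 (iv4 D3113))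
theorem F4929 : act 4 n3111 = n2174 := d1_2 F4928 D3111 (iv2 D2174)
theorem F4930 : act 4 n3116 = n2179 := d11_3 (iv7 D2179) F4928 D3116
theorem E535 : n2181 = n1394 := (c1_3 F4930 F3539 D2181 (iv2 F4844))
theorem E536 : n3118 = n1071 := ((D3118).symm.trans (sb E535 (iv4 D2181)))
theorem F4931 : act 4 n1071 = n1394 := (sb E536 (iv4 D3118))
theorem F4932 : act 4 n3120 = n2183 := d10_3 (iv6 D2183) F4931 D3120
theorem E537 : n2282 = n2175 := (c20_5 F4931 (iv1 D1394) F1506 (iv3 F2026) D2282 (iv3 D2175) F4928 (iv1 F2683) F2679 (iv3 F2000) (iv1 F2003))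
theorem F4933 : act 0 n2175 = n2165 := (sb E537 (iv1 F3644))
theorem F4934 : act 1 n2175 = n1100 := (sb E537 (iv0 D2282))
theorem F4935 : act 4 n2193 = n2547 := d20_8 (iv4 F1506) D1393 (iv4 F4928) D2175 F4933 F3526 (iv4 F3535) (iv1 F3554) (iv3 D2547) (iv1 D1188)
theorem E538 : n2170 = n1538 := ((c20_1 D1538 (iv1 F3562) F3558 F2000 (iv1 F2182) D2547 (iv4 F4935) (iv1 D2193) F1994 F1260 D835)).symm
theorem F4936 : act 0 n1538 = n2195 := (sb E538 (iv1 F3562))
theorem F4937 : act 1 n1538 = n1069 := (sb E538 (iv0 D2170))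
theorem E539 : n2871 = n1465 := ((c18_7 (iv1 F1936) F4900 (iv1 D785) F763 D455 D800 D1465 (iv4 D2871) F3433 F3431)).symm
theorem F4938 : act 4 n1465 = n1305 := (sb E539 (iv4 D2871))
theorem F4939 : act 0 n2409 = n2870 := d20_4 (iv4 F4911) (iv1 F3947) F3944 (iv3 F3793) (iv3 D2870) (iv4 F4938) (iv1 D1465) (iv4 D800) (iv3 F1464) D1304
theorem F4940 : act 1 n2082 = n2870 := d15_0 (iv0 F4939) (iv7 D2409) (iv2 F3392)
def n3149 : Q := act 0 n1401
theorem D3149 : act 0 n1401 = n3149 := rfl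
def n3150 : Q := act 1 n1401
theorem D3150 : act 1 n1401 = n3150 := rfl
theorem F4941 : act 4 n3150 = n1436 := d17_9 (iv1 D1436) D1437 F2564 (iv5 D1189) (iv4 F1506) D1395 D3122 (iv5 F4845) D3150
theorem F4942 : act 6 n2761 = n3150 := d21_3 D1113 D2324 F4882 (iv1 D3150) (iv6 D1401) D1400 D3144 (iv5 F4881) (iv6 D2323) (iv1 D1112)
theorem F4943 : act 7 n3150 = n2945 := d14_2 F4633 F4942 (iv6 D2945) (iv7 F4555) (iv6 F4292)
theorem E540 : n3149 = n3010 := ((c15_4 (iv0 D3149) D3150 F4943 (iv2 F4714))).symm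
theorem F4944 : act 1 n3010 = n1401 := (sb E540 (iv0 D3149))
def n3151 : Q := act 7 n1401
theorem D3151 : act 7 n1401 = n3151 := rfl
theorem F4945 : act 4 n3151 = n2853 := d11_1 D3151 (iv7 D2853) F4907
def n3152 : Q := act 6 n1402
theorem D3152 : act 6 n1402 = n3152 := rfl
theorem F4946 : act 2 n3152 = n1406 := d3_1 D3152 (iv6 D1406) (iv2 F2538)
theorem F4947 : act 4 n3152 = n2104 := d10_1 D3152 (iv6 D2104) F4904
def n3153 : Q := act 0 n1403
theorem D3153 : act 0 n1403 = n3153 := rfl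
def n3154 : Q := act 1 n1403
theorem D3154 : act 1 n1403 = n3154 := rfl
def n3155 : Q := act 2 n1403
theorem D3155 : act 2 n1403 = n3155 := rfl
def n3156 : Q := act 4 n1403
theorem D3156 : act 4 n1403 = n3156 := rfl
theorem F4948 : act 3 n3156 = n2858 := d5_1 D3156 (iv4 D2858) (iv3 D1300) F4900 D1403
def n3157 : Q := act 5 n1403
theorem D3157 : act 5 n1403 = n3157 := rfl
theorem F4949 : act 3 n3157 = n1405 := d6_1 D3157 (iv5 D1405) D1403
def n3158 : Q := act 6 n1403
theorem D3158 : act 6 n1403 = n3158 := rfl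
theorem F4950 : act 3 n3158 = n1406 := d7_1 D3158 (iv6 D1406) D1403
def n3159 : Q := act 4 n1405
theorem D3159 : act 4 n1405 = n3159 := rfl
def n3160 : Q := act 6 n1405
theorem D3160 : act 6 n1405 = n3160 := rfl
def n3161 : Q := act 5 n1406
theorem D3161 : act 5 n1406 = n3161 := rfl
theorem F4951 : act 0 n3161 = n2700 := d17_2 (iv1 F4902) D3161 (iv5 D2700) (iv4 D1250) D1251 (iv0 F3901) (iv5 D1452) (iv0 F3872) D2776
theorem F4952 : act 1 n3161 = n2223 := d17_6 D676 D1091 D2253 F3610 (iv4 F4903) D3161 (iv5 D2223) (iv0 D1084) F1262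
theorem E541 : n2684 = n2223 := ((c15_2 (iv0 F4951) F4952 (iv7 F4878) F4877)).symm
theorem F4953 : act 2 n2223 = n2317 := (sb E541 (iv2 F4869))
theorem E542 : n1245 = n1084 := ((((iv5 D2223)).symm.trans (sb E541 (iv5 D2684)))).symm
theorem F4954 : act 7 n2223 = n2322 := (sb E541 (iv7 F4878))
theorem E543 : n2681 = n1114 := ((((iv1 F2053)).symm.trans (sb E542 D2681))).symm
theorem E545 : n2220 = n1111 := ((D2220).symm.trans (sb E542 F4865))
theorem E546 : n2683 = n2221 := (((D2221).symm.trans (sb E542 D2683))).symm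
theorem E547 : n2222 = n736 := ((D2222).symm.trans (sb E542 (iv4 D1245)))
theorem E548 : n2685 = n2224 := (((D2224).symm.trans (sb E542 D2685))).symm
theorem E549 : n2225 = n1112 := ((D2225).symm.trans (sb E542 F4866))
theorem E550 : n1250 = n1085 := ((((iv1 F2052)).symm.trans (sb E543 (iv1 F4279)))).symm
theorem F4955 : act 2 n1111 = n1084 := (sb E545 (iv2 D2220))
theorem F4956 : act 7 n2221 = n2320 := (sb E546 (iv7 F4875))
theorem F4957 : act 4 n736 = n1084 := (sb E547 (iv4 D2222))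
theorem F4958 : act 2 n2224 = n2318 := (sb E548 (iv2 F4871))
theorem F4959 : act 4 n2224 = n1247 := (sb E548 F4276)
theorem F4960 : act 7 n1112 = n1084 := (sb E549 (iv7 D2225))
theorem F4961 : act 2 n1085 = n1112 := (sb E550 F4873)
theorem E551 : n2699 = n2226 := (((D2226).symm.trans (sb E550 D2699))).symm
theorem E552 : n2227 = n737 := ((D2227).symm.trans (sb E550 (iv4 D1250)))
theorem E553 : n2700 = n2228 := (((D2228).symm.trans (sb E550 D2700))).symm
theorem E554 : n2701 = n2229 := (((D2229).symm.trans (sb E550 D2701))).symm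
theorem F4962 : act 7 n1085 = n1111 := (sb E550 F4874)
theorem F4963 : act 7 n2226 = n2315 := (sb E551 (iv7 F4867))
theorem F4964 : act 4 n737 = n1085 := (sb E552 (iv4 D2227))
theorem F4965 : act 1 n2228 = n3161 := (sb E553 (iv0 F4951))
theorem F4966 : act 2 n2228 = n2322 := (sb E553 (iv2 F4877))
theorem F4967 : act 7 n2228 = n2317 := (sb E553 (iv7 F4870))
theorem F4968 : act 2 n2229 = n2323 := (sb E554 (iv2 F4879))
theorem F4969 : act 4 n2229 = n1252 := (sb E554 F4291)
theorem F4970 : act 5 n2230 = n2687 := d17_3 (iv1 D1085) D1086 D2230 (iv4 D2687) (iv5 D1246) (iv0 D736) F716 D737 F4964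
theorem F4971 : act 4 n2153 = n2705 := d20_6 F4964 (iv1 D1085) F1262 (iv3 F1246) D1064 D2153 (iv1 F4300) F4298 F2353 (iv1 F1444)
theorem F4972 : act 2 n2324 = n2230 := d2_3 F4970 (iv2 F4631) (iv5 F4882)
theorem F4973 : act 7 n2325 = n2230 := d13_0 F4970 (iv7 F4630) F4891
theorem F4974 : act 1 n2687 = n3152 := d17_8 F4384 (iv5 D1091) (iv1 F1287) F1283 (iv4 F2049) (iv5 F3680) F3683 F4970 F4947
theorem F4975 : act 1 n3152 = n2702 := d15_1 F4974 F4633 F4631
theorem F4976 : act 2 n2325 = n2231 := d15_3 F3682 F3683 (iv7 F4973)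
theorem E555 : n3063 = n2702 := (c2_3 F4891 F4976 (iv5 F4792) (iv2 F4634))
theorem F4977 : act 5 n2702 = n2231 := (sb E555 F4792)
theorem E556 : n1370 = n1347 := (((F4292).symm.trans (sb E555 (iv6 D3063)))).symm
theorem E557 : n2995 = n1365 := ((D2995).symm.trans (sb E556 (iv1 F2512)))
theorem E558 : n2996 = n777 := ((D2996).symm.trans (sb E556 (iv0 D1370)))
theorem E564 : n1371 = n1351 := (((iv1 F2506)).symm.trans (sb E557 (iv1 F4686)))
theorem F4978 : act 1 n1365 = n1347 := (sb E557 (iv0 D2995))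
theorem F4979 : act 0 n777 = n1347 := (sb E558 (iv1 D2996))
theorem F4980 : act 0 n1351 = n777 := (sb E564 (iv1 D1371))
theorem F4981 : act 1 n1351 = n1365 := (sb E564 F2506)
theorem F4982 : act 7 n2231 = n2324 := d4_2 (iv7 F4973) F4976 F4972
theorem F4983 : act 1 n2526 = n3017 := d18_6 (iv1 F1486) D1351 F4980 F1499 D1284 (iv4 F4019) (iv4 D3017) F2473 F2451
theorem F4984 : act 3 n2372 = n2978 := d20_5 D1351 F4980 F1499 (iv3 F2059) D2372 (iv4 D2978) (iv1 F2468) F2444 F1476 (iv1 F1486)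
theorem F4985 : act 1 n3014 = n2526 := d15_0 F4983 F4730 (iv2 F4722)
theorem F4986 : act 2 n3045 = n3070 := d2_3 (iv5 F4795) F4958 F4763
theorem F4987 : act 7 n3069 = n3045 := d15_2 F4794 F4800 F4986
theorem F4988 : act 7 n3044 = n3070 := d15_2 F4801 F4802 (iv2 F4986)
theorem F4989 : act 2 n3069 = n3044 := d4_3 F4988 (iv2 F4986) (iv7 F4987)
theorem F4990 : act 3 n2280 = n2661 := d20_5 F4957 (iv1 F2053) F2049 (iv3 F2032) (iv1 F3629) (iv4 D2661) (iv1 D1240) F1419 F715 D736
theorem F4991 : act 0 n2129 = n2677 := d20_7 (iv4 F2364) (iv1 F2367) D2661 (iv3 F4990) (iv1 D2280) F2023 (iv4 F3490) (iv4 D2677) (iv3 D1244) (iv1 F1445)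
def n3162 : Q := act 7 n1406
theorem D3162 : act 7 n1406 = n3162 := rfl
theorem F4992 : act 4 n3162 = n2253 := d11_1 D3162 (iv7 F4458) (iv4 F4903)
theorem F4993 : act 1 n2702 = n3162 := d15_1 F4975 (iv7 D3162) (iv2 F4946)
theorem F4994 : act 1 n3162 = n2687 := d15_1 F4993 (iv7 F4630) F4634
def n3163 : Q := act 2 n1407
theorem D3163 : act 2 n1407 = n3163 := rfl
theorem F4995 : act 7 n1408 = n3163 := d15_2 (iv0 D1407) D1408 (iv2 D3163)
def n3164 : Q := act 3 n1407
theorem D3164 : act 3 n1407 = n3164 := rfl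
def n3165 : Q := act 4 n1407
theorem D3165 : act 4 n1407 = n3165 := rfl
def n3166 : Q := act 5 n1407
theorem D3166 : act 5 n1407 = n3166 := rfl
theorem F4996 : act 4 n3166 = n2273 := d17_4 (iv1 D785) D786 D1407 D3166 F3621 (iv0 D1304) (iv5 D755) D754 F4900
theorem F4997 : act 1 n3166 = n2229 := d17_8 F3902 (iv5 D1457) (iv1 F2122) F2119 (iv4 F2108) (iv5 F3833) F3836 D3166 F4969
def n3167 : Q := act 6 n1407
theorem D3167 : act 6 n1407 = n3167 := rfl
def n3168 : Q := act 7 n1407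
theorem D3168 : act 7 n1407 = n3168 := rfl
theorem F4998 : act 2 n3168 = n1408 := d4_1 D3168 F4995 (iv2 D3163)
def n3169 : Q := act 3 n1408
theorem D3169 : act 3 n1408 = n3169 := rfl
def n3170 : Q := act 4 n1408
theorem D3170 : act 4 n1408 = n3170 := rfl
theorem F4999 : act 0 n3170 = n2827 := d18_2 (iv1 F3835) D3170 (iv4 D2827) (iv5 D1292) F1463 D754 F4900 F2111 (iv5 F3833)
def n3171 : Q := act 6 n1408
theorem D3171 : act 6 n1408 = n3171 := rfl
def n3172 : Q := act 0 n1409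
theorem D3172 : act 0 n1409 = n3172 := rfl
def n3173 : Q := act 1 n1409
theorem D3173 : act 1 n1409 = n3173 := rfl
def n3174 : Q := act 3 n1409
theorem D3174 : act 3 n1409 = n3174 := rfl
def n3175 : Q := act 5 n1409
theorem D3175 : act 5 n1409 = n3175 := rfl
def n3176 : Q := act 7 n1409
theorem D3176 : act 7 n1409 = n3176 := rfl
theorem F5000 : act 4 n3176 = n1410 := d11_1 D3176 (iv7 D1410) D1409
def n3177 : Q := act 6 n1410
theorem D3177 : act 6 n1410 = n3177 := rfl
theorem F5001 : act 5 n3177 = n3177 := d12_1 D3177 (iv6 D3177) F2539 F1508 (iv5 F2539)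
def n3188 : Q := act 4 n1419
theorem D3188 : act 4 n1419 = n3188 := rfl
theorem F5004 : act 2 n3188 = n1420 := d1_1 D3188 (iv4 D1420) D1419
def n3191 : Q := act 3 n1420
theorem D3191 : act 3 n1420 = n3191 := rfl
theorem F5008 : act 4 n3191 = n1426 := d5_2 D1420 D3191 (iv3 D1426) (iv4 D790) D789
def n3192 : Q := act 5 n1420
theorem D3192 : act 5 n1420 = n3192 := rfl
def n3197 : Q := act 6 n1421
theorem D3197 : act 6 n1421 = n3197 := rfl
theorem F5010 : act 3 n3197 = n1433 := d7_1 D3197 (iv6 D1433) (iv3 F2548)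
def n3200 : Q := act 5 n1422
theorem D3200 : act 5 n1422 = n3200 := rfl
theorem F5011 : act 3 n3200 = n1437 := d6_1 D3200 (iv5 D1437) (iv3 F2549)
def n3201 : Q := act 7 n1422
theorem D3201 : act 7 n1422 = n3201 := rfl
theorem F5012 : act 3 n3201 = n1438 := d8_1 D3201 (iv7 D1438) (iv3 F2549)
def n3212 : Q := act 0 n1426
theorem D3212 : act 0 n1426 = n3212 := rfl
def n3213 : Q := act 1 n1426
theorem D3213 : act 1 n1426 = n3213 := rfl
def n3214 : Q := act 2 n1426
theorem D3214 : act 2 n1426 = n3214 := rfl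
def n3215 : Q := act 5 n1426
theorem D3215 : act 5 n1426 = n3215 := rfl
theorem F5016 : act 3 n3215 = n1427 := d6_1 D3215 (iv5 D1427) D1426
def n3216 : Q := act 6 n1426
theorem D3216 : act 6 n1426 = n3216 := rfl
theorem F5017 : act 3 n3216 = n1428 := d7_1 D3216 (iv6 D1428) D1426
def n3217 : Q := act 0 n1427
theorem D3217 : act 0 n1427 = n3217 := rfl
theorem F5018 : act 1 n1447 = n3217 := d15_0 (iv0 D3217) (iv7 F3920) (iv2 F3921)
def n3218 : Q := act 1 n1427
theorem D3218 : act 1 n1427 = n3218 := rfl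
theorem F5019 : act 1 n3218 = n1447 := d15_1 D3218 F3910 (iv2 F3911)
def n3219 : Q := act 4 n1427
theorem D3219 : act 4 n1427 = n3219 := rfl
def n3220 : Q := act 6 n1427
theorem D3220 : act 6 n1427 = n3220 := rfl
def n3221 : Q := act 0 n1428
theorem D3221 : act 0 n1428 = n3221 := rfl
def n3222 : Q := act 1 n1428
theorem D3222 : act 1 n1428 = n3222 := rfl
def n3223 : Q := act 5 n1428
theorem D3223 : act 5 n1428 = n3223 := rfl
def n3224 : Q := act 7 n1428
theorem D3224 : act 7 n1428 = n3224 := rfl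
theorem F5020 : act 4 n3224 = n1438 := d11_1 D3224 (iv7 D1438) (iv4 F2552)
def n3225 : Q := act 3 n1430
theorem D3225 : act 3 n1430 = n3225 := rfl
theorem F5021 : act 5 n3225 = n2772 := d6_2 (iv5 F2556) D3225 F4358
theorem F5022 : act 6 n3225 = n2926 := d7_2 F2557 D3225 F4527
def n3226 : Q := act 4 n1430
theorem D3226 : act 4 n1430 = n3226 := rfl
theorem F5023 : act 6 n3226 = n2935 := d10_2 F2557 D3226 (iv4 D2935)
theorem F5024 : act 0 n3226 = n2864 := d18_2 D1430 D3226 (iv4 D2864) (iv5 D1302) F4900 F2111 F2108 F1316 D791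
def n3227 : Q := act 3 n1431
theorem D3227 : act 3 n1431 = n3227 := rfl
def n3228 : Q := act 4 n1431
theorem D3228 : act 4 n1431 = n3228 := rfl
theorem F5025 : act 0 n3228 = n2849 := d18_2 (iv1 F2560) D3228 (iv4 D2849) (iv5 D1297) F4906 (iv0 D784) F763 D454 D796
def n3229 : Q := act 0 n1432
theorem D3229 : act 0 n1432 = n3229 := rfl
theorem F5026 : act 1 n1449 = n3229 := d15_0 (iv0 D3229) (iv7 F3935) (iv2 F3936)
def n3230 : Q := act 1 n1432
theorem D3230 : act 1 n1432 = n3230 := rfl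
theorem F5027 : act 1 n3230 = n1449 := d15_1 D3230 F3932 (iv2 F3933)
def n3231 : Q := act 3 n1432
theorem D3231 : act 3 n1432 = n3231 := rfl
def n3232 : Q := act 5 n1432
theorem D3232 : act 5 n1432 = n3232 := rfl
def n3233 : Q := act 6 n1432
theorem D3233 : act 6 n1432 = n3233 := rfl
theorem F5028 : act 4 n3233 = n1433 := d10_1 D3233 (iv6 D1433) D1432
def n3234 : Q := act 0 n1433
theorem D3234 : act 0 n1433 = n3234 := rfl
theorem F5029 : act 5 n3234 = n1501 := d21_0 (iv1 D1501) F1527 (iv6 D814) (iv1 D468) (iv6 F764) (iv5 D455) D453 D791 D1433 D3234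
theorem F5030 : act 6 n1478 = n3234 := d21_5 (iv5 D249) D247 D460 D804 D1478 F5029 (iv1 D1501) F1527 (iv6 D814) (iv1 D468)
def n3235 : Q := act 1 n1433
theorem D3235 : act 1 n1433 = n3235 := rfl
def n3236 : Q := act 5 n1433
theorem D3236 : act 5 n1433 = n3236 := rfl
theorem F5031 : act 6 n3236 = n1437 := d12_2 D1433 D3236 (iv5 D1437) (iv6 D792) D791
theorem F5032 : act 5 n1500 = n3235 := d21_0 (iv1 D3235) D3236 F5031 F2564 F2184 (iv5 D714) D713 F1352 D814 D1500
theorem F5033 : act 7 n1433 = n3236 := d14_0 F5031 F3874 F2687 (iv7 F3877) D1433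
def n3237 : Q := act 3 n1436
theorem D3237 : act 3 n1436 = n3237 := rfl
theorem F5034 : act 6 n3237 = n2752 := d7_2 F2563 D3237 F4340
def n3238 : Q := act 4 n1437
theorem D3238 : act 4 n1437 = n3238 := rfl
def n3239 : Q := act 2 n1440
theorem D3239 : act 2 n1440 = n3239 := rfl
theorem F5036 : act 7 n1441 = n3239 := d15_2 (iv0 D1440) D1441 (iv2 D3239)
def n3240 : Q := act 3 n1440
theorem D3240 : act 3 n1440 = n3240 := rfl
def n3241 : Q := act 4 n1440
theorem D3241 : act 4 n1440 = n3241 := rfl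
def n3244 : Q := act 7 n1440
theorem D3244 : act 7 n1440 = n3244 := rfl
theorem F5037 : act 2 n3244 = n1441 := d4_1 D3244 F5036 (iv2 D3239)
def n3245 : Q := act 3 n1441
theorem D3245 : act 3 n1441 = n3245 := rfl
def n3246 : Q := act 4 n1441
theorem D3246 : act 4 n1441 = n3246 := rfl
def n3247 : Q := act 5 n1441
theorem D3247 : act 5 n1441 = n3247 := rfl
def n3248 : Q := act 6 n1441
theorem D3248 : act 6 n1441 = n3248 := rfl
def n3249 : Q := act 4 n1442
theorem D3249 : act 4 n1442 = n3249 := rfl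
theorem F5038 : act 2 n3249 = n1443 := d1_1 D3249 (iv4 D1443) D1442
def n3250 : Q := act 5 n1442
theorem D3250 : act 5 n1442 = n3250 := rfl
theorem F5039 : act 2 n3250 = n1444 := d2_1 D3250 (iv5 D1444) D1442
def n3251 : Q := act 6 n1442
theorem D3251 : act 6 n1442 = n3251 := rfl
theorem F5040 : act 2 n3251 = n1445 := d3_1 D3251 (iv6 D1445) D1442
def n3252 : Q := act 0 n1443
theorem D3252 : act 0 n1443 = n3252 := rfl
def n3253 : Q := act 1 n1443
theorem D3253 : act 1 n1443 = n3253 := rfl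
theorem F5041 : act 4 n2452 = n3253 := d20_0 (iv1 D3253) (iv4 D1443) (iv3 D794) (iv1 D454) (iv3 F736) (iv4 F1463) (iv1 F4919) (iv4 D1155) D1154 D2452
theorem F5042 : act 3 n2835 = n2452 := d20_5 (iv4 F763) D784 (iv4 F4906) D1295 D2835 F5041 (iv1 D3253) (iv4 D1443) (iv3 D794) (iv1 D454)
def n3254 : Q := act 3 n1443
theorem D3254 : act 3 n1443 = n3254 := rfl
theorem F5043 : act 4 n3254 = n1446 := d5_2 D1443 D3254 (iv3 D1446) (iv4 D795) D794
def n3255 : Q := act 5 n1443
theorem D3255 : act 5 n1443 = n3255 := rfl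
def n3256 : Q := act 6 n1443
theorem D3256 : act 6 n1443 = n3256 := rfl
theorem F5044 : act 4 n3256 = n1445 := d10_1 D3256 (iv6 D1445) D1443
def n3257 : Q := act 0 n1444
theorem D3257 : act 0 n1444 = n3257 := rfl
def n3258 : Q := act 1 n1444
theorem D3258 : act 1 n1444 = n3258 := rfl
def n3259 : Q := act 4 n1444
theorem D3259 : act 4 n1444 = n3259 := rfl
def n3260 : Q := act 6 n1444
theorem D3260 : act 6 n1444 = n3260 := rfl
theorem F5045 : act 3 n3260 = n1450 := d7_1 D3260 (iv6 D1450) (iv3 F2566)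
def n3261 : Q := act 0 n1445
theorem D3261 : act 0 n1445 = n3261 := rfl
def n3262 : Q := act 1 n1445
theorem D3262 : act 1 n1445 = n3262 := rfl
def n3263 : Q := act 5 n1445
theorem D3263 : act 5 n1445 = n3263 := rfl
theorem F5046 : act 3 n3263 = n1452 := d6_1 D3263 (iv5 D1452) (iv3 F2567)
theorem F5047 : act 7 n1445 = n3263 := d8_0 F5046 F3893 (iv3 F2567)
def n3264 : Q := act 0 n1446
theorem D3264 : act 0 n1446 = n3264 := rfl
def n3265 : Q := act 1 n1446
theorem D3265 : act 1 n1446 = n3265 := rfl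
def n3266 : Q := act 2 n1446
theorem D3266 : act 2 n1446 = n3266 := rfl
def n3267 : Q := act 5 n1446
theorem D3267 : act 5 n1446 = n3267 := rfl
theorem F5048 : act 3 n3267 = n1447 := d6_1 D3267 (iv5 D1447) D1446
def n3268 : Q := act 6 n1446
theorem D3268 : act 6 n1446 = n3268 := rfl
theorem F5049 : act 3 n3268 = n1448 := d7_1 D3268 (iv6 D1448) D1446
def n3269 : Q := act 4 n1447
theorem D3269 : act 4 n1447 = n3269 := rfl
def n3270 : Q := act 6 n1447
theorem D3270 : act 6 n1447 = n3270 := rfl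
def n3271 : Q := act 0 n1448
theorem D3271 : act 0 n1448 = n3271 := rfl
theorem F5050 : act 5 n3271 = n2738 := d17_1 D3271 (iv1 F4329) F4263 F2330 F1421 F1443 D1270 (iv0 F2559) (iv4 F2568)
theorem F5051 : act 5 n2737 = n3217 := d21_6 F5050 (iv1 F4329) F4263 F2331 (iv1 F2360) D2737 (iv1 F5018) (iv5 D1447) D1448 D3271
theorem E569 : n3192 = n1427 := (c21_1 D3192 D3217 (iv5 F5051) (iv6 D2737) (iv1 D1264) (iv6 D744) F725 (iv1 F1258) F1255 D1036 (iv1 F4918))
theorem E570 : n1420 = n790 := ((((iv5 D1427)).symm.trans (sb E569 (iv5 D3192)))).symm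
theorem E571 : n1424 = n1293 := ((D1424).symm.trans (sb E570 F4917))
theorem E572 : n1425 = n1036 := ((D1425).symm.trans (sb E570 F4918))
theorem E573 : n3188 = n1155 := ((((iv2 F3890)).symm.trans (sb E570 (iv2 F5004)))).symm
theorem E574 : n3191 = n1426 := (((D1426).symm.trans (sb E570 D3191))).symm
theorem E575 : n789 = n453 := ((((iv4 D790)).symm.trans (sb E570 (iv4 D1420)))).symm
theorem E578 : n2092 = n795 := (((iv1 F3417)).symm.trans (sb E571 (iv1 F2555)))
theorem F5052 : act 1 n1293 = n790 := (sb E571 (iv0 D1424))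
theorem F5053 : act 0 n1036 = n790 := (sb E572 (iv1 D1425))
theorem E589 : n1419 = n698 := ((((iv4 D1155)).symm.trans (sb E573 (iv4 D3188)))).symm
theorem F5054 : act 4 n1426 = n1426 := (sb E574 F5008)
theorem F5055 : act 3 n453 = n453 := (sb E575 (iv3 D789))
theorem E592 : n1421 = n791 := (((D791).symm.trans (sb E575 D1421))).symm
theorem E593 : n1422 = n792 := (((D792).symm.trans (sb E575 D1422))).symm
theorem E594 : n1159 = n699 := (((F3882).symm.trans (sb E575 F3887))).symm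
theorem F5056 : act 0 n795 = n1036 := (sb E578 (iv1 D2092))
theorem F5057 : act 1 n795 = n1293 := (sb E578 F3417)
theorem E595 : n2476 = n454 := ((((iv4 D795)).symm.trans (sb E578 F4924))).symm
theorem E598 : n2454 = n1154 := (((D1154).symm.trans (sb E589 F3929))).symm
theorem F5058 : act 3 n791 = n791 := (sb E592 F2548)
theorem E614 : n3197 = n1433 := (((D1433).symm.trans (sb E592 D3197))).symm
theorem E615 : n2478 = n1161 := (((F3877).symm.trans (sb E592 (iv7 F3924)))).symm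
theorem F5059 : act 3 n792 = n792 := (sb E593 F2549)
theorem E618 : n3200 = n1437 := (((D1437).symm.trans (sb E593 D3200))).symm
theorem E619 : n3201 = n1438 := (((D1438).symm.trans (sb E593 D3201))).symm
theorem F5060 : act 3 n699 = n699 := (sb E594 (iv3 D1159))
theorem E620 : n2479 = n1162 := (((D1162).symm.trans (sb E594 D2479))).symm
theorem E621 : n1442 = n794 := (((D794).symm.trans (sb E595 (iv3 F3930)))).symm
theorem E622 : n2452 = n1441 := ((D2452).symm.trans (sb E598 (iv1 F3918)))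
theorem E623 : n2453 = n1440 := ((D2453).symm.trans (sb E598 F3916))
theorem F5061 : act 2 n1154 = n1154 := (sb E598 (iv2 D2454))
theorem F5062 : act 3 n1433 = n1433 := (sb E614 F5010)
theorem F5063 : act 3 n1161 = n1161 := (sb E615 F3862)
theorem F5064 : act 3 n1437 = n1437 := (sb E618 F5011)
theorem F5065 : act 3 n1438 = n1438 := (sb E619 F5012)
theorem F5066 : act 3 n1162 = n1162 := (sb E620 F3863)
theorem F5067 : act 2 n794 = n794 := (sb E621 (iv2 D1442))
theorem E624 : n3249 = n1443 := (((D1443).symm.trans (sb E621 D3249))).symm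
theorem E625 : n3250 = n1444 := (((D1444).symm.trans (sb E621 D3250))).symm
theorem E626 : n3251 = n1445 := (((D1445).symm.trans (sb E621 D3251))).symm
theorem F5068 : act 1 n1441 = n1154 := (sb E622 (iv0 D2452))
theorem E627 : n3245 = n2835 := ((D3245).symm.trans (sb E622 (iv3 F5042)))
theorem E628 : n3253 = n3246 := (((D3246).symm.trans (sb E622 F5041))).symm
theorem F5069 : act 0 n1440 = n1154 := (sb E623 (iv1 D2453))
theorem F5070 : act 2 n1443 = n1443 := (sb E624 F5038)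
theorem F5071 : act 2 n1444 = n1444 := (sb E625 F5039)
theorem F5072 : act 2 n1445 = n1445 := (sb E626 F5040)
theorem F5073 : act 3 n2835 = n1441 := (sb E627 (iv3 D3245))
theorem F5074 : act 0 n3246 = n1443 := (sb E628 (iv1 D3253))
theorem F5075 : act 6 n3271 = n3222 := d21_3 D1265 D2738 (iv5 F5050) (iv1 D3222) (iv6 D1428) D1427 D3217 (iv5 F5051) (iv6 D2737) (iv1 D1264)
theorem F5076 : act 0 n3223 = n2194 := d21_1 D3223 (iv5 D2194) (iv6 D1075) F1257 D744 D1265 D2738 (iv5 F5050) F5075 (iv1 D3222)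
theorem F5077 : act 4 n2256 = n3222 := d17_9 (iv1 D3222) D3223 F5076 (iv5 D2194) F1994 D1078 D2207 (iv5 F3568) (iv0 F3612)
theorem E629 : n3271 = n2255 := (c10_3 D2256 F5077 (iv6 F5075) (iv4 D2255))
theorem F5078 : act 1 n2255 = n1448 := (sb E629 (iv0 D3271))
theorem F5079 : act 5 n2255 = n2738 := (sb E629 F5050)
theorem F5080 : act 6 n2255 = n3222 := (sb E629 F5075)
theorem E630 : n2735 = n677 := (c17_10 (iv1 D677) F1050 D676 D1091 D2255 F5079 (iv0 D2738) (iv5 D1265) D1264 D2735)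
theorem E631 : n1264 = n1095 := (((D1095).symm.trans (sb E630 (iv4 D2735)))).symm
theorem E632 : n2248 = n744 := (((iv1 F3605)).symm.trans (sb E631 (iv1 D1264)))
theorem E633 : n2247 = n1242 := ((F3609).symm.trans (sb E631 F2360))
theorem E637 : n2737 = n2271 := (((D2271).symm.trans (sb E631 D2737))).symm
theorem E639 : n1263 = n1090 := ((D1263).symm.trans (sb E632 (iv1 D2248)))
theorem F5081 : act 1 n744 = n1095 := (sb E632 F3605)
theorem F5082 : act 0 n1242 = n1095 := (sb E633 (iv1 F3609))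
theorem F5083 : act 5 n2271 = n3217 := (sb E637 F5051)
theorem F5084 : act 0 n1090 = n1242 := (sb E639 (iv1 F2366))
theorem F5085 : act 1 n1090 = n744 := (sb E639 (iv0 D1263))
theorem E641 : n2297 = n676 := ((((iv4 D1090)).symm.trans (sb E639 (iv4 F4883)))).symm
theorem E643 : n2732 = n2251 := (((D2251).symm.trans (sb E639 D2732))).symm
theorem E644 : n1104 = n1089 := (((D1089).symm.trans (sb E641 (iv3 D2297)))).symm
theorem F5086 : act 5 n2251 = n2914 := (sb E643 F4518)
theorem E645 : n2281 = n2240 := (((D2240).symm.trans (sb E644 (iv1 F3636)))).symm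
theorem E646 : n2241 = n682 := ((D2241).symm.trans (sb E644 (iv0 D1104)))
theorem E647 : n2296 = n2242 := (((D2242).symm.trans (sb E644 D2296))).symm
theorem E651 : n2301 = n2246 := (((D2246).symm.trans (sb E644 D2301))).symm
theorem F5087 : act 0 n2240 = n1105 := (sb E645 (iv1 F3635))
theorem F5088 : act 2 n2240 = n1106 := (sb E645 F3630)
theorem F5089 : act 3 n2240 = n2132 := (sb E645 F3631)
theorem F5090 : act 5 n2240 = n2240 := (sb E645 (tr F3632 E645))
theorem F5091 : act 6 n2240 = n2240 := (sb E645 (tr F3633 E645))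
theorem F5092 : act 7 n2240 = n1099 := (sb E645 (iv7 D2281))
theorem F5093 : act 0 n682 = n1089 := (sb E646 (iv1 D2241))
theorem F5094 : act 7 n2242 = n1105 := (sb E647 (iv7 F3663))
theorem F5095 : act 2 n2246 = n1105 := (sb E651 F3664)
theorem E652 : n2302 = n2265 := (c0_3 (iv3 F3604) F5095 D2302 (iv2 D2265) (iv3 D1094) (iv2 F2017))
theorem F5096 : act 3 n2265 = n1105 := (sb E652 (iv3 D2302))
theorem E653 : n2905 = n1282 := (c17_10 (iv1 F2382) (iv5 F4376) (iv1 F4377) (iv5 D2260) (iv4 F3606) F5086 F4675 F4673 F2470 D2905)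
theorem E654 : n2796 = n1319 := ((D2796).symm.trans (sb E653 (iv4 D2905)))
theorem F5097 : act 4 n1319 = n1282 := (sb E654 (iv4 D2796))
theorem E655 : n2907 = n2272 := ((D2907).symm.trans (sb E654 F4381))
theorem F5098 : act 5 n2272 = n2739 := (sb E655 F4516)
theorem F5099 : act 6 n2272 = n1319 := (sb E655 (iv6 D2907))
theorem F5100 : act 4 n2794 = n2903 := d1_2 F5097 D2794 (iv2 D2903)
theorem F5101 : act 4 n2798 = n2908 := d11_3 (iv7 D2908) F5097 D2798
theorem F5102 : act 4 n2803 = n2954 := d18_1 D2803 (iv1 F4743) F4740 F2478 (iv4 F2466) F2470 F5097 (iv0 D1282) D1284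
theorem E656 : n2910 = n1283 := (c1_3 F5101 F4517 D2910 (iv2 F4386))
theorem E657 : n2799 = n2379 := ((D2799).symm.trans (sb E656 (iv3 F4894)))
theorem E658 : n2800 = n1320 := ((D2800).symm.trans (sb E656 (iv4 D2910)))
theorem F5103 : act 3 n2379 = n1283 := (sb E657 (iv3 D2799))
theorem F5104 : act 4 n1320 = n1283 := (sb E658 (iv4 D2800))
theorem F5105 : act 4 n2802 = n2912 := d10_3 (iv6 D2912) F5104 D2802
theorem F5106 : act 4 n2260 = n2955 := d18_1 (iv1 F4377) (iv1 D2955) (iv4 D1334) (iv5 D765) (iv4 F1473) D1320 F5104 F2377 (iv5 F4376)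
theorem F5107 : act 7 n2912 = n3222 := d11_2 (iv7 F4388) F5105 (iv4 F5077)
theorem F5108 : act 2 n2912 = n3221 := d15_3 (iv0 D3221) D3222 (iv7 F5107)
theorem F5109 : act 6 n3221 = n2908 := d3_2 D2912 F5108 F4517
theorem E659 : n2770 = n2149 := (c20_7 D1090 F5084 F2330 F1420 (iv1 F1439) D1273 D2770 (iv1 D2149) F1981 F1246 D676)
theorem F5110 : act 4 n2149 = n1273 := (sb E659 (iv4 D2770))
theorem F5111 : act 7 n2149 = n2677 := (sb E659 F4590)
theorem F5112 : act 2 n2677 = n2148 := d15_3 (iv0 D2148) D2149 F5111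
theorem F5113 : act 4 n2148 = n2676 := d1_2 D2677 F5112 (iv2 D2676)
theorem F5115 : act 1 n3246 = n2455 := d15_1 (iv0 F5074) (iv7 F3913) F5070
theorem F5116 : act 0 n2835 = n2402 := d20_10 F4925 (iv1 D2393) F2077 F1296 D698 D1154 D2455 (iv1 F5115) (iv4 D3246) (iv3 F5073)
theorem F5117 : act 2 n2101 = n2402 := d15_3 (iv0 F5116) (iv0 D2835) (iv7 F4450)
theorem E660 : n2401 = n1300 := (c0_4 D2101 F5117 (iv3 D2402) (iv2 F3791) (iv3 D1300) (iv2 F4448))
theorem E661 : n2857 = n1135 := ((D2857).symm.trans (sb E660 F3791))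
theorem E662 : n2096 = n1134 := (((iv7 F4442)).symm.trans (sb E660 (iv7 D2401)))
theorem F5118 : act 2 n1135 = n1300 := (sb E661 (iv2 D2857))
theorem E663 : n2396 = n2080 := ((F3790).symm.trans (sb E661 (iv7 F4914)))
theorem E664 : n2397 = n1037 := ((D2397).symm.trans (sb E662 (iv3 D2096)))
theorem F5119 : act 7 n1134 = n1300 := (sb E662 F4442)
theorem F5120 : act 2 n2080 = n1134 := (sb E663 (iv2 D2396))
theorem F5121 : act 7 n2080 = n1135 := (sb E663 (iv7 F3790))
theorem F5122 : act 3 n1037 = n1134 := (sb E664 (iv3 D2397))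
theorem F5123 : act 7 n2402 = n2837 := d4_2 (iv7 F4450) F5117 (iv2 D2837)
theorem F5124 : act 1 n2836 = n2402 := d15_1 D2836 F5123 (iv2 D2837)
theorem F5125 : act 3 n2399 = n2098 := d6_3 (iv5 D2098) F5122 D2399
theorem F5126 : act 3 n2400 = n2099 := d7_3 (iv6 D2099) F5122 D2400
theorem E665 : n2434 = n1037 := (c20_3 (iv4 F1308) D1149 D2434 F5122 (iv1 F3400) F3396 (iv4 F3420) F4921 (iv4 D1160) F5060 (iv1 D699))
theorem E666 : n1397 = n1149 := ((F4905).symm.trans (sb E665 (iv4 D2434)))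
theorem E667 : n3125 = n787 := ((((iv1 F2110)).symm.trans (sb E666 D3125))).symm
theorem E669 : n2432 = n784 := ((D2432).symm.trans (sb E666 (iv2 D1397)))
theorem E670 : n3127 = n2433 := (((D2433).symm.trans (sb E666 D3127))).symm
theorem F5127 : act 4 n1149 = n1037 := (sb E666 (iv4 F4905))
theorem E671 : n3129 = n2435 := (((D2435).symm.trans (sb E666 D3129))).symm
theorem E672 : n3130 = n2436 := (((D2436).symm.trans (sb E666 D3130))).symm
theorem E673 : n2437 = n785 := ((D2437).symm.trans (sb E666 (iv7 F2537)))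
theorem E674 : n1402 = n1150 := ((((iv1 F2105)).symm.trans (sb E667 (iv1 F4848)))).symm
theorem F5128 : act 2 n784 = n1149 := (sb E669 (iv2 D2432))
theorem F5129 : act 7 n2433 = n1403 := (sb E670 F4850)
theorem F5130 : act 2 n2435 = n1400 := (sb E671 F4853)
theorem F5131 : act 7 n2435 = n1405 := (sb E671 F4854)
theorem F5132 : act 2 n2436 = n1401 := (sb E672 F4855)
theorem F5133 : act 4 n2436 = n2099 := (sb E672 F4908)
theorem F5134 : act 7 n785 = n1149 := (sb E673 (iv7 D2437))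
theorem F5135 : act 2 n1150 = n785 := (sb E674 F2538)
theorem E675 : n3137 = n2438 := (((D2438).symm.trans (sb E674 (iv3 F4858)))).symm
theorem E676 : n2439 = n1038 := ((D2439).symm.trans (sb E674 (iv4 F4904)))
theorem E677 : n3148 = n2440 := (((D2440).symm.trans (sb E674 (iv5 F4898)))).symm
theorem E678 : n3152 = n2441 := (((D2441).symm.trans (sb E674 D3152))).symm
theorem F5136 : act 7 n1150 = n784 := (sb E674 (iv7 D1402))
theorem F5137 : act 7 n2438 = n1398 := (sb E675 (iv7 D3137))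
theorem F5138 : act 4 n1038 = n1150 := (sb E676 (iv4 D2439))
theorem F5139 : act 2 n2440 = n1405 := (sb E677 F4897)
theorem F5140 : act 7 n2440 = n1400 := (sb E677 (iv7 D3148))
theorem F5141 : act 0 n2441 = n2687 := (sb E678 (iv1 F4974))
theorem F5142 : act 1 n2441 = n2702 := (sb E678 F4975)
theorem F5143 : act 2 n2441 = n1406 := (sb E678 F4946)
theorem F5144 : act 4 n2441 = n2104 := (sb E678 F4947)
theorem F5145 : act 4 n2496 = n2106 := d18_7 (iv1 F1930) F5138 (iv1 D1150) F1308 D700 D1165 D2496 F3427 F2397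
theorem F5146 : act 4 n2105 = n2495 := d18_1 D2105 (iv1 F3945) F2575 F1512 (iv4 F1507) F2110 F5127 (iv0 D1037) D1039
theorem F5147 : act 3 n2406 = n2105 := d20_5 (iv4 F5145) (iv1 D2496) (iv4 D1165) (iv3 F2078) D2406 F5146 (iv1 F3945) F2575 (iv3 F2396) (iv1 F3427)
theorem F5148 : act 7 n2859 = n2399 := d8_0 F5125 F4446 (iv3 F4463)
theorem F5149 : act 7 n2858 = n2398 := d11_2 F5119 D2858 (iv4 D2398)
theorem F5150 : act 2 n2858 = n2403 := d1_3 (iv4 D2403) F5118 D2858
theorem F5151 : act 2 n2859 = n2404 := d2_3 (iv5 D2404) F5118 D2859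
theorem F5152 : act 2 n2860 = n2405 := d3_3 (iv6 D2405) F5118 D2860
theorem F5153 : act 2 n3256 = n3256 := d1_3 F5044 F5072 (iv4 F5044)
theorem F5154 : act 2 n3263 = n3263 := d2_3 (iv5 D3263) F5072 D3263
theorem F5155 : act 1 n3262 = n3263 := d15_1 D3262 (iv7 F5047) F5072
theorem F5156 : act 3 n2485 = n2485 := d0_4 (iv3 F5046) F5154 F5046 F3892 (iv2 F3892)
theorem F5157 : act 1 n3263 = n3261 := d15_0 (iv0 D3261) F5047 F5154
theorem F5158 : act 2 n3259 = n3259 := d1_3 (iv4 D3259) F5071 D3259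
theorem F5159 : act 2 n3260 = n3260 := d3_3 (iv6 D3260) F5071 D3260
theorem F5160 : act 2 n2456 = n2456 := d4_3 (iv7 F3914) F5071 F3914
theorem F5161 : act 1 n3258 = n2456 := d15_1 D3258 (iv7 F3914) F5071
theorem F5162 : act 1 n2456 = n3257 := d15_0 (iv0 D3257) F3914 F5160
theorem F5163 : act 3 n1546 = n1546 := d0_4 (iv3 F5045) F5159 F5045 (iv2 F3875) F3875
theorem F5164 : act 2 n3255 = n3255 := d2_3 (iv5 D3255) F5070 D3255
theorem F5165 : act 2 n2455 = n2455 := d4_3 (iv7 F3913) F5070 F3913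
theorem F5166 : act 1 n2455 = n3252 := d15_0 (iv0 D3252) F3913 F5165
theorem E679 : n3252 = n3241 := ((c20_1 D3241 (iv1 F5166) (iv4 D2455) (iv3 D1154) (iv1 F1314) (iv3 F1466) (iv4 F2391) (iv1 F5057) (iv4 D795) D794 D1440)).symm
theorem F5167 : act 0 n3241 = n2455 := (sb E679 (iv1 F5166))
theorem F5168 : act 1 n3241 = n1443 := (sb E679 (iv0 D3252))
theorem F5169 : act 0 n2101 = n3240 := d20_4 (iv4 F1507) (iv1 F2105) (iv4 F5138) D2101 (iv3 D3240) D3241 F5167 (iv4 D2455) (iv3 D1154) (iv1 F1314)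
theorem F5170 : act 1 n2837 = n3240 := d15_0 (iv0 F5169) F4450 D2837
theorem F5171 : act 3 n3236 = n3236 := d7_3 F5031 F5064 (iv6 F5031)
theorem F5172 : act 2 n2457 = n2457 := d3_3 (iv6 D2457) F5061 D2457
theorem F5173 : act 4 n2480 = n2480 := d5_4 (iv4 D1160) F5060 D1160 D2480 (iv3 D2480)
theorem E680 : n2838 = n2392 := ((c20_8 (iv4 F3420) F4921 (iv4 D1160) F5060 (iv1 D699) (iv3 F1296) (iv4 F2077) D2392 (iv4 D2838) (iv3 D1295) (iv1 F1937))).symm
theorem F5174 : act 3 n2392 = n3134 := (sb E680 (iv3 F4909))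
theorem F5175 : act 4 n2392 = n1295 := (sb E680 (iv4 D2838))
theorem F5176 : act 4 n3216 = n3216 := d5_4 F2552 F5059 (iv4 F2552) (iv3 F5017) F5017
theorem F5177 : act 4 n3231 = n3231 := d5_4 (iv4 D1432) F5058 D1432 D3231 (iv3 D3231)
theorem F5178 : act 4 n2275 = n3229 := d18_1 F3623 (iv1 F5026) (iv4 D1449) (iv5 D796) D795 F5057 F2391 F1935 D2098
theorem F5179 : act 4 n3098 = n3085 := d20_6 (iv4 D795) (iv1 D454) (iv4 F763) (iv3 F1505) D1389 D3098 (iv1 F4821) (iv4 F4409) F4408 (iv1 F5057)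
theorem F5180 : act 1 n2107 = n1461 := d18_6 (iv1 F1315) D795 F5056 F1929 D1039 D2107 (iv4 D1461) F2121 F2119
theorem F5181 : act 1 n1461 = n2877 := d15_1 F5180 (iv7 D2877) (iv2 F3428)
theorem F5182 : act 4 n3214 = n3214 := d1_2 F5054 D3214 (iv2 D3214)
theorem F5183 : act 0 n1456 = n2877 := d18_2 D798 D1456 F4470 F2397 (iv4 F2391) F5052 (iv4 D790) (iv0 D453) D455
theorem E681 : n2492 = n1164 := (c20_6 D1456 F5183 F4470 F2396 (iv1 F2115) D2492 D2493 F4926 (iv4 D1306) F1464 D798)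
theorem F5184 : act 3 n1164 = n1164 := (sb E681 (iv3 D2492))
theorem E682 : n1455 = n798 := (c20_6 D2493 F4926 (iv4 D1306) F1464 D798 D1455 D1456 F5183 F4470 F2396 (iv1 F2115))
theorem F5185 : act 3 n798 = n798 := (sb E682 (iv3 D1455))
theorem F5186 : act 3 n1457 = n1457 := d6_3 (iv5 D1457) F5185 D1457
theorem F5187 : act 3 n1458 = n1458 := d7_3 (iv6 D1458) F5185 D1458
theorem F5188 : act 3 n1459 = n1459 := d8_3 (iv7 D1459) F5185 D1459
theorem F5189 : act 0 n2107 = n1456 := d20_7 (iv4 F3944) (iv1 F3946) F4938 D2870 (iv1 F4940) F3393 D2107 (iv4 D1456) F5185 (iv1 F2122)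
theorem F5190 : act 2 n1460 = n1460 := d0_3 F5188 F2572 D1460 (iv3 D1460) (iv2 F2572)
theorem F5191 : act 3 n2690 = n2690 := d7_3 (iv6 F4286) F5186 F4286
theorem F5192 : act 3 n2934 = n2934 := d6_3 (iv5 F4535) F5191 F4535
theorem F5193 : act 3 n1540 = n1540 := d6_3 F2685 F5184 (iv5 F2685)
theorem F5194 : act 3 n2494 = n2494 := d7_3 (iv6 D2494) F5184 D2494
theorem F5195 : act 3 n2486 = n2486 := d8_3 (iv7 F3937) F5184 F3937
theorem F5196 : act 2 n2487 = n2487 := d0_3 F5195 (iv2 D2486) D2487 (iv3 D2487) D2486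
theorem E683 : n1537 = n835 := (c7_4 D1540 F5193 (iv6 D1540) D1537)
theorem F5197 : act 3 n835 = n835 := (sb E683 (iv3 D1537))
theorem F5198 : act 3 n1539 = n1539 := d6_3 (iv5 D1539) F5197 D1539
theorem F5199 : act 3 n1541 = n1541 := d8_3 (iv7 D1541) F5197 D1541
theorem E684 : n2548 = n2193 := (c20_1 D2548 (iv1 D2193) F1994 F1260 D835 F5197 D1538 F4936 F3558 F2000 (iv1 F2182))
theorem E685 : n2547 = n1188 := ((F4935).symm.trans (sb E684 (iv4 D2548)))
theorem F5200 : act 3 n1188 = n1188 := (sb E685 (iv3 D2547))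
theorem F5201 : act 4 n1188 = n2193 := (sb E685 (iv4 F4935))
theorem F5202 : act 1 n2208 = n3238 := d18_6 (iv1 F2182) F5201 (iv1 D2193) F1994 D1078 D2208 (iv4 D3238) F2691 F2690
theorem F5203 : act 3 n2549 = n2549 := d6_3 (iv5 D2549) F5200 D2549
theorem F5204 : act 3 n2550 = n2550 := d7_3 (iv6 D2550) F5200 D2550
theorem F5205 : act 3 n2542 = n2542 := d8_3 (iv7 F4051) F5200 F4051
theorem F5206 : act 2 n2543 = n2543 := d0_3 F5205 (iv2 D2542) D2543 (iv3 D2543) D2542
theorem F5207 : act 3 n2999 = n2999 := d6_3 F4691 F5204 (iv5 F4691)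
theorem F5208 : act 3 n1518 = n1518 := d7_3 (iv6 F4053) F5203 F4053
theorem F5209 : act 2 n1542 = n1542 := d0_3 F5199 F2686 D1542 (iv3 D1542) (iv2 F2686)
def n3272 : Q := act 1 n1448
theorem D3272 : act 1 n1448 = n3272 := rfl
def n3273 : Q := act 5 n1448
theorem D3273 : act 5 n1448 = n3273 := rfl
theorem F5210 : act 1 n3273 = n2657 := d17_6 D736 D1246 F2570 (iv5 D1452) (iv4 F2568) D3273 (iv5 D2657) (iv0 D1239) F1419
def n3274 : Q := act 7 n1448
theorem D3274 : act 7 n1448 = n3274 := rfl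
theorem F5211 : act 4 n3274 = n1452 := d11_1 D3274 F3893 (iv4 F2568)
theorem F5212 : act 1 n2980 = n3274 := d17_8 F3901 (iv5 D1251) (iv1 D737) F716 (iv4 F1419) D1241 D2665 (iv5 F4666) F5211
theorem F5213 : act 1 n2482 = n2980 := d15_0 F5212 (iv7 D3274) (iv2 F3931)
def n3275 : Q := act 3 n1449
theorem D3275 : act 3 n1449 = n3275 := rfl
def n3276 : Q := act 5 n1449
theorem D3276 : act 5 n1449 = n3276 := rfl
def n3277 : Q := act 6 n1449
theorem D3277 : act 6 n1449 = n3277 := rfl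
theorem F5214 : act 4 n3277 = n1450 := d10_1 D3277 (iv6 D1450) D1449
def n3278 : Q := act 0 n1454
theorem D3278 : act 0 n1454 = n3278 := rfl
theorem F5215 : act 1 n1459 = n3278 := d15_0 (iv0 D3278) (iv7 F2571) (iv2 F2572)
def n3280 : Q := act 3 n1454
theorem D3280 : act 3 n1454 = n3280 := rfl
theorem F5218 : act 7 n3280 = n1460 := d8_2 F2571 D3280 (iv3 D1460)
def n3281 : Q := act 4 n1454
theorem D3281 : act 4 n1454 = n3281 := rfl
theorem F5219 : act 2 n3281 = n1456 := d1_1 D3281 (iv4 D1456) D1454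
theorem F5220 : act 7 n3281 = n1461 := d11_2 F2571 D3281 (iv4 D1461)
def n3282 : Q := act 5 n1454
theorem D3282 : act 5 n1454 = n3282 := rfl
theorem F5221 : act 2 n3282 = n1457 := d2_1 D3282 (iv5 D1457) D1454
theorem F5222 : act 7 n3282 = n1462 := d13_2 F2571 D3282 (iv5 D1462)
def n3283 : Q := act 6 n1454
theorem D3283 : act 6 n1454 = n3283 := rfl
theorem F5223 : act 2 n3283 = n1458 := d3_1 D3283 (iv6 D1458) D1454
def n3284 : Q := act 3 n1456
theorem D3284 : act 3 n1456 = n3284 := rfl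
theorem F5224 : act 4 n3284 = n3284 := d5_2 D1456 D3284 (iv3 D3284) (iv4 D1456) F5185
def n3285 : Q := act 5 n1456
theorem D3285 : act 5 n1456 = n3285 := rfl
def n3286 : Q := act 6 n1456
theorem D3286 : act 6 n1456 = n3286 := rfl
theorem F5225 : act 4 n3286 = n1458 := d10_1 D3286 (iv6 D1458) D1456
def n3287 : Q := act 7 n1456
theorem D3287 : act 7 n1456 = n3287 := rfl
theorem F5226 : act 2 n3287 = n1461 := d4_1 D3287 (iv7 F5220) F5219
theorem F5227 : act 4 n3287 = n1459 := d11_1 D3287 (iv7 D1459) D1456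
def n3288 : Q := act 4 n1457
theorem D3288 : act 4 n1457 = n3288 := rfl
def n3289 : Q := act 7 n1457
theorem D3289 : act 7 n1457 = n3289 := rfl
theorem F5228 : act 2 n3289 = n1462 := d4_1 D3289 (iv7 F5222) F5221
theorem F5230 : act 5 n3289 = n1459 := d13_1 D3289 (iv7 D1459) D1457
theorem F5231 : act 6 n2542 = n3289 := d3_0 F5228 (iv6 F2573) D2542
theorem F5232 : act 7 n2690 = n2550 := d14_4 F4051 F5231 (iv7 D3289) F4286 (iv6 D2550)
theorem F5233 : act 7 n2999 = n2934 := d13_2 F5232 (iv5 F4691) (iv5 F4535)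
theorem F5234 : act 2 n2550 = n1545 := d15_3 F4636 D2690 F5232
theorem F5235 : act 2 n2690 = n2764 := d15_3 F4577 (iv0 F4693) (iv7 F5232)
theorem F5236 : act 2 n3000 = n2934 := d2_3 (iv5 F4535) F5235 F4698
theorem E686 : n3282 = n2489 := ((c3_3 F4286 F5235 (iv6 F4354) F5221)).symm
theorem F5237 : act 2 n2489 = n1457 := (sb E686 F5221)
theorem E687 : n1454 = n1163 := ((((iv5 D2489)).symm.trans (sb E686 (iv5 D3282)))).symm
theorem F5238 : act 7 n2489 = n1462 := (sb E686 F5222)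
theorem E688 : n3278 = n801 := ((((iv1 F2120)).symm.trans (sb E687 D3278))).symm
theorem E690 : n2486 = n798 := ((D2486).symm.trans (sb E687 (iv2 D1454)))
theorem E691 : n3280 = n2487 := (((D2487).symm.trans (sb E687 D3280))).symm
theorem E692 : n3281 = n2488 := (((D2488).symm.trans (sb E687 D3281))).symm
theorem E693 : n3283 = n2490 := (((D2490).symm.trans (sb E687 D3283))).symm
theorem E694 : n2491 = n799 := ((D2491).symm.trans (sb E687 (iv7 F2571)))
theorem E695 : n1459 = n1164 := ((((iv1 F2115)).symm.trans (sb E688 (iv1 F5215)))).symm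
theorem F5239 : act 2 n798 = n1163 := (sb E690 (iv2 D2486))
theorem F5240 : act 7 n2487 = n1460 := (sb E691 F5218)
theorem F5241 : act 2 n2488 = n1456 := (sb E692 F5219)
theorem F5242 : act 7 n2488 = n1461 := (sb E692 F5220)
theorem F5243 : act 2 n2490 = n1458 := (sb E693 F5223)
theorem F5244 : act 7 n799 = n1163 := (sb E694 (iv7 D2491))
theorem F5245 : act 2 n1164 = n799 := (sb E695 F2572)
theorem E696 : n3287 = n2493 := (((D2493).symm.trans (sb E695 (iv4 F5227)))).symm
theorem E697 : n3289 = n1540 := ((((iv5 F2685)).symm.trans (sb E695 (iv5 F5230)))).symm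
theorem F5246 : act 7 n1164 = n798 := (sb E695 (iv7 D1459))
theorem F5247 : act 2 n2493 = n1461 := (sb E696 F5226)
theorem F5248 : act 7 n2493 = n1456 := (sb E696 (iv7 D3287))
theorem F5249 : act 2 n1540 = n1462 := (sb E697 F5228)
theorem E698 : n2542 = n835 := ((((iv6 D1540)).symm.trans (sb E697 (iv6 F5231)))).symm
theorem F5250 : act 7 n1540 = n1457 := (sb E697 (iv7 D3289))
theorem E699 : n1536 = n1187 := ((D1536).symm.trans (sb E698 (iv2 D2542)))
theorem E700 : n1541 = n1188 := ((D1541).symm.trans (sb E698 (iv7 F4051)))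
theorem F5251 : act 2 n1187 = n835 := (sb E699 (iv2 D1536))
theorem E701 : n2546 = n836 := ((D2546).symm.trans (sb E699 (iv7 F2684)))
theorem F5252 : act 7 n1188 = n835 := (sb E700 (iv7 D1541))
theorem F5253 : act 2 n836 = n1188 := (sb E701 F4052)
theorem F5254 : act 7 n836 = n1187 := (sb E701 (iv7 D2546))
theorem F5255 : act 7 n2764 = n1545 := d4_2 (iv7 F5232) F5235 (iv2 F5234)
theorem F5256 : act 7 n2933 = n3000 := d13_2 F5255 (iv5 F4533) (iv5 F4698)
theorem F5257 : act 2 n2999 = n2933 := d4_3 F5256 F5236 (iv7 F5233)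
theorem F5258 : act 7 n2543 = n1542 := d8_2 F5254 D2543 (iv3 D1542)
theorem F5259 : act 7 n2544 = n1543 := d11_2 F5254 D2544 (iv4 D1543)
theorem F5260 : act 7 n2545 = n1544 := d13_2 F5254 D2545 (iv5 D1544)
theorem F5261 : act 2 n1544 = n2549 := d15_3 (iv0 F4696) (iv0 F4640) F5260
theorem F5262 : act 2 n2545 = n1539 := d15_3 (iv0 F4646) (iv0 F4645) (iv7 F5260)
theorem F5263 : act 7 n1539 = n2549 := d4_2 (iv7 F5260) F5262 (iv2 F5261)
theorem F5264 : act 2 n1518 = n2539 := d3_3 F4047 F5261 F4053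
theorem F5265 : act 7 n2540 = n1518 := d15_2 (iv0 D2539) D2540 F5264
theorem F5266 : act 7 n1519 = n2539 := d15_2 (iv0 D1518) D1519 (iv2 F5264)
theorem F5267 : act 2 n2540 = n1519 := d4_3 F5266 (iv2 F5264) (iv7 F5265)
theorem F5268 : act 3 n2540 = n2540 := d8_3 F5265 F5208 (iv7 F5265)
theorem F5269 : act 2 n2193 = n1543 := d1_3 (iv4 D1543) F5253 F5201
theorem E702 : n2544 = n2192 := ((c15_2 F3554 F3560 F5259 (iv2 F5269))).symm
theorem F5270 : act 4 n2192 = n1187 := (sb E702 (iv4 D2544))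
theorem F5271 : act 7 n2192 = n1543 := (sb E702 F5259)
theorem F5272 : act 2 n1538 = n2192 := d1_3 F5270 F5251 D1538
theorem F5273 : act 7 n2193 = n1538 := d4_0 F5272 F5271 (iv2 F5269)
theorem E703 : n2171 = n1543 := (c15_2 F4937 D2171 (iv7 F5271) (iv2 F5272))
theorem F5274 : act 0 n1543 = n1069 := (sb E703 (iv1 D2171))
theorem F5275 : act 1 n1543 = n2195 := (sb E703 F3561)
theorem E704 : n2873 = n2488 := ((c15_4 (iv0 D2873) (iv0 F4926) F5248 (iv2 F5241))).symm
theorem F5276 : act 1 n2488 = n1306 := (sb E704 (iv0 D2873))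
theorem F5277 : act 2 n1463 = n2494 := d3_3 (iv6 D2494) F5245 D1463
def n3290 : Q := act 0 n1458
theorem D3290 : act 0 n1458 = n3290 := rfl
def n3291 : Q := act 1 n1458
theorem D3291 : act 1 n1458 = n3291 := rfl
def n3292 : Q := act 5 n1458
theorem D3292 : act 5 n1458 = n3292 := rfl
theorem F5278 : act 3 n3292 = n3292 := d6_1 D3292 (iv5 D3292) F5187
theorem F5279 : act 6 n3292 = n2934 := d12_2 D1458 D3292 (iv5 F4535) (iv6 F4286) (iv5 D1457)
theorem F5280 : act 0 n3292 = n1472 := d21_7 (iv5 D465) (iv1 D248) D249 (iv6 F764) D798 D1458 D3292 F2584 (iv6 D1472) (iv1 F1514)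
def n3293 : Q := act 7 n1458
theorem D3293 : act 7 n1458 = n3293 := rfl
theorem F5281 : act 3 n3293 = n3293 := d8_1 D3293 (iv7 D3293) F5187
def n3294 : Q := act 0 n1460
theorem D3294 : act 0 n1460 = n3294 := rfl
theorem F5282 : act 1 n2487 = n3294 := d15_0 (iv0 D3294) (iv7 F5240) F5196
def n3295 : Q := act 1 n1460
theorem D3295 : act 1 n1460 = n3295 := rfl
theorem F5283 : act 1 n3295 = n2487 := d15_1 D3295 F5240 F5190
def n3296 : Q := act 4 n1460
theorem D3296 : act 4 n1460 = n3296 := rfl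
theorem F5284 : act 2 n3296 = n3296 := d1_1 D3296 (iv4 D3296) F5190
def n3297 : Q := act 5 n1460
theorem D3297 : act 5 n1460 = n3297 := rfl
theorem F5285 : act 2 n3297 = n3297 := d2_1 D3297 (iv5 D3297) F5190
theorem F5286 : act 3 n3297 = n1462 := d6_1 D3297 (iv5 D1462) D1460
theorem F5287 : act 6 n2543 = n3297 := d7_0 F5286 (iv6 F2573) D2543
def n3298 : Q := act 6 n1460
theorem D3298 : act 6 n1460 = n3298 := rfl
theorem F5288 : act 2 n3298 = n3298 := d3_1 D3298 (iv6 D3298) F5190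
theorem F5289 : act 3 n3298 = n1463 := d7_1 D3298 (iv6 D1463) D1460
def n3299 : Q := act 3 n1461
theorem D3299 : act 3 n1461 = n3299 := rfl
def n3300 : Q := act 5 n1461
theorem D3300 : act 5 n1461 = n3300 := rfl
def n3301 : Q := act 6 n1461
theorem D3301 : act 6 n1461 = n3301 := rfl
theorem F5290 : act 4 n3301 = n1463 := d10_1 D3301 (iv6 D1463) D1461
def n3302 : Q := act 4 n1462
theorem D3302 : act 4 n1462 = n3302 := rfl
theorem F5291 : act 6 n3302 = n2192 := d10_2 F2573 D3302 F5270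
def n3303 : Q := act 0 n1463
theorem D3303 : act 0 n1463 = n3303 := rfl
theorem F5292 : act 6 n3303 = n2947 := d21_5 F4607 F4609 (iv5 D1462) D1463 D3303 (iv5 D2947) F4539 (iv5 F3871) F2687 (iv1 F3857)
theorem F5293 : act 5 n3303 = n1490 := d21_0 (iv1 F3990) F3986 (iv6 F3987) (iv1 F3989) (iv6 F4611) F4607 F4609 (iv5 D1462) D1463 D3303
theorem F5294 : act 7 n3015 = n3303 := d13_0 F5293 (iv7 F4621) (iv5 F4725)
def n3304 : Q := act 5 n1463
theorem D3304 : act 5 n1463 = n3304 := rfl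
theorem F5295 : act 6 n3304 = n2545 := d12_2 D1463 D3304 (iv5 D2545) F2573 (iv5 D1462)
def n3305 : Q := act 7 n1463
theorem D3305 : act 7 n1463 = n3305 := rfl
theorem F5296 : act 1 n3015 = n3305 := d15_1 (iv0 F4726) (iv7 D3305) F5277
def n3306 : Q := act 2 n1464
theorem D3306 : act 2 n1464 = n3306 := rfl
theorem F5297 : act 4 n3306 = n2865 := d1_2 (iv4 F4911) D3306 (iv2 D2865)
theorem F5298 : act 7 n1465 = n3306 := d15_2 (iv0 D1464) D1465 (iv2 D3306)
def n3307 : Q := act 3 n1464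
theorem D3307 : act 3 n1464 = n3307 := rfl
def n3308 : Q := act 5 n1464
theorem D3308 : act 5 n1464 = n3308 := rfl
def n3309 : Q := act 6 n1464
theorem D3309 : act 6 n1464 = n3309 := rfl
theorem F5299 : act 4 n3309 = n2868 := d10_1 D3309 (iv6 D2868) (iv4 F4911)
def n3310 : Q := act 7 n1464
theorem D3310 : act 7 n1464 = n3310 := rfl
theorem F5300 : act 2 n3310 = n1465 := d4_1 D3310 F5298 (iv2 D3306)
theorem F5301 : act 4 n3310 = n2869 := d11_1 D3310 (iv7 D2869) (iv4 F4911)
def n3311 : Q := act 3 n1465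
theorem D3311 : act 3 n1465 = n3311 := rfl
def n3312 : Q := act 5 n1465
theorem D3312 : act 5 n1465 = n3312 := rfl
def n3313 : Q := act 6 n1465
theorem D3313 : act 6 n1465 = n3313 := rfl
theorem F5302 : act 4 n3313 = n2872 := d10_1 D3313 (iv6 D2872) (iv4 F4938)
def n3314 : Q := act 0 n1466
theorem D3314 : act 0 n1466 = n3314 := rfl
def n3315 : Q := act 1 n1466
theorem D3315 : act 1 n1466 = n3315 := rfl
def n3316 : Q := act 2 n1466
theorem D3316 : act 2 n1466 = n3316 := rfl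
theorem F5303 : act 6 n3316 = n1511 := d3_2 (iv6 F2574) D3316 (iv2 D1511)
def n3317 : Q := act 5 n1466
theorem D3317 : act 5 n1466 = n3317 := rfl
theorem F5304 : act 3 n3317 = n1467 := d6_1 D3317 (iv5 D1467) D1466
def n3318 : Q := act 7 n1466
theorem D3318 : act 7 n1466 = n3318 := rfl
theorem F5305 : act 3 n3318 = n1468 := d8_1 D3318 (iv7 D1468) D1466
def n3319 : Q := act 0 n1467
theorem D3319 : act 0 n1467 = n3319 := rfl
theorem F5306 : act 5 n3319 = n2849 := d17_3 (iv1 D1465) D1467 D3319 (iv4 D2849) (iv5 D1297) (iv0 D753) D755 D1305 (iv4 F4938)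
def n3320 : Q := act 1 n1467
theorem D3320 : act 1 n1467 = n3320 := rfl
theorem F5307 : act 5 n3320 = n2864 := d17_7 F2558 (iv5 D796) (iv1 D454) D455 D800 D1467 D3320 (iv0 F5024) (iv4 D3226)
def n3321 : Q := act 4 n1467
theorem D3321 : act 4 n1467 = n3321 := rfl
def n3322 : Q := act 6 n1467
theorem D3322 : act 6 n1467 = n3322 := rfl
theorem F5308 : act 5 n3322 = n1516 := d12_1 D3322 (iv6 D1516) (iv5 D818) (iv6 F1511) D1467
def n3323 : Q := act 7 n1467
theorem D3323 : act 7 n1467 = n3323 := rfl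
theorem F5309 : act 5 n3323 = n1468 := d13_1 D3323 (iv7 D1468) D1467
def n3324 : Q := act 6 n1468
theorem D3324 : act 6 n1468 = n3324 := rfl
theorem F5310 : act 4 n3324 = n1469 := d10_1 D3324 (iv6 D1469) (iv4 F2575)
theorem F5311 : act 7 n3324 = n1517 := d14_2 D1468 D3324 (iv6 D1517) (iv7 D819) (iv6 F1511)
def n3325 : Q := act 4 n1470
theorem D3325 : act 4 n1470 = n3325 := rfl
theorem F5312 : act 7 n3325 = n2541 := d11_2 (iv7 F2579) D3325 (iv4 D2541)
theorem F5313 : act 0 n3325 = n2581 := d18_2 F3404 D3325 (iv4 D2581) (iv5 D1209) F1378 F1305 F1303 F1920 D2084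
def n3326 : Q := act 6 n1470
theorem D3326 : act 6 n1470 = n3326 := rfl
theorem F5314 : act 3 n3326 = n1472 := d7_1 D3326 (iv6 D1472) D1470
theorem F5315 : act 5 n3326 = n3326 := d12_1 D3326 (iv6 D3326) F2578 F2180 (iv5 F2578)
def n3327 : Q := act 3 n1471
theorem D3327 : act 3 n1471 = n3327 := rfl
theorem F5316 : act 7 n3327 = n2553 := d8_2 (iv7 F2580) D3327 (iv3 D2553)
def n3328 : Q := act 6 n1471
theorem D3328 : act 6 n1471 = n3328 := rfl
theorem F5317 : act 4 n3328 = n1472 := d10_1 D3328 (iv6 D1472) D1471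
def n3329 : Q := act 0 n1472
theorem D3329 : act 0 n1472 = n3329 := rfl
def n3330 : Q := act 7 n1472
theorem D3330 : act 7 n1472 = n3330 := rfl
theorem F5318 : act 5 n3330 = n3330 := d13_1 D3330 (iv7 D3330) F2584
theorem F5319 : act 6 n3330 = n2552 := d14_1 D3330 (iv7 D2552) F2184 (iv7 F1515) D1472
def n3331 : Q := act 3 n1473
theorem D3331 : act 3 n1473 = n3331 := rfl
def n3332 : Q := act 5 n1473
theorem D3332 : act 5 n1473 = n3332 := rfl
theorem F5320 : act 4 n3332 = n1636 := d16_2 (iv4 F2585) D3332 F2812 F2222 (iv5 D900) (iv4 F1532) (iv5 F2208) F2207 F2203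
theorem F5321 : act 0 n3332 = n2517 := d17_2 D1473 D3332 (iv5 D2517) (iv4 D1173) F1326 F1364 (iv5 F1513) (iv0 D802) D803
theorem F5322 : act 1 n3332 = n2519 := d17_6 F1609 F1535 (iv1 F1549) (iv5 F2201) (iv4 F2585) D3332 (iv5 D2519) (iv0 F2739) (iv4 D1572)
def n3333 : Q := act 6 n1473
theorem D3333 : act 6 n1473 = n3333 := rfl
theorem F5323 : act 4 n3333 = n2561 := d10_1 D3333 (iv6 D2561) (iv4 F2585)
def n3334 : Q := act 3 n1474
theorem D3334 : act 3 n1474 = n3334 := rfl
def n3335 : Q := act 5 n1474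
theorem D3335 : act 5 n1474 = n3335 := rfl
theorem F5324 : act 4 n3335 = n1637 := d9_1 D3335 F2818 F2216 F1686 (iv4 F1551) (iv5 F2201) (iv4 F2585) D3332 F5320 F2812 F2222 (iv5 D900) (iv4 F1532) (iv5 F2208) (iv4 F2588)
theorem F5325 : act 0 n3335 = n2519 := d17_2 (iv1 F2587) D3335 (iv5 D2519) (iv4 D1174) F1331 (iv0 D492) D493 (iv0 F1023) D809
theorem F5326 : act 1 n3335 = n2517 := d17_6 D757 F1468 F1533 (iv5 F2208) (iv4 F2588) D3335 (iv5 D2517) F2140 (iv4 D759)
def n3336 : Q := act 0 n1475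
theorem D3336 : act 0 n1475 = n3336 := rfl
def n3337 : Q := act 1 n1475
theorem D3337 : act 1 n1475 = n3337 := rfl
def n3338 : Q := act 2 n1475
theorem D3338 : act 2 n1475 = n3338 := rfl
theorem F5327 : act 4 n3338 = n3338 := d1_2 F2589 D3338 (iv2 D3338)
def n3339 : Q := act 5 n1475
theorem D3339 : act 5 n1475 = n3339 := rfl
theorem F5328 : act 3 n3339 = n1476 := d6_1 D3339 (iv5 D1476) D1475
def n3340 : Q := act 6 n1475
theorem D3340 : act 6 n1475 = n3340 := rfl
theorem F5329 : act 3 n3340 = n1477 := d7_1 D3340 (iv6 D1477) D1475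
theorem F5330 : act 4 n3340 = n3340 := d10_1 D3340 (iv6 D3340) F2589
def n3341 : Q := act 6 n1476
theorem D3341 : act 6 n1476 = n3341 := rfl
theorem F5331 : act 4 n3341 = n1690 := d10_1 D3341 (iv6 D1690) (iv4 F2590)
def n3342 : Q := act 0 n1477
theorem D3342 : act 0 n1477 = n3342 := rfl
def n3343 : Q := act 1 n1477
theorem D3343 : act 1 n1477 = n3343 := rfl
def n3344 : Q := act 5 n1477
theorem D3344 : act 5 n1477 = n3344 := rfl
def n3345 : Q := act 7 n1477
theorem D3345 : act 7 n1477 = n3345 := rfl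
theorem F5332 : act 4 n3345 = n1480 := d11_1 D3345 (iv7 D1480) (iv4 F2591)
def n3346 : Q := act 2 n1478
theorem D3346 : act 2 n1478 = n3346 := rfl
theorem F5333 : act 7 n1479 = n3346 := d15_2 (iv0 D1478) D1479 (iv2 D3346)
def n3347 : Q := act 3 n1478
theorem D3347 : act 3 n1478 = n3347 := rfl
def n3348 : Q := act 4 n1478
theorem D3348 : act 4 n1478 = n3348 := rfl
def n3349 : Q := act 5 n1478
theorem D3349 : act 5 n1478 = n3349 := rfl
theorem F5334 : act 0 n3349 = n3304 := d21_1 D3349 (iv5 D3304) (iv6 D1463) (iv1 D799) F764 (iv5 D249) D247 D460 D804 D1478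
def n3350 : Q := act 7 n1478
theorem D3350 : act 7 n1478 = n3350 := rfl
theorem F5335 : act 2 n3350 = n1479 := d4_1 D3350 F5333 (iv2 D3346)
def n3351 : Q := act 3 n1479
theorem D3351 : act 3 n1479 = n3351 := rfl
def n3352 : Q := act 4 n1479
theorem D3352 : act 4 n1479 = n3352 := rfl
def n3353 : Q := act 5 n1479
theorem D3353 : act 5 n1479 = n3353 := rfl
theorem F5336 : act 6 n3353 = n1500 := d21_3 (iv5 F3968) (iv1 F3971) D3353 (iv1 F4011) F4008 F2451 (iv1 F1486) D1352 (iv6 F3982) (iv1 F3988)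
theorem F5337 : act 0 n3304 = n3353 := d21_10 (iv5 D3353) (iv1 D1479) (iv5 F2134) (iv6 D1171) (iv1 F1360) (iv6 F2184) (iv5 D1189) D1187 D2545 (iv6 F5295)
def n3354 : Q := act 6 n1479
theorem D3354 : act 6 n1479 = n3354 := rfl
def n3355 : Q := act 4 n1481
theorem D3355 : act 4 n1481 = n3355 := rfl
theorem F5338 : act 2 n3355 = n3355 := d1_1 D3355 (iv4 D3355) F2593
theorem F5339 : act 7 n3355 = n2709 := d11_2 (iv7 F2594) D3355 (iv4 D2709)
theorem F5340 : act 0 n3355 = n1495 := d18_2 (iv1 F2596) D3355 (iv4 D1495) (iv5 F2192) F2191 (iv0 F2653) F2652 (iv0 F2655) (iv5 F2136)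
theorem F5341 : act 1 n3355 = n2515 := d18_6 (iv1 F2419) F1318 (iv1 F1519) F1520 D1481 D3355 (iv4 D2515) (iv0 F2340) (iv5 D1256)
def n3356 : Q := act 6 n1481
theorem D3356 : act 6 n1481 = n3356 := rfl
theorem F5342 : act 2 n3356 = n3356 := d3_1 D3356 (iv6 D3356) F2593
theorem F5343 : act 5 n3356 = n3356 := d12_1 D3356 (iv6 D3356) (iv5 D1481) F2411 D1481
def n3357 : Q := act 4 n1482
theorem D3357 : act 4 n1482 = n3357 := rfl
theorem F5344 : act 2 n3357 = n3357 := d1_1 D3357 (iv4 D3357) F2656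
theorem F5345 : act 0 n3357 = n2501 := d18_2 D1482 D3357 (iv4 D2501) (iv5 D1167) F1318 F2419 F1429 (iv0 F2418) D807
theorem F5346 : act 1 n3357 = n1484 := d18_6 (iv1 D1526) F1571 F2655 F2652 F2654 D3357 (iv4 D1484) D1483 F2663
def n3358 : Q := act 4 n1483
theorem D3358 : act 4 n1483 = n3358 := rfl
theorem F5347 : act 2 n3358 = n3358 := d1_1 D3358 (iv4 D3358) F2658
theorem F5348 : act 7 n3358 = n3357 := d11_2 (iv7 F2657) D3358 (iv4 D3357)
theorem F5349 : act 0 n3358 = n1484 := d18_2 (iv1 F2598) D3358 (iv4 D1484) (iv5 D807) F974 D806 F1520 F1519 D1167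
theorem F5350 : act 1 n3358 = n2501 := d18_6 F2653 F2191 (iv1 F2659) F2661 (iv5 F2663) D3358 (iv4 D2501) F2597 (iv5 F2654)
def n3359 : Q := act 6 n1483
theorem D3359 : act 6 n1483 = n3359 := rfl
theorem F5351 : act 2 n3359 = n3359 := d3_1 D3359 (iv6 D3359) F2658
theorem F5352 : act 5 n3359 = n3359 := d12_1 D3359 (iv6 D3359) F2663 F2664 (iv5 F2663)
def n3360 : Q := act 3 n1484
theorem D3360 : act 3 n1484 = n3360 := rfl
theorem F5353 : act 4 n3360 = n1487 := d5_2 D1484 D3360 (iv3 D1487) (iv4 D809) (iv3 F1522)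
def n3361 : Q := act 5 n1484
theorem D3361 : act 5 n1484 = n3361 := rfl
def n3362 : Q := act 6 n1484
theorem D3362 : act 6 n1484 = n3362 := rfl
theorem F5355 : act 2 n3362 = n3362 := d3_1 D3362 (iv6 D3362) F2599
theorem F5356 : act 4 n3362 = n1485 := d10_1 D3362 (iv6 D1485) D1484
def n3363 : Q := act 0 n1485
theorem D3363 : act 0 n1485 = n3363 := rfl
theorem F5357 : act 6 n3363 = n2966 := d21_5 (iv5 D1481) (iv1 D806) D807 D1485 D3363 (iv5 D2966) (iv1 D1337) D1338 F2454 (iv1 F2596)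
def n3364 : Q := act 1 n1485
theorem D3364 : act 1 n1485 = n3364 := rfl
def n3365 : Q := act 7 n1485
theorem D3365 : act 7 n1485 = n3365 := rfl
theorem F5358 : act 2 n3365 = n3365 := d4_1 D3365 (iv7 D3365) F2600
theorem F5359 : act 3 n3365 = n1492 := d8_1 D3365 (iv7 D1492) (iv3 F2601)
theorem F5360 : act 1 n3365 = n3363 := d15_0 (iv0 D3363) D3365 F5358
theorem F5361 : act 1 n3364 = n3365 := d15_1 D3364 (iv7 D3365) F2600
def n3366 : Q := act 7 n1486
theorem D3366 : act 7 n1486 = n3366 := rfl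
theorem F5362 : act 2 n3366 = n1711 := d4_1 D3366 (iv7 D1711) (iv2 F2602)
theorem F5363 : act 3 n3366 = n3366 := d8_1 D3366 (iv7 D3366) F2603
theorem F5364 : act 4 n3366 = n1698 := d11_1 D3366 F2887 F2716
theorem F5365 : act 5 n3366 = n1709 := d13_1 D3366 (iv7 D1709) (iv5 F2604)
theorem F5366 : act 6 n3366 = n1709 := d14_1 D3366 (iv7 D1709) (iv6 D907) (iv7 F1525) D1486
theorem F5367 : act 1 n1702 = n3366 := d15_1 (iv0 F2898) (iv7 D3366) F2602
theorem F5368 : act 1 n3366 = n1703 := d15_1 F5367 F2902 (iv2 F2894)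
def n3367 : Q := act 0 n1487
theorem D3367 : act 0 n1487 = n3367 := rfl
def n3368 : Q := act 1 n1487
theorem D3368 : act 1 n1487 = n3368 := rfl
def n3369 : Q := act 2 n1487
theorem D3369 : act 2 n1487 = n3369 := rfl
def n3370 : Q := act 5 n1487
theorem D3370 : act 5 n1487 = n3370 := rfl
theorem F5369 : act 3 n3370 = n1488 := d6_1 D3370 (iv5 D1488) D1487
def n3371 : Q := act 6 n1487
theorem D3371 : act 6 n1487 = n3371 := rfl
theorem F5370 : act 3 n3371 = n1489 := d7_1 D3371 (iv6 D1489) D1487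
def n3372 : Q := act 6 n1488
theorem D3372 : act 6 n1488 = n3372 := rfl
theorem F5371 : act 4 n3372 = n1688 := d10_1 D3372 (iv6 D1688) (iv4 F2606)
def n3373 : Q := act 0 n1489
theorem D3373 : act 0 n1489 = n3373 := rfl
def n3374 : Q := act 1 n1489
theorem D3374 : act 1 n1489 = n3374 := rfl
def n3375 : Q := act 5 n1489
theorem D3375 : act 5 n1489 = n3375 := rfl
def n3376 : Q := act 7 n1489
theorem D3376 : act 7 n1489 = n3376 := rfl
theorem F5372 : act 4 n3376 = n1492 := d11_1 D3376 (iv7 D1492) (iv4 F2607)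
def n3377 : Q := act 3 n1490
theorem D3377 : act 3 n1490 = n3377 := rfl
theorem F5373 : act 6 n3377 = n2941 := d7_2 (iv6 F2608) D3377 F4637
def n3378 : Q := act 4 n1490
theorem D3378 : act 4 n1490 = n3378 := rfl
theorem F5374 : act 6 n3378 = n2946 := d10_2 (iv6 F2608) D3378 (iv4 D2946)
def n3379 : Q := act 3 n1491
theorem D3379 : act 3 n1491 = n3379 := rfl
def n3380 : Q := act 4 n1491
theorem D3380 : act 4 n1491 = n3380 := rfl
def n3381 : Q := act 0 n1493
theorem D3381 : act 0 n1493 = n3381 := rfl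
def n3382 : Q := act 1 n1493
theorem D3382 : act 1 n1493 = n3382 := rfl
def n3383 : Q := act 2 n1493
theorem D3383 : act 2 n1493 = n3383 := rfl
theorem F5375 : act 4 n3383 = n3383 := d1_2 F2609 D3383 (iv2 D3383)
def n3384 : Q := act 5 n1493
theorem D3384 : act 5 n1493 = n3384 := rfl
theorem F5376 : act 3 n3384 = n1494 := d6_1 D3384 (iv5 D1494) D1493
def n3385 : Q := act 0 n1494
theorem D3385 : act 0 n1494 = n3385 := rfl
theorem F5377 : act 5 n3385 = n1527 := d17_1 D3385 F2667 D2504 F3961 F2305 F1703 (iv5 F2725) F2727 (iv4 F2610)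
theorem F5378 : act 4 n3385 = n1592 := d18_1 D3385 F2772 (iv4 F4022) (iv5 D2528) F2153 F1589 (iv4 F2426) F2428 D1494
theorem F5379 : act 1 n1498 = n3385 := d15_0 (iv0 D3385) (iv7 F4001) F3999
theorem F5380 : act 2 n3335 = n3385 := d1_3 F5378 F2819 (iv4 F5324)
theorem F5381 : act 7 n3332 = n3385 := d11_0 F5378 F2815 (iv4 F5320)
def n3386 : Q := act 1 n1494
theorem D3386 : act 1 n1494 = n3386 := rfl
theorem F5382 : act 1 n3386 = n1498 := d15_1 D3386 (iv7 F3995) F3994
theorem F5383 : act 7 n3386 = n3335 := d15_2 (iv0 D3385) D3386 F5380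
theorem F5384 : act 5 n3386 = n1581 := d17_7 (iv1 F1584) F1582 (iv1 F815) (iv5 F797) D811 D1494 D3386 F2758 (iv4 D1168)
theorem F5385 : act 4 n3386 = n1595 := d17_9 F2776 (iv5 D1219) (iv1 F1677) D1701 (iv4 F4487) F4488 F2428 D1494 D3386
theorem F5386 : act 2 n3332 = n3386 := d1_3 F5385 F2814 (iv4 F5320)
def n3387 : Q := act 6 n1494
theorem D3387 : act 6 n1494 = n3387 := rfl
theorem F5387 : act 4 n3387 = n1663 := d10_1 D3387 (iv6 D1663) (iv4 F2610)
def n3388 : Q := act 3 n1495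
theorem D3388 : act 3 n1495 = n3388 := rfl
theorem F5388 : act 4 n3388 = n1497 := d5_2 D1495 D3388 (iv3 D1497) (iv4 D813) D812
def n3389 : Q := act 5 n1495
theorem D3389 : act 5 n1495 = n3389 := rfl
theorem F5389 : act 2 n3389 = n3389 := d2_1 D3389 (iv5 D3389) F2611
def n3390 : Q := act 6 n1495
theorem D3390 : act 6 n1495 = n3390 := rfl
theorem F5390 : act 2 n3390 = n3390 := d3_1 D3390 (iv6 D3390) F2611
theorem F5391 : act 4 n3390 = n1496 := d10_1 D3390 (iv6 D1496) D1495
def n3391 : Q := act 0 n1496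
theorem D3391 : act 0 n1496 = n3391 := rfl
def n3392 : Q := act 1 n1496
theorem D3392 : act 1 n1496 = n3392 := rfl
def n3393 : Q := act 7 n1496
theorem D3393 : act 7 n1496 = n3393 := rfl
theorem F5392 : act 2 n3393 = n3393 := d4_1 D3393 (iv7 D3393) F2612
theorem F5393 : act 3 n3393 = n1502 := d8_1 D3393 (iv7 D1502) (iv3 F2613)
theorem F5394 : act 5 n3393 = n3393 := d13_1 D3393 (iv7 D3393) F2614
theorem F5395 : act 6 n3393 = n2971 := d14_1 D3393 (iv7 D2971) F2454 F2137 D1496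
theorem F5396 : act 1 n3393 = n3391 := d15_0 (iv0 D3391) D3393 F5392
theorem F5397 : act 1 n3392 = n3393 := d15_1 D3392 (iv7 D3393) F2612
def n3394 : Q := act 0 n1497
theorem D3394 : act 0 n1497 = n3394 := rfl
def n3395 : Q := act 1 n1497
theorem D3395 : act 1 n1497 = n3395 := rfl
def n3396 : Q := act 2 n1497
theorem D3396 : act 2 n1497 = n3396 := rfl
def n3397 : Q := act 5 n1497
theorem D3397 : act 5 n1497 = n3397 := rfl
theorem F5398 : act 3 n3397 = n1498 := d6_1 D3397 (iv5 D1498) D1497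
def n3398 : Q := act 6 n1497
theorem D3398 : act 6 n1497 = n3398 := rfl
theorem F5399 : act 3 n3398 = n1499 := d7_1 D3398 (iv6 D1499) D1497
def n3399 : Q := act 6 n1498
theorem D3399 : act 6 n1498 = n3399 := rfl
theorem F5400 : act 4 n3399 = n1656 := d10_1 D3399 (iv6 D1656) (iv4 F2615)
def n3400 : Q := act 0 n1499
theorem D3400 : act 0 n1499 = n3400 := rfl
def n3401 : Q := act 1 n1499
theorem D3401 : act 1 n1499 = n3401 := rfl
def n3402 : Q := act 5 n1499
theorem D3402 : act 5 n1499 = n3402 := rfl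
def n3403 : Q := act 7 n1499
theorem D3403 : act 7 n1499 = n3403 := rfl
theorem F5401 : act 4 n3403 = n1502 := d11_1 D3403 (iv7 D1502) (iv4 F2616)
theorem F5402 : act 6 n3403 = n3023 := d14_1 D3403 (iv7 D3023) F2476 F2139 D1499
def n3404 : Q := act 2 n1500
theorem D3404 : act 2 n1500 = n3404 := rfl
theorem F5403 : act 7 n1501 = n3404 := d15_2 (iv0 D1500) D1501 (iv2 D3404)
def n3405 : Q := act 3 n1500
theorem D3405 : act 3 n1500 = n3405 := rfl
def n3406 : Q := act 4 n1500
theorem D3406 : act 4 n1500 = n3406 := rfl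
def n3407 : Q := act 7 n1500
theorem D3407 : act 7 n1500 = n3407 := rfl
theorem F5404 : act 2 n3407 = n1501 := d4_1 D3407 F5403 (iv2 D3404)
def n3408 : Q := act 3 n1501
theorem D3408 : act 3 n1501 = n3408 := rfl
def n3409 : Q := act 4 n1501
theorem D3409 : act 4 n1501 = n3409 := rfl
def n3410 : Q := act 6 n1501
theorem D3410 : act 6 n1501 = n3410 := rfl
def n3411 : Q := act 0 n1503
theorem D3411 : act 0 n1503 = n3411 := rfl
def n3412 : Q := act 1 n1503
theorem D3412 : act 1 n1503 = n3412 := rfl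
def n3413 : Q := act 2 n1503
theorem D3413 : act 2 n1503 = n3413 := rfl
def n3414 : Q := act 4 n1503
theorem D3414 : act 4 n1503 = n3414 := rfl
theorem F5405 : act 3 n3414 = n2418 := d5_1 D3414 F3810 (iv3 D1308) (iv4 F1528) D1503
def n3415 : Q := act 5 n1503
theorem D3415 : act 5 n1503 = n3415 := rfl
theorem F5406 : act 3 n3415 = n1504 := d6_1 D3415 (iv5 D1504) D1503
def n3416 : Q := act 6 n1503
theorem D3416 : act 6 n1503 = n3416 := rfl
theorem F5407 : act 3 n3416 = n1505 := d7_1 D3416 (iv6 D1505) D1503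
def n3417 : Q := act 6 n1504
theorem D3417 : act 6 n1504 = n3417 := rfl
theorem F5408 : act 4 n3417 = n1644 := d10_1 D3417 (iv6 D1644) (iv4 F2619)
def n3418 : Q := act 5 n1505
theorem D3418 : act 5 n1505 = n3418 := rfl
def n3419 : Q := act 7 n1505
theorem D3419 : act 7 n1505 = n3419 := rfl
theorem F5409 : act 4 n3419 = n2793 := d11_1 D3419 (iv7 D2793) (iv4 F2620)
theorem F5410 : act 1 n3017 = n3419 := d15_1 F4983 (iv7 D3419) (iv2 F4018)
theorem F5411 : act 1 n3419 = n3014 := d15_1 F5410 F4723 (iv2 F4729)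
def n3420 : Q := act 0 n1506
theorem D3420 : act 0 n1506 = n3420 := rfl
def n3421 : Q := act 1 n1506
theorem D3421 : act 1 n1506 = n3421 := rfl
def n3422 : Q := act 2 n1506
theorem D3422 : act 2 n1506 = n3422 := rfl
def n3423 : Q := act 4 n1506
theorem D3423 : act 4 n1506 = n3423 := rfl
theorem F5412 : act 3 n3423 = n2879 := d5_1 D3423 (iv4 D2879) (iv3 D1309) F1610 D1506
def n3424 : Q := act 5 n1506
theorem D3424 : act 5 n1506 = n3424 := rfl
theorem F5413 : act 3 n3424 = n1507 := d6_1 D3424 (iv5 D1507) D1506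
def n3425 : Q := act 6 n1506
theorem D3425 : act 6 n1506 = n3425 := rfl
theorem F5414 : act 3 n3425 = n1508 := d7_1 D3425 (iv6 D1508) D1506
def n3426 : Q := act 6 n1507
theorem D3426 : act 6 n1507 = n3426 := rfl
theorem F5415 : act 4 n3426 = n1638 := d10_1 D3426 (iv6 D1638) (iv4 F2621)
def n3427 : Q := act 0 n1508
theorem D3427 : act 0 n1508 = n3427 := rfl
def n3428 : Q := act 1 n1508
theorem D3428 : act 1 n1508 = n3428 := rfl
def n3429 : Q := act 5 n1508
theorem D3429 : act 5 n1508 = n3429 := rfl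
def n3430 : Q := act 7 n1508
theorem D3430 : act 7 n1508 = n3430 := rfl
theorem F5416 : act 4 n3430 = n2883 := d11_1 D3430 (iv7 D2883) (iv4 F2622)
def n3431 : Q := act 0 n1509
theorem D3431 : act 0 n1509 = n3431 := rfl
theorem F5417 : act 2 n1513 = n3431 := d15_3 (iv0 D3431) (iv0 D1509) D1513
theorem F5418 : act 7 n3431 = n1511 := d4_2 D1513 F5417 (iv2 D1511)
theorem F5419 : act 1 n1510 = n3431 := d15_1 D1510 F5418 (iv2 D1511)
def n3432 : Q := act 2 n1509
theorem D3432 : act 2 n1509 = n3432 := rfl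
theorem F5420 : act 7 n1510 = n3432 := d15_2 (iv0 D1509) D1510 (iv2 D3432)
def n3433 : Q := act 3 n1509
theorem D3433 : act 3 n1509 = n3433 := rfl
def n3434 : Q := act 4 n1509
theorem D3434 : act 4 n1509 = n3434 := rfl
def n3435 : Q := act 5 n1509
theorem D3435 : act 5 n1509 = n3435 := rfl
def n3436 : Q := act 6 n1509
theorem D3436 : act 6 n1509 = n3436 := rfl
def n3437 : Q := act 7 n1509
theorem D3437 : act 7 n1509 = n3437 := rfl
theorem F5421 : act 2 n3437 = n1510 := d4_1 D3437 F5420 (iv2 D3432)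
def n3438 : Q := act 3 n1510
theorem D3438 : act 3 n1510 = n3438 := rfl
def n3439 : Q := act 4 n1510
theorem D3439 : act 4 n1510 = n3439 := rfl
def n3440 : Q := act 5 n1510
theorem D3440 : act 5 n1510 = n3440 := rfl
def n3441 : Q := act 6 n1510
theorem D3441 : act 6 n1510 = n3441 := rfl
def n3442 : Q := act 0 n1511
theorem D3442 : act 0 n1511 = n3442 := rfl
theorem F5422 : act 1 n1513 = n3442 := d15_0 (iv0 D3442) (iv7 F5418) (iv2 F5417)
theorem F5423 : act 4 n3433 = n3442 := d20_6 (iv4 D813) (iv1 D468) D469 D817 D1509 D3433 (iv1 F5422) (iv4 F4485) F4484 (iv1 F2427)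
def n3443 : Q := act 1 n1511
theorem D3443 : act 1 n1511 = n3443 := rfl
theorem F5424 : act 1 n3443 = n1513 := d15_1 D3443 (iv7 D1513) D1511
theorem F5425 : act 3 n3443 = n3439 := d20_5 (iv4 D1173) (iv1 F1334) (iv4 F1529) (iv3 F2624) (iv1 F5424) (iv4 D3439) (iv1 D1510) (iv4 F2425) (iv3 D1311) (iv1 F2140)
def n3444 : Q := act 5 n1511
theorem D3444 : act 5 n1511 = n3444 := rfl
theorem F5426 : act 2 n3444 = n1512 := d2_1 D3444 (iv5 D1512) D1511
def n3445 : Q := act 0 n1512
theorem D3445 : act 0 n1512 = n3445 := rfl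
def n3446 : Q := act 1 n1512
theorem D3446 : act 1 n1512 = n3446 := rfl
def n3447 : Q := act 4 n1512
theorem D3447 : act 4 n1512 = n3447 := rfl
def n3448 : Q := act 6 n1512
theorem D3448 : act 6 n1512 = n3448 := rfl
theorem F5427 : act 3 n3448 = n1516 := d7_1 D3448 (iv6 D1516) (iv3 F2623)
def n3449 : Q := act 6 n1513
theorem D3449 : act 6 n1513 = n3449 := rfl
theorem F5428 : act 3 n3449 = n1517 := d7_1 D3449 (iv6 D1517) (iv3 F2624)
def n3450 : Q := act 3 n1514
theorem D3450 : act 3 n1514 = n3450 := rfl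
theorem F5429 : act 5 n3450 = n1583 := d6_2 (iv5 F2625) D3450 (iv3 D1583)
def n3451 : Q := act 6 n1514
theorem D3451 : act 6 n1514 = n3451 := rfl
theorem F5430 : act 4 n3451 = n1626 := d10_1 D3451 (iv6 D1626) (iv4 F2626)
def n3452 : Q := act 3 n1515
theorem D3452 : act 3 n1515 = n3452 := rfl
theorem F5431 : act 5 n3452 = n1616 := d6_2 (iv5 F2629) D3452 (iv3 D1616)
def n3453 : Q := act 6 n1515
theorem D3453 : act 6 n1515 = n3453 := rfl
theorem F5432 : act 4 n3453 = n1602 := d10_1 D3453 (iv6 D1602) (iv4 F2630)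
def n3454 : Q := act 0 n1516
theorem D3454 : act 0 n1516 = n3454 := rfl
def n3455 : Q := act 1 n1516
theorem D3455 : act 1 n1516 = n3455 := rfl
def n3456 : Q := act 7 n1516
theorem D3456 : act 7 n1516 = n3456 := rfl
def n3457 : Q := act 0 n1517
theorem D3457 : act 0 n1517 = n3457 := rfl
def n3458 : Q := act 1 n1517
theorem D3458 : act 1 n1517 = n3458 := rfl
def n3459 : Q := act 5 n1517
theorem D3459 : act 5 n1517 = n3459 := rfl
def n3460 : Q := act 4 n1518
theorem D3460 : act 4 n1518 = n3460 := rfl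
def n3461 : Q := act 5 n1518
theorem D3461 : act 5 n1518 = n3461 := rfl
theorem F5433 : act 3 n3461 = n3461 := d6_1 D3461 (iv5 D3461) F5208
theorem F5434 : act 6 n3461 = n2999 := d12_2 F4053 D3461 F4691 (iv6 D2550) D2549
theorem F5435 : act 0 n3354 = n3461 := d21_10 (iv5 D3461) (iv1 F3952) F3949 (iv6 D2500) (iv1 F2121) D1463 D3304 F5337 (iv5 D3353) D3354
def n3462 : Q := act 3 n1519
theorem D3462 : act 3 n1519 = n3462 := rfl
theorem F5436 : act 2 n3462 = n3462 := d0_1 D3462 (iv3 D3462) (iv2 F5267) F5268 F5267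
def n3463 : Q := act 4 n1519
theorem D3463 : act 4 n1519 = n3463 := rfl
def n3464 : Q := act 5 n1519
theorem D3464 : act 5 n1519 = n3464 := rfl
theorem F5437 : act 6 n3329 = n3464 := d21_5 F1331 (iv1 F1365) (iv5 F1513) D1472 D3329 (iv5 D3464) (iv1 D1519) F1530 (iv6 D820) (iv1 F1329)
def n3465 : Q := act 6 n1519
theorem D3465 : act 6 n1519 = n3465 := rfl
theorem F5439 : act 5 n3465 = n3305 := d21_6 (iv5 D791) (iv1 F1316) (iv5 F2119) D2500 (iv1 F3951) D3465 (iv1 F5296) F4725 (iv6 F4619) (iv1 D1431)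
def n3466 : Q := act 3 n1527
theorem D3466 : act 3 n1527 = n3466 := rfl
theorem F5440 : act 4 n3466 = n1550 := d5_2 D1527 D3466 (iv3 D1550) (iv4 D839) (iv3 F1572)
theorem F5441 : act 7 n3466 = n3331 := d8_2 (iv7 F2666) D3466 (iv3 D3331)
def n3467 : Q := act 3 n1528
theorem D3467 : act 3 n1528 = n3467 := rfl
theorem F5442 : act 2 n3467 = n2389 := d0_1 D3467 F3781 (iv2 F3385) F3483 F3486
theorem F5443 : act 4 n3467 = n1529 := d5_2 F3783 D3467 (iv3 F3483) F3387 (iv3 F3781)
theorem F5444 : act 5 n3467 = n2388 := d6_2 (iv5 F3488) D3467 F3776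
theorem F5445 : act 7 n3467 = n3467 := d8_2 F3487 D3467 (iv3 D3467)
theorem F5446 : act 0 n2384 = n3467 := d20_4 F1434 D1042 (iv4 F2070) D2384 (iv3 D3467) (iv4 F3783) (iv1 F3785) F3762 (iv3 D2376) F2062
theorem F5447 : act 1 n2307 = n3467 := d15_0 (iv0 F5446) F3763 F3761
def n3468 : Q := act 6 n1528
theorem D3468 : act 6 n1528 = n3468 := rfl
def n3469 : Q := act 6 n1529
theorem D3469 : act 6 n1529 = n3469 := rfl
theorem F5448 : act 2 n3469 = n3468 := d3_1 D3469 (iv6 D3468) (iv2 F3486)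
def n3470 : Q := act 6 n1530
theorem D3470 : act 6 n1530 = n3470 := rfl
theorem F5449 : act 2 n3470 = n1531 := d3_1 D3470 (iv6 D1531) D1530
theorem F5450 : act 3 n3470 = n3084 := d7_1 D3470 (iv6 D3084) (iv3 F2669)
def n3471 : Q := act 0 n1531
theorem D3471 : act 0 n1531 = n3471 := rfl
def n3472 : Q := act 1 n1531
theorem D3472 : act 1 n1531 = n3472 := rfl
def n3473 : Q := act 5 n1531
theorem D3473 : act 5 n1531 = n3473 := rfl
theorem F5451 : act 3 n3473 = n1534 := d6_1 D3473 (iv5 D1534) (iv3 F2674)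
theorem F5452 : act 6 n3473 = n2430 := d12_2 D1531 D3473 (iv5 D2430) (iv6 D1148) (iv5 F1575)
def n3474 : Q := act 7 n1531
theorem D3474 : act 7 n1531 = n3474 := rfl
theorem F5453 : act 3 n3474 = n1535 := d8_1 D3474 (iv7 D1535) (iv3 F2674)
theorem F5454 : act 6 n3474 = n3474 := d14_1 D3474 (iv7 D3474) (iv6 D1531) F1576 D1531
def n3475 : Q := act 2 n1532
theorem D3475 : act 2 n1532 = n3475 := rfl
theorem F5455 : act 7 n1533 = n3475 := d15_2 (iv0 D1532) D1533 (iv2 D3475)
def n3476 : Q := act 3 n1532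
theorem D3476 : act 3 n1532 = n3476 := rfl
def n3477 : Q := act 4 n1532
theorem D3477 : act 4 n1532 = n3477 := rfl
def n3478 : Q := act 5 n1532
theorem D3478 : act 5 n1532 = n3478 := rfl
def n3479 : Q := act 6 n1532
theorem D3479 : act 6 n1532 = n3479 := rfl
theorem F5456 : act 5 n3479 = n2443 := d21_6 F755 (iv1 F751) (iv5 F809) D834 D1532 D3479 (iv1 D2443) (iv5 D1151) (iv6 D697) (iv1 F753)
theorem F5457 : act 4 n2200 = n3479 := d17_4 (iv1 F1935) (iv5 F2397) (iv1 F3427) (iv5 F3564) F5456 F3830 F2539 F2110 F5127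
theorem E705 : n3477 = n1076 := (c10_4 D2200 F5457 (iv6 D3479) D3477)
theorem E706 : n2198 = n1532 := ((D2198).symm.trans (sb E705 (iv4 D3477)))
theorem F5458 : act 4 n1532 = n1076 := (sb E706 (iv4 D2198))
theorem F5459 : act 4 n2196 = n3475 := d1_2 F5458 D2196 (iv2 D3475)
theorem E707 : n2203 = n1533 := ((c11_3 F3563 F5459 (iv7 F5455) (iv4 D2203))).symm
theorem F5460 : act 4 n1533 = n1077 := (sb E707 (iv4 D2203))
theorem E708 : n2202 = n2163 := (c20_4 (iv4 F2535) (iv1 F2675) F5460 D2202 (iv1 D2163) F1985 (iv4 F1988) (iv1 F4937) (iv4 D1538) F5197 (iv1 F2189))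
theorem F5461 : act 3 n2163 = n1077 := (sb E708 (iv3 D2202))
def n3480 : Q := act 7 n1532
theorem D3480 : act 7 n1532 = n3480 := rfl
def n3481 : Q := act 3 n1533
theorem D3481 : act 3 n1533 = n3481 := rfl
def n3482 : Q := act 5 n1533
theorem D3482 : act 5 n1533 = n3482 := rfl
def n3483 : Q := act 6 n1533
theorem D3483 : act 6 n1533 = n3483 := rfl
theorem F5464 : act 4 n3483 = n2205 := d10_1 D3483 (iv6 D2205) (iv4 F5460)
def n3484 : Q := act 0 n1534
theorem D3484 : act 0 n1534 = n3484 := rfl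
theorem F5465 : act 5 n3484 = n3151 := d17_3 (iv1 D1533) D1534 D3484 F4945 (iv5 F4438) (iv0 D2206) (iv5 D1078) D1077 (iv4 F5460)
theorem F5466 : act 7 n3122 = n3484 := d13_0 F5465 (iv7 D3151) F4845
theorem F5467 : act 2 n3484 = n3121 := d15_3 (iv0 D3121) D3122 F5466
def n3485 : Q := act 1 n1534
theorem D3485 : act 1 n1534 = n3485 := rfl
theorem F5468 : act 1 n3485 = n3124 := d15_1 D3485 (iv7 D3124) (iv2 F2676)
theorem F5469 : act 7 n3485 = n3121 := d15_2 (iv0 D3484) D3485 (iv2 F5467)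
theorem F5470 : act 5 n2436 = n3485 := d21_6 (iv5 F650) (iv1 F812) F809 D697 D1149 D2436 (iv1 D3485) (iv5 D1534) (iv6 D834) F811
theorem F5471 : act 2 n3485 = n3122 := d2_1 F5470 (iv5 F4845) (iv2 F5132)
theorem F5472 : act 1 n3124 = n3484 := d15_1 F5468 (iv7 F5466) (iv2 F5471)
theorem F5473 : act 1 n3151 = n2945 := d17_8 F4539 (iv5 F3871) (iv1 F4059) F4057 (iv4 F2535) (iv5 F4847) F5472 F5465 F4639
def n3486 : Q := act 4 n1534
theorem D3486 : act 4 n1534 = n3486 := rfl
theorem F5474 : act 2 n3486 = n3123 := d1_1 D3486 (iv4 D3123) (iv2 F2676)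
theorem F5475 : act 6 n3486 = n2444 := d10_2 (iv6 F2677) D3486 (iv4 D2444)
def n3487 : Q := act 7 n1534
theorem D3487 : act 7 n1534 = n3487 := rfl
theorem F5476 : act 2 n3487 = n3124 := d4_1 D3487 (iv7 D3124) (iv2 F2676)
theorem F5477 : act 5 n3487 = n1535 := d13_1 D3487 (iv7 D1535) D1534
theorem F5478 : act 1 n3122 = n3487 := d15_1 D3122 (iv7 D3487) F2676
theorem F5479 : act 1 n3487 = n3121 := d15_1 F5478 (iv7 F5469) F5471
def n3488 : Q := act 3 n1538
theorem D3488 : act 3 n1538 = n3488 := rfl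
theorem F5480 : act 4 n3488 = n3488 := d5_2 D1538 D3488 (iv3 D3488) (iv4 D1538) F5197
def n3489 : Q := act 5 n1538
theorem D3489 : act 5 n1538 = n3489 := rfl
def n3490 : Q := act 6 n1538
theorem D3490 : act 6 n1538 = n3490 := rfl
theorem F5481 : act 2 n3490 = n3302 := d3_1 D3490 F5291 (iv2 F5272)
theorem F5482 : act 4 n3490 = n1540 := d10_1 D3490 (iv6 D1540) D1538
theorem F5483 : act 5 n3490 = n2826 := d21_6 F748 F743 (iv5 F1250) D1069 (iv1 F4937) D3490 (iv1 D2826) (iv5 D1292) (iv6 D752) (iv1 F749)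
theorem F5484 : act 7 n3288 = n3490 := d11_0 F5482 F5250 D3288
theorem F5485 : act 1 n2271 = n3490 := d17_8 F4626 (iv5 F2556) F2558 (iv5 D796) D795 D1447 F5018 (iv5 F5083) F5482
theorem F5486 : act 0 n2827 = n3165 := d18_2 (iv1 D2826) D2827 (iv4 D3165) D3166 F4996 (iv0 D2273) (iv4 F3620) F5485 F5483
def n3491 : Q := act 4 n1539
theorem D3491 : act 4 n1539 = n3491 := rfl
def n3492 : Q := act 6 n1539
theorem D3492 : act 6 n1539 = n3492 := rfl
theorem F5487 : act 2 n3492 = n3304 := d3_1 D3492 F5295 F5262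
theorem F5488 : act 3 n3492 = n3492 := d7_1 D3492 (iv6 D3492) F5198
theorem F5489 : act 5 n3492 = n2494 := d12_1 D3492 (iv6 D2494) (iv5 F2685) (iv6 D1540) D1539
def n3493 : Q := act 0 n1542
theorem D3493 : act 0 n1542 = n3493 := rfl
theorem F5490 : act 1 n2543 = n3493 := d15_0 (iv0 D3493) (iv7 F5258) F5206
def n3494 : Q := act 1 n1542
theorem D3494 : act 1 n1542 = n3494 := rfl
theorem F5491 : act 1 n3494 = n2543 := d15_1 D3494 F5258 F5209
def n3495 : Q := act 4 n1542
theorem D3495 : act 4 n1542 = n3495 := rfl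
def n3496 : Q := act 5 n1542
theorem D3496 : act 5 n1542 = n3496 := rfl
theorem F5493 : act 2 n3496 = n3496 := d2_1 D3496 (iv5 D3496) F5209
theorem F5494 : act 3 n3496 = n1544 := d6_1 D3496 (iv5 D1544) D1542
def n3497 : Q := act 6 n1542
theorem D3497 : act 6 n1542 = n3497 := rfl
theorem F5495 : act 2 n3497 = n3497 := d3_1 D3497 (iv6 D3497) F5209
theorem F5496 : act 3 n3497 = n1545 := d7_1 D3497 (iv6 D1545) D1542
def n3498 : Q := act 3 n1543
theorem D3498 : act 3 n1543 = n3498 := rfl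
def n3499 : Q := act 5 n1543
theorem D3499 : act 5 n1543 = n3499 := rfl
def n3500 : Q := act 6 n1543
theorem D3500 : act 6 n1543 = n3500 := rfl
theorem F5497 : act 4 n3500 = n1545 := d10_1 D3500 (iv6 D1545) D1543
def n3501 : Q := act 4 n1544
theorem D3501 : act 4 n1544 = n3501 := rfl
def n3502 : Q := act 4 n1546
theorem D3502 : act 4 n1546 = n3502 := rfl
theorem F5498 : act 2 n3502 = n3277 := d1_1 D3502 F5214 (iv2 F3875)
theorem F5499 : act 6 n3502 = n2483 := d10_2 (iv6 F2687) D3502 (iv4 D2483)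
theorem F5500 : act 7 n3502 = n3238 := d11_2 F3874 D3502 (iv4 D3238)
theorem F5501 : act 1 n3277 = n2208 := d15_0 F5202 (iv7 F5500) F5498
def n3503 : Q := act 3 n1547
theorem D3503 : act 3 n1547 = n3503 := rfl
theorem F5502 : act 2 n3503 = n3503 := d0_1 D3503 (iv3 D3503) (iv2 F3896) F5064 F3896
theorem F5503 : act 5 n3503 = n2457 := d6_2 F2688 D3503 F3846
theorem F5504 : act 7 n3503 = n3260 := d8_2 (iv7 F3895) D3503 F5045
def n3504 : Q := act 4 n1547
theorem D3504 : act 4 n1547 = n3504 := rfl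
theorem F5505 : act 2 n3504 = n3238 := d1_1 D3504 (iv4 D3238) F3896
theorem F5506 : act 7 n3504 = n3277 := d11_2 (iv7 F3895) D3504 F5214
theorem F5507 : act 0 n3504 = n2186 := d18_2 (iv1 F4058) D3504 (iv4 D2186) (iv5 D1072) (iv4 F1988) (iv0 F5274) (iv4 D1543) F2188 (iv5 F4057)
theorem F5508 : act 1 n3502 = n2186 := d15_0 (iv0 F5507) F5506 (iv2 F5498)
def n3505 : Q := act 6 n1547
theorem D3505 : act 6 n1547 = n3505 := rfl
theorem F5509 : act 2 n3505 = n3236 := d3_1 D3505 F5031 F3896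
theorem F5510 : act 5 n3505 = n2468 := d12_1 D3505 (iv6 D2468) (iv5 D1156) D1157 F2688
theorem F5511 : act 7 n3505 = n2468 := d14_2 (iv7 F3895) D3505 (iv6 D2468) F3880 D1450
theorem F5512 : act 0 n3505 = n3235 := d21_10 (iv5 F5032) (iv1 F4011) F4007 F4008 (iv1 F2473) D3018 F4732 (iv1 D2471) F2688 D3505
theorem F5513 : act 0 n3234 = n3505 := d21_1 (iv5 F5029) F5510 (iv6 D2468) D2465 (iv6 F3854) (iv5 D1348) (iv1 F1491) (iv5 F2451) (iv6 F4008) (iv1 F4010)
theorem E709 : n3410 = n3290 := ((c21_5 F3853 F3902 (iv5 D1457) D1458 D3290 (iv6 D3410) (iv5 F5029) F5513 F5510 (iv6 D2468) D2465)).symm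
theorem F5514 : act 6 n3290 = n1501 := (sb E709 (iv6 D3410))
def n3506 : Q := act 0 n1548
theorem D3506 : act 0 n1548 = n3506 := rfl
theorem F5515 : act 4 n3506 = n2206 := d18_3 (iv1 D1547) D1548 D3506 F4438 (iv4 F4945) F5473 F4639 F4540 F2688
def n3507 : Q := act 1 n1548
theorem D3507 : act 1 n1548 = n3507 := rfl
theorem F5516 : act 4 n3507 = n2207 := d18_7 (iv1 F1995) (iv4 F5460) (iv1 D1533) F1578 D837 D1548 D3507 F3567 F3543
def n3508 : Q := act 3 n1548
theorem D3508 : act 3 n1548 = n3508 := rfl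
theorem F5517 : act 6 n3508 = n1550 := d7_2 (iv6 F2689) D3508 (iv3 D1550)
def n3509 : Q := act 5 n1548
theorem D3509 : act 5 n1548 = n3509 := rfl
def n3510 : Q := act 7 n1548
theorem D3510 : act 7 n1548 = n3510 := rfl
theorem F5518 : act 4 n3510 = n1549 := d11_1 D3510 (iv7 D1549) D1548
def n3511 : Q := act 6 n1549
theorem D3511 : act 6 n1549 = n3511 := rfl
theorem F5519 : act 2 n3511 = n3330 := d3_1 D3511 F5319 F4056
theorem F5520 : act 5 n3511 = n3511 := d12_1 D3511 (iv6 D3511) F2690 F1580 (iv5 F2690)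
theorem F5521 : act 7 n3511 = n1553 := d14_2 D1549 D3511 (iv6 D1553) (iv7 D840) (iv6 F1579)
theorem F5522 : act 0 n3511 = n3292 := d21_4 (iv5 D2545) (iv1 F2187) (iv5 F2690) D3511 F5279 (iv5 F4535) (iv1 D2690) F2474 D3018 F4735
theorem F5523 : act 0 n3329 = n3511 := d21_4 F3949 (iv1 F3951) D3464 (iv6 F5437) (iv6 D3511) F2690 (iv1 F2182) D2549 F4053 (iv1 F3952)
def n3512 : Q := act 0 n1550
theorem D3512 : act 0 n1550 = n3512 := rfl
def n3513 : Q := act 1 n1550
theorem D3513 : act 1 n1550 = n3513 := rfl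
def n3514 : Q := act 2 n1550
theorem D3514 : act 2 n1550 = n3514 := rfl
def n3515 : Q := act 5 n1550
theorem D3515 : act 5 n1550 = n3515 := rfl
theorem F5524 : act 3 n3515 = n1551 := d6_1 D3515 (iv5 D1551) D1550
def n3516 : Q := act 7 n1550
theorem D3516 : act 7 n1550 = n3516 := rfl
theorem F5525 : act 3 n3516 = n1552 := d8_1 D3516 (iv7 D1552) D1550
theorem F5526 : act 4 n3516 = n3331 := d11_1 D3516 (iv7 F5441) F5440
def n3517 : Q := act 6 n1551
theorem D3517 : act 6 n1551 = n3517 := rfl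
def n3518 : Q := act 6 n1552
theorem D3518 : act 6 n1552 = n3518 := rfl
theorem F5527 : act 2 n3518 = n3328 := d3_1 D3518 (iv6 D3328) (iv2 F2692)
theorem F5528 : act 4 n3518 = n1553 := d10_1 D3518 (iv6 D1553) (iv4 F2693)
def n3519 : Q := act 0 n1553
theorem D3519 : act 0 n1553 = n3519 := rfl
theorem F5529 : act 1 n3330 = n3519 := d15_0 (iv0 D3519) (iv7 F5521) F5519
def n3520 : Q := act 1 n1553
theorem D3520 : act 1 n1553 = n3520 := rfl
theorem F5530 : act 1 n3520 = n3330 := d15_1 D3520 (iv7 D3330) (iv2 F2696)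
theorem F5531 : act 6 n3000 = n3520 := d21_3 (iv5 F4584) (iv1 F4577) F4698 (iv1 D3520) (iv6 D1553) F1582 (iv1 F815) (iv5 F797) (iv6 F1475) D1332
theorem F5532 : act 5 n2490 = n3520 := d21_6 (iv5 D704) (iv1 D403) D404 (iv6 F1311) D1163 D2490 (iv1 D3520) F2697 (iv6 D1553) (iv1 F1583)
theorem F5533 : act 2 n3520 = n3292 := d2_1 F5532 (iv5 D3292) (iv2 F5243)
theorem F5534 : act 7 n3329 = n3520 := d15_2 (iv0 F5522) (iv0 F5523) F5533
theorem F5535 : act 7 n3519 = n3292 := d15_2 F5530 F5529 (iv2 F5533)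
theorem F5536 : act 2 n3329 = n3519 := d4_3 F5535 (iv2 F5533) (iv7 F5534)
theorem F5537 : act 3 n3519 = n3519 := d8_3 F5535 F5278 (iv7 F5535)
theorem F5538 : act 5 n3293 = n3519 := d13_3 F5535 (iv5 D3292) D3293
def n3521 : Q := act 4 n1556
theorem D3521 : act 4 n1556 = n3521 := rfl
theorem F5539 : act 2 n3521 = n2419 := d1_1 D3521 F3811 (iv2 F3468)
theorem F5540 : act 7 n3521 = n2418 := d11_2 (iv7 F2709) D3521 F3810
theorem F5541 : act 0 n3521 = n2086 := d18_2 (iv1 F3474) D3521 (iv4 D2086) (iv5 D1034) F1219 (iv0 F1220) (iv4 F1378) F2417 (iv5 F3473)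
theorem F5542 : act 1 n3521 = n2422 := d18_6 F2166 F1350 D1184 F2172 D1556 D3521 F3813 F3408 F3406
def n3522 : Q := act 6 n1556
theorem D3522 : act 6 n1556 = n3522 := rfl
theorem F5543 : act 3 n3522 = n1557 := d7_1 D3522 (iv6 D1557) (iv3 F2708)
theorem F5544 : act 5 n3522 = n3522 := d12_1 D3522 (iv6 D3522) (iv5 D1556) F1585 D1556
def n3523 : Q := act 0 n1557
theorem D3523 : act 0 n1557 = n3523 := rfl
def n3524 : Q := act 1 n1557
theorem D3524 : act 1 n1557 = n3524 := rfl
theorem F5545 : act 1 n3524 = n2883 := d15_1 D3524 (iv7 D2883) (iv2 F2711)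
def n3525 : Q := act 7 n1557
theorem D3525 : act 7 n1557 = n3525 := rfl
theorem F5546 : act 2 n3525 = n2883 := d4_1 D3525 (iv7 D2883) (iv2 F2711)
theorem F5547 : act 5 n3525 = n3525 := d13_1 D3525 (iv7 D3525) F2712
theorem F5548 : act 6 n3525 = n2793 := d14_1 D3525 (iv7 D2793) F2374 (iv7 F1588) D1557
theorem F5549 : act 1 n2883 = n3523 := d15_0 (iv0 D3523) D3525 F5546
theorem F5550 : act 1 n2882 = n3525 := d15_1 D2882 (iv7 D3525) F2711
theorem F5551 : act 1 n3525 = n2881 := d15_0 (iv0 D2881) D2883 (iv2 F5546)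
def n3526 : Q := act 0 n1558
theorem D3526 : act 0 n1558 = n3526 := rfl
def n3527 : Q := act 1 n1558
theorem D3527 : act 1 n1558 = n3527 := rfl
theorem F5552 : act 4 n1837 = n3527 := d20_6 F1131 (iv1 F566) D334 D628 D962 D1837 (iv1 D3527) F2713 (iv3 D919) (iv1 F1132)
def n3528 : Q := act 2 n1558
theorem D3528 : act 2 n1558 = n3528 := rfl
theorem F5553 : act 4 n3528 = n1733 := d1_2 (iv4 F2713) D3528 (iv2 D1733)
def n3529 : Q := act 6 n1558
theorem D3529 : act 6 n1558 = n3529 := rfl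
theorem F5554 : act 3 n3529 = n1559 := d7_1 D3529 (iv6 D1559) D1558
theorem F5555 : act 4 n3529 = n1734 := d10_1 D3529 (iv6 D1734) (iv4 F2713)
def n3530 : Q := act 5 n1559
theorem D3530 : act 5 n1559 = n3530 := rfl
theorem F5556 : act 1 n3530 = n1699 := d17_6 (iv1 F5367) F2897 F2898 (iv5 F1727) (iv4 F2714) D3530 (iv5 D1699) D1698 (iv4 F5364)
def n3531 : Q := act 7 n1559
theorem D3531 : act 7 n1559 = n3531 := rfl
theorem F5557 : act 4 n3531 = n1730 := d11_1 D3531 (iv7 D1730) (iv4 F2714)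
theorem F5558 : act 6 n3531 = n2645 := d14_1 D3531 F4245 F2871 F1701 D1559
theorem F5559 : act 1 n2578 = n3531 := d15_1 (iv0 F4123) (iv7 D3531) (iv2 F2913)
theorem F5560 : act 1 n3531 = n1831 := d15_1 F5559 F3115 (iv2 F4120)
def n3532 : Q := act 0 n1560
theorem D3532 : act 0 n1560 = n3532 := rfl
def n3533 : Q := act 1 n1560
theorem D3533 : act 1 n1560 = n3533 := rfl
def n3534 : Q := act 2 n1560
theorem D3534 : act 2 n1560 = n3534 := rfl
theorem F5561 : act 4 n3534 = n3534 := d1_2 F2715 D3534 (iv2 D3534)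
def n3535 : Q := act 6 n1560
theorem D3535 : act 6 n1560 = n3535 := rfl
theorem F5562 : act 3 n3535 = n1561 := d7_1 D3535 (iv6 D1561) D1560
theorem F5563 : act 4 n3535 = n3535 := d10_1 D3535 (iv6 D3535) F2715
def n3536 : Q := act 5 n1561
theorem D3536 : act 5 n1561 = n3536 := rfl
def n3537 : Q := act 0 n1562
theorem D3537 : act 0 n1562 = n3537 := rfl
theorem F5564 : act 2 n1566 = n3537 := d15_3 (iv0 D3537) (iv0 D1562) D1566
theorem F5565 : act 4 n3537 = n1768 := d1_2 (iv4 F2722) F5564 (iv2 F3026)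
theorem F5566 : act 7 n3537 = n1564 := d4_2 D1566 F5564 (iv2 D1564)
theorem F5567 : act 1 n1563 = n3537 := d15_1 D1563 F5566 (iv2 D1564)
def n3538 : Q := act 2 n1562
theorem D3538 : act 2 n1562 = n3538 := rfl
theorem F5568 : act 7 n1563 = n3538 := d15_2 (iv0 D1562) D1563 (iv2 D3538)
def n3539 : Q := act 3 n1562
theorem D3539 : act 3 n1562 = n3539 := rfl
def n3540 : Q := act 4 n1562
theorem D3540 : act 4 n1562 = n3540 := rfl
def n3541 : Q := act 5 n1562
theorem D3541 : act 5 n1562 = n3541 := rfl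
def n3542 : Q := act 6 n1562
theorem D3542 : act 6 n1562 = n3542 := rfl
def n3543 : Q := act 7 n1562
theorem D3543 : act 7 n1562 = n3543 := rfl
theorem F5569 : act 2 n3543 = n1563 := d4_1 D3543 F5568 (iv2 D3538)
def n3544 : Q := act 3 n1563
theorem D3544 : act 3 n1563 = n3544 := rfl
def n3545 : Q := act 4 n1563
theorem D3545 : act 4 n1563 = n3545 := rfl
theorem F5570 : act 3 n1795 = n3545 := d20_5 (iv4 D602) (iv1 F941) (iv4 F1138) D944 D1795 (iv4 D3545) (iv1 D1563) F1593 (iv3 D617) (iv1 F947)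
def n3546 : Q := act 5 n1563
theorem D3546 : act 5 n1563 = n3546 := rfl
def n3547 : Q := act 6 n1563
theorem D3547 : act 6 n1563 = n3547 := rfl
def n3548 : Q := act 0 n1564
theorem D3548 : act 0 n1564 = n3548 := rfl
theorem F5571 : act 1 n1566 = n3548 := d15_0 (iv0 D3548) (iv7 F5566) (iv2 F5564)
def n3549 : Q := act 1 n1564
theorem D3549 : act 1 n1564 = n3549 := rfl
theorem F5572 : act 1 n3549 = n1566 := d15_1 D3549 (iv7 D1566) D1564
def n3550 : Q := act 5 n1564
theorem D3550 : act 5 n1564 = n3550 := rfl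
theorem F5573 : act 2 n3550 = n1565 := d2_1 D3550 (iv5 D1565) D1564
def n3551 : Q := act 0 n1565
theorem D3551 : act 0 n1565 = n3551 := rfl
def n3552 : Q := act 1 n1565
theorem D3552 : act 1 n1565 = n3552 := rfl
def n3553 : Q := act 4 n1565
theorem D3553 : act 4 n1565 = n3553 := rfl
def n3554 : Q := act 6 n1565
theorem D3554 : act 6 n1565 = n3554 := rfl
theorem F5574 : act 3 n3554 = n1568 := d7_1 D3554 (iv6 D1568) (iv3 F2720)
theorem F5575 : act 5 n3554 = n1684 := d12_1 D3554 (iv6 D1684) (iv5 D892) (iv6 F1594) D1565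
def n3555 : Q := act 7 n1565
theorem D3555 : act 7 n1565 = n3555 := rfl
theorem F5576 : act 3 n3555 = n1569 := d8_1 D3555 (iv7 D1569) (iv3 F2720)
theorem F5577 : act 5 n3555 = n1566 := d13_1 D3555 (iv7 D1566) D1565
def n3556 : Q := act 6 n1566
theorem D3556 : act 6 n1566 = n3556 := rfl
theorem F5578 : act 3 n3556 = n1570 := d7_1 D3556 (iv6 D1570) (iv3 F2721)
theorem F5579 : act 4 n3556 = n1787 := d10_1 D3556 (iv6 D1787) (iv4 F2722)
theorem F5580 : act 7 n3556 = n1686 := d14_2 D1566 D3556 (iv6 D1686) (iv7 D893) (iv6 F1594)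
def n3557 : Q := act 3 n1567
theorem D3557 : act 3 n1567 = n3557 := rfl
theorem F5581 : act 5 n3557 = n3327 := d6_2 (iv5 F2723) D3557 (iv3 D3327)
def n3558 : Q := act 6 n1567
theorem D3558 : act 6 n1567 = n3558 := rfl
theorem F5582 : act 4 n3558 = n1568 := d10_1 D3558 (iv6 D1568) D1567
def n3559 : Q := act 0 n1568
theorem D3559 : act 0 n1568 = n3559 := rfl
def n3560 : Q := act 1 n1568
theorem D3560 : act 1 n1568 = n3560 := rfl
def n3561 : Q := act 7 n1568
theorem D3561 : act 7 n1568 = n3561 := rfl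
theorem F5583 : act 5 n3561 = n1695 := d13_1 D3561 (iv7 D1695) (iv5 F2724)
def n3562 : Q := act 6 n1569
theorem D3562 : act 6 n1569 = n3562 := rfl
def n3563 : Q := act 5 n1570
theorem D3563 : act 5 n1570 = n3563 := rfl
theorem F5584 : act 7 n3563 = n1699 := d13_2 (iv7 F2729) D3563 (iv5 D1699)
def n3564 : Q := act 4 n1571
theorem D3564 : act 4 n1571 = n3564 := rfl
theorem F5585 : act 2 n3564 = n2422 := d1_1 D3564 F3813 (iv2 F2731)
theorem F5586 : act 7 n3564 = n2086 := d11_2 (iv7 F2733) D3564 (iv4 D2086)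
theorem F5587 : act 0 n3564 = n2419 := d18_2 F2734 D3564 F3811 F3467 (iv4 F3805) (iv0 F3806) F2169 (iv0 F2170) (iv5 F2091)
theorem F5588 : act 1 n3564 = n2418 := d18_6 (iv1 F2409) (iv4 F1298) F1604 F1601 D1571 D3564 F3810 (iv0 F2399) (iv5 D1052)
def n3565 : Q := act 6 n1571
theorem D3565 : act 6 n1571 = n3565 := rfl
theorem F5589 : act 2 n3565 = n2423 := d3_1 D3565 (iv6 D2423) (iv2 F2731)
theorem F5590 : act 3 n3565 = n1573 := d7_1 D3565 (iv6 D1573) (iv3 F2732)
theorem F5591 : act 5 n3565 = n3565 := d12_1 D3565 (iv6 D3565) (iv5 D1571) F1602 D1571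
def n3566 : Q := act 3 n1572
theorem D3566 : act 3 n1572 = n3566 := rfl
theorem F5592 : act 7 n3566 = n2109 := d8_2 (iv7 F2738) D3566 (iv3 D2109)
def n3567 : Q := act 6 n1572
theorem D3567 : act 6 n1572 = n3567 := rfl
theorem F5593 : act 2 n3567 = n2891 := d3_1 D3567 (iv6 D2891) (iv2 F2737)
theorem F5594 : act 4 n3567 = n1573 := d10_1 D3567 (iv6 D1573) D1572
def n3568 : Q := act 0 n1573
theorem D3568 : act 0 n1573 = n3568 := rfl
theorem F5595 : act 6 n3568 = n2204 := d21_5 (iv5 D525) D522 D850 D1573 D3568 (iv5 D2204) (iv1 D1077) D1078 F1998 F1573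
theorem F5596 : act 0 n3568 = n2878 := d21_4 F3543 (iv1 F1995) D2204 (iv6 F5595) (iv6 D2878) F2397 (iv1 F1930) D2103 (iv6 F3566) (iv1 F3574)
def n3569 : Q := act 1 n1573
theorem D3569 : act 1 n1573 = n3569 := rfl
theorem F5597 : act 1 n3569 = n2878 := d15_1 D3569 F4473 (iv2 F2741)
def n3570 : Q := act 7 n1573
theorem D3570 : act 7 n1573 = n3570 := rfl
theorem F5598 : act 2 n3570 = n2878 := d4_1 D3570 F4473 (iv2 F2741)
theorem F5599 : act 5 n3570 = n3570 := d13_1 D3570 (iv7 D3570) F2742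
theorem F5600 : act 6 n3570 = n2108 := d14_1 D3570 (iv7 D2108) F1932 (iv7 F1608) D1573
theorem F5601 : act 1 n2893 = n3570 := d15_1 D2893 (iv7 D3570) F2741
theorem F5602 : act 0 n2892 = n3570 := d21_4 F3573 (iv1 F2003) D2182 (iv6 F4492) F5600 F3431 (iv1 F1936) D1302 (iv6 F3540) (iv1 F3576)
def n3571 : Q := act 4 n1574
theorem D3571 : act 4 n1574 = n3571 := rfl
theorem F5603 : act 7 n3571 = n2117 := d11_2 (iv7 F2744) D3571 (iv4 D2117)
theorem F5604 : act 0 n3571 = n2879 := d18_2 F3464 D3571 (iv4 D2879) F2420 F2172 (iv0 F2636) F2635 (iv0 F2632) (iv5 F2398)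
def n3572 : Q := act 6 n1574
theorem D3572 : act 6 n1574 = n3572 := rfl
theorem F5605 : act 3 n3572 = n3356 := d7_1 D3572 (iv6 D3356) (iv3 F2743)
theorem F5606 : act 5 n3572 = n3572 := d12_1 D3572 (iv6 D3572) (iv5 D1574) F2407 D1574
def n3573 : Q := act 4 n1575
theorem D3573 : act 4 n1575 = n3573 := rfl
theorem F5607 : act 2 n3573 = n1578 := d1_1 D3573 (iv4 D1578) (iv2 F2745)
theorem F5608 : act 0 n3573 = n3325 := d18_2 (iv1 F4125) D3573 (iv4 D3325) F2578 F2179 (iv0 F3808) F3805 F2706 (iv5 F4124)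
def n3574 : Q := act 6 n1575
theorem D3574 : act 6 n1575 = n3574 := rfl
theorem F5609 : act 2 n3574 = n1579 := d3_1 D3574 (iv6 D1579) (iv2 F2745)
def n3575 : Q := act 4 n1576
theorem D3575 : act 4 n1576 = n3575 := rfl
theorem F5610 : act 0 n3575 = n1614 := d18_2 D1576 D3575 (iv4 D1614) (iv5 D868) (iv4 F1378) F2417 F2413 (iv0 D851) D854
def n3576 : Q := act 6 n1576
theorem D3576 : act 6 n1576 = n3576 := rfl
theorem F5611 : act 3 n3576 = n3359 := d7_1 D3576 (iv6 D3359) F2747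
theorem F5612 : act 5 n3576 = n3576 := d12_1 D3576 (iv6 D3576) F2746 F2703 (iv5 F2746)
def n3577 : Q := act 4 n1577
theorem D3577 : act 4 n1577 = n3577 := rfl
theorem F5613 : act 1 n3577 = n1614 := d18_6 (iv1 F2181) F1555 F2632 (iv4 F2635) (iv5 F2748) D3577 (iv4 D1614) (iv0 F2583) F2578
def n3578 : Q := act 0 n1578
theorem D3578 : act 0 n1578 = n3578 := rfl
theorem F5614 : act 4 n3578 = n1580 := d18_3 (iv1 D1577) D1578 D3578 F2752 F2645 (iv0 F2649) F2172 (iv0 F2636) (iv5 F2748)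
theorem F5615 : act 2 n3325 = n3578 := d15_3 (iv0 D3578) (iv0 F4050) (iv7 F5312)
def n3579 : Q := act 3 n1578
theorem D3579 : act 3 n1578 = n3579 := rfl
theorem F5616 : act 4 n3579 = n1583 := d5_2 D1578 D3579 (iv3 D1583) (iv4 D856) (iv3 F1613)
def n3580 : Q := act 5 n1578
theorem D3580 : act 5 n1578 = n3580 := rfl
theorem F5617 : act 1 n3580 = n2421 := d17_6 (iv1 D2124) (iv5 D1052) (iv1 F2409) D854 D1578 D3580 (iv5 D2421) D2419 F3811
def n3581 : Q := act 6 n1578
theorem D3581 : act 6 n1578 = n3581 := rfl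
theorem F5618 : act 4 n3581 = n1579 := d10_1 D3581 (iv6 D1579) D1578
def n3582 : Q := act 0 n1579
theorem D3582 : act 0 n1579 = n3582 := rfl
def n3583 : Q := act 1 n1579
theorem D3583 : act 1 n1579 = n3583 := rfl
def n3584 : Q := act 7 n1579
theorem D3584 : act 7 n1579 = n3584 := rfl
theorem F5619 : act 3 n3584 = n1587 := d8_1 D3584 (iv7 D1587) (iv3 F2750)
def n3585 : Q := act 6 n1580
theorem D3585 : act 6 n1580 = n3585 := rfl
theorem F5620 : act 2 n3585 = n3326 := d3_1 D3585 (iv6 D3326) (iv2 F2751)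
theorem F5621 : act 3 n3585 = n1582 := d7_1 D3585 (iv6 D1582) D1580
theorem F5622 : act 5 n3585 = n3585 := d12_1 D3585 (iv6 D3585) F2752 F2646 (iv5 F2752)
def n3586 : Q := act 3 n1581
theorem D3586 : act 3 n1581 = n3586 := rfl
theorem F5623 : act 7 n3586 = n3334 := d8_2 (iv7 F2756) D3586 (iv3 D3334)
def n3587 : Q := act 6 n1581
theorem D3587 : act 6 n1581 = n3587 := rfl
theorem F5624 : act 2 n3587 = n3333 := d3_1 D3587 (iv6 D3333) (iv2 F2755)
theorem F5625 : act 4 n3587 = n1582 := d10_1 D3587 (iv6 D1582) D1581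
def n3588 : Q := act 0 n1582
theorem D3588 : act 0 n1582 = n3588 := rfl
def n3589 : Q := act 1 n1582
theorem D3589 : act 1 n1582 = n3589 := rfl
theorem F5626 : act 5 n2868 = n3589 := d21_6 (iv5 D545) (iv1 F999) D439 (iv6 F1465) D1304 D2868 (iv1 D3589) F2759 (iv6 D1582) (iv1 F1615)
def n3590 : Q := act 7 n1582
theorem D3590 : act 7 n1582 = n3590 := rfl
theorem F5627 : act 5 n3590 = n3590 := d13_1 D3590 (iv7 D3590) F2759
theorem F5628 : act 6 n3590 = n2187 := d14_1 D3590 (iv7 D2187) F2210 F2207 D1582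
def n3591 : Q := act 0 n1583
theorem D3591 : act 0 n1583 = n3591 := rfl
def n3592 : Q := act 1 n1583
theorem D3592 : act 1 n1583 = n3592 := rfl
def n3593 : Q := act 2 n1583
theorem D3593 : act 2 n1583 = n3593 := rfl
def n3594 : Q := act 6 n1583
theorem D3594 : act 6 n1583 = n3594 := rfl
theorem F5629 : act 3 n3594 = n1584 := d7_1 D3594 (iv6 D1584) D1583
def n3595 : Q := act 0 n1584
theorem D3595 : act 0 n1584 = n3595 := rfl
def n3596 : Q := act 1 n1584
theorem D3596 : act 1 n1584 = n3596 := rfl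
def n3597 : Q := act 5 n1584
theorem D3597 : act 5 n1584 = n3597 := rfl
def n3598 : Q := act 7 n1584
theorem D3598 : act 7 n1584 = n3598 := rfl
theorem F5630 : act 4 n3598 = n1587 := d11_1 D3598 (iv7 D1587) (iv4 F2760)
def n3599 : Q := act 2 n1585
theorem D3599 : act 2 n1585 = n3599 := rfl
theorem F5631 : act 7 n1586 = n3599 := d15_2 (iv0 D1585) D1586 (iv2 D3599)
def n3600 : Q := act 3 n1585
theorem D3600 : act 3 n1585 = n3600 := rfl
def n3601 : Q := act 4 n1585
theorem D3601 : act 4 n1585 = n3601 := rfl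
def n3602 : Q := act 5 n1585
theorem D3602 : act 5 n1585 = n3602 := rfl
def n3603 : Q := act 6 n1585
theorem D3603 : act 6 n1585 = n3603 := rfl
theorem F5632 : act 5 n3603 = n2882 := d21_6 (iv5 D439) (iv1 F1000) D525 D857 D1585 D3603 (iv1 D2882) F2424 (iv6 D1310) (iv1 D758)
theorem F5633 : act 0 n2850 = n3603 := d21_10 F5632 (iv1 D2882) F2424 (iv6 D1310) (iv1 D758) (iv6 F1465) (iv5 D755) D753 D1297 D2850
def n3604 : Q := act 7 n1585
theorem D3604 : act 7 n1585 = n3604 := rfl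
theorem F5634 : act 2 n3604 = n1586 := d4_1 D3604 F5631 (iv2 D3599)
def n3605 : Q := act 3 n1586
theorem D3605 : act 3 n1586 = n3605 := rfl
def n3606 : Q := act 4 n1586
theorem D3606 : act 4 n1586 = n3606 := rfl
def n3607 : Q := act 5 n1586
theorem D3607 : act 5 n1586 = n3607 := rfl
theorem F5635 : act 6 n3607 = n2881 := d21_3 (iv5 F4084) (iv1 F4087) D3607 (iv1 F5551) F5548 F4376 (iv1 F2377) D2801 (iv6 F4387) (iv1 F4145)
def n3608 : Q := act 6 n1586
theorem D3608 : act 6 n1586 = n3608 := rfl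
def n3609 : Q := act 0 n1588
theorem D3609 : act 0 n1588 = n3609 := rfl
theorem F5636 : act 1 n2557 = n3609 := d15_0 (iv0 D3609) F2762 D2557
def n3610 : Q := act 1 n1588
theorem D3610 : act 1 n1588 = n3610 := rfl
def n3611 : Q := act 2 n1588
theorem D3611 : act 2 n1588 = n3611 := rfl
theorem F5637 : act 3 n3611 = n3537 := d0_2 D1588 D3611 (iv2 F5564) F2721 (iv2 F1617)
theorem F5638 : act 4 n3611 = n3611 := d1_2 F2761 D3611 (iv2 D3611)
theorem F5639 : act 7 n3611 = n2557 := d4_2 (iv7 F2762) D3611 (iv2 D2557)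
theorem F5640 : act 1 n3611 = n2555 := d15_0 (iv0 D2555) (iv7 F2762) D3611
theorem F5641 : act 1 n3610 = n2557 := d15_1 D3610 (iv7 F5639) (iv2 D3611)
theorem F5642 : act 1 n2556 = n3611 := d15_1 D2556 F5639 (iv2 D2557)
def n3612 : Q := act 5 n1588
theorem D3612 : act 5 n1588 = n3612 := rfl
theorem F5643 : act 3 n3612 = n1589 := d6_1 D3612 (iv5 D1589) D1588
theorem F5644 : act 7 n3612 = n2558 := d13_2 (iv7 F2762) D3612 (iv5 D2558)
def n3613 : Q := act 6 n1588
theorem D3613 : act 6 n1588 = n3613 := rfl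
theorem F5645 : act 3 n3613 = n1590 := d7_1 D3613 (iv6 D1590) D1588
theorem F5646 : act 4 n3613 = n3613 := d10_1 D3613 (iv6 D3613) F2761
theorem F5647 : act 7 n3613 = n2634 := d14_2 (iv7 F2762) D3613 (iv6 D2634) (iv7 D1229) (iv6 F2197)
def n3614 : Q := act 6 n1589
theorem D3614 : act 6 n1589 = n3614 := rfl
theorem F5648 : act 2 n3614 = n3562 := d3_1 D3614 (iv6 D3562) (iv2 F2763)
theorem F5649 : act 4 n3614 = n3517 := d10_1 D3614 (iv6 D3517) (iv4 F2764)
def n3615 : Q := act 5 n1590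
theorem D3615 : act 5 n1590 = n3615 := rfl
theorem F5650 : act 2 n3615 = n3563 := d2_1 D3615 (iv5 D3563) (iv2 F2768)
theorem F5651 : act 7 n3615 = n2646 := d13_2 (iv7 F2770) D3615 (iv5 D2646)
theorem F5652 : act 1 n3615 = n3530 := d17_6 (iv1 D866) (iv5 F1387) F1626 F1624 (iv4 F2769) D3615 (iv5 D3530) (iv0 F2873) (iv4 D1612)
def n3616 : Q := act 0 n1591
theorem D3616 : act 0 n1591 = n3616 := rfl
def n3617 : Q := act 1 n1591
theorem D3617 : act 1 n1591 = n3617 := rfl
theorem F5653 : act 4 n3539 = n3617 := d20_6 (iv4 D547) (iv1 F1025) D507 D845 D1562 D3539 (iv1 D3617) F2771 (iv3 D1591) (iv1 F1627)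
def n3618 : Q := act 2 n1591
theorem D3618 : act 2 n1591 = n3618 := rfl
theorem F5654 : act 4 n3618 = n3618 := d1_2 F2771 D3618 (iv2 D3618)
def n3619 : Q := act 5 n1591
theorem D3619 : act 5 n1591 = n3619 := rfl
theorem F5655 : act 3 n3619 = n1592 := d6_1 D3619 (iv5 D1592) D1591
def n3620 : Q := act 6 n1591
theorem D3620 : act 6 n1591 = n3620 := rfl
theorem F5656 : act 3 n3620 = n1593 := d7_1 D3620 (iv6 D1593) D1591
theorem F5657 : act 4 n3620 = n3620 := d10_1 D3620 (iv6 D3620) F2771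
def n3621 : Q := act 6 n1592
theorem D3621 : act 6 n1592 = n3621 := rfl
def n3622 : Q := act 5 n1593
theorem D3622 : act 5 n1593 = n3622 := rfl
theorem F5658 : act 1 n3622 = n1605 := d17_6 (iv1 D1708) (iv5 F2604) F2909 F2907 F2906 D3622 (iv5 D1605) D1604 F2961
def n3623 : Q := act 0 n1594
theorem D3623 : act 0 n1594 = n3623 := rfl
def n3624 : Q := act 1 n1594
theorem D3624 : act 1 n1594 = n3624 := rfl
def n3625 : Q := act 2 n1594
theorem D3625 : act 2 n1594 = n3625 := rfl
theorem F5659 : act 4 n3625 = n1725 := d1_2 (iv4 F2774) D3625 (iv2 D1725)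
theorem F5660 : act 6 n3625 = n1716 := d3_2 (iv6 F2775) D3625 (iv2 D1716)
def n3626 : Q := act 5 n1594
theorem D3626 : act 5 n1594 = n3626 := rfl
theorem F5661 : act 3 n3626 = n1595 := d6_1 D3626 (iv5 D1595) D1594
def n3627 : Q := act 6 n1595
theorem D3627 : act 6 n1595 = n3627 := rfl
theorem F5662 : act 5 n3627 = n1720 := d12_1 D3627 (iv6 D1720) (iv5 D912) F1630 D1595
def n3628 : Q := act 2 n1596
theorem D3628 : act 2 n1596 = n3628 := rfl
theorem F5663 : act 7 n1597 = n3628 := d15_2 (iv0 D1596) D1597 (iv2 D3628)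
def n3629 : Q := act 3 n1596
theorem D3629 : act 3 n1596 = n3629 := rfl
theorem F5664 : act 4 n3629 = n3533 := d20_6 (iv4 D507) (iv1 F1029) D530 D862 D1596 D3629 (iv1 D3533) F2715 (iv3 D1560) (iv1 D844)
def n3630 : Q := act 4 n1596
theorem D3630 : act 4 n1596 = n3630 := rfl
def n3631 : Q := act 5 n1596
theorem D3631 : act 5 n1596 = n3631 := rfl
def n3632 : Q := act 6 n1596
theorem D3632 : act 6 n1596 = n3632 := rfl
def n3633 : Q := act 7 n1596
theorem D3633 : act 7 n1596 = n3633 := rfl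
def n3634 : Q := act 3 n1597
theorem D3634 : act 3 n1597 = n3634 := rfl
def n3635 : Q := act 4 n1597
theorem D3635 : act 4 n1597 = n3635 := rfl
theorem F5666 : act 3 n3532 = n3635 := d20_5 F2216 (iv1 F1687) F1620 D1560 D3532 (iv4 D3635) (iv1 D1597) (iv4 F2225) (iv3 D1201) D1199
def n3636 : Q := act 5 n1597
theorem D3636 : act 5 n1597 = n3636 := rfl
def n3637 : Q := act 6 n1597
theorem D3637 : act 6 n1597 = n3637 := rfl
def n3638 : Q := act 5 n1598
theorem D3638 : act 5 n1598 = n3638 := rfl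
theorem F5667 : act 2 n3638 = n1599 := d2_1 D3638 (iv5 D1599) D1598
def n3639 : Q := act 6 n1598
theorem D3639 : act 6 n1598 = n3639 := rfl
theorem F5668 : act 2 n3639 = n1600 := d3_1 D3639 (iv6 D1600) D1598
def n3640 : Q := act 0 n1599
theorem D3640 : act 0 n1599 = n3640 := rfl
def n3641 : Q := act 1 n1599
theorem D3641 : act 1 n1599 = n3641 := rfl
def n3642 : Q := act 4 n1599
theorem D3642 : act 4 n1599 = n3642 := rfl
def n3643 : Q := act 6 n1599
theorem D3643 : act 6 n1599 = n3643 := rfl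
theorem F5669 : act 3 n3643 = n1602 := d7_1 D3643 (iv6 D1602) (iv3 F2778)
def n3644 : Q := act 0 n1600
theorem D3644 : act 0 n1600 = n3644 := rfl
def n3645 : Q := act 1 n1600
theorem D3645 : act 1 n1600 = n3645 := rfl
def n3646 : Q := act 5 n1600
theorem D3646 : act 5 n1600 = n3646 := rfl
theorem F5670 : act 3 n3646 = n1605 := d6_1 D3646 (iv5 D1605) (iv3 F2779)
def n3647 : Q := act 7 n1600
theorem D3647 : act 7 n1600 = n3647 := rfl
theorem F5671 : act 3 n3647 = n1606 := d8_1 D3647 (iv7 D1606) (iv3 F2779)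
def n3648 : Q := act 3 n1601
theorem D3648 : act 3 n1601 = n3648 := rfl
theorem F5672 : act 5 n3648 = n1631 := d6_2 (iv5 F2780) D3648 (iv3 D1631)
def n3649 : Q := act 6 n1601
theorem D3649 : act 6 n1601 = n3649 := rfl
theorem F5673 : act 4 n3649 = n2889 := d10_1 D3649 (iv6 D2889) (iv4 F2781)
def n3650 : Q := act 0 n1602
theorem D3650 : act 0 n1602 = n3650 := rfl
def n3651 : Q := act 1 n1602
theorem D3651 : act 1 n1602 = n3651 := rfl
def n3652 : Q := act 5 n1602
theorem D3652 : act 5 n1602 = n3652 := rfl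
theorem F5674 : act 6 n3652 = n1605 := d12_2 D1602 D3652 (iv5 D1605) (iv6 D864) D863
def n3653 : Q := act 7 n1602
theorem D3653 : act 7 n1602 = n3653 := rfl
def n3654 : Q := act 3 n1603
theorem D3654 : act 3 n1603 = n3654 := rfl
theorem F5675 : act 4 n3654 = n3654 := d5_2 (iv4 F2995) D3654 (iv3 D3654) F2995 F2989
def n3655 : Q := act 5 n1603
theorem D3655 : act 5 n1603 = n3655 := rfl
theorem F5676 : act 0 n3655 = n1629 := d17_2 D1603 D3655 (iv5 D1629) F1634 (iv5 F1377) D1205 (iv5 F2235) (iv0 D865) (iv4 F1631)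
def n3656 : Q := act 3 n1604
theorem D3656 : act 3 n1604 = n3656 := rfl
theorem F5677 : act 4 n3656 = n1827 := d5_2 (iv4 F2961) D3656 (iv3 D1827) F1785 (iv3 F2949)
theorem F5678 : act 6 n3656 = n3656 := d7_2 F2963 D3656 (iv3 D3656)
def n3657 : Q := act 5 n1604
theorem D3657 : act 5 n1604 = n3657 := rfl
theorem F5679 : act 1 n3657 = n1629 := d17_6 F2898 (iv5 F1727) D1728 F2948 (iv4 F2961) D3657 (iv5 D1629) D1628 (iv4 F2896)
def n3658 : Q := act 1 n1605
theorem D3658 : act 1 n1605 = n3658 := rfl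
theorem F5680 : act 5 n3658 = n1722 := d17_7 (iv1 F1635) F856 F1388 F1387 (iv4 F1631) D1605 D3658 F2940 F2808
def n3659 : Q := act 4 n1605
theorem D3659 : act 4 n1605 = n3659 := rfl
def n3660 : Q := act 7 n1605
theorem D3660 : act 7 n1605 = n3660 := rfl
theorem F5681 : act 5 n3660 = n1606 := d13_1 D3660 (iv7 D1606) D1605
def n3661 : Q := act 0 n1609
theorem D3661 : act 0 n1609 = n3661 := rfl
theorem F5682 : act 4 n3661 = n1709 := d18_3 D865 D1609 D3661 (iv5 F5365) F5364 F2886 F2769 (iv0 F1626) F1387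
theorem F5683 : act 2 n3531 = n3661 := d15_3 (iv0 D3661) F3117 D3531
theorem F5684 : act 1 n1612 = n3661 := d15_0 (iv0 D3661) (iv7 F4122) F4120
theorem F5685 : act 7 n3661 = n1706 := d15_2 (iv0 F2873) F5684 F2913
theorem F5686 : act 6 n1698 = n3661 := d14_5 F5685 (iv6 D1706) F1696 D1561 (iv7 F2887)
def n3662 : Q := act 3 n1609
theorem D3662 : act 3 n1609 = n3662 := rfl
theorem F5687 : act 4 n3662 = n3662 := d5_2 D1609 D3662 (iv3 D3662) (iv4 D1609) F2883
def n3663 : Q := act 5 n1609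
theorem D3663 : act 5 n1609 = n3663 := rfl
theorem F5688 : act 0 n3663 = n3536 := d17_2 (iv1 F3117) D3663 (iv5 D3536) F2716 F2604 D1708 (iv5 F2948) (iv0 D1728) (iv4 F2714)
def n3664 : Q := act 3 n1612
theorem D3664 : act 3 n1612 = n3664 := rfl
theorem F5689 : act 4 n3664 = n1834 := d5_2 D1612 D3664 (iv3 D1834) (iv4 D961) F2874
theorem F5690 : act 6 n3664 = n3664 := d7_2 F2795 D3664 (iv3 D3664)
def n3665 : Q := act 5 n1612
theorem D3665 : act 5 n1612 = n3665 := rfl
theorem F5691 : act 1 n3665 = n3536 := d17_6 F1416 (iv5 F1377) (iv1 F2876) F2878 D1612 D3665 (iv5 D3536) (iv0 F2717) F2317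
def n3666 : Q := act 4 n1613
theorem D3666 : act 4 n1613 = n3666 := rfl
theorem F5692 : act 2 n3666 = n2541 := d1_1 D3666 (iv4 D2541) F2798
theorem F5693 : act 7 n3666 = n3578 := d11_2 (iv7 F2799) D3666 F5614
theorem F5694 : act 0 n3666 = n3573 := d18_2 D1613 D3666 (iv4 D3573) (iv5 D1575) (iv4 F1923) (iv0 D1033) F1219 (iv0 F1220) D868
theorem F5695 : act 1 n3666 = n2581 := d18_6 (iv1 D1523) (iv4 F1555) F2170 F2169 (iv5 F2797) D3666 (iv4 D2581) D2580 F4132
def n3667 : Q := act 3 n1614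
theorem D3667 : act 3 n1614 = n3667 := rfl
theorem F5696 : act 4 n3667 = n1616 := d5_2 D1614 D3667 (iv3 D1616) (iv4 D869) (iv3 F1632)
def n3668 : Q := act 5 n1614
theorem D3668 : act 5 n1614 = n3668 := rfl
def n3669 : Q := act 6 n1614
theorem D3669 : act 6 n1614 = n3669 := rfl
theorem F5697 : act 4 n3669 = n1615 := d10_1 D3669 (iv6 D1615) D1614
def n3670 : Q := act 0 n1615
theorem D3670 : act 0 n1615 = n3670 := rfl
def n3671 : Q := act 1 n1615
theorem D3671 : act 1 n1615 = n3671 := rfl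
def n3672 : Q := act 7 n1615
theorem D3672 : act 7 n1615 = n3672 := rfl
theorem F5698 : act 3 n3672 = n1620 := d8_1 D3672 (iv7 D1620) (iv3 F2800)
def n3673 : Q := act 0 n1616
theorem D3673 : act 0 n1616 = n3673 := rfl
def n3674 : Q := act 1 n1616
theorem D3674 : act 1 n1616 = n3674 := rfl
def n3675 : Q := act 2 n1616
theorem D3675 : act 2 n1616 = n3675 := rfl
def n3676 : Q := act 6 n1616
theorem D3676 : act 6 n1616 = n3676 := rfl
theorem F5699 : act 3 n3676 = n1617 := d7_1 D3676 (iv6 D1617) D1616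
def n3677 : Q := act 0 n1617
theorem D3677 : act 0 n1617 = n3677 := rfl
def n3678 : Q := act 1 n1617
theorem D3678 : act 1 n1617 = n3678 := rfl
def n3679 : Q := act 5 n1617
theorem D3679 : act 5 n1617 = n3679 := rfl
def n3680 : Q := act 7 n1617
theorem D3680 : act 7 n1617 = n3680 := rfl
theorem F5700 : act 4 n3680 = n1620 := d11_1 D3680 (iv7 D1620) (iv4 F2801)
def n3681 : Q := act 2 n1618
theorem D3681 : act 2 n1618 = n3681 := rfl
theorem F5701 : act 7 n1619 = n3681 := d15_2 (iv0 D1618) D1619 (iv2 D3681)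
def n3682 : Q := act 3 n1618
theorem D3682 : act 3 n1618 = n3682 := rfl
def n3683 : Q := act 4 n1618
theorem D3683 : act 4 n1618 = n3683 := rfl
def n3684 : Q := act 5 n1618
theorem D3684 : act 5 n1618 = n3684 := rfl
def n3685 : Q := act 7 n1618
theorem D3685 : act 7 n1618 = n3685 := rfl
theorem F5702 : act 2 n3685 = n1619 := d4_1 D3685 F5701 (iv2 D3681)
def n3686 : Q := act 3 n1619
theorem D3686 : act 3 n1619 = n3686 := rfl
def n3687 : Q := act 4 n1619
theorem D3687 : act 4 n1619 = n3687 := rfl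
def n3688 : Q := act 5 n1619
theorem D3688 : act 5 n1619 = n3688 := rfl
theorem F5703 : act 6 n3688 = n2792 := d21_9 F4390 (iv1 F2383) D2790 (iv6 F4374) (iv1 F4147) F4144 (iv5 F4143) (iv1 F4146) D3688 (iv1 F4393)
def n3689 : Q := act 6 n1619
theorem D3689 : act 6 n1619 = n3689 := rfl
def n3690 : Q := act 2 n1621
theorem D3690 : act 2 n1621 = n3690 := rfl
theorem F5704 : act 7 n1622 = n3690 := d15_2 (iv0 D1621) D1622 (iv2 D3690)
def n3691 : Q := act 3 n1621
theorem D3691 : act 3 n1621 = n3691 := rfl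
theorem F5705 : act 4 n3691 = n1732 := d20_6 (iv4 D858) (iv1 F843) D547 D871 D1621 D3691 (iv1 D1732) (iv4 F2713) (iv3 D1558) (iv1 F1621)
def n3692 : Q := act 4 n1621
theorem D3692 : act 4 n1621 = n3692 := rfl
def n3693 : Q := act 5 n1621
theorem D3693 : act 5 n1621 = n3693 := rfl
def n3694 : Q := act 6 n1621
theorem D3694 : act 6 n1621 = n3694 := rfl
def n3695 : Q := act 7 n1621
theorem D3695 : act 7 n1621 = n3695 := rfl
theorem F5706 : act 2 n3695 = n1622 := d4_1 D3695 F5704 (iv2 D3690)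
def n3696 : Q := act 3 n1622
theorem D3696 : act 3 n1622 = n3696 := rfl
def n3697 : Q := act 4 n1622
theorem D3697 : act 4 n1622 = n3697 := rfl
theorem F5707 : act 3 n3526 = n3697 := d20_5 F2222 F1667 (iv4 F1592) D1558 D3526 (iv4 D3697) (iv1 D1622) (iv4 F2258) (iv3 D1212) (iv1 F2220)
def n3698 : Q := act 5 n1622
theorem D3698 : act 5 n1622 = n3698 := rfl
def n3699 : Q := act 6 n1622
theorem D3699 : act 6 n1622 = n3699 := rfl
def n3700 : Q := act 5 n1623
theorem D3700 : act 5 n1623 = n3700 := rfl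
theorem F5708 : act 2 n3700 = n1624 := d2_1 D3700 (iv5 D1624) D1623
def n3701 : Q := act 6 n1623
theorem D3701 : act 6 n1623 = n3701 := rfl
theorem F5709 : act 2 n3701 = n1625 := d3_1 D3701 (iv6 D1625) D1623
def n3702 : Q := act 0 n1624
theorem D3702 : act 0 n1624 = n3702 := rfl
def n3703 : Q := act 1 n1624
theorem D3703 : act 1 n1624 = n3703 := rfl
def n3704 : Q := act 4 n1624
theorem D3704 : act 4 n1624 = n3704 := rfl
def n3705 : Q := act 6 n1624
theorem D3705 : act 6 n1624 = n3705 := rfl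
theorem F5710 : act 3 n3705 = n1626 := d7_1 D3705 (iv6 D1626) (iv3 F2802)
def n3706 : Q := act 0 n1625
theorem D3706 : act 0 n1625 = n3706 := rfl
def n3707 : Q := act 1 n1625
theorem D3707 : act 1 n1625 = n3707 := rfl
def n3708 : Q := act 5 n1625
theorem D3708 : act 5 n1625 = n3708 := rfl
theorem F5711 : act 3 n3708 = n1629 := d6_1 D3708 (iv5 D1629) (iv3 F2803)
def n3709 : Q := act 7 n1625
theorem D3709 : act 7 n1625 = n3709 := rfl
theorem F5712 : act 3 n3709 = n1630 := d8_1 D3709 (iv7 D1630) (iv3 F2803)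
def n3710 : Q := act 0 n1626
theorem D3710 : act 0 n1626 = n3710 := rfl
def n3711 : Q := act 1 n1626
theorem D3711 : act 1 n1626 = n3711 := rfl
def n3712 : Q := act 5 n1626
theorem D3712 : act 5 n1626 = n3712 := rfl
theorem F5713 : act 6 n3712 = n1629 := d12_2 D1626 D3712 (iv5 D1629) (iv6 D873) D872
def n3713 : Q := act 7 n1626
theorem D3713 : act 7 n1626 = n3713 := rfl
def n3714 : Q := act 3 n1627
theorem D3714 : act 3 n1627 = n3714 := rfl
theorem F5714 : act 4 n3714 = n1799 := d5_2 F2900 D3714 F3063 F1776 (iv3 F2899)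
theorem F5715 : act 6 n3714 = n1798 := d7_2 (iv6 F2807) D3714 F3061
def n3715 : Q := act 5 n1627
theorem D3715 : act 5 n1627 = n3715 := rfl
theorem F5716 : act 2 n3715 = n3622 := d2_1 D3715 (iv5 D3622) F2806
theorem F5717 : act 7 n3715 = n3658 := d13_2 F2938 D3715 F5680
theorem F5718 : act 0 n3715 = n3660 := d17_2 D1627 D3715 F5681 F2783 (iv5 F2266) F2269 F1597 (iv0 F1599) (iv4 F1634)
theorem F5719 : act 1 n3715 = n2576 := d17_6 (iv1 D1729) F1727 F2903 F2901 F2900 D3715 (iv5 D2576) D2575 (iv4 F4112)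
def n3716 : Q := act 3 n1628
theorem D3716 : act 3 n1628 = n3716 := rfl
theorem F5720 : act 4 n3716 = n3716 := d5_2 F2896 D3716 (iv3 D3716) (iv4 F2896) F2895
theorem F5721 : act 6 n3716 = n1631 := d7_2 F2804 D3716 (iv3 D1631)
theorem F5722 : act 7 n3716 = n3620 := d8_2 (iv7 F2805) D3716 F5656
def n3717 : Q := act 5 n1628
theorem D3717 : act 5 n1628 = n3717 := rfl
theorem F5723 : act 2 n3717 = n3658 := d2_1 D3717 F5680 F2936
theorem F5724 : act 7 n3717 = n3622 := d13_2 (iv7 F2805) D3717 (iv5 D3622)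
theorem F5725 : act 0 n3717 = n2576 := d17_2 (iv1 F4164) D3717 (iv5 D2576) F2230 F1377 (iv0 F1416) F1415 F2268 (iv4 F4162)
theorem F5726 : act 1 n3717 = n3660 := d17_6 (iv1 F2959) (iv5 F5365) (iv1 F5367) F2897 F2896 D3717 F5681 (iv0 F4108) F4104
def n3718 : Q := act 4 n1629
theorem D3718 : act 4 n1629 = n3718 := rfl
def n3719 : Q := act 7 n1629
theorem D3719 : act 7 n1629 = n3719 := rfl
theorem F5727 : act 5 n3719 = n1630 := d13_1 D3719 (iv7 D1630) D1629
def n3720 : Q := act 0 n1631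
theorem D3720 : act 0 n1631 = n3720 := rfl
theorem F5728 : act 3 n3720 = n2623 := d20_5 F1398 (iv1 F1684) F1681 D1631 D3720 (iv4 D2623) (iv1 D1226) F1407 (iv3 D730) D728
def n3721 : Q := act 1 n1631
theorem D3721 : act 1 n1631 = n3721 := rfl
theorem F5729 : act 4 n1669 = n3721 := d20_6 (iv4 D560) (iv1 D281) D282 D565 D889 D1669 (iv1 D3721) F2809 (iv3 D1631) (iv1 F1637)
def n3722 : Q := act 2 n1631
theorem D3722 : act 2 n1631 = n3722 := rfl
theorem F5730 : act 4 n3722 = n3722 := d1_2 F2809 D3722 (iv2 D3722)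
def n3723 : Q := act 2 n1632
theorem D3723 : act 2 n1632 = n3723 := rfl
theorem F5731 : act 7 n1633 = n3723 := d15_2 (iv0 D1632) D1633 (iv2 D3723)
def n3724 : Q := act 3 n1632
theorem D3724 : act 3 n1632 = n3724 := rfl
theorem F5732 : act 4 n3724 = n1658 := d20_6 (iv4 D282) D280 D555 D876 D1632 D3724 (iv1 D1658) F1653 (iv3 D885) (iv1 D564)
theorem F5733 : act 0 n1970 = n3724 := d20_10 F5732 (iv1 D1658) F1653 (iv3 D885) (iv1 D564) D565 F853 D643 D1002 D1970
def n3725 : Q := act 4 n1632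
theorem D3725 : act 4 n1632 = n3725 := rfl
def n3726 : Q := act 5 n1632
theorem D3726 : act 5 n1632 = n3726 := rfl
def n3727 : Q := act 6 n1632
theorem D3727 : act 6 n1632 = n3727 := rfl
def n3728 : Q := act 7 n1632
theorem D3728 : act 7 n1632 = n3728 := rfl
theorem F5734 : act 2 n3728 = n1633 := d4_1 D3728 F5731 (iv2 D3723)
def n3729 : Q := act 3 n1633
theorem D3729 : act 3 n1633 = n3729 := rfl
def n3730 : Q := act 4 n1633
theorem D3730 : act 4 n1633 = n3730 := rfl
theorem F5735 : act 3 n3730 = n1657 := d20_3 (iv4 F4181) (iv1 F4185) D3730 (iv1 F4199) F4195 F2836 (iv1 F1868) D1931 (iv3 F4166) (iv1 F4167)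
def n3731 : Q := act 5 n1633
theorem D3731 : act 5 n1633 = n3731 := rfl
def n3732 : Q := act 6 n1633
theorem D3732 : act 6 n1633 = n3732 := rfl
def n3733 : Q := act 5 n1634
theorem D3733 : act 5 n1634 = n3733 := rfl
theorem F5736 : act 2 n3733 = n1635 := d2_1 D3733 (iv5 D1635) D1634
def n3734 : Q := act 0 n1635
theorem D3734 : act 0 n1635 = n3734 := rfl
def n3735 : Q := act 1 n1635
theorem D3735 : act 1 n1635 = n3735 := rfl
def n3736 : Q := act 4 n1635
theorem D3736 : act 4 n1635 = n3736 := rfl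
def n3737 : Q := act 6 n1635
theorem D3737 : act 6 n1635 = n3737 := rfl
theorem F5737 : act 3 n3737 = n1638 := d7_1 D3737 (iv6 D1638) (iv3 F2811)
theorem F5738 : act 5 n3737 = n3737 := d12_1 D3737 (iv6 D3737) (iv5 D1635) F1638 D1635
def n3738 : Q := act 3 n1636
theorem D3738 : act 3 n1636 = n3738 := rfl
theorem F5739 : act 5 n3738 = n2567 := d6_2 (iv5 F2812) D3738 (iv3 D2567)
theorem F5740 : act 7 n3738 = n3619 := d8_2 F2815 D3738 F5655
def n3739 : Q := act 6 n1636
theorem D3739 : act 6 n1636 = n3739 := rfl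
theorem F5741 : act 2 n3739 = n3627 := d3_1 D3739 (iv6 D3627) F2814
def n3740 : Q := act 3 n1637
theorem D3740 : act 3 n1637 = n3740 := rfl
theorem F5742 : act 5 n3740 = n1798 := d6_2 (iv5 F2818) D3740 F3061
theorem F5743 : act 7 n3740 = n3626 := d8_2 (iv7 F2817) D3740 F5661
def n3741 : Q := act 6 n1637
theorem D3741 : act 6 n1637 = n3741 := rfl
theorem F5744 : act 2 n3741 = n3621 := d3_1 D3741 (iv6 D3621) F2819
def n3742 : Q := act 0 n1638
theorem D3742 : act 0 n1638 = n3742 := rfl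
def n3743 : Q := act 1 n1638
theorem D3743 : act 1 n1638 = n3743 := rfl
def n3744 : Q := act 7 n1638
theorem D3744 : act 7 n1638 = n3744 := rfl
theorem F5745 : act 5 n3744 = n3744 := d13_1 D3744 (iv7 D3744) F2820
def n3745 : Q := act 2 n1639
theorem D3745 : act 2 n1639 = n3745 := rfl
theorem F5746 : act 7 n1640 = n3745 := d15_2 (iv0 D1639) D1640 (iv2 D3745)
def n3746 : Q := act 4 n1639
theorem D3746 : act 4 n1639 = n3746 := rfl
def n3747 : Q := act 5 n1639
theorem D3747 : act 5 n1639 = n3747 := rfl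
def n3748 : Q := act 6 n1639
theorem D3748 : act 6 n1639 = n3748 := rfl
def n3749 : Q := act 7 n1639
theorem D3749 : act 7 n1639 = n3749 := rfl
theorem F5747 : act 2 n3749 = n1640 := d4_1 D3749 F5746 (iv2 D3745)
def n3750 : Q := act 3 n1640
theorem D3750 : act 3 n1640 = n3750 := rfl
def n3751 : Q := act 4 n1640
theorem D3751 : act 4 n1640 = n3751 := rfl
theorem F5748 : act 3 n3751 = n1652 := d20_9 (iv4 D1934) (iv1 F1869) D1914 (iv3 F3214) (iv1 F4172) F4168 (iv4 F4169) (iv1 F4174) D3751 (iv1 F3229)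
def n3752 : Q := act 5 n1640
theorem D3752 : act 5 n1640 = n3752 := rfl
def n3753 : Q := act 6 n1640
theorem D3753 : act 6 n1640 = n3753 := rfl
def n3754 : Q := act 5 n1641
theorem D3754 : act 5 n1641 = n3754 := rfl
theorem F5749 : act 2 n3754 = n1642 := d2_1 D3754 (iv5 D1642) D1641
def n3755 : Q := act 6 n1641
theorem D3755 : act 6 n1641 = n3755 := rfl
theorem F5750 : act 2 n3755 = n1643 := d3_1 D3755 (iv6 D1643) D1641
theorem F5751 : act 7 n3755 = n3755 := d14_2 F4171 D3755 (iv6 D3755) (iv7 F4171) F4170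
def n3756 : Q := act 0 n1642
theorem D3756 : act 0 n1642 = n3756 := rfl
def n3757 : Q := act 1 n1642
theorem D3757 : act 1 n1642 = n3757 := rfl
def n3758 : Q := act 4 n1642
theorem D3758 : act 4 n1642 = n3758 := rfl
def n3759 : Q := act 6 n1642
theorem D3759 : act 6 n1642 = n3759 := rfl
theorem F5752 : act 3 n3759 = n1644 := d7_1 D3759 (iv6 D1644) (iv3 F2821)
def n3760 : Q := act 0 n1643
theorem D3760 : act 0 n1643 = n3760 := rfl
theorem F5753 : act 1 n3755 = n3760 := d15_0 (iv0 D3760) F2823 (iv2 F5750)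
def n3761 : Q := act 1 n1643
theorem D3761 : act 1 n1643 = n3761 := rfl
theorem F5754 : act 1 n3761 = n3755 := d15_1 D3761 F5751 F5750
def n3762 : Q := act 5 n1643
theorem D3762 : act 5 n1643 = n3762 := rfl
theorem F5755 : act 3 n3762 = n1647 := d6_1 D3762 (iv5 D1647) (iv3 F2822)
theorem F5756 : act 7 n3762 = n3762 := d13_2 F2823 D3762 (iv5 D3762)
def n3763 : Q := act 0 n1644
theorem D3763 : act 0 n1644 = n3763 := rfl
def n3764 : Q := act 1 n1644
theorem D3764 : act 1 n1644 = n3764 := rfl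
def n3765 : Q := act 5 n1644
theorem D3765 : act 5 n1644 = n3765 := rfl
theorem F5757 : act 6 n3765 = n1647 := d12_2 D1644 D3765 (iv5 D1647) (iv6 D880) D879
def n3766 : Q := act 7 n1644
theorem D3766 : act 7 n1644 = n3766 := rfl
def n3767 : Q := act 3 n1645
theorem D3767 : act 3 n1645 = n3767 := rfl
theorem F5758 : act 4 n3767 = n1903 := d5_2 (iv4 F3095) D3767 (iv3 D1903) F3088 (iv3 F2951)
theorem F5759 : act 7 n3767 = n3767 := d8_2 F3102 D3767 (iv3 D3767)
def n3768 : Q := act 5 n1645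
theorem D3768 : act 5 n1645 = n3768 := rfl
theorem F5760 : act 7 n3768 = n3768 := d13_2 F3102 D3768 (iv5 D3768)
theorem F5761 : act 0 n3768 = n2607 := d17_2 D1645 D3768 (iv5 D2607) F2280 F1396 F1641 F1642 (iv0 D881) (iv4 F1639)
theorem F5762 : act 1 n3768 = n1647 := d17_6 (iv1 D1713) F1706 D1712 F2923 (iv4 F3095) D3768 (iv5 D1647) D1646 F3096
def n3769 : Q := act 3 n1646
theorem D3769 : act 3 n1646 = n3769 := rfl
theorem F5763 : act 4 n3769 = n3769 := d5_2 (iv4 F3096) D3769 (iv3 D3769) F3096 F2994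
theorem F5764 : act 6 n3769 = n3654 := d7_2 F3098 D3769 (iv3 D3654)
theorem F5765 : act 7 n3769 = n3769 := d8_2 F3099 D3769 (iv3 D3769)
def n3770 : Q := act 5 n1646
theorem D3770 : act 5 n1646 = n3770 := rfl
theorem F5766 : act 2 n3770 = n3768 := d2_1 D3770 (iv5 D3768) F3097
theorem F5767 : act 7 n3770 = n3770 := d13_2 F3099 D3770 (iv5 D3770)
theorem F5768 : act 0 n3770 = n1647 := d17_2 (iv1 F2825) D3770 (iv5 D1647) F1639 F1059 D882 F1644 F1643 (iv4 F2280)
theorem F5769 : act 1 n3770 = n2607 := d17_6 (iv1 F2922) F2848 (iv1 F2924) F2925 (iv4 F3096) D3770 (iv5 D2607) F2824 F3095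
def n3771 : Q := act 4 n1647
theorem D3771 : act 4 n1647 = n3771 := rfl
theorem F5770 : act 7 n3771 = n3771 := d11_2 F2826 D3771 (iv4 D3771)
def n3772 : Q := act 3 n1649
theorem D3772 : act 3 n1649 = n3772 := rfl
theorem F5771 : act 4 n3772 = n1906 := d5_2 D1649 D3772 (iv3 D1906) (iv4 D984) F2881
theorem F5772 : act 7 n3772 = n3772 := d8_2 F2829 D3772 (iv3 D3772)
def n3773 : Q := act 5 n1649
theorem D3773 : act 5 n1649 = n3773 := rfl
theorem F5773 : act 7 n3773 = n3773 := d13_2 F2829 D3773 (iv5 D3773)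
theorem F5774 : act 0 n3773 = n2614 := d17_2 (iv1 F3092) D3773 (iv5 D2614) F2292 F1706 D1713 F2925 F2924 F2847
theorem F5775 : act 1 n3773 = n1666 := d17_6 (iv1 D882) F1059 D881 F1642 D1649 D3773 (iv5 D1666) (iv0 F3100) (iv4 D1651)
def n3774 : Q := act 3 n1651
theorem D3774 : act 3 n1651 = n3774 := rfl
theorem F5776 : act 4 n3774 = n3774 := d5_2 D1651 D3774 (iv3 D3774) (iv4 D1651) F2882
theorem F5777 : act 6 n3774 = n3662 := d7_2 (iv6 F2834) D3774 (iv3 D3662)
theorem F5778 : act 7 n3774 = n3774 := d8_2 F2835 D3774 (iv3 D3774)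
def n3775 : Q := act 5 n1651
theorem D3775 : act 5 n1651 = n3775 := rfl
theorem F5779 : act 2 n3775 = n3773 := d2_1 D3775 (iv5 D3773) (iv2 F2833)
theorem F5780 : act 7 n3775 = n3775 := d13_2 F2835 D3775 (iv5 D3775)
theorem F5781 : act 0 n3775 = n1666 := d17_2 (iv1 F3101) D3775 (iv5 D1666) (iv4 F2847) F2848 F2922 F2923 (iv0 D1712) (iv4 F2292)
theorem F5782 : act 1 n3775 = n2614 := d17_6 (iv1 F1641) F1396 (iv1 F1643) F1644 D1651 D3775 (iv5 D2614) (iv0 F3091) (iv4 D1649)
def n3776 : Q := act 2 n1652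
theorem D3776 : act 2 n1652 = n3776 := rfl
theorem F5783 : act 7 n1653 = n3776 := d15_2 (iv0 D1652) D1653 (iv2 D3776)
def n3777 : Q := act 4 n1652
theorem D3777 : act 4 n1652 = n3777 := rfl
def n3778 : Q := act 5 n1652
theorem D3778 : act 5 n1652 = n3778 := rfl
def n3779 : Q := act 6 n1652
theorem D3779 : act 6 n1652 = n3779 := rfl
def n3780 : Q := act 7 n1652
theorem D3780 : act 7 n1652 = n3780 := rfl
theorem F5784 : act 2 n3780 = n1653 := d4_1 D3780 F5783 (iv2 D3776)
def n3781 : Q := act 3 n1653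
theorem D3781 : act 3 n1653 = n3781 := rfl
theorem F5785 : act 4 n3781 = n1962 := d5_2 F3169 D3781 (iv3 F3282) (iv4 D1882) D1881
def n3782 : Q := act 5 n1653
theorem D3782 : act 5 n1653 = n3782 := rfl
def n3783 : Q := act 6 n1653
theorem D3783 : act 6 n1653 = n3783 := rfl
def n3784 : Q := act 5 n1654
theorem D3784 : act 5 n1654 = n3784 := rfl
theorem F5786 : act 2 n3784 = n1655 := d2_1 D3784 (iv5 D1655) D1654
def n3785 : Q := act 0 n1655
theorem D3785 : act 0 n1655 = n3785 := rfl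
def n3786 : Q := act 1 n1655
theorem D3786 : act 1 n1655 = n3786 := rfl
def n3787 : Q := act 4 n1655
theorem D3787 : act 4 n1655 = n3787 := rfl
def n3788 : Q := act 6 n1655
theorem D3788 : act 6 n1655 = n3788 := rfl
theorem F5787 : act 3 n3788 = n1656 := d7_1 D3788 (iv6 D1656) (iv3 F2838)
theorem F5788 : act 5 n3788 = n3788 := d12_1 D3788 (iv6 D3788) (iv5 D1655) F1647 D1655
def n3789 : Q := act 0 n1656
theorem D3789 : act 0 n1656 = n3789 := rfl
def n3790 : Q := act 1 n1656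
theorem D3790 : act 1 n1656 = n3790 := rfl
def n3791 : Q := act 7 n1656
theorem D3791 : act 7 n1656 = n3791 := rfl
theorem F5789 : act 5 n3791 = n3791 := d13_1 D3791 (iv7 D3791) F2839
def n3792 : Q := act 2 n1657
theorem D3792 : act 2 n1657 = n3792 := rfl
theorem F5790 : act 7 n1658 = n3792 := d15_2 (iv0 D1657) D1658 (iv2 D3792)
def n3793 : Q := act 4 n1657
theorem D3793 : act 4 n1657 = n3793 := rfl
def n3794 : Q := act 5 n1657
theorem D3794 : act 5 n1657 = n3794 := rfl
def n3795 : Q := act 6 n1657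
theorem D3795 : act 6 n1657 = n3795 := rfl
def n3796 : Q := act 7 n1657
theorem D3796 : act 7 n1657 = n3796 := rfl
theorem F5791 : act 2 n3796 = n1658 := d4_1 D3796 F5790 (iv2 D3792)
def n3797 : Q := act 3 n1658
theorem D3797 : act 3 n1658 = n3797 := rfl
def n3798 : Q := act 5 n1658
theorem D3798 : act 5 n1658 = n3798 := rfl
def n3799 : Q := act 6 n1658
theorem D3799 : act 6 n1658 = n3799 := rfl
def n3800 : Q := act 5 n1659
theorem D3800 : act 5 n1659 = n3800 := rfl
theorem F5792 : act 2 n3800 = n1660 := d2_1 D3800 (iv5 D1660) D1659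
def n3801 : Q := act 6 n1659
theorem D3801 : act 6 n1659 = n3801 := rfl
theorem F5793 : act 2 n3801 = n1661 := d3_1 D3801 (iv6 D1661) D1659
theorem F5794 : act 4 n3801 = n3801 := d10_1 D3801 (iv6 D3801) F2840
theorem F5795 : act 7 n3801 = n3801 := d14_2 F4198 D3801 (iv6 D3801) (iv7 F4198) F4197
def n3802 : Q := act 0 n1660
theorem D3802 : act 0 n1660 = n3802 := rfl
def n3803 : Q := act 1 n1660
theorem D3803 : act 1 n1660 = n3803 := rfl
def n3804 : Q := act 4 n1660
theorem D3804 : act 4 n1660 = n3804 := rfl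
def n3805 : Q := act 6 n1660
theorem D3805 : act 6 n1660 = n3805 := rfl
theorem F5796 : act 3 n3805 = n1663 := d7_1 D3805 (iv6 D1663) (iv3 F2841)
def n3806 : Q := act 0 n1661
theorem D3806 : act 0 n1661 = n3806 := rfl
theorem F5797 : act 1 n3801 = n3806 := d15_0 (iv0 D3806) F2844 (iv2 F5793)
def n3807 : Q := act 1 n1661
theorem D3807 : act 1 n1661 = n3807 := rfl
theorem F5798 : act 1 n3807 = n3801 := d15_1 D3807 F5795 F5793
def n3808 : Q := act 5 n1661
theorem D3808 : act 5 n1661 = n3808 := rfl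
theorem F5799 : act 3 n3808 = n1666 := d6_1 D3808 (iv5 D1666) (iv3 F2842)
theorem F5800 : act 7 n3808 = n3808 := d13_2 F2844 D3808 (iv5 D3808)
def n3809 : Q := act 0 n1663
theorem D3809 : act 0 n1663 = n3809 := rfl
def n3810 : Q := act 1 n1663
theorem D3810 : act 1 n1663 = n3810 := rfl
def n3811 : Q := act 5 n1663
theorem D3811 : act 5 n1663 = n3811 := rfl
theorem F5801 : act 6 n3811 = n1666 := d12_2 D1663 D3811 (iv5 D1666) (iv6 D888) D887
def n3812 : Q := act 7 n1663
theorem D3812 : act 7 n1663 = n3812 := rfl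
def n3813 : Q := act 4 n1666
theorem D3813 : act 4 n1666 = n3813 := rfl
theorem F5802 : act 7 n3813 = n3813 := d11_2 F2852 D3813 (iv4 D3813)
def n3814 : Q := act 5 n1667
theorem D3814 : act 5 n1667 = n3814 := rfl
theorem F5803 : act 2 n3814 = n1685 := d2_1 D3814 F2864 F2853
theorem F5804 : act 7 n3814 = n1680 := d13_2 (iv7 F2855) D3814 (iv5 D1680)
theorem F5805 : act 1 n1682 = n3814 := d15_1 D1682 F5804 F2861
theorem F5806 : act 1 n3814 = n1681 := d15_0 (iv0 D1681) D1685 (iv2 F5803)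
def n3815 : Q := act 6 n1667
theorem D3815 : act 6 n1667 = n3815 := rfl
theorem F5807 : act 2 n3815 = n1686 := d3_1 D3815 (iv6 D1686) F2853
theorem F5808 : act 4 n3815 = n1954 := d10_1 D3815 (iv6 D1954) (iv4 F2854)
def n3816 : Q := act 0 n1668
theorem D3816 : act 0 n1668 = n3816 := rfl
def n3817 : Q := act 1 n1668
theorem D3817 : act 1 n1668 = n3817 := rfl
def n3818 : Q := act 3 n1668
theorem D3818 : act 3 n1668 = n3818 := rfl
theorem F5811 : act 7 n3818 = n1674 := d8_2 F2857 D3818 (iv3 D1674)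
def n3819 : Q := act 4 n1668
theorem D3819 : act 4 n1668 = n3819 := rfl
theorem F5812 : act 2 n3819 = n1670 := d1_1 D3819 (iv4 D1670) D1668
theorem F5813 : act 7 n3819 = n1675 := d11_2 F2857 D3819 (iv4 D1675)
def n3820 : Q := act 5 n1668
theorem D3820 : act 5 n1668 = n3820 := rfl
theorem F5814 : act 2 n3820 = n1671 := d2_1 D3820 (iv5 D1671) D1668
theorem F5815 : act 7 n3820 = n1676 := d13_2 F2857 D3820 (iv5 D1676)
def n3821 : Q := act 6 n1668
theorem D3821 : act 6 n1668 = n3821 := rfl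
theorem F5816 : act 2 n3821 = n1672 := d3_1 D3821 (iv6 D1672) D1668
def n3822 : Q := act 0 n1669
theorem D3822 : act 0 n1669 = n3822 := rfl
def n3823 : Q := act 1 n1669
theorem D3823 : act 1 n1669 = n3823 := rfl
def n3824 : Q := act 2 n1669
theorem D3824 : act 2 n1669 = n3824 := rfl
def n3825 : Q := act 5 n1669
theorem D3825 : act 5 n1669 = n3825 := rfl
theorem F5817 : act 3 n3825 = n1671 := d6_1 D3825 (iv5 D1671) D1669
def n3826 : Q := act 6 n1669
theorem D3826 : act 6 n1669 = n3826 := rfl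
theorem F5818 : act 3 n3826 = n1672 := d7_1 D3826 (iv6 D1672) D1669
def n3827 : Q := act 7 n1669
theorem D3827 : act 7 n1669 = n3827 := rfl
theorem F5819 : act 3 n3827 = n1673 := d8_1 D3827 (iv7 D1673) D1669
def n3828 : Q := act 0 n1670
theorem D3828 : act 0 n1670 = n3828 := rfl
theorem F5820 : act 4 n3828 = n3750 := d20_2 D1670 D3828 (iv3 D3750) (iv1 D1640) (iv3 D878) (iv4 D560) (iv1 D281) D282 D565 D889
theorem F5821 : act 3 n3777 = n3828 := d5_5 F5820 (iv3 D3750) D3751 F5748 D3777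
theorem F5822 : act 0 n3828 = n1675 := d20_10 (iv4 D1675) (iv1 D890) F853 (iv3 D341) D339 D638 (iv4 F1646) D1652 D3777 F5821
theorem F5823 : act 0 n1674 = n3746 := d20_10 (iv4 D3746) (iv1 F4172) F4169 (iv3 F4168) (iv1 F4174) D3750 (iv4 F5820) F5822 (iv4 D1675) D1674
def n3829 : Q := act 1 n1670
theorem D3829 : act 1 n1670 = n3829 := rfl
theorem F5824 : act 1 n3829 = n1675 := d15_1 D3829 (iv7 F5813) F5812
def n3830 : Q := act 3 n1670
theorem D3830 : act 3 n1670 = n3830 := rfl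
theorem F5825 : act 0 n3830 = n1863 := d20_4 (iv4 F853) D889 D1670 D3830 (iv3 D1863) D1864 F3299 (iv4 D1986) (iv3 D1006) (iv1 D644)
def n3831 : Q := act 5 n1670
theorem D3831 : act 5 n1670 = n3831 := rfl
def n3832 : Q := act 6 n1670
theorem D3832 : act 6 n1670 = n3832 := rfl
theorem F5826 : act 4 n3832 = n1672 := d10_1 D3832 (iv6 D1672) D1670
def n3833 : Q := act 7 n1670
theorem D3833 : act 7 n1670 = n3833 := rfl
theorem F5827 : act 2 n3833 = n1675 := d4_1 D3833 (iv7 F5813) F5812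
theorem F5828 : act 4 n3833 = n1673 := d11_1 D3833 (iv7 D1673) D1670
def n3834 : Q := act 0 n1671
theorem D3834 : act 0 n1671 = n3834 := rfl
def n3835 : Q := act 1 n1671
theorem D3835 : act 1 n1671 = n3835 := rfl
theorem F5829 : act 1 n3835 = n1676 := d15_1 D3835 (iv7 F5815) F5814
def n3836 : Q := act 4 n1671
theorem D3836 : act 4 n1671 = n3836 := rfl
def n3837 : Q := act 6 n1671
theorem D3837 : act 6 n1671 = n3837 := rfl
def n3838 : Q := act 7 n1671
theorem D3838 : act 7 n1671 = n3838 := rfl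
theorem F5830 : act 2 n3838 = n1676 := d4_1 D3838 (iv7 F5815) F5814
theorem F5831 : act 5 n3838 = n1673 := d13_1 D3838 (iv7 D1673) D1671
theorem F5832 : act 1 n1676 = n3834 := d15_0 (iv0 D3834) D3838 F5830
def n3841 : Q := act 5 n1672
theorem D3841 : act 5 n1672 = n3841 := rfl
def n3843 : Q := act 6 n1673
theorem D3843 : act 6 n1673 = n3843 := rfl
theorem F5833 : act 2 n3843 = n1677 := d3_1 D3843 (iv6 D1677) (iv2 F2858)
def n3844 : Q := act 1 n1674
theorem D3844 : act 1 n1674 = n3844 := rfl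
def n3845 : Q := act 2 n1674
theorem D3845 : act 2 n1674 = n3845 := rfl
def n3846 : Q := act 4 n1674
theorem D3846 : act 4 n1674 = n3846 := rfl
theorem F5834 : act 0 n3725 = n3846 := d20_1 D3725 (iv4 D3846) (iv3 D1674) (iv1 D890) (iv3 D565) (iv4 D282) D280 D555 D876 D1632
def n3847 : Q := act 5 n1674
theorem D3847 : act 5 n1674 = n3847 := rfl
theorem F5835 : act 3 n3847 = n1676 := d6_1 D3847 (iv5 D1676) D1674
def n3848 : Q := act 6 n1674
theorem D3848 : act 6 n1674 = n3848 := rfl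
theorem F5836 : act 3 n3848 = n1677 := d7_1 D3848 (iv6 D1677) D1674
def n3849 : Q := act 5 n1675
theorem D3849 : act 5 n1675 = n3849 := rfl
def n3850 : Q := act 6 n1675
theorem D3850 : act 6 n1675 = n3850 := rfl
theorem F5837 : act 4 n3850 = n1677 := d10_1 D3850 (iv6 D1677) D1675
def n3851 : Q := act 4 n1676
theorem D3851 : act 4 n1676 = n3851 := rfl
def n3852 : Q := act 6 n1676
theorem D3852 : act 6 n1676 = n3852 := rfl
def n3853 : Q := act 0 n1677
theorem D3853 : act 0 n1677 = n3853 := rfl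
def n3854 : Q := act 1 n1677
theorem D3854 : act 1 n1677 = n3854 := rfl
def n3855 : Q := act 5 n1677
theorem D3855 : act 5 n1677 = n3855 := rfl
def n3856 : Q := act 7 n1677
theorem D3856 : act 7 n1677 = n3856 := rfl
def n3857 : Q := act 2 n1678
theorem D3857 : act 2 n1678 = n3857 := rfl
theorem F5838 : act 7 n1679 = n3857 := d15_2 (iv0 D1678) D1679 (iv2 D3857)
def n3858 : Q := act 3 n1678
theorem D3858 : act 3 n1678 = n3858 := rfl
def n3860 : Q := act 6 n1678
theorem D3860 : act 6 n1678 = n3860 := rfl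
def n3862 : Q := act 3 n1679
theorem D3862 : act 3 n1679 = n3862 := rfl
def n3863 : Q := act 4 n1679
theorem D3863 : act 4 n1679 = n3863 := rfl
def n3866 : Q := act 0 n1680
theorem D3866 : act 0 n1680 = n3866 := rfl
theorem F5840 : act 1 n1685 = n3866 := d15_0 (iv0 D3866) (iv7 F5804) F5803
def n3867 : Q := act 1 n1680
theorem D3867 : act 1 n1680 = n3867 := rfl
theorem F5841 : act 1 n3867 = n1685 := d15_1 D3867 (iv7 D1685) (iv2 F2861)
def n3868 : Q := act 4 n1680
theorem D3868 : act 4 n1680 = n3868 := rfl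
theorem F5842 : act 2 n3868 = n1683 := d1_1 D3868 (iv4 D1683) (iv2 F2861)
def n3869 : Q := act 6 n1680
theorem D3869 : act 6 n1680 = n3869 := rfl
theorem F5843 : act 2 n3869 = n1684 := d3_1 D3869 (iv6 D1684) (iv2 F2861)
def n3870 : Q := act 2 n1681
theorem D3870 : act 2 n1681 = n3870 := rfl
theorem F5844 : act 7 n1682 = n3870 := d15_2 (iv0 D1681) D1682 (iv2 D3870)
def n3871 : Q := act 3 n1681
theorem D3871 : act 3 n1681 = n3871 := rfl
def n3872 : Q := act 4 n1681
theorem D3872 : act 4 n1681 = n3872 := rfl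
def n3873 : Q := act 5 n1681
theorem D3873 : act 5 n1681 = n3873 := rfl
def n3874 : Q := act 6 n1681
theorem D3874 : act 6 n1681 = n3874 := rfl
def n3875 : Q := act 7 n1681
theorem D3875 : act 7 n1681 = n3875 := rfl
theorem F5845 : act 2 n3875 = n1682 := d4_1 D3875 F5844 (iv2 D3870)
def n3876 : Q := act 3 n1682
theorem D3876 : act 3 n1682 = n3876 := rfl
def n3877 : Q := act 4 n1682
theorem D3877 : act 4 n1682 = n3877 := rfl
def n3878 : Q := act 5 n1682
theorem D3878 : act 5 n1682 = n3878 := rfl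
def n3879 : Q := act 6 n1682
theorem D3879 : act 6 n1682 = n3879 := rfl
def n3880 : Q := act 0 n1683
theorem D3880 : act 0 n1683 = n3880 := rfl
def n3881 : Q := act 1 n1683
theorem D3881 : act 1 n1683 = n3881 := rfl
def n3882 : Q := act 3 n1683
theorem D3882 : act 3 n1683 = n3882 := rfl
theorem F5846 : act 4 n3882 = n1691 := d5_2 D1683 D3882 (iv3 D1691) (iv4 D896) (iv3 F1657)
def n3883 : Q := act 5 n1683
theorem D3883 : act 5 n1683 = n3883 := rfl
def n3884 : Q := act 6 n1683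
theorem D3884 : act 6 n1683 = n3884 := rfl
theorem F5847 : act 4 n3884 = n1684 := d10_1 D3884 (iv6 D1684) D1683
def n3885 : Q := act 7 n1683
theorem D3885 : act 7 n1683 = n3885 := rfl
theorem F5848 : act 4 n3885 = n1685 := d11_1 D3885 (iv7 D1685) D1683
def n3886 : Q := act 0 n1684
theorem D3886 : act 0 n1684 = n3886 := rfl
def n3887 : Q := act 1 n1684
theorem D3887 : act 1 n1684 = n3887 := rfl
def n3888 : Q := act 7 n1684
theorem D3888 : act 7 n1684 = n3888 := rfl
theorem F5849 : act 3 n3888 = n1695 := d8_1 D3888 (iv7 D1695) (iv3 F2862)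
def n3889 : Q := act 6 n1685
theorem D3889 : act 6 n1685 = n3889 := rfl
theorem F5850 : act 3 n3889 = n1696 := d7_1 D3889 (iv6 D1696) (iv3 F2863)
def n3890 : Q := act 0 n1686
theorem D3890 : act 0 n1686 = n3890 := rfl
def n3891 : Q := act 1 n1686
theorem D3891 : act 1 n1686 = n3891 := rfl
def n3892 : Q := act 5 n1686
theorem D3892 : act 5 n1686 = n3892 := rfl
theorem F5851 : act 3 n3892 = n1699 := d6_1 D3892 (iv5 D1699) (iv3 F2865)
def n3893 : Q := act 0 n1687
theorem D3893 : act 0 n1687 = n3893 := rfl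
def n3894 : Q := act 1 n1687
theorem D3894 : act 1 n1687 = n3894 := rfl
def n3895 : Q := act 2 n1687
theorem D3895 : act 2 n1687 = n3895 := rfl
theorem F5852 : act 5 n3895 = n3528 := d2_2 (iv5 F2867) D3895 (iv2 D3528)
def n3896 : Q := act 4 n1687
theorem D3896 : act 4 n1687 = n3896 := rfl
def n3897 : Q := act 6 n1687
theorem D3897 : act 6 n1687 = n3897 := rfl
theorem F5853 : act 3 n3897 = n1688 := d7_1 D3897 (iv6 D1688) D1687
def n3898 : Q := act 0 n1688
theorem D3898 : act 0 n1688 = n3898 := rfl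
def n3899 : Q := act 1 n1688
theorem D3899 : act 1 n1688 = n3899 := rfl
def n3900 : Q := act 5 n1688
theorem D3900 : act 5 n1688 = n3900 := rfl
theorem F5854 : act 6 n3900 = n3530 := d12_2 D1688 D3900 (iv5 D3530) (iv6 D1559) (iv5 F1660)
def n3901 : Q := act 7 n1688
theorem D3901 : act 7 n1688 = n3901 := rfl
def n3902 : Q := act 0 n1689
theorem D3902 : act 0 n1689 = n3902 := rfl
def n3903 : Q := act 1 n1689
theorem D3903 : act 1 n1689 = n3903 := rfl
def n3904 : Q := act 2 n1689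
theorem D3904 : act 2 n1689 = n3904 := rfl
theorem F5855 : act 5 n3904 = n3534 := d2_2 (iv5 F2868) D3904 (iv2 D3534)
def n3905 : Q := act 4 n1689
theorem D3905 : act 4 n1689 = n3905 := rfl
def n3906 : Q := act 6 n1689
theorem D3906 : act 6 n1689 = n3906 := rfl
theorem F5856 : act 3 n3906 = n1690 := d7_1 D3906 (iv6 D1690) D1689
def n3907 : Q := act 0 n1690
theorem D3907 : act 0 n1690 = n3907 := rfl
def n3908 : Q := act 1 n1690
theorem D3908 : act 1 n1690 = n3908 := rfl
def n3909 : Q := act 5 n1690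
theorem D3909 : act 5 n1690 = n3909 := rfl
theorem F5857 : act 6 n3909 = n3536 := d12_2 D1690 D3909 (iv5 D3536) (iv6 D1561) (iv5 F1661)
def n3910 : Q := act 7 n1690
theorem D3910 : act 7 n1690 = n3910 := rfl
def n3911 : Q := act 0 n1691
theorem D3911 : act 0 n1691 = n3911 := rfl
def n3912 : Q := act 1 n1691
theorem D3912 : act 1 n1691 = n3912 := rfl
def n3913 : Q := act 2 n1691
theorem D3913 : act 2 n1691 = n3913 := rfl
def n3914 : Q := act 6 n1691
theorem D3914 : act 6 n1691 = n3914 := rfl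
theorem F5858 : act 3 n3914 = n1692 := d7_1 D3914 (iv6 D1692) D1691
def n3915 : Q := act 0 n1692
theorem D3915 : act 0 n1692 = n3915 := rfl
def n3916 : Q := act 1 n1692
theorem D3916 : act 1 n1692 = n3916 := rfl
def n3917 : Q := act 5 n1692
theorem D3917 : act 5 n1692 = n3917 := rfl
def n3918 : Q := act 7 n1692
theorem D3918 : act 7 n1692 = n3918 := rfl
theorem F5859 : act 4 n3918 = n1695 := d11_1 D3918 (iv7 D1695) (iv4 F2869)
def n3919 : Q := act 2 n1693
theorem D3919 : act 2 n1693 = n3919 := rfl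
theorem F5860 : act 7 n1694 = n3919 := d15_2 (iv0 D1693) D1694 (iv2 D3919)
def n3920 : Q := act 3 n1693
theorem D3920 : act 3 n1693 = n3920 := rfl
def n3921 : Q := act 4 n1693
theorem D3921 : act 4 n1693 = n3921 := rfl
def n3922 : Q := act 5 n1693
theorem D3922 : act 5 n1693 = n3922 := rfl
def n3923 : Q := act 6 n1693
theorem D3923 : act 6 n1693 = n3923 := rfl
theorem F5861 : act 5 n3923 = n2642 := d21_6 (iv5 D887) (iv1 D564) D566 D897 D1693 D3923 (iv1 D2642) (iv5 F4075) (iv6 D2560) F2199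
def n3924 : Q := act 7 n1693
theorem D3924 : act 7 n1693 = n3924 := rfl
theorem F5862 : act 2 n3924 = n1694 := d4_1 D3924 F5860 (iv2 D3919)
def n3925 : Q := act 3 n1694
theorem D3925 : act 3 n1694 = n3925 := rfl
def n3926 : Q := act 4 n1694
theorem D3926 : act 4 n1694 = n3926 := rfl
def n3927 : Q := act 5 n1694
theorem D3927 : act 5 n1694 = n3927 := rfl
theorem F5863 : act 6 n2641 = n3927 := d21_5 (iv5 D1223) (iv1 D729) D731 D1233 D2641 (iv5 D3927) (iv1 D1694) (iv5 F2724) (iv6 D1568) (iv1 F2290)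
def n3928 : Q := act 6 n1694
theorem D3928 : act 6 n1694 = n3928 := rfl
def n3929 : Q := act 6 n1695
theorem D3929 : act 6 n1695 = n3929 := rfl
theorem F5864 : act 7 n3929 = n1696 := d14_2 D1695 D3929 (iv6 D1696) (iv7 D898) D897
def n3930 : Q := act 0 n1696
theorem D3930 : act 0 n1696 = n3930 := rfl
def n3931 : Q := act 1 n1696
theorem D3931 : act 1 n1696 = n3931 := rfl
def n3932 : Q := act 5 n1696
theorem D3932 : act 5 n1696 = n3932 := rfl
theorem F5865 : act 6 n3932 = n1699 := d12_2 D1696 D3932 (iv5 D1699) (iv6 D899) (iv5 F1662)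
def n3933 : Q := act 3 n1697
theorem D3933 : act 3 n1697 = n3933 := rfl
theorem F5866 : act 4 n3933 = n1742 := d5_2 (iv4 F2870) D3933 F3002 F1737 (iv3 F1704)
theorem F5867 : act 6 n3933 = n1710 := d7_2 (iv6 F2871) D3933 (iv3 D1710)
def n3934 : Q := act 5 n1697
theorem D3934 : act 5 n1697 = n3934 := rfl
theorem F5868 : act 2 n3934 = n3536 := d2_1 D3934 (iv5 D3536) F2885
def n3935 : Q := act 3 n1698
theorem D3935 : act 3 n1698 = n3935 := rfl
theorem F5869 : act 4 n3935 = n3935 := d5_2 F5364 D3935 (iv3 D3935) (iv4 F5364) F5363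
theorem F5870 : act 7 n3935 = n3535 := d8_2 (iv7 F2887) D3935 F5562
def n3936 : Q := act 5 n1698
theorem D3936 : act 5 n1698 = n3936 := rfl
theorem F5871 : act 7 n3936 = n3536 := d13_2 (iv7 F2887) D3936 (iv5 D3536)
def n3937 : Q := act 1 n1699
theorem D3937 : act 1 n1699 = n3937 := rfl
theorem F5872 : act 1 n3937 = n3615 := d15_1 D3937 F5651 F4248
theorem F5873 : act 5 n3937 = n3661 := d17_7 F2243 F2239 (iv1 F1635) F856 (iv4 F1663) D1699 D3937 (iv0 D3661) (iv4 D1609)
def n3938 : Q := act 4 n1699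
theorem D3938 : act 4 n1699 = n3938 := rfl
theorem F5874 : act 0 n3938 = n3659 := d18_2 (iv1 D3937) D3938 (iv4 D3659) (iv5 D1605) F1631 D866 D1612 F5684 (iv5 F5873)
def n3939 : Q := act 0 n1700
theorem D3939 : act 0 n1700 = n3939 := rfl
theorem F5875 : act 1 n3722 = n3939 := d15_0 (iv0 D3939) F2889 D3722
def n3940 : Q := act 1 n1700
theorem D3940 : act 1 n1700 = n3940 := rfl
theorem F5876 : act 4 n3862 = n3940 := d20_6 (iv4 D725) (iv1 F711) (iv4 F854) (iv3 F1658) (iv1 F2860) D3862 (iv1 D3940) F2888 (iv3 D1700) F1676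
def n3941 : Q := act 2 n1700
theorem D3941 : act 2 n1700 = n3941 := rfl
theorem F5877 : act 3 n3941 = n1716 := d0_2 D1700 D3941 (iv2 D1716) (iv3 D911) (iv2 F1675)
theorem F5878 : act 4 n3941 = n3941 := d1_2 F2888 D3941 (iv2 D3941)
theorem F5879 : act 7 n3941 = n3722 := d4_2 (iv7 F2889) D3941 (iv2 D3722)
theorem F5880 : act 1 n3941 = n3720 := d15_0 (iv0 D3720) (iv7 F2889) D3941
theorem F5881 : act 1 n3940 = n3722 := d15_1 D3940 (iv7 F5879) (iv2 D3941)
theorem F5882 : act 0 n3941 = n3721 := d20_1 F5878 (iv4 F5729) (iv3 D1669) D1667 (iv3 F4210) F4211 (iv1 F4213) D2623 (iv3 F5728) (iv1 F5880)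
def n3942 : Q := act 5 n1700
theorem D3942 : act 5 n1700 = n3942 := rfl
theorem F5883 : act 3 n3942 = n1701 := d6_1 D3942 (iv5 D1701) D1700
theorem F5884 : act 7 n3942 = n3648 := d13_2 (iv7 F2889) D3942 F5672
def n3943 : Q := act 6 n1701
theorem D3943 : act 6 n1701 = n3943 := rfl
theorem F5885 : act 2 n3943 = n1720 := d3_1 D3943 (iv6 D1720) (iv2 F2890)
theorem F5886 : act 5 n3943 = n3739 := d12_1 D3943 (iv6 D3739) F2812 (iv6 F2224) D1701
def n3944 : Q := act 0 n1705
theorem D3944 : act 0 n1705 = n3944 := rfl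
theorem F5887 : act 1 n3534 = n3944 := d15_0 (iv0 D3944) F2912 D3534
def n3945 : Q := act 1 n1705
theorem D3945 : act 1 n1705 = n3945 := rfl
def n3946 : Q := act 2 n1705
theorem D3946 : act 2 n1705 = n3946 := rfl
theorem F5888 : act 3 n3946 = n3528 := d0_2 D1705 D3946 (iv2 D3528) (iv3 D1558) (iv2 F1695)
theorem F5889 : act 4 n3946 = n3946 := d1_2 F2911 D3946 (iv2 D3946)
theorem F5890 : act 7 n3946 = n3534 := d4_2 (iv7 F2912) D3946 (iv2 D3534)
theorem F5891 : act 1 n3946 = n3532 := d15_0 (iv0 D3532) (iv7 F2912) D3946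
theorem F5892 : act 1 n3945 = n3534 := d15_1 D3945 (iv7 F5890) (iv2 D3946)
theorem F5893 : act 0 n3946 = n3533 := d20_1 F5889 (iv4 F5664) (iv3 D3629) (iv1 F4152) F4149 (iv4 F4150) (iv1 F4154) D3635 (iv3 F5666) (iv1 F5891)
def n3947 : Q := act 6 n1705
theorem D3947 : act 6 n1705 = n3947 := rfl
theorem F5894 : act 3 n3947 = n1706 := d7_1 D3947 (iv6 D1706) D1705
theorem F5895 : act 4 n3947 = n3947 := d10_1 D3947 (iv6 D3947) F2911
def n3948 : Q := act 5 n1706
theorem D3948 : act 5 n1706 = n3948 := rfl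
theorem F5896 : act 2 n3948 = n3530 := d2_1 D3948 (iv5 D3530) (iv2 F2913)
theorem F5897 : act 7 n3948 = n3937 := d13_2 F5685 D3948 F5873
theorem F5898 : act 0 n3948 = n3563 := d17_2 F4123 D3948 (iv5 D3563) F2728 F1597 (iv0 F1599) (iv5 F1377) D1205 D2578
theorem F5899 : act 1 n3948 = n2646 := d17_6 (iv1 F2919) F1716 F2605 F2604 (iv4 F2914) D3948 (iv5 D2646) D2645 (iv4 F4246)
def n3949 : Q := act 0 n1710
theorem D3949 : act 0 n1710 = n3949 := rfl
theorem F5900 : act 1 n3528 = n3949 := d15_0 (iv0 D3949) F2917 D3528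
def n3950 : Q := act 1 n1710
theorem D3950 : act 1 n1710 = n3950 := rfl
theorem F5901 : act 4 n1802 = n3950 := d20_6 (iv4 D320) F485 D327 D622 D946 D1802 (iv1 D3950) F2916 (iv3 D924) F963
theorem F5902 : act 0 n3528 = n3950 := d20_1 (iv4 F5553) (iv4 F5901) (iv3 D1802) (iv1 F1815) F1812 F1813 (iv1 F1817) D1808 (iv3 F3070) (iv1 F2996)
def n3951 : Q := act 2 n1710
theorem D3951 : act 2 n1710 = n3951 := rfl
theorem F5903 : act 3 n3951 = n3534 := d0_2 D1710 D3951 (iv2 D3534) (iv3 D1560) (iv2 F1700)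
theorem F5904 : act 4 n3951 = n1741 := d1_2 (iv4 F2916) D3951 (iv2 D1741)
theorem F5905 : act 7 n3951 = n3528 := d4_2 (iv7 F2917) D3951 (iv2 D3528)
theorem F5906 : act 1 n3951 = n3526 := d15_0 (iv0 D3526) (iv7 F2917) D3951
theorem F5907 : act 1 n3527 = n3951 := d15_1 D3527 F5905 (iv2 D3528)
def n3952 : Q := act 0 n1714
theorem D3952 : act 0 n1714 = n3952 := rfl
theorem F5908 : act 3 n3952 = n3722 := d20_5 F1656 D1010 D2000 (iv3 F3306) D3952 F5730 (iv1 F5881) (iv4 F5876) (iv3 D3862) (iv1 D1679)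
theorem F5909 : act 4 n3952 = n1745 := d20_0 (iv1 F3010) D1753 (iv3 F4219) (iv1 D2627) F2294 F1656 D1010 D2000 (iv3 F3306) D3952
theorem F5910 : act 2 n1718 = n3952 := d15_3 (iv0 D3952) (iv0 D1714) D1718
theorem F5911 : act 7 n3952 = n1716 := d4_2 D1718 F5910 (iv2 D1716)
theorem F5912 : act 1 n1715 = n3952 := d15_1 D1715 F5911 (iv2 D1716)
def n3953 : Q := act 2 n1714
theorem D3953 : act 2 n1714 = n3953 := rfl
theorem F5913 : act 7 n1715 = n3953 := d15_2 (iv0 D1714) D1715 (iv2 D3953)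
def n3954 : Q := act 4 n1714
theorem D3954 : act 4 n1714 = n3954 := rfl
def n3955 : Q := act 5 n1714
theorem D3955 : act 5 n1714 = n3955 := rfl
def n3956 : Q := act 6 n1714
theorem D3956 : act 6 n1714 = n3956 := rfl
def n3957 : Q := act 7 n1714
theorem D3957 : act 7 n1714 = n3957 := rfl
theorem F5914 : act 2 n3957 = n1715 := d4_1 D3957 F5913 (iv2 D3953)
def n3958 : Q := act 3 n1715
theorem D3958 : act 3 n1715 = n3958 := rfl
def n3959 : Q := act 5 n1715
theorem D3959 : act 5 n1715 = n3959 := rfl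
def n3960 : Q := act 6 n1715
theorem D3960 : act 6 n1715 = n3960 := rfl
def n3961 : Q := act 5 n1716
theorem D3961 : act 5 n1716 = n3961 := rfl
theorem F5915 : act 2 n3961 = n1717 := d2_1 D3961 (iv5 D1717) D1716
def n3962 : Q := act 0 n1717
theorem D3962 : act 0 n1717 = n3962 := rfl
def n3963 : Q := act 1 n1717
theorem D3963 : act 1 n1717 = n3963 := rfl
def n3964 : Q := act 4 n1717
theorem D3964 : act 4 n1717 = n3964 := rfl
def n3965 : Q := act 6 n1717
theorem D3965 : act 6 n1717 = n3965 := rfl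
theorem F5916 : act 3 n3965 = n1720 := d7_1 D3965 (iv6 D1720) (iv3 F2928)
def n3966 : Q := act 7 n1717
theorem D3966 : act 7 n1717 = n3966 := rfl
theorem F5917 : act 3 n3966 = n1721 := d8_1 D3966 (iv7 D1721) (iv3 F2928)
theorem F5918 : act 5 n3966 = n1718 := d13_1 D3966 (iv7 D1718) D1717
def n3967 : Q := act 6 n1718
theorem D3967 : act 6 n1718 = n3967 := rfl
theorem F5919 : act 3 n3967 = n1722 := d7_1 D3967 (iv6 D1722) (iv3 F2929)
theorem F5920 : act 4 n3967 = n1763 := d10_1 D3967 (iv6 D1763) (iv4 F2930)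
theorem F5921 : act 7 n3967 = n3714 := d14_2 D1718 D3967 F5715 F3062 F2775
def n3968 : Q := act 3 n1719
theorem D3968 : act 3 n1719 = n3968 := rfl
theorem F5922 : act 5 n3968 = n3566 := d6_2 (iv5 F2931) D3968 (iv3 D3566)
def n3969 : Q := act 6 n1719
theorem D3969 : act 6 n1719 = n3969 := rfl
theorem F5923 : act 4 n3969 = n1720 := d10_1 D3969 (iv6 D1720) D1719
def n3970 : Q := act 0 n1720
theorem D3970 : act 0 n1720 = n3970 := rfl
def n3971 : Q := act 1 n1720
theorem D3971 : act 1 n1720 = n3971 := rfl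
def n3972 : Q := act 7 n1720
theorem D3972 : act 7 n1720 = n3972 := rfl
def n3973 : Q := act 6 n1721
theorem D3973 : act 6 n1721 = n3973 := rfl
theorem F5924 : act 2 n3973 = n3649 := d3_1 D3973 (iv6 D3649) (iv2 F2932)
def n3974 : Q := act 2 n1723
theorem D3974 : act 2 n1723 = n3974 := rfl
theorem F5925 : act 7 n1724 = n3974 := d15_2 (iv0 D1723) D1724 (iv2 D3974)
def n3975 : Q := act 3 n1723
theorem D3975 : act 3 n1723 = n3975 := rfl
theorem F5926 : act 4 n3975 = n3548 := d20_6 (iv4 D609) F526 D595 D915 D1723 D3975 (iv1 F5571) F2722 F1757 (iv1 F1133)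
def n3976 : Q := act 4 n1723
theorem D3976 : act 4 n1723 = n3976 := rfl
def n3977 : Q := act 5 n1723
theorem D3977 : act 5 n1723 = n3977 := rfl
def n3978 : Q := act 6 n1723
theorem D3978 : act 6 n1723 = n3978 := rfl
def n3979 : Q := act 7 n1723
theorem D3979 : act 7 n1723 = n3979 := rfl
theorem F5927 : act 2 n3979 = n1724 := d4_1 D3979 F5925 (iv2 D3974)
def n3980 : Q := act 3 n1724
theorem D3980 : act 3 n1724 = n3980 := rfl
def n3981 : Q := act 4 n1724
theorem D3981 : act 4 n1724 = n3981 := rfl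
theorem F5928 : act 3 n3609 = n3981 := d20_5 (iv4 D530) D528 D858 D1588 D3609 (iv4 D3981) (iv1 D1724) (iv4 F2774) (iv3 D1594) (iv1 D861)
def n3982 : Q := act 5 n1724
theorem D3982 : act 5 n1724 = n3982 := rfl
def n3983 : Q := act 6 n1724
theorem D3983 : act 6 n1724 = n3983 := rfl
def n3984 : Q := act 5 n1725
theorem D3984 : act 5 n1725 = n3984 := rfl
theorem F5929 : act 2 n3984 = n1726 := d2_1 D3984 (iv5 D1726) D1725
theorem F5930 : act 3 n3984 = n3984 := d6_1 D3984 (iv5 D3984) F2941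
def n3985 : Q := act 0 n1726
theorem D3985 : act 0 n1726 = n3985 := rfl
def n3986 : Q := act 1 n1726
theorem D3986 : act 1 n1726 = n3986 := rfl
def n3987 : Q := act 4 n1726
theorem D3987 : act 4 n1726 = n3987 := rfl
def n3988 : Q := act 6 n1726
theorem D3988 : act 6 n1726 = n3988 := rfl
theorem F5931 : act 3 n3988 = n1727 := d7_1 D3988 (iv6 D1727) (iv3 F2943)
theorem F5932 : act 5 n3988 = n1762 := d12_1 D3988 (iv6 D1762) (iv5 D931) (iv6 F1717) D1726
def n3989 : Q := act 0 n1727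
theorem D3989 : act 0 n1727 = n3989 := rfl
def n3990 : Q := act 1 n1727
theorem D3990 : act 1 n1727 = n3990 := rfl
def n3991 : Q := act 7 n1727
theorem D3991 : act 7 n1727 = n3991 := rfl
theorem F5933 : act 2 n3991 = n3991 := d4_1 D3991 (iv7 D3991) F2944
theorem F5934 : act 5 n3991 = n1766 := d13_1 D3991 (iv7 D1766) (iv5 F2945)
theorem F5935 : act 1 n3991 = n3989 := d15_0 (iv0 D3989) D3991 F5933
theorem F5936 : act 1 n3990 = n3991 := d15_1 D3990 (iv7 D3991) F2944
def n3992 : Q := act 2 n1731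
theorem D3992 : act 2 n1731 = n3992 := rfl
theorem F5937 : act 7 n1732 = n3992 := d15_2 (iv0 D1731) D1732 (iv2 D3992)
def n3993 : Q := act 4 n1731
theorem D3993 : act 4 n1731 = n3993 := rfl
def n3994 : Q := act 5 n1731
theorem D3994 : act 5 n1731 = n3994 := rfl
def n3995 : Q := act 6 n1731
theorem D3995 : act 6 n1731 = n3995 := rfl
def n3996 : Q := act 7 n1731
theorem D3996 : act 7 n1731 = n3996 := rfl
theorem F5938 : act 2 n3996 = n1732 := d4_1 D3996 F5937 (iv2 D3992)
def n3997 : Q := act 3 n1732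
theorem D3997 : act 3 n1732 = n3997 := rfl
def n3998 : Q := act 5 n1732
theorem D3998 : act 5 n1732 = n3998 := rfl
def n3999 : Q := act 6 n1732
theorem D3999 : act 6 n1732 = n3999 := rfl
def n4000 : Q := act 6 n1733
theorem D4000 : act 6 n1733 = n4000 := rfl
theorem F5939 : act 2 n4000 = n1734 := d3_1 D4000 (iv6 D1734) D1733
theorem F5940 : act 3 n4000 = n4000 := d7_1 D4000 (iv6 D4000) F2964
def n4001 : Q := act 0 n1734
theorem D4001 : act 0 n1734 = n4001 := rfl
def n4002 : Q := act 1 n1734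
theorem D4002 : act 1 n1734 = n4002 := rfl
def n4003 : Q := act 5 n1734
theorem D4003 : act 5 n1734 = n4003 := rfl
theorem F5941 : act 3 n4003 = n1735 := d6_1 D4003 (iv5 D1735) (iv3 F2965)
def n4004 : Q := act 7 n1734
theorem D4004 : act 7 n1734 = n4004 := rfl
theorem F5942 : act 3 n4004 = n1736 := d8_1 D4004 (iv7 D1736) (iv3 F2965)
theorem F5943 : act 6 n4004 = n2074 := d14_1 D4004 F3374 (iv6 D1742) F1735 D1734
def n4005 : Q := act 4 n1735
theorem D4005 : act 4 n1735 = n4005 := rfl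
theorem F5944 : act 2 n4005 = n4005 := d1_1 D4005 (iv4 D4005) F2966
def n4006 : Q := act 2 n1739
theorem D4006 : act 2 n1739 = n4006 := rfl
theorem F5945 : act 7 n1740 = n4006 := d15_2 (iv0 D1739) D1740 (iv2 D4006)
def n4007 : Q := act 4 n1739
theorem D4007 : act 4 n1739 = n4007 := rfl
def n4008 : Q := act 5 n1739
theorem D4008 : act 5 n1739 = n4008 := rfl
def n4009 : Q := act 6 n1739
theorem D4009 : act 6 n1739 = n4009 := rfl
def n4010 : Q := act 7 n1739
theorem D4010 : act 7 n1739 = n4010 := rfl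
theorem F5946 : act 2 n4010 = n1740 := d4_1 D4010 F5945 (iv2 D4006)
def n4011 : Q := act 3 n1740
theorem D4011 : act 3 n1740 = n4011 := rfl
def n4012 : Q := act 4 n1740
theorem D4012 : act 4 n1740 = n4012 := rfl
theorem F5947 : act 3 n4012 = n2568 := d20_9 (iv4 F4150) (iv1 F4154) D3635 (iv3 F5666) (iv1 F5891) F5888 F5553 (iv1 F3000) D4012 (iv1 F4092)
def n4013 : Q := act 5 n1740
theorem D4013 : act 5 n1740 = n4013 := rfl
def n4014 : Q := act 6 n1740
theorem D4014 : act 6 n1740 = n4014 := rfl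
def n4015 : Q := act 6 n1741
theorem D4015 : act 6 n1741 = n4015 := rfl
theorem F5948 : act 2 n4015 = n1742 := d3_1 D4015 (iv6 D1742) D1741
theorem F5949 : act 3 n4015 = n4015 := d7_1 D4015 (iv6 D4015) F2997
def n4016 : Q := act 0 n1742
theorem D4016 : act 0 n1742 = n4016 := rfl
def n4017 : Q := act 1 n1742
theorem D4017 : act 1 n1742 = n4017 := rfl
def n4018 : Q := act 5 n1742
theorem D4018 : act 5 n1742 = n4018 := rfl
theorem F5950 : act 3 n4018 = n1743 := d6_1 D4018 (iv5 D1743) (iv3 F3002)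
def n4019 : Q := act 4 n1743
theorem D4019 : act 4 n1743 = n4019 := rfl
def n4020 : Q := act 6 n1745
theorem D4020 : act 6 n1745 = n4020 := rfl
theorem F5952 : act 2 n4020 = n1763 := d3_1 D4020 (iv6 D1763) F3007
theorem F5953 : act 3 n4020 = n4020 := d7_1 D4020 (iv6 D4020) F3008
def n4021 : Q := act 0 n1746
theorem D4021 : act 0 n1746 = n4021 := rfl
theorem F5954 : act 1 n1751 = n4021 := d15_0 (iv0 D4021) (iv7 F3011) (iv2 F3013)
def n4022 : Q := act 1 n1746
theorem D4022 : act 1 n1746 = n4022 := rfl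
def n4023 : Q := act 3 n1746
theorem D4023 : act 3 n1746 = n4023 := rfl
theorem F5956 : act 7 n4023 = n1752 := d8_2 F3011 D4023 (iv3 D1752)
def n4024 : Q := act 4 n1746
theorem D4024 : act 4 n1746 = n4024 := rfl
theorem F5957 : act 2 n4024 = n1748 := d1_1 D4024 (iv4 D1748) D1746
theorem F5958 : act 7 n4024 = n1753 := d11_2 F3011 D4024 (iv4 D1753)
def n4025 : Q := act 5 n1746
theorem D4025 : act 5 n1746 = n4025 := rfl
theorem F5959 : act 2 n4025 = n1749 := d2_1 D4025 (iv5 D1749) D1746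
theorem F5960 : act 7 n4025 = n1754 := d13_2 F3011 D4025 (iv5 D1754)
def n4026 : Q := act 6 n1746
theorem D4026 : act 6 n1746 = n4026 := rfl
theorem F5961 : act 2 n4026 = n1750 := d3_1 D4026 (iv6 D1750) D1746
def n4027 : Q := act 0 n1747
theorem D4027 : act 0 n1747 = n4027 := rfl
def n4028 : Q := act 1 n1747
theorem D4028 : act 1 n1747 = n4028 := rfl
def n4029 : Q := act 2 n1747
theorem D4029 : act 2 n1747 = n4029 := rfl
theorem F5962 : act 4 n4029 = n3857 := d1_2 (iv4 F3012) D4029 (iv2 D3857)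
theorem F5963 : act 7 n3863 = n4029 := d11_0 F5962 (iv7 F5838) D3863
theorem F5964 : act 1 n4028 = n3863 := d15_1 D4028 F5963 (iv2 D4029)
def n4030 : Q := act 5 n1747
theorem D4030 : act 5 n1747 = n4030 := rfl
theorem F5965 : act 3 n4030 = n1749 := d6_1 D4030 (iv5 D1749) D1747
def n4031 : Q := act 6 n1747
theorem D4031 : act 6 n1747 = n4031 := rfl
theorem F5966 : act 3 n4031 = n1750 := d7_1 D4031 (iv6 D1750) D1747
theorem F5967 : act 4 n4031 = n3860 := d10_1 D4031 (iv6 D3860) (iv4 F3012)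
def n4032 : Q := act 7 n1747
theorem D4032 : act 7 n1747 = n4032 := rfl
theorem F5968 : act 2 n4032 = n3863 := d4_1 D4032 F5963 (iv2 D4029)
theorem F5969 : act 3 n4032 = n1751 := d8_1 D4032 (iv7 D1751) D1747
theorem F5971 : act 1 n3863 = n4027 := d15_0 (iv0 D4027) D4032 F5968
def n4033 : Q := act 0 n1748
theorem D4033 : act 0 n1748 = n4033 := rfl
theorem F5972 : act 4 n4033 = n1930 := d20_2 D1748 D4033 (iv3 D1930) (iv1 D991) (iv3 D640) F600 (iv1 D317) D318 D613 D928
def n4034 : Q := act 1 n1748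
theorem D4034 : act 1 n1748 = n4034 := rfl
theorem F5973 : act 1 n4034 = n1753 := d15_1 D4034 (iv7 F5958) F5957
def n4035 : Q := act 3 n1748
theorem D4035 : act 3 n1748 = n4035 := rfl
theorem F5974 : act 4 n4035 = n3858 := d5_2 D1748 D4035 (iv3 D3858) (iv4 F3012) (iv3 D1747)
def n4036 : Q := act 5 n1748
theorem D4036 : act 5 n1748 = n4036 := rfl
def n4037 : Q := act 6 n1748
theorem D4037 : act 6 n1748 = n4037 := rfl
theorem F5975 : act 4 n4037 = n1750 := d10_1 D4037 (iv6 D1750) D1748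
def n4038 : Q := act 7 n1748
theorem D4038 : act 7 n1748 = n4038 := rfl
theorem F5976 : act 2 n4038 = n1753 := d4_1 D4038 (iv7 F5958) F5957
theorem F5977 : act 4 n4038 = n1751 := d11_1 D4038 (iv7 D1751) D1748
theorem F5978 : act 1 n1753 = n4033 := d15_0 (iv0 D4033) D4038 F5976
def n4039 : Q := act 0 n1749
theorem D4039 : act 0 n1749 = n4039 := rfl
def n4040 : Q := act 1 n1749
theorem D4040 : act 1 n1749 = n4040 := rfl
def n4041 : Q := act 4 n1749
theorem D4041 : act 4 n1749 = n4041 := rfl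
def n4042 : Q := act 6 n1749
theorem D4042 : act 6 n1749 = n4042 := rfl
def n4043 : Q := act 7 n1749
theorem D4043 : act 7 n1749 = n4043 := rfl
theorem F5980 : act 2 n4043 = n1754 := d4_1 D4043 (iv7 F5960) F5959
theorem F5981 : act 5 n4043 = n1751 := d13_1 D4043 (iv7 D1751) D1749
theorem F5982 : act 1 n1754 = n4039 := d15_0 (iv0 D4039) D4043 F5980
def n4046 : Q := act 5 n1750
theorem D4046 : act 5 n1750 = n4046 := rfl
def n4048 : Q := act 6 n1751
theorem D4048 : act 6 n1751 = n4048 := rfl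
theorem F5983 : act 2 n4048 = n1755 := d3_1 D4048 (iv6 D1755) (iv2 F3013)
def n4049 : Q := act 0 n1752
theorem D4049 : act 0 n1752 = n4049 := rfl
theorem F5984 : act 4 n4049 = n1937 := d20_0 (iv1 F3238) F2836 F1859 (iv1 F1868) D1930 (iv4 F5972) (iv1 F5978) (iv4 D1753) D1752 D4049
theorem F5985 : act 3 n4049 = n4028 := d20_3 D993 D1937 (iv4 F5984) (iv1 D4028) (iv3 D1747) D1748 D4033 F5972 (iv3 D1930) (iv1 D991)
def n4050 : Q := act 1 n1752
theorem D4050 : act 1 n1752 = n4050 := rfl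
def n4051 : Q := act 2 n1752
theorem D4051 : act 2 n1752 = n4051 := rfl
theorem F5986 : act 3 n4051 = n3863 := d0_2 D1752 D4051 (iv2 F5968) F5969 F3013
theorem F5987 : act 0 n4051 = n1881 := d20_10 F3169 (iv1 D1653) F1646 (iv3 D638) (iv1 F604) (iv3 F1194) (iv4 F1659) (iv1 F2860) D3863 (iv3 F5986)
def n4052 : Q := act 4 n1752
theorem D4052 : act 4 n1752 = n4052 := rfl
theorem F5988 : act 0 n1909 = n4052 := d20_1 D1909 (iv4 D4052) (iv3 D1752) (iv1 D929) (iv3 D613) (iv4 D318) D316 (iv4 F598) D638 D985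
def n4053 : Q := act 5 n1752
theorem D4053 : act 5 n1752 = n4053 := rfl
theorem F5989 : act 3 n4053 = n1754 := d6_1 D4053 (iv5 D1754) D1752
def n4054 : Q := act 6 n1752
theorem D4054 : act 6 n1752 = n4054 := rfl
theorem F5990 : act 3 n4054 = n1755 := d7_1 D4054 (iv6 D1755) D1752
def n4055 : Q := act 5 n1753
theorem D4055 : act 5 n1753 = n4055 := rfl
def n4056 : Q := act 6 n1753
theorem D4056 : act 6 n1753 = n4056 := rfl
theorem F5991 : act 4 n4056 = n1755 := d10_1 D4056 (iv6 D1755) D1753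
def n4057 : Q := act 4 n1754
theorem D4057 : act 4 n1754 = n4057 := rfl
def n4058 : Q := act 6 n1754
theorem D4058 : act 6 n1754 = n4058 := rfl
def n4059 : Q := act 0 n1755
theorem D4059 : act 0 n1755 = n4059 := rfl
def n4060 : Q := act 1 n1755
theorem D4060 : act 1 n1755 = n4060 := rfl
def n4061 : Q := act 5 n1755
theorem D4061 : act 5 n1755 = n4061 := rfl
def n4062 : Q := act 7 n1755
theorem D4062 : act 7 n1755 = n4062 := rfl
def n4063 : Q := act 2 n1756
theorem D4063 : act 2 n1756 = n4063 := rfl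
theorem F5992 : act 7 n1757 = n4063 := d15_2 (iv0 D1756) D1757 (iv2 D4063)
theorem F5993 : act 3 n4063 = n3819 := d8_1 F5992 F5813 (iv3 F3016)
def n4064 : Q := act 3 n1756
theorem D4064 : act 3 n1756 = n4064 := rfl
theorem F5994 : act 2 n4064 = n3830 := d0_1 D4064 (iv3 D3830) (iv2 F5812) (iv3 F5993) (iv2 D4063)
def n4068 : Q := act 4 n1757
theorem D4068 : act 4 n1757 = n4068 := rfl
theorem F5996 : act 3 n4068 = n3846 := d5_1 D4068 (iv4 D3846) (iv3 D1674) D1675 (iv3 F3016)
theorem F5997 : act 0 n3846 = n3730 := d20_10 (iv4 D3730) (iv1 D1633) (iv4 F2270) (iv3 D1216) (iv1 F1714) (iv3 F2929) F2930 (iv1 F3015) D4068 F5996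
theorem F5998 : act 0 n3729 = n2618 := d20_10 (iv4 D2618) D2615 F4211 F4210 (iv1 F2856) D1674 D3846 F5997 (iv4 D3730) D3729
def n4069 : Q := act 5 n1757
theorem D4069 : act 5 n1757 = n4069 := rfl
theorem F5999 : act 3 n4069 = n3849 := d6_1 D4069 (iv5 D3849) (iv3 F3016)
def n4070 : Q := act 6 n1757
theorem D4070 : act 6 n1757 = n4070 := rfl
theorem F6000 : act 3 n4070 = n3850 := d7_1 D4070 (iv6 D3850) (iv3 F3016)
def n4071 : Q := act 4 n1758
theorem D4071 : act 4 n1758 = n4071 := rfl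
theorem F6001 : act 2 n4071 = n1761 := d1_1 D4071 (iv4 D1761) (iv2 F3017)
def n4072 : Q := act 6 n1758
theorem D4072 : act 6 n1758 = n4072 := rfl
theorem F6002 : act 2 n4072 = n1762 := d3_1 D4072 (iv6 D1762) (iv2 F3017)
theorem F6003 : act 3 n4072 = n4072 := d7_1 D4072 (iv6 D4072) F3018
def n4073 : Q := act 2 n1759
theorem D4073 : act 2 n1759 = n4073 := rfl
theorem F6004 : act 7 n1760 = n4073 := d15_2 (iv0 D1759) D1760 (iv2 D4073)
def n4074 : Q := act 3 n1759
theorem D4074 : act 3 n1759 = n4074 := rfl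
def n4075 : Q := act 4 n1759
theorem D4075 : act 4 n1759 = n4075 := rfl
def n4076 : Q := act 5 n1759
theorem D4076 : act 5 n1759 = n4076 := rfl
def n4077 : Q := act 6 n1759
theorem D4077 : act 6 n1759 = n4077 := rfl
def n4078 : Q := act 7 n1759
theorem D4078 : act 7 n1759 = n4078 := rfl
theorem F6005 : act 2 n4078 = n1760 := d4_1 D4078 F6004 (iv2 D4073)
def n4079 : Q := act 3 n1760
theorem D4079 : act 3 n1760 = n4079 := rfl
def n4080 : Q := act 4 n1760
theorem D4080 : act 4 n1760 = n4080 := rfl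
def n4081 : Q := act 5 n1760
theorem D4081 : act 5 n1760 = n4081 := rfl
def n4082 : Q := act 6 n1760
theorem D4082 : act 6 n1760 = n4082 := rfl
def n4083 : Q := act 0 n1761
theorem D4083 : act 0 n1761 = n4083 := rfl
def n4084 : Q := act 1 n1761
theorem D4084 : act 1 n1761 = n4084 := rfl
def n4085 : Q := act 5 n1761
theorem D4085 : act 5 n1761 = n4085 := rfl
def n4086 : Q := act 6 n1761
theorem D4086 : act 6 n1761 = n4086 := rfl
theorem F6006 : act 4 n4086 = n1762 := d10_1 D4086 (iv6 D1762) D1761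
def n4087 : Q := act 0 n1762
theorem D4087 : act 0 n1762 = n4087 := rfl
def n4088 : Q := act 1 n1762
theorem D4088 : act 1 n1762 = n4088 := rfl
def n4089 : Q := act 7 n1762
theorem D4089 : act 7 n1762 = n4089 := rfl
theorem F6007 : act 3 n4089 = n1766 := d8_1 D4089 (iv7 D1766) (iv3 F3019)
def n4090 : Q := act 0 n1763
theorem D4090 : act 0 n1763 = n4090 := rfl
def n4091 : Q := act 1 n1763
theorem D4091 : act 1 n1763 = n4091 := rfl
def n4092 : Q := act 5 n1763
theorem D4092 : act 5 n1763 = n4092 := rfl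
theorem F6008 : act 3 n4092 = n1767 := d6_1 D4092 (iv5 D1767) (iv3 F3020)
def n4093 : Q := act 2 n1764
theorem D4093 : act 2 n1764 = n4093 := rfl
theorem F6009 : act 7 n1765 = n4093 := d15_2 (iv0 D1764) D1765 (iv2 D4093)
def n4094 : Q := act 3 n1764
theorem D4094 : act 3 n1764 = n4094 := rfl
def n4095 : Q := act 4 n1764
theorem D4095 : act 4 n1764 = n4095 := rfl
def n4096 : Q := act 5 n1764
theorem D4096 : act 5 n1764 = n4096 := rfl
def n4097 : Q := act 6 n1764
theorem D4097 : act 6 n1764 = n4097 := rfl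
theorem F6010 : act 5 n4097 = n1765 := d21_6 (iv5 D635) F593 D614 D933 D1764 D4097 (iv1 D1765) (iv5 F2945) (iv6 D1727) F1719
def n4098 : Q := act 7 n1764
theorem D4098 : act 7 n1764 = n4098 := rfl
theorem F6011 : act 2 n4098 = n1765 := d4_1 D4098 F6009 (iv2 D4093)
def n4099 : Q := act 3 n1765
theorem D4099 : act 3 n1765 = n4099 := rfl
def n4100 : Q := act 4 n1765
theorem D4100 : act 4 n1765 = n4100 := rfl
def n4101 : Q := act 6 n1765
theorem D4101 : act 6 n1765 = n4101 := rfl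
def n4102 : Q := act 4 n1767
theorem D4102 : act 4 n1767 = n4102 := rfl
theorem F6012 : act 2 n4102 = n4102 := d1_1 D4102 (iv4 D4102) F3024
theorem F6013 : act 0 n4102 = n4005 := d18_2 (iv1 F3112) D4102 (iv4 D4005) (iv5 D1735) F1729 D922 (iv4 F1785) F1791 (iv5 F3110)
def n4103 : Q := act 5 n1768
theorem D4103 : act 5 n1768 = n4103 := rfl
theorem F6014 : act 2 n4103 = n1786 := d2_1 D4103 F3039 F3026
theorem F6015 : act 3 n4103 = n4103 := d6_1 D4103 (iv5 D4103) F3027
theorem F6016 : act 7 n4103 = n1781 := d13_2 (iv7 F3028) D4103 (iv5 D1781)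
theorem F6017 : act 1 n1783 = n4103 := d15_1 D1783 F6016 F3034
theorem F6018 : act 1 n4103 = n1782 := d15_0 (iv0 D1782) D1786 (iv2 F6014)
def n4104 : Q := act 6 n1768
theorem D4104 : act 6 n1768 = n4104 := rfl
theorem F6019 : act 2 n4104 = n1787 := d3_1 D4104 (iv6 D1787) F3026
theorem F6020 : act 3 n4104 = n4104 := d7_1 D4104 (iv6 D4104) F3027
theorem F6021 : act 7 n4104 = n1954 := d14_2 (iv7 F3028) D4104 (iv6 D1954) F1883 (iv6 F1755)
theorem F6022 : act 1 n2033 = n4104 := d15_1 D2033 F6021 F3270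
theorem F6023 : act 1 n4104 = n2032 := d15_0 (iv0 D2032) (iv7 F3041) (iv2 F6019)
def n4105 : Q := act 0 n1769
theorem D4105 : act 0 n1769 = n4105 := rfl
theorem F6024 : act 1 n1774 = n4105 := d15_0 (iv0 D4105) (iv7 F3030) (iv2 F3031)
def n4106 : Q := act 1 n1769
theorem D4106 : act 1 n1769 = n4106 := rfl
def n4107 : Q := act 3 n1769
theorem D4107 : act 3 n1769 = n4107 := rfl
theorem F6026 : act 7 n4107 = n1775 := d8_2 F3030 D4107 (iv3 D1775)
def n4108 : Q := act 4 n1769
theorem D4108 : act 4 n1769 = n4108 := rfl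
theorem F6027 : act 2 n4108 = n1771 := d1_1 D4108 (iv4 D1771) D1769
theorem F6028 : act 7 n4108 = n1776 := d11_2 F3030 D4108 (iv4 D1776)
def n4109 : Q := act 5 n1769
theorem D4109 : act 5 n1769 = n4109 := rfl
theorem F6029 : act 2 n4109 = n1772 := d2_1 D4109 (iv5 D1772) D1769
theorem F6030 : act 7 n4109 = n1777 := d13_2 F3030 D4109 (iv5 D1777)
def n4110 : Q := act 6 n1769
theorem D4110 : act 6 n1769 = n4110 := rfl
theorem F6031 : act 2 n4110 = n1773 := d3_1 D4110 (iv6 D1773) D1769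
def n4111 : Q := act 0 n1770
theorem D4111 : act 0 n1770 = n4111 := rfl
def n4112 : Q := act 1 n1770
theorem D4112 : act 1 n1770 = n4112 := rfl
def n4113 : Q := act 2 n1770
theorem D4113 : act 2 n1770 = n4113 := rfl
def n4114 : Q := act 4 n1770
theorem D4114 : act 4 n1770 = n4114 := rfl
theorem F6032 : act 0 n4114 = n1798 := d20_7 (iv4 D334) F320 D320 D617 D935 D1770 D4114 (iv4 D1798) (iv3 D944) (iv1 F1139)
theorem F6033 : act 0 n3625 = n4114 := d20_1 (iv4 F5659) (iv4 D4114) (iv3 D1770) D1768 F3027 (iv4 F5565) (iv1 F5567) D3545 (iv3 F5570) (iv1 F3055)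
theorem F6034 : act 3 n1838 = n4112 := d20_9 D4114 F6032 (iv4 D1798) (iv3 D944) (iv1 F1139) D628 F1153 D962 D1838 (iv1 D4112)
def n4115 : Q := act 5 n1770
theorem D4115 : act 5 n1770 = n4115 := rfl
theorem F6035 : act 3 n4115 = n1772 := d6_1 D4115 (iv5 D1772) D1770
def n4116 : Q := act 6 n1770
theorem D4116 : act 6 n1770 = n4116 := rfl
theorem F6036 : act 3 n4116 = n1773 := d7_1 D4116 (iv6 D1773) D1770
def n4117 : Q := act 7 n1770
theorem D4117 : act 7 n1770 = n4117 := rfl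
theorem F6037 : act 3 n4117 = n1774 := d8_1 D4117 (iv7 D1774) D1770
def n4118 : Q := act 0 n1771
theorem D4118 : act 0 n1771 = n4118 := rfl
theorem F6038 : act 4 n4118 = n1842 := d20_2 D1771 D4118 (iv3 D1842) (iv1 D963) (iv3 D628) (iv4 D334) F320 D320 D617 D935
theorem F6039 : act 3 n3993 = n4118 := d5_5 F6038 (iv3 D1842) D1843 (iv3 F3127) D3993
theorem F6040 : act 0 n4118 = n1776 := d20_10 (iv4 D1776) (iv1 D936) (iv4 F1593) (iv3 D845) D843 D1558 F2713 D1731 D3993 F6039
theorem F6041 : act 0 n1775 = n1838 := d20_10 (iv4 D1838) (iv1 F1811) F1780 F1779 (iv1 F1816) D1842 (iv4 F6038) F6040 (iv4 D1776) D1775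
def n4119 : Q := act 1 n1771
theorem D4119 : act 1 n1771 = n4119 := rfl
theorem F6042 : act 1 n4119 = n1776 := d15_1 D4119 (iv7 F6028) F6027
def n4120 : Q := act 3 n1771
theorem D4120 : act 3 n1771 = n4120 := rfl
theorem F6043 : act 0 n4120 = n3629 := d20_10 F5664 (iv1 D3533) F2715 (iv3 D1560) (iv1 D844) D845 F1593 D935 D1771 D4120
def n4121 : Q := act 5 n1771
theorem D4121 : act 5 n1771 = n4121 := rfl
def n4122 : Q := act 6 n1771
theorem D4122 : act 6 n1771 = n4122 := rfl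
theorem F6044 : act 4 n4122 = n1773 := d10_1 D4122 (iv6 D1773) D1771
def n4123 : Q := act 7 n1771
theorem D4123 : act 7 n1771 = n4123 := rfl
theorem F6045 : act 2 n4123 = n1776 := d4_1 D4123 (iv7 F6028) F6027
theorem F6046 : act 4 n4123 = n1774 := d11_1 D4123 (iv7 D1774) D1771
def n4126 : Q := act 4 n1772
theorem D4126 : act 4 n1772 = n4126 := rfl
def n4128 : Q := act 7 n1772
theorem D4128 : act 7 n1772 = n4128 := rfl
theorem F6048 : act 2 n4128 = n1777 := d4_1 D4128 (iv7 F6030) F6029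
theorem F6049 : act 5 n4128 = n1774 := d13_1 D4128 (iv7 D1774) D1772
def n4129 : Q := act 0 n1773
theorem D4129 : act 0 n1773 = n4129 := rfl
def n4130 : Q := act 1 n1773
theorem D4130 : act 1 n1773 = n4130 := rfl
def n4131 : Q := act 5 n1773
theorem D4131 : act 5 n1773 = n4131 := rfl
def n4132 : Q := act 7 n1773
theorem D4132 : act 7 n1773 = n4132 := rfl
def n4133 : Q := act 6 n1774
theorem D4133 : act 6 n1774 = n4133 := rfl
theorem F6051 : act 2 n4133 = n1778 := d3_1 D4133 (iv6 D1778) (iv2 F3031)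
def n4134 : Q := act 1 n1775
theorem D4134 : act 1 n1775 = n4134 := rfl
def n4135 : Q := act 2 n1775
theorem D4135 : act 2 n1775 = n4135 := rfl
def n4136 : Q := act 4 n1775
theorem D4136 : act 4 n1775 = n4136 := rfl
theorem F6052 : act 0 n1803 = n4136 := d20_1 D1803 (iv4 D4136) (iv3 D1775) (iv1 D936) (iv3 D617) (iv4 D320) F485 D327 D622 D946
def n4137 : Q := act 5 n1775
theorem D4137 : act 5 n1775 = n4137 := rfl
theorem F6053 : act 3 n4137 = n1777 := d6_1 D4137 (iv5 D1777) D1775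
def n4138 : Q := act 6 n1775
theorem D4138 : act 6 n1775 = n4138 := rfl
theorem F6054 : act 3 n4138 = n1778 := d7_1 D4138 (iv6 D1778) D1775
def n4139 : Q := act 3 n1776
theorem D4139 : act 3 n1776 = n4139 := rfl
theorem F6055 : act 0 n1798 = n4139 := d20_4 F1592 (iv1 F1688) (iv4 F2216) (iv3 F3061) (iv3 D4139) (iv4 D1776) (iv1 D936) (iv4 F1593) (iv3 D845) D843
theorem F6056 : act 1 n3625 = n4139 := d15_0 (iv0 F6055) F3062 D3625
def n4140 : Q := act 5 n1776
theorem D4140 : act 5 n1776 = n4140 := rfl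
def n4141 : Q := act 6 n1776
theorem D4141 : act 6 n1776 = n4141 := rfl
theorem F6057 : act 4 n4141 = n1778 := d10_1 D4141 (iv6 D1778) D1776
def n4142 : Q := act 4 n1777
theorem D4142 : act 4 n1777 = n4142 := rfl
def n4143 : Q := act 6 n1777
theorem D4143 : act 6 n1777 = n4143 := rfl
def n4144 : Q := act 0 n1778
theorem D4144 : act 0 n1778 = n4144 := rfl
def n4145 : Q := act 1 n1778
theorem D4145 : act 1 n1778 = n4145 := rfl
def n4146 : Q := act 5 n1778
theorem D4146 : act 5 n1778 = n4146 := rfl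
def n4147 : Q := act 7 n1778
theorem D4147 : act 7 n1778 = n4147 := rfl
def n4149 : Q := act 3 n1779
theorem D4149 : act 3 n1779 = n4149 := rfl
def n4150 : Q := act 4 n1779
theorem D4150 : act 4 n1779 = n4150 := rfl
theorem F6059 : act 3 n3623 = n4150 := d20_5 (iv4 D908) F1009 (iv4 F1629) D1594 D3623 (iv4 D4150) (iv1 F3032) (iv4 F2722) F2721 (iv1 F1703)
def n4154 : Q := act 3 n1780
theorem D4154 : act 3 n1780 = n4154 := rfl
theorem F6061 : act 4 n4154 = n3624 := d20_6 (iv4 D327) (iv1 F565) (iv4 F1131) (iv3 F1757) (iv1 F3033) D4154 (iv1 D3624) F2774 (iv3 D915) F937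
def n4155 : Q := act 4 n1780
theorem D4155 : act 4 n1780 = n4155 := rfl
def n4158 : Q := act 0 n1781
theorem D4158 : act 0 n1781 = n4158 := rfl
theorem F6062 : act 1 n1786 = n4158 := d15_0 (iv0 D4158) (iv7 F6016) F6014
def n4159 : Q := act 1 n1781
theorem D4159 : act 1 n1781 = n4159 := rfl
theorem F6063 : act 1 n4159 = n1786 := d15_1 D4159 (iv7 D1786) (iv2 F3034)
def n4160 : Q := act 4 n1781
theorem D4160 : act 4 n1781 = n4160 := rfl
theorem F6064 : act 2 n4160 = n1784 := d1_1 D4160 (iv4 D1784) (iv2 F3034)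
def n4161 : Q := act 6 n1781
theorem D4161 : act 6 n1781 = n4161 := rfl
theorem F6065 : act 2 n4161 = n1785 := d3_1 D4161 (iv6 D1785) (iv2 F3034)
theorem F6066 : act 3 n4161 = n4161 := d7_1 D4161 (iv6 D4161) F3035
theorem F6067 : act 5 n4161 = n2011 := d12_1 D4161 (iv6 D2011) (iv5 D1012) (iv6 F1755) D1781
def n4162 : Q := act 2 n1782
theorem D4162 : act 2 n1782 = n4162 := rfl
theorem F6068 : act 7 n1783 = n4162 := d15_2 (iv0 D1782) D1783 (iv2 D4162)
def n4163 : Q := act 3 n1782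
theorem D4163 : act 3 n1782 = n4163 := rfl
def n4164 : Q := act 4 n1782
theorem D4164 : act 4 n1782 = n4164 := rfl
def n4165 : Q := act 5 n1782
theorem D4165 : act 5 n1782 = n4165 := rfl
def n4166 : Q := act 6 n1782
theorem D4166 : act 6 n1782 = n4166 := rfl
def n4167 : Q := act 7 n1782
theorem D4167 : act 7 n1782 = n4167 := rfl
theorem F6069 : act 2 n4167 = n1783 := d4_1 D4167 F6068 (iv2 D4162)
def n4168 : Q := act 3 n1783
theorem D4168 : act 3 n1783 = n4168 := rfl
def n4169 : Q := act 4 n1783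
theorem D4169 : act 4 n1783 = n4169 := rfl
def n4170 : Q := act 5 n1783
theorem D4170 : act 5 n1783 = n4170 := rfl
def n4171 : Q := act 6 n1783
theorem D4171 : act 6 n1783 = n4171 := rfl
def n4172 : Q := act 0 n1784
theorem D4172 : act 0 n1784 = n4172 := rfl
def n4173 : Q := act 1 n1784
theorem D4173 : act 1 n1784 = n4173 := rfl
def n4174 : Q := act 3 n1784
theorem D4174 : act 3 n1784 = n4174 := rfl
theorem F6070 : act 4 n4174 = n1788 := d5_2 D1784 D4174 (iv3 D1788) (iv4 D940) (iv3 F1756)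
theorem F6071 : act 7 n3987 = n4174 := d11_0 F6070 F3043 D3987
def n4175 : Q := act 5 n1784
theorem D4175 : act 5 n1784 = n4175 := rfl
def n4176 : Q := act 6 n1784
theorem D4176 : act 6 n1784 = n4176 := rfl
theorem F6072 : act 4 n4176 = n1785 := d10_1 D4176 (iv6 D1785) D1784
def n4177 : Q := act 7 n1784
theorem D4177 : act 7 n1784 = n4177 := rfl
theorem F6073 : act 3 n4177 = n3987 := d8_1 D4177 F6071 (iv3 D4174)
theorem F6074 : act 4 n4177 = n1786 := d11_1 D4177 (iv7 D1786) D1784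
def n4178 : Q := act 0 n1785
theorem D4178 : act 0 n1785 = n4178 := rfl
def n4179 : Q := act 1 n1785
theorem D4179 : act 1 n1785 = n4179 := rfl
def n4180 : Q := act 7 n1785
theorem D4180 : act 7 n1785 = n4180 := rfl
theorem F6075 : act 3 n4180 = n1792 := d8_1 D4180 (iv7 D1792) (iv3 F3036)
theorem F6076 : act 5 n4180 = n2030 := d13_1 D4180 (iv7 D2030) (iv5 F3037)
def n4181 : Q := act 6 n1786
theorem D4181 : act 6 n1786 = n4181 := rfl
theorem F6077 : act 3 n4181 = n1793 := d7_1 D4181 (iv6 D1793) (iv3 F3038)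
def n4182 : Q := act 0 n1787
theorem D4182 : act 0 n1787 = n4182 := rfl
theorem F6078 : act 1 n1954 = n4182 := d15_0 (iv0 D4182) F3041 (iv2 F3270)
def n4183 : Q := act 1 n1787
theorem D4183 : act 1 n1787 = n4183 := rfl
theorem F6079 : act 1 n4183 = n1954 := d15_1 D4183 (iv7 F6021) F6019
def n4184 : Q := act 5 n1787
theorem D4184 : act 5 n1787 = n4184 := rfl
theorem F6080 : act 3 n4184 = n1794 := d6_1 D4184 (iv5 D1794) (iv3 F3040)
theorem F6081 : act 7 n4184 = n2034 := d13_2 (iv7 F3041) D4184 (iv5 D2034)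
def n4185 : Q := act 0 n1788
theorem D4185 : act 0 n1788 = n4185 := rfl
theorem F6082 : act 1 n3984 = n4185 := d15_0 (iv0 D4185) F3043 (iv2 F5929)
def n4186 : Q := act 1 n1788
theorem D4186 : act 1 n1788 = n4186 := rfl
def n4187 : Q := act 2 n1788
theorem D4187 : act 2 n1788 = n4187 := rfl
theorem F6083 : act 3 n4187 = n4187 := d0_2 D1788 D4187 (iv2 D4187) (iv3 D1788) F1758
theorem F6084 : act 5 n4187 = n1797 := d2_2 (iv5 F3042) D4187 (iv2 D1797)
theorem F6085 : act 7 n4187 = n3984 := d4_2 (iv7 F3043) D4187 F5929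
theorem F6086 : act 1 n4187 = n3985 := d15_0 (iv0 D3985) (iv7 F3043) D4187
theorem F6087 : act 1 n4186 = n3984 := d15_1 D4186 (iv7 F6085) (iv2 D4187)
theorem F6088 : act 1 n3986 = n4187 := d15_1 D3986 F6085 F5929
def n4188 : Q := act 6 n1788
theorem D4188 : act 6 n1788 = n4188 := rfl
theorem F6089 : act 3 n4188 = n1789 := d7_1 D4188 (iv6 D1789) D1788
def n4189 : Q := act 0 n1789
theorem D4189 : act 0 n1789 = n4189 := rfl
def n4190 : Q := act 1 n1789
theorem D4190 : act 1 n1789 = n4190 := rfl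
def n4191 : Q := act 5 n1789
theorem D4191 : act 5 n1789 = n4191 := rfl
theorem F6090 : act 2 n4191 = n4191 := d2_1 D4191 (iv5 D4191) F3044
theorem F6091 : act 6 n4191 = n1800 := d12_2 D1789 D4191 (iv5 D1800) (iv6 D945) (iv5 F1759)
def n4192 : Q := act 7 n1789
theorem D4192 : act 7 n1789 = n4192 := rfl
theorem F6092 : act 2 n4192 = n4192 := d4_1 D4192 (iv7 D4192) F3044
theorem F6093 : act 4 n4192 = n1792 := d11_1 D4192 (iv7 D1792) (iv4 F3045)
theorem F6094 : act 6 n4192 = n3991 := d14_1 D4192 (iv7 D3991) (iv6 D1727) F1762 D1789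
theorem F6095 : act 1 n4192 = n4189 := d15_0 (iv0 D4189) D4192 F6092
theorem F6096 : act 1 n4190 = n4192 := d15_1 D4190 (iv7 D4192) F3044
def n4193 : Q := act 2 n1790
theorem D4193 : act 2 n1790 = n4193 := rfl
theorem F6097 : act 7 n1791 = n4193 := d15_2 (iv0 D1790) D1791 (iv2 D4193)
def n4194 : Q := act 3 n1790
theorem D4194 : act 3 n1790 = n4194 := rfl
def n4195 : Q := act 4 n1790
theorem D4195 : act 4 n1790 = n4195 := rfl
def n4196 : Q := act 5 n1790
theorem D4196 : act 5 n1790 = n4196 := rfl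
def n4197 : Q := act 6 n1790
theorem D4197 : act 6 n1790 = n4197 := rfl
def n4198 : Q := act 7 n1790
theorem D4198 : act 7 n1790 = n4198 := rfl
theorem F6098 : act 2 n4198 = n1791 := d4_1 D4198 F6097 (iv2 D4193)
def n4199 : Q := act 3 n1791
theorem D4199 : act 3 n1791 = n4199 := rfl
def n4200 : Q := act 4 n1791
theorem D4200 : act 4 n1791 = n4200 := rfl
def n4201 : Q := act 5 n1791
theorem D4201 : act 5 n1791 = n4201 := rfl
def n4202 : Q := act 6 n1791
theorem D4202 : act 6 n1791 = n4202 := rfl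
def n4203 : Q := act 6 n1792
theorem D4203 : act 6 n1792 = n4203 := rfl
theorem F6099 : act 2 n4203 = n4203 := d3_1 D4203 (iv6 D4203) F3046
theorem F6100 : act 4 n4203 = n3991 := d10_1 D4203 (iv6 F6094) F6093
theorem F6101 : act 7 n4203 = n1793 := d14_2 D1792 D4203 (iv6 D1793) (iv7 D942) D941
def n4204 : Q := act 0 n1793
theorem D4204 : act 0 n1793 = n4204 := rfl
theorem F6102 : act 6 n4204 = n4201 := d21_5 F1195 (iv1 F1132) (iv5 F1767) D1793 D4204 (iv5 D4201) (iv1 D1791) F1764 (iv6 D651) D648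
theorem F6103 : act 1 n4203 = n4204 := d15_0 (iv0 D4204) (iv7 F6101) F6099
def n4205 : Q := act 1 n1793
theorem D4205 : act 1 n1793 = n4205 := rfl
theorem F6104 : act 1 n4205 = n4203 := d15_1 D4205 F6101 F3050
def n4206 : Q := act 5 n1793
theorem D4206 : act 5 n1793 = n4206 := rfl
theorem F6105 : act 2 n4206 = n4206 := d2_1 D4206 (iv5 D4206) F3050
theorem F6106 : act 6 n4206 = n1794 := d12_2 D1793 D4206 (iv5 D1794) (iv6 D943) (iv5 F1767)
def n4207 : Q := act 4 n1794
theorem D4207 : act 4 n1794 = n4207 := rfl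
theorem F6107 : act 2 n4207 = n4207 := d1_1 D4207 (iv4 D4207) F3052
theorem F6108 : act 7 n4207 = n2077 := d11_2 (iv7 F3053) D4207 (iv4 D2077)
theorem F6109 : act 5 n4207 = n2077 := d16_1 D4207 (iv4 D2077) (iv5 D1030) F1213 F607 (iv4 F1213) D1030 (iv7 F3053) F3052
theorem F6110 : act 1 n4207 = n1829 := d18_6 F1753 F1160 F1137 (iv4 F1771) D1794 D4207 (iv4 D1829) (iv0 F3025) (iv5 D1767)
def n4208 : Q := act 2 n1795
theorem D4208 : act 2 n1795 = n4208 := rfl
theorem F6111 : act 7 n1796 = n4208 := d15_2 (iv0 D1795) D1796 (iv2 D4208)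
def n4209 : Q := act 4 n1795
theorem D4209 : act 4 n1795 = n4209 := rfl
def n4210 : Q := act 5 n1795
theorem D4210 : act 5 n1795 = n4210 := rfl
def n4211 : Q := act 6 n1795
theorem D4211 : act 6 n1795 = n4211 := rfl
def n4212 : Q := act 7 n1795
theorem D4212 : act 7 n1795 = n4212 := rfl
theorem F6112 : act 2 n4212 = n1796 := d4_1 D4212 F6111 (iv2 D4208)
def n4213 : Q := act 3 n1796
theorem D4213 : act 3 n1796 = n4213 := rfl
def n4214 : Q := act 4 n1796
theorem D4214 : act 4 n1796 = n4214 := rfl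
theorem F6113 : act 3 n4214 = n2555 := d20_3 F5659 (iv1 F3059) D4214 (iv1 F5640) F5637 F5565 (iv1 F3029) D1776 D4139 (iv1 F6056)
def n4215 : Q := act 5 n1796
theorem D4215 : act 5 n1796 = n4215 := rfl
def n4216 : Q := act 6 n1796
theorem D4216 : act 6 n1796 = n4216 := rfl
def n4217 : Q := act 4 n1797
theorem D4217 : act 4 n1797 = n4217 := rfl
theorem F6114 : act 2 n4217 = n1798 := d1_1 D4217 (iv4 D1798) D1797
theorem F6115 : act 7 n4217 = n3625 := d11_2 (iv7 F3057) D4217 F5659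
theorem F6116 : act 0 n4217 = n3624 := d20_1 D4217 (iv4 F6061) (iv3 D4154) (iv1 D1780) F1754 (iv4 F2718) D3548 (iv4 F5926) (iv3 D3975) (iv1 F3058)
theorem F6117 : act 0 n3623 = n4217 := d20_10 (iv4 D4217) (iv1 F3060) D3981 (iv3 F5928) (iv1 F5636) F4065 F2718 D1779 D4150 (iv3 F6059)
theorem F6118 : act 3 n3618 = n4217 := d0_0 F6114 F3061 (iv2 F2218) D1591 D3618
def n4218 : Q := act 6 n1797
theorem D4218 : act 6 n1797 = n4218 := rfl
theorem F6119 : act 2 n4218 = n1799 := d3_1 D4218 (iv6 D1799) D1797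
theorem F6120 : act 3 n4218 = n4218 := d7_1 D4218 (iv6 D4218) F3056
theorem F6121 : act 7 n4218 = n4020 := d14_2 (iv7 F3057) D4218 (iv6 D4020) F3009 (iv6 F2942)
theorem F6122 : act 1 n4091 = n4218 := d15_1 D4091 F6121 F5952
theorem F6123 : act 1 n4218 = n4090 := d15_0 (iv0 D4090) (iv7 F3064) (iv2 F6119)
def n4219 : Q := act 0 n1799
theorem D4219 : act 0 n1799 = n4219 := rfl
theorem F6124 : act 1 n4020 = n4219 := d15_0 (iv0 D4219) F3064 (iv2 F5952)
def n4220 : Q := act 1 n1799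
theorem D4220 : act 1 n1799 = n4220 := rfl
theorem F6125 : act 1 n4220 = n4020 := d15_1 D4220 (iv7 F6121) F6119
def n4221 : Q := act 5 n1799
theorem D4221 : act 5 n1799 = n4221 := rfl
theorem F6126 : act 3 n4221 = n1800 := d6_1 D4221 (iv5 D1800) (iv3 F3063)
theorem F6127 : act 7 n4221 = n4092 := d13_2 (iv7 F3064) D4221 (iv5 D4092)
def n4222 : Q := act 4 n1800
theorem D4222 : act 4 n1800 = n4222 := rfl
theorem F6128 : act 2 n4222 = n4222 := d1_1 D4222 (iv4 D4222) F3065
theorem F6129 : act 7 n4222 = n4102 := d11_2 (iv7 F3066) D4222 (iv4 D4102)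
theorem F6130 : act 5 n4222 = n4102 := d16_1 D4222 (iv4 D4102) (iv5 D1767) F1752 F1126 (iv4 F1752) D1767 (iv7 F3066) F3065
theorem F6131 : act 1 n4222 = n4005 := d18_6 F1738 F1737 F1724 (iv4 F1776) D1800 D4222 (iv4 D4005) F2967 (iv5 D1030)
def n4223 : Q := act 0 n1801
theorem D4223 : act 0 n1801 = n4223 := rfl
theorem F6132 : act 1 n1806 = n4223 := d15_0 (iv0 D4223) (iv7 F3068) (iv2 F3069)
def n4225 : Q := act 3 n1801
theorem D4225 : act 3 n1801 = n4225 := rfl
theorem F6134 : act 7 n4225 = n1807 := d8_2 F3068 D4225 (iv3 D1807)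
def n4226 : Q := act 4 n1801
theorem D4226 : act 4 n1801 = n4226 := rfl
theorem F6135 : act 2 n4226 = n1803 := d1_1 D4226 (iv4 D1803) D1801
theorem F6136 : act 7 n4226 = n1808 := d11_2 F3068 D4226 (iv4 D1808)
theorem F6137 : act 3 n4010 = n4226 := d8_3 F6136 (iv3 F3070) D4010
def n4227 : Q := act 5 n1801
theorem D4227 : act 5 n1801 = n4227 := rfl
theorem F6138 : act 2 n4227 = n1804 := d2_1 D4227 (iv5 D1804) D1801
theorem F6139 : act 7 n4227 = n1809 := d13_2 F3068 D4227 (iv5 D1809)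
def n4228 : Q := act 6 n1801
theorem D4228 : act 6 n1801 = n4228 := rfl
theorem F6140 : act 2 n4228 = n1805 := d3_1 D4228 (iv6 D1805) D1801
def n4229 : Q := act 0 n1802
theorem D4229 : act 0 n1802 = n4229 := rfl
def n4230 : Q := act 1 n1802
theorem D4230 : act 1 n1802 = n4230 := rfl
theorem F6141 : act 3 n3540 = n4230 := d20_3 (iv4 F1593) D1562 D3540 (iv1 D4230) (iv3 D1802) D1803 F6052 (iv4 D4136) (iv3 D1775) (iv1 D936)
def n4231 : Q := act 2 n1802
theorem D4231 : act 2 n1802 = n4231 := rfl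
def n4232 : Q := act 5 n1802
theorem D4232 : act 5 n1802 = n4232 := rfl
theorem F6142 : act 3 n4232 = n1804 := d6_1 D4232 (iv5 D1804) D1802
def n4233 : Q := act 6 n1802
theorem D4233 : act 6 n1802 = n4233 := rfl
theorem F6143 : act 3 n4233 = n1805 := d7_1 D4233 (iv6 D1805) D1802
def n4234 : Q := act 7 n1802
theorem D4234 : act 7 n1802 = n4234 := rfl
theorem F6144 : act 3 n4234 = n1806 := d8_1 D4234 (iv7 D1806) D1802
def n4235 : Q := act 1 n1803
theorem D4235 : act 1 n1803 = n4235 := rfl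
theorem F6145 : act 1 n4235 = n1808 := d15_1 D4235 (iv7 F6136) F6135
def n4236 : Q := act 3 n1803
theorem D4236 : act 3 n1803 = n4236 := rfl
theorem F6146 : act 2 n4236 = n4011 := d0_1 D4236 (iv3 D4011) (iv2 F5946) F6137 F6135
theorem F6147 : act 0 n4236 = n4154 := d20_10 F6061 (iv1 D3624) F2774 (iv3 D915) F937 D622 F1142 D946 D1803 D4236
def n4237 : Q := act 5 n1803
theorem D4237 : act 5 n1803 = n4237 := rfl
def n4238 : Q := act 6 n1803
theorem D4238 : act 6 n1803 = n4238 := rfl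
theorem F6148 : act 4 n4238 = n1805 := d10_1 D4238 (iv6 D1805) D1803
def n4239 : Q := act 7 n1803
theorem D4239 : act 7 n1803 = n4239 := rfl
theorem F6149 : act 2 n4239 = n1808 := d4_1 D4239 (iv7 F6136) F6135
theorem F6150 : act 4 n4239 = n1806 := d11_1 D4239 (iv7 D1806) D1803
theorem F6151 : act 1 n1808 = n4136 := d15_0 (iv0 F6052) D4239 F6149
theorem F6152 : act 0 n1807 = n3540 := d20_10 (iv4 D3540) D3537 F5565 F3027 (iv1 F3029) D1775 D4136 (iv1 F6151) (iv4 D1808) D1807
def n4240 : Q := act 0 n1804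
theorem D4240 : act 0 n1804 = n4240 := rfl
def n4241 : Q := act 1 n1804
theorem D4241 : act 1 n1804 = n4241 := rfl
theorem F6153 : act 1 n4241 = n1809 := d15_1 D4241 (iv7 F6139) F6138
def n4242 : Q := act 4 n1804
theorem D4242 : act 4 n1804 = n4242 := rfl
def n4243 : Q := act 6 n1804
theorem D4243 : act 6 n1804 = n4243 := rfl
def n4244 : Q := act 7 n1804
theorem D4244 : act 7 n1804 = n4244 := rfl
theorem F6154 : act 2 n4244 = n1809 := d4_1 D4244 (iv7 F6139) F6138
theorem F6155 : act 5 n4244 = n1806 := d13_1 D4244 (iv7 D1806) D1804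
theorem F6156 : act 1 n1809 = n4240 := d15_0 (iv0 D4240) D4244 F6154
def n4245 : Q := act 0 n1805
theorem D4245 : act 0 n1805 = n4245 := rfl
def n4246 : Q := act 1 n1805
theorem D4246 : act 1 n1805 = n4246 := rfl
def n4247 : Q := act 5 n1805
theorem D4247 : act 5 n1805 = n4247 := rfl
def n4248 : Q := act 7 n1805
theorem D4248 : act 7 n1805 = n4248 := rfl
def n4249 : Q := act 6 n1806
theorem D4249 : act 6 n1806 = n4249 := rfl
theorem F6157 : act 2 n4249 = n1810 := d3_1 D4249 (iv6 D1810) (iv2 F3069)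
def n4250 : Q := act 1 n1807
theorem D4250 : act 1 n1807 = n4250 := rfl
def n4251 : Q := act 2 n1807
theorem D4251 : act 2 n1807 = n4251 := rfl
def n4252 : Q := act 4 n1807
theorem D4252 : act 4 n1807 = n4252 := rfl
theorem F6158 : act 3 n4252 = n4007 := d5_1 D4252 (iv4 D4007) F3070 (iv4 D1808) D1807
theorem F6159 : act 0 n4155 = n4252 := d20_1 D4155 (iv4 D4252) (iv3 D1807) (iv1 D947) (iv3 D622) (iv4 D327) (iv1 F565) (iv4 F1131) (iv3 F1757) (iv1 F3033)
theorem F6160 : act 0 n4252 = n4150 := d20_10 (iv4 D4150) (iv1 F3032) (iv4 F2722) F2721 (iv1 F1703) D1710 F2916 D1739 D4007 (iv3 F6158)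
theorem E710 : n4235 = n4149 := ((c20_10 (iv4 D1803) (iv1 F1815) F1813 F1812 (iv1 F1817) D1807 D4252 F6160 (iv4 D4150) D4149 (iv1 D4235))).symm
theorem F6161 : act 0 n4149 = n1803 := (sb E710 (iv1 D4235))
theorem F6162 : act 1 n4149 = n1808 := (sb E710 F6145)
def n4253 : Q := act 5 n1807
theorem D4253 : act 5 n1807 = n4253 := rfl
theorem F6163 : act 3 n4253 = n1809 := d6_1 D4253 (iv5 D1809) D1807
def n4254 : Q := act 6 n1807
theorem D4254 : act 6 n1807 = n4254 := rfl
def n4255 : Q := act 5 n1808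
theorem D4255 : act 5 n1808 = n4255 := rfl
theorem F6165 : act 3 n4255 = n4008 := d6_1 D4255 (iv5 D4008) F3070
def n4256 : Q := act 6 n1808
theorem D4256 : act 6 n1808 = n4256 := rfl
def n4257 : Q := act 4 n1809
theorem D4257 : act 4 n1809 = n4257 := rfl
def n4258 : Q := act 6 n1809
theorem D4258 : act 6 n1809 = n4258 := rfl
def n4259 : Q := act 0 n1810
theorem D4259 : act 0 n1810 = n4259 := rfl
def n4260 : Q := act 1 n1810
theorem D4260 : act 1 n1810 = n4260 := rfl
def n4261 : Q := act 5 n1810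
theorem D4261 : act 5 n1810 = n4261 := rfl
def n4262 : Q := act 7 n1810
theorem D4262 : act 7 n1810 = n4262 := rfl
def n4263 : Q := act 4 n1811
theorem D4263 : act 4 n1811 = n4263 := rfl
theorem F6168 : act 2 n4263 = n1815 := d1_1 D4263 (iv4 D1815) (iv2 F3071)
def n4264 : Q := act 6 n1811
theorem D4264 : act 6 n1811 = n4264 := rfl
theorem F6169 : act 2 n4264 = n1816 := d3_1 D4264 (iv6 D1816) (iv2 F3071)
theorem F6170 : act 3 n4264 = n4264 := d7_1 D4264 (iv6 D4264) F3072
def n4265 : Q := act 0 n1812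
theorem D4265 : act 0 n1812 = n4265 := rfl
def n4266 : Q := act 1 n1812
theorem D4266 : act 1 n1812 = n4266 := rfl
theorem F6171 : act 1 n4266 = n1820 := d15_1 D4266 (iv7 D1820) (iv2 F3073)
def n4267 : Q := act 5 n1812
theorem D4267 : act 5 n1812 = n4267 := rfl
theorem F6172 : act 2 n4267 = n1819 := d2_1 D4267 (iv5 D1819) (iv2 F3073)
theorem F6173 : act 3 n4267 = n4267 := d6_1 D4267 (iv5 D4267) F3074
def n4268 : Q := act 7 n1812
theorem D4268 : act 7 n1812 = n4268 := rfl
theorem F6174 : act 2 n4268 = n1820 := d4_1 D4268 (iv7 D1820) (iv2 F3073)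
theorem F6175 : act 3 n4268 = n4268 := d8_1 D4268 (iv7 D4268) F3074
theorem F6176 : act 4 n4268 = n4268 := d11_1 D4268 (iv7 D4268) F3075
theorem F6177 : act 1 n1820 = n4265 := d15_0 (iv0 D4265) D4268 F6174
theorem F6178 : act 1 n1818 = n4268 := d15_1 D1818 (iv7 D4268) F3073
theorem F6179 : act 1 n4268 = n1817 := d15_0 (iv0 D1817) D1820 (iv2 F6174)
def n4269 : Q := act 2 n1813
theorem D4269 : act 2 n1813 = n4269 := rfl
theorem F6180 : act 7 n1814 = n4269 := d15_2 (iv0 D1813) D1814 (iv2 D4269)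
def n4270 : Q := act 3 n1813
theorem D4270 : act 3 n1813 = n4270 := rfl
def n4271 : Q := act 4 n1813
theorem D4271 : act 4 n1813 = n4271 := rfl
def n4272 : Q := act 5 n1813
theorem D4272 : act 5 n1813 = n4272 := rfl
def n4273 : Q := act 6 n1813
theorem D4273 : act 6 n1813 = n4273 := rfl
def n4274 : Q := act 7 n1813
theorem D4274 : act 7 n1813 = n4274 := rfl
theorem F6181 : act 2 n4274 = n1814 := d4_1 D4274 F6180 (iv2 D4269)
def n4275 : Q := act 3 n1814
theorem D4275 : act 3 n1814 = n4275 := rfl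
def n4276 : Q := act 4 n1814
theorem D4276 : act 4 n1814 = n4276 := rfl
def n4277 : Q := act 5 n1814
theorem D4277 : act 5 n1814 = n4277 := rfl
def n4278 : Q := act 6 n1814
theorem D4278 : act 6 n1814 = n4278 := rfl
def n4279 : Q := act 0 n1815
theorem D4279 : act 0 n1815 = n4279 := rfl
def n4280 : Q := act 1 n1815
theorem D4280 : act 1 n1815 = n4280 := rfl
def n4281 : Q := act 5 n1815
theorem D4281 : act 5 n1815 = n4281 := rfl
def n4282 : Q := act 6 n1815
theorem D4282 : act 6 n1815 = n4282 := rfl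
theorem F6182 : act 4 n4282 = n1816 := d10_1 D4282 (iv6 D1816) D1815
def n4283 : Q := act 0 n1816
theorem D4283 : act 0 n1816 = n4283 := rfl
def n4284 : Q := act 1 n1816
theorem D4284 : act 1 n1816 = n4284 := rfl
def n4285 : Q := act 5 n1816
theorem D4285 : act 5 n1816 = n4285 := rfl
theorem F6183 : act 3 n4285 = n1823 := d6_1 D4285 (iv5 D1823) (iv3 F3076)
theorem F6184 : act 6 n4285 = n1819 := d12_2 D1816 D4285 (iv5 D1819) (iv6 D950) D949
def n4286 : Q := act 7 n1816
theorem D4286 : act 7 n1816 = n4286 := rfl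
theorem F6185 : act 3 n4286 = n1824 := d8_1 D4286 (iv7 D1824) (iv3 F3076)
def n4287 : Q := act 2 n1817
theorem D4287 : act 2 n1817 = n4287 := rfl
theorem F6186 : act 7 n1818 = n4287 := d15_2 (iv0 D1817) D1818 (iv2 D4287)
def n4288 : Q := act 3 n1817
theorem D4288 : act 3 n1817 = n4288 := rfl
def n4289 : Q := act 4 n1817
theorem D4289 : act 4 n1817 = n4289 := rfl
def n4290 : Q := act 5 n1817
theorem D4290 : act 5 n1817 = n4290 := rfl
def n4291 : Q := act 6 n1817
theorem D4291 : act 6 n1817 = n4291 := rfl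
def n4292 : Q := act 7 n1817
theorem D4292 : act 7 n1817 = n4292 := rfl
theorem F6187 : act 2 n4292 = n1818 := d4_1 D4292 F6186 (iv2 D4287)
def n4293 : Q := act 3 n1818
theorem D4293 : act 3 n1818 = n4293 := rfl
def n4294 : Q := act 4 n1818
theorem D4294 : act 4 n1818 = n4294 := rfl
def n4295 : Q := act 5 n1818
theorem D4295 : act 5 n1818 = n4295 := rfl
def n4296 : Q := act 6 n1818
theorem D4296 : act 6 n1818 = n4296 := rfl
def n4297 : Q := act 0 n1819
theorem D4297 : act 0 n1819 = n4297 := rfl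
def n4298 : Q := act 1 n1819
theorem D4298 : act 1 n1819 = n4298 := rfl
def n4299 : Q := act 4 n1819
theorem D4299 : act 4 n1819 = n4299 := rfl
def n4300 : Q := act 7 n1819
theorem D4300 : act 7 n1819 = n4300 := rfl
theorem F6188 : act 3 n4300 = n1830 := d8_1 D4300 (iv7 D1830) (iv3 F3077)
theorem F6189 : act 5 n4300 = n1820 := d13_1 D4300 (iv7 D1820) D1819
def n4301 : Q := act 2 n1821
theorem D4301 : act 2 n1821 = n4301 := rfl
theorem F6190 : act 7 n1822 = n4301 := d15_2 (iv0 D1821) D1822 (iv2 D4301)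
def n4302 : Q := act 3 n1821
theorem D4302 : act 3 n1821 = n4302 := rfl
def n4303 : Q := act 4 n1821
theorem D4303 : act 4 n1821 = n4303 := rfl
def n4304 : Q := act 5 n1821
theorem D4304 : act 5 n1821 = n4304 := rfl
def n4305 : Q := act 6 n1821
theorem D4305 : act 6 n1821 = n4305 := rfl
theorem F6191 : act 5 n4305 = n1878 := d21_6 (iv5 D916) F937 D623 D951 D1821 D4305 (iv1 D1878) F1835 (iv6 D974) (iv1 F1720)
def n4306 : Q := act 7 n1821
theorem D4306 : act 7 n1821 = n4306 := rfl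
theorem F6192 : act 2 n4306 = n1822 := d4_1 D4306 F6190 (iv2 D4301)
def n4307 : Q := act 3 n1822
theorem D4307 : act 3 n1822 = n4307 := rfl
def n4308 : Q := act 4 n1822
theorem D4308 : act 4 n1822 = n4308 := rfl
def n4309 : Q := act 5 n1822
theorem D4309 : act 5 n1822 = n4309 := rfl
def n4310 : Q := act 6 n1822
theorem D4310 : act 6 n1822 = n4310 := rfl
def n4311 : Q := act 0 n1823
theorem D4311 : act 0 n1823 = n4311 := rfl
def n4312 : Q := act 1 n1823
theorem D4312 : act 1 n1823 = n4312 := rfl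
def n4313 : Q := act 4 n1823
theorem D4313 : act 4 n1823 = n4313 := rfl
theorem F6193 : act 2 n4313 = n4313 := d1_1 D4313 (iv4 D4313) F3080
theorem F6194 : act 6 n4313 = n1829 := d10_2 (iv6 F3081) D4313 (iv4 D1829)
def n4314 : Q := act 7 n1823
theorem D4314 : act 7 n1823 = n4314 := rfl
theorem F6195 : act 2 n4314 = n4314 := d4_1 D4314 (iv7 D4314) F3080
theorem F6196 : act 5 n4314 = n1824 := d13_1 D4314 (iv7 D1824) D1823
theorem F6197 : act 1 n4314 = n4311 := d15_0 (iv0 D4311) D4314 F6195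
theorem F6198 : act 1 n4312 = n4314 := d15_1 D4312 (iv7 D4314) F3080
def n4315 : Q := act 0 n1825
theorem D4315 : act 0 n1825 = n4315 := rfl
def n4316 : Q := act 1 n1825
theorem D4316 : act 1 n1825 = n4316 := rfl
def n4317 : Q := act 2 n1825
theorem D4317 : act 2 n1825 = n4317 := rfl
theorem F6199 : act 3 n4317 = n4317 := d0_2 D1825 D4317 (iv2 D4317) (iv3 D1825) F2986
def n4318 : Q := act 4 n1825
theorem D4318 : act 4 n1825 = n4318 := rfl
theorem F6200 : act 3 n4318 = n2574 := d5_1 D4318 F4104 F2946 (iv4 F1792) D1825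
theorem F6201 : act 6 n4318 = n3767 := d10_2 F3197 D4318 F5758
theorem F6202 : act 7 n4318 = n3656 := d11_2 F3104 D4318 F5677
def n4319 : Q := act 5 n1825
theorem D4319 : act 5 n1825 = n4319 := rfl
theorem F6203 : act 3 n4319 = n1826 := d6_1 D4319 (iv5 D1826) D1825
def n4320 : Q := act 4 n1826
theorem D4320 : act 4 n1826 = n4320 := rfl
theorem F6204 : act 2 n4320 = n4320 := d1_1 D4320 (iv4 D4320) F3085
theorem F6205 : act 5 n4320 = n4320 := d16_1 D4320 (iv4 D4320) (iv5 D1826) F1792 F1730 (iv4 F1785) D1828 F3106 F3085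
theorem F6206 : act 0 n4320 = n4019 := d18_2 (iv1 F3156) D4320 (iv4 D4019) (iv5 D1743) F1737 (iv0 F1127) (iv4 F1752) F1829 (iv5 F3154)
def n4321 : Q := act 6 n1826
theorem D4321 : act 6 n1826 = n4321 := rfl
theorem F6207 : act 2 n4321 = n4321 := d3_1 D4321 (iv6 D4321) F3085
def n4322 : Q := act 0 n1827
theorem D4322 : act 0 n1827 = n4322 := rfl
theorem F6208 : act 1 n4317 = n4322 := d15_0 (iv0 D4322) F3104 D4317
def n4323 : Q := act 1 n1827
theorem D4323 : act 1 n1827 = n4323 := rfl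
def n4324 : Q := act 2 n1827
theorem D4324 : act 2 n1827 = n4324 := rfl
theorem F6209 : act 3 n4324 = n4324 := d0_2 D1827 D4324 (iv2 D4324) (iv3 D1827) F2985
theorem F6210 : act 6 n4324 = n4324 := d3_2 F3103 D4324 (iv2 D4324)
theorem F6211 : act 7 n4324 = n4317 := d4_2 (iv7 F3104) D4324 (iv2 D4317)
theorem F6212 : act 1 n4324 = n4315 := d15_0 (iv0 D4315) (iv7 F3104) D4324
theorem F6213 : act 1 n4323 = n4317 := d15_1 D4323 (iv7 F6211) (iv2 D4324)
def n4325 : Q := act 5 n1827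
theorem D4325 : act 5 n1827 = n4325 := rfl
theorem F6215 : act 3 n4325 = n1828 := d6_1 D4325 (iv5 D1828) D1827
theorem F6216 : act 7 n4325 = n4319 := d13_2 (iv7 F3104) D4325 (iv5 D4319)
def n4326 : Q := act 4 n1828
theorem D4326 : act 4 n1828 = n4326 := rfl
theorem F6217 : act 2 n4326 = n4326 := d1_1 D4326 (iv4 D4326) F3105
theorem F6218 : act 5 n4326 = n4326 := d9_2 D1828 D4326 (iv4 D4326) (iv5 D1828) F1785 (iv5 F1730) (iv4 F1792) D1826 D4320 F6205 (iv4 D4320) (iv5 D1826) F1792 F1730 (iv4 F1785)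
theorem F6219 : act 7 n4326 = n4320 := d11_2 (iv7 F3106) D4326 (iv4 D4320)
theorem F6220 : act 1 n4326 = n4019 := d18_6 (iv1 F2971) F2969 (iv1 F1734) (iv4 F1785) D1828 D4326 (iv4 D4019) (iv0 F3119) (iv5 D1833)
def n4327 : Q := act 6 n1828
theorem D4327 : act 6 n1828 = n4327 := rfl
theorem F6221 : act 2 n4327 = n4327 := d3_1 D4327 (iv6 D4327) F3105
def n4328 : Q := act 3 n1829
theorem D4328 : act 3 n1829 = n4328 := rfl
def n4329 : Q := act 5 n1829
theorem D4329 : act 5 n1829 = n4329 := rfl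
theorem F6223 : act 2 n4329 = n4329 := d2_1 D4329 (iv5 D4329) F3108
theorem F6224 : act 4 n4329 = n1861 := d16_2 D1829 D4329 F3154 F1826 F1163 (iv4 F1789) (iv5 F3110) (iv7 D1830) F1787
theorem F6225 : act 7 n4329 = n1860 := d16_8 (iv4 D1860) (iv5 D968) F1160 F587 (iv4 F1146) D954 D1829 D4329 F3152
def n4330 : Q := act 7 n1829
theorem D4330 : act 7 n1829 = n4330 := rfl
theorem F6226 : act 2 n4330 = n4330 := d4_1 D4330 (iv7 D4330) F3108
theorem F6227 : act 4 n4330 = n1830 := d11_1 D4330 (iv7 D1830) D1829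
theorem F6228 : act 5 n4330 = n1860 := d13_1 D4330 (iv7 F6225) (iv5 D4329)
theorem F6229 : act 1 n4330 = n4207 := d15_0 F6110 D4330 F6226
theorem F6230 : act 1 n2077 = n4330 := d15_1 (iv0 F3384) (iv7 D4330) F3108
def n4331 : Q := act 6 n1830
theorem D4331 : act 6 n1830 = n4331 := rfl
theorem F6231 : act 2 n4331 = n4331 := d3_1 D4331 (iv6 D4331) F3109
def n4332 : Q := act 3 n1831
theorem D4332 : act 3 n1831 = n4332 := rfl
theorem F6232 : act 4 n4332 = n1832 := d5_2 D1831 D4332 (iv3 D1832) (iv4 D958) D957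
theorem F6233 : act 6 n4332 = n3772 := d7_2 (iv6 F3114) D4332 (iv3 D3772)
theorem F6234 : act 7 n4332 = n3664 := d8_2 (iv7 F3115) D4332 (iv3 D3664)
def n4333 : Q := act 5 n1831
theorem D4333 : act 5 n1831 = n4333 := rfl
theorem F6235 : act 2 n4333 = n3663 := d2_1 D4333 (iv5 D3663) (iv2 F3113)
theorem F6236 : act 7 n4333 = n3665 := d13_2 (iv7 F3115) D4333 (iv5 D3665)
theorem F6237 : act 0 n4333 = n3934 := d17_2 F3116 D4333 (iv5 D3934) F2870 (iv5 F1727) D1729 (iv5 F2953) (iv0 D1707) (iv4 F2914)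
theorem F6238 : act 1 n4333 = n3936 := d17_6 (iv1 F1636) (iv5 F2239) (iv1 F2242) (iv5 F2878) D1831 D4333 (iv5 D3936) F2886 F2769
def n4334 : Q := act 0 n1832
theorem D4334 : act 0 n1832 = n4334 := rfl
def n4335 : Q := act 1 n1832
theorem D4335 : act 1 n1832 = n4335 := rfl
def n4336 : Q := act 2 n1832
theorem D4336 : act 2 n1832 = n4336 := rfl
theorem F6239 : act 3 n4336 = n4336 := d0_2 D1832 D4336 (iv2 D4336) (iv3 D1832) F1802
def n4337 : Q := act 5 n1832
theorem D4337 : act 5 n1832 = n4337 := rfl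
theorem F6240 : act 3 n4337 = n1833 := d6_1 D4337 (iv5 D1833) D1832
def n4338 : Q := act 4 n1833
theorem D4338 : act 4 n1833 = n4338 := rfl
theorem F6242 : act 5 n4338 = n4338 := d16_1 D4338 (iv4 D4338) (iv5 D1833) (iv4 D958) F1147 D961 D1835 F3123 F3118
theorem F6243 : act 1 n4338 = n4329 := d17_6 (iv1 F2967) (iv5 D1735) (iv1 F1810) D1833 D4338 F6242 (iv5 D4329) (iv0 F3384) (iv4 D2077)
theorem F6244 : act 0 n4338 = n1860 := d17_0 (iv5 F6228) (iv1 F6230) (iv5 F6109) (iv4 D4207) (iv5 D1794) (iv0 F1773) D1743 (iv0 F3119) D4338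
def n4339 : Q := act 6 n1833
theorem D4339 : act 6 n1833 = n4339 := rfl
theorem F6245 : act 2 n4339 = n4339 := d3_1 D4339 (iv6 D4339) F3118
def n4340 : Q := act 0 n1834
theorem D4340 : act 0 n1834 = n4340 := rfl
theorem F6246 : act 1 n4336 = n4340 := d15_0 (iv0 D4340) F3121 D4336
def n4341 : Q := act 1 n1834
theorem D4341 : act 1 n1834 = n4341 := rfl
def n4342 : Q := act 2 n1834
theorem D4342 : act 2 n1834 = n4342 := rfl
theorem F6247 : act 3 n4342 = n4342 := d0_2 D1834 D4342 (iv2 D4342) (iv3 D1834) F1806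
theorem F6248 : act 6 n4342 = n4342 := d3_2 F3120 D4342 (iv2 D4342)
theorem F6249 : act 7 n4342 = n4336 := d4_2 (iv7 F3121) D4342 (iv2 D4336)
theorem F6251 : act 1 n4341 = n4336 := d15_1 D4341 (iv7 F6249) (iv2 D4342)
def n4343 : Q := act 5 n1834
theorem D4343 : act 5 n1834 = n4343 := rfl
theorem F6253 : act 3 n4343 = n1835 := d6_1 D4343 (iv5 D1835) D1834
theorem F6254 : act 7 n4343 = n4337 := d13_2 (iv7 F3121) D4343 (iv5 D4337)
def n4344 : Q := act 4 n1835
theorem D4344 : act 4 n1835 = n4344 := rfl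
theorem F6255 : act 2 n4344 = n4344 := d1_1 D4344 (iv4 D4344) F3122
theorem F6256 : act 5 n4344 = n4344 := d9_2 D1835 D4344 (iv4 D4344) (iv5 D1835) (iv4 D961) (iv5 F1147) D958 D1833 D4338 F6242 (iv4 D4338) (iv5 D1833) (iv4 D958) F1147 D961
theorem F6257 : act 7 n4344 = n4338 := d11_2 (iv7 F3123) D4344 (iv4 D4338)
theorem F6258 : act 1 n4344 = n1860 := d17_6 (iv1 F3379) F3381 (iv1 F2972) D1835 D4344 F6256 (iv5 F6228) F6229 (iv4 D4207)
theorem F6259 : act 0 n4344 = n4329 := d17_0 (iv5 D4329) (iv1 F6110) F6109 (iv4 D2077) (iv5 D1030) D1029 D2075 F3378 D4344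
def n4345 : Q := act 6 n1835
theorem D4345 : act 6 n1835 = n4345 := rfl
theorem F6260 : act 2 n4345 = n4345 := d3_1 D4345 (iv6 D4345) F3122
theorem F6261 : act 5 n4345 = n4345 := d12_1 D4345 (iv6 D4345) (iv5 D1835) F1807 D1835
def n4348 : Q := act 3 n1836
theorem D4348 : act 3 n1836 = n4348 := rfl
theorem F6264 : act 7 n4348 = n1842 := d8_2 F3125 D4348 (iv3 D1842)
def n4349 : Q := act 4 n1836
theorem D4349 : act 4 n1836 = n4349 := rfl
theorem F6265 : act 2 n4349 = n1838 := d1_1 D4349 (iv4 D1838) D1836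
theorem F6266 : act 7 n4349 = n1843 := d11_2 F3125 D4349 (iv4 D1843)
theorem F6267 : act 3 n3996 = n4349 := d8_3 F6266 (iv3 F3127) D3996
theorem E711 : n4134 = n1843 := (c15_2 (iv0 F6041) D4134 (iv7 F6266) F6265)
theorem F6268 : act 0 n1843 = n1775 := (sb E711 (iv1 D4134))
theorem F6269 : act 2 n4112 = n3997 := d0_3 F6267 F6265 F6034 (iv3 D3997) (iv2 F5938)
def n4350 : Q := act 5 n1836
theorem D4350 : act 5 n1836 = n4350 := rfl
theorem F6270 : act 2 n4350 = n1839 := d2_1 D4350 (iv5 D1839) D1836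
theorem F6271 : act 7 n4350 = n1844 := d13_2 F3125 D4350 (iv5 D1844)
def n4352 : Q := act 0 n1837
theorem D4352 : act 0 n1837 = n4352 := rfl
def n4353 : Q := act 1 n1837
theorem D4353 : act 1 n1837 = n4353 := rfl
def n4354 : Q := act 2 n1837
theorem D4354 : act 2 n1837 = n4354 := rfl
def n4355 : Q := act 5 n1837
theorem D4355 : act 5 n1837 = n4355 := rfl
theorem F6273 : act 3 n4355 = n1839 := d6_1 D4355 (iv5 D1839) D1837
def n4356 : Q := act 6 n1837
theorem D4356 : act 6 n1837 = n4356 := rfl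
def n4357 : Q := act 7 n1837
theorem D4357 : act 7 n1837 = n4357 := rfl
theorem F6275 : act 3 n4357 = n1841 := d8_1 D4357 (iv7 D1841) D1837
def n4358 : Q := act 0 n1838
theorem D4358 : act 0 n1838 = n4358 := rfl
theorem F6276 : act 4 n4358 = n4149 := d20_2 D1838 D4358 (iv3 D4149) (iv1 F3032) F1757 F1131 (iv1 F566) D334 D628 D962
theorem F6277 : act 2 n4107 = n4358 := d15_3 (iv0 D4358) (iv0 F6041) (iv7 F6026)
theorem F6278 : act 3 n4358 = n4113 := d0_2 D4107 F6277 (iv2 D4113) (iv3 D1770) D1769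
theorem F6279 : act 7 n4358 = n4135 := d4_2 (iv7 F6026) F6277 (iv2 D4135)
theorem F6280 : act 1 n1843 = n4358 := d15_1 (iv0 F6268) F6279 (iv2 D4135)
theorem F6281 : act 4 n3623 = n4113 := d20_8 (iv4 D1843) (iv1 D963) F1153 (iv3 D628) (iv1 F938) D915 (iv4 F2774) D3623 (iv3 F6278) (iv1 F6280)
theorem F6282 : act 2 n4114 = n3623 := d1_3 F6281 (iv2 D4113) D4114
theorem F6283 : act 7 n3624 = n4114 := d15_2 (iv0 D3623) D3624 F6282
theorem F6284 : act 7 n4139 = n3623 := d15_2 (iv0 F6033) F6056 (iv2 F6282)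
theorem F6285 : act 2 n3624 = n4139 := d4_3 F6284 (iv2 F6282) (iv7 F6283)
theorem E712 : n4150 = n4108 := (c8_2 F6284 F6059 F6028 D4139)
theorem F6286 : act 1 n4108 = n4252 := (sb E712 (iv0 F6160))
theorem F6287 : act 3 n4108 = n3623 := (sb E712 (iv3 F6059))
theorem E713 : n1779 = n1769 := ((((iv4 D4108)).symm.trans (sb E712 (iv4 D4150)))).symm
theorem E714 : n4105 = n939 := ((D4105).symm.trans (sb E713 (iv1 F3032)))
theorem E715 : n4106 = n937 := ((D4106).symm.trans (sb E713 (iv0 D1779)))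
theorem E717 : n4149 = n4107 := (((D4107).symm.trans (sb E713 D4149))).symm
theorem E721 : n1780 = n1774 := (((iv1 F3033)).symm.trans (sb E714 (iv1 F6024)))
theorem F6288 : act 1 n939 = n1769 := (sb E714 (iv0 D4105))
theorem F6289 : act 0 n937 = n1769 := (sb E715 (iv1 D4106))
theorem F6290 : act 0 n4107 = n1803 := (sb E717 F6161)
theorem F6291 : act 1 n4107 = n1808 := (sb E717 F6162)
theorem F6292 : act 4 n4107 = n4358 := (sb E717 (iv4 F6276))
theorem F6293 : act 0 n1774 = n937 := (sb E721 (iv1 D1780))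
theorem F6294 : act 1 n1774 = n939 := (sb E721 F3033)
theorem E722 : n4154 = n4117 := ((((iv3 F6037)).symm.trans (sb E721 D4154))).symm
theorem E723 : n4155 = n4123 := ((((iv4 F6046)).symm.trans (sb E721 D4155))).symm
theorem F6295 : act 1 n4117 = n4236 := (sb E722 (iv0 F6147))
theorem F6296 : act 4 n4117 = n3624 := (sb E722 F6061)
theorem F6297 : act 0 n4123 = n4252 := (sb E723 F6159)
theorem E726 : n4136 = n4135 := ((c11_3 (iv7 F6026) F6292 F6279 (iv4 D4136))).symm
theorem F6298 : act 0 n4135 = n1808 := (sb E726 (iv1 F6151))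
theorem F6299 : act 1 n4135 = n1803 := (sb E726 (iv0 F6052))
theorem F6300 : act 4 n4135 = n1775 := (sb E726 (iv4 D4136))
theorem F6301 : act 0 n4113 = n4236 := d20_4 D1808 (iv1 F6291) F6292 F6278 (iv3 D4236) (iv4 D1803) (iv1 F1815) F1813 F1812 (iv1 F1817)
def n4359 : Q := act 5 n1838
theorem D4359 : act 5 n1838 = n4359 := rfl
def n4360 : Q := act 6 n1838
theorem D4360 : act 6 n1838 = n4360 := rfl
def n4361 : Q := act 7 n1838
theorem D4361 : act 7 n1838 = n4361 := rfl
theorem F6303 : act 2 n4361 = n1843 := d4_1 D4361 (iv7 F6266) F6265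
theorem F6304 : act 4 n4361 = n1841 := d11_1 D4361 (iv7 D1841) D1838
def n4362 : Q := act 0 n1839
theorem D4362 : act 0 n1839 = n4362 := rfl
def n4363 : Q := act 1 n1839
theorem D4363 : act 1 n1839 = n4363 := rfl
theorem F6305 : act 1 n4363 = n1844 := d15_1 D4363 (iv7 F6271) F6270
def n4364 : Q := act 4 n1839
theorem D4364 : act 4 n1839 = n4364 := rfl
def n4365 : Q := act 6 n1839
theorem D4365 : act 6 n1839 = n4365 := rfl
def n4366 : Q := act 7 n1839
theorem D4366 : act 7 n1839 = n4366 := rfl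
theorem F6306 : act 2 n4366 = n1844 := d4_1 D4366 (iv7 F6271) F6270
theorem F6307 : act 5 n4366 = n1841 := d13_1 D4366 (iv7 D1841) D1839
theorem F6308 : act 1 n1844 = n4362 := d15_0 (iv0 D4362) D4366 F6306
def n4367 : Q := act 0 n1840
theorem D4367 : act 0 n1840 = n4367 := rfl
def n4368 : Q := act 1 n1840
theorem D4368 : act 1 n1840 = n4368 := rfl
def n4369 : Q := act 5 n1840
theorem D4369 : act 5 n1840 = n4369 := rfl
def n4370 : Q := act 7 n1840
theorem D4370 : act 7 n1840 = n4370 := rfl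
def n4371 : Q := act 6 n1841
theorem D4371 : act 6 n1841 = n4371 := rfl
theorem F6309 : act 2 n4371 = n1845 := d3_1 D4371 (iv6 D1845) (iv2 F3126)
def n4372 : Q := act 0 n1842
theorem D4372 : act 0 n1842 = n4372 := rfl
theorem F6310 : act 4 n4372 = n3549 := d20_0 (iv1 D3549) F2718 F1754 F6289 D4107 F6292 (iv1 F6280) (iv4 D1843) D1842 D4372
theorem F6311 : act 3 n4372 = n4353 := d20_3 (iv4 F2722) (iv1 F5572) (iv4 F6310) (iv1 D4353) (iv3 D1837) D1838 D4358 (iv4 F6292) (iv3 D4107) (iv1 F6288)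
def n4373 : Q := act 1 n1842
theorem D4373 : act 1 n1842 = n4373 := rfl
def n4374 : Q := act 2 n1842
theorem D4374 : act 2 n1842 = n4374 := rfl
def n4375 : Q := act 5 n1842
theorem D4375 : act 5 n1842 = n4375 := rfl
theorem F6312 : act 3 n4375 = n1844 := d6_1 D4375 (iv5 D1844) D1842
def n4376 : Q := act 6 n1842
theorem D4376 : act 6 n1842 = n4376 := rfl
theorem F6313 : act 3 n4376 = n1845 := d7_1 D4376 (iv6 D1845) D1842
def n4377 : Q := act 5 n1843
theorem D4377 : act 5 n1843 = n4377 := rfl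
theorem F6314 : act 3 n4377 = n3994 := d6_1 D4377 (iv5 D3994) F3127
def n4378 : Q := act 6 n1843
theorem D4378 : act 6 n1843 = n4378 := rfl
theorem F6315 : act 3 n4378 = n3995 := d7_1 D4378 (iv6 D3995) F3127
theorem F6316 : act 4 n4378 = n1845 := d10_1 D4378 (iv6 D1845) D1843
def n4379 : Q := act 4 n1844
theorem D4379 : act 4 n1844 = n4379 := rfl
def n4380 : Q := act 6 n1844
theorem D4380 : act 6 n1844 = n4380 := rfl
def n4381 : Q := act 0 n1845
theorem D4381 : act 0 n1845 = n4381 := rfl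
def n4382 : Q := act 1 n1845
theorem D4382 : act 1 n1845 = n4382 := rfl
def n4383 : Q := act 5 n1845
theorem D4383 : act 5 n1845 = n4383 := rfl
def n4384 : Q := act 7 n1845
theorem D4384 : act 7 n1845 = n4384 := rfl
def n4385 : Q := act 4 n1846
theorem D4385 : act 4 n1846 = n4385 := rfl
theorem F6317 : act 2 n4385 = n1850 := d1_1 D4385 (iv4 D1850) (iv2 F3128)
theorem F6318 : act 7 n4385 = n4263 := d11_2 (iv7 F3130) D4385 (iv4 D4263)
theorem F6319 : act 1 n4280 = n4385 := d15_1 D4280 F6318 F6168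
theorem F6320 : act 1 n4385 = n4279 := d15_0 (iv0 D4279) (iv7 F3139) (iv2 F6317)
def n4386 : Q := act 6 n1846
theorem D4386 : act 6 n1846 = n4386 := rfl
theorem F6321 : act 2 n4386 = n1851 := d3_1 D4386 (iv6 D1851) (iv2 F3128)
theorem F6322 : act 3 n4386 = n4386 := d7_1 D4386 (iv6 D4386) F3129
def n4387 : Q := act 0 n1847
theorem D4387 : act 0 n1847 = n4387 := rfl
def n4388 : Q := act 1 n1847
theorem D4388 : act 1 n1847 = n4388 := rfl
def n4389 : Q := act 5 n1847
theorem D4389 : act 5 n1847 = n4389 := rfl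
theorem F6324 : act 2 n4389 = n1854 := d2_1 D4389 (iv5 D1854) (iv2 F3133)
theorem F6325 : act 3 n4389 = n4389 := d6_1 D4389 (iv5 D4389) F3134
def n4390 : Q := act 7 n1847
theorem D4390 : act 7 n1847 = n4390 := rfl
theorem F6326 : act 2 n4390 = n1855 := d4_1 D4390 (iv7 D1855) (iv2 F3133)
theorem F6327 : act 3 n4390 = n4390 := d8_1 D4390 (iv7 D4390) F3134
theorem F6328 : act 4 n4390 = n4390 := d11_1 D4390 (iv7 D4390) F3135
theorem F6329 : act 6 n4390 = n4268 := d14_1 D4390 (iv7 D4268) (iv6 D1812) (iv7 F1814) D1847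
theorem F6330 : act 1 n1855 = n4387 := d15_0 (iv0 D4387) D4390 F6326
theorem F6331 : act 1 n1853 = n4390 := d15_1 D1853 (iv7 D4390) F3133
theorem F6332 : act 1 n4390 = n1852 := d15_0 (iv0 D1852) D1855 (iv2 F6326)
def n4391 : Q := act 2 n1848
theorem D4391 : act 2 n1848 = n4391 := rfl
theorem F6333 : act 7 n1849 = n4391 := d15_2 (iv0 D1848) D1849 (iv2 D4391)
def n4392 : Q := act 3 n1848
theorem D4392 : act 3 n1848 = n4392 := rfl
def n4393 : Q := act 4 n1848
theorem D4393 : act 4 n1848 = n4393 := rfl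
def n4394 : Q := act 5 n1848
theorem D4394 : act 5 n1848 = n4394 := rfl
def n4395 : Q := act 6 n1848
theorem D4395 : act 6 n1848 = n4395 := rfl
def n4396 : Q := act 7 n1848
theorem D4396 : act 7 n1848 = n4396 := rfl
theorem F6334 : act 2 n4396 = n1849 := d4_1 D4396 F6333 (iv2 D4391)
def n4397 : Q := act 3 n1849
theorem D4397 : act 3 n1849 = n4397 := rfl
def n4398 : Q := act 4 n1849
theorem D4398 : act 4 n1849 = n4398 := rfl
def n4399 : Q := act 5 n1849
theorem D4399 : act 5 n1849 = n4399 := rfl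
def n4400 : Q := act 6 n1849
theorem D4400 : act 6 n1849 = n4400 := rfl
def n4401 : Q := act 0 n1850
theorem D4401 : act 0 n1850 = n4401 := rfl
theorem F6335 : act 1 n4263 = n4401 := d15_0 (iv0 D4401) F3139 (iv2 F6168)
def n4402 : Q := act 1 n1850
theorem D4402 : act 1 n1850 = n4402 := rfl
theorem F6336 : act 1 n4402 = n4263 := d15_1 D4402 (iv7 F6318) F6317
def n4403 : Q := act 5 n1850
theorem D4403 : act 5 n1850 = n4403 := rfl
theorem F6337 : act 3 n4403 = n4281 := d6_1 D4403 (iv5 D4281) (iv3 F3138)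
theorem F6338 : act 7 n4403 = n4281 := d13_2 (iv7 F3139) D4403 (iv5 D4281)
def n4404 : Q := act 6 n1850
theorem D4404 : act 6 n1850 = n4404 := rfl
theorem F6339 : act 3 n4404 = n4282 := d7_1 D4404 (iv6 D4282) (iv3 F3138)
theorem F6340 : act 4 n4404 = n1851 := d10_1 D4404 (iv6 D1851) D1850
def n4405 : Q := act 0 n1851
theorem D4405 : act 0 n1851 = n4405 := rfl
def n4406 : Q := act 1 n1851
theorem D4406 : act 1 n1851 = n4406 := rfl
def n4407 : Q := act 5 n1851
theorem D4407 : act 5 n1851 = n4407 := rfl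
theorem F6341 : act 3 n4407 = n1858 := d6_1 D4407 (iv5 D1858) (iv3 F3140)
theorem F6342 : act 6 n4407 = n1854 := d12_2 D1851 D4407 (iv5 D1854) (iv6 D966) D965
def n4408 : Q := act 7 n1851
theorem D4408 : act 7 n1851 = n4408 := rfl
theorem F6343 : act 3 n4408 = n1859 := d8_1 D4408 (iv7 D1859) (iv3 F3140)
theorem F6344 : act 6 n4408 = n4286 := d14_1 D4408 (iv7 D4286) (iv6 D1816) (iv7 F1819) D1851
def n4409 : Q := act 2 n1852
theorem D4409 : act 2 n1852 = n4409 := rfl
theorem F6345 : act 7 n1853 = n4409 := d15_2 (iv0 D1852) D1853 (iv2 D4409)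
def n4413 : Q := act 6 n1852
theorem D4413 : act 6 n1852 = n4413 := rfl
def n4414 : Q := act 7 n1852
theorem D4414 : act 7 n1852 = n4414 := rfl
theorem F6346 : act 2 n4414 = n1853 := d4_1 D4414 F6345 (iv2 D4409)
def n4415 : Q := act 3 n1853
theorem D4415 : act 3 n1853 = n4415 := rfl
def n4416 : Q := act 4 n1853
theorem D4416 : act 4 n1853 = n4416 := rfl
def n4417 : Q := act 5 n1853
theorem D4417 : act 5 n1853 = n4417 := rfl
def n4418 : Q := act 6 n1853
theorem D4418 : act 6 n1853 = n4418 := rfl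
def n4419 : Q := act 0 n1854
theorem D4419 : act 0 n1854 = n4419 := rfl
def n4420 : Q := act 1 n1854
theorem D4420 : act 1 n1854 = n4420 := rfl
def n4421 : Q := act 4 n1854
theorem D4421 : act 4 n1854 = n4421 := rfl
def n4422 : Q := act 7 n1854
theorem D4422 : act 7 n1854 = n4422 := rfl
theorem F6347 : act 3 n4422 = n1861 := d8_1 D4422 (iv7 D1861) (iv3 F3141)
theorem F6348 : act 5 n4422 = n1855 := d13_1 D4422 (iv7 D1855) D1854
def n4423 : Q := act 2 n1856
theorem D4423 : act 2 n1856 = n4423 := rfl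
theorem F6349 : act 7 n1857 = n4423 := d15_2 (iv0 D1856) D1857 (iv2 D4423)
def n4424 : Q := act 3 n1856
theorem D4424 : act 3 n1856 = n4424 := rfl
def n4425 : Q := act 4 n1856
theorem D4425 : act 4 n1856 = n4425 := rfl
def n4426 : Q := act 5 n1856
theorem D4426 : act 5 n1856 = n4426 := rfl
def n4427 : Q := act 6 n1856
theorem D4427 : act 6 n1856 = n4427 := rfl
def n4428 : Q := act 7 n1856
theorem D4428 : act 7 n1856 = n4428 := rfl
theorem F6350 : act 2 n4428 = n1857 := d4_1 D4428 F6349 (iv2 D4423)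
def n4429 : Q := act 3 n1857
theorem D4429 : act 3 n1857 = n4429 := rfl
def n4430 : Q := act 4 n1857
theorem D4430 : act 4 n1857 = n4430 := rfl
def n4431 : Q := act 5 n1857
theorem D4431 : act 5 n1857 = n4431 := rfl
theorem F6351 : act 6 n4311 = n4431 := d21_5 (iv5 D1828) (iv1 D953) D954 (iv6 F3081) D4311 (iv5 D4431) (iv1 D1857) D1858 F3146 (iv1 F3107)
def n4432 : Q := act 6 n1857
theorem D4432 : act 6 n1857 = n4432 := rfl
def n4433 : Q := act 0 n1858
theorem D4433 : act 0 n1858 = n4433 := rfl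
def n4434 : Q := act 1 n1858
theorem D4434 : act 1 n1858 = n4434 := rfl
def n4435 : Q := act 4 n1858
theorem D4435 : act 4 n1858 = n4435 := rfl
theorem F6352 : act 2 n4435 = n4435 := d1_1 D4435 (iv4 D4435) F3145
theorem F6353 : act 6 n4435 = n1860 := d10_2 (iv6 F3146) D4435 (iv4 D1860)
def n4436 : Q := act 7 n1858
theorem D4436 : act 7 n1858 = n4436 := rfl
theorem F6354 : act 2 n4436 = n4436 := d4_1 D4436 (iv7 D4436) F3145
theorem F6355 : act 5 n4436 = n1859 := d13_1 D4436 (iv7 D1859) D1858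
theorem F6356 : act 1 n4436 = n4433 := d15_0 (iv0 D4433) D4436 F6354
theorem F6357 : act 1 n4434 = n4436 := d15_1 D4434 (iv7 D4436) F3145
def n4437 : Q := act 3 n1860
theorem D4437 : act 3 n1860 = n4437 := rfl
def n4438 : Q := act 6 n1861
theorem D4438 : act 6 n1861 = n4438 := rfl
theorem F6358 : act 2 n4438 = n4438 := d3_1 D4438 (iv6 D4438) F3153
theorem F6359 : act 5 n4438 = n4331 := d12_1 D4438 (iv6 D4331) F3110 (iv6 F1827) (iv5 F3154)
def n4440 : Q := act 1 n1862
theorem D4440 : act 1 n1862 = n4440 := rfl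
theorem F6361 : act 1 n4440 = n1867 := d15_1 D4440 (iv7 D1867) D1862
def n4441 : Q := act 3 n1862
theorem D4441 : act 3 n1862 = n4441 := rfl
theorem F6362 : act 7 n4441 = n1868 := d8_2 F3157 D4441 (iv3 D1868)
def n4442 : Q := act 4 n1862
theorem D4442 : act 4 n1862 = n4442 := rfl
theorem F6363 : act 2 n4442 = n1864 := d1_1 D4442 (iv4 D1864) D1862
theorem F6364 : act 7 n4442 = n1869 := d11_2 F3157 D4442 (iv4 D1869)
theorem F6365 : act 3 n1929 = n4442 := d8_3 F6364 (iv3 F3159) D1929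
def n4443 : Q := act 5 n1862
theorem D4443 : act 5 n1862 = n4443 := rfl
theorem F6366 : act 2 n4443 = n1865 := d2_1 D4443 (iv5 D1865) D1862
theorem F6367 : act 7 n4443 = n1870 := d13_2 F3157 D4443 (iv5 D1870)
def n4444 : Q := act 6 n1862
theorem D4444 : act 6 n1862 = n4444 := rfl
theorem F6368 : act 2 n4444 = n1866 := d3_1 D4444 (iv6 D1866) D1862
def n4445 : Q := act 0 n1863
theorem D4445 : act 0 n1863 = n4445 := rfl
def n4446 : Q := act 2 n1863
theorem D4446 : act 2 n1863 = n4446 := rfl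
def n4447 : Q := act 5 n1863
theorem D4447 : act 5 n1863 = n4447 := rfl
theorem F6369 : act 3 n4447 = n1865 := d6_1 D4447 (iv5 D1865) D1863
def n4448 : Q := act 6 n1863
theorem D4448 : act 6 n1863 = n4448 := rfl
theorem F6370 : act 3 n4448 = n1866 := d7_1 D4448 (iv6 D1866) D1863
def n4449 : Q := act 7 n1863
theorem D4449 : act 7 n1863 = n4449 := rfl
theorem F6371 : act 3 n4449 = n1867 := d8_1 D4449 (iv7 D1867) D1863
def n4450 : Q := act 1 n1864
theorem D4450 : act 1 n1864 = n4450 := rfl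
theorem F6372 : act 1 n4450 = n1869 := d15_1 D4450 (iv7 F6364) F6363
def n4451 : Q := act 3 n1864
theorem D4451 : act 3 n1864 = n4451 := rfl
theorem F6373 : act 2 n4451 = n1930 := d0_1 D4451 (iv3 D1930) (iv2 F3224) F6365 F6363
theorem F6374 : act 0 n4451 = n2004 := d20_10 F3308 (iv1 D1715) F1708 (iv3 D613) (iv1 F590) D632 F1167 D970 D1864 D4451
def n4452 : Q := act 5 n1864
theorem D4452 : act 5 n1864 = n4452 := rfl
def n4453 : Q := act 6 n1864
theorem D4453 : act 6 n1864 = n4453 := rfl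
theorem F6375 : act 4 n4453 = n1866 := d10_1 D4453 (iv6 D1866) D1864
def n4454 : Q := act 7 n1864
theorem D4454 : act 7 n1864 = n4454 := rfl
theorem F6376 : act 2 n4454 = n1869 := d4_1 D4454 (iv7 F6364) F6363
theorem F6377 : act 4 n4454 = n1867 := d11_1 D4454 (iv7 D1867) D1864
theorem F6378 : act 1 n1869 = n1986 := d15_0 (iv0 F3299) D4454 F6376
theorem E727 : n3829 = n1868 := ((c20_10 (iv4 D1670) D1667 F2854 F1882 (iv1 F1884) D1006 D1986 (iv1 F6378) (iv4 D1869) D1868 (iv1 D3829))).symm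
theorem F6379 : act 0 n1868 = n1670 := (sb E727 (iv1 D3829))
theorem F6380 : act 1 n1868 = n1675 := (sb E727 F5824)
theorem F6381 : act 2 n4441 = n3828 := d15_3 (iv0 D3828) (iv0 F6379) (iv7 F6362)
theorem E728 : n4446 = n3777 := ((c0_3 D4441 F6381 (iv3 F5821) (iv2 D4446) (iv3 D1863) D1862)).symm
theorem F6382 : act 2 n3777 = n1863 := (sb E728 (iv2 D4446))
theorem E729 : n3776 = n1938 := ((c1_3 D3777 F6382 F3240 (iv2 D3776))).symm
theorem F6383 : act 2 n1938 = n1652 := (sb E729 (iv2 D3776))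
theorem F6384 : act 7 n1938 = n1653 := (sb E729 (iv7 F5783))
theorem E730 : n4449 = n1881 := ((c11_2 F6384 (iv4 F3169) (iv7 D4449) F3240)).symm
theorem E731 : n1867 = n975 := ((((iv3 D1881)).symm.trans (sb E730 F6371))).symm
theorem F6385 : act 7 n1881 = n1863 := (sb E730 (iv7 D4449))
theorem E732 : n4440 = n972 := ((((iv1 F1836)).symm.trans (sb E731 (iv1 F6361)))).symm
theorem E734 : n1880 = n971 := ((D1880).symm.trans (sb E731 F3158))
theorem E735 : n4454 = n1882 := (((D1882).symm.trans (sb E731 (iv4 F6377)))).symm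
theorem E736 : n1885 = n970 := ((D1885).symm.trans (sb E731 (iv7 D1867)))
theorem E737 : n1862 = n976 := ((((iv1 F1841)).symm.trans (sb E732 (iv1 D4440)))).symm
theorem F6386 : act 2 n971 = n975 := (sb E734 (iv2 D1880))
theorem F6387 : act 2 n1882 = n1869 := (sb E735 F6376)
theorem F6388 : act 7 n1882 = n1864 := (sb E735 (iv7 D4454))
theorem F6389 : act 7 n970 = n975 := (sb E736 (iv7 D1885))
theorem F6390 : act 2 n976 = n970 := (sb E737 (iv2 D1862))
theorem E738 : n4441 = n1886 := (((D1886).symm.trans (sb E737 D4441))).symm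
theorem E739 : n4442 = n1887 := (((D1887).symm.trans (sb E737 D4442))).symm
theorem E740 : n4443 = n1888 := (((D1888).symm.trans (sb E737 D4443))).symm
theorem E741 : n4444 = n1889 := (((D1889).symm.trans (sb E737 D4444))).symm
theorem F6391 : act 7 n976 = n971 := (sb E737 (iv7 F3157))
theorem F6392 : act 2 n1886 = n3828 := (sb E738 F6381)
theorem F6393 : act 7 n1886 = n1868 := (sb E738 F6362)
theorem F6394 : act 2 n1887 = n1864 := (sb E739 F6363)
theorem E742 : n1929 = n985 := ((((iv3 F3171)).symm.trans (sb E739 (iv3 F6365)))).symm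
theorem F6395 : act 7 n1887 = n1869 := (sb E739 F6364)
theorem F6396 : act 2 n1888 = n1865 := (sb E740 F6366)
theorem F6397 : act 7 n1888 = n1870 := (sb E740 F6367)
theorem F6398 : act 2 n1889 = n1866 := (sb E741 F6368)
theorem E743 : n1908 = n991 := ((D1908).symm.trans (sb E742 F3224))
theorem E744 : n1912 = n990 := ((D1912).symm.trans (sb E742 (iv7 D1929)))
theorem F6399 : act 2 n991 = n985 := (sb E743 (iv2 D1908))
theorem E745 : n1925 = n986 := ((F3223).symm.trans (sb E743 (iv7 F3212)))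
theorem F6400 : act 7 n990 = n985 := (sb E744 (iv7 D1912))
theorem F6401 : act 2 n986 = n990 := (sb E745 (iv2 D1925))
theorem F6402 : act 7 n986 = n991 := (sb E745 (iv7 F3223))
theorem E746 : n3780 = n1937 := (c15_4 (iv0 D1937) D1938 F6384 (iv2 F5784))
theorem F6403 : act 2 n1937 = n1653 := (sb E746 F5784)
theorem F6404 : act 7 n1937 = n1652 := (sb E746 (iv7 D3780))
theorem F6405 : act 7 n3777 = n4049 := d11_2 F6404 D3777 F5984
theorem F6406 : act 2 n4049 = n1881 := d4_1 F6405 F6385 (iv2 F6382)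
theorem F6407 : act 7 n4028 = n3828 := d8_2 F6405 F5985 (iv3 F5821)
theorem F6408 : act 1 n4051 = n3777 := d15_1 (iv0 F5987) F6405 F6406
theorem F6409 : act 1 n3830 = n4049 := d15_1 (iv0 F5825) (iv7 F6405) F6382
theorem E747 : n4064 = n4023 := ((c15_3 F6409 (iv0 D4049) (iv7 F5956) F5994)).symm
theorem F6410 : act 2 n4023 = n3830 := (sb E747 F5994)
theorem E748 : n1756 = n1746 := ((((iv3 D4023)).symm.trans (sb E747 (iv3 D4064)))).symm
theorem E749 : n4021 = n932 := ((D4021).symm.trans (sb E748 (iv1 F3014)))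
theorem E750 : n4022 = n930 := ((D4022).symm.trans (sb E748 (iv0 D1756)))
theorem E751 : n4063 = n928 := ((((iv2 D1746)).symm.trans (sb E748 D4063))).symm
theorem E752 : n4024 = n2617 := ((D4024).symm.trans (sb E748 (iv4 F4215)))
theorem E756 : n1757 = n1751 := (((iv1 F3015)).symm.trans (sb E749 (iv1 F5954)))
theorem F6411 : act 1 n932 = n1746 := (sb E749 (iv0 D4021))
theorem F6412 : act 0 n930 = n1746 := (sb E750 (iv1 D4022))
theorem E757 : n3819 = n1747 := (((D1747).symm.trans (sb E751 F5993))).symm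
theorem F6413 : act 2 n2617 = n1748 := (sb E752 F5957)
theorem F6414 : act 4 n2617 = n1746 := (sb E752 (iv4 D4024))
theorem F6415 : act 7 n2617 = n1753 := (sb E752 F5958)
theorem F6416 : act 0 n1751 = n930 := (sb E756 (iv1 D1757))
theorem F6417 : act 1 n1751 = n932 := (sb E756 F3015)
theorem E758 : n4032 = n1675 := (((iv3 F5969)).symm.trans (sb E756 F3016))
theorem E759 : n4068 = n4038 := ((((iv4 F5977)).symm.trans (sb E756 D4068))).symm
theorem E760 : n4069 = n4043 := ((((iv5 F5981)).symm.trans (sb E756 D4069))).symm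
theorem E761 : n4070 = n4048 := (((D4048).symm.trans (sb E756 D4070))).symm
theorem E762 : n4029 = n1670 := ((D4029).symm.trans (sb E757 F5812))
theorem E763 : n1678 = n1668 := ((F3012).symm.trans (sb E757 (iv4 D3819)))
theorem E764 : n3863 = n3833 := ((((iv2 F5827)).symm.trans (sb E758 F5968))).symm
theorem F6418 : act 3 n1675 = n1751 := (sb E758 F5969)
theorem F6419 : act 7 n1675 = n1747 := (sb E758 (iv7 D4032))
theorem F6420 : act 3 n4038 = n3846 := (sb E759 F5996)
theorem F6421 : act 3 n4043 = n3849 := (sb E760 F5999)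
theorem F6422 : act 3 n4048 = n3850 := (sb E761 F6000)
theorem F6423 : act 2 n1670 = n1747 := (sb E762 (iv2 D4029))
theorem E767 : n3816 = n893 := ((D3816).symm.trans (sb E763 (iv1 F2859)))
theorem E768 : n3817 = n891 := ((D3817).symm.trans (sb E763 (iv0 D1678)))
theorem E769 : n3858 = n3818 := (((D3818).symm.trans (sb E763 D3858))).symm
theorem F6424 : act 4 n1668 = n1747 := (sb E763 (iv4 F3012))
theorem E771 : n3860 = n3821 := (((D3821).symm.trans (sb E763 D3860))).symm
theorem F6425 : act 0 n3833 = n4028 := (sb E764 (iv1 F5964))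
theorem F6426 : act 1 n3833 = n4027 := (sb E764 F5971)
theorem F6427 : act 3 n3833 = n4051 := (sb E764 (iv3 F5986))
theorem E772 : n1679 = n1673 := (((F5828).symm.trans (sb E764 (iv4 D3863)))).symm
theorem F6428 : act 1 n893 = n1668 := (sb E767 (iv0 D3816))
theorem F6429 : act 0 n891 = n1668 := (sb E768 (iv1 D3817))
theorem F6430 : act 4 n3818 = n4035 := (sb E769 (iv4 F5974))
theorem F6431 : act 4 n3821 = n4031 := (sb E771 (iv4 F5967))
theorem F6432 : act 0 n1673 = n891 := (sb E772 (iv1 D1679))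
theorem F6433 : act 1 n1673 = n893 := (sb E772 F2860)
theorem E773 : n3862 = n3827 := ((((iv3 F5819)).symm.trans (sb E772 D3862))).symm
theorem F6434 : act 4 n3827 = n3940 := (sb E773 F5876)
theorem F6435 : act 4 n1969 = n4028 := d20_2 D1007 (iv1 F3290) (iv3 F5985) (iv1 F6409) (iv3 D3830) (iv4 D1670) D1667 F2854 F1882 (iv1 F1884)
theorem F6436 : act 7 n3750 = n1969 := d11_0 F6435 F6407 F5820
theorem F6437 : act 3 n1969 = n2597 := d20_3 (iv4 F5828) F6425 (iv4 F6435) (iv1 D2597) (iv3 D1216) (iv4 D725) (iv1 F711) (iv4 F854) (iv3 F1658) (iv1 F6433)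
theorem E776 : n1961 = n1930 := (c20_11 (iv4 F5972) (iv1 F5978) (iv4 D1753) D1752 D4049 F5985 (iv4 F6435) (iv1 D1969) (iv4 D1002) D1001 D1961)
theorem F6438 : act 1 n1930 = n1001 := (sb E776 (iv0 D1961))
theorem F6439 : act 7 n1962 = n4451 := d15_2 F6438 D1962 F6373
theorem E777 : n3745 = n2597 := ((c8_2 F6436 F6437 (iv7 F5746) D3750)).symm
theorem F6440 : act 2 n2597 = n1639 := (sb E777 (iv2 D3745))
theorem F6441 : act 7 n2597 = n1640 := (sb E777 (iv7 F5746))
theorem E778 : n3749 = n2596 := (c15_4 (iv0 D2596) D2597 F6441 (iv2 F5747))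
theorem F6442 : act 2 n2596 = n1640 := (sb E778 F5747)
theorem F6443 : act 7 n2596 = n1639 := (sb E778 (iv7 D3749))
theorem F6444 : act 7 n1914 = n1931 := d8_2 F6443 F3214 (iv3 F4166)
theorem F6445 : act 2 n3750 = n1968 := d15_3 (iv0 D1968) D1969 (iv7 F6436)
theorem F6446 : act 2 n1909 = n1931 := d0_3 D3750 F6445 (iv3 F3287) (iv3 F4166) F6442
theorem F6447 : act 7 n3940 = n3721 := d11_2 D3827 F6434 (iv4 F5729)
theorem F6448 : act 2 n3721 = n3939 := d15_3 (iv0 D3939) D3940 F6447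
theorem F6449 : act 2 n3940 = n3720 := d15_3 (iv0 D3720) D3721 (iv7 F6447)
theorem F6450 : act 7 n3720 = n3939 := d4_2 (iv7 F6447) F6449 (iv2 F6448)
theorem F6451 : act 4 n3939 = n3824 := d1_2 F5729 F6448 (iv2 D3824)
theorem F6452 : act 0 n2000 = n3750 := d20_1 D2000 (iv4 F5820) (iv3 F5821) (iv1 F6408) (iv3 F6427) F5828 F6432 F1656 F1192 D1010
theorem F6454 : act 7 n4035 = n3846 := d11_2 (iv7 F5811) F6430 (iv4 D3846)
theorem F6455 : act 7 n4051 = n3830 := d8_2 D3833 F6427 (iv3 D3830)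
theorem F6456 : act 1 n4023 = n1881 := d15_0 (iv0 F5987) F6455 (iv2 F6410)
theorem E779 : n4050 = n1863 := (c15_1 D4050 (iv0 F5825) (iv7 F6455) (iv2 D4051))
theorem E780 : n4445 = n1752 := ((D4445).symm.trans (sb E779 (iv1 D4050)))
theorem F6457 : act 1 n1752 = n1863 := (sb E780 (iv0 D4445))
theorem F6458 : act 1 n3777 = n4023 := d15_0 F6456 F6385 (iv2 F6382)
theorem F6459 : act 2 n4030 = n3831 := d2_3 (iv5 D3831) F6423 D4030
theorem F6460 : act 7 n3849 = n4030 := d8_2 D4043 F6421 F5965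
theorem E781 : n2627 = n2621 := (c8_2 F6415 (iv3 F4219) (iv7 D2621) D2617)
theorem F6461 : act 0 n2621 = n1227 := (sb E781 (iv1 D2627))
theorem F6462 : act 1 n2621 = n1229 := (sb E781 F4218)
theorem F6463 : act 3 n2621 = n1753 := (sb E781 F4219)
theorem F6464 : act 2 n3846 = n2622 := d0_3 F6463 (iv2 F5976) F6420 (iv3 D2622) (iv2 F4216)
theorem F6465 : act 4 n2622 = n3845 := d1_2 D3846 F6464 (iv2 D3845)
theorem E782 : n2626 = n2616 := (c15_2 F6462 F4217 (iv7 F4214) (iv2 F4216))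
theorem F6466 : act 0 n2616 = n1229 := (sb E782 (iv1 F4217))
theorem F6467 : act 1 n2616 = n1227 := (sb E782 (iv0 D2626))
theorem F6468 : act 2 n1868 = n4028 := d4_3 F6407 (iv2 F6392) F6393
theorem E783 : n4027 = n1886 := ((c15_4 (iv0 D4027) D4028 F6407 (iv2 F6392))).symm
theorem F6469 : act 0 n1886 = n3833 := (sb E783 (iv1 F6426))
theorem F6470 : act 1 n1886 = n1747 := (sb E783 (iv0 D4027))
theorem E784 : n4034 = n3781 := ((c20_7 (iv4 F3286) F3288 (iv4 D1007) D1006 F3289 F3282 (iv4 F5785) (iv1 D4034) (iv4 D1748) D1747 (iv1 F6470))).symm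
theorem F6471 : act 0 n3781 = n1748 := (sb E784 (iv1 D4034))
theorem F6472 : act 1 n3781 = n1753 := (sb E784 F5973)
theorem F6473 : act 7 n1930 = n1913 := d8_2 F6402 D1930 (iv3 D1913)
theorem F6474 : act 7 n1932 = n1915 := d13_2 F6402 D1932 (iv5 D1915)
theorem F6475 : act 2 n1913 = n1962 := d4_1 F6473 F6439 F6373
theorem F6476 : act 1 n1913 = n2004 := d15_0 (iv0 F6374) (iv7 F6439) (iv2 F6475)
theorem F6477 : act 2 n1926 = n1914 := d1_3 (iv4 D1914) F6401 D1926
theorem F6478 : act 2 n1927 = n1915 := d2_3 (iv5 D1915) F6401 D1927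
theorem F6479 : act 2 n1928 = n1916 := d3_3 (iv6 D1916) F6401 D1928
theorem F6480 : act 7 n1909 = n1926 := d4_0 F6477 F6444 (iv2 F6446)
theorem F6481 : act 1 n1914 = n4052 := d15_0 (iv0 F5988) F6480 F6477
theorem F6482 : act 0 n1913 = n3954 := d20_10 (iv4 D3954) D3952 F5909 F3008 (iv1 F3010) D1752 D4052 (iv1 F6481) (iv4 D1914) D1913
theorem F6483 : act 1 n4451 = n3954 := d15_0 (iv0 F6482) (iv7 F6473) (iv2 F6373)
theorem F6484 : act 7 n1910 = n1927 := d13_2 F6400 D1910 (iv5 D1927)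
theorem F6485 : act 2 n1932 = n1910 := d4_3 F6484 F6478 (iv7 F6474)
theorem F6486 : act 2 n1911 = n1933 := d3_3 (iv6 D1933) F6399 D1911
theorem E785 : n1984 = n1887 := (c15_2 (iv0 F3289) D1984 F6395 (iv2 F6387))
theorem F6487 : act 0 n1887 = n1006 := (sb E785 (iv1 D1984))
theorem F6488 : act 7 n1883 = n1865 := d13_2 F6389 D1883 (iv5 D1865)
theorem F6489 : act 2 n1870 = n1883 := d4_3 F6488 (iv2 F6396) F6397
theorem F6490 : act 2 n1884 = n1871 := d3_3 (iv6 D1871) F6386 D1884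
def n4456 : Q := act 1 n1865
theorem D4456 : act 1 n1865 = n4456 := rfl
theorem F6492 : act 1 n4456 = n1870 := d15_1 D4456 (iv7 F6397) F6396
def n4457 : Q := act 4 n1865
theorem D4457 : act 4 n1865 = n4457 := rfl
def n4458 : Q := act 6 n1865
theorem D4458 : act 6 n1865 = n4458 := rfl
def n4459 : Q := act 0 n1866
theorem D4459 : act 0 n1866 = n4459 := rfl
def n4460 : Q := act 1 n1866
theorem D4460 : act 1 n1866 = n4460 := rfl
def n4461 : Q := act 5 n1866
theorem D4461 : act 5 n1866 = n4461 := rfl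
def n4462 : Q := act 7 n1866
theorem D4462 : act 7 n1866 = n4462 := rfl
def n4463 : Q := act 4 n1868
theorem D4463 : act 4 n1868 = n4463 := rfl
theorem F6493 : act 2 n4463 = n1969 := d1_1 D4463 F6435 (iv2 F6468)
theorem F6494 : act 3 n4463 = n1926 := d5_1 D4463 (iv4 D1926) F3159 (iv4 D1869) D1868
theorem F6495 : act 7 n4463 = n1968 := d11_2 F6393 D4463 F3286
theorem F6496 : act 0 n2005 = n4463 := d20_1 D2005 (iv4 D4463) (iv3 D1868) (iv1 D971) (iv3 D632) (iv4 D336) (iv1 F323) (iv4 F603) (iv3 F1194) (iv1 F1888)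
theorem F6497 : act 1 n2005 = n3750 := d15_1 (iv0 F6496) F6436 (iv2 F6493)
theorem F6498 : act 1 n2000 = n4463 := d15_1 (iv0 F6452) F6495 (iv2 F6445)
theorem E786 : n4450 = n1999 := ((c20_10 (iv4 D1864) (iv1 F1840) F1838 F1837 (iv1 F1842) D1868 D4463 (iv1 F6498) (iv4 D2000) D1999 (iv1 D4450))).symm
theorem F6499 : act 0 n1999 = n1864 := (sb E786 (iv1 D4450))
theorem F6500 : act 1 n1999 = n1869 := (sb E786 F6372)
def n4464 : Q := act 5 n1868
theorem D4464 : act 5 n1868 = n4464 := rfl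
theorem F6501 : act 3 n4464 = n1870 := d6_1 D4464 (iv5 D1870) D1868
def n4465 : Q := act 6 n1868
theorem D4465 : act 6 n1868 = n4465 := rfl
theorem F6502 : act 3 n4465 = n1871 := d7_1 D4465 (iv6 D1871) D1868
def n4466 : Q := act 5 n1869
theorem D4466 : act 5 n1869 = n4466 := rfl
theorem F6503 : act 3 n4466 = n1927 := d6_1 D4466 (iv5 D1927) F3159
def n4467 : Q := act 6 n1869
theorem D4467 : act 6 n1869 = n4467 := rfl
theorem F6504 : act 3 n4467 = n1928 := d7_1 D4467 (iv6 D1928) F3159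
theorem F6505 : act 4 n4467 = n1871 := d10_1 D4467 (iv6 D1871) D1869
def n4468 : Q := act 4 n1870
theorem D4468 : act 4 n1870 = n4468 := rfl
def n4469 : Q := act 6 n1870
theorem D4469 : act 6 n1870 = n4469 := rfl
def n4470 : Q := act 0 n1871
theorem D4470 : act 0 n1871 = n4470 := rfl
def n4471 : Q := act 1 n1871
theorem D4471 : act 1 n1871 = n4471 := rfl
def n4472 : Q := act 5 n1871
theorem D4472 : act 5 n1871 = n4472 := rfl
def n4473 : Q := act 7 n1871
theorem D4473 : act 7 n1871 = n4473 := rfl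
def n4474 : Q := act 4 n1872
theorem D4474 : act 4 n1872 = n4474 := rfl
theorem F6506 : act 2 n4474 = n1875 := d1_1 D4474 (iv4 D1875) (iv2 F3160)
def n4475 : Q := act 6 n1872
theorem D4475 : act 6 n1872 = n4475 := rfl
theorem F6507 : act 2 n4475 = n1876 := d3_1 D4475 (iv6 D1876) (iv2 F3160)
theorem F6508 : act 3 n4475 = n4475 := d7_1 D4475 (iv6 D4475) F3161
theorem F6509 : act 5 n4475 = n4475 := d12_1 D4475 (iv6 D4475) (iv5 D1872) F1832 D1872
def n4477 : Q := act 3 n1873
theorem D4477 : act 3 n1873 = n4477 := rfl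
def n4478 : Q := act 4 n1873
theorem D4478 : act 4 n1873 = n4478 := rfl
def n4484 : Q := act 5 n1874
theorem D4484 : act 5 n1874 = n4484 := rfl
def n4486 : Q := act 0 n1875
theorem D4486 : act 0 n1875 = n4486 := rfl
def n4487 : Q := act 1 n1875
theorem D4487 : act 1 n1875 = n4487 := rfl
def n4488 : Q := act 5 n1875
theorem D4488 : act 5 n1875 = n4488 := rfl
def n4489 : Q := act 6 n1875
theorem D4489 : act 6 n1875 = n4489 := rfl
theorem F6512 : act 4 n4489 = n1876 := d10_1 D4489 (iv6 D1876) D1875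
def n4490 : Q := act 0 n1876
theorem D4490 : act 0 n1876 = n4490 := rfl
def n4491 : Q := act 1 n1876
theorem D4491 : act 1 n1876 = n4491 := rfl
def n4492 : Q := act 7 n1876
theorem D4492 : act 7 n1876 = n4492 := rfl
theorem F6513 : act 3 n4492 = n1879 := d8_1 D4492 (iv7 D1879) (iv3 F3162)
theorem F6514 : act 5 n4492 = n4492 := d13_1 D4492 (iv7 D4492) F3163
def n4493 : Q := act 2 n1877
theorem D4493 : act 2 n1877 = n4493 := rfl
theorem F6515 : act 7 n1878 = n4493 := d15_2 (iv0 D1877) D1878 (iv2 D4493)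
def n4494 : Q := act 3 n1877
theorem D4494 : act 3 n1877 = n4494 := rfl
def n4495 : Q := act 4 n1877
theorem D4495 : act 4 n1877 = n4495 := rfl
def n4496 : Q := act 5 n1877
theorem D4496 : act 5 n1877 = n4496 := rfl
def n4497 : Q := act 6 n1877
theorem D4497 : act 6 n1877 = n4497 := rfl
theorem F6516 : act 5 n4497 = n4434 := d21_6 (iv5 D614) (iv1 F590) D633 D974 D1877 D4497 (iv1 D4434) (iv5 D1858) (iv6 D967) F1158
def n4498 : Q := act 7 n1877
theorem D4498 : act 7 n1877 = n4498 := rfl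
theorem F6517 : act 2 n4498 = n1878 := d4_1 D4498 F6515 (iv2 D4493)
def n4499 : Q := act 3 n1878
theorem D4499 : act 3 n1878 = n4499 := rfl
def n4500 : Q := act 4 n1878
theorem D4500 : act 4 n1878 = n4500 := rfl
def n4501 : Q := act 6 n1878
theorem D4501 : act 6 n1878 = n4501 := rfl
def n4502 : Q := act 5 n1881
theorem D4502 : act 5 n1881 = n4502 := rfl
theorem F6518 : act 3 n4502 = n1883 := d6_1 D4502 (iv5 D1883) D1881
theorem F6519 : act 7 n4502 = n4447 := d13_2 (iv7 F6385) D4502 (iv5 D4447)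
def n4503 : Q := act 6 n1881
theorem D4503 : act 6 n1881 = n4503 := rfl
theorem F6520 : act 3 n4503 = n1884 := d7_1 D4503 (iv6 D1884) D1881
theorem F6521 : act 4 n4503 = n3783 := d10_1 D4503 (iv6 D3783) (iv4 F3169)
def n4504 : Q := act 0 n1882
theorem D4504 : act 0 n1882 = n4504 := rfl
theorem F6522 : act 4 n4504 = n1999 := d20_2 D1882 D4504 (iv3 D1999) (iv1 F1887) F1194 F603 F322 D337 D634 D975
theorem F6523 : act 3 n4504 = n3954 := d20_5 D1753 (iv1 F6472) F5785 (iv3 F3282) D4504 (iv4 D3954) D3952 F5909 F3008 (iv1 F3010)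
theorem F6524 : act 2 n1957 = n4504 := d15_3 (iv0 D4504) (iv0 F3289) (iv7 F3274)
theorem F6525 : act 1 n1887 = n4504 := d15_0 (iv0 D4504) F6388 (iv2 F6394)
theorem F6526 : act 7 n4504 = n1985 := d15_2 (iv0 F6487) F6525 (iv2 D1985)
theorem E787 : n3954 = n1963 := (c0_3 D1957 F6524 F6523 (iv2 D1963) (iv3 D1001) D1000)
theorem F6527 : act 0 n1963 = n4451 := (sb E787 (iv1 F6483))
theorem F6528 : act 1 n1963 = n1913 := (sb E787 (iv0 F6482))
theorem F6529 : act 3 n1963 = n4504 := (sb E787 (iv3 F6523))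
theorem F6530 : act 4 n1963 = n1714 := (sb E787 (iv4 D3954))
theorem E788 : n3953 = n1964 := (c1_2 F6530 D3953 (iv4 D1964) D1963)
theorem F6531 : act 2 n1964 = n1714 := (sb E788 (iv2 D3953))
theorem F6532 : act 7 n1964 = n1715 := (sb E788 (iv7 F5913))
theorem E789 : n2004 = n1967 := (c11_2 F6532 (iv4 F3308) (iv7 D1967) D1964)
theorem F6533 : act 0 n1967 = n1913 := (sb E789 (iv1 F6476))
theorem F6534 : act 1 n1967 = n4451 := (sb E789 (iv0 F6374))
theorem E790 : n1011 = n1005 := (((F3285).symm.trans (sb E789 (iv3 D2004)))).symm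
theorem F6535 : act 4 n1967 = n1715 := (sb E789 F3308)
theorem E791 : n1956 = n645 := (((iv1 F3273)).symm.trans (sb E790 (iv1 D1011)))
theorem E792 : n1955 = n647 := ((F3272).symm.trans (sb E790 F1888))
theorem E794 : n2005 = n1973 := ((((iv4 F3293)).symm.trans (sb E790 D2005))).symm
theorem E798 : n1010 = n1000 := ((D1010).symm.trans (sb E791 (iv1 D1956)))
theorem F6536 : act 1 n645 = n1005 := (sb E791 F3273)
theorem F6537 : act 0 n647 = n1005 := (sb E792 (iv1 F3272))
theorem F6538 : act 0 n1973 = n4463 := (sb E794 F6496)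
theorem F6539 : act 1 n1973 = n3750 := (sb E794 F6497)
theorem F6540 : act 0 n1000 = n647 := (sb E798 (iv1 F1887))
theorem F6541 : act 1 n1000 = n645 := (sb E798 (iv0 D1010))
theorem E799 : n1999 = n1957 := (((D1957).symm.trans (sb E798 D1999))).symm
theorem E800 : n2000 = n1958 := (((D1958).symm.trans (sb E798 D2000))).symm
theorem F6542 : act 0 n1957 = n1864 := (sb E799 F6499)
theorem F6543 : act 1 n1957 = n1869 := (sb E799 F6500)
theorem F6544 : act 4 n1957 = n4504 := (sb E799 (iv4 F6522))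
theorem F6545 : act 0 n1958 = n3750 := (sb E800 F6452)
theorem F6546 : act 1 n1958 = n4463 := (sb E800 F6498)
theorem F6547 : act 3 n1958 = n1714 := (sb E800 (iv3 F3306))
theorem E803 : n3957 = n1989 := (c15_4 (iv0 F3302) (iv0 F3280) F6532 (iv2 F5914))
theorem F6548 : act 2 n1989 = n1715 := (sb E803 F5914)
theorem F6549 : act 7 n1989 = n1714 := (sb E803 (iv7 D3957))
theorem E804 : n1986 = n1985 := ((c11_3 (iv7 F3274) F6544 F6526 (iv4 D1986))).symm
theorem F6550 : act 0 n1985 = n1869 := (sb E804 (iv1 F6378))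
theorem F6551 : act 1 n1985 = n1864 := (sb E804 (iv0 F3299))
theorem F6552 : act 4 n1985 = n1006 := (sb E804 (iv4 D1986))
def n4505 : Q := act 5 n1882
theorem D4505 : act 5 n1882 = n4505 := rfl
theorem F6553 : act 2 n4505 = n4466 := d2_1 D4505 (iv5 D4466) (iv2 F6387)
theorem F6554 : act 7 n4505 = n4452 := d13_2 (iv7 F6388) D4505 (iv5 D4452)
def n4506 : Q := act 6 n1882
theorem D4506 : act 6 n1882 = n4506 := rfl
theorem F6555 : act 2 n4506 = n4467 := d3_1 D4506 (iv6 D4467) (iv2 F6387)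
def n4508 : Q := act 1 n1883
theorem D4508 : act 1 n1883 = n4508 := rfl
theorem F6558 : act 1 n4508 = n1888 := d15_1 D4508 F6397 F6489
def n4509 : Q := act 4 n1883
theorem D4509 : act 4 n1883 = n4509 := rfl
theorem F6559 : act 2 n4509 = n4468 := d1_1 D4509 (iv4 D4468) F6489
theorem F6560 : act 7 n4509 = n4457 := d11_2 (iv7 F6488) D4509 (iv4 D4457)
def n4510 : Q := act 6 n1883
theorem D4510 : act 6 n1883 = n4510 := rfl
theorem F6561 : act 2 n4510 = n4469 := d3_1 D4510 (iv6 D4469) F6489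
def n4511 : Q := act 0 n1884
theorem D4511 : act 0 n1884 = n4511 := rfl
def n4512 : Q := act 1 n1884
theorem D4512 : act 1 n1884 = n4512 := rfl
theorem F6562 : act 1 n4512 = n4473 := d15_1 D4512 (iv7 D4473) (iv2 F6490)
def n4513 : Q := act 5 n1884
theorem D4513 : act 5 n1884 = n4513 := rfl
theorem F6563 : act 2 n4513 = n4472 := d2_1 D4513 (iv5 D4472) (iv2 F6490)
def n4514 : Q := act 7 n1884
theorem D4514 : act 7 n1884 = n4514 := rfl
theorem F6564 : act 2 n4514 = n4473 := d4_1 D4514 (iv7 D4473) (iv2 F6490)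
theorem F6565 : act 6 n4514 = n4462 := d14_1 D4514 (iv7 D4462) (iv6 D1866) F6389 D1884
theorem F6566 : act 1 n4473 = n4511 := d15_0 (iv0 D4511) D4514 F6564
theorem F6567 : act 1 n4471 = n4514 := d15_1 D4471 (iv7 D4514) F6490
theorem F6568 : act 1 n4514 = n4470 := d15_0 (iv0 D4470) D4473 (iv2 F6564)
def n4515 : Q := act 5 n1886
theorem D4515 : act 5 n1886 = n4515 := rfl
theorem F6569 : act 3 n4515 = n1888 := d6_1 D4515 (iv5 D1888) D1886
theorem F6570 : act 7 n4515 = n4464 := d13_2 (iv7 F6393) D4515 (iv5 D4464)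
def n4516 : Q := act 6 n1886
theorem D4516 : act 6 n1886 = n4516 := rfl
theorem F6571 : act 3 n4516 = n1889 := d7_1 D4516 (iv6 D1889) D1886
def n4517 : Q := act 5 n1887
theorem D4517 : act 5 n1887 = n4517 := rfl
theorem F6572 : act 2 n4517 = n4452 := d2_1 D4517 (iv5 D4452) (iv2 F6394)
theorem F6573 : act 3 n4517 = n1910 := d6_1 D4517 (iv5 D1910) F3171
theorem F6574 : act 7 n4517 = n4466 := d13_2 (iv7 F6395) D4517 (iv5 D4466)
def n4518 : Q := act 6 n1887
theorem D4518 : act 6 n1887 = n4518 := rfl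
theorem F6575 : act 2 n4518 = n4453 := d3_1 D4518 (iv6 D4453) (iv2 F6394)
theorem F6576 : act 3 n4518 = n1911 := d7_1 D4518 (iv6 D1911) F3171
theorem F6577 : act 4 n4518 = n1889 := d10_1 D4518 (iv6 D1889) D1887
def n4519 : Q := act 4 n1888
theorem D4519 : act 4 n1888 = n4519 := rfl
theorem F6578 : act 2 n4519 = n4457 := d1_1 D4519 (iv4 D4457) (iv2 F6396)
theorem F6579 : act 7 n4519 = n4468 := d11_2 (iv7 F6397) D4519 (iv4 D4468)
def n4520 : Q := act 6 n1888
theorem D4520 : act 6 n1888 = n4520 := rfl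
theorem F6580 : act 2 n4520 = n4458 := d3_1 D4520 (iv6 D4458) (iv2 F6396)
def n4521 : Q := act 0 n1889
theorem D4521 : act 0 n1889 = n4521 := rfl
def n4522 : Q := act 1 n1889
theorem D4522 : act 1 n1889 = n4522 := rfl
theorem F6581 : act 1 n4522 = n4462 := d15_1 D4522 (iv7 D4462) (iv2 F6398)
def n4523 : Q := act 5 n1889
theorem D4523 : act 5 n1889 = n4523 := rfl
theorem F6582 : act 2 n4523 = n4461 := d2_1 D4523 (iv5 D4461) (iv2 F6398)
def n4524 : Q := act 7 n1889
theorem D4524 : act 7 n1889 = n4524 := rfl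
theorem F6583 : act 2 n4524 = n4462 := d4_1 D4524 (iv7 D4462) (iv2 F6398)
theorem F6584 : act 6 n4524 = n4473 := d14_1 D4524 (iv7 D4473) (iv6 D1871) (iv7 F6391) D1889
theorem F6585 : act 1 n4462 = n4521 := d15_0 (iv0 D4521) D4524 F6583
theorem F6586 : act 1 n4460 = n4524 := d15_1 D4460 (iv7 D4524) F6398
theorem F6587 : act 1 n4524 = n4459 := d15_0 (iv0 D4459) D4462 (iv2 F6583)
def n4525 : Q := act 4 n1890
theorem D4525 : act 4 n1890 = n4525 := rfl
theorem F6588 : act 2 n4525 = n1894 := d1_1 D4525 (iv4 D1894) (iv2 F3172)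
theorem F6589 : act 7 n4525 = n4474 := d11_2 (iv7 F3174) D4525 (iv4 D4474)
theorem F6590 : act 1 n4487 = n4525 := d15_1 D4487 F6589 F6506
theorem F6591 : act 1 n4525 = n4486 := d15_0 (iv0 D4486) (iv7 F3184) (iv2 F6588)
def n4526 : Q := act 6 n1890
theorem D4526 : act 6 n1890 = n4526 := rfl
theorem F6592 : act 2 n4526 = n1895 := d3_1 D4526 (iv6 D1895) (iv2 F3172)
theorem F6593 : act 3 n4526 = n4526 := d7_1 D4526 (iv6 D4526) F3173
def n4527 : Q := act 5 n1891
theorem D4527 : act 5 n1891 = n4527 := rfl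
theorem F6594 : act 2 n4527 = n1898 := d2_1 D4527 (iv5 D1898) (iv2 F3177)
theorem F6596 : act 7 n4527 = n4527 := d13_2 F3180 D4527 (iv5 D4527)
def n4529 : Q := act 3 n1892
theorem D4529 : act 3 n1892 = n4529 := rfl
def n4534 : Q := act 3 n1893
theorem D4534 : act 3 n1893 = n4534 := rfl
def n4536 : Q := act 5 n1893
theorem D4536 : act 5 n1893 = n4536 := rfl
def n4538 : Q := act 0 n1894
theorem D4538 : act 0 n1894 = n4538 := rfl
theorem F6599 : act 1 n4474 = n4538 := d15_0 (iv0 D4538) F3184 (iv2 F6506)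
def n4539 : Q := act 1 n1894
theorem D4539 : act 1 n1894 = n4539 := rfl
theorem F6600 : act 1 n4539 = n4474 := d15_1 D4539 (iv7 F6589) F6588
def n4540 : Q := act 5 n1894
theorem D4540 : act 5 n1894 = n4540 := rfl
theorem F6601 : act 3 n4540 = n4488 := d6_1 D4540 (iv5 D4488) (iv3 F3183)
theorem F6602 : act 7 n4540 = n4488 := d13_2 (iv7 F3184) D4540 (iv5 D4488)
def n4541 : Q := act 6 n1894
theorem D4541 : act 6 n1894 = n4541 := rfl
theorem F6603 : act 3 n4541 = n4489 := d7_1 D4541 (iv6 D4489) (iv3 F3183)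
theorem F6604 : act 4 n4541 = n1895 := d10_1 D4541 (iv6 D1895) D1894
def n4542 : Q := act 0 n1895
theorem D4542 : act 0 n1895 = n4542 := rfl
def n4543 : Q := act 1 n1895
theorem D4543 : act 1 n1895 = n4543 := rfl
def n4544 : Q := act 5 n1895
theorem D4544 : act 5 n1895 = n4544 := rfl
theorem F6605 : act 3 n4544 = n1901 := d6_1 D4544 (iv5 D1901) (iv3 F3185)
theorem F6606 : act 6 n4544 = n1898 := d12_2 D1895 D4544 (iv5 D1898) (iv6 D979) D978
def n4545 : Q := act 7 n1895
theorem D4545 : act 7 n1895 = n4545 := rfl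
theorem F6607 : act 3 n4545 = n1902 := d8_1 D4545 (iv7 D1902) (iv3 F3185)
theorem F6608 : act 6 n4545 = n4492 := d14_1 D4545 (iv7 D4492) (iv6 D1876) (iv7 F1844) D1895
def n4546 : Q := act 2 n1896
theorem D4546 : act 2 n1896 = n4546 := rfl
theorem F6609 : act 7 n1897 = n4546 := d15_2 (iv0 D1896) D1897 (iv2 D4546)
def n4547 : Q := act 3 n1896
theorem D4547 : act 3 n1896 = n4547 := rfl
def n4548 : Q := act 4 n1896
theorem D4548 : act 4 n1896 = n4548 := rfl
def n4549 : Q := act 5 n1896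
theorem D4549 : act 5 n1896 = n4549 := rfl
def n4550 : Q := act 6 n1896
theorem D4550 : act 6 n1896 = n4550 := rfl
def n4551 : Q := act 7 n1896
theorem D4551 : act 7 n1896 = n4551 := rfl
theorem F6610 : act 2 n4551 = n1897 := d4_1 D4551 F6609 (iv2 D4546)
def n4552 : Q := act 3 n1897
theorem D4552 : act 3 n1897 = n4552 := rfl
def n4553 : Q := act 4 n1897
theorem D4553 : act 4 n1897 = n4553 := rfl
theorem F6611 : act 3 n1945 = n4553 := d20_5 F3088 F1746 (iv4 F1190) (iv3 F1874) D1945 (iv4 D4553) (iv1 D1897) F1846 F1845 D981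
def n4554 : Q := act 5 n1897
theorem D4554 : act 5 n1897 = n4554 := rfl
def n4555 : Q := act 6 n1897
theorem D4555 : act 6 n1897 = n4555 := rfl
def n4556 : Q := act 0 n1898
theorem D4556 : act 0 n1898 = n4556 := rfl
theorem F6612 : act 1 n4527 = n4556 := d15_0 (iv0 D4556) F3189 (iv2 F6594)
def n4557 : Q := act 1 n1898
theorem D4557 : act 1 n1898 = n4557 := rfl
theorem F6613 : act 1 n4557 = n4527 := d15_1 D4557 F6596 F6594
def n4558 : Q := act 4 n1898
theorem D4558 : act 4 n1898 = n4558 := rfl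
def n4559 : Q := act 2 n1899
theorem D4559 : act 2 n1899 = n4559 := rfl
theorem F6615 : act 7 n1900 = n4559 := d15_2 (iv0 D1899) D1900 (iv2 D4559)
def n4560 : Q := act 3 n1899
theorem D4560 : act 3 n1899 = n4560 := rfl
def n4561 : Q := act 4 n1899
theorem D4561 : act 4 n1899 = n4561 := rfl
def n4562 : Q := act 5 n1899
theorem D4562 : act 5 n1899 = n4562 := rfl
def n4563 : Q := act 6 n1899
theorem D4563 : act 6 n1899 = n4563 := rfl
theorem F6616 : act 5 n4563 = n4312 := d21_6 F1202 (iv1 F1123) D635 D980 D1899 D4563 (iv1 D4312) (iv5 D1823) (iv6 D951) (iv1 F1204)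
def n4564 : Q := act 7 n1899
theorem D4564 : act 7 n1899 = n4564 := rfl
theorem F6617 : act 2 n4564 = n1900 := d4_1 D4564 F6615 (iv2 D4559)
def n4565 : Q := act 3 n1900
theorem D4565 : act 3 n1900 = n4565 := rfl
def n4566 : Q := act 4 n1900
theorem D4566 : act 4 n1900 = n4566 := rfl
def n4567 : Q := act 5 n1900
theorem D4567 : act 5 n1900 = n4567 := rfl
def n4568 : Q := act 6 n1900
theorem D4568 : act 6 n1900 = n4568 := rfl
def n4569 : Q := act 0 n1901
theorem D4569 : act 0 n1901 = n4569 := rfl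
theorem F6618 : act 6 n4569 = n4567 := d21_5 (iv5 D1904) (iv1 F1850) D982 (iv6 F3191) D4569 (iv5 D4567) (iv1 D1900) D1901 F3191 (iv1 F3202)
def n4570 : Q := act 1 n1901
theorem D4570 : act 1 n1901 = n4570 := rfl
theorem F6619 : act 5 n4427 = n4570 := d21_6 F1759 (iv1 F1139) D629 D967 D1856 D4427 (iv1 D4570) (iv5 D1901) (iv6 D980) (iv1 F1761)
def n4571 : Q := act 4 n1901
theorem D4571 : act 4 n1901 = n4571 := rfl
theorem F6620 : act 2 n4571 = n4571 := d1_1 D4571 (iv4 D4571) F3190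
theorem F6621 : act 6 n4571 = n1905 := d10_2 (iv6 F3191) D4571 (iv4 D1905)
def n4572 : Q := act 7 n1901
theorem D4572 : act 7 n1901 = n4572 := rfl
theorem F6622 : act 2 n4572 = n4572 := d4_1 D4572 (iv7 D4572) F3190
theorem F6623 : act 5 n4572 = n1902 := d13_1 D4572 (iv7 D1902) D1901
theorem F6625 : act 1 n4572 = n4569 := d15_0 (iv0 D4569) D4572 F6622
theorem F6626 : act 1 n4570 = n4572 := d15_1 D4570 (iv7 D4572) F3190
def n4573 : Q := act 0 n1903
theorem D4573 : act 0 n1903 = n4573 := rfl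
def n4574 : Q := act 1 n1903
theorem D4574 : act 1 n1903 = n4574 := rfl
def n4575 : Q := act 2 n1903
theorem D4575 : act 2 n1903 = n4575 := rfl
theorem F6627 : act 3 n4575 = n4575 := d0_2 D1903 D4575 (iv2 D4575) (iv3 D1903) F3087
theorem F6628 : act 6 n4575 = n4317 := d3_2 (iv6 F3197) D4575 (iv2 D4317)
theorem F6629 : act 7 n4575 = n4575 := d4_2 F3198 D4575 (iv2 D4575)
theorem F6631 : act 1 n4574 = n4575 := d15_1 D4574 F6629 (iv2 D4575)
def n4576 : Q := act 5 n1903
theorem D4576 : act 5 n1903 = n4576 := rfl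
theorem F6632 : act 3 n4576 = n1904 := d6_1 D4576 (iv5 D1904) D1903
theorem F6633 : act 7 n4576 = n4576 := d13_2 F3198 D4576 (iv5 D4576)
def n4577 : Q := act 4 n1904
theorem D4577 : act 4 n1904 = n4577 := rfl
theorem F6634 : act 2 n4577 = n4577 := d1_1 D4577 (iv4 D4577) F3199
theorem F6636 : act 5 n4577 = n4577 := d16_1 D4577 (iv4 D4577) (iv5 D1904) F3088 F1745 (iv4 F3088) D1904 F3200 F3199
theorem F6637 : act 0 n4577 = n1952 := d18_2 (iv1 F3202) D4577 (iv4 D1952) (iv5 D998) F1190 (iv0 F1746) (iv4 F3088) (iv0 D981) D982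
def n4578 : Q := act 6 n1904
theorem D4578 : act 6 n1904 = n4578 := rfl
theorem F6639 : act 2 n4578 = n4578 := d3_1 D4578 (iv6 D4578) F3199
theorem F6640 : act 5 n4578 = n4321 := d12_1 D4578 (iv6 D4321) (iv5 D1826) (iv6 F3089) D1904
def n4579 : Q := act 0 n1905
theorem D4579 : act 0 n1905 = n4579 := rfl
theorem F6641 : act 4 n4579 = n1907 := d18_3 F3201 D1905 D4579 (iv5 D1907) (iv4 D984) (iv0 D637) (iv4 F1176) F1850 D1904
theorem F6642 : act 1 n1905 = n4579 := d15_0 (iv0 D4579) F3204 F3203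
theorem F6644 : act 2 n4579 = n4579 := d1_3 F6641 F3208 (iv4 F6641)
def n4581 : Q := act 0 n1906
theorem D4581 : act 0 n1906 = n4581 := rfl
def n4582 : Q := act 1 n1906
theorem D4582 : act 1 n1906 = n4582 := rfl
def n4583 : Q := act 2 n1906
theorem D4583 : act 2 n1906 = n4583 := rfl
theorem F6648 : act 3 n4583 = n4583 := d0_2 D1906 D4583 (iv2 D4583) (iv3 D1906) F1856
theorem F6649 : act 6 n4583 = n4336 := d3_2 (iv6 F3206) D4583 (iv2 D4336)
theorem F6650 : act 7 n4583 = n4583 := d4_2 F3207 D4583 (iv2 D4583)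
theorem F6652 : act 1 n4582 = n4583 := d15_1 D4582 F6650 (iv2 D4583)
def n4584 : Q := act 5 n1906
theorem D4584 : act 5 n1906 = n4584 := rfl
theorem F6653 : act 3 n4584 = n1907 := d6_1 D4584 (iv5 D1907) D1906
def n4585 : Q := act 6 n1907
theorem D4585 : act 6 n1907 = n4585 := rfl
theorem F6655 : act 2 n4585 = n4585 := d3_1 D4585 (iv6 D4585) F3208
theorem F6656 : act 5 n4585 = n4339 := d12_1 D4585 (iv6 D4339) (iv5 D1833) (iv6 F1857) D1907
def n4586 : Q := act 1 n1909
theorem D4586 : act 1 n1909 = n4586 := rfl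
theorem F6657 : act 1 n4586 = n1914 := d15_1 D4586 F6444 (iv2 F6446)
theorem F6658 : act 4 n3830 = n4586 := d20_0 (iv1 D4586) (iv4 D1909) F3171 F6487 (iv3 D1006) D1007 (iv1 F3290) F6435 (iv3 F5985) (iv1 F6409)
theorem F6659 : act 3 n4586 = n3721 := d5_1 F6658 (iv4 F5729) (iv3 D1669) D1670 D3830
def n4587 : Q := act 5 n1909
theorem D4587 : act 5 n1909 = n4587 := rfl
def n4588 : Q := act 6 n1909
theorem D4588 : act 6 n1909 = n4588 := rfl
theorem F6660 : act 4 n4588 = n1911 := d10_1 D4588 (iv6 D1911) D1909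
def n4589 : Q := act 0 n1910
theorem D4589 : act 0 n1910 = n4589 := rfl
theorem F6661 : act 1 n1915 = n4589 := d15_0 (iv0 D4589) F6484 F6478
def n4590 : Q := act 1 n1910
theorem D4590 : act 1 n1910 = n4590 := rfl
def n4591 : Q := act 4 n1910
theorem D4591 : act 4 n1910 = n4591 := rfl
def n4592 : Q := act 6 n1910
theorem D4592 : act 6 n1910 = n4592 := rfl
def n4593 : Q := act 0 n1911
theorem D4593 : act 0 n1911 = n4593 := rfl
def n4594 : Q := act 1 n1911
theorem D4594 : act 1 n1911 = n4594 := rfl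
def n4595 : Q := act 5 n1911
theorem D4595 : act 5 n1911 = n4595 := rfl
def n4596 : Q := act 7 n1911
theorem D4596 : act 7 n1911 = n4596 := rfl
def n4597 : Q := act 4 n1913
theorem D4597 : act 4 n1913 = n4597 := rfl
theorem F6663 : act 2 n4597 = n3781 := d1_1 D4597 F5785 (iv2 F6475)
theorem F6664 : act 3 n4597 = n3746 := d5_1 D4597 (iv4 D3746) F3214 (iv4 D1914) D1913
theorem F6665 : act 7 n4597 = n4033 := d11_2 F6473 D4597 F5972
theorem F6666 : act 0 n4597 = n2617 := d20_1 D4597 F6414 D4023 (iv1 F6458) F5821 F5820 (iv1 F6539) F3293 (iv3 F3285) F6533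
theorem F6667 : act 0 n4038 = n4597 := d20_1 (iv4 F5977) (iv4 D4597) (iv3 D1913) (iv1 D986) (iv3 D638) F598 (iv1 F558) (iv4 F1121) (iv3 F1749) (iv1 F6417)
theorem E805 : n3844 = n3751 := ((c20_1 D3751 (iv1 D3844) D3846 (iv3 F6420) F6667 F6664 (iv4 D3746) (iv1 F4172) F4169 (iv3 F4168) (iv1 F4174))).symm
theorem F6668 : act 0 n3751 = n1674 := (sb E805 (iv1 D3844))
def n4598 : Q := act 5 n1913
theorem D4598 : act 5 n1913 = n4598 := rfl
theorem F6669 : act 3 n4598 = n1915 := d6_1 D4598 (iv5 D1915) D1913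
def n4599 : Q := act 6 n1913
theorem D4599 : act 6 n1913 = n4599 := rfl
theorem F6670 : act 3 n4599 = n1916 := d7_1 D4599 (iv6 D1916) D1913
def n4600 : Q := act 5 n1914
theorem D4600 : act 5 n1914 = n4600 := rfl
theorem F6671 : act 3 n4600 = n3747 := d6_1 D4600 (iv5 D3747) F3214
def n4601 : Q := act 6 n1914
theorem D4601 : act 6 n1914 = n4601 := rfl
theorem F6673 : act 4 n4601 = n1916 := d10_1 D4601 (iv6 D1916) D1914
def n4602 : Q := act 4 n1915
theorem D4602 : act 4 n1915 = n4602 := rfl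
def n4603 : Q := act 6 n1915
theorem D4603 : act 6 n1915 = n4603 := rfl
def n4605 : Q := act 1 n1916
theorem D4605 : act 1 n1916 = n4605 := rfl
def n4606 : Q := act 5 n1916
theorem D4606 : act 5 n1916 = n4606 := rfl
def n4607 : Q := act 7 n1916
theorem D4607 : act 7 n1916 = n4607 := rfl
def n4608 : Q := act 4 n1917
theorem D4608 : act 4 n1917 = n4608 := rfl
theorem F6674 : act 2 n4608 = n1920 := d1_1 D4608 (iv4 D1920) (iv2 F3215)
def n4609 : Q := act 6 n1917
theorem D4609 : act 6 n1917 = n4609 := rfl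
theorem F6675 : act 2 n4609 = n1921 := d3_1 D4609 (iv6 D1921) (iv2 F3215)
theorem F6676 : act 3 n4609 = n4609 := d7_1 D4609 (iv6 D4609) F3216
theorem F6677 : act 5 n4609 = n4609 := d12_1 D4609 (iv6 D4609) (iv5 D1917) F1860 D1917
def n4610 : Q := act 2 n1918
theorem D4610 : act 2 n1918 = n4610 := rfl
theorem F6678 : act 7 n1919 = n4610 := d15_2 (iv0 D1918) D1919 (iv2 D4610)
def n4611 : Q := act 3 n1918
theorem D4611 : act 3 n1918 = n4611 := rfl
theorem F6679 : act 4 n4611 = n4539 := d20_6 (iv4 D940) (iv1 F1188) F1187 (iv3 F1861) D1918 D4611 (iv1 D4539) (iv4 D1894) F1843 (iv1 F1761)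
def n4612 : Q := act 4 n1918
theorem D4612 : act 4 n1918 = n4612 := rfl
def n4613 : Q := act 5 n1918
theorem D4613 : act 5 n1918 = n4613 := rfl
def n4614 : Q := act 6 n1918
theorem D4614 : act 6 n1918 = n4614 := rfl
def n4615 : Q := act 7 n1918
theorem D4615 : act 7 n1918 = n4615 := rfl
theorem F6680 : act 2 n4615 = n1919 := d4_1 D4615 F6678 (iv2 D4610)
def n4616 : Q := act 3 n1919
theorem D4616 : act 3 n1919 = n4616 := rfl
def n4617 : Q := act 4 n1919
theorem D4617 : act 4 n1919 = n4617 := rfl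
def n4618 : Q := act 5 n1919
theorem D4618 : act 5 n1919 = n4618 := rfl
def n4619 : Q := act 6 n1919
theorem D4619 : act 6 n1919 = n4619 := rfl
def n4620 : Q := act 0 n1920
theorem D4620 : act 0 n1920 = n4620 := rfl
def n4621 : Q := act 1 n1920
theorem D4621 : act 1 n1920 = n4621 := rfl
theorem F6681 : act 4 n4529 = n4621 := d20_6 D940 F1760 (iv4 F1174) (iv3 F1843) D1892 D4529 (iv1 D4621) (iv4 D1920) F1861 F1183
def n4622 : Q := act 5 n1920
theorem D4622 : act 5 n1920 = n4622 := rfl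
def n4623 : Q := act 6 n1920
theorem D4623 : act 6 n1920 = n4623 := rfl
theorem F6682 : act 4 n4623 = n1921 := d10_1 D4623 (iv6 D1921) D1920
def n4624 : Q := act 0 n1921
theorem D4624 : act 0 n1921 = n4624 := rfl
def n4625 : Q := act 1 n1921
theorem D4625 : act 1 n1921 = n4625 := rfl
def n4626 : Q := act 7 n1921
theorem D4626 : act 7 n1921 = n4626 := rfl
theorem F6683 : act 3 n4626 = n1924 := d8_1 D4626 (iv7 D1924) (iv3 F3217)
theorem F6684 : act 5 n4626 = n4626 := d13_1 D4626 (iv7 D4626) F3218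
def n4627 : Q := act 2 n1922
theorem D4627 : act 2 n1922 = n4627 := rfl
theorem F6685 : act 7 n1923 = n4627 := d15_2 (iv0 D1922) D1923 (iv2 D4627)
def n4628 : Q := act 3 n1922
theorem D4628 : act 3 n1922 = n4628 := rfl
def n4629 : Q := act 4 n1922
theorem D4629 : act 4 n1922 = n4629 := rfl
def n4630 : Q := act 5 n1922
theorem D4630 : act 5 n1922 = n4630 := rfl
def n4631 : Q := act 6 n1922
theorem D4631 : act 6 n1922 = n4631 := rfl
def n4632 : Q := act 7 n1922
theorem D4632 : act 7 n1922 = n4632 := rfl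
theorem F6686 : act 2 n4632 = n1923 := d4_1 D4632 F6685 (iv2 D4627)
def n4633 : Q := act 3 n1923
theorem D4633 : act 3 n1923 = n4633 := rfl
def n4634 : Q := act 4 n1923
theorem D4634 : act 4 n1923 = n4634 := rfl
def n4635 : Q := act 5 n1923
theorem D4635 : act 5 n1923 = n4635 := rfl
theorem F6687 : act 6 n2040 = n4635 := d21_5 (iv5 D618) (iv1 F947) (iv5 F1195) D1020 D2040 (iv5 D4635) (iv1 D1923) F1863 (iv6 D989) F1183
def n4636 : Q := act 6 n1923
theorem D4636 : act 6 n1923 = n4636 := rfl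
def n4637 : Q := act 0 n1926
theorem D4637 : act 0 n1926 = n4637 := rfl
theorem F6688 : act 4 n4637 = n4023 := d20_2 D1926 D4637 (iv3 D4023) (iv1 F6411) F1749 F1121 (iv1 F559) (iv4 F600) D640 D990
theorem F6689 : act 3 n4637 = n2618 := d20_5 D1675 (iv1 F6380) D4463 F6494 D4637 (iv4 D2618) D2615 F4211 F4210 (iv1 F2856)
theorem F6690 : act 1 n1931 = n4637 := d15_0 (iv0 D4637) (iv7 F6480) F6446
theorem F6691 : act 2 n4586 = n4637 := d1_3 F6688 F6410 F6658
theorem F6692 : act 7 n4052 = n4637 := d11_0 F6688 F5956 D4052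
def n4638 : Q := act 1 n1926
theorem D4638 : act 1 n1926 = n4638 := rfl
theorem F6693 : act 1 n4638 = n1931 := d15_1 D4638 (iv7 F6444) (iv2 F6477)
theorem F6694 : act 7 n4638 = n4586 := d15_2 (iv0 D4637) D4638 F6691
theorem F6695 : act 4 n4051 = n4638 := d20_0 (iv1 D4638) (iv4 D1926) F3159 (iv1 F6543) (iv3 D1957) D1958 F6545 (iv4 F5820) (iv3 F5821) (iv1 F6408)
theorem F6696 : act 2 n4638 = n4052 := d1_1 F6695 (iv4 D4052) D4051
theorem F6697 : act 3 n4638 = n3940 := d5_1 F6695 (iv4 F6434) F5819 (iv4 F5828) F6427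
def n4639 : Q := act 5 n1926
theorem D4639 : act 5 n1926 = n4639 := rfl
theorem F6698 : act 2 n4639 = n4600 := d2_1 D4639 (iv5 D4600) (iv2 F6477)
theorem F6699 : act 7 n4639 = n4587 := d13_2 F6480 D4639 (iv5 D4587)
def n4640 : Q := act 6 n1926
theorem D4640 : act 6 n1926 = n4640 := rfl
theorem F6700 : act 2 n4640 = n4601 := d3_1 D4640 (iv6 D4601) (iv2 F6477)
theorem F6701 : act 4 n4640 = n1928 := d10_1 D4640 (iv6 D1928) D1926
def n4641 : Q := act 0 n1927
theorem D4641 : act 0 n1927 = n4641 := rfl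
theorem F6702 : act 1 n1932 = n4641 := d15_0 (iv0 D4641) (iv7 F6484) (iv2 F6485)
def n4642 : Q := act 1 n1927
theorem D4642 : act 1 n1927 = n4642 := rfl
def n4643 : Q := act 4 n1927
theorem D4643 : act 4 n1927 = n4643 := rfl
theorem F6704 : act 2 n4643 = n4602 := d1_1 D4643 (iv4 D4602) (iv2 F6478)
theorem F6705 : act 7 n4643 = n4591 := d11_2 F6484 D4643 (iv4 D4591)
def n4644 : Q := act 6 n1927
theorem D4644 : act 6 n1927 = n4644 := rfl
theorem F6706 : act 2 n4644 = n4603 := d3_1 D4644 (iv6 D4603) (iv2 F6478)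
def n4645 : Q := act 0 n1928
theorem D4645 : act 0 n1928 = n4645 := rfl
def n4646 : Q := act 1 n1928
theorem D4646 : act 1 n1928 = n4646 := rfl
theorem F6707 : act 1 n4646 = n4607 := d15_1 D4646 (iv7 D4607) (iv2 F6479)
def n4647 : Q := act 5 n1928
theorem D4647 : act 5 n1928 = n4647 := rfl
def n4648 : Q := act 7 n1928
theorem D4648 : act 7 n1928 = n4648 := rfl
theorem F6710 : act 6 n4648 = n4596 := d14_1 D4648 (iv7 D4596) (iv6 D1911) (iv7 F6400) D1928
theorem F6712 : act 1 n4605 = n4648 := d15_1 D4605 (iv7 D4648) F6479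
def n4649 : Q := act 0 n1930
theorem D4649 : act 0 n1930 = n4649 := rfl
theorem F6714 : act 3 n4649 = n1985 := d20_5 (iv4 F6688) (iv1 F6690) (iv4 D1931) D1930 D4649 F6552 F3289 (iv4 D1882) D1881 (iv1 F6456)
theorem F6715 : act 4 n4649 = n1989 := d20_0 (iv1 F3303) F2927 F1747 F6412 D4023 (iv4 F6688) (iv1 F6690) (iv4 D1931) D1930 D4649
theorem F6716 : act 2 n1967 = n4649 := d15_3 (iv0 D4649) F6438 D1967
theorem F6717 : act 1 n1962 = n4649 := d15_0 (iv0 D4649) F6473 F6475
theorem F6718 : act 7 n4649 = n1963 := d15_2 D1962 F6717 (iv2 D1963)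
def n4650 : Q := act 5 n1930
theorem D4650 : act 5 n1930 = n4650 := rfl
theorem F6719 : act 3 n4650 = n1932 := d6_1 D4650 (iv5 D1932) D1930
theorem F6720 : act 7 n4650 = n4598 := d13_2 (iv7 F6473) D4650 (iv5 D4598)
def n4651 : Q := act 6 n1930
theorem D4651 : act 6 n1930 = n4651 := rfl
theorem F6721 : act 3 n4651 = n1933 := d7_1 D4651 (iv6 D1933) D1930
def n4652 : Q := act 5 n1931
theorem D4652 : act 5 n1931 = n4652 := rfl
theorem F6722 : act 2 n4652 = n4587 := d2_1 D4652 (iv5 D4587) F6446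
theorem F6723 : act 7 n4652 = n4600 := d13_2 F6444 D4652 (iv5 D4600)
def n4653 : Q := act 6 n1931
theorem D4653 : act 6 n1931 = n4653 := rfl
theorem F6724 : act 2 n4653 = n4588 := d3_1 D4653 (iv6 D4588) F6446
theorem F6725 : act 4 n4653 = n1933 := d10_1 D4653 (iv6 D1933) D1931
def n4654 : Q := act 4 n1932
theorem D4654 : act 4 n1932 = n4654 := rfl
theorem F6726 : act 2 n4654 = n4591 := d1_1 D4654 (iv4 D4591) (iv2 F6485)
theorem F6727 : act 7 n4654 = n4602 := d11_2 (iv7 F6474) D4654 (iv4 D4602)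
def n4655 : Q := act 6 n1932
theorem D4655 : act 6 n1932 = n4655 := rfl
theorem F6728 : act 2 n4655 = n4592 := d3_1 D4655 (iv6 D4592) (iv2 F6485)
def n4656 : Q := act 0 n1933
theorem D4656 : act 0 n1933 = n4656 := rfl
def n4657 : Q := act 1 n1933
theorem D4657 : act 1 n1933 = n4657 := rfl
theorem F6729 : act 1 n4657 = n4596 := d15_1 D4657 (iv7 D4596) F6486
def n4658 : Q := act 5 n1933
theorem D4658 : act 5 n1933 = n4658 := rfl
theorem F6730 : act 2 n4658 = n4595 := d2_1 D4658 (iv5 D4595) F6486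
def n4659 : Q := act 7 n1933
theorem D4659 : act 7 n1933 = n4659 := rfl
theorem F6732 : act 6 n4659 = n4607 := d14_1 D4659 (iv7 D4607) (iv6 D1916) F6402 D1933
theorem F6734 : act 1 n4594 = n4659 := d15_1 D4594 (iv7 D4659) (iv2 F6486)
def n4660 : Q := act 5 n1934
theorem D4660 : act 5 n1934 = n4660 := rfl
theorem F6736 : act 2 n4660 = n1939 := d2_1 D4660 (iv5 D1939) (iv2 F3225)
theorem F6737 : act 3 n4660 = n3800 := d6_1 D4660 (iv5 D3800) F3228
theorem F6738 : act 7 n4660 = n3784 := d13_2 (iv7 F3226) D4660 (iv5 D3784)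
theorem F6739 : act 1 n3786 = n4660 := d15_1 D3786 F6738 F5786
theorem F6740 : act 1 n4660 = n3785 := d15_0 (iv0 D3785) (iv7 F3242) (iv2 F6736)
def n4661 : Q := act 6 n1934
theorem D4661 : act 6 n1934 = n4661 := rfl
theorem F6741 : act 2 n4661 = n1940 := d3_1 D4661 (iv6 D1940) (iv2 F3225)
theorem F6742 : act 3 n4661 = n3801 := d7_1 D4661 (iv6 D3801) F3228
theorem F6743 : act 4 n4661 = n1936 := d10_1 D4661 (iv6 D1936) D1934
theorem F6744 : act 7 n4661 = n4661 := d14_2 (iv7 F3226) D4661 (iv6 D4661) F3226 F2837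
def n4662 : Q := act 4 n1935
theorem D4662 : act 4 n1935 = n4662 := rfl
theorem F6745 : act 2 n4662 = n1943 := d1_1 D4662 (iv4 D1943) (iv2 F3230)
theorem F6746 : act 7 n4662 = n4608 := d11_2 (iv7 F3232) D4662 (iv4 D4608)
theorem F6747 : act 0 n4662 = n4621 := d20_1 D4662 (iv4 F6681) (iv3 D4529) (iv1 F3181) F3161 D4474 (iv1 F6600) (iv4 F6679) (iv3 D4611) (iv1 F3234)
theorem F6748 : act 1 n4662 = n4620 := d15_0 (iv0 D4620) (iv7 F3249) (iv2 F6745)
def n4663 : Q := act 6 n1935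
theorem D4663 : act 6 n1935 = n4663 := rfl
theorem F6749 : act 2 n4663 = n1944 := d3_1 D4663 (iv6 D1944) (iv2 F3230)
theorem F6750 : act 3 n4663 = n4663 := d7_1 D4663 (iv6 D4663) F3231
def n4664 : Q := act 5 n1936
theorem D4664 : act 5 n1936 = n4664 := rfl
theorem F6751 : act 2 n4664 = n1947 := d2_1 D4664 (iv5 D1947) (iv2 F3235)
def n4665 : Q := act 3 n1937
theorem D4665 : act 3 n1937 = n4665 := rfl
theorem F6754 : act 2 n4665 = n3746 := d0_1 D4665 (iv3 F6664) F6663 (iv3 D3781) (iv2 F6403)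
theorem F6755 : act 4 n4665 = n2597 := d5_2 F5984 D4665 (iv3 F6437) F6435 (iv3 F5985)
theorem F6756 : act 7 n4665 = n3751 := d8_2 (iv7 F6404) D4665 F5748
theorem F6757 : act 0 n4665 = n3818 := d20_4 (iv4 D4052) D4049 F5984 D4665 (iv3 D3818) F6424 (iv1 F6470) (iv4 F3286) (iv3 F3287) F5988
theorem F6758 : act 0 n3845 = n4665 := d20_7 (iv4 D1002) D999 (iv4 F2854) (iv3 F4210) (iv1 F4213) D2622 F6465 F6755 (iv3 F6437) (iv1 D1969)
def n4666 : Q := act 5 n1937
theorem D4666 : act 5 n1937 = n4666 := rfl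
theorem F6759 : act 2 n4666 = n3782 := d2_1 D4666 (iv5 D3782) (iv2 F6403)
theorem F6760 : act 7 n4666 = n3778 := d13_2 (iv7 F6404) D4666 (iv5 D3778)
def n4667 : Q := act 6 n1937
theorem D4667 : act 6 n1937 = n4667 := rfl
theorem F6761 : act 2 n4667 = n3783 := d3_1 D4667 (iv6 D3783) (iv2 F6403)
def n4668 : Q := act 3 n1938
theorem D4668 : act 3 n1938 = n4668 := rfl
theorem F6762 : act 4 n4668 = n4451 := d5_2 F3240 D4668 (iv3 D4451) (iv4 D1864) D1863
theorem F6763 : act 7 n4668 = n3781 := d8_2 (iv7 F6384) D4668 (iv3 D3781)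
theorem F6764 : act 0 n4668 = n4038 := d20_4 (iv4 F6658) F5825 F3240 D4668 F6420 (iv4 D3846) F5823 (iv4 D3746) F3214 (iv1 F6657)
theorem F6765 : act 0 n3958 = n3793 := d20_10 (iv4 D3793) (iv1 F4199) F4196 F4195 (iv1 F3239) D4668 F6762 (iv1 F6534) F6535 D3958
theorem F6766 : act 1 n4668 = n2617 := d15_1 (iv0 F6764) F6415 (iv2 F5976)
theorem F6767 : act 2 n4033 = n4668 := d15_3 F6766 (iv0 F6666) F6665
def n4669 : Q := act 5 n1938
theorem D4669 : act 5 n1938 = n4669 := rfl
theorem F6768 : act 2 n4669 = n3778 := d2_1 D4669 (iv5 D3778) (iv2 F6383)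
theorem F6769 : act 7 n4669 = n3782 := d13_2 (iv7 F6384) D4669 (iv5 D3782)
def n4670 : Q := act 6 n1938
theorem D4670 : act 6 n1938 = n4670 := rfl
theorem F6770 : act 2 n4670 = n3779 := d3_1 D4670 (iv6 D3779) (iv2 F6383)
theorem F6771 : act 4 n4670 = n4448 := d10_1 D4670 (iv6 D4448) F3240
def n4671 : Q := act 0 n1939
theorem D4671 : act 0 n1939 = n4671 := rfl
theorem F6772 : act 1 n3784 = n4671 := d15_0 (iv0 D4671) F3242 (iv2 F5786)
def n4672 : Q := act 1 n1939
theorem D4672 : act 1 n1939 = n4672 := rfl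
theorem F6773 : act 1 n4672 = n3784 := d15_1 D4672 (iv7 F6738) F6736
def n4673 : Q := act 4 n1939
theorem D4673 : act 4 n1939 = n4673 := rfl
theorem F6774 : act 7 n4673 = n3787 := d11_2 (iv7 F3242) D4673 (iv4 D3787)
def n4674 : Q := act 6 n1939
theorem D4674 : act 6 n1939 = n4674 := rfl
theorem F6775 : act 3 n4674 = n2613 := d7_1 D4674 (iv6 D2613) (iv3 F3241)
def n4675 : Q := act 0 n1940
theorem D4675 : act 0 n1940 = n4675 := rfl
theorem F6776 : act 1 n4661 = n4675 := d15_0 (iv0 D4675) F3245 (iv2 F6741)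
def n4676 : Q := act 1 n1940
theorem D4676 : act 1 n1940 = n4676 := rfl
theorem F6777 : act 1 n4676 = n4661 := d15_1 D4676 F6744 F6741
theorem F6778 : act 4 n4547 = n4676 := d20_6 (iv4 D984) F1180 (iv4 F1176) (iv3 F1845) D1896 D4547 (iv1 D4676) F3244 F1874 (iv1 F3094)
def n4677 : Q := act 5 n1940
theorem D4677 : act 5 n1940 = n4677 := rfl
theorem F6779 : act 3 n4677 = n2614 := d6_1 D4677 (iv5 D2614) (iv3 F3243)
theorem F6780 : act 7 n4677 = n4677 := d13_2 F3245 D4677 (iv5 D4677)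
def n4678 : Q := act 2 n1941
theorem D4678 : act 2 n1941 = n4678 := rfl
theorem F6781 : act 7 n1942 = n4678 := d15_2 (iv0 D1941) D1942 (iv2 D4678)
def n4679 : Q := act 3 n1941
theorem D4679 : act 3 n1941 = n4679 := rfl
theorem F6782 : act 4 n4679 = n4487 := d20_6 (iv4 F1766) (iv1 F1769) (iv4 F1187) (iv3 F1872) D1941 D4679 (iv1 D4487) (iv4 D1875) F1833 (iv1 F1720)
def n4680 : Q := act 4 n1941
theorem D4680 : act 4 n1941 = n4680 := rfl
def n4681 : Q := act 5 n1941
theorem D4681 : act 5 n1941 = n4681 := rfl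
def n4682 : Q := act 6 n1941
theorem D4682 : act 6 n1941 = n4682 := rfl
def n4683 : Q := act 7 n1941
theorem D4683 : act 7 n1941 = n4683 := rfl
theorem F6783 : act 2 n4683 = n1942 := d4_1 D4683 F6781 (iv2 D4678)
def n4684 : Q := act 3 n1942
theorem D4684 : act 3 n1942 = n4684 := rfl
def n4685 : Q := act 4 n1942
theorem D4685 : act 4 n1942 = n4685 := rfl
def n4686 : Q := act 5 n1942
theorem D4686 : act 5 n1942 = n4686 := rfl
def n4687 : Q := act 6 n1942
theorem D4687 : act 6 n1942 = n4687 := rfl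
def n4688 : Q := act 0 n1943
theorem D4688 : act 0 n1943 = n4688 := rfl
theorem F6784 : act 1 n4608 = n4688 := d15_0 (iv0 D4688) F3249 (iv2 F6674)
def n4689 : Q := act 1 n1943
theorem D4689 : act 1 n1943 = n4689 := rfl
theorem F6785 : act 1 n4689 = n4608 := d15_1 D4689 (iv7 F6746) F6745
theorem F6786 : act 4 n4477 = n4689 := d20_6 F1766 F1719 F1174 (iv3 F1833) D1873 D4477 (iv1 D4689) (iv4 D1943) F1872 (iv1 F1768)
def n4690 : Q := act 5 n1943
theorem D4690 : act 5 n1943 = n4690 := rfl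
theorem F6787 : act 3 n4690 = n4622 := d6_1 D4690 (iv5 D4622) (iv3 F3248)
theorem F6788 : act 7 n4690 = n4622 := d13_2 (iv7 F3249) D4690 (iv5 D4622)
def n4691 : Q := act 6 n1943
theorem D4691 : act 6 n1943 = n4691 := rfl
theorem F6789 : act 3 n4691 = n4623 := d7_1 D4691 (iv6 D4623) (iv3 F3248)
theorem F6790 : act 4 n4691 = n1944 := d10_1 D4691 (iv6 D1944) D1943
def n4692 : Q := act 0 n1944
theorem D4692 : act 0 n1944 = n4692 := rfl
def n4693 : Q := act 1 n1944
theorem D4693 : act 1 n1944 = n4693 := rfl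
def n4694 : Q := act 5 n1944
theorem D4694 : act 5 n1944 = n4694 := rfl
theorem F6791 : act 3 n4694 = n1950 := d6_1 D4694 (iv5 D1950) (iv3 F3250)
theorem F6792 : act 6 n4694 = n1947 := d12_2 D1944 D4694 (iv5 D1947) (iv6 D995) D994
def n4695 : Q := act 7 n1944
theorem D4695 : act 7 n1944 = n4695 := rfl
theorem F6793 : act 3 n4695 = n1951 := d8_1 D4695 (iv7 D1951) (iv3 F3250)
theorem F6794 : act 6 n4695 = n4626 := d14_1 D4695 (iv7 D4626) (iv6 D1921) (iv7 F1873) D1944
def n4696 : Q := act 2 n1945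
theorem D4696 : act 2 n1945 = n4696 := rfl
theorem F6795 : act 7 n1946 = n4696 := d15_2 (iv0 D1945) D1946 (iv2 D4696)
def n4697 : Q := act 4 n1945
theorem D4697 : act 4 n1945 = n4697 := rfl
def n4698 : Q := act 5 n1945
theorem D4698 : act 5 n1945 = n4698 := rfl
def n4699 : Q := act 6 n1945
theorem D4699 : act 6 n1945 = n4699 := rfl
def n4700 : Q := act 7 n1945
theorem D4700 : act 7 n1945 = n4700 := rfl
theorem F6796 : act 2 n4700 = n1946 := d4_1 D4700 F6795 (iv2 D4696)
def n4701 : Q := act 3 n1946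
theorem D4701 : act 3 n1946 = n4701 := rfl
def n4702 : Q := act 4 n1946
theorem D4702 : act 4 n1946 = n4702 := rfl
theorem F6797 : act 3 n3760 = n4702 := d20_5 (iv4 D1651) (iv1 D882) (iv4 F1639) (iv3 F2822) D3760 (iv4 D4702) (iv1 D1946) (iv4 F3244) F3243 (iv1 F3101)
def n4703 : Q := act 5 n1946
theorem D4703 : act 5 n1946 = n4703 := rfl
def n4704 : Q := act 6 n1946
theorem D4704 : act 6 n1946 = n4704 := rfl
def n4705 : Q := act 0 n1947
theorem D4705 : act 0 n1947 = n4705 := rfl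
theorem F6798 : act 1 n4664 = n4705 := d15_0 (iv0 D4705) F3254 (iv2 F6751)
def n4707 : Q := act 4 n1947
theorem D4707 : act 4 n1947 = n4707 := rfl
def n4708 : Q := act 2 n1948
theorem D4708 : act 2 n1948 = n4708 := rfl
theorem F6801 : act 7 n1949 = n4708 := d15_2 (iv0 D1948) D1949 (iv2 D4708)
def n4709 : Q := act 3 n1948
theorem D4709 : act 3 n1948 = n4709 := rfl
def n4710 : Q := act 4 n1948
theorem D4710 : act 4 n1948 = n4710 := rfl
def n4711 : Q := act 5 n1948
theorem D4711 : act 5 n1948 = n4711 := rfl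
def n4712 : Q := act 6 n1948
theorem D4712 : act 6 n1948 = n4712 := rfl
def n4713 : Q := act 7 n1948
theorem D4713 : act 7 n1948 = n4713 := rfl
theorem F6802 : act 2 n4713 = n1949 := d4_1 D4713 F6801 (iv2 D4708)
def n4714 : Q := act 3 n1949
theorem D4714 : act 3 n1949 = n4714 := rfl
def n4715 : Q := act 4 n1949
theorem D4715 : act 4 n1949 = n4715 := rfl
def n4716 : Q := act 5 n1949
theorem D4716 : act 5 n1949 = n4716 := rfl
def n4717 : Q := act 6 n1949
theorem D4717 : act 6 n1949 = n4717 := rfl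
def n4718 : Q := act 0 n1950
theorem D4718 : act 0 n1950 = n4718 := rfl
theorem F6803 : act 6 n4718 = n4716 := d21_5 (iv5 D1907) F3093 D998 (iv6 F3256) D4718 (iv5 D4716) (iv1 D1949) D1950 F3256 (iv1 F3211)
def n4719 : Q := act 1 n1950
theorem D4719 : act 1 n1950 = n4719 := rfl
def n4720 : Q := act 4 n1950
theorem D4720 : act 4 n1950 = n4720 := rfl
theorem F6805 : act 6 n4720 = n1952 := d10_2 (iv6 F3256) D4720 (iv4 D1952)
def n4721 : Q := act 7 n1950
theorem D4721 : act 7 n1950 = n4721 := rfl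
theorem F6806 : act 2 n4721 = n4721 := d4_1 D4721 (iv7 D4721) F3255
theorem F6807 : act 5 n4721 = n1951 := d13_1 D4721 (iv7 D1951) D1950
theorem F6809 : act 1 n4721 = n4718 := d15_0 (iv0 D4718) D4721 F6806
theorem F6810 : act 1 n4719 = n4721 := d15_1 D4719 (iv7 D4721) F3255
def n4723 : Q := act 4 n1953
theorem D4723 : act 4 n1953 = n4723 := rfl
theorem F6813 : act 2 n4723 = n2027 := d1_1 D4723 F3320 (iv2 F3265)
theorem F6814 : act 7 n4723 = n2010 := d11_2 (iv7 F3267) D4723 (iv4 D2010)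
theorem F6815 : act 1 n2023 = n4723 := d15_1 D2023 F6814 F3311
theorem F6816 : act 1 n4723 = n2022 := d15_0 (iv0 D2022) D2027 (iv2 F6813)
def n4724 : Q := act 6 n1953
theorem D4724 : act 6 n1953 = n4724 := rfl
theorem F6817 : act 2 n4724 = n2031 := d3_1 D4724 (iv6 D2031) (iv2 F3265)
theorem F6818 : act 3 n4724 = n4724 := d7_1 D4724 (iv6 D4724) F3266
def n4725 : Q := act 5 n1954
theorem D4725 : act 5 n1954 = n4725 := rfl
theorem F6819 : act 2 n4725 = n2034 := d2_1 D4725 (iv5 D2034) (iv2 F3270)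
theorem F6820 : act 3 n4725 = n4725 := d6_1 D4725 (iv5 D4725) F3271
def n4726 : Q := act 5 n1957
theorem D4726 : act 5 n1957 = n4726 := rfl
theorem F6821 : act 3 n4726 = n1959 := d6_1 D4726 (iv5 D1959) D1957
theorem F6822 : act 7 n4726 = n1987 := d13_2 (iv7 F3274) D4726 (iv5 D1987)
def n4727 : Q := act 6 n1957
theorem D4727 : act 6 n1957 = n4727 := rfl
theorem F6823 : act 3 n4727 = n1960 := d7_1 D4727 (iv6 D1960) D1957
def n4728 : Q := act 5 n1958
theorem D4728 : act 5 n1958 = n4728 := rfl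
theorem F6824 : act 2 n4728 = n1971 := d2_1 D4728 (iv5 D1971) (iv2 F3275)
theorem F6825 : act 3 n4728 = n3955 := d6_1 D4728 (iv5 D3955) (iv3 F6547)
theorem F6826 : act 7 n4728 = n1990 := d13_2 (iv7 F3276) D4728 (iv5 D1990)
def n4729 : Q := act 6 n1958
theorem D4729 : act 6 n1958 = n4729 := rfl
theorem F6828 : act 3 n4729 = n3956 := d7_1 D4729 (iv6 D3956) (iv3 F6547)
theorem F6829 : act 4 n4729 = n1960 := d10_1 D4729 (iv6 D1960) D1958
def n4732 : Q := act 4 n1959
theorem D4732 : act 4 n1959 = n4732 := rfl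
theorem F6832 : act 2 n4732 = n1976 := d1_1 D4732 (iv4 D1976) (iv2 F3277)
theorem F6833 : act 7 n4732 = n1992 := d11_2 (iv7 F3278) D4732 (iv4 D1992)
def n4733 : Q := act 6 n1959
theorem D4733 : act 6 n1959 = n4733 := rfl
theorem F6834 : act 2 n4733 = n1977 := d3_1 D4733 (iv6 D1977) (iv2 F3277)
def n4736 : Q := act 5 n1960
theorem D4736 : act 5 n1960 = n4736 := rfl
theorem F6836 : act 2 n4736 = n1981 := d2_1 D4736 (iv5 D1981) (iv2 F3279)
def n4737 : Q := act 7 n1960
theorem D4737 : act 7 n1960 = n4737 := rfl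
theorem F6837 : act 2 n4737 = n1982 := d4_1 D4737 (iv7 D1982) (iv2 F3279)
theorem F6838 : act 6 n4737 = n1997 := d14_1 D4737 (iv7 D1997) (iv6 D1009) F1885 D1960
theorem F6841 : act 1 n4737 = n1979 := d15_0 (iv0 D1979) D1982 (iv2 F6837)
def n4738 : Q := act 5 n1962
theorem D4738 : act 5 n1962 = n4738 := rfl
theorem F6842 : act 2 n4738 = n4598 := d2_1 D4738 (iv5 D4598) F6475
theorem F6843 : act 3 n4738 = n4505 := d6_1 D4738 (iv5 D4505) F3282
def n4739 : Q := act 6 n1962
theorem D4739 : act 6 n1962 = n4739 := rfl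
theorem F6844 : act 2 n4739 = n4599 := d3_1 D4739 (iv6 D4599) F6475
def n4740 : Q := act 5 n1963
theorem D4740 : act 5 n1963 = n4740 := rfl
theorem F6846 : act 2 n4740 = n1965 := d2_1 D4740 (iv5 D1965) D1963
def n4741 : Q := act 6 n1963
theorem D4741 : act 6 n1963 = n4741 := rfl
theorem F6847 : act 2 n4741 = n1966 := d3_1 D4741 (iv6 D1966) D1963
def n4742 : Q := act 3 n1964
theorem D4742 : act 3 n1964 = n4742 := rfl
theorem F6849 : act 2 n4742 = n1970 := d0_1 D4742 (iv3 D1970) (iv2 F3275) F6547 (iv2 F6531)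
theorem F6850 : act 4 n4742 = n1970 := d5_2 D1964 D4742 (iv3 D1970) (iv4 D1002) D1001
theorem F6851 : act 7 n4742 = n3958 := d8_2 (iv7 F6532) D4742 (iv3 D3958)
theorem F6852 : act 0 n3793 = n1970 := d20_1 D3793 (iv4 F6850) (iv3 D4742) F3280 F2929 F1712 (iv1 F1651) (iv4 D886) D885 D1657
def n4743 : Q := act 5 n1964
theorem D4743 : act 5 n1964 = n4743 := rfl
theorem F6853 : act 2 n4743 = n3955 := d2_1 D4743 (iv5 D3955) (iv2 F6531)
theorem F6854 : act 7 n4743 = n3959 := d13_2 (iv7 F6532) D4743 (iv5 D3959)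
def n4744 : Q := act 6 n1964
theorem D4744 : act 6 n1964 = n4744 := rfl
theorem F6856 : act 4 n4744 = n1966 := d10_1 D4744 (iv6 D1966) D1964
def n4745 : Q := act 0 n1965
theorem D4745 : act 0 n1965 = n4745 := rfl
def n4746 : Q := act 1 n1965
theorem D4746 : act 1 n1965 = n4746 := rfl
def n4747 : Q := act 4 n1965
theorem D4747 : act 4 n1965 = n4747 := rfl
def n4748 : Q := act 6 n1965
theorem D4748 : act 6 n1965 = n4748 := rfl
theorem F6857 : act 3 n4748 = n1977 := d7_1 D4748 (iv6 D1977) (iv3 F3283)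
def n4749 : Q := act 7 n1965
theorem D4749 : act 7 n1965 = n4749 := rfl
theorem F6859 : act 5 n4749 = n1967 := d13_1 D4749 (iv7 D1967) D1965
def n4753 : Q := act 7 n1966
theorem D4753 : act 7 n1966 = n4753 := rfl
theorem F6861 : act 3 n4753 = n1982 := d8_1 D4753 (iv7 D1982) (iv3 F3284)
def n4754 : Q := act 6 n1967
theorem D4754 : act 6 n1967 = n4754 := rfl
theorem F6862 : act 3 n4754 = n1983 := d7_1 D4754 (iv6 D1983) (iv3 F3285)
theorem F6863 : act 4 n4754 = n3960 := d10_1 D4754 (iv6 D3960) (iv4 F6535)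
def n4755 : Q := act 5 n1968
theorem D4755 : act 5 n1968 = n4755 := rfl
theorem F6864 : act 3 n4755 = n4587 := d6_1 D4755 (iv5 D4587) F3287
def n4756 : Q := act 6 n1968
theorem D4756 : act 6 n1968 = n4756 := rfl
theorem F6865 : act 3 n4756 = n4588 := d7_1 D4756 (iv6 D4588) F3287
def n4757 : Q := act 5 n1969
theorem D4757 : act 5 n1969 = n4757 := rfl
def n4758 : Q := act 6 n1969
theorem D4758 : act 6 n1969 = n4758 := rfl
def n4759 : Q := act 5 n1970
theorem D4759 : act 5 n1970 = n4759 := rfl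
theorem F6867 : act 3 n4759 = n1971 := d6_1 D4759 (iv5 D1971) D1970
def n4760 : Q := act 6 n1970
theorem D4760 : act 6 n1970 = n4760 := rfl
theorem F6868 : act 3 n4760 = n1972 := d7_1 D4760 (iv6 D1972) D1970
def n4761 : Q := act 7 n1970
theorem D4761 : act 7 n1970 = n4761 := rfl
theorem F6869 : act 2 n4761 = n3958 := d4_1 D4761 (iv7 F6851) F6849
theorem F6870 : act 3 n4761 = n1973 := d8_1 D4761 (iv7 D1973) D1970
theorem F6871 : act 4 n4761 = n3958 := d11_1 D4761 (iv7 F6851) F6850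
theorem F6872 : act 1 n3958 = n3724 := d15_0 (iv0 F5733) D4761 F6869
theorem E806 : n3822 = n3797 := (c20_5 (iv4 D4463) F6379 (iv4 D1670) D1669 D3822 (iv3 D3797) (iv4 F5732) (iv1 F6872) (iv4 F6871) F6870 F6538)
theorem F6873 : act 1 n3797 = n1669 := (sb E806 (iv0 D3822))
def n4762 : Q := act 0 n1971
theorem D4762 : act 0 n1971 = n4762 := rfl
def n4763 : Q := act 1 n1971
theorem D4763 : act 1 n1971 = n4763 := rfl
theorem F6874 : act 1 n4763 = n1990 := d15_1 D4763 (iv7 F6826) F6824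
def n4764 : Q := act 4 n1971
theorem D4764 : act 4 n1971 = n4764 := rfl
def n4765 : Q := act 6 n1971
theorem D4765 : act 6 n1971 = n4765 := rfl
def n4766 : Q := act 7 n1971
theorem D4766 : act 7 n1971 = n4766 := rfl
theorem F6875 : act 2 n4766 = n1990 := d4_1 D4766 (iv7 F6826) F6824
theorem F6876 : act 5 n4766 = n1973 := d13_1 D4766 (iv7 D1973) D1971
theorem F6877 : act 1 n1990 = n4762 := d15_0 (iv0 D4762) D4766 F6875
def n4771 : Q := act 6 n1973
theorem D4771 : act 6 n1973 = n4771 := rfl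
theorem F6879 : act 2 n4771 = n1991 := d3_1 D4771 (iv6 D1991) (iv2 F3292)
theorem F6880 : act 4 n4771 = n1983 := d10_1 D4771 (iv6 D1983) (iv4 F3293)
def n4782 : Q := act 0 n1976
theorem D4782 : act 0 n1976 = n4782 := rfl
def n4783 : Q := act 1 n1976
theorem D4783 : act 1 n1976 = n4783 := rfl
theorem F6883 : act 1 n4783 = n1992 := d15_1 D4783 (iv7 F6833) F6832
def n4784 : Q := act 3 n1976
theorem D4784 : act 3 n1976 = n4784 := rfl
def n4785 : Q := act 5 n1976
theorem D4785 : act 5 n1976 = n4785 := rfl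
def n4786 : Q := act 6 n1976
theorem D4786 : act 6 n1976 = n4786 := rfl
theorem F6884 : act 4 n4786 = n1977 := d10_1 D4786 (iv6 D1977) D1976
def n4787 : Q := act 7 n1976
theorem D4787 : act 7 n1976 = n4787 := rfl
theorem F6885 : act 2 n4787 = n1992 := d4_1 D4787 (iv7 F6833) F6832
theorem F6886 : act 4 n4787 = n1978 := d11_1 D4787 (iv7 D1978) D1976
theorem F6887 : act 1 n1992 = n4782 := d15_0 (iv0 D4782) D4787 F6885
def n4788 : Q := act 0 n1977
theorem D4788 : act 0 n1977 = n4788 := rfl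
def n4789 : Q := act 1 n1977
theorem D4789 : act 1 n1977 = n4789 := rfl
def n4790 : Q := act 5 n1977
theorem D4790 : act 5 n1977 = n4790 := rfl
theorem F6888 : act 6 n4790 = n1981 := d12_2 D1977 D4790 (iv5 D1981) (iv6 D1004) D1003
def n4791 : Q := act 7 n1977
theorem D4791 : act 7 n1977 = n4791 := rfl
def n4792 : Q := act 6 n1978
theorem D4792 : act 6 n1978 = n4792 := rfl
theorem F6889 : act 2 n4792 = n1993 := d3_1 D4792 (iv6 D1993) (iv2 F3295)
def n4796 : Q := act 5 n1979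
theorem D4796 : act 5 n1979 = n4796 := rfl
def n4806 : Q := act 7 n1981
theorem D4806 : act 7 n1981 = n4806 := rfl
theorem F6892 : act 5 n4806 = n1982 := d13_1 D4806 (iv7 D1982) D1981
def n4807 : Q := act 6 n1982
theorem D4807 : act 6 n1982 = n4807 := rfl
theorem F6893 : act 2 n4807 = n1997 := d3_1 D4807 (iv6 F6838) F6837
theorem F6894 : act 7 n4807 = n1983 := d14_2 D1982 D4807 (iv6 D1983) (iv7 D1005) D1004
theorem F6895 : act 1 n1995 = n4807 := d15_1 D1995 F6894 F3298
def n4808 : Q := act 0 n1983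
theorem D4808 : act 0 n1983 = n4808 := rfl
theorem F6897 : act 1 n1997 = n4808 := d15_0 (iv0 D4808) (iv7 F6894) F6893
def n4809 : Q := act 1 n1983
theorem D4809 : act 1 n1983 = n4809 := rfl
theorem F6898 : act 1 n4809 = n1997 := d15_1 D4809 (iv7 D1997) (iv2 F3298)
def n4810 : Q := act 5 n1983
theorem D4810 : act 5 n1983 = n4810 := rfl
theorem F6899 : act 2 n4810 = n1996 := d2_1 D4810 (iv5 D1996) (iv2 F3298)
def n4811 : Q := act 5 n1985
theorem D4811 : act 5 n1985 = n4811 := rfl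
theorem F6900 : act 2 n4811 = n1987 := d2_1 D4811 (iv5 D1987) D1985
theorem F6901 : act 0 n4811 = n4679 := d18_0 F6782 (iv1 D4487) (iv4 D1875) (iv5 D973) F1167 D971 D1869 (iv0 F6550) D4811
def n4812 : Q := act 6 n1985
theorem D4812 : act 6 n1985 = n4812 := rfl
theorem F6902 : act 2 n4812 = n1988 := d3_1 D4812 (iv6 D1988) D1985
theorem F6903 : act 4 n4812 = n1988 := d10_1 D4812 (iv6 D1988) (iv4 F6552)
def n4813 : Q := act 0 n1987
theorem D4813 : act 0 n1987 = n4813 := rfl
theorem F6904 : act 4 n4813 = n4538 := d18_1 D4813 (iv1 F6599) (iv4 D4474) (iv5 D1872) F1831 F1836 D1882 (iv0 F3289) D1987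
theorem F6905 : act 4 n4534 = n4782 := d20_6 F6904 (iv1 F6599) (iv4 D4474) F3161 (iv1 F3182) D4534 (iv1 F6887) (iv4 D1992) (iv3 F3300) D4813
theorem F6906 : act 0 n4030 = n4534 := d18_0 F6905 (iv1 F6887) (iv4 D1992) (iv5 D1008) D1007 (iv0 F3288) F3286 F6470 D4030
theorem E807 : n4159 = n1003 := (c20_11 D1976 D4782 (iv4 F6905) (iv3 D4534) (iv1 D1893) F1843 F1174 (iv1 F1720) (iv4 F1766) (iv3 F3038) (iv1 F6063))
theorem E808 : n1974 = n1781 := ((D1974).symm.trans (sb E807 (iv1 D4159)))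
theorem E809 : n1975 = n1786 := ((D1975).symm.trans (sb E807 F6063))
theorem E810 : n4158 = n1008 := ((D4158).symm.trans (sb E808 (iv1 F3297)))
theorem F6907 : act 1 n1781 = n1003 := (sb E808 (iv0 D1974))
theorem F6908 : act 0 n1786 = n1003 := (sb E809 (iv1 D1975))
theorem F6909 : act 0 n1008 = n1786 := (sb E810 (iv1 F6062))
theorem F6910 : act 1 n1008 = n1781 := (sb E810 (iv0 D4158))
theorem F6911 : act 3 n4813 = n4746 := d20_3 D1894 D4538 (iv4 F6904) (iv1 D4746) F3283 D1976 D4782 (iv4 F6905) (iv3 D4534) (iv1 D1893)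
theorem F6912 : act 0 n4747 = n3987 := d20_1 D4747 (iv4 D3987) F2943 F1719 (iv3 F1843) D1894 D4538 (iv4 F6904) F6911 (iv1 D4746)
theorem F6913 : act 5 n4236 = n4746 := d18_9 (iv1 D4746) D4747 F6912 (iv4 D3987) (iv5 D1726) (iv4 F2774) D3624 (iv4 F6296) F6295
theorem E821 : n4813 = n4237 := (c6_2 F6913 (iv3 F6911) (iv5 D4237) D4236)
theorem F6914 : act 1 n4237 = n1987 := (sb E821 (iv0 D4813))
theorem F6915 : act 3 n4237 = n4746 := (sb E821 F6911)
theorem F6916 : act 4 n4237 = n4538 := (sb E821 F6904)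
theorem E822 : n4536 = n947 := (c18_10 (iv1 D947) F1142 D946 D1803 D4237 F6916 (iv0 D4538) (iv4 D1894) D1893 D4536)
theorem E823 : n1893 = n1809 := (((D1809).symm.trans (sb E822 (iv5 D4536)))).symm
theorem E824 : n4241 = n978 := (((iv1 F6153)).symm.trans (sb E823 (iv1 D1893)))
theorem E825 : n4240 = n1872 := ((F6156).symm.trans (sb E823 F3182))
theorem E827 : n4534 = n4253 := ((((iv3 F6163)).symm.trans (sb E823 D4534))).symm
theorem E831 : n1892 = n1804 := ((D1892).symm.trans (sb E824 (iv1 D4241)))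
theorem F6917 : act 1 n978 = n1809 := (sb E824 F6153)
theorem F6918 : act 0 n1872 = n1809 := (sb E825 (iv1 F6156))
theorem F6919 : act 1 n4253 = n4030 := (sb E827 (iv0 F6906))
theorem F6920 : act 4 n4253 = n4782 := (sb E827 F6905)
theorem F6921 : act 0 n1804 = n1872 := (sb E831 (iv1 F3181))
theorem F6922 : act 1 n1804 = n978 := (sb E831 (iv0 D1892))
theorem E832 : n4529 = n4232 := ((((iv3 F6142)).symm.trans (sb E831 D4529))).symm
theorem F6923 : act 4 n4232 = n4621 := (sb E832 F6681)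
theorem E836 : n4613 = n1739 := (c18_10 (iv1 F2996) (iv4 F5553) F5902 (iv4 F5901) D4232 F6923 (iv0 F6747) (iv4 D4662) F3234 D4613)
theorem E837 : n4008 = n1918 := ((D4008).symm.trans (sb E836 (iv5 D4613)))
theorem E838 : n4611 = n4255 := ((D4611).symm.trans (sb E837 (iv3 F6165)))
theorem F6924 : act 5 n1918 = n1739 := (sb E837 (iv5 D4008))
theorem F6925 : act 3 n4255 = n1918 := (sb E838 (iv3 D4611))
theorem F6926 : act 4 n4255 = n4539 := (sb E838 F6679)
theorem F6928 : act 5 n4010 = n4615 := d13_3 (iv7 D4615) F6924 D4010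
theorem F6929 : act 5 n3949 = n3785 := d17_1 D3949 (iv1 F6740) (iv5 D4660) (iv4 D1934) D1935 F3234 F6924 (iv0 D1739) (iv4 F2916)
theorem E839 : n4618 = n1740 := (c2_3 F6928 F6680 D4618 (iv2 F5946))
theorem E840 : n4013 = n1919 := ((D4013).symm.trans (sb E839 (iv5 D4618)))
theorem F6930 : act 5 n1919 = n1740 := (sb E840 (iv5 D4013))
theorem F6931 : act 5 n4011 = n4616 := d6_2 F6930 D4011 (iv3 D4616)
theorem F6932 : act 5 n3950 = n3786 := d17_1 F5902 (iv1 D3786) (iv5 D1655) F1646 D988 D1919 F6930 F3000 (iv4 F5553)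
theorem F6933 : act 2 n4616 = n4746 := d2_1 F6931 (iv5 F6913) F6146
theorem E841 : n4523 = n4298 := (c21_7 D1804 F6921 (iv5 D1872) F1832 (iv1 F1841) D1889 D4523 (iv1 D4298) (iv5 D1819) (iv6 D950) D946)
theorem F6934 : act 2 n4298 = n4461 := (sb E841 F6582)
theorem F6935 : act 5 n4298 = n1889 := (sb E841 (iv5 D4523))
theorem F6936 : act 4 n4522 = n4522 := d17_9 (iv1 D4522) (iv5 F6935) (iv1 D4298) (iv5 D1819) F1783 D1819 D4298 F6935 D4522
theorem F6937 : act 5 n4762 = n4252 := d17_3 (iv1 D1969) D1971 D4762 (iv4 D4252) D4253 F6919 (iv5 D4030) D4028 (iv4 F6435)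
theorem E842 : n3835 = n3555 := ((c17_6 (iv1 F1884) D1008 F6909 F3039 (iv4 F2722) (iv5 F5577) F5829 (iv5 D1676) F2856 F2854)).symm
theorem F6938 : act 0 n3555 = n1671 := (sb E842 (iv1 D3835))
theorem F6939 : act 1 n3555 = n1676 := (sb E842 F5829)
theorem E843 : n3834 = n3550 := ((c15_4 (iv0 D3834) (iv0 F6938) (iv7 D3555) (iv2 F5573))).symm
theorem F6940 : act 0 n3550 = n1676 := (sb E843 (iv1 F5832))
theorem F6941 : act 1 n3550 = n1671 := (sb E843 (iv0 D3834))
theorem F6942 : act 5 n3821 = n3552 := d21_6 D1671 (iv1 F6941) (iv5 D3550) F2719 F6429 D3821 (iv1 D3552) (iv5 D1565) F1594 D889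
theorem F6943 : act 2 n3552 = n3841 := d2_1 F6942 (iv5 D3841) (iv2 F5816)
theorem E844 : n4736 = n1783 := (c21_7 D1003 (iv1 F6907) (iv5 D1781) F1755 (iv1 F6541) D1960 D4736 (iv1 D1783) (iv5 D938) F1128 D643)
theorem E845 : n4167 = n1981 := (((iv2 F6069)).symm.trans (sb E844 F6836))
theorem E846 : n4170 = n1960 := ((D4170).symm.trans (sb E844 (iv5 D4736)))
theorem E847 : n4806 = n1782 := ((D4806).symm.trans (sb E845 (iv7 D4167)))
theorem F6945 : act 5 n1960 = n1783 := (sb E846 (iv5 D4170))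
theorem E848 : n4165 = n1982 := ((D4165).symm.trans (sb E847 F6892))
theorem F6947 : act 5 n1982 = n1782 := (sb E848 (iv5 D4165))
theorem F6949 : act 5 n4162 = n4737 := d2_2 F6947 D4162 F6837
theorem F6950 : act 5 n4163 = n4753 := d6_2 F6947 D4163 F6861
theorem F6955 : act 5 n4171 = n4733 := d12_3 D1960 F6945 D4171 (iv6 D4733) (iv5 D1959)
theorem F6956 : act 0 n2034 = n4131 := d21_7 D4103 (iv1 F6017) (iv5 F6945) (iv6 D1960) F6540 D1018 D2034 (iv5 D4131) (iv6 D1773) D1768
def n4814 : Q := act 1 n1987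
theorem D4814 : act 1 n1987 = n4814 := rfl
def n4815 : Q := act 4 n1987
theorem D4815 : act 4 n1987 = n4815 := rfl
theorem F6960 : act 1 n4815 = n4478 := d18_6 D970 D1864 (iv1 F6551) F6552 D1987 D4815 (iv4 D4478) (iv0 D1873) (iv5 D973)
def n4816 : Q := act 6 n1987
theorem D4816 : act 6 n1987 = n4816 := rfl
theorem F6961 : act 3 n4816 = n1993 := d7_1 D4816 (iv6 D1993) (iv3 F3300)
def n4817 : Q := act 0 n1988
theorem D4817 : act 0 n1988 = n4817 := rfl
def n4818 : Q := act 1 n1988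
theorem D4818 : act 1 n1988 = n4818 := rfl
def n4819 : Q := act 5 n1988
theorem D4819 : act 5 n1988 = n4819 := rfl
theorem F6962 : act 3 n4819 = n1996 := d6_1 D4819 (iv5 D1996) (iv3 F3301)
def n4820 : Q := act 7 n1988
theorem D4820 : act 7 n1988 = n4820 := rfl
theorem F6963 : act 3 n4820 = n1997 := d8_1 D4820 (iv7 D1997) (iv3 F3301)
def n4821 : Q := act 5 n1989
theorem D4821 : act 5 n1989 = n4821 := rfl
theorem F6964 : act 2 n4821 = n3959 := d2_1 D4821 (iv5 D3959) (iv2 F6548)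
theorem F6965 : act 3 n4821 = n1990 := d6_1 D4821 (iv5 D1990) D1989
theorem F6966 : act 7 n4821 = n3955 := d13_2 (iv7 F6549) D4821 (iv5 D3955)
def n4822 : Q := act 6 n1989
theorem D4822 : act 6 n1989 = n4822 := rfl
theorem F6967 : act 2 n4822 = n3960 := d3_1 D4822 (iv6 D3960) (iv2 F6548)
theorem F6968 : act 3 n4822 = n1991 := d7_1 D4822 (iv6 D1991) D1989
def n4823 : Q := act 4 n1990
theorem D4823 : act 4 n1990 = n4823 := rfl
def n4824 : Q := act 6 n1990
theorem D4824 : act 6 n1990 = n4824 := rfl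
def n4825 : Q := act 0 n1991
theorem D4825 : act 0 n1991 = n4825 := rfl
def n4826 : Q := act 1 n1991
theorem D4826 : act 1 n1991 = n4826 := rfl
def n4827 : Q := act 5 n1991
theorem D4827 : act 5 n1991 = n4827 := rfl
def n4828 : Q := act 7 n1991
theorem D4828 : act 7 n1991 = n4828 := rfl
theorem F6969 : act 4 n4828 = n1997 := d11_1 D4828 (iv7 D1997) (iv4 F3304)
def n4829 : Q := act 3 n1992
theorem D4829 : act 3 n1992 = n4829 := rfl
def n4830 : Q := act 5 n1992
theorem D4830 : act 5 n1992 = n4830 := rfl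
def n4831 : Q := act 6 n1992
theorem D4831 : act 6 n1992 = n4831 := rfl
theorem F6970 : act 4 n4831 = n1993 := d10_1 D4831 (iv6 D1993) D1992
def n4832 : Q := act 0 n1993
theorem D4832 : act 0 n1993 = n4832 := rfl
def n4833 : Q := act 1 n1993
theorem D4833 : act 1 n1993 = n4833 := rfl
def n4834 : Q := act 5 n1993
theorem D4834 : act 5 n1993 = n4834 := rfl
theorem F6971 : act 6 n4834 = n1996 := d12_2 D1993 D4834 (iv5 D1996) (iv6 D1009) D1008
def n4835 : Q := act 7 n1993
theorem D4835 : act 7 n1993 = n4835 := rfl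
def n4836 : Q := act 2 n1994
theorem D4836 : act 2 n1994 = n4836 := rfl
theorem F6972 : act 7 n1995 = n4836 := d15_2 (iv0 D1994) D1995 (iv2 D4836)
def n4838 : Q := act 4 n1994
theorem D4838 : act 4 n1994 = n4838 := rfl
def n4839 : Q := act 5 n1994
theorem D4839 : act 5 n1994 = n4839 := rfl
theorem F6973 : act 0 n4839 = n4810 := d21_1 D4839 (iv5 D4810) (iv6 D1983) (iv1 F6536) (iv6 F1755) D1781 (iv1 F6910) (iv5 D1008) D1009 D1994
def n4840 : Q := act 6 n1994
theorem D4840 : act 6 n1994 = n4840 := rfl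
def n4841 : Q := act 7 n1994
theorem D4841 : act 7 n1994 = n4841 := rfl
theorem F6974 : act 2 n4841 = n1995 := d4_1 D4841 F6972 (iv2 D4836)
def n4842 : Q := act 3 n1995
theorem D4842 : act 3 n1995 = n4842 := rfl
def n4843 : Q := act 4 n1995
theorem D4843 : act 4 n1995 = n4843 := rfl
def n4844 : Q := act 5 n1995
theorem D4844 : act 5 n1995 = n4844 := rfl
theorem F6975 : act 0 n4844 = n1996 := d21_1 D4844 (iv5 D1996) (iv6 D1009) (iv1 D644) (iv6 F1128) D938 D1782 (iv5 F6947) D4807 (iv1 F6895)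
def n4845 : Q := act 6 n1995
theorem D4845 : act 6 n1995 = n4845 := rfl
def n4846 : Q := act 0 n1996
theorem D4846 : act 0 n1996 = n4846 := rfl
def n4847 : Q := act 4 n1996
theorem D4847 : act 4 n1996 = n4847 := rfl
def n4848 : Q := act 7 n1996
theorem D4848 : act 7 n1996 = n4848 := rfl
theorem F6976 : act 5 n4848 = n1997 := d13_1 D4848 (iv7 D1997) D1996
theorem F6977 : act 1 n4839 = n4848 := d15_1 (iv0 F6973) (iv7 D4848) (iv2 F6899)
def n4849 : Q := act 2 n2008
theorem D4849 : act 2 n2008 = n4849 := rfl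
theorem F6978 : act 7 n2009 = n4849 := d15_2 (iv0 D2008) D2009 (iv2 D4849)
def n4850 : Q := act 3 n2008
theorem D4850 : act 3 n2008 = n4850 := rfl
def n4851 : Q := act 4 n2008
theorem D4851 : act 4 n2008 = n4851 := rfl
def n4852 : Q := act 5 n2008
theorem D4852 : act 5 n2008 = n4852 := rfl
def n4853 : Q := act 6 n2008
theorem D4853 : act 6 n2008 = n4853 := rfl
def n4854 : Q := act 7 n2008
theorem D4854 : act 7 n2008 = n4854 := rfl
def n4855 : Q := act 3 n2009
theorem D4855 : act 3 n2009 = n4855 := rfl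
theorem F6980 : act 4 n4855 = n4084 := d20_6 (iv4 F1157) F1158 (iv4 F1208) (iv3 F1892) (iv1 F3310) D4855 (iv1 D4084) (iv4 D1761) F1748 (iv1 F1144)
def n4856 : Q := act 4 n2009
theorem D4856 : act 4 n2009 = n4856 := rfl
def n4857 : Q := act 5 n2009
theorem D4857 : act 5 n2009 = n4857 := rfl
theorem F6981 : act 6 n4857 = n2032 := d21_3 (iv5 F1893) (iv1 F3310) D4857 (iv1 F6023) (iv6 D4104) D4103 (iv1 F6017) (iv5 F6945) (iv6 D1960) F6540
theorem E849 : n4109 = n2008 := (c21_1 D4109 (iv1 F3309) F1893 D1018 D2032 (iv6 F6981) (iv5 D4857) (iv1 D2009) (iv5 D1012) (iv6 F1755) F6289)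
theorem E850 : n4849 = n1772 := ((D4849).symm.trans (sb E849 F6029))
theorem E851 : n4852 = n1769 := ((D4852).symm.trans (sb E849 (iv5 D4109)))
theorem E852 : n4854 = n1777 := ((D4854).symm.trans (sb E849 F6030))
theorem E853 : n4128 = n2009 := ((D4128).symm.trans (sb E850 (iv7 F6978)))
theorem F6983 : act 5 n1769 = n2008 := (sb E851 (iv5 D4852))
theorem F6984 : act 7 n1777 = n2008 := (sb E852 (iv7 D4854))
theorem F6985 : act 2 n2009 = n1777 := (sb E853 F6048)
theorem E854 : n4857 = n1774 := ((D4857).symm.trans (sb E853 F6049))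
theorem F6986 : act 7 n2009 = n1772 := (sb E853 (iv7 D4128))
theorem F6987 : act 5 n1774 = n2009 := (sb E854 (iv5 D4857))
theorem E855 : n4133 = n2032 := ((D4133).symm.trans (sb E854 F6981))
theorem F6988 : act 2 n2032 = n1778 := (sb E855 F6051)
theorem F6989 : act 6 n2032 = n1774 := (sb E855 (iv6 D4133))
theorem E856 : n4147 = n2033 := ((c15_2 (iv0 D2032) D2033 (iv7 D4147) (iv2 F6988))).symm
theorem F6990 : act 7 n2033 = n1778 := (sb E856 (iv7 D4147))
theorem F6991 : act 5 n4855 = n4117 := d6_2 F6987 D4855 F6037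
theorem F6992 : act 5 n3867 = n3549 := d17_7 (iv1 F6294) F6987 (iv1 D2009) (iv5 D1012) (iv4 F1656) D1680 D3867 F5572 F2722
theorem F6993 : act 7 n4115 = n4855 := d13_0 F6991 (iv7 D4117) D4115
theorem F6994 : act 7 n4126 = n4856 := d11_2 F6986 D4126 (iv4 D4856)
theorem F6995 : act 2 n4142 = n4856 := d1_3 (iv4 D4856) F6985 D4142
theorem F6996 : act 7 n4850 = n4137 := d8_2 F6984 D4850 F6053
theorem F6997 : act 7 n4851 = n4142 := d11_2 F6984 D4851 (iv4 D4142)
theorem F6998 : act 2 n4126 = n4851 := d4_3 F6997 F6995 (iv7 F6994)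
theorem F6999 : act 5 n4107 = n4850 := d13_3 F6996 (iv5 D4137) (iv7 F6026)
theorem F7000 : act 5 n3866 = n3548 := d17_7 F6289 F6983 (iv1 F3309) F1893 (iv4 F1659) (iv5 F2864) F5840 (iv0 D3548) F2718
theorem F7001 : act 0 n4110 = n4840 := d21_4 D1012 D2008 (iv5 F6983) D4110 (iv6 D4840) D4839 F6973 (iv5 D4810) (iv6 D1983) (iv1 F6536)
theorem F7002 : act 6 n3890 = n3549 := d21_5 (iv5 F7000) (iv1 F5840) F2864 D1686 D3890 (iv5 F6992) (iv1 D3867) (iv5 D1680) (iv6 F2719) D3548
def n4858 : Q := act 6 n2009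
theorem D4858 : act 6 n2009 = n4858 := rfl
theorem F7004 : act 2 n4858 = n4143 := d3_1 D4858 (iv6 D4143) (iv2 F6985)
def n4859 : Q := act 0 n2010
theorem D4859 : act 0 n2010 = n4859 := rfl
theorem F7005 : act 1 n2027 = n4859 := d15_0 (iv0 D4859) (iv7 F6814) F6813
theorem F7006 : act 4 n4074 = n4859 := d20_6 (iv4 F1200) (iv1 F1210) F1208 (iv3 F1748) D1759 D4074 (iv1 F7005) F3320 F1892 (iv1 F1211)
theorem F7007 : act 5 n3975 = n4074 := d18_4 F6293 (iv4 F2718) D3548 (iv4 F5926) F7006 (iv0 D4859) (iv4 D2010) D2009 (iv5 F6987)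
theorem E857 : n4076 = n1723 := (c6_3 F7007 (iv3 D4074) D4076 D3975)
theorem E858 : n3977 = n1759 := ((D3977).symm.trans (sb E857 (iv5 D4076)))
theorem F7008 : act 5 n1759 = n1723 := (sb E858 (iv5 D3977))
theorem F7010 : act 5 n3979 = n4078 := d13_3 (iv7 D4078) F7008 D3979
theorem F7011 : act 6 n4220 = n4081 := d21_5 (iv5 F7008) (iv1 F3353) F3351 D4020 (iv1 F6125) (iv5 D4081) (iv1 D1760) (iv5 D931) (iv6 F1717) D1723
theorem E859 : n4185 = n4046 := (c21_8 (iv5 F3351) (iv1 F3355) D4081 (iv6 F7011) (iv1 D4220) (iv6 D1799) (iv5 F3042) D4185 (iv5 D4046) (iv6 D1750) D1745)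
theorem F7012 : act 0 n4046 = n3984 := (sb E859 (iv1 F6082))
theorem F7013 : act 1 n4046 = n1788 := (sb E859 (iv0 D4185))
theorem E860 : n4025 = n3986 := (c21_1 D4025 (iv1 D3986) (iv5 D1726) F1717 D928 D1750 D4046 F7012 (iv5 D3984) F2942 F6412)
theorem F7014 : act 2 n3986 = n1749 := (sb E860 F5959)
theorem F7015 : act 5 n3986 = n1746 := (sb E860 (iv5 D4025))
theorem F7016 : act 7 n3986 = n1754 := (sb E860 F5960)
theorem E861 : n4043 = n3985 := (c15_4 (iv0 D3985) D3986 F7016 (iv2 F5980))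
theorem F7017 : act 2 n3985 = n1754 := (sb E861 F5980)
theorem F7018 : act 3 n3985 = n3849 := (sb E861 F6421)
theorem F7019 : act 5 n3985 = n1751 := (sb E861 F5981)
theorem F7020 : act 7 n3985 = n1749 := (sb E861 (iv7 D4043))
theorem F7021 : act 0 n4743 = n3626 := d17_2 F3281 D4743 (iv5 D3626) F2774 D1726 D3986 F7015 (iv0 F6412) (iv4 F2927)
theorem F7022 : act 1 n4821 = n3626 := d15_0 (iv0 F7021) F6854 (iv2 F6964)
theorem E862 : n4081 = n1724 := (c2_3 F7010 F6005 D4081 (iv2 F5927))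
theorem E863 : n3982 = n1760 := ((D3982).symm.trans (sb E862 (iv5 D4081)))
theorem E864 : n4220 = n3983 := (((D3983).symm.trans (sb E862 (iv6 F7011)))).symm
theorem F7023 : act 5 n1760 = n1724 := (sb E863 (iv5 D3982))
theorem F7024 : act 0 n3983 = n1799 := (sb E864 (iv1 D4220))
theorem F7025 : act 1 n3983 = n4020 := (sb E864 F6125)
theorem F7026 : act 5 n3980 = n4079 := d6_2 F7023 D3980 (iv3 D4079)
theorem F7027 : act 5 n3624 = n3963 := d17_1 F6116 (iv1 D3963) (iv5 D1717) F1708 D931 D1760 F7023 F3060 D4217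
def n4860 : Q := act 1 n2010
theorem D4860 : act 1 n2010 = n4860 := rfl
theorem F7028 : act 1 n4860 = n2027 := d15_1 D4860 (iv7 D2027) (iv2 F3311)
def n4861 : Q := act 3 n2010
theorem D4861 : act 3 n2010 = n4861 := rfl
theorem F7029 : act 4 n4861 = n4861 := d5_2 D2010 D4861 (iv3 D4861) (iv4 D2010) F1890
def n4862 : Q := act 5 n2010
theorem D4862 : act 5 n2010 = n4862 := rfl
theorem F7030 : act 2 n4862 = n2025 := d2_1 D4862 (iv5 D2025) (iv2 F3311)
def n4863 : Q := act 6 n2010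
theorem D4863 : act 6 n2010 = n4863 := rfl
theorem F7031 : act 2 n4863 = n2026 := d3_1 D4863 (iv6 D2026) (iv2 F3311)
theorem F7032 : act 4 n4863 = n2011 := d10_1 D4863 (iv6 D2011) D2010
def n4864 : Q := act 0 n2011
theorem D4864 : act 0 n2011 = n4864 := rfl
def n4865 : Q := act 1 n2011
theorem D4865 : act 1 n2011 = n4865 := rfl
theorem F7033 : act 1 n4865 = n2030 := d15_1 D4865 (iv7 D2030) (iv2 F3312)
def n4866 : Q := act 7 n2011
theorem D4866 : act 7 n2011 = n4866 := rfl
theorem F7034 : act 2 n4866 = n2030 := d4_1 D4866 (iv7 D2030) (iv2 F3312)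
theorem F7035 : act 3 n4866 = n4866 := d8_1 D4866 (iv7 D4866) F3313
theorem F7036 : act 1 n2030 = n4864 := d15_0 (iv0 D4864) D4866 F7034
theorem F7037 : act 1 n2029 = n4866 := d15_1 D2029 (iv7 D4866) F3312
theorem F7038 : act 1 n4866 = n2028 := d15_0 (iv0 D2028) D2030 (iv2 F7034)
def n4869 : Q := act 3 n2012
theorem D4869 : act 3 n2012 = n4869 := rfl
theorem F7041 : act 7 n4869 = n2018 := d8_2 F3314 D4869 (iv3 D2018)
def n4870 : Q := act 4 n2012
theorem D4870 : act 4 n2012 = n4870 := rfl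
theorem F7042 : act 2 n4870 = n2014 := d1_1 D4870 (iv4 D2014) D2012
theorem F7043 : act 7 n4870 = n2019 := d11_2 F3314 D4870 (iv4 D2019)
def n4871 : Q := act 5 n2012
theorem D4871 : act 5 n2012 = n4871 := rfl
theorem F7045 : act 7 n4871 = n2020 := d13_2 F3314 D4871 (iv5 D2020)
def n4872 : Q := act 6 n2012
theorem D4872 : act 6 n2012 = n4872 := rfl
theorem F7046 : act 2 n4872 = n2016 := d3_1 D4872 (iv6 D2016) D2012
def n4873 : Q := act 0 n2013
theorem D4873 : act 0 n2013 = n4873 := rfl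
def n4874 : Q := act 1 n2013
theorem D4874 : act 1 n2013 = n4874 := rfl
def n4875 : Q := act 2 n2013
theorem D4875 : act 2 n2013 = n4875 := rfl
def n4876 : Q := act 4 n2013
theorem D4876 : act 4 n2013 = n4876 := rfl
theorem F7047 : act 0 n4876 = n2024 := d20_7 F1157 (iv1 F1204) (iv4 D650) (iv3 F1193) D1013 D2013 D4876 F3316 (iv3 D1023) F1203
theorem E865 : n4874 = n4738 := (c18_9 (iv1 D1962) D1964 F3280 F2930 (iv5 F1901) (iv4 F3316) (iv0 F7047) (iv4 D4876) D4874 (iv5 D4738))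
theorem F7048 : act 0 n4738 = n2013 := (sb E865 (iv1 D4874))
theorem F7049 : act 4 n4401 = n4505 := d20_8 D4876 F7047 F3316 (iv3 D1023) F1203 (iv3 F1818) D1850 D4401 (iv3 F6843) F7048
theorem E866 : n4508 = n965 := (c18_1 (iv1 F6558) D1850 D4401 F7049 (iv5 D4505) (iv4 D1882) (iv0 D975) F1170 D976 D1888)
theorem E867 : n1883 = n1848 := (((D1848).symm.trans (sb E866 (iv1 D4508)))).symm
theorem E868 : n1888 = n1849 := (((D1849).symm.trans (sb E866 F6558))).symm
theorem E870 : n4391 = n1870 := ((D4391).symm.trans (sb E867 (iv2 F6489)))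
theorem E871 : n4502 = n4392 := (((D4392).symm.trans (sb E867 (iv3 F6518)))).symm
theorem E872 : n4509 = n4393 := (((D4393).symm.trans (sb E867 D4509))).symm
theorem E873 : n4394 = n975 := ((D4394).symm.trans (sb E867 (iv5 D1883)))
theorem E874 : n4510 = n4395 := (((D4395).symm.trans (sb E867 D4510))).symm
theorem E875 : n4396 = n1865 := ((D4396).symm.trans (sb E867 F6488))
theorem E876 : n4515 = n4397 := (((D4397).symm.trans (sb E868 (iv3 F6569)))).symm
theorem E877 : n4519 = n4398 := (((D4398).symm.trans (sb E868 D4519))).symm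
theorem E878 : n4399 = n976 := ((D4399).symm.trans (sb E868 (iv5 D1888)))
theorem E879 : n4520 = n4400 := (((D4400).symm.trans (sb E868 D4520))).symm
theorem F7050 : act 2 n1870 = n1848 := (sb E870 (iv2 D4391))
theorem F7051 : act 7 n1870 = n1849 := (sb E870 (iv7 F6333))
theorem F7052 : act 5 n4392 = n1881 := (sb E871 (iv5 D4502))
theorem F7053 : act 7 n4392 = n4447 := (sb E871 F6519)
theorem F7054 : act 2 n4393 = n4468 := (sb E872 F6559)
theorem F7055 : act 7 n4393 = n4457 := (sb E872 F6560)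
theorem F7056 : act 5 n975 = n1848 := (sb E873 (iv5 D4394))
theorem F7057 : act 2 n4395 = n4469 := (sb E874 F6561)
theorem F7058 : act 2 n1865 = n1849 := (sb E875 F6334)
theorem F7059 : act 7 n1865 = n1848 := (sb E875 (iv7 D4396))
theorem F7060 : act 5 n4397 = n1886 := (sb E876 (iv5 D4515))
theorem F7061 : act 7 n4397 = n4464 := (sb E876 F6570)
theorem F7062 : act 2 n4398 = n4457 := (sb E877 F6578)
theorem F7063 : act 7 n4398 = n4468 := (sb E877 F6579)
theorem F7064 : act 5 n976 = n1849 := (sb E878 (iv5 D4399))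
theorem F7065 : act 2 n4400 = n4458 := (sb E879 F6580)
theorem F7066 : act 1 n4505 = n4137 := d18_8 F6041 (iv4 D1838) (iv1 F1811) F1780 D1811 D4263 F6335 F7049 (iv5 D4137)
theorem F7067 : act 1 n4137 = n4517 := d15_1 F7066 F6574 (iv2 F6553)
theorem E880 : n4413 = n946 := (c21_6 F7064 (iv1 D1849) (iv5 D965) D966 D1852 D4413 D1804 F6921 (iv5 D1872) F1832 (iv1 F1841))
theorem E881 : n1852 = n1805 := (((D1805).symm.trans (sb E880 (iv6 D4413)))).symm
theorem E882 : n4390 = n4245 := (((D4245).symm.trans (sb E881 (iv1 F6332)))).symm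
theorem E883 : n4246 = n966 := ((D4246).symm.trans (sb E881 (iv0 D1852)))
theorem E884 : n4409 = n4228 := ((((iv2 F6140)).symm.trans (sb E881 D4409))).symm
theorem E888 : n4414 = n4248 := (((D4248).symm.trans (sb E881 D4414))).symm
theorem F7068 : act 0 n4245 = n1853 := (sb E882 (iv1 F6331))
theorem F7069 : act 2 n4245 = n1855 := (sb E882 F6326)
theorem F7070 : act 3 n4245 = n4245 := (sb E882 (tr F6327 E882))
theorem F7071 : act 4 n4245 = n4245 := (sb E882 (tr F6328 E882))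
theorem F7072 : act 6 n4245 = n4268 := (sb E882 F6329)
theorem F7073 : act 7 n4245 = n1847 := (sb E882 (iv7 D4390))
theorem F7074 : act 0 n966 = n1805 := (sb E883 (iv1 D4246))
theorem F7075 : act 7 n4228 = n1853 := (sb E884 (iv7 F6345))
theorem F7076 : act 2 n4248 = n1853 := (sb E888 F6346)
theorem E889 : n4418 = n4262 := (c14_2 F7075 D4418 (iv7 D4262) (iv6 D1810) F3068 D4228)
theorem F7077 : act 6 n4262 = n1853 := (sb E889 (iv6 D4418))
theorem F7078 : act 4 n4402 = n4517 := d18_3 (iv1 F3136) D4263 (iv1 F6336) (iv5 D4517) (iv4 D1887) F1841 F1831 F1836 F7056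
theorem E890 : n2035 = n1910 := (c20_5 (iv4 F1208) (iv1 F1211) (iv4 F1200) D1019 D2035 (iv3 F6573) (iv4 F7078) (iv1 D4402) (iv4 D1850) F1818 F1158)
theorem E891 : n4589 = n2046 := ((D4589).symm.trans (sb E890 (iv1 F3336)))
theorem E892 : n4590 = n1019 := ((D4590).symm.trans (sb E890 (iv0 D2035)))
theorem E893 : n2036 = n1915 := (((iv1 F3338)).symm.trans (sb E891 (iv1 F6661)))
theorem F7079 : act 1 n2046 = n1910 := (sb E891 (iv0 D4589))
theorem F7080 : act 0 n1019 = n1910 := (sb E892 (iv1 D4590))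
theorem F7081 : act 0 n1915 = n1019 := (sb E893 (iv1 D2036))
theorem F7082 : act 1 n1915 = n2046 := (sb E893 F3338)
theorem E894 : n3894 = n3782 := (c17_7 (iv1 F1869) D1915 F7081 F1895 (iv4 F2713) (iv5 F2867) D3894 (iv5 D3782) (iv0 F3227) (iv4 D1934))
theorem F7083 : act 0 n3782 = n1687 := (sb E894 (iv1 D3894))
theorem E895 : n3893 = n3778 := ((c15_4 (iv0 D3893) (iv0 F7083) (iv7 F6769) F6768)).symm
theorem F7084 : act 1 n3778 = n1687 := (sb E895 (iv0 D3893))
theorem F7085 : act 0 n4015 = n4014 := d21_4 D1910 (iv1 F7079) F3334 D4015 (iv6 D4014) (iv5 F6930) (iv1 D1919) (iv5 D988) F1181 D985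
def n4877 : Q := act 5 n2013
theorem D4877 : act 5 n2013 = n4877 := rfl
def n4878 : Q := act 6 n2013
theorem D4878 : act 6 n2013 = n4878 := rfl
theorem F7087 : act 3 n4878 = n2016 := d7_1 D4878 (iv6 D2016) D2013
def n4879 : Q := act 7 n2013
theorem D4879 : act 7 n2013 = n4879 := rfl
def n4880 : Q := act 0 n2014
theorem D4880 : act 0 n2014 = n4880 := rfl
theorem F7089 : act 4 n4880 = n4397 := d18_3 D1013 D2014 D4880 F7060 (iv4 F3286) (iv0 D1968) (iv4 D1002) (iv0 D643) D646
theorem F7090 : act 0 n4880 = n4142 := d20_7 (iv4 F7049) (iv1 F6335) (iv4 D4263) F3072 (iv1 F3137) D4397 (iv4 F7089) (iv4 D4142) (iv3 F6053) (iv1 F7066)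
theorem E896 : n4126 = n2014 := ((c15_2 (iv0 F7090) (iv0 D4880) F6994 (iv2 F6995))).symm
theorem E897 : n4870 = n4851 := (((iv2 F7042)).symm.trans (sb E896 F6998))
theorem E898 : n1772 = n1013 := ((((iv4 D2014)).symm.trans (sb E896 (iv4 D4126)))).symm
theorem F7091 : act 7 n2014 = n4856 := (sb E896 F6994)
theorem F7092 : act 2 n4851 = n2014 := (sb E897 F7042)
theorem E899 : n2012 = n2008 := ((((iv4 D4851)).symm.trans (sb E897 (iv4 D4870)))).symm
theorem E900 : n4142 = n2019 := ((F6997).symm.trans (sb E897 F7043))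
theorem E903 : n4115 = n2013 := (((D2013).symm.trans (sb E898 (iv3 F6035)))).symm
theorem E904 : n2015 = n935 := ((D2015).symm.trans (sb E898 (iv5 D1772)))
theorem E906 : n2017 = n2009 := ((D2017).symm.trans (sb E898 (iv7 F6986)))
theorem F7093 : act 2 n2008 = n1013 := (sb E899 (iv2 D2012))
theorem E909 : n4869 = n4850 := (((D4850).symm.trans (sb E899 D4869))).symm
theorem E910 : n4871 = n1769 := ((((iv5 F6983)).symm.trans (sb E899 D4871))).symm
theorem E911 : n4872 = n4853 := (((D4853).symm.trans (sb E899 D4872))).symm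
theorem E912 : n1777 = n1014 := (((iv7 F6984)).symm.trans (sb E899 (iv7 F3314)))
theorem F7094 : act 1 n2019 = n4880 := (sb E900 (iv0 F7090))
theorem F7095 : act 2 n2019 = n4856 := (sb E900 F6995)
theorem F7096 : act 7 n2019 = n4851 := (sb E900 (iv7 F6997))
theorem E913 : n4877 = n1770 := ((D4877).symm.trans (sb E903 (iv5 D4115)))
theorem E914 : n4879 = n4855 := ((D4879).symm.trans (sb E903 F6993))
theorem F7097 : act 5 n935 = n1013 := (sb E904 (iv5 D2015))
theorem F7098 : act 7 n2009 = n1013 := (sb E906 (iv7 D2017))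
theorem E915 : n4137 = n2018 := ((F6996).symm.trans (sb E909 F7041))
theorem E916 : n2020 = n936 := ((((iv7 F3030)).symm.trans (sb E910 F7045))).symm
theorem F7099 : act 2 n4853 = n2016 := (sb E911 F7046)
theorem F7100 : act 2 n1014 = n2009 := (sb E912 (iv2 F6985))
theorem E917 : n4143 = n2021 := (((D2021).symm.trans (sb E912 D4143))).symm
theorem F7101 : act 7 n1014 = n2008 := (sb E912 F6984)
theorem F7102 : act 5 n1770 = n2013 := (sb E913 (iv5 D4877))
theorem F7103 : act 7 n4855 = n2013 := (sb E914 (iv7 D4879))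
theorem F7104 : act 0 n2018 = n4505 := (sb E915 (iv1 F7066))
theorem F7105 : act 1 n2018 = n4517 := (sb E915 F7067)
theorem F7106 : act 5 n2018 = n1775 := (sb E915 (iv5 D4137))
theorem F7107 : act 7 n2018 = n4850 := (sb E915 (iv7 F6996))
theorem F7108 : act 5 n936 = n1014 := (sb E916 (iv5 D2020))
theorem F7109 : act 2 n2021 = n4858 := (sb E917 (iv2 F7004))
theorem E918 : n3878 = n1563 := (c17_8 (iv1 F3029) F7108 (iv1 D1014) (iv5 D646) (iv4 F853) D892 D1682 D3878 F5567 F5565)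
theorem E919 : n3546 = n1682 := ((D3546).symm.trans (sb E918 (iv5 D3878)))
theorem F7110 : act 5 n1682 = n1563 := (sb E919 (iv5 D3546))
theorem F7111 : act 0 n4755 = n4140 := d17_2 D1968 D4755 (iv5 D4140) (iv4 D1776) F7108 F3268 (iv5 D1953) (iv0 D999) D1002
theorem E920 : n4183 = n1778 := (c21_5 F7097 (iv1 F3269) (iv5 D1953) D1954 (iv1 F6079) (iv6 D1778) F7108 (iv1 D1014) (iv5 D646) (iv6 F1128) D935)
theorem E921 : n4144 = n1787 := ((D4144).symm.trans (sb E920 (iv1 D4183)))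
theorem E922 : n4145 = n1954 := ((D4145).symm.trans (sb E920 F6079))
theorem F7112 : act 1 n1787 = n1778 := (sb E921 (iv0 D4144))
theorem F7113 : act 0 n1954 = n1778 := (sb E922 (iv1 D4145))
theorem E923 : n4796 = n1953 := (c21_1 D4796 (iv1 F3268) (iv5 F7108) D1778 (iv1 F7112) (iv6 D1787) (iv5 F3039) F6908 (iv5 D1003) D1004 D1979)
theorem E924 : n1979 = n999 := ((((iv5 D1953)).symm.trans (sb E923 (iv5 D4796)))).symm
theorem E925 : n4737 = n644 := ((((iv1 F1884)).symm.trans (sb E924 (iv1 F6841)))).symm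
theorem E926 : n1004 = n643 := ((((iv0 D999)).symm.trans (sb E924 (iv0 D1979)))).symm
theorem E933 : n1982 = n1005 := ((((iv2 F1886)).symm.trans (sb E925 F6837))).symm
theorem E934 : n4162 = n1008 := (((D1008).symm.trans (sb E925 (iv5 F6949)))).symm
theorem E935 : n1997 = n1009 := (((D1009).symm.trans (sb E925 F6838))).symm
theorem E936 : n1960 = n1000 := (((F1885).symm.trans (sb E925 (iv7 D4737)))).symm
theorem E937 : n1966 = n1001 := (((D1001).symm.trans (sb E926 (iv3 F3284)))).symm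
theorem E938 : n1972 = n1002 := (((D1002).symm.trans (sb E926 (iv4 F3291)))).symm
theorem E939 : n1981 = n1003 := (((D1003).symm.trans (sb E926 D1981))).symm
theorem F7114 : act 6 n643 = n643 := (sb E926 (iv6 D1004))
theorem E946 : n4753 = n1967 := ((((iv3 F3285)).symm.trans (sb E933 (iv3 F6861)))).symm
theorem E948 : n1978 = n1782 := (((iv5 F3296)).symm.trans (sb E933 F6947))
theorem E949 : n4807 = n1983 := (((D1983).symm.trans (sb E933 D4807))).symm
theorem E952 : n1959 = n1783 := (((iv7 F3278)).symm.trans (sb E934 (iv7 F6068)))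
theorem E953 : n4809 = n1994 := (((D1994).symm.trans (sb E935 (iv1 F6898)))).symm
theorem E954 : n4808 = n1995 := (((D1995).symm.trans (sb E935 F6897))).symm
theorem E955 : n4820 = n1988 := ((((iv3 F3301)).symm.trans (sb E935 (iv3 F6963)))).symm
theorem E956 : n4828 = n1991 := ((((iv4 F3304)).symm.trans (sb E935 (iv4 F6969)))).symm
theorem E957 : n4848 = n1996 := (((D1996).symm.trans (sb E935 (iv5 F6976)))).symm
theorem F7115 : act 7 n1009 = n1009 := (sb E935 (iv7 D1997))
theorem E958 : n4727 = n1957 := (((D1957).symm.trans (sb E936 (iv3 F6823)))).symm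
theorem E959 : n4729 = n1958 := (((D1958).symm.trans (sb E936 (iv4 F6829)))).symm
theorem F7116 : act 6 n1000 = n1000 := (sb E936 (iv6 D1960))
theorem E962 : n4741 = n1963 := (((D1963).symm.trans (sb E937 (iv2 F6847)))).symm
theorem E963 : n4744 = n1964 := (((D1964).symm.trans (sb E937 (iv4 F6856)))).symm
theorem F7117 : act 6 n1001 = n1001 := (sb E937 (iv6 D1966))
theorem E967 : n4760 = n1970 := (((D1970).symm.trans (sb E938 (iv3 F6868)))).symm
theorem F7118 : act 6 n1002 = n1002 := (sb E938 (iv6 D1972))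
theorem E970 : n4790 = n1977 := (((D1977).symm.trans (sb E939 (iv6 F6888)))).symm
theorem E972 : n4749 = n4163 := (((iv5 F6859)).symm.trans (sb E946 (iv5 F6950)))
theorem F7119 : act 2 n1782 = n1008 := (sb E948 F3295)
theorem E974 : n4787 = n4164 := (((D4164).symm.trans (sb E948 (iv4 F6886)))).symm
theorem F7120 : act 5 n1782 = n1005 := (sb E948 F3296)
theorem E975 : n4792 = n4166 := (((D4166).symm.trans (sb E948 D4792))).symm
theorem F7121 : act 7 n1782 = n1003 := (sb E948 (iv7 D1978))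
theorem F7122 : act 7 n1983 = n1983 := (sb E949 F6894)
theorem F7123 : act 2 n1783 = n1003 := (sb E952 F3277)
theorem E976 : n4726 = n4168 := (((D4168).symm.trans (sb E952 (iv3 F6821)))).symm
theorem E977 : n4732 = n4169 := (((D4169).symm.trans (sb E952 D4732))).symm
theorem F7124 : act 5 n1783 = n1000 := (sb E952 (iv5 D1959))
theorem E978 : n4733 = n4171 := (((D4171).symm.trans (sb E952 D4733))).symm
theorem F7125 : act 7 n1783 = n1008 := (sb E952 F3278)
theorem F7126 : act 0 n1994 = n1983 := (sb E953 (iv1 D4809))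
theorem F7127 : act 1 n1995 = n1983 := (sb E954 (iv0 D4808))
theorem F7128 : act 7 n1988 = n1988 := (sb E955 (iv7 D4820))
theorem F7129 : act 7 n1991 = n1991 := (sb E956 (iv7 D4828))
theorem E979 : n4846 = n4839 := ((D4846).symm.trans (sb E957 (iv1 F6977)))
theorem F7130 : act 7 n1996 = n1996 := (sb E957 (iv7 D4848))
theorem F7131 : act 6 n1957 = n1957 := (sb E958 (iv6 D4727))
theorem E980 : n3956 = n1714 := (((F6547).symm.trans (sb E959 F6828))).symm
theorem F7132 : act 6 n1958 = n1958 := (sb E959 (iv6 D4729))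
theorem F7133 : act 6 n1963 = n1963 := (sb E962 (iv6 D4741))
theorem F7134 : act 6 n1964 = n1964 := (sb E963 (iv6 D4744))
theorem F7135 : act 6 n1970 = n1970 := (sb E967 (iv6 D4760))
theorem F7136 : act 5 n1977 = n1977 := (sb E970 (iv5 D4790))
theorem F7137 : act 5 n4163 = n1967 := (sb E972 F6859)
theorem F7138 : act 7 n4163 = n1965 := (sb E972 (iv7 D4749))
theorem F7139 : act 2 n4164 = n1992 := (sb E974 F6885)
theorem F7140 : act 7 n4164 = n1976 := (sb E974 (iv7 D4787))
theorem F7141 : act 2 n4166 = n1993 := (sb E975 F6889)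
theorem F7142 : act 5 n4168 = n1957 := (sb E976 (iv5 D4726))
theorem F7143 : act 7 n4168 = n1987 := (sb E976 F6822)
theorem F7144 : act 2 n4169 = n1976 := (sb E977 F6832)
theorem F7145 : act 7 n4169 = n1992 := (sb E977 F6833)
theorem F7146 : act 2 n4171 = n1977 := (sb E978 F6834)
theorem F7147 : act 5 n4171 = n4171 := (sb E978 (iv5 F6955))
theorem F7148 : act 1 n4839 = n1996 := (sb E979 (iv0 D4846))
theorem F7149 : act 6 n1714 = n1714 := (sb E980 (iv6 D3956))
theorem F7150 : act 7 n4822 = n4822 := d14_4 F6549 F7149 (iv7 F6549) D4822 (iv6 D4822)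
theorem F7151 : act 7 n3960 = n3960 := d4_2 F7150 F6967 (iv2 F6967)
theorem F7152 : act 7 n4754 = n4754 := d11_2 F7151 (iv4 F6863) F6863
theorem F7153 : act 5 n4748 = n4748 := d6_2 F7136 (iv3 F6857) F6857
theorem F7154 : act 5 n4791 = n4791 := d13_3 (iv7 D4791) F7136 D4791
theorem F7155 : act 6 n4742 = n4742 := d3_2 F7135 (iv2 F6849) F6849
theorem F7156 : act 6 n4504 = n4504 := d7_2 F7133 F6529 (iv3 F6529)
theorem F7157 : act 7 n4812 = n4812 := d14_4 (iv7 F6526) F7156 F6526 D4812 (iv6 D4812)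
theorem F7158 : act 1 n4818 = n4812 := d15_1 D4818 F7157 F6902
theorem F7159 : act 7 n4810 = n4810 := d4_2 F7130 (iv2 F6899) F6899
theorem F7160 : act 7 n4819 = n4819 := d8_2 F7130 (iv3 F6962) F6962
theorem F7162 : act 1 n4844 = n4810 := d15_1 (iv0 F6975) F7159 F6899
theorem F7163 : act 7 n4771 = n4771 := d4_2 F7129 (iv2 F6879) F6879
theorem F7164 : act 7 n4827 = n4827 := d13_2 F7129 D4827 (iv5 D4827)
theorem F7165 : act 1 n4771 = n4825 := d15_0 (iv0 D4825) F7129 (iv2 F6879)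
theorem F7166 : act 1 n4826 = n4771 := d15_1 D4826 F7163 F6879
theorem F7167 : act 1 n4812 = n4817 := d15_0 (iv0 D4817) F7128 (iv2 F6902)
theorem E981 : n3820 = n3552 := (c17_2 F6429 D3820 (iv1 D3552) (iv5 D1565) F1593 D938 D1783 F7124 F6541 (iv4 F1656))
theorem E982 : n3841 = n1671 := ((F6943).symm.trans (sb E981 F5814))
theorem E983 : n3821 = n1668 := (((iv5 F6942)).symm.trans (sb E981 (iv5 D3820)))
theorem F7168 : act 7 n3552 = n1676 := (sb E981 F5815)
theorem F7169 : act 2 n1671 = n3552 := (sb E982 (iv2 F6943))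
theorem E984 : n1672 = n889 := ((((iv5 D1671)).symm.trans (sb E982 (iv5 D3841)))).symm
theorem E985 : n4031 = n1747 := (((F6424).symm.trans (sb E983 F6431))).symm
theorem F7170 : act 5 n1668 = n3552 := (sb E983 F6942)
theorem F7171 : act 6 n1668 = n1668 := (sb E983 (iv6 D3821))
theorem E988 : n3826 = n1669 := (((D1669).symm.trans (sb E984 (iv3 F5818)))).symm
theorem E989 : n3832 = n1670 := (((D1670).symm.trans (sb E984 (iv4 F5826)))).symm
theorem F7172 : act 6 n889 = n889 := (sb E984 (iv6 D1672))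
theorem E991 : n1750 = n928 := ((((iv3 D1747)).symm.trans (sb E985 F5966))).symm
theorem F7173 : act 6 n1747 = n1747 := (sb E985 (iv6 D4031))
theorem F7174 : act 6 n1669 = n1669 := (sb E988 (iv6 D3826))
theorem F7175 : act 6 n1670 = n1670 := (sb E989 (iv6 D3832))
theorem E994 : n4026 = n1746 := (((D1746).symm.trans (sb E991 (iv2 F5961)))).symm
theorem E995 : n4037 = n1748 := (((D1748).symm.trans (sb E991 (iv4 F5975)))).symm
theorem E996 : n4046 = n1749 := (((D1749).symm.trans (sb E991 D4046))).symm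
theorem F7176 : act 6 n928 = n928 := (sb E991 (iv6 D1750))
theorem F7177 : act 6 n1746 = n1746 := (sb E994 (iv6 D4026))
theorem F7178 : act 6 n1748 = n1748 := (sb E995 (iv6 D4037))
theorem E998 : n4039 = n3984 := ((D4039).symm.trans (sb E996 F7012))
theorem E999 : n4040 = n1788 := ((D4040).symm.trans (sb E996 F7013))
theorem E1000 : n4186 = n1754 := (((iv1 F6087)).symm.trans (sb E998 (iv1 F5982)))
theorem F7179 : act 1 n3984 = n1749 := (sb E998 (iv0 D4039))
theorem F7180 : act 0 n1788 = n1749 := (sb E999 (iv1 D4040))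
theorem F7181 : act 0 n1754 = n1788 := (sb E1000 (iv1 D4186))
theorem F7182 : act 1 n1754 = n3984 := (sb E1000 F6087)
theorem F7183 : act 1 n3740 = n3959 := d17_6 (iv1 F3010) D1754 F7181 F3042 D1798 (iv5 F5742) (iv5 D3959) F5912 F5909
theorem F7184 : act 1 n3955 = n3740 := d15_0 F7183 (iv7 F6854) F6853
theorem F7185 : act 4 n4030 = n4173 := d20_6 F1187 F1183 D940 D1788 F7180 (iv3 F5965) (iv1 D4173) (iv4 D1784) F1756 (iv1 F1188)
theorem F7186 : act 6 n2617 = n2617 := d3_2 F7178 (iv2 F6413) F6413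
theorem F7187 : act 6 n4035 = n4035 := d7_2 F7178 D4035 (iv3 D4035)
theorem F7188 : act 6 n3818 = n3818 := d10_2 F7187 (iv4 F6430) F6430
theorem F7189 : act 7 n3848 = n3848 := d14_4 (iv7 F5811) F7188 F5811 D3848 (iv6 D3848)
theorem E1001 : n3856 = n1677 := (c8_3 F7189 F5836 D3856 (iv3 F5836))
theorem F7190 : act 7 n1677 = n1677 := (sb E1001 (iv7 D3856))
theorem F7191 : act 7 n3843 = n3843 := d4_2 F7190 (iv2 F5833) F5833
theorem F7192 : act 7 n3850 = n3850 := d11_2 F7190 (iv4 F5837) F5837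
theorem F7193 : act 7 n3855 = n3855 := d13_2 F7190 D3855 (iv5 D3855)
theorem F7194 : act 1 n3843 = n3853 := d15_0 (iv0 D3853) F7190 (iv2 F5833)
theorem F7195 : act 7 n4048 = n4048 := d8_2 F7192 (iv3 F6422) F6422
theorem E1002 : n4062 = n1755 := (c4_3 F7195 F5983 D4062 (iv2 F5983))
theorem F7196 : act 7 n1755 = n1755 := (sb E1002 (iv7 D4062))
theorem F7197 : act 1 n4060 = n4048 := d15_1 D4060 F7195 F5983
theorem F7198 : act 7 n4054 = n4054 := d8_2 F7196 (iv3 F5990) F5990
theorem F7199 : act 7 n4056 = n4056 := d11_2 F7196 (iv4 F5991) F5991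
theorem F7200 : act 7 n4061 = n4061 := d13_2 F7196 D4061 (iv5 D4061)
theorem F7201 : act 1 n4048 = n4059 := d15_0 (iv0 D4059) F7196 (iv2 F5983)
theorem F7202 : act 6 n4023 = n4023 := d14_3 F7198 (iv6 D4054) (iv7 F5956) F5956 D4054
theorem F7203 : act 6 n3830 = n3830 := d3_2 F7202 F6410 (iv2 F6410)
theorem F7204 : act 6 n4637 = n4637 := d10_2 F7202 (iv4 F6688) F6688
theorem F7205 : act 6 n4586 = n4586 := d3_2 F7204 (iv2 F6691) F6691
theorem F7206 : act 6 n2618 = n2618 := d7_2 F7204 F6689 (iv3 F6689)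
theorem E1003 : n2620 = n1225 := (c10_3 F7206 (iv4 D2618) D2620 D2618)
theorem F7207 : act 6 n1225 = n1225 := (sb E1003 (iv6 D2620))
theorem F7208 : act 6 n2616 = n2616 := d3_2 F7207 D2616 (iv2 D2616)
theorem F7209 : act 7 n2625 = n2625 := d14_4 F4214 F7208 (iv7 F4214) D2625 (iv6 D2625)
theorem F7210 : act 6 n3721 = n3721 := d7_2 F7205 F6659 (iv3 F6659)
theorem F7211 : act 6 n3939 = n3939 := d3_2 F7210 F6448 (iv2 F6448)
theorem F7212 : act 6 n3824 = n3824 := d10_2 F7211 F6451 (iv4 F6451)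
theorem F7213 : act 1 n3854 = n3843 := d15_1 D3854 F7191 F5833
theorem F7214 : act 5 n4042 = n4042 := d12_3 F7176 D1749 D4042 (iv6 D4042) (iv5 D1749)
theorem F7215 : act 5 n3837 = n3837 := d12_3 F7172 D1671 D3837 (iv6 D3837) (iv5 D1671)
theorem F7216 : act 0 n3547 = n3556 := d21_4 D3814 (iv1 F5805) F7110 D3547 (iv6 D3556) (iv5 F5577) F6938 (iv5 D1671) F7172 D1667
theorem E1004 : n3838 = n3551 := (c15_4 (iv0 D3551) D3552 F7168 (iv2 F5830))
theorem F7217 : act 2 n3551 = n1676 := (sb E1004 F5830)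
theorem F7218 : act 5 n3551 = n1673 := (sb E1004 F5831)
theorem F7219 : act 7 n3551 = n1671 := (sb E1004 (iv7 D3838))
theorem F7220 : act 5 n4765 = n4765 := d12_3 F7118 D1971 D4765 (iv6 D4765) (iv5 D1971)
theorem F7221 : act 7 n4182 = n2032 := d15_2 (iv0 F7113) F6078 F6988
theorem F7222 : act 2 n2033 = n4182 := d4_3 F7221 F6988 (iv7 F6990)
theorem F7223 : act 6 n4132 = n4182 := d14_5 F7221 F6989 (iv7 D1774) D1773 D4132
theorem F7224 : act 4 n4140 = n3881 := d18_1 F7111 (iv1 D3881) (iv4 D1683) (iv5 D892) F853 D644 D1007 (iv0 F3288) D4755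
theorem F7225 : act 5 n3543 = n3875 := d2_2 F7110 (iv2 F5569) F5845
theorem F7226 : act 5 n3544 = n3876 := d6_2 F7110 D3544 (iv3 D3876)
theorem F7227 : act 5 n3538 = n3870 := d13_3 (iv7 F5844) F7110 F5568
theorem F7228 : act 4 n4121 = n3880 := d18_5 (iv1 D1563) F1593 D935 D1771 D4121 (iv0 D3880) (iv4 D1683) D1682 F7110
theorem E1005 : n3873 = n1562 := (c2_3 F7227 (iv2 D3870) D3873 D3538)
theorem E1006 : n3541 = n1681 := ((D3541).symm.trans (sb E1005 (iv5 D3873)))
theorem F7229 : act 5 n1681 = n1562 := (sb E1006 (iv5 D3541))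
theorem F7230 : act 5 n3539 = n3871 := d6_2 F7229 D3539 (iv3 D3871)
theorem F7231 : act 0 n3815 = n3547 := d21_4 (iv5 F7229) (iv1 F5806) (iv5 D3814) D3815 (iv6 D3547) (iv5 F7110) (iv1 D1682) (iv5 D892) (iv6 F1594) D1562
theorem F7232 : act 7 n4876 = n4084 := d11_2 F7103 D4876 (iv4 F6980)
theorem F7233 : act 2 n4876 = n4083 := d15_3 (iv0 D4083) D4084 (iv7 F7232)
theorem F7234 : act 4 n4083 = n4875 := d1_2 D4876 F7233 (iv2 D4875)
theorem F7235 : act 5 n4875 = n4113 := d18_4 (iv1 D1760) D1761 D4083 F7234 (iv4 F6281) (iv0 D3623) F2774 D1724 (iv5 F7023)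
theorem F7236 : act 0 n4757 = n4121 := d17_2 (iv1 F3290) D4757 (iv5 D4121) (iv4 D1771) F7097 (iv0 D1013) (iv5 D646) D644 D1007
theorem E1007 : n4845 = n4129 := ((c21_5 D646 D1013 (iv5 F7097) D1773 D4129 (iv6 D4845) D4844 F6975 (iv5 D1996) (iv6 D1009) (iv1 D644))).symm
theorem F7237 : act 6 n4129 = n1995 := (sb E1007 (iv6 D4845))
def n4881 : Q := act 1 n2014
theorem D4881 : act 1 n2014 = n4881 := rfl
theorem F7238 : act 1 n4881 = n2019 := d15_1 D4881 F7096 F7092
def n4882 : Q := act 3 n2014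
theorem D4882 : act 3 n2014 = n4882 := rfl
def n4883 : Q := act 5 n2014
theorem D4883 : act 5 n2014 = n4883 := rfl
def n4884 : Q := act 6 n2014
theorem D4884 : act 6 n2014 = n4884 := rfl
theorem F7239 : act 4 n4884 = n2016 := d10_1 D4884 (iv6 D2016) D2014
def n4885 : Q := act 0 n2016
theorem D4885 : act 0 n2016 = n4885 := rfl
def n4886 : Q := act 1 n2016
theorem D4886 : act 1 n2016 = n4886 := rfl
def n4887 : Q := act 5 n2016
theorem D4887 : act 5 n2016 = n4887 := rfl
theorem F7240 : act 6 n4887 = n4131 := d12_2 D2016 D4887 (iv5 D4131) (iv6 D1773) F7097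
def n4888 : Q := act 7 n2016
theorem D4888 : act 7 n2016 = n4888 := rfl

end Cfsg.Agent.Helper17.ONTC
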