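import Cfsg.Agent.Helper17.ONTC.Facts9

set_option autoImplicit false
set_option linter.all false

noncomputable section

namespace Cfsg.Agent.Helper17.ONTC

theorem F66409 : act 2 n42245 = n20097 := (sb E7672 F66402)
theorem F66411 : act 2 n42568 = n23068 := d1_3 F65255 F66407 D42568
theorem F66412 : act 1 n22231 = n42573 := d15_1 F66401 F66405 (iv2 F66411)
def n42574 : Q := act 5 n20097
theorem D42574 : act 5 n20097 = n42574 := rfl
def n42575 : Q := act 6 n20097
theorem D42575 : act 6 n20097 = n42575 := rfl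
def n42578 : Q := act 2 n20098
theorem D42578 : act 2 n20098 = n42578 := rfl
theorem F66414 : act 6 n42578 = n20144 := d3_2 (iv6 F31906) D42578 (iv2 D20144)
def n42579 : Q := act 5 n20098
theorem D42579 : act 5 n20098 = n42579 := rfl
theorem F66415 : act 3 n42579 = n20099 := d6_1 D42579 (iv5 D20099) D20098
def n42581 : Q := act 0 n20099
theorem D42581 : act 0 n20099 = n42581 := rfl
def n42582 : Q := act 1 n20099
theorem D42582 : act 1 n20099 = n42582 := rfl
def n42583 : Q := act 4 n20099
theorem D42583 : act 4 n20099 = n42583 := rfl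
def n42584 : Q := act 6 n20099
theorem D42584 : act 6 n20099 = n42584 := rfl
theorem F66418 : act 5 n42584 = n20150 := d12_1 D42584 (iv6 D20150) (iv5 D9505) (iv6 F14675) D20099
def n42585 : Q := act 7 n20099
theorem D42585 : act 7 n20099 = n42585 := rfl
theorem F66419 : act 5 n42585 = n20100 := d13_1 D42585 (iv7 D20100) D20099
def n42586 : Q := act 6 n20100
theorem D42586 : act 6 n20100 = n42586 := rfl
theorem F66420 : act 4 n42586 = n20101 := d10_1 D42586 (iv6 D20101) (iv4 F31907)
theorem F66421 : act 7 n42586 = n20152 := d14_2 D20100 D42586 (iv6 D20152) (iv7 D9506) (iv6 F14675)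
def n42588 : Q := act 6 n20103
theorem D42588 : act 6 n20103 = n42588 := rfl
theorem F66424 : act 2 n42588 = n41266 := d3_1 D42588 (iv6 D41266) F31916
def n42589 : Q := act 0 n20104
theorem D42589 : act 0 n20104 = n42589 := rfl
def n42591 : Q := act 7 n20104
theorem D42591 : act 7 n20104 = n42591 := rfl
theorem F66425 : act 3 n42591 = n20114 := d8_1 D42591 (iv7 D20114) (iv3 F31917)
def n42592 : Q := act 6 n20105
theorem D42592 : act 6 n20105 = n42592 := rfl
theorem F66426 : act 2 n42592 = n40509 := d3_1 D42592 (iv6 D40509) (iv2 F31918)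
theorem F66427 : act 3 n42592 = n20107 := d7_1 D42592 (iv6 D20107) (iv3 F31919)
def n42593 : Q := act 3 n20106
theorem D42593 : act 3 n20106 = n42593 := rfl
theorem F66428 : act 7 n42593 = n20629 := d8_2 (iv7 F31923) D42593 (iv3 D20629)
def n42594 : Q := act 6 n20106
theorem D42594 : act 6 n20106 = n42594 := rfl
theorem F66430 : act 4 n42594 = n20107 := d10_1 D42594 (iv6 D20107) D20106
def n42595 : Q := act 0 n20107
theorem D42595 : act 0 n20107 = n42595 := rfl
def n42596 : Q := act 1 n20107
theorem D42596 : act 1 n20107 = n42596 := rfl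
def n42598 : Q := act 3 n20108
theorem D42598 : act 3 n20108 = n42598 := rfl
def n42599 : Q := act 5 n20108
theorem D42599 : act 5 n20108 = n42599 := rfl
theorem F66432 : act 4 n42599 = n42175 := d9_1 D42599 F65107 F32709 (iv5 D19509) F14327 D9185 D19511 D41425 (iv4 F65103) F65102 F32703 (iv5 D10836) (iv4 F14563) D19864 (iv4 F31927)
theorem F66434 : act 0 n42599 = n20753 := d17_2 (iv1 F31926) D42599 (iv5 D20753) (iv4 D9847) (iv5 D4461) (iv0 F16785) (iv5 F6348) F16840 D9494
theorem F66435 : act 1 n42599 = n20449 := d17_6 F31145 (iv5 D9350) D9349 D19864 (iv4 F31927) D42599 (iv5 D20449) D20447 F32495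
def n42600 : Q := act 6 n20108
theorem D42600 : act 6 n20108 = n42600 := rfl
theorem F66436 : act 4 n42600 = n42115 := d10_1 D42600 (iv6 D42115) (iv4 F31927)
def n42601 : Q := act 0 n20109
theorem D42601 : act 0 n20109 = n42601 := rfl
def n42602 : Q := act 1 n20109
theorem D42602 : act 1 n20109 = n42602 := rfl
def n42603 : Q := act 2 n20109
theorem D42603 : act 2 n20109 = n42603 := rfl
def n42604 : Q := act 5 n20109
theorem D42604 : act 5 n20109 = n42604 := rfl
theorem F66437 : act 3 n42604 = n20110 := d6_1 D42604 (iv5 D20110) D20109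
def n42606 : Q := act 6 n20110
theorem D42606 : act 6 n20110 = n42606 := rfl
def n42607 : Q := act 0 n20111
theorem D42607 : act 0 n20111 = n42607 := rfl
def n42608 : Q := act 1 n20111
theorem D42608 : act 1 n20111 = n42608 := rfl
def n42609 : Q := act 5 n20111
theorem D42609 : act 5 n20111 = n42609 := rfl
def n42610 : Q := act 7 n20111
theorem D42610 : act 7 n20111 = n42610 := rfl
theorem F66439 : act 4 n42610 = n20114 := d11_1 D42610 (iv7 D20114) (iv4 F31928)
def n42611 : Q := act 3 n20112
theorem D42611 : act 3 n20112 = n42611 := rfl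
def n42612 : Q := act 4 n20112
theorem D42612 : act 4 n20112 = n42612 := rfl
def n42613 : Q := act 5 n20112
theorem D42613 : act 5 n20112 = n42613 := rfl
theorem F66440 : act 6 n42613 = n20970 := d12_2 (iv6 F32597) D42613 F33150 (iv6 D20515) D20514
def n42614 : Q := act 3 n20113
theorem D42614 : act 3 n20113 = n42614 := rfl
def n42615 : Q := act 4 n20113
theorem D42615 : act 4 n20113 = n42615 := rfl
def n42616 : Q := act 5 n20113
theorem D42616 : act 5 n20113 = n42616 := rfl
theorem F66443 : act 6 n21020 = n42616 := d21_5 (iv5 D4527) (iv1 F3187) D4554 D10001 D21020 (iv5 D42616) (iv1 D20113) (iv5 F16876) (iv6 D9988) F16868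
def n42617 : Q := act 6 n20113
theorem D42617 : act 6 n20113 = n42617 := rfl
def n42618 : Q := act 6 n20115
theorem D42618 : act 6 n20115 = n42618 := rfl
theorem F66445 : act 4 n42618 = n41443 := d10_1 D42618 (iv6 D41443) (iv4 F31932)
def n42619 : Q := act 6 n20116
theorem D42619 : act 6 n20116 = n42619 := rfl
theorem F66447 : act 2 n42619 = n41398 := d3_1 D42619 (iv6 D41398) (iv2 F31933)
theorem F66448 : act 5 n42619 = n42619 := d12_1 D42619 (iv6 D42619) (iv5 D20116) F14753 D20116
def n42620 : Q := act 6 n20117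
theorem D42620 : act 6 n20117 = n42620 := rfl
theorem F66449 : act 2 n42620 = n38862 := d3_1 D42620 (iv6 D38862) F31938
theorem F66450 : act 3 n42620 = n42588 := d7_1 D42620 (iv6 D42588) (iv3 F31939)
def n42621 : Q := act 3 n20118
theorem D42621 : act 3 n20118 = n42621 := rfl
theorem F66451 : act 4 n42621 = n20122 := d5_2 D20118 D42621 (iv3 D20122) (iv4 D9494) (iv3 F14754)
theorem F66452 : act 7 n42621 = n41444 := d8_2 (iv7 F31942) D42621 (iv3 D41444)
def n42622 : Q := act 5 n20118
theorem D42622 : act 5 n20118 = n42622 := rfl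
theorem F66453 : act 2 n42622 = n41417 := d2_1 D42622 F63864 (iv2 F31941)
theorem F66455 : act 0 n42622 = n41362 := d17_2 (iv1 F31944) D42622 (iv5 D41362) (iv4 D19477) (iv5 D9150) (iv0 F17461) D9649 F17508 D10835
theorem F66456 : act 1 n42622 = n41419 := d17_6 F32426 F31644 (iv1 D9489) D9492 D20118 D42622 F63866 F63765 F63763
def n42623 : Q := act 6 n20118
theorem D42623 : act 6 n20118 = n42623 := rfl
theorem F66457 : act 2 n42623 = n41443 := d3_1 D42623 (iv6 D41443) (iv2 F31941)
theorem F66458 : act 4 n42623 = n20119 := d10_1 D42623 (iv6 D20119) D20118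
def n42624 : Q := act 0 n20119
theorem D42624 : act 0 n20119 = n42624 := rfl
def n42625 : Q := act 1 n20119
theorem D42625 : act 1 n20119 = n42625 := rfl
def n42627 : Q := act 3 n20120
theorem D42627 : act 3 n20120 = n42627 := rfl
theorem F66461 : act 4 n42627 = n40503 := d5_2 D20120 D42627 (iv3 D40503) (iv4 D19139) (iv3 F16903)
theorem F66462 : act 7 n42627 = n20632 := d8_2 (iv7 F31948) D42627 (iv3 D20632)
def n42628 : Q := act 6 n20120
theorem D42628 : act 6 n20120 = n42628 := rfl
theorem F66463 : act 2 n42628 = n20631 := d3_1 D42628 (iv6 D20631) (iv2 F31947)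
theorem F66464 : act 4 n42628 = n20121 := d10_1 D42628 (iv6 D20121) D20120
def n42629 : Q := act 0 n20121
theorem D42629 : act 0 n20121 = n42629 := rfl
theorem F66465 : act 6 n42629 = n41850 := d21_5 F31706 (iv1 F14695) D9493 D20121 D42629 (iv5 D41850) F63702 D19862 F31701 D19865
theorem F66466 : act 3 n41856 = n42629 := d7_3 F66465 F64521 D41856
def n42630 : Q := act 1 n20121
theorem D42630 : act 1 n20121 = n42630 := rfl
def n42631 : Q := act 7 n20121
theorem D42631 : act 7 n20121 = n42631 := rfl
theorem F66467 : act 3 n42631 = n40508 := d8_1 D42631 (iv7 D40508) (iv3 F31951)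
def n42632 : Q := act 0 n20122
theorem D42632 : act 0 n20122 = n42632 := rfl
def n42633 : Q := act 1 n20122
theorem D42633 : act 1 n20122 = n42633 := rfl
def n42634 : Q := act 2 n20122
theorem D42634 : act 2 n20122 = n42634 := rfl
def n42635 : Q := act 5 n20122
theorem D42635 : act 5 n20122 = n42635 := rfl
theorem F66469 : act 3 n42635 = n20123 := d6_1 D42635 (iv5 D20123) D20122
def n42636 : Q := act 6 n20122
theorem D42636 : act 6 n20122 = n42636 := rfl
def n42637 : Q := act 6 n20123
theorem D42637 : act 6 n20123 = n42637 := rfl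
def n42639 : Q := act 1 n20124
theorem D42639 : act 1 n20124 = n42639 := rfl
def n42641 : Q := act 7 n20124
theorem D42641 : act 7 n20124 = n42641 := rfl
theorem F66471 : act 4 n42641 = n20127 := d11_1 D42641 (iv7 D20127) (iv4 F31953)
def n42642 : Q := act 4 n20125
theorem D42642 : act 4 n20125 = n42642 := rfl
theorem F66472 : act 6 n42642 = n41934 := d10_2 (iv6 F35786) D42642 (iv4 D41934)
theorem F66473 : act 0 n42628 = n42642 := d20_7 (iv4 F32207) (iv1 F32210) (iv4 F32202) D20380 F63354 (iv3 F31951) (iv4 F66464) (iv4 D42642) F35785 (iv1 F14964)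
def n42643 : Q := act 5 n20125
theorem D42643 : act 5 n20125 = n42643 := rfl
theorem F66474 : act 3 n42643 = n20298 := d6_1 D42643 (iv5 D20298) (iv3 F35785)
theorem F66475 : act 6 n42643 = n20669 := d12_2 (iv6 F35786) D42643 F32776 (iv6 D19747) D19746
def n42644 : Q := act 4 n20126
theorem D42644 : act 4 n20126 = n42644 := rfl
def n42645 : Q := act 3 n20128
theorem D42645 : act 3 n20128 = n42645 := rfl
theorem F66477 : act 4 n42645 = n20130 := d5_2 D20128 D42645 (iv3 D20130) (iv4 D9500) D9499
theorem F66478 : act 7 n42645 = n41405 := d8_2 (iv7 F31957) D42645 (iv3 D41405)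
def n42646 : Q := act 6 n20128
theorem D42646 : act 6 n20128 = n42646 := rfl
theorem F66479 : act 2 n42646 = n41410 := d3_1 D42646 (iv6 D41410) (iv2 F31956)
theorem F66480 : act 4 n42646 = n20129 := d10_1 D42646 (iv6 D20129) D20128
theorem F66481 : act 0 n41815 = n42646 := d20_1 D41815 F66480 F31960 (iv1 F35717) (iv3 D11008) D11009 (iv1 F17952) (iv4 D11078) (iv3 F17368) F31440
theorem E7673 : n22382 = n21869 := ((c18_2 (iv1 F16601) D21869 (iv1 D22382) F17195 (iv5 F31961) (iv4 F66480) (iv0 F66481) (iv4 D41815) (iv0 F31440) (iv5 D10817))).symm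
theorem F66482 : act 0 n21869 = n10650 := (sb E7673 (iv1 D22382))
theorem E7674 : n20507 = n2057 := (c20_6 D21869 F66482 F17195 F15195 D9734 D20507 (iv4 F15274) (iv1 F3022) (iv4 F3368) (iv3 F7351) (iv1 F16601))
theorem E7675 : n9734 = n5006 := (((D5006).symm.trans (sb E7674 (iv3 D20507)))).symm
theorem E7677 : n10991 = n9424 := ((D10991).symm.trans (sb E7675 (iv1 F15204)))
theorem E7678 : n10992 = n4400 := ((D10992).symm.trans (sb E7675 (iv0 D9734)))
theorem E7679 : n10993 = n9421 := ((D10993).symm.trans (sb E7675 (iv2 F65328)))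
theorem E7681 : n20509 = n10995 := (((D10995).symm.trans (sb E7675 D20509))).symm
theorem E7682 : n20510 = n10996 := (((D10996).symm.trans (sb E7675 D20510))).symm
theorem E7683 : n9422 = n5011 := (((F15273).symm.trans (sb E7675 F65327))).symm
theorem E7690 : n11002 = n9735 := ((((iv1 F15201)).symm.trans (sb E7677 (iv1 F17861)))).symm
theorem F66483 : act 1 n9424 = n5006 := (sb E7677 (iv0 D10991))
theorem E7692 : n23435 = n19951 := ((((iv3 F31788)).symm.trans (sb E7677 D23435))).symm
theorem E7693 : n23436 = n19962 := ((((iv4 F31799)).symm.trans (sb E7677 D23436))).symm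
theorem F66484 : act 0 n4400 = n5006 := (sb E7678 (iv1 D10992))
theorem E7701 : n11001 = n9736 := ((((iv1 F15206)).symm.trans (sb E7679 (iv1 F17862)))).symm
theorem E7702 : n11000 = n4273 := ((((iv0 D9421)).symm.trans (sb E7679 F17858))).symm
theorem F66485 : act 2 n9421 = n5006 := (sb E7679 (iv2 D10993))
theorem E7703 : n19964 = n9421 := ((D19964).symm.trans (sb E7679 (tr F17846 E7679)))
theorem E7704 : n23444 = n19965 := (((D19965).symm.trans (sb E7679 D23444))).symm
theorem E7705 : n23445 = n19966 := (((D19966).symm.trans (sb E7679 D23445))).symm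
theorem E7706 : n23446 = n19967 := (((D19967).symm.trans (sb E7679 D23446))).symm
theorem E7708 : n23451 = n20065 := ((D23451).symm.trans (sb E7681 F32945))
theorem E7709 : n19971 = n11004 := ((((iv7 F17867)).symm.trans (sb E7681 F65334))).symm
theorem E7710 : n23455 = n19939 := ((D23455).symm.trans (sb E7682 (iv1 F35758)))
theorem E7711 : n23456 = n20085 := ((D23456).symm.trans (sb E7682 (iv0 F32936)))
theorem E7712 : n19888 = n19752 := ((((iv5 F31522)).symm.trans (sb E7682 F32594))).symm
theorem E7713 : n20082 = n19446 := ((((iv7 F31104)).symm.trans (sb E7682 F65336))).symm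
theorem E7714 : n19972 = n11005 := (((D11005).symm.trans (sb E7683 D19972))).symm
theorem F66486 : act 2 n9735 = n5011 := (sb E7690 (iv2 D11002))
theorem E7715 : n20512 = n9735 := ((D20512).symm.trans (sb E7690 (tr F17859 E7690)))
theorem E7716 : n23472 = n20513 := (((D20513).symm.trans (sb E7690 D23472))).symm
theorem E7717 : n23473 = n20514 := (((D20514).symm.trans (sb E7690 D23473))).symm
theorem E7719 : n23615 = n23176 := ((((iv4 F36280)).symm.trans (sb E7692 F36743))).symm
theorem E7720 : n22924 = n20503 := ((((iv1 F32585)).symm.trans (sb E7693 F36542))).symm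
theorem F66487 : act 0 n9736 = n5011 := (sb E7701 (iv1 D11001))
theorem E7722 : n23468 = n20496 := ((((iv3 F32570)).symm.trans (sb E7701 D23468))).symm
theorem F66488 : act 1 n4273 = n5011 := (sb E7702 (iv0 D11000))
theorem E7727 : n23463 = n9416 := ((((iv3 F14648)).symm.trans (sb E7702 D23463))).symm
theorem F66489 : act 3 n9421 = n9421 := (sb E7703 (iv3 D19964))
theorem E7736 : n42313 = n19967 := (((D19967).symm.trans (sb E7703 D42313))).symm
theorem E7737 : n42314 = n23476 := ((D42314).symm.trans (sb E7704 (iv1 F36588)))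
theorem E7738 : n42315 = n23475 := ((D42315).symm.trans (sb E7704 F36585))
theorem F66490 : act 2 n19965 = n10994 := (sb E7704 F36544)
theorem E7739 : n23480 = n20846 := (((F32999).symm.trans (sb E7705 (iv1 F36594)))).symm
theorem E7740 : n42319 = n23479 := ((D42319).symm.trans (sb E7705 F36593))
theorem F66491 : act 2 n19966 = n10995 := (sb E7705 F36545)
theorem E7741 : n41318 = n9457 := (((F35760).symm.trans (sb E7706 (iv1 F63659)))).symm
theorem E7742 : n41317 = n20828 := ((((iv0 F32985)).symm.trans (sb E7706 F63655))).symm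
theorem F66492 : act 2 n19967 = n10996 := (sb E7706 F36547)
theorem E7743 : n41945 = n20443 := (((F32479).symm.trans (sb E7706 (iv5 F64701)))).symm
theorem E7744 : n42144 = n41319 := ((F65340).symm.trans (sb E7706 (iv7 F63657)))
theorem F66493 : act 1 n20065 = n10995 := (sb E7708 (iv0 D23451))
theorem E7749 : n20626 = n20270 := ((((iv6 F32144)).symm.trans (sb E7709 (iv6 F32735)))).symm
theorem F66494 : act 1 n19939 = n10996 := (sb E7710 (iv0 D23455))
theorem F66495 : act 0 n20085 = n10996 := (sb E7711 (iv1 D23456))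
theorem E7750 : n41943 = n9358 := ((D41943).symm.trans (sb E7712 (iv1 D19888)))
theorem E7751 : n41944 = n20445 := ((D41944).symm.trans (sb E7712 F32486))
theorem E7753 : n42148 = n41946 := (((D41946).symm.trans (sb E7712 D42148))).symm
theorem E7758 : n20678 = n20576 := (((iv6 F32801)).symm.trans (sb E7713 F32670))
theorem E7759 : n23482 = n20578 := ((D23482).symm.trans (sb E7714 (iv1 F35890)))
theorem E7760 : n23483 = n20460 := ((D23483).symm.trans (sb E7714 F63654))
theorem F66496 : act 3 n9735 = n9735 := (sb E7715 (iv3 D20512))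
theorem F66497 : act 0 n20513 = n23448 := (sb E7716 (iv1 F36576))
theorem F66498 : act 1 n20513 = n23447 := (sb E7716 F36577)
theorem F66499 : act 2 n20513 = n11003 := (sb E7716 F36574)
theorem F66500 : act 0 n20514 = n23452 := (sb E7717 (iv1 F36581))
theorem F66501 : act 2 n20514 = n11004 := (sb E7717 F36578)
theorem E7762 : n23002 = n11067 := (((iv1 F36283)).symm.trans (sb E7719 (iv1 D23615)))
theorem E7763 : n23527 = n23001 := (((F36284).symm.trans (sb E7719 F36747))).symm
theorem F66505 : act 4 n20503 = n10824 := (sb E7720 (iv4 D22924))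
theorem E7764 : n22908 = n22384 := ((((iv4 F34936)).symm.trans (sb E7722 (iv4 F36573)))).symm
theorem E7765 : n23526 = n10911 := ((((iv4 F17727)).symm.trans (sb E7727 F36646))).symm
theorem F66507 : act 3 n19967 = n19967 := (sb E7736 F65353)
theorem F66508 : act 1 n23476 = n19965 := (sb E7737 (iv0 D42314))
theorem F66509 : act 0 n23475 = n19965 := (sb E7738 (iv1 D42315))
theorem F66510 : act 0 n20846 = n11004 := (sb E7739 (iv1 D23480))
theorem F66511 : act 0 n23479 = n19966 := (sb E7740 (iv1 D42319))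
theorem F66512 : act 6 n23479 = n42157 := (sb E7740 (iv6 F65359))
theorem F66513 : act 7 n23479 = n20065 := (sb E7740 F65358)
theorem F66514 : act 0 n9457 = n19446 := (sb E7741 (iv1 D41318))
theorem F66515 : act 1 n20828 = n19446 := (sb E7742 (iv0 D41317))
theorem E7766 : n41937 = n9706 := ((((iv1 D20443)).symm.trans (sb E7743 (iv1 F64705)))).symm
theorem E7767 : n41936 = n19890 := (((F32478).symm.trans (sb E7743 F64703))).symm
theorem F66516 : act 2 n20443 = n19752 := (sb E7743 (iv2 D41945))
theorem F66517 : act 3 n20443 = n20443 := (sb E7743 (tr F64700 E7743))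
theorem E7768 : n41938 = n19887 := (((F65342).symm.trans (sb E7743 F64702))).symm
theorem F66518 : act 0 n41319 = n20085 := (sb E7744 F65061)
theorem F66519 : act 1 n41319 = n19939 := (sb E7744 (iv0 F65062))
theorem F66520 : act 7 n41319 = n19967 := (sb E7744 (iv7 F65340))
theorem F66521 : act 0 n20270 = n20114 := (sb E7749 (iv1 F32739))
theorem F66522 : act 1 n20270 = n9777 := (sb E7749 (iv0 D20626))
theorem F66523 : act 2 n20270 = n20112 := (sb E7749 (iv2 F65345))
theorem E7769 : n20273 = n20113 := (((iv7 F32152)).symm.trans (sb E7749 (iv7 F65347)))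
theorem F66524 : act 1 n9358 = n19752 := (sb E7750 (iv0 D41943))
theorem F66525 : act 0 n20445 = n19752 := (sb E7751 (iv1 D41944))
theorem F66526 : act 0 n41946 = n20138 := (sb E7753 F65066)
theorem F66527 : act 3 n20576 = n9802 := (sb E7758 (iv3 D20678))
theorem E7770 : n21059 = n20971 := (((F35725).symm.trans (sb E7758 (iv5 F33241)))).symm
theorem F66528 : act 6 n20576 = n19446 := (sb E7758 F32801)
theorem F66529 : act 7 n20576 = n11005 := (sb E7758 F32802)
theorem F66530 : act 1 n20578 = n11005 := (sb E7759 (iv0 D23482))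
theorem F66531 : act 0 n20460 = n11005 := (sb E7760 (iv1 D23483))
theorem E7771 : n23614 = n10855 := ((D23614).symm.trans (sb E7762 (iv1 D23002)))
theorem F66535 : act 1 n11067 = n23176 := (sb E7762 F36283)
theorem F66536 : act 2 n23001 = n11034 := (sb E7763 (iv2 D23527))
theorem F66537 : act 4 n23001 = n11045 := (sb E7763 F36647)
theorem F66538 : act 7 n23001 = n23616 := (sb E7763 (iv7 F36745))
theorem F66539 : act 0 n22384 = n10825 := (sb E7764 (iv1 F35982))
theorem F66540 : act 1 n22384 = n10820 := (sb E7764 (iv0 D22908))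
theorem E7772 : n23173 = n11034 := ((D23173).symm.trans (sb E7765 (iv1 D23526)))
theorem E7773 : n23616 = n23174 := (((D23174).symm.trans (sb E7765 F36748))).symm
theorem F66541 : act 0 n9706 = n19749 := (sb E7766 (iv1 D41937))
theorem F66542 : act 1 n19890 = n19749 := (sb E7767 (iv0 D41936))
theorem F66543 : act 2 n19887 = n19749 := (sb E7768 (iv2 D41938))
theorem F66544 : act 5 n19887 = n41319 := (sb E7768 F64691)
theorem E7775 : n42614 = n9582 := ((D42614).symm.trans (sb E7769 (iv3 D20273)))
theorem F66545 : act 7 n20113 = n20270 := (sb E7769 F32152)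
theorem F66546 : act 3 n20971 = n10020 := (sb E7770 (iv3 D21059))
theorem E7776 : n21126 = n21013 := (((F63653).symm.trans (sb E7770 (iv6 F33345)))).symm
theorem F66548 : act 1 n10855 = n11067 := (sb E7771 (iv0 D23614))
theorem E7777 : n23404 = n17882 := ((((iv4 F29057)).symm.trans (sb E7771 (iv4 F36767)))).symm
theorem E7778 : n23525 = n23004 := ((D23525).symm.trans (sb E7772 (iv1 F36282)))
theorem F66549 : act 1 n11034 = n10911 := (sb E7772 (iv0 D23173))
theorem F66550 : act 2 n23174 = n11067 := (sb E7773 (iv2 D23616))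
theorem F66551 : act 4 n23174 = n11074 := (sb E7773 F36744)
theorem F66552 : act 7 n23174 = n23001 := (sb E7773 (iv7 F66538))
theorem F66554 : act 3 n9582 = n20113 := (sb E7775 (iv3 D42614))
theorem F66555 : act 3 n21013 = n10057 := (sb E7776 (iv3 D21126))
theorem F66556 : act 5 n21013 = n41940 := (sb E7776 (iv5 F64693))
theorem F66557 : act 7 n21013 = n21124 := (sb E7776 F33346)
theorem E7779 : n37184 = n10983 := ((D37184).symm.trans (sb E7777 (iv0 D23404)))
theorem E7780 : n23383 = n18141 := ((((iv3 F29311)).symm.trans (sb E7777 F36768))).symm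
theorem F66558 : act 1 n23004 = n11034 := (sb E7778 (iv0 D23525))
theorem F66559 : act 0 n10983 = n17882 := (sb E7779 (iv1 D37184))
theorem E7781 : n23405 = n19951 := ((D23405).symm.trans (sb E7779 F58138))
theorem E7782 : n37841 = n10978 := ((D37841).symm.trans (sb E7780 (iv1 D23383)))
theorem F66560 : act 0 n19951 = n10983 := (sb E7781 (iv1 D23405))
theorem E7783 : n23382 = n20496 := ((D23382).symm.trans (sb E7782 (iv1 F58687)))
theorem F66561 : act 1 n10978 = n18141 := (sb E7782 (iv0 D37841))
theorem F66562 : act 1 n20496 = n10978 := (sb E7783 (iv0 D23382))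
theorem F66563 : act 2 n23387 = n37842 := d15_3 F58680 F66562 D23387
theorem F66564 : act 4 n22903 = n23389 := d20_6 (iv4 F34936) F66539 (iv4 D10825) D10824 D22921 F36587 (iv1 D23389) (iv4 D10979) D10978 (iv1 F66562)
theorem F66565 : act 3 n37842 = n23406 := d0_2 (iv3 F36515) F66563 (iv2 D23406) (iv3 D10983) (iv2 F17842)
theorem F66566 : act 7 n37842 = n23384 := d4_2 D23387 F66563 (iv2 D23384)
theorem F66567 : act 7 n37183 = n23406 := d15_2 (iv0 F66560) F58144 (iv2 D23406)
theorem F66568 : act 2 n23378 = n37183 := d4_3 F66567 (iv2 D23406) (iv7 F36507)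
theorem F66569 : act 3 n23384 = n37183 := d8_3 F66567 (iv3 F66565) F66566
theorem E7784 : n23384 = n22803 := ((c20_3 (iv4 F7346) D10773 D22803 F66569 (iv1 F58144) F31788 (iv4 F31799) (iv1 F32585) F66505 (iv3 D10824) (iv1 D4935))).symm
theorem F66570 : act 2 n22803 = n10978 := (sb E7784 (iv2 D23384))
theorem F66571 : act 3 n22803 = n37183 := (sb E7784 F66569)
theorem F66572 : act 7 n22803 = n37842 := (sb E7784 (iv7 F66566))
theorem F66573 : act 4 n37842 = n22806 := d11_1 F66572 (iv7 D22806) D22803
theorem E7785 : n23387 = n22808 := ((c1_3 F66573 F35350 D22808 F66563)).symm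
theorem F66574 : act 2 n22808 = n37842 := (sb E7785 F66563)
theorem E7786 : n10982 = n10974 := (((F35351).symm.trans (sb E7785 F36515))).symm
theorem F66575 : act 7 n22808 = n10978 := (sb E7785 (iv7 D23387))
theorem E7787 : n23377 = n5000 := ((((iv1 D10974)).symm.trans (sb E7786 (iv1 F36506)))).symm
theorem E7790 : n23393 = n23369 := (((D23369).symm.trans (sb E7786 (iv4 F36519)))).symm
theorem E7791 : n23398 = n23370 := (((D23370).symm.trans (sb E7786 (iv5 F36523)))).symm
theorem E7792 : n23403 = n20666 := ((((iv6 F62537)).symm.trans (sb E7786 D23403))).symm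
theorem E7793 : n23363 = n5001 := ((F36491).symm.trans (sb E7786 (iv7 D10982)))
theorem E7794 : n10977 = n10973 := (((D10973).symm.trans (sb E7787 (iv1 D23377)))).symm
theorem F66577 : act 2 n23369 = n10984 := (sb E7790 F36518)
theorem F66578 : act 7 n23369 = n10979 := (sb E7790 (iv7 D23393))
theorem F66579 : act 2 n23370 = n10985 := (sb E7791 F36522)
theorem F66580 : act 7 n23370 = n10980 := (sb E7791 (iv7 D23398))
theorem F66581 : act 2 n20666 = n10986 := (sb E7792 F36529)
theorem F66582 : act 7 n5001 = n10974 := (sb E7793 (iv7 F36491))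
theorem F66583 : act 2 n10973 = n5001 := (sb E7794 (iv2 D10977))
theorem E7795 : n23378 = n23364 := (((D23364).symm.trans (sb E7794 D23378))).symm
theorem E7796 : n23379 = n23365 := (((D23365).symm.trans (sb E7794 D23379))).symm
theorem E7797 : n23380 = n23366 := (((D23366).symm.trans (sb E7794 D23380))).symm
theorem E7798 : n23381 = n20208 := ((((iv6 F66107)).symm.trans (sb E7794 D23381))).symm
theorem F66584 : act 7 n10973 = n5002 := (sb E7794 (iv7 F17841))
theorem F66585 : act 2 n23364 = n37183 := (sb E7795 F66568)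
theorem F66586 : act 7 n23364 = n10983 := (sb E7795 F36507)
theorem F66587 : act 2 n23365 = n10979 := (sb E7796 F36508)
theorem F66588 : act 7 n23365 = n10984 := (sb E7796 F36509)
theorem F66589 : act 2 n23366 = n10980 := (sb E7797 F36510)
theorem F66590 : act 7 n23366 = n10985 := (sb E7797 F36511)
theorem F66591 : act 2 n20208 = n10981 := (sb E7798 F36512)
theorem E7799 : n41918 = n23401 := ((c2_3 (iv5 F66106) F66591 D23401 F64668)).symm
theorem F66593 : act 7 n23401 = n19732 := (sb E7799 (iv7 D41918))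
theorem E7800 : n23402 = n20207 := ((c15_2 F66105 (iv0 F66103) (iv7 D23402) (iv2 F66591))).symm
theorem F66594 : act 7 n20207 = n10981 := (sb E7800 (iv7 D23402))
theorem E7801 : n41914 = n41894 := (c15_4 (iv0 D41894) (iv0 F36526) F66593 D41914)
theorem F66595 : act 2 n41894 = n19732 := (sb E7801 (iv2 D41914))
theorem F66596 : act 7 n41894 = n19733 := (sb E7801 (iv7 F64662))
theorem F66597 : act 2 n21084 = n21051 := d2_3 F62593 F66581 (iv5 F62568)
theorem E7802 : n23418 = n20667 := ((c15_2 (iv0 D20666) D20667 (iv7 D23418) (iv2 F66581))).symm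
theorem F66598 : act 7 n20667 = n10986 := (sb E7802 (iv7 D23418))
theorem F66599 : act 7 n21084 = n21052 := d13_2 F66598 (iv5 F62568) F62595
theorem F66600 : act 2 n21052 = n21083 := d15_3 (iv0 D21083) D21084 F66599
theorem F66601 : act 7 n21051 = n21083 := d4_2 (iv7 F66599) F66597 (iv2 F66600)
theorem F66602 : act 2 n40829 = n21114 := d3_3 (iv6 F62596) F66600 (iv6 F64667)
theorem F66606 : act 2 n23414 = n20259 := d3_3 F36494 F66579 D23414
theorem F66607 : act 7 n20260 = n23414 := d15_2 (iv0 D20259) D20260 F66606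
theorem E7803 : n22801 = n21858 := ((c11_2 F66575 F34322 (iv7 F35349) D22808)).symm
theorem F66608 : act 2 n21858 = n10773 := (sb E7803 (iv2 D22801))
theorem F66609 : act 7 n21858 = n10774 := (sb E7803 (iv7 F35349))
theorem E7804 : n22806 = n21859 := (c15_4 F34315 F34320 F66609 (iv2 F35350))
theorem F66610 : act 2 n21859 = n10774 := (sb E7804 F35350)
theorem F66611 : act 4 n21859 = n37842 := (sb E7804 (iv4 F66573))
theorem F66612 : act 7 n21859 = n10773 := (sb E7804 (iv7 D22806))
theorem E7805 : n23406 = n19949 := (c20_10 (iv4 F17727) (iv1 F66549) F17900 (iv3 D5034) F16091 (iv3 F7351) (iv4 F17293) (iv1 F34315) F66611 F66565 (iv1 D19949))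
theorem E7806 : n42265 = n10983 := (((iv2 F65279)).symm.trans (sb E7805 (iv2 D23406)))
theorem E7807 : n42266 = n37842 := ((D42266).symm.trans (sb E7805 (iv3 F66565)))
theorem E7808 : n42260 = n37183 := ((F65278).symm.trans (sb E7805 (iv7 F66567)))
theorem F66613 : act 2 n10983 = n19949 := (sb E7806 F65279)
theorem E7809 : n23364 = n19948 := (((iv7 F66586)).symm.trans (sb E7806 (iv7 D42265)))
theorem F66614 : act 3 n37842 = n19949 := (sb E7807 (iv3 D42266))
theorem F66615 : act 7 n37183 = n19949 := (sb E7808 (iv7 F65278))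
theorem F66616 : act 2 n19948 = n37183 := (sb E7809 F66585)
theorem E7810 : n42261 = n10973 := ((D42261).symm.trans (sb E7809 (iv3 D23364)))
theorem F66617 : act 7 n19948 = n10983 := (sb E7809 F66586)
theorem F66618 : act 3 n10973 = n19948 := (sb E7810 (iv3 D42261))
theorem E7811 : n42290 = n21863 := ((c20_6 (iv4 F66611) (iv1 D21859) F16600 F6818 D10429 D21863 (iv4 D42290) (iv1 F32592) F32588 (iv3 F32570) (iv1 F58680))).symm
theorem F66619 : act 4 n21863 = n19959 := (sb E7811 (iv4 D42290))
theorem F66620 : act 3 n42263 = n23366 := d6_3 (iv5 D23366) F66618 D42263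
theorem F66621 : act 3 n42264 = n20208 := d7_3 F66107 F66618 D42264
theorem F66622 : act 0 n23638 = n42262 := d20_1 D23638 (iv4 D42262) (iv3 F66618) (iv1 F17838) F7426 F3360 (iv1 F1907) D2068 D5047 D11072
theorem F66623 : act 5 n41919 = n42264 := d6_0 F66621 F66106 D41919
theorem F66624 : act 0 n41919 = n40688 := d21_7 (iv5 D8556) F5825 (iv5 F7255) D9416 D19948 D42264 (iv5 F66623) (iv5 D40688) (iv6 D19204) (iv1 F14105)
theorem F66625 : act 1 n41919 = n42108 := d15_1 (iv0 F66624) (iv7 D42108) (iv2 F61794)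
theorem F66626 : act 7 n23408 = n42263 := d8_0 F66620 F66590 (iv3 F36530)
theorem F66627 : act 7 n23407 = n42262 := d11_2 F66617 D23407 (iv4 D42262)
theorem F66628 : act 0 n23643 = n42267 := d20_1 D23643 (iv4 D42267) (iv3 F66614) (iv1 D37842) F29311 F29057 D23001 F66537 F17910 (iv1 F17941)
theorem F66629 : act 2 n42267 = n23407 := d1_3 (iv4 D23407) F66613 D42267
theorem F66630 : act 2 n42268 = n23408 := d2_3 (iv5 D23408) F66613 D42268
theorem F66631 : act 2 n42269 = n23409 := d3_3 (iv6 D23409) F66613 D42269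
theorem E7812 : n22909 = n22234 := (c20_2 D10825 (iv1 F35978) F34687 F29311 D37183 (iv3 F66571) (iv4 D22803) (iv1 F34323) F34318 F16606 (iv1 F16609))
theorem F66633 : act 0 n22234 = n10820 := (sb E7812 (iv1 D22909))
theorem F66634 : act 1 n22234 = n10825 := (sb E7812 F35978)
theorem F66635 : act 0 n22940 = n41410 := d18_2 (iv1 F34335) D22940 F63857 (iv5 D37843) (iv4 F34687) F66634 (iv4 D10825) F16609 (iv5 F34333)
theorem E7813 : n23642 = n22902 := ((c20_5 (iv4 F34687) F66633 (iv4 D10820) D10819 D22902 (iv3 D23642) D23643 F66628 (iv4 D42267) (iv3 F66614) (iv1 D37842))).symm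
theorem F66636 : act 3 n22902 = n11073 := (sb E7813 (iv3 D23642))
theorem F66637 : act 4 n22902 = n23388 := (sb E7813 (iv4 F36766))
theorem F66638 : act 0 n42481 = n23408 := d21_10 (iv5 D23408) F66559 D37185 F58140 F31676 (iv6 F65011) (iv5 D42100) F66016 D20053 D42481
theorem F66639 : act 6 n42589 = n23408 := d21_5 (iv5 D19850) F17524 D9472 D20104 D42589 (iv5 D23408) F66559 D37185 F58140 F31676
theorem F66640 : act 3 n23414 = n42589 := d7_3 F66639 F36530 D23414
theorem E7814 : n22808 = n20495 := ((c20_11 (iv4 D22808) (iv1 D10774) F7346 F3322 (iv1 F16092) D5034 (iv4 F17900) (iv1 F66558) (iv4 F58142) (iv3 F58685) (iv1 F58688))).symm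
theorem F66641 : act 2 n20495 = n37842 := (sb E7814 F66574)
theorem F66642 : act 3 n20495 = n10974 := (sb E7814 F35351)
theorem F66643 : act 4 n20495 = n10774 := (sb E7814 (iv4 D22808))
theorem F66644 : act 7 n20495 = n10978 := (sb E7814 F66575)
theorem E7815 : n22803 = n20494 := (c15_4 (iv0 D20494) D20495 F66644 (iv2 F66570))
theorem F66645 : act 2 n20494 = n10978 := (sb E7815 F66570)
theorem F66646 : act 3 n20494 = n37183 := (sb E7815 F66571)
theorem F66647 : act 4 n20494 = n10773 := (sb E7815 (iv4 D22803))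
theorem F66649 : act 2 n21124 = n21012 := d15_3 (iv0 D21012) D21013 F66557
theorem F66650 : act 3 n21012 = n21012 := d0_2 D21124 F66649 (iv2 F66649) (iv3 D21124) F15903
theorem F66651 : act 0 n41940 = n42243 := d21_1 F66556 F65245 (iv6 D20973) D20970 (iv6 F66440) (iv5 D42613) (iv1 F32741) (iv5 F33200) F33201 (iv1 F33203)
theorem F66653 : act 3 n20627 = n20627 := d0_2 F66554 (iv2 F65348) F65348 (iv3 F66554) F15288
theorem F66654 : act 3 n42616 = n20275 := d6_3 (iv5 D20275) F66554 D42616
theorem F66655 : act 3 n42617 = n20276 := d7_3 (iv6 D20276) F66554 D42617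
theorem F66656 : act 7 n23454 = n42617 := d8_0 F66655 F32162 (iv3 F36552)
theorem E7816 : n21124 = n21020 := (c7_4 F66443 F66654 (iv6 F32159) D21124)
theorem F66657 : act 2 n21020 = n21012 := (sb E7816 F66649)
theorem F66658 : act 3 n21020 = n10056 := (sb E7816 (iv3 D21124))
theorem F66659 : act 7 n21020 = n21013 := (sb E7816 (iv7 F66557))
theorem F66661 : act 2 n21013 = n21021 := d15_3 F33198 F33202 F66659
theorem F66662 : act 7 n21012 = n21021 := d4_2 (iv7 F66659) F66657 (iv2 F66661)
theorem F66663 : act 3 n21021 = n21021 := d8_1 F66662 (iv7 F66662) F66650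
theorem E7817 : n42611 = n20112 := (c8_4 (iv7 F65346) F66653 F65346 D42611)
theorem F66667 : act 3 n20112 = n20112 := (sb E7817 (iv3 D42611))
theorem F66668 : act 3 n42613 = n42613 := d6_3 (iv5 D42613) F66667 D42613
theorem F66669 : act 3 n20970 = n20970 := d7_3 (iv6 F66440) F66668 F66440
theorem F66670 : act 2 n41939 = n42143 := d1_3 (iv4 D42143) F66543 D41939
theorem F66671 : act 1 n42143 = n20138 := d15_0 (iv0 F66526) F64706 F66670
theorem F66672 : act 0 n23454 = n20597 := d21_7 (iv5 D19966) (iv1 F15206) (iv5 F31966) (iv6 F32484) F66525 D41947 F64708 F65075 (iv6 F66512) F66511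
theorem F66673 : act 0 n42107 = n42035 := d20_7 (iv4 F17959) (iv1 F31528) (iv4 D19753) D19752 (iv1 F66524) (iv3 F31686) D42107 (iv4 D42035) (iv3 D19823) (iv1 F14508)
theorem F66674 : act 0 n42541 = n23454 := d21_1 D42541 (iv5 F64708) (iv6 D41947) (iv1 F66524) F14578 (iv5 D4247) D4245 D9360 D19892 F31899
theorem F66675 : act 0 n22912 = n42518 := d20_1 (iv4 F35979) F66003 F31897 F66514 (iv3 D19446) (iv4 D9133) D9131 (iv4 F16021) (iv3 F33589) F65711
theorem F66676 : act 2 n23479 = n23452 := d15_3 (iv0 F66500) (iv0 F32596) (iv7 F66513)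
theorem F66677 : act 6 n23452 = n20644 := d3_2 (iv6 F66512) F66676 F65076
theorem F66678 : act 7 n23452 = n20846 := d4_2 (iv7 F66513) F66676 F35766
theorem F66679 : act 5 n20847 = n23452 := d13_3 F66678 (iv5 D20846) D20847
theorem F66681 : act 0 n23021 = n23549 := d20_7 F16021 (iv1 F14198) (iv4 F15278) (iv3 F17849) (iv1 F66494) (iv3 F65225) F65226 F36658 (iv3 D11052) (iv1 F16101)
theorem F66682 : act 2 n23450 = n42318 := d1_3 F65356 F66492 (iv4 F36551)
theorem F66683 : act 2 n23453 = n42320 := d1_3 (iv4 D42320) F66491 D23453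
theorem F66685 : act 2 n41296 = n42316 := d0_5 (iv3 D42316) F66490 F17847 (iv2 F31085) D41296
theorem F66686 : act 2 n23449 = n42317 := d2_3 (iv5 D42317) F66490 D23449
theorem F66687 : act 4 n42316 = n42316 := d1_2 F63616 F66685 (iv2 F66685)
def n42647 : Q := act 0 n20129
theorem D42647 : act 0 n20129 = n42647 := rfl
def n42648 : Q := act 1 n20129
theorem D42648 : act 1 n20129 = n42648 := rfl
theorem F66688 : act 5 n40402 = n42648 := d21_6 (iv5 D9694) F12189 (iv5 F13388) D18144 F35847 D40402 (iv1 D42648) F31961 (iv6 D9730) (iv1 F15122)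
theorem F66689 : act 3 n42648 = n23373 := d6_1 F66688 (iv5 F36496) (iv3 F61475)
theorem F66690 : act 7 n23420 = n42648 := d8_0 F66689 F63489 D23420
theorem F66691 : act 4 n42648 = n22943 := d20_6 (iv4 F17876) (iv1 F17889) F17886 (iv3 F17844) (iv1 F36495) (iv3 F66689) (iv1 D22943) (iv4 D10830) F7353 D5061
theorem F66692 : act 2 n23420 = n42647 := d15_3 (iv0 D42647) D42648 (iv7 F66690)
def n42649 : Q := act 7 n20129
theorem D42649 : act 7 n20129 = n42649 := rfl
theorem F66693 : act 3 n42649 = n20135 := d8_1 D42649 (iv7 D20135) (iv3 F31960)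
theorem F66694 : act 5 n42649 = n20496 := d13_1 D42649 (iv7 D20496) (iv5 F31961)
def n42650 : Q := act 0 n20130
theorem D42650 : act 0 n20130 = n42650 := rfl
def n42651 : Q := act 1 n20130
theorem D42651 : act 1 n20130 = n42651 := rfl
def n42652 : Q := act 2 n20130
theorem D42652 : act 2 n20130 = n42652 := rfl
def n42653 : Q := act 5 n20130
theorem D42653 : act 5 n20130 = n42653 := rfl
theorem F66695 : act 3 n42653 = n20131 := d6_1 D42653 (iv5 D20131) D20130
def n42654 : Q := act 6 n20130
theorem D42654 : act 6 n20130 = n42654 := rfl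
theorem F66696 : act 3 n42654 = n20132 := d7_1 D42654 (iv6 D20132) D20130
def n42655 : Q := act 6 n20131
theorem D42655 : act 6 n20131 = n42655 := rfl
def n42656 : Q := act 0 n20132
theorem D42656 : act 0 n20132 = n42656 := rfl
def n42657 : Q := act 1 n20132
theorem D42657 : act 1 n20132 = n42657 := rfl
theorem F66697 : act 1 n42657 = n42340 := d15_1 D42657 (iv7 D42340) (iv2 F31962)
theorem F66698 : act 4 n42657 = n22939 := d20_2 (iv4 F65378) (iv1 F66697) (iv3 D22939) (iv1 D10829) F7353 D5063 (iv1 F17872) (iv4 D11009) D11008 F35716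
def n42658 : Q := act 5 n20132
theorem D42658 : act 5 n20132 = n42658 := rfl
theorem F66699 : act 2 n42658 = n42339 := d2_1 D42658 (iv5 D42339) (iv2 F31962)
def n42659 : Q := act 7 n20132
theorem D42659 : act 7 n20132 = n42659 := rfl
theorem F66700 : act 2 n42659 = n42340 := d4_1 D42659 (iv7 D42340) (iv2 F31962)
theorem F66701 : act 4 n42659 = n20135 := d11_1 D42659 (iv7 D20135) (iv4 F31963)
theorem F66702 : act 1 n42340 = n42656 := d15_0 (iv0 D42656) D42659 F66700
theorem F66703 : act 1 n42337 = n42659 := d15_1 D42337 (iv7 D42659) F31962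
theorem F66704 : act 1 n42659 = n42336 := d15_0 (iv0 D42336) D42340 (iv2 F66700)
def n42660 : Q := act 4 n20134
theorem D42660 : act 4 n20134 = n42660 := rfl
theorem F66705 : act 2 n42660 = n23490 := d1_1 D42660 (iv4 D23490) F35720
theorem F66706 : act 7 n42660 = n42333 := d11_2 (iv7 F35719) D42660 (iv4 D42333)
theorem F66707 : act 1 n20141 = n42660 := d15_1 (iv0 F63434) F66706 F65367
theorem E7818 : n23637 = n9927 := (c18_4 (iv1 F15201) D20513 F66497 (iv4 F36764) (iv5 F32690) F32689 F66707 (iv4 D42660) F31964 F31804)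
theorem E7819 : n11072 = n4592 := (((F15635).symm.trans (sb E7818 (iv3 D23637)))).symm
theorem E7820 : n23448 = n9742 := (((F15636).symm.trans (sb E7818 F36764))).symm
theorem E7821 : n11045 = n10094 := (((D10094).symm.trans (sb E7819 (iv1 F17937)))).symm
theorem E7822 : n10095 = n5047 := ((D10095).symm.trans (sb E7819 (iv0 D11072)))
theorem E7824 : n23638 = n10093 := ((((iv4 F15951)).symm.trans (sb E7819 D23638))).symm
theorem E7828 : n20528 = n10994 := ((D20528).symm.trans (sb E7820 (iv1 D23448)))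
theorem E7829 : n20529 = n20513 := ((D20529).symm.trans (sb E7820 (iv0 F66497)))
theorem E7830 : n11073 = n10260 := ((((iv1 F16231)).symm.trans (sb E7821 (iv1 F17941)))).symm
theorem E7831 : n21183 = n5034 := ((D21183).symm.trans (sb E7821 (iv2 D11045)))
theorem E7832 : n21184 = n10094 := ((D21184).symm.trans (sb E7821 (tr F17910 E7821)))
theorem E7833 : n23001 = n21185 := (((D21185).symm.trans (sb E7821 (iv4 F66537)))).symm
theorem E7834 : n23574 = n21186 := (((D21186).symm.trans (sb E7821 D23574))).symm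
theorem E7835 : n23575 = n21187 := (((D21187).symm.trans (sb E7821 D23575))).symm
theorem E7836 : n21188 = n11074 := ((D21188).symm.trans (sb E7821 (iv7 F17939)))
theorem F66708 : act 0 n5047 = n4592 := (sb E7822 (iv1 D10095))
theorem E7839 : n21191 = n11075 := (((D11075).symm.trans (sb E7822 D21191))).symm
theorem E7840 : n21192 = n11076 := (((D11076).symm.trans (sb E7822 D21192))).symm
theorem E7841 : n42262 = n21179 := (((D21179).symm.trans (sb E7824 F66622))).symm
theorem E7842 : n23447 = n20011 := ((D23447).symm.trans (sb E7828 (iv1 F32631)))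
theorem F66709 : act 1 n10994 = n9742 := (sb E7828 (iv0 D20528))
theorem F66710 : act 0 n20513 = n9742 := (sb E7829 (iv1 D20529))
theorem F66711 : act 0 n10260 = n5047 := (sb E7830 (iv1 D11073))
theorem E7843 : n22902 = n21467 := ((((iv3 F33736)).symm.trans (sb E7830 (iv3 F66636)))).symm
theorem E7844 : n23643 = n21489 := ((((iv4 F33788)).symm.trans (sb E7830 D23643))).symm
theorem F66712 : act 2 n5034 = n10094 := (sb E7831 (iv2 D21183))
theorem F66713 : act 3 n10094 = n10094 := (sb E7832 (iv3 D21184))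
theorem F66714 : act 0 n21185 = n23176 := (sb E7833 (iv1 F36284))
theorem F66715 : act 1 n21185 = n10855 := (sb E7833 (iv0 D23001))
theorem F66716 : act 2 n21185 = n11034 := (sb E7833 F66536)
theorem F66717 : act 7 n21185 = n23174 := (sb E7833 (iv7 F66552))
theorem E7847 : n23649 = n21379 := (((F33569).symm.trans (sb E7834 (iv1 F36777)))).symm
theorem F66719 : act 2 n21186 = n11046 := (sb E7834 F36672)
theorem F66721 : act 7 n21186 = n23646 := (sb E7834 (iv7 F36771))
theorem E7848 : n23590 = n10873 := (((F63397).symm.trans (sb E7835 (iv1 F36694)))).symm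
theorem F66723 : act 3 n21187 = n21187 := (sb E7835 (tr F36675 E7835))
theorem F66724 : act 7 n21187 = n23591 := (sb E7835 (iv7 F36692))
theorem F66725 : act 7 n11074 = n10094 := (sb E7836 (iv7 D21188))
theorem E7851 : n40513 = n20356 := ((((iv6 F32297)).symm.trans (sb E7839 (iv6 F61641)))).symm
theorem E7852 : n23651 = n21742 := ((D23651).symm.trans (sb E7840 F36050))
theorem E7853 : n23652 = n21746 := ((D23652).symm.trans (sb E7840 F63322))
theorem F66726 : act 4 n21179 = n19948 := (sb E7841 (iv4 D42262))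
theorem F66727 : act 7 n21179 = n23407 := (sb E7841 (iv7 F66627))
theorem F66728 : act 0 n20011 = n20513 := (sb E7842 (iv1 F66498))
theorem F66729 : act 1 n20011 = n10994 := (sb E7842 (iv0 D23447))
theorem F66730 : act 1 n21467 = n10819 := (sb E7843 (iv0 D22902))
theorem E7854 : n40886 = n23388 := (((iv4 F61988)).symm.trans (sb E7843 F66637))
theorem E7855 : n42267 = n21180 := ((((iv1 F33791)).symm.trans (sb E7844 F66628))).symm
theorem F66731 : act 0 n21379 = n11075 := (sb E7847 (iv1 D23649))
theorem E7856 : n23063 = n11052 := ((D23063).symm.trans (sb E7848 (iv1 D23590)))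
theorem F66735 : act 0 n20356 = n40459 := (sb E7851 (iv1 F61646))
theorem F66737 : act 1 n21742 = n11076 := (sb E7852 (iv0 D23651))
theorem F66738 : act 0 n21746 = n11076 := (sb E7853 (iv1 D23652))
theorem F66739 : act 4 n23388 = n21467 := (sb E7854 F61988)
theorem F66740 : act 6 n23388 = n19381 := (sb E7854 F63158)
theorem F66741 : act 7 n23388 = n19271 := (sb E7854 (iv7 D40886))
theorem F66742 : act 2 n21180 = n23407 := (sb E7855 F66629)
theorem F66743 : act 4 n21180 = n19949 := (sb E7855 (iv4 D42267))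
theorem F66744 : act 0 n11052 = n21360 := (sb E7856 F63363)
theorem F66745 : act 1 n11052 = n10873 := (sb E7856 (iv0 D23063))
theorem E7859 : n21292 = n19823 := ((((iv5 F31609)).symm.trans (sb E7856 F36120))).symm
theorem E7860 : n23275 = n23217 := (((iv6 F36365)).symm.trans (sb E7856 F36319))
theorem F66746 : act 0 n19823 = n21634 := (sb E7859 (iv1 F34048))
theorem F66747 : act 1 n19823 = n10165 := (sb E7859 (iv0 D21292))
theorem F66748 : act 3 n23217 = n10942 := (sb E7860 (iv3 D23275))
theorem E7861 : n21806 = n21717 := (((F63361).symm.trans (sb E7860 F36364))).symm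
theorem F66751 : act 3 n21717 = n10409 := (sb E7861 (iv3 D21806))
theorem F66752 : act 7 n21717 = n21805 := (sb E7861 F34255)
theorem F66758 : act 2 n21805 = n21716 := d15_3 (iv0 D21716) D21717 F66752
theorem E7863 : n23647 = n21499 := ((c2_3 (iv5 F34253) F66758 F34165 F36774)).symm
theorem F66760 : act 2 n21499 = n11076 := (sb E7863 F36774)
theorem E7864 : n11074 = n10258 := ((((iv6 D21499)).symm.trans (sb E7863 (iv6 D23647)))).symm
theorem E7865 : n11044 = n4655 := ((((iv1 D10258)).symm.trans (sb E7864 (iv1 F17942)))).symm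
theorem E7866 : n11043 = n10097 := (((F16224).symm.trans (sb E7864 F17940))).symm
theorem E7867 : n21495 = n5047 := (((iv2 F33794)).symm.trans (sb E7864 (iv2 D11074)))
theorem E7868 : n21496 = n10258 := ((D21496).symm.trans (sb E7864 (tr F17938 E7864)))
theorem E7869 : n23174 = n21497 := (((D21497).symm.trans (sb E7864 (iv4 F66551)))).symm
theorem E7870 : n23646 = n21498 := (((D21498).symm.trans (sb E7864 D23646))).symm
theorem E7871 : n21490 = n10094 := ((F33793).symm.trans (sb E7864 F66725))
theorem E7872 : n10257 = n5034 := ((D10257).symm.trans (sb E7865 (iv1 D11044)))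
theorem E7879 : n23565 = n20897 := ((((iv3 F33048)).symm.trans (sb E7866 D23565))).symm
theorem E7880 : n23566 = n21182 := ((((iv4 F33426)).symm.trans (sb E7866 D23566))).symm
theorem F66762 : act 2 n5047 = n10258 := (sb E7867 F33794)
theorem F66763 : act 3 n10258 = n10258 := (sb E7868 (iv3 D21496))
theorem F66764 : act 0 n21497 = n10911 := (sb E7869 (iv1 D23174))
theorem F66765 : act 1 n21497 = n23004 := (sb E7869 F36277)
theorem F66766 : act 2 n21497 = n11067 := (sb E7869 F66550)
theorem F66767 : act 7 n21497 = n21185 := (sb E7869 (iv7 F66717))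
theorem E7883 : n41989 = n23577 := ((F64784).symm.trans (sb E7870 (iv1 F36772)))
theorem F66768 : act 2 n21498 = n11075 := (sb E7870 F36769)
theorem F66770 : act 7 n21498 = n21186 := (sb E7870 (iv7 F66721))
theorem F66771 : act 7 n10094 = n10258 := (sb E7871 (iv7 F33793))
theorem F66772 : act 0 n5034 = n10097 := (sb E7872 (iv1 F16229))
theorem F66773 : act 1 n5034 = n4655 := (sb E7872 (iv0 D10257))
theorem E7887 : n21493 = n11046 := (((D11046).symm.trans (sb E7872 D21493))).symm
theorem E7888 : n21494 = n11047 := (((D11047).symm.trans (sb E7872 D21494))).symm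
theorem E7889 : n23476 = n20531 := (((F33049).symm.trans (sb E7879 F36669))).symm
theorem E7890 : n23407 = n21487 := ((((iv1 F33785)).symm.trans (sb E7880 F36670))).symm
theorem F66774 : act 1 n23577 = n21498 := (sb E7883 (iv0 F64784))
theorem F66775 : act 5 n23577 = n19781 := (sb E7883 (iv5 D41989))
theorem F66776 : act 6 n23577 = n23676 := (sb E7883 F64783)
theorem F66777 : act 7 n23577 = n21379 := (sb E7883 F64782)
theorem F66778 : act 0 n11046 = n23047 := (sb E7887 F36103)
theorem E7891 : n23580 = n22993 := ((D23580).symm.trans (sb E7888 (iv1 F63395)))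
theorem E7892 : n23581 = n23066 := ((D23581).symm.trans (sb E7888 (iv0 F36123)))
theorem E7893 : n21632 = n19825 := ((((iv5 F31614)).symm.trans (sb E7888 F34040))).symm
theorem E7894 : n20009 = n11003 := (((iv1 F32632)).symm.trans (sb E7889 (iv1 D23476)))
theorem E7895 : n20008 = n19965 := ((F32633).symm.trans (sb E7889 F66508))
theorem F66779 : act 2 n21487 = n21180 := (sb E7890 (iv2 F66742))
theorem F66780 : act 4 n21487 = n10983 := (sb E7890 (iv4 D23407))
theorem F66781 : act 7 n21487 = n21179 := (sb E7890 (iv7 F66727))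
theorem F66782 : act 0 n22993 = n23591 := (sb E7891 (iv1 F36693))
theorem F66783 : act 1 n22993 = n11047 := (sb E7891 (iv0 D23580))
theorem F66784 : act 0 n23066 = n11047 := (sb E7892 (iv1 D23581))
theorem F66785 : act 1 n23066 = n23591 := (sb E7892 F36695)
theorem E7896 : n42037 = n10330 := ((D42037).symm.trans (sb E7893 (iv1 D21632)))
theorem E7897 : n42038 = n21295 := ((D42038).symm.trans (sb E7893 F34039))
theorem E7898 : n23475 = n9436 := ((D23475).symm.trans (sb E7894 (iv1 D20009)))
theorem F66786 : act 1 n11003 = n20531 := (sb E7894 F32632)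
theorem F66787 : act 0 n19965 = n20531 := (sb E7895 (iv1 F32633))
theorem E7909 : n42034 = n21631 := (((D21631).symm.trans (sb E7896 (iv1 F64909)))).symm
theorem F66788 : act 1 n10330 = n19825 := (sb E7896 (iv0 D42037))
theorem F66789 : act 0 n21295 = n19825 := (sb E7897 (iv1 D42038))
theorem F66790 : act 0 n9436 = n19965 := (sb E7898 F66509)
theorem F66791 : act 1 n9436 = n11003 := (sb E7898 (iv0 D23475))
theorem E7910 : n22921 = n9836 := ((((iv4 F15469)).symm.trans (sb E7898 (iv4 F36586)))).symm
theorem F66792 : act 2 n21631 = n19823 := (sb E7909 (iv2 D42034))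
theorem F66793 : act 3 n21631 = n21631 := (sb E7909 (tr F64905 E7909))
theorem F66794 : act 5 n21631 = n23591 := (sb E7909 F64906)
theorem E7911 : n20749 = n10824 := ((D20749).symm.trans (sb E7910 (iv0 D22921)))
theorem E7912 : n22903 = n20747 := ((((iv3 F32900)).symm.trans (sb E7910 F36587))).symm
theorem F66796 : act 0 n10824 = n9836 := (sb E7911 (iv1 D20749))
theorem E7913 : n22922 = n20897 := ((D22922).symm.trans (sb E7911 F33052))
theorem F66797 : act 0 n20747 = n10819 := (sb E7912 (iv1 D22903))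
theorem E7914 : n23389 = n23317 := ((((iv4 F36431)).symm.trans (sb E7912 F66564))).symm
theorem F66798 : act 0 n20897 = n10824 := (sb E7913 (iv1 D22922))
theorem F66799 : act 0 n23317 = n10979 := (sb E7914 (iv1 D23389))
theorem F66800 : act 1 n23317 = n10984 := (sb E7914 F36516)
theorem F66801 : act 3 n20748 = n22700 := d20_5 D10984 (iv1 F66800) F36431 F32900 D20748 (iv4 D22700) (iv1 F35259) F35254 F17836 (iv1 F17839)
theorem F66802 : act 4 n20748 = n20502 := d20_0 (iv1 F32590) F31799 (iv3 F31788) F66560 (iv3 D10983) D10984 (iv1 F66800) F36431 F32900 D20748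
theorem E7915 : n22700 = n21464 := ((c20_5 (iv4 F66780) (iv1 D21487) F16223 (iv3 F16202) D21464 (iv3 F66801) F66802 (iv1 F32590) F31799 (iv3 F31788) F66560)).symm
theorem F66803 : act 3 n21464 = n20748 := (sb E7915 (iv3 F66801))
theorem F66804 : act 4 n21464 = n10743 := (sb E7915 (iv4 D22700))
theorem F66805 : act 4 n37183 = n21486 := d20_0 (iv1 F33790) F33426 (iv3 F33048) F66798 (iv3 D10824) D10825 (iv1 F66634) F34687 F29311 D37183
theorem F66806 : act 7 n20748 = n22923 := d15_2 (iv0 F66798) F33053 (iv2 D22923)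
theorem F66807 : act 2 n22898 = n20748 := d4_3 F66806 (iv2 D22923) (iv7 F35969)
theorem E7916 : n22904 = n21464 := ((c0_3 D22898 F66807 (iv3 F66803) (iv2 D22904) (iv3 D10819) D10818)).symm
theorem F66808 : act 2 n21464 = n10819 := (sb E7916 (iv2 D22904))
theorem E7917 : n22698 = n22684 := ((c1_3 (iv4 F66804) F66808 F35258 (iv2 D22698))).symm
theorem F66809 : act 2 n22684 = n10743 := (sb E7917 (iv2 D22698))
theorem F66810 : act 7 n22684 = n10744 := (sb E7917 (iv7 F35283))
theorem E7918 : n22907 = n21465 := ((c15_2 (iv0 D21464) D21465 (iv7 D22907) (iv2 F66808))).symm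
theorem F66811 : act 3 n21465 = n10823 := (sb E7918 F35977)
theorem F66812 : act 7 n21465 = n10819 := (sb E7918 (iv7 D22907))
theorem E7919 : n21868 = n21465 := (c11_4 F66812 F35258 F66810 (iv4 F34327))
theorem E7920 : n10823 = n10430 := ((F66811).symm.trans (sb E7919 (iv3 D21868)))
theorem F66813 : act 4 n21465 = n10744 := (sb E7919 F34327)
theorem E7921 : n22897 = n4724 := ((((iv1 D10430)).symm.trans (sb E7920 (iv1 F35968)))).symm
theorem E7923 : n21867 = n4935 := (((iv2 F34326)).symm.trans (sb E7920 F17371))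
theorem F66814 : act 3 n10430 = n21465 := (sb E7920 (iv3 F66811))
theorem E7924 : n22913 = n21869 := (((D21869).symm.trans (sb E7920 (iv4 F35981)))).symm
theorem E7925 : n22917 = n21870 := (((D21870).symm.trans (sb E7920 (iv5 F35987)))).symm
theorem E7926 : n22920 = n21871 := (((D21871).symm.trans (sb E7920 D22920))).symm
theorem E7927 : n21862 = n4934 := ((F34324).symm.trans (sb E7920 (iv7 D10823)))
theorem E7928 : n10818 = n10429 := (((D10429).symm.trans (sb E7921 (iv1 D22897)))).symm
theorem F66815 : act 2 n4935 = n10430 := (sb E7923 F34326)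
theorem F66816 : act 2 n21869 = n10825 := (sb E7924 F35980)
theorem F66817 : act 7 n21869 = n10820 := (sb E7924 (iv7 D22913))
theorem F66818 : act 2 n21870 = n10826 := (sb E7925 F35986)
theorem F66819 : act 7 n21870 = n10821 := (sb E7925 (iv7 D22917))
theorem F66820 : act 2 n21871 = n10827 := (sb E7926 F35990)
theorem F66821 : act 7 n4934 = n10430 := (sb E7927 (iv7 F34324))
theorem F66822 : act 2 n10429 = n4934 := (sb E7928 (iv2 D10818))
theorem E7929 : n22898 = n21863 := (((D21863).symm.trans (sb E7928 D22898))).symm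
theorem E7930 : n22899 = n21864 := (((D21864).symm.trans (sb E7928 D22899))).symm
theorem E7931 : n22900 = n21865 := (((D21865).symm.trans (sb E7928 D22900))).symm
theorem E7932 : n22901 = n21866 := (((D21866).symm.trans (sb E7928 D22901))).symm
theorem F66823 : act 7 n10429 = n4935 := (sb E7928 (iv7 F17370))
theorem F66824 : act 2 n21863 = n20748 := (sb E7929 F66807)
theorem F66825 : act 7 n21863 = n10824 := (sb E7929 F35969)
theorem F66826 : act 2 n21864 = n10820 := (sb E7930 F35970)
theorem F66827 : act 7 n21864 = n10825 := (sb E7930 F35971)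
theorem F66828 : act 2 n21865 = n10821 := (sb E7931 F35972)
theorem F66829 : act 7 n21865 = n10826 := (sb E7931 F35973)
theorem F66830 : act 2 n21866 = n10822 := (sb E7932 F35974)
theorem E7933 : n41861 = n22918 := ((c2_3 (iv5 F34325) F66830 D22918 F64532)).symm
theorem F66832 : act 7 n22918 = n19707 := (sb E7933 (iv7 D41861))
theorem E7934 : n22919 = n22458 := ((c15_2 (iv0 F34521) F35547 (iv7 D22919) (iv2 F66830))).symm
theorem F66833 : act 7 n22458 = n10822 := (sb E7934 (iv7 D22919))
theorem E7935 : n41857 = n41356 := (c15_4 (iv0 D41356) (iv0 F35988) F66832 D41857)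
theorem F66834 : act 2 n41356 = n19707 := (sb E7935 (iv2 D41857))
theorem F66835 : act 7 n41356 = n19708 := (sb E7935 (iv7 F64527))
theorem E7936 : n22381 = n21864 := ((c15_4 (iv0 D22381) (iv0 F66482) F66817 (iv2 F66826))).symm
theorem F66836 : act 1 n21864 = n10650 := (sb E7936 (iv0 D22381))
theorem E7937 : n21863 = n20895 := (c20_10 F32903 F66728 (iv4 D20513) F66496 (iv1 D9735) (iv3 F15195) (iv4 F17195) (iv1 F66836) (iv4 D21864) D21863 (iv1 F33051))
theorem F66837 : act 2 n20895 = n20748 := (sb E7937 F66824)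
theorem F66838 : act 3 n20895 = n10429 := (sb E7937 (iv3 D21863))
theorem F66839 : act 4 n20895 = n19959 := (sb E7937 F66619)
theorem F66840 : act 7 n20895 = n10824 := (sb E7937 F66825)
theorem E7938 : n42293 = n20503 := ((c11_2 F66840 (iv4 F66505) (iv7 D42293) (iv4 F66839))).symm
theorem F66841 : act 2 n20503 = n19960 := (sb E7938 F65312)
theorem F66842 : act 7 n20503 = n19959 := (sb E7938 (iv7 D42293))
theorem E7939 : n22923 = n20896 := (c15_4 F33046 F33051 F66840 D22923)
theorem F66843 : act 2 n20896 = n10824 := (sb E7939 (iv2 D22923))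
theorem F66844 : act 7 n20896 = n20748 := (sb E7939 (iv7 F66806))
theorem E7940 : n42295 = n20896 := (c1_1 D42295 F66843 (iv4 F66505) F66841)
theorem F66845 : act 4 n20896 = n19960 := (sb E7940 (iv4 D42295))
theorem E7941 : n42288 = n20502 := (c11_3 (iv7 F66844) F66845 F65311 (iv4 F66802))
theorem F66846 : act 2 n20502 = n19959 := (sb E7941 (iv2 D42288))
theorem F66847 : act 7 n20502 = n19960 := (sb E7941 (iv7 F65311))
theorem E7942 : n42350 = n42294 := ((c20_4 (iv4 F32903) (iv1 F33046) F66845 D42294 (iv1 D42350) F31817 F14657 F35605 D9121 (iv3 F17847) (iv1 F66729))).symm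
theorem F66848 : act 0 n42294 = n19985 := (sb E7942 (iv1 D42350))
theorem F66849 : act 2 n21827 = n21799 := d2_3 F62641 F66820 (iv5 F62652)
theorem E7943 : n22933 = n22561 := ((c15_2 F35430 D22561 (iv7 D22933) (iv2 F66820))).symm
theorem F66850 : act 7 n22561 = n10827 := (sb E7943 (iv7 D22933))
theorem F66851 : act 7 n21827 = n21800 := d13_2 F66850 (iv5 F62652) F62643
theorem F66852 : act 2 n21800 = n21826 := d15_3 (iv0 D21826) D21827 F66851
theorem F66853 : act 7 n21799 = n21826 := d4_2 (iv7 F66851) F66849 (iv2 F66852)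
theorem F66854 : act 2 n22215 = n21149 := d3_3 (iv6 F62644) F66852 (iv6 F64531)
theorem F66855 : act 7 n21148 = n22215 := d15_2 F34655 F34656 F66854
theorem F66856 : act 7 n22214 = n21149 := d15_2 F34650 F34654 (iv2 F66854)
theorem F66857 : act 2 n21148 = n22214 := d4_3 F66856 (iv2 F66854) (iv7 F66855)
theorem F66858 : act 2 n22931 = n20347 := d3_3 F34328 F66818 D22931
theorem F66859 : act 7 n20348 = n22931 := d15_2 (iv0 D20347) D20348 F66858
theorem F66860 : act 7 n41403 = n20347 := d15_2 (iv0 F35994) D41403 (iv2 F66858)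
theorem F66861 : act 2 n20348 = n41403 := d4_3 F66860 (iv2 F66858) (iv7 F66859)
theorem E7944 : n22703 = n22685 := (c15_4 F35251 F35256 F66810 (iv2 F35284))
theorem F66862 : act 2 n22685 = n10744 := (sb E7944 F35284)
theorem F66863 : act 7 n22685 = n10743 := (sb E7944 (iv7 D22703))
theorem F66864 : act 2 n21486 = n21179 := d1_1 F66805 F66726 F66616
theorem F66865 : act 7 n21486 = n21180 := d11_2 (iv7 F66615) F66805 F66743
theorem F66866 : act 0 n23490 = n42254 := d18_2 (iv1 F35690) D23490 F65273 (iv5 D20750) F15469 F66791 (iv4 D11003) (iv0 F66487) (iv5 F31966)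
theorem F66867 : act 1 n42333 = n42254 := d15_0 (iv0 F66866) F36604 (iv2 F65367)
theorem F66868 : act 0 n42040 = n40471 := d18_2 F66789 D42040 F61797 (iv5 D40688) F30850 (iv0 F35853) F31576 F63239 (iv5 F33508)
theorem F66869 : act 0 n42251 = n41939 := d20_7 (iv4 F17883) (iv1 F31535) F31537 D19825 (iv1 F66788) (iv3 F32439) (iv4 F65265) (iv4 D41939) (iv3 D19749) (iv1 F14466)
theorem E7945 : n42448 = n41311 := (c20_8 (iv4 F14828) (iv1 F7456) (iv4 F7451) (iv3 F17912) (iv1 F66783) (iv3 F65563) F65564 D42448 F63637 (iv3 D19446) F15269)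
theorem F66870 : act 1 n41311 = n20038 := (sb E7945 (iv0 D42448))
theorem F66871 : act 2 n23577 = n23648 := d15_3 (iv0 D23648) (iv0 F66731) (iv7 F66777)
theorem F66872 : act 5 n23648 = n41965 := d2_2 (iv5 F66775) F66871 (iv2 F64744)
theorem F66873 : act 7 n23648 = n23047 := d4_2 (iv7 F66777) F66871 (iv2 F63406)
theorem E7946 : n40884 = n23369 := ((c20_1 D23369 (iv1 D40884) F30927 F16202 (iv1 F66773) (iv3 D5034) (iv4 D2063) (iv1 F1906) (iv4 F3360) (iv3 F7426) (iv1 F17831))).symm
theorem F66874 : act 0 n23369 = n19271 := (sb E7946 (iv1 D40884))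
theorem E7947 : n40883 = n23365 := ((c15_4 (iv0 D40883) (iv0 F66874) F66578 (iv2 F66587))).symm
theorem F66875 : act 1 n23365 = n19271 := (sb E7947 (iv0 D40883))
theorem F66877 : act 2 n20356 = n40457 := d3_3 F61554 F66768 (iv6 F32297)
theorem E7948 : n40458 = n20358 := (c15_2 (iv0 D40457) D40458 F32302 F66877)
theorem F66878 : act 0 n20358 = n19122 := (sb E7948 (iv1 D40458))
theorem F66883 : act 4 n42370 = n22881 := d20_6 F14657 F35605 D9121 (iv3 F17847) (iv1 F66729) (iv3 F65449) (iv1 D22881) (iv4 F35573) (iv3 D22871) (iv1 F35613)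
theorem F66884 : act 7 n22881 = n42366 := d11_2 D42370 F66883 F65447
theorem E7949 : n22880 = n22505 := ((c15_4 (iv0 D22880) D22881 F66884 F65445)).symm
theorem F66885 : act 1 n22505 = n10810 := (sb E7949 (iv0 D22880))
theorem F66886 : act 0 n21805 = n21534 := d21_7 (iv5 D19769) (iv1 F16113) (iv5 F35838) (iv6 F63156) F66711 D11076 (iv5 F34253) (iv5 D21534) (iv6 F63287) (iv1 F31580)
theorem F66887 : act 1 n21805 = n21530 := d15_1 (iv0 F66886) F62833 (iv2 F62819)
def n42661 : Q := act 0 n20136
theorem D42661 : act 0 n20136 = n42661 := rfl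
def n42662 : Q := act 1 n20136
theorem D42662 : act 1 n20136 = n42662 := rfl
def n42663 : Q := act 2 n20136
theorem D42663 : act 2 n20136 = n42663 := rfl
def n42664 : Q := act 4 n20136
theorem D42664 : act 4 n20136 = n42664 := rfl
theorem F66888 : act 3 n42664 = n42059 := d5_1 D42664 F64935 F31697 F16968 D20136
def n42665 : Q := act 5 n20136
theorem D42665 : act 5 n20136 = n42665 := rfl
theorem F66889 : act 3 n42665 = n20137 := d6_1 D42665 (iv5 D20137) D20136
def n42666 : Q := act 6 n20136
theorem D42666 : act 6 n20136 = n42666 := rfl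
theorem F66890 : act 3 n42666 = n20138 := d7_1 D42666 (iv6 D20138) D20136
def n42667 : Q := act 6 n20137
theorem D42667 : act 6 n20137 = n42667 := rfl
theorem F66891 : act 4 n42667 = n42655 := d10_1 D42667 (iv6 D42655) (iv4 F31970)
def n42668 : Q := act 5 n20138
theorem D42668 : act 5 n20138 = n42668 := rfl
def n42669 : Q := act 7 n20138
theorem D42669 : act 7 n20138 = n42669 := rfl
theorem F66892 : act 4 n42669 = n42114 := d11_1 D42669 (iv7 D42114) (iv4 F31972)
def n42670 : Q := act 0 n20139
theorem D42670 : act 0 n20139 = n42670 := rfl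
def n42671 : Q := act 1 n20139
theorem D42671 : act 1 n20139 = n42671 := rfl
def n42672 : Q := act 2 n20139
theorem D42672 : act 2 n20139 = n42672 := rfl
def n42673 : Q := act 5 n20139
theorem D42673 : act 5 n20139 = n42673 := rfl
theorem F66894 : act 3 n42673 = n20140 := d6_1 D42673 (iv5 D20140) D20139
def n42674 : Q := act 6 n20139
theorem D42674 : act 6 n20139 = n42674 := rfl
theorem F66895 : act 3 n42674 = n20141 := d7_1 D42674 (iv6 D20141) D20139
def n42675 : Q := act 6 n20140
theorem D42675 : act 6 n20140 = n42675 := rfl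
theorem F66896 : act 4 n42675 = n42176 := d10_1 D42675 (iv6 D42176) (iv4 F31973)
def n42676 : Q := act 5 n20141
theorem D42676 : act 5 n20141 = n42676 := rfl
def n42677 : Q := act 7 n20141
theorem D42677 : act 7 n20141 = n42677 := rfl
theorem F66897 : act 1 n23490 = n42677 := d15_1 (iv0 F66866) (iv7 D42677) (iv2 F65272)
theorem F66898 : act 1 n42677 = n42333 := d15_1 F66897 (iv7 F66706) F66705
def n42678 : Q := act 0 n20142
theorem D42678 : act 0 n20142 = n42678 := rfl
theorem F66899 : act 2 n20146 = n42678 := d15_3 (iv0 D42678) (iv0 D20142) D20146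
theorem F66900 : act 4 n42678 = n20301 := d1_2 (iv4 F31978) F66899 (iv2 F32224)
theorem F66901 : act 7 n42678 = n20144 := d4_2 D20146 F66899 (iv2 D20144)
theorem F66902 : act 1 n20143 = n42678 := d15_1 D20143 F66901 (iv2 D20144)
def n42679 : Q := act 2 n20142
theorem D42679 : act 2 n20142 = n42679 := rfl
theorem F66903 : act 7 n20143 = n42679 := d15_2 (iv0 D20142) D20143 (iv2 D42679)
def n42680 : Q := act 3 n20142
theorem D42680 : act 3 n20142 = n42680 := rfl
def n42681 : Q := act 4 n20142
theorem D42681 : act 4 n20142 = n42681 := rfl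
def n42682 : Q := act 5 n20142
theorem D42682 : act 5 n20142 = n42682 := rfl
def n42683 : Q := act 6 n20142
theorem D42683 : act 6 n20142 = n42683 := rfl
def n42684 : Q := act 7 n20142
theorem D42684 : act 7 n20142 = n42684 := rfl
theorem F66904 : act 2 n42684 = n20143 := d4_1 D42684 F66903 (iv2 D42679)
def n42685 : Q := act 3 n20143
theorem D42685 : act 3 n20143 = n42685 := rfl
def n42686 : Q := act 4 n20143
theorem D42686 : act 4 n20143 = n42686 := rfl
theorem F66905 : act 3 n23688 = n42686 := d20_5 (iv4 D4207) (iv1 F3379) D5072 D11092 D23688 (iv4 D42686) (iv1 D20143) F14759 (iv3 D4328) (iv1 F6110)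
def n42687 : Q := act 5 n20143
theorem D42687 : act 5 n20143 = n42687 := rfl
def n42688 : Q := act 6 n20143
theorem D42688 : act 6 n20143 = n42688 := rfl
def n42689 : Q := act 0 n20144
theorem D42689 : act 0 n20144 = n42689 := rfl
theorem F66906 : act 1 n20146 = n42689 := d15_0 (iv0 D42689) (iv7 F66901) (iv2 F66899)
theorem F66907 : act 4 n40484 = n42689 := d20_6 (iv4 D2077) (iv1 F2967) D4005 D8978 D19131 D40484 (iv1 F66906) F31978 F14969 (iv1 F6230)
def n42690 : Q := act 1 n20144
theorem D42690 : act 1 n20144 = n42690 := rfl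
theorem F66908 : act 1 n42690 = n20146 := d15_1 D42690 (iv7 D20146) D20144
def n42691 : Q := act 5 n20144
theorem D42691 : act 5 n20144 = n42691 := rfl
theorem F66909 : act 2 n42691 = n20145 := d2_1 D42691 (iv5 D20145) D20144
def n42692 : Q := act 0 n20145
theorem D42692 : act 0 n20145 = n42692 := rfl
def n42693 : Q := act 1 n20145
theorem D42693 : act 1 n20145 = n42693 := rfl
def n42694 : Q := act 4 n20145
theorem D42694 : act 4 n20145 = n42694 := rfl
def n42695 : Q := act 6 n20145
theorem D42695 : act 6 n20145 = n42695 := rfl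
theorem F66910 : act 3 n42695 = n20150 := d7_1 D42695 (iv6 D20150) (iv3 F31976)
def n42696 : Q := act 7 n20145
theorem D42696 : act 7 n20145 = n42696 := rfl
theorem F66911 : act 3 n42696 = n20151 := d8_1 D42696 (iv7 D20151) (iv3 F31976)
theorem F66912 : act 5 n42696 = n20146 := d13_1 D42696 (iv7 D20146) D20145
def n42697 : Q := act 6 n20146
theorem D42697 : act 6 n20146 = n42697 := rfl
theorem F66913 : act 3 n42697 = n20152 := d7_1 D42697 (iv6 D20152) (iv3 F31977)
def n42698 : Q := act 3 n20147
theorem D42698 : act 3 n20147 = n42698 := rfl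
theorem F66915 : act 5 n42698 = n42593 := d6_2 (iv5 F31979) D42698 (iv3 D42593)
def n42699 : Q := act 6 n20147
theorem D42699 : act 6 n20147 = n42699 := rfl
theorem F66916 : act 4 n42699 = n42637 := d10_1 D42699 (iv6 D42637) F31980
def n42700 : Q := act 3 n20148
theorem D42700 : act 3 n20148 = n42700 := rfl
theorem F66917 : act 5 n42700 = n42627 := d6_2 (iv5 F31981) D42700 (iv3 D42627)
def n42701 : Q := act 6 n20148
theorem D42701 : act 6 n20148 = n42701 := rfl
theorem F66918 : act 4 n42701 = n42606 := d10_1 D42701 (iv6 D42606) F31982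
def n42702 : Q := act 3 n20149
theorem D42702 : act 3 n20149 = n42702 := rfl
theorem F66919 : act 5 n42702 = n42159 := d6_2 (iv5 F31983) D42702 (iv3 D42159)
theorem F66920 : act 7 n42702 = n42258 := d8_2 (iv7 F31986) D42702 F65276
def n42703 : Q := act 6 n20149
theorem D42703 : act 6 n20149 = n42703 := rfl
theorem F66921 : act 4 n42703 = n20150 := d10_1 D42703 (iv6 D20150) D20149
def n42704 : Q := act 0 n20150
theorem D42704 : act 0 n20150 = n42704 := rfl
def n42705 : Q := act 1 n20150
theorem D42705 : act 1 n20150 = n42705 := rfl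
def n42706 : Q := act 7 n20150
theorem D42706 : act 7 n20150 = n42706 := rfl
def n42707 : Q := act 6 n20151
theorem D42707 : act 6 n20151 = n42707 := rfl
theorem F66922 : act 2 n42707 = n42703 := d3_1 D42707 (iv6 D42703) (iv2 F31987)
theorem F66923 : act 4 n42707 = n42259 := d10_1 D42707 (iv6 D42259) (iv4 F31988)
def n42708 : Q := act 0 n20152
theorem D42708 : act 0 n20152 = n42708 := rfl
def n42709 : Q := act 1 n20152
theorem D42709 : act 1 n20152 = n42709 := rfl
def n42710 : Q := act 5 n20152
theorem D42710 : act 5 n20152 = n42710 := rfl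
def n42711 : Q := act 2 n20153
theorem D42711 : act 2 n20153 = n42711 := rfl
theorem F66924 : act 7 n20154 = n42711 := d15_2 (iv0 D20153) D20154 (iv2 D42711)
def n42712 : Q := act 3 n20153
theorem D42712 : act 3 n20153 = n42712 := rfl
def n42713 : Q := act 4 n20153
theorem D42713 : act 4 n20153 = n42713 := rfl
def n42714 : Q := act 5 n20153
theorem D42714 : act 5 n20153 = n42714 := rfl
theorem F66925 : act 0 n41947 = n42714 := d21_10 (iv5 D42714) (iv1 F65093) F65089 F65079 (iv1 F32525) D20602 F32934 F66495 (iv5 F31522) D41947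
def n42715 : Q := act 6 n20153
theorem D42715 : act 6 n20153 = n42715 := rfl
theorem F66926 : act 5 n42715 = n42162 := d21_6 F16860 (iv1 F6177) (iv5 F6189) D9507 D20153 D42715 (iv1 D42162) F31737 (iv6 D19892) F14582
def n42717 : Q := act 3 n20154
theorem D42717 : act 3 n20154 = n42717 := rfl
def n42718 : Q := act 4 n20154
theorem D42718 : act 4 n20154 = n42718 := rfl
def n42719 : Q := act 5 n20154
theorem D42719 : act 5 n20154 = n42719 := rfl
theorem F66928 : act 0 n42719 = n41947 := d21_1 D42719 F64708 (iv6 D23454) (iv1 F66493) (iv6 D20065) (iv5 D9451) (iv1 F14626) (iv5 F31772) (iv6 F65090) (iv1 F65092)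
theorem F66929 : act 6 n42719 = n42161 := d21_3 (iv5 F65089) (iv1 F65092) D42719 (iv1 F65091) (iv6 D20101) F14677 (iv1 F14618) D19938 (iv6 F32762) (iv1 F65081)
def n42720 : Q := act 6 n20154
theorem D42720 : act 6 n20154 = n42720 := rfl
theorem F66930 : act 0 n42335 = n42720 := d21_4 (iv5 F32944) F65372 (iv5 D42334) D42335 (iv6 D42720) D42719 F66928 F64708 (iv6 D23454) (iv1 F66493)
def n42721 : Q := act 0 n20170
theorem D42721 : act 0 n20170 = n42721 := rfl
def n42722 : Q := act 1 n20170
theorem D42722 : act 1 n20170 = n42722 := rfl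
def n42723 : Q := act 4 n20170
theorem D42723 : act 4 n20170 = n42723 := rfl
def n42724 : Q := act 6 n20170
theorem D42724 : act 6 n20170 = n42724 := rfl
def n42725 : Q := act 5 n20171
theorem D42725 : act 5 n20171 = n42725 := rfl
theorem F66931 : act 3 n42725 = n41644 := d6_1 D42725 (iv5 F64268) F62704
theorem F66932 : act 0 n42725 = n41680 := d17_2 F65970 D42725 (iv5 D41680) F31392 F16626 F65813 D21371 F65766 (iv4 F62382)
def n42726 : Q := act 4 n20172
theorem D42726 : act 4 n20172 = n42726 := rfl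
theorem F66933 : act 6 n42726 = n41904 := d10_2 (iv6 F66132) D42726 (iv4 D41904)
def n42727 : Q := act 3 n20173
theorem D42727 : act 3 n20173 = n42727 := rfl
theorem F66934 : act 7 n42727 = n42478 := d8_2 (iv7 F66338) D42727 (iv3 F66368)
def n42728 : Q := act 4 n20173
theorem D42728 : act 4 n20173 = n42728 := rfl
def n42729 : Q := act 0 n20174
theorem D42729 : act 0 n20174 = n42729 := rfl
def n42730 : Q := act 1 n20174
theorem D42730 : act 1 n20174 = n42730 := rfl
def n42731 : Q := act 3 n20174
theorem D42731 : act 3 n20174 = n42731 := rfl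
theorem F66935 : act 4 n42731 = n20183 := d5_2 D20174 D42731 (iv3 D20183) (iv4 D9529) (iv3 F14772)
def n42732 : Q := act 5 n20174
theorem D42732 : act 5 n20174 = n42732 := rfl
def n42733 : Q := act 6 n20174
theorem D42733 : act 6 n20174 = n42733 := rfl
theorem F66936 : act 4 n42733 = n20175 := d10_1 D42733 (iv6 D20175) D20174
def n42734 : Q := act 4 n20178
theorem D42734 : act 4 n20178 = n42734 := rfl
theorem F66937 : act 2 n42734 = n42503 := d1_1 D42734 (iv4 D42503) F35707
theorem F66938 : act 6 n42734 = n41929 := d10_2 (iv6 F32003) D42734 (iv4 D41929)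
theorem F66939 : act 7 n42734 = n42504 := d11_2 F35711 D42734 (iv4 D42504)
def n42735 : Q := act 3 n20179
theorem D42735 : act 3 n20179 = n42735 := rfl
theorem F66940 : act 6 n42735 = n41930 := d7_2 (iv6 F32005) D42735 (iv3 D41930)
def n42745 : Q := act 6 n20183
theorem D42745 : act 6 n20183 = n42745 := rfl
theorem F66956 : act 3 n42745 = n20185 := d7_1 D42745 (iv6 D20185) D20183
def n42747 : Q := act 3 n20193
theorem D42747 : act 3 n20193 = n42747 := rfl
theorem F66958 : act 6 n42747 = n41006 := d7_2 (iv6 F66033) D42747 F62139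
theorem F66959 : act 7 n42747 = n23343 := d8_2 F66055 D42747 F36464
theorem F66960 : act 0 n22523 = n42747 := d20_4 (iv4 F32422) F62960 (iv4 D22524) D22523 (iv3 D42747) (iv4 D20193) (iv1 D9535) D9537 (iv3 F17774) (iv1 F62610)
def n42748 : Q := act 5 n20193
theorem D42748 : act 5 n20193 = n42748 := rfl
theorem F66961 : act 2 n42748 = n40919 := d2_1 D42748 F62009 F66051
theorem F66962 : act 7 n42748 = n23348 := d13_2 F66055 D42748 (iv5 D23348)
theorem F66963 : act 1 n40917 = n42748 := d15_1 D40917 F66962 F36473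
theorem F66964 : act 1 n42748 = n40916 := d15_0 (iv0 D40916) D40919 (iv2 F66961)
def n42749 : Q := act 4 n20194
theorem D42749 : act 4 n20194 = n42749 := rfl
theorem F66965 : act 2 n42749 = n40968 := d1_1 D42749 F62112 F66052
theorem F66966 : act 7 n42749 = n23361 := d11_2 F66056 D42749 (iv4 D23361)
theorem F66967 : act 1 n40965 = n42749 := d15_1 D40965 F66966 F36484
theorem F66968 : act 1 n42749 = n40964 := d15_0 (iv0 D40964) D40968 (iv2 F66965)
theorem F66969 : act 4 n40964 = n22373 := d18_7 D10645 F66125 F66054 (iv4 D20193) D20194 D42749 F66968 (iv0 D22373) (iv5 D10647)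
theorem F66970 : act 3 n22373 = n22994 := d20_3 D19296 D40964 F66969 (iv1 F36059) F17660 (iv4 F17696) (iv1 F17698) (iv4 D9552) D9551 (iv1 F62552)
theorem F66971 : act 6 n23224 = n22373 := d7_0 F66970 F36053 (iv3 F36324)
theorem F66972 : act 7 n23073 = n22373 := d8_0 F66970 F62839 D23073
def n42750 : Q := act 3 n20196
theorem D42750 : act 3 n20196 = n42750 := rfl
theorem F66973 : act 2 n42750 = n22569 := d0_1 D42750 (iv3 D22569) (iv2 F62706) F17774 (iv2 F32025)
theorem F66974 : act 4 n42750 = n42750 := d5_2 D20196 D42750 (iv3 D42750) (iv4 D20196) F14901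
theorem F66975 : act 7 n42750 = n40935 := d8_2 (iv7 F66084) D42750 (iv3 D40935)
def n42751 : Q := act 5 n20196
theorem D42751 : act 5 n20196 = n42751 := rfl
theorem F66976 : act 2 n42751 = n20201 := d2_1 D42751 (iv5 D20201) (iv2 F32025)
theorem F66977 : act 7 n42751 = n40936 := d13_2 (iv7 F66084) D42751 (iv5 D40936)
theorem F66978 : act 1 n42722 = n42751 := d15_1 D42722 F66977 F66117
theorem F66979 : act 1 n42751 = n42721 := d15_0 (iv0 D42721) (iv7 F32038) (iv2 F66976)
def n42752 : Q := act 6 n20196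
theorem D42752 : act 6 n20196 = n42752 := rfl
theorem F66980 : act 2 n42752 = n20202 := d3_1 D42752 (iv6 D20202) (iv2 F32025)
theorem F66981 : act 4 n42752 = n20198 := d10_1 D42752 (iv6 D20198) D20196
def n42753 : Q := act 4 n20197
theorem D42753 : act 4 n20197 = n42753 := rfl
theorem F66982 : act 2 n42753 = n20205 := d1_1 D42753 (iv4 D20205) (iv2 F32029)
theorem F66983 : act 7 n42753 = n40940 := d11_2 (iv7 F66086) D42753 (iv4 D40940)
theorem F66984 : act 1 n42730 = n42753 := d15_1 D42730 F66983 F66352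
theorem F66985 : act 1 n42753 = n42729 := d15_0 (iv0 D42729) (iv7 F32042) (iv2 F66982)
def n42754 : Q := act 0 n20198
theorem D42754 : act 0 n20198 = n42754 := rfl
theorem F66987 : act 5 n42754 = n41894 := d21_0 (iv1 F64624) F31492 F14457 (iv1 F30590) (iv6 F62525) (iv5 F66131) (iv1 F32033) (iv5 D20197) D20198 D42754
theorem F66989 : act 1 n20210 = n42754 := d15_0 (iv0 D42754) F66089 (iv2 F66112)
theorem F66990 : act 7 n42754 = n20208 := d15_2 (iv0 F66111) F66989 F66591
def n42755 : Q := act 3 n20200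
theorem D42755 : act 3 n20200 = n42755 := rfl
theorem F66991 : act 4 n42755 = n22399 := d5_2 (iv4 F65651) D42755 F34953 F17214 (iv3 F17193)
theorem F66992 : act 6 n42755 = n41108 := d7_2 (iv6 F65652) D42755 F62338
theorem F66993 : act 7 n42755 = n22357 := d8_2 (iv7 F65653) D42755 F34914
def n42756 : Q := act 5 n20200
theorem D42756 : act 5 n20200 = n42756 := rfl
theorem F66994 : act 2 n42756 = n41100 := d2_1 D42756 F62332 (iv2 F65650)
theorem F66995 : act 7 n42756 = n22361 := d13_2 (iv7 F65653) D42756 (iv5 D22361)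
theorem F66996 : act 0 n42756 = n41098 := d17_2 (iv1 F66091) D42756 (iv5 F62529) F33233 (iv5 F15826) (iv0 F66034) (iv5 D20194) (iv0 F66031) D19286
theorem F66997 : act 1 n42756 = n41097 := d15_0 (iv0 D41097) D41100 (iv2 F66994)
def n42757 : Q := act 0 n20201
theorem D42757 : act 0 n20201 = n42757 := rfl
theorem F66998 : act 1 n40936 = n42757 := d15_0 (iv0 D42757) F32038 (iv2 F66117)
def n42758 : Q := act 1 n20201
theorem D42758 : act 1 n20201 = n42758 := rfl
theorem F66999 : act 1 n42758 = n40936 := d15_1 D42758 (iv7 F66977) F66976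
theorem F67000 : act 5 n42758 = n40389 := d21_2 D40936 (iv1 F66999) (iv6 D40389) (iv1 D19083) (iv6 D8940) D8939 (iv1 F14156) (iv5 D9081) D9082 F66090
def n42759 : Q := act 4 n20201
theorem D42759 : act 4 n20201 = n42759 := rfl
theorem F67001 : act 7 n42759 = n42723 := d11_2 (iv7 F32038) D42759 (iv4 D42723)
def n42760 : Q := act 6 n20201
theorem D42760 : act 6 n20201 = n42760 := rfl
def n42761 : Q := act 0 n20202
theorem D42761 : act 0 n20202 = n42761 := rfl
def n42762 : Q := act 1 n20202
theorem D42762 : act 1 n20202 = n42762 := rfl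
theorem F67002 : act 4 n22906 = n42762 := d20_6 (iv4 D9133) D9131 (iv4 F16021) (iv3 F33589) F65711 (iv3 F35976) (iv1 D42762) F32039 F14820 (iv1 F15270)
theorem F67003 : act 6 n42762 = n22684 := d10_2 D22906 F67002 (iv4 F35258)
theorem F67004 : act 2 n22702 = n42762 := d3_3 F67003 F66809 D22702
theorem F67005 : act 5 n42762 = n41699 := d21_6 (iv5 F14417) (iv1 F17267) (iv5 D10738) D10739 D22684 (iv6 F67003) (iv1 D41699) (iv5 D19627) (iv6 D9227) D9224
def n42763 : Q := act 5 n20202
theorem D42763 : act 5 n20202 = n42763 := rfl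
def n42764 : Q := act 7 n20202
theorem D42764 : act 7 n20202 = n42764 := rfl
theorem F67006 : act 3 n42764 = n22768 := d8_1 D42764 (iv7 F35553) F62696
theorem F67007 : act 4 n42764 = n20210 := d11_1 D42764 (iv7 D20210) (iv4 F32039)
theorem F67008 : act 6 n42764 = n20867 := d14_1 D42764 F33015 (iv6 D20171) (iv7 F14895) D20202
def n42765 : Q := act 3 n20203
theorem D42765 : act 3 n20203 = n42765 := rfl
theorem F67009 : act 7 n42765 = n42520 := d8_2 (iv7 F66094) D42765 F66361
theorem F67010 : act 2 n42765 = n42519 := d15_3 (iv0 D42519) D42520 (iv7 F67009)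
def n42766 : Q := act 4 n20203
theorem D42766 : act 4 n20203 = n42766 := rfl
theorem F67011 : act 2 n42766 = n42728 := d1_1 D42766 (iv4 D42728) (iv2 F66340)
theorem F67012 : act 7 n42766 = n42726 := d11_2 (iv7 F66094) D42766 (iv4 D42726)
def n42767 : Q := act 5 n20203
theorem D42767 : act 5 n20203 = n42767 := rfl
theorem F67013 : act 2 n42767 = n21056 := d2_1 D42767 F66337 (iv2 F66340)
theorem F67014 : act 7 n42767 = n21055 := d13_2 (iv7 F66094) D42767 (iv5 F66131)
theorem F67015 : act 0 n20220 = n42767 := d21_10 (iv5 D42767) F66093 (iv5 D19287) D19288 F31067 (iv6 D9103) D9102 F62470 D20701 F32826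
theorem F67016 : act 6 n20888 = n42767 := d21_5 D19408 F66147 (iv5 F14774) D9905 D20888 (iv5 D42767) F66093 (iv5 D19287) D19288 F31067
theorem F67017 : act 0 n42767 = n21046 := d21_4 D5003 D10987 (iv5 F66192) F67016 (iv6 D21046) D21045 (iv1 F33280) F62568 (iv6 D10986) (iv1 D5002)
def n42768 : Q := act 6 n20203
theorem D42768 : act 6 n20203 = n42768 := rfl
theorem F67018 : act 2 n42768 = n20286 := d3_1 D42768 (iv6 F66339) (iv2 F66340)
theorem F67019 : act 5 n42768 = n23423 := d12_1 D42768 (iv6 D23423) (iv5 F66192) F67016 (iv5 D42767)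
theorem F67020 : act 7 n42768 = n20285 := d14_2 (iv7 F66094) D42768 F64606 F64604 (iv6 F66132)
theorem F67021 : act 0 n42768 = n20279 := d21_4 D20220 F67015 (iv5 D42767) D42768 (iv6 D20279) (iv5 D9594) F17525 D9332 (iv6 F17825) F62523
theorem F67022 : act 1 n42768 = n20287 := d15_1 (iv0 F67021) (iv7 D20287) (iv2 F32172)
def n42769 : Q := act 4 n20204
theorem D42769 : act 4 n20204 = n42769 := rfl
theorem F67023 : act 2 n42769 = n42726 := d1_1 D42769 (iv4 D42726) (iv2 F66096)
theorem F67024 : act 7 n42769 = n42728 := d11_2 F66338 D42769 (iv4 D42728)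
def n42770 : Q := act 0 n20205
theorem D42770 : act 0 n20205 = n42770 := rfl
theorem F67025 : act 1 n40940 = n42770 := d15_0 (iv0 D42770) F32042 (iv2 F66352)
def n42771 : Q := act 1 n20205
theorem D42771 : act 1 n20205 = n42771 := rfl
theorem F67026 : act 1 n42771 = n40940 := d15_1 D42771 (iv7 F66983) F66982
def n42772 : Q := act 3 n20205
theorem D42772 : act 3 n20205 = n42772 := rfl
theorem F67027 : act 4 n42772 = n20211 := d5_2 D20205 D42772 (iv3 D20211) (iv4 D9540) (iv3 F14819)
theorem F67028 : act 7 n42772 = n42731 := d8_2 (iv7 F32042) D42772 (iv3 D42731)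
def n42773 : Q := act 5 n20205
theorem D42773 : act 5 n20205 = n42773 := rfl
theorem F67029 : act 7 n42773 = n42732 := d13_2 (iv7 F32042) D42773 (iv5 D42732)
def n42774 : Q := act 6 n20205
theorem D42774 : act 6 n20205 = n42774 := rfl
theorem F67030 : act 4 n42774 = n20206 := d10_1 D42774 (iv6 D20206) D20205
def n42775 : Q := act 5 n20206
theorem D42775 : act 5 n20206 = n42775 := rfl
theorem F67031 : act 3 n42775 = n20214 := d6_1 D42775 (iv5 D20214) (iv3 F32043)
theorem F67032 : act 6 n42775 = n20209 := d12_2 D20206 D42775 (iv5 D20209) (iv6 D9539) D9538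
theorem F67034 : act 0 n42775 = n23397 := d21_4 (iv5 F66106) (iv1 D20208) D20209 (iv6 F67032) (iv6 D23397) (iv5 D10980) (iv1 F17840) (iv5 F36501) (iv6 F64623) (iv1 F64625)
def n42776 : Q := act 3 n20207
theorem D42776 : act 3 n20207 = n42776 := rfl
theorem F67035 : act 5 n42776 = n41915 := d6_2 (iv5 F66104) D42776 (iv3 D41915)
theorem F67036 : act 7 n42776 = n23386 := d8_2 (iv7 F66594) D42776 F36514
def n42777 : Q := act 4 n20207
theorem D42777 : act 4 n20207 = n42777 := rfl
theorem F67037 : act 7 n42777 = n23392 := d11_2 (iv7 F66594) D42777 F36517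
def n42778 : Q := act 6 n20207
theorem D42778 : act 6 n20207 = n42778 := rfl
theorem F67039 : act 5 n42778 = n21083 := d12_1 D42778 (iv6 F64667) (iv5 F64663) (iv6 D41917) (iv5 F66104)
theorem F67041 : act 0 n42778 = n20657 := d21_4 D9257 D19732 (iv5 F66104) D42778 (iv6 D20657) D20656 (iv1 F32822) F63071 (iv6 D19731) (iv1 D9256)
theorem F67042 : act 0 n20668 = n42778 := d21_4 D19094 F62498 F62484 (iv6 F62489) (iv6 D42778) F66104 F64626 F64622 F31484 (iv1 F30595)
def n42779 : Q := act 4 n20208
theorem D42779 : act 4 n20208 = n42779 := rfl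
theorem F67043 : act 2 n42779 = n23392 := d1_1 D42779 F36517 (iv2 F66591)
theorem F67044 : act 6 n42779 = n23365 := d10_2 (iv6 F66107) D42779 (iv4 D23365)
def n42780 : Q := act 4 n20209
theorem D42780 : act 4 n20209 = n42780 := rfl
def n42785 : Q := act 6 n20211
theorem D42785 : act 6 n20211 = n42785 := rfl
theorem F67053 : act 3 n42785 = n20213 := d7_1 D42785 (iv6 D20213) D20211
def n42788 : Q := act 4 n20214
theorem D42788 : act 4 n20214 = n42788 := rfl
theorem F67057 : act 6 n42788 = n20215 := d10_2 (iv6 F32055) D42788 (iv4 D20215)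
def n42789 : Q := act 3 n20215
theorem D42789 : act 3 n20215 = n42789 := rfl
theorem F67062 : act 5 n42789 = n42745 := d6_2 (iv5 F32059) D42789 F66956
def n42790 : Q := act 0 n20219
theorem D42790 : act 0 n20219 = n42790 := rfl
def n42793 : Q := act 4 n20220
theorem D42793 : act 4 n20220 = n42793 := rfl
theorem F67064 : act 7 n42793 = n21050 := d11_2 (iv7 F32064) D42793 F33233
theorem F67065 : act 0 n40389 = n42793 := d20_7 F15838 (iv1 D9900) (iv4 F14795) (iv3 F16555) (iv1 F62645) (iv3 F63985) F63986 (iv4 D42793) F32063 (iv1 F15837)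
def n42799 : Q := act 4 n20225
theorem D42799 : act 4 n20225 = n42799 := rfl
theorem F67069 : act 2 n42799 = n20226 := d1_1 D42799 (iv4 D20226) D20225
theorem F67070 : act 7 n42799 = n40959 := d11_2 (iv7 F62555) D42799 (iv4 D40959)
theorem F67071 : act 0 n42799 = n22375 := d18_2 (iv1 F62554) D42799 (iv4 D22375) (iv5 D10647) (iv4 F17190) (iv0 F65776) (iv4 D20196) F66045 (iv5 F30951)
theorem F67072 : act 1 n42799 = n42790 := d15_0 (iv0 D42790) (iv7 F32072) (iv2 F67069)
theorem F67073 : act 7 n42790 = n41282 := d15_2 (iv0 F67071) F67072 F63604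
def n42801 : Q := act 1 n20226
theorem D42801 : act 1 n20226 = n42801 := rfl
theorem F67077 : act 1 n42801 = n40959 := d15_1 D42801 (iv7 F67070) F67069
theorem F67079 : act 4 n22376 = n42801 := d20_6 D4313 D9554 (iv4 F14917) D10894 (iv1 F62674) (iv3 F34929) (iv1 D42801) (iv4 D20226) (iv3 D9551) (iv1 D4312)
def n42813 : Q := act 0 n20230
theorem D42813 : act 0 n20230 = n42813 := rfl
theorem F67098 : act 4 n42813 = n21152 := d18_3 F31520 (iv4 F32078) D42813 (iv5 D21152) F33343 (iv0 D21120) F15894 D10057 (iv5 F31519)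
def n42814 : Q := act 5 n20230
theorem D42814 : act 5 n20230 = n42814 := rfl
def n42861 : Q := act 6 n20248
theorem D42861 : act 6 n20248 = n42861 := rfl
theorem F67157 : act 5 n42861 = n42064 := d12_1 D42861 (iv6 D42064) (iv5 D19836) F17538 D20248
def n42862 : Q := act 4 n20249
theorem D42862 : act 4 n20249 = n42862 := rfl
theorem F67158 : act 2 n42862 = n20252 := d1_1 D42862 (iv4 D20252) (iv2 F32113)
theorem F67159 : act 7 n42862 = n35780 := d11_2 (iv7 F32115) D42862 (iv4 D35780)
theorem F67160 : act 0 n42862 = n35785 := d18_2 (iv1 F32117) D42862 (iv4 F56454) (iv5 D19055) F13903 F7025 (iv4 F13823) (iv0 F13826) (iv5 F30319)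
theorem F67161 : act 1 n42862 = n35784 := d18_6 (iv1 F27369) F13897 F17513 D9570 D20249 D42862 F56453 (iv0 F54625) (iv5 D34424)
def n42863 : Q := act 6 n20249
theorem D42863 : act 6 n20249 = n42863 := rfl
theorem F67162 : act 2 n42863 = n20253 := d3_1 D42863 (iv6 D20253) (iv2 F32113)
theorem F67163 : act 3 n42863 = n35752 := d7_1 D42863 (iv6 D35752) (iv3 F32114)
theorem F67164 : act 5 n42863 = n37089 := d12_1 D42863 (iv6 D37089) (iv5 D17848) (iv6 F14924) D20249
def n42864 : Q := act 3 n20250
theorem D42864 : act 3 n20250 = n42864 := rfl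
def n42865 : Q := act 5 n20250
theorem D42865 : act 5 n20250 = n42865 := rfl
theorem F67166 : act 2 n42865 = n20257 := d2_1 D42865 (iv5 D20257) (iv2 F32118)
theorem F67167 : act 4 n42865 = n35787 := d16_2 D20250 D42865 (iv5 D35787) (iv4 D17340) (iv5 D8120) F5677 D4325 F6216 (iv2 F14929)
theorem F67168 : act 0 n42865 = n41284 := d17_2 (iv1 F32175) D42865 (iv5 D41284) (iv4 F31180) F31181 F17490 D20105 (iv0 F57159) F57158
theorem F67169 : act 1 n42865 = n41281 := d17_6 F13898 (iv5 D8925) F17513 D9571 D20250 D42865 (iv5 D41281) (iv0 D19418) (iv4 D9111)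
def n42866 : Q := act 6 n20250
theorem D42866 : act 6 n20250 = n42866 := rfl
theorem F67171 : act 4 n42866 = n20251 := d10_1 D42866 (iv6 D20251) D20250
def n42867 : Q := act 1 n20251
theorem D42867 : act 1 n20251 = n42867 := rfl
theorem F67172 : act 1 n42867 = n20261 := d15_1 D42867 (iv7 D20261) (iv2 F32119)
theorem F67173 : act 7 n42867 = n20259 := d15_2 (iv0 F36533) D42867 (iv2 F66606)
def n42869 : Q := act 3 n20252
theorem D42869 : act 3 n20252 = n42869 := rfl
theorem F67180 : act 4 n42869 = n26957 := d5_2 D20252 D42869 (iv3 D26957) (iv4 D12898) (iv3 F14933)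
theorem F67181 : act 7 n42869 = n35786 := d8_2 (iv7 F32122) D42869 (iv3 D35786)
def n42870 : Q := act 5 n20252
theorem D42870 : act 5 n20252 = n42870 := rfl
theorem F67182 : act 7 n42870 = n35787 := d13_2 (iv7 F32122) D42870 (iv5 D35787)
def n42871 : Q := act 6 n20252
theorem D42871 : act 6 n20252 = n42871 := rfl
theorem F67183 : act 4 n42871 = n20253 := d10_1 D42871 (iv6 D20253) D20252
def n42872 : Q := act 0 n20253
theorem D42872 : act 0 n20253 = n42872 := rfl
def n42873 : Q := act 1 n20253
theorem D42873 : act 1 n20253 = n42873 := rfl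
def n42874 : Q := act 7 n20253
theorem D42874 : act 7 n20253 = n42874 := rfl
theorem F67184 : act 3 n42874 = n26961 := d8_1 D42874 (iv7 D26961) (iv3 F32123)
theorem F67185 : act 5 n42874 = n37096 := d13_1 D42874 (iv7 D37096) (iv5 F32124)
theorem F67186 : act 6 n42874 = n35791 := d14_1 D42874 (iv7 D35791) (iv6 D17341) (iv7 F14934) D20253
def n42875 : Q := act 3 n20254
theorem D42875 : act 3 n20254 = n42875 := rfl
def n42876 : Q := act 6 n20254
theorem D42876 : act 6 n20254 = n42876 := rfl
def n42877 : Q := act 3 n20255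
theorem D42877 : act 3 n20255 = n42877 := rfl
theorem F67187 : act 4 n42877 = n41871 := d5_2 (iv4 F32125) D42877 (iv3 D41871) (iv4 D19712) (iv3 F31452)
def n42878 : Q := act 6 n20255
theorem D42878 : act 6 n20255 = n42878 := rfl
theorem F67188 : act 4 n42878 = n41869 := d10_1 D42878 (iv6 D41869) (iv4 F32125)
theorem F67189 : act 0 n42878 = n42774 := d20_7 (iv4 F32251) (iv1 F32254) (iv4 F32249) D23681 F65737 (iv3 F64535) (iv4 F67188) F67030 F32043 F15451
def n42879 : Q := act 0 n20256
theorem D42879 : act 0 n20256 = n42879 := rfl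
def n42880 : Q := act 1 n20256
theorem D42880 : act 1 n20256 = n42880 := rfl
def n42881 : Q := act 2 n20256
theorem D42881 : act 2 n20256 = n42881 := rfl
theorem F67190 : act 4 n42881 = n20264 := d1_2 (iv4 F32126) D42881 (iv2 D20264)
def n42884 : Q := act 4 n20257
theorem D42884 : act 4 n20257 = n42884 := rfl
theorem F67194 : act 2 n42884 = n35787 := d1_1 D42884 (iv4 F67167) F67166
theorem F67195 : act 5 n42884 = n35780 := d16_3 D9577 D20257 D42884 (iv4 D35780) (iv5 D17338) F12884 D9594 F14948 F14929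
def n42885 : Q := act 6 n20257
theorem D42885 : act 6 n20257 = n42885 := rfl
def n42886 : Q := act 0 n20258
theorem D42886 : act 0 n20258 = n42886 := rfl
def n42890 : Q := act 3 n20259
theorem D42890 : act 3 n20259 = n42890 := rfl
def n42893 : Q := act 3 n20260
theorem D42893 : act 3 n20260 = n42893 := rfl
theorem F67199 : act 7 n42893 = n42589 := d8_2 (iv7 F66607) D42893 (iv3 F66640)
def n42897 : Q := act 2 n20262
theorem D42897 : act 2 n20262 = n42897 := rfl
theorem F67201 : act 7 n20263 = n42897 := d15_2 (iv0 D20262) D20263 (iv2 D42897)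
def n42898 : Q := act 3 n20262
theorem D42898 : act 3 n20262 = n42898 := rfl
def n42899 : Q := act 4 n20262
theorem D42899 : act 4 n20262 = n42899 := rfl
def n42902 : Q := act 7 n20262
theorem D42902 : act 7 n20262 = n42902 := rfl
def n42903 : Q := act 3 n20263
theorem D42903 : act 3 n20263 = n42903 := rfl
def n42904 : Q := act 4 n20263
theorem D42904 : act 4 n20263 = n42904 := rfl
def n42905 : Q := act 5 n20263
theorem D42905 : act 5 n20263 = n42905 := rfl
def n42915 : Q := act 5 n20267
theorem D42915 : act 5 n20267 = n42915 := rfl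
theorem F67214 : act 1 n42915 = n42814 := d17_6 F31612 F17692 F32305 (iv5 D20359) F32137 D42915 (iv5 D42814) F64722 F64720
def n42916 : Q := act 6 n20267
theorem D42916 : act 6 n20267 = n42916 := rfl
theorem F67216 : act 4 n42916 = n20360 := d10_1 D42916 (iv6 D20360) F32137
theorem F67218 : act 0 n42916 = n42788 := d21_4 D42814 (iv1 F67214) (iv5 D42915) D42916 F67057 F32059 F32021 (iv5 F31531) D41952 (iv1 F64722)
def n42921 : Q := act 4 n20270
theorem D42921 : act 4 n20270 = n42921 := rfl
theorem F67232 : act 2 n42921 = n42612 := d1_1 D42921 (iv4 D42612) (iv2 F66523)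
theorem F67234 : act 7 n42921 = n42615 := d11_2 F66545 D42921 (iv4 D42615)
theorem F67235 : act 0 n20634 = n42921 := d20_7 (iv4 F32141) (iv1 F32143) (iv4 F32137) D20358 F66878 (iv3 F61542) F61543 (iv4 D42921) (iv3 D20270) (iv1 F14941)
def n42922 : Q := act 5 n20270
theorem D42922 : act 5 n20270 = n42922 := rfl
theorem F67240 : act 0 n42922 = n20973 := d21_1 D42922 (iv5 F65245) (iv6 D42243) (iv1 D19941) F14621 (iv5 D4267) D4265 (iv5 F16860) D9777 (iv1 F66522)
theorem F67241 : act 1 n42922 = n20999 := d15_1 (iv0 F67240) F66395 F66393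
def n42928 : Q := act 6 n20274
theorem D42928 : act 6 n20274 = n42928 := rfl
theorem F67253 : act 2 n42928 = n42928 := d3_1 D42928 (iv6 D42928) F32153
theorem F67254 : act 4 n42928 = n20276 := d10_1 D42928 (iv6 D20276) D20274
theorem F67255 : act 7 n42928 = n23461 := d14_2 (iv7 F32154) D42928 (iv6 D23461) (iv7 F17870) (iv6 F32146)
theorem F67256 : act 1 n42928 = n20723 := d15_0 F36570 (iv7 F67255) F67253
def n42930 : Q := act 6 n20277
theorem D42930 : act 6 n20277 = n42930 := rfl
theorem F67262 : act 2 n42930 = n42861 := d3_1 D42930 (iv6 D42861) (iv2 F32165)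
theorem F67263 : act 3 n42930 = n35139 := d7_1 D42930 (iv6 D35139) (iv3 F32166)
theorem F67264 : act 5 n42930 = n41268 := d12_1 D42930 (iv6 D41268) (iv5 D19412) (iv6 F17534) D20277
def n42931 : Q := act 3 n20278
theorem D42931 : act 3 n20278 = n42931 := rfl
theorem F67265 : act 4 n42931 = n42931 := d5_2 D20278 D42931 (iv3 D42931) (iv4 D20278) F14947
theorem F67266 : act 7 n42931 = n42864 := d8_2 (iv7 F32169) D42931 (iv3 D42864)
def n42932 : Q := act 5 n20278
theorem D42932 : act 5 n20278 = n42932 := rfl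
theorem F67267 : act 2 n42932 = n20283 := d2_1 D42932 (iv5 D20283) (iv2 F32168)
theorem F67268 : act 4 n42932 = n42870 := d9_1 D42932 (iv5 D42870) (iv4 D20252) (iv5 D9574) (iv4 D4318) D4319 D9577 D20257 D42884 F67195 (iv4 D35780) (iv5 D17338) F12884 D9594 D20278
theorem F67269 : act 7 n42932 = n42865 := d13_2 (iv7 F32169) D42932 (iv5 D42865)
theorem F67270 : act 0 n42932 = n41368 := d17_2 (iv1 F32171) D42932 (iv5 D41368) (iv4 D19484) (iv5 D9158) D9157 D19482 (iv0 F33742) F33741
def n42934 : Q := act 7 n20279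
theorem D42934 : act 7 n20279 = n42934 := rfl
theorem F67276 : act 5 n42934 = n42934 := d13_1 D42934 (iv7 D42934) F32174
theorem F67278 : act 1 n20286 = n42934 := d15_1 D20286 (iv7 D42934) F32172
theorem F67279 : act 1 n42934 = n20285 := d15_1 F67278 (iv7 F67020) F67018
def n42935 : Q := act 3 n20280
theorem D42935 : act 3 n20280 = n42935 := rfl
theorem F67282 : act 4 n42935 = n42598 := d5_2 F57158 D42935 (iv3 D42598) F31927 (iv3 F57155)
theorem F67283 : act 7 n42935 = n42875 := d8_2 (iv7 F32181) D42935 (iv3 D42875)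
def n42937 : Q := act 3 n20281
theorem D42937 : act 3 n20281 = n42937 := rfl
theorem F67285 : act 4 n42937 = n22950 := d5_2 (iv4 F32177) D42937 (iv3 D22950) (iv4 D10835) (iv3 F17373)
def n42938 : Q := act 6 n20281
theorem D42938 : act 6 n20281 = n42938 := rfl
theorem F67287 : act 2 n42938 = n42876 := d3_1 D42938 (iv6 D42876) (iv2 F32179)
theorem F67288 : act 4 n42938 = n22259 := d10_1 D42938 F34731 (iv4 F32177)
theorem F67289 : act 0 n41058 = n42938 := d18_2 F62508 D41058 F67288 (iv5 D22259) F17129 (iv0 F62729) (iv4 D19322) (iv0 F62491) D20648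
theorem F67290 : act 0 n42938 = n20707 := d20_7 (iv4 F15442) (iv1 F15444) F15437 D10952 (iv1 F65761) (iv3 F34730) (iv4 F67288) (iv4 D20707) (iv3 D9813) (iv1 F6356)
def n42939 : Q := act 0 n20282
theorem D42939 : act 0 n20282 = n42939 := rfl
theorem F67291 : act 1 n42881 = n42939 := d15_0 (iv0 D42939) F32183 D42881
def n42940 : Q := act 1 n20282
theorem D42940 : act 1 n20282 = n42940 := rfl
def n42941 : Q := act 2 n20282
theorem D42941 : act 2 n20282 = n42941 := rfl
theorem F67292 : act 4 n42941 = n20290 := d1_2 (iv4 F32182) D42941 (iv2 D20290)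
theorem F67293 : act 7 n42941 = n42881 := d4_2 (iv7 F32183) D42941 (iv2 D42881)
theorem F67294 : act 1 n42941 = n42879 := d15_0 (iv0 D42879) (iv7 F32183) D42941
theorem F67295 : act 1 n42940 = n42881 := d15_1 D42940 (iv7 F67293) (iv2 D42941)
def n42942 : Q := act 5 n20282
theorem D42942 : act 5 n20282 = n42942 := rfl
theorem F67297 : act 3 n42942 = n20283 := d6_1 D42942 (iv5 D20283) D20282
def n42943 : Q := act 6 n20282
theorem D42943 : act 6 n20282 = n42943 := rfl
theorem F67299 : act 3 n42943 = n20284 := d7_1 D42943 (iv6 D20284) D20282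
theorem F67300 : act 4 n42943 = n20291 := d10_1 D42943 (iv6 D20291) (iv4 F32182)
def n42944 : Q := act 4 n20283
theorem D42944 : act 4 n20283 = n42944 := rfl
theorem F67301 : act 2 n42944 = n42870 := d1_1 D42944 (iv4 F67268) F67267
theorem F67302 : act 5 n42944 = n42862 := d9_2 D20283 D42944 (iv4 D42862) (iv5 D20249) (iv4 D9570) D9571 D20250 D42865 F67167 (iv5 D35787) (iv4 D17340) (iv5 D8120) F5677 D4325 D9597
theorem F67303 : act 7 n42944 = n42884 := d11_2 (iv7 F32184) D42944 (iv4 D42884)
def n42945 : Q := act 6 n20283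
theorem D42945 : act 6 n20283 = n42945 := rfl
def n42947 : Q := act 1 n20284
theorem D42947 : act 1 n20284 = n42947 := rfl
def n42948 : Q := act 5 n20284
theorem D42948 : act 5 n20284 = n42948 := rfl
def n42950 : Q := act 3 n20285
theorem D42950 : act 3 n20285 = n42950 := rfl
def n42951 : Q := act 4 n20285
theorem D42951 : act 4 n20285 = n42951 := rfl
def n42952 : Q := act 5 n20285
theorem D42952 : act 5 n20285 = n42952 := rfl
theorem F67306 : act 6 n42952 = n20662 := d12_2 (iv6 F64606) D42952 (iv5 F66180) F66181 D41892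
theorem F67307 : act 7 n42952 = n23423 := d13_2 F67020 D42952 (iv5 F67019)
def n42953 : Q := act 3 n20286
theorem D42953 : act 3 n20286 = n42953 := rfl
theorem F67309 : act 6 n42953 = n42727 := d7_2 F66339 D42953 (iv3 D42727)
def n42954 : Q := act 4 n20286
theorem D42954 : act 4 n20286 = n42954 := rfl
theorem F67310 : act 6 n42954 = n42728 := d10_2 F66339 D42954 (iv4 D42728)
def n42955 : Q := act 5 n20286
theorem D42955 : act 5 n20286 = n42955 := rfl
theorem F67312 : act 6 n42955 = n23372 := d21_3 F67276 (iv1 F67278) D42955 (iv1 F36502) (iv6 F31493) F31492 (iv1 F31478) D41892 (iv6 F64606) (iv1 F67279)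
def n42956 : Q := act 2 n20288
theorem D42956 : act 2 n20288 = n42956 := rfl
def n42957 : Q := act 3 n20288
theorem D42957 : act 3 n20288 = n42957 := rfl
def n42958 : Q := act 4 n20288
theorem D42958 : act 4 n20288 = n42958 := rfl
def n42959 : Q := act 5 n20288
theorem D42959 : act 5 n20288 = n42959 := rfl
def n42961 : Q := act 7 n20288
theorem D42961 : act 7 n20288 = n42961 := rfl
def n42962 : Q := act 3 n20289
theorem D42962 : act 3 n20289 = n42962 := rfl
def n42963 : Q := act 4 n20289
theorem D42963 : act 4 n20289 = n42963 := rfl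
def n42964 : Q := act 5 n20289
theorem D42964 : act 5 n20289 = n42964 := rfl
def n42971 : Q := act 3 n20292
theorem D42971 : act 3 n20292 = n42971 := rfl
theorem F67321 : act 6 n42971 = n42029 := d7_2 (iv6 F32197) D42971 (iv3 D42029)
def n42979 : Q := act 3 n20297
theorem D42979 : act 3 n20297 = n42979 := rfl
theorem F67338 : act 6 n42979 = n41935 := d7_2 (iv6 F32213) D42979 (iv3 D41935)
def n42980 : Q := act 5 n20297
theorem D42980 : act 5 n20297 = n42980 := rfl
def n42981 : Q := act 4 n20298
theorem D42981 : act 4 n20298 = n42981 := rfl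
theorem F67342 : act 7 n42981 = n23488 := d11_2 (iv7 F32217) D42981 F36600
def n42982 : Q := act 4 n20299
theorem D42982 : act 4 n20299 = n42982 := rfl
theorem F67345 : act 7 n42982 = n42642 := d11_2 F35787 D42982 (iv4 D42642)
def n42983 : Q := act 3 n20300
theorem D42983 : act 3 n20300 = n42983 := rfl
theorem F67347 : act 7 n42983 = n42979 := d8_2 (iv7 F32222) D42983 (iv3 D42979)
def n42986 : Q := act 0 n20302
theorem D42986 : act 0 n20302 = n42986 := rfl
theorem F67352 : act 1 n20307 = n42986 := d15_0 (iv0 D42986) (iv7 F32229) (iv2 F32230)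
def n42987 : Q := act 1 n20302
theorem D42987 : act 1 n20302 = n42987 := rfl
def n42988 : Q := act 3 n20302
theorem D42988 : act 3 n20302 = n42988 := rfl
theorem F67354 : act 7 n42988 = n20308 := d8_2 F32229 D42988 (iv3 D20308)
def n42989 : Q := act 4 n20302
theorem D42989 : act 4 n20302 = n42989 := rfl
theorem F67355 : act 2 n42989 = n20304 := d1_1 D42989 (iv4 D20304) D20302
theorem F67356 : act 7 n42989 = n20309 := d11_2 F32229 D42989 (iv4 D20309)
def n42990 : Q := act 5 n20302
theorem D42990 : act 5 n20302 = n42990 := rfl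
theorem F67357 : act 2 n42990 = n20305 := d2_1 D42990 (iv5 D20305) D20302
theorem F67358 : act 7 n42990 = n20310 := d13_2 F32229 D42990 (iv5 D20310)
def n42992 : Q := act 0 n20303
theorem D42992 : act 0 n20303 = n42992 := rfl
def n42993 : Q := act 1 n20303
theorem D42993 : act 1 n20303 = n42993 := rfl
def n42994 : Q := act 2 n20303
theorem D42994 : act 2 n20303 = n42994 := rfl
def n42995 : Q := act 4 n20303
theorem D42995 : act 4 n20303 = n42995 := rfl
theorem F67360 : act 0 n42995 = n23683 := d20_7 (iv4 D4102) F3025 D1829 D4328 D9604 D20303 D42995 F36835 (iv3 D11092) F7527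
theorem F67361 : act 0 n40477 = n42995 := d20_1 (iv4 F61575) (iv4 D42995) (iv3 D20303) D20301 F32225 (iv4 F66900) (iv1 F66902) D42686 (iv3 F66905) (iv1 F36839)
def n42996 : Q := act 5 n20303
theorem D42996 : act 5 n20303 = n42996 := rfl
theorem F67362 : act 3 n42996 = n20305 := d6_1 D42996 (iv5 D20305) D20303
def n42997 : Q := act 6 n20303
theorem D42997 : act 6 n20303 = n42997 := rfl
def n42998 : Q := act 7 n20303
theorem D42998 : act 7 n20303 = n42998 := rfl
theorem F67364 : act 3 n42998 = n20307 := d8_1 D42998 (iv7 D20307) D20303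
def n42999 : Q := act 0 n20304
theorem D42999 : act 0 n20304 = n42999 := rfl
theorem F67365 : act 4 n42999 = n41340 := d20_2 D20304 D42999 (iv3 D41340) (iv1 D19466) (iv3 D9143) (iv4 D4102) F3025 D1829 D4328 D9604
def n43000 : Q := act 1 n20304
theorem D43000 : act 1 n20304 = n43000 := rfl
theorem F67366 : act 1 n43000 = n20309 := d15_1 D43000 (iv7 F67356) F67355
def n43001 : Q := act 3 n20304
theorem D43001 : act 3 n20304 = n43001 := rfl
def n43002 : Q := act 5 n20304
theorem D43002 : act 5 n20304 = n43002 := rfl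
def n43003 : Q := act 6 n20304
theorem D43003 : act 6 n20304 = n43003 := rfl
def n43004 : Q := act 7 n20304
theorem D43004 : act 7 n20304 = n43004 := rfl
theorem F67368 : act 2 n43004 = n20309 := d4_1 D43004 (iv7 F67356) F67355
theorem F67369 : act 4 n43004 = n20307 := d11_1 D43004 (iv7 D20307) D20304
theorem F67370 : act 1 n20309 = n42999 := d15_0 (iv0 D42999) D43004 F67368
def n43005 : Q := act 0 n20305
theorem D43005 : act 0 n20305 = n43005 := rfl
def n43006 : Q := act 1 n20305
theorem D43006 : act 1 n20305 = n43006 := rfl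
def n43007 : Q := act 4 n20305
theorem D43007 : act 4 n20305 = n43007 := rfl
def n43009 : Q := act 7 n20305
theorem D43009 : act 7 n20305 = n43009 := rfl
theorem F67372 : act 2 n43009 = n20310 := d4_1 D43009 (iv7 F67358) F67357
theorem F67374 : act 1 n20310 = n43005 := d15_0 (iv0 D43005) D43009 F67372
def n43015 : Q := act 0 n20308
theorem D43015 : act 0 n20308 = n43015 := rfl
theorem F67376 : act 4 n43015 = n41286 := d20_0 (iv1 F64989) F64987 F31659 (iv1 F31664) D41340 (iv4 F67365) (iv1 F67370) (iv4 D20309) D20308 D43015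
theorem F67377 : act 3 n43015 = n42993 := d20_3 (iv4 F31080) D41286 (iv4 F67376) (iv1 D42993) (iv3 D20303) D20304 D42999 F67365 (iv3 D41340) (iv1 D19466)
def n43016 : Q := act 1 n20308
theorem D43016 : act 1 n20308 = n43016 := rfl
def n43017 : Q := act 2 n20308
theorem D43017 : act 2 n20308 = n43017 := rfl
def n43018 : Q := act 4 n20308
theorem D43018 : act 4 n20308 = n43018 := rfl
theorem F67378 : act 0 n42090 = n43018 := d20_1 D42090 (iv4 D43018) (iv3 D20308) (iv1 D9605) (iv3 D4328) (iv4 D1829) (iv1 F3067) D4222 D9338 D19845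
def n43019 : Q := act 5 n20308
theorem D43019 : act 5 n20308 = n43019 := rfl
theorem F67379 : act 3 n43019 = n20310 := d6_1 D43019 (iv5 D20310) D20308
def n43020 : Q := act 6 n20308
theorem D43020 : act 6 n20308 = n43020 := rfl
def n43021 : Q := act 3 n20309
theorem D43021 : act 3 n20309 = n43021 := rfl
def n43022 : Q := act 5 n20309
theorem D43022 : act 5 n20309 = n43022 := rfl
def n43023 : Q := act 6 n20309
theorem D43023 : act 6 n20309 = n43023 := rfl
def n43036 : Q := act 3 n20313
theorem D43036 : act 3 n20313 = n43036 := rfl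
theorem F67384 : act 4 n43036 = n40476 := d20_6 (iv4 D4222) (iv1 F3111) (iv4 F6227) (iv3 F14969) (iv1 F32232) D43036 (iv1 D40476) F30737 (iv3 D8978) (iv1 F6131)
def n43040 : Q := act 4 n20314
theorem D43040 : act 4 n20314 = n43040 := rfl
theorem F67385 : act 2 n43040 = n20317 := d1_1 D43040 (iv4 D20317) (iv2 F32233)
theorem F67386 : act 7 n43040 = n20637 := d11_2 (iv7 F32235) D43040 F32752
theorem F67387 : act 1 n20636 = n43040 := d15_1 D20636 F67386 (iv2 D20637)
theorem F67388 : act 1 n43040 = n20635 := d15_0 (iv0 D20635) (iv7 F32241) (iv2 F67385)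
def n43042 : Q := act 2 n20315
theorem D43042 : act 2 n20315 = n43042 := rfl
theorem F67391 : act 7 n20316 = n43042 := d15_2 (iv0 D20315) D20316 (iv2 D43042)
def n43043 : Q := act 3 n20315
theorem D43043 : act 3 n20315 = n43043 := rfl
theorem F67392 : act 4 n43043 = n40523 := d20_6 (iv4 D4326) (iv1 F3155) (iv4 F6224) (iv3 F14967) D20315 D43043 (iv1 D40523) F30766 (iv3 D8997) (iv1 F6220)
def n43044 : Q := act 4 n20315
theorem D43044 : act 4 n20315 = n43044 := rfl
def n43045 : Q := act 5 n20315
theorem D43045 : act 5 n20315 = n43045 := rfl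
def n43047 : Q := act 7 n20315
theorem D43047 : act 7 n20315 = n43047 := rfl
theorem F67393 : act 2 n43047 = n20316 := d4_1 D43047 F67391 (iv2 D43042)
def n43048 : Q := act 3 n20316
theorem D43048 : act 3 n20316 = n43048 := rfl
def n43049 : Q := act 4 n20316
theorem D43049 : act 4 n20316 = n43049 := rfl
def n43050 : Q := act 5 n20316
theorem D43050 : act 5 n20316 = n43050 := rfl
def n43052 : Q := act 0 n20317
theorem D43052 : act 0 n20317 = n43052 := rfl
theorem F67394 : act 1 n20637 = n43052 := d15_0 (iv0 D43052) F32241 D20637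
def n43053 : Q := act 1 n20317
theorem D43053 : act 1 n20317 = n43053 := rfl
theorem F67395 : act 1 n43053 = n20637 := d15_1 D43053 (iv7 F67386) F67385
theorem F67396 : act 4 n40529 = n43053 := d20_6 (iv4 D4338) F3119 D4019 D8997 D19148 D40529 (iv1 D43053) (iv4 D20317) F14967 (iv1 F6243)
def n43054 : Q := act 5 n20317
theorem D43054 : act 5 n20317 = n43054 := rfl
theorem F67397 : act 3 n43054 = n20641 := d6_1 D43054 F32760 (iv3 F32240)
theorem F67398 : act 7 n43054 = n20638 := d13_2 (iv7 F32241) D43054 (iv5 D20638)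
def n43055 : Q := act 6 n20317
theorem D43055 : act 6 n20317 = n43055 := rfl
theorem F67399 : act 3 n43055 = n20642 := d7_1 D43055 (iv6 D20642) (iv3 F32240)
def n43065 : Q := act 5 n20321
theorem D43065 : act 5 n20321 = n43065 := rfl
def n43078 : Q := act 3 n20326
theorem D43078 : act 3 n20326 = n43078 := rfl
theorem F67429 : act 7 n43078 = n20332 := d8_2 F32261 D43078 (iv3 D20332)
def n43080 : Q := act 5 n20326
theorem D43080 : act 5 n20326 = n43080 := rfl
theorem F67432 : act 2 n43080 = n20329 := d2_1 D43080 (iv5 D20329) D20326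
theorem F67433 : act 7 n43080 = n20330 := d13_2 F32261 D43080 F32264
def n43081 : Q := act 6 n20326
theorem D43081 : act 6 n20326 = n43081 := rfl
theorem F67434 : act 2 n43081 = n20330 := d3_1 D43081 (iv6 D20330) D20326
theorem F67436 : act 7 n20329 = n43081 := d4_0 F67434 (iv7 F67433) F67432
theorem F67437 : act 7 n20334 = n23489 := d14_4 F67436 (iv6 D43081) (iv7 F32261) D20334 (iv6 F36603)
theorem F67438 : act 2 n23489 = n23489 := d15_3 F36601 F32267 F67437
theorem F67439 : act 2 n20334 = n20334 := d4_1 (iv7 F67437) F67437 F67438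
theorem E7950 : n20331 = n9612 := (c3_4 D20334 F67439 (iv6 D20334) (iv2 F32265))
theorem E7954 : n20326 = n9611 := ((F32261).symm.trans (sb E7950 (iv7 D20331)))
theorem E7956 : n43078 = n20327 := (((D20327).symm.trans (sb E7954 D43078))).symm
theorem F67443 : act 7 n9611 = n9612 := (sb E7954 (iv7 F32261))
theorem F67446 : act 7 n20327 = n20332 := (sb E7956 F67429)
def n43082 : Q := act 0 n20327
theorem D43082 : act 0 n20327 = n43082 := rfl
def n43085 : Q := act 4 n20327
theorem D43085 : act 4 n20327 = n43085 := rfl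
def n43086 : Q := act 5 n20327
theorem D43086 : act 5 n20327 = n43086 := rfl
theorem F67451 : act 3 n43086 = n20329 := d6_1 D43086 (iv5 D20329) D20327
def n43087 : Q := act 6 n20327
theorem D43087 : act 6 n20327 = n43087 := rfl
theorem F67452 : act 3 n43087 = n20330 := d7_1 D43087 (iv6 D20330) D20327
theorem F67453 : act 5 n20332 = n43087 := d6_0 F67452 F32264 D20332
def n43092 : Q := act 0 n20332
theorem D43092 : act 0 n20332 = n43092 := rfl
def n43094 : Q := act 2 n20332
theorem D43094 : act 2 n20332 = n43094 := rfl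
theorem F67465 : act 1 n43094 = n43082 := d15_0 (iv0 D43082) F67446 D43094
def n43095 : Q := act 4 n20332
theorem D43095 : act 4 n20332 = n43095 := rfl
theorem F67468 : act 7 n43095 = n43085 := d11_2 F67446 D43095 (iv4 D43085)
def n43096 : Q := act 6 n20332
theorem D43096 : act 6 n20332 = n43096 := rfl
theorem F67469 : act 3 n43096 = n20334 := d7_1 D43096 (iv6 D20334) D20332
def n43099 : Q := act 6 n20333
theorem D43099 : act 6 n20333 = n43099 := rfl
theorem F67474 : act 4 n43099 = n20334 := d10_1 D43099 (iv6 D20334) D20333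
def n43100 : Q := act 3 n20335
theorem D43100 : act 3 n20335 = n43100 := rfl
theorem F67475 : act 4 n43100 = n20337 := d5_2 D20335 D43100 (iv3 D20337) (iv4 D9617) (iv3 F14986)
theorem F67476 : act 7 n43100 = n35888 := d8_2 (iv7 F32268) D43100 (iv3 D35888)
def n43101 : Q := act 5 n20335
theorem D43101 : act 5 n20335 = n43101 := rfl
theorem F67477 : act 7 n43101 = n35889 := d13_2 (iv7 F32268) D43101 (iv5 D35889)
def n43102 : Q := act 6 n20335
theorem D43102 : act 6 n20335 = n43102 := rfl
theorem F67478 : act 4 n43102 = n20336 := d10_1 D43102 (iv6 D20336) D20335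
def n43103 : Q := act 0 n20336
theorem D43103 : act 0 n20336 = n43103 := rfl
theorem F67479 : act 6 n43103 = n37801 := d21_5 (iv5 D16713) F17488 D9616 D20336 D43103 (iv5 D37801) (iv1 D18125) D18126 F29291 F27407
def n43104 : Q := act 1 n20336
theorem D43104 : act 1 n20336 = n43104 := rfl
def n43105 : Q := act 7 n20336
theorem D43105 : act 7 n20336 = n43105 := rfl
theorem F67480 : act 3 n43105 = n20341 := d8_1 D43105 (iv7 D20341) (iv3 F32269)
theorem F67481 : act 5 n43105 = n37165 := d13_1 D43105 (iv7 D37165) (iv5 F32270)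
theorem F67482 : act 6 n43105 = n35893 := d14_1 D43105 (iv7 D35893) (iv6 D17377) (iv7 F14987) D20336
def n43106 : Q := act 0 n20337
theorem D43106 : act 0 n20337 = n43106 := rfl
theorem F67483 : act 1 n35896 = n43106 := d15_0 (iv0 D43106) F32272 D35896
def n43107 : Q := act 1 n20337
theorem D43107 : act 1 n20337 = n43107 := rfl
def n43108 : Q := act 2 n20337
theorem D43108 : act 2 n20337 = n43108 := rfl
theorem F67484 : act 3 n43108 = n35872 := d0_2 D20337 D43108 (iv2 D35872) (iv3 D17369) (iv2 F14988)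
theorem F67485 : act 5 n43108 = n35872 := d2_2 (iv5 F32271) D43108 (iv2 D35872)
theorem F67486 : act 7 n43108 = n35896 := d4_2 (iv7 F32272) D43108 (iv2 D35896)
theorem F67487 : act 1 n43108 = n35894 := d15_0 (iv0 D35894) (iv7 F32272) D43108
theorem F67488 : act 1 n43107 = n35896 := d15_1 D43107 (iv7 F67486) (iv2 D43108)
theorem F67489 : act 1 n35895 = n43108 := d15_1 D35895 F67486 (iv2 D35896)
def n43109 : Q := act 6 n20337
theorem D43109 : act 6 n20337 = n43109 := rfl
theorem F67490 : act 3 n43109 = n20338 := d7_1 D43109 (iv6 D20338) D20337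
def n43110 : Q := act 0 n20338
theorem D43110 : act 0 n20338 = n43110 := rfl
def n43111 : Q := act 1 n20338
theorem D43111 : act 1 n20338 = n43111 := rfl
theorem F67491 : act 1 n43111 = n35877 := d15_1 D43111 (iv7 D35877) (iv2 F32273)
def n43113 : Q := act 7 n20338
theorem D43113 : act 7 n20338 = n43113 := rfl
theorem F67494 : act 2 n43113 = n35877 := d4_1 D43113 (iv7 D35877) (iv2 F32273)
theorem F67495 : act 4 n43113 = n20341 := d11_1 D43113 (iv7 D20341) (iv4 F32274)
theorem F67496 : act 6 n43113 = n35901 := d14_1 D43113 (iv7 D35901) (iv6 D17379) (iv7 F14989) D20338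
theorem F67497 : act 1 n35877 = n43110 := d15_0 (iv0 D43110) D43113 F67494
theorem F67498 : act 1 n35875 = n43113 := d15_1 D35875 (iv7 D43113) F32273
theorem F67499 : act 1 n43113 = n35772 := d15_0 F61341 D35877 (iv2 F67494)
theorem E7958 : n37147 = n37129 := ((c18_2 D17862 D37129 (iv1 F58098) F58082 (iv5 F32278) (iv4 F67495) F67499 (iv4 D35772) (iv0 D17333) (iv5 F13218))).symm
theorem F67500 : act 0 n37129 = n37141 := (sb E7958 (iv1 F58098))
theorem F67501 : act 1 n37129 = n17868 := (sb E7958 (iv0 D37147))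
theorem E7959 : n37148 = n37132 := (c15_2 F67501 D37148 F58075 (iv2 F58066))
theorem F67502 : act 0 n37132 = n17868 := (sb E7959 (iv1 D37148))
theorem F67503 : act 1 n37132 = n37141 := (sb E7959 F58092)
theorem E7960 : n35875 = n35775 := (c18_7 (iv1 F29026) D37132 F67502 F29038 F13243 (iv4 F28322) D35875 (iv4 D35775) F43504 F43501)
theorem F67504 : act 0 n35775 = n17370 := (sb E7960 (iv1 D35875))
theorem F67505 : act 1 n35775 = n43113 := (sb E7960 F67498)
def n43114 : Q := act 3 n20339
theorem D43114 : act 3 n20339 = n43114 := rfl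
theorem F67506 : act 6 n43114 = n27899 := d7_2 (iv6 F32275) D43114 F45048
theorem F67507 : act 7 n43114 = n35881 := d8_2 F44687 D43114 (iv3 D35881)
def n43115 : Q := act 4 n20339
theorem D43115 : act 4 n20339 = n43115 := rfl
theorem F67508 : act 2 n43115 = n35879 := d1_1 D43115 (iv4 D35879) F44685
theorem F67509 : act 6 n43115 = n27901 := d10_2 (iv6 F32275) D43115 (iv4 D27901)
theorem F67510 : act 7 n43115 = n35882 := d11_2 F44687 D43115 (iv4 D35882)
theorem F67511 : act 1 n26958 = n35882 := d15_1 (iv0 F60648) (iv7 F67510) F67508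
theorem F67512 : act 1 n35882 = n35770 := d15_1 F67511 (iv7 D35770) (iv2 F43496)
theorem E7961 : n37182 = n37102 := (c18_2 (iv1 F29049) D37182 (iv1 D37102) F29009 (iv5 F21410) (iv4 F43497) F67511 (iv4 D35882) F32281 F32278)
theorem F67514 : act 4 n37102 = n17880 := (sb E7961 (iv4 D37182))
theorem F67516 : act 7 n37102 = n37167 := (sb E7961 F58137)
theorem E7962 : n37178 = n37101 := (c15_4 (iv0 D37101) D37102 F67516 (iv2 F58123))
theorem F67517 : act 2 n37101 = n37167 := (sb E7962 F58123)
theorem F67518 : act 4 n37101 = n17879 := (sb E7962 (iv4 D37178))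
theorem F67519 : act 7 n37101 = n37170 := (sb E7962 F58124)
theorem F67520 : act 0 n35879 = n35770 := d18_2 D17371 D35879 F56441 (iv5 F29028) (iv4 F58060) F58064 F67518 (iv0 D17879) F13243
def n43116 : Q := act 3 n20340
theorem D43116 : act 3 n20340 = n43116 := rfl
theorem F67521 : act 7 n43116 = n35878 := d8_2 (iv7 F44686) D43116 (iv3 D35878)
def n43117 : Q := act 4 n20340
theorem D43117 : act 4 n20340 = n43117 := rfl
theorem F67522 : act 2 n43117 = n35882 := d1_1 D43117 (iv4 D35882) (iv2 F44688)
theorem F67523 : act 7 n43117 = n35879 := d11_2 (iv7 F44686) D43117 (iv4 D35879)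
def n43118 : Q := act 6 n20340
theorem D43118 : act 6 n20340 = n43118 := rfl
theorem F67524 : act 2 n43118 = n35884 := d3_1 D43118 (iv6 D35884) (iv2 F44688)
theorem F67525 : act 7 n43118 = n27894 := d14_2 (iv7 F44686) D43118 (iv6 D27894) F44664 (iv6 F28323)
theorem F67526 : act 0 n43118 = n39053 := d21_4 F44700 F58133 F58131 D43118 F60050 (iv5 D18545) D18543 F29723 D34800 F55003
theorem F67527 : act 0 n27745 = n43118 := d21_4 F29830 (iv1 F29887) (iv5 F29890) D27745 (iv6 D43118) (iv5 F58131) F58132 F44165 (iv6 D18604) D18601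
def n43119 : Q := act 3 n20342
theorem D43119 : act 3 n20342 = n43119 := rfl
def n43120 : Q := act 6 n20342
theorem D43120 : act 6 n20342 = n43120 := rfl
theorem F67528 : act 4 n43120 = n38855 := d10_1 D43120 (iv6 D38855) (iv4 F32283)
theorem F67529 : act 0 n23307 = n43120 := d18_2 F65736 D23307 F67528 F59873 F32422 F62610 (iv4 D10946) (iv0 F62709) (iv5 F17239)
def n43121 : Q := act 3 n20343
theorem D43121 : act 3 n20343 = n43121 := rfl
theorem F67530 : act 4 n43121 = n42065 := d5_2 (iv4 F32284) D43121 (iv3 D42065) (iv4 D19837) (iv3 F29648)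
def n43122 : Q := act 6 n20343
theorem D43122 : act 6 n20343 = n43122 := rfl
theorem F67531 : act 4 n43122 = n38862 := d10_1 D43122 (iv6 D38862) (iv4 F32284)
def n43123 : Q := act 0 n20344
theorem D43123 : act 0 n20344 = n43123 := rfl
def n43124 : Q := act 1 n20344
theorem D43124 : act 1 n20344 = n43124 := rfl
theorem F67532 : act 4 n42957 = n43124 := d20_6 (iv4 D1860) (iv1 F3107) D4326 D9599 D20288 D42957 (iv1 D43124) F32285 (iv3 D9634) F6244
def n43125 : Q := act 2 n20344
theorem D43125 : act 2 n20344 = n43125 := rfl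
theorem F67533 : act 4 n43125 = n20352 := d1_2 (iv4 F32285) D43125 (iv2 D20352)
def n43128 : Q := act 4 n20345
theorem D43128 : act 4 n20345 = n43128 := rfl
theorem F67537 : act 2 n43128 = n35889 := d1_1 D43128 (iv4 F63839) F63838
theorem F67538 : act 5 n43128 = n35885 := d16_3 D9632 D20345 D43128 (iv4 D35885) (iv5 D17375) F12904 D9649 F17509 F17459
def n43130 : Q := act 0 n20346
theorem D43130 : act 0 n20346 = n43130 := rfl
def n43131 : Q := act 1 n20346
theorem D43131 : act 1 n20346 = n43131 := rfl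
def n43133 : Q := act 7 n20346
theorem D43133 : act 7 n20346 = n43133 := rfl
theorem F67539 : act 4 n43133 = n20349 := d11_1 D43133 (iv7 D20349) (iv4 F32286)
def n43134 : Q := act 3 n20347
theorem D43134 : act 3 n20347 = n43134 := rfl
def n43135 : Q := act 4 n20347
theorem D43135 : act 4 n20347 = n43135 := rfl
def n43137 : Q := act 3 n20348
theorem D43137 : act 3 n20348 = n43137 := rfl
def n43138 : Q := act 4 n20348
theorem D43138 : act 4 n20348 = n43138 := rfl
def n43139 : Q := act 5 n20348
theorem D43139 : act 5 n20348 = n43139 := rfl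
theorem F67543 : act 0 n41550 = n43139 := d21_10 (iv5 D43139) (iv1 D20348) (iv5 F15933) (iv6 D10078) (iv1 F17444) (iv6 F14375) (iv5 D9207) D9205 D19563 D41550
def n43140 : Q := act 6 n20348
theorem D43140 : act 6 n20348 = n43140 := rfl
def n43141 : Q := act 2 n20350
theorem D43141 : act 2 n20350 = n43141 := rfl
theorem F67546 : act 7 n20351 = n43141 := d15_2 (iv0 D20350) D20351 (iv2 D43141)
def n43142 : Q := act 3 n20350
theorem D43142 : act 3 n20350 = n43142 := rfl
theorem F67547 : act 4 n43142 = n42940 := d20_6 (iv4 D5069) F3377 D4338 D9634 D20350 D43142 (iv1 D42940) F32182 (iv3 D9599) (iv1 F7519)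
def n43143 : Q := act 4 n20350
theorem D43143 : act 4 n20350 = n43143 := rfl
def n43144 : Q := act 5 n20350
theorem D43144 : act 5 n20350 = n43144 := rfl
def n43146 : Q := act 7 n20350
theorem D43146 : act 7 n20350 = n43146 := rfl
theorem F67548 : act 2 n43146 = n20351 := d4_1 D43146 F67546 (iv2 D43141)
def n43147 : Q := act 3 n20351
theorem D43147 : act 3 n20351 = n43147 := rfl
def n43148 : Q := act 4 n20351
theorem D43148 : act 4 n20351 = n43148 := rfl
def n43149 : Q := act 5 n20351
theorem D43149 : act 5 n20351 = n43149 := rfl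
def n43164 : Q := act 5 n20358
theorem D43164 : act 5 n20358 = n43164 := rfl
theorem F67576 : act 3 n43164 = n20359 := d6_1 D43164 (iv5 D20359) D20358
theorem F67578 : act 6 n21767 = n43164 := d21_5 (iv5 D4664) (iv1 F3252) D4703 D10387 D21767 (iv5 D43164) F66878 F30724 (iv6 D10375) (iv1 F16885)
theorem E7963 : n21767 = n21151 := ((c7_4 F67578 F67576 (iv6 F32306) D21151)).symm
theorem F67579 : act 0 n21151 = n21760 := (sb E7963 (iv1 F34214))
theorem F67580 : act 1 n21151 = n10387 := (sb E7963 (iv0 D21767))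
def n43167 : Q := act 6 n20361
theorem D43167 : act 6 n20361 = n43167 := rfl
theorem F67592 : act 2 n43167 = n41399 := d3_1 D43167 (iv6 D41399) (iv2 F32311)
theorem F67593 : act 3 n43167 = n36415 := d7_1 D43167 (iv6 D36415) (iv3 F32312)
theorem F67594 : act 4 n43167 = n38879 := d10_1 D43167 (iv6 D38879) F32316
theorem F67595 : act 5 n43167 = n22954 := d12_1 D43167 (iv6 D22954) (iv5 D10837) (iv6 F17563) D20361
def n43168 : Q := act 3 n20362
theorem D43168 : act 3 n20362 = n43168 := rfl
theorem F67596 : act 4 n43168 = n43168 := d5_2 D20362 D43168 (iv3 D43168) (iv4 D20362) F15019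
theorem F67597 : act 7 n43168 = n41400 := d8_2 (iv7 F32318) D43168 (iv3 D41400)
def n43169 : Q := act 5 n20362
theorem D43169 : act 5 n20362 = n43169 := rfl
theorem F67598 : act 2 n43169 = n20367 := d2_1 D43169 (iv5 D20367) (iv2 F32317)
theorem F67599 : act 4 n43169 = n43101 := d9_1 D43169 (iv5 D43101) (iv4 D20335) (iv5 D9616) F6232 D4337 D9632 D20345 D43128 F67538 (iv4 D35885) (iv5 D17375) F12904 D9649 D20362
theorem F67600 : act 7 n43169 = n41401 := d13_2 (iv7 F32318) D43169 (iv5 D41401)
theorem F67601 : act 0 n43169 = n41881 := d17_2 (iv1 F32320) D43169 (iv5 D41881) F31468 (iv5 D19046) F27429 D20115 F31931 (iv4 F32283)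
def n43170 : Q := act 6 n20362
theorem D43170 : act 6 n20362 = n43170 := rfl
theorem F67604 : act 4 n43170 = n20363 := d10_1 D43170 (iv6 D20363) D20362
def n43171 : Q := act 1 n20363
theorem D43171 : act 1 n20363 = n43171 := rfl
theorem F67605 : act 1 n43171 = n20371 := d15_1 D43171 (iv7 D20371) (iv2 F32321)
theorem F67606 : act 7 n43171 = n20369 := d15_2 (iv0 F64526) D43171 (iv2 F64524)
theorem F67607 : act 6 n22441 = n43171 := d21_3 F62669 (iv1 F64007) F64004 (iv1 D43171) (iv6 D20363) (iv5 D9649) F17461 D9150 (iv6 F17122) F62673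
theorem F67608 : act 5 n22937 = n43171 := d21_6 (iv5 D4942) (iv1 D2033) D2034 (iv6 F7354) D10828 D22937 (iv1 D43171) F32323 (iv6 D20363) F17507
def n43173 : Q := act 3 n20364
theorem D43173 : act 3 n20364 = n43173 := rfl
theorem F67616 : act 7 n43173 = n43119 := d8_2 F32327 D43173 (iv3 D43119)
def n43174 : Q := act 6 n20364
theorem D43174 : act 6 n20364 = n43174 := rfl
theorem F67617 : act 2 n43174 = n43122 := d3_1 D43174 (iv6 D43122) F32326
theorem F67618 : act 4 n43174 = n42620 := d10_1 D43174 (iv6 D42620) (iv4 F32324)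
def n43175 : Q := act 3 n20365
theorem D43175 : act 3 n20365 = n43175 := rfl
theorem F67619 : act 4 n43175 = n41264 := d5_2 F32330 D43175 (iv3 D41264) (iv4 D19410) (iv3 F27458)
def n43176 : Q := act 6 n20365
theorem D43176 : act 6 n20365 = n43176 := rfl
theorem F67621 : act 2 n43176 = n43120 := d3_1 D43176 (iv6 D43120) (iv2 F32331)
theorem F67622 : act 4 n43176 = n22653 := d10_1 D43176 F35221 F32330
theorem F67623 : act 0 n22582 = n43176 := d18_2 (iv1 F34757) D22582 F67622 (iv5 D22653) F17257 F62714 (iv4 D10703) F17146 (iv5 F34755)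
theorem F67624 : act 0 n43176 = n22577 := d20_7 (iv4 F17794) (iv1 F17796) (iv4 D9818) D9817 (iv1 F66159) (iv3 F35220) (iv4 F67622) (iv4 D22577) (iv3 F65729) (iv1 F7415)
def n43177 : Q := act 0 n20366
theorem D43177 : act 0 n20366 = n43177 := rfl
theorem F67625 : act 1 n43125 = n43177 := d15_0 (iv0 D43177) F32333 D43125
def n43178 : Q := act 1 n20366
theorem D43178 : act 1 n20366 = n43178 := rfl
theorem F67626 : act 4 n42898 = n43178 := d20_6 F6224 (iv1 F3156) D4320 D9579 D20262 D42898 (iv1 D43178) F32332 (iv3 D9654) F6259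
def n43179 : Q := act 2 n20366
theorem D43179 : act 2 n20366 = n43179 := rfl
theorem F67627 : act 4 n43179 = n20374 := d1_2 (iv4 F32332) D43179 (iv2 D20374)
theorem F67628 : act 7 n43179 = n43125 := d4_2 (iv7 F32333) D43179 (iv2 D43125)
theorem F67629 : act 1 n43179 = n43123 := d15_0 (iv0 D43123) (iv7 F32333) D43179
theorem F67630 : act 1 n43178 = n43125 := d15_1 D43178 (iv7 F67628) (iv2 D43179)
theorem F67631 : act 1 n43124 = n43179 := d15_1 D43124 F67628 (iv2 D43125)
def n43180 : Q := act 5 n20366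
theorem D43180 : act 5 n20366 = n43180 := rfl
theorem F67632 : act 3 n43180 = n20367 := d6_1 D43180 (iv5 D20367) D20366
def n43181 : Q := act 6 n20366
theorem D43181 : act 6 n20366 = n43181 := rfl
theorem F67634 : act 3 n43181 = n20368 := d7_1 D43181 (iv6 D20368) D20366
def n43182 : Q := act 4 n20367
theorem D43182 : act 4 n20367 = n43182 := rfl
theorem F67636 : act 2 n43182 = n43101 := d1_1 D43182 (iv4 F67599) F67598
theorem F67637 : act 5 n43182 = n34467 := d9_2 D20367 D43182 (iv4 D34467) (iv5 D16723) (iv4 F13604) D9174 D19501 D41401 F63839 (iv5 D35889) (iv4 D17376) (iv5 D8140) F5689 D4343 D9652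
theorem F67638 : act 7 n43182 = n43128 := d11_2 (iv7 F32334) D43182 (iv4 D43128)
theorem F67639 : act 0 n43182 = n38878 := d17_0 (iv5 D38878) (iv1 D18473) D18475 D38886 F59917 F31141 D22967 F36025 D43182
theorem F67640 : act 1 n43182 = n38875 := d18_6 (iv1 D19518) (iv4 D9190) F17505 D9652 D20367 D43182 F59903 F63862 F63861
def n43183 : Q := act 6 n20367
theorem D43183 : act 6 n20367 = n43183 := rfl
def n43184 : Q := act 0 n20368
theorem D43184 : act 0 n20368 = n43184 := rfl
def n43188 : Q := act 3 n20369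
theorem D43188 : act 3 n20369 = n43188 := rfl
def n43189 : Q := act 4 n20369
theorem D43189 : act 4 n20369 = n43189 := rfl
def n43190 : Q := act 5 n20369
theorem D43190 : act 5 n20369 = n43190 := rfl
theorem F67643 : act 6 n43190 = n22555 := d12_2 (iv6 F63740) D43190 (iv5 F65797) F65798 D41354
theorem F67644 : act 7 n43190 = n22937 := d13_2 F67606 D43190 F67608
def n43191 : Q := act 3 n20370
theorem D43191 : act 3 n20370 = n43191 := rfl
theorem F67645 : act 7 n43191 = n42629 := d8_2 F64525 D43191 (iv3 F66466)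
def n43192 : Q := act 4 n20370
theorem D43192 : act 4 n20370 = n43192 := rfl
def n43193 : Q := act 5 n20370
theorem D43193 : act 5 n20370 = n43193 := rfl
theorem F67647 : act 6 n43193 = n21872 := d12_2 F65676 D43193 (iv5 F63976) F63977 (iv5 F65675)
def n43195 : Q := act 3 n20372
theorem D43195 : act 3 n20372 = n43195 := rfl
theorem F67649 : act 4 n43195 = n42880 := d20_6 (iv4 D4019) (iv1 F3124) D4344 D9654 D20372 D43195 (iv1 D42880) F32126 (iv3 D9579) F6206
def n43196 : Q := act 4 n20372
theorem D43196 : act 4 n20372 = n43196 := rfl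
def n43197 : Q := act 5 n20372
theorem D43197 : act 5 n20372 = n43197 := rfl
def n43200 : Q := act 3 n20373
theorem D43200 : act 3 n20373 = n43200 := rfl
def n43201 : Q := act 4 n20373
theorem D43201 : act 4 n20373 = n43201 := rfl
def n43202 : Q := act 5 n20373
theorem D43202 : act 5 n20373 = n43202 := rfl
def n43210 : Q := act 1 n20376
theorem D43210 : act 1 n20376 = n43210 := rfl
theorem F67660 : act 5 n23488 = n43210 := d21_6 (iv5 D4329) (iv1 F6110) F6109 (iv6 F7503) (iv1 F17872) D23488 (iv1 D43210) (iv5 D20376) (iv6 D9655) F6259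
def n43213 : Q := act 4 n20378
theorem D43213 : act 4 n20378 = n43213 := rfl
theorem F67669 : act 6 n43213 = n42028 := d10_2 (iv6 F32354) D43213 (iv4 D42028)
def n43214 : Q := act 5 n20378
theorem D43214 : act 5 n20378 = n43214 := rfl
theorem F67670 : act 3 n43214 = n20379 := d6_1 D43214 (iv5 D20379) D20378
theorem F67671 : act 6 n43214 = n23271 := d12_2 (iv6 F32354) D43214 F36357 (iv6 D19819) D19818
theorem F67672 : act 7 n43214 = n23659 := d13_2 F32358 D43214 F36784
def n43215 : Q := act 4 n20379
theorem D43215 : act 4 n20379 = n43215 := rfl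
theorem F67673 : act 2 n43215 = n43215 := d1_1 D43215 (iv4 D43215) F32355
theorem F67675 : act 7 n43215 = n23493 := d11_2 (iv7 F32357) D43215 F36607
theorem F67677 : act 1 n43215 = n43099 := d18_6 (iv1 D9602) (iv4 F14959) D20292 (iv4 F32199) D20379 D43215 F67474 (iv0 F32266) F17873
theorem F67678 : act 1 n43099 = n23493 := d15_1 F67677 (iv7 F67675) F67673
def n43216 : Q := act 4 n20380
theorem D43216 : act 4 n20380 = n43216 := rfl
theorem F67679 : act 7 n43216 = n43213 := d11_2 (iv7 F32358) D43216 (iv4 D43213)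
def n43217 : Q := act 5 n20382
theorem D43217 : act 5 n20382 = n43217 := rfl
theorem F67680 : act 3 n43217 = n40324 := d6_1 D43217 (iv5 D40324) (iv3 F63437)
theorem F67681 : act 7 n43217 = n40420 := d13_2 (iv7 F63443) D43217 (iv5 D40420)
theorem F67682 : act 1 n43217 = n40710 := d17_8 F62929 D41982 (iv1 F64769) (iv5 D23524) D23523 (iv5 F64754) (iv0 F64756) D43217 F62927
def n43218 : Q := act 6 n20382
theorem D43218 : act 6 n20382 = n43218 := rfl
theorem F67683 : act 3 n43218 = n20889 := d7_1 D43218 F66196 (iv3 F63437)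
theorem F67684 : act 5 n23425 = n43218 := d6_0 F67683 F66195 D23425
theorem F67685 : act 0 n42272 = n23425 := d21_7 F64754 (iv1 F36644) D41235 (iv6 F62462) (iv1 F35312) F35595 (iv5 F65281) F67684 (iv6 D43218) F64756
theorem F67686 : act 0 n23425 = n37185 := d21_7 F14148 (iv1 D4353) D4355 D9661 D20382 D43218 (iv5 F67684) (iv5 D37185) (iv6 D17882) (iv1 F14149)
def n43219 : Q := act 5 n20383
theorem D43219 : act 5 n20383 = n43219 := rfl
theorem F67687 : act 2 n43219 = n40420 := d2_1 D43219 (iv5 D40420) F61478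
theorem F67688 : act 0 n43219 = n40710 := d17_2 (iv1 F64757) D43219 (iv5 F63081) F63079 (iv5 F64761) F64811 (iv5 D42001) F31565 D41968
theorem F67689 : act 6 n43219 = n40686 := d21_3 (iv5 F64754) (iv1 F64757) D43219 (iv1 F61801) (iv6 F32364) (iv5 F35594) (iv1 D19397) D19400 (iv6 F31031) F36643
def n43220 : Q := act 6 n20383
theorem D43220 : act 6 n20383 = n43220 := rfl
theorem F67690 : act 2 n43220 = n40421 := d3_1 D43220 (iv6 D40421) F61478
def n43221 : Q := act 5 n20385
theorem D43221 : act 5 n20385 = n43221 := rfl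
theorem F67691 : act 2 n43221 = n22231 := d2_1 D43221 (iv5 D22231) (iv2 F32365)
theorem F67693 : act 6 n43221 = n20386 := d12_2 D20385 D43221 (iv5 D20386) (iv6 D9667) D9666
theorem F67694 : act 4 n43221 = n42550 := d18_5 (iv1 F14625) D9455 F65638 (iv4 F32367) D43221 F66375 (iv4 D20093) F31774 F31772
theorem F67695 : act 0 n43221 = n23068 := d18_0 F65255 (iv1 F65253) F31907 F14677 (iv4 F14672) F31758 (iv4 F31760) (iv0 F65640) D43221
theorem E7964 : n41979 = n41822 := (c21_10 (iv5 D19687) F63141 (iv5 F17015) (iv6 D9912) (iv1 F15055) D20385 D43221 F67695 (iv5 F64885) F64886 (iv1 D41822))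
theorem F67696 : act 3 n41822 = n19776 := (sb E7964 (iv3 D41979))
theorem F67697 : act 5 n41822 = n22499 := (sb E7964 F64765)
theorem F67698 : act 6 n41822 = n42023 := (sb E7964 (iv6 F64886))
theorem F67699 : act 7 n41822 = n22086 := (sb E7964 F64766)
theorem F67700 : act 2 n22086 = n41821 := d15_3 (iv0 D41821) D41822 F67699
theorem F67701 : act 3 n41821 = n41511 := d0_2 F63286 F67700 F64029 F34179 (iv2 F63285)
theorem F67702 : act 6 n41821 = n22064 := d3_2 D22086 F67700 F62865
theorem E7965 : n42550 = n42169 := (c10_2 (iv6 F67693) F67694 (iv6 D42169) (iv4 F32373))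
theorem F67703 : act 0 n42169 = n20088 := (sb E7965 (iv1 D42550))
theorem F67704 : act 1 n42169 = n20093 := (sb E7965 F66375)
theorem F67705 : act 4 n42169 = n43221 := (sb E7965 (iv4 F67694))
def n43222 : Q := act 5 n20387
theorem D43222 : act 5 n20387 = n43222 := rfl
theorem F67706 : act 2 n43222 = n41486 := d2_1 D43222 (iv5 D41486) F63512
theorem F67707 : act 3 n43222 = n41781 := d6_1 D43222 (iv5 D41781) F63498
theorem F67708 : act 7 n43222 = n41816 := d13_2 (iv7 F63495) D43222 (iv5 D41816)
theorem F67709 : act 0 n43222 = n41822 := d21_1 D43222 F67697 (iv6 D22499) (iv1 D10683) (iv6 D4891) F7106 F6041 D4359 D9668 D20387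
theorem F67710 : act 1 n43222 = n41821 := d15_0 (iv0 D41821) (iv7 F63950) (iv2 F67706)
def n43223 : Q := act 6 n20387
theorem D43223 : act 6 n20387 = n43223 := rfl
theorem F67711 : act 2 n43223 = n41487 := d3_1 D43223 (iv6 D41487) F63512
theorem F67712 : act 3 n43223 = n41782 := d7_1 D43223 (iv6 D41782) F63498
theorem F67713 : act 4 n43223 = n42185 := d10_1 D43223 (iv6 D42185) (iv4 F63433)
def n43224 : Q := act 6 n20390
theorem D43224 : act 6 n20390 = n43224 := rfl
theorem F67714 : act 2 n43224 = n42177 := d3_1 D43224 (iv6 D42177) (iv2 F32383)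
theorem F67715 : act 3 n43224 = n20391 := d7_1 D43224 (iv6 D20391) D20390
theorem F67716 : act 4 n43224 = n41677 := d10_1 D43224 (iv6 D41677) (iv4 F32380)
def n43225 : Q := act 5 n20391
theorem D43225 : act 5 n20391 = n43225 := rfl
theorem F67717 : act 2 n43225 = n41568 := d2_1 D43225 (iv5 D41568) (iv2 F32384)
def n43226 : Q := act 7 n20391
theorem D43226 : act 7 n20391 = n43226 := rfl
theorem F67718 : act 2 n43226 = n20819 := d4_1 D43226 F65792 (iv2 F32384)
theorem F67719 : act 4 n43226 = n41559 := d11_1 D43226 (iv7 D41559) (iv4 F32385)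
theorem F67721 : act 1 n20772 = n43226 := d15_1 (iv0 F65958) (iv7 D43226) F32384
theorem F67722 : act 1 n43226 = n20768 := d15_1 F67721 F35735 (iv2 F35748)
def n43227 : Q := act 6 n20392
theorem D43227 : act 6 n20392 = n43227 := rfl
theorem F67723 : act 2 n43227 = n42123 := d3_1 D43227 (iv6 D42123) (iv2 F40017)
theorem F67724 : act 3 n43227 = n42121 := d7_1 D43227 (iv6 D42121) F33476
def n43228 : Q := act 3 n20393
theorem D43228 : act 3 n20393 = n43228 := rfl
theorem F67725 : act 2 n43228 = n42122 := d0_1 D43228 (iv3 D42122) (iv2 F40017) (iv3 F33476) F40023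
theorem F67726 : act 4 n43228 = n42122 := d5_2 F33474 D43228 (iv3 D42122) (iv4 F34013) F34012
theorem F67727 : act 7 n43228 = n42122 := d8_2 (iv7 F40022) D43228 (iv3 D42122)
def n43229 : Q := act 6 n20393
theorem D43229 : act 6 n20393 = n43229 := rfl
theorem F67728 : act 2 n43229 = n42121 := d3_1 D43229 (iv6 D42121) F40023
def n43230 : Q := act 6 n20394
theorem D43230 : act 6 n20394 = n43230 := rfl
theorem F67729 : act 2 n43230 = n20395 := d3_1 D43230 (iv6 D20395) D20394
theorem F67730 : act 3 n43230 = n42178 := d7_1 D43230 (iv6 D42178) (iv3 F32387)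
theorem F67731 : act 5 n43230 = n35953 := d12_1 D43230 (iv6 D35953) F28371 (iv6 F20097) (iv5 F32388)
def n43231 : Q := act 0 n20395
theorem D43231 : act 0 n20395 = n43231 := rfl
def n43232 : Q := act 1 n20395
theorem D43232 : act 1 n20395 = n43232 := rfl
def n43233 : Q := act 5 n20395
theorem D43233 : act 5 n20395 = n43233 := rfl
theorem F67732 : act 2 n43233 = n35953 := d2_1 D43233 (iv5 F67731) F67729
theorem F67733 : act 3 n43233 = n20401 := d6_1 D43233 (iv5 D20401) (iv3 F32393)
theorem F67734 : act 6 n43233 = n25583 := d12_2 D20395 D43233 F40476 (iv6 F27896) (iv5 F27900)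
def n43234 : Q := act 7 n20395
theorem D43234 : act 7 n20395 = n43234 := rfl
theorem F67735 : act 3 n43234 = n20402 := d8_1 D43234 (iv7 D20402) (iv3 F32393)
theorem F67736 : act 4 n43234 = n42006 := d11_1 D43234 F64834 F34119
theorem F67737 : act 6 n43234 = n42126 := d14_1 D43234 (iv7 D42126) (iv6 D19871) (iv7 F15073) D20395
def n43235 : Q := act 6 n20396
theorem D43235 : act 6 n20396 = n43235 := rfl
theorem F67738 : act 2 n43235 = n42127 := d3_1 D43235 (iv6 D42127) F32398
theorem F67739 : act 3 n43235 = n35036 := d7_1 D43235 (iv6 D35036) (iv3 F32396)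
theorem F67740 : act 4 n43235 = n22485 := d10_1 D43235 (iv6 D22485) (iv4 F32395)
def n43236 : Q := act 3 n20397
theorem D43236 : act 3 n20397 = n43236 := rfl
theorem F67741 : act 2 n43236 = n25554 := d0_1 D43236 (iv3 F40420) (iv2 F35033) F35034 F32404
theorem F67742 : act 5 n43236 = n20476 := d6_2 (iv5 F32402) D43236 (iv3 D20476)
theorem F67743 : act 7 n43236 = n25553 := d8_2 (iv7 F32401) D43236 F40413
theorem F67744 : act 0 n43236 = n20426 := d20_4 (iv4 F14664) (iv1 F31717) (iv4 F32403) D43236 F32457 F15221 (iv1 F15220) F14615 F6337 D9440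
theorem F67745 : act 0 n25555 = n43236 := d20_4 (iv4 D7290) (iv1 F12642) (iv4 F20096) (iv3 F40423) (iv3 D43236) F32403 (iv1 D19872) F14666 F26932 F12481
def n43237 : Q := act 6 n20397
theorem D43237 : act 6 n20397 = n43237 := rfl
theorem F67746 : act 2 n43237 = n22485 := d3_1 D43237 (iv6 D22485) F32404
theorem F67747 : act 4 n43237 = n42127 := d10_1 D43237 (iv6 D42127) (iv4 F32403)
def n43238 : Q := act 0 n20398
theorem D43238 : act 0 n20398 = n43238 := rfl
theorem F67748 : act 3 n43238 = n27005 := d20_5 (iv4 D8154) (iv1 F8890) (iv4 F20156) (iv3 F32406) D43238 (iv4 D27005) F27250 (iv4 F21476) F21475 F12921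
theorem F67749 : act 4 n43238 = n23755 := d20_8 (iv4 F50855) F50851 F12506 F26479 (iv1 F25135) (iv3 F32635) F32636 D43238 F37002 (iv1 F43596)
theorem F67750 : act 2 n25544 = n43238 := d15_3 (iv0 D43238) (iv0 F37010) (iv7 F40385)
theorem F67751 : act 1 n25570 = n43238 := d15_0 (iv0 D43238) F32407 (iv2 F40452)
theorem F67752 : act 7 n43238 = n25563 := d15_2 F40455 F67751 F40440
theorem F67753 : act 6 n25472 = n43238 := d7_0 F67748 (iv6 F50534) (iv3 F45865)
def n43239 : Q := act 5 n20398
theorem D43239 : act 5 n20398 = n43239 := rfl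
theorem F67754 : act 2 n43239 = n42182 := d2_1 D43239 (iv5 D42182) (iv2 F32405)
theorem F67755 : act 3 n43239 = n25583 := d6_1 D43239 F40476 (iv3 F32406)
theorem F67756 : act 6 n43239 = n20401 := d12_2 D20398 D43239 (iv5 D20401) (iv6 D9676) D9675
theorem F67757 : act 7 n43239 = n25575 := d13_2 (iv7 F32407) D43239 (iv5 D25575)
theorem F67758 : act 0 n33215 = n43239 := d21_7 F32394 (iv1 F15175) D9732 D20501 F65414 F50389 D33215 (iv5 D43239) (iv6 D20398) D20396
def n43240 : Q := act 3 n20399
theorem D43240 : act 3 n20399 = n43240 := rfl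
theorem F67759 : act 4 n43240 = n41489 := d5_2 (iv4 F35864) D43240 (iv3 D41489) (iv4 D19533) D19532
theorem F67760 : act 7 n43240 = n41818 := d8_2 F63529 D43240 (iv3 D41818)
def n43241 : Q := act 5 n20399
theorem D43241 : act 5 n20399 = n43241 := rfl
theorem F67761 : act 2 n43241 = n42184 := d2_1 D43241 (iv5 D42184) (iv2 F63535)
theorem F67762 : act 7 n43241 = n41819 := d13_2 F63529 D43241 (iv5 D41819)
def n43242 : Q := act 6 n20399
theorem D43242 : act 6 n20399 = n43242 := rfl
theorem F67763 : act 2 n43242 = n42185 := d3_1 D43242 (iv6 D42185) (iv2 F63535)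
theorem F67764 : act 4 n43242 = n41487 := d10_1 D43242 (iv6 D41487) (iv4 F35864)
def n43243 : Q := act 3 n20400
theorem D43243 : act 3 n20400 = n43243 := rfl
theorem F67765 : act 7 n43243 = n42183 := d8_2 F63534 D43243 (iv3 D42183)
theorem F67766 : act 0 n43243 = n20427 := d20_4 F32948 (iv1 F63531) (iv4 F63532) D43243 F32461 F15142 F35667 D19739 F31495 F63209
def n43244 : Q := act 5 n20400
theorem D43244 : act 5 n20400 = n43244 := rfl
theorem F67767 : act 2 n43244 = n41819 := d2_1 D43244 (iv5 D41819) F63533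
theorem F67768 : act 7 n43244 = n42184 := d13_2 F63534 D43244 (iv5 D42184)
def n43245 : Q := act 6 n20400
theorem D43245 : act 6 n20400 = n43245 := rfl
theorem F67769 : act 2 n43245 = n41820 := d3_1 D43245 (iv6 D41820) F63533
theorem F67770 : act 4 n43245 = n41817 := d10_1 D43245 (iv6 D41817) (iv4 F63532)
def n43246 : Q := act 0 n20401
theorem D43246 : act 0 n20401 = n43246 := rfl
def n43247 : Q := act 1 n20401
theorem D43247 : act 1 n20401 = n43247 := rfl
theorem F67771 : act 1 n43247 = n42189 := d15_1 D43247 (iv7 D42189) (iv2 F32409)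
theorem F67772 : act 5 n43247 = n42357 := d17_7 (iv1 D19444) (iv5 F14190) (iv1 F35617) F16837 (iv4 F15077) D20401 D43247 (iv0 F65431) (iv4 D41315)
theorem F67773 : act 2 n42187 = n43247 := d2_3 F67772 F65429 (iv5 F65117)
def n43248 : Q := act 4 n20401
theorem D43248 : act 4 n20401 = n43248 := rfl
theorem F67774 : act 2 n43248 = n42188 := d1_1 D43248 (iv4 D42188) (iv2 F32409)
def n43249 : Q := act 7 n20401
theorem D43249 : act 7 n20401 = n43249 := rfl
theorem F67775 : act 2 n43249 = n42189 := d4_1 D43249 (iv7 D42189) (iv2 F32409)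
theorem F67776 : act 5 n43249 = n20402 := d13_1 D43249 (iv7 D20402) D20401
theorem F67777 : act 1 n42189 = n43246 := d15_0 (iv0 D43246) D43249 F67775
theorem F67778 : act 1 n42187 = n43249 := d15_1 D42187 (iv7 D43249) F32409
theorem F67779 : act 7 n43246 = n42187 := d15_2 F67771 F67777 F67773
theorem F67780 : act 2 n43246 = n42186 := d15_3 (iv0 D42186) D42187 (iv7 F67779)
theorem F67781 : act 7 n42186 = n43247 := d4_2 (iv7 F67779) F67780 (iv2 F67773)
theorem F67782 : act 1 n43249 = n42186 := d15_1 F67778 F67781 (iv2 F67773)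
def n43250 : Q := act 3 n20405
theorem D43250 : act 3 n20405 = n43250 := rfl
theorem F67783 : act 2 n43250 = n42137 := d0_1 D43250 (iv3 D42137) (iv2 F35800) F31495 (iv2 F35814)
theorem F67784 : act 4 n43250 = n43250 := d5_2 D20405 D43250 (iv3 D43250) (iv4 D20405) F35665
theorem F67785 : act 7 n43250 = n42190 := d8_2 (iv7 F35701) D43250 (iv3 D42190)
def n43251 : Q := act 5 n20405
theorem D43251 : act 5 n20405 = n43251 := rfl
theorem F67786 : act 2 n43251 = n40432 := d2_1 D43251 (iv5 D40432) (iv2 F35814)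
theorem F67787 : act 7 n43251 = n42191 := d13_2 (iv7 F35701) D43251 (iv5 D42191)
def n43252 : Q := act 6 n20405
theorem D43252 : act 6 n20405 = n43252 := rfl
theorem F67788 : act 2 n43252 = n40433 := d3_1 D43252 (iv6 D40433) (iv2 F35814)
theorem F67789 : act 4 n43252 = n20407 := d10_1 D43252 (iv6 D20407) D20405
def n43253 : Q := act 4 n20406
theorem D43253 : act 4 n20406 = n43253 := rfl
theorem F67790 : act 2 n43253 = n40435 := d1_1 D43253 (iv4 D40435) (iv2 F35806)
theorem F67791 : act 7 n43253 = n42139 := d11_2 (iv7 F35702) D43253 F65057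
def n43254 : Q := act 6 n20406
theorem D43254 : act 6 n20406 = n43254 := rfl
theorem F67792 : act 2 n43254 = n20831 := d3_1 D43254 (iv6 F35683) (iv2 F35806)
theorem F67794 : act 5 n43254 = n42555 := d12_1 D43254 F66380 (iv5 F32417) (iv6 D20407) D20406
theorem F67795 : act 7 n43254 = n20441 := d14_2 (iv7 F35702) D43254 (iv6 D20441) F35784 D19881
theorem F67796 : act 0 n43254 = n20601 := d21_4 F16837 D9677 D20406 D43254 F32680 D20769 (iv1 F35612) F31098 (iv6 D9139) (iv1 F35617)
theorem F67797 : act 1 n43254 = n20596 := d15_1 (iv0 F67796) F35777 (iv2 F35736)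
def n43255 : Q := act 1 n20407
theorem D43255 : act 1 n20407 = n43255 := rfl
theorem F67798 : act 1 n43255 = n20844 := d15_1 D43255 F35715 (iv2 F35723)
theorem F67799 : act 7 n43255 = n20773 := d15_2 (iv0 F35811) D43255 F35750
theorem F67800 : act 5 n23479 = n43255 := d21_0 (iv1 D43255) F32417 (iv6 F66380) (iv1 F66382) (iv6 F66398) F66397 (iv1 F67241) (iv5 D42922) F32144 D23479
theorem F67801 : act 6 n20596 = n43255 := d21_3 D4407 D9760 D20596 (iv1 D43255) (iv6 D20407) D20406 F32677 (iv5 D20591) (iv6 D9759) (iv1 D4406)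
theorem F67802 : act 2 n43255 = n20847 := d2_1 F67800 F66679 (iv2 F66676)
def n43256 : Q := act 7 n20413
theorem D43256 : act 7 n20413 = n43256 := rfl
theorem F67804 : act 3 n43256 = n40973 := d8_1 D43256 (iv7 D40973) (iv3 F32421)
theorem F67805 : act 4 n43256 = n22298 := d11_1 D43256 (iv7 D22298) (iv4 F32422)
theorem F67806 : act 6 n43256 = n22611 := d14_1 D43256 (iv7 D22611) (iv6 D10716) (iv7 F15120) D20413
theorem F67807 : act 1 n20582 = n43256 := d15_1 (iv0 F62951) (iv7 D43256) F32420
theorem F67808 : act 1 n43256 = n20457 := d15_1 F67807 F35929 D20582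
def n43257 : Q := act 5 n20415
theorem D43257 : act 5 n20415 = n43257 := rfl
theorem F67809 : act 2 n43257 = n41897 := d2_1 D43257 (iv5 D41897) F63467
def n43258 : Q := act 6 n20415
theorem D43258 : act 6 n20415 = n43258 := rfl
theorem F67810 : act 2 n43258 = n41751 := d3_1 D43258 F64394 F63467
theorem F67811 : act 3 n43258 = n43219 := d7_1 D43258 F67689 (iv3 F63698)
theorem F67812 : act 4 n43258 = n41774 := d10_1 D43258 (iv6 D41774) F63697
theorem F67813 : act 5 n43258 = n37848 := d21_6 (iv5 F7007) F12193 D4375 D9696 D20415 D43258 (iv1 D37848) (iv5 F30771) (iv6 D19152) F13991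
theorem F67814 : act 7 n41735 = n43258 := d13_0 F67813 (iv7 F63485) D41735
theorem F67815 : act 1 n38010 = n43258 := d17_6 (iv1 F31432) D19690 (iv1 F64461) F64462 (iv4 F62405) F62406 F67813 F58692 (iv4 F35657)
def n43259 : Q := act 5 n20416
theorem D43259 : act 5 n20416 = n43259 := rfl
theorem F67816 : act 3 n43259 = n41892 := d6_1 D43259 (iv5 D41892) F61804
theorem F67817 : act 7 n43259 = n41897 := d13_2 F63466 D43259 (iv5 D41897)
def n43260 : Q := act 6 n20416
theorem D43260 : act 6 n20416 = n43260 := rfl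
theorem F67820 : act 3 n43260 = n20868 := d7_1 D43260 F66181 F61804
theorem F67821 : act 4 n43260 = n41777 := d10_1 D43260 (iv6 D41777) (iv4 F61803)
def n43261 : Q := act 0 n20417
theorem D43261 : act 0 n20417 = n43261 := rfl
def n43262 : Q := act 1 n20417
theorem D43262 : act 1 n20417 = n43262 := rfl
theorem F67822 : act 5 n23386 = n43262 := d21_6 (iv5 D3831) D3828 D8554 D18141 (iv1 F66561) D23386 (iv1 D43262) (iv5 D20417) (iv6 D9696) F12195
theorem F67823 : act 3 n43262 = n23401 := d6_1 F67822 (iv5 D23401) (iv3 F36514)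
theorem F67824 : act 7 n43262 = n41915 := d13_2 F67036 F67822 (iv5 F67035)
theorem F67825 : act 2 n41915 = n43261 := d15_3 (iv0 D43261) D43262 F67824
theorem F67826 : act 4 n43262 = n41866 := d20_6 (iv4 F31532) (iv1 F31533) F17883 (iv3 F31491) F36527 (iv3 F67823) (iv1 D41866) (iv4 D19709) F14437 D9324
def n43263 : Q := act 7 n20417
theorem D43263 : act 7 n20417 = n43263 := rfl
theorem F67829 : act 6 n43263 = n42649 := d14_1 D43263 (iv7 D42649) (iv6 D20129) F16791 (iv6 F32429)
def n43264 : Q := act 6 n20419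
theorem D43264 : act 6 n20419 = n43264 := rfl
theorem F67830 : act 2 n43264 = n42071 := d3_1 D43264 (iv6 D42071) F32434
theorem F67831 : act 4 n43264 = n41879 := d10_1 D43264 (iv6 D41879) (iv4 F32433)
theorem F67832 : act 5 n43264 = n42620 := d12_1 D43264 (iv6 D42620) F31937 (iv6 F27437) (iv5 F32432)
def n43265 : Q := act 5 n20420
theorem D43265 : act 5 n20420 = n43265 := rfl
theorem F67833 : act 2 n43265 = n42111 := d2_1 D43265 (iv5 D42111) (iv2 F63706)
theorem F67834 : act 3 n43265 = n41352 := d6_1 D43265 (iv5 D41352) (iv3 F63476)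
theorem F67835 : act 6 n43265 = n41826 := d12_2 F63477 D43265 (iv5 D41826) (iv6 D19688) D19687
theorem F67836 : act 7 n43265 = n41850 := d13_2 F63540 D43265 (iv5 D41850)
def n43266 : Q := act 5 n20421
theorem D43266 : act 5 n20421 = n43266 := rfl
theorem F67837 : act 2 n43266 = n41850 := d2_1 D43266 (iv5 D41850) F63546
theorem F67838 : act 7 n43266 = n42111 := d13_2 F63704 D43266 (iv5 D42111)
def n43267 : Q := act 6 n20421
theorem D43267 : act 6 n20421 = n43267 := rfl
theorem F67839 : act 2 n43267 = n41851 := d3_1 D43267 (iv6 D41851) F63546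
theorem F67840 : act 4 n43267 = n42132 := d10_1 D43267 (iv6 D42132) F63550
def n43268 : Q := act 0 n20422
theorem D43268 : act 0 n20422 = n43268 := rfl
def n43269 : Q := act 1 n20422
theorem D43269 : act 1 n20422 = n43269 := rfl
theorem F67841 : act 1 n43269 = n42114 := d15_1 D43269 (iv7 D42114) (iv2 F32438)
theorem F67842 : act 4 n42151 = n43269 := d18_7 (iv1 F32437) (iv4 F63550) (iv1 D19874) F14577 D9358 D19889 D42151 F67841 F65034
def n43270 : Q := act 7 n20422
theorem D43270 : act 7 n20422 = n43270 := rfl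
theorem F67843 : act 2 n43270 = n42114 := d4_1 D43270 (iv7 D42114) (iv2 F32438)
theorem F67844 : act 3 n43270 = n21634 := d8_1 D43270 (iv7 D21634) (iv3 F32439)
theorem F67845 : act 5 n43270 = n20423 := d13_1 D43270 (iv7 D20423) D20422
theorem F67846 : act 1 n42114 = n43268 := d15_0 (iv0 D43268) D43270 F67843
theorem F67847 : act 1 n42113 = n43270 := d15_1 D42113 (iv7 D43270) F32438
theorem F67848 : act 1 n43270 = n42112 := d15_0 (iv0 D42112) D42114 (iv2 F67843)
def n43271 : Q := act 6 n20424
theorem D43271 : act 6 n20424 = n43271 := rfl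
theorem F67849 : act 2 n43271 = n42117 := d3_1 D43271 (iv6 D42117) F32447
def n43272 : Q := act 6 n20425
theorem D43272 : act 6 n20425 = n43272 := rfl
theorem F67850 : act 2 n43272 = n20427 := d3_1 D43272 (iv6 D20427) D20425
theorem F67851 : act 3 n43272 = n25558 := d7_1 D43272 F40428 (iv3 F32451)
theorem F67852 : act 5 n43272 = n25552 := d12_1 D43272 (iv6 D25552) (iv5 D12145) D12146 F32455
def n43273 : Q := act 0 n20427
theorem D43273 : act 0 n20427 = n43273 := rfl
theorem F67853 : act 2 n42183 = n43273 := d15_3 (iv0 D43273) (iv0 F67766) F67765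
def n43274 : Q := act 5 n20427
theorem D43274 : act 5 n20427 = n43274 := rfl
theorem F67854 : act 2 n43274 = n25552 := d2_1 D43274 (iv5 F67852) F67850
theorem F67855 : act 3 n43274 = n20431 := d6_1 D43274 (iv5 D20431) (iv3 F32461)
theorem F67856 : act 6 n43274 = n25548 := d12_2 D20427 D43274 (iv5 D25548) F32460 (iv5 D20426)
def n43275 : Q := act 7 n20427
theorem D43275 : act 7 n20427 = n43275 := rfl
theorem F67857 : act 3 n43275 = n20432 := d8_1 D43275 (iv7 D20432) (iv3 F32461)
theorem F67858 : act 6 n43275 = n42181 := d14_1 D43275 (iv7 D42181) (iv6 D19908) (iv7 F15138) D20427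
theorem F67859 : act 0 n42183 = n43275 := d20_4 F15527 D20387 F63433 D42183 F67857 F32471 F35782 D19745 F31505 F63171
def n43276 : Q := act 5 n20428
theorem D43276 : act 5 n20428 = n43276 := rfl
theorem F67860 : act 2 n43276 = n23757 := d2_1 D43276 (iv5 D23757) (iv2 F32462)
theorem F67861 : act 3 n43276 = n25548 := d6_1 D43276 (iv5 D25548) (iv3 F32463)
theorem F67862 : act 6 n43276 = n20431 := d12_2 D20428 D43276 (iv5 D20431) (iv6 D9703) D9702
theorem F67863 : act 7 n43276 = n25569 := d13_2 F32465 D43276 (iv5 D25569)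
theorem F67864 : act 1 n43276 = n25571 := d17_6 D12185 D25633 (iv1 F55129) (iv5 D34859) (iv4 F32464) D43276 F52200 (iv0 D12170) (iv4 F8898)
theorem F67865 : act 1 n25572 = n43276 := d15_1 D25572 F67863 F40450
def n43277 : Q := act 3 n20429
theorem D43277 : act 3 n20429 = n43277 := rfl
theorem F67866 : act 4 n43277 = n41692 := d5_2 (iv4 F63708) D43277 (iv3 D41692) F63712 F63707
theorem F67867 : act 7 n43277 = n42130 := d8_2 (iv7 F63549) D43277 (iv3 D42130)
theorem F67868 : act 0 n43277 = n42181 := d20_4 F15684 D19860 (iv4 F63708) D43277 F65112 F31745 F35662 D19110 (iv3 F31505) F63358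
theorem F67869 : act 2 n43277 = n42179 := d15_3 (iv0 D42179) (iv0 F65052) (iv7 F67867)
def n43278 : Q := act 5 n20429
theorem D43278 : act 5 n20429 = n43278 := rfl
theorem F67870 : act 2 n43278 = n42129 := d2_1 D43278 (iv5 D42129) F63548
theorem F67871 : act 7 n43278 = n42131 := d13_2 (iv7 F63549) D43278 (iv5 D42131)
def n43279 : Q := act 6 n20429
theorem D43279 : act 6 n20429 = n43279 := rfl
theorem F67872 : act 2 n43279 = n41823 := d3_1 D43279 F64487 F63548
theorem F67873 : act 4 n43279 = n41816 := d10_1 D43279 F64482 (iv4 F63708)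
def n43280 : Q := act 3 n20430
theorem D43280 : act 3 n20430 = n43280 := rfl
theorem F67874 : act 4 n43280 = n41852 := d5_2 (iv4 F35855) D43280 (iv3 D41852) (iv4 D19704) D19703
theorem F67875 : act 7 n43280 = n42128 := d8_2 F63545 D43280 (iv3 D42128)
def n43281 : Q := act 5 n20430
theorem D43281 : act 5 n20430 = n43281 := rfl
theorem F67876 : act 2 n43281 = n42131 := d2_1 D43281 (iv5 D42131) (iv2 F63547)
theorem F67877 : act 7 n43281 = n42129 := d13_2 F63545 D43281 (iv5 D42129)
theorem F67878 : act 1 n42131 = n42536 := d15_0 F66009 (iv7 F67877) F67876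
def n43282 : Q := act 6 n20430
theorem D43282 : act 6 n20430 = n43282 := rfl
theorem F67879 : act 2 n43282 = n42132 := d3_1 D43282 (iv6 D42132) (iv2 F63547)
theorem F67880 : act 4 n43282 = n41851 := d10_1 D43282 (iv6 D41851) (iv4 F35855)
theorem F67881 : act 0 n20823 = n43282 := d20_1 (iv4 F32977) F67880 F64522 (iv1 F65732) F33591 F16026 (iv1 F15837) F15838 (iv3 F35679) (iv1 D20831)
def n43283 : Q := act 0 n20431
theorem D43283 : act 0 n20431 = n43283 := rfl
def n43284 : Q := act 1 n20431
theorem D43284 : act 1 n20431 = n43284 := rfl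
theorem F67882 : act 1 n43284 = n42136 := d15_1 D43284 (iv7 D42136) (iv2 F32469)
theorem F67883 : act 5 n42292 = n43284 := d21_6 (iv5 F31796) (iv1 D19957) (iv5 D9419) D9420 D19959 D42292 (iv1 D43284) (iv5 D20431) (iv6 D9703) (iv1 F15069)
def n43285 : Q := act 4 n20431
theorem D43285 : act 4 n20431 = n43285 := rfl
theorem F67884 : act 2 n43285 = n42135 := d1_1 D43285 (iv4 D42135) (iv2 F32469)
def n43286 : Q := act 7 n20431
theorem D43286 : act 7 n20431 = n43286 := rfl
theorem F67885 : act 2 n43286 = n42136 := d4_1 D43286 (iv7 D42136) (iv2 F32469)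
theorem F67886 : act 5 n43286 = n20432 := d13_1 D43286 (iv7 D20432) D20431
theorem F67887 : act 1 n42136 = n43283 := d15_0 (iv0 D43283) D43286 F67885
theorem F67888 : act 1 n42134 = n43286 := d15_1 D42134 (iv7 D43286) F32469
theorem F67889 : act 5 n43283 = n42534 := d17_7 F66514 (iv5 F31513) (iv1 F66542) F31724 (iv4 F31719) (iv5 F65053) F67887 (iv0 D42534) F31898
theorem F67890 : act 1 n43286 = n42133 := d15_0 (iv0 D42133) D42136 (iv2 F67885)
def n43287 : Q := act 3 n20439
theorem D43287 : act 3 n20439 = n43287 := rfl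
theorem F67891 : act 2 n43287 = n42190 := d0_1 D43287 (iv3 D42190) (iv2 F35704) (iv3 F31505) F35675
theorem F67892 : act 4 n43287 = n43287 := d5_2 D20439 D43287 (iv3 D43287) (iv4 D20439) F35670
theorem F67893 : act 7 n43287 = n42137 := d8_2 F35799 D43287 (iv3 D42137)
def n43288 : Q := act 5 n20439
theorem D43288 : act 5 n20439 = n43288 := rfl
theorem F67894 : act 2 n43288 = n41931 := d2_1 D43288 (iv5 D41931) F35675
theorem F67895 : act 7 n43288 = n42138 := d13_2 F35799 D43288 (iv5 D42138)
theorem F67896 : act 1 n41931 = n42450 := d15_0 (iv0 F65565) (iv7 F67895) F67894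
theorem E7966 : n42449 = n42318 := (c17_9 F35760 D20084 (iv1 F35791) (iv5 D19746) D19745 D41931 F67896 (iv5 D42450) D42449 F65356)
theorem F67897 : act 0 n42318 = n20038 := (sb E7966 (iv1 D42449))
def n43289 : Q := act 6 n20439
theorem D43289 : act 6 n20439 = n43289 := rfl
theorem F67898 : act 2 n43289 = n41932 := d3_1 D43289 (iv6 D41932) F35675
theorem F67899 : act 4 n43289 = n20441 := d10_1 D43289 (iv6 D20441) D20439
def n43290 : Q := act 4 n20440
theorem D43290 : act 4 n20440 = n43290 := rfl
theorem F67900 : act 2 n43290 = n41934 := d1_1 D43290 (iv4 D41934) F35676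
theorem F67901 : act 7 n43290 = n42140 := d11_2 F35788 D43290 (iv4 D42140)
def n43291 : Q := act 0 n20441
theorem D43291 : act 0 n20441 = n43291 := rfl
theorem F67903 : act 5 n43291 = n20465 := d21_0 (iv1 F32524) F15238 F6344 (iv1 F14618) D19939 (iv5 F64674) (iv1 F64676) (iv5 D20440) D20441 D43291
theorem F67905 : act 1 n20831 = n43291 := d15_0 (iv0 D43291) (iv7 F67795) F67792
def n43292 : Q := act 4 n20443
theorem D43292 : act 4 n20443 = n43292 := rfl
theorem F67909 : act 0 n43292 = n42251 := d18_2 (iv1 F32478) D43292 F65265 (iv5 D20422) (iv4 F15528) (iv0 F63422) (iv4 D20439) F15143 (iv5 F31724)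
theorem F67910 : act 1 n43292 = n42669 := d15_1 (iv0 F67909) (iv7 D42669) (iv2 F65264)
def n43293 : Q := act 6 n20443
theorem D43293 : act 6 n20443 = n43293 := rfl
theorem F67911 : act 2 n43293 = n41947 := d3_1 D43293 (iv6 D41947) (iv2 F66516)
theorem F67913 : act 5 n43293 = n42321 := d12_1 D43293 (iv6 D42321) (iv5 D19966) D19967 F32479
theorem F67914 : act 0 n42715 = n43293 := d21_4 (iv5 F64708) F66925 (iv5 D42714) D42715 (iv6 D43293) (iv5 F32479) F35760 D20084 (iv6 F66012) F66674
def n43294 : Q := act 0 n20444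
theorem D43294 : act 0 n20444 = n43294 := rfl
def n43295 : Q := act 1 n20444
theorem D43295 : act 1 n20444 = n43295 := rfl
theorem F67915 : act 1 n43295 = n42154 := d15_1 D43295 (iv7 D42154) (iv2 F32480)
theorem F67916 : act 4 n43295 = n42113 := d18_7 (iv1 F63703) (iv4 F35855) (iv1 D20430) F15142 D9706 D20444 D43295 F67847 F67845
theorem E7967 : n42113 = n41862 := (c20_3 (iv4 F65068) (iv1 F67915) F67916 (iv3 D41862) (iv1 D19708) F14437 D9326 (iv1 F31517) (iv4 D19750) D19749 (iv1 F66542))
theorem F67917 : act 0 n41862 = n19862 := (sb E7967 (iv1 D42113))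
theorem F67918 : act 1 n41862 = n43270 := (sb E7967 F67847)
theorem F67919 : act 4 n41862 = n43295 := (sb E7967 (iv4 F67916))
def n43296 : Q := act 3 n20444
theorem D43296 : act 3 n20444 = n43296 := rfl
theorem F67920 : act 6 n43296 = n20448 := d7_2 (iv6 F32481) D43296 (iv3 D20448)
def n43297 : Q := act 5 n20444
theorem D43297 : act 5 n20444 = n43297 := rfl
theorem F67921 : act 2 n43297 = n42153 := d2_1 D43297 (iv5 D42153) (iv2 F32480)
def n43298 : Q := act 7 n20444
theorem D43298 : act 7 n20444 = n43298 := rfl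
theorem F67922 : act 2 n43298 = n42154 := d4_1 D43298 (iv7 D42154) (iv2 F32480)
theorem F67923 : act 4 n43298 = n20445 := d11_1 D43298 (iv7 D20445) D20444
theorem F67924 : act 6 n43298 = n42659 := d14_1 D43298 (iv7 D42659) (iv6 D20132) F16869 (iv6 F32481)
theorem F67925 : act 1 n42154 = n43294 := d15_0 (iv0 D43294) D43298 F67922
theorem F67927 : act 4 n43294 = n42112 := d18_7 D19860 (iv4 F63708) (iv1 F32473) F31719 (iv5 F31724) (iv4 F65068) F67925 (iv0 D42112) (iv5 D19862)
theorem F67928 : act 1 n43298 = n42150 := d15_0 (iv0 D42150) D42154 (iv2 F67922)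
theorem F67929 : act 4 n42150 = n43268 := d18_7 D20420 F63475 (iv1 F32475) F32471 (iv5 F32483) (iv4 F67923) F67928 (iv0 D43268) (iv5 D20422)
theorem F67930 : act 3 n43268 = n41356 := d20_3 D19889 D42150 F67929 (iv1 F63758) F31446 (iv4 F17959) (iv1 F31528) (iv4 D19753) D19752 (iv1 F66524)
theorem F67931 : act 7 n41862 = n43268 := d8_0 F67930 F66835 D41862
theorem F67932 : act 7 n42150 = n43295 := d11_2 F67931 (iv4 F67929) (iv4 F67919)
theorem F67933 : act 2 n43268 = n42112 := d15_3 (iv0 D42112) (iv0 F67917) F67931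
def n43299 : Q := act 3 n20446
theorem D43299 : act 3 n20446 = n43299 := rfl
theorem F67939 : act 4 n43299 = n42077 := d5_2 (iv4 F32489) D43299 (iv3 D42077) (iv4 F61603) F61604
theorem F67940 : act 7 n43299 = n42167 := d8_2 F32492 D43299 (iv3 D42167)
theorem F67941 : act 0 n43299 = n43021 := d20_4 (iv4 F16968) D19865 (iv4 F32489) D43299 (iv3 D43021) (iv4 D20309) (iv1 D9605) (iv4 F14759) (iv3 D9504) D9502
def n43300 : Q := act 5 n20446
theorem D43300 : act 5 n20446 = n43300 := rfl
theorem F67944 : act 4 n43300 = n42168 := d16_2 (iv4 F32489) D43300 (iv5 D42168) (iv4 F32373) (iv5 D20386) F15059 D19475 F31144 F31707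
theorem F67946 : act 1 n43300 = n20624 := d17_6 F17384 (iv5 D9478) D9475 (iv5 F31706) (iv4 F32489) D43300 (iv5 D20624) F32704 F32703
def n43301 : Q := act 6 n20446
theorem D43301 : act 6 n20446 = n43301 := rfl
theorem F67948 : act 4 n43301 = n42116 := d10_1 D43301 (iv6 D42116) (iv4 F32489)
def n43302 : Q := act 3 n20447
theorem D43302 : act 3 n20447 = n43302 := rfl
theorem F67949 : act 4 n43302 = n41361 := d5_2 (iv4 F32495) D43302 (iv3 D41361) (iv4 D19477) (iv3 F31143)
theorem F67950 : act 7 n43302 = n42164 := d8_2 (iv7 F32494) D43302 (iv3 D42164)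
def n43303 : Q := act 5 n20447
theorem D43303 : act 5 n20447 = n43303 := rfl
theorem F67952 : act 4 n43303 = n42165 := d9_1 D43303 (iv5 D42165) F31738 F17632 (iv4 F15014) (iv5 F31706) (iv4 F32489) D43300 F67944 (iv5 D42168) (iv4 F32373) (iv5 D20386) F15059 D19475 (iv4 F32495)
def n43304 : Q := act 6 n20447
theorem D43304 : act 6 n20447 = n43304 := rfl
theorem F67956 : act 2 n43304 = n42169 := d3_1 D43304 (iv6 D42169) F32496
theorem F67957 : act 4 n43304 = n22231 := d10_1 D43304 F34679 (iv4 F32495)
theorem F67958 : act 0 n42242 = n43304 := d18_2 (iv1 F31766) D42242 F67957 (iv5 D22231) (iv4 F32537) F65692 (iv4 D19937) F14618 (iv5 F14677)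
theorem F67959 : act 1 n42240 = n43304 := d15_0 (iv0 F67958) F65243 (iv2 F65235)
theorem F67960 : act 7 n42549 = n43304 := d15_2 F67704 F66374 F67956
def n43305 : Q := act 0 n20448
theorem D43305 : act 0 n20448 = n43305 := rfl
theorem F67961 : act 1 n42652 = n43305 := d15_0 (iv0 D43305) F32497 D42652
def n43306 : Q := act 1 n20448
theorem D43306 : act 1 n20448 = n43306 := rfl
def n43307 : Q := act 2 n20448
theorem D43307 : act 2 n20448 = n43307 := rfl
theorem F67962 : act 3 n43307 = n42172 := d0_2 D20448 D43307 (iv2 D42172) (iv3 D19897) (iv2 F15153)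
theorem F67963 : act 7 n43307 = n42652 := d4_2 (iv7 F32497) D43307 (iv2 D42652)
theorem F67964 : act 1 n43307 = n42650 := d15_0 (iv0 D42650) (iv7 F32497) D43307
theorem F67965 : act 1 n43306 = n42652 := d15_1 D43306 (iv7 F67963) (iv2 D43307)
theorem F67966 : act 1 n42651 = n43307 := d15_1 D42651 F67963 (iv2 D42652)
def n43308 : Q := act 5 n20448
theorem D43308 : act 5 n20448 = n43308 := rfl
theorem F67967 : act 3 n43308 = n20449 := d6_1 D43308 (iv5 D20449) D20448
theorem F67968 : act 7 n43308 = n42653 := d13_2 (iv7 F32497) D43308 (iv5 D42653)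
def n43309 : Q := act 6 n20449
theorem D43309 : act 6 n20449 = n43309 := rfl
theorem F67969 : act 2 n43309 = n42176 := d3_1 D43309 (iv6 D42176) (iv2 F32498)
def n43310 : Q := act 4 n20450
theorem D43310 : act 4 n20450 = n43310 := rfl
theorem F67970 : act 2 n43310 = n42197 := d1_1 D43310 (iv4 D42197) (iv2 F65139)
theorem F67971 : act 7 n43310 = n42197 := d11_2 (iv7 F65140) D43310 (iv4 D42197)
theorem F67972 : act 1 n34949 = n42197 := d15_1 (iv0 F65141) (iv7 F67971) F67970
def n43311 : Q := act 5 n20450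
theorem D43311 : act 5 n20450 = n43311 := rfl
theorem F67973 : act 2 n43311 = n42198 := d2_1 D43311 (iv5 D42198) (iv2 F65139)
theorem F67974 : act 7 n43311 = n42198 := d13_2 (iv7 F65140) D43311 (iv5 D42198)
def n43312 : Q := act 6 n20450
theorem D43312 : act 6 n20450 = n43312 := rfl
theorem F67975 : act 2 n43312 = n42199 := d3_1 D43312 (iv6 D42199) (iv2 F65139)
def n43313 : Q := act 0 n20451
theorem D43313 : act 0 n20451 = n43313 := rfl
def n43314 : Q := act 1 n20451
theorem D43314 : act 1 n20451 = n43314 := rfl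
theorem F67976 : act 1 n43314 = n42205 := d15_1 D43314 (iv7 D42205) (iv2 F32501)
def n43315 : Q := act 5 n20451
theorem D43315 : act 5 n20451 = n43315 := rfl
theorem F67977 : act 2 n43315 = n42204 := d2_1 D43315 (iv5 D42204) (iv2 F32501)
theorem F67978 : act 3 n43315 = n20454 := d6_1 D43315 (iv5 D20454) (iv3 F32502)
def n43316 : Q := act 7 n20451
theorem D43316 : act 7 n20451 = n43316 := rfl
theorem F67979 : act 2 n43316 = n42205 := d4_1 D43316 (iv7 D42205) (iv2 F32501)
theorem F67980 : act 3 n43316 = n20455 := d8_1 D43316 (iv7 D20455) (iv3 F32502)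
theorem F67981 : act 4 n43316 = n43316 := d11_1 D43316 (iv7 D43316) F32503
theorem F67982 : act 6 n43316 = n42205 := d14_1 D43316 (iv7 D42205) (iv6 D19925) (iv7 F15156) D20451
theorem F67983 : act 1 n42205 = n43313 := d15_0 (iv0 D43313) D43316 F67979
theorem F67984 : act 1 n42203 = n43316 := d15_1 D42203 (iv7 D43316) F32501
theorem F67985 : act 1 n43316 = n42202 := d15_0 (iv0 D42202) D42205 (iv2 F67979)
def n43317 : Q := act 3 n20452
theorem D43317 : act 3 n20452 = n43317 := rfl
theorem F67986 : act 4 n43317 = n23207 := d5_2 F32511 D43317 (iv3 D23207) (iv4 D10920) D10919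
theorem F67987 : act 7 n43317 = n20543 := d8_2 (iv7 F62795) D43317 (iv3 D20543)
def n43318 : Q := act 5 n20452
theorem D43318 : act 5 n20452 = n43318 := rfl
theorem F67988 : act 2 n43318 = n20540 := d2_1 D43318 (iv5 D20540) (iv2 F62794)
theorem F67989 : act 7 n43318 = n20545 := d13_2 (iv7 F62795) D43318 (iv5 D20545)
def n43319 : Q := act 6 n20452
theorem D43319 : act 6 n20452 = n43319 := rfl
theorem F67990 : act 2 n43319 = n20541 := d3_1 D43319 (iv6 D20541) (iv2 F62794)
theorem F67991 : act 4 n43319 = n23203 := d10_1 D43319 (iv6 D23203) F32511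
theorem F67992 : act 5 n43319 = n20948 := d21_6 (iv5 F14663) (iv1 F14671) F14669 D9712 D20452 D43319 (iv1 D20948) (iv5 D9951) (iv6 D4541) D4538
theorem F67993 : act 0 n43319 = n23478 := d20_7 (iv4 F15315) F7462 (iv4 F17760) (iv3 F66748) (iv1 D23217) (iv3 F36305) (iv4 F67991) F36592 F17868 F15313
def n43320 : Q := act 3 n20453
theorem D43320 : act 3 n20453 = n43320 := rfl
theorem F67994 : act 7 n43320 = n20538 := d8_2 (iv7 F62791) D43320 (iv3 D20538)
def n43321 : Q := act 5 n20453
theorem D43321 : act 5 n20453 = n43321 := rfl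
theorem F67995 : act 2 n43321 = n20545 := d2_1 D43321 (iv5 D20545) F62792
theorem F67996 : act 7 n43321 = n20540 := d13_2 (iv7 F62791) D43321 (iv5 D20540)
def n43322 : Q := act 0 n20454
theorem D43322 : act 0 n20454 = n43322 := rfl
def n43323 : Q := act 1 n20454
theorem D43323 : act 1 n20454 = n43323 := rfl
theorem F67997 : act 1 n43323 = n20550 := d15_1 D43323 (iv7 D20550) (iv2 F32505)
theorem F67998 : act 5 n20796 = n43323 := d21_6 D9438 F14662 (iv5 D4488) D4489 D9879 D20796 (iv1 D43323) (iv5 D20454) (iv6 D9712) (iv1 F6319)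
def n43324 : Q := act 4 n20454
theorem D43324 : act 4 n20454 = n43324 := rfl
theorem F67999 : act 2 n43324 = n20549 := d1_1 D43324 (iv4 D20549) (iv2 F32505)
def n43325 : Q := act 7 n20454
theorem D43325 : act 7 n20454 = n43325 := rfl
theorem F68000 : act 2 n43325 = n20550 := d4_1 D43325 (iv7 D20550) (iv2 F32505)
theorem F68001 : act 5 n43325 = n20455 := d13_1 D43325 (iv7 D20455) D20454
theorem F68002 : act 1 n20550 = n43322 := d15_0 (iv0 D43322) D43325 F68000
theorem F68003 : act 1 n20548 = n43325 := d15_1 D20548 (iv7 D43325) F32505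
theorem F68004 : act 1 n43325 = n20547 := d15_0 (iv0 D20547) D20550 (iv2 F68000)
def n43326 : Q := act 5 n20457
theorem D43326 : act 5 n20457 = n43326 := rfl
theorem F68006 : act 7 n43326 = n20584 := d13_2 (iv7 F35929) D43326 (iv5 D20584)
def n43327 : Q := act 6 n20457
theorem D43327 : act 6 n20457 = n43327 := rfl
theorem F68007 : act 3 n43327 = n20460 := d7_1 D43327 (iv6 D20460) D20457
theorem F68008 : act 5 n43327 = n20997 := d21_6 F13997 F12101 (iv5 F7321) D10729 (iv1 F62750) D43327 (iv1 F64132) (iv5 D37871) (iv6 D18150) (iv1 F13995)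
def n43328 : Q := act 0 n20458
theorem D43328 : act 0 n20458 = n43328 := rfl
theorem F68009 : act 2 n20564 = n43328 := d15_3 (iv0 D43328) F63001 (iv7 F62724)
theorem F68010 : act 1 n20463 = n43328 := d15_0 (iv0 D43328) F35931 (iv2 F35922)
theorem F68011 : act 7 n43328 = n20477 := d15_2 (iv0 F63000) F68010 F32542
theorem F68012 : act 4 n22479 = n43328 := d20_0 (iv1 F68010) (iv4 D20463) F62969 (iv1 D19303) F14153 (iv4 F14154) D19311 (iv4 F62778) (iv3 D22491) (iv1 F35029)
theorem F68013 : act 6 n43328 = n42225 := d10_2 (iv6 F65867) F68012 F65869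
theorem F68014 : act 3 n43328 = n42528 := d20_3 F62781 (iv1 F35029) F68012 (iv1 D42528) (iv3 D20077) (iv4 D9455) (iv1 D4284) (iv4 F6182) (iv3 F6339) D9746
def n43329 : Q := act 3 n20458
theorem D43329 : act 3 n20458 = n43329 := rfl
theorem F68015 : act 7 n43329 = n20586 := d8_2 (iv7 F35931) D43329 (iv3 D20586)
theorem F68016 : act 0 n41072 = n43329 := d20_4 (iv4 F65773) F65770 F32367 (iv3 F62308) (iv3 D43329) (iv4 D20458) (iv1 F15166) (iv4 F15232) F15231 (iv1 F31754)
def n43330 : Q := act 5 n20458
theorem D43330 : act 5 n20458 = n43330 := rfl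
theorem F68017 : act 2 n43330 = n20567 := d2_1 D43330 (iv5 D20567) (iv2 F35930)
theorem F68018 : act 7 n43330 = n20587 := d13_2 (iv7 F35931) D43330 (iv5 D20587)
def n43331 : Q := act 6 n20458
theorem D43331 : act 6 n20458 = n43331 := rfl
theorem F68019 : act 2 n43331 = n20568 := d3_1 D43331 (iv6 D20568) (iv2 F35930)
theorem F68020 : act 4 n43331 = n20460 := d10_1 D43331 (iv6 D20460) D20458
def n43332 : Q := act 4 n20459
theorem D43332 : act 4 n20459 = n43332 := rfl
theorem F68022 : act 7 n43332 = n20589 := d11_2 (iv7 F35933) D43332 (iv4 D20589)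
def n43333 : Q := act 1 n20460
theorem D43333 : act 1 n20460 = n43333 := rfl
theorem F68023 : act 1 n43333 = n20578 := d15_1 D43333 (iv7 D20578) (iv2 F35934)
theorem F68025 : act 6 n41319 = n43333 := d21_3 D9358 D19887 F66544 (iv1 D43333) (iv6 D20460) D20459 F35803 F32776 (iv6 D19747) (iv1 F35783)
def n43334 : Q := act 3 n20463
theorem D43334 : act 3 n20463 = n43334 := rfl
theorem F68028 : act 4 n43334 = n23186 := d5_2 D20463 D43334 (iv3 D23186) F62970 (iv3 F62969)
theorem F68029 : act 7 n43334 = n20566 := d8_2 (iv7 F35923) D43334 (iv3 D20566)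
def n43335 : Q := act 5 n20463
theorem D43335 : act 5 n20463 = n43335 := rfl
theorem F68030 : act 2 n43335 = n20587 := d2_1 D43335 (iv5 D20587) (iv2 F35922)
theorem F68031 : act 7 n43335 = n20567 := d13_2 (iv7 F35923) D43335 (iv5 D20567)
def n43336 : Q := act 3 n20465
theorem D43336 : act 3 n20465 = n43336 := rfl
theorem F68032 : act 7 n43336 = n20599 := d8_2 (iv7 F35779) D43336 (iv3 D20599)
def n43337 : Q := act 4 n20465
theorem D43337 : act 4 n20465 = n43337 := rfl
theorem F68033 : act 2 n43337 = n20595 := d1_1 D43337 (iv4 D20595) (iv2 F35778)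
theorem F68034 : act 7 n43337 = n20600 := d11_2 (iv7 F35779) D43337 (iv4 D20600)
def n43339 : Q := act 4 n20466
theorem D43339 : act 4 n20466 = n43339 := rfl
theorem F68039 : act 2 n43339 = n20600 := d1_1 D43339 (iv4 D20600) (iv2 F35775)
theorem F68040 : act 7 n43339 = n20595 := d11_2 (iv7 F35776) D43339 (iv4 D20595)
theorem F68041 : act 0 n43339 = n22502 := d18_2 (iv1 F32517) D43339 (iv4 D22502) (iv5 D10684) (iv4 F17225) (iv0 F63000) (iv4 D20463) F15159 (iv5 F15238)
theorem F68042 : act 1 n43337 = n22502 := d15_0 (iv0 F68041) F68040 (iv2 F68033)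
def n43340 : Q := act 0 n20467
theorem D43340 : act 0 n20467 = n43340 := rfl
def n43341 : Q := act 1 n20467
theorem D43341 : act 1 n20467 = n43341 := rfl
theorem F68043 : act 1 n43341 = n20607 := d15_1 D43341 (iv7 D20607) (iv2 F32519)
def n43342 : Q := act 3 n20467
theorem D43342 : act 3 n20467 = n43342 := rfl
theorem F68044 : act 4 n43342 = n43342 := d5_2 D20467 D43342 (iv3 D43342) (iv4 D20467) F15161
theorem F68045 : act 6 n43342 = n20469 := d7_2 (iv6 F32520) D43342 (iv3 D20469)
def n43343 : Q := act 5 n20467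
theorem D43343 : act 5 n20467 = n43343 := rfl
theorem F68046 : act 2 n43343 = n20606 := d2_1 D43343 (iv5 D20606) (iv2 F32519)
def n43344 : Q := act 7 n20467
theorem D43344 : act 7 n20467 = n43344 := rfl
theorem F68047 : act 2 n43344 = n20607 := d4_1 D43344 (iv7 D20607) (iv2 F32519)
theorem F68048 : act 4 n43344 = n20468 := d11_1 D43344 (iv7 D20468) D20467
theorem F68049 : act 1 n20607 = n43340 := d15_0 (iv0 D43340) D43344 F68047
theorem F68050 : act 1 n20604 = n43344 := d15_1 D20604 (iv7 D43344) F32519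
theorem F68051 : act 4 n23234 = n43340 := d20_6 D9818 F15410 (iv4 D4991) (iv3 F7402) D10928 D23234 (iv1 F68049) F32683 F15237 (iv1 F6357)
theorem F68052 : act 7 n43340 = n20604 := d11_2 (iv7 F65903) F68051 (iv4 F65904)
theorem F68053 : act 0 n22478 = n23234 := d18_0 F68051 (iv1 F68049) F32683 F15238 (iv4 F15232) F32509 (iv4 F32511) F62736 D22478
theorem F68054 : act 2 n20604 = n43341 := d15_3 F68043 F68049 F68052
theorem F68055 : act 2 n43340 = n20603 := d15_3 (iv0 D20603) D20604 (iv7 F68052)
theorem F68056 : act 4 n20603 = n22500 := d1_2 F68051 F68055 (iv2 F65905)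
theorem F68057 : act 7 n20603 = n43341 := d4_2 (iv7 F68052) F68055 (iv2 F68054)
theorem F68058 : act 1 n43344 = n20603 := d15_1 F68050 F68057 (iv2 F68054)
theorem F68059 : act 4 n20599 = n22585 := d20_6 (iv4 F68056) (iv1 F68058) F68048 F32522 (iv1 F32525) D20599 (iv1 D22585) (iv4 D10708) (iv3 F17226) D22500
def n43345 : Q := act 0 n20469
theorem D43345 : act 0 n20469 = n43345 := rfl
def n43346 : Q := act 1 n20469
theorem D43346 : act 1 n20469 = n43346 := rfl
def n43347 : Q := act 2 n20469
theorem D43347 : act 2 n20469 = n43347 := rfl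
def n43348 : Q := act 5 n20469
theorem D43348 : act 5 n20469 = n43348 := rfl
theorem F68062 : act 3 n43348 = n20470 := d6_1 D43348 (iv5 D20470) D20469
def n43349 : Q := act 6 n20470
theorem D43349 : act 6 n20470 = n43349 := rfl
theorem F68063 : act 2 n43349 = n20640 := d3_1 D43349 (iv6 D20640) (iv2 F32528)
def n43350 : Q := act 0 n20474
theorem D43350 : act 0 n20474 = n43350 := rfl
theorem F68064 : act 4 n43350 = n41068 := d20_2 (iv4 F32532) D43350 (iv3 D41068) (iv1 D19330) (iv3 D9080) F7234 F15466 (iv4 F17803) (iv3 F31827) F31831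
theorem F68065 : act 3 n43350 = n43310 := d20_5 F7261 (iv1 F7310) (iv4 F15174) D20474 D43350 (iv4 D43310) (iv1 F32500) F15155 (iv3 D9711) (iv1 F6319)
theorem F68066 : act 1 n22482 = n43350 := d15_0 (iv0 D43350) F32534 D22482
theorem F68067 : act 7 n22480 = n43350 := d8_0 F68065 F67971 (iv3 F65142)
def n43351 : Q := act 1 n20474
theorem D43351 : act 1 n20474 = n43351 := rfl
theorem F68068 : act 4 n22633 = n43351 := d20_6 F17108 F13380 (iv4 D4906) D4905 D10723 D22633 (iv1 D43351) F32532 (iv3 D10602) D10601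
theorem F68069 : act 1 n43351 = n22482 := d18_6 (iv1 D39104) (iv4 F44373) F44374 (iv4 F52913) F52914 F68068 F35031 F34689 F60120
theorem F68070 : act 2 n22480 = n43351 := d15_3 F68069 F68066 (iv7 F68067)
theorem F68071 : act 7 n22481 = n43351 := d15_2 (iv0 D22480) D22481 (iv2 F68070)
theorem F68072 : act 2 n43350 = n22481 := d4_3 F68071 (iv2 F68070) F68067
theorem F68073 : act 3 n22481 = n43351 := d0_2 (iv3 F68065) F68072 (iv2 F68070) F65142 (iv2 F67970)
def n43352 : Q := act 2 n20474
theorem D43352 : act 2 n20474 = n43352 := rfl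
theorem F68074 : act 3 n43352 = n20497 := d0_2 D20474 D43352 (iv2 F32572) F30971 F15176
theorem F68075 : act 4 n43352 = n22236 := d1_2 (iv4 F32532) D43352 (iv2 D22236)
theorem F68076 : act 5 n43352 = n35022 := d2_2 (iv5 F32533) D43352 F55598
theorem F68077 : act 7 n43352 = n22482 := d4_2 (iv7 F32534) D43352 (iv2 D22482)
theorem F68078 : act 1 n43352 = n22480 := d15_0 (iv0 D22480) (iv7 F32534) D43352
theorem F68079 : act 1 n22481 = n43352 := d15_0 F68078 F68067 F68072
theorem F68080 : act 5 n20758 = n42401 := d19_17 F55601 (iv5 F68076) F68075 F34693 (iv1 F29798) (iv5 D18561) (iv4 D8722) (iv3 F9780) (iv1 F9784) (iv5 D3782) (iv4 F3169) (iv3 D1881) (iv1 F1836) D1872 D4474 D9867 D20758 F65482 (iv3 F55348)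
theorem F68081 : act 5 n42200 = n20898 := d17_1 D42200 (iv1 F33054) (iv5 F32953) F32952 (iv5 D20759) F32914 F68080 (iv0 D42401) F31860
theorem F68082 : act 2 n20758 = n20898 := d2_1 (iv5 F68080) (iv5 F68081) F65485
theorem F68083 : act 7 n20758 = n20898 := d13_2 F65487 (iv5 F68080) (iv5 F68081)
def n43353 : Q := act 6 n20474
theorem D43353 : act 6 n20474 = n43353 := rfl
theorem F68084 : act 3 n43353 = n20475 := d7_1 D43353 (iv6 D20475) D20474
theorem F68085 : act 4 n43353 = n22238 := d10_1 D43353 (iv6 D22238) (iv4 F32532)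
theorem F68086 : act 7 n42485 = n43353 := d8_0 F68084 F65639 D42485
def n43354 : Q := act 5 n20475
theorem D43354 : act 5 n20475 = n43354 := rfl
theorem F68087 : act 2 n43354 = n42275 := d2_1 D43354 (iv5 D42275) (iv2 F32536)
theorem F68088 : act 7 n43354 = n42486 := d13_2 (iv7 F65639) D43354 (iv5 D42486)
def n43355 : Q := act 6 n20476
theorem D43355 : act 6 n20476 = n43355 := rfl
theorem F68089 : act 2 n43355 = n42346 := d3_1 D43355 (iv6 D42346) (iv2 F32541)
theorem F68090 : act 3 n43355 = n20477 := d7_1 D43355 (iv6 D20477) D20476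
theorem F68091 : act 4 n43355 = n22676 := d10_1 D43355 (iv6 D22676) (iv4 F32538)
theorem F68092 : act 0 n43355 = n42227 := d20_7 F34707 (iv1 F17126) D10671 (iv3 F65704) (iv1 F62731) (iv3 F35237) (iv4 F68091) (iv4 F65950) (iv3 D22409) (iv1 F34711)
theorem F68093 : act 7 n42528 = n43355 := d8_0 F68090 (iv7 F68011) F68014
theorem E7968 : n42527 = n42346 := ((c15_4 (iv0 D42527) D42528 F68093 F68089)).symm
theorem F68094 : act 1 n42346 = n20077 := (sb E7968 (iv0 D42527))
def n43356 : Q := act 5 n20477
theorem D43356 : act 5 n20477 = n43356 := rfl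
theorem F68095 : act 2 n43356 = n22488 := d2_1 D43356 (iv5 D22488) (iv2 F32542)
def n43357 : Q := act 6 n20478
theorem D43357 : act 6 n20478 = n43357 := rfl
theorem F68096 : act 2 n43357 = n34951 := d3_1 D43357 (iv6 D34951) F32546
theorem F68097 : act 3 n43357 = n34947 := d7_1 D43357 (iv6 D34947) F32547
def n43358 : Q := act 3 n20479
theorem D43358 : act 3 n20479 = n43358 := rfl
theorem F68098 : act 2 n43358 = n34949 := d0_1 D43358 F55316 F32546 (iv3 F32547) F32551
theorem F68099 : act 4 n43358 = n34949 := d5_2 F33682 D43358 F55316 (iv4 F33418) (iv3 F33683)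
theorem F68100 : act 5 n43358 = n25560 := d6_2 (iv5 F32550) D43358 (iv3 D25560)
theorem F68101 : act 7 n43358 = n34949 := d8_2 (iv7 F32549) D43358 F55316
theorem F68102 : act 0 n43358 = n43310 := d20_10 (iv4 D43310) (iv1 F32500) F15155 (iv3 D9711) (iv1 F6319) D9437 (iv4 F16167) D21441 F33682 D43358
theorem F68103 : act 1 n43358 = n43310 := d15_1 (iv0 F68102) F67971 (iv2 F67970)
def n43359 : Q := act 6 n20479
theorem D43359 : act 6 n20479 = n43359 := rfl
theorem F68104 : act 2 n43359 = n34947 := d3_1 D43359 (iv6 D34947) F32551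
def n43360 : Q := act 6 n20480
theorem D43360 : act 6 n20480 = n43360 := rfl
theorem F68105 : act 2 n43360 = n20481 := d3_1 D43360 (iv6 D20481) D20480
theorem F68106 : act 3 n43360 = n42347 := d7_1 D43360 (iv6 D42347) (iv3 F32553)
theorem F68107 : act 5 n43360 = n28393 := d12_1 D43360 (iv6 D28393) (iv5 D13550) D13551 (iv5 F32554)
def n43361 : Q := act 0 n20481
theorem D43361 : act 0 n20481 = n43361 := rfl
def n43362 : Q := act 1 n20481
theorem D43362 : act 1 n20481 = n43362 := rfl
def n43363 : Q := act 3 n20482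
theorem D43363 : act 3 n20482 = n43363 := rfl
theorem F68108 : act 4 n43363 = n22341 := d5_2 (iv4 F35635) D43363 (iv3 D22341) (iv4 D10635) D10634
theorem F68109 : act 7 n43363 = n22871 := d8_2 (iv7 F35637) D43363 (iv3 D22871)
theorem F68110 : act 0 n42366 = n22341 := d20_7 (iv4 D19454) (iv1 D9136) D9138 (iv3 F17864) (iv1 F66791) (iv3 F31833) (iv4 F65447) (iv4 F68108) (iv3 D43363) F35634
def n43364 : Q := act 5 n20482
theorem D43364 : act 5 n20482 = n43364 := rfl
theorem F68111 : act 2 n43364 = n42356 := d2_1 D43364 (iv5 D42356) (iv2 F35644)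
theorem F68112 : act 7 n43364 = n22872 := d13_2 (iv7 F35637) D43364 (iv5 D22872)
def n43365 : Q := act 3 n20483
theorem D43365 : act 3 n20483 = n43365 := rfl
theorem F68113 : act 4 n43365 = n40853 := d5_2 (iv4 F35633) D43365 (iv3 D40853) (iv4 F63102) F63101
theorem F68114 : act 7 n43365 = n41162 := d8_2 F35646 D43365 F62357
theorem F68115 : act 0 n43365 = n20500 := d20_4 F63138 (iv1 F63132) (iv4 F35633) D43365 F32583 F15200 F66484 D10994 F17847 D19435
def n43366 : Q := act 5 n20483
theorem D43366 : act 5 n20483 = n43366 := rfl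
theorem F68116 : act 2 n43366 = n22872 := d2_1 D43366 (iv5 D22872) (iv2 F35632)
theorem F68117 : act 7 n43366 = n42356 := d13_2 F35646 D43366 (iv5 D42356)
def n43367 : Q := act 6 n20483
theorem D43367 : act 6 n20483 = n43367 := rfl
theorem F68118 : act 2 n43367 = n22873 := d3_1 D43367 (iv6 D22873) (iv2 F35632)
theorem F68119 : act 4 n43367 = n22869 := d10_1 D43367 (iv6 D22869) (iv4 F35633)
theorem F68120 : act 1 n20827 = n43367 := d18_6 F65854 (iv4 F32385) F65889 (iv4 D9885) D9886 D20827 F68119 F65874 (iv5 F65858)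
theorem F68121 : act 7 n42501 = n43367 := d15_2 (iv0 F65972) D42501 F68118
def n43368 : Q := act 0 n20484
theorem D43368 : act 0 n20484 = n43368 := rfl
theorem F68122 : act 1 n41321 = n43368 := d15_0 (iv0 D43368) (iv7 F63615) (iv2 F63663)
def n43369 : Q := act 1 n20484
theorem D43369 : act 1 n20484 = n43369 := rfl
theorem F68123 : act 1 n43369 = n41321 := d15_1 D43369 F63664 (iv2 F32560)
theorem F68124 : act 5 n43279 = n43369 := d21_6 (iv5 F32394) (iv1 F32397) (iv5 D9702) D9703 D20429 D43279 (iv1 D43369) (iv5 D20484) (iv6 D9725) D9721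
theorem F68125 : act 2 n43369 = n42359 := d2_1 F68124 (iv5 F65435) (iv2 F67872)
theorem F68126 : act 7 n42358 = n43369 := d15_2 F65434 F65433 F68125
theorem F68127 : act 7 n43368 = n42359 := d15_2 F68123 F68122 (iv2 F68125)
theorem F68128 : act 2 n42358 = n43368 := d4_3 F68127 (iv2 F68125) (iv7 F68126)
def n43370 : Q := act 4 n20484
theorem D43370 : act 4 n20484 = n43370 := rfl
theorem F68129 : act 2 n43370 = n42360 := d1_1 D43370 (iv4 D42360) (iv2 F32560)
def n43371 : Q := act 5 n20494
theorem D43371 : act 5 n20494 = n43371 := rfl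
theorem F68130 : act 2 n43371 = n23385 := d2_1 D43371 (iv5 D23385) (iv2 F66645)
def n43372 : Q := act 6 n20494
theorem D43372 : act 6 n20494 = n43372 := rfl
theorem F68131 : act 2 n43372 = n23386 := d3_1 D43372 (iv6 D23386) (iv2 F66645)
theorem F68132 : act 4 n43372 = n22805 := d10_1 D43372 (iv6 D22805) (iv4 F66647)
def n43373 : Q := act 5 n20495
theorem D43373 : act 5 n20495 = n43373 := rfl
theorem F68133 : act 3 n43373 = n23370 := d6_1 D43373 (iv5 D23370) (iv3 F66642)
theorem F68134 : act 7 n43373 = n23385 := d13_2 (iv7 F66644) D43373 (iv5 D23385)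
theorem F68135 : act 6 n42890 = n43373 := d7_0 F68133 (iv6 F36494) D42890
def n43374 : Q := act 6 n20495
theorem D43374 : act 6 n20495 = n43374 := rfl
theorem F68136 : act 3 n43374 = n20666 := d7_1 D43374 F62537 (iv3 F66642)
theorem F68137 : act 4 n43374 = n22810 := d10_1 D43374 (iv6 D22810) (iv4 F66643)
def n43375 : Q := act 6 n20497
theorem D43375 : act 6 n20497 = n43375 := rfl
theorem F68138 : act 2 n43375 = n41072 := d3_1 D43375 (iv6 D41072) F32572
theorem F68139 : act 4 n43375 = n41071 := d10_1 D43375 (iv6 D41071) (iv4 F32574)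
def n43376 : Q := act 6 n20498
theorem D43376 : act 6 n20498 = n43376 := rfl
theorem F68140 : act 2 n43376 = n20500 := d3_1 D43376 (iv6 D20500) D20498
theorem F68141 : act 3 n43376 = n42277 := d7_1 D43376 (iv6 D42277) (iv3 F32577)
def n43377 : Q := act 0 n20500
theorem D43377 : act 0 n20500 = n43377 := rfl
theorem F68142 : act 2 n41162 = n43377 := d15_3 (iv0 D43377) (iv0 F68115) F68114
theorem F68143 : act 4 n43377 = n41161 := d1_2 D41162 F68142 (iv2 D41161)
def n43378 : Q := act 5 n20500
theorem D43378 : act 5 n20500 = n43378 := rfl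
theorem F68144 : act 3 n43378 = n20504 := d6_1 D43378 (iv5 D20504) (iv3 F32583)
def n43379 : Q := act 7 n20500
theorem D43379 : act 7 n20500 = n43379 := rfl
theorem F68145 : act 3 n43379 = n20505 := d8_1 D43379 (iv7 D20505) (iv3 F32583)
theorem F68146 : act 6 n43379 = n41320 := d14_1 D43379 F63662 (iv6 D19985) (iv7 F15196) D20500
theorem F68147 : act 0 n41162 = n43379 := d20_4 (iv4 F15572) D20892 F63116 (iv3 F62357) F68145 F32588 F66487 D11003 F17864 F63137
def n43380 : Q := act 1 n20501
theorem D43380 : act 1 n20501 = n43380 := rfl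
theorem F68148 : act 1 n43380 = n42287 := d15_1 D43380 (iv7 D42287) (iv2 F32584)
theorem F68149 : act 7 n43380 = n42284 := d15_2 (iv0 F65414) D43380 F65302
theorem F68150 : act 4 n42353 = n43380 := d20_0 (iv1 D43380) (iv4 F32614) (iv3 F41553) (iv1 D23746) (iv3 D11122) (iv4 D5084) D5083 D11118 D23738 (iv1 F65416)
theorem F68151 : act 2 n43380 = n42285 := d1_1 F68150 F65306 F65419
def n43381 : Q := act 5 n20501
theorem D43381 : act 5 n20501 = n43381 := rfl
theorem F68152 : act 2 n43381 = n42286 := d2_1 D43381 (iv5 D42286) (iv2 F32584)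
theorem F68153 : act 6 n43381 = n20504 := d12_2 D20501 D43381 (iv5 D20504) (iv6 D9733) D9732
def n43382 : Q := act 3 n20502
theorem D43382 : act 3 n20502 = n43382 := rfl
theorem F68154 : act 4 n43382 = n22699 := d5_2 F66802 D43382 (iv3 D22699) (iv4 F66804) F66803
theorem F68155 : act 7 n43382 = n42294 := d8_2 (iv7 F66847) D43382 (iv3 D42294)
theorem F68156 : act 0 n43382 = n41320 := d20_4 (iv4 F15469) D20748 F66802 D43382 (iv3 D41320) (iv4 D19454) (iv1 D9136) D9138 (iv3 F17864) (iv1 F66791)
theorem F68157 : act 2 n43382 = n42349 := d15_3 (iv0 D42349) (iv0 F66848) (iv7 F68155)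
def n43383 : Q := act 5 n20502
theorem D43383 : act 5 n20502 = n43383 := rfl
theorem F68158 : act 2 n43383 = n42291 := d2_1 D43383 (iv5 D42291) (iv2 F66846)
theorem F68159 : act 7 n43383 = n42296 := d13_2 (iv7 F66847) D43383 (iv5 D42296)
def n43384 : Q := act 6 n20502
theorem D43384 : act 6 n20502 = n43384 := rfl
theorem F68160 : act 2 n43384 = n42292 := d3_1 D43384 (iv6 D42292) (iv2 F66846)
theorem F68161 : act 5 n43384 = n42134 := d21_6 D19576 F31340 (iv5 D9732) D9733 D20502 D43384 (iv1 D42134) (iv5 D19875) (iv6 D9355) (iv1 F14388)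
theorem F68162 : act 2 n42134 = n43284 := d2_1 F68161 (iv5 F67883) (iv2 F68160)
theorem F68163 : act 0 n42537 = n43384 := d17_0 F68161 (iv1 D42134) (iv5 D19875) F14577 D9358 F66524 F31522 (iv0 F66495) (iv4 F66010)
theorem F68164 : act 1 n42238 = n43384 := d15_0 (iv0 F68163) (iv7 D42537) (iv2 F65231)
theorem F68165 : act 7 n43283 = n42134 := d15_2 F67882 F67887 F68162
theorem F68166 : act 7 n42133 = n43284 := d15_2 F67888 F67890 (iv2 F68162)
theorem F68167 : act 2 n43283 = n42133 := d4_3 F68166 (iv2 F68162) (iv7 F68165)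
theorem F68168 : act 7 n43384 = n42534 := d13_2 F68165 (iv5 F68161) (iv5 F67889)
def n43385 : Q := act 3 n20503
theorem D43385 : act 3 n20503 = n43385 := rfl
theorem F68169 : act 4 n43385 = n22927 := d5_2 (iv4 F66505) D43385 (iv3 D22927) (iv4 D10825) D10824
theorem F68170 : act 7 n43385 = n42289 := d8_2 (iv7 F66842) D43385 (iv3 D42289)
def n43386 : Q := act 5 n20503
theorem D43386 : act 5 n20503 = n43386 := rfl
theorem F68171 : act 2 n43386 = n42296 := d2_1 D43386 (iv5 D42296) (iv2 F66841)
theorem F68172 : act 7 n43386 = n42291 := d13_2 (iv7 F66842) D43386 (iv5 D42291)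
def n43387 : Q := act 6 n20503
theorem D43387 : act 6 n20503 = n43387 := rfl
theorem F68173 : act 2 n43387 = n42297 := d3_1 D43387 (iv6 D42297) (iv2 F66841)
theorem F68174 : act 4 n43387 = n22926 := d10_1 D43387 (iv6 D22926) (iv4 F66505)
theorem F68175 : act 0 n20568 = n43387 := d20_1 (iv4 F32660) F68174 F35992 (iv1 F62678) (iv3 D20870) (iv4 D9899) F14204 (iv4 F15304) (iv3 F66527) (iv1 D20576)
def n43388 : Q := act 0 n20504
theorem D43388 : act 0 n20504 = n43388 := rfl
def n43389 : Q := act 1 n20504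
theorem D43389 : act 1 n20504 = n43389 := rfl
theorem F68176 : act 1 n43389 = n42301 := d15_1 D43389 (iv7 D42301) (iv2 F32586)
theorem F68177 : act 5 n43242 = n43389 := d21_6 (iv5 F32402) (iv1 D20397) (iv5 D9675) D9676 D20399 D43242 (iv1 D43389) (iv5 D20504) (iv6 D9733) (iv1 F15178)
theorem F68178 : act 2 n43389 = n42299 := d2_1 F68177 (iv5 F65313) (iv2 F67763)
def n43390 : Q := act 4 n20504
theorem D43390 : act 4 n20504 = n43390 := rfl
theorem F68179 : act 2 n43390 = n42300 := d1_1 D43390 (iv4 D42300) (iv2 F32586)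
def n43391 : Q := act 7 n20504
theorem D43391 : act 7 n20504 = n43391 := rfl
theorem F68180 : act 2 n43391 = n42301 := d4_1 D43391 (iv7 D42301) (iv2 F32586)
theorem F68181 : act 5 n43391 = n20505 := d13_1 D43391 (iv7 D20505) D20504
theorem F68182 : act 1 n42301 = n43388 := d15_0 (iv0 D43388) D43391 F68180
theorem F68183 : act 1 n42299 = n43391 := d15_1 D42299 (iv7 D43391) F32586
theorem F68184 : act 7 n43388 = n42299 := d15_2 F68176 F68182 (iv2 F68178)
theorem F68185 : act 2 n43388 = n42298 := d15_3 (iv0 D42298) D42299 (iv7 F68184)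
theorem F68186 : act 7 n42298 = n43389 := d4_2 (iv7 F68184) F68185 F68178
theorem F68187 : act 1 n43391 = n42298 := d15_1 F68183 F68186 F68178
def n43392 : Q := act 3 n20513
theorem D43392 : act 3 n20513 = n43392 := rfl
theorem F68188 : act 2 n43392 = n41322 := d0_1 D43392 (iv3 D41322) F31109 (iv3 F17864) (iv2 F66499)
theorem F68189 : act 4 n43392 = n43392 := d5_2 D20513 D43392 (iv3 D43392) (iv4 D20513) F66496
theorem F68190 : act 7 n43392 = n42316 := d8_2 (iv7 F65350) D43392 (iv3 D42316)
def n43393 : Q := act 5 n20513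
theorem D43393 : act 5 n20513 = n43393 := rfl
theorem F68191 : act 2 n43393 = n23477 := d2_1 D43393 (iv5 D23477) (iv2 F66499)
theorem F68192 : act 7 n43393 = n42317 := d13_2 (iv7 F65350) D43393 (iv5 D42317)
def n43394 : Q := act 6 n20513
theorem D43394 : act 6 n20513 = n43394 := rfl
theorem F68193 : act 2 n43394 = n23478 := d3_1 D43394 (iv6 D23478) (iv2 F66499)
theorem F68194 : act 4 n43394 = n20515 := d10_1 D43394 (iv6 D20515) D20513
def n43395 : Q := act 4 n20514
theorem D43395 : act 4 n20514 = n43395 := rfl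
theorem F68195 : act 2 n43395 = n23481 := d1_1 D43395 (iv4 D23481) (iv2 F66501)
theorem F68197 : act 7 n43395 = n42320 := d11_2 F65344 D43395 (iv4 D42320)
def n43396 : Q := act 4 n20516
theorem D43396 : act 4 n20516 = n43396 := rfl
theorem F68198 : act 2 n43396 = n22305 := d1_1 D43396 F34803 F32600
theorem F68199 : act 7 n43396 = n42361 := d11_2 F32602 D43396 (iv4 D42361)
theorem F68200 : act 1 n43396 = n41068 := d18_6 F51635 (iv4 D32571) (iv1 D15421) D15423 (iv5 F32598) D43396 (iv4 F68064) (iv0 D43350) F32533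
theorem F68201 : act 0 n43396 = n22633 := d20_1 D43396 F68068 (iv3 F68073) (iv1 D22481) (iv3 D10679) (iv4 D4890) F7104 (iv4 F7049) D9737 D20516
def n43397 : Q := act 6 n20516
theorem D43397 : act 6 n20516 = n43397 := rfl
theorem F68202 : act 2 n43397 = n42364 := d3_1 D43397 (iv6 D42364) F32600
theorem F68203 : act 3 n43397 = n42388 := d7_1 D43397 (iv6 D42388) F32601
def n43398 : Q := act 3 n20517
theorem D43398 : act 3 n20517 = n43398 := rfl
theorem F68204 : act 2 n43398 = n32620 := d0_1 D43398 F51669 (iv2 F27781) F31826 F32604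
theorem F68205 : act 5 n43398 = n26855 := d6_2 F55260 D43398 F55262
theorem F68206 : act 7 n43398 = n42363 := d8_2 (iv7 F32603) D43398 (iv3 D42363)
theorem F68207 : act 4 n43398 = n42341 := d20_6 (iv4 F33682) (iv1 F33684) F33420 F32622 (iv1 F32605) D43398 (iv1 F65380) F34933 F32577 (iv1 F32552)
theorem F68208 : act 0 n42196 = n43398 := d20_10 F68207 (iv1 F65380) F34933 F32577 (iv1 F32552) D43358 F68099 F65141 (iv4 D42197) D42196
theorem F68209 : act 1 n32620 = n41066 := d15_0 F65440 (iv7 F68206) F68204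
def n43399 : Q := act 4 n20517
theorem D43399 : act 4 n20517 = n43399 := rfl
theorem F68210 : act 2 n43399 = n42361 := d1_1 D43399 (iv4 D42361) F32604
theorem F68211 : act 7 n43399 = n22305 := d11_2 (iv7 F32603) D43399 F34803
theorem F68212 : act 1 n43399 = n22633 := d18_6 (iv1 F54143) F51456 (iv1 F54139) (iv4 F55261) F55260 D43399 F68068 F68069 (iv5 F35032)
theorem F68213 : act 0 n43399 = n41068 := d20_1 D43399 (iv4 F68064) F68065 (iv1 F68103) (iv3 D43358) (iv4 F33682) (iv1 F33684) F33420 F32622 (iv1 F32605)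
theorem F68214 : act 3 n43399 = n21856 := d20_3 F31830 (iv1 F32605) D43399 (iv1 D21856) (iv3 D10427) (iv4 D4723) (iv1 F3268) D2019 D4892 D10686
theorem E7969 : n22299 = n21856 := ((c8_2 (iv7 F68211) F68214 (iv7 F34801) D22305)).symm
theorem F68215 : act 2 n21856 = n10623 := (sb E7969 (iv2 D22299))
theorem F68216 : act 7 n21856 = n10624 := (sb E7969 (iv7 F34801))
theorem E7970 : n22304 = n21855 := (c15_4 (iv0 D21855) D21856 F68216 (iv2 F34802))
theorem F68217 : act 2 n21855 = n10624 := (sb E7970 F34802)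
theorem F68218 : act 7 n21855 = n10623 := (sb E7970 (iv7 D22304))
def n43400 : Q := act 6 n20517
theorem D43400 : act 6 n20517 = n43400 := rfl
theorem F68219 : act 2 n43400 = n42362 := d3_1 D43400 (iv6 D42362) F32604
def n43401 : Q := act 5 n20518
theorem D43401 : act 5 n20518 = n43401 := rfl
theorem F68220 : act 2 n43401 = n20519 := d2_1 D43401 (iv5 D20519) D20518
theorem F68221 : act 3 n43401 = n35992 := d6_1 D43401 F56708 (iv3 F32606)
theorem F68222 : act 7 n43401 = n26164 := d13_2 (iv7 F32607) D43401 (iv5 F41511)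
theorem F68223 : act 4 n43401 = n26172 := d17_4 (iv1 F31852) (iv5 F31825) (iv1 F32608) D43401 (iv5 F51681) (iv0 F51683) (iv5 D17011) F27869 F31850
theorem F68224 : act 1 n43401 = n29697 := d17_6 (iv1 D19582) D19584 (iv1 F60117) (iv5 F60120) F34690 D43401 (iv5 F47734) (iv0 D20774) F31348
theorem F68225 : act 6 n43401 = n31953 := d21_3 (iv5 F31825) (iv1 F32608) D43401 (iv1 F50300) F36980 D23776 (iv1 F40648) F40644 F31851 (iv1 F31852)
theorem F68226 : act 1 n33070 = n43401 := d15_0 F68224 (iv7 F50225) (iv2 F52294)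
def n43402 : Q := act 6 n20518
theorem D43402 : act 6 n20518 = n43402 := rfl
theorem F68227 : act 2 n43402 = n20520 := d3_1 D43402 (iv6 D20520) D20518
theorem F68228 : act 3 n43402 = n42389 := d7_1 D43402 (iv6 D42389) (iv3 F32606)
def n43403 : Q := act 1 n20519
theorem D43403 : act 1 n20519 = n43403 := rfl
theorem F68229 : act 1 n43403 = n26164 := d15_1 D43403 (iv7 F68222) F68220
theorem F68230 : act 7 n43403 = n33070 := d15_2 F50228 D43403 F52294
theorem F68231 : act 5 n43403 = n20919 := d17_7 (iv1 F31357) (iv5 F44590) (iv1 F44593) F44595 (iv4 F17230) D20519 D43403 F33092 (iv4 F31352)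
theorem F68232 : act 4 n43403 = n29695 := d17_9 (iv1 F54291) (iv5 F55710) (iv1 D32578) (iv5 D15424) D15423 (iv5 F32598) (iv0 D20516) D20519 D43403
theorem F68233 : act 2 n29697 = n43403 := d1_3 F68232 F47728 (iv4 F47733)
theorem F68234 : act 6 n29693 = n43403 := d10_0 F68232 (iv6 D29695) D29693
def n43404 : Q := act 4 n20519
theorem D43404 : act 4 n20519 = n43404 := rfl
theorem F68235 : act 2 n43404 = n26172 := d1_1 D43404 (iv4 F68223) F68220
theorem F68236 : act 3 n43404 = n26192 := d5_1 D43404 F41575 F32581 (iv4 F15210) (iv3 F32610)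
theorem F68237 : act 6 n43404 = n26183 := d10_2 (iv6 F41552) D43404 F41558
theorem F68238 : act 7 n43404 = n26160 := d11_2 (iv7 F32611) D43404 F41494
theorem F68239 : act 0 n43404 = n26170 := d17_0 F55481 (iv1 D17014) (iv5 D7942) (iv4 F12510) D16937 F33086 F50227 F50228 D43404
theorem F68240 : act 0 n26169 = n43404 := d20_10 (iv4 D43404) (iv1 F50228) (iv4 D31918) (iv3 D15053) (iv1 F20641) (iv3 F41391) F41392 F46890 (iv4 F46880) (iv3 F46893)
def n43405 : Q := act 0 n20520
theorem D43405 : act 0 n20520 = n43405 := rfl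
def n43406 : Q := act 1 n20520
theorem D43406 : act 1 n20520 = n43406 := rfl
def n43407 : Q := act 5 n20520
theorem D43407 : act 5 n20520 = n43407 := rfl
theorem F68241 : act 3 n43407 = n20524 := d6_1 D43407 (iv5 D20524) (iv3 F32612)
def n43408 : Q := act 0 n20521
theorem D43408 : act 0 n20521 = n43408 := rfl
theorem F68242 : act 4 n43408 = n25500 := d20_0 (iv1 F50265) (iv4 F65425) F65424 (iv1 F40277) (iv3 F50324) (iv4 D31971) (iv1 F41560) F41558 F41553 D43408
theorem F68243 : act 6 n25632 = n43408 := d10_0 F68242 F55130 D25632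
theorem F68244 : act 0 n43408 = n42396 := d20_1 (iv4 F68242) F65473 F65309 F37352 F37349 F18207 (iv1 F7670) F10219 D12123 D25500
def n43409 : Q := act 1 n20521
theorem D43409 : act 1 n20521 = n43409 := rfl
theorem F68245 : act 1 n43409 = n42396 := d15_1 D43409 (iv7 D42396) (iv2 F32613)
theorem F68246 : act 4 n25501 = n43409 := d20_0 (iv1 D43409) F32614 F41568 F50131 F50127 (iv4 D26152) (iv1 F20668) D15069 D31938 (iv1 F50264)
theorem F68247 : act 3 n43409 = n42372 := d20_3 F65425 (iv1 F50264) F68246 (iv1 D42372) (iv3 F41482) (iv4 D26158) (iv1 F20673) D15066 (iv3 F40310) (iv1 F65428)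
def n43410 : Q := act 5 n20521
theorem D43410 : act 5 n20521 = n43410 := rfl
theorem F68248 : act 2 n43410 = n42395 := d2_1 D43410 (iv5 D42395) (iv2 F32613)
theorem F68249 : act 6 n43410 = n20524 := d12_2 D20521 D43410 (iv5 D20524) (iv6 D9739) D9738
def n43411 : Q := act 7 n20521
theorem D43411 : act 7 n20521 = n43411 := rfl
theorem F68250 : act 2 n43411 = n42396 := d4_1 D43411 (iv7 D42396) (iv2 F32613)
theorem F68251 : act 3 n43411 = n26181 := d8_1 D43411 (iv7 F41551) F41553
theorem F68252 : act 4 n43411 = n26186 := d11_1 D43411 F41569 (iv4 F32614)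
theorem F68253 : act 6 n43411 = n31938 := d14_1 D43411 F50263 (iv6 D20007) (iv7 F15209) D20521
theorem F68254 : act 1 n42394 = n43411 := d15_1 D42394 (iv7 D43411) F32613
theorem F68255 : act 0 n42393 = n43411 := d20_1 (iv4 F65464) F68252 (iv3 D26186) D26184 (iv3 F41562) (iv4 D15061) (iv1 F20671) D26158 F41482 D42371
def n43412 : Q := act 0 n20524
theorem D43412 : act 0 n20524 = n43412 := rfl
theorem F68256 : act 5 n43412 = n43253 := d17_3 F63137 D20524 D43412 (iv4 D43253) (iv5 D20406) (iv0 D9677) (iv5 F16837) F35617 D9138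
theorem F68257 : act 1 n41326 = n43412 := d15_0 (iv0 D43412) (iv7 F63624) (iv2 F63675)
theorem F68258 : act 2 n42397 = n43412 := d2_3 F68256 F67790 (iv5 F65475)
theorem F68259 : act 7 n42398 = n43412 := d13_0 F68256 F67791 F65479
def n43413 : Q := act 1 n20524
theorem D43413 : act 1 n20524 = n43413 := rfl
theorem F68260 : act 1 n43413 = n41326 := d15_1 D43413 F63676 (iv2 F32616)
theorem F68261 : act 7 n43413 = n42397 := d15_2 (iv0 D43412) D43413 F68258
theorem F68262 : act 5 n40440 = n43413 := d21_6 D9398 (iv1 F15224) F15226 D9876 (iv1 F63425) (iv6 F61528) (iv1 D43413) (iv5 D20524) (iv6 D9739) (iv1 F6335)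
theorem F68263 : act 2 n43413 = n42398 := d2_1 F68262 (iv5 F65479) F65056
theorem F68264 : act 3 n43413 = n42385 := d6_1 F68262 (iv5 F65457) (iv3 F61527)
def n43414 : Q := act 4 n20524
theorem D43414 : act 4 n20524 = n43414 := rfl
theorem F68265 : act 2 n43414 = n42399 := d1_1 D43414 (iv4 D42399) (iv2 F32616)
def n43415 : Q := act 6 n20526
theorem D43415 : act 6 n20526 = n43415 := rfl
theorem F68266 : act 2 n43415 = n20527 := d3_1 D43415 (iv6 D20527) D20526
theorem F68267 : act 3 n43415 = n42365 := d7_1 D43415 (iv6 D42365) (iv3 F32622)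
def n43416 : Q := act 0 n20527
theorem D43416 : act 0 n20527 = n43416 := rfl
def n43417 : Q := act 1 n20527
theorem D43417 : act 1 n20527 = n43417 := rfl
def n43418 : Q := act 7 n20527
theorem D43418 : act 7 n20527 = n43418 := rfl
theorem F68268 : act 3 n43418 = n20531 := d8_1 D43418 (iv7 D20531) (iv3 F32626)
theorem F68269 : act 6 n43418 = n41325 := d14_1 D43418 F63674 (iv6 D20015) (iv7 F15213) D20527
def n43419 : Q := act 0 n20530
theorem D43419 : act 0 n20530 = n43419 := rfl
def n43420 : Q := act 1 n20530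
theorem D43420 : act 1 n20530 = n43420 := rfl
theorem F68270 : act 1 n43420 = n42387 := d15_1 D43420 (iv7 D42387) (iv2 F32628)
theorem F68271 : act 5 n43252 = n43420 := d21_6 D4403 D9743 F15219 D9874 (iv1 F63170) D43252 (iv1 D43420) (iv5 D20530) (iv6 D9742) (iv1 D4402)
theorem F68272 : act 2 n43420 = n42385 := d2_1 F68271 (iv5 F65457) (iv2 F67788)
def n43421 : Q := act 4 n20530
theorem D43421 : act 4 n20530 = n43421 := rfl
theorem F68273 : act 2 n43421 = n42386 := d1_1 D43421 (iv4 D42386) (iv2 F32628)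
def n43422 : Q := act 7 n20530
theorem D43422 : act 7 n20530 = n43422 := rfl
theorem F68274 : act 2 n43422 = n42387 := d4_1 D43422 (iv7 D42387) (iv2 F32628)
theorem F68275 : act 5 n43422 = n20531 := d13_1 D43422 (iv7 D20531) D20530
theorem F68276 : act 1 n42387 = n43419 := d15_0 (iv0 D43419) D43422 F68274
theorem F68277 : act 1 n42385 = n43422 := d15_1 D42385 (iv7 D43422) F32628
theorem F68278 : act 7 n43419 = n42385 := d15_2 F68270 F68276 (iv2 F68272)
theorem F68279 : act 3 n42397 = n43419 := d8_3 F68278 (iv3 F68264) F68261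
theorem F68280 : act 2 n43419 = n42384 := d15_3 (iv0 D42384) D42385 (iv7 F68278)
theorem F68281 : act 7 n42384 = n43420 := d4_2 (iv7 F68278) F68280 F68272
theorem F68282 : act 1 n43422 = n42384 := d15_1 F68277 F68281 F68272
def n43423 : Q := act 1 n20532
theorem D43423 : act 1 n20532 = n43423 := rfl
theorem F68283 : act 1 n43423 = n32414 := d15_1 D43423 F51467 (iv2 F32634)
theorem F68284 : act 4 n23960 = n43423 := d20_0 (iv1 D43423) F32636 F32406 (iv1 F26350) (iv3 D7886) (iv4 D3575) (iv1 F3462) D5164 D11227 D23960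
def n43424 : Q := act 5 n20532
theorem D43424 : act 5 n20532 = n43424 := rfl
theorem F68285 : act 2 n43424 = n42400 := d2_1 D43424 (iv5 D42400) (iv2 F32634)
theorem F68286 : act 3 n43424 = n32732 := d6_1 D43424 (iv5 D32732) (iv3 F32635)
theorem F68287 : act 6 n43424 = n20784 := d12_2 D20532 D43424 (iv5 D20784) (iv6 D9876) (iv5 F15226)
def n43425 : Q := act 2 n20533
theorem D43425 : act 2 n20533 = n43425 := rfl
theorem F68288 : act 7 n20534 = n43425 := d15_2 (iv0 D20533) D20534 (iv2 D43425)
def n43426 : Q := act 3 n20533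
theorem D43426 : act 3 n20533 = n43426 := rfl
def n43427 : Q := act 4 n20533
theorem D43427 : act 4 n20533 = n43427 := rfl
def n43428 : Q := act 5 n20533
theorem D43428 : act 5 n20533 = n43428 := rfl
def n43429 : Q := act 6 n20533
theorem D43429 : act 6 n20533 = n43429 := rfl
def n43430 : Q := act 7 n20533
theorem D43430 : act 7 n20533 = n43430 := rfl
theorem F68289 : act 2 n43430 = n20534 := d4_1 D43430 F68288 (iv2 D43425)
def n43431 : Q := act 3 n20534
theorem D43431 : act 3 n20534 = n43431 := rfl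
def n43432 : Q := act 4 n20534
theorem D43432 : act 4 n20534 = n43432 := rfl
def n43433 : Q := act 5 n20534
theorem D43433 : act 5 n20534 = n43433 := rfl
def n43434 : Q := act 6 n20534
theorem D43434 : act 6 n20534 = n43434 := rfl
def n43435 : Q := act 0 n20535
theorem D43435 : act 0 n20535 = n43435 := rfl
def n43436 : Q := act 1 n20535
theorem D43436 : act 1 n20535 = n43436 := rfl
theorem F68290 : act 5 n34812 = n43436 := d21_6 F15219 (iv1 F6591) (iv5 F15531) D20787 F65523 (iv6 F55019) (iv1 D43436) (iv5 D20535) (iv6 D9745) D9743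
theorem F68291 : act 3 n43436 = n34813 := d6_1 F68290 (iv5 D34813) D34812
def n43437 : Q := act 4 n20535
theorem D43437 : act 4 n20535 = n43437 := rfl
theorem F68292 : act 6 n43437 = n20549 := d10_2 (iv6 F32638) D43437 (iv4 D20549)
def n43438 : Q := act 7 n20535
theorem D43438 : act 7 n20535 = n43438 := rfl
theorem F68293 : act 3 n43438 = n42420 := d8_1 D43438 (iv7 D42420) (iv3 F32637)
theorem F68294 : act 5 n43438 = n20536 := d13_1 D43438 (iv7 D20536) D20535
def n43439 : Q := act 0 n20538
theorem D43439 : act 0 n20538 = n43439 := rfl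
def n43440 : Q := act 1 n20538
theorem D43440 : act 1 n20538 = n43440 := rfl
def n43441 : Q := act 2 n20538
theorem D43441 : act 2 n20538 = n43441 := rfl
def n43442 : Q := act 5 n20538
theorem D43442 : act 5 n20538 = n43442 := rfl
theorem F68295 : act 3 n43442 = n20540 := d6_1 D43442 (iv5 D20540) D20538
def n43443 : Q := act 6 n20538
theorem D43443 : act 6 n20538 = n43443 := rfl
theorem F68296 : act 3 n43443 = n20541 := d7_1 D43443 (iv6 D20541) D20538
def n43444 : Q := act 0 n20540
theorem D43444 : act 0 n20540 = n43444 := rfl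
theorem F68297 : act 5 n43444 = n43289 := d17_3 D9746 D20540 D43444 F67899 (iv5 F32664) (iv0 D20570) (iv5 D9753) (iv0 D4405) (iv4 F6340)
theorem F68298 : act 1 n20545 = n43444 := d15_0 (iv0 D43444) (iv7 F67996) F67995
def n43445 : Q := act 1 n20540
theorem D43445 : act 1 n20540 = n43445 := rfl
theorem F68299 : act 1 n43445 = n20545 := d15_1 D43445 (iv7 F67989) F67988
def n43446 : Q := act 4 n20540
theorem D43446 : act 4 n20540 = n43446 := rfl
def n43447 : Q := act 6 n20540
theorem D43447 : act 6 n20540 = n43447 := rfl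
def n43448 : Q := act 0 n20541
theorem D43448 : act 0 n20541 = n43448 := rfl
def n43449 : Q := act 1 n20541
theorem D43449 : act 1 n20541 = n43449 := rfl
def n43450 : Q := act 5 n20541
theorem D43450 : act 5 n20541 = n43450 := rfl
theorem F68300 : act 2 n43450 = n20948 := d2_1 D43450 (iv5 F67992) F67990
theorem F68301 : act 0 n43450 = n20902 := d21_7 (iv5 F15226) (iv1 D9744) (iv5 D4403) D4404 D9746 D20541 D43450 (iv5 D20902) (iv6 D9938) (iv1 F6590)
theorem F68302 : act 4 n43449 = n20576 := d17_9 (iv1 D20576) D20577 F32671 (iv5 D9941) (iv4 F15669) D20902 (iv0 F68301) (iv5 D43450) D43449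
theorem F68303 : act 0 n20950 = n43450 := d21_1 (iv5 F33131) (iv5 D43450) (iv6 D20541) (iv1 F32512) F32508 (iv5 F65178) (iv1 F65180) D42460 F65569 (iv1 F33063)
theorem F68304 : act 3 n41313 = n43449 := d5_5 F68302 F66527 F15304 (iv3 F31097) (iv4 F63641)
theorem F68305 : act 6 n41311 = n43449 := d10_0 F68302 F66528 (iv4 F63637)
theorem F68306 : act 7 n23478 = n43449 := d11_0 F68302 F66529 (iv4 F36592)
theorem E7971 : n43448 = n43394 := ((c15_4 (iv0 D43448) D43449 (iv7 F68306) (iv2 F68193))).symm
theorem F68307 : act 1 n43394 = n20541 := (sb E7971 (iv0 D43448))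
def n43451 : Q := act 7 n20541
theorem D43451 : act 7 n20541 = n43451 := rfl
theorem F68308 : act 6 n43451 = n41310 := d14_1 D43451 F63636 (iv6 F63628) F62791 D20541
theorem F68309 : act 5 n20947 = n43451 := d21_2 D9951 D20947 F68308 (iv1 F63635) (iv6 D41298) D41297 (iv1 F63678) F63679 (iv6 D20946) (iv1 D9950)
theorem F68310 : act 7 n43450 = n20947 := d13_0 F68309 (iv7 D43451) D43450
def n43452 : Q := act 0 n20543
theorem D43452 : act 0 n20543 = n43452 := rfl
def n43453 : Q := act 1 n20543
theorem D43453 : act 1 n20543 = n43453 := rfl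
def n43454 : Q := act 2 n20543
theorem D43454 : act 2 n20543 = n43454 := rfl
def n43455 : Q := act 4 n20543
theorem D43455 : act 4 n20543 = n43455 := rfl
theorem F68311 : act 3 n43455 = n23159 := d5_1 D43455 (iv4 D23159) F62796 F62793 D20543
theorem F68312 : act 7 n43455 = n23207 := d11_2 F67987 D43455 (iv4 F67986)
def n43456 : Q := act 5 n20543
theorem D43456 : act 5 n20543 = n43456 := rfl
theorem F68313 : act 3 n43456 = n20545 := d6_1 D43456 (iv5 D20545) D20543
def n43457 : Q := act 6 n20543
theorem D43457 : act 6 n20543 = n43457 := rfl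
theorem F68314 : act 3 n43457 = n20546 := d7_1 D43457 (iv6 D20546) D20543
def n43458 : Q := act 4 n20545
theorem D43458 : act 4 n20545 = n43458 := rfl
def n43459 : Q := act 6 n20545
theorem D43459 : act 6 n20545 = n43459 := rfl
def n43460 : Q := act 5 n20546
theorem D43460 : act 5 n20546 = n43460 := rfl
theorem F68315 : act 0 n43460 = n40438 := d17_2 F63620 D43460 (iv5 D40438) (iv4 D19110) D19111 F35807 (iv5 D20591) (iv0 F35619) (iv4 F63619)
theorem F68316 : act 1 n43460 = n43251 := d17_6 D20387 D43222 F67709 F67697 (iv4 F62983) D43460 (iv5 D43251) F63170 F15527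
def n43461 : Q := act 2 n20547
theorem D43461 : act 2 n20547 = n43461 := rfl
theorem F68317 : act 7 n20548 = n43461 := d15_2 (iv0 D20547) D20548 (iv2 D43461)
def n43462 : Q := act 3 n20547
theorem D43462 : act 3 n20547 = n43462 := rfl
def n43463 : Q := act 4 n20547
theorem D43463 : act 4 n20547 = n43463 := rfl
def n43464 : Q := act 5 n20547
theorem D43464 : act 5 n20547 = n43464 := rfl
theorem F68318 : act 1 n43464 = n41932 := d17_8 F35792 (iv5 D20596) (iv1 F32526) F32523 (iv4 F32507) (iv5 F68001) F68004 D43464 F64681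
def n43465 : Q := act 6 n20547
theorem D43465 : act 6 n20547 = n43465 := rfl
def n43466 : Q := act 7 n20547
theorem D43466 : act 7 n20547 = n43466 := rfl
theorem F68319 : act 2 n43466 = n20548 := d4_1 D43466 F68317 (iv2 D43461)
def n43467 : Q := act 3 n20548
theorem D43467 : act 3 n20548 = n43467 := rfl
def n43468 : Q := act 4 n20548
theorem D43468 : act 4 n20548 = n43468 := rfl
def n43469 : Q := act 5 n20548
theorem D43469 : act 5 n20548 = n43469 := rfl
theorem F68320 : act 6 n43469 = n20762 := d21_3 (iv5 F68001) (iv1 F68003) D43469 (iv1 F32924) (iv6 F15692) (iv5 F33131) F68303 (iv5 D43450) (iv6 D20541) (iv1 F32512)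
theorem F68321 : act 2 n20796 = n43469 := d3_3 F68320 F63408 D20796
theorem F68322 : act 4 n21349 = n43469 := d10_3 F68320 (iv4 F32926) D21349
theorem F68323 : act 0 n43469 = n41932 := d20_7 F15404 F16049 (iv4 F16051) (iv3 F31550) F63235 (iv3 F33538) F68322 F64681 F31509 (iv1 F15405)
theorem E7972 : n43466 = n43323 := (c2_4 (iv5 F67998) F68321 (iv5 D43469) (iv2 F68319))
theorem F68324 : act 2 n43323 = n20548 := (sb E7972 F68319)
theorem F68325 : act 7 n43323 = n20547 := (sb E7972 (iv7 D43466))
theorem F68326 : act 7 n43464 = n20796 := d13_2 F68325 D43464 F67998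
theorem E7973 : n43461 = n43322 := (c15_4 (iv0 D43322) D43323 F68325 D43461)
theorem F68327 : act 2 n43322 = n20547 := (sb E7973 (iv2 D43461))
theorem F68328 : act 7 n43322 = n20548 := (sb E7973 (iv7 F68317))
def n43470 : Q := act 6 n20548
theorem D43470 : act 6 n20548 = n43470 := rfl
def n43471 : Q := act 0 n20549
theorem D43471 : act 0 n20549 = n43471 := rfl
def n43472 : Q := act 1 n20549
theorem D43472 : act 1 n20549 = n43472 := rfl
def n43473 : Q := act 3 n20549
theorem D43473 : act 3 n20549 = n43473 := rfl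
theorem F68329 : act 4 n43473 = n42464 := d5_2 D20549 D43473 (iv3 D42464) (iv4 D20041) (iv3 F15230)
def n43474 : Q := act 5 n20549
theorem D43474 : act 5 n20549 = n43474 := rfl
def n43475 : Q := act 7 n20549
theorem D43475 : act 7 n20549 = n43475 := rfl
theorem F68330 : act 4 n43475 = n20550 := d11_1 D43475 (iv7 D20550) D20549
def n43476 : Q := act 6 n20550
theorem D43476 : act 6 n20550 = n43476 := rfl
theorem F68331 : act 3 n43476 = n42467 := d7_1 D43476 (iv6 D42467) (iv3 F32644)
theorem F68332 : act 5 n43476 = n42467 := d12_1 D43476 (iv6 D42467) F31869 (iv6 F15233) (iv5 F32645)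
def n43477 : Q := act 3 n20560
theorem D43477 : act 3 n20560 = n43477 := rfl
theorem F68333 : act 4 n43477 = n20566 := d5_2 D20560 D43477 (iv3 D20566) (iv4 D9752) D9751
theorem F68334 : act 7 n43477 = n23186 := d8_2 (iv7 F35943) D43477 (iv3 D23186)
def n43478 : Q := act 5 n20560
theorem D43478 : act 5 n20560 = n43478 := rfl
theorem F68335 : act 2 n43478 = n23184 := d2_1 D43478 (iv5 D23184) (iv2 F35944)
theorem F68336 : act 7 n43478 = n23187 := d13_2 (iv7 F35943) D43478 (iv5 D23187)
def n43479 : Q := act 6 n20560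
theorem D43479 : act 6 n20560 = n43479 := rfl
theorem F68337 : act 2 n43479 = n23185 := d3_1 D43479 (iv6 D23185) (iv2 F35944)
theorem F68338 : act 4 n43479 = n20562 := d10_1 D43479 (iv6 D20562) D20560
theorem F68339 : act 5 n43479 = n21695 := d21_6 D10341 (iv1 F17708) (iv5 D10902) D10903 F32655 D43479 (iv1 D21695) (iv5 D10352) (iv6 D4691) D4688
theorem F68340 : act 0 n43479 = n23618 := d20_7 (iv4 D9899) F14204 (iv4 F15304) (iv3 F66527) (iv1 D20576) (iv3 F32657) (iv4 F68338) F36752 F17945 (iv1 F15547)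
def n43480 : Q := act 0 n20561
theorem D43480 : act 0 n20561 = n43480 := rfl
theorem F68341 : act 5 n43480 = n41907 := d21_2 D20561 D43480 (iv6 D41907) F63709 (iv6 D19204) F14101 F12125 (iv5 F14148) D19298 (iv1 F62632)
def n43481 : Q := act 1 n20561
theorem D43481 : act 1 n20561 = n43481 := rfl
def n43482 : Q := act 4 n20561
theorem D43482 : act 4 n20561 = n43482 := rfl
def n43484 : Q := act 0 n20562
theorem D43484 : act 0 n20562 = n43484 := rfl
def n43485 : Q := act 1 n20562
theorem D43485 : act 1 n20562 = n43485 := rfl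
def n43486 : Q := act 7 n20562
theorem D43486 : act 7 n20562 = n43486 := rfl
theorem F68344 : act 3 n43486 = n20578 := d8_1 D43486 (iv7 D20578) (iv3 F32657)
theorem F68345 : act 5 n43486 = n20993 := d13_1 D43486 F63045 (iv5 F63043)
def n43487 : Q := act 3 n20564
theorem D43487 : act 3 n20564 = n43487 := rfl
theorem F68347 : act 4 n43487 = n22517 := d5_2 (iv4 F62723) D43487 F35079 F17233 (iv3 F17228)
theorem F68348 : act 6 n43487 = n42485 := d7_2 (iv6 F65973) D43487 (iv3 D42485)
theorem F68349 : act 7 n43487 = n22484 := d8_2 (iv7 F62724) D43487 F35048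
def n43488 : Q := act 5 n20564
theorem D43488 : act 5 n20564 = n43488 := rfl
theorem F68350 : act 7 n43488 = n22488 := d13_2 (iv7 F62724) D43488 (iv5 D22488)
def n43489 : Q := act 0 n20566
theorem D43489 : act 0 n20566 = n43489 := rfl
def n43490 : Q := act 1 n20566
theorem D43490 : act 1 n20566 = n43490 := rfl
def n43491 : Q := act 2 n20566
theorem D43491 : act 2 n20566 = n43491 := rfl
def n43492 : Q := act 5 n20566
theorem D43492 : act 5 n20566 = n43492 := rfl
theorem F68351 : act 3 n43492 = n20567 := d6_1 D43492 (iv5 D20567) D20566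
def n43493 : Q := act 6 n20566
theorem D43493 : act 6 n20566 = n43493 := rfl
theorem F68352 : act 3 n43493 = n20568 := d7_1 D43493 (iv6 D20568) D20566
def n43494 : Q := act 0 n20567
theorem D43494 : act 0 n20567 = n43494 := rfl
theorem F68353 : act 5 n43494 = n43282 := d21_2 D20567 D43494 (iv6 D43282) (iv1 D20430) (iv6 D9703) D9702 (iv1 F32400) F32402 D20477 F62744
theorem F68354 : act 1 n20587 = n43494 := d15_0 (iv0 D43494) (iv7 F68031) F68030
def n43495 : Q := act 1 n20567
theorem D43495 : act 1 n20567 = n43495 := rfl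
theorem F68355 : act 1 n43495 = n20587 := d15_1 D43495 (iv7 F68018) F68017
def n43496 : Q := act 4 n20567
theorem D43496 : act 4 n20567 = n43496 := rfl
def n43497 : Q := act 6 n20567
theorem D43497 : act 6 n20567 = n43497 := rfl
def n43498 : Q := act 1 n20568
theorem D43498 : act 1 n20568 = n43498 := rfl
theorem F68356 : act 7 n43498 = n42297 := d15_2 (iv0 F68175) D43498 (iv2 F68173)
theorem F68357 : act 6 n42534 = n43498 := d21_3 D20431 D43283 F67889 (iv1 D43498) (iv6 D20568) D20567 D43494 F68353 (iv6 D43282) (iv1 D20430)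
def n43499 : Q := act 5 n20568
theorem D43499 : act 5 n20568 = n43499 := rfl
theorem F68358 : act 0 n43499 = n22075 := d21_1 D43499 (iv5 D22075) (iv6 D10513) F7308 D9703 D20431 D43283 F67889 F68357 (iv1 D43498)
def n43500 : Q := act 7 n20568
theorem D43500 : act 7 n20568 = n43500 := rfl
theorem F68359 : act 4 n43500 = n20578 := d11_1 D43500 (iv7 D20578) (iv4 F32660)
theorem F68360 : act 6 n43500 = n41309 := d14_1 D43500 (iv7 F63645) F63644 F35923 D20568
def n43501 : Q := act 4 n20570
theorem D43501 : act 4 n20570 = n43501 := rfl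
def n43502 : Q := act 6 n20570
theorem D43502 : act 6 n20570 = n43502 := rfl
theorem F68361 : act 2 n43502 = n42643 := d3_1 D43502 F66475 (iv2 F35678)
theorem F68363 : act 5 n43502 = n20618 := d12_1 D43502 F32716 (iv5 D20440) D20441 (iv5 F32664)
theorem F68364 : act 7 n43502 = n42335 := d14_2 F66383 D43502 (iv6 D42335) (iv7 F35719) (iv6 F66380)
theorem F68365 : act 1 n42643 = n42720 := d15_0 (iv0 F66930) (iv7 F68364) F68361
def n43504 : Q := act 0 n20572
theorem D43504 : act 0 n20572 = n43504 := rfl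
theorem F68367 : act 1 n20589 = n43504 := d15_0 (iv0 D43504) F66378 F66376
def n43505 : Q := act 1 n20572
theorem D43505 : act 1 n20572 = n43505 := rfl
def n43507 : Q := act 5 n20572
theorem D43507 : act 5 n20572 = n43507 := rfl
def n43510 : Q := act 4 n20577
theorem D43510 : act 4 n20577 = n43510 := rfl
theorem F68376 : act 2 n43510 = n20998 := d1_1 D43510 (iv4 D20998) (iv2 F35893)
theorem F68377 : act 7 n43510 = n20994 := d11_2 (iv7 F35894) D43510 (iv4 D20994)
theorem F68378 : act 0 n43510 = n22089 := d18_2 F32672 D43510 (iv4 D22089) (iv5 D10516) (iv4 F16713) (iv0 F62904) (iv4 D20910) F15670 (iv5 F15697)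
def n43511 : Q := act 5 n20581
theorem D43511 : act 5 n20581 = n43511 := rfl
theorem F68379 : act 3 n43511 = n20648 := d6_1 D43511 (iv5 D20648) (iv3 F62771)
theorem F68380 : act 7 n43511 = n22653 := d13_2 (iv7 F62774) D43511 (iv5 D22653)
theorem F68381 : act 0 n43511 = n20599 := d18_0 F68059 (iv1 D22585) (iv4 D10708) (iv5 D4897) (iv4 F7314) D10693 (iv4 F62727) D20581 D43511
def n43512 : Q := act 5 n20582
theorem D43512 : act 5 n20582 = n43512 := rfl
theorem F68382 : act 2 n43512 = n20584 := d2_1 D43512 (iv5 D20584) D20582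
def n43513 : Q := act 0 n20584
theorem D43513 : act 0 n20584 = n43513 := rfl
def n43514 : Q := act 1 n20584
theorem D43514 : act 1 n20584 = n43514 := rfl
theorem F68383 : act 5 n43260 = n43514 := d21_6 (iv5 D22761) D22758 (iv5 F58696) (iv6 F61671) (iv1 F61673) D43260 (iv1 D43514) (iv5 D20584) D20585 F62997
theorem F68384 : act 3 n43514 = n20662 := d6_1 F68383 (iv5 F66180) (iv3 F67820)
def n43515 : Q := act 4 n20584
theorem D43515 : act 4 n20584 = n43515 := rfl
theorem F68385 : act 6 n43515 = n22470 := d10_2 F63051 D43515 F63054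
def n43516 : Q := act 5 n20585
theorem D43516 : act 5 n20585 = n43516 := rfl
theorem F68386 : act 3 n43516 = n20591 := d6_1 D43516 (iv5 D20591) (iv3 F32675)
theorem F68387 : act 7 n43516 = n20984 := d13_2 (iv7 F63010) D43516 F63009
theorem F68388 : act 1 n43516 = n40401 := d17_6 F35659 D19670 D41801 F64459 F62994 D43516 (iv5 D40401) (iv0 F35847) (iv4 F31297)
theorem F68389 : act 4 n43516 = n41810 := d18_5 (iv1 D10801) (iv4 F17313) (iv1 F62996) F62994 D43516 (iv0 D41810) (iv4 D19675) F62654 (iv5 F62656)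
theorem F68390 : act 0 n43516 = n43258 := d18_0 F67812 (iv1 F64795) F34636 (iv5 F17317) D22852 F35425 F35337 (iv0 F62997) D43516
def n43517 : Q := act 0 n20586
theorem D43517 : act 0 n20586 = n43517 := rfl
def n43518 : Q := act 1 n20586
theorem D43518 : act 1 n20586 = n43518 := rfl
theorem F68391 : act 3 n42225 = n43518 := d20_3 D20031 D42427 (iv4 F65869) (iv1 D43518) (iv3 D20586) (iv4 D9757) (iv1 D4406) (iv4 F6340) F6339 D9444
theorem F68392 : act 4 n41080 = n43518 := d20_6 F7314 D4895 D10698 (iv3 F62720) (iv1 F65806) (iv3 F62323) (iv1 D43518) (iv4 F62993) (iv3 D22528) (iv1 D10693)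
theorem F68393 : act 7 n43518 = n41072 := d11_2 D41080 F68392 F62309
theorem F68394 : act 6 n42528 = n43518 := d14_5 F68393 (iv6 D41072) (iv7 F32539) D43355 (iv7 F68093)
theorem E7974 : n43517 = n43375 := ((c15_4 (iv0 D43517) D43518 F68393 (iv2 F68138))).symm
theorem F68395 : act 1 n43375 = n20586 := (sb E7974 (iv0 D43517))
def n43519 : Q := act 2 n20586
theorem D43519 : act 2 n20586 = n43519 := rfl
def n43520 : Q := act 5 n20586
theorem D43520 : act 5 n20586 = n43520 := rfl
theorem F68396 : act 3 n43520 = n20587 := d6_1 D43520 (iv5 D20587) D20586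
def n43521 : Q := act 6 n20586
theorem D43521 : act 6 n20586 = n43521 := rfl
theorem F68397 : act 3 n43521 = n20588 := d7_1 D43521 (iv6 D20588) D20586
def n43522 : Q := act 4 n20587
theorem D43522 : act 4 n20587 = n43522 := rfl
def n43523 : Q := act 6 n20587
theorem D43523 : act 6 n20587 = n43523 := rfl
def n43524 : Q := act 0 n20588
theorem D43524 : act 0 n20588 = n43524 := rfl
theorem F68398 : act 5 n43524 = n42186 := d17_1 D43524 (iv1 F67782) F67776 F32411 F35602 (iv0 D9118) D9122 (iv0 F35610) (iv4 F32676)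
theorem F68399 : act 1 n41309 = n43524 := d15_0 (iv0 D43524) (iv7 F63647) F63646
theorem F68400 : act 7 n43524 = n42357 := d15_2 (iv0 F63633) F68399 F65429
theorem F68401 : act 6 n42501 = n43524 := d14_5 F68400 (iv6 D42357) F35646 D43367 (iv7 F68121)
def n43525 : Q := act 5 n20588
theorem D43525 : act 5 n20588 = n43525 := rfl
theorem F68402 : act 1 n43525 = n43241 := d17_6 D9677 D20406 F32677 (iv5 D20591) (iv4 F32676) D43525 (iv5 D43241) (iv0 D20399) F15077
theorem F68403 : act 1 n43244 = n43525 := d15_0 F68402 F67762 (iv2 F67767)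
def n43526 : Q := act 3 n20589
theorem D43526 : act 3 n20589 = n43526 := rfl
def n43527 : Q := act 5 n20589
theorem D43527 : act 5 n20589 = n43527 := rfl
def n43528 : Q := act 4 n20591
theorem D43528 : act 4 n20591 = n43528 := rfl
theorem F68404 : act 7 n43528 = n20987 := d11_2 (iv7 F35941) D43528 F33160
theorem F68405 : act 0 n43528 = n43279 := d17_0 F68124 (iv1 D43369) (iv5 D20484) F15186 F16837 F35661 D19111 F35807 D43528
def n43529 : Q := act 0 n20594
theorem D43529 : act 0 n20594 = n43529 := rfl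
def n43530 : Q := act 1 n20594
theorem D43530 : act 1 n20594 = n43530 := rfl
def n43531 : Q := act 4 n20594
theorem D43531 : act 4 n20594 = n43531 := rfl
theorem F68406 : act 7 n43531 = n23243 := d11_2 (iv7 F66317) D43531 (iv4 F66318)
theorem F68407 : act 0 n43531 = n23246 := d20_7 (iv4 F15437) (iv1 D9821) (iv4 D4435) (iv3 F6341) D9760 D20594 D43531 F36335 F17739 (iv1 F7416)
theorem E7975 : n43530 = n40972 := (c18_9 (iv1 F62632) D20560 F32654 F17734 (iv5 F17740) (iv4 F36335) (iv0 F68407) (iv4 D43531) D43530 (iv5 D40972))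
theorem F68408 : act 0 n40972 = n20594 := (sb E7975 (iv1 D43530))
theorem F68409 : act 0 n23162 = n43531 := d20_1 D23162 (iv4 D43531) (iv3 D20594) (iv1 F32526) F32522 (iv4 F68048) (iv1 F68050) (iv4 F65904) F65902 F33559
theorem F68410 : act 2 n43531 = n23242 := d15_3 (iv0 D23242) D23243 (iv7 F68406)
theorem F68411 : act 4 n23242 = n40994 := d1_2 D43531 F68410 (iv2 F66319)
def n43532 : Q := act 5 n20594
theorem D43532 : act 5 n20594 = n43532 := rfl
theorem F68412 : act 3 n43532 = n20596 := d6_1 D43532 (iv5 D20596) D20594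
theorem F68413 : act 7 n43532 = n20817 := d13_2 (iv7 F66317) D43532 F66315
def n43533 : Q := act 6 n20594
theorem D43533 : act 6 n20594 = n43533 := rfl
theorem F68414 : act 3 n43533 = n20597 := d7_1 D43533 (iv6 D20597) D20594
def n43534 : Q := act 0 n20595
theorem D43534 : act 0 n20595 = n43534 := rfl
theorem F68415 : act 4 n43534 = n22503 := d18_3 D9760 D20595 D43534 F35055 (iv4 F62723) (iv0 D20564) (iv4 D9752) (iv0 D4405) D4407
theorem F68416 : act 1 n20600 = n43534 := d15_0 (iv0 D43534) (iv7 F68040) F68039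
theorem F68417 : act 7 n22502 = n43534 := d11_0 F68415 (iv7 D22503) D22502
def n43535 : Q := act 1 n20595
theorem D43535 : act 1 n20595 = n43535 := rfl
theorem F68418 : act 1 n43535 = n20600 := d15_1 D43535 (iv7 F68034) F68033
theorem F68419 : act 2 n22502 = n43535 := d15_3 F68418 F68416 (iv7 F68417)
theorem F68420 : act 4 n22478 = n43535 := d18_5 (iv1 F15167) D9757 (iv1 F62745) F32543 D22478 F68418 (iv4 D20600) F32525 F32523
theorem F68421 : act 6 n43535 = n20614 := d10_2 (iv6 F35025) F68420 F32709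
def n43536 : Q := act 3 n20595
theorem D43536 : act 3 n20595 = n43536 := rfl
def n43537 : Q := act 5 n20595
theorem D43537 : act 5 n20595 = n43537 := rfl
def n43538 : Q := act 6 n20595
theorem D43538 : act 6 n20595 = n43538 := rfl
def n43539 : Q := act 4 n20596
theorem D43539 : act 4 n20596 = n43539 := rfl
theorem F68423 : act 7 n43539 = n20823 := d11_2 (iv7 F35777) D43539 F32977
def n43542 : Q := act 2 n20599
theorem D43542 : act 2 n20599 = n43542 := rfl
theorem F68434 : act 5 n43542 = n37862 := d2_2 (iv5 F66301) D43542 (iv2 F66303)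
theorem F68435 : act 0 n43542 = n22653 := d21_7 F7247 F6379 D3831 D8559 D18147 D37862 (iv5 F68434) (iv5 D22653) (iv6 D10729) (iv1 F12316)
def n43543 : Q := act 6 n20599
theorem D43543 : act 6 n20599 = n43543 := rfl
theorem F68436 : act 3 n43543 = n20602 := d7_1 D43543 (iv6 D20602) D20599
theorem F68437 : act 5 n43543 = n42526 := d12_1 D43543 (iv6 F66297) (iv5 D40547) D40548 (iv5 F66301)
theorem F68438 : act 7 n42525 = n43543 := d13_0 F68437 (iv7 D42526) D42525
theorem F68439 : act 0 n43543 = n43257 := d21_7 (iv5 F62406) (iv1 D41205) (iv5 F31005) D22777 F62407 F66297 (iv5 F68437) (iv5 D43257) D43258 (iv1 F67815)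
theorem F68440 : act 1 n43543 = n43259 := d15_1 (iv0 F68439) F67817 (iv2 F67809)
def n43544 : Q := act 3 n20600
theorem D43544 : act 3 n20600 = n43544 := rfl
def n43545 : Q := act 5 n20600
theorem D43545 : act 5 n20600 = n43545 := rfl
def n43546 : Q := act 6 n20600
theorem D43546 : act 6 n20600 = n43546 := rfl
theorem F68441 : act 4 n43546 = n20602 := d10_1 D43546 (iv6 D20602) D20600
theorem F68442 : act 7 n42544 = n43546 := d11_0 F68441 (iv7 F32938) D42544
def n43547 : Q := act 4 n20601
theorem D43547 : act 4 n20601 = n43547 := rfl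
theorem F68443 : act 2 n43547 = n20823 := d1_1 D43547 F32977 (iv2 F35736)
theorem F68444 : act 6 n43547 = n20768 := d10_2 (iv6 F32680) D43547 (iv4 D20768)
def n43548 : Q := act 3 n20603
theorem D43548 : act 3 n20603 = n43548 := rfl
def n43549 : Q := act 5 n20603
theorem D43549 : act 5 n20603 = n43549 := rfl
def n43550 : Q := act 6 n20603
theorem D43550 : act 6 n20603 = n43550 := rfl
def n43551 : Q := act 3 n20604
theorem D43551 : act 3 n20604 = n43551 := rfl
def n43552 : Q := act 5 n20604
theorem D43552 : act 5 n20604 = n43552 := rfl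
def n43553 : Q := act 6 n20604
theorem D43553 : act 6 n20604 = n43553 := rfl
def n43554 : Q := act 0 n20605
theorem D43554 : act 0 n20605 = n43554 := rfl
def n43555 : Q := act 1 n20605
theorem D43555 : act 1 n20605 = n43555 := rfl
def n43556 : Q := act 2 n20605
theorem D43556 : act 2 n20605 = n43556 := rfl
def n43557 : Q := act 5 n20605
theorem D43557 : act 5 n20605 = n43557 := rfl
theorem F68447 : act 3 n43557 = n20606 := d6_1 D43557 (iv5 D20606) D20605
def n43558 : Q := act 7 n20605
theorem D43558 : act 7 n20605 = n43558 := rfl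
theorem F68448 : act 3 n43558 = n20607 := d8_1 D43558 (iv7 D20607) D20605
def n43559 : Q := act 0 n20606
theorem D43559 : act 0 n20606 = n43559 := rfl
def n43560 : Q := act 1 n20606
theorem D43560 : act 1 n20606 = n43560 := rfl
def n43561 : Q := act 4 n20606
theorem D43561 : act 4 n20606 = n43561 := rfl
def n43562 : Q := act 6 n20606
theorem D43562 : act 6 n20606 = n43562 := rfl
theorem F68450 : act 5 n43562 = n20640 := d12_1 D43562 (iv6 D20640) (iv5 D9781) (iv6 F15236) D20606
def n43563 : Q := act 7 n20606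
theorem D43563 : act 7 n20606 = n43563 := rfl
theorem F68451 : act 5 n43563 = n20607 := d13_1 D43563 (iv7 D20607) D20606
def n43564 : Q := act 6 n20607
theorem D43564 : act 6 n20607 = n43564 := rfl
theorem F68452 : act 4 n43564 = n20608 := d10_1 D43564 (iv6 D20608) (iv4 F32683)
theorem F68453 : act 7 n43564 = n20642 := d14_2 D20607 D43564 (iv6 D20642) (iv7 D9782) (iv6 F15236)
def n43565 : Q := act 0 n20609
theorem D43565 : act 0 n20609 = n43565 := rfl
theorem F68454 : act 4 n43565 = n42336 := d18_1 D43565 (iv1 F66704) F66701 F31966 (iv4 F32588) F32592 (iv4 F66839) (iv0 D20895) (iv5 F32690)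
theorem F68455 : act 3 n43565 = n21872 := d20_3 D19975 D42336 (iv4 F68454) (iv1 F34334) F17368 D11078 F17951 (iv4 D11013) D11012 F35689
theorem F68456 : act 7 n22939 = n43565 := d8_0 F68455 F63526 D22939
theorem F68457 : act 7 n42336 = n42657 := d11_2 F68456 F68454 F66698
theorem F68458 : act 2 n42657 = n42337 := d15_3 F66703 F66704 F68457
theorem F68459 : act 2 n42336 = n42656 := d15_3 (iv0 D42656) D42657 (iv7 F68457)
def n43566 : Q := act 1 n20609
theorem D43566 : act 1 n20609 = n43566 := rfl
theorem F68461 : act 5 n43223 = n43566 := d21_6 F7106 F6041 D4359 D9668 D20387 D43223 (iv1 D43566) F32690 (iv6 D9927) (iv1 F7105)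
theorem F68462 : act 2 n43566 = n22939 := d2_1 F68461 F63952 (iv2 F67711)
theorem F68463 : act 4 n42337 = n43566 := d1_0 F68462 (iv4 F66698) F68458
def n43567 : Q := act 7 n20609
theorem D43567 : act 7 n20609 = n43567 := rfl
theorem F68465 : act 4 n43567 = n42677 := d11_1 D43567 (iv7 D42677) (iv4 F32689)
theorem F68467 : act 6 n43567 = n43270 := d14_1 D43567 (iv7 D43270) F32440 (iv7 F15247) D20609
theorem F68468 : act 1 n22939 = n43567 := d15_1 (iv0 F63953) (iv7 D43567) (iv2 F32901)
def n43568 : Q := act 6 n20610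
theorem D43568 : act 6 n20610 = n43568 := rfl
theorem F68469 : act 2 n43568 = n20612 := d3_1 D43568 (iv6 D20612) D20610
theorem F68470 : act 3 n43568 = n42618 := d7_1 D43568 (iv6 D42618) (iv3 F32691)
theorem F68471 : act 4 n43568 = n40518 := d10_1 D43568 (iv6 D40518) F32696
def n43569 : Q := act 3 n20611
theorem D43569 : act 3 n20611 = n43569 := rfl
theorem F68473 : act 4 n43569 = n20615 := d5_2 D20611 D43569 (iv3 D20615) (iv4 D9771) D9770
theorem F68474 : act 7 n43569 = n40519 := d8_2 (iv7 F32698) D43569 (iv3 D40519)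
def n43570 : Q := act 6 n20611
theorem D43570 : act 6 n20611 = n43570 := rfl
theorem F68475 : act 2 n43570 = n40518 := d3_1 D43570 (iv6 D40518) (iv2 F32697)
theorem F68476 : act 4 n43570 = n20612 := d10_1 D43570 (iv6 D20612) D20611
def n43571 : Q := act 0 n20612
theorem D43571 : act 0 n20612 = n43571 := rfl
theorem F68478 : act 6 n43571 = n41906 := d21_5 F32896 (iv1 F31680) (iv5 F16955) D20612 D43571 (iv5 D41906) F63709 D40688 F61796 (iv1 F32894)
theorem F68479 : act 3 n41912 = n43571 := d7_3 F68478 F64651 D41912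
theorem F68480 : act 7 n42953 = n43571 := d14_0 F68478 (iv7 F65020) F66369 (iv7 F66934) (iv6 F67309)
def n43572 : Q := act 1 n20612
theorem D43572 : act 1 n20612 = n43572 := rfl
def n43573 : Q := act 7 n20612
theorem D43573 : act 7 n20612 = n43573 := rfl
theorem F68481 : act 3 n43573 = n20620 := d8_1 D43573 (iv7 D20620) (iv3 F32701)
def n43574 : Q := act 3 n20613
theorem D43574 : act 3 n20613 = n43574 := rfl
theorem F68484 : act 4 n43574 = n22955 := d5_2 (iv4 F32703) D43574 (iv3 D22955) (iv4 D10838) (iv3 F17382)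
def n43576 : Q := act 3 n20614
theorem D43576 : act 3 n20614 = n43576 := rfl
def n43577 : Q := act 0 n20615
theorem D43577 : act 0 n20615 = n43577 := rfl
theorem F68490 : act 1 n42603 = n43577 := d15_0 (iv0 D43577) F32711 D42603
def n43578 : Q := act 1 n20615
theorem D43578 : act 1 n20615 = n43578 := rfl
def n43579 : Q := act 2 n20615
theorem D43579 : act 2 n20615 = n43579 := rfl
theorem F68491 : act 3 n43579 = n42634 := d0_2 D20615 D43579 (iv2 D42634) (iv3 D20122) F16956
theorem F68492 : act 7 n43579 = n42603 := d4_2 (iv7 F32711) D43579 (iv2 D42603)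
def n43580 : Q := act 5 n20615
theorem D43580 : act 5 n20615 = n43580 := rfl
theorem F68496 : act 3 n43580 = n20616 := d6_1 D43580 (iv5 D20616) D20615
theorem F68497 : act 7 n43580 = n42604 := d13_2 (iv7 F32711) D43580 (iv5 D42604)
def n43581 : Q := act 6 n20615
theorem D43581 : act 6 n20615 = n43581 := rfl
theorem F68498 : act 3 n43581 = n20617 := d7_1 D43581 (iv6 D20617) D20615
def n43582 : Q := act 6 n20616
theorem D43582 : act 6 n20616 = n43582 := rfl
theorem F68499 : act 2 n43582 = n42637 := d3_1 D43582 (iv6 D42637) (iv2 F32712)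
def n43583 : Q := act 0 n20617
theorem D43583 : act 0 n20617 = n43583 := rfl
theorem F68500 : act 4 n43583 = n42629 := d20_2 (iv4 F32715) D43583 (iv3 F66466) F64530 F32336 (iv4 F32350) (iv1 F32353) (iv4 D20300) D20299 F35797
def n43584 : Q := act 1 n20617
theorem D43584 : act 1 n20617 = n43584 := rfl
theorem F68501 : act 1 n43584 = n42641 := d15_1 D43584 (iv7 D42641) (iv2 F32714)
def n43585 : Q := act 5 n20617
theorem D43585 : act 5 n20617 = n43585 := rfl
def n43586 : Q := act 7 n20617
theorem D43586 : act 7 n20617 = n43586 := rfl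
theorem F68503 : act 2 n43586 = n42641 := d4_1 D43586 (iv7 D42641) (iv2 F32714)
theorem F68504 : act 4 n43586 = n20620 := d11_1 D43586 (iv7 D20620) (iv4 F32715)
theorem F68506 : act 1 n42641 = n43583 := d15_0 (iv0 D43583) D43586 F68503
theorem F68507 : act 1 n42639 = n43586 := d15_1 D42639 (iv7 D43586) F32714
theorem F68508 : act 4 n42639 = n43191 := d20_2 (iv4 F68504) (iv1 F68507) (iv3 D43191) (iv1 D20370) F15026 (iv4 F15031) F32214 (iv4 D20297) (iv3 F35785) (iv1 F32723)
theorem F68509 : act 7 n43583 = n42639 := d11_0 F68508 F67645 (iv4 F68500)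
theorem F68510 : act 2 n42639 = n43584 := d15_3 F68501 F68506 F68509
def n43587 : Q := act 4 n20618
theorem D43587 : act 4 n20618 = n43587 := rfl
theorem F68514 : act 2 n43587 = n42642 := d1_1 D43587 (iv4 D42642) (iv2 F35795)
theorem F68515 : act 6 n43587 = n43290 := d10_2 (iv6 F32716) D43587 (iv4 D43290)
theorem F68516 : act 7 n43587 = n42644 := d11_2 F35796 D43587 (iv4 D42644)
theorem F68517 : act 1 n42628 = n42644 := d15_1 (iv0 F66473) (iv7 F68516) F68514
def n43588 : Q := act 6 n20621
theorem D43588 : act 6 n20621 = n43588 := rfl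
theorem F68520 : act 5 n43588 = n38015 := d12_1 D43588 (iv6 D38015) (iv5 D18198) (iv6 F27427) (iv5 F32725)
theorem F68521 : act 0 n43588 = n42890 := d21_4 (iv5 D16721) D16720 (iv5 F32725) D43588 F68135 (iv5 D43373) (iv1 D20495) (iv5 F31961) (iv6 D20129) (iv1 F27433)
def n43589 : Q := act 0 n20622
theorem D43589 : act 0 n20622 = n43589 := rfl
def n43590 : Q := act 1 n20622
theorem D43590 : act 1 n20622 = n43590 := rfl
def n43592 : Q := act 0 n20623
theorem D43592 : act 0 n20623 = n43592 := rfl
theorem F68524 : act 1 n42634 = n43592 := d15_0 (iv0 D43592) F32730 D42634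
def n43593 : Q := act 1 n20623
theorem D43593 : act 1 n20623 = n43593 := rfl
def n43594 : Q := act 2 n20623
theorem D43594 : act 2 n20623 = n43594 := rfl
theorem F68526 : act 7 n43594 = n42634 := d4_2 (iv7 F32730) D43594 (iv2 D42634)
theorem F68527 : act 1 n43594 = n42632 := d15_0 (iv0 D42632) (iv7 F32730) D43594
theorem F68528 : act 1 n43593 = n42634 := d15_1 D43593 (iv7 F68526) (iv2 D43594)
theorem F68529 : act 1 n42633 = n43594 := d15_1 D42633 F68526 (iv2 D42634)
def n43595 : Q := act 5 n20623
theorem D43595 : act 5 n20623 = n43595 := rfl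
theorem F68530 : act 3 n43595 = n20624 := d6_1 D43595 (iv5 D20624) D20623
theorem F68531 : act 7 n43595 = n42635 := d13_2 (iv7 F32730) D43595 (iv5 D42635)
def n43596 : Q := act 6 n20623
theorem D43596 : act 6 n20623 = n43596 := rfl
def n43597 : Q := act 6 n20624
theorem D43597 : act 6 n20624 = n43597 := rfl
def n43598 : Q := act 0 n20625
theorem D43598 : act 0 n20625 = n43598 := rfl
def n43599 : Q := act 1 n20625
theorem D43599 : act 1 n20625 = n43599 := rfl
theorem F68534 : act 1 n43599 = n42610 := d15_1 D43599 (iv7 D42610) (iv2 F32733)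
theorem F68535 : act 4 n43599 = n43137 := d20_2 (iv4 F66439) (iv1 F68534) (iv3 D43137) (iv1 D20348) F15003 (iv4 F15006) F32147 (iv4 D20271) D20270 F66521
def n43601 : Q := act 7 n20625
theorem D43601 : act 7 n20625 = n43601 := rfl
theorem F68537 : act 2 n43601 = n42610 := d4_1 D43601 (iv7 D42610) (iv2 F32733)
theorem F68538 : act 4 n43601 = n20628 := d11_1 D43601 (iv7 D20628) (iv4 F32734)
theorem F68540 : act 1 n42610 = n43598 := d15_0 (iv0 D43598) D43601 F68537
theorem F68541 : act 1 n42608 = n43601 := d15_1 D42608 (iv7 D43601) F32733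
theorem F68542 : act 1 n43601 = n42607 := d15_0 (iv0 D42607) D42610 (iv2 F68537)
def n43602 : Q := act 4 n20627
theorem D43602 : act 4 n20627 = n43602 := rfl
theorem F68544 : act 7 n43602 = n42612 := d11_2 (iv7 F65346) D43602 (iv4 D42612)
theorem F68545 : act 1 n20634 = n43602 := d15_1 (iv0 F67235) F68544 (iv2 F67232)
def n43604 : Q := act 0 n20629
theorem D43604 : act 0 n20629 = n43604 := rfl
def n43605 : Q := act 1 n20629
theorem D43605 : act 1 n20629 = n43605 := rfl
def n43606 : Q := act 2 n20629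
theorem D43606 : act 2 n20629 = n43606 := rfl
def n43607 : Q := act 4 n20629
theorem D43607 : act 4 n20629 = n43607 := rfl
theorem F68552 : act 3 n43607 = n40311 := d5_1 D43607 F61369 (iv3 F31244) (iv4 F31246) D20629
def n43608 : Q := act 5 n20629
theorem D43608 : act 5 n20629 = n43608 := rfl
theorem F68553 : act 3 n43608 = n20630 := d6_1 D43608 (iv5 D20630) D20629
theorem F68554 : act 7 n43608 = n42698 := d13_2 F66428 D43608 F66915
def n43609 : Q := act 6 n20629
theorem D43609 : act 6 n20629 = n43609 := rfl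
theorem F68555 : act 3 n43609 = n20631 := d7_1 D43609 (iv6 D20631) D20629
def n43610 : Q := act 6 n20630
theorem D43610 : act 6 n20630 = n43610 := rfl
theorem F68556 : act 2 n43610 = n42701 := d3_1 D43610 (iv6 D42701) (iv2 F32742)
def n43611 : Q := act 0 n20631
theorem D43611 : act 0 n20631 = n43611 := rfl
def n43612 : Q := act 1 n20631
theorem D43612 : act 1 n20631 = n43612 := rfl
def n43613 : Q := act 5 n20631
theorem D43613 : act 5 n20631 = n43613 := rfl
def n43614 : Q := act 7 n20631
theorem D43614 : act 7 n20631 = n43614 := rfl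
theorem F68558 : act 1 n42644 = n43614 := d15_1 F68517 (iv7 D43614) (iv2 F66463)
def n43615 : Q := act 0 n20632
theorem D43615 : act 0 n20632 = n43615 := rfl
def n43616 : Q := act 1 n20632
theorem D43616 : act 1 n20632 = n43616 := rfl
def n43617 : Q := act 2 n20632
theorem D43617 : act 2 n20632 = n43617 := rfl
def n43618 : Q := act 5 n20632
theorem D43618 : act 5 n20632 = n43618 := rfl
theorem F68560 : act 3 n43618 = n20633 := d6_1 D43618 (iv5 D20633) D20632
theorem F68561 : act 7 n43618 = n42700 := d13_2 F66462 D43618 F66917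
def n43620 : Q := act 6 n20633
theorem D43620 : act 6 n20633 = n43620 := rfl
theorem F68564 : act 4 n43620 = n43582 := d10_1 D43620 (iv6 D43582) (iv4 F32748)
def n43621 : Q := act 5 n20634
theorem D43621 : act 5 n20634 = n43621 := rfl
def n43623 : Q := act 2 n20635
theorem D43623 : act 2 n20635 = n43623 := rfl
theorem F68565 : act 7 n20636 = n43623 := d15_2 (iv0 D20635) D20636 (iv2 D43623)
def n43624 : Q := act 3 n20635
theorem D43624 : act 3 n20635 = n43624 := rfl
def n43625 : Q := act 4 n20635
theorem D43625 : act 4 n20635 = n43625 := rfl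
def n43626 : Q := act 5 n20635
theorem D43626 : act 5 n20635 = n43626 := rfl
def n43627 : Q := act 6 n20635
theorem D43627 : act 6 n20635 = n43627 := rfl
def n43628 : Q := act 7 n20635
theorem D43628 : act 7 n20635 = n43628 := rfl
def n43629 : Q := act 3 n20636
theorem D43629 : act 3 n20636 = n43629 := rfl
def n43630 : Q := act 4 n20636
theorem D43630 : act 4 n20636 = n43630 := rfl
theorem F68567 : act 3 n23677 = n43630 := d20_5 (iv4 D4344) (iv1 F3378) D5069 D11087 D23677 (iv4 D43630) (iv1 D20636) F15251 (iv3 D4437) (iv1 F6258)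
def n43631 : Q := act 5 n20636
theorem D43631 : act 5 n20636 = n43631 := rfl
def n43633 : Q := act 5 n20637
theorem D43633 : act 5 n20637 = n43633 := rfl
theorem F68568 : act 2 n43633 = n20638 := d2_1 D43633 (iv5 D20638) D20637
def n43634 : Q := act 0 n20638
theorem D43634 : act 0 n20638 = n43634 := rfl
def n43635 : Q := act 1 n20638
theorem D43635 : act 1 n20638 = n43635 := rfl
def n43636 : Q := act 4 n20638
theorem D43636 : act 4 n20638 = n43636 := rfl
def n43637 : Q := act 6 n20638
theorem D43637 : act 6 n20638 = n43637 := rfl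
theorem F68569 : act 3 n43637 = n20640 := d7_1 D43637 (iv6 D20640) (iv3 F32753)
def n43638 : Q := act 3 n20639
theorem D43638 : act 3 n20639 = n43638 := rfl
theorem F68571 : act 7 n43638 = n43348 := d8_2 (iv7 F32757) D43638 F68062
def n43639 : Q := act 6 n20639
theorem D43639 : act 6 n20639 = n43639 := rfl
theorem F68572 : act 4 n43639 = n20640 := d10_1 D43639 (iv6 D20640) D20639
def n43640 : Q := act 0 n20640
theorem D43640 : act 0 n20640 = n43640 := rfl
def n43641 : Q := act 1 n20640
theorem D43641 : act 1 n20640 = n43641 := rfl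
def n43642 : Q := act 7 n20640
theorem D43642 : act 7 n20640 = n43642 := rfl
def n43643 : Q := act 6 n20641
theorem D43643 : act 6 n20641 = n43643 := rfl
theorem F68573 : act 2 n43643 = n43639 := d3_1 D43643 (iv6 D43639) (iv2 F32758)
theorem F68574 : act 4 n43643 = n43349 := d10_1 D43643 (iv6 D43349) (iv4 F32759)
def n43644 : Q := act 0 n20642
theorem D43644 : act 0 n20642 = n43644 := rfl
def n43645 : Q := act 1 n20642
theorem D43645 : act 1 n20642 = n43645 := rfl
def n43646 : Q := act 5 n20642
theorem D43646 : act 5 n20642 = n43646 := rfl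
def n43649 : Q := act 3 n20644
theorem D43649 : act 3 n20644 = n43649 := rfl
theorem F68579 : act 7 n43649 = n42522 := d8_2 (iv7 F35762) D43649 F66004
def n43650 : Q := act 4 n20644
theorem D43650 : act 4 n20644 = n43650 := rfl
def n43651 : Q := act 3 n20647
theorem D43651 : act 3 n20647 = n43651 := rfl
theorem F68581 : act 4 n43651 = n22650 := d5_2 D20647 D43651 F35219 (iv4 F62772) F62771
theorem F68582 : act 6 n43651 = n40898 := d7_2 (iv6 F62506) D43651 F62000
theorem F68583 : act 7 n43651 = n22643 := d8_2 (iv7 F62507) D43651 F35206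
def n43652 : Q := act 5 n20647
theorem D43652 : act 5 n20647 = n43652 := rfl
theorem F68584 : act 2 n43652 = n41024 := d2_1 D43652 F62144 (iv2 F62505)
theorem F68585 : act 7 n43652 = n23322 := d13_2 (iv7 F62507) D43652 (iv5 D23322)
theorem F68586 : act 1 n41022 = n43652 := d15_1 D41022 F68585 F36440
theorem F68587 : act 1 n43652 = n41021 := d15_0 (iv0 D41021) D41024 (iv2 F68584)
def n43653 : Q := act 4 n20648
theorem D43653 : act 4 n20648 = n43653 := rfl
theorem F68588 : act 2 n43653 = n41064 := d1_1 D43653 F62301 (iv2 F62510)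
theorem F68589 : act 7 n43653 = n23336 := d11_2 (iv7 F62511) D43653 (iv4 D23336)
theorem F68590 : act 1 n41061 = n43653 := d15_1 D41061 F68589 F36451
theorem F68591 : act 4 n41061 = n23239 := d20_2 D43653 (iv1 F68590) (iv3 D23239) (iv1 D10929) F7402 D4991 (iv1 F15411) (iv4 D9814) D9813 F66156
theorem F68592 : act 1 n43653 = n41060 := d15_0 (iv0 D41060) D41064 (iv2 F68588)
def n43654 : Q := act 3 n20655
theorem D43654 : act 3 n20655 = n43654 := rfl
theorem F68593 : act 2 n43654 = n22437 := d0_1 D43654 (iv3 D22437) F65672 F17663 (iv2 F32765)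
theorem F68594 : act 4 n43654 = n43654 := d5_2 D20655 D43654 (iv3 D43654) (iv4 D20655) F15375
theorem F68595 : act 7 n43654 = n41048 := d8_2 (iv7 F62515) D43654 (iv3 D41048)
def n43655 : Q := act 5 n20655
theorem D43655 : act 5 n20655 = n43655 := rfl
theorem F68596 : act 2 n43655 = n20660 := d2_1 D43655 (iv5 D20660) (iv2 F32765)
theorem F68597 : act 7 n43655 = n41049 := d13_2 (iv7 F62515) D43655 (iv5 D41049)
def n43656 : Q := act 6 n20655
theorem D43656 : act 6 n20655 = n43656 := rfl
theorem F68599 : act 4 n43656 = n20657 := d10_1 D43656 (iv6 D20657) D20655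
def n43657 : Q := act 4 n20656
theorem D43657 : act 4 n20656 = n43657 := rfl
theorem F68600 : act 2 n43657 = n20664 := d1_1 D43657 (iv4 D20664) (iv2 F32766)
theorem F68601 : act 7 n43657 = n41051 := d11_2 (iv7 F62519) D43657 (iv4 D41051)
def n43659 : Q := act 3 n20658
theorem D43659 : act 3 n20658 = n43659 := rfl
theorem F68608 : act 6 n43659 = n41080 := d7_2 (iv6 F62733) D43659 F62323
theorem F68609 : act 7 n43659 = n22676 := d8_2 (iv7 F62734) D43659 F35237
theorem F68610 : act 4 n43659 = n42528 := d20_6 F17118 F65658 D10881 F17663 D20658 D43659 (iv1 D42528) (iv4 F65997) (iv3 D42516) F65666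
def n43660 : Q := act 4 n20658
theorem D43660 : act 4 n20658 = n43660 := rfl
theorem F68612 : act 3 n43660 = n22479 := d5_1 D43660 F68012 F68014 (iv4 F68610) (iv3 D43659)
theorem F68613 : act 6 n43660 = n22354 := d10_2 (iv6 F62733) D43660 F34895
theorem F68615 : act 0 n22257 = n43660 := d20_10 (iv4 D43660) F62514 (iv4 D19322) F62169 (iv1 D9077) (iv3 F14153) (iv4 F30956) (iv1 F63076) (iv4 D23156) (iv3 F62808)
theorem F68616 : act 1 n22258 = n43660 := d15_0 (iv0 F68615) F62764 (iv2 F62756)
def n43661 : Q := act 5 n20658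
theorem D43661 : act 5 n20658 = n43661 := rfl
theorem F68617 : act 2 n43661 = n41126 := d2_1 D43661 F62344 (iv2 F62732)
theorem F68618 : act 7 n43661 = n22681 := d13_2 (iv7 F62734) D43661 (iv5 D22681)
theorem F68619 : act 0 n43661 = n41124 := d17_2 D20658 D43661 (iv5 F66321) F61747 F30966 (iv0 F62508) (iv5 D20648) (iv0 D9789) D9792
theorem F68620 : act 1 n43661 = n41123 := d15_0 (iv0 D41123) D41126 (iv2 F68617)
def n43662 : Q := act 0 n20660
theorem D43662 : act 0 n20660 = n43662 := rfl
theorem F68621 : act 1 n41049 = n43662 := d15_0 (iv0 D43662) (iv7 F32819) F63074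
def n43663 : Q := act 1 n20660
theorem D43663 : act 1 n20660 = n43663 := rfl
theorem F68622 : act 1 n43663 = n41049 := d15_1 D43663 (iv7 F68597) F68596
def n43664 : Q := act 4 n20660
theorem D43664 : act 4 n20660 = n43664 := rfl
def n43665 : Q := act 6 n20660
theorem D43665 : act 6 n20660 = n43665 := rfl
def n43666 : Q := act 0 n20661
theorem D43666 : act 0 n20661 = n43666 := rfl
def n43667 : Q := act 1 n20661
theorem D43667 : act 1 n20661 = n43667 := rfl
def n43668 : Q := act 5 n20661
theorem D43668 : act 5 n20661 = n43668 := rfl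
theorem F68623 : act 0 n43668 = n40373 := d21_7 (iv5 F30976) (iv1 F30979) (iv5 D9084) D9085 (iv1 F62728) D20661 D43668 (iv5 D40373) (iv6 D19079) (iv1 F14420)
def n43669 : Q := act 7 n20661
theorem D43669 : act 7 n20661 = n43669 := rfl
theorem F68624 : act 3 n43669 = n21398 := d8_1 D43669 (iv7 F33637) F33635
theorem F68625 : act 4 n43669 = n20668 := d11_1 D43669 (iv7 D20668) (iv4 F32770)
theorem F68626 : act 6 n43669 = n41170 := d14_1 D43669 (iv7 F62475) (iv6 D20695) F15382 D20661
def n43670 : Q := act 4 n20662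
theorem D43670 : act 4 n20662 = n43670 := rfl
def n43671 : Q := act 3 n20663
theorem D43671 : act 3 n20663 = n43671 := rfl
theorem F68627 : act 6 n43671 = n23425 := d7_2 (iv6 F64616) D43671 (iv3 D23425)
def n43672 : Q := act 4 n20663
theorem D43672 : act 4 n20663 = n43672 := rfl
def n43673 : Q := act 0 n20664
theorem D43673 : act 0 n20664 = n43673 := rfl
theorem F68630 : act 1 n41051 = n43673 := d15_0 (iv0 D43673) (iv7 F32824) (iv2 F63069)
def n43674 : Q := act 1 n20664
theorem D43674 : act 1 n20664 = n43674 := rfl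
theorem F68631 : act 1 n43674 = n41051 := d15_1 D43674 (iv7 F68601) F68600
def n43676 : Q := act 5 n20664
theorem D43676 : act 5 n20664 = n43676 := rfl
def n43679 : Q := act 4 n20666
theorem D43679 : act 4 n20666 = n43679 := rfl
theorem F68639 : act 2 n43679 = n23412 := d1_1 D43679 F36532 (iv2 F66581)
def n43680 : Q := act 3 n20667
theorem D43680 : act 3 n20667 = n43680 := rfl
theorem F68641 : act 7 n43680 = n23409 := d8_2 (iv7 F66598) D43680 F36531
def n43681 : Q := act 4 n20667
theorem D43681 : act 4 n20667 = n43681 := rfl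
theorem F68642 : act 7 n43681 = n23412 := d11_2 (iv7 F66598) D43681 F36532
def n43682 : Q := act 4 n20669
theorem D43682 : act 4 n20669 = n43682 := rfl
def n43685 : Q := act 3 n20672
theorem D43685 : act 3 n20672 = n43685 := rfl
theorem F68649 : act 6 n43685 = n23491 := d7_2 (iv6 F32783) D43685 (iv3 D23491)
def n43686 : Q := act 5 n20672
theorem D43686 : act 5 n20672 = n43686 := rfl
def n43690 : Q := act 5 n20674
theorem D43690 : act 5 n20674 = n43690 := rfl
def n43698 : Q := act 0 n20694
theorem D43698 : act 0 n20694 = n43698 := rfl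
theorem F68682 : act 1 n43655 = n43698 := d15_0 (iv0 D43698) F32819 (iv2 F68596)
def n43699 : Q := act 1 n20694
theorem D43699 : act 1 n20694 = n43699 := rfl
theorem F68683 : act 1 n43699 = n43655 := d15_1 D43699 F68597 (iv2 F63074)
theorem F68684 : act 5 n43699 = n41697 := d21_2 D43655 (iv1 F68683) (iv6 D41697) (iv1 D19626) (iv6 D9227) D9226 (iv1 F17261) (iv5 D10736) D10737 F62730
theorem F68685 : act 1 n41697 = n40651 := d17_8 (iv1 F63073) (iv5 F63071) (iv1 D20697) (iv5 D9809) D9808 D20694 D43699 F68684 F61747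
def n43700 : Q := act 4 n20694
theorem D43700 : act 4 n20694 = n43700 := rfl
theorem F68686 : act 7 n43700 = n43664 := d11_2 (iv7 F32819) D43700 (iv4 D43664)
def n43701 : Q := act 6 n20694
theorem D43701 : act 6 n20694 = n43701 := rfl
def n43702 : Q := act 5 n20695
theorem D43702 : act 5 n20695 = n43702 := rfl
theorem F68687 : act 1 n43702 = n41784 := d17_6 D19060 D40324 (iv1 F62477) (iv5 D20701) (iv4 F32820) D43702 (iv5 D41784) (iv0 F31424) F30589
def n43703 : Q := act 3 n20696
theorem D43703 : act 3 n20696 = n43703 := rfl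
theorem F68688 : act 6 n43703 = n42648 := d7_2 (iv6 F63059) D43703 F66689
theorem F68689 : act 7 n43703 = n43514 := d8_2 F64614 D43703 F68384
theorem F68690 : act 2 n43703 = n43513 := d15_3 (iv0 D43513) D43514 (iv7 F68689)
def n43704 : Q := act 4 n20696
theorem D43704 : act 4 n20696 = n43704 := rfl
theorem F68691 : act 2 n43704 = n43672 := d1_1 D43704 (iv4 D43672) F64615
theorem F68692 : act 7 n43704 = n43670 := d11_2 F64614 D43704 (iv4 D43670)
def n43705 : Q := act 4 n20697
theorem D43705 : act 4 n20697 = n43705 := rfl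
theorem F68693 : act 2 n43705 = n43670 := d1_1 D43705 (iv4 D43670) F64613
theorem F68694 : act 7 n43705 = n43672 := d11_2 F64617 D43705 (iv4 D43672)
def n43706 : Q := act 6 n20697
theorem D43706 : act 6 n20697 = n43706 := rfl
theorem F68696 : act 5 n43706 = n41912 := d12_1 D43706 (iv6 D41912) (iv5 D19730) D19731 (iv5 F63071)
def n43707 : Q := act 0 n20698
theorem D43707 : act 0 n20698 = n43707 := rfl
theorem F68698 : act 1 n43657 = n43707 := d15_0 (iv0 D43707) F32824 (iv2 F68600)
def n43708 : Q := act 1 n20698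
theorem D43708 : act 1 n20698 = n43708 := rfl
def n43710 : Q := act 5 n20698
theorem D43710 : act 5 n20698 = n43710 := rfl
theorem F68703 : act 7 n43710 = n43676 := d13_2 (iv7 F32824) D43710 (iv5 D43676)
def n43711 : Q := act 4 n20701
theorem D43711 : act 4 n20701 = n43711 := rfl
theorem F68704 : act 3 n43711 = n41742 := d5_1 D43711 F64382 (iv3 F65788) F15399 (iv3 F32825)
theorem F68705 : act 6 n43711 = n42793 := d10_2 (iv6 F32826) D43711 (iv4 D42793)
theorem F68706 : act 7 n43711 = n21082 := d11_2 (iv7 F32827) D43711 F33278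
theorem F68707 : act 5 n43711 = n41166 := d17_5 (iv1 F14137) D9102 F62470 D20701 D43711 F62371 (iv5 D19363) F30919 F30918
theorem F68708 : act 0 n43711 = n41694 := d17_0 F64343 (iv1 D40857) (iv5 D19257) F14132 (iv5 F13911) D19061 (iv5 F31488) (iv0 F62476) D43711
theorem F68709 : act 0 n41788 = n43711 := d20_7 F15293 F14787 (iv4 F14790) (iv3 F16575) (iv1 F62654) (iv3 F31425) D41788 (iv4 D43711) F32825 F15393
theorem E7977 : n41787 = n41511 := ((c18_10 (iv1 D41787) D41788 F68709 (iv4 D43711) (iv5 D20701) (iv4 F32820) F62473 F35399 D22829 F64030)).symm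
theorem F68710 : act 0 n41511 = n19664 := (sb E7977 (iv1 D41787))
def n43717 : Q := act 4 n20706
theorem D43717 : act 4 n20706 = n43717 := rfl
theorem F68723 : act 2 n43717 = n20707 := d1_1 D43717 (iv4 D20707) D20706
theorem F68724 : act 7 n43717 = n41058 := d11_2 F66155 D43717 (iv4 D41058)
def n43718 : Q := act 6 n20706
theorem D43718 : act 6 n20706 = n43718 := rfl
theorem F68728 : act 5 n43718 = n41272 := d21_6 (iv5 D4092) D4090 D9105 (iv6 F17811) F66158 D43718 (iv1 D41272) (iv5 F31079) (iv6 D19417) (iv1 D9110)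
theorem F68729 : act 0 n23397 = n43718 := d21_4 (iv5 D5003) D5001 D10980 D23397 (iv6 D43718) F66128 (iv1 F66183) F66185 F64616 (iv1 D10988)
def n43719 : Q := act 0 n20707
theorem D43719 : act 0 n20707 = n43719 := rfl
def n43721 : Q := act 5 n20707
theorem D43721 : act 5 n20707 = n43721 := rfl
def n43722 : Q := act 6 n20707
theorem D43722 : act 6 n20707 = n43722 := rfl
theorem F68733 : act 4 n43722 = n20709 := d10_1 D43722 (iv6 D20709) D20707
def n43723 : Q := act 4 n20708
theorem D43723 : act 4 n20708 = n43723 := rfl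
theorem F68734 : act 3 n43723 = n41755 := d5_1 D43723 F64399 F62648 (iv4 F15404) (iv3 F32835)
theorem F68735 : act 7 n43723 = n20864 := d11_2 (iv7 F32836) D43723 F33012
theorem F68736 : act 5 n43723 = n41123 := d17_5 (iv1 D9077) D9078 (iv1 F66157) D20708 D43723 (iv0 D41123) (iv5 D19348) (iv0 F62729) (iv4 D19322)
def n43733 : Q := act 0 n20716
theorem D43733 : act 0 n20716 = n43733 := rfl
theorem F68753 : act 1 n43717 = n43733 := d15_0 (iv0 D43733) F32848 (iv2 F68723)
def n43734 : Q := act 1 n20716
theorem D43734 : act 1 n20716 = n43734 := rfl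
theorem F68754 : act 1 n43734 = n43717 := d15_1 D43734 F68724 (iv2 F66335)
def n43735 : Q := act 3 n20716
theorem D43735 : act 3 n20716 = n43735 := rfl
theorem F68755 : act 4 n43735 = n20718 := d5_2 D20716 D43735 (iv3 D20718) (iv4 D9818) D9817
def n43736 : Q := act 5 n20716
theorem D43736 : act 5 n20716 = n43736 := rfl
theorem F68757 : act 7 n43736 = n43721 := d13_2 (iv7 F32848) D43736 (iv5 D43721)
def n43737 : Q := act 6 n20716
theorem D43737 : act 6 n20716 = n43737 := rfl
theorem F68758 : act 4 n43737 = n20717 := d10_1 D43737 (iv6 D20717) D20716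
def n43739 : Q := act 1 n20718
theorem D43739 : act 1 n20718 = n43739 := rfl
def n43742 : Q := act 6 n20718
theorem D43742 : act 6 n20718 = n43742 := rfl
theorem F68768 : act 3 n43742 = n20720 := d7_1 D43742 (iv6 D20720) D20718
theorem F68769 : act 7 n42789 = n43742 := d8_0 F68768 (iv7 F32858) D42789
def n43747 : Q := act 4 n20721
theorem D43747 : act 4 n20721 = n43747 := rfl
theorem F68775 : act 3 n43747 = n22577 := d5_1 D43747 (iv4 D22577) (iv3 F65729) F15447 D20721
def n43751 : Q := act 7 n20723
theorem D43751 : act 7 n20723 = n43751 := rfl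
theorem F68780 : act 2 n43751 = n43751 := d4_1 D43751 (iv7 D43751) F32863
theorem F68781 : act 4 n43751 = n23127 := d11_1 D43751 F36177 (iv4 F32864)
theorem F68784 : act 1 n43751 = n42928 := d15_0 F67256 D43751 F68780
def n43753 : Q := act 1 n20724
theorem D43753 : act 1 n20724 = n43753 := rfl
def n43754 : Q := act 2 n20724
theorem D43754 : act 2 n20724 = n43754 := rfl
def n43755 : Q := act 4 n20724
theorem D43755 : act 4 n20724 = n43755 := rfl
theorem F68793 : act 3 n43755 = n23307 := d5_1 D43755 (iv4 D23307) (iv3 D10952) (iv4 F15437) D20724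
def n43757 : Q := act 6 n20724
theorem D43757 : act 6 n20724 = n43757 := rfl
theorem F68797 : act 3 n43757 = n20726 := d7_1 D43757 (iv6 D20726) D20724
def n43779 : Q := act 0 n20734
theorem D43779 : act 0 n20734 = n43779 := rfl
theorem F68817 : act 1 n20739 = n43779 := d15_0 (iv0 D43779) (iv7 F32886) (iv2 F32887)
def n43781 : Q := act 3 n20734
theorem D43781 : act 3 n20734 = n43781 := rfl
theorem F68819 : act 7 n43781 = n20740 := d8_2 F32886 D43781 (iv3 D20740)
def n43782 : Q := act 4 n20734
theorem D43782 : act 4 n20734 = n43782 := rfl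
theorem F68820 : act 2 n43782 = n20736 := d1_1 D43782 (iv4 D20736) D20734
theorem F68821 : act 7 n43782 = n20741 := d11_2 F32886 D43782 (iv4 D20741)
def n43783 : Q := act 5 n20734
theorem D43783 : act 5 n20734 = n43783 := rfl
theorem F68822 : act 2 n43783 = n20737 := d2_1 D43783 (iv5 D20737) D20734
theorem F68823 : act 7 n43783 = n20742 := d13_2 F32886 D43783 (iv5 D20742)
def n43786 : Q := act 1 n20735
theorem D43786 : act 1 n20735 = n43786 := rfl
def n43787 : Q := act 2 n20735
theorem D43787 : act 2 n20735 = n43787 := rfl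
def n43792 : Q := act 0 n20736
theorem D43792 : act 0 n20736 = n43792 := rfl
theorem F68830 : act 4 n43792 = n42903 := d20_2 D20736 D43792 (iv3 D42903) (iv1 D20263) (iv3 D9579) (iv4 D4320) F3086 D1860 D4437 D9826
def n43793 : Q := act 1 n20736
theorem D43793 : act 1 n20736 = n43793 := rfl
theorem F68831 : act 1 n43793 = n20741 := d15_1 D43793 (iv7 F68821) F68820
def n43795 : Q := act 5 n20736
theorem D43795 : act 5 n20736 = n43795 := rfl
def n43797 : Q := act 7 n20736
theorem D43797 : act 7 n20736 = n43797 := rfl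
theorem F68833 : act 2 n43797 = n20741 := d4_1 D43797 (iv7 F68821) F68820
theorem F68834 : act 4 n43797 = n20739 := d11_1 D43797 (iv7 D20739) D20736
theorem F68835 : act 1 n20741 = n43792 := d15_0 (iv0 D43792) D43797 F68833
def n43799 : Q := act 1 n20737
theorem D43799 : act 1 n20737 = n43799 := rfl
theorem F68836 : act 1 n43799 = n20742 := d15_1 D43799 (iv7 F68823) F68822
def n43803 : Q := act 0 n20738
theorem D43803 : act 0 n20738 = n43803 := rfl
def n43808 : Q := act 0 n20740
theorem D43808 : act 0 n20740 = n43808 := rfl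
theorem F68841 : act 4 n43808 = n42879 := d20_0 (iv1 F67294) F67292 F32190 (iv1 F32195) D42903 (iv4 F68830) (iv1 F68835) (iv4 D20741) D20740 D43808
theorem F68842 : act 5 n20740 = n20740 := d18_9 D43808 F68841 (iv1 F67294) F67292 F32191 (iv4 F67292) F67294 (iv4 F68841) (iv0 D43808)
theorem E7978 : n20742 = n9827 := (c6_3 F68842 (iv3 D20740) D20742 D20740)
theorem E7979 : n43799 = n4437 := ((((iv1 D9827)).symm.trans (sb E7978 (iv1 F68836)))).symm
theorem F68843 : act 5 n9827 = n9827 := (sb E7978 (iv5 D20742))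
theorem E7983 : n20737 = n9826 := (((D9826).symm.trans (sb E7979 (iv1 D43799)))).symm
theorem F68846 : act 5 n9826 = n9826 := (sb E7983 (iv5 D20737))
theorem F68854 : act 1 n42691 = n43626 := d17_6 D9826 F68846 (iv1 F32237) (iv5 D20314) (iv4 F31975) D42691 (iv5 D43626) (iv0 D20635) F15251
theorem F68855 : act 1 n43626 = n42696 := d15_1 F68854 (iv7 D42696) (iv2 F66909)
theorem F68856 : act 1 n42696 = n43631 := d17_6 (iv1 F32236) F68843 (iv1 D9827) (iv5 F14970) (iv4 F31978) (iv5 F66912) (iv5 D43631) F67387 (iv4 D43040)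
theorem F68857 : act 5 n43625 = n43625 := d18_4 (iv1 D9827) (iv4 F15251) D20635 D43625 (iv4 D43625) (iv0 D20635) F15251 D9827 F68843
theorem F68858 : act 3 n43808 = n43786 := d20_3 (iv4 F32126) D42879 (iv4 F68841) (iv1 D43786) (iv3 D20735) D20736 D43792 F68830 (iv3 D42903) (iv1 D20263)
def n43809 : Q := act 1 n20740
theorem D43809 : act 1 n20740 = n43809 := rfl
def n43810 : Q := act 2 n20740
theorem D43810 : act 2 n20740 = n43810 := rfl
def n43811 : Q := act 4 n20740
theorem D43811 : act 4 n20740 = n43811 := rfl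
theorem F68860 : act 0 n42958 = n43811 := d20_1 D42958 (iv4 D43811) (iv3 D20740) (iv1 D9827) (iv3 D4437) (iv4 D1860) (iv1 F3107) D4326 D9599 D20288
def n43814 : Q := act 5 n20741
theorem D43814 : act 5 n20741 = n43814 := rfl
def n43821 : Q := act 3 n20745
theorem D43821 : act 3 n20745 = n43821 := rfl
theorem F68866 : act 7 n43821 = n42785 := d8_2 (iv7 F32891) D43821 F67053
def n43822 : Q := act 6 n20746
theorem D43822 : act 6 n20746 = n43822 := rfl
theorem F68867 : act 2 n43822 = n41273 := d3_1 D43822 (iv6 D41273) (iv2 F32898)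
theorem F68868 : act 3 n43822 = n43264 := d7_1 D43822 (iv6 D43264) F32897
theorem F68869 : act 5 n43822 = n42588 := d12_1 D43822 (iv6 D42588) F31915 (iv6 F31679) (iv5 F32896)
def n43823 : Q := act 1 n20747
theorem D43823 : act 1 n20747 = n43823 := rfl
theorem F68870 : act 1 n43823 = n21467 := d15_1 D43823 (iv7 D21467) (iv2 F32899)
theorem F68871 : act 7 n43823 = n21464 := d15_2 (iv0 F66797) D43823 F66808
theorem F68872 : act 4 n22685 = n43823 := d20_0 (iv1 D43823) (iv4 F36431) (iv3 F65446) F68110 (iv3 D22341) (iv4 D10635) (iv1 F7036) (iv4 F7344) (iv3 F17279) (iv1 F35251)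
theorem F68873 : act 3 n20896 = n43823 := d20_3 (iv4 F32588) (iv1 F32591) (iv4 F66845) (iv1 D43823) F32900 F15469 F66790 (iv4 D19965) F66489 (iv1 F15206)
theorem F68874 : act 2 n43823 = n21465 := d0_1 F68873 (iv3 F66814) (iv2 F66815) D10824 (iv2 F66843)
def n43824 : Q := act 7 n20747
theorem D43824 : act 7 n20747 = n43824 := rfl
theorem F68875 : act 2 n43824 = n21467 := d4_1 D43824 (iv7 D21467) (iv2 F32899)
theorem F68876 : act 3 n43824 = n20751 := d8_1 D43824 (iv7 D20751) (iv3 F32900)
theorem F68877 : act 6 n43824 = n21882 := d14_1 D43824 (iv7 D21882) (iv6 D10435) (iv7 F15463) D20747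
theorem F68878 : act 1 n21465 = n43824 := d15_1 D21465 (iv7 D43824) F32899
theorem F68879 : act 1 n43824 = n21464 := d15_1 F68878 (iv7 F68871) F68874
def n43825 : Q := act 5 n20748
theorem D43825 : act 5 n20748 = n43825 := rfl
def n43826 : Q := act 6 n20748
theorem D43826 : act 6 n20748 = n43826 := rfl
theorem F68880 : act 4 n43826 = n43384 := d10_1 D43826 (iv6 D43384) (iv4 F66802)
theorem F68881 : act 5 n43826 = n43269 := d21_6 F7142 F6542 D4452 D9836 D20748 D43826 (iv1 D43269) (iv5 D20422) (iv6 D9699) (iv1 F12164)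
theorem F68882 : act 1 n42445 = n43826 := d18_8 (iv1 D43269) (iv4 F65265) F66869 (iv4 D41939) F31513 (iv4 F63637) F66870 (iv4 F65564) F68881
def n43827 : Q := act 0 n20750
theorem D43827 : act 0 n20750 = n43827 := rfl
theorem F68883 : act 4 n43827 = n42656 := d18_1 D43827 (iv1 F66702) F65378 F31804 (iv4 F31799) F32590 (iv4 F66802) (iv0 D20748) D20750
theorem F68884 : act 2 n43565 = n43827 := d15_3 (iv0 D43827) (iv0 F63953) F68456
theorem F68885 : act 7 n43827 = n43566 := d4_2 F68456 F68884 F68462
theorem F68886 : act 1 n43567 = n43827 := d15_1 F68468 F68885 F68462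
def n43828 : Q := act 7 n20750
theorem D43828 : act 7 n20750 = n43828 := rfl
theorem F68888 : act 5 n43828 = n20751 := d13_1 D43828 (iv7 D20751) D20750
theorem F68890 : act 1 n43566 = n43828 := d15_1 D43566 (iv7 D43828) F32901
theorem F68891 : act 1 n43828 = n43565 := d15_1 F68890 (iv7 F68456) (iv2 F68462)
def n43829 : Q := act 0 n20752
theorem D43829 : act 0 n20752 = n43829 := rfl
theorem F68892 : act 1 n42172 = n43829 := d15_0 (iv0 D43829) F32904 D42172
def n43830 : Q := act 1 n20752
theorem D43830 : act 1 n20752 = n43830 := rfl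
def n43831 : Q := act 2 n20752
theorem D43831 : act 2 n20752 = n43831 := rfl
theorem F68893 : act 3 n43831 = n42652 := d0_2 D20752 D43831 (iv2 D42652) (iv3 D20130) (iv2 F15477)
theorem F68894 : act 7 n43831 = n42172 := d4_2 (iv7 F32904) D43831 (iv2 D42172)
theorem F68895 : act 1 n43831 = n42170 := d15_0 (iv0 D42170) (iv7 F32904) D43831
theorem F68896 : act 1 n43830 = n42172 := d15_1 D43830 (iv7 F68894) (iv2 D43831)
theorem F68897 : act 1 n42171 = n43831 := d15_1 D42171 F68894 (iv2 D42172)
def n43832 : Q := act 5 n20752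
theorem D43832 : act 5 n20752 = n43832 := rfl
theorem F68898 : act 3 n43832 = n20753 := d6_1 D43832 (iv5 D20753) D20752
theorem F68899 : act 7 n43832 = n42173 := d13_2 (iv7 F32904) D43832 (iv5 D42173)
def n43833 : Q := act 6 n20753
theorem D43833 : act 6 n20753 = n43833 := rfl
theorem F68900 : act 2 n43833 = n42655 := d3_1 D43833 (iv6 D42655) (iv2 F32905)
def n43834 : Q := act 3 n20758
theorem D43834 : act 3 n20758 = n43834 := rfl
theorem F68901 : act 5 n43834 = n32618 := d6_2 (iv5 F68080) D43834 (iv3 F65483)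
theorem F68902 : act 4 n43834 = n40369 := d20_6 (iv4 D4242) F6921 D4474 D9867 D20758 D43834 (iv1 D40369) (iv4 F31709) (iv3 D19866) (iv1 D9352)
def n43835 : Q := act 4 n20758
theorem D43835 : act 4 n20758 = n43835 := rfl
theorem F68903 : act 0 n43835 = n43228 := d20_1 D43835 F67726 (iv3 D42122) (iv1 D19870) (iv3 D9353) (iv4 D4242) F6921 D4474 D9867 D20758
theorem F68904 : act 3 n43835 = n22067 := d20_3 F15512 D20758 D43835 (iv1 F64158) F64155 (iv4 F64296) (iv1 F64306) (iv4 F68902) (iv3 D43834) (iv1 F32914)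
theorem F68905 : act 0 n43228 = n43835 := d20_10 (iv4 D43835) (iv1 F32914) F15512 (iv3 D9867) (iv1 F6600) D9946 (iv4 F15997) D21247 F33474 D43228
def n43836 : Q := act 6 n20758
theorem D43836 : act 6 n20758 = n43836 := rfl
def n43837 : Q := act 0 n20759
theorem D43837 : act 0 n20759 = n43837 := rfl
theorem F68906 : act 1 n20759 = n43837 := d15_0 (iv0 D43837) (iv7 F32954) F32951
def n43838 : Q := act 6 n20759
theorem D43838 : act 6 n20759 = n43838 := rfl
theorem F68907 : act 3 n43838 = n20761 := d7_1 D43838 (iv6 D20761) (iv3 F32915)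
def n43839 : Q := act 0 n20760
theorem D43839 : act 0 n20760 = n43839 := rfl
def n43840 : Q := act 1 n20760
theorem D43840 : act 1 n20760 = n43840 := rfl
def n43841 : Q := act 5 n20760
theorem D43841 : act 5 n20760 = n43841 := rfl
theorem F68908 : act 3 n43841 = n20764 := d6_1 D43841 (iv5 D20764) (iv3 F32916)
def n43842 : Q := act 7 n20760
theorem D43842 : act 7 n20760 = n43842 := rfl
theorem F68909 : act 3 n43842 = n20765 := d8_1 D43842 (iv7 D20765) (iv3 F32916)
theorem F68910 : act 4 n43842 = n43842 := d11_1 D43842 (iv7 D43842) F32917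
def n43843 : Q := act 5 n20761
theorem D43843 : act 5 n20761 = n43843 := rfl
theorem F68911 : act 2 n43843 = n20790 := d2_1 D43843 (iv5 D20790) (iv2 F32918)
theorem F68912 : act 6 n43843 = n20764 := d12_2 D20761 D43843 (iv5 D20764) (iv6 D9869) D9868
def n43844 : Q := act 7 n20761
theorem D43844 : act 7 n20761 = n43844 := rfl
theorem F68913 : act 2 n43844 = n20791 := d4_1 D43844 (iv7 D20791) (iv2 F32918)
theorem F68914 : act 4 n43844 = n20936 := d11_1 D43844 (iv7 D20936) (iv4 F32919)
theorem F68915 : act 1 n20789 = n43844 := d15_1 D20789 (iv7 D43844) F32918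
theorem F68916 : act 1 n43844 = n20788 := d15_1 F68915 (iv7 F65517) (iv2 F65511)
theorem F68917 : act 0 n24058 = n20936 := d20_10 (iv4 F68914) (iv1 F68915) F65513 (iv3 D12031) D12029 (iv3 F37630) (iv4 D24052) (iv1 F18392) D11292 D24058
def n43845 : Q := act 3 n20762
theorem D43845 : act 3 n20762 = n43845 := rfl
theorem F68918 : act 4 n43845 = n21353 := d5_2 F32926 D43845 (iv3 D21353) (iv4 D10183) D10182
theorem F68919 : act 7 n43845 = n20798 := d8_2 (iv7 F63409) D43845 (iv3 D20798)
def n43846 : Q := act 5 n20762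
theorem D43846 : act 5 n20762 = n43846 := rfl
theorem F68920 : act 2 n43846 = n20795 := d2_1 D43846 (iv5 D20795) (iv2 F63408)
theorem F68921 : act 7 n43846 = n20800 := d13_2 (iv7 F63409) D43846 (iv5 D20800)
theorem F68922 : act 0 n43846 = n41333 := d17_2 D20762 D43846 (iv5 D41333) F31121 (iv5 F31098) F35612 (iv5 D20769) (iv0 D9870) (iv4 F15518)
def n43847 : Q := act 3 n20763
theorem D43847 : act 3 n20763 = n43847 := rfl
theorem F68923 : act 4 n43847 = n22136 := d5_2 F65857 D43847 F66229 (iv4 F66230) D21913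
theorem F68924 : act 7 n43847 = n20793 := d8_2 (iv7 F63412) D43847 (iv3 D20793)
def n43848 : Q := act 5 n20763
theorem D43848 : act 5 n20763 = n43848 := rfl
theorem F68925 : act 2 n43848 = n20800 := d2_1 D43848 (iv5 D20800) (iv2 F63411)
theorem F68926 : act 7 n43848 = n20795 := d13_2 (iv7 F63412) D43848 (iv5 D20795)
theorem F68927 : act 1 n43848 = n41333 := d17_6 (iv1 D22878) D22879 F65860 (iv5 F65858) F65857 D43848 (iv5 D41333) D41332 (iv4 F65928)
def n43849 : Q := act 6 n20763
theorem D43849 : act 6 n20763 = n43849 := rfl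
theorem F68928 : act 2 n43849 = n20801 := d3_1 D43849 (iv6 D20801) (iv2 F63411)
def n43850 : Q := act 0 n20764
theorem D43850 : act 0 n20764 = n43850 := rfl
theorem F68929 : act 2 n20802 = n43850 := d15_3 (iv0 D43850) (iv0 F65555) F65925
theorem F68930 : act 7 n43850 = n20803 := d4_2 F65925 F68929 (iv2 F65554)
theorem F68931 : act 1 n20805 = n43850 := d15_1 F65556 F68930 (iv2 F65554)
def n43851 : Q := act 4 n20764
theorem D43851 : act 4 n20764 = n43851 := rfl
theorem F68932 : act 2 n43851 = n20804 := d1_1 D43851 (iv4 D20804) (iv2 F32921)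
def n43852 : Q := act 7 n20764
theorem D43852 : act 7 n20764 = n43852 := rfl
theorem F68933 : act 2 n43852 = n20805 := d4_1 D43852 (iv7 D20805) (iv2 F32921)
theorem F68934 : act 5 n43852 = n20765 := d13_1 D43852 (iv7 D20765) D20764
theorem F68935 : act 1 n20803 = n43852 := d15_1 D20803 (iv7 D43852) F32921
theorem F68936 : act 1 n43852 = n20802 := d15_1 F68935 (iv7 F65925) F65554
def n43853 : Q := act 3 n20768
theorem D43853 : act 3 n20768 = n43853 := rfl
theorem F68937 : act 4 n43853 = n22009 := d5_2 D20768 D43853 (iv3 D22009) F66240 (iv3 F66239)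
theorem F68938 : act 7 n43853 = n20840 := d8_2 (iv7 F35735) D43853 (iv3 D20840)
theorem F68939 : act 0 n42117 = n43853 := d20_4 F62875 (iv1 D22064) (iv4 F31715) (iv3 F65038) (iv3 D43853) (iv4 D20768) (iv1 F15524) (iv4 F15534) (iv3 F15690) (iv1 F33058)
def n43854 : Q := act 5 n20768
theorem D43854 : act 5 n20768 = n43854 := rfl
theorem F68940 : act 2 n43854 = n20822 := d2_1 D43854 (iv5 D20822) (iv2 F35734)
theorem F68941 : act 7 n43854 = n20841 := d13_2 (iv7 F35735) D43854 (iv5 D20841)
def n43855 : Q := act 4 n20769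
theorem D43855 : act 4 n20769 = n43855 := rfl
theorem F68942 : act 2 n43855 = n20827 := d1_1 D43855 (iv4 D20827) F35728
theorem F68943 : act 6 n43855 = n42537 := d10_2 F32933 D43855 F66010
theorem F68944 : act 7 n43855 = n20843 := d11_2 F35729 D43855 (iv4 D20843)
theorem F68945 : act 1 n43855 = n22873 := d18_6 (iv1 D19579) (iv4 F31342) (iv1 F65962) (iv4 D20768) D20769 D43855 F35574 D22878 F65929
theorem F68946 : act 1 n42501 = n43855 := d15_1 D42501 F68944 (iv2 F35774)
theorem F68947 : act 1 n43367 = n20843 := d15_1 F68120 (iv7 F68944) F68942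
def n43856 : Q := act 6 n20771
theorem D43856 : act 6 n20771 = n43856 := rfl
theorem F68948 : act 3 n43856 = n20773 := d7_1 D43856 (iv6 D20773) D20771
theorem F68949 : act 4 n43856 = n21334 := d10_1 D43856 (iv6 D21334) (iv4 F32943)
theorem F68950 : act 5 n43856 = n42481 := d12_1 D43856 (iv6 D42481) (iv5 D20053) D20054 (iv5 F32942)
theorem F68951 : act 0 n21334 = n41978 := d20_7 F15399 F15393 F15293 (iv3 F30692) F35686 (iv3 F68948) F68949 F64764 F31551 F16079
def n43857 : Q := act 3 n20772
theorem D43857 : act 3 n20772 = n43857 := rfl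
theorem F68952 : act 4 n43857 = n21332 := d5_2 D20772 D43857 (iv3 D21332) (iv4 F32943) (iv3 D20771)
theorem F68953 : act 7 n43857 = n20821 := d8_2 (iv7 F35749) D43857 (iv3 D20821)
def n43858 : Q := act 5 n20772
theorem D43858 : act 5 n20772 = n43858 := rfl
theorem F68954 : act 2 n43858 = n20841 := d2_1 D43858 (iv5 D20841) (iv2 F35748)
theorem F68955 : act 7 n43858 = n20822 := d13_2 (iv7 F35749) D43858 (iv5 D20822)
def n43859 : Q := act 6 n20772
theorem D43859 : act 6 n20772 = n43859 := rfl
theorem F68956 : act 2 n43859 = n20842 := d3_1 D43859 (iv6 D20842) (iv2 F35748)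
theorem F68957 : act 4 n43859 = n20773 := d10_1 D43859 (iv6 D20773) D20772
def n43860 : Q := act 4 n20774
theorem D43860 : act 4 n20774 = n43860 := rfl
theorem F68958 : act 2 n43860 = n41460 := d1_1 D43860 F63907 (iv2 F34106)
theorem F68959 : act 0 n43860 = n41647 := d18_2 D20774 D43860 F64270 (iv5 F54144) F51456 (iv0 F54140) D15423 (iv0 F27766) (iv5 F27767)
def n43861 : Q := act 6 n20774
theorem D43861 : act 6 n20774 = n43861 := rfl
def n43862 : Q := act 3 n20775
theorem D43862 : act 3 n20775 = n43862 := rfl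
theorem F68960 : act 5 n43862 = n32043 := d6_2 F52297 D43862 (iv3 F52295)
theorem F68961 : act 4 n43862 = n21974 := d20_6 (iv4 F33474) (iv1 F34019) F34017 (iv3 F33087) (iv1 F33093) D43862 (iv1 F64046) F64044 F32451 (iv1 F32391)
def n43863 : Q := act 4 n20775
theorem D43863 : act 4 n20775 = n43863 := rfl
theorem F68962 : act 7 n43863 = n41460 := d11_2 F34107 D43863 F63907
theorem F68963 : act 3 n43863 = n41345 := d20_3 (iv4 F33088) (iv1 F33093) D43863 (iv1 D41345) (iv3 D19468) (iv4 D9144) (iv1 F6017) D4169 D9212 D19581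
theorem F68964 : act 0 n41647 = n43863 := d20_10 (iv4 D43863) (iv1 D20775) F31348 (iv3 F31347) (iv1 D19063) D19064 F30601 (iv1 F52830) F52828 D41647
theorem E7987 : n41454 = n41345 := ((c8_2 (iv7 F68962) F68963 (iv7 F63903) D41460)).symm
theorem F68965 : act 2 n41345 = n19521 := (sb E7987 (iv2 D41454))
theorem F68966 : act 7 n41345 = n19522 := (sb E7987 (iv7 F63903))
theorem E7988 : n41459 = n41344 := (c15_4 (iv0 D41344) D41345 F68966 (iv2 F63906))
theorem F68967 : act 2 n41344 = n19522 := (sb E7988 F63906)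
theorem F68968 : act 7 n41344 = n19521 := (sb E7988 (iv7 D41459))
def n43864 : Q := act 6 n20775
theorem D43864 : act 6 n20775 = n43864 := rfl
def n43865 : Q := act 0 n20776
theorem D43865 : act 0 n20776 = n43865 := rfl
def n43866 : Q := act 1 n20776
theorem D43866 : act 1 n20776 = n43866 := rfl
def n43867 : Q := act 7 n20776
theorem D43867 : act 7 n20776 = n43867 := rfl
theorem F68969 : act 3 n43867 = n20780 := d8_1 D43867 (iv7 D20780) (iv3 F32947)
def n43868 : Q := act 0 n20779
theorem D43868 : act 0 n20779 = n43868 := rfl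
theorem F68970 : act 5 n43868 = n41299 := d17_3 F63171 D20779 D43868 (iv4 D41299) (iv5 D19433) (iv0 F35616) F16837 F35661 D19110
theorem F68971 : act 2 n41312 = n43868 := d15_3 (iv0 D43868) (iv0 F63632) (iv7 F63639)
def n43869 : Q := act 4 n20779
theorem D43869 : act 4 n20779 = n43869 := rfl
def n43870 : Q := act 7 n20779
theorem D43870 : act 7 n20779 = n43870 := rfl
theorem F68972 : act 5 n43870 = n20780 := d13_1 D43870 (iv7 D20780) D20779
theorem F68973 : act 0 n41312 = n43870 := d21_1 D41312 F68972 (iv6 F33099) (iv1 F63423) D43289 (iv5 F68297) (iv1 F68298) (iv5 D20545) D20546 F63331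
theorem F68974 : act 0 n22499 = n22338 := d17_0 (iv5 D22338) F63129 F33041 (iv4 F32948) (iv5 F68972) (iv0 F68973) (iv5 D41312) (iv0 F63331) F62983
def n43871 : Q := act 0 n20781
theorem D43871 : act 0 n20781 = n43871 := rfl
def n43872 : Q := act 1 n20781
theorem D43872 : act 1 n20781 = n43872 := rfl
def n43873 : Q := act 5 n20781
theorem D43873 : act 5 n20781 = n43873 := rfl
theorem F68975 : act 3 n43873 = n20784 := d6_1 D43873 (iv5 D20784) (iv3 F32949)
theorem F68976 : act 6 n43873 = n32732 := d12_2 D20781 D43873 (iv5 D32732) (iv6 F27693) F27692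
def n43874 : Q := act 7 n20781
theorem D43874 : act 7 n20781 = n43874 := rfl
theorem F68977 : act 3 n43874 = n20785 := d8_1 D43874 (iv7 D20785) (iv3 F32949)
def n43875 : Q := act 0 n20784
theorem D43875 : act 0 n20784 = n43875 := rfl
theorem F68978 : act 5 n43875 = n41311 := d17_3 F63422 D20784 D43875 F63637 (iv5 F31513) (iv0 F66541) (iv5 D9706) D9705 D20439
theorem F68979 : act 3 n41312 = n43875 := d6_3 F68978 (iv3 D41311) D41312
def n43876 : Q := act 1 n20784
theorem D43876 : act 1 n20784 = n43876 := rfl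
theorem F68980 : act 5 n42318 = n43876 := d21_6 D4488 (iv1 F14660) (iv5 D9435) D9436 F66790 D42318 (iv1 D43876) (iv5 D20784) (iv6 D9876) (iv1 D4487)
def n43877 : Q := act 4 n20784
theorem D43877 : act 4 n20784 = n43877 := rfl
def n43878 : Q := act 7 n20784
theorem D43878 : act 7 n20784 = n43878 := rfl
theorem F68981 : act 5 n43878 = n20785 := d13_1 D43878 (iv7 D20785) D20784
def n43879 : Q := act 0 n20786
theorem D43879 : act 0 n20786 = n43879 := rfl
theorem F68982 : act 1 n20786 = n43879 := d15_0 (iv0 D43879) F32954 (iv2 F32951)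
def n43880 : Q := act 6 n20786
theorem D43880 : act 6 n20786 = n43880 := rfl
theorem F68983 : act 2 n43880 = n43838 := d3_1 D43880 (iv6 D43838) (iv2 F32951)
theorem F68984 : act 3 n43880 = n20787 := d7_1 D43880 (iv6 D20787) D20786
theorem F68985 : act 4 n43880 = n43838 := d10_1 D43880 (iv6 D43838) (iv4 F32952)
def n43881 : Q := act 1 n20787
theorem D43881 : act 1 n20787 = n43881 := rfl
theorem F68986 : act 1 n43881 = n20936 := d15_1 D43881 (iv7 D20936) (iv2 F32955)
theorem F68987 : act 7 n43881 = n20933 := d15_2 (iv0 F65523) D43881 (iv2 F65524)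
theorem F68988 : act 2 n20934 = n43881 := d4_3 F68987 (iv2 F65524) (iv7 F65510)
theorem F68989 : act 3 n26489 = n43881 := d8_3 F68987 F65525 F46849
theorem F68990 : act 4 n43881 = n26503 := d5_2 (iv4 F42388) F68989 F42418 F21070 (iv3 F21064)
theorem F68991 : act 6 n43881 = n26487 := d7_2 D26489 F68989 (iv3 D26487)
def n43882 : Q := act 5 n20787
theorem D43882 : act 5 n20787 = n43882 := rfl
theorem F68992 : act 2 n43882 = n20935 := d2_1 D43882 (iv5 D20935) (iv2 F32955)
theorem F68993 : act 6 n43882 = n20902 := d12_2 D20787 D43882 (iv5 D20902) (iv6 D9938) (iv5 F15531)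
def n43883 : Q := act 7 n20787
theorem D43883 : act 7 n20787 = n43883 := rfl
theorem F68994 : act 2 n43883 = n20936 := d4_1 D43883 (iv7 D20936) (iv2 F32955)
theorem F68995 : act 4 n43883 = n20791 := d11_1 D43883 (iv7 D20791) (iv4 F32956)
theorem F68996 : act 6 n43883 = n43844 := d14_1 D43883 (iv7 D43844) (iv6 D20761) (iv7 F15530) D20787
theorem F68997 : act 1 n20934 = n43883 := d15_1 D20934 (iv7 D43883) F32955
theorem F68998 : act 1 n43883 = n20933 := d15_1 F68997 (iv7 F68987) (iv2 F68988)
def n43884 : Q := act 4 n20788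
theorem D43884 : act 4 n20788 = n43884 := rfl
theorem F68999 : act 2 n43884 = n25339 := d1_1 D43884 (iv4 F47671) F65516
theorem F69000 : act 7 n43884 = n25337 := d11_2 F65517 D43884 (iv4 F52212)
theorem F69001 : act 0 n22072 = n43884 := d20_10 (iv4 D43884) (iv1 F68916) F68914 F33125 (iv1 F65520) F52211 F25394 D15932 D33042 (iv3 F55476)
theorem F69002 : act 0 n24228 = n41565 := d20_10 F64164 F69001 (iv4 D43884) F65518 (iv1 F52226) F37533 F37531 (iv1 D11388) D11389 D24228
theorem F69003 : act 1 n25336 = n43884 := d15_0 (iv0 F69001) F55477 (iv2 F65042)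
def n43885 : Q := act 5 n20788
theorem D43885 : act 5 n20788 = n43885 := rfl
def n43886 : Q := act 6 n20788
theorem D43886 : act 6 n20788 = n43886 := rfl
theorem F69004 : act 2 n43886 = n25649 := d3_1 D43886 (iv6 F47672) F65516
theorem F69005 : act 7 n43886 = n25641 := d14_2 F65517 D43886 (iv6 D25641) (iv7 F25389) D33029
theorem F69006 : act 1 n25647 = n43886 := d15_1 D25647 F69005 F40540
theorem F69007 : act 1 n43886 = n25646 := d15_0 (iv0 D25646) D25649 (iv2 F69004)
def n43887 : Q := act 5 n20789
theorem D43887 : act 5 n20789 = n43887 := rfl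
theorem F69008 : act 3 n43887 = n23769 := d6_1 D43887 (iv5 D23769) (iv3 F65512)
def n43888 : Q := act 0 n20790
theorem D43888 : act 0 n20790 = n43888 := rfl
def n43889 : Q := act 1 n20790
theorem D43889 : act 1 n20790 = n43889 := rfl
def n43890 : Q := act 4 n20790
theorem D43890 : act 4 n20790 = n43890 := rfl
theorem F69009 : act 6 n43890 = n20804 := d10_2 (iv6 F32957) D43890 (iv4 D20804)
def n43891 : Q := act 7 n20790
theorem D43891 : act 7 n20790 = n43891 := rfl
theorem F69010 : act 5 n43891 = n20791 := d13_1 D43891 (iv7 D20791) D20790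
def n43892 : Q := act 0 n20793
theorem D43892 : act 0 n20793 = n43892 := rfl
def n43893 : Q := act 1 n20793
theorem D43893 : act 1 n20793 = n43893 := rfl
def n43894 : Q := act 2 n20793
theorem D43894 : act 2 n20793 = n43894 := rfl
def n43895 : Q := act 4 n20793
theorem D43895 : act 4 n20793 = n43895 := rfl
theorem F69011 : act 3 n43895 = n40356 := d5_1 D43895 F66308 F65916 (iv4 F65917) D20793
theorem F69012 : act 7 n43895 = n22136 := d11_2 F68924 D43895 (iv4 F68923)
theorem F69013 : act 2 n43895 = n22135 := d15_3 (iv0 D22135) D22136 (iv7 F69012)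
theorem F69014 : act 4 n22135 = n43894 := d1_2 D43895 F69013 (iv2 D43894)
theorem F69015 : act 0 n43895 = n22138 := d20_4 F31392 D21883 (iv4 F66308) (iv3 F69011) F34605 F17034 F62633 D10415 F16571 (iv1 F65821)
def n43896 : Q := act 5 n20793
theorem D43896 : act 5 n20793 = n43896 := rfl
theorem F69016 : act 3 n43896 = n20795 := d6_1 D43896 (iv5 D20795) D20793
def n43897 : Q := act 6 n20793
theorem D43897 : act 6 n20793 = n43897 := rfl
theorem F69017 : act 3 n43897 = n20796 := d7_1 D43897 (iv6 D20796) D20793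
def n43898 : Q := act 0 n20795
theorem D43898 : act 0 n20795 = n43898 := rfl
theorem F69018 : act 5 n43898 = n41324 := d17_3 D9879 D20795 D43898 F63672 F35609 (iv0 D20825) (iv5 D9886) (iv0 D4490) (iv4 F6512)
theorem F69019 : act 1 n20800 = n43898 := d15_0 (iv0 D43898) (iv7 F68926) F68925
theorem F69020 : act 2 n41333 = n43898 := d2_3 F69018 F63671 D41333
def n43899 : Q := act 1 n20795
theorem D43899 : act 1 n20795 = n43899 := rfl
theorem F69021 : act 1 n43899 = n20800 := d15_1 D43899 (iv7 F68921) F68920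
theorem F69022 : act 7 n43899 = n41333 := d15_2 (iv0 D43898) D43899 F69020
theorem F69023 : act 5 n41313 = n43899 := d13_3 F69022 (iv5 D41333) (iv7 F63642)
theorem F69024 : act 0 n20796 = n43289 := d21_10 (iv5 F68297) (iv1 F68298) (iv5 D20545) D20546 F63331 D41313 F69023 (iv1 D43899) (iv5 D20795) D20796
def n43900 : Q := act 4 n20795
theorem D43900 : act 4 n20795 = n43900 := rfl
def n43901 : Q := act 6 n20795
theorem D43901 : act 6 n20795 = n43901 := rfl
def n43902 : Q := act 1 n20796
theorem D43902 : act 1 n20796 = n43902 := rfl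
theorem F69026 : act 4 n43902 = n20831 := d17_9 (iv1 D20831) F32518 (iv1 D20466) (iv5 D9715) (iv4 F15158) D20454 D43323 (iv5 F67998) D43902
theorem F69027 : act 6 n40435 = n43902 := d21_3 D20019 D42397 F65475 (iv1 D43902) (iv6 D20796) D20795 D43898 F69018 (iv6 D41324) F63160
theorem F69028 : act 5 n43445 = n43902 := d17_3 (iv1 F32510) D20545 (iv1 F68299) F69026 (iv5 F35849) F32665 (iv5 D9758) F15167 (iv4 F32507)
def n43903 : Q := act 0 n20798
theorem D43903 : act 0 n20798 = n43903 := rfl
def n43904 : Q := act 1 n20798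
theorem D43904 : act 1 n20798 = n43904 := rfl
def n43905 : Q := act 2 n20798
theorem D43905 : act 2 n20798 = n43905 := rfl
def n43906 : Q := act 4 n20798
theorem D43906 : act 4 n20798 = n43906 := rfl
theorem F69029 : act 3 n43906 = n21243 := d5_1 D43906 (iv4 D21243) F65909 F65907 D20798
theorem F69030 : act 7 n43906 = n21353 := d11_2 F68919 D43906 (iv4 F68918)
def n43907 : Q := act 5 n20798
theorem D43907 : act 5 n20798 = n43907 := rfl
theorem F69031 : act 3 n43907 = n20800 := d6_1 D43907 (iv5 D20800) D20798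
def n43908 : Q := act 6 n20798
theorem D43908 : act 6 n20798 = n43908 := rfl
theorem F69032 : act 3 n43908 = n20801 := d7_1 D43908 (iv6 D20801) D20798
def n43909 : Q := act 4 n20800
theorem D43909 : act 4 n20800 = n43909 := rfl
def n43910 : Q := act 6 n20800
theorem D43910 : act 6 n20800 = n43910 := rfl
def n43911 : Q := act 0 n20801
theorem D43911 : act 0 n20801 = n43911 := rfl
theorem F69033 : act 4 n43911 = n20844 := d20_8 F15563 (iv1 F14489) (iv4 F16071) (iv3 F14477) D19780 (iv3 F65911) F65912 D43911 F35714 (iv1 F15565)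
theorem F69034 : act 5 n43911 = n43419 := d21_0 (iv1 F68276) F65458 (iv6 F63139) (iv1 F31112) D41324 (iv5 F69018) (iv1 F69019) (iv5 D20800) D20801 D43911
theorem F69035 : act 1 n41578 = n43223 := d18_8 (iv1 D43566) F32689 F63434 (iv4 D23485) F35718 (iv4 F69033) (iv0 D43911) (iv4 F65912) F68461
theorem F69036 : act 3 n40435 = n43911 := d6_3 F69034 (iv3 F68279) F65475
theorem F69037 : act 7 n40433 = n43911 := d13_0 F69034 F68278 (iv5 F65457)
def n43912 : Q := act 1 n20801
theorem D43912 : act 1 n20801 = n43912 := rfl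
def n43913 : Q := act 5 n20801
theorem D43913 : act 5 n20801 = n43913 := rfl
theorem F69038 : act 0 n42317 = n43913 := d21_1 D42317 (iv5 D43913) (iv6 D20801) (iv1 D9880) (iv6 D4489) D4488 (iv1 F14660) (iv5 D9435) D9436 F66790
theorem F69039 : act 1 n23477 = n43913 := d15_0 (iv0 F69038) (iv7 F68192) F68191
theorem E7989 : n43912 = n43252 := (c17_9 F35811 D20846 F66510 (iv5 D11004) D11003 D23477 F69039 (iv5 D43913) D43912 F67789)
theorem F69040 : act 0 n43252 = n20801 := (sb E7989 (iv1 D43912))
def n43914 : Q := act 7 n20801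
theorem D43914 : act 7 n20801 = n43914 := rfl
def n43915 : Q := act 3 n20802
theorem D43915 : act 3 n20802 = n43915 := rfl
def n43916 : Q := act 4 n20802
theorem D43916 : act 4 n20802 = n43916 := rfl
theorem F69041 : act 5 n43916 = n43909 := d16_1 D43916 (iv4 D43909) (iv5 D20800) (iv4 F65907) (iv5 F65929) F65928 F63684 (iv7 F68930) (iv2 F68929)
def n43917 : Q := act 6 n20802
theorem D43917 : act 6 n20802 = n43917 := rfl
def n43918 : Q := act 3 n20803
theorem D43918 : act 3 n20803 = n43918 := rfl
def n43919 : Q := act 4 n20803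
theorem D43919 : act 4 n20803 = n43919 := rfl
theorem F69042 : act 5 n43919 = n43900 := d9_2 F63684 D43919 (iv4 D43900) (iv5 D20795) F65917 (iv5 F64145) F65919 F65920 D43916 F69041 (iv4 D43909) (iv5 D20800) (iv4 F65907) (iv5 F65929) F65928
def n43920 : Q := act 6 n20803
theorem D43920 : act 6 n20803 = n43920 := rfl
def n43921 : Q := act 0 n20804
theorem D43921 : act 0 n20804 = n43921 := rfl
def n43922 : Q := act 1 n20804
theorem D43922 : act 1 n20804 = n43922 := rfl
def n43923 : Q := act 3 n20804
theorem D43923 : act 3 n20804 = n43923 := rfl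
def n43924 : Q := act 5 n20804
theorem D43924 : act 5 n20804 = n43924 := rfl
theorem F69043 : act 4 n43924 = n43852 := d16_2 D20804 D43924 F68934 F32923 F15523 (iv4 F32923) (iv5 F68934) (iv7 D43852) F32921
theorem F69044 : act 7 n43924 = n43851 := d16_8 (iv4 D20804) (iv5 D9881) F6512 F3163 (iv4 F6512) D9881 D20804 D43924 F68932
theorem F69045 : act 1 n43922 = n43924 := d15_1 D43922 F69044 F68932
def n43925 : Q := act 7 n20804
theorem D43925 : act 7 n20804 = n43925 := rfl
theorem F69046 : act 2 n43925 = n43924 := d4_1 D43925 F69044 F68932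
theorem F69047 : act 4 n43925 = n20805 := d11_1 D43925 (iv7 D20805) D20804
theorem F69048 : act 5 n43925 = n43851 := d13_1 D43925 (iv7 F69044) (iv5 D43924)
theorem F69049 : act 1 n43924 = n43921 := d15_0 (iv0 D43921) D43925 F69046
def n43926 : Q := act 6 n20805
theorem D43926 : act 6 n20805 = n43926 := rfl
def n43927 : Q := act 6 n20814
theorem D43927 : act 6 n20814 = n43927 := rfl
theorem F69050 : act 2 n43927 = n20817 := d3_1 D43927 (iv6 D20817) D20814
theorem F69051 : act 3 n43927 = n37862 := d7_1 D43927 (iv6 D37862) (iv3 F66213)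
theorem F69052 : act 4 n43927 = n21330 := d10_1 D43927 (iv6 D21330) (iv4 F35773)
def n43928 : Q := act 3 n20815
theorem D43928 : act 3 n20815 = n43928 := rfl
theorem F69053 : act 4 n43928 = n20821 := d5_2 D20815 D43928 (iv3 D20821) (iv4 D9885) D9884
theorem F69054 : act 7 n43928 = n21332 := d8_2 (iv7 F35769) D43928 (iv3 D21332)
def n43929 : Q := act 5 n20815
theorem D43929 : act 5 n20815 = n43929 := rfl
theorem F69055 : act 2 n43929 = n21329 := d2_1 D43929 (iv5 D21329) (iv2 F35768)
theorem F69056 : act 7 n43929 = n21333 := d13_2 (iv7 F35769) D43929 (iv5 D21333)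
theorem F69057 : act 0 n43929 = n23625 := d17_2 F32972 D43929 (iv5 D23625) F17936 (iv5 F17906) (iv0 F63189) (iv5 D21240) (iv0 D10147) (iv4 F15987)
def n43930 : Q := act 6 n20815
theorem D43930 : act 6 n20815 = n43930 := rfl
theorem F69058 : act 2 n43930 = n21330 := d3_1 D43930 (iv6 D21330) (iv2 F35768)
theorem F69059 : act 4 n43930 = n20817 := d10_1 D43930 (iv6 D20817) D20815
theorem F69060 : act 5 n43930 = n23190 := d21_6 (iv5 F16465) (iv1 F16466) (iv5 D10145) D10146 F32972 D43930 (iv1 D23190) (iv5 D10916) (iv6 D4974) D4971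
theorem F69061 : act 0 n43930 = n42009 := d20_7 F16026 (iv1 F15837) F15838 (iv3 F35679) (iv1 D20831) (iv3 F32974) (iv4 F69059) F64843 F31597 (iv1 F16029)
def n43931 : Q := act 4 n20816
theorem D43931 : act 4 n20816 = n43931 := rfl
theorem F69062 : act 2 n43931 = n23623 := d1_1 D43931 (iv4 F66251) F66249
theorem F69063 : act 7 n43931 = n23624 := d11_2 (iv7 F35770) D43931 (iv4 F36757)
theorem F69064 : act 0 n43931 = n23551 := d18_2 (iv1 F66290) D43931 F36662 F17906 (iv4 F17936) D23624 (iv4 F36757) D42483 F66275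
theorem F69065 : act 1 n43931 = n23611 := d18_6 (iv1 D10148) (iv4 F15987) F32972 (iv4 D20815) D20816 D43931 F36738 (iv0 F63191) F17657
def n43932 : Q := act 6 n20816
theorem D43932 : act 6 n20816 = n43932 := rfl
theorem F69066 : act 3 n43932 = n20828 := d7_1 D43932 (iv6 D20828) (iv3 F32973)
theorem F69067 : act 7 n43932 = n42235 := d14_2 (iv7 F35770) D43932 (iv6 D42235) F35753 D20054
theorem F69068 : act 0 n43932 = n42264 := d21_10 (iv5 F66623) F66624 (iv5 D40688) (iv6 D19204) (iv1 F14105) D18143 F29315 (iv1 F66215) D20816 D43932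
def n43933 : Q := act 0 n20817
theorem D43933 : act 0 n20817 = n43933 := rfl
def n43934 : Q := act 1 n20817
theorem D43934 : act 1 n20817 = n43934 := rfl
def n43935 : Q := act 3 n20819
theorem D43935 : act 3 n20819 = n43935 := rfl
theorem F69069 : act 4 n43935 = n41587 := d5_2 (iv4 F65790) D43935 F64182 F31366 (iv3 F31343)
theorem F69070 : act 7 n43935 = n41564 := d8_2 (iv7 F65792) D43935 F64162
def n43936 : Q := act 5 n20819
theorem D43936 : act 5 n20819 = n43936 := rfl
theorem F69071 : act 7 n43936 = n41568 := d13_2 (iv7 F65792) D43936 (iv5 D41568)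
def n43937 : Q := act 0 n20821
theorem D43937 : act 0 n20821 = n43937 := rfl
def n43938 : Q := act 1 n20821
theorem D43938 : act 1 n20821 = n43938 := rfl
def n43939 : Q := act 2 n20821
theorem D43939 : act 2 n20821 = n43939 := rfl
def n43940 : Q := act 5 n20821
theorem D43940 : act 5 n20821 = n43940 := rfl
theorem F69072 : act 3 n43940 = n20822 := d6_1 D43940 (iv5 D20822) D20821
def n43941 : Q := act 6 n20821
theorem D43941 : act 6 n20821 = n43941 := rfl
theorem F69073 : act 3 n43941 = n20823 := d7_1 D43941 (iv6 D20823) D20821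
def n43942 : Q := act 0 n20822
theorem D43942 : act 0 n20822 = n43942 := rfl
theorem F69074 : act 5 n43942 = n22873 := d17_3 F65889 D20822 D43942 F35574 D22879 F65873 (iv5 D21348) F65822 (iv4 F32385)
theorem F69075 : act 1 n20841 = n43942 := d15_0 (iv0 D43942) (iv7 F68955) F68954
def n43943 : Q := act 1 n20822
theorem D43943 : act 1 n20822 = n43943 := rfl
theorem F69076 : act 1 n43943 = n20841 := d15_1 D43943 (iv7 F68941) F68940
theorem F69077 : act 5 n43943 = n42501 := d17_7 (iv1 F35612) F31098 F35648 (iv5 D9886) D9885 D20822 D43943 F68946 (iv4 D43855)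
def n43944 : Q := act 4 n20822
theorem D43944 : act 4 n20822 = n43944 := rfl
def n43945 : Q := act 6 n20822
theorem D43945 : act 6 n20822 = n43945 := rfl
def n43946 : Q := act 1 n20823
theorem D43946 : act 1 n20823 = n43946 := rfl
theorem F69078 : act 7 n43946 = n42132 := d15_2 (iv0 F67881) D43946 (iv2 F67879)
def n43947 : Q := act 5 n20823
theorem D43947 : act 5 n20823 = n43947 := rfl
theorem F69079 : act 0 n43947 = n22488 := d21_7 D9428 (iv1 F31794) F31796 D20391 F65889 D20823 D43947 (iv5 D22488) (iv6 D10681) F7311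
def n43948 : Q := act 4 n20825
theorem D43948 : act 4 n20825 = n43948 := rfl
theorem F69081 : act 6 n43948 = n41299 := d10_2 F35618 D43948 (iv4 D41299)
theorem F69082 : act 7 n43948 = n41324 := d11_2 (iv7 F35650) D43948 F63672
theorem F69083 : act 0 n43948 = n41332 := d17_0 F63684 (iv1 D20803) (iv5 D9881) F6512 F3163 D4491 D9891 (iv0 F32983) D43948
theorem F69084 : act 1 n43948 = n41331 := d18_6 F65860 F65548 (iv1 F65552) F63672 F35609 D43948 (iv4 F65919) (iv0 D22877) D22879
def n43949 : Q := act 0 n20827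
theorem D43949 : act 0 n20827 = n43949 := rfl
theorem F69085 : act 4 n43949 = n22879 := d18_3 F35648 D20827 D43949 (iv5 D22879) (iv4 F35574) (iv0 F65972) F31884 (iv0 F35611) F31098
theorem F69086 : act 2 n42501 = n43949 := d15_3 (iv0 D43949) F68120 (iv7 F68121)
theorem F69087 : act 1 n20843 = n43949 := d15_0 (iv0 D43949) F35780 F35774
theorem F69088 : act 7 n43949 = n22873 := d15_2 F68947 F69087 (iv2 F68118)
def n43950 : Q := act 3 n20827
theorem D43950 : act 3 n20827 = n43950 := rfl
theorem F69089 : act 7 n43950 = n42496 := d8_2 (iv7 F35780) D43950 F65633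
def n43951 : Q := act 5 n20827
theorem D43951 : act 5 n20827 = n43951 := rfl
theorem F69090 : act 7 n43951 = n42502 := d13_2 (iv7 F35780) D43951 (iv5 D42502)
theorem F69091 : act 0 n43951 = n43936 := d17_2 (iv1 F68120) D43951 (iv5 D43936) F65790 F31344 F65823 D21348 F65924 (iv4 F68119)
theorem F69092 : act 1 n43951 = n43225 := d17_6 (iv1 D4491) F3163 D4490 D9886 D20827 D43951 (iv5 D43225) F65890 (iv4 D9890)
theorem F69093 : act 4 n43951 = n43921 := d18_5 (iv1 D41332) F31121 F35648 D20827 D43951 (iv0 D43921) (iv4 D20804) D20803 (iv5 F63684)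
def n43952 : Q := act 6 n20827
theorem D43952 : act 6 n20827 = n43952 := rfl
theorem F69094 : act 2 n43952 = n42537 := d3_1 D43952 (iv6 F68943) F68942
theorem F69095 : act 4 n43952 = n20828 := d10_1 D43952 (iv6 D20828) D20827
theorem F69096 : act 7 n43952 = n42238 := d14_2 (iv7 F35780) D43952 (iv6 D42238) F35755 D20060
theorem F69097 : act 0 n43952 = n42292 := d21_10 F67883 (iv1 D43284) (iv5 D20431) (iv6 D9703) (iv1 F15069) D20391 D43225 (iv1 F69092) (iv5 D43951) D43952
theorem F69098 : act 1 n43952 = n42534 := d15_1 (iv0 F69097) (iv7 F68168) F68160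
theorem E7990 : n42535 = n42292 := (c15_1 D42535 (iv0 F69097) F69096 F65231)
theorem F69099 : act 0 n42292 = n20079 := (sb E7990 (iv1 D42535))
def n43953 : Q := act 0 n20838
theorem D43953 : act 0 n20838 = n43953 := rfl
theorem F69100 : act 4 n43953 = n22329 := d18_1 D43953 (iv1 F66257) (iv4 D22041) (iv5 D10501) D10500 F66219 F29320 F66160 D20838
theorem F69102 : act 1 n37861 = n43953 := d15_0 (iv0 D43953) F66295 (iv2 F66294)
theorem F69103 : act 6 n22327 = n43953 := d21_9 (iv5 D37861) (iv1 F30781) F30777 F30778 F62686 D20984 F63009 (iv1 F62388) (iv5 F35323) (iv1 F69102)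
theorem F69104 : act 3 n43953 = n41236 := d7_1 F69103 (iv6 D41236) F34834
def n43954 : Q := act 0 n20839
theorem D43954 : act 0 n20839 = n43954 := rfl
def n43955 : Q := act 1 n20839
theorem D43955 : act 1 n20839 = n43955 := rfl
def n43956 : Q := act 5 n20839
theorem D43956 : act 5 n20839 = n43956 := rfl
theorem F69105 : act 3 n43956 = n20846 := d6_1 D43956 (iv5 D20846) (iv3 F32994)
theorem F69106 : act 6 n43956 = n40870 := d12_2 D20839 D43956 (iv5 D40870) (iv6 F66077) (iv5 D20838)
theorem F69107 : act 0 n23385 = n43956 := d21_1 D23385 (iv5 D43956) (iv6 D20839) (iv1 F66160) (iv6 D8559) (iv5 D3831) D3828 D8554 D18141 (iv1 F66561)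
def n43957 : Q := act 7 n20839
theorem D43957 : act 7 n20839 = n43957 := rfl
theorem F69108 : act 3 n43957 = n20847 := d8_1 D43957 (iv7 D20847) (iv3 F32994)
theorem F69109 : act 1 n41736 = n43957 := d15_1 (iv0 F66265) (iv7 D43957) F66298
def n43958 : Q := act 0 n20840
theorem D43958 : act 0 n20840 = n43958 := rfl
def n43959 : Q := act 1 n20840
theorem D43959 : act 1 n20840 = n43959 := rfl
theorem F69110 : act 3 n42120 = n43959 := d20_3 F62864 (iv1 F34539) (iv4 F65048) (iv1 D43959) (iv3 D20840) (iv4 D9890) (iv1 D4491) (iv4 F6512) (iv3 F6603) D9949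
theorem F69111 : act 7 n43959 = n42117 := d8_2 D42120 F69110 F65038
theorem E7991 : n43958 = n43271 := ((c15_4 (iv0 D43958) D43959 F69111 (iv2 F67849))).symm
theorem F69112 : act 1 n43271 = n20840 := (sb E7991 (iv0 D43958))
def n43960 : Q := act 2 n20840
theorem D43960 : act 2 n20840 = n43960 := rfl
def n43961 : Q := act 5 n20840
theorem D43961 : act 5 n20840 = n43961 := rfl
theorem F69113 : act 3 n43961 = n20841 := d6_1 D43961 (iv5 D20841) D20840
def n43962 : Q := act 6 n20840
theorem D43962 : act 6 n20840 = n43962 := rfl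
theorem F69114 : act 3 n43962 = n20842 := d7_1 D43962 (iv6 D20842) D20840
def n43963 : Q := act 4 n20841
theorem D43963 : act 4 n20841 = n43963 := rfl
theorem F69115 : act 5 n43963 = n43921 := d16_1 D43963 (iv4 F69093) (iv5 D43951) (iv4 D20827) (iv5 D9886) D9885 D20822 (iv7 F68955) F68954
def n43964 : Q := act 6 n20841
theorem D43964 : act 6 n20841 = n43964 := rfl
def n43965 : Q := act 0 n20842
theorem D43965 : act 0 n20842 = n43965 := rfl
theorem F69116 : act 5 n43965 = n43388 := d17_1 D43965 (iv1 F68182) F65314 F31799 (iv5 F31804) (iv0 F35716) F35718 (iv0 D20844) (iv4 F32995)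
theorem F69117 : act 7 n42185 = n43965 := d13_0 F69116 F68184 (iv5 F65313)
def n43966 : Q := act 1 n20842
theorem D43966 : act 1 n20842 = n43966 := rfl
def n43967 : Q := act 5 n20842
theorem D43967 : act 5 n20842 = n43967 := rfl
theorem F69118 : act 1 n43967 = n42291 := d17_6 D9421 D19966 F32999 (iv5 D20846) (iv4 F32995) D43967 (iv5 D42291) (iv0 D19959) F14650
theorem F69119 : act 1 n42296 = n43967 := d15_0 F69118 (iv7 F68172) F68171
def n43968 : Q := act 7 n20842
theorem D43968 : act 7 n20842 = n43968 := rfl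
theorem F69120 : act 4 n43968 = n20847 := d11_1 D43968 (iv7 D20847) (iv4 F32995)
theorem F69121 : act 1 n42185 = n43968 := d17_8 (iv1 F35767) (iv5 F30693) F35689 (iv5 D9423) (iv4 F14650) D19961 D42299 (iv5 F65313) F69120
theorem F69122 : act 1 n43859 = n42185 := d15_0 F69121 (iv7 D43968) (iv2 F68956)
def n43969 : Q := act 3 n20843
theorem D43969 : act 3 n20843 = n43969 := rfl
theorem F69123 : act 6 n43969 = n42227 := d7_2 (iv6 F32996) D43969 (iv3 D42227)
def n43970 : Q := act 5 n20843
theorem D43970 : act 5 n20843 = n43970 := rfl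
theorem F69124 : act 2 n43970 = n42502 := d2_1 D43970 (iv5 D42502) F35774
theorem F69125 : act 0 n43970 = n43225 := d17_2 (iv1 F69087) D43970 (iv5 D43225) F32385 F31335 (iv0 F65854) F65858 (iv0 F65860) (iv4 F69085)
theorem F69126 : act 1 n43970 = n43936 := d17_6 (iv1 F15526) F15523 (iv1 F15525) D9891 D20843 D43970 (iv5 D43936) (iv0 D20819) (iv4 D9885)
theorem F69127 : act 4 n43970 = n43922 := d18_5 (iv1 F69084) (iv4 D43948) F32983 D20843 D43970 F69045 F69043 F68936 (iv5 F65920)
theorem F69128 : act 5 n43944 = n43922 := d9_14 (iv5 D43970) (iv4 D20843) (iv5 D9891) D9890 D20841 D43963 F69115 (iv4 F69093) (iv5 D43951) (iv4 D20827) (iv5 D9886) D9885 D20822 D43944 (iv4 F69127)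
def n43971 : Q := act 4 n20846
theorem D43971 : act 4 n20846 = n43971 := rfl
theorem F69130 : act 6 n43971 = n42230 := d10_2 (iv6 F32998) D43971 (iv4 D42230)
def n43972 : Q := act 3 n20861
theorem D43972 : act 3 n20861 = n43972 := rfl
theorem F69131 : act 7 n43972 = n41677 := d8_2 (iv7 F65819) D43972 F64307
def n43973 : Q := act 5 n20861
theorem D43973 : act 5 n20861 = n43973 := rfl
theorem F69132 : act 7 n43973 = n41680 := d13_2 (iv7 F65819) D43973 (iv5 D41680)
def n43974 : Q := act 0 n20863
theorem D43974 : act 0 n20863 = n43974 := rfl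
theorem F69133 : act 5 n43974 = n40855 := d21_2 D20863 D43974 (iv6 D40855) (iv1 D19256) (iv6 D9056) D9055 (iv1 F16642) (iv5 D10446) D10447 (iv1 F65811)
theorem F69134 : act 2 n41182 = n43974 := d2_3 F69133 F61956 D41182
def n43975 : Q := act 1 n20863
theorem D43975 : act 1 n20863 = n43975 := rfl
theorem F69135 : act 7 n43975 = n41182 := d15_2 (iv0 D43974) D43975 F69134
theorem F69136 : act 5 n43975 = n41183 := d17_7 F31038 (iv5 D19408) (iv1 F66144) (iv5 D9897) D9896 D20863 D43975 F66261 (iv4 D40653)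
def n43976 : Q := act 4 n20863
theorem D43976 : act 4 n20863 = n43976 := rfl
def n43977 : Q := act 6 n20863
theorem D43977 : act 6 n20863 = n43977 := rfl
def n43978 : Q := act 0 n20864
theorem D43978 : act 0 n20864 = n43978 := rfl
theorem F69137 : act 5 n43978 = n43662 := d17_1 D43978 (iv1 F68621) (iv5 D41049) (iv4 D19322) D19323 (iv0 F62517) (iv5 F66180) (iv0 D20868) (iv4 F33012)
theorem F69138 : act 6 n43978 = n41683 := d21_3 D20660 D43662 (iv5 F69137) (iv1 D41683) (iv6 D19622) (iv5 F30976) (iv1 F30979) (iv5 D9084) D9085 (iv1 F62728)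
theorem F69139 : act 2 n41697 = n43978 := d3_3 F69138 F64325 D41697
theorem F69140 : act 2 n43662 = n43699 := d2_3 F68684 F69139 F69137
theorem F69141 : act 7 n43698 = n43662 := d15_2 F68683 F68682 F69140
theorem F69142 : act 7 n43663 = n43699 := d15_2 (iv0 D43662) D43663 (iv2 F69140)
theorem F69143 : act 2 n43698 = n43663 := d4_3 F69142 (iv2 F69140) (iv7 F69141)
def n43979 : Q := act 1 n20864
theorem D43979 : act 1 n20864 = n43979 := rfl
theorem F69144 : act 7 n43979 = n41697 := d15_2 (iv0 D43978) D43979 F69139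
theorem F69145 : act 4 n41789 = n43979 := d20_6 (iv4 F15265) F15394 (iv4 F16026) (iv3 F33591) F65731 (iv3 F64446) (iv1 D43979) F33012 F15541 (iv1 F15299)
theorem F69146 : act 6 n41788 = n43979 := d21_3 D19257 D40856 (iv5 F64443) (iv1 D43979) (iv6 D20864) D20863 D43974 F69133 (iv6 D40855) (iv1 D19256)
theorem F69147 : act 5 n43663 = n43979 := d21_8 F68707 (iv1 D41166) (iv5 D19360) D19361 (iv1 F62379) (iv6 D41050) D41049 (iv1 F68622) (iv6 F69146) F68709
def n43980 : Q := act 5 n20864
theorem D43980 : act 5 n20864 = n43980 := rfl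
theorem F69148 : act 2 n43980 = n41124 := d2_1 D43980 (iv5 F66321) F66325
theorem F69149 : act 3 n43980 = n22629 := d6_1 D43980 (iv5 F62623) F34250
theorem F69150 : act 7 n43980 = n41123 := d13_2 F68735 D43980 (iv5 F68736)
theorem F69151 : act 1 n43980 = n41126 := d17_6 F62494 (iv5 F30968) (iv1 F66126) F15542 (iv4 F33012) D43980 F62344 (iv0 F62726) (iv4 D20655)
theorem F69152 : act 0 n43980 = n22681 := d21_1 D43980 (iv5 D22681) (iv6 D10737) (iv1 F7329) D9056 D19257 D40856 (iv5 F64443) F69146 (iv1 D43979)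
def n43981 : Q := act 0 n20867
theorem D43981 : act 0 n20867 = n43981 := rfl
theorem F69154 : act 1 n40937 = n43981 := d15_0 (iv0 D43981) F33015 F66133
theorem F69155 : act 7 n43981 = n40855 := d15_2 (iv0 F66259) F69154 F61956
theorem F69156 : act 6 n41172 = n43981 := d21_3 D19084 D40390 (iv5 F63559) (iv1 F69154) (iv6 D40937) D40936 (iv1 F66999) F67000 (iv6 D40389) (iv1 D19083)
def n43982 : Q := act 3 n20867
theorem D43982 : act 3 n20867 = n43982 := rfl
theorem F69157 : act 4 n43982 = n20870 := d5_2 D20867 D43982 (iv3 D20870) (iv4 D9899) (iv3 F15539)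
theorem F69158 : act 6 n43982 = n22768 := d7_2 F67008 D43982 (iv3 F67006)
theorem F69160 : act 0 n22810 = n43982 := d20_7 F17760 F7461 F14806 (iv3 F15262) D20666 (iv3 F68136) F68137 F69157 (iv3 D20870) (iv1 F17758)
def n43983 : Q := act 5 n20867
theorem D43983 : act 5 n20867 = n43983 := rfl
theorem F69162 : act 0 n43983 = n43973 := d17_2 (iv1 F65974) D43983 (iv5 D43973) F65817 F34355 F34358 D21910 (iv0 F64031) F34883
theorem F69163 : act 1 n43983 = n21905 := d17_6 (iv1 F66149) F13922 (iv1 F66167) D9897 D20867 D43983 (iv5 D21905) (iv0 F65812) (iv4 D20882)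
def n43984 : Q := act 4 n20868
theorem D43984 : act 4 n20868 = n43984 := rfl
theorem F69164 : act 2 n43984 = n41910 := d1_1 D43984 F64653 (iv2 F66179)
theorem F69165 : act 6 n43984 = n41891 := d10_2 (iv6 F66181) D43984 (iv4 D41891)
def n43985 : Q := act 3 n20869
theorem D43985 : act 3 n20869 = n43985 := rfl
theorem F69166 : act 5 n43985 = n43671 := d6_2 (iv5 F66185) D43985 (iv3 D43671)
theorem F69167 : act 6 n43985 = n43217 := d7_2 (iv6 F66186) D43985 F67680
theorem F69168 : act 7 n43985 = n41907 := d8_2 (iv7 F66187) D43985 F64652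
theorem F69169 : act 0 n43985 = n43927 := d21_4 (iv5 F16965) D20382 D43217 (iv6 F69167) (iv6 D43927) F66248 (iv1 F66276) F66275 (iv6 D41236) F35639
theorem F69170 : act 1 n43985 = n43532 := d15_1 (iv0 F69169) F68413 (iv2 F69050)
theorem F69171 : act 1 n42104 = n43927 := d15_0 (iv0 F69169) F69168 (iv2 F65022)
def n43986 : Q := act 4 n20869
theorem D43986 : act 4 n20869 = n43986 := rfl
theorem F69172 : act 7 n43986 = n41910 := d11_2 (iv7 F66187) D43986 F64653
def n43987 : Q := act 0 n20870
theorem D43987 : act 0 n20870 = n43987 := rfl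
theorem F69173 : act 5 n43987 = n21826 := d21_2 (iv5 F33016) D43987 (iv6 F64531) (iv1 D22215) (iv6 D10595) (iv5 D4844) (iv1 D1995) D1996 (iv6 F6971) F62677
theorem F69174 : act 6 n43987 = n22458 := d21_5 D9244 F62655 (iv5 F62656) (iv6 F62680) D43987 (iv5 F35548) F63760 F63756 F31136 (iv1 F14346)
theorem F69176 : act 1 n22204 = n43987 := d15_0 (iv0 D43987) (iv7 F62694) (iv2 F35449)
def n43988 : Q := act 3 n20879
theorem D43988 : act 3 n20879 = n43988 := rfl
theorem F69178 : act 6 n43988 = n40754 := d7_2 (iv6 F66205) D43988 F61867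
theorem F69179 : act 7 n43988 = n40354 := d8_2 (iv7 F66206) D43988 F61437
theorem F69180 : act 0 n22144 = n43988 := d20_4 (iv4 F29323) (iv1 F62896) (iv4 D22145) D22144 (iv3 D43988) (iv4 D20879) (iv1 D9902) D9904 (iv3 F16571) (iv1 F62627)
def n43989 : Q := act 5 n20879
theorem D43989 : act 5 n20879 = n43989 := rfl
theorem F69181 : act 2 n43989 = n40633 := d2_1 D43989 F61734 (iv2 F66204)
theorem F69182 : act 7 n43989 = n40358 := d13_2 (iv7 F66206) D43989 (iv5 D40358)
theorem F69183 : act 1 n40631 = n43989 := d15_1 D40631 F69182 F61440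
theorem F69184 : act 1 n43989 = n40630 := d15_0 (iv0 D40630) D40633 (iv2 F69181)
def n43990 : Q := act 3 n20882
theorem D43990 : act 3 n20882 = n43990 := rfl
theorem F69185 : act 2 n43990 = n22191 := d0_1 D43990 (iv3 D22191) (iv2 F62618) F16571 (iv2 F33024)
theorem F69186 : act 4 n43990 = n43990 := d5_2 D20882 D43990 (iv3 D43990) (iv4 D20882) F15553
theorem F69187 : act 7 n43990 = n40649 := d8_2 F66172 D43990 (iv3 D40649)
def n43991 : Q := act 5 n20882
theorem D43991 : act 5 n20882 = n43991 := rfl
theorem F69188 : act 2 n43991 = n20886 := d2_1 D43991 (iv5 D20886) (iv2 F33024)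
theorem F69189 : act 7 n43991 = n40650 := d13_2 F66172 D43991 (iv5 D40650)
theorem F69190 : act 0 n43991 = n43975 := d17_2 (iv1 F33027) D43991 F69136 F62382 F35404 F65975 (iv5 D21915) F34357 (iv4 F65817)
theorem F69191 : act 1 n43991 = n43974 := d17_6 (iv1 F66146) (iv5 F31015) F31016 (iv5 F66118) D20882 D43991 F69133 F65971 F31999
def n43992 : Q := act 6 n20882
theorem D43992 : act 6 n20882 = n43992 := rfl
theorem F69192 : act 2 n43992 = n20887 := d3_1 D43992 (iv6 D20887) (iv2 F33024)
theorem F69193 : act 4 n43992 = n20883 := d10_1 D43992 (iv6 D20883) D20882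
def n43993 : Q := act 0 n20883
theorem D43993 : act 0 n20883 = n43993 := rfl
theorem F69194 : act 6 n43993 = n21056 := d21_5 (iv5 F31015) F31016 (iv5 F66118) D20883 D43993 F66337 (iv1 D20173) (iv5 D9518) D9519 (iv1 F66146)
theorem F69195 : act 5 n43993 = n23372 := d21_0 (iv1 F36502) F17845 F7427 (iv1 F14133) D19265 (iv5 F31015) F31016 (iv5 F66118) D20883 D43993
theorem F69196 : act 2 n20888 = n43993 := d15_3 (iv0 D43993) F66151 (iv7 F66193)
theorem F69197 : act 7 n43993 = n20889 := d4_2 (iv7 F66193) F69196 F66194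
theorem F69198 : act 1 n20890 = n43993 := d15_1 (iv0 F66190) F69197 F66194
def n43994 : Q := act 7 n20883
theorem D43994 : act 7 n20883 = n43994 := rfl
theorem F69201 : act 6 n43994 = n40657 := d14_1 D43994 (iv7 D40657) (iv6 D19191) F66153 D20883
theorem F69202 : act 1 n20889 = n43994 := d15_1 D20889 (iv7 D43994) F33028
theorem F69203 : act 1 n43994 = n20888 := d15_1 F69202 F66193 (iv2 F66194)
def n43995 : Q := act 3 n20885
theorem D43995 : act 3 n20885 = n43995 := rfl
theorem F69204 : act 4 n43995 = n21999 := d5_2 (iv4 F65808) D43995 F34497 F16702 (iv3 F16644)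
theorem F69205 : act 7 n43995 = n21900 := d8_2 (iv7 F65810) D43995 F34391
def n43996 : Q := act 5 n20885
theorem D43996 : act 5 n20885 = n43996 := rfl
theorem F69206 : act 2 n43996 = n43973 := d2_1 D43996 (iv5 D43973) F65816
theorem F69207 : act 7 n43996 = n21905 := d13_2 (iv7 F65810) D43996 (iv5 D21905)
theorem F69208 : act 0 n43996 = n42725 := d17_2 (iv1 F66209) D43996 (iv5 D42725) F31999 (iv5 F14774) D9902 F33542 F66170 D19189
def n43997 : Q := act 0 n20886
theorem D43997 : act 0 n20886 = n43997 := rfl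
theorem F69209 : act 2 n43975 = n43997 := d15_3 (iv0 D43997) (iv0 F66260) (iv7 F69135)
theorem F69210 : act 1 n40650 = n43997 := d15_0 (iv0 D43997) F33032 (iv2 F66324)
theorem F69211 : act 7 n43997 = n43974 := d15_2 (iv0 F66322) F69210 (iv2 F69134)
theorem F69212 : act 5 n43997 = n43981 := d17_7 F66143 F31015 (iv1 F31068) (iv5 D19190) D19189 D40650 F69210 (iv0 D43981) (iv4 D20867)
def n43998 : Q := act 4 n20886
theorem D43998 : act 4 n20886 = n43998 := rfl
theorem F69213 : act 7 n43998 = n43976 := d11_2 (iv7 F33032) D43998 (iv4 D43976)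
def n43999 : Q := act 6 n20886
theorem D43999 : act 6 n20886 = n43999 := rfl
def n44000 : Q := act 0 n20887
theorem D44000 : act 0 n20887 = n44000 := rfl
def n44001 : Q := act 5 n20887
theorem D44001 : act 5 n20887 = n44001 := rfl
def n44002 : Q := act 7 n20887
theorem D44002 : act 7 n20887 = n44002 := rfl
theorem F69214 : act 3 n44002 = n41993 := d8_1 D44002 F64792 F34282
theorem F69215 : act 4 n44002 = n20890 := d11_1 D44002 (iv7 D20890) (iv4 F33033)
theorem F69216 : act 6 n44002 = n43723 := d14_1 D44002 F68735 (iv6 D20864) (iv7 F15558) D20887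
theorem F69217 : act 0 n44002 = n40385 := d20_7 F65912 D43911 F69033 F35714 (iv1 F15565) (iv3 F33034) (iv4 F69215) (iv4 F64430) (iv3 F67712) (iv1 F69035)
theorem F69218 : act 1 n43992 = n40385 := d15_0 (iv0 F69217) (iv7 D44002) (iv2 F69192)
def n44003 : Q := act 3 n20888
theorem D44003 : act 3 n20888 = n44003 := rfl
theorem F69219 : act 5 n44003 = n23420 := d6_2 (iv5 F66192) D44003 (iv3 D23420)
theorem F69220 : act 7 n44003 = n40402 := d8_2 (iv7 F66193) D44003 F61475
theorem F69221 : act 1 n43957 = n44003 := d15_1 F69109 F69220 (iv2 F64372)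
def n44004 : Q := act 4 n20888
theorem D44004 : act 4 n20888 = n44004 := rfl
theorem F69222 : act 7 n44004 = n40408 := d11_2 (iv7 F66193) D44004 F61482
def n44005 : Q := act 4 n20889
theorem D44005 : act 4 n20889 = n44005 := rfl
theorem F69223 : act 2 n44005 = n40408 := d1_1 D44005 F61482 (iv2 F66194)
theorem F69224 : act 6 n44005 = n40323 := d10_2 (iv6 F66196) D44005 (iv4 D40323)
def n44006 : Q := act 5 n20892
theorem D44006 : act 5 n20892 = n44006 := rfl
theorem F69225 : act 2 n44006 = n22338 := d2_1 D44006 (iv5 D22338) (iv2 F63114)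
theorem F69226 : act 3 n44006 = n22819 := d6_1 D44006 (iv5 D22819) (iv3 F63115)
theorem F69227 : act 7 n44006 = n22868 := d13_2 (iv7 F63118) D44006 (iv5 D22868)
theorem F69228 : act 0 n44006 = n22875 := d17_2 D20892 D44006 F63348 F62871 (iv5 F63679) F63678 (iv5 D41297) F63136 (iv4 F15572)
theorem F69229 : act 4 n44006 = n43524 := d17_4 F63141 (iv5 F17015) D20892 D44006 F68398 (iv0 D42186) (iv5 D19912) (iv0 F35822) (iv4 D19686)
theorem F69230 : act 0 n22874 = n44006 := d20_10 F69229 (iv1 F68399) (iv4 D41309) F63080 (iv1 D41241) F31030 D19405 (iv1 F62451) F62452 (iv3 F62453)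
def n44007 : Q := act 5 n20895
theorem D44007 : act 5 n20895 = n44007 := rfl
theorem F69231 : act 2 n44007 = n43825 := d2_1 D44007 (iv5 D43825) (iv2 F66837)
theorem F69232 : act 3 n44007 = n21865 := d6_1 D44007 (iv5 D21865) (iv3 F66838)
theorem F69233 : act 7 n44007 = n22925 := d13_2 (iv7 F66840) D44007 (iv5 D22925)
def n44008 : Q := act 6 n20895
theorem D44008 : act 6 n20895 = n44008 := rfl
theorem F69234 : act 2 n44008 = n43826 := d3_1 D44008 (iv6 D43826) (iv2 F66837)
theorem F69235 : act 3 n44008 = n21866 := d7_1 D44008 (iv6 D21866) (iv3 F66838)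
theorem F69236 : act 4 n44008 = n42292 := d10_1 D44008 (iv6 D42292) (iv4 F66839)
theorem F69237 : act 5 n44008 = n41862 := d21_6 F14382 (iv1 F6525) D4517 D9927 D20895 D44008 F67917 (iv5 D19862) (iv6 D9348) (iv1 F14384)
def n44009 : Q := act 5 n20896
theorem D44009 : act 5 n20896 = n44009 := rfl
theorem F69238 : act 2 n44009 = n22925 := d2_1 D44009 (iv5 D22925) (iv2 F66843)
theorem F69239 : act 7 n44009 = n43825 := d13_2 (iv7 F66844) D44009 (iv5 D43825)
theorem F69240 : act 6 n42595 = n44009 := d21_5 (iv5 D19475) F17400 D9478 D20107 D42595 (iv5 D44009) (iv1 D20896) (iv5 F32690) (iv6 D20609) F31146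
def n44010 : Q := act 6 n20896
theorem D44010 : act 6 n20896 = n44010 := rfl
theorem F69241 : act 2 n44010 = n22926 := d3_1 D44010 (iv6 D22926) (iv2 F66843)
theorem F69242 : act 4 n44010 = n42297 := d10_1 D44010 (iv6 D42297) (iv4 F66845)
def n44011 : Q := act 3 n20898
theorem D44011 : act 3 n20898 = n44011 := rfl
theorem F69243 : act 5 n44011 = n26703 := d6_2 F68081 D44011 F65144
theorem F69244 : act 7 n44011 = n43834 := d8_2 F68083 D44011 (iv3 D43834)
theorem F69245 : act 4 n44011 = n41675 := d20_6 (iv4 D4364) (iv1 F7283) D4525 D9937 D20898 D44011 (iv1 D41675) (iv4 F32380) (iv3 D20390) (iv1 D9673)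
theorem F69246 : act 0 n34943 = n44011 := d20_10 F69245 (iv1 D41675) (iv4 F32380) (iv3 D20390) (iv1 D9673) D9674 (iv4 F16458) D21666 F34095 D34943
theorem F69247 : act 1 n43862 = n44011 := d17_6 F27042 D26727 (iv1 F43291) (iv5 F43292) D32043 (iv5 F68960) F69243 (iv0 F54157) F27786
def n44012 : Q := act 4 n20898
theorem D44012 : act 4 n20898 = n44012 := rfl
theorem F69248 : act 2 n44012 = n43835 := d1_1 D44012 (iv4 D43835) F68082
theorem F69249 : act 7 n44012 = n43835 := d11_2 F68083 D44012 (iv4 D43835)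
theorem F69250 : act 5 n44012 = n34882 := d17_5 (iv1 F31748) D19924 D42200 F68081 D44012 F55353 D34949 F67972 (iv4 D42197)
theorem F69251 : act 0 n44012 = n42122 := d20_1 D44012 (iv4 F67726) (iv3 D43228) (iv1 D20393) (iv3 D9674) (iv4 D4364) (iv1 F7283) D4525 D9937 D20898
theorem F69252 : act 3 n44012 = n41560 := d20_3 F15666 D20898 D44012 (iv1 F64146) F34540 F58372 (iv1 F64300) (iv4 F69245) (iv3 D44011) (iv1 F33054)
theorem F69253 : act 0 n42122 = n44012 := d20_10 (iv4 D44012) (iv1 F33054) F15666 (iv3 D9937) (iv1 F6590) D9875 (iv4 F16425) D21611 F34013 D42122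
def n44013 : Q := act 6 n20898
theorem D44013 : act 6 n20898 = n44013 := rfl
theorem F69254 : act 2 n44013 = n43836 := d3_1 D44013 (iv6 D43836) F68082
def n44014 : Q := act 0 n20899
theorem D44014 : act 0 n20899 = n44014 := rfl
def n44015 : Q := act 1 n20899
theorem D44015 : act 1 n20899 = n44015 := rfl
theorem F69255 : act 1 n44015 = n43842 := d15_1 D44015 (iv7 D43842) (iv2 F33055)
def n44016 : Q := act 5 n20899
theorem D44016 : act 5 n20899 = n44016 := rfl
theorem F69256 : act 2 n44016 = n43841 := d2_1 D44016 (iv5 D43841) (iv2 F33055)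
theorem F69257 : act 3 n44016 = n20902 := d6_1 D44016 (iv5 D20902) (iv3 F33056)
def n44017 : Q := act 7 n20899
theorem D44017 : act 7 n20899 = n44017 := rfl
theorem F69258 : act 2 n44017 = n43842 := d4_1 D44017 (iv7 D43842) (iv2 F33055)
theorem F69259 : act 3 n44017 = n20903 := d8_1 D44017 (iv7 D20903) (iv3 F33056)
theorem F69260 : act 4 n44017 = n44017 := d11_1 D44017 (iv7 D44017) F33057
theorem F69261 : act 6 n44017 = n43842 := d14_1 D44017 (iv7 D43842) (iv6 D20760) (iv7 F15667) D20899
theorem F69262 : act 1 n43842 = n44014 := d15_0 (iv0 D44014) D44017 F69258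
theorem F69263 : act 1 n43840 = n44017 := d15_1 D43840 (iv7 D44017) F33055
theorem F69264 : act 1 n44017 = n43839 := d15_0 (iv0 D43839) D43842 (iv2 F69258)
def n44018 : Q := act 3 n20900
theorem D44018 : act 3 n20900 = n44018 := rfl
theorem F69265 : act 4 n44018 = n21712 := d5_2 F33065 D44018 (iv3 D21712) (iv4 D10356) D10355
theorem F69266 : act 7 n44018 = n20943 := d8_2 (iv7 F62873) D44018 (iv3 D20943)
def n44019 : Q := act 5 n20900
theorem D44019 : act 5 n20900 = n44019 := rfl
theorem F69267 : act 2 n44019 = n20940 := d2_1 D44019 (iv5 D20940) (iv2 F62872)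
theorem F69268 : act 7 n44019 = n20945 := d13_2 (iv7 F62873) D44019 (iv5 D20945)
def n44020 : Q := act 3 n20901
theorem D44020 : act 3 n20901 = n44020 := rfl
theorem F69269 : act 4 n44020 = n41585 := d5_2 (iv4 F62875) D44020 (iv3 F65959) (iv4 F62879) F62878
theorem F69270 : act 7 n44020 = n20938 := d8_2 (iv7 F62876) D44020 (iv3 D20938)
def n44021 : Q := act 5 n20901
theorem D44021 : act 5 n20901 = n44021 := rfl
theorem F69271 : act 2 n44021 = n20945 := d2_1 D44021 (iv5 D20945) (iv2 F62874)
theorem F69272 : act 7 n44021 = n20940 := d13_2 (iv7 F62876) D44021 (iv5 D20940)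
def n44022 : Q := act 6 n20901
theorem D44022 : act 6 n20901 = n44022 := rfl
theorem F69273 : act 2 n44022 = n20946 := d3_1 D44022 (iv6 D20946) (iv2 F62874)
theorem F69274 : act 4 n44022 = n41821 := d10_1 D44022 F67702 (iv4 F62875)
theorem F69275 : act 5 n41302 = n44022 := d21_2 D19437 D41302 (iv6 D44022) (iv1 D20901) (iv6 D9938) (iv5 F15531) F15532 (iv5 D9438) D9439 (iv1 F63159)
theorem F69276 : act 2 n41328 = n41302 := d2_3 F69275 F69273 (iv5 F63679)
theorem F69277 : act 1 n44022 = n40440 := d17_8 F35790 (iv5 F35654) (iv1 F31094) (iv5 F31090) D19457 D41323 F63670 F69275 (iv4 D40440)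
theorem F69278 : act 1 n43253 = n44022 := d15_0 F69277 F61529 (iv2 F67790)
theorem F69279 : act 7 n41303 = n41328 := d15_2 (iv0 D41302) D41303 F69276
theorem F69280 : act 7 n41327 = n41302 := d15_2 F63678 F63677 (iv2 F69276)
theorem F69281 : act 2 n41303 = n41327 := d4_3 F69280 (iv2 F69276) (iv7 F69279)
def n44023 : Q := act 0 n20902
theorem D44023 : act 0 n20902 = n44023 := rfl
theorem F69282 : act 2 n20947 = n44023 := d15_3 (iv0 D44023) (iv0 F68301) F68310
theorem F69283 : act 7 n44023 = n20948 := d4_2 F68310 F69282 (iv2 F68300)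
theorem F69284 : act 1 n20950 = n44023 := d15_1 (iv0 F68303) F69283 (iv2 F68300)
def n44024 : Q := act 4 n20902
theorem D44024 : act 4 n20902 = n44024 := rfl
theorem F69285 : act 2 n44024 = n20949 := d1_1 D44024 (iv4 D20949) (iv2 F33059)
def n44025 : Q := act 7 n20902
theorem D44025 : act 7 n20902 = n44025 := rfl
theorem F69287 : act 5 n44025 = n20903 := d13_1 D44025 (iv7 D20903) D20902
theorem F69288 : act 1 n20948 = n44025 := d15_1 D20948 (iv7 D44025) F33059
theorem F69289 : act 1 n44025 = n20947 := d15_1 F69288 (iv7 F68310) F68300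
theorem F69290 : act 1 n43451 = n23478 := d17_8 (iv1 F66530) F35891 F33080 F33076 (iv4 F33061) (iv5 F69287) F69289 F68309 F36592
def n44026 : Q := act 3 n20906
theorem D44026 : act 3 n20906 = n44026 := rfl
theorem F69291 : act 4 n44026 = n41536 := d5_2 D20906 D44026 (iv3 D41536) F62885 (iv3 F62884)
theorem F69292 : act 7 n44026 = n20985 := d8_2 (iv7 F35909) D44026 (iv3 D20985)
theorem F69293 : act 0 n43224 = n44026 := d20_4 (iv4 F65857) F65854 (iv4 F32385) (iv3 F67715) (iv3 D44026) (iv4 D20906) (iv1 F15677) (iv4 F15691) F15690 (iv1 F32920)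
def n44027 : Q := act 5 n20906
theorem D44027 : act 5 n20906 = n44027 := rfl
theorem F69294 : act 2 n44027 = n20967 := d2_1 D44027 (iv5 D20967) (iv2 F35908)
theorem F69295 : act 7 n44027 = n20986 := d13_2 (iv7 F35909) D44027 (iv5 D20986)
def n44028 : Q := act 1 n20907
theorem D44028 : act 1 n20907 = n44028 := rfl
theorem F69296 : act 1 n44028 = n20911 := d15_1 D44028 F35898 (iv2 F35910)
theorem F69298 : act 5 n43333 = n44028 := d21_0 (iv1 D44028) (iv5 D20907) (iv6 F31904) F65127 (iv6 D19112) D19111 F35790 (iv5 F35654) (iv6 F35892) (iv1 F68023)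
def n44029 : Q := act 4 n20907
theorem D44029 : act 4 n20907 = n44029 := rfl
theorem F69302 : act 2 n44029 = n20972 := d1_1 D44029 (iv4 D20972) (iv2 F35910)
theorem F69303 : act 7 n44029 = n20988 := d11_2 (iv7 F35911) D44029 (iv4 D20988)
def n44030 : Q := act 3 n20910
theorem D44030 : act 3 n20910 = n44030 := rfl
theorem F69304 : act 4 n44030 = n21691 := d5_2 D20910 D44030 (iv3 D21691) F62902 (iv3 F62901)
theorem F69305 : act 7 n44030 = n20966 := d8_2 (iv7 F35902) D44030 (iv3 D20966)
def n44031 : Q := act 5 n20910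
theorem D44031 : act 5 n20910 = n44031 := rfl
theorem F69306 : act 2 n44031 = n20986 := d2_1 D44031 (iv5 D20986) (iv2 F35901)
theorem F69307 : act 7 n44031 = n20967 := d13_2 (iv7 F35902) D44031 (iv5 D20967)
def n44032 : Q := act 6 n20910
theorem D44032 : act 6 n20910 = n44032 := rfl
theorem F69308 : act 2 n44032 = n20987 := d3_1 D44032 (iv6 D20987) (iv2 F35901)
theorem F69309 : act 4 n44032 = n20912 := d10_1 D44032 (iv6 D20912) D20910
theorem F69310 : act 1 n44032 = n43279 := d15_0 (iv0 F68405) F68404 (iv2 F69308)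
def n44033 : Q := act 4 n20911
theorem D44033 : act 4 n20911 = n44033 := rfl
theorem F69311 : act 2 n44033 = n20988 := d1_1 D44033 (iv4 D20988) (iv2 F35897)
theorem F69313 : act 7 n44033 = n20972 := d11_2 (iv7 F35898) D44033 (iv4 D20972)
def n44034 : Q := act 4 n20913
theorem D44034 : act 4 n20913 = n44034 := rfl
theorem F69314 : act 2 n44034 = n20994 := d1_1 D44034 (iv4 D20994) (iv2 F35895)
theorem F69316 : act 7 n44034 = n20998 := d11_2 (iv7 F35896) D44034 (iv4 D20998)
theorem F69317 : act 1 n44034 = n22089 := d15_0 (iv0 F68378) F68377 (iv2 F69314)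
def n44035 : Q := act 0 n20914
theorem D44035 : act 0 n20914 = n44035 := rfl
def n44036 : Q := act 1 n20914
theorem D44036 : act 1 n20914 = n44036 := rfl
theorem F69318 : act 1 n44036 = n21004 := d15_1 D44036 (iv7 D21004) (iv2 F33072)
def n44037 : Q := act 3 n20914
theorem D44037 : act 3 n20914 = n44037 := rfl
theorem F69320 : act 6 n44037 = n20916 := d7_2 (iv6 F33073) D44037 (iv3 D20916)
def n44038 : Q := act 5 n20914
theorem D44038 : act 5 n20914 = n44038 := rfl
def n44039 : Q := act 7 n20914
theorem D44039 : act 7 n20914 = n44039 := rfl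
theorem F69322 : act 2 n44039 = n21004 := d4_1 D44039 (iv7 D21004) (iv2 F33072)
theorem F69323 : act 4 n44039 = n20915 := d11_1 D44039 (iv7 D20915) D20914
theorem F69325 : act 1 n21004 = n44035 := d15_0 (iv0 D44035) D44039 F69322
theorem F69326 : act 1 n21001 = n44039 := d15_1 D21001 (iv7 D44039) F33072
theorem F69327 : act 4 n44035 = n21740 := d18_7 (iv1 F62662) F33065 (iv1 F33063) F15691 (iv5 F15697) (iv4 F33170) F69325 (iv0 F62940) (iv5 D22065)
theorem F69328 : act 7 n21001 = n44035 := d11_0 F69327 F62990 F62991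
theorem F69329 : act 2 n44035 = n21000 := d15_3 (iv0 D21000) D21001 F69328
theorem F69330 : act 2 n21001 = n44036 := d15_3 F69318 F69325 (iv7 F69328)
theorem F69331 : act 7 n44036 = n21000 := d4_2 (iv7 F69328) F69330 (iv2 F69329)
theorem F69332 : act 1 n44039 = n21000 := d15_1 F69326 (iv7 F69331) (iv2 F69330)
theorem F69333 : act 4 n21000 = n22087 := d18_7 D10514 (iv4 F62864) (iv1 F33066) F33061 (iv5 F33076) (iv4 F69323) F69332 (iv0 D22087) (iv5 D10516)
def n44043 : Q := act 5 n20916
theorem D44043 : act 5 n20916 = n44043 := rfl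
theorem F69339 : act 3 n44043 = n20917 := d6_1 D44043 (iv5 D20917) D20916
def n44044 : Q := act 6 n20917
theorem D44044 : act 6 n20917 = n44044 := rfl
theorem F69342 : act 4 n44044 = n21033 := d10_1 D44044 (iv6 D21033) (iv4 F33085)
def n44045 : Q := act 4 n20918
theorem D44045 : act 4 n20918 = n44045 := rfl
theorem F69343 : act 2 n44045 = n43863 := d1_1 D44045 (iv4 D43863) (iv2 F34105)
theorem F69344 : act 7 n44045 = n43860 := d11_2 F34102 D44045 (iv4 D43860)
def n44046 : Q := act 6 n20918
theorem D44046 : act 6 n20918 = n44046 := rfl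
theorem F69345 : act 2 n44046 = n43864 := d3_1 D44046 (iv6 D43864) (iv2 F34105)
theorem F69346 : act 3 n44046 = n34942 := d7_1 D44046 (iv6 D34942) (iv3 F34101)
def n44047 : Q := act 3 n20919
theorem D44047 : act 3 n20919 = n44047 := rfl
theorem F69347 : act 2 n44047 = n34943 := d0_1 D44047 (iv3 D34943) (iv2 F33106) (iv3 F33513) F34106
theorem F69348 : act 4 n44047 = n41516 := d5_2 F63907 D44047 F64041 (iv4 D41461) D41460
theorem F69349 : act 7 n44047 = n43862 := d8_2 (iv7 F34107) D44047 (iv3 D43862)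
theorem F69350 : act 7 n21974 = n41516 := d11_2 F69349 F68961 (iv4 F69348)
theorem F69351 : act 2 n41516 = n21975 := d15_3 F64048 F64046 F69350
theorem F69352 : act 2 n21974 = n41517 := d15_3 F64047 F64042 (iv7 F69350)
theorem F69353 : act 7 n41517 = n21975 := d4_2 (iv7 F69350) F69352 (iv2 F69351)
theorem F69354 : act 0 n43834 = n44047 := d18_0 F69348 (iv1 F64042) F34477 (iv5 F40425) F40424 F41855 (iv4 F55277) F55280 (iv5 F68901)
def n44048 : Q := act 6 n20919
theorem D44048 : act 6 n20919 = n44048 := rfl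
theorem F69355 : act 2 n44048 = n43861 := d3_1 D44048 (iv6 D43861) F34106
def n44049 : Q := act 6 n20920
theorem D44049 : act 6 n20920 = n44049 := rfl
theorem F69356 : act 2 n44049 = n20921 := d3_1 D44049 (iv6 D20921) D20920
theorem F69357 : act 3 n44049 = n34946 := d7_1 D44049 (iv6 D34946) (iv3 F33087)
theorem F69358 : act 4 n44049 = n41580 := d10_1 D44049 (iv6 D41580) (iv4 F33088)
def n44050 : Q := act 0 n20921
theorem D44050 : act 0 n20921 = n44050 := rfl
def n44051 : Q := act 1 n20921
theorem D44051 : act 1 n20921 = n44051 := rfl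
def n44052 : Q := act 5 n20921
theorem D44052 : act 5 n20921 = n44052 := rfl
theorem F69359 : act 3 n44052 = n20924 := d6_1 D44052 (iv5 D20924) (iv3 F33094)
theorem F69360 : act 6 n44052 = n25726 := d12_2 D20921 D44052 F40644 F31851 F31848
def n44053 : Q := act 7 n20921
theorem D44053 : act 7 n20921 = n44053 := rfl
theorem F69361 : act 3 n44053 = n20925 := d8_1 D44053 (iv7 D20925) (iv3 F33094)
theorem F69362 : act 4 n44053 = n41829 := d11_1 D44053 F64492 F34600
theorem F69363 : act 6 n44053 = n43867 := d14_1 D44053 (iv7 D43867) (iv6 D20776) (iv7 F15682) D20921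
def n44054 : Q := act 0 n20924
theorem D44054 : act 0 n20924 = n44054 := rfl
def n44055 : Q := act 1 n20924
theorem D44055 : act 1 n20924 = n44055 := rfl
theorem F69364 : act 1 n44055 = n43878 := d15_1 D44055 (iv7 D43878) (iv2 F33096)
theorem F69365 : act 5 n23450 = n44055 := d21_6 D9868 F15515 (iv5 D9741) D9742 (iv1 F66709) D23450 (iv1 D44055) (iv5 D20924) (iv6 D9945) (iv1 F6599)
theorem F69366 : act 2 n44055 = n43876 := d2_1 F69365 (iv5 F68980) (iv2 F66682)
theorem F69367 : act 3 n44055 = n41308 := d6_1 F69365 (iv5 D41308) (iv3 F36550)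
theorem F69368 : act 7 n44055 = n43875 := d13_2 F63638 F69365 F68978
theorem F69369 : act 2 n43875 = n44054 := d15_3 (iv0 D44054) D44055 F69368
theorem F69370 : act 7 n43876 = n44054 := d4_2 (iv7 F69368) F69366 (iv2 F69369)
theorem F69371 : act 1 n43878 = n44054 := d15_1 F69364 (iv7 F69370) (iv2 F69366)
def n44056 : Q := act 4 n20924
theorem D44056 : act 4 n20924 = n44056 := rfl
theorem F69372 : act 2 n44056 = n43877 := d1_1 D44056 (iv4 D43877) (iv2 F33096)
def n44057 : Q := act 7 n20924
theorem D44057 : act 7 n20924 = n44057 := rfl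
theorem F69373 : act 2 n44057 = n43878 := d4_1 D44057 (iv7 D43878) (iv2 F33096)
theorem F69374 : act 5 n44057 = n20925 := d13_1 D44057 (iv7 D20925) D20924
theorem F69375 : act 1 n43876 = n44057 := d15_1 D43876 (iv7 D44057) F33096
theorem F69376 : act 1 n44057 = n43875 := d15_1 F69375 (iv7 F69368) F69366
def n44058 : Q := act 3 n20926
theorem D44058 : act 3 n20926 = n44058 := rfl
theorem F69377 : act 2 n44058 = n43862 := d0_1 D44058 (iv3 D43862) (iv2 F34105) F34101 F33108
theorem F69378 : act 7 n44058 = n34943 := d8_2 F33109 D44058 (iv3 D34943)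
theorem F69379 : act 0 n44058 = n43834 := d20_4 (iv4 F16008) D21306 F34056 D44058 (iv3 D43834) D43835 F68903 F67726 (iv3 D42122) (iv1 D19870)
theorem F69380 : act 4 n44058 = n41517 := d20_6 F15071 (iv1 F14385) F6926 D9946 D20926 D44058 (iv1 D41517) F31288 (iv3 D9701) (iv1 F15069)
def n44059 : Q := act 6 n20926
theorem D44059 : act 6 n20926 = n44059 := rfl
theorem F69381 : act 2 n44059 = n34942 := d3_1 D44059 (iv6 D34942) F33108
def n44060 : Q := act 6 n20927
theorem D44060 : act 6 n20927 = n44060 := rfl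
theorem F69382 : act 2 n44060 = n34944 := d3_1 D44060 (iv6 D34944) (iv2 F33106)
theorem F69383 : act 3 n44060 = n43861 := d7_1 D44060 (iv6 D43861) F33513
def n44061 : Q := act 0 n20928
theorem D44061 : act 0 n20928 = n44061 := rfl
def n44062 : Q := act 1 n20928
theorem D44062 : act 1 n20928 = n44062 := rfl
theorem F69384 : act 1 n44062 = n34935 := d15_1 D44062 (iv7 D34935) (iv2 F33110)
def n44063 : Q := act 7 n20928
theorem D44063 : act 7 n20928 = n44063 := rfl
theorem F69385 : act 2 n44063 = n34935 := d4_1 D44063 (iv7 D34935) (iv2 F33110)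
theorem F69386 : act 3 n44063 = n20932 := d8_1 D44063 (iv7 D20932) (iv3 F33111)
theorem F69387 : act 4 n44063 = n41958 := d11_1 D44063 F64729 F33479
theorem F69388 : act 5 n44063 = n34865 := d13_1 D44063 (iv7 D34865) (iv5 F33112)
theorem F69389 : act 6 n44063 = n43874 := d14_1 D44063 (iv7 D43874) (iv6 D20781) (iv7 F15685) D20928
theorem F69390 : act 1 n34935 = n44061 := d15_0 (iv0 D44061) D44063 F69385
theorem F69391 : act 1 n34933 = n44063 := d15_1 D34933 (iv7 D44063) F33110
theorem F69392 : act 1 n44063 = n34932 := d15_0 (iv0 D34932) D34935 (iv2 F69385)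
def n44064 : Q := act 1 n20931
theorem D44064 : act 1 n20931 = n44064 := rfl
theorem F69393 : act 1 n44064 = n43870 := d15_1 D44064 (iv7 D43870) (iv2 F33114)
theorem F69394 : act 7 n44064 = n43868 := d15_2 F63640 D44064 (iv2 F68971)
theorem F69395 : act 5 n41298 = n44064 := d21_0 (iv1 D44064) (iv5 D20931) (iv6 D9947) (iv1 D4539) D4541 D9951 D20947 F68309 F68308 (iv1 F63635)
theorem F69396 : act 2 n44064 = n41308 := d2_1 F69395 (iv5 D41308) (iv2 F63618)
def n44065 : Q := act 4 n20931
theorem D44065 : act 4 n20931 = n44065 := rfl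
theorem F69397 : act 2 n44065 = n43869 := d1_1 D44065 (iv4 D43869) (iv2 F33114)
theorem F69398 : act 3 n44065 = n35926 := d5_1 D44065 F56612 F28361 (iv4 F27688) (iv3 F33115)
theorem F69399 : act 6 n44065 = n34862 := d10_2 (iv6 F33116) D44065 (iv4 D34862)
def n44066 : Q := act 7 n20931
theorem D44066 : act 7 n20931 = n44066 := rfl
theorem F69400 : act 2 n44066 = n43870 := d4_1 D44066 (iv7 D43870) (iv2 F33114)
theorem F69401 : act 3 n44066 = n34865 := d8_1 D44066 (iv7 D34865) (iv3 F33115)
theorem F69402 : act 5 n44066 = n20932 := d13_1 D44066 (iv7 D20932) D20931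
theorem F69403 : act 1 n41308 = n44066 := d15_1 (iv0 F63632) (iv7 D44066) F33114
theorem F69404 : act 1 n44066 = n43868 := d15_1 F69403 (iv7 F69394) F69396
def n44067 : Q := act 4 n20933
theorem D44067 : act 4 n20933 = n44067 := rfl
theorem F69405 : act 2 n44067 = n24835 := d1_1 D44067 F38876 F65524
theorem F69406 : act 3 n44067 = n26513 := d5_1 D44067 F42436 (iv3 F38068) F46850 (iv3 F65525)
theorem F69407 : act 7 n44067 = n26503 := d11_2 F68987 D44067 (iv4 F68990)
theorem F69408 : act 0 n25666 = n43838 := d20_4 (iv4 D29237) (iv1 F54275) F40588 (iv3 F40573) F68907 F32919 D20933 D44067 F69406 F46900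
theorem F69409 : act 0 n41565 = n44067 := d20_1 (iv4 F64164) (iv4 D44067) F65525 (iv1 D29195) F23157 (iv4 D11708) F8274 D5696 D12031 (iv1 F55475)
def n44068 : Q := act 5 n20933
theorem D44068 : act 5 n20933 = n44068 := rfl
def n44069 : Q := act 6 n20933
theorem D44069 : act 6 n20933 = n44069 := rfl
theorem F69410 : act 2 n44069 = n34812 := d3_1 D44069 F55019 F65524
theorem F69411 : act 3 n44069 = n33012 := d7_1 D44069 F52188 (iv3 F65525)
def n44070 : Q := act 5 n20934
theorem D44070 : act 5 n20934 = n44070 := rfl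
theorem F69412 : act 3 n44070 = n24007 := d6_1 D44070 (iv5 D24007) (iv3 F65508)
def n44071 : Q := act 6 n20934
theorem D44071 : act 6 n20934 = n44071 := rfl
theorem F69413 : act 2 n44071 = n26487 := d3_1 D44071 (iv6 F68991) (iv2 F68988)
theorem F69414 : act 3 n44071 = n24008 := d7_1 D44071 (iv6 D24008) (iv3 F65508)
theorem F69415 : act 4 n44071 = n26501 := d10_1 D44071 (iv6 F42414) (iv4 F65509)
theorem F69416 : act 0 n25632 = n44071 := d20_1 D25632 F69415 F42412 (iv1 D16890) (iv3 D7875) (iv4 D3571) (iv1 F3465) (iv4 F3811) D5778 D12185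
theorem F69417 : act 0 n44071 = n25637 := d20_10 (iv4 D25637) (iv1 D12186) F8898 (iv3 D5770) F3801 D5144 (iv4 F10373) (iv1 F26305) (iv4 F37537) (iv3 F69414)
def n44072 : Q := act 0 n20935
theorem D44072 : act 0 n20935 = n44072 := rfl
def n44073 : Q := act 1 n20935
theorem D44073 : act 1 n20935 = n44073 := rfl
def n44074 : Q := act 4 n20935
theorem D44074 : act 4 n20935 = n44074 := rfl
theorem F69418 : act 6 n44074 = n20949 := d10_2 (iv6 F33124) D44074 (iv4 D20949)
def n44075 : Q := act 7 n20935
theorem D44075 : act 7 n20935 = n44075 := rfl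
theorem F69419 : act 3 n44075 = n43891 := d8_1 D44075 (iv7 D43891) (iv3 F33123)
theorem F69420 : act 5 n44075 = n20936 := d13_1 D44075 (iv7 D20936) D20935
def n44076 : Q := act 0 n20938
theorem D44076 : act 0 n20938 = n44076 := rfl
def n44077 : Q := act 1 n20938
theorem D44077 : act 1 n20938 = n44077 := rfl
def n44078 : Q := act 2 n20938
theorem D44078 : act 2 n20938 = n44078 := rfl
theorem F69421 : act 4 n44078 = n41584 := d1_2 (iv4 F62855) D44078 (iv2 F65961)
def n44079 : Q := act 5 n20938
theorem D44079 : act 5 n20938 = n44079 := rfl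
theorem F69422 : act 3 n44079 = n20940 := d6_1 D44079 (iv5 D20940) D20938
def n44080 : Q := act 6 n20938
theorem D44080 : act 6 n20938 = n44080 := rfl
theorem F69423 : act 3 n44080 = n20941 := d7_1 D44080 (iv6 D20941) D20938
def n44081 : Q := act 0 n20940
theorem D44081 : act 0 n20940 = n44081 := rfl
theorem F69424 : act 5 n44081 = n43394 := d17_3 D9949 D20940 D44081 F68194 (iv5 F33150) (iv0 D20970) (iv5 D9956) (iv0 D4542) (iv4 F6604)
theorem F69425 : act 1 n20945 = n44081 := d15_0 (iv0 D44081) (iv7 F69272) F69271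
def n44082 : Q := act 1 n20940
theorem D44082 : act 1 n20940 = n44082 := rfl
theorem F69426 : act 1 n44082 = n20945 := d15_1 D44082 (iv7 F69268) F69267
theorem F69427 : act 5 n43449 = n44082 := d17_5 (iv1 F15678) D9961 (iv1 F33151) (iv5 F35725) (iv4 F68302) F69426 (iv5 D20945) F33064 F33061
theorem F69428 : act 3 n44082 = n43899 := d6_1 F69427 (iv5 F69023) F68304
theorem F69429 : act 0 n20941 = n42192 := d21_10 (iv5 F65549) (iv1 F65551) (iv5 D20037) D20038 (iv1 F66870) F68305 F69427 (iv1 D44082) (iv5 D20940) D20941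
def n44083 : Q := act 4 n20940
theorem D44083 : act 4 n20940 = n44083 := rfl
def n44084 : Q := act 6 n20940
theorem D44084 : act 6 n20940 = n44084 := rfl
def n44085 : Q := act 1 n20941
theorem D44085 : act 1 n20941 = n44085 := rfl
theorem F69431 : act 4 n44085 = n20976 := d17_9 (iv1 D20976) F31767 (iv1 D19941) (iv5 D9402) (iv4 F14617) D19929 D42217 (iv5 F65175) D44085
theorem F69432 : act 6 n43911 = n44085 := d21_3 D20530 D43419 (iv5 F69034) (iv1 D44085) (iv6 D20941) D20940 D44081 F69424 (iv6 D43394) F66710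
theorem F69433 : act 3 n44085 = n43902 := d7_1 F69432 (iv6 F69027) F69036
theorem F69434 : act 5 n44085 = n42433 := d21_6 (iv5 F69018) (iv1 F69019) (iv5 D20800) D20801 D43911 F69432 (iv1 D42433) (iv5 D20032) D20033 (iv1 F65552)
theorem F69435 : act 3 n42433 = n43445 := d6_1 F69434 F69028 (iv3 F69433)
def n44086 : Q := act 0 n20943
theorem D44086 : act 0 n20943 = n44086 := rfl
def n44087 : Q := act 1 n20943
theorem D44087 : act 1 n20943 = n44087 := rfl
def n44088 : Q := act 2 n20943
theorem D44088 : act 2 n20943 = n44088 := rfl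
def n44089 : Q := act 4 n20943
theorem D44089 : act 4 n20943 = n44089 := rfl
theorem F69436 : act 3 n44089 = n21533 := d5_1 D44089 (iv4 D21533) F62868 (iv4 F62869) D20943
theorem F69437 : act 7 n44089 = n21712 := d11_2 F69266 D44089 (iv4 F69265)
def n44090 : Q := act 5 n20943
theorem D44090 : act 5 n20943 = n44090 := rfl
theorem F69438 : act 3 n44090 = n20945 := d6_1 D44090 (iv5 D20945) D20943
def n44091 : Q := act 6 n20943
theorem D44091 : act 6 n20943 = n44091 := rfl
theorem F69439 : act 3 n44091 = n20946 := d7_1 D44091 (iv6 D20946) D20943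
def n44093 : Q := act 6 n20945
theorem D44093 : act 6 n20945 = n44093 := rfl
def n44094 : Q := act 7 n20946
theorem D44094 : act 7 n20946 = n44094 := rfl
theorem F69440 : act 4 n44094 = n41822 := d11_1 D44094 F67699 F62871
theorem F69441 : act 5 n44094 = n41303 := d13_1 D44094 F69279 F63679
theorem F69442 : act 1 n40440 = n44094 := d15_1 F69277 (iv7 D44094) (iv2 F69273)
theorem F69443 : act 1 n44094 = n43253 := d15_1 F69442 F67791 F65056
def n44095 : Q := act 3 n20947
theorem D44095 : act 3 n20947 = n44095 := rfl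
def n44096 : Q := act 4 n20947
theorem D44096 : act 4 n20947 = n44096 := rfl
def n44097 : Q := act 6 n20947
theorem D44097 : act 6 n20947 = n44097 := rfl
def n44098 : Q := act 3 n20948
theorem D44098 : act 3 n20948 = n44098 := rfl
def n44099 : Q := act 4 n20948
theorem D44099 : act 4 n20948 = n44099 := rfl
def n44100 : Q := act 6 n20948
theorem D44100 : act 6 n20948 = n44100 := rfl
def n44101 : Q := act 0 n20949
theorem D44101 : act 0 n20949 = n44101 := rfl
def n44102 : Q := act 1 n20949
theorem D44102 : act 1 n20949 = n44102 := rfl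
def n44103 : Q := act 3 n20949
theorem D44103 : act 3 n20949 = n44103 := rfl
theorem F69444 : act 4 n44103 = n43923 := d5_2 D20949 D44103 (iv3 D43923) (iv4 D20804) (iv3 F15689)
def n44104 : Q := act 5 n20949
theorem D44104 : act 5 n20949 = n44104 := rfl
def n44105 : Q := act 7 n20949
theorem D44105 : act 7 n20949 = n44105 := rfl
theorem F69445 : act 4 n44105 = n20950 := d11_1 D44105 (iv7 D20950) D20949
def n44106 : Q := act 6 n20950
theorem D44106 : act 6 n20950 = n44106 := rfl
theorem F69447 : act 5 n44106 = n43926 := d12_1 D44106 (iv6 D43926) F32961 (iv6 F15692) (iv5 F33131)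
def n44107 : Q := act 3 n20960
theorem D44107 : act 3 n20960 = n44107 := rfl
theorem F69448 : act 4 n44107 = n20966 := d5_2 D20960 D44107 (iv3 D20966) (iv4 D9955) D9954
theorem F69449 : act 7 n44107 = n21691 := d8_2 (iv7 F35947) D44107 (iv3 D21691)
def n44108 : Q := act 5 n20960
theorem D44108 : act 5 n20960 = n44108 := rfl
theorem F69450 : act 2 n44108 = n21688 := d2_1 D44108 (iv5 D21688) (iv2 F35946)
theorem F69451 : act 7 n44108 = n21692 := d13_2 (iv7 F35947) D44108 (iv5 D21692)
def n44109 : Q := act 0 n20961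
theorem D44109 : act 0 n20961 = n44109 := rfl
theorem F69452 : act 5 n44109 = n23409 := d21_2 D20961 D44109 (iv6 D23409) F66559 (iv6 D17882) (iv5 D8435) (iv1 F6408) D9022 D19199 (iv1 F62687)
theorem F69453 : act 3 n21084 = n44109 := d6_3 F69452 F36531 (iv5 F62568)
def n44110 : Q := act 1 n20961
theorem D44110 : act 1 n20961 = n44110 := rfl
def n44111 : Q := act 4 n20961
theorem D44111 : act 4 n20961 = n44111 := rfl
def n44113 : Q := act 0 n20962
theorem D44113 : act 0 n20962 = n44113 := rfl
def n44114 : Q := act 1 n20962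
theorem D44114 : act 1 n20962 = n44114 := rfl
theorem F69455 : act 5 n44114 = n42479 := d18_9 (iv1 D42479) D42480 F65628 (iv4 D42026) (iv5 D19813) (iv4 F31579) D42015 (iv4 F64855) D44114
def n44115 : Q := act 3 n20964
theorem D44115 : act 3 n20964 = n44115 := rfl
theorem F69456 : act 4 n44115 = n22138 := d5_2 (iv4 F62671) D44115 F34605 F17034 (iv3 F16716)
theorem F69457 : act 6 n44115 = n43935 := d7_2 F65791 D44115 (iv3 D43935)
theorem F69458 : act 7 n44115 = n22071 := d8_2 (iv7 F62672) D44115 F34543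
def n44116 : Q := act 5 n20964
theorem D44116 : act 5 n20964 = n44116 := rfl
theorem F69459 : act 7 n44116 = n22075 := d13_2 (iv7 F62672) D44116 (iv5 D22075)
def n44117 : Q := act 0 n20966
theorem D44117 : act 0 n20966 = n44117 := rfl
def n44118 : Q := act 1 n20966
theorem D44118 : act 1 n20966 = n44118 := rfl
def n44119 : Q := act 2 n20966
theorem D44119 : act 2 n20966 = n44119 := rfl
def n44120 : Q := act 5 n20966
theorem D44120 : act 5 n20966 = n44120 := rfl
theorem F69460 : act 3 n44120 = n20967 := d6_1 D44120 (iv5 D20967) D20966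
def n44121 : Q := act 6 n20966
theorem D44121 : act 6 n20966 = n44121 := rfl
theorem F69461 : act 3 n44121 = n20968 := d7_1 D44121 (iv6 D20968) D20966
def n44122 : Q := act 0 n20967
theorem D44122 : act 0 n20967 = n44122 := rfl
theorem F69462 : act 5 n44122 = n43387 := d21_2 D20967 D44122 (iv6 D43387) (iv1 D20503) (iv6 D9733) D9732 (iv1 F31713) (iv5 D19867) D19868 F62850
theorem F69463 : act 1 n20986 = n44122 := d15_0 (iv0 D44122) (iv7 F69307) F69306
def n44123 : Q := act 1 n20967
theorem D44123 : act 1 n20967 = n44123 := rfl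
theorem F69464 : act 1 n44123 = n20986 := d15_1 D44123 (iv7 F69295) F69294
theorem F69465 : act 5 n43498 = n44123 := d21_6 (iv5 F65635) (iv1 F65634) (iv5 D20078) D20079 D42534 F68357 (iv1 D44123) (iv5 D20967) D20968 F64486
def n44124 : Q := act 4 n20967
theorem D44124 : act 4 n20967 = n44124 := rfl
def n44125 : Q := act 6 n20967
theorem D44125 : act 6 n20967 = n44125 := rfl
def n44126 : Q := act 1 n20968
theorem D44126 : act 1 n20968 = n44126 := rfl
theorem F69466 : act 7 n44126 = n43245 := d15_2 (iv0 F64486) D44126 F67769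
theorem F69467 : act 6 n43965 = n44126 := d21_3 D20504 D43388 (iv5 F69116) (iv1 D44126) (iv6 D20968) D20967 D44122 F69462 (iv6 D43387) (iv1 D20503)
theorem F69468 : act 5 n44126 = n42498 := d21_6 (iv5 F69074) (iv1 F69075) (iv5 D20841) D20842 D43965 F69467 (iv1 D42498) (iv5 D20059) D20060 F65972
def n44127 : Q := act 5 n20968
theorem D44127 : act 5 n20968 = n44127 := rfl
theorem F69469 : act 0 n44127 = n43354 := d21_1 D44127 (iv5 D43354) (iv6 D20475) (iv1 F15175) D9733 D20504 D43388 (iv5 F69116) F69467 (iv1 D44126)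
def n44128 : Q := act 4 n20970
theorem D44128 : act 4 n20970 = n44128 := rfl
def n44130 : Q := act 0 n20972
theorem D44130 : act 0 n20972 = n44130 := rfl
theorem F69470 : act 1 n20988 = n44130 := d15_0 (iv0 D44130) (iv7 F69313) F69311
def n44131 : Q := act 1 n20972
theorem D44131 : act 1 n20972 = n44131 := rfl
theorem F69471 : act 1 n44131 = n20988 := d15_1 D44131 (iv7 F69303) F69302
def n44135 : Q := act 0 n20983
theorem D44135 : act 0 n20983 = n44135 := rfl
def n44136 : Q := act 1 n20983
theorem D44136 : act 1 n20983 = n44136 := rfl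
theorem F69473 : act 5 n43374 = n44136 := d21_6 (iv5 D41735) (iv1 F58702) F58696 (iv6 F58686) (iv1 F58688) D43374 (iv1 D44136) (iv5 D20983) D20984 (iv1 F64378)
theorem F69474 : act 3 n44136 = n21051 := d6_1 F69473 F62593 (iv3 F68136)
def n44137 : Q := act 4 n20983
theorem D44137 : act 4 n20983 = n44137 := rfl
def n44138 : Q := act 0 n20985
theorem D44138 : act 0 n20985 = n44138 := rfl
def n44139 : Q := act 1 n20985
theorem D44139 : act 1 n20985 = n44139 := rfl
theorem F69476 : act 3 n43226 = n44139 := d20_3 F65917 (iv1 F64144) (iv4 F67719) (iv1 D44139) (iv3 D20985) (iv4 D9960) (iv1 D4543) (iv4 F6604) F6603 D9879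
theorem F69477 : act 4 n43972 = n44139 := d20_6 F6970 F62631 D10405 F16553 D20861 D43972 (iv1 D44139) (iv4 F63030) (iv3 D22149) (iv1 D10556)
theorem F69478 : act 7 n44139 = n43224 := d11_2 (iv7 F69131) F69477 F67716
theorem F69479 : act 6 n43959 = n44139 := d14_5 F69478 (iv6 D43224) F32381 D42117 (iv7 F69111)
theorem E7992 : n44138 = n42177 := ((c15_4 (iv0 D44138) D44139 F69478 F67714)).symm
theorem F69480 : act 1 n42177 = n20985 := (sb E7992 (iv0 D44138))
def n44140 : Q := act 2 n20985
theorem D44140 : act 2 n20985 = n44140 := rfl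
def n44141 : Q := act 5 n20985
theorem D44141 : act 5 n20985 = n44141 := rfl
theorem F69481 : act 3 n44141 = n20986 := d6_1 D44141 (iv5 D20986) D20985
def n44142 : Q := act 6 n20985
theorem D44142 : act 6 n20985 = n44142 := rfl
theorem F69482 : act 3 n44142 = n20987 := d7_1 D44142 (iv6 D20987) D20985
def n44143 : Q := act 4 n20986
theorem D44143 : act 4 n20986 = n44143 := rfl
def n44144 : Q := act 6 n20986
theorem D44144 : act 6 n20986 = n44144 := rfl
def n44145 : Q := act 0 n20987
theorem D44145 : act 0 n20987 = n44145 := rfl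
theorem F69483 : act 5 n44145 = n42358 := d17_1 D44145 (iv1 F65433) (iv5 D41295) (iv4 D19424) (iv5 F35602) F35684 D19105 F35682 (iv4 F33160)
theorem F69484 : act 4 n44145 = n43222 := d18_3 F35809 (iv4 F33160) D44145 (iv5 D43222) F63433 (iv0 D19910) F14602 D9381 (iv5 F31721)
theorem F69485 : act 7 n43279 = n44145 := d11_0 F69484 F67708 (iv4 F67873)
theorem F69486 : act 6 n44145 = n43946 := d14_1 F69485 F69078 (iv6 D42132) (iv7 F63549) D43279
theorem F69487 : act 5 n43946 = n43495 := d21_6 (iv5 F69462) (iv1 F69463) (iv5 D20986) D20987 D44145 F69486 (iv1 D43495) (iv5 D20567) D20568 F68175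
def n44146 : Q := act 5 n20987
theorem D44146 : act 5 n20987 = n44146 := rfl
theorem F69488 : act 1 n44146 = n43364 := d17_6 F35616 D19433 (iv1 F31101) F35630 (iv4 F33160) D44146 (iv5 D43364) (iv0 D20482) F15186
theorem F69489 : act 0 n44146 = n43366 := d21_7 D43951 F69091 (iv5 D43936) F65791 (iv1 F33149) D20987 D44146 (iv5 D43366) D43367 (iv1 F68120)
def n44149 : Q := act 0 n20993
theorem D44149 : act 0 n20993 = n44149 := rfl
def n44150 : Q := act 4 n20993
theorem D44150 : act 4 n20993 = n44150 := rfl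
theorem F69490 : act 7 n44150 = n21749 := d11_2 (iv7 F63045) D44150 (iv4 F63046)
theorem F69493 : act 2 n44150 = n21748 := d15_3 (iv0 D21748) D21749 (iv7 F69490)
theorem F69494 : act 4 n21748 = n40711 := d1_2 D44150 F69493 (iv2 F63047)
def n44151 : Q := act 0 n20994
theorem D44151 : act 0 n20994 = n44151 := rfl
theorem F69495 : act 4 n44151 = n22090 := d18_3 D9963 D20994 D44151 F34550 (iv4 F62671) (iv0 D20964) (iv4 D9955) (iv0 D4542) D4544
theorem F69496 : act 1 n20998 = n44151 := d15_0 (iv0 D44151) (iv7 F68377) F68376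
def n44152 : Q := act 1 n20994
theorem D44152 : act 1 n20994 = n44152 := rfl
theorem F69499 : act 1 n44152 = n20998 := d15_1 D44152 (iv7 F69316) F69314
theorem F69501 : act 4 n22065 = n44152 := d18_5 (iv1 F15678) D9960 (iv1 F62851) F31715 D22065 F69499 (iv4 D20998) F33079 F33076
def n44155 : Q := act 2 n20997
theorem D44155 : act 2 n20997 = n44155 := rfl
theorem F69503 : act 4 n44155 = n41553 := d1_2 F64129 D44155 (iv2 F64133)
def n44164 : Q := act 5 n21001
theorem D44164 : act 5 n21001 = n44164 := rfl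
def n44174 : Q := act 6 n21003
theorem D44174 : act 6 n21003 = n44174 := rfl
theorem F69512 : act 5 n44174 = n21033 := d12_1 D44174 (iv6 D21033) (iv5 D10012) (iv6 F15695) D21003
def n44176 : Q := act 0 n21005
theorem D44176 : act 0 n21005 = n44176 := rfl
def n44177 : Q := act 1 n21005
theorem D44177 : act 1 n21005 = n44177 := rfl
def n44178 : Q := act 7 n21005
theorem D44178 : act 7 n21005 = n44178 := rfl
theorem F69514 : act 3 n44178 = n21014 := d8_1 D44178 (iv7 D21014) (iv3 F33172)
theorem F69515 : act 5 n44178 = n42591 := d13_1 D44178 (iv7 D42591) (iv5 F33173)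
def n44179 : Q := act 6 n21006
theorem D44179 : act 6 n21006 = n44179 := rfl
theorem F69518 : act 3 n44179 = n21007 := d7_1 D44179 (iv6 D21007) (iv3 F33175)
theorem F69520 : act 5 n44179 = n42592 := d12_1 D44179 (iv6 D42592) (iv5 D20105) (iv6 F16917) D21006
def n44180 : Q := act 0 n21007
theorem D44180 : act 0 n21007 = n44180 := rfl
def n44181 : Q := act 1 n21007
theorem D44181 : act 1 n21007 = n44181 := rfl
def n44182 : Q := act 7 n21007
theorem D44182 : act 7 n21007 = n44182 := rfl
def n44184 : Q := act 5 n21008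
theorem D44184 : act 5 n21008 = n44184 := rfl
theorem F69527 : act 0 n44184 = n21010 := d17_2 (iv1 F33180) D44184 (iv5 D21010) (iv4 D9987) (iv5 D4549) (iv0 D1896) D1898 (iv0 F16872) D10000
def n44187 : Q := act 2 n21009
theorem D44187 : act 2 n21009 = n44187 := rfl
def n44188 : Q := act 5 n21009
theorem D44188 : act 5 n21009 = n44188 := rfl
theorem F69532 : act 3 n44188 = n21010 := d6_1 D44188 (iv5 D21010) D21009
def n44189 : Q := act 6 n21009
theorem D44189 : act 6 n21009 = n44189 := rfl
theorem F69534 : act 3 n44189 = n21011 := d7_1 D44189 (iv6 D21011) D21009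
def n44190 : Q := act 6 n21010
theorem D44190 : act 6 n21010 = n44190 := rfl
def n44191 : Q := act 0 n21011
theorem D44191 : act 0 n21011 = n44191 := rfl
def n44192 : Q := act 1 n21011
theorem D44192 : act 1 n21011 = n44192 := rfl
def n44193 : Q := act 5 n21011
theorem D44193 : act 5 n21011 = n44193 := rfl
def n44194 : Q := act 7 n21011
theorem D44194 : act 7 n21011 = n44194 := rfl
theorem F69535 : act 4 n44194 = n21014 := d11_1 D44194 (iv7 D21014) (iv4 F33186)
def n44195 : Q := act 4 n21012
theorem D44195 : act 4 n21012 = n44195 := rfl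
def n44197 : Q := act 4 n21013
theorem D44197 : act 4 n21013 = n44197 := rfl
def n44198 : Q := act 0 n21015
theorem D44198 : act 0 n21015 = n44198 := rfl
def n44199 : Q := act 1 n21015
theorem D44199 : act 1 n21015 = n44199 := rfl
def n44200 : Q := act 7 n21015
theorem D44200 : act 7 n21015 = n44200 := rfl
theorem F69543 : act 3 n44200 = n21022 := d8_1 D44200 (iv7 D21022) (iv3 F33189)
def n44201 : Q := act 0 n21016
theorem D44201 : act 0 n21016 = n44201 := rfl
def n44202 : Q := act 1 n21016
theorem D44202 : act 1 n21016 = n44202 := rfl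
theorem F69546 : act 1 n44202 = n44182 := d15_1 D44202 (iv7 D44182) (iv2 F33191)
def n44203 : Q := act 7 n21016
theorem D44203 : act 7 n21016 = n44203 := rfl
theorem F69547 : act 2 n44203 = n44182 := d4_1 D44203 (iv7 D44182) (iv2 F33191)
theorem F69548 : act 3 n44203 = n21760 := d8_1 D44203 (iv7 D21760) (iv3 F33192)
theorem F69550 : act 1 n44182 = n44201 := d15_0 (iv0 D44201) D44203 F69547
theorem F69552 : act 1 n44203 = n44180 := d15_0 (iv0 D44180) D44182 (iv2 F69547)
def n44209 : Q := act 6 n21018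
theorem D44209 : act 6 n21018 = n44209 := rfl
theorem F69560 : act 2 n44209 = n44190 := d3_1 D44209 (iv6 D44190) (iv2 F33194)
def n44210 : Q := act 0 n21019
theorem D44210 : act 0 n21019 = n44210 := rfl
def n44211 : Q := act 1 n21019
theorem D44211 : act 1 n21019 = n44211 := rfl
theorem F69561 : act 1 n44211 = n44194 := d15_1 D44211 (iv7 D44194) (iv2 F33196)
def n44212 : Q := act 5 n21019
theorem D44212 : act 5 n21019 = n44212 := rfl
def n44213 : Q := act 7 n21019
theorem D44213 : act 7 n21019 = n44213 := rfl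
theorem F69563 : act 2 n44213 = n44194 := d4_1 D44213 (iv7 D44194) (iv2 F33196)
theorem F69564 : act 4 n44213 = n21022 := d11_1 D44213 (iv7 D21022) (iv4 F33197)
theorem F69566 : act 1 n44194 = n44210 := d15_0 (iv0 D44210) D44213 F69563
theorem F69567 : act 1 n44192 = n44213 := d15_1 D44192 (iv7 D44213) F33196
theorem F69568 : act 1 n44213 = n44191 := d15_0 (iv0 D44191) D44194 (iv2 F69563)
def n44215 : Q := act 4 n21021
theorem D44215 : act 4 n21021 = n44215 := rfl
theorem F69572 : act 2 n44215 = n44197 := d1_1 D44215 (iv4 D44197) F66661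
theorem F69573 : act 7 n44215 = n44195 := d11_2 F66662 D44215 (iv4 D44195)
theorem F69574 : act 0 n44215 = n21028 := d18_2 (iv1 F33198) D44215 F33218 (iv5 F61544) F61543 F68545 (iv4 D43602) F32736 (iv5 F33187)
def n44222 : Q := act 0 n21025
theorem D44222 : act 0 n21025 = n44222 := rfl
def n44223 : Q := act 1 n21025
theorem D44223 : act 1 n21025 = n44223 := rfl
def n44225 : Q := act 7 n21025
theorem D44225 : act 7 n21025 = n44225 := rfl
theorem F69582 : act 4 n44225 = n44182 := d11_1 D44225 (iv7 D44182) (iv4 F33210)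
theorem F69584 : act 1 n44215 = n44225 := d15_1 (iv0 F69574) (iv7 D44225) (iv2 F33217)
def n44226 : Q := act 0 n21026
theorem D44226 : act 0 n21026 = n44226 := rfl
def n44230 : Q := act 6 n21026
theorem D44230 : act 6 n21026 = n44230 := rfl
theorem F69592 : act 3 n44230 = n21028 := d7_1 D44230 (iv6 D21028) D21026
def n44233 : Q := act 7 n21028
theorem D44233 : act 7 n21028 = n44233 := rfl
theorem F69596 : act 2 n44233 = n44225 := d4_1 D44233 (iv7 D44225) (iv2 F33217)
theorem F69597 : act 4 n44233 = n44203 := d11_1 D44233 (iv7 D44203) (iv4 F33218)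
theorem F69599 : act 1 n44223 = n44233 := d15_1 D44223 (iv7 D44233) F33217
theorem E7993 : n44223 = n44197 := (c20_8 (iv4 F15894) D21120 (iv4 F33343) D21151 F67579 (iv3 F69548) (iv4 F69597) (iv1 F69599) (iv4 D44197) F66555 (iv1 D10057))
theorem F69600 : act 0 n44197 = n21025 := (sb E7993 (iv1 D44223))
theorem F69601 : act 1 n44197 = n44233 := (sb E7993 F69599)
theorem F69602 : act 1 n44233 = n44195 := d15_1 F69601 (iv7 F69573) F69572
theorem E7994 : n44222 = n44195 := ((c15_1 F69602 (iv0 D44222) D44225 (iv2 F69596))).symm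
theorem F69603 : act 1 n44195 = n21025 := (sb E7994 (iv0 D44222))
theorem F69604 : act 1 n42594 = n42615 := d18_6 (iv1 F33203) D44197 F69600 F33210 F33179 (iv4 F66430) (iv4 D42615) F32740 (iv5 F33200)
theorem F69606 : act 1 n42612 = n42594 := d15_0 F69604 (iv7 F67234) F67232
def n44246 : Q := act 4 n21032
theorem D44246 : act 4 n21032 = n44246 := rfl
def n44251 : Q := act 3 n21036
theorem D44251 : act 3 n21036 = n44251 := rfl
theorem F69618 : act 6 n44251 = n40612 := d7_2 (iv6 F62588) D44251 F61729
theorem F69619 : act 7 n44251 = n40330 := d8_2 (iv7 F62589) D44251 F61395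
def n44252 : Q := act 5 n21036
theorem D44252 : act 5 n21036 = n44252 := rfl
theorem F69620 : act 2 n44252 = n40772 := d2_1 D44252 F61871 (iv2 F62587)
theorem F69621 : act 7 n44252 = n40334 := d13_2 (iv7 F62589) D44252 (iv5 D40334)
theorem F69622 : act 1 n40770 = n44252 := d15_1 D40770 F69621 F61400
theorem F69623 : act 1 n44252 = n40769 := d15_0 (iv0 D40769) D40772 (iv2 F69620)
def n44253 : Q := act 4 n21037
theorem D44253 : act 4 n21037 = n44253 := rfl
theorem F69624 : act 2 n44253 = n40824 := d1_1 D44253 F61902 (iv2 F62574)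
theorem F69626 : act 7 n44253 = n40348 := d11_2 (iv7 F62543) D44253 (iv4 D40348)
theorem F69627 : act 1 n40821 = n44253 := d15_1 D40821 F69626 F61416
theorem F69628 : act 4 n40821 = n21744 := d20_2 D44253 (iv1 F69627) (iv3 D21744) (iv1 D10365) F6791 D4720 (iv1 F15858) (iv4 D10032) D10031 (iv1 F62573)
theorem F69629 : act 1 n21744 = n41515 := d18_8 F62629 F62621 (iv1 D19230) F14117 D9042 D19245 D40821 F69628 F64039
theorem F69630 : act 1 n41504 = n21744 := d15_0 F69629 (iv7 D41515) (iv2 F64008)
theorem F69631 : act 1 n44253 = n40820 := d15_0 (iv0 D40820) D40824 (iv2 F69624)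
def n44254 : Q := act 3 n21044
theorem D44254 : act 3 n21044 = n44254 := rfl
theorem F69632 : act 2 n44254 = n22037 := d0_1 D44254 (iv3 D22037) F65786 F16017 (iv2 F33227)
theorem F69633 : act 4 n44254 = n44254 := d5_2 D21044 D44254 (iv3 D44254) (iv4 D21044) F15823
theorem F69634 : act 7 n44254 = n40807 := d8_2 (iv7 F62579) D44254 (iv3 D40807)
def n44255 : Q := act 5 n21044
theorem D44255 : act 5 n21044 = n44255 := rfl
theorem F69635 : act 2 n44255 = n21049 := d2_1 D44255 (iv5 D21049) (iv2 F33227)
theorem F69636 : act 7 n44255 = n40808 := d13_2 (iv7 F62579) D44255 (iv5 D40808)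
def n44256 : Q := act 6 n21044
theorem D44256 : act 6 n21044 = n44256 := rfl
theorem F69637 : act 2 n44256 = n21050 := d3_1 D44256 (iv6 D21050) (iv2 F33227)
theorem F69638 : act 4 n44256 = n21046 := d10_1 D44256 (iv6 D21046) D21044
theorem F69639 : act 1 n40389 = n44256 := d17_8 F62527 (iv5 F66097) (iv1 D20204) (iv5 D9538) D9537 D20201 D42758 F67000 F69638
def n44257 : Q := act 4 n21045
theorem D44257 : act 4 n21045 = n44257 := rfl
theorem F69640 : act 2 n44257 = n21053 := d1_1 D44257 (iv4 D21053) (iv2 F33228)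
theorem F69641 : act 7 n44257 = n40810 := d11_2 (iv7 F62580) D44257 (iv4 D40810)
def n44259 : Q := act 3 n21047
theorem D44259 : act 3 n21047 = n44259 := rfl
theorem F69648 : act 4 n44259 = n43959 := d5_2 F64013 D44259 (iv3 F69110) F65048 (iv3 F64012)
theorem F69649 : act 6 n44259 = n43972 := d7_2 F65818 D44259 (iv3 D43972)
theorem F69650 : act 7 n44259 = n40370 := d8_2 (iv7 F62582) D44259 F61454
def n44260 : Q := act 5 n21047
theorem D44260 : act 5 n21047 = n44260 := rfl
theorem F69651 : act 7 n44260 = n40373 := d13_2 (iv7 F62582) D44260 (iv5 D40373)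
def n44261 : Q := act 0 n21049
theorem D44261 : act 0 n21049 = n44261 := rfl
theorem F69652 : act 1 n40808 = n44261 := d15_0 (iv0 D44261) (iv7 F33277) F63061
theorem F69653 : act 5 n44261 = n43666 := d17_7 D20666 (iv5 F62593) F62592 (iv5 D19241) D19240 D40808 F69652 (iv0 D43666) F32770
theorem F69654 : act 6 n22685 = n43666 := d21_5 F64443 (iv1 F61961) F30992 (iv6 F17281) (iv1 F35251) (iv5 F69653) (iv1 F69652) (iv5 D40808) D40809 (iv1 F64444)
theorem F69655 : act 2 n43666 = n22706 := d3_1 F69654 (iv6 D22706) (iv2 F66862)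
theorem F69656 : act 7 n43667 = n22706 := d15_2 (iv0 D43666) D43667 (iv2 F69655)
def n44262 : Q := act 1 n21049
theorem D44262 : act 1 n21049 = n44262 := rfl
theorem F69657 : act 1 n44262 = n40808 := d15_1 D44262 (iv7 F69636) F69635
def n44263 : Q := act 4 n21049
theorem D44263 : act 4 n21049 = n44263 := rfl
def n44264 : Q := act 6 n21049
theorem D44264 : act 6 n21049 = n44264 := rfl
def n44265 : Q := act 0 n21050
theorem D44265 : act 0 n21050 = n44265 := rfl
theorem F69658 : act 5 n44265 = n42721 := d17_1 D44265 (iv1 F66979) (iv5 D42751) (iv4 D20196) D20197 F32033 F66131 (iv0 D21055) (iv4 F33233)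
theorem F69659 : act 6 n44265 = n40318 := d21_3 D20170 D42721 (iv5 F69658) (iv1 D40318) (iv6 D19059) D19058 F30586 (iv5 D10643) D10644 (iv1 F65775)
theorem F69660 : act 2 n40389 = n44265 := d3_3 F69659 F63519 D40389
theorem F69661 : act 2 n42721 = n42758 := d2_3 F67000 F69660 F69658
theorem F69662 : act 7 n42757 = n42721 := d15_2 F66999 F66998 F69661
theorem F69663 : act 7 n42722 = n42758 := d15_2 (iv0 D42721) D42722 (iv2 F69661)
theorem F69664 : act 2 n42757 = n42722 := d4_3 F69663 (iv2 F69661) (iv7 F69662)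
def n44266 : Q := act 1 n21050
theorem D44266 : act 1 n21050 = n44266 := rfl
theorem F69665 : act 7 n44266 = n40389 := d15_2 (iv0 D44265) D44266 F69660
theorem F69666 : act 5 n42722 = n44266 := d13_3 F69665 (iv5 F67000) (iv7 F69663)
def n44267 : Q := act 4 n21051
theorem D44267 : act 4 n21051 = n44267 := rfl
def n44268 : Q := act 3 n21052
theorem D44268 : act 3 n21052 = n44268 := rfl
theorem F69667 : act 5 n44268 = n43680 := d6_2 (iv5 F62595) D44268 (iv3 D43680)
def n44271 : Q := act 1 n21053
theorem D44271 : act 1 n21053 = n44271 := rfl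
def n44277 : Q := act 4 n21055
theorem D44277 : act 4 n21055 = n44277 := rfl
theorem F69683 : act 2 n44277 = n40424 := d1_1 D44277 F61505 (iv2 F63459)
theorem F69684 : act 6 n44277 = n40326 := d10_2 (iv6 F62525) D44277 (iv4 D40326)
def n44278 : Q := act 3 n21056
theorem D44278 : act 3 n21056 = n44278 := rfl
theorem F69685 : act 5 n44278 = n42727 := d6_2 (iv5 F66337) D44278 (iv3 D42727)
theorem F69686 : act 7 n44278 = n40421 := d8_2 (iv7 F63460) D44278 F61504
def n44279 : Q := act 4 n21056
theorem D44279 : act 4 n21056 = n44279 := rfl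
theorem F69687 : act 7 n44279 = n40424 := d11_2 (iv7 F63460) D44279 F61505
theorem F69688 : act 0 n44279 = n40763 := d17_0 F62008 (iv1 D40917) (iv5 D19282) F14146 D9068 F62552 F15826 D21056 D44279
theorem F69689 : act 1 n44277 = n40763 := d15_0 (iv0 F69688) F69687 (iv2 F69683)
def n44280 : Q := act 4 n21057
theorem D44280 : act 4 n21057 = n44280 := rfl
def n44290 : Q := act 3 n21080
theorem D44290 : act 3 n21080 = n44290 := rfl
theorem F69701 : act 4 n44290 = n41527 := d5_2 F62639 D44290 F64064 F31313 (iv3 F31286)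
theorem F69702 : act 6 n44290 = n43995 := d7_2 F65809 D44290 (iv3 D43995)
theorem F69703 : act 7 n44290 = n41506 := d8_2 (iv7 F63034) D44290 F64018
def n44291 : Q := act 5 n21080
theorem D44291 : act 5 n21080 = n44291 := rfl
theorem F69704 : act 2 n44291 = n44260 := d2_1 D44291 (iv5 D44260) F63035
def n44292 : Q := act 0 n21081
theorem D44292 : act 0 n21081 = n44292 := rfl
theorem F69707 : act 1 n44255 = n44292 := d15_0 (iv0 D44292) F33277 (iv2 F69635)
def n44293 : Q := act 1 n21081
theorem D44293 : act 1 n21081 = n44293 := rfl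
theorem F69708 : act 1 n44293 = n44255 := d15_1 D44293 F69636 (iv2 F63061)
theorem F69709 : act 5 n22706 = n44293 := d21_6 (iv5 D41187) (iv1 F61963) F61960 (iv6 F35255) (iv1 F35257) D22706 (iv1 D44293) (iv5 D21081) D21082 F63070
theorem F69710 : act 2 n44293 = n44261 := d2_1 F69709 F69653 F69655
theorem F69711 : act 0 n43656 = n22706 := d17_0 F69709 (iv1 D44293) (iv5 D21081) (iv4 D10027) D10028 D21084 F62568 (iv0 F62520) (iv4 F68599)
theorem F69712 : act 7 n44262 = n44293 := d15_2 (iv0 D44261) D44262 F69710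
theorem F69713 : act 7 n44292 = n44261 := d15_2 F69708 F69707 (iv2 F69710)
theorem F69714 : act 2 n44262 = n44292 := d4_3 F69713 (iv2 F69710) (iv7 F69712)
theorem F69715 : act 5 n43667 = n44262 := d13_3 F69712 (iv5 F69709) (iv7 F69656)
def n44294 : Q := act 4 n21081
theorem D44294 : act 4 n21081 = n44294 := rfl
theorem F69716 : act 7 n44294 = n44263 := d11_2 (iv7 F33277) D44294 (iv4 D44263)
def n44295 : Q := act 6 n21081
theorem D44295 : act 6 n21081 = n44295 := rfl
def n44296 : Q := act 5 n21082
theorem D44296 : act 5 n21082 = n44296 := rfl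
theorem F69717 : act 2 n44296 = n41165 := d2_1 D44296 F62360 (iv2 F63062)
theorem F69718 : act 7 n44296 = n41166 := d13_2 F68706 D44296 (iv5 F68707)
theorem F69719 : act 1 n44296 = n22822 := d17_6 D9057 D19262 (iv1 F31022) (iv5 F62484) (iv4 F33278) D44296 (iv5 D22822) (iv0 F17307) F14132
theorem F69720 : act 1 n40854 = n44296 := d15_0 F69719 F35397 (iv2 F61954)
theorem F69721 : act 0 n41496 = n21731 := d17_0 (iv5 F63430) (iv1 F35400) (iv5 F63103) F63102 D40854 F69720 (iv5 D44296) (iv0 F63984) (iv4 F63982)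
theorem F69722 : act 1 n41781 = n21731 := d15_0 (iv0 F69721) F63981 (iv2 F64427)
theorem F69723 : act 0 n41782 = n21916 := d21_4 F63430 (iv1 F69722) (iv5 D41781) D41782 (iv6 D21916) D21915 (iv1 F65975) (iv5 F35404) (iv6 D22827) D22824
theorem F69724 : act 0 n40629 = n44004 := d20_1 (iv4 F66305) (iv4 D44004) D44003 (iv1 F69221) F69108 (iv4 F69120) (iv1 F69121) (iv4 F67713) F67712 F69723
theorem F69725 : act 1 n41782 = n41987 := d15_1 (iv0 F69723) F64780 (iv2 F65897)
theorem F69726 : act 1 n41987 = n41793 := d15_1 F69725 (iv7 D41793) (iv2 F64429)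
def n44297 : Q := act 3 n21083
theorem D44297 : act 3 n21083 = n44297 := rfl
theorem F69727 : act 7 n44297 = n44136 := d8_2 F66601 D44297 F69474
theorem F69728 : act 2 n44297 = n44135 := d15_3 (iv0 D44135) D44136 (iv7 F69727)
def n44300 : Q := act 0 n21085
theorem D44300 : act 0 n21085 = n44300 := rfl
theorem F69733 : act 1 n44257 = n44300 := d15_0 (iv0 D44300) F33281 (iv2 F69640)
def n44301 : Q := act 1 n21085
theorem D44301 : act 1 n21085 = n44301 := rfl
theorem F69734 : act 1 n44301 = n44257 := d15_1 D44301 F69641 (iv2 F63060)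
def n44310 : Q := act 5 n21092
theorem D44310 : act 5 n21092 = n44310 := rfl
def n44315 : Q := act 1 n21097
theorem D44315 : act 1 n21097 = n44315 := rfl
theorem F69761 : act 4 n41515 = n44315 := d20_6 D4571 D10036 F15868 D10419 (iv1 F62676) (iv3 F64038) (iv1 D44315) (iv4 D21097) (iv3 D10033) (iv1 D4570)
def n44349 : Q := act 3 n21109
theorem D44349 : act 3 n21109 = n44349 := rfl
theorem F69809 : act 4 n44349 = n22061 := d5_2 (iv4 F33314) D44349 (iv3 D22061) (iv4 D10508) (iv3 F16648)
theorem F69810 : act 7 n44349 = n44349 := d8_2 F33315 D44349 (iv3 D44349)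
def n44350 : Q := act 5 n21109
theorem D44350 : act 5 n21109 = n44350 := rfl
theorem F69813 : act 0 n44350 = n21111 := d17_2 (iv1 F33313) D44350 (iv5 D21111) (iv4 D10052) (iv5 D4576) F17465 D4061 (iv0 F14125) D19247
theorem F69814 : act 1 n44350 = n40826 := d17_6 F33728 (iv5 D21006) (iv1 F17403) D10453 (iv4 F33314) D44350 (iv5 D40826) F33312 (iv4 F33730)
def n44358 : Q := act 0 n21112
theorem D44358 : act 0 n21112 = n44358 := rfl
def n44359 : Q := act 1 n21112
theorem D44359 : act 1 n21112 = n44359 := rfl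
def n44362 : Q := act 3 n21113
theorem D44362 : act 3 n21113 = n44362 := rfl
def n44364 : Q := act 3 n21114
theorem D44364 : act 3 n21114 = n44364 := rfl
theorem F69830 : act 6 n44364 = n44268 := d7_2 F62596 D44364 (iv3 D44268)
def n44458 : Q := act 6 n21145
theorem D44458 : act 6 n21145 = n44458 := rfl
theorem F69968 : act 4 n44458 = n37871 := d10_1 D44458 F58739 (iv4 F33369)
theorem F69970 : act 0 n44458 = n41551 := d20_1 (iv4 F69968) (iv4 D41551) F62225 (iv1 F31330) (iv3 F34549) (iv4 F69495) (iv1 F69496) (iv4 D20998) D20997 (iv1 F64132)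
def n44460 : Q := act 0 n21147
theorem D44460 : act 0 n21147 = n44460 := rfl
def n44461 : Q := act 1 n21147
theorem D44461 : act 1 n21147 = n44461 := rfl
def n44463 : Q := act 7 n21147
theorem D44463 : act 7 n21147 = n44463 := rfl
theorem F69971 : act 4 n44463 = n21150 := d11_1 D44463 (iv7 D21150) (iv4 F33374)
def n44464 : Q := act 3 n21148
theorem D44464 : act 3 n21148 = n44464 := rfl
def n44465 : Q := act 4 n21148
theorem D44465 : act 4 n21148 = n44465 := rfl
def n44468 : Q := act 3 n21149
theorem D44468 : act 3 n21149 = n44468 := rfl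
theorem F69980 : act 4 n44211 = n44468 := d20_2 (iv4 F69535) (iv1 F69561) (iv3 D44468) (iv1 D21149) F15932 (iv4 F15907) (iv1 F33351) (iv4 D21125) (iv3 F66658) (iv1 F33202)
def n44469 : Q := act 4 n21149
theorem D44469 : act 4 n21149 = n44469 := rfl
def n44472 : Q := act 5 n21151
theorem D44472 : act 5 n21151 = n44472 := rfl
theorem F69985 : act 3 n44472 = n21152 := d6_1 D44472 (iv5 D21152) D21151
def n44473 : Q := act 4 n21153
theorem D44473 : act 4 n21153 = n44473 := rfl
def n44474 : Q := act 3 n21154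
theorem D44474 : act 3 n21154 = n44474 := rfl
theorem F69988 : act 4 n44474 = n36469 := d5_2 D21154 D44474 (iv3 D36469) (iv4 D17606) (iv3 F15939)
theorem F69989 : act 7 n44474 = n37264 := d8_2 (iv7 F33384) D44474 (iv3 D37264)
def n44475 : Q := act 6 n21154
theorem D44475 : act 6 n21154 = n44475 := rfl
theorem F69990 : act 2 n44475 = n37267 := d3_1 D44475 (iv6 D37267) (iv2 F33383)
theorem F69991 : act 4 n44475 = n21155 := d10_1 D44475 (iv6 D21155) D21154
def n44476 : Q := act 0 n21155
theorem D44476 : act 0 n21155 = n44476 := rfl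
def n44477 : Q := act 1 n21155
theorem D44477 : act 1 n21155 = n44477 := rfl
def n44478 : Q := act 7 n21155
theorem D44478 : act 7 n21155 = n44478 := rfl
theorem F69992 : act 3 n44478 = n36474 := d8_1 D44478 (iv7 D36474) (iv3 F33387)
theorem F69993 : act 5 n44478 = n44478 := d13_1 D44478 (iv7 D44478) F33388
def n44479 : Q := act 3 n21156
theorem D44479 : act 3 n21156 = n44479 := rfl
theorem F69994 : act 4 n44479 = n27426 := d5_2 D21156 D44479 (iv3 D27426) (iv4 F27946) F27943
theorem F69995 : act 7 n44479 = n27518 := d8_2 (iv7 F33390) D44479 F44416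
theorem F69996 : act 0 n44479 = n32681 := d20_4 F13612 D10083 D21156 D44479 (iv3 D32681) (iv4 D15566) (iv1 D7340) D7341 F11659 D8690
def n44480 : Q := act 6 n21156
theorem D44480 : act 6 n21156 = n44480 := rfl
theorem F69997 : act 2 n44480 = n37189 := d3_1 D44480 (iv6 D37189) (iv2 F33389)
theorem F69998 : act 4 n44480 = n21157 := d10_1 D44480 (iv6 D21157) D21156
def n44481 : Q := act 0 n21157
theorem D44481 : act 0 n21157 = n44481 := rfl
def n44482 : Q := act 1 n21157
theorem D44482 : act 1 n21157 = n44482 := rfl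
def n44483 : Q := act 5 n21157
theorem D44483 : act 5 n21157 = n44483 := rfl
theorem F69999 : act 6 n44483 = n21164 := d12_2 D21157 D44483 (iv5 D21164) (iv6 F16951) (iv5 F15942)
def n44484 : Q := act 7 n21157
theorem D44484 : act 7 n21157 = n44484 := rfl
def n44485 : Q := act 3 n21158
theorem D44485 : act 3 n21158 = n44485 := rfl
theorem F70000 : act 4 n44485 = n35181 := d5_2 D21158 D44485 (iv3 D35181) (iv4 D17081) F15946
theorem F70001 : act 7 n44485 = n37187 := d8_2 (iv7 F33394) D44485 (iv3 D37187)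
def n44486 : Q := act 6 n21158
theorem D44486 : act 6 n21158 = n44486 := rfl
theorem F70002 : act 2 n44486 = n37191 := d3_1 D44486 (iv6 D37191) (iv2 F33393)
theorem F70003 : act 4 n44486 = n21159 := d10_1 D44486 (iv6 D21159) D21158
def n44487 : Q := act 0 n21159
theorem D44487 : act 0 n21159 = n44487 := rfl
def n44488 : Q := act 1 n21159
theorem D44488 : act 1 n21159 = n44488 := rfl
def n44489 : Q := act 5 n21159
theorem D44489 : act 5 n21159 = n44489 := rfl
theorem F70005 : act 6 n44489 = n21478 := d12_2 D21159 D44489 F33761 (iv6 D17080) (iv5 F15945)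
def n44490 : Q := act 7 n21159
theorem D44490 : act 7 n21159 = n44490 := rfl
def n44491 : Q := act 2 n21160
theorem D44491 : act 2 n21160 = n44491 := rfl
theorem F70007 : act 7 n21161 = n44491 := d15_2 (iv0 D21160) D21161 (iv2 D44491)
def n44492 : Q := act 3 n21160
theorem D44492 : act 3 n21160 = n44492 := rfl
def n44493 : Q := act 4 n21160
theorem D44493 : act 4 n21160 = n44493 := rfl
def n44494 : Q := act 5 n21160
theorem D44494 : act 5 n21160 = n44494 := rfl
def n44495 : Q := act 6 n21160
theorem D44495 : act 6 n21160 = n44495 := rfl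
def n44496 : Q := act 7 n21160
theorem D44496 : act 7 n21160 = n44496 := rfl
def n44497 : Q := act 3 n21161
theorem D44497 : act 3 n21161 = n44497 := rfl
def n44498 : Q := act 4 n21161
theorem D44498 : act 4 n21161 = n44498 := rfl
def n44499 : Q := act 5 n21161
theorem D44499 : act 5 n21161 = n44499 := rfl
def n44500 : Q := act 6 n21161
theorem D44500 : act 6 n21161 = n44500 := rfl
def n44501 : Q := act 0 n21162
theorem D44501 : act 0 n21162 = n44501 := rfl
def n44502 : Q := act 1 n21162
theorem D44502 : act 1 n21162 = n44502 := rfl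
def n44503 : Q := act 4 n21162
theorem D44503 : act 4 n21162 = n44503 := rfl
theorem F70009 : act 6 n44503 = n21169 := d10_2 (iv6 F33398) D44503 (iv4 D21169)
def n44504 : Q := act 7 n21162
theorem D44504 : act 7 n21162 = n44504 := rfl
theorem F70010 : act 5 n44504 = n21163 := d13_1 D44504 (iv7 D21163) D21162
def n44505 : Q := act 4 n21164
theorem D44505 : act 4 n21164 = n44505 := rfl
theorem F70011 : act 0 n44505 = n39864 := d18_2 (iv1 F33400) D44505 (iv4 D39864) F30102 F31669 F31667 (iv4 F30720) (iv0 D19119) D19120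
theorem F70012 : act 1 n44505 = n39867 := d18_6 F16329 F6771 (iv1 F16870) (iv4 F16950) D21164 D44505 (iv4 D39867) (iv0 F33809) (iv5 D21504)
def n44506 : Q := act 4 n21165
theorem D44506 : act 4 n21165 = n44506 := rfl
theorem F70013 : act 0 n44506 = n39867 := d18_2 (iv1 F33403) D44506 (iv4 D39867) F30106 (iv4 D9471) (iv0 F17524) (iv4 F28029) (iv0 F28030) (iv5 F28514)
theorem F70014 : act 1 n44506 = n39864 := d18_6 F12241 (iv4 F14550) (iv1 F16943) F16944 D21165 D44506 (iv4 D39864) (iv0 D18863) (iv5 D8832)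
def n44507 : Q := act 6 n21165
theorem D44507 : act 6 n21165 = n44507 := rfl
theorem F70015 : act 3 n44507 = n35754 := d7_1 D44507 (iv6 D35754) (iv3 F33401)
def n44508 : Q := act 4 n21167
theorem D44508 : act 4 n21167 = n44508 := rfl
theorem F70016 : act 2 n44508 = n37216 := d1_1 D44508 F58170 (iv2 F33763)
theorem F70017 : act 7 n44508 = n37217 := d11_2 F33767 D44508 F58171
theorem F70018 : act 0 n44508 = n34419 := d18_2 D21167 D44508 (iv4 D34419) (iv5 D16689) (iv4 F14550) (iv0 F14551) (iv4 F16950) (iv0 D10086) D10088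
theorem F70019 : act 1 n44508 = n21559 := d18_6 (iv1 F27356) (iv4 F14630) (iv1 F30732) (iv4 F30741) (iv5 F33410) D44508 (iv4 D21559) D21558 F33927
def n44509 : Q := act 6 n21167
theorem D44509 : act 6 n21167 = n44509 := rfl
theorem F70020 : act 2 n44509 = n44489 := d3_1 D44509 F70005 (iv2 F33763)
theorem F70021 : act 5 n44509 = n21429 := d12_1 D44509 (iv6 D21429) F16137 D19134 (iv5 F33410)
def n44510 : Q := act 4 n21168
theorem D44510 : act 4 n21168 = n44510 := rfl
theorem F70022 : act 2 n44510 = n37217 := d1_1 D44510 F58171 (iv2 F33769)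
theorem F70023 : act 7 n44510 = n37216 := d11_2 (iv7 F33765) D44510 F58170
theorem F70024 : act 0 n44510 = n21559 := d18_2 (iv1 F33412) D44510 (iv4 D21559) (iv5 D10299) F6771 D9831 F16944 (iv0 F16752) D17502
theorem F70025 : act 1 n44510 = n34419 := d18_6 D7778 F14735 (iv1 F31681) (iv4 F33406) (iv5 F33413) D44510 (iv4 D34419) (iv0 F27345) (iv5 D7780)
def n44511 : Q := act 6 n21168
theorem D44511 : act 6 n21168 = n44511 := rfl
theorem F70026 : act 3 n44511 = n36440 := d7_1 D44511 (iv6 D36440) F33414
theorem F70027 : act 5 n44511 = n44507 := d12_1 D44511 (iv6 D44507) (iv5 D21165) D21166 (iv5 F33413)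
def n44512 : Q := act 3 n21169
theorem D44512 : act 3 n21169 = n44512 := rfl
def n44513 : Q := act 5 n21169
theorem D44513 : act 5 n21169 = n44513 := rfl
theorem F70028 : act 4 n44513 = n40498 := d16_2 D21169 D44513 (iv5 D40498) (iv4 D19137) (iv5 D8989) (iv4 F13002) D17502 F28485 F16212
def n44514 : Q := act 6 n21170
theorem D44514 : act 6 n21170 = n44514 := rfl
def n44515 : Q := act 5 n21171
theorem D44515 : act 5 n21171 = n44515 := rfl
def n44516 : Q := act 7 n21171
theorem D44516 : act 7 n21171 = n44516 := rfl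
theorem F70029 : act 2 n44516 = n23038 := d4_1 D44516 F66365 F33674
theorem F70030 : act 4 n44516 = n42101 := d11_1 D44516 (iv7 D42101) (iv4 F33417)
theorem F70031 : act 1 n22991 = n44516 := d15_1 (iv0 F66356) (iv7 D44516) (iv2 F33674)
theorem F70032 : act 1 n44516 = n22988 := d15_1 F70031 F63380 (iv2 F63391)
def n44517 : Q := act 6 n21172
theorem D44517 : act 6 n21172 = n44517 := rfl
theorem F70033 : act 4 n44517 = n34951 := d10_1 D44517 (iv6 D34951) (iv4 F33418)
def n44518 : Q := act 3 n21173
theorem D44518 : act 3 n21173 = n44518 := rfl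
def n44519 : Q := act 5 n21173
theorem D44519 : act 5 n21173 = n44519 := rfl
theorem F70034 : act 2 n44519 = n34840 := d2_1 D44519 F55103 (iv2 F33685)
theorem F70035 : act 4 n44519 = n25581 := d9_1 D44519 F40471 F27666 (iv5 D7915) D7914 D16955 (iv4 F33418) (iv5 F37361) (iv4 D23935) (iv5 D11215) (iv4 F10373) F26285 D7909 D16952 F33419
theorem F70036 : act 7 n44519 = n35949 := d13_2 F33687 D44519 F56631
theorem F70037 : act 0 n44519 = n21614 := d17_2 (iv1 F33695) D44519 (iv5 D21614) F16425 (iv5 F27692) F27695 D16943 F31840 (iv4 F33692)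
theorem F70038 : act 1 n44519 = n34945 := d17_6 (iv1 D19870) F26933 F18062 D16952 F33419 D44519 (iv5 D34945) F34014 F34013
def n44520 : Q := act 6 n21173
theorem D44520 : act 6 n21173 = n44520 := rfl
theorem F70039 : act 4 n44520 = n34947 := d10_1 D44520 (iv6 D34947) F33419
def n44521 : Q := act 5 n21174
theorem D44521 : act 5 n21174 = n44521 := rfl
theorem F70040 : act 2 n44521 = n21175 := d2_1 D44521 (iv5 D21175) D21174
theorem F70041 : act 4 n44521 = n32734 := d9_1 D44521 F51819 F40669 (iv5 F37396) F37395 (iv5 D20014) (iv4 F16167) D21444 F51817 F51814 F37047 F18406 (iv4 F36974) (iv5 F36975) (iv4 F33420)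
def n44522 : Q := act 6 n21174
theorem D44522 : act 6 n21174 = n44522 := rfl
theorem F70042 : act 2 n44522 = n21176 := d3_1 D44522 (iv6 D21176) D21174
theorem F70043 : act 4 n44522 = n43415 := d10_1 D44522 (iv6 D43415) (iv4 F33420)
def n44523 : Q := act 6 n21175
theorem D44523 : act 6 n21175 = n44523 := rfl
theorem F70044 : act 3 n44523 = n21178 := d7_1 D44523 (iv6 D21178) (iv3 F33421)
def n44524 : Q := act 0 n21176
theorem D44524 : act 0 n21176 = n44524 := rfl
def n44525 : Q := act 1 n21176
theorem D44525 : act 1 n21176 = n44525 := rfl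
def n44526 : Q := act 5 n21176
theorem D44526 : act 5 n21176 = n44526 := rfl
theorem F70045 : act 3 n44526 = n21181 := d6_1 D44526 (iv5 D21181) (iv3 F33422)
def n44527 : Q := act 7 n21176
theorem D44527 : act 7 n21176 = n44527 := rfl
theorem F70046 : act 3 n44527 = n21182 := d8_1 D44527 (iv7 D21182) (iv3 F33422)
theorem F70047 : act 4 n44527 = n43418 := d11_1 D44527 (iv7 D43418) (iv4 F33423)
theorem F70048 : act 6 n44527 = n23501 := d14_1 D44527 (iv7 F63180) (iv6 D21445) F16168 D21176
def n44528 : Q := act 3 n21177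
theorem D44528 : act 3 n21177 = n44528 := rfl
theorem F70049 : act 5 n44528 = n21245 := d6_2 (iv5 F33425) D44528 (iv3 D21245)
theorem F70050 : act 7 n44528 = n41631 := d8_2 F33705 D44528 F64242
theorem F70051 : act 0 n44528 = n21213 := d20_4 (iv4 F33913) (iv1 F61786) F61784 D44528 F33449 (iv4 F29103) (iv1 F29104) (iv4 D10175) (iv3 F6787) D10346
def n44529 : Q := act 6 n21177
theorem D44529 : act 6 n21177 = n44529 := rfl
def n44530 : Q := act 0 n21178
theorem D44530 : act 0 n21178 = n44530 := rfl
def n44531 : Q := act 1 n21178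
theorem D44531 : act 1 n21178 = n44531 := rfl
def n44532 : Q := act 5 n21178
theorem D44532 : act 5 n21178 = n44532 := rfl
theorem F70052 : act 6 n44532 = n21181 := d12_2 D21178 D44532 (iv5 D21181) (iv6 D10093) D10092
def n44533 : Q := act 7 n21178
theorem D44533 : act 7 n21178 = n44533 := rfl
def n44534 : Q := act 3 n21179
theorem D44534 : act 3 n21179 = n44534 := rfl
def n44535 : Q := act 5 n21179
theorem D44535 : act 5 n21179 = n44535 := rfl
def n44536 : Q := act 6 n21179
theorem D44536 : act 6 n21179 = n44536 := rfl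
theorem F70053 : act 4 n44536 = n42264 := d10_1 D44536 (iv6 D42264) (iv4 F66726)
def n44537 : Q := act 3 n21180
theorem D44537 : act 3 n21180 = n44537 := rfl
theorem F70054 : act 0 n44537 = n21214 := d20_4 (iv4 F58142) (iv1 F58145) (iv4 F66743) D44537 F33450 F15976 (iv1 F63122) D5028 D11034 (iv1 F66558)
def n44538 : Q := act 5 n21180
theorem D44538 : act 5 n21180 = n44538 := rfl
def n44539 : Q := act 6 n21180
theorem D44539 : act 6 n21180 = n44539 := rfl
theorem F70055 : act 4 n44539 = n42269 := d10_1 D44539 (iv6 D42269) (iv4 F66743)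
def n44540 : Q := act 0 n21181
theorem D44540 : act 0 n21181 = n44540 := rfl
def n44541 : Q := act 1 n21181
theorem D44541 : act 1 n21181 = n44541 := rfl
def n44542 : Q := act 4 n21181
theorem D44542 : act 4 n21181 = n44542 := rfl
def n44543 : Q := act 7 n21181
theorem D44543 : act 7 n21181 = n44543 := rfl
theorem F70056 : act 5 n44543 = n21182 := d13_1 D44543 (iv7 D21182) D21181
def n44544 : Q := act 3 n21185
theorem D44544 : act 3 n21185 = n44544 := rfl
theorem F70057 : act 2 n44544 = n23517 := d0_1 D44544 (iv3 D23517) F17893 D11034 (iv2 F66716)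
theorem F70058 : act 4 n44544 = n44544 := d5_2 D21185 D44544 (iv3 D44544) (iv4 D21185) F66713
def n44545 : Q := act 5 n21185
theorem D44545 : act 5 n21185 = n44545 := rfl
theorem F70059 : act 2 n44545 = n23528 := d2_1 D44545 (iv5 D23528) (iv2 F66716)
def n44546 : Q := act 6 n21185
theorem D44546 : act 6 n21185 = n44546 := rfl
theorem F70060 : act 2 n44546 = n23529 := d3_1 D44546 (iv6 D23529) (iv2 F66716)
theorem F70061 : act 4 n44546 = n21187 := d10_1 D44546 (iv6 D21187) D21185
def n44547 : Q := act 4 n21186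
theorem D44547 : act 4 n21186 = n44547 := rfl
theorem F70062 : act 2 n44547 = n23578 := d1_1 D44547 (iv4 D23578) (iv2 F66719)
def n44548 : Q := act 6 n21186
theorem D44548 : act 6 n21186 = n44548 := rfl
def n44549 : Q := act 4 n21193
theorem D44549 : act 4 n21193 = n44549 := rfl
theorem F70065 : act 2 n44549 = n23658 := d1_1 D44549 (iv4 D23658) (iv2 F63216)
def n44550 : Q := act 6 n21193
theorem D44550 : act 6 n21193 = n44550 := rfl
theorem F70066 : act 2 n44550 = n23659 := d3_1 D44550 (iv6 D23659) (iv2 F63216)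
theorem F70068 : act 5 n44550 = n40467 := d21_6 (iv5 D5068) F16806 D4595 (iv6 F15952) D21193 D44550 (iv1 D40467) F30735 (iv6 D19126) (iv1 F16897)
def n44551 : Q := act 0 n21195
theorem D44551 : act 0 n21195 = n44551 := rfl
def n44552 : Q := act 1 n21195
theorem D44552 : act 1 n21195 = n44552 := rfl
def n44553 : Q := act 3 n21195
theorem D44553 : act 3 n21195 = n44553 := rfl
theorem F70069 : act 4 n44553 = n42674 := d5_2 D21195 D44553 F66895 (iv4 F32689) F32688
theorem F70070 : act 6 n44553 = n21199 := d7_2 (iv6 F33429) D44553 (iv3 D21199)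
def n44554 : Q := act 5 n21195
theorem D44554 : act 5 n21195 = n44554 := rfl
def n44555 : Q := act 7 n21195
theorem D44555 : act 7 n21195 = n44555 := rfl
theorem F70071 : act 4 n44555 = n21196 := d11_1 D44555 (iv7 D21196) D21195
def n44556 : Q := act 3 n21197
theorem D44556 : act 3 n21197 = n44556 := rfl
theorem F70072 : act 4 n44556 = n42060 := d5_2 (iv4 F33431) D44556 (iv3 D42060) (iv4 D19834) (iv3 F31627)
def n44557 : Q := act 5 n21197
theorem D44557 : act 5 n21197 = n44557 := rfl
def n44558 : Q := act 6 n21197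
theorem D44558 : act 6 n21197 = n44558 := rfl
theorem F70075 : act 4 n44558 = n23340 := d10_1 D44558 F36459 (iv4 F33431)
def n44559 : Q := act 3 n21198
theorem D44559 : act 3 n21198 = n44559 := rfl
theorem F70076 : act 4 n44559 = n41877 := d5_2 (iv4 F33434) D44559 (iv3 D41877) (iv4 F32433) F32897
def n44560 : Q := act 5 n21198
theorem D44560 : act 5 n21198 = n44560 := rfl
theorem F70077 : act 0 n44560 = n40504 := d17_2 (iv1 F33433) D44560 (iv5 D40504) (iv4 D19139) F16900 F13935 (iv5 F7521) (iv0 F16807) D19137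
theorem F70078 : act 1 n44560 = n40511 := d17_6 (iv1 F31911) (iv5 D20102) (iv1 F31681) (iv5 F32896) (iv4 F33434) D44560 (iv5 D40511) F61614 F61613
def n44561 : Q := act 6 n21198
theorem D44561 : act 6 n21198 = n44561 := rfl
theorem F70079 : act 4 n44561 = n43822 := d10_1 D44561 (iv6 D43822) (iv4 F33434)
def n44562 : Q := act 0 n21199
theorem D44562 : act 0 n21199 = n44562 := rfl
def n44563 : Q := act 1 n21199
theorem D44563 : act 1 n21199 = n44563 := rfl
def n44564 : Q := act 2 n21199
theorem D44564 : act 2 n21199 = n44564 := rfl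
theorem F70080 : act 4 n44564 = n42672 := d1_2 (iv4 F33435) D44564 (iv2 D42672)
def n44565 : Q := act 5 n21199
theorem D44565 : act 5 n21199 = n44565 := rfl
theorem F70081 : act 3 n44565 = n21200 := d6_1 D44565 (iv5 D21200) D21199
def n44566 : Q := act 0 n21200
theorem D44566 : act 0 n21200 = n44566 := rfl
theorem F70082 : act 5 n44566 = n40306 := d17_3 (iv1 D21198) D21200 D44566 (iv4 D40306) (iv5 D19053) F16870 D9832 D20746 (iv4 F33434)
theorem F70083 : act 1 n40498 = n44566 := d15_0 (iv0 D44566) (iv7 F61538) (iv2 F61609)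
def n44567 : Q := act 1 n21200
theorem D44567 : act 1 n21200 = n44567 := rfl
theorem F70084 : act 1 n44567 = n40498 := d15_1 D44567 F61610 F33832
theorem F70085 : act 5 n44567 = n40453 := d17_7 (iv1 F16897) (iv5 D5068) F16806 D4595 D10108 D21200 D44567 F61550 (iv4 D19125)
def n44568 : Q := act 4 n21200
theorem D44568 : act 4 n21200 = n44568 := rfl
theorem F70086 : act 5 n44568 = n36239 := d9_2 D21200 D44568 (iv4 D36239) (iv5 D17502) F13002 D8989 D19137 D40498 (iv4 F70028) (iv5 D44513) (iv4 D21169) (iv5 D10088) F6660 D4595 D10108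
def n44569 : Q := act 6 n21200
theorem D44569 : act 6 n21200 = n44569 := rfl
def n44570 : Q := act 0 n21201
theorem D44570 : act 0 n21201 = n44570 := rfl
def n44571 : Q := act 1 n21201
theorem D44571 : act 1 n21201 = n44571 := rfl
theorem F70087 : act 1 n44571 = n37225 := d15_1 D44571 (iv7 D37225) (iv2 F33436)
def n44572 : Q := act 7 n21201
theorem D44572 : act 7 n21201 = n44572 := rfl
theorem F70088 : act 2 n44572 = n37225 := d4_1 D44572 (iv7 D37225) (iv2 F33436)
theorem F70089 : act 3 n44572 = n36790 := d8_1 D44572 (iv7 D36790) (iv3 F33437)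
theorem F70090 : act 5 n44572 = n40567 := d13_1 D44572 (iv7 D40567) (iv5 F33438)
theorem F70091 : act 6 n44572 = n40559 := d14_1 D44572 (iv7 D40559) (iv6 D19158) (iv7 F15959) D21201
theorem F70093 : act 1 n37224 = n44572 := d15_1 D37224 (iv7 D44572) F33436
theorem F70094 : act 1 n44572 = n37223 := d15_0 (iv0 D37223) D37225 (iv2 F70088)
def n44573 : Q := act 0 n21202
theorem D44573 : act 0 n21202 = n44573 := rfl
theorem F70095 : act 1 n22504 = n44573 := d15_0 (iv0 D44573) F33440 (iv2 F35056)
def n44574 : Q := act 1 n21202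
theorem D44574 : act 1 n21202 = n44574 := rfl
theorem F70096 : act 3 n22378 = n44574 := d20_3 D41066 (iv1 F68209) F51670 (iv1 D44574) (iv3 D21202) (iv4 D10112) (iv1 F7335) (iv4 F7234) D9080 D19329
theorem F70097 : act 0 n22504 = n44574 := d20_4 (iv4 D43396) (iv1 F32599) (iv4 F31830) D22504 (iv3 F70096) (iv4 F51670) (iv1 F62303) (iv4 D41069) D41068 (iv1 F68200)
def n44575 : Q := act 2 n21202
theorem D44575 : act 2 n21202 = n44575 := rfl
theorem F70098 : act 3 n44575 = n22235 := d0_2 D21202 D44575 (iv2 F34688) (iv3 F17229) (iv2 F15965)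
theorem F70099 : act 4 n44575 = n21212 := d1_2 (iv4 F33439) D44575 (iv2 D21212)
theorem F70100 : act 7 n44575 = n22504 := d4_2 (iv7 F33440) D44575 F35056
theorem F70101 : act 1 n44575 = n40880 := d15_0 (iv0 D40880) (iv7 F33440) D44575
theorem F70102 : act 1 n40881 = n44575 := d15_1 D40881 F70100 F35056
def n44576 : Q := act 5 n21202
theorem D44576 : act 5 n21202 = n44576 := rfl
theorem F70103 : act 3 n44576 = n21203 := d6_1 D44576 (iv5 D21203) D21202
theorem F70104 : act 7 n44576 = n40613 := d13_2 (iv7 F33440) D44576 F61730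
theorem F70105 : act 0 n44576 = n38492 := d20_10 (iv4 D38492) (iv1 D18343) D18345 (iv3 F31191) F31194 F21741 (iv4 F28470) D36150 F56883 (iv3 F70103)
def n44577 : Q := act 6 n21202
theorem D44577 : act 6 n21202 = n44577 := rfl
theorem F70106 : act 3 n44577 = n21204 := d7_1 D44577 (iv6 D21204) D21202
theorem F70107 : act 4 n44577 = n21214 := d10_1 D44577 (iv6 D21214) (iv4 F33439)
theorem F70108 : act 7 n41206 = n44577 := d11_0 F70107 F63150 (iv4 F62408)
def n44578 : Q := act 6 n21203
theorem D44578 : act 6 n21203 = n44578 := rfl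
theorem F70109 : act 2 n44578 = n40615 := d3_1 D44578 (iv6 D40615) (iv2 F33441)
def n44579 : Q := act 5 n21204
theorem D44579 : act 5 n21204 = n44579 := rfl
theorem F70110 : act 2 n44579 = n40889 := d2_1 D44579 (iv5 D40889) (iv2 F33445)
theorem F70111 : act 7 n44579 = n41207 := d13_2 (iv7 F63097) D44579 (iv5 D41207)
def n44580 : Q := act 2 n21208
theorem D44580 : act 2 n21208 = n44580 := rfl
theorem F70112 : act 7 n21209 = n44580 := d15_2 (iv0 D21208) D21209 (iv2 D44580)
def n44581 : Q := act 3 n21208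
theorem D44581 : act 3 n21208 = n44581 := rfl
def n44582 : Q := act 4 n21208
theorem D44582 : act 4 n21208 = n44582 := rfl
def n44583 : Q := act 5 n21208
theorem D44583 : act 5 n21208 = n44583 := rfl
def n44584 : Q := act 6 n21208
theorem D44584 : act 6 n21208 = n44584 := rfl
theorem F70113 : act 5 n44584 = n21435 := d21_6 (iv5 D9024) (iv1 F6481) D4600 D10118 D21208 D44584 (iv1 D21435) (iv5 F30748) (iv6 D19135) (iv1 F14098)
def n44585 : Q := act 7 n21208
theorem D44585 : act 7 n21208 = n44585 := rfl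
def n44586 : Q := act 3 n21209
theorem D44586 : act 3 n21209 = n44586 := rfl
theorem F70115 : act 4 n44586 = n27436 := d20_6 D18264 D38229 F59754 (iv3 F59753) (iv1 F33670) D44586 (iv1 D27436) F21910 F9752 D8614
def n44587 : Q := act 4 n21209
theorem D44587 : act 4 n21209 = n44587 := rfl
def n44588 : Q := act 5 n21209
theorem D44588 : act 5 n21209 = n44588 := rfl
theorem F70116 : act 6 n21434 = n44588 := d21_5 (iv5 D10208) (iv1 D4638) D4639 D10213 D21434 (iv5 D44588) (iv1 D21209) (iv5 F28423) (iv6 D17429) (iv1 F16132)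
def n44589 : Q := act 6 n21209
theorem D44589 : act 6 n21209 = n44589 := rfl
def n44590 : Q := act 5 n21211
theorem D44590 : act 5 n21211 = n44590 := rfl
theorem F70117 : act 1 n44590 = n21640 := d17_6 D19599 F34430 F51874 F51872 F34785 D44590 (iv5 D21640) (iv0 F31374) (iv4 D19602)
def n44591 : Q := act 6 n21211
theorem D44591 : act 6 n21211 = n44591 := rfl
def n44592 : Q := act 5 n21212
theorem D44592 : act 5 n21212 = n44592 := rfl
theorem F70118 : act 2 n44592 = n21213 := d2_1 D44592 (iv5 D21213) D21212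
theorem F70119 : act 0 n44592 = n41631 := d17_2 (iv1 F33773) D44592 (iv5 D41631) (iv4 D19602) D19603 D41633 (iv5 F64250) F34788 (iv4 F33774)
def n44593 : Q := act 6 n21212
theorem D44593 : act 6 n21212 = n44593 := rfl
theorem F70120 : act 2 n44593 = n21214 := d3_1 D44593 (iv6 D21214) D21212
def n44594 : Q := act 0 n21213
theorem D44594 : act 0 n21213 = n44594 := rfl
theorem F70121 : act 5 n44594 = n21274 := d17_3 F17241 D21213 D44594 F33500 D41629 F64240 (iv5 D22591) (iv0 D10710) D10713
theorem F70122 : act 2 n41631 = n44594 := d15_3 (iv0 D44594) (iv0 F70051) F70050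
def n44595 : Q := act 4 n21213
theorem D44595 : act 4 n21213 = n44595 := rfl
def n44596 : Q := act 6 n21213
theorem D44596 : act 6 n21213 = n44596 := rfl
theorem F70123 : act 3 n44596 = n21215 := d7_1 D44596 (iv6 D21215) (iv3 F33449)
def n44597 : Q := act 0 n21214
theorem D44597 : act 0 n21214 = n44597 := rfl
def n44598 : Q := act 5 n21214
theorem D44598 : act 5 n21214 = n44598 := rfl
theorem F70124 : act 3 n44598 = n21218 := d6_1 D44598 (iv5 D21218) (iv3 F33450)
def n44599 : Q := act 0 n21215
theorem D44599 : act 0 n21215 = n44599 := rfl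
def n44600 : Q := act 1 n21215
theorem D44600 : act 1 n21215 = n44600 := rfl
def n44601 : Q := act 5 n21215
theorem D44601 : act 5 n21215 = n44601 := rfl
theorem F70125 : act 6 n44601 = n21218 := d12_2 D21215 D44601 (iv5 D21218) (iv6 D10125) D10124
def n44602 : Q := act 7 n21215
theorem D44602 : act 7 n21215 = n44602 := rfl
def n44603 : Q := act 5 n21216
theorem D44603 : act 5 n21216 = n44603 := rfl
def n44604 : Q := act 6 n21216
theorem D44604 : act 6 n21216 = n44604 := rfl
theorem F70126 : act 2 n44604 = n41242 := d3_1 D44604 (iv6 F63175) (iv2 F63145)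
theorem F70127 : act 4 n44604 = n41235 := d10_1 D44604 (iv6 F62462) (iv4 F63147)
theorem F70128 : act 0 n23561 = n44604 := d18_2 (iv1 F17909) D23561 F70127 (iv5 D41235) (iv4 F63179) F63177 (iv4 D11060) F7486 D11030
theorem F70129 : act 1 n23556 = n44604 := d15_0 (iv0 F70128) F63334 F63328
def n44605 : Q := act 0 n21218
theorem D44605 : act 0 n21218 = n44605 := rfl
theorem F70130 : act 1 n23502 = n44605 := d15_0 (iv0 D44605) F63151 F36719
def n44606 : Q := act 1 n21218
theorem D44606 : act 1 n21218 = n44606 := rfl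
theorem F70131 : act 1 n44606 = n23502 := d15_1 D44606 (iv7 F63181) F33715
def n44607 : Q := act 4 n21218
theorem D44607 : act 4 n21218 = n44607 := rfl
def n44608 : Q := act 2 n21230
theorem D44608 : act 2 n21230 = n44608 := rfl
theorem F70132 : act 7 n21230 = n44608 := d15_2 (iv0 D21230) F33456 (iv2 D44608)
def n44609 : Q := act 4 n21230
theorem D44609 : act 4 n21230 = n44609 := rfl
theorem F70133 : act 3 n44609 = n40690 := d5_1 D44609 F64234 (iv3 D41626) D41627 F64235
def n44610 : Q := act 5 n21230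
theorem D44610 : act 5 n21230 = n44610 := rfl
theorem F70134 : act 1 n44610 = n23148 := d17_8 F46889 (iv5 D29233) (iv1 F46891) (iv5 F51588) F51593 (iv5 D21231) F33456 D44610 (iv4 F36221)
theorem F70135 : act 4 n44610 = n35042 := d19_2 D21230 D44610 (iv3 D35042) (iv1 F55619) F55617 F31850 (iv3 D20021) (iv1 F14671) F14669 (iv4 D4385) F3129 (iv1 F3131) F7245 D1869 (iv3 F3159) (iv1 F1864) D1917 D4608 D10144
theorem F70136 : act 0 n44610 = n23148 := d20_7 (iv4 F27883) (iv1 D17022) (iv4 D7946) (iv3 F12574) D17013 D35042 (iv4 F70135) (iv4 F36221) F26502 (iv1 F20789)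
def n44611 : Q := act 6 n21230
theorem D44611 : act 6 n21230 = n44611 := rfl
def n44612 : Q := act 0 n21231
theorem D44612 : act 0 n21231 = n44612 := rfl
theorem F70137 : act 5 n44612 = n22980 := d17_1 D44612 (iv1 F36032) F26946 (iv4 D15397) (iv5 D7270) (iv0 F26580) D15388 F51589 F51593
theorem F70138 : act 4 n44612 = n32510 := d18_3 D32511 F51593 D44612 (iv5 D32510) (iv4 D15387) (iv0 D7268) F5330 (iv0 F26580) D15388
theorem F70139 : act 1 n21231 = n44612 := d15_0 (iv0 D44612) (iv7 F33853) F33851
def n44613 : Q := act 6 n21231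
theorem D44613 : act 6 n21231 = n44613 := rfl
theorem F70140 : act 3 n44613 = n21233 := d7_1 D44613 (iv6 D21233) (iv3 F33457)
def n44614 : Q := act 0 n21232
theorem D44614 : act 0 n21232 = n44614 := rfl
def n44615 : Q := act 1 n21232
theorem D44615 : act 1 n21232 = n44615 := rfl
def n44616 : Q := act 5 n21232
theorem D44616 : act 5 n21232 = n44616 := rfl
theorem F70141 : act 3 n44616 = n21235 := d6_1 D44616 (iv5 D21235) (iv3 F33458)
def n44617 : Q := act 7 n21232
theorem D44617 : act 7 n21232 = n44617 := rfl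
theorem F70142 : act 3 n44617 = n21236 := d8_1 D44617 (iv7 D21236) (iv3 F33458)
theorem F70143 : act 4 n44617 = n44617 := d11_1 D44617 (iv7 D44617) F33459
def n44618 : Q := act 0 n21233
theorem D44618 : act 0 n21233 = n44618 := rfl
def n44619 : Q := act 1 n21233
theorem D44619 : act 1 n21233 = n44619 := rfl
theorem F70144 : act 1 n44619 = n21325 := d15_1 D44619 (iv7 D21325) (iv2 F33460)
def n44620 : Q := act 5 n21233
theorem D44620 : act 5 n21233 = n44620 := rfl
theorem F70145 : act 2 n44620 = n21324 := d2_1 D44620 (iv5 D21324) (iv2 F33460)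
theorem F70146 : act 6 n44620 = n21235 := d12_2 D21233 D44620 (iv5 D21235) (iv6 D10146) D10145
def n44621 : Q := act 7 n21233
theorem D44621 : act 7 n21233 = n44621 := rfl
theorem F70147 : act 2 n44621 = n21325 := d4_1 D44621 (iv7 D21325) (iv2 F33460)
theorem F70148 : act 1 n21325 = n44618 := d15_0 (iv0 D44618) D44621 F70147
theorem F70149 : act 1 n21323 = n44621 := d15_1 D21323 (iv7 D44621) F33460
theorem F70150 : act 1 n44621 = n21322 := d15_0 (iv0 D21322) D21325 (iv2 F70147)
def n44622 : Q := act 3 n21234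
theorem D44622 : act 3 n21234 = n44622 := rfl
theorem F70151 : act 4 n44622 = n22014 := d5_2 (iv4 F66283) D44622 (iv3 D22014) F66244 (iv3 F66280)
theorem F70152 : act 7 n44622 = n21327 := d8_2 (iv7 F35772) D44622 (iv3 D21327)
def n44623 : Q := act 5 n21234
theorem D44623 : act 5 n21234 = n44623 := rfl
theorem F70153 : act 2 n44623 = n21333 := d2_1 D44623 (iv5 D21333) (iv2 F35771)
theorem F70154 : act 7 n44623 = n21329 := d13_2 (iv7 F35772) D44623 (iv5 D21329)
theorem F70155 : act 1 n44623 = n23625 := d17_6 (iv1 F66272) D41245 F66287 (iv5 F66284) (iv4 F66283) D44623 (iv5 D23625) D23624 (iv4 F36757)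
def n44624 : Q := act 6 n21234
theorem D44624 : act 6 n21234 = n44624 := rfl
theorem F70156 : act 2 n44624 = n21334 := d3_1 D44624 (iv6 D21334) (iv2 F35771)
def n44625 : Q := act 0 n21235
theorem D44625 : act 0 n21235 = n44625 := rfl
theorem F70157 : act 5 n44625 = n43931 := d17_3 (iv1 D21234) D21235 D44625 (iv4 D43931) (iv5 D20816) F66215 F29315 D37846 (iv4 F66283)
theorem F70158 : act 2 n21335 = n44625 := d2_3 F70157 F69062 (iv5 F66252)
theorem F70159 : act 7 n21336 = n44625 := d13_0 F70157 F69063 F36760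
theorem F70160 : act 1 n21338 = n44625 := d17_6 (iv1 F63190) (iv5 D21240) (iv1 F15992) F6684 (iv4 F16013) (iv5 F33527) F70157 F69065 F36738
def n44626 : Q := act 1 n21235
theorem D44626 : act 1 n21235 = n44626 := rfl
theorem F70161 : act 1 n44626 = n21338 := d15_1 D44626 (iv7 D21338) (iv2 F33462)
theorem F70162 : act 7 n44626 = n21335 := d15_2 (iv0 D44625) D44626 F70158
theorem F70163 : act 5 n44626 = n23018 := d17_7 (iv1 F63192) F17657 (iv1 D10148) F6677 (iv4 F15987) D21235 D44626 F66286 F36662
theorem F70164 : act 2 n21336 = n44626 := d2_3 F70163 F36759 F36760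
def n44627 : Q := act 4 n21235
theorem D44627 : act 4 n21235 = n44627 := rfl
theorem F70165 : act 2 n44627 = n21337 := d1_1 D44627 (iv4 D21337) (iv2 F33462)
def n44628 : Q := act 7 n21235
theorem D44628 : act 7 n21235 = n44628 := rfl
theorem F70166 : act 2 n44628 = n21338 := d4_1 D44628 (iv7 D21338) (iv2 F33462)
theorem F70167 : act 5 n44628 = n21236 := d13_1 D44628 (iv7 D21236) D21235
theorem F70168 : act 1 n21336 = n44628 := d15_1 D21336 (iv7 D44628) F33462
theorem F70169 : act 1 n44628 = n21335 := d15_1 F70168 (iv7 F70162) (iv2 F70164)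
def n44629 : Q := act 0 n21239
theorem D44629 : act 0 n21239 = n44629 := rfl
theorem F70170 : act 4 n44629 = n37847 := d20_2 D21239 D44629 F58690 (iv1 F30774) (iv3 F66280) (iv4 F66283) (iv1 D21234) F15987 F6676 D10147
theorem F70171 : act 2 n21351 = n44629 := d15_3 (iv0 D44629) F66333 (iv7 F66313)
theorem F70172 : act 1 n21243 = n44629 := d15_0 (iv0 D44629) F63372 (iv2 F63385)
theorem F70173 : act 7 n44629 = n21246 := d15_2 (iv0 F66331) F70172 (iv2 F34008)
def n44630 : Q := act 3 n21239
theorem D44630 : act 3 n21239 = n44630 := rfl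
theorem F70174 : act 4 n44630 = n40621 := d5_2 D21239 D44630 (iv3 D40621) (iv4 F66226) (iv3 F65878)
theorem F70175 : act 7 n44630 = n21373 := d8_2 (iv7 F63372) D44630 (iv3 D21373)
theorem F70176 : act 0 n41632 = n44630 := d20_4 (iv4 F62909) F62912 (iv4 F34011) (iv3 F64244) (iv3 D44630) (iv4 D21239) (iv1 F15992) (iv4 F16013) (iv3 F16478) (iv1 F33859)
def n44631 : Q := act 5 n21239
theorem D44631 : act 5 n21239 = n44631 := rfl
theorem F70177 : act 2 n44631 = n21354 := d2_1 D44631 (iv5 D21354) (iv2 F63371)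
theorem F70178 : act 7 n44631 = n21374 := d13_2 (iv7 F63372) D44631 (iv5 D21374)
def n44632 : Q := act 6 n21239
theorem D44632 : act 6 n21239 = n44632 := rfl
theorem F70179 : act 2 n44632 = n21355 := d3_1 D44632 (iv6 D21355) (iv2 F63371)
theorem F70180 : act 4 n44632 = n21241 := d10_1 D44632 (iv6 D21241) D21239
def n44633 : Q := act 4 n21240
theorem D44633 : act 4 n21240 = n44633 := rfl
theorem F70181 : act 2 n44633 = n21359 := d1_1 D44633 (iv4 D21359) F63365
theorem F70182 : act 7 n44633 = n21376 := d11_2 F63366 D44633 (iv4 D21376)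
theorem F70183 : act 1 n44633 = n41239 := d18_6 F66236 (iv4 F34009) (iv1 F66333) (iv4 D21239) D21240 D44633 F62465 F66272 (iv5 F32942)
def n44634 : Q := act 5 n21243
theorem D44634 : act 5 n21243 = n44634 := rfl
theorem F70184 : act 2 n44634 = n21374 := d2_1 D44634 (iv5 D21374) (iv2 F63385)
theorem F70185 : act 7 n44634 = n21354 := d13_2 (iv7 F63386) D44634 (iv5 D21354)
def n44635 : Q := act 6 n21245
theorem D44635 : act 6 n21245 = n44635 := rfl
theorem F70186 : act 3 n44635 = n21246 := d7_1 D44635 (iv6 D21246) D21245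
theorem F70187 : act 4 n44635 = n37853 := d10_1 D44635 (iv6 D37853) (iv4 F33470)
def n44636 : Q := act 5 n21246
theorem D44636 : act 5 n21246 = n44636 := rfl
def n44637 : Q := act 6 n21247
theorem D44637 : act 6 n21247 = n44637 := rfl
theorem F70188 : act 4 n44637 = n43229 := d10_1 D44637 (iv6 D43229) (iv4 F33474)
def n44638 : Q := act 3 n21248
theorem D44638 : act 3 n21248 = n44638 := rfl
theorem F70189 : act 0 n44638 = n44609 := d20_10 (iv4 D44609) (iv1 F33456) F15984 (iv3 D10144) (iv1 F6785) D10343 F16458 D20392 (iv4 F33475) D44638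
def n44639 : Q := act 6 n21248
theorem D44639 : act 6 n21248 = n44639 := rfl
theorem F70190 : act 4 n44639 = n43227 := d10_1 D44639 (iv6 D43227) (iv4 F33475)
def n44640 : Q := act 6 n21249
theorem D44640 : act 6 n21249 = n44640 := rfl
theorem F70191 : act 3 n44640 = n21253 := d7_1 D44640 (iv6 D21253) (iv3 F33477)
def n44641 : Q := act 0 n21250
theorem D44641 : act 0 n21250 = n44641 := rfl
def n44642 : Q := act 1 n21250
theorem D44642 : act 1 n21250 = n44642 := rfl
def n44643 : Q := act 5 n21250
theorem D44643 : act 5 n21250 = n44643 := rfl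
theorem F70192 : act 3 n44643 = n21256 := d6_1 D44643 (iv5 D21256) (iv3 F33478)
def n44644 : Q := act 3 n21251
theorem D44644 : act 3 n21251 = n44644 := rfl
theorem F70193 : act 5 n44644 = n21437 := d6_2 (iv5 F33480) D44644 (iv3 D21437)
theorem F70194 : act 7 n44644 = n40977 := d8_2 F33483 D44644 F62124
def n44645 : Q := act 6 n21251
theorem D44645 : act 6 n21251 = n44645 := rfl
theorem F70195 : act 2 n44645 = n44514 := d3_1 D44645 (iv6 D44514) F33482
def n44646 : Q := act 3 n21252
theorem D44646 : act 3 n21252 = n44646 := rfl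
theorem F70196 : act 5 n44646 = n21439 := d6_2 (iv5 F33486) D44646 (iv3 D21439)
theorem F70197 : act 7 n44646 = n22599 := d8_2 (iv7 F33485) D44646 F35138
theorem F70198 : act 0 n44646 = n21276 := d20_4 (iv4 F33951) (iv1 F58153) F58151 D44646 F33501 (iv4 F29094) F29095 (iv4 D10912) F7398 (iv1 F16456)
theorem F70199 : act 2 n44646 = n44590 := d15_3 F70117 (iv0 F58239) (iv7 F70197)
def n44647 : Q := act 6 n21252
theorem D44647 : act 6 n21252 = n44647 := rfl
theorem F70200 : act 2 n44647 = n40979 := d3_1 D44647 (iv6 D40979) F33487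
def n44648 : Q := act 0 n21253
theorem D44648 : act 0 n21253 = n44648 := rfl
def n44649 : Q := act 1 n21253
theorem D44649 : act 1 n21253 = n44649 := rfl
def n44650 : Q := act 5 n21253
theorem D44650 : act 5 n21253 = n44650 := rfl
theorem F70201 : act 6 n44650 = n21256 := d12_2 D21253 D44650 (iv5 D21256) (iv6 D10153) D10152
def n44651 : Q := act 7 n21253
theorem D44651 : act 7 n21253 = n44651 := rfl
def n44652 : Q := act 3 n21254
theorem D44652 : act 3 n21254 = n44652 := rfl
def n44653 : Q := act 5 n21254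
theorem D44653 : act 5 n21254 = n44653 := rfl
def n44654 : Q := act 6 n21254
theorem D44654 : act 6 n21254 = n44654 := rfl
theorem F70202 : act 4 n44654 = n43218 := d10_1 D44654 (iv6 D43218) (iv4 F63436)
def n44655 : Q := act 3 n21255
theorem D44655 : act 3 n21255 = n44655 := rfl
theorem F70203 : act 4 n44655 = n41480 := d5_2 (iv4 F63438) D44655 (iv3 D41480) F58693 F58694
theorem F70204 : act 7 n44655 = n41731 := d8_2 F63441 D44655 F64368
theorem F70205 : act 0 n44655 = n21277 := d20_4 D41968 (iv1 F64757) (iv4 F63438) D44655 F33502 F16005 (iv1 F63244) (iv4 F31548) (iv3 D19773) D19771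
def n44656 : Q := act 5 n21255
theorem D44656 : act 5 n21255 = n44656 := rfl
def n44657 : Q := act 6 n21255
theorem D44657 : act 6 n21255 = n44657 := rfl
theorem F70206 : act 4 n44657 = n43220 := d10_1 D44657 (iv6 D43220) (iv4 F63438)
def n44658 : Q := act 0 n21256
theorem D44658 : act 0 n21256 = n44658 := rfl
theorem F70207 : act 1 n41999 = n44658 := d15_0 (iv0 D44658) (iv7 F64730) (iv2 F64804)
def n44659 : Q := act 1 n21256
theorem D44659 : act 1 n21256 = n44659 := rfl
theorem F70208 : act 1 n44659 = n41999 := d15_1 D44659 F64805 F34066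
theorem F70209 : act 5 n44659 = n44604 := d17_7 (iv1 D11042) (iv5 F7448) F63143 F16768 (iv4 F15998) D21256 D44659 (iv0 F70128) (iv4 D23561)
def n44660 : Q := act 4 n21256
theorem D44660 : act 4 n21256 = n44660 := rfl
def n44661 : Q := act 0 n21268
theorem D44661 : act 0 n21268 = n44661 := rfl
theorem F70210 : act 3 n44661 = n41456 := d20_5 (iv4 D9198) (iv1 F12151) D10158 D21268 D44661 (iv4 D41456) (iv1 F31253) F30583 (iv3 D19057) (iv1 F14357)
theorem F70211 : act 1 n22125 = n44661 := d15_0 (iv0 D44661) F33493 (iv2 F34596)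
def n44662 : Q := act 1 n21268
theorem D44662 : act 1 n21268 = n44662 := rfl
theorem F70212 : act 1 n44662 = n22125 := d15_1 D44662 (iv7 F64171) F64169
def n44663 : Q := act 6 n21268
theorem D44663 : act 6 n21268 = n44663 := rfl
theorem F70213 : act 3 n44663 = n21269 := d7_1 D44663 (iv6 D21269) D21268
theorem F70214 : act 4 n44663 = n21277 := d10_1 D44663 (iv6 D21277) (iv4 F33492)
def n44664 : Q := act 5 n21269
theorem D44664 : act 5 n21269 = n44664 := rfl
theorem F70215 : act 2 n44664 = n40602 := d2_1 D44664 (iv5 D40602) (iv2 F33494)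
def n44665 : Q := act 5 n21270
theorem D44665 : act 5 n21270 = n44665 := rfl
theorem F70216 : act 2 n44665 = n41844 := d2_1 D44665 (iv5 D41844) F63544
theorem F70217 : act 3 n44665 = n42111 := d6_1 D44665 (iv5 D42111) (iv3 F63707)
def n44666 : Q := act 6 n21270
theorem D44666 : act 6 n21270 = n44666 := rfl
theorem F70218 : act 2 n44666 = n41496 := d3_1 D44666 F63983 F63544
theorem F70219 : act 3 n44666 = n41816 := d7_1 D44666 F64482 (iv3 F63707)
theorem F70220 : act 4 n44666 = n41694 := d10_1 D44666 (iv6 D41694) F63712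
theorem F70221 : act 5 n44666 = n41363 := d21_6 (iv5 F7102) (iv1 F12149) F6931 D10159 D21270 D44666 (iv1 D41363) F31155 (iv6 D10435) F7048
theorem F70222 : act 7 n41781 = n44666 := d13_0 F70221 F63771 D41781
theorem F70223 : act 1 n41511 = n44666 := d15_1 (iv0 F68710) (iv7 F70222) F64427
theorem F70224 : act 1 n44666 = n41786 := d15_1 F70223 (iv7 F64440) (iv2 F64029)
def n44667 : Q := act 5 n21271
theorem D44667 : act 5 n21271 = n44667 := rfl
theorem F70225 : act 3 n44667 = n41354 := d6_1 D44667 (iv5 D41354) F63427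
theorem F70226 : act 7 n44667 = n41844 := d13_2 F63543 D44667 (iv5 D41844)
theorem F70227 : act 6 n43188 = n44667 := d7_0 F70225 (iv6 F63740) D43188
theorem F70228 : act 0 n41365 = n43188 := d21_4 F61602 (iv1 F31163) D19482 D41365 F70227 (iv5 D44667) (iv1 D21271) D21272 F33497 D40496
def n44668 : Q := act 6 n21271
theorem D44668 : act 6 n21271 = n44668 := rfl
theorem F70229 : act 3 n44668 = n21400 := d7_1 D44668 F65798 F63427
theorem F70230 : act 4 n44668 = n41697 := d10_1 D44668 (iv6 D41697) (iv4 F63426)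
theorem F70231 : act 7 n44668 = n41789 := d14_2 F63543 D44668 (iv6 D41789) (iv7 F63981) F63983
theorem F70232 : act 0 n41697 = n43723 := d20_7 (iv4 F15838) (iv1 D10023) (iv4 F14802) (iv3 F16019) D21400 (iv3 F70229) F70230 (iv4 D43723) F32835 (iv1 F15549)
def n44669 : Q := act 0 n21272
theorem D44669 : act 0 n21272 = n44669 := rfl
def n44670 : Q := act 1 n21272
theorem D44670 : act 1 n21272 = n44670 := rfl
theorem F70233 : act 5 n22906 = n44670 := d21_6 (iv5 D4740) F6527 D9834 D20747 F66797 D22906 (iv1 D44670) (iv5 D21272) (iv6 D10159) (iv1 F12150)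
theorem F70234 : act 3 n44670 = n22918 := d6_1 F70233 (iv5 D22918) (iv3 F35976)
theorem F70235 : act 7 n41858 = n44670 := d8_0 F70234 F66832 D41858
theorem F70237 : act 2 n41858 = n44669 := d15_3 (iv0 D44669) D44670 (iv7 F70235)
theorem F70238 : act 3 n44669 = n42112 := d0_2 D41858 F70237 (iv2 F67933) F67930 F66834
def n44671 : Q := act 4 n21272
theorem D44671 : act 4 n21272 = n44671 := rfl
theorem F70239 : act 6 n44671 = n40302 := d10_2 (iv6 F33497) D44671 F61356
def n44672 : Q := act 7 n21272
theorem D44672 : act 7 n21272 = n44672 := rfl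
theorem F70241 : act 5 n44672 = n21273 := d13_1 D44672 (iv7 D21273) D21272
def n44673 : Q := act 6 n21274
theorem D44673 : act 6 n21274 = n44673 := rfl
theorem F70242 : act 2 n44673 = n41632 := d3_1 D44673 (iv6 D41632) F33499
theorem F70243 : act 4 n44673 = n41630 := d10_1 D44673 (iv6 D41630) (iv4 F33500)
def n44674 : Q := act 5 n21275
theorem D44674 : act 5 n21275 = n44674 := rfl
theorem F70244 : act 2 n44674 = n21276 := d2_1 D44674 (iv5 D21276) D21275
theorem F70245 : act 0 n44674 = n22599 := d17_2 (iv1 F34053) D44674 (iv5 D22599) (iv4 D10713) D10714 D22601 (iv5 F58716) F58717 F58708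
theorem F70246 : act 1 n44674 = n44590 := d15_0 F70117 F34062 (iv2 F70244)
def n44675 : Q := act 6 n21275
theorem D44675 : act 6 n21275 = n44675 := rfl
theorem F70247 : act 2 n44675 = n21277 := d3_1 D44675 (iv6 D21277) D21275
def n44676 : Q := act 0 n21276
theorem D44676 : act 0 n21276 = n44676 := rfl
theorem F70248 : act 5 n44676 = n21481 := d17_3 F33472 D21276 D44676 F33774 D22597 (iv0 F54816) (iv5 F58703) (iv0 D37850) (iv4 F33470)
theorem F70249 : act 2 n22599 = n44676 := d15_3 (iv0 D44676) (iv0 F70198) F70197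
theorem F70250 : act 7 n44676 = n44590 := d4_2 F70197 F70249 (iv2 F70199)
def n44677 : Q := act 4 n21276
theorem D44677 : act 4 n21276 = n44677 := rfl
def n44678 : Q := act 6 n21276
theorem D44678 : act 6 n21276 = n44678 := rfl
theorem F70251 : act 3 n44678 = n21278 := d7_1 D44678 (iv6 D21278) (iv3 F33501)
def n44679 : Q := act 0 n21277
theorem D44679 : act 0 n21277 = n44679 := rfl
theorem F70252 : act 2 n41731 = n44679 := d15_3 (iv0 D44679) (iv0 F70205) F70204
theorem F70253 : act 4 n44679 = n41730 := d1_2 D41731 F70252 (iv2 D41730)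
def n44680 : Q := act 5 n21277
theorem D44680 : act 5 n21277 = n44680 := rfl
theorem F70254 : act 3 n44680 = n21281 := d6_1 D44680 (iv5 D21281) (iv3 F33502)
def n44681 : Q := act 7 n21277
theorem D44681 : act 7 n21277 = n44681 := rfl
theorem F70255 : act 3 n44681 = n21282 := d8_1 D44681 (iv7 D21282) (iv3 F33502)
theorem F70256 : act 6 n44681 = n41998 := d14_1 D44681 F64803 (iv6 D21641) F16440 D21277
theorem F70257 : act 0 n41731 = n44681 := d20_4 (iv4 F32361) F64369 F64367 (iv3 F64368) F70255 F33503 (iv1 F63239) (iv4 F31576) (iv3 D19805) (iv1 F35816)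
def n44682 : Q := act 0 n21278
theorem D44682 : act 0 n21278 = n44682 := rfl
def n44683 : Q := act 1 n21278
theorem D44683 : act 1 n21278 = n44683 := rfl
def n44684 : Q := act 5 n21278
theorem D44684 : act 5 n21278 = n44684 := rfl
theorem F70258 : act 6 n44684 = n21281 := d12_2 D21278 D44684 (iv5 D21281) (iv6 D10162) D10161
def n44685 : Q := act 7 n21278
theorem D44685 : act 7 n21278 = n44685 := rfl
def n44686 : Q := act 3 n21279
theorem D44686 : act 3 n21279 = n44686 := rfl
theorem F70259 : act 4 n44686 = n41772 := d5_2 (iv4 F63701) D44686 (iv3 D41772) F63697 F63698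
theorem F70260 : act 0 n44686 = n41998 := d20_4 (iv4 F30850) D40686 (iv4 F63701) D44686 (iv3 D41998) (iv4 D19797) (iv1 D9301) D9303 D19805 F35853
def n44687 : Q := act 5 n21279
theorem D44687 : act 5 n21279 = n44687 := rfl
def n44688 : Q := act 6 n21279
theorem D44688 : act 6 n21279 = n44688 := rfl
theorem F70261 : act 4 n44688 = n43219 := d10_1 D44688 F67689 (iv4 F63701)
theorem F70262 : act 0 n42019 = n44688 := d18_2 (iv1 F31581) D42019 F70261 (iv5 D43219) (iv4 F63438) (iv0 F63200) (iv4 D19797) F16113 D19769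
theorem F70263 : act 1 n42018 = n44688 := d15_0 (iv0 F70262) F64866 (iv2 F64862)
def n44689 : Q := act 3 n21280
theorem D44689 : act 3 n21280 = n44689 := rfl
theorem F70264 : act 4 n44689 = n41908 := d5_2 (iv4 F63429) D44689 (iv3 D41908) (iv4 D19729) D19728
def n44690 : Q := act 5 n21280
theorem D44690 : act 5 n21280 = n44690 := rfl
def n44691 : Q := act 6 n21280
theorem D44691 : act 6 n21280 = n44691 := rfl
theorem F70265 : act 4 n44691 = n41907 := d10_1 D44691 (iv6 D41907) (iv4 F63429)
theorem F70266 : act 0 n21355 = n44691 := d20_1 (iv4 F33549) F70265 F64652 (iv1 F66176) F32835 F15404 F16049 (iv4 F16051) (iv3 F31550) F63235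
def n44692 : Q := act 0 n21281
theorem D44692 : act 0 n21281 = n44692 := rfl
def n44693 : Q := act 1 n21281
theorem D44693 : act 1 n21281 = n44693 := rfl
theorem F70267 : act 5 n44536 = n44693 := d21_6 (iv5 F33425) (iv1 D21177) (iv5 D10092) D10093 D21179 D44536 (iv1 D44693) (iv5 D21281) (iv6 D10162) (iv1 F15995)
def n44694 : Q := act 4 n21281
theorem D44694 : act 4 n21281 = n44694 := rfl
def n44695 : Q := act 7 n21281
theorem D44695 : act 7 n21281 = n44695 := rfl
theorem F70268 : act 5 n44695 = n21282 := d13_1 D44695 (iv7 D21282) D21281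
def n44696 : Q := act 3 n21289
theorem D44696 : act 3 n21289 = n44696 := rfl
theorem F70269 : act 2 n44696 = n42000 := d0_1 D44696 (iv3 D42000) F31562 D19805 (iv2 F63263)
theorem F70270 : act 4 n44696 = n44696 := d5_2 D21289 D44696 (iv3 D44696) (iv4 D21289) F63260
def n44697 : Q := act 5 n21289
theorem D44697 : act 5 n21289 = n44697 := rfl
theorem F70271 : act 2 n44697 = n42008 := d2_1 D44697 (iv5 D42008) (iv2 F63263)
def n44698 : Q := act 6 n21289
theorem D44698 : act 6 n21289 = n44698 := rfl
theorem F70272 : act 2 n44698 = n42009 := d3_1 D44698 (iv6 D42009) (iv2 F63263)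
theorem F70273 : act 4 n44698 = n21291 := d10_1 D44698 (iv6 D21291) D21289
def n44699 : Q := act 4 n21290
theorem D44699 : act 4 n21290 = n44699 := rfl
theorem F70274 : act 2 n44699 = n42028 := d1_1 D44699 (iv4 D42028) F63279
def n44700 : Q := act 4 n21293
theorem D44700 : act 4 n21293 = n44700 := rfl
theorem F70276 : act 0 n44700 = n42107 := d18_2 (iv1 F34047) D44700 (iv4 D42107) (iv5 D19855) (iv4 F16010) (iv0 F63261) (iv4 D21289) F16437 (iv5 F34044)
def n44701 : Q := act 6 n21293
theorem D44701 : act 6 n21293 = n44701 := rfl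
theorem F70279 : act 5 n44701 = n44548 := d12_1 D44701 (iv6 D44548) (iv5 D21186) D21187 F33506
def n44703 : Q := act 1 n21294
theorem D44703 : act 1 n21294 = n44703 := rfl
theorem F70280 : act 4 n44703 = n41919 := d18_7 (iv1 F63710) (iv4 F63429) (iv1 D21280) F16005 D10165 D21294 D44703 F66625 F65026
def n44704 : Q := act 3 n21294
theorem D44704 : act 3 n21294 = n44704 := rfl
theorem F70281 : act 6 n44704 = n40497 := d7_2 (iv6 F33507) D44704 (iv3 D40497)
def n44705 : Q := act 5 n21294
theorem D44705 : act 5 n21294 = n44705 := rfl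
def n44706 : Q := act 7 n21294
theorem D44706 : act 7 n21294 = n44706 := rfl
theorem F70282 : act 4 n44706 = n21295 := d11_1 D44706 (iv7 D21295) D21294
def n44707 : Q := act 4 n21296
theorem D44707 : act 4 n21296 = n44707 := rfl
theorem F70283 : act 2 n44707 = n41455 := d1_1 D44707 F63904 (iv2 F34110)
theorem F70284 : act 3 n44707 = n44045 := d5_1 D44707 (iv4 D44045) F34101 (iv4 F34100) (iv3 F34108)
theorem F70285 : act 0 n41626 = n44707 := d20_1 F64234 (iv4 D44707) F34108 (iv1 D21667) (iv3 D10343) (iv4 F7284) (iv1 F14093) D9027 D19205 D40690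
def n44708 : Q := act 5 n21296
theorem D44708 : act 5 n21296 = n44708 := rfl
theorem F70286 : act 3 n44708 = n32735 := d6_1 D44708 F51820 (iv3 F34108)
theorem F70287 : act 0 n21316 = n44708 := d20_4 (iv4 F58157) (iv1 F58158) F29071 D21316 F70286 (iv4 D32735) D32733 (iv4 F51817) F33696 D21446
def n44709 : Q := act 6 n21296
theorem D44709 : act 6 n21296 = n44709 := rfl
def n44710 : Q := act 3 n21297
theorem D44710 : act 3 n21297 = n44710 := rfl
theorem F70288 : act 4 n44710 = n40590 := d20_6 F33475 (iv1 F32386) (iv4 F33514) (iv3 F34079) (iv1 F34083) D44710 (iv1 F64173) F64170 (iv3 F34016) (iv1 F34021)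
def n44711 : Q := act 4 n21297
theorem D44711 : act 4 n21297 = n44711 := rfl
theorem F70289 : act 7 n44711 = n41455 := d11_2 (iv7 F34112) D44711 F63904
theorem F70290 : act 3 n44711 = n41344 := d20_3 F34487 (iv1 F34083) D44711 (iv1 F63687) F31254 F14418 (iv1 F6088) D8936 D19072 (iv1 F34489)
theorem F70291 : act 1 n41626 = n44711 := d15_1 (iv0 F70285) F70289 (iv2 F70283)
theorem F70292 : act 0 n44609 = n44638 := d20_4 D44711 (iv1 F70291) (iv4 F64234) (iv3 F70133) (iv3 D44638) F33475 (iv1 F32386) (iv4 F33514) (iv3 F34079) (iv1 F34083)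
def n44712 : Q := act 5 n21297
theorem D44712 : act 5 n21297 = n44712 := rfl
theorem F70293 : act 0 n44712 = n21316 := d17_2 (iv1 F34083) D44712 F33521 (iv4 F34682) (iv5 F64070) (iv0 F64073) (iv5 D40746) F34490 F34487
def n44713 : Q := act 6 n21297
theorem D44713 : act 6 n21297 = n44713 := rfl
def n44714 : Q := act 5 n21298
theorem D44714 : act 5 n21298 = n44714 := rfl
theorem F70294 : act 2 n44714 = n21299 := d2_1 D44714 (iv5 D21299) D21298
theorem F70295 : act 3 n44714 = n25582 := d6_1 D44714 F40474 F34113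
def n44715 : Q := act 6 n21298
theorem D44715 : act 6 n21298 = n44715 := rfl
theorem F70296 : act 2 n44715 = n21300 := d3_1 D44715 (iv6 D21300) D21298
theorem F70297 : act 4 n44715 = n40745 := d10_1 D44715 (iv6 D40745) (iv4 F33509)
def n44716 : Q := act 0 n21299
theorem D44716 : act 0 n21299 = n44716 := rfl
theorem F70298 : act 3 n44716 = n35952 := d20_5 (iv4 F58230) (iv1 F58231) F29092 (iv3 F33510) D44716 F56637 (iv1 D26995) (iv4 F34024) F34022 (iv1 F30955)
theorem F70299 : act 5 n23164 = n44716 := d6_0 F70298 F56636 (iv3 F36246)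
def n44717 : Q := act 1 n21299
theorem D44717 : act 1 n21299 = n44717 := rfl
def n44718 : Q := act 4 n21299
theorem D44718 : act 4 n21299 = n44718 := rfl
def n44719 : Q := act 6 n21299
theorem D44719 : act 6 n21299 = n44719 := rfl
theorem F70300 : act 3 n44719 = n21301 := d7_1 D44719 (iv6 D21301) (iv3 F33510)
def n44720 : Q := act 0 n21300
theorem D44720 : act 0 n21300 = n44720 := rfl
def n44721 : Q := act 1 n21300
theorem D44721 : act 1 n21300 = n44721 := rfl
def n44722 : Q := act 5 n21300
theorem D44722 : act 5 n21300 = n44722 := rfl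
theorem F70301 : act 3 n44722 = n21304 := d6_1 D44722 (iv5 D21304) (iv3 F33511)
def n44723 : Q := act 0 n21301
theorem D44723 : act 0 n21301 = n44723 := rfl
def n44724 : Q := act 1 n21301
theorem D44724 : act 1 n21301 = n44724 := rfl
def n44725 : Q := act 5 n21301
theorem D44725 : act 5 n21301 = n44725 := rfl
theorem F70302 : act 6 n44725 = n21304 := d12_2 D21301 D44725 (iv5 D21304) (iv6 D10169) D10168
def n44726 : Q := act 7 n21301
theorem D44726 : act 7 n21301 = n44726 := rfl
def n44727 : Q := act 0 n21304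
theorem D44727 : act 0 n21304 = n44727 := rfl
theorem F70303 : act 5 n44727 = n23520 := d17_3 (iv1 F35816) D21304 D44727 (iv4 D23520) (iv5 D11030) F63142 F16768 (iv0 F63185) D9303
theorem F70304 : act 2 n23550 = n44727 := d15_3 (iv0 D44727) (iv0 F36653) (iv7 F36660)
theorem F70305 : act 1 n42007 = n44727 := d15_0 (iv0 D44727) (iv7 F64758) (iv2 F64835)
def n44728 : Q := act 4 n21304
theorem D44728 : act 4 n21304 = n44728 := rfl
def n44729 : Q := act 3 n21306
theorem D44729 : act 3 n21306 = n44729 := rfl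
theorem F70306 : act 4 n44729 = n40591 := d20_6 F16423 F14091 F6923 D10170 D21306 D44729 (iv1 D40591) F30800 (iv3 D10333) (iv1 F16421)
theorem F70307 : act 3 n41517 = n40591 := d5_5 (iv4 F70306) (iv3 D44729) F34056 D44058 F69380
def n44730 : Q := act 6 n21306
theorem D44730 : act 6 n21306 = n44730 := rfl
theorem F70308 : act 4 n44730 = n44059 := d10_1 D44730 (iv6 D44059) (iv4 F34056)
def n44731 : Q := act 5 n21307
theorem D44731 : act 5 n21307 = n44731 := rfl
theorem F70309 : act 2 n44731 = n35954 := d2_1 D44731 F56638 (iv2 F34097)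
theorem F70310 : act 4 n44731 = n25584 := d9_1 D44731 (iv5 D25584) (iv4 D12164) (iv5 F20047) D25495 F40323 (iv4 F34056) (iv5 F56739) (iv4 D35997) (iv5 D17426) (iv4 D8179) D8180 D17427 F33105 (iv4 F33512)
theorem F70311 : act 7 n44731 = n32735 := d13_2 F34099 D44731 F51820
theorem F70312 : act 0 n44731 = n21318 := d17_2 (iv1 F34117) D44731 F33522 F17653 (iv5 F27050) F39970 F39969 F32392 (iv4 F34114)
def n44732 : Q := act 6 n21307
theorem D44732 : act 6 n21307 = n44732 := rfl
theorem F70313 : act 4 n44732 = n44060 := d10_1 D44732 (iv6 D44060) (iv4 F33512)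
def n44733 : Q := act 5 n21308
theorem D44733 : act 5 n21308 = n44733 := rfl
theorem F70314 : act 2 n44733 = n21309 := d2_1 D44733 (iv5 D21309) D21308
theorem F70315 : act 4 n44733 = n25583 := d9_1 D44733 F40476 F20156 (iv5 F12590) D17027 (iv5 F27900) (iv4 F16458) (iv5 F28369) (iv4 D17403) (iv5 D8152) F5697 (iv5 F3797) (iv4 F8872) D12150 (iv4 F33514)
theorem F70316 : act 7 n44733 = n25582 := d13_2 F34115 D44733 F40474
theorem F70317 : act 0 n44733 = n35952 := d17_2 (iv1 F34096) D44733 F56636 (iv4 F36067) (iv5 D16943) (iv0 D7903) D7905 D16949 (iv4 F34095)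
theorem F70318 : act 1 n44733 = n35951 := d17_6 D20478 F32544 (iv1 D12149) D12150 (iv4 F33514) D44733 F56634 (iv0 D23005) F17653
def n44734 : Q := act 6 n21308
theorem D44734 : act 6 n21308 = n44734 := rfl
theorem F70319 : act 2 n44734 = n21310 := d3_1 D44734 (iv6 D21310) D21308
theorem F70320 : act 4 n44734 = n25558 := d10_1 D44734 F40428 (iv4 F33514)
def n44735 : Q := act 0 n21309
theorem D44735 : act 0 n21309 = n44735 := rfl
theorem F70321 : act 5 n44735 = n23169 := d17_3 (iv1 D21307) D21309 D44735 F36257 (iv5 D15442) (iv0 F12481) F26938 D20927 (iv4 F33512)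
theorem F70322 : act 1 n25582 = n44735 := d15_0 (iv0 D44735) F33516 (iv2 F40473)
theorem F70323 : act 2 n35952 = n44735 := d2_3 F70321 (iv2 F36259) (iv5 F56636)
theorem F70324 : act 7 n35951 = n44735 := d13_0 F70321 (iv7 F36260) (iv5 F56634)
def n44736 : Q := act 1 n21309
theorem D44736 : act 1 n21309 = n44736 := rfl
theorem F70325 : act 1 n44736 = n25582 := d15_1 D44736 (iv7 F70316) F70314
theorem F70326 : act 7 n44736 = n35952 := d15_2 (iv0 D44735) D44736 F70323
theorem F70327 : act 5 n44736 = n23170 := d17_7 (iv1 F32557) (iv5 D16955) (iv1 F20118) (iv5 F26933) (iv4 F16008) D21309 D44736 F36264 F36068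
theorem F70328 : act 4 n44736 = n32622 := d17_9 F51674 F43590 (iv1 F21480) D17426 D35997 F56739 (iv0 D21306) D21309 D44736
theorem F70329 : act 2 n35951 = n44736 := d1_3 F70328 F51671 (iv4 F56635)
def n44737 : Q := act 6 n21309
theorem D44737 : act 6 n21309 = n44737 := rfl
theorem F70330 : act 3 n44737 = n21311 := d7_1 D44737 (iv6 D21311) (iv3 F33515)
theorem F70331 : act 4 n44737 = n35953 := d10_1 D44737 (iv6 D35953) (iv4 F33517)
def n44738 : Q := act 0 n21310
theorem D44738 : act 0 n21310 = n44738 := rfl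
def n44739 : Q := act 1 n21310
theorem D44739 : act 1 n21310 = n44739 := rfl
def n44740 : Q := act 5 n21310
theorem D44740 : act 5 n21310 = n44740 := rfl
theorem F70332 : act 3 n44740 = n21314 := d6_1 D44740 (iv5 D21314) (iv3 F33518)
def n44741 : Q := act 7 n21310
theorem D44741 : act 7 n21310 = n44741 := rfl
theorem F70333 : act 3 n44741 = n21315 := d8_1 D44741 (iv7 D21315) (iv3 F33518)
theorem F70334 : act 4 n44741 = n42126 := d11_1 D44741 (iv7 D42126) (iv4 F33519)
theorem F70335 : act 6 n44741 = n42006 := d14_1 D44741 F64834 (iv6 D21669) F16459 D21310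
def n44742 : Q := act 0 n21311
theorem D44742 : act 0 n21311 = n44742 := rfl
def n44743 : Q := act 1 n21311
theorem D44743 : act 1 n21311 = n44743 := rfl
def n44744 : Q := act 5 n21311
theorem D44744 : act 5 n21311 = n44744 := rfl
theorem F70336 : act 6 n44744 = n21314 := d12_2 D21311 D44744 (iv5 D21314) (iv6 D10172) D10171
def n44745 : Q := act 7 n21311
theorem D44745 : act 7 n21311 = n44745 := rfl
def n44746 : Q := act 0 n21314
theorem D44746 : act 0 n21314 = n44746 := rfl
theorem F70337 : act 5 n44746 = n23549 := d17_3 F63261 D21314 D44746 F36658 (iv5 F31609) F66747 (iv5 D10165) D10164 D21289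
theorem F70338 : act 3 n23550 = n44746 := d6_3 F70337 (iv3 D23549) D23550
def n44747 : Q := act 1 n21314
theorem D44747 : act 1 n21314 = n44747 := rfl
theorem F70339 : act 5 n44546 = n44747 := d21_6 D4622 D10173 F16011 D10855 (iv1 F66715) D44546 (iv1 D44747) (iv5 D21314) (iv6 D10172) (iv1 D4621)
def n44748 : Q := act 4 n21314
theorem D44748 : act 4 n21314 = n44748 := rfl
def n44749 : Q := act 7 n21314
theorem D44749 : act 7 n21314 = n44749 := rfl
theorem F70340 : act 5 n44749 = n21315 := d13_1 D44749 (iv7 D21315) D21314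
def n44750 : Q := act 2 n21316
theorem D44750 : act 2 n21316 = n44750 := rfl
theorem F70341 : act 5 n44750 = n22999 := d2_2 (iv5 F33521) D44750 (iv2 D22999)
def n44751 : Q := act 4 n21316
theorem D44751 : act 4 n21316 = n44751 := rfl
def n44752 : Q := act 6 n21316
theorem D44752 : act 6 n21316 = n44752 := rfl
theorem F70342 : act 3 n44752 = n21317 := d7_1 D44752 (iv6 D21317) D21316
def n44753 : Q := act 0 n21317
theorem D44753 : act 0 n21317 = n44753 := rfl
def n44754 : Q := act 1 n21317
theorem D44754 : act 1 n21317 = n44754 := rfl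
def n44755 : Q := act 5 n21317
theorem D44755 : act 5 n21317 = n44755 := rfl
theorem F70343 : act 6 n44755 = n23003 := d12_2 D21317 D44755 (iv5 D23003) (iv6 D10855) (iv5 F16011)
def n44756 : Q := act 7 n21317
theorem D44756 : act 7 n21317 = n44756 := rfl
def n44757 : Q := act 2 n21318
theorem D44757 : act 2 n21318 = n44757 := rfl
theorem F70344 : act 4 n44757 = n23934 := d1_2 F42488 D44757 (iv2 F42485)
theorem F70345 : act 5 n44757 = n23007 := d2_2 (iv5 F33522) D44757 (iv2 D23007)
theorem F70346 : act 1 n44757 = n35954 := d15_0 F56639 F34133 D44757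
theorem F70347 : act 1 n32735 = n44757 := d15_0 F70346 (iv7 F56738) F56737
def n44758 : Q := act 6 n21318
theorem D44758 : act 6 n21318 = n44758 := rfl
theorem F70348 : act 3 n44758 = n21319 := d7_1 D44758 (iv6 D21319) D21318
def n44759 : Q := act 0 n21319
theorem D44759 : act 0 n21319 = n44759 := rfl
def n44760 : Q := act 1 n21319
theorem D44760 : act 1 n21319 = n44760 := rfl
def n44761 : Q := act 5 n21319
theorem D44761 : act 5 n21319 = n44761 := rfl
theorem F70349 : act 6 n44761 = n23009 := d12_2 D21319 D44761 (iv5 D23009) (iv6 D10857) (iv5 F16012)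
def n44762 : Q := act 7 n21319
theorem D44762 : act 7 n21319 = n44762 := rfl
def n44763 : Q := act 0 n21320
theorem D44763 : act 0 n21320 = n44763 := rfl
theorem F70350 : act 1 n31919 = n44763 := d15_0 (iv0 D44763) (iv7 F34137) (iv2 F50229)
def n44764 : Q := act 1 n21320
theorem D44764 : act 1 n21320 = n44764 := rfl
def n44765 : Q := act 2 n21320
theorem D44765 : act 2 n21320 = n44765 := rfl
theorem F70351 : act 3 n44765 = n31900 := d0_2 D21320 D44765 F50206 F33974 F16398
theorem F70352 : act 4 n44765 = n31919 := d1_2 F34135 D44765 F50229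
theorem F70353 : act 7 n44765 = n31919 := d4_2 F34137 D44765 F50229
theorem F70354 : act 1 n44764 = n31919 := d15_1 D44764 (iv7 F70353) (iv2 D44765)
def n44766 : Q := act 6 n21320
theorem D44766 : act 6 n21320 = n44766 := rfl
theorem F70355 : act 3 n44766 = n21321 := d7_1 D44766 (iv6 D21321) D21320
def n44767 : Q := act 0 n21321
theorem D44767 : act 0 n21321 = n44767 := rfl
def n44768 : Q := act 1 n21321
theorem D44768 : act 1 n21321 = n44768 := rfl
def n44769 : Q := act 5 n21321
theorem D44769 : act 5 n21321 = n44769 := rfl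
def n44770 : Q := act 7 n21321
theorem D44770 : act 7 n21321 = n44770 := rfl
theorem F70356 : act 4 n44770 = n21325 := d11_1 D44770 (iv7 D21325) (iv4 F33523)
def n44771 : Q := act 2 n21322
theorem D44771 : act 2 n21322 = n44771 := rfl
theorem F70357 : act 7 n21323 = n44771 := d15_2 (iv0 D21322) D21323 (iv2 D44771)
def n44772 : Q := act 3 n21322
theorem D44772 : act 3 n21322 = n44772 := rfl
def n44773 : Q := act 4 n21322
theorem D44773 : act 4 n21322 = n44773 := rfl
def n44774 : Q := act 5 n21322
theorem D44774 : act 5 n21322 = n44774 := rfl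
def n44775 : Q := act 6 n21322
theorem D44775 : act 6 n21322 = n44775 := rfl
def n44776 : Q := act 7 n21322
theorem D44776 : act 7 n21322 = n44776 := rfl
theorem F70358 : act 2 n44776 = n21323 := d4_1 D44776 F70357 (iv2 D44771)
def n44777 : Q := act 3 n21323
theorem D44777 : act 3 n21323 = n44777 := rfl
def n44778 : Q := act 4 n21323
theorem D44778 : act 4 n21323 = n44778 := rfl
def n44779 : Q := act 5 n21323
theorem D44779 : act 5 n21323 = n44779 := rfl
def n44780 : Q := act 6 n21323
theorem D44780 : act 6 n21323 = n44780 := rfl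
def n44781 : Q := act 0 n21324
theorem D44781 : act 0 n21324 = n44781 := rfl
def n44782 : Q := act 1 n21324
theorem D44782 : act 1 n21324 = n44782 := rfl
def n44783 : Q := act 4 n21324
theorem D44783 : act 4 n21324 = n44783 := rfl
theorem F70359 : act 6 n44783 = n21337 := d10_2 (iv6 F33524) D44783 (iv4 D21337)
def n44784 : Q := act 7 n21324
theorem D44784 : act 7 n21324 = n44784 := rfl
theorem F70360 : act 5 n44784 = n21325 := d13_1 D44784 (iv7 D21325) D21324
def n44785 : Q := act 0 n21327
theorem D44785 : act 0 n21327 = n44785 := rfl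
def n44786 : Q := act 1 n21327
theorem D44786 : act 1 n21327 = n44786 := rfl
def n44787 : Q := act 2 n21327
theorem D44787 : act 2 n21327 = n44787 := rfl
theorem F70361 : act 4 n44787 = n40751 := d1_2 (iv4 F65900) D44787 (iv2 F66278)
def n44788 : Q := act 5 n21327
theorem D44788 : act 5 n21327 = n44788 := rfl
theorem F70362 : act 3 n44788 = n21329 := d6_1 D44788 (iv5 D21329) D21327
def n44789 : Q := act 6 n21327
theorem D44789 : act 6 n21327 = n44789 := rfl
theorem F70363 : act 3 n44789 = n21330 := d7_1 D44789 (iv6 D21330) D21327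
def n44790 : Q := act 0 n21329
theorem D44790 : act 0 n21329 = n44790 := rfl
theorem F70364 : act 5 n44790 = n23611 := d17_3 D10177 D21329 D44790 F36738 (iv5 F63195) (iv0 D21357) (iv5 D10184) (iv0 D4624) (iv4 F6682)
theorem F70365 : act 0 n41983 = n21330 := d21_4 D23009 (iv1 F64768) (iv5 D41982) D41983 (iv6 D21330) D21329 D44790 F70364 (iv6 D23611) (iv1 F35641)
theorem F70366 : act 1 n21333 = n44790 := d15_0 (iv0 D44790) (iv7 F70154) F70153
theorem F70367 : act 1 n44698 = n21330 := d15_0 (iv0 F70365) (iv7 F64844) (iv2 F70272)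
theorem F70368 : act 2 n23625 = n44790 := d2_3 F70364 F36737 D23625
def n44791 : Q := act 1 n21329
theorem D44791 : act 1 n21329 = n44791 := rfl
theorem F70369 : act 1 n44791 = n21333 := d15_1 D44791 (iv7 F69056) F69055
theorem F70370 : act 7 n44791 = n23625 := d15_2 (iv0 D44790) D44791 F70368
theorem F70371 : act 5 n44791 = n23551 := d17_7 (iv1 F66288) (iv5 D41245) D41243 (iv5 F66248) F35773 D21329 D44791 (iv0 F69064) (iv4 D43931)
theorem F70372 : act 0 n41962 = n21334 := d21_4 (iv5 F64846) (iv1 F64845) (iv5 D41961) D41962 (iv6 D21334) D21333 (iv1 F70369) F70371 (iv6 D23551) D23547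
def n44792 : Q := act 4 n21329
theorem D44792 : act 4 n21329 = n44792 := rfl
def n44793 : Q := act 6 n21329
theorem D44793 : act 6 n21329 = n44793 := rfl
def n44794 : Q := act 5 n21330
theorem D44794 : act 5 n21330 = n44794 := rfl
theorem F70373 : act 2 n44794 = n23190 := d2_1 D44794 (iv5 F69060) F69058
theorem F70374 : act 0 n44794 = n23152 := d17_2 F70365 D44794 (iv5 D23152) F17710 D10906 (iv0 F33559) (iv5 D21364) (iv0 F63235) (iv4 F64770)
theorem F70375 : act 0 n23192 = n44794 := d21_7 (iv5 F70167) (iv1 F70168) (iv5 F36760) F36758 F31878 (iv6 F17735) (iv5 F36295) (iv5 D44794) (iv6 D21330) (iv1 F33466)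
def n44795 : Q := act 7 n21330
theorem D44795 : act 7 n21330 = n44795 := rfl
def n44796 : Q := act 0 n21332
theorem D44796 : act 0 n21332 = n44796 := rfl
def n44797 : Q := act 1 n21332
theorem D44797 : act 1 n21332 = n44797 := rfl
def n44798 : Q := act 2 n21332
theorem D44798 : act 2 n21332 = n44798 := rfl
def n44799 : Q := act 5 n21332
theorem D44799 : act 5 n21332 = n44799 := rfl
theorem F70376 : act 3 n44799 = n21333 := d6_1 D44799 (iv5 D21333) D21332
def n44800 : Q := act 6 n21332
theorem D44800 : act 6 n21332 = n44800 := rfl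
theorem F70377 : act 3 n44800 = n21334 := d7_1 D44800 (iv6 D21334) D21332
def n44801 : Q := act 4 n21333
theorem D44801 : act 4 n21333 = n44801 := rfl
def n44802 : Q := act 6 n21333
theorem D44802 : act 6 n21333 = n44802 := rfl
def n44803 : Q := act 5 n21334
theorem D44803 : act 5 n21334 = n44803 := rfl
theorem F70378 : act 0 n44803 = n23617 := d17_2 F70372 D44803 (iv5 D23617) F17933 D11075 (iv0 F66731) (iv5 D21379) (iv0 F63297) (iv4 F64734)
theorem F70379 : act 0 n44545 = n44803 := d21_1 D44545 (iv5 D44803) (iv6 D21334) (iv1 D10178) (iv6 D4623) D4622 D10173 F16011 D10855 (iv1 F66715)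
def n44804 : Q := act 7 n21334
theorem D44804 : act 7 n21334 = n44804 := rfl
def n44805 : Q := act 3 n21335
theorem D44805 : act 3 n21335 = n44805 := rfl
def n44806 : Q := act 4 n21335
theorem D44806 : act 4 n21335 = n44806 := rfl
theorem F70380 : act 5 n44806 = n44801 := d16_1 D44806 (iv4 D44801) (iv5 D21333) (iv4 F32943) F32942 F36757 F36760 F70159 (iv2 F70158)
def n44807 : Q := act 6 n21335
theorem D44807 : act 6 n21335 = n44807 := rfl
def n44808 : Q := act 3 n21336
theorem D44808 : act 3 n21336 = n44808 := rfl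
def n44809 : Q := act 4 n21336
theorem D44809 : act 4 n21336 = n44809 := rfl
theorem F70381 : act 5 n44809 = n44792 := d9_2 F36760 D44809 (iv4 D44792) (iv5 D21329) (iv4 F35773) F66248 F66251 (iv5 F66252) D44806 F70380 (iv4 D44801) (iv5 D21333) (iv4 F32943) F32942 F36757
def n44810 : Q := act 6 n21336
theorem D44810 : act 6 n21336 = n44810 := rfl
def n44811 : Q := act 0 n21337
theorem D44811 : act 0 n21337 = n44811 := rfl
def n44812 : Q := act 1 n21337
theorem D44812 : act 1 n21337 = n44812 := rfl
def n44813 : Q := act 3 n21337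
theorem D44813 : act 3 n21337 = n44813 := rfl
def n44814 : Q := act 5 n21337
theorem D44814 : act 5 n21337 = n44814 := rfl
theorem F70382 : act 4 n44814 = n44628 := d16_2 D21337 D44814 F70167 F33464 F15991 (iv4 F33464) (iv5 F70167) (iv7 D44628) F33462
theorem F70383 : act 7 n44814 = n44627 := d16_8 (iv4 D21337) (iv5 D10179) F6682 F3218 (iv4 F6682) D10179 D21337 D44814 F70165
theorem F70384 : act 1 n44812 = n44814 := d15_1 D44812 F70383 F70165
def n44815 : Q := act 7 n21337
theorem D44815 : act 7 n21337 = n44815 := rfl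
theorem F70385 : act 2 n44815 = n44814 := d4_1 D44815 F70383 F70165
theorem F70386 : act 4 n44815 = n21338 := d11_1 D44815 (iv7 D21338) D21337
theorem F70387 : act 5 n44815 = n44627 := d13_1 D44815 (iv7 F70383) (iv5 D44814)
theorem F70388 : act 1 n44814 = n44811 := d15_0 (iv0 D44811) D44815 F70385
def n44816 : Q := act 6 n21338
theorem D44816 : act 6 n21338 = n44816 := rfl
def n44817 : Q := act 4 n21348
theorem D44817 : act 4 n21348 = n44817 := rfl
theorem F70390 : act 7 n44817 = n41332 := d11_2 F65931 D44817 (iv4 F65928)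
theorem F70391 : act 5 n44817 = n43850 := d17_5 F65854 F31335 (iv1 F65822) D21348 D44817 (iv0 D43850) (iv5 D20764) D20763 (iv4 F65857)
theorem F70392 : act 0 n44817 = n41313 := d17_0 F69023 (iv1 D43899) (iv5 D20795) F65917 (iv5 F64145) (iv0 D22877) D22879 F65873 D44817
theorem F70394 : act 6 n42451 = n44817 := d14_5 F70390 F63682 F63402 D20038 D42451
theorem F70395 : act 0 n42451 = n23450 := d21_10 F69365 (iv1 D44055) (iv5 D20924) (iv6 D9945) (iv1 F6599) D9869 D20764 D43850 (iv5 F70391) (iv6 F70394)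
theorem F70396 : act 1 n42215 = n23450 := d15_0 (iv0 F70395) (iv7 D42451) (iv2 F65173)
def n44818 : Q := act 6 n21348
theorem D44818 : act 6 n21348 = n44818 := rfl
theorem F70397 : act 3 n44818 = n21360 := d7_1 D44818 (iv6 D21360) (iv3 F33537)
theorem F70398 : act 4 n44818 = n42451 := d10_1 D44818 F70394 (iv4 D44817)
theorem F70399 : act 7 n44818 = n42445 := d14_2 F65931 D44818 (iv6 D42445) F63390 (iv6 F65930)
theorem F70400 : act 0 n44818 = n44008 := d21_10 F69237 F67917 (iv5 D19862) (iv6 D9348) (iv1 F14384) D19574 F31335 (iv1 F65822) D21348 D44818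
def n44819 : Q := act 0 n21349
theorem D44819 : act 0 n21349 = n44819 := rfl
def n44820 : Q := act 1 n21349
theorem D44820 : act 1 n21349 = n44820 := rfl
theorem F70401 : act 4 n44820 = n43946 := d17_9 (iv1 D43946) D43947 F69079 (iv5 D22488) F17225 D10684 D22501 (iv5 F65901) D44820
theorem F70402 : act 6 n43222 = n44820 := d21_3 F17015 D20387 D43222 (iv1 D44820) (iv6 D21349) D21348 (iv1 F65873) (iv5 D22879) (iv6 D10809) F63119
theorem F70403 : act 7 n44820 = n43267 := d14_2 (iv7 F67708) F70402 (iv6 D43267) (iv7 F63704) (iv6 F64482)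
theorem E8013 : n44819 = n41851 := ((c15_4 (iv0 D44819) D44820 F70403 F67839)).symm
theorem F70404 : act 1 n41851 = n21349 := (sb E8013 (iv0 D44819))
def n44821 : Q := act 7 n21349
theorem D44821 : act 7 n21349 = n44821 := rfl
theorem F70405 : act 3 n44821 = n21365 := d8_1 D44821 (iv7 D21365) (iv3 F33538)
theorem F70406 : act 5 n44821 = n23234 := d13_1 D44821 F65903 (iv5 F65901)
def n44822 : Q := act 3 n21351
theorem D44822 : act 3 n21351 = n44822 := rfl
theorem F70407 : act 4 n44822 = n43988 := d5_2 F65892 D44822 (iv3 D43988) (iv4 D20879) (iv3 F65891)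
def n44823 : Q := act 5 n21351
theorem D44823 : act 5 n21351 = n44823 := rfl
def n44824 : Q := act 0 n21353
theorem D44824 : act 0 n21353 = n44824 := rfl
def n44825 : Q := act 1 n21353
theorem D44825 : act 1 n21353 = n44825 := rfl
def n44826 : Q := act 2 n21353
theorem D44826 : act 2 n21353 = n44826 := rfl
def n44827 : Q := act 5 n21353
theorem D44827 : act 5 n21353 = n44827 := rfl
theorem F70408 : act 3 n44827 = n21354 := d6_1 D44827 (iv5 D21354) D21353
def n44828 : Q := act 6 n21353
theorem D44828 : act 6 n21353 = n44828 := rfl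
theorem F70409 : act 3 n44828 = n21355 := d7_1 D44828 (iv6 D21355) D21353
def n44829 : Q := act 0 n21354
theorem D44829 : act 0 n21354 = n44829 := rfl
theorem F70410 : act 5 n44829 = n41239 := d17_3 F66216 D21354 D44829 F62465 D41245 F66288 (iv5 D20816) F66215 (iv4 F33473)
theorem F70411 : act 1 n21374 = n44829 := d15_0 (iv0 D44829) (iv7 F70185) F70184
def n44830 : Q := act 1 n21354
theorem D44830 : act 1 n21354 = n44830 := rfl
theorem F70412 : act 1 n44830 = n21374 := d15_1 D44830 (iv7 F70178) F70177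
def n44831 : Q := act 4 n21354
theorem D44831 : act 4 n21354 = n44831 := rfl
def n44832 : Q := act 6 n21354
theorem D44832 : act 6 n21354 = n44832 := rfl
def n44833 : Q := act 1 n21355
theorem D44833 : act 1 n21355 = n44833 := rfl
def n44834 : Q := act 5 n21355
theorem D44834 : act 5 n21355 = n44834 := rfl
theorem F70413 : act 0 n44834 = n40982 := d21_7 D10124 (iv1 F33424) F33425 D21246 F66216 D21355 D44834 (iv5 D40982) (iv6 D19301) F14151
theorem F70414 : act 4 n44833 = n43934 := d17_9 (iv1 D43934) F66315 (iv1 D40995) (iv5 D19304) (iv4 F30956) D40982 (iv0 F70413) (iv5 D44834) D44833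
def n44835 : Q := act 7 n21355
theorem D44835 : act 7 n21355 = n44835 := rfl
theorem F70415 : act 4 n44835 = n21365 := d11_1 D44835 (iv7 D21365) (iv4 F33549)
def n44836 : Q := act 4 n21357
theorem D44836 : act 4 n21357 = n44836 := rfl
theorem F70417 : act 6 n44836 = n23520 := d10_2 (iv6 F63196) D44836 (iv4 D23520)
theorem F70418 : act 7 n44836 = n23611 := d11_2 (iv7 F63197) D44836 F36738
theorem F70419 : act 0 n44836 = n23624 := d17_0 F36760 (iv1 D21336) (iv5 D10179) F6682 F3218 D4625 D10189 F33558 D44836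
theorem F70420 : act 1 n44836 = n23623 := d18_6 F66287 F65622 (iv1 F66291) F36738 (iv5 F63195) D44836 (iv4 F66251) (iv0 D41243) D41245
def n44837 : Q := act 0 n21359
theorem D44837 : act 0 n21359 = n44837 := rfl
theorem F70421 : act 4 n44837 = n41245 := d18_3 F63250 D21359 D44837 (iv5 D41245) (iv4 F62465) (iv0 F66341) F36090 F63192 F17906
theorem F70422 : act 1 n21376 = n44837 := d15_0 (iv0 D44837) F63421 F63414
theorem F70423 : act 7 n41239 = n44837 := d11_0 F70421 (iv7 F63088) (iv4 F62465)
def n44838 : Q := act 1 n21359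
theorem D44838 : act 1 n21359 = n44838 := rfl
theorem F70424 : act 1 n44838 = n21376 := d15_1 D44838 (iv7 F70182) F70181
theorem F70425 : act 4 n44838 = n41236 := d18_7 (iv1 D37846) (iv4 F33473) F66216 (iv4 D10183) D10184 D21359 D44838 F66289 (iv5 F66284)
theorem F70426 : act 2 n41239 = n44838 := d1_3 F70425 F62463 (iv4 F62465)
theorem F70427 : act 6 n21451 = n44838 := d10_0 F70425 (iv6 D41236) (iv4 F63179)
def n44839 : Q := act 3 n21359
theorem D44839 : act 3 n21359 = n44839 := rfl
def n44840 : Q := act 5 n21359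
theorem D44840 : act 5 n21359 = n44840 := rfl
theorem F70428 : act 0 n44840 = n44823 := d17_2 (iv1 D44838) D44840 (iv5 D44823) (iv4 F65892) F65893 (iv0 D20812) D20816 F66290 (iv4 F70425)
theorem F70429 : act 1 n44840 = n44636 := d17_6 (iv1 D4625) F3218 D4624 D10184 D21359 D44840 (iv5 D44636) F66217 (iv4 D10188)
theorem F70430 : act 4 n44840 = n44811 := d18_5 (iv1 D23624) F17936 F63250 D21359 D44840 (iv0 D44811) (iv4 D21337) D21336 (iv5 F36760)
def n44841 : Q := act 6 n21359
theorem D44841 : act 6 n21359 = n44841 := rfl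
theorem F70431 : act 4 n44841 = n21360 := d10_1 D44841 (iv6 D21360) D21359
theorem F70432 : act 0 n44841 = n44536 := d21_10 F70267 (iv1 D44693) (iv5 D21281) (iv6 D10162) (iv1 F15995) D21246 D44636 (iv1 F70429) (iv5 D44840) D44841
def n44842 : Q := act 4 n21364
theorem D44842 : act 4 n21364 = n44842 := rfl
theorem F70433 : act 2 n44842 = n23240 := d1_1 D44842 (iv4 D23240) (iv2 F63415)
theorem F70434 : act 7 n44842 = n23235 := d11_2 (iv7 F63416) D44842 (iv4 D23235)
theorem F70435 : act 0 n44842 = n40996 := d18_2 F33560 D44842 (iv4 D40996) (iv5 D19304) (iv4 F30956) (iv0 F63075) (iv4 D23159) F17711 (iv5 F17740)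
def n44843 : Q := act 3 n21370
theorem D44843 : act 3 n21370 = n44843 := rfl
theorem F70436 : act 4 n44843 = n21373 := d5_2 D21370 D44843 (iv3 D21373) (iv4 D10188) D10187
theorem F70437 : act 7 n44843 = n40621 := d8_2 (iv7 F66228) D44843 (iv3 D40621)
def n44844 : Q := act 5 n21370
theorem D44844 : act 5 n21370 = n44844 := rfl
theorem F70438 : act 2 n44844 = n40628 := d2_1 D44844 (iv5 D40628) (iv2 F66227)
theorem F70439 : act 7 n44844 = n40623 := d13_2 (iv7 F66228) D44844 (iv5 D40623)
theorem F70440 : act 1 n40628 = n41255 := d15_0 F63092 (iv7 F70439) F70438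
def n44845 : Q := act 6 n21370
theorem D44845 : act 6 n21370 = n44845 := rfl
theorem F70441 : act 2 n44845 = n40629 := d3_1 D44845 (iv6 D40629) (iv2 F66227)
theorem F70442 : act 4 n44845 = n21372 := d10_1 D44845 (iv6 D21372) D21370
theorem F70443 : act 0 n40408 = n44845 := d20_1 (iv4 F61482) F70442 F33567 (iv1 F63240) F31551 (iv4 D9293) D9291 (iv4 F15563) (iv3 F33034) F66190
def n44846 : Q := act 0 n21371
theorem D44846 : act 0 n21371 = n44846 := rfl
theorem F70444 : act 4 n44846 = n40855 := d18_1 D44846 (iv1 F66334) (iv4 D40653) (iv5 D19190) D19189 (iv0 F66208) F31392 F65813 D21371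
theorem F70445 : act 3 n44846 = n22869 := d20_5 (iv4 F70421) (iv1 F70422) (iv4 D21376) (iv3 F33566) D44846 (iv4 F68119) (iv1 F68120) (iv4 D20827) (iv3 F32973) (iv1 F66288)
theorem F70446 : act 2 n22347 = n44846 := d15_3 (iv0 D44846) F65766 F35405
theorem F70447 : act 6 n44846 = n21881 := d3_2 D22347 F70446 F63100
def n44847 : Q := act 0 n21372
theorem D44847 : act 0 n21372 = n44847 := rfl
def n44848 : Q := act 1 n21372
theorem D44848 : act 1 n21372 = n44848 := rfl
def n44849 : Q := act 5 n21372
theorem D44849 : act 5 n21372 = n44849 := rfl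
theorem F70448 : act 3 n44849 = n21379 := d6_1 D44849 (iv5 D21379) (iv3 F33567)
theorem F70449 : act 6 n44849 = n22366 := d12_2 D21372 D44849 (iv5 D22366) (iv6 F65767) (iv5 D21371)
theorem F70450 : act 0 n22905 = n44849 := d21_1 D22905 (iv5 D44849) (iv6 D21372) (iv1 F65813) (iv6 D10440) (iv5 D4740) F6527 D9834 D20747 F66797
def n44850 : Q := act 0 n21373
theorem D44850 : act 0 n21373 = n44850 := rfl
def n44851 : Q := act 1 n21373
theorem D44851 : act 1 n21373 = n44851 := rfl
theorem F70451 : act 4 n41638 = n44851 := d20_6 F30627 (iv1 F66167) D9896 (iv3 F16553) (iv1 F62622) (iv3 F64259) (iv1 D44851) (iv4 F70436) (iv3 D44843) F66211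
theorem F70452 : act 7 n44851 = n41632 := d11_2 D41638 F70451 F64245
theorem E8014 : n44850 = n44673 := ((c15_4 (iv0 D44850) D44851 F70452 (iv2 F70242))).symm
theorem F70453 : act 1 n44673 = n21373 := (sb E8014 (iv0 D44850))
def n44852 : Q := act 2 n21373
theorem D44852 : act 2 n21373 = n44852 := rfl
def n44853 : Q := act 5 n21373
theorem D44853 : act 5 n21373 = n44853 := rfl
theorem F70454 : act 3 n44853 = n21374 := d6_1 D44853 (iv5 D21374) D21373
def n44854 : Q := act 6 n21373
theorem D44854 : act 6 n21373 = n44854 := rfl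
theorem F70455 : act 3 n44854 = n21375 := d7_1 D44854 (iv6 D21375) D21373
def n44855 : Q := act 4 n21374
theorem D44855 : act 4 n21374 = n44855 := rfl
theorem F70456 : act 5 n44855 = n44811 := d16_1 D44855 (iv4 F70430) (iv5 D44840) (iv4 D21359) (iv5 D10184) D10183 D21354 (iv7 F70185) F70184
def n44856 : Q := act 6 n21374
theorem D44856 : act 6 n21374 = n44856 := rfl
def n44857 : Q := act 0 n21375
theorem D44857 : act 0 n21375 = n44857 := rfl
def n44858 : Q := act 1 n21375
theorem D44858 : act 1 n21375 = n44858 := rfl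
def n44859 : Q := act 5 n21375
theorem D44859 : act 5 n21375 = n44859 := rfl
theorem F70457 : act 1 n44859 = n44535 := d17_6 D10094 D21186 F33569 (iv5 D21379) (iv4 F33568) D44859 (iv5 D44535) (iv0 D21179) F15951
def n44860 : Q := act 3 n21376
theorem D44860 : act 3 n21376 = n44860 := rfl
def n44861 : Q := act 5 n21376
theorem D44861 : act 5 n21376 = n44861 := rfl
theorem F70458 : act 0 n44861 = n44636 := d17_2 (iv1 F70422) D44861 (iv5 D44636) F33473 F29315 D37846 F66284 (iv0 F66287) (iv4 F70421)
theorem F70459 : act 1 n44861 = n44823 := d17_6 (iv1 F15994) F15991 (iv1 F15993) D10189 D21376 D44861 (iv5 D44823) (iv0 D21351) (iv4 D10183)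
theorem F70460 : act 4 n44861 = n44812 := d18_5 (iv1 F70420) (iv4 D44836) (iv1 F33558) D21376 D44861 F70384 F70382 F70169 F66252
theorem F70461 : act 5 n44831 = n44812 := d9_14 (iv5 D44861) (iv4 D21376) (iv5 D10189) D10188 D21374 D44855 F70456 (iv4 F70430) (iv5 D44840) (iv4 D21359) (iv5 D10184) D10183 D21354 D44831 (iv4 F70460)
def n44863 : Q := act 3 n21392
theorem D44863 : act 3 n21392 = n44863 := rfl
theorem F70462 : act 6 n44863 = n41638 := d7_2 (iv6 F66233) D44863 F64259
theorem F70463 : act 7 n44863 = n37853 := d8_2 (iv7 F66234) D44863 F58718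
def n44864 : Q := act 5 n21392
theorem D44864 : act 5 n21392 = n44864 := rfl
theorem F70464 : act 2 n44864 = n41674 := d2_1 D44864 F64294 (iv2 F66231)
theorem F70465 : act 7 n44864 = n37856 := d13_2 (iv7 F66234) D44864 (iv5 D37856)
theorem F70466 : act 0 n44864 = n41672 := d17_2 D21392 D44864 (iv5 F66130) F34981 F17216 F14396 F7154 F65750 D10194
theorem F70467 : act 1 n44864 = n41671 := d17_6 F62407 (iv5 D40547) (iv1 F30779) F29321 (iv4 F66232) D44864 F66311 F66263 (iv4 F35343)
def n44865 : Q := act 0 n21394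
theorem D44865 : act 0 n21394 = n44865 := rfl
theorem F70468 : act 5 n44865 = n22329 := d21_2 D21394 D44865 (iv6 D22329) (iv1 D10630) (iv6 D4863) D4862 (iv1 F14411) (iv5 D9222) D9223 (iv1 F66224)
theorem F70469 : act 1 n41622 = n44865 := d15_0 (iv0 D44865) (iv7 F33630) F65759
theorem F70470 : act 2 n22782 = n44865 := d2_3 F70468 F34839 D22782
def n44866 : Q := act 1 n21394
theorem D44866 : act 1 n21394 = n44866 := rfl
theorem F70471 : act 1 n44866 = n41622 := d15_1 D44866 F64231 (iv2 F65793)
theorem F70472 : act 7 n44866 = n22782 := d15_2 (iv0 D44865) D44866 F70470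
theorem F70473 : act 5 n44866 = n22783 := d17_7 F17339 (iv5 D10816) F65716 (iv5 D10195) D10194 D21394 D44866 F66255 (iv4 D22041)
def n44867 : Q := act 4 n21394
theorem D44867 : act 4 n21394 = n44867 := rfl
def n44868 : Q := act 6 n21394
theorem D44868 : act 6 n21394 = n44868 := rfl
def n44869 : Q := act 0 n21395
theorem D44869 : act 0 n21395 = n44869 := rfl
def n44870 : Q := act 1 n21395
theorem D44870 : act 1 n21395 = n44870 := rfl
def n44871 : Q := act 5 n21395
theorem D44871 : act 5 n21395 = n44871 := rfl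
theorem F70475 : act 2 n44871 = n22670 := d2_1 D44871 (iv5 F66312) (iv2 F65794)
theorem F70476 : act 3 n44871 = n41098 := d6_1 D44871 (iv5 F62529) (iv3 F33587)
theorem F70477 : act 1 n44871 = n22672 := d17_6 (iv1 F17145) (iv5 F17239) F65736 F17784 (iv4 F33588) D44871 F35228 (iv0 F62712) (iv4 D22269)
theorem F70478 : act 0 n44871 = n22297 := d21_7 D4862 (iv1 F14411) (iv5 D9222) D9223 (iv1 F66224) D21395 D44871 (iv5 D22297) (iv6 D10622) (iv1 D4860)
def n44872 : Q := act 7 n21395
theorem D44872 : act 7 n21395 = n44872 := rfl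
theorem F70479 : act 3 n44872 = n42793 := d8_1 D44872 F67064 (iv3 F33587)
theorem F70480 : act 4 n44872 = n21402 := d11_1 D44872 (iv7 D21402) (iv4 F33588)
theorem F70481 : act 6 n44872 = n41742 := d14_1 D44872 F65789 (iv6 D21418) F16038 D21395
theorem F70482 : act 5 n22669 = n44872 := d21_2 D10733 D22669 F70481 (iv1 D41742) (iv6 D19640) D19639 D41737 F64374 (iv6 D22571) (iv1 F62714)
theorem F70483 : act 7 n44871 = n22669 := d13_0 F70482 (iv7 D44872) D44871
theorem F70484 : act 0 n41777 = n44872 := d20_7 F16051 F16050 F14795 (iv3 F15541) D20868 (iv3 F67820) F67821 F70480 F33591 (iv1 F16030)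
theorem F70485 : act 1 n43260 = n37862 := d18_8 F68435 (iv4 F67622) F67624 (iv4 D22577) (iv5 F65734) (iv4 F70480) (iv0 F70484) (iv4 F67821) (iv5 F68434)
def n44873 : Q := act 0 n21398
theorem D44873 : act 0 n21398 = n44873 := rfl
theorem F70486 : act 2 n22783 = n44873 := d15_3 (iv0 D44873) F66263 D22783
theorem F70487 : act 1 n22439 = n44873 := d15_0 (iv0 D44873) (iv7 F33637) F65685
theorem F70488 : act 7 n44873 = n22329 := d15_2 (iv0 F66258) F70487 F34839
theorem F70489 : act 6 n22770 = n44873 := d21_3 D9233 D19646 (iv5 F58700) (iv1 F70487) (iv6 D22439) D22438 F66129 (iv5 D41757) (iv6 D19645) (iv1 D9232)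
def n44874 : Q := act 6 n21398
theorem D44874 : act 6 n21398 = n44874 := rfl
theorem F70490 : act 3 n44874 = n41170 := d7_1 D44874 (iv6 F68626) F68624
theorem F70491 : act 4 n44874 = n21399 := d10_1 D44874 (iv6 D21399) D21398
theorem F70492 : act 7 n44874 = n22455 := d14_2 F33637 D44874 (iv6 D22455) F65669 (iv6 F33636)
def n44875 : Q := act 1 n21399
theorem D44875 : act 1 n21399 = n44875 := rfl
theorem F70495 : act 5 n41356 = n44875 := d21_0 (iv1 D44875) (iv5 F36411) (iv6 D23308) (iv1 F65761) F17142 (iv5 D4939) (iv1 F6023) D9146 (iv6 F31133) D41356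
def n44876 : Q := act 4 n21400
theorem D44876 : act 4 n21400 = n44876 := rfl
theorem F70498 : act 2 n44876 = n41854 := d1_1 D44876 F64523 (iv2 F65796)
theorem F70499 : act 6 n44876 = n41353 := d10_2 (iv6 F65798) D44876 (iv4 D41353)
theorem F70500 : act 7 n44876 = n41813 := d11_2 (iv7 F65799) D44876 F64475
theorem F70501 : act 1 n41854 = n22012 := d15_0 (iv0 F64476) (iv7 F70500) F70498
def n44877 : Q := act 3 n21401
theorem D44877 : act 3 n21401 = n44877 := rfl
theorem F70502 : act 6 n44877 = n41486 := d7_2 (iv6 F65803) D44877 F63949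
theorem F70503 : act 7 n44877 = n41851 := d8_2 (iv7 F65804) D44877 F64522
theorem F70504 : act 2 n44820 = n44877 := d4_3 F70503 (iv2 F67839) (iv7 F70403)
def n44878 : Q := act 4 n21401
theorem D44878 : act 4 n21401 = n44878 := rfl
theorem F70505 : act 2 n44878 = n41813 := d1_1 D44878 F64475 (iv2 F65801)
theorem F70506 : act 6 n44878 = n41492 := d10_2 (iv6 F65803) D44878 (iv4 D41492)
theorem F70507 : act 7 n44878 = n41854 := d11_2 (iv7 F65804) D44878 F64523
def n44879 : Q := act 0 n21417
theorem D44879 : act 0 n21417 = n44879 := rfl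
theorem F70508 : act 2 n44866 = n44879 := d15_3 (iv0 D44879) (iv0 F66262) (iv7 F70472)
theorem F70509 : act 1 n22038 = n44879 := d15_0 (iv0 D44879) F33630 F65793
theorem F70510 : act 7 n44879 = n44865 := d15_2 F66266 F70509 (iv2 F70470)
theorem F70511 : act 5 n44879 = n44873 := d17_7 (iv1 F65717) F17319 (iv1 F17367) (iv5 D10501) D10500 D22038 F70509 (iv0 D44873) (iv4 D21398)
def n44880 : Q := act 4 n21417
theorem D44880 : act 4 n21417 = n44880 := rfl
theorem F70512 : act 7 n44880 = n44867 := d11_2 (iv7 F33630) D44880 (iv4 D44867)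
def n44881 : Q := act 6 n21417
theorem D44881 : act 6 n21417 = n44881 := rfl
theorem F70513 : act 3 n44881 = n44295 := d7_1 D44881 (iv6 D44295) (iv3 F33629)
def n44882 : Q := act 0 n21418
theorem D44882 : act 0 n21418 = n44882 := rfl
def n44883 : Q := act 5 n21418
theorem D44883 : act 5 n21418 = n44883 := rfl
theorem F70514 : act 3 n44883 = n44296 := d6_1 D44883 (iv5 D44296) (iv3 F33631)
def n44884 : Q := act 5 n21421
theorem D44884 : act 5 n21421 = n44884 := rfl
theorem F70516 : act 3 n44884 = n43668 := d6_1 D44884 (iv5 D43668) (iv3 F33635)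
theorem F70517 : act 7 n44884 = n41671 := d13_2 (iv7 F33637) D44884 F66311
theorem F70518 : act 0 n44884 = n37856 := d17_2 F66254 D44884 (iv5 D37856) F29320 F13395 F66160 D20838 F66076 F62397
theorem F70519 : act 1 n44884 = n41674 := d17_6 (iv1 F14402) F14398 F65724 D10203 D21421 D44884 F64294 (iv0 F66218) (iv4 D10500)
def n44885 : Q := act 4 n21424
theorem D44885 : act 4 n21424 = n44885 := rfl
theorem F70520 : act 6 n44885 = n23099 := d10_2 (iv6 F33639) D44885 (iv4 D23099)
def n44887 : Q := act 0 n21426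
theorem D44887 : act 0 n21426 = n44887 := rfl
def n44888 : Q := act 1 n21426
theorem D44888 : act 1 n21426 = n44888 := rfl
theorem F70522 : act 1 n44888 = n44478 := d15_1 D44888 (iv7 D44478) (iv2 F33644)
def n44889 : Q := act 7 n21426
theorem D44889 : act 7 n21426 = n44889 := rfl
theorem F70523 : act 2 n44889 = n44478 := d4_1 D44889 (iv7 D44478) (iv2 F33644)
theorem F70524 : act 3 n44889 = n27330 := d8_1 D44889 (iv7 D27330) (iv3 F33645)
theorem F70525 : act 5 n44889 = n44889 := d13_1 D44889 (iv7 D44889) F33646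
theorem F70526 : act 6 n44889 = n40684 := d14_1 D44889 (iv7 D40684) (iv6 D19202) (iv7 F16125) D21426
theorem F70527 : act 1 n44478 = n44887 := d15_0 (iv0 D44887) D44889 F70523
theorem F70528 : act 1 n44477 = n44889 := d15_1 D44477 (iv7 D44889) F33644
theorem F70529 : act 1 n44889 = n44476 := d15_0 (iv0 D44476) D44478 (iv2 F70523)
def n44890 : Q := act 0 n21427
theorem D44890 : act 0 n21427 = n44890 := rfl
def n44891 : Q := act 1 n21427
theorem D44891 : act 1 n21427 = n44891 := rfl
theorem F70530 : act 1 n44891 = n40684 := d15_1 D44891 (iv7 D40684) (iv2 F33647)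
def n44892 : Q := act 5 n21427
theorem D44892 : act 5 n21427 = n44892 := rfl
theorem F70531 : act 2 n44892 = n40683 := d2_1 D44892 (iv5 D40683) (iv2 F33647)
theorem F70533 : act 6 n44892 = n21428 := d12_2 D21427 D44892 (iv5 D21428) (iv6 D10209) D10208
def n44893 : Q := act 7 n21427
theorem D44893 : act 7 n21427 = n44893 := rfl
theorem F70535 : act 3 n44893 = n35209 := d8_1 D44893 (iv7 D35209) (iv3 F33648)
theorem F70536 : act 6 n44893 = n44478 := d14_1 D44893 (iv7 D44478) (iv6 D21155) (iv7 F16130) D21427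
theorem F70538 : act 1 n40682 = n44893 := d15_1 D40682 (iv7 D44893) F33647
def n44895 : Q := act 0 n21429
theorem D44895 : act 0 n21429 = n44895 := rfl
def n44896 : Q := act 1 n21429
theorem D44896 : act 1 n21429 = n44896 := rfl
theorem F70544 : act 1 n44896 = n44490 := d15_1 D44896 (iv7 D44490) (iv2 F33654)
def n44897 : Q := act 7 n21429
theorem D44897 : act 7 n21429 = n44897 := rfl
theorem F70545 : act 2 n44897 = n44490 := d4_1 D44897 (iv7 D44490) (iv2 F33654)
theorem F70546 : act 6 n44897 = n44484 := d14_1 D44897 (iv7 D44484) (iv6 D21157) F16140 D21429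
theorem F70547 : act 1 n44490 = n44895 := d15_0 (iv0 D44895) D44897 F70545
theorem F70548 : act 1 n44488 = n44897 := d15_1 D44488 (iv7 D44897) F33654
theorem F70549 : act 1 n44897 = n44487 := d15_0 (iv0 D44487) D44490 (iv2 F70545)
def n44898 : Q := act 0 n21430
theorem D44898 : act 0 n21430 = n44898 := rfl
def n44899 : Q := act 1 n21430
theorem D44899 : act 1 n21430 = n44899 := rfl
theorem F70550 : act 1 n44899 = n44484 := d15_1 D44899 (iv7 D44484) (iv2 F33655)
def n44900 : Q := act 5 n21430
theorem D44900 : act 5 n21430 = n44900 := rfl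
theorem F70551 : act 2 n44900 = n44483 := d2_1 D44900 (iv5 D44483) (iv2 F33655)
theorem F70552 : act 3 n44900 = n35238 := d6_1 D44900 F55973 (iv3 F33656)
theorem F70553 : act 6 n44900 = n21476 := d12_2 D21430 D44900 (iv5 D21476) (iv6 F16941) (iv5 F16143)
def n44901 : Q := act 7 n21430
theorem D44901 : act 7 n21430 = n44901 := rfl
theorem F70554 : act 2 n44901 = n44484 := d4_1 D44901 (iv7 D44484) (iv2 F33655)
theorem F70555 : act 3 n44901 = n39949 := d8_1 D44901 (iv7 D39949) (iv3 F33656)
theorem F70556 : act 6 n44901 = n44490 := d14_1 D44901 (iv7 D44490) (iv6 D21159) (iv7 F16142) D21430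
theorem F70557 : act 1 n44484 = n44898 := d15_0 (iv0 D44898) D44901 F70554
theorem F70559 : act 1 n44901 = n44481 := d15_0 (iv0 D44481) D44484 (iv2 F70554)
def n44902 : Q := act 0 n21431
theorem D44902 : act 0 n21431 = n44902 := rfl
theorem F70560 : act 1 n38909 = n44902 := d15_0 (iv0 D44902) F33658 D38909
def n44903 : Q := act 1 n21431
theorem D44903 : act 1 n21431 = n44903 := rfl
def n44904 : Q := act 2 n21431
theorem D44904 : act 2 n21431 = n44904 := rfl
theorem F70561 : act 3 n44904 = n38917 := d0_2 D21431 D44904 (iv2 D38917) (iv3 D18484) (iv2 F16146)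
theorem F70562 : act 4 n44904 = n38281 := d1_2 (iv4 F33657) D44904 (iv2 D38281)
theorem F70563 : act 7 n44904 = n38909 := d4_2 (iv7 F33658) D44904 (iv2 D38909)
theorem F70564 : act 1 n44904 = n38907 := d15_0 (iv0 D38907) (iv7 F33658) D44904
theorem F70565 : act 1 n44903 = n38909 := d15_1 D44903 (iv7 F70563) (iv2 D44904)
theorem F70566 : act 1 n38908 = n44904 := d15_1 D38908 F70563 (iv2 D38909)
def n44905 : Q := act 5 n21431
theorem D44905 : act 5 n21431 = n44905 := rfl
theorem F70567 : act 3 n44905 = n21432 := d6_1 D44905 (iv5 D21432) D21431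
theorem F70568 : act 7 n44905 = n37339 := d13_2 (iv7 F33658) D44905 F58274
def n44906 : Q := act 6 n21431
theorem D44906 : act 6 n21431 = n44906 := rfl
theorem F70569 : act 3 n44906 = n21433 := d7_1 D44906 (iv6 D21433) D21431
theorem F70570 : act 4 n44906 = n38282 := d10_1 D44906 (iv6 D38282) (iv4 F33657)
theorem F70571 : act 7 n39543 = n44906 := d8_0 F70569 F59761 D39543
def n44907 : Q := act 6 n21432
theorem D44907 : act 6 n21432 = n44907 := rfl
theorem F70572 : act 2 n44907 = n37342 := d3_1 D44907 (iv6 D37342) (iv2 F33659)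
theorem F70573 : act 4 n44907 = n21485 := d10_1 D44907 (iv6 D21485) (iv4 F33661)
def n44908 : Q := act 5 n21433
theorem D44908 : act 5 n21433 = n44908 := rfl
theorem F70575 : act 7 n44908 = n39544 := d13_2 (iv7 F59761) D44908 (iv5 D39544)
def n44909 : Q := act 2 n21434
theorem D44909 : act 2 n21434 = n44909 := rfl
theorem F70576 : act 7 n21435 = n44909 := d15_2 (iv0 D21434) D21435 (iv2 D44909)
def n44910 : Q := act 5 n21434
theorem D44910 : act 5 n21434 = n44910 := rfl
def n44911 : Q := act 7 n21434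
theorem D44911 : act 7 n21434 = n44911 := rfl
theorem F70577 : act 2 n44911 = n21435 := d4_1 D44911 F70576 (iv2 D44909)
def n44912 : Q := act 3 n21435
theorem D44912 : act 3 n21435 = n44912 := rfl
def n44913 : Q := act 4 n21435
theorem D44913 : act 4 n21435 = n44913 := rfl
def n44914 : Q := act 6 n21435
theorem D44914 : act 6 n21435 = n44914 := rfl
def n44915 : Q := act 0 n21437
theorem D44915 : act 0 n21437 = n44915 := rfl
theorem F70578 : act 4 n44915 = n22593 := d20_2 (iv4 F33672) D44915 (iv3 D22593) (iv1 D10711) (iv3 D4900) D4901 (iv1 F13382) (iv4 F17108) D22233 F34684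
theorem F70579 : act 1 n40976 = n44915 := d15_0 (iv0 D44915) F33673 D40976
def n44916 : Q := act 1 n21437
theorem D44916 : act 1 n21437 = n44916 := rfl
theorem F70580 : act 4 n41101 = n44916 := d20_6 F17803 F15464 F6980 D9083 D19341 D41101 (iv1 D44916) F33672 (iv3 D10966) (iv1 F17801)
theorem F70581 : act 0 n40976 = n44916 := d20_1 (iv4 F62123) (iv4 F70580) (iv3 D41101) (iv1 F30982) (iv3 F30969) (iv4 F32574) (iv1 F32573) (iv4 F65388) F65387 (iv1 F34944)
def n44917 : Q := act 2 n21437
theorem D44917 : act 2 n21437 = n44917 := rfl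
theorem F70582 : act 3 n44917 = n21481 := d0_2 D21437 D44917 (iv2 F33772) F17240 F16161
theorem F70583 : act 4 n44917 = n22385 := d1_2 (iv4 F33672) D44917 F34939
theorem F70584 : act 7 n44917 = n40976 := d4_2 (iv7 F33673) D44917 (iv2 D40976)
theorem F70585 : act 1 n44917 = n40974 := d15_0 (iv0 D40974) (iv7 F33673) D44917
theorem F70586 : act 1 n40975 = n44917 := d15_1 D40975 F70584 (iv2 D40976)
def n44918 : Q := act 6 n21437
theorem D44918 : act 6 n21437 = n44918 := rfl
theorem F70587 : act 3 n44918 = n21438 := d7_1 D44918 (iv6 D21438) D21437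
theorem F70588 : act 4 n44918 = n23343 := d10_1 D44918 (iv6 D23343) (iv4 F33672)
def n44919 : Q := act 5 n21438
theorem D44919 : act 5 n21438 = n44919 := rfl
theorem F70589 : act 2 n44919 = n44515 := d2_1 D44919 (iv5 D44515) (iv2 F33674)
def n44920 : Q := act 6 n21439
theorem D44920 : act 6 n21439 = n44920 := rfl
theorem F70590 : act 2 n44920 = n44591 := d3_1 D44920 (iv6 D44591) (iv2 F33679)
theorem F70591 : act 3 n44920 = n21440 := d7_1 D44920 (iv6 D21440) D21439
theorem F70592 : act 4 n44920 = n22293 := d10_1 D44920 (iv6 D22293) (iv4 F33676)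
def n44921 : Q := act 5 n21440
theorem D44921 : act 5 n21440 = n44921 := rfl
theorem F70593 : act 2 n44921 = n40982 := d2_1 D44921 (iv5 D40982) (iv2 F33680)
def n44922 : Q := act 7 n21440
theorem D44922 : act 7 n21440 = n44922 := rfl
theorem F70594 : act 2 n44922 = n23205 := d4_1 D44922 F62534 (iv2 F33680)
theorem F70595 : act 4 n44922 = n40973 := d11_1 D44922 (iv7 D40973) (iv4 F33681)
theorem F70596 : act 6 n44922 = n44516 := d14_1 D44922 (iv7 D44516) (iv6 D21171) (iv7 F16164) D21440
theorem F70597 : act 1 n23159 = n44922 := d15_1 (iv0 F63075) (iv7 D44922) F33680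
theorem F70598 : act 1 n44922 = n23156 := d15_1 F70597 F62810 (iv2 F62798)
def n44923 : Q := act 6 n21441
theorem D44923 : act 6 n21441 = n44923 := rfl
theorem F70599 : act 2 n44923 = n44520 := d3_1 D44923 (iv6 D44520) F33685
theorem F70600 : act 3 n44923 = n44517 := d7_1 D44923 (iv6 D44517) (iv3 F33683)
theorem F70601 : act 4 n44923 = n43359 := d10_1 D44923 (iv6 D43359) (iv4 F33682)
def n44924 : Q := act 3 n21442
theorem D44924 : act 3 n21442 = n44924 := rfl
theorem F70602 : act 2 n44924 = n44518 := d0_1 D44924 (iv3 D44518) F33685 F33683 (iv2 F33689)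
theorem F70603 : act 4 n44924 = n44518 := d5_2 F33688 D44924 (iv3 D44518) (iv4 F33419) F32547
theorem F70604 : act 7 n44924 = n44518 := d8_2 (iv7 F33687) D44924 (iv3 D44518)
def n44925 : Q := act 6 n21442
theorem D44925 : act 6 n21442 = n44925 := rfl
theorem F70605 : act 2 n44925 = n44517 := d3_1 D44925 (iv6 D44517) (iv2 F33689)
theorem F70606 : act 4 n44925 = n43357 := d10_1 D44925 (iv6 D43357) F33688
def n44926 : Q := act 5 n21443
theorem D44926 : act 5 n21443 = n44926 := rfl
theorem F70607 : act 2 n44926 = n21444 := d2_1 D44926 (iv5 D21444) D21443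
theorem F70608 : act 3 n44926 = n44592 := d6_1 D44926 (iv5 D44592) (iv3 F33691)
theorem F70609 : act 4 n44926 = n35995 := d9_1 D44926 F56727 F37537 F18338 (iv4 F20055) (iv5 F27047) (iv4 F15950) D21175 F56736 F56733 (iv4 D28091) (iv5 F28405) D35992 F56708 (iv4 F33692)
theorem F70610 : act 7 n44926 = n44521 := d13_2 (iv7 F33693) D44926 (iv5 D44521)
theorem F70611 : act 0 n44926 = n35947 := d17_2 (iv1 F33694) D44926 F56628 F33475 (iv5 F40016) (iv0 F40018) (iv5 D19955) (iv0 F31792) (iv4 F33418)
theorem F70612 : act 1 n44926 = n34866 := d17_6 D20926 (iv5 F40323) (iv1 F56710) F56708 (iv4 F33692) D44926 F55142 (iv0 D21247) F15997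
def n44927 : Q := act 6 n21443
theorem D44927 : act 6 n21443 = n44927 := rfl
theorem F70613 : act 2 n44927 = n21445 := d3_1 D44927 (iv6 D21445) D21443
theorem F70614 : act 3 n44927 = n44593 := d7_1 D44927 (iv6 D44593) (iv3 F33691)
theorem F70615 : act 4 n44927 = n42389 := d10_1 D44927 (iv6 D42389) (iv4 F33692)
def n44928 : Q := act 0 n21444
theorem D44928 : act 0 n21444 = n44928 := rfl
theorem F70616 : act 5 n44928 = n21611 := d17_1 D44928 (iv1 F34014) D34945 F55312 (iv5 D32732) F25135 D17405 F51815 (iv4 F51817)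
theorem F70617 : act 4 n44928 = n25542 := d18_1 D44928 (iv1 F42490) F42488 F33522 F17653 D20479 (iv4 F33682) (iv0 D21441) D21444
theorem F70618 : act 3 n44928 = n34866 := d20_5 D10348 (iv1 F33712) (iv4 D21448) (iv3 F33696) D44928 (iv4 D34866) (iv1 F37358) F37357 (iv3 D21677) (iv1 D10347)
theorem F70619 : act 1 n44521 = n44928 := d15_0 (iv0 D44928) F33697 (iv2 F70040)
theorem F70620 : act 2 n35947 = n44928 := d1_3 F70617 F40379 D35947
theorem F70621 : act 7 n34866 = n44928 := d11_0 F70617 F40381 D34866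
def n44929 : Q := act 1 n21444
theorem D44929 : act 1 n21444 = n44929 := rfl
theorem F70622 : act 1 n44929 = n44521 := d15_1 D44929 (iv7 F70610) F70607
theorem F70623 : act 7 n44929 = n35947 := d15_2 (iv0 D44928) D44929 F70620
theorem F70624 : act 5 n44929 = n21612 := d17_7 D16948 (iv5 F28374) (iv1 F31843) (iv5 D20014) (iv4 F16167) D21444 D44929 F34020 (iv4 D16950)
theorem F70625 : act 4 n44929 = n25580 := d17_9 (iv1 F55100) (iv5 D34839) (iv1 D16890) D16892 D34840 F55103 (iv0 D21441) D21444 D44929
theorem F70626 : act 2 n34866 = n44929 := d1_3 F70625 F40467 D34866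
def n44930 : Q := act 6 n21444
theorem D44930 : act 6 n21444 = n44930 := rfl
theorem F70627 : act 3 n44930 = n21449 := d7_1 D44930 (iv6 D21449) (iv3 F33696)
def n44931 : Q := act 0 n21445
theorem D44931 : act 0 n21445 = n44931 := rfl
def n44932 : Q := act 1 n21445
theorem D44932 : act 1 n21445 = n44932 := rfl
def n44933 : Q := act 5 n21445
theorem D44933 : act 5 n21445 = n44933 := rfl
theorem F70628 : act 3 n44933 = n21452 := d6_1 D44933 (iv5 D21452) (iv3 F33698)
def n44934 : Q := act 3 n21446
theorem D44934 : act 3 n21446 = n44934 := rfl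
theorem F70629 : act 5 n44934 = n21608 := d6_2 (iv5 F33700) D44934 (iv3 D21608)
theorem F70630 : act 7 n44934 = n40693 := d8_2 F33703 D44934 F61808
def n44935 : Q := act 6 n21446
theorem D44935 : act 6 n21446 = n44935 := rfl
theorem F70631 : act 2 n44935 = n44529 := d3_1 D44935 (iv6 D44529) F33702
def n44936 : Q := act 6 n21447
theorem D44936 : act 6 n21447 = n44936 := rfl
theorem F70632 : act 2 n44936 = n40696 := d3_1 D44936 (iv6 D40696) F33707
def n44937 : Q := act 3 n21448
theorem D44937 : act 3 n21448 = n44937 := rfl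
theorem F70633 : act 4 n44937 = n23771 := d5_2 D21448 D44937 F51816 (iv4 F51817) F33696
theorem F70634 : act 5 n44937 = n21470 := d6_2 (iv5 F33709) D44937 (iv3 D21470)
theorem F70635 : act 7 n44937 = n37341 := d8_2 (iv7 F33710) D44937 (iv3 D37341)
def n44938 : Q := act 6 n21448
theorem D44938 : act 6 n21448 = n44938 := rfl
theorem F70636 : act 2 n44938 = n37340 := d3_1 D44938 (iv6 D37340) (iv2 F33708)
theorem F70637 : act 4 n44938 = n21449 := d10_1 D44938 (iv6 D21449) D21448
def n44939 : Q := act 0 n21449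
theorem D44939 : act 0 n21449 = n44939 := rfl
def n44940 : Q := act 1 n21449
theorem D44940 : act 1 n21449 = n44940 := rfl
theorem F70638 : act 1 n44940 = n44602 := d15_1 D44940 (iv7 D44602) (iv2 F33713)
def n44941 : Q := act 5 n21449
theorem D44941 : act 5 n21449 = n44941 := rfl
theorem F70639 : act 2 n44941 = n44601 := d2_1 D44941 (iv5 D44601) (iv2 F33713)
theorem F70640 : act 6 n44941 = n21452 := d12_2 D21449 D44941 (iv5 D21452) (iv6 D10222) D10221
def n44942 : Q := act 7 n21449
theorem D44942 : act 7 n21449 = n44942 := rfl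
theorem F70641 : act 2 n44942 = n44602 := d4_1 D44942 (iv7 D44602) (iv2 F33713)
theorem F70642 : act 6 n44942 = n44533 := d14_1 D44942 (iv7 D44533) (iv6 D21178) (iv7 F16170) D21449
theorem F70643 : act 1 n44602 = n44939 := d15_0 (iv0 D44939) D44942 F70641
theorem F70644 : act 1 n44600 = n44942 := d15_1 D44600 (iv7 D44942) F33713
theorem F70645 : act 1 n44942 = n44599 := d15_0 (iv0 D44599) D44602 (iv2 F70641)
def n44943 : Q := act 3 n21450
theorem D44943 : act 3 n21450 = n44943 := rfl
theorem F70646 : act 4 n44943 = n40862 := d5_2 (iv4 F63174) D44943 (iv3 D40862) (iv4 D19261) D19260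
theorem F70647 : act 7 n44943 = n41237 := d8_2 (iv7 F63176) D44943 (iv3 D41237)
def n44944 : Q := act 5 n21450
theorem D44944 : act 5 n21450 = n44944 := rfl
theorem F70648 : act 2 n44944 = n44603 := d2_1 D44944 (iv5 D44603) F63145
theorem F70649 : act 7 n44944 = n41238 := d13_2 (iv7 F63176) D44944 (iv5 D41238)
def n44945 : Q := act 3 n21451
theorem D44945 : act 3 n21451 = n44945 := rfl
theorem F70650 : act 4 n44945 = n22326 := d5_2 (iv4 F63179) D44945 (iv3 D22326) D22327 (iv3 F34834)
theorem F70651 : act 7 n44945 = n22755 := d8_2 F63148 D44945 (iv3 F63146)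
theorem F70652 : act 0 n44945 = n21484 := d20_4 D23523 (iv1 F36644) (iv4 F63179) D44945 F33783 F16223 (iv1 F66773) (iv4 F17900) (iv3 D11034) D11032
def n44946 : Q := act 5 n21451
theorem D44946 : act 5 n21451 = n44946 := rfl
theorem F70653 : act 2 n44946 = n41238 := d2_1 D44946 (iv5 D41238) (iv2 F63178)
theorem F70654 : act 7 n44946 = n44603 := d13_2 F63148 D44946 (iv5 D44603)
def n44947 : Q := act 0 n21452
theorem D44947 : act 0 n21452 = n44947 := rfl
theorem F70655 : act 1 n23603 = n44947 := d15_0 (iv0 D44947) F63181 (iv2 F36719)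
def n44948 : Q := act 1 n21452
theorem D44948 : act 1 n21452 = n44948 := rfl
theorem F70656 : act 1 n44948 = n23603 := d15_1 D44948 (iv7 F63151) (iv2 F33715)
theorem F70657 : act 5 n44948 = n44688 := d17_7 (iv1 D19809) (iv5 D9304) F63185 (iv5 F16768) (iv4 F16172) D21452 D44948 (iv0 F70262) (iv4 D42019)
def n44949 : Q := act 4 n21452
theorem D44949 : act 4 n21452 = n44949 := rfl
theorem F70658 : act 2 n44949 = n44607 := d1_1 D44949 (iv4 D44607) (iv2 F33715)
def n44950 : Q := act 5 n21463
theorem D44950 : act 5 n21463 = n44950 := rfl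
theorem F70659 : act 2 n44950 = n22259 := d2_1 D44950 (iv5 D22259) (iv2 F33731)
theorem F70660 : act 3 n44950 = n22478 := d6_1 D44950 (iv5 D22478) (iv3 F33732)
theorem F70662 : act 4 n44950 = n43733 := d18_5 F62486 D9808 (iv1 F62731) (iv4 F33733) D44950 (iv0 D43733) (iv4 D20716) F66126 F30968
theorem F70663 : act 0 n23239 = n44950 := d21_7 (iv5 D4738) (iv1 D1962) D1965 D4748 D10448 D21911 (iv5 F65883) (iv5 D44950) (iv6 D21463) (iv1 F16200)
theorem F70664 : act 0 n41789 = n21911 := d17_0 (iv5 F65883) F70663 (iv5 D44950) F33733 D22681 (iv0 F69152) (iv5 D43980) D43979 (iv4 F69145)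
theorem E8015 : n43733 = n42876 := (c1_1 F70662 (iv2 F67287) F67288 (iv2 F70659))
theorem F70665 : act 0 n42876 = n43717 := (sb E8015 (iv1 F68753))
theorem F70666 : act 1 n42876 = n20716 := (sb E8015 (iv0 D43733))
theorem F70667 : act 4 n42876 = n44950 := (sb E8015 (iv4 F70662))
theorem F70668 : act 7 n43734 = n42938 := d15_2 F70666 D43734 F67287
def n44951 : Q := act 5 n21464
theorem D44951 : act 5 n21464 = n44951 := rfl
theorem F70670 : act 2 n44951 = n22905 := d2_1 D44951 (iv5 D22905) (iv2 F66808)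
def n44952 : Q := act 6 n21464
theorem D44952 : act 6 n21464 = n44952 := rfl
theorem F70672 : act 2 n44952 = n22906 := d3_1 D44952 (iv6 D22906) (iv2 F66808)
theorem F70673 : act 3 n44952 = n43826 := d7_1 D44952 (iv6 D43826) (iv3 F66803)
theorem F70674 : act 4 n44952 = n22702 := d10_1 D44952 (iv6 D22702) (iv4 F66804)
theorem F70675 : act 0 n42764 = n22702 := d20_7 F65564 (iv1 F66870) F63637 (iv3 D19446) F15269 (iv3 F32045) (iv4 F67007) (iv4 F70674) F70673 (iv1 F68882)
theorem F70676 : act 1 n42752 = n22702 := d15_0 (iv0 F70675) (iv7 D42764) (iv2 F66980)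
def n44953 : Q := act 5 n21465
theorem D44953 : act 5 n21465 = n44953 := rfl
theorem F70677 : act 3 n44953 = n21870 := d6_1 D44953 (iv5 D21870) F66814
theorem F70678 : act 7 n44953 = n22905 := d13_2 (iv7 F66812) D44953 (iv5 D22905)
theorem F70679 : act 6 n43134 = n44953 := d7_0 F70677 (iv6 F34328) D43134
theorem F70680 : act 0 n42592 = n43134 := d21_4 (iv5 D19479) (iv1 F17588) D20105 D42592 F70679 (iv5 D44953) (iv1 D21465) D21466 F33735 (iv1 F31157)
def n44954 : Q := act 6 n21465
theorem D44954 : act 6 n21465 = n44954 := rfl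
theorem F70681 : act 3 n44954 = n21871 := d7_1 D44954 (iv6 D21871) F66814
theorem F70682 : act 4 n44954 = n22706 := d10_1 D44954 (iv6 D22706) (iv4 F66813)
theorem F70683 : act 0 n22706 = n43669 := d20_7 F15304 F14203 (iv4 F14796) F62703 (iv1 F35430) (iv3 F70681) F70682 F68625 F32773 F15314
def n44955 : Q := act 0 n21466
theorem D44955 : act 0 n21466 = n44955 := rfl
theorem F70684 : act 2 n22935 = n44955 := d15_3 (iv0 D44955) (iv0 F64448) (iv7 F64449)
theorem F70685 : act 3 n44955 = n43827 := d0_2 D22935 F70684 (iv2 F68884) F68455 F63525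
theorem F70686 : act 4 n23429 = n44955 := d20_8 F68465 (iv1 F66897) (iv4 D23490) (iv3 D11012) (iv1 D5016) (iv3 F7424) D10989 D23429 F70685 (iv1 F68886)
def n44956 : Q := act 4 n21466
theorem D44956 : act 4 n21466 = n44956 := rfl
theorem F70687 : act 6 n44956 = n21469 := d10_2 (iv6 F33735) D44956 (iv4 D21469)
def n44957 : Q := act 7 n21466
theorem D44957 : act 7 n21466 = n44957 := rfl
theorem F70688 : act 3 n44957 = n21503 := d8_1 D44957 (iv7 D21503) (iv3 F33734)
theorem F70689 : act 5 n44957 = n21467 := d13_1 D44957 (iv7 D21467) D21466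
theorem F70690 : act 6 n44957 = n44672 := d14_1 D44957 (iv7 D44672) F33497 F30750 (iv6 F33735)
def n44958 : Q := act 3 n21469
theorem D44958 : act 3 n21469 = n44958 := rfl
theorem F70691 : act 4 n44958 = n21511 := d5_2 D21469 D44958 (iv3 D21511) (iv4 D10272) (iv3 F16203)
def n44959 : Q := act 5 n21469
theorem D44959 : act 5 n21469 = n44959 := rfl
theorem F70692 : act 0 n44959 = n40314 := d17_2 (iv1 F33744) D44959 (iv5 D40314) (iv4 D19056) (iv5 D8930) F7025 D8998 F14537 D19840
theorem F70693 : act 1 n44959 = n42066 := d17_6 (iv1 F31454) (iv5 D19710) F16934 D10246 D21469 D44959 (iv5 D42066) F61370 F61369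
def n44960 : Q := act 0 n21470
theorem D44960 : act 0 n21470 = n44960 := rfl
theorem F70694 : act 1 n38917 = n44960 := d15_0 (iv0 D44960) F33745 D38917
def n44961 : Q := act 1 n21470
theorem D44961 : act 1 n21470 = n44961 := rfl
def n44962 : Q := act 2 n21470
theorem D44962 : act 2 n21470 = n44962 := rfl
theorem F70695 : act 3 n44962 = n38909 := d0_2 D21470 D44962 (iv2 D38909) (iv3 D18482) (iv2 F16206)
theorem F70696 : act 4 n44962 = n40141 := d1_2 F43350 D44962 (iv2 F61040)
theorem F70697 : act 7 n44962 = n38917 := d4_2 (iv7 F33745) D44962 (iv2 D38917)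
theorem F70698 : act 1 n44962 = n38915 := d15_0 (iv0 D38915) (iv7 F33745) D44962
theorem F70699 : act 1 n44961 = n38917 := d15_1 D44961 (iv7 F70697) (iv2 D44962)
theorem F70700 : act 1 n38916 = n44962 := d15_1 D38916 F70697 (iv2 D38917)
def n44963 : Q := act 6 n21470
theorem D44963 : act 6 n21470 = n44963 := rfl
def n44964 : Q := act 0 n21471
theorem D44964 : act 0 n21471 = n44964 := rfl
def n44965 : Q := act 1 n21471
theorem D44965 : act 1 n21471 = n44965 := rfl
theorem F70702 : act 1 n44965 = n38914 := d15_1 D44965 (iv7 D38914) (iv2 F33746)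
def n44966 : Q := act 5 n21471
theorem D44966 : act 5 n21471 = n44966 := rfl
theorem F70703 : act 2 n44966 = n38913 := d2_1 D44966 (iv5 D38913) (iv2 F33746)
def n44967 : Q := act 7 n21471
theorem D44967 : act 7 n21471 = n44967 := rfl
theorem F70704 : act 2 n44967 = n38914 := d4_1 D44967 (iv7 D38914) (iv2 F33746)
theorem F70705 : act 4 n44967 = n21475 := d11_1 D44967 (iv7 D21475) (iv4 F33747)
theorem F70706 : act 6 n44967 = n27871 := d14_1 D44967 F59768 (iv6 D18485) (iv7 F16207) D21471
theorem F70707 : act 1 n38914 = n44964 := d15_0 (iv0 D44964) D44967 F70704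
theorem F70708 : act 1 n38912 = n44967 := d15_1 D38912 (iv7 D44967) F33746
theorem F70709 : act 1 n44967 = n38911 := d15_0 (iv0 D38911) D38914 (iv2 F70704)
def n44968 : Q := act 2 n21472
theorem D44968 : act 2 n21472 = n44968 := rfl
theorem F70710 : act 7 n21473 = n44968 := d15_2 (iv0 D21472) D21473 (iv2 D44968)
def n44969 : Q := act 3 n21472
theorem D44969 : act 3 n21472 = n44969 := rfl
def n44970 : Q := act 4 n21472
theorem D44970 : act 4 n21472 = n44970 := rfl
def n44971 : Q := act 5 n21472
theorem D44971 : act 5 n21472 = n44971 := rfl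
def n44972 : Q := act 6 n21472
theorem D44972 : act 6 n21472 = n44972 := rfl
def n44973 : Q := act 7 n21472
theorem D44973 : act 7 n21472 = n44973 := rfl
theorem F70711 : act 2 n44973 = n21473 := d4_1 D44973 F70710 (iv2 D44968)
def n44974 : Q := act 3 n21473
theorem D44974 : act 3 n21473 = n44974 := rfl
def n44975 : Q := act 4 n21473
theorem D44975 : act 4 n21473 = n44975 := rfl
def n44976 : Q := act 5 n21473
theorem D44976 : act 5 n21473 = n44976 := rfl
def n44977 : Q := act 6 n21473
theorem D44977 : act 6 n21473 = n44977 := rfl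
def n44978 : Q := act 0 n21474
theorem D44978 : act 0 n21474 = n44978 := rfl
def n44979 : Q := act 1 n21474
theorem D44979 : act 1 n21474 = n44979 := rfl
theorem F70712 : act 1 n44979 = n44504 := d15_1 D44979 (iv7 D44504) (iv2 F33749)
def n44980 : Q := act 4 n21474
theorem D44980 : act 4 n21474 = n44980 := rfl
theorem F70713 : act 2 n44980 = n44503 := d1_1 D44980 (iv4 D44503) (iv2 F33749)
theorem F70714 : act 6 n44980 = n21480 := d10_2 (iv6 F33750) D44980 (iv4 D21480)
theorem F70715 : act 0 n44980 = n39840 := d20_7 D27885 (iv1 F45021) (iv4 F41676) D35823 F59743 F43360 D44980 (iv4 D39840) (iv3 D18852) (iv1 F22102)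
def n44981 : Q := act 7 n21474
theorem D44981 : act 7 n21474 = n44981 := rfl
theorem F70716 : act 2 n44981 = n44504 := d4_1 D44981 (iv7 D44504) (iv2 F33749)
theorem F70717 : act 5 n44981 = n21475 := d13_1 D44981 (iv7 D21475) D21474
theorem F70718 : act 1 n44504 = n44978 := d15_0 (iv0 D44978) D44981 F70716
theorem F70719 : act 1 n44502 = n44981 := d15_1 D44502 (iv7 D44981) F33749
theorem F70720 : act 1 n44981 = n44501 := d15_0 (iv0 D44501) D44504 (iv2 F70716)
def n44982 : Q := act 4 n21476
theorem D44982 : act 4 n21476 = n44982 := rfl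
theorem F70721 : act 2 n44982 = n44505 := d1_1 D44982 (iv4 D44505) (iv2 F33756)
theorem F70722 : act 7 n44982 = n44506 := d11_2 (iv7 F33758) D44982 (iv4 D44506)
theorem F70723 : act 0 n44982 = n34425 := d18_2 F34204 D44982 (iv4 D34425) (iv5 D16696) (iv4 F14630) F31680 (iv4 F33406) (iv0 F33408) D21763
theorem F70724 : act 1 n44982 = n34422 := d18_6 F16845 (iv4 F13249) (iv1 F16927) (iv4 F16935) D21476 D44982 (iv4 D34422) (iv0 F27362) (iv5 D11084)
def n44983 : Q := act 4 n21477
theorem D44983 : act 4 n21477 = n44983 := rfl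
theorem F70725 : act 2 n44983 = n44506 := d1_1 D44983 (iv4 D44506) (iv2 F33759)
theorem F70726 : act 7 n44983 = n44505 := d11_2 (iv7 F33760) D44983 (iv4 D44505)
theorem F70727 : act 0 n44983 = n34422 := d18_2 (iv1 F57004) D44983 (iv4 D34422) (iv5 D16694) F14735 (iv0 F30731) (iv4 F30741) (iv0 F30743) (iv5 F57001)
theorem F70728 : act 1 n44983 = n34425 := d18_6 (iv1 F16816) F13812 (iv1 F16923) (iv4 F16928) D21477 D44983 (iv4 D34425) (iv0 F29069) (iv5 D17893)
def n44984 : Q := act 6 n21477
theorem D44984 : act 6 n21477 = n44984 := rfl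
theorem F70729 : act 2 n44984 = n44507 := d3_1 D44984 (iv6 D44507) (iv2 F33759)
def n44985 : Q := act 6 n21479
theorem D44985 : act 6 n21479 = n44985 := rfl
theorem F70730 : act 2 n44985 = n44511 := d3_1 D44985 (iv6 D44511) F33769
theorem F70731 : act 5 n44985 = n44984 := d12_1 D44985 (iv6 D44984) (iv5 D21477) F30723 (iv5 F33768)
def n44986 : Q := act 1 n21480
theorem D44986 : act 1 n21480 = n44986 := rfl
theorem F70732 : act 1 n44986 = n34427 := d15_1 D44986 (iv7 F54629) (iv2 F33770)
theorem F70733 : act 7 n44986 = n34420 := d15_2 (iv0 F33771) D44986 F54615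
theorem F70734 : act 4 n44986 = n21558 := d18_7 F16798 (iv4 D10268) (iv1 D4657) (iv4 F6725) D10252 D21480 D44986 F33925 (iv5 D16689)
theorem F70735 : act 2 n27914 = n44986 := d1_3 F70734 (iv2 F33928) D27914
theorem F70736 : act 5 n40481 = n44986 := d16_3 D8977 D19130 D40481 F70734 F33927 F27354 F16236 F16235 F13937
def n44987 : Q := act 3 n21480
theorem D44987 : act 3 n21480 = n44987 := rfl
def n44988 : Q := act 5 n21480
theorem D44988 : act 5 n21480 = n44988 := rfl
theorem F70737 : act 2 n44988 = n44513 := d2_1 D44988 (iv5 D44513) (iv2 F33770)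
theorem F70738 : act 7 n44988 = n44568 := d13_2 F56941 D44988 F70086
theorem F70739 : act 4 n44988 = n40447 := d16_2 D21480 D44988 (iv5 D40447) (iv4 D19115) (iv5 D8956) (iv4 F13932) D19114 F30707 (iv2 F16212)
theorem F70740 : act 0 n44988 = n39872 := d17_2 (iv1 D44986) D44988 (iv5 D39872) (iv4 D18865) (iv5 D8832) (iv0 F16846) D10299 D21558 (iv4 F70734)
theorem F70741 : act 0 n40526 = n44988 := d18_2 F61572 D40526 F70739 (iv5 D40447) (iv4 D19115) F16776 D8977 D19128 D40473
def n44989 : Q := act 6 n21481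
theorem D44989 : act 6 n21481 = n44989 := rfl
theorem F70742 : act 2 n44989 = n22600 := d3_1 D44989 (iv6 D22600) F33772
theorem F70743 : act 4 n44989 = n22598 := d10_1 D44989 (iv6 D22598) (iv4 F33774)
def n44990 : Q := act 5 n21482
theorem D44990 : act 5 n21482 = n44990 := rfl
theorem F70744 : act 2 n44990 = n21483 := d2_1 D44990 (iv5 D21483) D21482
theorem F70745 : act 3 n44990 = n44521 := d6_1 D44990 (iv5 D44521) (iv3 F33777)
theorem F70746 : act 7 n44990 = n44592 := d13_2 (iv7 F33778) D44990 (iv5 D44592)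
theorem F70747 : act 0 n44990 = n44528 := d17_2 (iv1 F33779) D44990 F70049 F33470 F29317 (iv0 F59336) (iv5 D22595) F34789 F34785
theorem F70748 : act 1 n44990 = n44594 := d15_0 (iv0 D44594) (iv7 F33782) (iv2 F70744)
def n44991 : Q := act 6 n21482
theorem D44991 : act 6 n21482 = n44991 := rfl
theorem F70749 : act 2 n44991 = n21484 := d3_1 D44991 (iv6 D21484) D21482
theorem F70750 : act 3 n44991 = n44522 := d7_1 D44991 (iv6 D44522) (iv3 F33777)
def n44992 : Q := act 0 n21483
theorem D44992 : act 0 n21483 = n44992 := rfl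
theorem F70751 : act 5 n44992 = n21638 := d17_3 F33678 D21483 D44992 (iv4 F58708) F58709 F35288 (iv5 F34781) (iv0 D22289) (iv4 F33676)
theorem F70752 : act 2 n44528 = n44992 := d15_3 (iv0 D44992) (iv0 F64243) (iv7 F70050)
theorem F70753 : act 1 n44592 = n44992 := d15_0 (iv0 D44992) F33782 (iv2 F70118)
theorem F70754 : act 7 n44992 = n44594 := d15_2 (iv0 F70119) F70753 (iv2 F70122)
def n44993 : Q := act 4 n21483
theorem D44993 : act 4 n21483 = n44993 := rfl
theorem F70755 : act 7 n44993 = n44595 := d11_2 (iv7 F33782) D44993 (iv4 D44595)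
def n44994 : Q := act 6 n21483
theorem D44994 : act 6 n21483 = n44994 := rfl
theorem F70756 : act 3 n44994 = n21485 := d7_1 D44994 (iv6 D21485) (iv3 F33781)
def n44995 : Q := act 0 n21484
theorem D44995 : act 0 n21484 = n44995 := rfl
theorem F70757 : act 2 n22755 = n44995 := d15_3 (iv0 D44995) (iv0 F70652) F70651
theorem F70758 : act 4 n44995 = n22754 := d1_2 D22755 F70757 (iv2 D22754)
def n44996 : Q := act 5 n21484
theorem D44996 : act 5 n21484 = n44996 := rfl
theorem F70759 : act 3 n44996 = n21488 := d6_1 D44996 (iv5 D21488) (iv3 F33783)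
def n44997 : Q := act 7 n21484
theorem D44997 : act 7 n21484 = n44997 := rfl
theorem F70760 : act 3 n44997 = n21489 := d8_1 D44997 (iv7 D21489) (iv3 F33783)
theorem F70761 : act 6 n44997 = n23602 := d14_1 D44997 (iv7 F63150) (iv6 D21214) (iv7 F16219) D21484
theorem F70762 : act 0 n22755 = n44997 := d20_4 (iv4 F30834) F35589 (iv4 F63147) F63146 F70760 F33788 F66711 (iv4 F17933) (iv3 D11067) (iv1 F35592)
def n44998 : Q := act 0 n21485
theorem D44998 : act 0 n21485 = n44998 := rfl
def n44999 : Q := act 1 n21485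
theorem D44999 : act 1 n21485 = n44999 := rfl
theorem F70763 : act 1 n44999 = n44533 := d15_1 D44999 (iv7 D44533) (iv2 F33784)
def n45000 : Q := act 5 n21485
theorem D45000 : act 5 n21485 = n45000 := rfl
theorem F70764 : act 2 n45000 = n44532 := d2_1 D45000 (iv5 D44532) (iv2 F33784)
theorem F70765 : act 6 n45000 = n21488 := d12_2 D21485 D45000 (iv5 D21488) (iv6 D10256) D10255
def n45001 : Q := act 7 n21485
theorem D45001 : act 7 n21485 = n45001 := rfl
theorem F70766 : act 2 n45001 = n44533 := d4_1 D45001 (iv7 D44533) (iv2 F33784)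
theorem F70767 : act 6 n45001 = n44602 := d14_1 D45001 (iv7 D44602) (iv6 D21215) (iv7 F16221) D21485
theorem F70768 : act 1 n44533 = n44998 := d15_0 (iv0 D44998) D45001 F70766
theorem F70769 : act 1 n44531 = n45001 := d15_1 D44531 (iv7 D45001) F33784
theorem F70770 : act 1 n45001 = n44530 := d15_0 (iv0 D44530) D44533 (iv2 F70766)
def n45002 : Q := act 3 n21486
theorem D45002 : act 3 n21486 = n45002 := rfl
theorem F70771 : act 4 n45002 = n22802 := d5_2 F66805 D45002 (iv3 D22802) (iv4 F66647) F66646
theorem F70772 : act 7 n45002 = n44537 := d8_2 (iv7 F66865) D45002 (iv3 D44537)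
theorem F70773 : act 0 n45002 = n23602 := d20_4 (iv4 F29057) D37183 F66805 D45002 (iv3 D23602) (iv4 D11060) (iv1 D5043) D5045 D11067 (iv1 F66548)
theorem F70774 : act 2 n45002 = n44597 := d15_3 (iv0 D44597) (iv0 F70054) (iv7 F70772)
def n45003 : Q := act 5 n21486
theorem D45003 : act 5 n21486 = n45003 := rfl
theorem F70775 : act 2 n45003 = n44535 := d2_1 D45003 (iv5 D44535) (iv2 F66864)
theorem F70776 : act 7 n45003 = n44538 := d13_2 (iv7 F66865) D45003 (iv5 D44538)
def n45004 : Q := act 6 n21486
theorem D45004 : act 6 n21486 = n45004 := rfl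
theorem F70777 : act 2 n45004 = n44536 := d3_1 D45004 (iv6 D44536) (iv2 F66864)
def n45005 : Q := act 3 n21487
theorem D45005 : act 3 n21487 = n45005 := rfl
theorem F70778 : act 4 n45005 = n23410 := d5_2 (iv4 F66780) D45005 (iv3 D23410) (iv4 D10984) D10983
theorem F70779 : act 7 n45005 = n44534 := d8_2 (iv7 F66781) D45005 (iv3 D44534)
def n45006 : Q := act 5 n21487
theorem D45006 : act 5 n21487 = n45006 := rfl
theorem F70780 : act 2 n45006 = n44538 := d2_1 D45006 (iv5 D44538) (iv2 F66779)
theorem F70781 : act 7 n45006 = n44535 := d13_2 (iv7 F66781) D45006 (iv5 D44535)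
theorem F70782 : act 1 n44538 = n44859 := d15_0 F70457 (iv7 F70781) F70780
def n45007 : Q := act 6 n21487
theorem D45007 : act 6 n21487 = n45007 := rfl
theorem F70783 : act 2 n45007 = n44539 := d3_1 D45007 (iv6 D44539) (iv2 F66779)
theorem F70784 : act 4 n45007 = n23409 := d10_1 D45007 (iv6 D23409) (iv4 F66780)
theorem F70785 : act 0 n23209 = n45007 := d20_1 (iv4 F36309) F70784 F36531 (iv1 F62487) F32773 (iv4 F15315) F7462 (iv4 F17760) (iv3 F66748) (iv1 D23217)
def n45008 : Q := act 0 n21488
theorem D45008 : act 0 n21488 = n45008 := rfl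
def n45009 : Q := act 1 n21488
theorem D45009 : act 1 n21488 = n45009 := rfl
theorem F70786 : act 1 n45009 = n44543 := d15_1 D45009 (iv7 D44543) (iv2 F33786)
theorem F70787 : act 5 n44654 = n45009 := d21_6 (iv5 F33486) (iv1 D21252) (iv5 D10152) D10153 D21254 D44654 (iv1 D45009) (iv5 D21488) (iv6 D10256) (iv1 F16163)
def n45010 : Q := act 4 n21488
theorem D45010 : act 4 n21488 = n45010 := rfl
theorem F70788 : act 2 n45010 = n44542 := d1_1 D45010 (iv4 D44542) (iv2 F33786)
def n45011 : Q := act 7 n21488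
theorem D45011 : act 7 n21488 = n45011 := rfl
theorem F70789 : act 2 n45011 = n44543 := d4_1 D45011 (iv7 D44543) (iv2 F33786)
theorem F70790 : act 5 n45011 = n21489 := d13_1 D45011 (iv7 D21489) D21488
theorem F70791 : act 1 n44543 = n45008 := d15_0 (iv0 D45008) D45011 F70789
theorem F70792 : act 1 n44541 = n45011 := d15_1 D44541 (iv7 D45011) F33786
theorem F70793 : act 5 n45008 = n44857 := d17_7 (iv1 F63240) F31552 (iv1 F63220) F33430 (iv4 F33426) (iv5 F70056) F70791 (iv0 D44857) F33568
theorem F70794 : act 1 n45011 = n44540 := d15_0 (iv0 D44540) D44543 (iv2 F70789)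
def n45012 : Q := act 3 n21497
theorem D45012 : act 3 n21497 = n45012 := rfl
theorem F70795 : act 2 n45012 = n23609 := d0_1 D45012 (iv3 D23609) F17925 D11067 (iv2 F66766)
theorem F70796 : act 4 n45012 = n45012 := d5_2 D21497 D45012 (iv3 D45012) (iv4 D21497) F66763
theorem F70797 : act 7 n45012 = n44544 := d8_2 (iv7 F66767) D45012 (iv3 D44544)
def n45013 : Q := act 5 n21497
theorem D45013 : act 5 n21497 = n45013 := rfl
theorem F70798 : act 2 n45013 = n23617 := d2_1 D45013 (iv5 D23617) (iv2 F66766)
theorem F70799 : act 7 n45013 = n44545 := d13_2 (iv7 F66767) D45013 (iv5 D44545)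
def n45014 : Q := act 6 n21497
theorem D45014 : act 6 n21497 = n45014 := rfl
theorem F70800 : act 2 n45014 = n23618 := d3_1 D45014 (iv6 D23618) (iv2 F66766)
theorem F70801 : act 4 n45014 = n21499 := d10_1 D45014 (iv6 D21499) D21497
def n45015 : Q := act 4 n21498
theorem D45015 : act 4 n21498 = n45015 := rfl
theorem F70802 : act 2 n45015 = n23650 := d1_1 D45015 (iv4 D23650) (iv2 F66768)
theorem F70803 : act 7 n45015 = n44547 := d11_2 (iv7 F66770) D45015 (iv4 D44547)
def n45016 : Q := act 7 n21499
theorem D45016 : act 7 n21499 = n45016 := rfl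
theorem F70806 : act 6 n45016 = n23591 := d14_1 D45016 (iv7 F66724) (iv6 D21187) F66771 D21499
theorem F70807 : act 1 n21746 = n45016 := d15_1 (iv0 F66738) (iv7 D45016) F66760
theorem F70808 : act 1 n45016 = n21742 := d15_1 F70807 F62816 (iv2 F62813)
def n45017 : Q := act 4 n21501
theorem D45017 : act 4 n21501 = n45017 := rfl
theorem F70809 : act 2 n45017 = n23664 := d1_1 D45017 (iv4 D23664) (iv2 F63206)
theorem F70810 : act 7 n45017 = n44549 := d11_2 (iv7 F63208) D45017 (iv4 D44549)
theorem F70811 : act 0 n45017 = n40474 := d18_2 (iv1 F33795) D45017 F61573 (iv5 D19950) (iv4 F17727) (iv0 F66764) (iv4 D21497) F16224 (iv5 F33430)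
def n45018 : Q := act 6 n21501
theorem D45018 : act 6 n21501 = n45018 := rfl
theorem F70814 : act 5 n45018 = n41964 := d12_1 D45018 (iv6 D41964) (iv5 D19769) D19770 F63222
theorem F70815 : act 0 n23071 = n45018 := d21_4 (iv5 D19813) D19811 F63318 D23071 (iv6 D45018) (iv5 F63222) F63297 D21379 (iv6 F36048) F63323
theorem F70816 : act 0 n23579 = n23237 := d21_4 (iv5 D10259) (iv1 F66773) D11046 D23579 (iv6 D23237) (iv5 F63418) (iv1 F64740) (iv5 F70814) (iv6 D45018) (iv1 D21501)
theorem F70817 : act 1 n23157 = n45018 := d15_0 (iv0 F70815) F62802 (iv2 F62811)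
theorem F70818 : act 7 n45018 = n23211 := d15_2 F63327 F70817 (iv2 F63307)
def n45019 : Q := act 0 n21502
theorem D45019 : act 0 n21502 = n45019 := rfl
def n45020 : Q := act 1 n21502
theorem D45020 : act 1 n21502 = n45020 := rfl
theorem F70819 : act 1 n45020 = n44555 := d15_1 D45020 (iv7 D44555) (iv2 F33797)
theorem F70820 : act 4 n45020 = n23425 := d18_7 F66560 (iv4 F66780) (iv1 D21487) F16223 D10259 D21502 D45020 (iv0 F67685) F65281
def n45021 : Q := act 3 n21502
theorem D45021 : act 3 n21502 = n45021 := rfl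
theorem F70821 : act 6 n45021 = n21511 := d7_2 (iv6 F33798) D45021 (iv3 D21511)
def n45022 : Q := act 5 n21502
theorem D45022 : act 5 n21502 = n45022 := rfl
theorem F70822 : act 2 n45022 = n44554 := d2_1 D45022 (iv5 D44554) (iv2 F33797)
def n45023 : Q := act 7 n21502
theorem D45023 : act 7 n21502 = n45023 := rfl
theorem F70823 : act 2 n45023 = n44555 := d4_1 D45023 (iv7 D44555) (iv2 F33797)
theorem F70824 : act 4 n45023 = n21503 := d11_1 D45023 (iv7 D21503) D21502
theorem F70825 : act 6 n45023 = n44706 := d14_1 D45023 (iv7 D44706) F33507 F30753 (iv6 F33798)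
theorem F70826 : act 1 n44555 = n45019 := d15_0 (iv0 D45019) D45023 F70823
theorem F70827 : act 1 n44552 = n45023 := d15_1 D44552 (iv7 D45023) F33797
theorem F70828 : act 1 n45023 = n44551 := d15_0 (iv0 D44551) D44555 (iv2 F70823)
theorem F70829 : act 4 n44551 = n42270 := d18_7 D19948 (iv4 F66726) (iv1 F33792) F33788 (iv5 F33800) (iv4 F70824) F70828 (iv0 D42270) (iv5 D19950)
theorem F70830 : act 3 n42270 = n23372 := d20_3 D21195 D44551 F70829 (iv1 F36502) F17844 (iv4 F17886) (iv1 F17890) F17879 D11081 F63218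
theorem F70831 : act 7 n23425 = n42270 := d8_0 F70830 F63492 D23425
theorem F70832 : act 7 n44551 = n45020 := d11_2 F70831 (iv4 F70829) F70820
theorem F70833 : act 2 n45020 = n44552 := d15_3 F70827 F70828 F70832
theorem F70834 : act 2 n44551 = n45019 := d15_3 (iv0 D45019) D45020 (iv7 F70832)
def n45024 : Q := act 4 n21504
theorem D45024 : act 4 n21504 = n45024 := rfl
theorem F70836 : act 2 n45024 = n23669 := d1_1 D45024 (iv4 D23669) (iv2 F33806)
theorem F70837 : act 7 n45024 = n37215 := d11_2 (iv7 F33808) D45024 (iv4 D37215)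
theorem F70838 : act 5 n45024 = n40526 := d16_1 D45024 (iv4 D40526) (iv5 D19147) (iv4 D8996) (iv5 D4018) (iv4 F5866) D8832 (iv7 F17963) (iv2 F33806)
theorem F70839 : act 0 n45024 = n39870 := d18_2 (iv1 F33810) D45024 F60669 (iv5 D21763) F16520 (iv0 F16883) (iv4 F12249) D16690 (iv5 F30102)
theorem F70840 : act 1 n45024 = n39869 := d18_6 (iv1 F16747) F13932 (iv1 F16771) D10268 D21504 D45024 F60666 F57003 (iv5 D21476)
def n45025 : Q := act 6 n21504
theorem D45025 : act 6 n21504 = n45025 := rfl
theorem F70841 : act 2 n45025 = n23670 := d3_1 D45025 (iv6 D23670) (iv2 F33806)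
theorem F70842 : act 3 n45025 = n37504 := d7_1 D45025 (iv6 D37504) (iv3 F33807)
theorem F70843 : act 0 n45025 = n38979 := d21_4 (iv5 D16689) F16798 D21504 D45025 (iv6 D38979) (iv5 D18501) (iv1 D8695) D8696 F13616 F27345
def n45026 : Q := act 3 n21505
theorem D45026 : act 3 n21505 = n45026 := rfl
theorem F70845 : act 7 n45026 = n40499 := d8_2 (iv7 F33812) D45026 (iv3 D40499)
def n45027 : Q := act 5 n21505
theorem D45027 : act 5 n21505 = n45027 := rfl
theorem F70847 : act 4 n45027 = n39872 := d9_1 D45027 (iv5 D39872) (iv4 D18865) (iv5 D8832) F5866 D4018 D8996 D19147 D40526 (iv5 F70838) (iv4 D45024) (iv5 D21504) (iv4 D10268) D10269 D21505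
theorem F70848 : act 7 n45027 = n40500 := d13_2 (iv7 F33812) D45027 (iv5 D40500)
theorem F70849 : act 0 n45027 = n40473 := d17_2 (iv1 F33814) D45027 (iv5 D40473) (iv4 F30736) (iv5 D9832) D9831 (iv5 F31915) F32695 (iv4 F32696)
theorem F70850 : act 1 n45027 = n40470 := d17_6 (iv1 F16776) (iv5 D8956) (iv1 F16771) D10269 D21505 D45027 (iv5 D40470) (iv0 D19127) (iv4 D8977)
def n45028 : Q := act 6 n21505
theorem D45028 : act 6 n21505 = n45028 := rfl
theorem F70851 : act 2 n45028 = n23674 := d3_1 D45028 (iv6 D23674) (iv2 F33811)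
theorem F70852 : act 4 n45028 = n21506 := d10_1 D45028 (iv6 D21506) D21505
def n45029 : Q := act 1 n21506
theorem D45029 : act 1 n21506 = n45029 := rfl
theorem F70853 : act 1 n45029 = n23247 := d15_1 D45029 F36338 (iv2 F33815)
theorem F70854 : act 7 n45029 = n23675 := d15_2 (iv0 F36119) D45029 (iv2 F63398)
theorem F70855 : act 5 n23237 = n45029 := d21_0 (iv1 D45029) (iv5 F33823) (iv6 D21508) (iv1 D10271) (iv6 F16226) (iv5 D10259) (iv1 F66773) D11046 D23579 F70816
theorem F70856 : act 6 n23648 = n45029 := d21_3 (iv5 F31552) (iv1 F64741) (iv5 F66872) (iv1 D45029) (iv6 D21506) (iv5 D10269) (iv1 D4657) D4658 (iv6 F16226) (iv1 F63205)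
theorem F70857 : act 2 n45029 = n23676 := d3_1 F70856 (iv6 F66776) F66871
def n45030 : Q := act 7 n21506
theorem D45030 : act 7 n21506 = n45030 := rfl
theorem F70861 : act 1 n23676 = n45030 := d15_1 D23676 (iv7 D45030) F33815
theorem F70862 : act 1 n45030 = n23675 := d15_1 F70861 (iv7 F70854) F70857
def n45031 : Q := act 3 n21507
theorem D45031 : act 3 n21507 = n45031 := rfl
theorem F70863 : act 4 n45031 = n45031 := d5_2 D21507 D45031 (iv3 D45031) (iv4 D21507) F16238
theorem F70864 : act 7 n45031 = n40448 := d8_2 (iv7 F33818) D45031 (iv3 D40448)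
def n45032 : Q := act 5 n21507
theorem D45032 : act 5 n21507 = n45032 := rfl
theorem F70865 : act 2 n45032 = n23684 := d2_1 D45032 (iv5 D23684) (iv2 F33817)
theorem F70866 : act 4 n45032 = n34429 := d9_1 D45032 (iv5 D34429) (iv4 D16697) (iv5 D7780) F5555 D4003 D8977 D19130 D40481 F70736 F70734 F33927 F27354 F16236 D21507
theorem F70867 : act 7 n45032 = n40449 := d13_2 (iv7 F33818) D45032 (iv5 D40449)
theorem F70868 : act 0 n45032 = n40480 := d17_2 (iv1 F33820) D45032 F61578 (iv4 D20611) F16955 F31680 (iv5 F32896) F32894 F31685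
theorem F70869 : act 1 n45032 = n40479 := d17_6 (iv1 F16843) (iv5 D8969) (iv1 F13945) F16236 D21507 D45032 F61577 (iv0 D23671) (iv4 D11085)
def n45033 : Q := act 6 n21507
theorem D45033 : act 6 n21507 = n45033 := rfl
theorem F70870 : act 2 n45033 = n23685 := d3_1 D45033 (iv6 D23685) (iv2 F33817)
theorem F70871 : act 4 n45033 = n21508 := d10_1 D45033 (iv6 D21508) D21507
def n45034 : Q := act 0 n21508
theorem D45034 : act 0 n21508 = n45034 := rfl
def n45035 : Q := act 1 n21508
theorem D45035 : act 1 n21508 = n45035 := rfl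
theorem F70872 : act 1 n45035 = n23081 := d15_1 D45035 F36132 (iv2 F33821)
def n45036 : Q := act 7 n21508
theorem D45036 : act 7 n21508 = n45036 := rfl
theorem F70873 : act 2 n45036 = n23081 := d4_1 D45036 F36132 (iv2 F33821)
theorem F70875 : act 5 n45036 = n45030 := d13_1 D45036 (iv7 D45030) (iv5 F33823)
theorem F70876 : act 6 n45036 = n22996 := d14_1 D45036 (iv7 D22996) F17647 (iv7 F16235) D21508
theorem F70877 : act 1 n23081 = n45034 := d15_0 (iv0 D45034) D45036 F70873
theorem F70878 : act 1 n23687 = n45036 := d15_1 D23687 (iv7 D45036) F33821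
def n45037 : Q := act 3 n21509
theorem D45037 : act 3 n21509 = n45037 := rfl
theorem F70880 : act 4 n45037 = n22966 := d5_2 (iv4 F33824) D45037 (iv3 D22966) (iv4 F27434) (iv3 F31674)
theorem F70881 : act 7 n45037 = n44559 := d8_2 F33827 D45037 (iv3 D44559)
def n45038 : Q := act 5 n21509
theorem D45038 : act 5 n21509 = n45038 := rfl
theorem F70882 : act 2 n45038 = n44557 := d2_1 D45038 (iv5 D44557) F33826
theorem F70883 : act 7 n45038 = n44560 := d13_2 F33827 D45038 (iv5 D44560)
theorem F70884 : act 0 n45038 = n40455 := d17_2 D21509 D45038 (iv5 D40455) (iv4 D19121) (iv5 D8969) (iv0 D4001) D4003 (iv0 F7299) D10272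
theorem F70885 : act 1 n45038 = n40464 := d17_6 (iv1 F32694) F32692 (iv1 D19849) D19850 (iv4 F33824) D45038 (iv5 D40464) (iv0 F61362) (iv4 D40306)
def n45039 : Q := act 6 n21509
theorem D45039 : act 6 n21509 = n45039 := rfl
theorem F70887 : act 4 n45039 = n42100 := d10_1 D45039 F65011 (iv4 F33824)
theorem F70888 : act 0 n23074 = n45039 := d18_2 (iv1 F36060) D23074 F70887 (iv5 D42100) (iv4 F33417) F66026 (iv4 D10871) F17651 (iv5 F36058)
def n45040 : Q := act 3 n21510
theorem D45040 : act 3 n21510 = n45040 := rfl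
theorem F70889 : act 4 n45040 = n41274 := d5_2 (iv4 F33830) D45040 (iv3 D41274) (iv4 D19416) D19415
theorem F70890 : act 7 n45040 = n44556 := d8_2 (iv7 F33829) D45040 (iv3 D44556)
def n45041 : Q := act 5 n21510
theorem D45041 : act 5 n21510 = n45041 := rfl
theorem F70891 : act 2 n45041 = n44560 := d2_1 D45041 (iv5 D44560) F33831
theorem F70892 : act 7 n45041 = n44557 := d13_2 (iv7 F33829) D45041 (iv5 D44557)
theorem F70893 : act 0 n45041 = n40464 := d17_2 (iv1 F33828) D45041 (iv5 D40464) (iv4 D19125) (iv5 D8974) F13944 F16236 (iv0 F16775) D19115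
theorem F70894 : act 1 n45041 = n40455 := d17_6 (iv1 D20103) (iv5 D9472) D9468 (iv5 F31076) (iv4 F33830) D45041 (iv5 D40455) D40453 F61551
def n45042 : Q := act 6 n21510
theorem D45042 : act 6 n21510 = n45042 := rfl
def n45043 : Q := act 0 n21511
theorem D45043 : act 0 n21511 = n45043 := rfl
def n45044 : Q := act 1 n21511
theorem D45044 : act 1 n21511 = n45044 := rfl
def n45045 : Q := act 2 n21511
theorem D45045 : act 2 n21511 = n45045 := rfl
theorem F70897 : act 3 n45045 = n44564 := d0_2 D21511 D45045 (iv2 D44564) (iv3 D21199) (iv2 F16249)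
def n45046 : Q := act 5 n21511
theorem D45046 : act 5 n21511 = n45046 := rfl
theorem F70898 : act 3 n45046 = n21512 := d6_1 D45046 (iv5 D21512) D21511
def n45047 : Q := act 0 n21512
theorem D45047 : act 0 n21512 = n45047 := rfl
theorem F70899 : act 5 n45047 = n40502 := d17_3 (iv1 D21510) D21512 D45047 F61619 (iv5 D19857) F16927 D17883 F31077 (iv4 F33830)
theorem F70900 : act 1 n40447 = n45047 := d15_0 (iv0 D45047) (iv7 F61610) F61609
theorem F70901 : act 2 n44566 = n45047 := d2_3 F70899 (iv2 F61620) (iv5 F70082)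
theorem F70902 : act 7 n44567 = n45047 := d13_0 F70899 F61618 (iv5 F70085)
def n45048 : Q := act 1 n21512
theorem D45048 : act 1 n21512 = n45048 := rfl
theorem F70903 : act 1 n45048 = n40447 := d15_1 D45048 F61538 (iv2 F33832)
theorem F70904 : act 7 n45048 = n44566 := d15_2 (iv0 D45047) D45048 F70901
theorem F70905 : act 5 n45048 = n40501 := d17_7 (iv1 F16902) (iv5 D10269) (iv1 D4657) D4658 D10272 D21512 D45048 (iv0 D40501) (iv4 D19139)
theorem F70906 : act 2 n44567 = n45048 := d2_3 F70905 (iv2 F61615) (iv5 F70085)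
def n45049 : Q := act 4 n21512
theorem D45049 : act 4 n21512 = n45049 := rfl
theorem F70907 : act 2 n45049 = n44568 := d1_1 D45049 (iv4 D44568) (iv2 F33832)
theorem F70908 : act 5 n45049 = n34427 := d9_2 D21512 D45049 F54628 (iv5 D19114) F13932 D8956 D19115 D40447 (iv4 F70739) (iv5 D44988) (iv4 D21480) (iv5 D10252) F6725 D4658 D10272
theorem F70909 : act 7 n45049 = n44513 := d11_2 F61610 D45049 F70028
theorem F70910 : act 0 n45049 = n40526 := d18_2 (iv1 D45048) D45049 (iv4 D40526) (iv5 D19147) (iv4 D8996) D8995 D19142 F61614 (iv5 F70905)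
theorem F70911 : act 1 n45049 = n39872 := d18_6 (iv1 F33820) (iv4 D21507) (iv1 D10271) D10272 D21512 D45049 (iv4 F70847) F70850 (iv5 D40470)
def n45050 : Q := act 6 n21512
theorem D45050 : act 6 n21512 = n45050 := rfl
theorem F70912 : act 2 n45050 = n44569 := d3_1 D45050 (iv6 D44569) (iv2 F33832)
def n45051 : Q := act 0 n21513
theorem D45051 : act 0 n21513 = n45051 := rfl
theorem F70913 : act 1 n32832 = n45051 := d15_0 (iv0 D45051) F33835 (iv2 F51983)
def n45052 : Q := act 1 n21513
theorem D45052 : act 1 n21513 = n45052 := rfl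
def n45053 : Q := act 2 n21513
theorem D45053 : act 2 n21513 = n45053 := rfl
theorem F70914 : act 3 n45053 = n21578 := d0_2 D21513 D45053 (iv2 D21578) (iv3 D10308) (iv2 F16260)
theorem F70915 : act 4 n45053 = n32749 := d1_2 (iv4 F33833) D45053 F51838
theorem F70916 : act 5 n45053 = n44765 := d2_2 (iv5 F33834) D45053 (iv2 D44765)
theorem F70917 : act 7 n45053 = n32832 := d4_2 (iv7 F33835) D45053 F51983
theorem F70918 : act 1 n45053 = n37246 := d15_0 (iv0 D37246) (iv7 F33835) D45053
theorem F70919 : act 1 n45052 = n32832 := d15_1 D45052 (iv7 F70917) (iv2 D45053)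
theorem F70920 : act 4 n37246 = n41466 := d18_7 (iv1 F31257) D41461 F63908 (iv4 F61720) F61721 (iv4 F70915) F70918 F63914 (iv5 D40315)
theorem F70921 : act 1 n37247 = n45053 := d15_1 D37247 F70917 F51983
def n45054 : Q := act 6 n21513
theorem D45054 : act 6 n21513 = n45054 := rfl
theorem F70922 : act 3 n45054 = n21514 := d7_1 D45054 (iv6 D21514) D21513
theorem F70923 : act 4 n45054 = n37514 := d10_1 D45054 (iv6 D37514) (iv4 F33833)
def n45055 : Q := act 1 n21514
theorem D45055 : act 1 n21514 = n45055 := rfl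
theorem F70924 : act 1 n45055 = n21585 := d15_1 D45055 (iv7 D21585) (iv2 F33836)
def n45056 : Q := act 5 n21514
theorem D45056 : act 5 n21514 = n45056 := rfl
theorem F70925 : act 2 n45056 = n21584 := d2_1 D45056 (iv5 D21584) (iv2 F33836)
theorem F70926 : act 6 n45056 = n44769 := d12_2 D21514 D45056 (iv5 D44769) (iv6 D21321) (iv5 F16262)
def n45057 : Q := act 7 n21514
theorem D45057 : act 7 n21514 = n45057 := rfl
theorem F70927 : act 2 n45057 = n21585 := d4_1 D45057 (iv7 D21585) (iv2 F33836)
theorem F70928 : act 4 n45057 = n21518 := d11_1 D45057 (iv7 D21518) (iv4 F33837)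
theorem F70929 : act 6 n45057 = n37252 := d14_1 D45057 (iv7 D37252) (iv6 D17904) (iv7 F16261) D21514
theorem F70931 : act 1 n45057 = n21582 := d15_0 (iv0 D21582) D21585 (iv2 F70927)
def n45058 : Q := act 2 n21515
theorem D45058 : act 2 n21515 = n45058 := rfl
theorem F70932 : act 7 n21516 = n45058 := d15_2 (iv0 D21515) D21516 (iv2 D45058)
def n45059 : Q := act 3 n21515
theorem D45059 : act 3 n21515 = n45059 := rfl
def n45060 : Q := act 4 n21515
theorem D45060 : act 4 n21515 = n45060 := rfl
def n45061 : Q := act 5 n21515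
theorem D45061 : act 5 n21515 = n45061 := rfl
def n45062 : Q := act 7 n21515
theorem D45062 : act 7 n21515 = n45062 := rfl
theorem F70933 : act 2 n45062 = n21516 := d4_1 D45062 F70932 (iv2 D45058)
def n45063 : Q := act 3 n21516
theorem D45063 : act 3 n21516 = n45063 := rfl
theorem F70934 : act 4 n45063 = n27169 := d20_6 F30461 (iv1 F20902) F20898 (iv3 F16404) (iv1 F33838) D45063 (iv1 D27169) F21661 F9649 D6199
def n45064 : Q := act 4 n21516
theorem D45064 : act 4 n21516 = n45064 := rfl
def n45065 : Q := act 5 n21516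
theorem D45065 : act 5 n21516 = n45065 := rfl
theorem F70935 : act 6 n21596 = n45065 := d21_5 (iv5 D10318) (iv1 D4676) D4677 (iv6 F16403) D21596 (iv5 D45065) (iv1 D21516) D21517 F33841 (iv1 F16891)
def n45066 : Q := act 6 n21516
theorem D45066 : act 6 n21516 = n45066 := rfl
def n45067 : Q := act 0 n21517
theorem D45067 : act 0 n21517 = n45067 := rfl
theorem F70936 : act 6 n45067 = n21594 := d21_5 (iv5 D10315) (iv1 F6776) D10276 (iv6 F33841) D45067 (iv5 D21594) (iv1 D10312) D10313 F16403 (iv1 F16893)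
def n45068 : Q := act 1 n21517
theorem D45068 : act 1 n21517 = n45068 := rfl
theorem F70937 : act 1 n45068 = n21599 := d15_1 D45068 (iv7 D21599) (iv2 F33839)
theorem F70938 : act 5 n27717 = n45068 := d21_6 (iv5 F6932) (iv1 D3950) (iv5 F4230) D6287 D13230 D27717 (iv1 D45068) (iv5 D21517) (iv6 D10275) (iv1 F6739)
def n45070 : Q := act 7 n21517
theorem D45070 : act 7 n21517 = n45070 := rfl
theorem F70941 : act 2 n45070 = n21599 := d4_1 D45070 (iv7 D21599) (iv2 F33839)
theorem F70942 : act 3 n45070 = n37532 := d8_1 D45070 (iv7 D37532) (iv3 F33840)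
theorem F70943 : act 5 n45070 = n21518 := d13_1 D45070 (iv7 D21518) D21517
theorem F70944 : act 6 n45070 = n45070 := d14_1 D45070 (iv7 D45070) F33841 F16269 (iv6 F33841)
theorem F70945 : act 1 n21599 = n45067 := d15_0 (iv0 D45067) D45070 F70941
theorem F70946 : act 1 n21597 = n45070 := d15_1 D21597 (iv7 D45070) F33839
theorem F70947 : act 0 n21596 = n45070 := d21_10 F70943 (iv1 F33846) D21594 (iv6 F70936) (iv1 F70945) F33990 F33989 (iv1 F33838) D45065 (iv6 F70935)
def n45072 : Q := act 2 n21520
theorem D45072 : act 2 n21520 = n45072 := rfl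
theorem F70950 : act 7 n21520 = n45072 := d15_2 (iv0 D21520) F33850 (iv2 D45072)
def n45073 : Q := act 3 n21520
theorem D45073 : act 3 n21520 = n45073 := rfl
theorem F70951 : act 4 n45073 = n37851 := d20_6 (iv4 D4612) (iv1 F3234) D4662 D10277 D21520 D45073 (iv1 D37851) (iv4 F33470) (iv3 D21245) (iv1 D10150)
theorem F70952 : act 2 n41624 = n45073 := d1_3 F70951 (iv2 F58713) D41624
theorem F70953 : act 7 n41627 = n45073 := d11_0 F70951 (iv7 F58714) D41627
theorem F70954 : act 0 n44729 = n45073 := d20_10 F70951 (iv1 D37851) (iv4 F33470) (iv3 D21245) (iv1 D10150) D10151 F15997 D20926 (iv4 F34056) D44729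
theorem E8016 : n45072 = n21230 := (c8_3 F70953 (iv3 D45073) F70950 (iv3 F64235))
theorem E8017 : n44608 = n21520 := ((D44608).symm.trans (sb E8016 (iv2 D45072)))
theorem F70955 : act 2 n21520 = n21230 := (sb E8017 (iv2 D44608))
theorem F70956 : act 7 n21520 = n21230 := (sb E8017 (iv7 F70132))
theorem F70957 : act 7 n44610 = n32517 := d13_2 F70956 D44610 F51594
theorem F70958 : act 2 n32517 = n44610 := d15_3 F70134 (iv0 F70136) F70957
def n45074 : Q := act 4 n21520
theorem D45074 : act 4 n21520 = n45074 := rfl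
theorem F70959 : act 2 n45074 = n44609 := d1_1 D45074 (iv4 D44609) (iv2 F70955)
theorem F70960 : act 7 n45074 = n44609 := d11_2 (iv7 F70956) D45074 (iv4 D44609)
theorem F70961 : act 5 n45074 = n32515 := d18_4 (iv1 F33850) F16271 D21520 D45074 (iv4 D32515) (iv0 D15395) D15397 F51595 F51594
def n45075 : Q := act 6 n21520
theorem D45075 : act 6 n21520 = n45075 := rfl
theorem F70962 : act 2 n45075 = n44611 := d3_1 D45075 (iv6 D44611) (iv2 F70955)
def n45076 : Q := act 0 n21521
theorem D45076 : act 0 n21521 = n45076 := rfl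
theorem F70963 : act 5 n45076 = n23147 := d17_1 D45076 (iv1 F36217) D23148 (iv4 F36221) (iv5 D15368) (iv0 F26500) D32470 (iv0 F51558) (iv4 F41403)
theorem F70964 : act 4 n45076 = n35028 := d18_3 F51557 (iv4 F41403) D45076 (iv5 D35028) F27872 (iv0 D15366) F11572 (iv0 F26500) D32470
theorem F70965 : act 1 n21521 = n45076 := d15_0 (iv0 D45076) F33853 (iv2 F33851)
theorem F70966 : act 2 n44612 = n45076 := d1_3 F70964 F55620 (iv4 F70138)
theorem F70967 : act 7 n44612 = n45076 := d11_0 F70964 F55622 (iv4 F70138)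
theorem F70968 : act 7 n23147 = n22980 := d13_2 F70967 F70963 (iv5 F70137)
theorem F70969 : act 2 n22980 = n23147 := d15_3 (iv0 D23147) F36217 F70968
def n45077 : Q := act 6 n21521
theorem D45077 : act 6 n21521 = n45077 := rfl
theorem F70970 : act 2 n45077 = n44613 := d3_1 D45077 (iv6 D44613) (iv2 F33851)
theorem F70971 : act 3 n45077 = n21523 := d7_1 D45077 (iv6 D21523) (iv3 F33852)
def n45078 : Q := act 0 n21522
theorem D45078 : act 0 n21522 = n45078 := rfl
def n45079 : Q := act 1 n21522
theorem D45079 : act 1 n21522 = n45079 := rfl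
theorem F70972 : act 1 n45079 = n44617 := d15_1 D45079 (iv7 D44617) (iv2 F33854)
def n45080 : Q := act 5 n21522
theorem D45080 : act 5 n21522 = n45080 := rfl
theorem F70973 : act 2 n45080 = n44616 := d2_1 D45080 (iv5 D44616) (iv2 F33854)
theorem F70974 : act 3 n45080 = n21525 := d6_1 D45080 (iv5 D21525) (iv3 F33855)
def n45081 : Q := act 7 n21522
theorem D45081 : act 7 n21522 = n45081 := rfl
theorem F70975 : act 2 n45081 = n44617 := d4_1 D45081 (iv7 D44617) (iv2 F33854)
theorem F70976 : act 3 n45081 = n21526 := d8_1 D45081 (iv7 D21526) (iv3 F33855)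
theorem F70977 : act 4 n45081 = n45081 := d11_1 D45081 (iv7 D45081) F33856
theorem F70978 : act 6 n45081 = n44617 := d14_1 D45081 (iv7 D44617) (iv6 D21232) (iv7 F16272) D21522
theorem F70979 : act 1 n44617 = n45078 := d15_0 (iv0 D45078) D45081 F70975
theorem F70980 : act 1 n44615 = n45081 := d15_1 D44615 (iv7 D45081) F33854
theorem F70981 : act 1 n45081 = n44614 := d15_0 (iv0 D44614) D44617 (iv2 F70975)
def n45082 : Q := act 0 n21523
theorem D45082 : act 0 n21523 = n45082 := rfl
def n45083 : Q := act 1 n21523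
theorem D45083 : act 1 n21523 = n45083 := rfl
theorem F70982 : act 1 n45083 = n21684 := d15_1 D45083 (iv7 D21684) (iv2 F33857)
def n45084 : Q := act 5 n21523
theorem D45084 : act 5 n21523 = n45084 := rfl
theorem F70983 : act 2 n45084 = n21683 := d2_1 D45084 (iv5 D21683) (iv2 F33857)
theorem F70984 : act 6 n45084 = n21525 := d12_2 D21523 D45084 (iv5 D21525) (iv6 D10279) D10278
def n45085 : Q := act 7 n21523
theorem D45085 : act 7 n21523 = n45085 := rfl
theorem F70985 : act 2 n45085 = n21684 := d4_1 D45085 (iv7 D21684) (iv2 F33857)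
theorem F70986 : act 4 n45085 = n37346 := d11_1 D45085 (iv7 D37346) (iv4 F33858)
theorem F70987 : act 6 n45085 = n44621 := d14_1 D45085 (iv7 D44621) (iv6 D21233) (iv7 F16275) D21523
theorem F70988 : act 1 n21684 = n45082 := d15_0 (iv0 D45082) D45085 F70985
theorem F70989 : act 1 n21682 = n45085 := d15_1 D21682 (iv7 D45085) F33857
theorem F70990 : act 1 n45085 = n21681 := d15_0 (iv0 D21681) D21684 (iv2 F70985)
def n45086 : Q := act 3 n21524
theorem D45086 : act 3 n21524 = n45086 := rfl
theorem F70991 : act 4 n45086 = n41539 := d5_2 F62909 D45086 (iv3 D41539) F62915 D38007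
theorem F70992 : act 7 n45086 = n21686 := d8_2 (iv7 F35949) D45086 (iv3 D21686)
def n45087 : Q := act 5 n21524
theorem D45087 : act 5 n21524 = n45087 := rfl
theorem F70993 : act 2 n45087 = n21692 := d2_1 D45087 (iv5 D21692) (iv2 F35948)
theorem F70994 : act 7 n45087 = n21688 := d13_2 (iv7 F35949) D45087 (iv5 D21688)
def n45088 : Q := act 0 n21525
theorem D45088 : act 0 n21525 = n45088 := rfl
def n45089 : Q := act 1 n21525
theorem D45089 : act 1 n21525 = n45089 := rfl
theorem F70995 : act 1 n45089 = n21697 := d15_1 D45089 (iv7 D21697) (iv2 F33860)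
theorem F70996 : act 5 n23185 = n45089 := d21_6 D10171 F16009 (iv5 D4973) D4974 D10914 D23185 (iv1 D45089) (iv5 D21525) (iv6 D10279) F6747
theorem F70997 : act 2 n45089 = n21695 := d2_1 F70996 (iv5 F68339) F68337
def n45090 : Q := act 4 n21525
theorem D45090 : act 4 n21525 = n45090 := rfl
theorem F70998 : act 2 n45090 = n21696 := d1_1 D45090 (iv4 D21696) (iv2 F33860)
def n45091 : Q := act 7 n21525
theorem D45091 : act 7 n21525 = n45091 := rfl
theorem F70999 : act 2 n45091 = n21697 := d4_1 D45091 (iv7 D21697) (iv2 F33860)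
theorem F71000 : act 5 n45091 = n21526 := d13_1 D45091 (iv7 D21526) D21525
theorem F71001 : act 1 n21697 = n45088 := d15_0 (iv0 D45088) D45091 F70999
theorem F71002 : act 1 n21695 = n45091 := d15_1 D21695 (iv7 D45091) F33860
theorem F71003 : act 7 n45088 = n21695 := d15_2 F70995 F71001 (iv2 F70997)
theorem F71004 : act 2 n45088 = n21694 := d15_3 (iv0 D21694) D21695 (iv7 F71003)
theorem F71005 : act 7 n21694 = n45089 := d4_2 (iv7 F71003) F71004 F70997
theorem F71006 : act 1 n45091 = n21694 := d15_1 F71002 F71005 F70997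
def n45092 : Q := act 0 n21529
theorem D45092 : act 0 n21529 = n45092 := rfl
theorem F71007 : act 4 n45092 = n40677 := d20_2 D21529 D45092 F61774 (iv1 F58734) D38007 F62909 (iv1 D21524) F16279 F6750 D10280
theorem F71008 : act 2 n21710 = n45092 := d15_3 (iv0 D45092) F63064 (iv7 F62598)
theorem F71009 : act 1 n21533 = n45092 := d15_0 (iv0 D45092) F62831 (iv2 F62823)
theorem F71010 : act 7 n45092 = n21610 := d15_2 (iv0 F63063) F71009 F34010
theorem F71011 : act 3 n44851 = n45092 := d8_3 F71010 (iv3 F64244) (iv7 F70452)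
theorem F71012 : act 6 n44629 = n45092 := d14_5 F71010 (iv6 D21610) F16422 D21246 (iv7 F70173)
def n45093 : Q := act 3 n21529
theorem D45093 : act 3 n21529 = n45093 := rfl
theorem F71013 : act 7 n45093 = n21732 := d8_2 (iv7 F62831) D45093 (iv3 D21732)
theorem F71014 : act 0 n44635 = n45093 := d20_4 F66283 (iv1 D37846) (iv4 F33473) (iv3 F70186) (iv3 D45093) (iv4 D21529) (iv1 F16287) (iv4 F16479) F16478 (iv1 F33461)
def n45094 : Q := act 5 n21529
theorem D45094 : act 5 n21529 = n45094 := rfl
theorem F71015 : act 2 n45094 = n21713 := d2_1 D45094 (iv5 D21713) (iv2 F62830)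
theorem F71016 : act 7 n45094 = n21733 := d13_2 (iv7 F62831) D45094 (iv5 D21733)
def n45095 : Q := act 1 n21530
theorem D45095 : act 1 n21530 = n45095 := rfl
theorem F71019 : act 5 n45016 = n45095 := d21_0 (iv1 D45095) (iv5 D21530) (iv6 F64826) (iv1 D19812) (iv6 D9305) D9304 D19808 F63284 (iv6 F63295) (iv1 F70808)
def n45098 : Q := act 5 n21533
theorem D45098 : act 5 n21533 = n45098 := rfl
theorem F71030 : act 2 n45098 = n21733 := d2_1 D45098 (iv5 D21733) (iv2 F62823)
theorem F71031 : act 7 n45098 = n21713 := d13_2 (iv7 F62824) D45098 (iv5 D21713)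
def n45099 : Q := act 4 n21534
theorem D45099 : act 4 n21534 = n45099 := rfl
theorem F71032 : act 2 n45099 = n21735 := d1_1 D45099 (iv4 D21735) (iv2 F62819)
theorem F71034 : act 7 n45099 = n21718 := d11_2 (iv7 F62820) D45099 (iv4 D21718)
def n45100 : Q := act 4 n21536
theorem D45100 : act 4 n21536 = n45100 := rfl
theorem F71035 : act 2 n45100 = n21741 := d1_1 D45100 (iv4 D21741) (iv2 F62817)
theorem F71037 : act 7 n45100 = n21745 := d11_2 (iv7 F62818) D45100 (iv4 D21745)
def n45101 : Q := act 4 n21537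
theorem D45101 : act 4 n21537 = n45101 := rfl
theorem F71038 : act 2 n45101 = n21745 := d1_1 D45101 (iv4 D21745) (iv2 F62814)
theorem F71039 : act 7 n45101 = n21741 := d11_2 (iv7 F62815) D45101 (iv4 D21741)
theorem F71040 : act 0 n45101 = n40713 := d18_2 (iv1 F33871) D45101 (iv4 D40713) (iv5 D19210) (iv4 F30854) (iv0 F63063) (iv4 D21533) F16280 (iv5 F16485)
theorem F71041 : act 1 n45100 = n40713 := d15_0 (iv0 F71040) F71039 (iv2 F71035)
def n45102 : Q := act 6 n21537
theorem D45102 : act 6 n21537 = n45102 := rfl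
theorem F71043 : act 5 n45102 = n23214 := d12_1 D45102 (iv6 D23214) (iv5 D10921) D10922 F33872
theorem F71045 : act 0 n44472 = n23214 := d21_1 D44472 (iv5 F71043) (iv6 D45102) (iv1 D21537) F16283 (iv5 D4664) (iv1 F3252) D4703 D10387 (iv1 F67580)
def n45112 : Q := act 0 n21542
theorem D45112 : act 0 n21542 = n45112 := rfl
def n45113 : Q := act 1 n21542
theorem D45113 : act 1 n21542 = n45113 := rfl
def n45114 : Q := act 7 n21542
theorem D45114 : act 7 n21542 = n45114 := rfl
theorem F71071 : act 6 n45114 = n36793 := d14_1 D45114 (iv7 D36793) (iv6 D17737) (iv7 F16294) D21542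
def n45115 : Q := act 0 n21543
theorem D45115 : act 0 n21543 = n45115 := rfl
theorem F71075 : act 4 n45115 = n26555 := d18_3 (iv1 D35458) (iv4 F33890) D45115 (iv5 D26555) (iv4 D12694) F9341 D8748 D18636 (iv5 F56161)
theorem F71076 : act 5 n45115 = n25708 := d19_1 D45115 F40628 F20206 (iv1 F9527) (iv5 D6123) (iv4 D2581) F2251 (iv1 F2206) F2208 F1532 F858 (iv1 F934) F922 F1406 (iv3 F1870) D1937 D4666 D10287 D21543
theorem F71077 : act 4 n38201 = n36063 := d20_0 (iv1 D36063) (iv4 F43663) (iv3 D27023) F21522 D17193 (iv4 F33890) D45115 F71075 F42516 (iv1 F59064)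
theorem F71078 : act 2 n26587 = n45115 := d15_3 (iv0 D45115) (iv0 F33892) (iv7 F42585)
theorem F71079 : act 1 n37192 = n45115 := d15_0 (iv0 D45115) F33891 D37192
theorem F71080 : act 7 n45115 = n25706 := d4_2 (iv7 F42585) F71078 F40623
theorem E8018 : n38575 = n37192 := (c15_1 D38575 F71079 F71080 F40623)
theorem F71081 : act 0 n37192 = n18373 := (sb E8018 (iv1 D38575))
def n45116 : Q := act 2 n21543
theorem D45116 : act 2 n21543 = n45116 := rfl
theorem F71082 : act 3 n45116 = n37228 := d0_2 D21543 D45116 (iv2 D37228) (iv3 D17897) (iv2 F16302)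
theorem F71083 : act 4 n45116 = n26542 := d1_2 (iv4 F33890) D45116 F42497
theorem F71084 : act 7 n45116 = n37192 := d4_2 (iv7 F33891) D45116 (iv2 D37192)
theorem F71085 : act 1 n45116 = n25706 := d15_0 (iv0 F40625) (iv7 F33891) D45116
theorem F71086 : act 1 n26587 = n45116 := d15_0 F71085 (iv7 F71080) (iv2 F71078)
theorem F71087 : act 5 n26507 = n45116 := d17_5 (iv1 F46075) (iv5 D26499) (iv1 D12654) D12656 D26507 F71085 (iv5 D25706) D25704 (iv4 F40618)
def n45117 : Q := act 5 n21543
theorem D45117 : act 5 n21543 = n45117 := rfl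
theorem F71088 : act 2 n45117 = n26507 := d2_1 D45117 F71087 (iv2 D45116)
theorem F71089 : act 3 n45117 = n21544 := d6_1 D45117 (iv5 D21544) D21543
theorem F71090 : act 7 n45117 = n26537 := d13_2 (iv7 F33891) D45117 F42492
theorem F71091 : act 4 n45117 = n26482 := d16_4 (iv4 F42465) F42466 (iv4 F33890) D45117 (iv5 D26482) (iv4 D12643) D12644 F21058 (iv2 F21074)
theorem F71092 : act 0 n45117 = n26706 := d18_0 (iv4 D26706) (iv1 F40599) (iv4 F51712) (iv5 F59399) (iv4 D38573) F42518 (iv4 F71075) (iv0 D45115) D45117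
def n45118 : Q := act 6 n21543
theorem D45118 : act 6 n21543 = n45118 := rfl
theorem F71093 : act 3 n45118 = n21545 := d7_1 D45118 (iv6 D21545) D21543
theorem F71094 : act 4 n45118 = n35459 := d10_1 D45118 (iv6 D35459) (iv4 F33890)
def n45119 : Q := act 6 n21544
theorem D45119 : act 6 n21544 = n45119 := rfl
def n45120 : Q := act 0 n21545
theorem D45120 : act 0 n21545 = n45120 := rfl
def n45121 : Q := act 1 n21545
theorem D45121 : act 1 n21545 = n45121 := rfl
def n45122 : Q := act 5 n21545
theorem D45122 : act 5 n21545 = n45122 := rfl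
def n45123 : Q := act 7 n21545
theorem D45123 : act 7 n21545 = n45123 := rfl
theorem F71101 : act 6 n45123 = n37200 := d14_1 D45123 (iv7 D37200) (iv6 D17888) (iv7 F16303) D21545
def n45127 : Q := act 5 n21546
theorem D45127 : act 5 n21546 = n45127 := rfl
theorem F71106 : act 6 n45127 = n37379 := d12_2 (iv6 F58194) D45127 F58301 (iv6 D37245) D37244
def n45132 : Q := act 0 n21549
theorem D45132 : act 0 n21549 = n45132 := rfl
def n45133 : Q := act 1 n21549
theorem D45133 : act 1 n21549 = n45133 := rfl
theorem F71109 : act 1 n45133 = n40559 := d15_1 D45133 (iv7 D40559) (iv2 F33905)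
def n45134 : Q := act 5 n21549
theorem D45134 : act 5 n21549 = n45134 := rfl
theorem F71110 : act 2 n45134 = n40558 := d2_1 D45134 (iv5 D40558) (iv2 F33905)
theorem F71111 : act 3 n45134 = n21556 := d6_1 D45134 (iv5 D21556) (iv3 F33906)
theorem F71112 : act 6 n45134 = n21550 := d12_2 D21549 D45134 (iv5 D21550) (iv6 D10294) D10293
def n45135 : Q := act 7 n21549
theorem D45135 : act 7 n21549 = n45135 := rfl
theorem F71113 : act 2 n45135 = n40559 := d4_1 D45135 (iv7 D40559) (iv2 F33905)
theorem F71114 : act 3 n45135 = n21557 := d8_1 D45135 (iv7 D21557) (iv3 F33906)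
theorem F71115 : act 6 n45135 = n37225 := d14_1 D45135 (iv7 D37225) (iv6 D17896) (iv7 F16315) D21549
theorem F71116 : act 1 n40559 = n45132 := d15_0 (iv0 D45132) D45135 F71113
theorem F71117 : act 1 n40557 = n45135 := d15_1 D40557 (iv7 D45135) F33905
theorem F71118 : act 1 n45135 = n40556 := d15_0 (iv0 D40556) D40559 (iv2 F71113)
def n45136 : Q := act 4 n21550
theorem D45136 : act 4 n21550 = n45136 := rfl
theorem F71119 : act 2 n45136 = n40560 := d1_1 D45136 (iv4 D40560) (iv2 F33907)
theorem F71120 : act 0 n45136 = n36417 := d18_2 F33910 D45136 (iv4 D36417) F28577 F14272 D9157 (iv4 F27363) (iv0 F27365) D20277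
theorem F71121 : act 1 n45136 = n36414 := d18_6 D8256 D17581 F28563 (iv4 F16320) D21550 D45136 (iv4 D36414) (iv0 D17584) (iv5 D8258)
def n45137 : Q := act 0 n21551
theorem D45137 : act 0 n21551 = n45137 := rfl
theorem F71122 : act 4 n45137 = n36848 := d20_8 F57758 (iv1 D36516) F28675 (iv3 F28477) D18937 D40063 F60959 D45137 F57792 (iv1 F57755)
theorem F71123 : act 2 n37227 = n45137 := d15_3 (iv0 D45137) (iv0 F43653) (iv7 F58184)
theorem F71124 : act 1 n37228 = n45137 := d15_0 (iv0 D45137) F33911 D37228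
theorem F71125 : act 7 n45137 = n37226 := d4_2 (iv7 F58184) F71123 (iv2 F58183)
def n45138 : Q := act 2 n21551
theorem D45138 : act 2 n21551 = n45138 := rfl
theorem F71127 : act 3 n45138 = n37192 := d0_2 D21551 D45138 (iv2 D37192) (iv3 D17886) (iv2 F16321)
theorem F71128 : act 7 n45138 = n37228 := d4_2 (iv7 F33911) D45138 (iv2 D37228)
theorem F71129 : act 1 n45138 = n37226 := d15_0 (iv0 D37226) (iv7 F33911) D45138
theorem F71130 : act 1 n37227 = n45138 := d15_0 F71129 (iv7 F71125) (iv2 F71123)
def n45139 : Q := act 5 n21551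
theorem D45139 : act 5 n21551 = n45139 := rfl
theorem F71131 : act 3 n45139 = n21552 := d6_1 D45139 (iv5 D21552) D21551
theorem F71133 : act 0 n32060 = n45139 := d20_4 (iv4 D15449) F11592 D15124 D32060 F71131 F33913 (iv1 F16466) (iv4 F16400) (iv3 F33974) (iv1 F33977)
def n45140 : Q := act 6 n21551
theorem D45140 : act 6 n21551 = n45140 := rfl
theorem F71134 : act 3 n45140 = n21553 := d7_1 D45140 (iv6 D21553) D21551
def n45141 : Q := act 6 n21552
theorem D45141 : act 6 n21552 = n45141 := rfl
theorem F71135 : act 2 n45141 = n37196 := d3_1 D45141 (iv6 D37196) (iv2 F33912)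
theorem F71136 : act 4 n45141 = n21676 := d10_1 D45141 (iv6 D21676) (iv4 F33913)
def n45142 : Q := act 0 n21553
theorem D45142 : act 0 n21553 = n45142 := rfl
def n45143 : Q := act 1 n21553
theorem D45143 : act 1 n21553 = n45143 := rfl
theorem F71137 : act 1 n45143 = n37200 := d15_1 D45143 (iv7 D37200) (iv2 F33915)
def n45144 : Q := act 5 n21553
theorem D45144 : act 5 n21553 = n45144 := rfl
theorem F71138 : act 2 n45144 = n37199 := d2_1 D45144 (iv5 D37199) (iv2 F33915)
def n45145 : Q := act 7 n21553
theorem D45145 : act 7 n21553 = n45145 := rfl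
theorem F71139 : act 2 n45145 = n37200 := d4_1 D45145 (iv7 D37200) (iv2 F33915)
theorem F71140 : act 4 n45145 = n21557 := d11_1 D45145 (iv7 D21557) (iv4 F33916)
theorem F71141 : act 6 n45145 = n37235 := d14_1 D45145 (iv7 D37235) (iv6 D17899) (iv7 F16322) D21553
theorem F71142 : act 1 n37200 = n45142 := d15_0 (iv0 D45142) D45145 F71139
theorem F71143 : act 1 n37198 = n45145 := d15_1 D37198 (iv7 D45145) F33915
theorem F71144 : act 1 n45145 = n37197 := d15_0 (iv0 D37197) D37200 (iv2 F71139)
def n45146 : Q := act 2 n21554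
theorem D45146 : act 2 n21554 = n45146 := rfl
theorem F71145 : act 7 n21555 = n45146 := d15_2 (iv0 D21554) D21555 (iv2 D45146)
def n45148 : Q := act 4 n21554
theorem D45148 : act 4 n21554 = n45148 := rfl
def n45149 : Q := act 5 n21554
theorem D45149 : act 5 n21554 = n45149 := rfl
theorem F71146 : act 0 n45149 = n38963 := d21_1 D45149 F59991 (iv6 D37260) (iv1 D17906) (iv6 D8452) (iv5 D3784) (iv1 F3239) D4669 D10296 D21554
def n45150 : Q := act 6 n21554
theorem D45150 : act 6 n21554 = n45150 := rfl
theorem F71147 : act 0 n38983 = n45150 := d21_4 F13255 D17905 D37256 (iv6 F60004) (iv6 D45150) D45149 F71146 F59991 (iv6 D37260) (iv1 D17906)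
theorem F71148 : act 1 n38968 = n45150 := d15_0 (iv0 F71147) (iv7 D38983) (iv2 F60000)
def n45151 : Q := act 7 n21554
theorem D45151 : act 7 n21554 = n45151 := rfl
theorem F71149 : act 2 n45151 = n21555 := d4_1 D45151 F71145 (iv2 D45146)
def n45152 : Q := act 3 n21555
theorem D45152 : act 3 n21555 = n45152 := rfl
def n45153 : Q := act 4 n21555
theorem D45153 : act 4 n21555 = n45153 := rfl
def n45154 : Q := act 5 n21555
theorem D45154 : act 5 n21555 = n45154 := rfl
theorem F71150 : act 0 n38963 = n45154 := d21_10 (iv5 D45154) (iv1 D21555) D21556 F33919 F16327 (iv6 F13616) (iv5 D8696) D8694 D18496 D38963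
def n45155 : Q := act 6 n21555
theorem D45155 : act 6 n21555 = n45155 := rfl
def n45156 : Q := act 0 n21556
theorem D45156 : act 0 n21556 = n45156 := rfl
def n45157 : Q := act 1 n21556
theorem D45157 : act 1 n21556 = n45157 := rfl
theorem F71151 : act 1 n45157 = n37214 := d15_1 D45157 (iv7 D37214) (iv2 F33918)
theorem F71152 : act 5 n37283 = n45157 := d21_6 F4230 D3949 F6929 D8455 D17914 D37283 (iv1 D45157) (iv5 D21556) (iv6 D10296) (iv1 F7268)
def n45158 : Q := act 4 n21556
theorem D45158 : act 4 n21556 = n45158 := rfl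
theorem F71153 : act 2 n45158 = n37213 := d1_1 D45158 (iv4 D37213) (iv2 F33918)
theorem F71154 : act 6 n45158 = n21559 := d10_2 (iv6 F33919) D45158 (iv4 D21559)
def n45159 : Q := act 7 n21556
theorem D45159 : act 7 n21556 = n45159 := rfl
theorem F71155 : act 2 n45159 = n37214 := d4_1 D45159 (iv7 D37214) (iv2 F33918)
theorem F71156 : act 5 n45159 = n21557 := d13_1 D45159 (iv7 D21557) D21556
theorem F71157 : act 6 n45159 = n37318 := d14_1 D45159 (iv7 D37318) (iv6 F30174) F30175 (iv6 F33919)
theorem F71158 : act 1 n37214 = n45156 := d15_0 (iv0 D45156) D45159 F71155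
theorem F71159 : act 1 n37212 = n45159 := d15_1 D37212 (iv7 D45159) F33918
theorem F71160 : act 5 n37399 = n45156 := d21_0 (iv1 F71158) F58167 (iv6 F33901) (iv1 F33903) D37245 (iv5 F58301) (iv1 F58306) (iv5 D17947) D17948 D37399
theorem F71161 : act 1 n45159 = n37211 := d15_0 (iv0 D37211) D37214 (iv2 F71155)
def n45160 : Q := act 6 n21558
theorem D45160 : act 6 n21558 = n45160 := rfl
theorem F71162 : act 2 n45160 = n27915 := d3_1 D45160 (iv6 D27915) F33928
theorem F71163 : act 3 n45160 = n37506 := d7_1 D45160 (iv6 D37506) F33929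
theorem F71164 : act 5 n45160 = n45025 := d12_1 D45160 (iv6 D45025) (iv5 D21504) (iv6 F27355) (iv5 F33927)
def n45161 : Q := act 3 n21559
theorem D45161 : act 3 n21559 = n45161 := rfl
def n45162 : Q := act 5 n21559
theorem D45162 : act 5 n21559 = n45162 := rfl
theorem F71165 : act 2 n45162 = n37219 := d2_1 D45162 (iv5 D37219) (iv2 F33930)
theorem F71166 : act 4 n45162 = n40470 := d16_2 D21559 D45162 (iv5 D40470) (iv4 F31685) (iv5 D19852) F14550 D16689 F27344 (iv2 F16326)
def n45163 : Q := act 0 n21560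
theorem D45163 : act 0 n21560 = n45163 := rfl
theorem F71167 : act 4 n45163 = n34577 := d18_1 D45163 F54851 (iv4 F51822) F51823 (iv4 D25697) (iv0 D12207) D12209 D25704 F40620
theorem F71168 : act 5 n45163 = n26706 := d19_1 D45163 (iv4 D26706) F21196 (iv1 F12067) (iv5 D7762) (iv4 D3521) F2708 F1590 (iv5 D658) F616 F459 F993 D601 (iv4 F1592) D1558 D3526 F7298 D10301 D21560
theorem F71169 : act 1 n37269 = n45163 := d15_0 (iv0 D45163) F33932 D37269
theorem F71170 : act 7 n37268 = n45163 := d13_0 F71168 (iv7 F51366) (iv5 F58219)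
theorem F71171 : act 2 n45163 = n34579 := d15_3 (iv0 F60280) F60281 F71170
def n45164 : Q := act 1 n21560
theorem D45164 : act 1 n21560 = n45164 := rfl
theorem F71172 : act 1 n45164 = n37269 := d15_1 D45164 (iv7 F60279) F60278
theorem F71173 : act 7 n45164 = n34579 := d15_2 (iv0 D45163) D45164 (iv2 F71171)
theorem F71174 : act 4 n45164 = n26730 := d17_9 F42861 (iv5 D26578) (iv1 F21098) D18369 (iv4 F40624) (iv5 D25706) D25704 F40620 D45164
theorem F71175 : act 3 n41467 = n45164 := d19_19 (iv1 D45164) (iv5 F40620) (iv4 F40618) F28365 D17402 F28367 (iv4 F22296) F22295 (iv1 F26280) F18406 (iv4 F36974) (iv3 F41509) (iv1 F68229) F68231 (iv4 F63907) (iv3 D41460) (iv1 D19522) D19524 D41467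
theorem F71176 : act 2 n37268 = n45164 := d1_3 F71174 F59376 F59379
def n45165 : Q := act 6 n21560
theorem D45165 : act 6 n21560 = n45165 := rfl
theorem F71177 : act 3 n45165 = n21562 := d7_1 D45165 (iv6 D21562) D21560
theorem F71178 : act 4 n45165 = n36575 := d10_1 D45165 (iv6 D36575) (iv4 F33931)
def n45166 : Q := act 6 n21561
theorem D45166 : act 6 n21561 = n45166 := rfl
theorem F71180 : act 4 n45166 = n21670 := d10_1 D45166 (iv6 D21670) (iv4 F33935)
def n45167 : Q := act 0 n21562
theorem D45167 : act 0 n21562 = n45167 := rfl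
def n45168 : Q := act 1 n21562
theorem D45168 : act 1 n21562 = n45168 := rfl
theorem F71181 : act 1 n45168 = n37305 := d15_1 D45168 (iv7 D37305) (iv2 F33936)
def n45169 : Q := act 5 n21562
theorem D45169 : act 5 n21562 = n45169 := rfl
theorem F71182 : act 2 n45169 = n37304 := d2_1 D45169 (iv5 D37304) (iv2 F33936)
def n45170 : Q := act 7 n21562
theorem D45170 : act 7 n21562 = n45170 := rfl
theorem F71183 : act 2 n45170 = n37305 := d4_1 D45170 (iv7 D37305) (iv2 F33936)
theorem F71184 : act 4 n45170 = n21566 := d11_1 D45170 (iv7 D21566) (iv4 F33937)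
theorem F71185 : act 6 n45170 = n37278 := d14_1 D45170 (iv7 D37278) (iv6 D17913) (iv7 F16378) D21562
theorem F71186 : act 1 n37305 = n45167 := d15_0 (iv0 D45167) D45170 F71183
theorem F71187 : act 1 n37303 = n45170 := d15_1 D37303 (iv7 D45170) F33936
theorem F71188 : act 1 n45170 = n37302 := d15_0 (iv0 D37302) D37305 (iv2 F71183)
def n45171 : Q := act 2 n21563
theorem D45171 : act 2 n21563 = n45171 := rfl
theorem F71189 : act 7 n21564 = n45171 := d15_2 (iv0 D21563) D21564 (iv2 D45171)
def n45172 : Q := act 3 n21563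
theorem D45172 : act 3 n21563 = n45172 := rfl
def n45173 : Q := act 4 n21563
theorem D45173 : act 4 n21563 = n45173 := rfl
def n45174 : Q := act 5 n21563
theorem D45174 : act 5 n21563 = n45174 := rfl
theorem F71190 : act 0 n45174 = n38982 := d21_1 D45174 (iv5 D38982) (iv6 D18502) (iv1 D8695) (iv6 D3897) F2867 D3526 F7298 D10302 D21563
theorem F71191 : act 6 n45174 = n38960 := d21_9 (iv5 D18501) (iv1 D8695) D8696 F13616 F27345 (iv6 F33940) (iv5 D21565) D21563 D45174 (iv1 F59994)
def n45175 : Q := act 6 n21563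
theorem D45175 : act 6 n21563 = n45175 := rfl
theorem F71192 : act 5 n45175 = n21572 := d21_6 F2867 D3526 F7298 D10302 D21563 D45175 (iv1 D21572) F17011 (iv6 D8446) F7083
def n45176 : Q := act 7 n21563
theorem D45176 : act 7 n21563 = n45176 := rfl
theorem F71193 : act 2 n45176 = n21564 := d4_1 D45176 F71189 (iv2 D45171)
def n45179 : Q := act 5 n21564
theorem D45179 : act 5 n21564 = n45179 := rfl
def n45181 : Q := act 0 n21565
theorem D45181 : act 0 n21565 = n45181 := rfl
def n45182 : Q := act 1 n21565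
theorem D45182 : act 1 n21565 = n45182 := rfl
theorem F71194 : act 1 n45182 = n37318 := d15_1 D45182 (iv7 D37318) (iv2 F33939)
theorem F71195 : act 5 n45150 = n45182 := d21_0 (iv1 D45182) (iv5 D21565) (iv6 D10302) (iv1 F6772) D8452 F13255 D17905 D37256 (iv6 F60004) F71147
def n45183 : Q := act 4 n21565
theorem D45183 : act 4 n21565 = n45183 := rfl
theorem F71196 : act 2 n45183 = n37317 := d1_1 D45183 (iv4 D37317) (iv2 F33939)
theorem F71197 : act 6 n45183 = n34419 := d10_2 (iv6 F33940) D45183 (iv4 D34419)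
def n45184 : Q := act 7 n21565
theorem D45184 : act 7 n21565 = n45184 := rfl
theorem F71198 : act 2 n45184 = n37318 := d4_1 D45184 (iv7 D37318) (iv2 F33939)
theorem F71199 : act 5 n45184 = n21566 := d13_1 D45184 (iv7 D21566) D21565
theorem F71200 : act 6 n45184 = n37214 := d14_1 D45184 (iv7 D37214) F29065 (iv7 F27344) (iv6 F33940)
theorem F71201 : act 1 n37318 = n45181 := d15_0 (iv0 D45181) D45184 F71198
theorem F71202 : act 1 n37316 = n45184 := d15_1 D37316 (iv7 D45184) F33939
theorem F71203 : act 1 n45184 = n37315 := d15_0 (iv0 D37315) D37318 (iv2 F71198)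
def n45185 : Q := act 0 n21567
theorem D45185 : act 0 n21567 = n45185 := rfl
def n45186 : Q := act 1 n21567
theorem D45186 : act 1 n21567 = n45186 := rfl
theorem F71204 : act 1 n45186 = n40567 := d15_1 D45186 (iv7 D40567) (iv2 F33946)
def n45187 : Q := act 7 n21567
theorem D45187 : act 7 n21567 = n45187 := rfl
theorem F71205 : act 2 n45187 = n40567 := d4_1 D45187 (iv7 D40567) (iv2 F33946)
theorem F71206 : act 3 n45187 = n21573 := d8_1 D45187 (iv7 D21573) (iv3 F33947)
theorem F71207 : act 5 n45187 = n37225 := d13_1 D45187 (iv7 D37225) (iv5 F33948)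
theorem F71208 : act 6 n45187 = n37295 := d14_1 D45187 (iv7 D37295) (iv6 D17918) (iv7 F16382) D21567
theorem F71209 : act 1 n40567 = n45185 := d15_0 (iv0 D45185) D45187 F71205
theorem F71210 : act 1 n40566 = n45187 := d15_1 D40566 (iv7 D45187) F33946
theorem F71211 : act 1 n45187 = n40565 := d15_0 (iv0 D40565) D40567 (iv2 F71205)
def n45188 : Q := act 0 n21568
theorem D45188 : act 0 n21568 = n45188 := rfl
theorem F71212 : act 1 n37298 = n45188 := d15_0 (iv0 D45188) F33949 D37298
def n45189 : Q := act 1 n21568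
theorem D45189 : act 1 n21568 = n45189 := rfl
theorem F71213 : act 3 n32061 = n45189 := d20_3 (iv4 D15635) D15633 (iv4 F50679) (iv1 D45189) (iv3 D21568) (iv4 D10304) (iv1 D4672) D4673 D10308 F26848
theorem F71214 : act 5 n45189 = n32060 := d6_2 D32061 F71213 (iv3 D32060)
theorem F71215 : act 7 n45189 = n37297 := d8_2 F51737 F71213 (iv3 F58255)
theorem F71216 : act 2 n37297 = n45188 := d15_3 (iv0 D45188) D45189 F71215
theorem F71217 : act 2 n45189 = n37296 := d15_3 (iv0 D37296) D37297 (iv7 F71215)
theorem F71218 : act 7 n37296 = n45188 := d4_2 (iv7 F71215) F71217 (iv2 F71216)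
theorem F71219 : act 1 n45189 = n37298 := d15_0 F71212 (iv7 F71218) (iv2 F71217)
def n45190 : Q := act 2 n21568
theorem D45190 : act 2 n21568 = n45190 := rfl
theorem F71220 : act 3 n45190 = n37269 := d0_2 D21568 D45190 (iv2 D37269) (iv3 D17911) (iv2 F16385)
theorem F71221 : act 7 n45190 = n37298 := d4_2 (iv7 F33949) D45190 (iv2 D37298)
theorem F71222 : act 1 n45190 = n37296 := d15_0 (iv0 D37296) (iv7 F33949) D45190
theorem F71223 : act 1 n37297 = n45190 := d15_0 F71222 F71218 (iv2 F71216)
def n45191 : Q := act 5 n21568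
theorem D45191 : act 5 n21568 = n45191 := rfl
theorem F71224 : act 3 n45191 = n21569 := d6_1 D45191 (iv5 D21569) D21568
theorem F71225 : act 7 n45191 = n37299 := d13_2 (iv7 F33949) D45191 (iv5 D37299)
theorem F71226 : act 0 n26865 = n45191 := d20_4 F41829 (iv1 D12853) D12854 D26865 F71224 F33951 (iv1 F17708) F17706 (iv3 F26496) (iv1 F41826)
def n45192 : Q := act 6 n21568
theorem D45192 : act 6 n21568 = n45192 := rfl
theorem F71227 : act 3 n45192 = n21570 := d7_1 D45192 (iv6 D21570) D21568
def n45193 : Q := act 6 n21569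
theorem D45193 : act 6 n21569 = n45193 := rfl
theorem F71228 : act 2 n45193 = n37274 := d3_1 D45193 (iv6 D37274) (iv2 F33950)
theorem F71229 : act 4 n45193 = n21661 := d10_1 D45193 (iv6 D21661) (iv4 F33951)
def n45194 : Q := act 0 n21570
theorem D45194 : act 0 n21570 = n45194 := rfl
def n45195 : Q := act 1 n21570
theorem D45195 : act 1 n21570 = n45195 := rfl
def n45196 : Q := act 5 n21570
theorem D45196 : act 5 n21570 = n45196 := rfl
theorem F71231 : act 2 n45196 = n37277 := d2_1 D45196 (iv5 D37277) (iv2 F33953)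
def n45197 : Q := act 7 n21570
theorem D45197 : act 7 n21570 = n45197 := rfl
theorem F71232 : act 2 n45197 = n37278 := d4_1 D45197 (iv7 D37278) (iv2 F33953)
theorem F71233 : act 4 n45197 = n21573 := d11_1 D45197 (iv7 D21573) (iv4 F33954)
theorem F71234 : act 6 n45197 = n37305 := d14_1 D45197 (iv7 D37305) (iv6 D17921) (iv7 F16386) D21570
theorem F71236 : act 1 n37276 = n45197 := d15_1 D37276 (iv7 D45197) F33953
theorem F71237 : act 1 n45197 = n37275 := d15_0 (iv0 D37275) D37278 (iv2 F71232)
def n45198 : Q := act 2 n21571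
theorem D45198 : act 2 n21571 = n45198 := rfl
theorem F71238 : act 7 n21572 = n45198 := d15_2 (iv0 D21571) D21572 (iv2 D45198)
def n45201 : Q := act 5 n21571
theorem D45201 : act 5 n21571 = n45201 := rfl
theorem F71239 : act 6 n45201 = n37385 := d21_3 (iv5 F17011) D21571 D45201 (iv1 D37385) (iv6 D17943) D17942 D37379 F58301 (iv6 D37245) (iv1 D17901)
def n45202 : Q := act 6 n21571
theorem D45202 : act 6 n21571 = n45202 := rfl
theorem F71240 : act 5 n45202 = n37212 := d21_6 F9781 (iv1 F5907) F7302 D10305 D21571 D45202 (iv1 D37212) (iv5 D17891) (iv6 D8438) (iv1 F9783)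
theorem F71241 : act 0 n45202 = n37260 := d21_1 (iv5 F71240) (iv5 F59991) (iv6 D38963) D38960 (iv6 F71191) (iv5 D45174) (iv1 F33943) (iv5 F58263) (iv6 F71157) (iv1 F71159)
def n45203 : Q := act 7 n21571
theorem D45203 : act 7 n21571 = n45203 := rfl
theorem F71242 : act 2 n45203 = n21572 := d4_1 D45203 F71238 (iv2 D45198)
def n45204 : Q := act 3 n21572
theorem D45204 : act 3 n21572 = n45204 := rfl
def n45205 : Q := act 4 n21572
theorem D45205 : act 4 n21572 = n45205 := rfl
def n45206 : Q := act 6 n21572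
theorem D45206 : act 6 n21572 = n45206 := rfl
theorem F71243 : act 5 n45206 = n38960 := d12_1 D45206 (iv6 F71191) (iv5 D45174) D45175 F71192
theorem F71244 : act 5 n38980 = n37315 := d21_0 (iv1 F71203) F71199 F33942 (iv1 F33955) D45206 F71243 (iv1 F59994) (iv5 D18501) D18502 D38980
def n45207 : Q := act 0 n21574
theorem D45207 : act 0 n21574 = n45207 := rfl
theorem F71245 : act 1 n37321 = n45207 := d15_0 (iv0 D45207) F33963 D37321
def n45208 : Q := act 1 n21574
theorem D45208 : act 1 n21574 = n45208 := rfl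
def n45209 : Q := act 2 n21574
theorem D45209 : act 2 n21574 = n45209 := rfl
theorem F71246 : act 3 n45209 = n37331 := d0_2 D21574 D45209 (iv2 D37331) (iv3 D17929) F16390
theorem F71247 : act 4 n45209 = n37882 := d1_2 (iv4 F33962) D45209 (iv2 D37882)
theorem F71248 : act 7 n45209 = n37321 := d4_2 (iv7 F33963) D45209 (iv2 D37321)
theorem F71249 : act 1 n45209 = n37319 := d15_0 (iv0 D37319) (iv7 F33963) D45209
theorem F71250 : act 1 n45208 = n37321 := d15_1 D45208 (iv7 F71248) (iv2 D45209)
theorem F71251 : act 1 n37320 = n45209 := d15_1 D37320 F71248 (iv2 D37321)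
def n45210 : Q := act 6 n21574
theorem D45210 : act 6 n21574 = n45210 := rfl
theorem F71252 : act 3 n45210 = n21575 := d7_1 D45210 (iv6 D21575) D21574
theorem F71253 : act 4 n45210 = n37883 := d10_1 D45210 (iv6 D37883) (iv4 F33962)
def n45211 : Q := act 0 n21575
theorem D45211 : act 0 n21575 = n45211 := rfl
theorem F71254 : act 2 n34788 = n45211 := d15_3 (iv0 D45211) F59805 F55872
theorem F71255 : act 4 n45211 = n34787 := d1_2 D34788 F71254 (iv2 D34787)
theorem F71256 : act 7 n37336 = n45211 := d15_2 F59740 D37336 (iv2 F71254)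
theorem F71257 : act 2 n35153 = n37336 := d4_3 F71256 (iv2 F71254) (iv7 F55872)
theorem F71258 : act 4 n35152 = n37336 := d11_3 F71256 F71255 (iv7 F55868)
theorem F71259 : act 1 n37338 = n45211 := d15_1 (iv0 F59803) (iv7 F71256) (iv2 F71257)
def n45212 : Q := act 5 n21575
theorem D45212 : act 5 n21575 = n45212 := rfl
theorem F71260 : act 2 n45212 = n37337 := d2_1 D45212 (iv5 D37337) (iv2 F33964)
def n45213 : Q := act 7 n21575
theorem D45213 : act 7 n21575 = n45213 := rfl
theorem F71261 : act 2 n45213 = n37338 := d4_1 D45213 (iv7 D37338) (iv2 F33964)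
theorem F71262 : act 4 n45213 = n40445 := d11_1 D45213 (iv7 D40445) (iv4 F33965)
theorem F71263 : act 6 n45213 = n34726 := d14_1 D45213 F61590 (iv6 D17928) F16391 D21575
theorem F71264 : act 1 n37336 = n45213 := d15_1 D37336 (iv7 D45213) F33964
theorem F71265 : act 1 n45213 = n34788 := d15_1 F71264 (iv7 F55872) F71257
theorem F71266 : act 4 n21948 = n34606 := d20_0 (iv1 D34606) F27542 F12388 D7857 D16853 D34788 (iv1 F71265) F71262 (iv3 F63798) (iv1 F63802)
theorem F71267 : act 3 n36683 = n21948 := d20_5 (iv4 F38268) (iv1 F25187) F24900 (iv3 F28755) (iv1 F57561) F71266 (iv1 D34606) F27542 F12388 D7857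
def n45214 : Q := act 0 n21576
theorem D45214 : act 0 n21576 = n45214 := rfl
theorem F71268 : act 1 n37331 = n45214 := d15_0 (iv0 D45214) F33967 D37331
def n45215 : Q := act 1 n21576
theorem D45215 : act 1 n21576 = n45215 := rfl
def n45216 : Q := act 2 n21576
theorem D45216 : act 2 n21576 = n45216 := rfl
theorem F71269 : act 3 n45216 = n37321 := d0_2 D21576 D45216 (iv2 D37321) (iv3 D17926) F16395
theorem F71270 : act 4 n45216 = n36012 := d1_2 (iv4 F33966) D45216 (iv2 D36012)
theorem F71271 : act 7 n45216 = n37331 := d4_2 (iv7 F33967) D45216 (iv2 D37331)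
theorem F71272 : act 1 n45216 = n37329 := d15_0 (iv0 D37329) (iv7 F33967) D45216
theorem F71273 : act 1 n45215 = n37331 := d15_1 D45215 (iv7 F71271) (iv2 D45216)
theorem F71274 : act 1 n37330 = n45216 := d15_1 D37330 F71271 (iv2 D37331)
def n45217 : Q := act 6 n21576
theorem D45217 : act 6 n21576 = n45217 := rfl
theorem F71275 : act 3 n45217 = n21577 := d7_1 D45217 (iv6 D21577) D21576
theorem F71276 : act 4 n45217 = n36013 := d10_1 D45217 (iv6 D36013) (iv4 F33966)
def n45218 : Q := act 1 n21577
theorem D45218 : act 1 n21577 = n45218 := rfl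
theorem F71277 : act 1 n45218 = n34726 := d15_1 D45218 F61590 (iv2 F33968)
theorem F71278 : act 7 n45218 = n34723 := d15_2 (iv0 F59814) D45218 F54960
theorem F71279 : act 4 n45218 = n26838 := d18_7 (iv1 F22089) D27868 (iv1 F59763) F29669 (iv5 F28423) (iv4 F33969) D45218 F43225 (iv5 F61594)
theorem F71280 : act 2 n26839 = n45218 := d1_3 F71279 (iv2 D26838) D26839
def n45219 : Q := act 5 n21577
theorem D45219 : act 5 n21577 = n45219 := rfl
theorem F71281 : act 2 n45219 = n37327 := d2_1 D45219 (iv5 D37327) (iv2 F33968)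
theorem F71282 : act 0 n45219 = n39570 := d17_2 (iv1 D45218) D45219 (iv5 D39570) (iv4 D18736) (iv5 D8785) D8782 F61600 F43227 (iv4 F71279)
def n45220 : Q := act 7 n21577
theorem D45220 : act 7 n21577 = n45220 := rfl
theorem F71283 : act 2 n45220 = n34726 := d4_1 D45220 F61590 (iv2 F33968)
theorem F71284 : act 4 n45220 = n36002 := d11_1 D45220 (iv7 D36002) (iv4 F33969)
theorem F71285 : act 6 n45220 = n37338 := d14_1 D45220 (iv7 D37338) (iv6 D17931) (iv7 F16393) D21577
theorem F71286 : act 1 n26839 = n45220 := d15_1 (iv0 F59775) (iv7 D45220) F33968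
theorem F71287 : act 1 n45220 = n34723 := d15_1 F71286 (iv7 F71278) (iv2 F71280)
def n45221 : Q := act 6 n21578
theorem D45221 : act 6 n21578 = n45221 := rfl
theorem F71288 : act 2 n45221 = n21580 := d3_1 D45221 (iv6 D21580) D21578
theorem F71289 : act 4 n45221 = n26323 := d10_1 D45221 (iv6 D26323) (iv4 F33970)
def n45222 : Q := act 6 n21579
theorem D45222 : act 6 n21579 = n45222 := rfl
theorem F71290 : act 3 n45222 = n21581 := d7_1 D45222 (iv6 D21581) (iv3 F33974)
theorem F71291 : act 4 n45222 = n32559 := d10_1 D45222 (iv6 D32559) (iv4 F33975)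
def n45223 : Q := act 0 n21580
theorem D45223 : act 0 n21580 = n45223 := rfl
def n45224 : Q := act 1 n21580
theorem D45224 : act 1 n21580 = n45224 := rfl
def n45225 : Q := act 5 n21580
theorem D45225 : act 5 n21580 = n45225 := rfl
theorem F71292 : act 3 n45225 = n21584 := d6_1 D45225 (iv5 D21584) (iv3 F33979)
def n45226 : Q := act 7 n21580
theorem D45226 : act 7 n21580 = n45226 := rfl
theorem F71293 : act 3 n45226 = n21585 := d8_1 D45226 (iv7 D21585) (iv3 F33979)
theorem F71294 : act 4 n45226 = n26326 := d11_1 D45226 (iv7 D26326) (iv4 F33980)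
theorem F71295 : act 6 n45226 = n32857 := d14_1 D45226 (iv7 D32857) (iv6 D15815) (iv7 F16397) D21580
def n45227 : Q := act 0 n21581
theorem D45227 : act 0 n21581 = n45227 := rfl
def n45228 : Q := act 1 n21581
theorem D45228 : act 1 n21581 = n45228 := rfl
theorem F71296 : act 1 n45228 = n44770 := d15_1 D45228 (iv7 D44770) (iv2 F33981)
def n45229 : Q := act 5 n21581
theorem D45229 : act 5 n21581 = n45229 := rfl
theorem F71297 : act 2 n45229 = n44769 := d2_1 D45229 (iv5 D44769) (iv2 F33981)
theorem F71298 : act 6 n45229 = n21584 := d12_2 D21581 D45229 (iv5 D21584) (iv6 D10310) D10309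
def n45230 : Q := act 7 n21581
theorem D45230 : act 7 n21581 = n45230 := rfl
theorem F71299 : act 2 n45230 = n44770 := d4_1 D45230 (iv7 D44770) (iv2 F33981)
theorem F71300 : act 4 n45230 = n44621 := d11_1 D45230 (iv7 D44621) (iv4 F33982)
theorem F71301 : act 6 n45230 = n37346 := d14_1 D45230 (iv7 D37346) (iv6 D17934) (iv7 F16399) D21581
theorem F71302 : act 1 n44770 = n45227 := d15_0 (iv0 D45227) D45230 F71299
theorem F71303 : act 1 n44768 = n45230 := d15_1 D44768 (iv7 D45230) F33981
theorem F71304 : act 1 n45230 = n44767 := d15_0 (iv0 D44767) D44770 (iv2 F71299)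
def n45231 : Q := act 2 n21582
theorem D45231 : act 2 n21582 = n45231 := rfl
theorem F71305 : act 7 n21583 = n45231 := d15_2 (iv0 D21582) D21583 (iv2 D45231)
def n45232 : Q := act 3 n21582
theorem D45232 : act 3 n21582 = n45232 := rfl
def n45233 : Q := act 4 n21582
theorem D45233 : act 4 n21582 = n45233 := rfl
def n45234 : Q := act 5 n21582
theorem D45234 : act 5 n21582 = n45234 := rfl
def n45235 : Q := act 6 n21582
theorem D45235 : act 6 n21582 = n45235 := rfl
def n45236 : Q := act 7 n21582
theorem D45236 : act 7 n21582 = n45236 := rfl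
theorem F71306 : act 2 n45236 = n21583 := d4_1 D45236 F71305 (iv2 D45231)
def n45237 : Q := act 3 n21583
theorem D45237 : act 3 n21583 = n45237 := rfl
def n45238 : Q := act 5 n21583
theorem D45238 : act 5 n21583 = n45238 := rfl
def n45239 : Q := act 6 n21583
theorem D45239 : act 6 n21583 = n45239 := rfl
def n45241 : Q := act 1 n21584
theorem D45241 : act 1 n21584 = n45241 := rfl
def n45242 : Q := act 4 n21584
theorem D45242 : act 4 n21584 = n45242 := rfl
def n45243 : Q := act 7 n21584
theorem D45243 : act 7 n21584 = n45243 := rfl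
theorem F71307 : act 5 n45243 = n21585 := d13_1 D45243 (iv7 D21585) D21584
def n45245 : Q := act 1 n21586
theorem D45245 : act 1 n21586 = n45245 := rfl
theorem F71309 : act 1 n45245 = n21591 := d15_1 D45245 (iv7 D21591) D21586
def n45246 : Q := act 3 n21586
theorem D45246 : act 3 n21586 = n45246 := rfl
theorem F71310 : act 7 n45246 = n21592 := d8_2 F33985 D45246 (iv3 D21592)
def n45247 : Q := act 4 n21586
theorem D45247 : act 4 n21586 = n45247 := rfl
theorem F71311 : act 2 n45247 = n21588 := d1_1 D45247 (iv4 D21588) D21586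
theorem F71312 : act 7 n45247 = n21593 := d11_2 F33985 D45247 (iv4 D21593)
def n45248 : Q := act 5 n21586
theorem D45248 : act 5 n21586 = n45248 := rfl
theorem F71313 : act 2 n45248 = n21589 := d2_1 D45248 (iv5 D21589) D21586
theorem F71314 : act 7 n45248 = n21594 := d13_2 F33985 D45248 (iv5 D21594)
def n45249 : Q := act 6 n21586
theorem D45249 : act 6 n21586 = n45249 := rfl
theorem F71315 : act 2 n45249 = n21590 := d3_1 D45249 (iv6 D21590) D21586
def n45250 : Q := act 0 n21587
theorem D45250 : act 0 n21587 = n45250 := rfl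
def n45251 : Q := act 1 n21587
theorem D45251 : act 1 n21587 = n45251 := rfl
def n45252 : Q := act 2 n21587
theorem D45252 : act 2 n21587 = n45252 := rfl
def n45253 : Q := act 4 n21587
theorem D45253 : act 4 n21587 = n45253 := rfl
theorem F71316 : act 0 n45253 = n27171 := d20_7 D8403 F41803 F9266 (iv3 F6775) D10311 D21587 D45253 F43932 F21664 (iv1 F9660)
theorem F71317 : act 0 n27158 = n45253 := d20_1 (iv4 F43914) (iv4 D45253) (iv3 D21587) (iv1 F33847) F33843 (iv4 F58402) (iv1 F58403) D37604 F58467 (iv1 D27160)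
def n45254 : Q := act 5 n21587
theorem D45254 : act 5 n21587 = n45254 := rfl
theorem F71318 : act 3 n45254 = n21589 := d6_1 D45254 (iv5 D21589) D21587
def n45255 : Q := act 6 n21587
theorem D45255 : act 6 n21587 = n45255 := rfl
theorem F71319 : act 3 n45255 = n21590 := d7_1 D45255 (iv6 D21590) D21587
def n45256 : Q := act 7 n21587
theorem D45256 : act 7 n21587 = n45256 := rfl
theorem F71320 : act 3 n45256 = n21591 := d8_1 D45256 (iv7 D21591) D21587
def n45257 : Q := act 0 n21588
theorem D45257 : act 0 n21588 = n45257 := rfl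
theorem F71321 : act 4 n45257 = n37034 := d20_2 D21588 D45257 (iv3 D37034) (iv1 D17825) (iv3 D8402) D8403 F41803 F9266 (iv3 F6775) D10311
def n45258 : Q := act 1 n21588
theorem D45258 : act 1 n21588 = n45258 := rfl
theorem F71322 : act 1 n45258 = n21593 := d15_1 D45258 (iv7 F71312) F71311
def n45259 : Q := act 3 n21588
theorem D45259 : act 3 n21588 = n45259 := rfl
def n45260 : Q := act 5 n21588
theorem D45260 : act 5 n21588 = n45260 := rfl
def n45261 : Q := act 6 n21588
theorem D45261 : act 6 n21588 = n45261 := rfl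
theorem F71323 : act 4 n45261 = n21590 := d10_1 D45261 (iv6 D21590) D21588
def n45262 : Q := act 7 n21588
theorem D45262 : act 7 n21588 = n45262 := rfl
theorem F71324 : act 2 n45262 = n21593 := d4_1 D45262 (iv7 F71312) F71311
theorem F71325 : act 4 n45262 = n21591 := d11_1 D45262 (iv7 D21591) D21588
theorem F71326 : act 1 n21593 = n45257 := d15_0 (iv0 D45257) D45262 F71324
def n45263 : Q := act 0 n21589
theorem D45263 : act 0 n21589 = n45263 := rfl
theorem F71327 : act 5 n45263 = n45155 := d21_2 D21589 D45263 (iv6 D45155) (iv1 D21555) (iv6 D10296) (iv5 D4669) (iv1 D1938) D1939 D4674 D10311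
def n45264 : Q := act 1 n21589
theorem D45264 : act 1 n21589 = n45264 := rfl
theorem F71328 : act 1 n45264 = n21594 := d15_1 D45264 (iv7 F71314) F71313
def n45265 : Q := act 4 n21589
theorem D45265 : act 4 n21589 = n45265 := rfl
def n45266 : Q := act 6 n21589
theorem D45266 : act 6 n21589 = n45266 := rfl
def n45267 : Q := act 7 n21589
theorem D45267 : act 7 n21589 = n45267 := rfl
theorem F71329 : act 2 n45267 = n21594 := d4_1 D45267 (iv7 F71314) F71313
theorem F71330 : act 5 n45267 = n21591 := d13_1 D45267 (iv7 D21591) D21589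
theorem F71331 : act 1 n21594 = n45263 := d15_0 (iv0 D45263) D45267 F71329
theorem F71332 : act 0 n21595 = n45201 := d21_10 (iv5 D45201) (iv1 F33959) (iv5 F33900) F33901 (iv1 F33917) D45155 (iv5 F71327) (iv1 F71331) (iv5 D21594) D21595
def n45268 : Q := act 0 n21590
theorem D45268 : act 0 n21590 = n45268 := rfl
def n45269 : Q := act 1 n21590
theorem D45269 : act 1 n21590 = n45269 := rfl
theorem F71333 : act 6 n37399 = n45269 := d21_3 D21556 D45156 (iv5 F71160) (iv1 D45269) (iv6 D21590) D21589 D45263 F71327 (iv6 D45155) (iv1 D21555)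
def n45270 : Q := act 7 n21590
theorem D45270 : act 7 n21590 = n45270 := rfl
def n45271 : Q := act 6 n21591
theorem D45271 : act 6 n21591 = n45271 := rfl
theorem F71334 : act 2 n45271 = n21595 := d3_1 D45271 (iv6 D21595) (iv2 F33986)
def n45272 : Q := act 0 n21592
theorem D45272 : act 0 n21592 = n45272 := rfl
def n45273 : Q := act 1 n21592
theorem D45273 : act 1 n21592 = n45273 := rfl
def n45274 : Q := act 2 n21592
theorem D45274 : act 2 n21592 = n45274 := rfl
def n45275 : Q := act 4 n21592
theorem D45275 : act 4 n21592 = n45275 := rfl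
theorem F71335 : act 0 n36985 = n45275 := d20_1 D36985 (iv4 D45275) (iv3 D21592) (iv1 D10312) F6775 (iv4 F9266) F41802 (iv4 D8398) D8397 D17802
def n45276 : Q := act 5 n21592
theorem D45276 : act 5 n21592 = n45276 := rfl
theorem F71336 : act 3 n45276 = n21594 := d6_1 D45276 (iv5 D21594) D21592
def n45277 : Q := act 6 n21592
theorem D45277 : act 6 n21592 = n45277 := rfl
theorem F71337 : act 3 n45277 = n21595 := d7_1 D45277 (iv6 D21595) D21592
def n45278 : Q := act 3 n21593
theorem D45278 : act 3 n21593 = n45278 := rfl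
def n45280 : Q := act 6 n21593
theorem D45280 : act 6 n21593 = n45280 := rfl
theorem F71338 : act 4 n45280 = n21595 := d10_1 D45280 (iv6 D21595) D21593
def n45281 : Q := act 4 n21594
theorem D45281 : act 4 n21594 = n45281 := rfl
def n45282 : Q := act 1 n21595
theorem D45282 : act 1 n21595 = n45282 := rfl
def n45283 : Q := act 5 n21595
theorem D45283 : act 5 n21595 = n45283 := rfl
theorem F71339 : act 0 n45127 = n45283 := d21_1 D45127 (iv5 D45283) (iv6 D21595) (iv1 D10312) (iv6 D4674) (iv5 D1939) D1937 D4666 D10288 D21546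
theorem E8019 : n38965 = n37245 := (c21_8 (iv5 D45283) F71332 (iv5 D45201) D45202 F71241 (iv6 D37260) (iv5 F29682) D38965 (iv5 F58301) (iv6 F71106) F71339)
theorem F71340 : act 0 n37245 = n37256 := (sb E8019 (iv1 F59999))
theorem F71341 : act 1 n37245 = n18497 := (sb E8019 (iv0 D38965))
theorem F71342 : act 5 n45269 = n38961 := d21_6 (iv5 F58301) (iv1 F58306) (iv5 D17947) D17948 D37399 F71333 (iv1 D38961) (iv5 D18496) D18497 (iv1 F71341)
def n45285 : Q := act 2 n21596
theorem D45285 : act 2 n21596 = n45285 := rfl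
theorem F71343 : act 7 n21597 = n45285 := d15_2 (iv0 D21596) D21597 (iv2 D45285)
def n45286 : Q := act 3 n21596
theorem D45286 : act 3 n21596 = n45286 := rfl
def n45287 : Q := act 4 n21596
theorem D45287 : act 4 n21596 = n45287 := rfl
def n45288 : Q := act 5 n21596
theorem D45288 : act 5 n21596 = n45288 := rfl
theorem F71344 : act 0 n37210 = n45288 := d21_10 (iv5 D45288) F70947 F70943 F33844 (iv1 F29079) D17948 D37401 F59937 (iv5 D37209) D37210
def n45289 : Q := act 7 n21596
theorem D45289 : act 7 n21596 = n45289 := rfl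
theorem F71345 : act 2 n45289 = n21597 := d4_1 D45289 F71343 (iv2 D45285)
def n45290 : Q := act 3 n21597
theorem D45290 : act 3 n21597 = n45290 := rfl
def n45291 : Q := act 4 n21597
theorem D45291 : act 4 n21597 = n45291 := rfl
def n45292 : Q := act 5 n21597
theorem D45292 : act 5 n21597 = n45292 := rfl
theorem F71346 : act 6 n45292 = n27704 := d21_3 (iv5 F70943) (iv1 F70946) D45292 (iv1 F44719) F22038 (iv5 F29686) (iv1 F59941) (iv5 F59942) (iv6 D21590) (iv1 F33847)
def n45293 : Q := act 6 n21597
theorem D45293 : act 6 n21597 = n45293 := rfl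
def n45301 : Q := act 6 n21600
theorem D45301 : act 6 n21600 = n45301 := rfl
theorem F71354 : act 4 n45301 = n21601 := d10_1 D45301 (iv6 D21601) D21600
def n45302 : Q := act 0 n21601
theorem D45302 : act 0 n21601 = n45302 := rfl
def n45303 : Q := act 1 n21601
theorem D45303 : act 1 n21601 = n45303 := rfl
def n45304 : Q := act 7 n21601
theorem D45304 : act 7 n21601 = n45304 := rfl
def n45307 : Q := act 6 n21602
theorem D45307 : act 6 n21602 = n45307 := rfl
theorem F71360 : act 2 n45307 = n45301 := d3_1 D45307 (iv6 D45301) (iv2 F33992)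
theorem F71361 : act 4 n45307 = n21603 := d10_1 D45307 (iv6 D21603) D21602
def n45308 : Q := act 0 n21603
theorem D45308 : act 0 n21603 = n45308 := rfl
def n45309 : Q := act 1 n21603
theorem D45309 : act 1 n21603 = n45309 := rfl
theorem F71362 : act 1 n45309 = n45304 := d15_1 D45309 (iv7 D45304) (iv2 F33994)
def n45310 : Q := act 7 n21603
theorem D45310 : act 7 n21603 = n45310 := rfl
theorem F71363 : act 2 n45310 = n45304 := d4_1 D45310 (iv7 D45304) (iv2 F33994)
theorem F71365 : act 1 n45304 = n45308 := d15_0 (iv0 D45308) D45310 F71363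
theorem F71366 : act 1 n45303 = n45310 := d15_1 D45303 (iv7 D45310) F33994
theorem F71367 : act 1 n45310 = n45302 := d15_0 (iv0 D45302) D45304 (iv2 F71363)
def n45311 : Q := act 3 n21604
theorem D45311 : act 3 n21604 = n45311 := rfl
theorem F71368 : act 4 n45311 = n38111 := d5_2 (iv4 F33995) D45311 (iv3 D38111) F29386 F17622
def n45313 : Q := act 6 n21604
theorem D45313 : act 6 n21604 = n45313 := rfl
theorem F71374 : act 4 n45313 = n21753 := d10_1 D45313 (iv6 D21753) (iv4 F33995)
def n45316 : Q := act 6 n21605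
theorem D45316 : act 6 n21605 = n45316 := rfl
theorem F71382 : act 2 n45316 = n45313 := d3_1 D45316 (iv6 D45313) F34000
theorem F71383 : act 4 n45316 = n21762 := d10_1 D45316 (iv6 D21762) (iv4 F33999)
def n45317 : Q := act 0 n21606
theorem D45317 : act 0 n21606 = n45317 := rfl
def n45318 : Q := act 1 n21606
theorem D45318 : act 1 n21606 = n45318 := rfl
def n45319 : Q := act 2 n21606
theorem D45319 : act 2 n21606 = n45319 := rfl
theorem F71384 : act 4 n45319 = n27307 := d1_2 (iv4 F34002) D45319 (iv2 D27307)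
theorem F71385 : act 7 n45319 = n45319 := d4_2 F34003 D45319 (iv2 D45319)
theorem F71386 : act 1 n45319 = n45317 := d15_0 (iv0 D45317) F34003 D45319
theorem F71387 : act 1 n45318 = n45319 := d15_1 D45318 F71385 (iv2 D45319)
def n45322 : Q := act 0 n21608
theorem D45322 : act 0 n21608 = n45322 := rfl
theorem F71391 : act 3 n45322 = n45074 := d20_5 (iv4 F6923) (iv1 F14092) (iv4 F16417) D21608 D45322 (iv4 D45074) (iv1 F33850) F16271 (iv3 D10277) F6747
theorem F71392 : act 1 n40692 = n45322 := d15_0 (iv0 D45322) F34007 D40692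
theorem F71393 : act 7 n40690 = n45322 := d8_0 F71391 F70960 F70133
def n45323 : Q := act 1 n21608
theorem D45323 : act 1 n21608 = n45323 := rfl
def n45324 : Q := act 2 n21608
theorem D45324 : act 2 n21608 = n45324 := rfl
theorem F71394 : act 3 n45324 = n21638 := d0_2 D21608 D45324 (iv2 F34052) (iv3 D21245) F16419
theorem F71395 : act 4 n45324 = n21984 := d1_2 (iv4 F34006) D45324 (iv2 F34483)
theorem F71396 : act 7 n45324 = n40692 := d4_2 (iv7 F34007) D45324 (iv2 D40692)
theorem F71397 : act 1 n45324 = n40690 := d15_0 (iv0 D40690) (iv7 F34007) D45324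
theorem F71398 : act 1 n45323 = n40692 := d15_1 D45323 (iv7 F71396) (iv2 D45324)
theorem F71399 : act 2 n40690 = n45323 := d15_3 F71398 F71392 (iv7 F71393)
theorem F71400 : act 7 n40691 = n45323 := d15_2 (iv0 D40690) D40691 (iv2 F71399)
theorem F71401 : act 2 n45322 = n40691 := d4_3 F71400 (iv2 F71399) F71393
theorem F71402 : act 3 n40691 = n45323 := d0_2 (iv3 F71391) F71401 (iv2 F71399) (iv3 F70133) (iv2 F70959)
theorem F71403 : act 1 n40691 = n45324 := d15_0 F71397 F71393 F71401
def n45325 : Q := act 6 n21608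
theorem D45325 : act 6 n21608 = n45325 := rfl
theorem F71404 : act 3 n45325 = n21609 := d7_1 D45325 (iv6 D21609) D21608
theorem F71405 : act 4 n45325 = n40354 := d10_1 D45325 (iv6 D40354) (iv4 F34006)
theorem F71406 : act 7 n44822 = n45325 := d11_0 F71405 (iv7 F69179) (iv4 F70407)
def n45326 : Q := act 5 n21609
theorem D45326 : act 5 n21609 = n45326 := rfl
theorem F71407 : act 2 n45326 = n44636 := d2_1 D45326 (iv5 D44636) (iv2 F34008)
theorem F71408 : act 7 n45326 = n44823 := d13_2 F66313 D45326 (iv5 D44823)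
def n45327 : Q := act 5 n21610
theorem D45327 : act 5 n21610 = n45327 := rfl
theorem F71409 : act 2 n45327 = n40699 := d2_1 D45327 (iv5 D40699) (iv2 F34010)
def n45328 : Q := act 6 n21611
theorem D45328 : act 6 n21611 = n45328 := rfl
theorem F71410 : act 2 n45328 = n44639 := d3_1 D45328 (iv6 D44639) (iv2 F40020)
theorem F71411 : act 3 n45328 = n44637 := d7_1 D45328 (iv6 D44637) (iv3 F34012)
theorem F71412 : act 4 n45328 = n42123 := d10_1 D45328 (iv6 D42123) (iv4 F34013)
def n45329 : Q := act 3 n21612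
theorem D45329 : act 3 n21612 = n45329 := rfl
theorem F71413 : act 2 n45329 = n44638 := d0_1 D45329 (iv3 D44638) (iv2 F40020) F34012 F40025
theorem F71414 : act 4 n45329 = n44638 := d5_2 (iv4 F34015) D45329 (iv3 D44638) F33475 (iv3 F33476)
theorem F71415 : act 7 n45329 = n44638 := d8_2 F40026 D45329 (iv3 D44638)
theorem F71416 : act 0 n45329 = n45074 := d20_10 (iv4 D45074) (iv1 F33850) F16271 (iv3 D10277) F6747 D10170 F16008 D19869 (iv4 F34015) D45329
theorem F71417 : act 0 n45073 = n44710 := d20_4 (iv4 F71414) F71416 (iv4 D45074) D45073 (iv3 D44710) D44711 (iv1 F70291) (iv4 F64234) (iv3 F70133) F70292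
theorem F71418 : act 1 n45329 = n45074 := d15_1 (iv0 F71416) F70960 (iv2 F70959)
def n45330 : Q := act 6 n21612
theorem D45330 : act 6 n21612 = n45330 := rfl
theorem F71419 : act 2 n45330 = n44637 := d3_1 D45330 (iv6 D44637) F40025
theorem F71420 : act 4 n45330 = n42121 := d10_1 D45330 (iv6 D42121) (iv4 F34015)
def n45331 : Q := act 5 n21613
theorem D45331 : act 5 n21613 = n45331 := rfl
theorem F71421 : act 2 n45331 = n21614 := d2_1 D45331 (iv5 D21614) D21613
theorem F71422 : act 3 n45331 = n44674 := d6_1 D45331 (iv5 D44674) (iv3 F34016)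
theorem F71423 : act 4 n45331 = n23964 := d9_1 D45331 (iv5 D23964) F18243 F7685 (iv4 F12480) F26938 (iv4 F15997) D21249 (iv4 F43589) F43590 F21478 F9530 (iv4 F12515) (iv5 F27795) (iv4 F34017)
theorem F71424 : act 7 n45331 = n34945 := d13_2 (iv7 F34018) D45331 (iv5 D34945)
theorem F71425 : act 0 n45331 = n35949 := d17_2 (iv1 F34019) D45331 F56631 (iv4 F33688) F32544 (iv0 F27898) (iv5 F27900) D20393 (iv4 F33474)
theorem F71426 : act 1 n45331 = n34840 := d17_6 F27051 (iv5 D15442) F12516 (iv5 F27795) (iv4 F34017) D45331 F55103 (iv0 D21441) F16167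
def n45332 : Q := act 6 n21613
theorem D45332 : act 6 n21613 = n45332 := rfl
theorem F71427 : act 2 n45332 = n21615 := d3_1 D45332 (iv6 D21615) D21613
theorem F71428 : act 3 n45332 = n44675 := d7_1 D45332 (iv6 D44675) (iv3 F34016)
theorem F71429 : act 4 n45332 = n34946 := d10_1 D45332 (iv6 D34946) (iv4 F34017)
def n45333 : Q := act 6 n21614
theorem D45333 : act 6 n21614 = n45333 := rfl
theorem F71430 : act 3 n45333 = n21616 := d7_1 D45333 (iv6 D21616) (iv3 F34022)
theorem F71431 : act 4 n45333 = n26992 := d10_1 D45333 F43578 (iv4 F34024)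
def n45334 : Q := act 0 n21615
theorem D45334 : act 0 n21615 = n45334 := rfl
def n45335 : Q := act 1 n21615
theorem D45335 : act 1 n21615 = n45335 := rfl
def n45336 : Q := act 5 n21615
theorem D45336 : act 5 n21615 = n45336 := rfl
theorem F71432 : act 3 n45336 = n21619 := d6_1 D45336 (iv5 D21619) (iv3 F34025)
def n45337 : Q := act 7 n21615
theorem D45337 : act 7 n21615 = n45337 := rfl
theorem F71433 : act 3 n45337 = n21620 := d8_1 D45337 (iv7 D21620) (iv3 F34025)
theorem F71434 : act 4 n45337 = n43874 := d11_1 D45337 (iv7 D43874) (iv4 F34026)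
theorem F71435 : act 6 n45337 = n41958 := d14_1 D45337 F64729 (iv6 D21250) (iv7 F16426) D21615
def n45338 : Q := act 0 n21616
theorem D45338 : act 0 n21616 = n45338 := rfl
def n45339 : Q := act 1 n21616
theorem D45339 : act 1 n21616 = n45339 := rfl
theorem F71436 : act 1 n45339 = n44685 := d15_1 D45339 (iv7 D44685) (iv2 F34027)
def n45340 : Q := act 5 n21616
theorem D45340 : act 5 n21616 = n45340 := rfl
theorem F71437 : act 2 n45340 = n44684 := d2_1 D45340 (iv5 D44684) (iv2 F34027)
theorem F71438 : act 6 n45340 = n21619 := d12_2 D21616 D45340 (iv5 D21619) (iv6 D10327) D10326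
def n45341 : Q := act 7 n21616
theorem D45341 : act 7 n21616 = n45341 := rfl
theorem F71439 : act 2 n45341 = n44685 := d4_1 D45341 (iv7 D44685) (iv2 F34027)
theorem F71440 : act 6 n45341 = n44651 := d14_1 D45341 (iv7 D44651) (iv6 D21253) (iv7 F16428) D21616
theorem F71441 : act 1 n44685 = n45338 := d15_0 (iv0 D45338) D45341 F71439
theorem F71442 : act 1 n44683 = n45341 := d15_1 D44683 (iv7 D45341) F34027
theorem F71443 : act 1 n45341 = n44682 := d15_0 (iv0 D44682) D44685 (iv2 F71439)
def n45342 : Q := act 3 n21617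
theorem D45342 : act 3 n21617 = n45342 := rfl
theorem F71444 : act 7 n45342 = n44689 := d8_2 (iv7 F63468) D45342 (iv3 D44689)
def n45343 : Q := act 5 n21617
theorem D45343 : act 5 n21617 = n45343 := rfl
theorem F71445 : act 2 n45343 = n44687 := d2_1 D45343 (iv5 D44687) (iv2 F63471)
theorem F71446 : act 7 n45343 = n44690 := d13_2 (iv7 F63468) D45343 (iv5 D44690)
def n45344 : Q := act 6 n21617
theorem D45344 : act 6 n21617 = n45344 := rfl
theorem F71447 : act 2 n45344 = n44688 := d3_1 D45344 (iv6 D44688) (iv2 F63471)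
theorem F71448 : act 4 n45344 = n40420 := d10_1 D45344 (iv6 F61502) (iv4 F63428)
theorem F71449 : act 5 n45344 = n44606 := d21_6 D21170 F33415 (iv5 D10326) D10327 D21617 D45344 (iv1 D44606) (iv5 D21218) (iv6 D10125) (iv1 F15948)
theorem F71450 : act 2 n44606 = n44948 := d2_1 F71449 F70657 (iv2 F71447)
theorem F71451 : act 0 n41980 = n45344 := d17_0 F71449 (iv1 D44606) (iv5 D21218) F15976 F16815 (iv0 F63154) D19801 F31571 D41980
theorem F71452 : act 1 n21734 = n45344 := d15_0 (iv0 F71451) (iv7 F64864) F64862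
theorem F71453 : act 7 n44947 = n44606 := d15_2 F70656 F70655 F71450
theorem F71454 : act 7 n44605 = n44948 := d15_2 F70131 F70130 (iv2 F71450)
theorem F71455 : act 2 n44947 = n44605 := d4_3 F71454 (iv2 F71450) (iv7 F71453)
def n45345 : Q := act 3 n21618
theorem D45345 : act 3 n21618 = n45345 := rfl
theorem F71456 : act 7 n45345 = n44686 := d8_2 F63472 D45345 (iv3 D44686)
theorem F71457 : act 0 n45345 = n21641 := d20_4 (iv4 F61800) (iv1 F61802) (iv4 F63473) D45345 F34063 F16444 (iv1 F63153) D9281 D19773 F35801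
def n45346 : Q := act 5 n21618
theorem D45346 : act 5 n21618 = n45346 := rfl
theorem F71458 : act 2 n45346 = n44690 := d2_1 D45346 (iv5 D44690) F63470
theorem F71459 : act 7 n45346 = n44687 := d13_2 F63472 D45346 (iv5 D44687)
def n45347 : Q := act 6 n21618
theorem D45347 : act 6 n21618 = n45347 := rfl
theorem F71460 : act 2 n45347 = n44691 := d3_1 D45347 (iv6 D44691) F63470
theorem F71461 : act 4 n45347 = n42104 := d10_1 D45347 (iv6 D42104) (iv4 F63473)
theorem F71462 : act 7 n44833 = n45347 := d15_2 (iv0 F70266) D44833 F71460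
theorem F71463 : act 7 n42104 = n43934 := d11_2 F71462 F71461 (iv4 F70414)
theorem F71464 : act 2 n43934 = n43985 := d4_1 F71463 F69168 (iv2 F65022)
theorem F71465 : act 1 n43532 = n42104 := d15_1 F69170 F71463 F71464
theorem E8020 : n43933 = n41907 := ((c15_4 (iv0 D43933) D43934 (iv7 F71463) F65022)).symm
theorem F71466 : act 1 n41907 = n20817 := (sb E8020 (iv0 D43933))
def n45348 : Q := act 0 n21619
theorem D45348 : act 0 n21619 = n45348 := rfl
def n45349 : Q := act 1 n21619
theorem D45349 : act 1 n21619 = n45349 := rfl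
theorem F71467 : act 1 n45349 = n44695 := d15_1 D45349 (iv7 D44695) (iv2 F34029)
theorem F71468 : act 5 n45004 = n45349 := d21_6 (iv5 F33700) (iv1 F33701) (iv5 D10255) D10256 D21486 D45004 (iv1 D45349) (iv5 D21619) (iv6 D10327) D10323
theorem F71469 : act 2 n45349 = n44693 := d2_1 F71468 (iv5 F70267) (iv2 F70777)
def n45350 : Q := act 4 n21619
theorem D45350 : act 4 n21619 = n45350 := rfl
theorem F71470 : act 2 n45350 = n44694 := d1_1 D45350 (iv4 D44694) (iv2 F34029)
def n45351 : Q := act 7 n21619
theorem D45351 : act 7 n21619 = n45351 := rfl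
theorem F71471 : act 2 n45351 = n44695 := d4_1 D45351 (iv7 D44695) (iv2 F34029)
theorem F71472 : act 5 n45351 = n21620 := d13_1 D45351 (iv7 D21620) D21619
theorem F71473 : act 1 n44695 = n45348 := d15_0 (iv0 D45348) D45351 F71471
theorem F71474 : act 1 n44693 = n45351 := d15_1 D44693 (iv7 D45351) F34029
theorem F71475 : act 7 n45348 = n44693 := d15_2 F71467 F71473 (iv2 F71469)
theorem F71476 : act 2 n45348 = n44692 := d15_3 (iv0 D44692) D44693 (iv7 F71475)
theorem F71477 : act 7 n44692 = n45349 := d4_2 (iv7 F71475) F71476 F71469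
theorem F71478 : act 1 n45351 = n44692 := d15_1 F71474 F71477 F71469
def n45352 : Q := act 3 n21623
theorem D45352 : act 3 n21623 = n45352 := rfl
theorem F71479 : act 2 n45352 = n41960 := d0_1 D45352 (iv3 D41960) F31543 D19773 (iv2 F63256)
theorem F71480 : act 4 n45352 = n45352 := d5_2 D21623 D45352 (iv3 D45352) (iv4 D21623) F63253
theorem F71481 : act 7 n45352 = n44696 := d8_2 (iv7 F63257) D45352 (iv3 D44696)
def n45353 : Q := act 5 n21623
theorem D45353 : act 5 n21623 = n45353 := rfl
theorem F71482 : act 2 n45353 = n41970 := d2_1 D45353 (iv5 D41970) (iv2 F63256)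
theorem F71483 : act 7 n45353 = n44697 := d13_2 (iv7 F63257) D45353 (iv5 D44697)
def n45354 : Q := act 4 n21624
theorem D45354 : act 4 n21624 = n45354 := rfl
theorem F71484 : act 2 n45354 = n41991 := d1_1 D45354 (iv4 D41991) (iv2 F63274)
theorem F71485 : act 7 n45354 = n44699 := d11_2 F63278 D45354 (iv4 D44699)
def n45355 : Q := act 4 n21631
theorem D45355 : act 4 n21631 = n45355 := rfl
theorem F71486 : act 2 n45355 = n42035 := d1_1 D45355 (iv4 D42035) (iv2 F66792)
theorem F71488 : act 1 n45355 = n40471 := d15_0 (iv0 F66868) F64916 (iv2 F71486)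
def n45357 : Q := act 0 n21633
theorem D45357 : act 0 n21633 = n45357 := rfl
def n45358 : Q := act 1 n21633
theorem D45358 : act 1 n21633 = n45358 := rfl
theorem F71495 : act 1 n45358 = n44706 := d15_1 D45358 (iv7 D44706) (iv2 F34041)
def n45359 : Q := act 3 n21633
theorem D45359 : act 3 n21633 = n45359 := rfl
theorem F71496 : act 6 n45359 = n40446 := d7_2 (iv6 F34042) D45359 (iv3 D40446)
def n45360 : Q := act 5 n21633
theorem D45360 : act 5 n21633 = n45360 := rfl
theorem F71497 : act 2 n45360 = n44705 := d2_1 D45360 (iv5 D44705) (iv2 F34041)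
def n45361 : Q := act 7 n21633
theorem D45361 : act 7 n21633 = n45361 := rfl
theorem F71498 : act 2 n45361 = n44706 := d4_1 D45361 (iv7 D44706) (iv2 F34041)
theorem F71499 : act 4 n45361 = n21634 := d11_1 D45361 (iv7 D21634) D21633
theorem F71501 : act 1 n44706 = n45357 := d15_0 (iv0 D45357) D45361 F71498
theorem F71502 : act 1 n44703 = n45361 := d15_1 D44703 (iv7 D45361) F34041
theorem F71503 : act 4 n41922 = n44669 := d20_2 D19734 D41922 F70238 (iv1 F67848) F67844 (iv4 F71499) (iv1 F71502) F70280 (iv3 D41919) (iv1 D19733)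
theorem F71504 : act 4 n45357 = n42105 := d18_7 D19853 (iv4 F63428) (iv1 F34033) F33503 (iv5 F33508) (iv4 F70282) F71501 (iv0 D42105) (iv5 D19855)
theorem F71505 : act 3 n42105 = n41894 := d20_3 D21633 D45357 F71504 (iv1 F64624) F31491 (iv4 F17883) (iv1 F31535) F31537 D19825 (iv1 F66788)
theorem F71506 : act 7 n41919 = n42105 := d8_0 F71505 F66596 D41919
def n45362 : Q := act 6 n21638
theorem D45362 : act 6 n21638 = n45362 := rfl
theorem F71512 : act 2 n45362 = n44635 := d3_1 D45362 (iv6 D44635) F34052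
def n45363 : Q := act 5 n21639
theorem D45363 : act 5 n21639 = n45363 := rfl
theorem F71513 : act 2 n45363 = n21640 := d2_1 D45363 (iv5 D21640) D21639
theorem F71514 : act 3 n45363 = n34945 := d6_1 D45363 (iv5 D34945) (iv3 F34057)
theorem F71515 : act 7 n45363 = n44674 := d13_2 (iv7 F34058) D45363 (iv5 D44674)
theorem F71516 : act 1 n44646 = n45363 := d15_1 (iv0 F70198) F71515 F70244
theorem F71517 : act 1 n45363 = n44676 := d15_1 F71516 F70250 (iv2 F70199)
def n45364 : Q := act 6 n21639
theorem D45364 : act 6 n21639 = n45364 := rfl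
theorem F71518 : act 2 n45364 = n21641 := d3_1 D45364 (iv6 D21641) D21639
theorem F71519 : act 3 n45364 = n34934 := d7_1 D45364 F55292 (iv3 F34057)
def n45365 : Q := act 4 n21640
theorem D45365 : act 4 n21640 = n45365 := rfl
theorem F71520 : act 7 n45365 = n44677 := d11_2 (iv7 F34062) D45365 (iv4 D44677)
def n45366 : Q := act 6 n21640
theorem D45366 : act 6 n21640 = n45366 := rfl
theorem F71521 : act 3 n45366 = n21642 := d7_1 D45366 (iv6 D21642) (iv3 F34061)
def n45367 : Q := act 0 n21641
theorem D45367 : act 0 n21641 = n45367 := rfl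
theorem F71522 : act 2 n44686 = n45367 := d15_3 (iv0 D45367) (iv0 F71457) F71456
def n45368 : Q := act 5 n21641
theorem D45368 : act 5 n21641 = n45368 := rfl
theorem F71523 : act 3 n45368 = n21645 := d6_1 D45368 (iv5 D21645) (iv3 F34063)
def n45369 : Q := act 0 n21642
theorem D45369 : act 0 n21642 = n45369 := rfl
def n45370 : Q := act 1 n21642
theorem D45370 : act 1 n21642 = n45370 := rfl
theorem F71524 : act 1 n45370 = n44651 := d15_1 D45370 (iv7 D44651) (iv2 F34064)
def n45371 : Q := act 5 n21642
theorem D45371 : act 5 n21642 = n45371 := rfl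
theorem F71525 : act 2 n45371 = n44650 := d2_1 D45371 (iv5 D44650) (iv2 F34064)
theorem F71526 : act 6 n45371 = n21645 := d12_2 D21642 D45371 (iv5 D21645) (iv6 D10335) D10334
def n45372 : Q := act 7 n21642
theorem D45372 : act 7 n21642 = n45372 := rfl
theorem F71527 : act 2 n45372 = n44651 := d4_1 D45372 (iv7 D44651) (iv2 F34064)
theorem F71528 : act 6 n45372 = n44685 := d14_1 D45372 (iv7 D44685) (iv6 D21278) (iv7 F16442) D21642
theorem F71529 : act 1 n44651 = n45369 := d15_0 (iv0 D45369) D45372 F71527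
theorem F71530 : act 1 n44649 = n45372 := d15_1 D44649 (iv7 D45372) F34064
theorem F71531 : act 1 n45372 = n44648 := d15_0 (iv0 D44648) D44651 (iv2 F71527)
def n45373 : Q := act 5 n21643
theorem D45373 : act 5 n21643 = n45373 := rfl
theorem F71532 : act 2 n45373 = n44653 := d2_1 D45373 (iv5 D44653) F63442
theorem F71533 : act 7 n45373 = n44656 := d13_2 (iv7 F63441) D45373 (iv5 D44656)
def n45374 : Q := act 6 n21643
theorem D45374 : act 6 n21643 = n45374 := rfl
theorem F71534 : act 2 n45374 = n44654 := d3_1 D45374 (iv6 D44654) F63442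
theorem F71535 : act 5 n45374 = n44541 := d21_6 D19300 F30954 (iv5 D10334) D10335 D21643 D45374 (iv1 D44541) (iv5 D21181) (iv6 D10093) (iv1 F14152)
theorem F71536 : act 2 n44541 = n45009 := d2_1 F71535 (iv5 F70787) (iv2 F71534)
theorem F71537 : act 0 n41988 = n45374 := d17_0 F71535 (iv1 D44541) (iv5 D21181) F15951 D10096 (iv0 F63218) F17955 D19781 D41988
theorem F71538 : act 1 n41986 = n45374 := d15_0 (iv0 F71537) F64781 (iv2 F64778)
theorem F71539 : act 7 n45008 = n44541 := d15_2 F70786 F70791 F71536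
theorem F71540 : act 7 n44540 = n45009 := d15_2 F70792 F70794 (iv2 F71536)
theorem F71541 : act 2 n45008 = n44540 := d4_3 F71540 (iv2 F71536) (iv7 F71539)
theorem F71542 : act 7 n45374 = n44857 := d13_2 F71539 (iv5 F71535) (iv5 F70793)
def n45375 : Q := act 3 n21644
theorem D45375 : act 3 n21644 = n45375 := rfl
theorem F71543 : act 4 n45375 = n40422 := d5_2 (iv4 F63199) D45375 (iv3 D40422) (iv4 D19093) D19092
theorem F71544 : act 7 n45375 = n44652 := d8_2 F63440 D45375 (iv3 D44652)
def n45376 : Q := act 5 n21644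
theorem D45376 : act 5 n21644 = n45376 := rfl
theorem F71545 : act 2 n45376 = n44656 := d2_1 D45376 (iv5 D44656) (iv2 F63439)
theorem F71546 : act 7 n45376 = n44653 := d13_2 F63440 D45376 (iv5 D44653)
def n45377 : Q := act 6 n21644
theorem D45377 : act 6 n21644 = n45377 := rfl
theorem F71547 : act 2 n45377 = n44657 := d3_1 D45377 (iv6 D44657) (iv2 F63439)
theorem F71548 : act 4 n45377 = n40421 := d10_1 D45377 (iv6 D40421) (iv4 F63199)
theorem F71549 : act 0 n21714 = n45377 := d20_1 (iv4 F34161) F71548 F61504 (iv1 F62482) F32063 (iv4 F16026) (iv1 F16030) F16051 (iv3 F31587) F63258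
def n45378 : Q := act 0 n21645
theorem D45378 : act 0 n21645 = n45378 := rfl
theorem F71550 : act 1 n41959 = n45378 := d15_0 (iv0 D45378) (iv7 F64805) F64804
def n45379 : Q := act 1 n21645
theorem D45379 : act 1 n21645 = n45379 := rfl
theorem F71551 : act 1 n45379 = n41959 := d15_1 D45379 F64730 (iv2 F34066)
theorem F71552 : act 5 n45379 = n41242 := d17_7 (iv1 F17902) (iv5 F17898) F63123 F16815 (iv4 F16444) D21645 D45379 F63083 (iv4 D23539)
theorem F71553 : act 2 n44659 = n45379 := d2_3 F71552 (iv2 F70126) (iv5 F70209)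
theorem F71554 : act 7 n45378 = n44659 := d15_2 F71551 F71550 F71553
theorem F71555 : act 7 n44658 = n45379 := d15_2 F70208 F70207 (iv2 F71553)
theorem F71556 : act 2 n45378 = n44658 := d4_3 F71555 (iv2 F71553) (iv7 F71554)
def n45380 : Q := act 4 n21645
theorem D45380 : act 4 n21645 = n45380 := rfl
theorem F71557 : act 2 n45380 = n44660 := d1_1 D45380 (iv4 D44660) (iv2 F34066)
def n45381 : Q := act 4 n21656
theorem D45381 : act 4 n21656 = n45381 := rfl
theorem F71558 : act 2 n45381 = n44711 := d1_1 D45381 (iv4 D44711) (iv2 F34111)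
theorem F71559 : act 3 n45381 = n43860 := d5_1 D45381 (iv4 D43860) F33513 (iv4 F33512) (iv3 F34077)
theorem F71560 : act 7 n45381 = n44707 := d11_2 (iv7 F34109) D45381 (iv4 D44707)
def n45382 : Q := act 5 n21656
theorem D45382 : act 5 n21656 = n45382 := rfl
theorem F71561 : act 2 n45382 = n44712 := d2_1 D45382 (iv5 D44712) (iv2 F34111)
theorem F71562 : act 3 n45382 = n44731 := d6_1 D45382 (iv5 D44731) (iv3 F34077)
theorem F71563 : act 7 n45382 = n44708 := d13_2 (iv7 F34109) D45382 (iv5 D44708)
theorem F71564 : act 0 n45382 = n44750 := d17_2 D21656 D45382 F70341 F36063 (iv5 F64075) (iv0 D40748) (iv5 D19226) (iv0 F16695) F16694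
theorem F71565 : act 1 n45382 = n21675 := d15_1 (iv0 F71564) F34130 D44750
def n45383 : Q := act 6 n21656
theorem D45383 : act 6 n21656 = n45383 := rfl
theorem F71566 : act 2 n45383 = n44713 := d3_1 D45383 (iv6 D44713) (iv2 F34111)
theorem F71567 : act 3 n45383 = n44732 := d7_1 D45383 (iv6 D44732) (iv3 F34077)
def n45384 : Q := act 3 n21657
theorem D45384 : act 3 n21657 = n45384 := rfl
theorem F71568 : act 2 n45384 = n44729 := d0_1 D45384 (iv3 D44729) F34104 (iv3 F34108) F34110
theorem F71569 : act 4 n45384 = n44661 := d5_2 F63904 D45384 F70210 (iv4 D41456) D41455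
theorem F71570 : act 7 n45384 = n44710 := d8_2 F34112 D45384 (iv3 D44710)
theorem F71571 : act 7 n40590 = n44661 := d11_2 F71570 F70288 (iv4 F71569)
theorem F71572 : act 2 n44661 = n40591 := d15_3 F64172 F64173 F71571
theorem F71573 : act 2 n40590 = n44662 := d15_3 F70212 F70211 (iv7 F71571)
theorem F71574 : act 7 n44662 = n40591 := d4_2 (iv7 F71571) F71573 (iv2 F71572)
theorem F71575 : act 3 n21975 = n44662 := d8_3 F71574 (iv3 F70307) F69353
theorem F71576 : act 0 n41627 = n45384 := d20_10 F71569 (iv1 F70211) F34597 F34057 (iv1 F34020) D45329 F71414 F70189 (iv4 D44609) (iv3 F64235)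
theorem F71577 : act 5 n38492 = n44661 := d18_4 (iv1 F64246) F64248 (iv1 F57403) D38492 (iv4 F71569) (iv0 F71576) (iv4 D41627) F58717 F58709
theorem F71578 : act 0 n45384 = n41624 := d20_1 (iv4 F71569) (iv4 D41624) (iv3 F34432) F34435 (iv3 D19542) (iv4 D9198) (iv1 F12151) D10158 D21268 D44661
theorem F71579 : act 5 n41456 = n39082 := d6_2 F71577 F70210 F60086
def n45385 : Q := act 5 n21657
theorem D45385 : act 5 n21657 = n45385 := rfl
theorem F71580 : act 2 n45385 = n44708 := d2_1 D45385 (iv5 D44708) F34110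
theorem F71581 : act 7 n45385 = n44712 := d13_2 F34112 D45385 (iv5 D44712)
theorem F71582 : act 0 n45385 = n21675 := d17_2 (iv1 F34082) D45385 F34129 F17721 (iv5 F34499) (iv0 F51567) F51566 F34486 (iv4 F33509)
theorem F71583 : act 1 n45385 = n44750 := d15_0 (iv0 F71564) F71563 (iv2 F71580)
def n45386 : Q := act 6 n21657
theorem D45386 : act 6 n21657 = n45386 := rfl
theorem F71584 : act 2 n45386 = n44709 := d3_1 D45386 (iv6 D44709) F34110
def n45387 : Q := act 5 n21658
theorem D45387 : act 5 n21658 = n45387 := rfl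
theorem F71585 : act 2 n45387 = n21659 := d2_1 D45387 (iv5 D21659) D21658
theorem F71586 : act 3 n45387 = n44733 := d6_1 D45387 (iv5 D44733) (iv3 F34079)
theorem F71587 : act 7 n45387 = n44714 := d13_2 (iv7 F34080) D45387 (iv5 D44714)
theorem F71588 : act 1 n45387 = n44716 := d17_6 F17196 D19308 D41001 F62134 F34487 D45387 (iv5 F70299) (iv0 D23164) F17721
theorem F71589 : act 1 n44717 = n45387 := d15_1 D44717 F71587 F70294
def n45388 : Q := act 6 n21658
theorem D45388 : act 6 n21658 = n45388 := rfl
theorem F71590 : act 2 n45388 = n21660 := d3_1 D45388 (iv6 D21660) D21658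
theorem F71591 : act 3 n45388 = n44734 := d7_1 D45388 (iv6 D44734) (iv3 F34079)
def n45389 : Q := act 0 n21659
theorem D45389 : act 0 n21659 = n45389 := rfl
theorem F71592 : act 3 n45389 = n44736 := d20_5 (iv4 F58147) F58148 F33951 (iv3 F34084) D45389 F70328 F51674 F43589 F33477 D21251
theorem F71593 : act 1 n44714 = n45389 := d15_0 (iv0 D45389) F34085 (iv2 F70294)
theorem F71594 : act 5 n45389 = n22997 := d17_7 F34684 D23342 (iv1 F61853) (iv5 D40744) (iv4 F33509) D44714 F71593 (iv0 D22997) (iv4 F34682)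
theorem F71595 : act 7 n44716 = n45389 := d13_0 F71594 F36266 F70299
theorem F71596 : act 2 n45389 = n44717 := d15_3 F71589 F71588 F71595
theorem F71597 : act 5 n44717 = n23165 := d2_2 (iv5 F71594) F71596 (iv2 F36268)
def n45390 : Q := act 1 n21659
theorem D45390 : act 1 n21659 = n45390 := rfl
theorem F71598 : act 1 n45390 = n44714 := d15_1 D45390 (iv7 F71587) F71585
theorem F71599 : act 7 n45390 = n44717 := d15_2 (iv0 D45389) D45390 (iv2 F71596)
theorem F71600 : act 5 n45390 = n22998 := d17_7 (iv1 F34944) (iv5 F51885) F51886 (iv5 D21986) F16694 D21659 D45390 F36253 F36249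
theorem F71601 : act 2 n44716 = n45390 := d2_3 F71600 (iv2 F36267) F70299
def n45391 : Q := act 4 n21659
theorem D45391 : act 4 n21659 = n45391 := rfl
theorem F71602 : act 7 n45391 = n44718 := d11_2 (iv7 F34085) D45391 (iv4 D44718)
def n45392 : Q := act 6 n21659
theorem D45392 : act 6 n21659 = n45392 := rfl
theorem F71603 : act 3 n45392 = n21661 := d7_1 D45392 (iv6 D21661) (iv3 F34084)
def n45393 : Q := act 0 n21660
theorem D45393 : act 0 n21660 = n45393 := rfl
def n45394 : Q := act 1 n21660
theorem D45394 : act 1 n21660 = n45394 := rfl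
def n45395 : Q := act 5 n21660
theorem D45395 : act 5 n21660 = n45395 := rfl
theorem F71604 : act 3 n45395 = n21664 := d6_1 D45395 (iv5 D21664) (iv3 F34086)
def n45396 : Q := act 7 n21660
theorem D45396 : act 7 n21660 = n45396 := rfl
theorem F71605 : act 3 n45396 = n21665 := d8_1 D45396 (iv7 D21665) (iv3 F34086)
theorem F71606 : act 6 n45396 = n41967 := d14_1 D45396 F64750 (iv6 D21300) (iv7 F16453) D21660
def n45397 : Q := act 0 n21661
theorem D45397 : act 0 n21661 = n45397 := rfl
def n45398 : Q := act 1 n21661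
theorem D45398 : act 1 n21661 = n45398 := rfl
theorem F71607 : act 1 n45398 = n44745 := d15_1 D45398 (iv7 D44745) (iv2 F34087)
def n45399 : Q := act 5 n21661
theorem D45399 : act 5 n21661 = n45399 := rfl
theorem F71608 : act 2 n45399 = n44744 := d2_1 D45399 (iv5 D44744) (iv2 F34087)
theorem F71609 : act 6 n45399 = n21664 := d12_2 D21661 D45399 (iv5 D21664) (iv6 D10342) D10341
def n45400 : Q := act 7 n21661
theorem D45400 : act 7 n21661 = n45400 := rfl
theorem F71610 : act 2 n45400 = n44745 := d4_1 D45400 (iv7 D44745) (iv2 F34087)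
theorem F71611 : act 6 n45400 = n44726 := d14_1 D45400 (iv7 D44726) (iv6 D21301) (iv7 F16455) D21661
theorem F71612 : act 1 n44745 = n45397 := d15_0 (iv0 D45397) D45400 F71610
theorem F71613 : act 1 n44743 = n45400 := d15_1 D44743 (iv7 D45400) F34087
theorem F71614 : act 1 n45400 = n44742 := d15_0 (iv0 D44742) D44745 (iv2 F71610)
def n45401 : Q := act 0 n21664
theorem D45401 : act 0 n21664 = n45401 := rfl
def n45402 : Q := act 1 n21664
theorem D45402 : act 1 n21664 = n45402 := rfl
theorem F71615 : act 1 n45402 = n44749 := d15_1 D45402 (iv7 D44749) (iv2 F34089)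
theorem F71616 : act 5 n23529 = n45402 := d21_6 D10145 (iv1 F16469) F16471 D10911 (iv1 F66549) D23529 (iv1 D45402) (iv5 D21664) (iv6 D10342) (iv1 F6784)
theorem F71617 : act 2 n45402 = n44747 := d2_1 F71616 (iv5 F70339) F70060
theorem F71618 : act 3 n45402 = n23536 := d6_1 F71616 (iv5 D23536) (iv3 F36649)
theorem F71619 : act 7 n45402 = n44746 := d13_2 F36659 F71616 F70337
theorem F71620 : act 2 n44746 = n45401 := d15_3 (iv0 D45401) D45402 F71619
theorem F71621 : act 7 n44747 = n45401 := d4_2 (iv7 F71619) F71617 (iv2 F71620)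
theorem F71622 : act 1 n44749 = n45401 := d15_1 F71615 (iv7 F71621) (iv2 F71617)
def n45403 : Q := act 4 n21664
theorem D45403 : act 4 n21664 = n45403 := rfl
theorem F71623 : act 2 n45403 = n44748 := d1_1 D45403 (iv4 D44748) (iv2 F34089)
def n45404 : Q := act 7 n21664
theorem D45404 : act 7 n21664 = n45404 := rfl
theorem F71624 : act 2 n45404 = n44749 := d4_1 D45404 (iv7 D44749) (iv2 F34089)
theorem F71625 : act 5 n45404 = n21665 := d13_1 D45404 (iv7 D21665) D21664
theorem F71626 : act 1 n44747 = n45404 := d15_1 D44747 (iv7 D45404) F34089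
theorem F71627 : act 1 n45404 = n44746 := d15_1 F71626 (iv7 F71619) F71617
def n45405 : Q := act 3 n21666
theorem D45405 : act 3 n21666 = n45405 := rfl
theorem F71628 : act 2 n45405 = n44710 := d0_1 D45405 (iv3 D44710) (iv2 F34111) F34077 F34097
theorem F71629 : act 4 n45405 = n44662 := d5_2 (iv4 F34095) D45405 (iv3 F71575) (iv4 F55309) (iv3 D34943)
theorem F71630 : act 7 n45405 = n44729 := d8_2 F34098 D45405 (iv3 D44729)
theorem F71631 : act 0 n45405 = n41627 := d20_4 F16425 (iv1 F27791) (iv4 F34095) D45405 F64235 D44609 F70292 (iv4 F71414) (iv3 D45329) (iv1 D21612)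
theorem F71632 : act 0 n41624 = n45405 := d20_1 D41624 F71629 (iv3 F71575) (iv1 D21975) (iv3 D10482) (iv4 F6920) F13398 (iv4 F13399) D9218 D19599
theorem F71633 : act 5 n38488 = n44662 := d18_4 F34423 (iv4 D18345) D18342 D38488 (iv4 F71629) (iv0 F71632) (iv4 D41624) (iv0 D19599) D19603
theorem F71634 : act 1 n44576 = n38488 := d17_6 (iv1 F34060) (iv5 F70049) F70051 (iv5 D21213) (iv4 F33439) D44576 F71633 F70212 F34597
theorem E8021 : n38558 = n38487 := ((c19_4 (iv1 F70212) (iv5 F71633) (iv4 D38488) D38487 (iv1 D38558) F29544 (iv4 D17410) F26758 (iv1 F26462) (iv5 D12673) (iv4 F26419) (iv3 F22844) (iv1 F22847) (iv5 D7955) F12598 F27769 (iv1 D16936) D16937 (iv4 F31352) D22125)).symm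
theorem F71635 : act 0 n38487 = n18366 := (sb E8021 (iv1 D38558))
theorem F71636 : act 1 n38487 = n35970 := (sb E8021 F59383)
theorem F71637 : act 5 n38487 = n33183 := (sb E8021 F59384)
theorem F71638 : act 3 n33183 = n38489 := d6_1 F71637 (iv5 D38489) D38487
def n45406 : Q := act 6 n21666
theorem D45406 : act 6 n21666 = n45406 := rfl
theorem F71639 : act 2 n45406 = n44732 := d3_1 D45406 (iv6 D44732) F34097
theorem F71640 : act 4 n45406 = n34944 := d10_1 D45406 (iv6 D34944) (iv4 F34095)
def n45407 : Q := act 6 n21667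
theorem D45407 : act 6 n21667 = n45407 := rfl
theorem F71641 : act 2 n45407 = n44730 := d3_1 D45407 (iv6 D44730) F34104
theorem F71642 : act 3 n45407 = n44709 := d7_1 D45407 (iv6 D44709) F34108
theorem F71643 : act 4 n45407 = n34942 := d10_1 D45407 (iv6 D34942) (iv4 F34100)
def n45408 : Q := act 6 n21668
theorem D45408 : act 6 n21668 = n45408 := rfl
theorem F71644 : act 2 n45408 = n21669 := d3_1 D45408 (iv6 D21669) D21668
theorem F71645 : act 3 n45408 = n44715 := d7_1 D45408 (iv6 D44715) (iv3 F34113)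
theorem F71646 : act 4 n45408 = n43230 := d10_1 D45408 (iv6 D43230) (iv4 F34114)
def n45409 : Q := act 0 n21669
theorem D45409 : act 0 n21669 = n45409 := rfl
def n45410 : Q := act 1 n21669
theorem D45410 : act 1 n21669 = n45410 := rfl
def n45411 : Q := act 5 n21669
theorem D45411 : act 5 n21669 = n45411 := rfl
theorem F71647 : act 3 n45411 = n21673 := d6_1 D45411 (iv5 D21673) (iv3 F34118)
def n45412 : Q := act 0 n21670
theorem D45412 : act 0 n21670 = n45412 := rfl
def n45413 : Q := act 1 n21670
theorem D45413 : act 1 n21670 = n45413 := rfl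
theorem F71648 : act 1 n45413 = n44726 := d15_1 D45413 (iv7 D44726) (iv2 F34120)
def n45414 : Q := act 5 n21670
theorem D45414 : act 5 n21670 = n45414 := rfl
theorem F71649 : act 2 n45414 = n44725 := d2_1 D45414 (iv5 D44725) (iv2 F34120)
theorem F71650 : act 6 n45414 = n21673 := d12_2 D21670 D45414 (iv5 D21673) (iv6 D10345) D10344
def n45415 : Q := act 7 n21670
theorem D45415 : act 7 n21670 = n45415 := rfl
theorem F71651 : act 2 n45415 = n44726 := d4_1 D45415 (iv7 D44726) (iv2 F34120)
theorem F71652 : act 6 n45415 = n44745 := d14_1 D45415 (iv7 D44745) (iv6 D21311) (iv7 F16461) D21670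
theorem F71653 : act 1 n44726 = n45412 := d15_0 (iv0 D45412) D45415 F71651
theorem F71654 : act 1 n44724 = n45415 := d15_1 D44724 (iv7 D45415) F34120
theorem F71655 : act 1 n45415 = n44723 := d15_0 (iv0 D44723) D44726 (iv2 F71651)
def n45416 : Q := act 1 n21673
theorem D45416 : act 1 n21673 = n45416 := rfl
theorem F71656 : act 1 n45416 = n41969 := d15_1 D45416 F64758 (iv2 F34122)
theorem F71657 : act 7 n45416 = n44727 := d15_2 F36661 D45416 (iv2 F70304)
theorem F71658 : act 5 n23519 = n45416 := d21_6 D4690 D10346 F16465 D10909 F35591 D23519 (iv1 D45416) (iv5 D21673) (iv6 D10345) (iv1 D4689)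
theorem F71659 : act 2 n45416 = n23536 := d2_1 F71658 (iv5 D23536) (iv2 F36629)
def n45417 : Q := act 4 n21673
theorem D45417 : act 4 n21673 = n45417 := rfl
theorem F71660 : act 2 n45417 = n44728 := d1_1 D45417 (iv4 D44728) (iv2 F34122)
def n45418 : Q := act 2 n21675
theorem D45418 : act 2 n21675 = n45418 := rfl
theorem F71661 : act 3 n45418 = n44757 := d0_2 D21675 D45418 (iv2 D44757) (iv3 D21318) F16467
theorem F71662 : act 5 n45418 = n23166 := d2_2 (iv5 F34129) D45418 (iv2 D23166)
theorem F71663 : act 7 n45418 = n44750 := d4_2 (iv7 F34130) D45418 (iv2 D44750)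
theorem F71664 : act 1 n45418 = n44708 := d15_0 (iv0 F70287) (iv7 F34130) D45418
theorem F71665 : act 1 n44712 = n45418 := d15_0 F71664 (iv7 F71563) F71561
def n45419 : Q := act 4 n21675
theorem D45419 : act 4 n21675 = n45419 := rfl
theorem F71666 : act 7 n45419 = n44751 := d11_2 (iv7 F34130) D45419 (iv4 D44751)
def n45420 : Q := act 6 n21675
theorem D45420 : act 6 n21675 = n45420 := rfl
theorem F71667 : act 3 n45420 = n21676 := d7_1 D45420 (iv6 D21676) D21675
def n45421 : Q := act 0 n21676
theorem D45421 : act 0 n21676 = n45421 := rfl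
def n45422 : Q := act 1 n21676
theorem D45422 : act 1 n21676 = n45422 := rfl
theorem F71668 : act 1 n45422 = n44762 := d15_1 D45422 (iv7 D44762) (iv2 F34131)
def n45423 : Q := act 5 n21676
theorem D45423 : act 5 n21676 = n45423 := rfl
theorem F71669 : act 2 n45423 = n44761 := d2_1 D45423 (iv5 D44761) (iv2 F34131)
theorem F71670 : act 6 n45423 = n23168 := d12_2 D21676 D45423 (iv5 D23168) (iv6 D10909) (iv5 F16465)
def n45424 : Q := act 7 n21676
theorem D45424 : act 7 n21676 = n45424 := rfl
theorem F71671 : act 2 n45424 = n44762 := d4_1 D45424 (iv7 D44762) (iv2 F34131)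
theorem F71672 : act 6 n45424 = n44756 := d14_1 D45424 (iv7 D44756) (iv6 D21317) F16468 D21676
theorem F71673 : act 1 n44762 = n45421 := d15_0 (iv0 D45421) D45424 F71671
theorem F71674 : act 1 n44760 = n45424 := d15_1 D44760 (iv7 D45424) F34131
theorem F71675 : act 1 n45424 = n44759 := d15_0 (iv0 D44759) D44762 (iv2 F71671)
def n45425 : Q := act 2 n21677
theorem D45425 : act 2 n21677 = n45425 := rfl
theorem F71676 : act 3 n45425 = n44750 := d0_2 D21677 D45425 (iv2 D44750) (iv3 D21316) F16472
theorem F71677 : act 4 n45425 = n34839 := d1_2 F37357 D45425 F55097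
theorem F71678 : act 5 n45425 = n23171 := d2_2 (iv5 F34132) D45425 (iv2 D23171)
theorem F71679 : act 7 n45425 = n44757 := d4_2 (iv7 F34133) D45425 (iv2 D44757)
theorem F71680 : act 1 n45425 = n35997 := d15_0 F56740 (iv7 F34133) D45425
theorem F71681 : act 1 n44731 = n45425 := d15_0 F71680 F56738 (iv2 F70309)
def n45426 : Q := act 6 n21677
theorem D45426 : act 6 n21677 = n45426 := rfl
theorem F71682 : act 3 n45426 = n21678 := d7_1 D45426 (iv6 D21678) D21677
def n45427 : Q := act 0 n21678
theorem D45427 : act 0 n21678 = n45427 := rfl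
def n45428 : Q := act 1 n21678
theorem D45428 : act 1 n21678 = n45428 := rfl
theorem F71683 : act 1 n45428 = n44756 := d15_1 D45428 (iv7 D44756) (iv2 F34134)
def n45429 : Q := act 5 n21678
theorem D45429 : act 5 n21678 = n45429 := rfl
theorem F71684 : act 2 n45429 = n44755 := d2_1 D45429 (iv5 D44755) (iv2 F34134)
theorem F71685 : act 6 n45429 = n23175 := d12_2 D21678 D45429 (iv5 D23175) (iv6 D10911) (iv5 F16471)
def n45430 : Q := act 7 n21678
theorem D45430 : act 7 n21678 = n45430 := rfl
theorem F71687 : act 6 n45430 = n44762 := d14_1 D45430 (iv7 D44762) (iv6 D21319) (iv7 F16470) D21678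
theorem F71689 : act 1 n44754 = n45430 := d15_1 D44754 (iv7 D45430) F34134
def n45431 : Q := act 0 n21679
theorem D45431 : act 0 n21679 = n45431 := rfl
theorem F71691 : act 1 n44765 = n45431 := d15_0 (iv0 D45431) F34137 D44765
def n45432 : Q := act 1 n21679
theorem D45432 : act 1 n21679 = n45432 := rfl
theorem F71692 : act 1 n45432 = n44765 := d15_1 D45432 F70353 F50229
def n45433 : Q := act 6 n21679
theorem D45433 : act 6 n21679 = n45433 := rfl
theorem F71693 : act 3 n45433 = n21680 := d7_1 D45433 (iv6 D21680) D21679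
theorem F71694 : act 4 n45433 = n44766 := d10_1 D45433 (iv6 D44766) (iv4 F34135)
def n45434 : Q := act 0 n21680
theorem D45434 : act 0 n21680 = n45434 := rfl
def n45435 : Q := act 1 n21680
theorem D45435 : act 1 n21680 = n45435 := rfl
theorem F71695 : act 1 n45435 = n37346 := d15_1 D45435 (iv7 D37346) (iv2 F34138)
def n45436 : Q := act 5 n21680
theorem D45436 : act 5 n21680 = n45436 := rfl
theorem F71696 : act 2 n45436 = n37345 := d2_1 D45436 (iv5 D37345) (iv2 F34138)
theorem F71697 : act 6 n45436 = n37251 := d12_2 D21680 D45436 (iv5 D37251) (iv6 D17904) (iv5 F16474)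
def n45437 : Q := act 7 n21680
theorem D45437 : act 7 n21680 = n45437 := rfl
theorem F71698 : act 2 n45437 = n37346 := d4_1 D45437 (iv7 D37346) (iv2 F34138)
theorem F71699 : act 4 n45437 = n21684 := d11_1 D45437 (iv7 D21684) (iv4 F34139)
theorem F71700 : act 6 n45437 = n44770 := d14_1 D45437 (iv7 D44770) (iv6 D21321) (iv7 F16475) D21680
theorem F71701 : act 1 n37346 = n45434 := d15_0 (iv0 D45434) D45437 F71698
theorem F71702 : act 1 n37344 = n45437 := d15_1 D37344 (iv7 D45437) F34138
theorem F71703 : act 1 n45437 = n37343 := d15_0 (iv0 D37343) D37346 (iv2 F71698)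
def n45438 : Q := act 2 n21681
theorem D45438 : act 2 n21681 = n45438 := rfl
theorem F71704 : act 7 n21682 = n45438 := d15_2 (iv0 D21681) D21682 (iv2 D45438)
def n45439 : Q := act 3 n21681
theorem D45439 : act 3 n21681 = n45439 := rfl
def n45440 : Q := act 4 n21681
theorem D45440 : act 4 n21681 = n45440 := rfl
def n45441 : Q := act 5 n21681
theorem D45441 : act 5 n21681 = n45441 := rfl
def n45442 : Q := act 6 n21681
theorem D45442 : act 6 n21681 = n45442 := rfl
def n45443 : Q := act 7 n21681
theorem D45443 : act 7 n21681 = n45443 := rfl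
theorem F71705 : act 2 n45443 = n21682 := d4_1 D45443 F71704 (iv2 D45438)
def n45444 : Q := act 3 n21682
theorem D45444 : act 3 n21682 = n45444 := rfl
def n45445 : Q := act 4 n21682
theorem D45445 : act 4 n21682 = n45445 := rfl
def n45446 : Q := act 5 n21682
theorem D45446 : act 5 n21682 = n45446 := rfl
def n45447 : Q := act 6 n21682
theorem D45447 : act 6 n21682 = n45447 := rfl
def n45448 : Q := act 0 n21683
theorem D45448 : act 0 n21683 = n45448 := rfl
def n45449 : Q := act 1 n21683
theorem D45449 : act 1 n21683 = n45449 := rfl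
def n45450 : Q := act 4 n21683
theorem D45450 : act 4 n21683 = n45450 := rfl
theorem F71706 : act 6 n45450 = n21696 := d10_2 (iv6 F34141) D45450 (iv4 D21696)
def n45451 : Q := act 7 n21683
theorem D45451 : act 7 n21683 = n45451 := rfl
theorem F71707 : act 3 n45451 = n44784 := d8_1 D45451 (iv7 D44784) (iv3 F34140)
theorem F71708 : act 5 n45451 = n21684 := d13_1 D45451 (iv7 D21684) D21683
def n45452 : Q := act 0 n21686
theorem D45452 : act 0 n21686 = n45452 := rfl
def n45453 : Q := act 1 n21686
theorem D45453 : act 1 n21686 = n45453 := rfl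
def n45454 : Q := act 2 n21686
theorem D45454 : act 2 n21686 = n45454 := rfl
def n45455 : Q := act 5 n21686
theorem D45455 : act 5 n21686 = n45455 := rfl
theorem F71709 : act 3 n45455 = n21688 := d6_1 D45455 (iv5 D21688) D21686
def n45456 : Q := act 6 n21686
theorem D45456 : act 6 n21686 = n45456 := rfl
theorem F71710 : act 3 n45456 = n21689 := d7_1 D45456 (iv6 D21689) D21686
def n45457 : Q := act 0 n21688
theorem D45457 : act 0 n21688 = n45457 := rfl
theorem F71711 : act 5 n45457 = n45014 := d17_3 D10350 D21688 D45457 F70801 (iv5 F34165) (iv0 D21716) (iv5 D10357) (iv0 D4692) (iv4 F6790)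
theorem F71712 : act 1 n21692 = n45457 := d15_0 (iv0 D45457) (iv7 F70994) F70993
def n45458 : Q := act 1 n21688
theorem D45458 : act 1 n21688 = n45458 := rfl
theorem F71713 : act 1 n45458 = n21692 := d15_1 D45458 (iv7 F69451) F69450
def n45459 : Q := act 4 n21688
theorem D45459 : act 4 n21688 = n45459 := rfl
def n45460 : Q := act 6 n21688
theorem D45460 : act 6 n21688 = n45460 := rfl
def n45461 : Q := act 0 n21689
theorem D45461 : act 0 n21689 = n45461 := rfl
def n45462 : Q := act 1 n21689
theorem D45462 : act 1 n21689 = n45462 := rfl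
def n45463 : Q := act 5 n21689
theorem D45463 : act 5 n21689 = n45463 := rfl
theorem F71714 : act 2 n45463 = n23023 := d2_1 D45463 (iv5 F64858) F64856
theorem F71715 : act 0 n45463 = n22984 := d21_7 (iv5 F16471) (iv1 D10347) (iv5 D4690) D4691 D10350 D21689 D45463 (iv5 D22984) (iv6 D10849) (iv1 F7392)
theorem E8022 : n45462 = n42017 := (c17_9 F63258 D21723 F34172 (iv5 D10852) (iv4 F17642) D22984 (iv0 F71715) (iv5 D45463) D45462 F64860)
theorem F71716 : act 0 n42017 = n21689 := (sb E8022 (iv1 D45462))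
theorem F71717 : act 0 n23025 = n45463 := d21_1 (iv5 F36073) (iv5 D45463) (iv6 D21689) (iv1 F33865) F33863 (iv5 F70167) (iv1 F70168) (iv5 F36760) F36758 F31878
theorem E8023 : n45461 = n42002 := ((c15_4 (iv0 D45461) (iv0 F71716) (iv7 D42017) (iv2 F64812))).symm
theorem F71718 : act 1 n42002 = n21689 := (sb E8023 (iv0 D45461))
def n45464 : Q := act 0 n21691
theorem D45464 : act 0 n21691 = n45464 := rfl
def n45465 : Q := act 1 n21691
theorem D45465 : act 1 n21691 = n45465 := rfl
def n45466 : Q := act 2 n21691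
theorem D45466 : act 2 n21691 = n45466 := rfl
def n45467 : Q := act 5 n21691
theorem D45467 : act 5 n21691 = n45467 := rfl
theorem F71719 : act 3 n45467 = n21692 := d6_1 D45467 (iv5 D21692) D21691
def n45468 : Q := act 6 n21691
theorem D45468 : act 6 n21691 = n45468 := rfl
theorem F71720 : act 3 n45468 = n21693 := d7_1 D45468 (iv6 D21693) D21691
def n45469 : Q := act 4 n21692
theorem D45469 : act 4 n21692 = n45469 := rfl
def n45470 : Q := act 6 n21692
theorem D45470 : act 6 n21692 = n45470 := rfl
def n45471 : Q := act 3 n21694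
theorem D45471 : act 3 n21694 = n45471 := rfl
def n45472 : Q := act 4 n21694
theorem D45472 : act 4 n21694 = n45472 := rfl
def n45473 : Q := act 5 n21694
theorem D45473 : act 5 n21694 = n45473 := rfl
theorem F71721 : act 7 n45473 = n23185 := d13_2 (iv7 F71005) D45473 F70996
theorem F71722 : act 1 n45473 = n23618 := d17_8 (iv1 F66737) (iv5 D21742) F33881 F33877 (iv4 F33862) (iv5 F71000) F71006 D45473 F36752
theorem F71723 : act 6 n45473 = n23547 := d21_3 D10352 D21694 D45473 (iv1 F36656) (iv6 D23519) D23518 (iv1 F36754) F36755 (iv6 D21693) (iv1 D10351)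
def n45474 : Q := act 6 n21694
theorem D45474 : act 6 n21694 = n45474 := rfl
def n45475 : Q := act 3 n21695
theorem D45475 : act 3 n21695 = n45475 := rfl
def n45476 : Q := act 4 n21695
theorem D45476 : act 4 n21695 = n45476 := rfl
def n45477 : Q := act 6 n21695
theorem D45477 : act 6 n21695 = n45477 := rfl
def n45478 : Q := act 0 n21696
theorem D45478 : act 0 n21696 = n45478 := rfl
def n45479 : Q := act 1 n21696
theorem D45479 : act 1 n21696 = n45479 := rfl
def n45480 : Q := act 3 n21696
theorem D45480 : act 3 n21696 = n45480 := rfl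
theorem F71724 : act 4 n45480 = n44813 := d5_2 D21696 D45480 (iv3 D44813) (iv4 D21337) (iv3 F16477)
def n45481 : Q := act 5 n21696
theorem D45481 : act 5 n21696 = n45481 := rfl
def n45482 : Q := act 7 n21696
theorem D45482 : act 7 n21696 = n45482 := rfl
theorem F71725 : act 4 n45482 = n21697 := d11_1 D45482 (iv7 D21697) D21696
def n45483 : Q := act 6 n21697
theorem D45483 : act 6 n21697 = n45483 := rfl
theorem F71726 : act 3 n45483 = n44816 := d7_1 D45483 (iv6 D44816) (iv3 F34146)
theorem F71727 : act 5 n45483 = n44816 := d12_1 D45483 (iv6 D44816) F33527 (iv6 F16480) (iv5 F34147)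
def n45484 : Q := act 0 n21707
theorem D45484 : act 0 n21707 = n45484 := rfl
theorem F71728 : act 5 n45484 = n22926 := d17_3 (iv1 F62662) D21707 D45484 (iv4 F68174) (iv5 F69462) (iv0 D44122) (iv5 D20967) (iv0 F62850) F31715
theorem F71729 : act 4 n45484 = n44130 := d18_1 D45484 (iv1 F69470) (iv4 D20988) (iv5 D9961) D9960 F33149 F62671 F62688 D21707
theorem F71730 : act 3 n45484 = n21827 := d20_3 D20972 D44130 (iv4 F71729) (iv1 D21827) F16573 D10418 (iv1 F33246) (iv4 D21060) (iv3 F66546) (iv1 D20971)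
def n45485 : Q := act 1 n21707
theorem D45485 : act 1 n21707 = n45485 := rfl
def n45486 : Q := act 4 n21707
theorem D45486 : act 4 n21707 = n45486 := rfl
theorem F71731 : act 0 n45486 = n44280 := d20_7 D10030 (iv1 F33252) F33255 (iv3 F66751) (iv1 D21717) (iv3 F34156) D45486 (iv4 D44280) (iv3 D21057) (iv1 F15828)
def n45487 : Q := act 6 n21707
theorem D45487 : act 6 n21707 = n45487 := rfl
def n45488 : Q := act 0 n21708
theorem D45488 : act 0 n21708 = n45488 := rfl
def n45489 : Q := act 1 n21708
theorem D45489 : act 1 n21708 = n45489 := rfl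
theorem F71733 : act 4 n45489 = n44126 := d17_9 (iv1 D44126) D44127 F69469 (iv5 D43354) F32537 D22231 F66412 F66404 D45489
theorem F71734 : act 7 n41817 = n45489 := d11_0 F71733 F69466 F67770
theorem E8024 : n41825 = n21708 := (c15_1 D41825 D45489 (iv7 F71734) F64483)
theorem E8025 : n45488 = n19688 := ((D45488).symm.trans (sb E8024 (iv1 D41825)))
theorem F71736 : act 1 n19688 = n21708 := (sb E8025 (iv0 D45488))
theorem F71737 : act 2 n42023 = n41824 := d15_3 (iv0 D41824) F71736 (iv7 F64887)
theorem F71738 : act 5 n41824 = n42568 := d2_2 (iv5 F64885) F71737 F66411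
theorem F71739 : act 7 n41824 = n22081 := d4_2 (iv7 F64887) F71737 F62943
theorem F71740 : act 4 n42455 = n41824 := d11_3 F71739 F62941 (iv7 F65575)
theorem F71741 : act 1 n45489 = n41824 := d15_1 D45489 F71739 F62943
def n45490 : Q := act 3 n21710
theorem D45490 : act 3 n21710 = n45490 := rfl
theorem F71742 : act 4 n45490 = n40754 := d5_2 (iv4 F62597) D45490 F61867 F30890 (iv3 F30857)
theorem F71743 : act 6 n45490 = n44822 := d7_2 (iv6 F66314) D45490 (iv3 D44822)
theorem F71744 : act 7 n45490 = n40694 := d8_2 (iv7 F62598) D45490 F61809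
def n45491 : Q := act 5 n21710
theorem D45491 : act 5 n21710 = n45491 := rfl
theorem F71745 : act 7 n45491 = n40699 := d13_2 (iv7 F62598) D45491 (iv5 D40699)
def n45492 : Q := act 0 n21712
theorem D45492 : act 0 n21712 = n45492 := rfl
def n45493 : Q := act 1 n21712
theorem D45493 : act 1 n21712 = n45493 := rfl
def n45494 : Q := act 2 n21712
theorem D45494 : act 2 n21712 = n45494 := rfl
def n45495 : Q := act 5 n21712
theorem D45495 : act 5 n21712 = n45495 := rfl
theorem F71746 : act 3 n45495 = n21713 := d6_1 D45495 (iv5 D21713) D21712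
def n45496 : Q := act 6 n21712
theorem D45496 : act 6 n21712 = n45496 := rfl
theorem F71747 : act 3 n45496 = n21714 := d7_1 D45496 (iv6 D21714) D21712
def n45497 : Q := act 0 n21713
theorem D45497 : act 0 n21713 = n45497 := rfl
theorem F71748 : act 5 n45497 = n45007 := d17_3 F62910 D21713 D45497 F70784 (iv5 F69452) (iv0 D44109) (iv5 D20961) F62687 (iv4 F34011)
theorem F71749 : act 1 n21733 = n45497 := d15_0 (iv0 D45497) (iv7 F71031) F71030
def n45498 : Q := act 1 n21713
theorem D45498 : act 1 n21713 = n45498 := rfl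
theorem F71750 : act 1 n45498 = n21733 := d15_1 D45498 (iv7 F71016) F71015
def n45499 : Q := act 4 n21713
theorem D45499 : act 4 n21713 = n45499 := rfl
def n45500 : Q := act 6 n21713
theorem D45500 : act 6 n21713 = n45500 := rfl
def n45501 : Q := act 1 n21714
theorem D45501 : act 1 n21714 = n45501 := rfl
theorem F71751 : act 7 n45501 = n44657 := d15_2 (iv0 F71549) D45501 (iv2 F71547)
theorem F71752 : act 6 n44857 = n45501 := d21_3 D21488 D45008 F70793 (iv1 D45501) (iv6 D21714) D21713 D45497 F71748 (iv6 D45007) (iv1 D21487)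
def n45502 : Q := act 5 n21714
theorem D45502 : act 5 n21714 = n45502 := rfl
theorem F71753 : act 0 n45502 = n44919 := d21_1 D45502 (iv5 D44919) (iv6 D21438) (iv1 F16160) D10256 D21488 D45008 F70793 F71752 (iv1 D45501)
theorem F71754 : act 4 n45501 = n44114 := d17_9 (iv1 D44114) (iv5 F65238) F65241 (iv5 D23340) (iv4 F33675) D44919 (iv0 F71753) (iv5 D45502) D45501
theorem F71755 : act 7 n44114 = n43220 := d11_2 (iv7 F71751) F71754 (iv4 F70206)
theorem F71756 : act 2 n44278 = n44114 := d4_3 F71755 F67690 (iv7 F69686)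
theorem E8026 : n44113 = n40421 := ((c15_4 (iv0 D44113) D44114 F71755 F67690)).symm
theorem F71757 : act 1 n40421 = n20962 := (sb E8026 (iv0 D44113))
theorem F71758 : act 2 n42479 = n42727 := d2_3 (iv5 F69685) F71756 F69455
theorem F71759 : act 3 n42519 = n42479 := d0_0 F71758 (iv3 D42727) (iv2 F66340) D42765 F67010
def n45506 : Q := act 0 n21718
theorem D45506 : act 0 n21718 = n45506 := rfl
theorem F71766 : act 4 n45506 = n44109 := d18_3 (iv1 D21717) D21718 D45506 F69452 (iv4 F70784) (iv0 F70785) F36309 D23217 F63361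
theorem F71767 : act 1 n21735 = n45506 := d15_0 (iv0 D45506) (iv7 F71034) F71032
def n45512 : Q := act 5 n21719
theorem D45512 : act 5 n21719 = n45512 := rfl
theorem F71777 : act 6 n45512 = n21723 := d12_2 D21719 D45512 (iv5 D21723) (iv6 D10358) D10357
def n45513 : Q := act 4 n21723
theorem D45513 : act 4 n21723 = n45513 := rfl
theorem F71780 : act 2 n45513 = n23074 := d1_1 D45513 (iv4 D23074) (iv2 F62835)
theorem F71781 : act 7 n45513 = n23069 := d11_2 (iv7 F62836) D45513 (iv4 D23069)
def n45514 : Q := act 0 n21730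
theorem D45514 : act 0 n21730 = n45514 := rfl
theorem F71783 : act 4 n45514 = n44300 := d18_1 D45514 (iv1 F69733) (iv4 D44257) (iv5 D21045) D21044 F62663 (iv4 F31277) F62628 D21730
theorem F71784 : act 3 n45514 = n45485 := d20_3 D21085 D44300 (iv4 F71783) (iv1 D45485) F34156 D21718 D45506 F71766 (iv3 F69453) (iv1 D21084)
theorem F71785 : act 4 n45485 = n44131 := d20_6 (iv4 F71766) (iv1 F71767) (iv4 D21735) (iv3 F34178) D45514 F71784 (iv1 D44131) (iv4 D20972) (iv3 F33142) D44109
def n45515 : Q := act 1 n21730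
theorem D45515 : act 1 n21730 = n45515 := rfl
theorem F71786 : act 5 n44954 = n45515 := d21_6 (iv5 D41781) (iv1 F63780) F63777 (iv6 F68877) (iv1 F68878) D44954 (iv1 D45515) (iv5 D21730) D21731 (iv1 F69722)
theorem F71787 : act 3 n45515 = n21799 := d6_1 F71786 F62641 (iv3 F70681)
theorem F71788 : act 4 n45515 = n44301 := d18_5 F67041 (iv4 F68599) F69711 (iv4 F70682) F71786 F69734 (iv4 D44257) F33279 (iv5 F67039)
def n45517 : Q := act 0 n21732
theorem D45517 : act 0 n21732 = n45517 := rfl
def n45518 : Q := act 1 n21732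
theorem D45518 : act 1 n21732 = n45518 := rfl
theorem F71791 : act 3 n44629 = n45518 := d20_3 (iv4 F35773) F66246 (iv4 F70170) (iv1 D45518) (iv3 D21732) (iv4 D10361) (iv1 D4693) (iv4 F6790) F6789 D10177
theorem F71792 : act 4 n44863 = n45518 := d20_6 F14117 F62564 D10016 (iv3 F16017) D21392 D44863 (iv1 D45518) (iv4 F63048) (iv3 D40765) (iv1 D19230)
theorem F71793 : act 6 n45518 = n44851 := d10_2 (iv6 F70462) F71792 (iv4 F70451)
theorem F71794 : act 7 n45518 = n44635 := d11_2 (iv7 F70463) F71792 F70187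
theorem E8027 : n45517 = n45362 := ((c15_4 (iv0 D45517) D45518 F71794 (iv2 F71512))).symm
theorem F71795 : act 1 n45362 = n21732 := (sb E8027 (iv0 D45517))
def n45519 : Q := act 2 n21732
theorem D45519 : act 2 n21732 = n45519 := rfl
def n45520 : Q := act 5 n21732
theorem D45520 : act 5 n21732 = n45520 := rfl
theorem F71796 : act 3 n45520 = n21733 := d6_1 D45520 (iv5 D21733) D21732
def n45521 : Q := act 6 n21732
theorem D45521 : act 6 n21732 = n45521 := rfl
theorem F71797 : act 3 n45521 = n21734 := d7_1 D45521 (iv6 D21734) D21732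
def n45522 : Q := act 4 n21733
theorem D45522 : act 4 n21733 = n45522 := rfl
def n45523 : Q := act 6 n21733
theorem D45523 : act 6 n21733 = n45523 := rfl
def n45524 : Q := act 0 n21734
theorem D45524 : act 0 n21734 = n45524 := rfl
theorem F71798 : act 5 n45524 = n44605 := d17_1 D45524 (iv1 F70130) (iv5 D23502) (iv4 D11021) F35868 (iv0 D9278) D9282 (iv0 F63234) (iv4 F34180)
theorem F71799 : act 1 n41980 = n45524 := d15_0 (iv0 D45524) (iv7 F64866) F64865
theorem F71800 : act 7 n45524 = n44688 := d15_2 (iv0 F71451) F71799 (iv2 F71447)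
theorem F71801 : act 6 n44833 = n45524 := d14_5 F71800 (iv6 D44688) F63472 D45347 (iv7 F71462)
def n45525 : Q := act 5 n21734
theorem D45525 : act 5 n21734 = n45525 := rfl
theorem F71802 : act 1 n45525 = n44944 := d17_6 (iv1 F63142) D11030 (iv1 F17909) (iv5 F63241) (iv4 F34180) D45525 (iv5 D44944) (iv0 D21450) F16172
theorem F71803 : act 0 n45525 = n44946 := d21_7 D44840 F70428 (iv5 D44823) (iv6 F66314) (iv1 F34164) D21734 D45525 (iv5 D44946) F70427 (iv1 D44838)
def n45529 : Q := act 5 n21740
theorem D45529 : act 5 n21740 = n45529 := rfl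
theorem F71804 : act 3 n45529 = n21742 := d6_1 D45529 (iv5 D21742) D21740
theorem F71805 : act 6 n45529 = n22875 := d12_2 (iv6 F62938) D45529 F63348 (iv6 D22086) D22085
theorem F71806 : act 7 n45529 = n23203 := d13_2 (iv7 F62990) D45529 F62988
def n45530 : Q := act 0 n21741
theorem D45530 : act 0 n21741 = n45530 := rfl
theorem F71807 : act 4 n45530 = n40714 := d18_3 D10364 D21741 D45530 F61822 (iv4 F62597) (iv0 D21710) (iv4 D10356) (iv0 D4692) D4694
theorem F71808 : act 1 n21745 = n45530 := d15_0 (iv0 D45530) (iv7 F71039) F71038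
theorem E8028 : n44149 = n40714 := (c20_11 (iv4 F71807) (iv1 F71808) (iv4 D21745) D21744 (iv1 F69630) F64009 F69501 (iv1 D44152) (iv4 D20994) D20993 D44149)
theorem F71809 : act 1 n40714 = n20993 := (sb E8028 (iv0 D44149))
def n45531 : Q := act 1 n21741
theorem D45531 : act 1 n21741 = n45531 := rfl
theorem F71812 : act 1 n45531 = n21745 := d15_1 D45531 (iv7 F71037) F71035
theorem F71814 : act 4 n40676 = n45531 := d18_5 (iv1 F16288) D10361 (iv1 F62911) F34011 D40676 F71812 (iv4 D21745) F33880 F33877
theorem F71815 : act 6 n45531 = n21754 := d10_2 (iv6 F61772) F71814 F34190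
def n45534 : Q := act 4 n21742
theorem D45534 : act 4 n21742 = n45534 := rfl
theorem F71817 : act 6 n45534 = n23539 := d10_2 (iv6 F63295) D45534 (iv4 D23539)
def n45536 : Q := act 5 n21744
theorem D45536 : act 5 n21744 = n45536 := rfl
theorem F71820 : act 6 n22257 = n45536 := d21_5 (iv5 F6913) (iv1 F6295) (iv5 F6991) D10609 D22257 (iv5 D45536) (iv1 F69630) (iv5 D41504) (iv6 D19541) (iv1 F14352)
def n45539 : Q := act 5 n21745
theorem D45539 : act 5 n21745 = n45539 := rfl
def n45541 : Q := act 4 n21746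
theorem D45541 : act 4 n21746 = n45541 := rfl
theorem F71824 : act 6 n45541 = n23156 := d10_2 (iv6 F34184) D45541 (iv4 D23156)
def n45559 : Q := act 0 n21753
theorem D45559 : act 0 n21753 = n45559 := rfl
def n45560 : Q := act 1 n21753
theorem D45560 : act 1 n21753 = n45560 := rfl
def n45561 : Q := act 7 n21753
theorem D45561 : act 7 n21753 = n45561 := rfl
def n45563 : Q := act 5 n21754
theorem D45563 : act 5 n21754 = n45563 := rfl
def n45570 : Q := act 0 n21757
theorem D45570 : act 0 n21757 = n45570 := rfl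
def n45571 : Q := act 1 n21757
theorem D45571 : act 1 n21757 = n45571 := rfl
def n45573 : Q := act 7 n21757
theorem D45573 : act 7 n21757 = n45573 := rfl
theorem F71852 : act 4 n45573 = n21760 := d11_1 D45573 (iv7 D21760) (iv4 F34196)
def n45576 : Q := act 0 n21761
theorem D45576 : act 0 n21761 = n45576 := rfl
def n45577 : Q := act 1 n21761
theorem D45577 : act 1 n21761 = n45577 := rfl
def n45579 : Q := act 0 n21762
theorem D45579 : act 0 n21762 = n45579 := rfl
def n45580 : Q := act 1 n21762
theorem D45580 : act 1 n21762 = n45580 := rfl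
theorem F71862 : act 1 n45580 = n45561 := d15_1 D45580 (iv7 D45561) (iv2 F34199)
def n45581 : Q := act 5 n21762
theorem D45581 : act 5 n21762 = n45581 := rfl
theorem F71863 : act 2 n45581 = n40452 := d2_1 D45581 F61549 (iv2 F34199)
theorem F71864 : act 3 n45581 = n26920 := d6_1 D45581 F43414 (iv3 F34200)
theorem F71865 : act 6 n45581 = n21763 := d12_2 D21762 D45581 (iv5 D21763) (iv6 D10385) D10384
def n45582 : Q := act 7 n21762
theorem D45582 : act 7 n21762 = n45582 := rfl
theorem F71867 : act 3 n45582 = n36963 := d8_1 D45582 (iv7 D36963) (iv3 F34200)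
theorem F71870 : act 1 n45560 = n45582 := d15_1 D45560 (iv7 D45582) F34199
def n45590 : Q := act 1 n21766
theorem D45590 : act 1 n21766 = n45590 := rfl
theorem F71880 : act 1 n45590 = n45573 := d15_1 D45590 (iv7 D45573) (iv2 F34209)
theorem F71881 : act 4 n45590 = n44364 := d20_2 (iv4 F71852) (iv1 F71880) (iv3 D44364) (iv1 D21114) F15889 (iv4 F15894) D21120 (iv4 F33343) D21151 F67579
def n45592 : Q := act 7 n21766
theorem D45592 : act 7 n21766 = n45592 := rfl
theorem F71883 : act 2 n45592 = n45573 := d4_1 D45592 (iv7 D45573) (iv2 F34209)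
theorem F71884 : act 4 n45592 = n21769 := d11_1 D45592 (iv7 D21769) (iv4 F34210)
theorem F71887 : act 1 n45571 = n45592 := d15_1 D45571 (iv7 D45592) F34209
theorem F71888 : act 1 n45592 = n45570 := d15_0 (iv0 D45570) D45573 (iv2 F71883)
def n45601 : Q := act 1 n21772
theorem D45601 : act 1 n21772 = n45601 := rfl
def n45611 : Q := act 7 n21775
theorem D45611 : act 7 n21775 = n45611 := rfl
theorem F71913 : act 4 n45611 = n44178 := d11_1 D45611 (iv7 D44178) (iv4 F34228)
theorem F71915 : act 1 n45601 = n45611 := d15_1 D45601 (iv7 D45611) F34227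
theorem E8030 : n45601 = n44473 := (c20_8 (iv4 F15907) (iv1 F33351) (iv4 D21125) (iv3 F66658) (iv1 F33202) (iv3 F69514) (iv4 F71913) (iv1 F71915) (iv4 D44473) (iv3 D21153) (iv1 D10080))
theorem F71916 : act 0 n44473 = n21772 := (sb E8030 (iv1 D45601))
def n45629 : Q := act 0 n21797
theorem D45629 : act 0 n21797 = n45629 := rfl
theorem F71948 : act 1 n22192 = n45629 := d15_0 (iv0 D45629) (iv7 F34281) (iv2 F63050)
def n45630 : Q := act 1 n21797
theorem D45630 : act 1 n21797 = n45630 := rfl
def n45631 : Q := act 4 n21797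
theorem D45631 : act 4 n21797 = n45631 := rfl
def n45633 : Q := act 0 n21798
theorem D45633 : act 0 n21798 = n45633 := rfl
def n45634 : Q := act 1 n21798
theorem D45634 : act 1 n21798 = n45634 := rfl
def n45635 : Q := act 4 n21799
theorem D45635 : act 4 n21799 = n45635 := rfl
theorem F71951 : act 0 n45635 = n44137 := d18_2 D21799 D45635 (iv4 D44137) (iv5 D20983) F62689 F31316 F31313 F62630 D10406
def n45636 : Q := act 3 n21800
theorem D45636 : act 3 n21800 = n45636 := rfl
theorem F71952 : act 6 n45636 = n44468 := d7_2 (iv6 F62644) D45636 (iv3 D44468)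
theorem F71953 : act 7 n45636 = n45484 := d8_2 F66851 D45636 F71730
def n45637 : Q := act 4 n21800
theorem D45637 : act 4 n21800 = n45637 := rfl
def n45644 : Q := act 4 n21805
theorem D45644 : act 4 n21805 = n45644 := rfl
theorem F71968 : act 0 n44111 = n45644 := d20_7 D10418 (iv1 F33246) (iv4 D21060) (iv3 F66546) (iv1 D20971) (iv3 F33142) D44111 (iv4 D45644) (iv3 D21805) (iv1 F16557)
theorem F71969 : act 5 n43485 = n44110 := d18_9 (iv1 D44110) D44111 F71968 (iv4 D45644) F34253 (iv4 F36752) (iv0 F68340) F68338 D43485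
def n45650 : Q := act 3 n21823
theorem D45650 : act 3 n21823 = n45650 := rfl
theorem F71979 : act 4 n45650 = n44251 := d5_2 (iv4 F62612) D45650 (iv3 D44251) (iv4 D21036) (iv3 F62585)
theorem F71980 : act 6 n45650 = n41656 := d7_2 (iv6 F62613) D45650 F64281
theorem F71981 : act 7 n45650 = n37998 := d8_2 (iv7 F62614) D45650 F58833
def n45651 : Q := act 5 n21823
theorem D45651 : act 5 n21823 = n45651 := rfl
theorem F71982 : act 2 n45651 = n41646 := d2_1 D45651 F64269 (iv2 F62611)
theorem F71983 : act 7 n45651 = n37999 := d13_2 (iv7 F62614) D45651 (iv5 D37999)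
theorem F71985 : act 1 n45651 = n41643 := d15_0 (iv0 D41643) D41646 (iv2 F71982)
def n45652 : Q := act 0 n21824
theorem D45652 : act 0 n21824 = n45652 := rfl
theorem F71986 : act 1 n41547 = n45652 := d15_0 (iv0 D45652) F34281 (iv2 F64108)
def n45653 : Q := act 1 n21824
theorem D45653 : act 1 n21824 = n45653 := rfl
theorem F71987 : act 1 n45653 = n41547 := d15_1 D45653 F64109 F63050
theorem F71988 : act 5 n22810 = n45653 := d21_6 (iv5 D22787) (iv1 F34846) F34843 (iv6 F34319) (iv1 F34321) D22810 (iv1 D45653) (iv5 D21824) D21825 F63040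
def n45654 : Q := act 4 n21824
theorem D45654 : act 4 n21824 = n45654 := rfl
def n45655 : Q := act 6 n21824
theorem D45655 : act 6 n21824 = n45655 := rfl
theorem F71990 : act 3 n45655 = n43999 := d7_1 D45655 (iv6 D43999) (iv3 F34280)
def n45656 : Q := act 5 n21825
theorem D45656 : act 5 n21825 = n45656 := rfl
theorem F71991 : act 2 n45656 = n22763 := d2_1 D45656 F35325 F63041
theorem F71992 : act 3 n45656 = n44001 := d6_1 D45656 (iv5 D44001) (iv3 F34282)
theorem F71993 : act 7 n45656 = n22764 := d13_2 F64792 D45656 (iv5 F64793)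
theorem F71994 : act 0 n45656 = n22328 := d17_2 F64395 D45656 (iv5 D22328) D22327 F35323 F62388 (iv5 F63009) (iv0 F64393) F64392
theorem F71995 : act 1 n45656 = n22324 := d17_6 D4864 D10636 (iv1 F17326) F62656 (iv4 F34283) D45656 (iv5 D22324) (iv0 D10629) F7032
def n45657 : Q := act 3 n21826
theorem D45657 : act 3 n21826 = n45657 := rfl
theorem F71996 : act 7 n45657 = n45515 := d8_2 F66853 D45657 F71787
theorem F71997 : act 4 n45657 = n44271 := d20_6 D21058 F33240 (iv4 D10418) (iv3 F16573) D21826 D45657 (iv1 D44271) (iv4 D21053) F15824 D10019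
theorem F71998 : act 7 n44271 = n44301 := d11_2 (iv7 F71996) F71997 (iv4 F71788)
theorem F71999 : act 0 n41510 = n45657 := d18_0 F71997 (iv1 D44271) (iv4 D21053) (iv5 D10017) D10016 (iv0 F62583) F31283 D19545 D41510
theorem F72001 : act 2 n44271 = n44300 := d15_3 (iv0 D44300) D44301 (iv7 F71998)
theorem F72002 : act 2 n45514 = n45657 := d1_3 F71997 F72001 (iv4 F71783)
theorem F72004 : act 2 n45636 = n45485 := d0_5 (iv3 F71784) F72002 (iv3 D45657) (iv2 F66852) D45636
def n45658 : Q := act 4 n21826
theorem D45658 : act 4 n21826 = n45658 := rfl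
theorem F72005 : act 2 n45658 = n45637 := d1_1 D45658 (iv4 D45637) F66852
theorem F72006 : act 7 n45658 = n45635 := d11_2 F66853 D45658 (iv4 D45635)
theorem F72007 : act 1 n45637 = n44137 := d15_0 (iv0 F71951) (iv7 F72006) F72005
def n45659 : Q := act 4 n21827
theorem D45659 : act 4 n21827 = n45659 := rfl
theorem F72009 : act 7 n45659 = n45637 := d11_2 (iv7 F66851) D45659 (iv4 D45637)
def n45660 : Q := act 0 n21828
theorem D45660 : act 0 n21828 = n45660 := rfl
theorem F72010 : act 1 n41549 = n45660 := d15_0 (iv0 D45660) F34286 (iv2 F64112)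
theorem F72011 : act 4 n45660 = n44135 := d18_7 F62661 F29323 (iv1 F62367) (iv4 D19562) D19563 D41549 F72010 (iv0 D44135) (iv5 D20983)
theorem F72013 : act 3 n44135 = n44110 := d20_3 D21828 D45660 F72011 (iv1 D44110) F33142 D20972 D44130 (iv4 F71729) F71730 (iv1 D21827)
theorem F72014 : act 2 n44110 = n44268 := d0_1 F72013 (iv3 D44268) F66600 D44297 F69728
theorem F72016 : act 2 n43680 = n43485 := d2_3 F71969 F72014 F69667
theorem F72017 : act 7 n43485 = n42269 := d4_2 (iv7 F68641) F72016 F66631
theorem E8032 : n43484 = n23409 := ((c15_4 (iv0 D43484) D43485 F72017 F66631)).symm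
theorem F72018 : act 1 n23409 = n20562 := (sb E8032 (iv0 D43484))
def n45717 : Q := act 3 n21855
theorem D45717 : act 3 n21855 = n45717 := rfl
theorem F72098 : act 7 n45717 = n22300 := d8_2 (iv7 F68218) D45717 (iv3 D22300)
theorem F72099 : act 4 n45717 = n23165 := d20_6 (iv4 D2014) (iv1 F3269) D4723 D10427 D21855 D45717 (iv1 D23165) F17721 (iv3 D10651) (iv1 D4881)
theorem F72100 : act 0 n41101 = n45717 := d20_10 F72099 (iv1 D23165) F17721 (iv3 D10651) (iv1 D4881) D4882 (iv4 F17184) D22355 F34900 D41101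
def n45718 : Q := act 4 n21855
theorem D45718 : act 4 n21855 = n45718 := rfl
theorem F72101 : act 2 n45718 = n22306 := d1_1 D45718 (iv4 D22306) (iv2 F68217)
theorem F72102 : act 7 n45718 = n22301 := d11_2 (iv7 F68218) D45718 (iv4 D22301)
theorem F72103 : act 3 n45718 = n44573 := d20_3 F16597 D21855 D45718 (iv1 F70095) (iv3 D22504) F31830 (iv1 F32605) D43399 F68214 (iv1 D21856)
theorem F72104 : act 0 n39084 = n45718 := d20_10 (iv4 D45718) (iv1 F34310) F17164 F17163 (iv1 F7334) D9083 (iv4 F17130) (iv1 F22006) (iv4 F29797) (iv3 F60087)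
theorem F72105 : act 0 n45717 = n22593 := d20_10 (iv4 F70578) (iv1 F70579) F62123 (iv3 F35168) F35169 D40892 F61992 F72104 (iv4 D45718) D45717
theorem F72106 : act 7 n44573 = n40880 := d8_2 (iv7 F72102) F72103 F61985
theorem F72107 : act 2 n40880 = n44574 := d15_3 (iv0 F70097) F70095 F72106
theorem F72108 : act 2 n44573 = n40881 := d15_3 F70102 F70101 (iv7 F72106)
theorem F72109 : act 3 n40881 = n42342 := d0_2 F72103 F72108 F65385 F34931 (iv2 F72101)
theorem F72110 : act 7 n40881 = n44574 := d4_2 (iv7 F72106) F72108 (iv2 F72107)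
def n45719 : Q := act 5 n21855
theorem D45719 : act 5 n21855 = n45719 := rfl
theorem F72111 : act 2 n45719 = n22307 := d2_1 D45719 (iv5 D22307) (iv2 F68217)
theorem F72112 : act 7 n45719 = n22302 := d13_2 (iv7 F68218) D45719 (iv5 D22302)
def n45720 : Q := act 6 n21855
theorem D45720 : act 6 n21855 = n45720 := rfl
theorem F72113 : act 2 n45720 = n22308 := d3_1 D45720 (iv6 D22308) (iv2 F68217)
def n45721 : Q := act 4 n21856
theorem D45721 : act 4 n21856 = n45721 := rfl
theorem F72114 : act 2 n45721 = n22301 := d1_1 D45721 (iv4 D22301) (iv2 F68215)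
theorem F72115 : act 3 n45721 = n42341 := d5_1 D45721 (iv4 F68207) (iv3 D43398) D43399 F68214
theorem F72116 : act 7 n45721 = n22306 := d11_2 (iv7 F68216) D45721 (iv4 D22306)
theorem F72117 : act 0 n45721 = n39084 := d20_1 D45721 (iv4 F61992) (iv3 D40892) (iv1 D19274) (iv3 D9063) (iv4 D4075) (iv1 F3353) (iv4 F7331) (iv3 F17163) (iv1 F34311)
theorem E8033 : n41457 = n38606 := ((c17_3 (iv1 D21856) (iv5 F29558) D38606 (iv5 D41457) D41456 F71579 (iv0 D39082) D39084 (iv0 F72117) (iv4 D45721))).symm
theorem F72118 : act 5 n38606 = n19521 := (sb E8033 (iv5 D41457))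
theorem F72119 : act 5 n45432 = n38889 := d17_3 (iv1 F70918) F70916 (iv1 F71692) (iv4 F59922) F72118 (iv0 D19521) D19524 D41466 (iv4 F70920)
def n45722 : Q := act 5 n21856
theorem D45722 : act 5 n21856 = n45722 := rfl
theorem F72120 : act 2 n45722 = n22302 := d2_1 D45722 (iv5 D22302) (iv2 F68215)
theorem F72121 : act 7 n45722 = n22307 := d13_2 (iv7 F68216) D45722 (iv5 D22307)
def n45723 : Q := act 6 n21856
theorem D45723 : act 6 n21856 = n45723 := rfl
theorem F72122 : act 2 n45723 = n22303 := d3_1 D45723 (iv6 D22303) (iv2 F68215)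
def n45724 : Q := act 0 n21857
theorem D45724 : act 0 n21857 = n45724 := rfl
def n45725 : Q := act 1 n21857
theorem D45725 : act 1 n21857 = n45725 := rfl
theorem F72123 : act 1 n45725 = n40848 := d15_1 D45725 (iv7 D40848) (iv2 F34312)
def n45726 : Q := act 5 n21857
theorem D45726 : act 5 n21857 = n45726 := rfl
theorem F72124 : act 2 n45726 = n40847 := d2_1 D45726 (iv5 D40847) (iv2 F34312)
theorem F72125 : act 3 n45726 = n21860 := d6_1 D45726 (iv5 D21860) (iv3 F34313)
def n45727 : Q := act 7 n21857
theorem D45727 : act 7 n21857 = n45727 := rfl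
theorem F72126 : act 2 n45727 = n40848 := d4_1 D45727 (iv7 D40848) (iv2 F34312)
theorem F72127 : act 3 n45727 = n21861 := d8_1 D45727 (iv7 D21861) (iv3 F34313)
theorem F72128 : act 4 n45727 = n45727 := d11_1 D45727 (iv7 D45727) F34314
theorem F72129 : act 6 n45727 = n22318 := d14_1 D45727 (iv7 D22318) (iv6 D10627) (iv7 F16598) D21857
theorem F72130 : act 1 n40848 = n45724 := d15_0 (iv0 D45724) D45727 F72126
theorem F72131 : act 1 n40846 = n45727 := d15_1 D40846 (iv7 D45727) F34312
theorem F72132 : act 1 n45727 = n40845 := d15_0 (iv0 D40845) D40848 (iv2 F72126)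
def n45728 : Q := act 3 n21858
theorem D45728 : act 3 n21858 = n45728 := rfl
theorem F72133 : act 4 n45728 = n23390 := d5_2 F34322 D45728 (iv3 D23390) (iv4 D10979) D10978
theorem F72134 : act 7 n45728 = n22807 := d8_2 (iv7 F66609) D45728 (iv3 D22807)
def n45729 : Q := act 5 n21858
theorem D45729 : act 5 n21858 = n45729 := rfl
theorem F72135 : act 2 n45729 = n22804 := d2_1 D45729 (iv5 D22804) (iv2 F66608)
theorem F72136 : act 7 n45729 = n22809 := d13_2 (iv7 F66609) D45729 (iv5 D22809)
theorem F72137 : act 0 n45729 = n44883 := d17_2 D21858 D45729 (iv5 D44883) F33632 D21424 F65687 (iv5 D21865) (iv0 D10429) (iv4 F16600)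
def n45730 : Q := act 6 n21858
theorem D45730 : act 6 n21858 = n45730 := rfl
theorem F72138 : act 2 n45730 = n22805 := d3_1 D45730 (iv6 D22805) (iv2 F66608)
theorem F72139 : act 4 n45730 = n23386 := d10_1 D45730 (iv6 D23386) F34322
theorem F72140 : act 5 n45730 = n41779 := d21_6 F13392 F13568 F13565 D10428 D21858 D45730 (iv1 D41779) (iv5 D19653) (iv6 D9235) (iv1 F13394)
theorem F72141 : act 0 n45730 = n22455 := d20_7 (iv4 D5040) D5038 F14828 (iv3 F32045) F66111 (iv3 F36514) (iv4 F72139) F34998 (iv3 F65697) F16100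
def n45731 : Q := act 3 n21859
theorem D45731 : act 3 n21859 = n45731 := rfl
theorem F72142 : act 4 n45731 = n44537 := d5_2 (iv4 F66611) D45731 (iv3 D44537) F66743 (iv3 F66614)
theorem F72143 : act 7 n45731 = n22802 := d8_2 (iv7 F66612) D45731 (iv3 D22802)
def n45732 : Q := act 5 n21859
theorem D45732 : act 5 n21859 = n45732 := rfl
theorem F72144 : act 2 n45732 = n22809 := d2_1 D45732 (iv5 D22809) (iv2 F66610)
theorem F72145 : act 7 n45732 = n22804 := d13_2 (iv7 F66612) D45732 (iv5 D22804)
theorem F72146 : act 1 n45732 = n44883 := d15_0 (iv0 F72137) F72136 (iv2 F72144)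
def n45733 : Q := act 6 n21859
theorem D45733 : act 6 n21859 = n45733 := rfl
theorem F72147 : act 2 n45733 = n22810 := d3_1 D45733 (iv6 D22810) (iv2 F66610)
theorem F72148 : act 5 n45629 = n45733 := d21_2 D21797 D45629 (iv6 D45733) (iv1 D21859) (iv6 D10428) (iv5 F13565) F13566 F13493 D18193 (iv1 F62616)
theorem F72149 : act 2 n45653 = n45629 := d2_3 F72148 F72147 F71988
theorem F72150 : act 1 n45733 = n22553 := d17_8 (iv1 F35430) (iv5 F62641) F62640 (iv5 D10567) D10566 D22192 F71948 F72148 F35097
theorem F72151 : act 7 n45630 = n45653 := d15_2 (iv0 D45629) D45630 F72149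
def n45734 : Q := act 0 n21860
theorem D45734 : act 0 n21860 = n45734 := rfl
def n45735 : Q := act 4 n21860
theorem D45735 : act 4 n21860 = n45735 := rfl
theorem F72154 : act 2 n45735 = n22813 := d1_1 D45735 (iv4 D22813) (iv2 F34316)
def n45736 : Q := act 7 n21860
theorem D45736 : act 7 n21860 = n45736 := rfl
theorem F72155 : act 2 n45736 = n22800 := d4_1 D45736 F35348 (iv2 F34316)
theorem F72156 : act 5 n45736 = n21861 := d13_1 D45736 (iv7 D21861) D21860
theorem F72157 : act 1 n22800 = n45734 := d15_0 (iv0 D45734) D45736 F72155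
theorem F72158 : act 1 n22812 = n45736 := d15_1 D22812 (iv7 D45736) F34316
theorem F72159 : act 7 n45734 = n22812 := d15_2 (iv0 F64383) F72157 (iv2 F64380)
theorem F72160 : act 2 n45734 = n22811 := d15_3 (iv0 D22811) D22812 (iv7 F72159)
theorem F72161 : act 7 n22811 = n41743 := d4_2 (iv7 F72159) F72160 F64380
theorem F72162 : act 5 n41744 = n22811 := d13_3 F72161 (iv5 D41743) D41744
theorem F72163 : act 1 n45736 = n22811 := d15_1 F72158 F72161 F64380
theorem E8034 : n44882 = n41744 := ((c17_8 (iv1 F65754) F63524 (iv1 F34336) F34333 (iv4 F34318) (iv5 F72156) F72163 (iv5 F72162) (iv0 D44882) F33632)).symm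
theorem F72164 : act 1 n41744 = n21418 := (sb E8034 (iv0 D44882))
def n45737 : Q := act 0 n21864
theorem D45737 : act 0 n21864 = n45737 := rfl
theorem F72165 : act 4 n45737 = n37844 := d20_2 D21864 D45737 F58685 (iv1 F58145) (iv3 F66614) (iv4 F66611) (iv1 D21859) F16600 F6818 D10429
theorem F72166 : act 2 n22384 = n45737 := d15_3 (iv0 D45737) F66836 D22384
theorem F72167 : act 1 n21869 = n45737 := d15_0 (iv0 D45737) F66827 (iv2 F66816)
theorem F72168 : act 7 n45737 = n22234 := d15_2 (iv0 F66482) F72167 F34686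
theorem F72169 : act 6 n22339 = n45737 := d14_5 F72168 (iv6 D22234) F17111 D10652 (iv7 F35953)
theorem F72170 : act 3 n45737 = n41247 := d20_3 (iv4 F66647) (iv1 F58689) (iv4 F72165) (iv1 D41247) (iv3 D19402) (iv4 D9101) (iv1 D4088) (iv4 F6006) (iv3 F7345) D10773
def n45738 : Q := act 3 n21864
theorem D45738 : act 3 n21864 = n45738 := rfl
theorem F72171 : act 4 n45738 = n42289 := d5_2 D21864 D45738 (iv3 D42289) (iv4 F66839) F66838
theorem F72172 : act 7 n45738 = n22927 := d8_2 (iv7 F66827) D45738 (iv3 D22927)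
theorem F72173 : act 0 n22507 = n45738 := d20_4 (iv4 F63102) (iv1 D21881) (iv4 F30928) (iv3 F35059) (iv3 D45738) (iv4 D21864) (iv1 F16608) (iv4 F17293) F17292 (iv1 F30913)
def n45739 : Q := act 5 n21864
theorem D45739 : act 5 n21864 = n45739 := rfl
theorem F72174 : act 2 n45739 = n22911 := d2_1 D45739 (iv5 D22911) (iv2 F66826)
theorem F72175 : act 7 n45739 = n22928 := d13_2 (iv7 F66827) D45739 (iv5 D22928)
def n45740 : Q := act 6 n21864
theorem D45740 : act 6 n21864 = n45740 := rfl
theorem F72176 : act 2 n45740 = n22912 := d3_1 D45740 (iv6 D22912) (iv2 F66826)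
theorem F72177 : act 4 n45740 = n21866 := d10_1 D45740 (iv6 D21866) D21864
def n45741 : Q := act 1 n21865
theorem D45741 : act 1 n21865 = n45741 := rfl
theorem F72180 : act 5 n41494 = n45741 := d21_0 (iv1 D45741) (iv5 D21865) D21866 F35546 (iv6 D10673) D10672 (iv1 F34985) (iv5 F64004) F64005 (iv1 F63971)
theorem F72183 : act 6 n45741 = n22958 := d21_3 (iv5 F63524) (iv1 F63971) F72180 (iv1 D22958) (iv6 D10839) (iv5 D4942) (iv1 D2033) D2034 (iv6 F7354) D10828
def n45742 : Q := act 4 n21865
theorem D45742 : act 4 n21865 = n45742 := rfl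
theorem F72184 : act 2 n45742 = n22915 := d1_1 D45742 (iv4 D22915) (iv2 F66828)
theorem F72185 : act 7 n45742 = n22930 := d11_2 (iv7 F66829) D45742 (iv4 D22930)
def n45743 : Q := act 6 n21865
theorem D45743 : act 6 n21865 = n45743 := rfl
theorem F72186 : act 2 n45743 = n22916 := d3_1 D45743 (iv6 D22916) (iv2 F66828)
theorem F72187 : act 5 n45743 = n41864 := d12_1 D45743 (iv6 D41864) (iv5 F34325) (iv6 D21866) D21865
theorem F72188 : act 7 n45743 = n43140 := d14_2 (iv7 F66829) D45743 (iv6 D43140) F66859 (iv6 D22931)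
theorem F72189 : act 0 n45743 = n22579 := d21_4 (iv5 D10431) D10429 D21865 D45743 (iv6 D22579) (iv5 F65734) F65731 (iv5 F63002) (iv6 F63003) F31439
def n45744 : Q := act 3 n21869
theorem D45744 : act 3 n21869 = n45744 := rfl
theorem F72190 : act 4 n45744 = n22704 := d5_2 D21869 D45744 (iv3 D22704) (iv4 F66813) (iv3 F66814)
theorem F72191 : act 7 n45744 = n22910 := d8_2 (iv7 F66817) D45744 (iv3 D22910)
def n45745 : Q := act 5 n21869
theorem D45745 : act 5 n21869 = n45745 := rfl
theorem F72192 : act 2 n45745 = n22928 := d2_1 D45745 (iv5 D22928) (iv2 F66816)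
theorem F72193 : act 7 n45745 = n22911 := d13_2 (iv7 F66817) D45745 (iv5 D22911)
def n45746 : Q := act 6 n21869
theorem D45746 : act 6 n21869 = n45746 := rfl
theorem F72194 : act 2 n45746 = n22929 := d3_1 D45746 (iv6 D22929) (iv2 F66816)
theorem F72195 : act 4 n45746 = n21871 := d10_1 D45746 (iv6 D21871) D21869
def n45747 : Q := act 4 n21870
theorem D45747 : act 4 n21870 = n45747 := rfl
theorem F72196 : act 2 n45747 = n22930 := d1_1 D45747 (iv4 D22930) (iv2 F66818)
theorem F72197 : act 6 n45747 = n43135 := d10_2 F34328 D45747 (iv4 D43135)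
theorem F72198 : act 7 n45747 = n22915 := d11_2 (iv7 F66819) D45747 (iv4 D22915)
def n45748 : Q := act 4 n21872
theorem D45748 : act 4 n21872 = n45748 := rfl
theorem F72199 : act 2 n45748 = n22936 := d1_1 D45748 (iv4 D22936) (iv2 F63525)
theorem F72200 : act 7 n45748 = n22940 := d11_2 (iv7 F63526) D45748 (iv4 D22940)
theorem F72201 : act 1 n22936 = n41410 := d15_0 (iv0 F66635) (iv7 F72200) F72199
theorem F72202 : act 1 n45748 = n42646 := d15_0 (iv0 F66481) F64479 (iv2 F72199)
def n45749 : Q := act 0 n21873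
theorem D45749 : act 0 n21873 = n45749 := rfl
def n45750 : Q := act 1 n21873
theorem D45750 : act 1 n21873 = n45750 := rfl
theorem F72203 : act 1 n45750 = n22895 := d15_1 D45750 F35966 (iv2 F34329)
def n45751 : Q := act 3 n21873
theorem D45751 : act 3 n21873 = n45751 := rfl
theorem F72204 : act 4 n45751 = n45751 := d5_2 D21873 D45751 (iv3 D45751) (iv4 D21873) F16603
theorem F72205 : act 6 n45751 = n21875 := d7_2 (iv6 F34330) D45751 (iv3 D21875)
def n45752 : Q := act 5 n21873
theorem D45752 : act 5 n21873 = n45752 := rfl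
theorem F72206 : act 2 n45752 = n22945 := d2_1 D45752 (iv5 D22945) (iv2 F34329)
def n45753 : Q := act 7 n21873
theorem D45753 : act 7 n21873 = n45753 := rfl
theorem F72207 : act 2 n45753 = n22895 := d4_1 D45753 F35966 (iv2 F34329)
theorem F72208 : act 4 n45753 = n21874 := d11_1 D45753 (iv7 D21874) D21873
theorem F72209 : act 1 n22895 = n45749 := d15_0 (iv0 D45749) D45753 F72207
theorem F72210 : act 1 n22943 = n45753 := d15_1 D22943 (iv7 D45753) F34329
theorem F72211 : act 4 n23420 = n45749 := d20_6 (iv4 F17879) (iv1 D11015) (iv4 D5017) (iv3 F7424) D10987 D23420 (iv1 F72209) (iv4 D22895) F17368 (iv1 F7500)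
theorem F72212 : act 7 n45749 = n22943 := d11_2 (iv7 F66690) F72211 (iv4 F66691)
theorem F72213 : act 0 n37843 = n23420 := d18_0 F72211 (iv1 F72209) (iv4 D22895) (iv5 D10817) (iv4 F17293) F34320 (iv4 F34322) F66561 D37843
theorem F72214 : act 2 n22943 = n45750 := d15_3 F72203 F72209 F72212
theorem F72215 : act 2 n45749 = n22942 := d15_3 (iv0 D22942) D22943 (iv7 F72212)
theorem F72216 : act 4 n22942 = n42647 := d1_2 F72211 F72215 (iv2 F66692)
theorem F72217 : act 7 n22942 = n45750 := d4_2 (iv7 F72212) F72215 (iv2 F72214)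
theorem F72218 : act 1 n45753 = n22942 := d15_1 F72210 F72217 (iv2 F72214)
def n45754 : Q := act 0 n21875
theorem D45754 : act 0 n21875 = n45754 := rfl
def n45755 : Q := act 1 n21875
theorem D45755 : act 1 n21875 = n45755 := rfl
def n45756 : Q := act 2 n21875
theorem D45756 : act 2 n21875 = n45756 := rfl
theorem F72219 : act 3 n45756 = n22974 := d0_2 D21875 D45756 (iv2 D22974) (iv3 D10845) (iv2 F16611)
theorem F72220 : act 4 n45756 = n45756 := d1_2 F34337 D45756 (iv2 D45756)
def n45757 : Q := act 5 n21875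
theorem D45757 : act 5 n21875 = n45757 := rfl
theorem F72221 : act 3 n45757 = n21876 := d6_1 D45757 (iv5 D21876) D21875
def n45758 : Q := act 6 n21876
theorem D45758 : act 6 n21876 = n45758 := rfl
theorem F72222 : act 2 n45758 = n22979 := d3_1 D45758 (iv6 D22979) (iv2 F34338)
def n45759 : Q := act 2 n21877
theorem D45759 : act 2 n21877 = n45759 := rfl
theorem F72223 : act 7 n21878 = n45759 := d15_2 (iv0 D21877) D21878 (iv2 D45759)
def n45760 : Q := act 3 n21877
theorem D45760 : act 3 n21877 = n45760 := rfl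
def n45761 : Q := act 4 n21877
theorem D45761 : act 4 n21877 = n45761 := rfl
def n45762 : Q := act 5 n21877
theorem D45762 : act 5 n21877 = n45762 := rfl
def n45763 : Q := act 6 n21877
theorem D45763 : act 6 n21877 = n45763 := rfl
def n45765 : Q := act 3 n21878
theorem D45765 : act 3 n21878 = n45765 := rfl
def n45766 : Q := act 4 n21878
theorem D45766 : act 4 n21878 = n45766 := rfl
def n45767 : Q := act 6 n21878
theorem D45767 : act 6 n21878 = n45767 := rfl
def n45768 : Q := act 5 n21883
theorem D45768 : act 5 n21883 = n45768 := rfl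
theorem F72225 : act 2 n45768 = n21910 := d2_1 D45768 (iv5 D21910) (iv2 F65886)
theorem F72226 : act 3 n45768 = n22877 := d6_1 D45768 F64145 (iv3 F65916)
theorem F72227 : act 7 n45768 = n21915 := d13_2 (iv7 F65888) D45768 (iv5 D21915)
theorem F72228 : act 0 n45768 = n22827 := d17_2 D21883 D45768 F35404 F34883 D41182 (iv0 F66322) (iv5 D40650) (iv0 F66208) F31392
theorem F72229 : act 4 n45768 = n41253 := d18_5 (iv1 F66149) (iv4 F30627) D40356 F66308 D45768 (iv0 D41253) F31033 (iv0 F31067) (iv5 F66118)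
theorem F72230 : act 0 n44846 = n45768 := d21_10 (iv5 D45768) (iv1 F34356) F16645 (iv6 F31287) F62629 D21731 (iv5 F63430) (iv1 F35400) (iv5 F63103) (iv6 F70447)
def n45769 : Q := act 6 n21883
theorem D45769 : act 6 n21883 = n45769 := rfl
theorem F72231 : act 2 n45769 = n21911 := d3_1 D45769 (iv6 D21911) (iv2 F65886)
theorem F72232 : act 3 n45769 = n41573 := d7_1 D45769 (iv6 D41573) (iv3 F65916)
theorem F72233 : act 0 n45769 = n44668 := d20_10 F70230 F70232 (iv4 D43723) F32835 (iv1 F15549) (iv3 F35679) (iv4 F69026) (iv1 D43902) (iv4 F65918) (iv3 F72232)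
def n45770 : Q := act 0 n21886
theorem D45770 : act 0 n21886 = n45770 := rfl
def n45771 : Q := act 1 n21886
theorem D45771 : act 1 n21886 = n45771 := rfl
theorem F72234 : act 1 n45771 = n21937 := d15_1 D45771 (iv7 D21937) (iv2 F34359)
def n45772 : Q := act 7 n21886
theorem D45772 : act 7 n21886 = n45772 := rfl
theorem F72235 : act 2 n45772 = n21937 := d4_1 D45772 (iv7 D21937) (iv2 F34359)
theorem F72236 : act 3 n45772 = n21892 := d8_1 D45772 (iv7 D21892) (iv3 F34360)
theorem F72238 : act 6 n45772 = n40005 := d14_1 D45772 (iv7 D40005) (iv6 D18915) (iv7 F16629) D21886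
theorem F72239 : act 1 n21937 = n45770 := d15_0 (iv0 D45770) D45772 F72235
theorem F72240 : act 1 n21936 = n45772 := d15_1 D21936 (iv7 D45772) F34359
theorem F72241 : act 1 n45772 = n21935 := d15_0 (iv0 D21935) D21937 (iv2 F72235)
def n45773 : Q := act 0 n21887
theorem D45773 : act 0 n21887 = n45773 := rfl
theorem F72242 : act 4 n45773 = n23342 := d20_8 (iv4 F60969) (iv1 D40067) F30246 (iv3 F14158) D18014 D37539 F58434 D45773 F36462 (iv1 F30805)
theorem F72243 : act 1 n36143 = n45773 := d15_0 (iv0 D45773) F34362 (iv2 F56879)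
theorem F72244 : act 7 n40006 = n45773 := d11_0 F72242 F36463 (iv4 F60876)
theorem F72245 : act 5 n36865 = n45773 := d17_3 (iv1 D40095) D40096 (iv1 F60995) F72242 (iv5 D23342) (iv0 F34684) (iv5 F64070) (iv0 F64073) F61858
def n45774 : Q := act 1 n21887
theorem D45774 : act 1 n21887 = n45774 := rfl
theorem F72246 : act 4 n32768 = n45774 := d20_6 (iv4 D8504) (iv1 D3803) D3804 (iv3 F11672) D15686 D32768 (iv1 D45774) (iv4 F58434) (iv3 D37539) (iv1 F29185)
theorem F72247 : act 2 n45774 = n40006 := d1_1 F72246 F60876 (iv2 F51884)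
theorem F72248 : act 5 n36864 = n45774 := d19_1 D36864 (iv4 F72246) (iv3 D32768) (iv1 F41987) (iv5 F51890) (iv4 D32771) F25169 D18032 F29199 (iv4 F14296) (iv3 F28138) (iv1 F28142) (iv5 D17045) (iv4 D7971) D7970 (iv1 F12724) D8029 (iv4 F13318) D17761
theorem F72249 : act 7 n40007 = n45774 := d15_2 (iv0 D40006) D40007 F72247
theorem F72250 : act 2 n40007 = n45773 := d4_3 (iv7 F72244) (iv2 F72247) (iv7 F72249)
theorem F72251 : act 1 n45774 = n36143 := d15_0 F72243 (iv7 F72244) (iv2 F72247)
def n45775 : Q := act 2 n21887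
theorem D45775 : act 2 n21887 = n45775 := rfl
theorem F72252 : act 3 n45775 = n26894 := d0_2 D21887 D45775 F43384 F28472 (iv2 F16630)
theorem F72253 : act 7 n45775 = n36143 := d4_2 (iv7 F34362) D45775 F56879
theorem F72254 : act 1 n45775 = n40006 := d15_0 (iv0 D40006) (iv7 F34362) D45775
theorem F72255 : act 1 n40007 = n45775 := d15_0 F72254 F72244 (iv2 F72250)
theorem F72256 : act 5 n26893 = n45775 := d13_3 F72253 (iv5 D36143) (iv7 F43383)
def n45776 : Q := act 5 n21887
theorem D45776 : act 5 n21887 = n45776 := rfl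
theorem F72257 : act 2 n45776 = n26893 := d2_1 D45776 F72256 (iv2 D45775)
theorem F72258 : act 3 n45776 = n21888 := d6_1 D45776 (iv5 D21888) D21887
theorem F72259 : act 7 n45776 = n36141 := d13_2 (iv7 F34362) D45776 (iv5 F56876)
theorem F72260 : act 1 n36140 = n45776 := d15_1 D36140 F72259 (iv2 D36141)
theorem F72261 : act 5 n40749 = n36140 := d17_5 F51886 (iv5 D21986) F16695 D19226 D40749 F72260 (iv5 D45776) D45774 (iv4 F72246)
theorem F72262 : act 1 n45776 = n36139 := d15_0 (iv0 D36139) (iv7 F43383) (iv2 F72257)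
def n45777 : Q := act 6 n21887
theorem D45777 : act 6 n21887 = n45777 := rfl
theorem F72263 : act 3 n45777 = n21889 := d7_1 D45777 (iv6 D21889) D21887
def n45778 : Q := act 6 n21888
theorem D45778 : act 6 n21888 = n45778 := rfl
theorem F72264 : act 2 n45778 = n36152 := d3_1 D45778 (iv6 D36152) (iv2 F34363)
theorem F72265 : act 4 n45778 = n22689 := d10_1 D45778 (iv6 D22689) (iv4 F34365)
def n45779 : Q := act 0 n21889
theorem D45779 : act 0 n21889 = n45779 := rfl
def n45780 : Q := act 1 n21889
theorem D45780 : act 1 n21889 = n45780 := rfl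
theorem F72266 : act 1 n45780 = n39988 := d15_1 D45780 (iv7 D39988) (iv2 F34366)
def n45781 : Q := act 5 n21889
theorem D45781 : act 5 n21889 = n45781 := rfl
theorem F72267 : act 2 n45781 = n39987 := d2_1 D45781 (iv5 D39987) (iv2 F34366)
def n45782 : Q := act 7 n21889
theorem D45782 : act 7 n21889 = n45782 := rfl
theorem F72268 : act 2 n45782 = n39988 := d4_1 D45782 (iv7 D39988) (iv2 F34366)
theorem F72269 : act 4 n45782 = n21892 := d11_1 D45782 (iv7 D21892) (iv4 F34367)
theorem F72270 : act 6 n45782 = n40013 := d14_1 D45782 (iv7 D40013) (iv6 D18919) (iv7 F16631) D21889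
theorem F72271 : act 1 n39988 = n45779 := d15_0 (iv0 D45779) D45782 F72268
theorem F72272 : act 1 n39986 = n45782 := d15_1 D39986 (iv7 D45782) F34366
theorem F72273 : act 1 n45782 = n39985 := d15_0 (iv0 D39985) D39988 (iv2 F72268)
def n45790 : Q := act 6 n21891
theorem D45790 : act 6 n21891 = n45790 := rfl
def n45791 : Q := act 5 n21894
theorem D45791 : act 5 n21894 = n45791 := rfl
theorem F72276 : act 2 n45791 = n44667 := d2_1 D45791 (iv5 D44667) (iv2 F63553)
theorem F72278 : act 7 n45791 = n44665 := d13_2 F63554 D45791 (iv5 D44665)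
def n45792 : Q := act 6 n21894
theorem D45792 : act 6 n21894 = n45792 := rfl
theorem F72279 : act 2 n45792 = n44668 := d3_1 D45792 (iv6 D44668) (iv2 F63553)
theorem F72280 : act 3 n45792 = n43267 := d7_1 D45792 (iv6 D43267) F63551
theorem F72281 : act 4 n45792 = n43978 := d10_1 D45792 F69138 (iv4 F64324)
theorem F72282 : act 1 n45792 = n21911 := d15_0 (iv0 F70664) (iv7 F70231) (iv2 F72279)
def n45794 : Q := act 1 n21895
theorem D45794 : act 1 n21895 = n45794 := rfl
theorem F72283 : act 1 n45794 = n44672 := d15_1 D45794 (iv7 D44672) (iv2 F34376)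
theorem F72285 : act 5 n44952 = n45794 := d21_6 (iv5 D1965) (iv1 F6438) D4650 D10243 D21464 D44952 (iv1 D45794) (iv5 D21895) (iv6 D10444) (iv1 D4746)
theorem F72286 : act 2 n45794 = n44670 := d2_1 F72285 (iv5 F70233) (iv2 F70672)
theorem F72287 : act 7 n44669 = n45794 := d4_0 F72286 (iv7 F70235) F70237
theorem F72288 : act 1 n44672 = n41858 := d15_1 F72283 F70235 (iv2 F72286)
def n45795 : Q := act 4 n21895
theorem D45795 : act 4 n21895 = n45795 := rfl
theorem F72291 : act 6 n45795 = n42059 := d10_2 (iv6 F34378) D45795 F64935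
theorem F72292 : act 1 n45795 = n41920 := d18_6 (iv1 F31485) D19729 F63711 F30806 D21895 D45795 (iv4 D41920) F64625 F64622
def n45796 : Q := act 7 n21895
theorem D45796 : act 7 n21895 = n45796 := rfl
theorem F72295 : act 5 n45796 = n21896 := d13_1 D45796 (iv7 D21896) D21895
theorem F72296 : act 1 n44670 = n45796 := d15_1 D44670 (iv7 D45796) F34376
theorem F72297 : act 1 n45796 = n44669 := d15_1 F72296 F72287 F72286
def n45797 : Q := act 3 n21897
theorem D45797 : act 3 n21897 = n45797 := rfl
theorem F72298 : act 5 n45797 = n37539 := d6_2 (iv5 F34384) D45797 (iv3 D37539)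
theorem F72299 : act 4 n45797 = n40691 := d20_6 (iv4 F14073) (iv1 D4746) D4747 D10445 D21897 D45797 (iv1 D40691) F30851 (iv3 D9037) (iv1 F14072)
theorem F72300 : act 0 n45797 = n44711 := d20_10 (iv4 D44711) (iv1 D21297) (iv4 F31292) (iv3 D19550) (iv1 D9201) D9202 (iv4 F31278) (iv1 F60870) F60867 D45797
theorem F72301 : act 0 n44707 = n45797 := d20_4 (iv4 F17031) D20918 D44045 (iv3 F70284) (iv3 D45797) (iv4 F60867) F60869 F34388 (iv3 F31355) (iv1 F31358)
def n45798 : Q := act 6 n21897
theorem D45798 : act 6 n21897 = n45798 := rfl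
def n45799 : Q := act 6 n21898
theorem D45799 : act 6 n21898 = n45799 := rfl
def n45800 : Q := act 6 n21899
theorem D45800 : act 6 n21899 = n45800 := rfl
theorem F72302 : act 2 n45800 = n21900 := d3_1 D45800 (iv6 D21900) D21899
theorem F72303 : act 4 n45800 = n21995 := d10_1 D45800 (iv6 D21995) (iv4 F34388)
def n45801 : Q := act 0 n21900
theorem D45801 : act 0 n21900 = n45801 := rfl
def n45802 : Q := act 1 n21900
theorem D45802 : act 1 n21900 = n45802 := rfl
def n45803 : Q := act 5 n21900
theorem D45803 : act 5 n21900 = n45803 := rfl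
theorem F72304 : act 3 n45803 = n21905 := d6_1 D45803 (iv5 D21905) (iv3 F34391)
theorem F72305 : act 6 n45803 = n37460 := d12_2 D21900 D45803 (iv5 D37460) (iv6 D17988) F16637
def n45804 : Q := act 6 n21901
theorem D45804 : act 6 n21901 = n45804 := rfl
theorem F72306 : act 2 n45804 = n40009 := d3_1 D45804 (iv6 D40009) (iv2 F34393)
theorem F72307 : act 3 n45804 = n26896 := d7_1 D45804 (iv6 D26896) (iv3 F34394)
theorem F72308 : act 4 n45804 = n21902 := d10_1 D45804 (iv6 D21902) D21901
def n45805 : Q := act 0 n21902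
theorem D45805 : act 0 n21902 = n45805 := rfl
def n45806 : Q := act 1 n21902
theorem D45806 : act 1 n21902 = n45806 := rfl
theorem F72309 : act 1 n45806 = n41132 := d15_1 D45806 (iv7 D41132) (iv2 F34397)
def n45807 : Q := act 5 n21902
theorem D45807 : act 5 n21902 = n45807 := rfl
theorem F72310 : act 2 n45807 = n41131 := d2_1 D45807 (iv5 D41131) (iv2 F34397)
theorem F72311 : act 3 n45807 = n37460 := d6_1 D45807 (iv5 D37460) (iv3 F34398)
theorem F72312 : act 6 n45807 = n21905 := d12_2 D21902 D45807 (iv5 D21905) (iv6 D10447) D10446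
def n45808 : Q := act 7 n21902
theorem D45808 : act 7 n21902 = n45808 := rfl
theorem F72313 : act 2 n45808 = n41132 := d4_1 D45808 (iv7 D41132) (iv2 F34397)
theorem F72314 : act 3 n45808 = n37461 := d8_1 D45808 (iv7 D37461) (iv3 F34398)
theorem F72315 : act 6 n45808 = n41136 := d14_1 D45808 (iv7 D41136) (iv6 D19352) (iv7 F16640) D21902
theorem F72316 : act 1 n41132 = n45805 := d15_0 (iv0 D45805) D45808 F72313
theorem F72317 : act 1 n41130 = n45808 := d15_1 D41130 (iv7 D45808) F34397
theorem F72318 : act 1 n45808 = n41129 := d15_0 (iv0 D41129) D41132 (iv2 F72313)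
def n45809 : Q := act 1 n21905
theorem D45809 : act 1 n21905 = n45809 := rfl
theorem F72319 : act 1 n45809 = n43973 := d15_1 D45809 F69132 F64309
theorem F72320 : act 5 n40937 = n45809 := d21_0 (iv1 D45809) (iv5 D21905) (iv6 D10447) F6912 D8940 D19084 D40390 (iv5 F63559) F69156 (iv1 F69154)
theorem F72321 : act 2 n45809 = n42725 := d2_1 F72320 (iv5 D42725) F66133
def n45810 : Q := act 4 n21905
theorem D45810 : act 4 n21905 = n45810 := rfl
def n45811 : Q := act 0 n21910
theorem D45811 : act 0 n21910 = n45811 := rfl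
theorem F72322 : act 5 n45811 = n44846 := d17_3 D10448 D21910 D45811 F70444 (iv5 F69133) (iv0 D43974) (iv5 D20863) F65811 F16643
theorem F72323 : act 4 n45811 = n43981 := d18_1 D45811 (iv1 F69154) F62028 (iv5 F66118) D20882 F33027 F65817 F34358 D21910
theorem F72324 : act 2 n22827 = n45811 := d15_3 (iv0 D45811) (iv0 F64031) (iv7 F35405)
theorem F72325 : act 1 n21915 = n45811 := d15_0 (iv0 D45811) (iv7 F65884) (iv2 F65875)
theorem F72327 : act 6 n22819 = n45811 := d21_9 (iv5 D21915) (iv1 D10449) F7153 (iv6 D4748) (iv1 F14065) D10332 F16969 (iv1 F63108) D22819 (iv1 F72325)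
theorem E8036 : n41790 = n21372 := (c21_5 F64030 F68710 (iv5 D19664) D19665 D41790 (iv6 D21372) D21371 D44846 (iv5 F72322) (iv6 F72327) (iv1 F35407))
theorem E8037 : n44848 = n19665 := ((D44848).symm.trans (sb E8036 (iv0 D41790)))
theorem F72328 : act 0 n19665 = n21372 := (sb E8037 (iv1 D44848))
theorem F72329 : act 7 n41791 = n21916 := d15_2 (iv0 F72328) D41791 F65897
theorem F72330 : act 2 n41793 = n44847 := d15_3 (iv0 D44847) (iv0 F72328) D41793
theorem F72331 : act 5 n44847 = n44955 := d2_2 (iv5 F64452) F72330 (iv2 F70684)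
theorem F72332 : act 7 n44847 = n41782 := d4_2 D41793 F72330 F64429
theorem F72333 : act 1 n41793 = n21916 := d15_0 (iv0 F69723) (iv7 F72332) (iv2 F72330)
theorem F72334 : act 2 n41791 = n41987 := d15_3 F69726 F72333 (iv7 F72329)
theorem F72335 : act 0 n22935 = n44957 := d21_1 F64452 F70689 F63128 F63111 (iv6 F70447) (iv5 F72322) (iv1 F72325) (iv5 D21915) D21916 (iv1 F72333)
theorem F72336 : act 1 n41791 = n44847 := d15_0 (iv0 D44847) (iv7 F64780) (iv2 F72334)
theorem F72337 : act 4 n44000 = n44847 := d18_3 (iv1 D20889) (iv4 F33033) D44000 F72331 (iv4 F70686) (iv0 D23429) (iv4 D10989) D10988 (iv5 F66195)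
theorem F72338 : act 5 n44000 = n22707 := d17_5 (iv1 D21465) D21466 D44955 (iv5 F72331) (iv4 F72337) (iv0 D22707) (iv5 D10745) D10744 (iv4 F66813)
theorem F72339 : act 7 n40385 = n44000 := d11_0 F72337 F72332 F64430
def n45812 : Q := act 4 n21910
theorem D45812 : act 4 n21910 = n45812 := rfl
theorem F72340 : act 2 n45812 = n41253 := d1_1 D45812 (iv4 F72229) F72225
theorem F72341 : act 7 n45812 = n40910 := d11_2 F65884 D45812 F66269
theorem F72342 : act 5 n45812 = n40630 := d17_5 (iv1 D10449) F7153 D10448 D21910 D45812 (iv0 D40630) (iv5 D19185) D19184 (iv4 F66230)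
theorem F72343 : act 0 n45812 = n41256 := d18_2 F64031 D45812 F63566 (iv5 D19408) (iv4 F31033) (iv0 F66267) F66269 F65766 F35404
theorem F72344 : act 1 n45812 = n40866 := d18_6 (iv1 F66169) (iv4 F14074) D19183 (iv4 F66226) D21910 D45812 F61978 F66146 (iv5 F14774)
def n45813 : Q := act 6 n21910
theorem D45813 : act 6 n21910 = n45813 := rfl
theorem F72345 : act 3 n45813 = n23066 := d7_1 D45813 F36122 (iv3 F65880)
theorem F72346 : act 7 n45813 = n23057 := d14_2 F65884 D45813 (iv6 D23057) F65769 (iv6 F65767)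
theorem F72347 : act 0 n45813 = n44952 := d21_10 F72285 (iv1 D45794) (iv5 D21895) (iv6 D10444) (iv1 D4746) D4748 F7153 D10448 D21910 D45813
theorem F72348 : act 1 n22372 = n44952 := d15_0 (iv0 F72347) F72346 (iv2 F65956)
def n45814 : Q := act 7 n21911
theorem D45814 : act 7 n21911 = n45814 := rfl
theorem F72350 : act 6 n45814 = n41987 := d14_1 D45814 F64780 (iv6 D21372) (iv7 F65877) D21911
def n45815 : Q := act 6 n21913
theorem D45815 : act 6 n21913 = n45815 := rfl
theorem F72351 : act 2 n45815 = n41578 := d3_1 D45815 (iv6 D41578) (iv2 F65908)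
theorem F72352 : act 3 n45815 = n21916 := d7_1 D45815 (iv6 D21916) D21913
theorem F72353 : act 4 n45815 = n43849 := d10_1 D45815 (iv6 D43849) (iv4 F65857)
def n45816 : Q := act 4 n21915
theorem D45816 : act 4 n21915 = n45816 := rfl
theorem F72354 : act 2 n45816 = n40910 := d1_1 D45816 F66269 (iv2 F65875)
theorem F72355 : act 6 n45816 = n23346 := d10_2 F34890 D45816 F66348
theorem F72356 : act 7 n45816 = n41253 := d11_2 F72227 D45816 (iv4 F72229)
theorem F72357 : act 5 n45816 = n40631 := d17_5 (iv1 F34358) F34355 (iv1 F34357) D21915 D45816 F69183 (iv5 D43989) (iv0 F66222) (iv4 F66226)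
theorem F72358 : act 0 n45816 = n40866 := d18_2 (iv1 F72325) D45816 F61978 (iv5 F31015) (iv4 F62456) F63568 (iv4 F72229) (iv0 F72230) (iv5 F72322)
theorem F72359 : act 1 n45816 = n41256 := d18_6 (iv1 F66170) D20879 (iv1 F66223) (iv4 F66230) D21915 D45816 F63566 (iv0 F31038) (iv5 D19190)
def n45817 : Q := act 5 n21916
theorem D45817 : act 5 n21916 = n45817 := rfl
theorem F72360 : act 2 n45817 = n44849 := d2_1 D45817 (iv5 D44849) (iv2 F65897)
theorem F72361 : act 0 n44951 = n45817 := d21_1 D44951 (iv5 D45817) (iv6 D21916) (iv1 D10449) (iv6 D4748) (iv5 D1965) (iv1 F6438) D4650 D10243 D21464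
def n45818 : Q := act 2 n21917
theorem D45818 : act 2 n21917 = n45818 := rfl
theorem F72362 : act 3 n45818 = n38275 := d0_2 D21917 D45818 (iv2 D38275) (iv3 D18280) (iv2 F16650)
theorem F72363 : act 4 n45818 = n38909 := d1_2 (iv4 F34402) D45818 (iv2 D38909)
theorem F72364 : act 7 n45818 = n38281 := d4_2 (iv7 F34403) D45818 (iv2 D38281)
theorem F72365 : act 1 n45818 = n26569 := d15_0 (iv0 F42555) (iv7 F34403) D45818
theorem F72366 : act 1 n35465 = n45818 := d15_0 F72365 F42554 (iv2 F56163)
def n45819 : Q := act 5 n21917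
theorem D45819 : act 5 n21917 = n45819 := rfl
theorem F72367 : act 3 n45819 = n21918 := d6_1 D45819 (iv5 D21918) D21917
theorem F72368 : act 7 n45819 = n35446 := d13_2 (iv7 F34403) D45819 F56154
theorem F72369 : act 0 n27041 = n45819 := d19_0 (iv5 D45819) F34402 (iv3 D18482) (iv1 F22028) F22025 (iv4 D10858) (iv3 F7398) (iv1 F16007) (iv5 D10168) (iv4 F15042) F15039 (iv1 F13390) (iv5 D3849) (iv4 D1675) D1674 F5823 D8343 (iv4 F21547) D27041
theorem F72370 : act 1 n35448 = n45819 := d15_0 (iv0 F72369) F43700 D35448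
def n45820 : Q := act 6 n21917
theorem D45820 : act 6 n21917 = n45820 := rfl
theorem F72371 : act 3 n45820 = n21919 := d7_1 D45820 (iv6 D21919) D21917
theorem F72372 : act 4 n45820 = n38910 := d10_1 D45820 (iv6 D38910) (iv4 F34402)
def n45821 : Q := act 6 n21918
theorem D45821 : act 6 n21918 = n45821 := rfl
theorem F72373 : act 2 n45821 = n37897 := d3_1 D45821 (iv6 D37897) (iv2 F34405)
theorem F72374 : act 4 n45821 = n22003 := d10_1 D45821 (iv6 D22003) (iv4 F34407)
def n45822 : Q := act 0 n21919
theorem D45822 : act 0 n21919 = n45822 := rfl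
def n45823 : Q := act 1 n21919
theorem D45823 : act 1 n21919 = n45823 := rfl
def n45824 : Q := act 5 n21919
theorem D45824 : act 5 n21919 = n45824 := rfl
theorem F72376 : act 2 n45824 = n38279 := d2_1 D45824 (iv5 D38279) (iv2 F34410)
def n45825 : Q := act 7 n21919
theorem D45825 : act 7 n21919 = n45825 := rfl
theorem F72377 : act 2 n45825 = n38280 := d4_1 D45825 (iv7 D38280) (iv2 F34410)
theorem F72378 : act 4 n45825 = n21923 := d11_1 D45825 (iv7 D21923) (iv4 F34411)
theorem F72380 : act 1 n38280 = n45822 := d15_0 (iv0 D45822) D45825 F72377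
theorem F72381 : act 1 n38278 = n45825 := d15_1 D38278 (iv7 D45825) F34410
theorem F72382 : act 1 n45825 = n38277 := d15_0 (iv0 D38277) D38280 (iv2 F72377)
def n45826 : Q := act 2 n21920
theorem D45826 : act 2 n21920 = n45826 := rfl
theorem F72383 : act 7 n21921 = n45826 := d15_2 (iv0 D21920) D21921 (iv2 D45826)
def n45827 : Q := act 3 n21920
theorem D45827 : act 3 n21920 = n45827 := rfl
def n45828 : Q := act 4 n21920
theorem D45828 : act 4 n21920 = n45828 := rfl
def n45829 : Q := act 5 n21920
theorem D45829 : act 5 n21920 = n45829 := rfl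
def n45830 : Q := act 6 n21920
theorem D45830 : act 6 n21920 = n45830 := rfl
def n45831 : Q := act 7 n21920
theorem D45831 : act 7 n21920 = n45831 := rfl
theorem F72384 : act 2 n45831 = n21921 := d4_1 D45831 F72383 (iv2 D45826)
def n45832 : Q := act 3 n21921
theorem D45832 : act 3 n21921 = n45832 := rfl
def n45833 : Q := act 4 n21921
theorem D45833 : act 4 n21921 = n45833 := rfl
def n45834 : Q := act 5 n21921
theorem D45834 : act 5 n21921 = n45834 := rfl
def n45835 : Q := act 6 n21921
theorem D45835 : act 6 n21921 = n45835 := rfl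
def n45836 : Q := act 0 n21922
theorem D45836 : act 0 n21922 = n45836 := rfl
def n45837 : Q := act 1 n21922
theorem D45837 : act 1 n21922 = n45837 := rfl
def n45838 : Q := act 4 n21922
theorem D45838 : act 4 n21922 = n45838 := rfl
theorem F72385 : act 6 n45838 = n21924 := d10_2 (iv6 F34413) D45838 (iv4 D21924)
def n45839 : Q := act 7 n21922
theorem D45839 : act 7 n21922 = n45839 := rfl
theorem F72386 : act 3 n45839 = n44504 := d8_1 D45839 (iv7 D44504) (iv3 F34412)
theorem F72387 : act 5 n45839 = n21923 := d13_1 D45839 (iv7 D21923) D21922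
def n45840 : Q := act 3 n21924
theorem D45840 : act 3 n21924 = n45840 := rfl
theorem F72388 : act 4 n45840 = n44512 := d5_2 D21924 D45840 (iv3 D44512) (iv4 D21169) (iv3 F16655)
def n45841 : Q := act 5 n21924
theorem D45841 : act 5 n21924 = n45841 := rfl
theorem F72389 : act 4 n45841 = n41450 := d16_2 D21924 D45841 F63892 F63763 (iv5 D20414) F15126 D17440 (iv7 F28508) F28506
theorem F72390 : act 0 n45841 = n38859 := d17_2 (iv1 F34416) D45841 (iv5 D38859) (iv4 D18464) (iv5 D8681) (iv0 D3890) D3892 D8686 D18470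
theorem F72391 : act 1 n45841 = n38864 := d17_6 (iv1 F31459) (iv5 D19711) F16822 D10458 D21924 D45841 (iv5 D38864) F59875 F59874
def n45842 : Q := act 0 n21925
theorem D45842 : act 0 n21925 = n45842 := rfl
theorem F72392 : act 1 n38275 = n45842 := d15_0 (iv0 D45842) F34417 D38275
def n45843 : Q := act 1 n21925
theorem D45843 : act 1 n21925 = n45843 := rfl
def n45844 : Q := act 2 n21925
theorem D45844 : act 2 n21925 = n45844 := rfl
theorem F72393 : act 3 n45844 = n38281 := d0_2 D21925 D45844 (iv2 D38281) (iv3 D18282) (iv2 F16658)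
theorem F72394 : act 7 n45844 = n38275 := d4_2 (iv7 F34417) D45844 (iv2 D38275)
theorem F72395 : act 1 n45844 = n38273 := d15_0 (iv0 D38273) (iv7 F34417) D45844
theorem F72396 : act 1 n45843 = n38275 := d15_1 D45843 (iv7 F72394) (iv2 D45844)
theorem F72397 : act 1 n38274 = n45844 := d15_1 D38274 F72394 (iv2 D38275)
def n45845 : Q := act 5 n21925
theorem D45845 : act 5 n21925 = n45845 := rfl
theorem F72398 : act 3 n45845 = n21926 := d6_1 D45845 (iv5 D21926) D21925
theorem F72399 : act 7 n45845 = n37896 := d13_2 (iv7 F34417) D45845 F58751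
def n45846 : Q := act 6 n21925
theorem D45846 : act 6 n21925 = n45846 := rfl
theorem F72400 : act 3 n45846 = n21927 := d7_1 D45846 (iv6 D21927) D21925
theorem F72401 : act 7 n38728 = n45846 := d8_0 F72400 F59688 D38728
def n45847 : Q := act 6 n21926
theorem D45847 : act 6 n21926 = n45847 := rfl
theorem F72402 : act 2 n45847 = n37898 := d3_1 D45847 (iv6 D37898) (iv2 F34418)
theorem F72403 : act 4 n45847 = n22001 := d10_1 D45847 (iv6 D22001) (iv4 F34419)
def n45848 : Q := act 5 n21927
theorem D45848 : act 5 n21927 = n45848 := rfl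
theorem F72404 : act 2 n45848 = n38285 := d2_1 D45848 (iv5 D38285) (iv2 F34424)
theorem F72405 : act 7 n45848 = n38730 := d13_2 (iv7 F59688) D45848 (iv5 D38730)
def n45849 : Q := act 0 n21931
theorem D45849 : act 0 n21931 = n45849 := rfl
def n45850 : Q := act 1 n21931
theorem D45850 : act 1 n21931 = n45850 := rfl
theorem F72406 : act 1 n45850 = n35308 := d15_1 D45850 (iv7 D35308) (iv2 F34426)
def n45851 : Q := act 5 n21931
theorem D45851 : act 5 n21931 = n45851 := rfl
theorem F72407 : act 2 n45851 = n35307 := d2_1 D45851 (iv5 D35307) (iv2 F34426)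
theorem F72408 : act 6 n45851 = n34437 := d12_2 D21931 D45851 (iv5 D34437) F27384 F16663
def n45852 : Q := act 7 n21931
theorem D45852 : act 7 n21931 = n45852 := rfl
theorem F72409 : act 2 n45852 = n35308 := d4_1 D45852 (iv7 D35308) (iv2 F34426)
theorem F72410 : act 4 n45852 = n37587 := d11_1 D45852 (iv7 D37587) (iv4 F34427)
theorem F72411 : act 1 n35308 = n45849 := d15_0 (iv0 D45849) D45852 F72409
theorem F72412 : act 1 n35306 = n45852 := d15_1 D35306 (iv7 D45852) F34426
theorem F72413 : act 1 n45852 = n35305 := d15_0 (iv0 D35305) D35308 (iv2 F72409)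
def n45853 : Q := act 2 n21932
theorem D45853 : act 2 n21932 = n45853 := rfl
theorem F72414 : act 4 n45853 = n21953 := d1_2 (iv4 F34428) D45853 (iv2 D21953)
theorem F72415 : act 5 n45853 = n37851 := d2_2 F34430 D45853 (iv2 F58713)
theorem F72416 : act 7 n45853 = n22601 := d4_2 F54812 D45853 (iv2 F54813)
theorem F72417 : act 1 n45853 = n22597 := d15_0 (iv0 F54816) F54812 D45853
theorem F72418 : act 1 n22292 = n45853 := d15_0 F72417 (iv7 F51873) F51871
def n45854 : Q := act 6 n21932
theorem D45854 : act 6 n21932 = n45854 := rfl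
theorem F72419 : act 3 n45854 = n21934 := d7_1 D45854 (iv6 D21934) D21932
theorem F72420 : act 4 n45854 = n21954 := d10_1 D45854 (iv6 D21954) (iv4 F34428)
def n45855 : Q := act 6 n21933
theorem D45855 : act 6 n21933 = n45855 := rfl
theorem F72421 : act 2 n45855 = n45798 := d3_1 D45855 (iv6 D45798) (iv2 F34431)
theorem F72422 : act 3 n45855 = n41625 := d7_1 D45855 (iv6 D41625) (iv3 F34432)
theorem F72423 : act 4 n45855 = n45799 := d10_1 D45855 (iv6 D45799) (iv4 F34434)
def n45856 : Q := act 0 n21934
theorem D45856 : act 0 n21934 = n45856 := rfl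
def n45857 : Q := act 1 n21934
theorem D45857 : act 1 n21934 = n45857 := rfl
def n45858 : Q := act 5 n21934
theorem D45858 : act 5 n21934 = n45858 := rfl
def n45859 : Q := act 7 n21934
theorem D45859 : act 7 n21934 = n45859 := rfl
theorem F72424 : act 4 n45859 = n21937 := d11_1 D45859 (iv7 D21937) (iv4 F34437)
def n45860 : Q := act 2 n21935
theorem D45860 : act 2 n21935 = n45860 := rfl
theorem F72425 : act 7 n21936 = n45860 := d15_2 (iv0 D21935) D21936 (iv2 D45860)
def n45865 : Q := act 7 n21935
theorem D45865 : act 7 n21935 = n45865 := rfl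
theorem F72426 : act 2 n45865 = n21936 := d4_1 D45865 F72425 (iv2 D45860)
def n45866 : Q := act 3 n21936
theorem D45866 : act 3 n21936 = n45866 := rfl
def n45867 : Q := act 4 n21936
theorem D45867 : act 4 n21936 = n45867 := rfl
def n45868 : Q := act 5 n21936
theorem D45868 : act 5 n21936 = n45868 := rfl
def n45869 : Q := act 6 n21936
theorem D45869 : act 6 n21936 = n45869 := rfl
def n45870 : Q := act 6 n21937
theorem D45870 : act 6 n21937 = n45870 := rfl
theorem F72427 : act 2 n45870 = n40005 := d3_1 D45870 (iv6 F72238) F72235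
theorem F72428 : act 3 n45870 = n21969 := d7_1 D45870 (iv6 D21969) (iv3 F34438)
theorem F72429 : act 7 n45870 = n21938 := d14_2 D21937 D45870 (iv6 D21938) (iv7 D10469) D10468
theorem F72430 : act 1 n40003 = n45870 := d15_1 D40003 F72429 F34440
theorem F72431 : act 1 n45870 = n40002 := d15_0 (iv0 D40002) D40005 (iv2 F72427)
def n45871 : Q := act 0 n21938
theorem D45871 : act 0 n21938 = n45871 := rfl
theorem F72432 : act 1 n40005 = n45871 := d15_0 (iv0 D45871) (iv7 F72429) F72427
def n45872 : Q := act 1 n21938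
theorem D45872 : act 1 n21938 = n45872 := rfl
theorem F72433 : act 1 n45872 = n40005 := d15_1 D45872 (iv7 D40005) (iv2 F34440)
def n45873 : Q := act 5 n21938
theorem D45873 : act 5 n21938 = n45873 := rfl
theorem F72434 : act 2 n45873 = n40004 := d2_1 D45873 (iv5 D40004) (iv2 F34440)
theorem F72435 : act 3 n45873 = n21972 := d6_1 D45873 (iv5 D21972) (iv3 F34441)
theorem F72436 : act 6 n45873 = n21939 := d12_2 D21938 D45873 (iv5 D21939) (iv6 D10470) (iv5 F16672)
def n45874 : Q := act 0 n21940
theorem D45874 : act 0 n21940 = n45874 := rfl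
theorem F72437 : act 3 n45874 = n26483 := d20_5 (iv4 D4764) D4762 D10471 D21940 D45874 (iv4 D26483) F27127 D12790 F21226 (iv1 F12384)
theorem F72438 : act 1 n37882 = n45874 := d15_0 (iv0 D45874) F34448 D37882
theorem F72439 : act 2 n35450 = n45874 := d0_5 F72437 F42372 D26519 F42453 (iv3 F56157)
theorem F72440 : act 7 n26541 = n45874 := d8_0 F72437 F42373 D26541
theorem F72441 : act 5 n45874 = n35448 := d2_2 D35450 F72439 (iv2 D35448)
def n45875 : Q := act 1 n21940
theorem D45875 : act 1 n21940 = n45875 := rfl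
theorem F72442 : act 7 n45875 = n35450 := d15_2 (iv0 D45874) D45875 F72439
theorem F72443 : act 3 n27042 = n45875 := d20_3 (iv4 F56841) (iv1 F56842) (iv4 F43702) (iv1 D45875) (iv3 D21940) (iv4 D10471) (iv1 F6877) D4823 D10534 (iv1 F29354)
theorem F72444 : act 2 n45875 = n26541 := d0_1 F72443 (iv3 D26541) (iv2 F42463) F42464 (iv2 F43701)
theorem F72445 : act 5 n45875 = n27041 := d6_2 D27042 F72443 (iv3 D27041)
theorem F72446 : act 1 n45875 = n37882 := d15_0 F72438 (iv7 F72440) (iv2 F72444)
def n45876 : Q := act 2 n21940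
theorem D45876 : act 2 n21940 = n45876 := rfl
theorem F72447 : act 3 n45876 = n37874 := d0_2 D21940 D45876 (iv2 D37874) (iv3 D18152) (iv2 F16678)
theorem F72448 : act 4 n45876 = n37321 := d1_2 (iv4 F34447) D45876 (iv2 D37321)
theorem F72449 : act 5 n45876 = n36563 := d2_2 F59162 D45876 (iv2 F60276)
theorem F72450 : act 7 n45876 = n37882 := d4_2 (iv7 F34448) D45876 (iv2 D37882)
theorem F72451 : act 1 n45876 = n26541 := d15_0 (iv0 F42496) (iv7 F34448) D45876
theorem F72452 : act 1 n35450 = n45876 := d15_0 F72451 F72440 (iv2 F72439)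
def n45877 : Q := act 6 n21940
theorem D45877 : act 6 n21940 = n45877 := rfl
theorem F72453 : act 3 n45877 = n21941 := d7_1 D45877 (iv6 D21941) D21940
theorem F72454 : act 4 n45877 = n37323 := d10_1 D45877 (iv6 D37323) (iv4 F34447)
def n45878 : Q := act 5 n21941
theorem D45878 : act 5 n21941 = n45878 := rfl
theorem F72455 : act 2 n45878 = n37880 := d2_1 D45878 (iv5 D37880) (iv2 F34449)
theorem F72456 : act 0 n45878 = n38759 := d17_2 (iv1 F59787) D45878 (iv5 D38759) (iv4 D18428) (iv5 D8668) (iv0 D3886) (iv5 F5575) D7833 D16781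
theorem F72457 : act 0 n38798 = n45878 := d21_7 D16741 (iv1 F34422) (iv5 D21926) D21927 F59721 (iv6 F29607) D38798 (iv5 D45878) (iv6 D21941) F16680
def n45879 : Q := act 7 n21941
theorem D45879 : act 7 n21941 = n45879 := rfl
theorem F72458 : act 2 n45879 = n34621 := d4_1 D45879 F59785 (iv2 F34449)
theorem F72459 : act 4 n45879 = n21944 := d11_1 D45879 (iv7 D21944) (iv4 F34450)
theorem F72460 : act 6 n45879 = n37888 := d14_1 D45879 (iv7 D37888) (iv6 D18157) (iv7 F16679) D21941
theorem F72461 : act 1 n34499 = n45879 := d15_1 (iv0 F59725) (iv7 D45879) F34449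
theorem F72462 : act 0 n34494 = n45879 := d18_2 D16734 D34494 F72459 F59755 (iv4 F59754) (iv0 D38229) (iv4 D18264) (iv0 D8614) (iv5 F12363)
theorem E8038 : n37878 = n34494 := ((c15_1 (iv0 F72462) (iv0 D37878) (iv7 F59785) (iv2 F72458))).symm
theorem F72463 : act 1 n34494 = n18154 := (sb E8038 (iv0 D37878))
def n45880 : Q := act 2 n21942
theorem D45880 : act 2 n21942 = n45880 := rfl
theorem F72464 : act 7 n21943 = n45880 := d15_2 (iv0 D21942) D21943 (iv2 D45880)
def n45881 : Q := act 5 n21942
theorem D45881 : act 5 n21942 = n45881 := rfl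
theorem F72465 : act 3 n45881 = n35287 := d6_1 D45881 (iv5 D35287) (iv3 F59764)
def n45882 : Q := act 6 n21942
theorem D45882 : act 6 n21942 = n45882 := rfl
theorem F72466 : act 3 n45882 = n35288 := d7_1 D45882 (iv6 D35288) (iv3 F59764)
def n45883 : Q := act 7 n21942
theorem D45883 : act 7 n21942 = n45883 := rfl
theorem F72467 : act 2 n45883 = n21943 := d4_1 D45883 F72464 (iv2 D45880)
theorem F72468 : act 3 n45883 = n35289 := d8_1 D45883 (iv7 D35289) (iv3 F59764)
def n45884 : Q := act 3 n21943
theorem D45884 : act 3 n21943 = n45884 := rfl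
theorem F72469 : act 2 n45884 = n35290 := d0_1 D45884 (iv3 D35290) (iv2 F56012) (iv3 F72468) F72467
def n45885 : Q := act 5 n21943
theorem D45885 : act 5 n21943 = n45885 := rfl
theorem F72470 : act 6 n45885 = n21947 := d21_3 (iv5 F57776) (iv1 F57779) D45885 (iv1 F63803) F63800 F59755 (iv1 F59463) D38666 (iv6 F59483) (iv1 F59757)
def n45886 : Q := act 6 n21943
theorem D45886 : act 6 n21943 = n45886 := rfl
def n45887 : Q := act 0 n21945
theorem D45887 : act 0 n21945 = n45887 := rfl
theorem F72471 : act 1 n37874 = n45887 := d15_0 (iv0 D45887) F34452 D37874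
def n45888 : Q := act 1 n21945
theorem D45888 : act 1 n21945 = n45888 := rfl
def n45889 : Q := act 2 n21945
theorem D45889 : act 2 n21945 = n45889 := rfl
theorem F72472 : act 3 n45889 = n37882 := d0_2 D21945 D45889 (iv2 D37882) (iv3 D18155) (iv2 F16682)
theorem F72473 : act 4 n45889 = n36037 := d1_2 (iv4 F34451) D45889 (iv2 D36037)
theorem F72474 : act 7 n45889 = n37874 := d4_2 (iv7 F34452) D45889 (iv2 D37874)
theorem F72475 : act 1 n45889 = n37872 := d15_0 (iv0 D37872) (iv7 F34452) D45889
theorem F72476 : act 1 n45888 = n37874 := d15_1 D45888 (iv7 F72474) (iv2 D45889)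
theorem F72477 : act 1 n37873 = n45889 := d15_1 D37873 F72474 (iv2 D37874)
def n45890 : Q := act 6 n21945
theorem D45890 : act 6 n21945 = n45890 := rfl
theorem F72478 : act 3 n45890 = n21946 := d7_1 D45890 (iv6 D21946) D21945
theorem F72479 : act 4 n45890 = n36039 := d10_1 D45890 (iv6 D36039) (iv4 F34451)
def n45891 : Q := act 0 n21946
theorem D45891 : act 0 n21946 = n45891 := rfl
def n45892 : Q := act 1 n21946
theorem D45892 : act 1 n21946 = n45892 := rfl
theorem F72480 : act 1 n45892 = n37888 := d15_1 D45892 (iv7 D37888) (iv2 F34453)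
theorem F72481 : act 4 n34454 = n45892 := d20_0 (iv1 D45892) F34454 F16686 F59794 (iv3 D17104) (iv4 F28972) (iv1 F21235) F21231 (iv3 F27545) (iv1 F54655)
def n45893 : Q := act 5 n21946
theorem D45893 : act 5 n21946 = n45893 := rfl
theorem F72482 : act 2 n45893 = n37887 := d2_1 D45893 (iv5 D37887) (iv2 F34453)
def n45894 : Q := act 7 n21946
theorem D45894 : act 7 n21946 = n45894 := rfl
theorem F72483 : act 2 n45894 = n37888 := d4_1 D45894 (iv7 D37888) (iv2 F34453)
theorem F72484 : act 4 n45894 = n21950 := d11_1 D45894 (iv7 D21950) (iv4 F34454)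
theorem F72485 : act 6 n45894 = n34621 := d14_1 D45894 F59785 (iv6 D18154) (iv7 F16683) D21946
theorem F72486 : act 1 n37888 = n45891 := d15_0 (iv0 D45891) D45894 F72483
theorem F72487 : act 1 n37886 = n45894 := d15_1 D37886 (iv7 D45894) F34453
theorem F72488 : act 0 n34654 = n45894 := d20_1 D34654 F72484 F34457 F59736 (iv3 D17692) (iv4 F42953) (iv1 D12793) F9412 (iv3 F12388) D16785
theorem E8039 : n37885 = n34654 := ((c15_1 (iv0 F72488) (iv0 D37885) D37888 (iv2 F72483))).symm
theorem F72489 : act 1 n34654 = n18157 := (sb E8039 (iv0 D37885))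
def n45895 : Q := act 2 n21947
theorem D45895 : act 2 n21947 = n45895 := rfl
theorem F72490 : act 7 n21948 = n45895 := d15_2 (iv0 D21947) D21948 (iv2 D45895)
def n45896 : Q := act 3 n21947
theorem D45896 : act 3 n21947 = n45896 := rfl
def n45897 : Q := act 4 n21947
theorem D45897 : act 4 n21947 = n45897 := rfl
def n45898 : Q := act 5 n21947
theorem D45898 : act 5 n21947 = n45898 := rfl
def n45899 : Q := act 7 n21947
theorem D45899 : act 7 n21947 = n45899 := rfl
theorem F72491 : act 2 n45899 = n21948 := d4_1 D45899 F72490 (iv2 D45895)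
def n45900 : Q := act 5 n21948
theorem D45900 : act 5 n21948 = n45900 := rfl
def n45901 : Q := act 6 n21948
theorem D45901 : act 6 n21948 = n45901 := rfl
def n45902 : Q := act 0 n21949
theorem D45902 : act 0 n21949 = n45902 := rfl
def n45903 : Q := act 1 n21949
theorem D45903 : act 1 n21949 = n45903 := rfl
theorem F72492 : act 5 n45830 = n45903 := d21_6 (iv5 D1971) D1968 D4755 D10455 D21920 D45830 (iv1 D45903) (iv5 D21949) (iv6 D10474) (iv1 D4763)
def n45904 : Q := act 4 n21949
theorem D45904 : act 4 n21949 = n45904 := rfl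
theorem F72493 : act 6 n45904 = n34469 := d10_2 (iv6 F34456) D45904 F54693
def n45905 : Q := act 7 n21949
theorem D45905 : act 7 n21949 = n45905 := rfl
theorem F72494 : act 3 n45905 = n36057 := d8_1 D45905 (iv7 D36057) (iv3 F34455)
theorem F72495 : act 5 n45905 = n21950 := d13_1 D45905 (iv7 D21950) D21949
def n45906 : Q := act 3 n21951
theorem D45906 : act 3 n21951 = n45906 := rfl
theorem F72496 : act 5 n45906 = n33247 := d6_2 F56066 D45906 F56067
theorem F72497 : act 0 n33194 = n45906 := d17_2 (iv1 F52408) D33194 F72496 F52485 F51501 F37287 (iv5 F51560) F51561 (iv4 F52407)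
theorem F72498 : act 1 n33184 = n45906 := d17_6 (iv1 D7504) (iv5 D3424) D3420 D7489 D16010 D33184 F72496 F52484 (iv4 D16057)
def n45907 : Q := act 4 n21951
theorem D45907 : act 4 n21951 = n45907 := rfl
theorem F72500 : act 5 n40881 = n45907 := d19_1 (iv1 F70102) (iv4 D45907) D45906 (iv1 F72498) (iv5 D33184) (iv4 D16010) (iv3 F26435) (iv1 F21498) F12930 F5700 (iv3 F5698) (iv1 F8886) D8180 D17427 (iv3 F47732) (iv1 F68224) (iv5 D43401) (iv4 F34690) (iv3 F70098)
def n45908 : Q := act 6 n21951
theorem D45908 : act 6 n21951 = n45908 := rfl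
def n45909 : Q := act 3 n21952
theorem D45909 : act 3 n21952 = n45909 := rfl
def n45910 : Q := act 4 n21952
theorem D45910 : act 4 n21952 = n45910 := rfl
theorem F72501 : act 1 n45910 = n40899 := d18_8 D44661 (iv4 F71569) F71578 (iv4 D41624) F34430 F34428 D21952 D45910 F62001
theorem F72502 : act 3 n37511 = n45910 := d20_5 (iv4 D13052) (iv1 F9677) D8494 D18005 D37511 (iv4 D45910) (iv1 D21952) (iv4 F34428) (iv3 D21932) (iv1 F21765)
def n45911 : Q := act 6 n21952
theorem D45911 : act 6 n21952 = n45911 := rfl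
def n45912 : Q := act 6 n21953
theorem D45912 : act 6 n21953 = n45912 := rfl
theorem F72503 : act 2 n45912 = n21954 := d3_1 D45912 (iv6 D21954) D21953
theorem F72504 : act 3 n45912 = n35431 := d7_1 D45912 (iv6 D35431) (iv3 F34458)
def n45913 : Q := act 0 n21954
theorem D45913 : act 0 n21954 = n45913 := rfl
def n45914 : Q := act 1 n21954
theorem D45914 : act 1 n21954 = n45914 := rfl
def n45915 : Q := act 5 n21954
theorem D45915 : act 5 n21954 = n45915 := rfl
theorem F72505 : act 3 n45915 = n21957 := d6_1 D45915 (iv5 D21957) (iv3 F34460)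
def n45916 : Q := act 7 n21954
theorem D45916 : act 7 n21954 = n45916 := rfl
theorem F72506 : act 3 n45916 = n21958 := d8_1 D45916 (iv7 D21958) (iv3 F34460)
def n45920 : Q := act 5 n21955
theorem D45920 : act 5 n21955 = n45920 := rfl
theorem F72508 : act 0 n45920 = n38672 := d21_1 D45920 (iv5 D38672) (iv6 D18398) (iv1 D8661) (iv6 D3884) D3883 D8655 (iv5 F13570) D10476 D21955
def n45921 : Q := act 6 n21955
theorem D45921 : act 6 n21955 = n45921 := rfl
theorem F72509 : act 5 n45921 = n38542 := d21_6 D3883 D8655 (iv5 F13570) D10476 D21955 D45921 (iv1 D38542) (iv5 D18358) (iv6 D8649) (iv1 D3881)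
def n45927 : Q := act 0 n21957
theorem D45927 : act 0 n21957 = n45927 := rfl
def n45928 : Q := act 1 n21957
theorem D45928 : act 1 n21957 = n45928 := rfl
def n45929 : Q := act 4 n21957
theorem D45929 : act 4 n21957 = n45929 := rfl
def n45930 : Q := act 7 n21957
theorem D45930 : act 7 n21957 = n45930 := rfl
theorem F72511 : act 5 n45930 = n21958 := d13_1 D45930 (iv7 D21958) D21957
def n45932 : Q := act 1 n21959
theorem D45932 : act 1 n21959 = n45932 := rfl
theorem F72513 : act 1 n45932 = n21964 := d15_1 D45932 (iv7 D21964) D21959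
def n45933 : Q := act 3 n21959
theorem D45933 : act 3 n21959 = n45933 := rfl
theorem F72514 : act 7 n45933 = n21965 := d8_2 F34462 D45933 (iv3 D21965)
def n45934 : Q := act 4 n21959
theorem D45934 : act 4 n21959 = n45934 := rfl
theorem F72515 : act 2 n45934 = n21961 := d1_1 D45934 (iv4 D21961) D21959
theorem F72516 : act 7 n45934 = n21966 := d11_2 F34462 D45934 (iv4 D21966)
def n45935 : Q := act 5 n21959
theorem D45935 : act 5 n21959 = n45935 := rfl
theorem F72517 : act 2 n45935 = n21962 := d2_1 D45935 (iv5 D21962) D21959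
theorem F72518 : act 7 n45935 = n21967 := d13_2 F34462 D45935 (iv5 D21967)
def n45936 : Q := act 6 n21959
theorem D45936 : act 6 n21959 = n45936 := rfl
theorem F72519 : act 2 n45936 = n21963 := d3_1 D45936 (iv6 D21963) D21959
def n45937 : Q := act 0 n21960
theorem D45937 : act 0 n21960 = n45937 := rfl
def n45938 : Q := act 1 n21960
theorem D45938 : act 1 n21960 = n45938 := rfl
def n45939 : Q := act 2 n21960
theorem D45939 : act 2 n21960 = n45939 := rfl
def n45940 : Q := act 4 n21960
theorem D45940 : act 4 n21960 = n45940 := rfl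
def n45941 : Q := act 5 n21960
theorem D45941 : act 5 n21960 = n45941 := rfl
theorem F72520 : act 3 n45941 = n21962 := d6_1 D45941 (iv5 D21962) D21960
def n45942 : Q := act 6 n21960
theorem D45942 : act 6 n21960 = n45942 := rfl
theorem F72521 : act 3 n45942 = n21963 := d7_1 D45942 (iv6 D21963) D21960
def n45943 : Q := act 7 n21960
theorem D45943 : act 7 n21960 = n45943 := rfl
theorem F72522 : act 3 n45943 = n21964 := d8_1 D45943 (iv7 D21964) D21960
def n45944 : Q := act 0 n21961
theorem D45944 : act 0 n21961 = n45944 := rfl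
def n45945 : Q := act 1 n21961
theorem D45945 : act 1 n21961 = n45945 := rfl
theorem F72523 : act 1 n45945 = n21966 := d15_1 D45945 (iv7 F72516) F72515
def n45946 : Q := act 3 n21961
theorem D45946 : act 3 n21961 = n45946 := rfl
def n45947 : Q := act 5 n21961
theorem D45947 : act 5 n21961 = n45947 := rfl
def n45948 : Q := act 6 n21961
theorem D45948 : act 6 n21961 = n45948 := rfl
theorem F72524 : act 4 n45948 = n21963 := d10_1 D45948 (iv6 D21963) D21961
def n45949 : Q := act 7 n21961
theorem D45949 : act 7 n21961 = n45949 := rfl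
theorem F72525 : act 2 n45949 = n21966 := d4_1 D45949 (iv7 F72516) F72515
theorem F72526 : act 4 n45949 = n21964 := d11_1 D45949 (iv7 D21964) D21961
theorem F72527 : act 1 n21966 = n45944 := d15_0 (iv0 D45944) D45949 F72525
def n45950 : Q := act 0 n21962
theorem D45950 : act 0 n21962 = n45950 := rfl
theorem F72528 : act 5 n45950 = n38667 := d17_3 D10477 D21962 D45950 F59485 D38672 (iv0 F72508) (iv5 D45920) (iv0 D21955) F16687
theorem F72529 : act 3 n40187 = n45950 := d6_3 F72528 (iv3 F60946) (iv5 F61109)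
theorem F72530 : act 6 n40176 = n45950 := d12_0 F72528 (iv6 D38667) D38666 (iv6 F59483) D40176
theorem F72531 : act 7 n45950 = n38667 := d14_2 F61174 F72530 (iv6 D38667) F61143 F59483
theorem F72532 : act 0 n45950 = n21967 := d21_10 (iv5 D21967) (iv1 D10478) F7220 (iv6 D4765) D4762 D10472 (iv5 F32910) F59750 D40176 F72530
theorem F72533 : act 4 n38673 = n45950 := d11_3 F72531 F59485 D38673
def n45951 : Q := act 1 n21962
theorem D45951 : act 1 n21962 = n45951 := rfl
theorem F72534 : act 1 n45951 = n21967 := d15_1 D45951 (iv7 F72518) F72517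
theorem F72535 : act 2 n38667 = n45951 := d15_3 F72534 (iv0 F72532) F72531
theorem F72536 : act 4 n45951 = n38219 := d1_2 (iv4 F59485) F72535 F61161
theorem F72537 : act 6 n45951 = n38217 := d3_2 D38667 F72535 F61148
def n45952 : Q := act 4 n21962
theorem D45952 : act 4 n21962 = n45952 := rfl
def n45953 : Q := act 6 n21962
theorem D45953 : act 6 n21962 = n45953 := rfl
theorem F72538 : act 0 n45953 = n45830 := d21_10 F72492 (iv1 D45903) (iv5 D21949) (iv6 D10474) (iv1 D4763) D4765 F7220 D10477 D21962 D45953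
def n45954 : Q := act 7 n21962
theorem D45954 : act 7 n21962 = n45954 := rfl
theorem F72539 : act 2 n45954 = n21967 := d4_1 D45954 (iv7 F72518) F72517
theorem F72540 : act 5 n45954 = n21964 := d13_1 D45954 (iv7 D21964) D21962
def n45955 : Q := act 0 n21963
theorem D45955 : act 0 n21963 = n45955 := rfl
def n45956 : Q := act 1 n21963
theorem D45956 : act 1 n21963 = n45956 := rfl
def n45957 : Q := act 7 n21963
theorem D45957 : act 7 n21963 = n45957 := rfl
def n45958 : Q := act 6 n21964
theorem D45958 : act 6 n21964 = n45958 := rfl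
theorem F72541 : act 2 n45958 = n21968 := d3_1 D45958 (iv6 D21968) (iv2 F34463)
def n45963 : Q := act 5 n21965
theorem D45963 : act 5 n21965 = n45963 := rfl
theorem F72542 : act 3 n45963 = n21967 := d6_1 D45963 (iv5 D21967) D21965
def n45964 : Q := act 6 n21965
theorem D45964 : act 6 n21965 = n45964 := rfl
theorem F72543 : act 3 n45964 = n21968 := d7_1 D45964 (iv6 D21968) D21965
def n45965 : Q := act 3 n21966
theorem D45965 : act 3 n21966 = n45965 := rfl
def n45966 : Q := act 5 n21966
theorem D45966 : act 5 n21966 = n45966 := rfl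
def n45967 : Q := act 6 n21966
theorem D45967 : act 6 n21966 = n45967 := rfl
theorem F72544 : act 4 n45967 = n21968 := d10_1 D45967 (iv6 D21968) D21966
def n45968 : Q := act 4 n21967
theorem D45968 : act 4 n21967 = n45968 := rfl
def n45969 : Q := act 0 n21968
theorem D45969 : act 0 n21968 = n45969 := rfl
def n45970 : Q := act 1 n21968
theorem D45970 : act 1 n21968 = n45970 := rfl
def n45971 : Q := act 5 n21968
theorem D45971 : act 5 n21968 = n45971 := rfl
theorem F72545 : act 0 n45829 = n45971 := d21_1 D45829 (iv5 D45971) (iv6 D21968) (iv1 D10478) (iv6 D4765) (iv5 D1971) D1968 D4755 D10455 D21920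
def n45972 : Q := act 7 n21968
theorem D45972 : act 7 n21968 = n45972 := rfl
def n45973 : Q := act 5 n21969
theorem D45973 : act 5 n21969 = n45973 := rfl
theorem F72546 : act 2 n45973 = n22120 := d2_1 D45973 F34588 (iv2 F34464)
theorem F72547 : act 6 n45973 = n45973 := d12_2 D21969 D45973 (iv5 D45973) (iv6 D21969) F16688
theorem F72548 : act 7 n45973 = n21972 := d13_2 (iv7 F34465) D45973 (iv5 D21972)
theorem F72549 : act 1 n22118 = n45973 := d15_1 D22118 F72548 F34470
theorem F72550 : act 1 n45973 = n22117 := d15_0 (iv0 D22117) D22120 (iv2 F72546)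
def n45974 : Q := act 2 n21970
theorem D45974 : act 2 n21970 = n45974 := rfl
theorem F72551 : act 7 n21971 = n45974 := d15_2 (iv0 D21970) D21971 (iv2 D45974)
def n45975 : Q := act 3 n21970
theorem D45975 : act 3 n21970 = n45975 := rfl
def n45976 : Q := act 4 n21970
theorem D45976 : act 4 n21970 = n45976 := rfl
def n45977 : Q := act 5 n21970
theorem D45977 : act 5 n21970 = n45977 := rfl
def n45978 : Q := act 6 n21970
theorem D45978 : act 6 n21970 = n45978 := rfl
def n45979 : Q := act 7 n21970
theorem D45979 : act 7 n21970 = n45979 := rfl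
theorem F72552 : act 2 n45979 = n21971 := d4_1 D45979 F72551 (iv2 D45974)
def n45982 : Q := act 5 n21971
theorem D45982 : act 5 n21971 = n45982 := rfl
theorem F72553 : act 6 n22117 = n45982 := d21_5 (iv5 D10547) (iv1 D4826) D4827 (iv6 F16734) D22117 (iv5 D45982) (iv1 D21971) D21972 F34471 (iv1 F17028)
def n45984 : Q := act 0 n21972
theorem D45984 : act 0 n21972 = n45984 := rfl
theorem F72554 : act 6 n45984 = n22115 := d21_5 (iv5 D10543) (iv1 F7165) D10481 (iv6 F34471) D45984 (iv5 D22115) (iv1 D10537) D10538 F16734 (iv1 F17023)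
theorem F72555 : act 1 n22120 = n45984 := d15_0 (iv0 D45984) (iv7 F72548) F72546
def n45985 : Q := act 1 n21972
theorem D45985 : act 1 n21972 = n45985 := rfl
theorem F72556 : act 1 n45985 = n22120 := d15_1 D45985 (iv7 D22120) (iv2 F34470)
theorem F72557 : act 5 n41430 = n45985 := d21_6 (iv5 D9160) F6040 D4140 D9186 D19512 D41430 (iv1 D45985) (iv5 D21972) (iv6 D10480) (iv1 F14279)
def n45986 : Q := act 4 n21972
theorem D45986 : act 4 n21972 = n45986 := rfl
def n45987 : Q := act 3 n21973
theorem D45987 : act 3 n21973 = n45987 := rfl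
def n45988 : Q := act 3 n21974
theorem D45988 : act 3 n21974 = n45988 := rfl
theorem F72561 : act 2 n45988 = n41456 := d0_1 D45988 (iv3 F70210) F71572 (iv3 F70307) (iv2 F69352)
theorem F72562 : act 4 n45988 = n41345 := d5_2 F68961 D45988 (iv3 F68963) (iv4 D43863) D43862
theorem F72563 : act 7 n45988 = n41461 := d8_2 (iv7 F69350) D45988 (iv3 F64041)
theorem F72564 : act 0 n45988 = n21993 := d20_4 (iv4 F69245) (iv1 F69247) F68961 D45988 (iv3 D21993) F16696 D18032 (iv4 F29202) (iv3 F58371) (iv1 F64300)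
theorem F72565 : act 0 n40605 = n45988 := d20_10 F72562 (iv1 D41345) F31124 (iv3 D19468) F14239 D9221 F14407 D19175 F30810 D40605
def n45989 : Q := act 5 n21974
theorem D45989 : act 5 n21974 = n45989 := rfl
def n45990 : Q := act 6 n21974
theorem D45990 : act 6 n21974 = n45990 := rfl
def n45991 : Q := act 5 n21975
theorem D45991 : act 5 n21975 = n45991 := rfl
theorem F72566 : act 3 n45991 = n38488 := d6_1 D45991 F71633 (iv3 F71575)
theorem F72567 : act 0 n45991 = n22000 := d17_2 (iv1 F64048) D45991 F34498 F17194 D20499 F50405 F50402 F32454 (iv4 F64044)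
def n45992 : Q := act 6 n21975
theorem D45992 : act 6 n21975 = n45992 := rfl
def n45993 : Q := act 5 n21976
theorem D45993 : act 5 n21976 = n45993 := rfl
theorem F72568 : act 2 n45993 = n21977 := d2_1 D45993 (iv5 D21977) D21976
theorem F72569 : act 3 n45993 = n40744 := d6_1 D45993 (iv5 D40744) (iv3 F34476)
def n45994 : Q := act 6 n21976
theorem D45994 : act 6 n21976 = n45994 := rfl
theorem F72570 : act 2 n45994 = n21978 := d3_1 D45994 (iv6 D21978) D21976
theorem F72571 : act 3 n45994 = n40745 := d7_1 D45994 (iv6 D40745) (iv3 F34476)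
theorem F72572 : act 4 n45994 = n42178 := d10_1 D45994 (iv6 D42178) (iv4 F34477)
def n45995 : Q := act 0 n21977
theorem D45995 : act 0 n21977 = n45995 := rfl
theorem F72573 : act 5 n45995 = n42341 := d17_3 (iv1 D21975) D21977 D45995 (iv4 F68207) F68205 (iv0 F54158) (iv5 F69243) (iv0 F69246) F55309
def n45996 : Q := act 1 n21977
theorem D45996 : act 1 n21977 = n45996 := rfl
theorem F72574 : act 5 n45996 = n42342 := d17_7 (iv1 F32580) F40414 F40415 (iv5 D19907) (iv4 F16692) D21977 D45996 F65383 F34933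
theorem F72575 : act 3 n45907 = n45996 := d19_19 (iv1 D45996) (iv5 D21977) F16692 (iv3 D9377) (iv1 F14574) D19867 (iv4 F31797) D42282 F65289 (iv5 D19984) (iv4 F31806) (iv3 D19977) F14654 D10603 (iv4 F29443) (iv3 F57394) (iv1 F57397) F56066 D45907
def n45997 : Q := act 4 n21977
theorem D45997 : act 4 n21977 = n45997 := rfl
theorem F72576 : act 5 n45997 = n26860 := d16_3 (iv4 F16692) D21977 D45997 (iv4 D26860) (iv5 D12850) (iv4 F20093) F32455 F32452 (iv2 D19906)
theorem F72577 : act 1 n45997 = n41075 := d18_6 (iv1 D40369) (iv4 F31709) F31710 (iv4 F16692) D21977 D45997 (iv4 D41075) D41074 F64305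
def n45998 : Q := act 6 n21977
theorem D45998 : act 6 n21977 = n45998 := rfl
theorem F72578 : act 3 n45998 = n21979 := d7_1 D45998 (iv6 D21979) (iv3 F34478)
def n45999 : Q := act 0 n21978
theorem D45999 : act 0 n21978 = n45999 := rfl
def n46000 : Q := act 1 n21978
theorem D46000 : act 1 n21978 = n46000 := rfl
def n46001 : Q := act 5 n21978
theorem D46001 : act 5 n21978 = n46001 := rfl
theorem F72579 : act 3 n46001 = n21982 := d6_1 D46001 (iv5 D21982) (iv3 F34479)
def n46002 : Q := act 0 n21979
theorem D46002 : act 0 n21979 = n46002 := rfl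
def n46003 : Q := act 1 n21979
theorem D46003 : act 1 n21979 = n46003 := rfl
def n46004 : Q := act 5 n21979
theorem D46004 : act 5 n21979 = n46004 := rfl
theorem F72580 : act 6 n46004 = n21982 := d12_2 D21979 D46004 (iv5 D21982) (iv6 D10484) D10483
def n46005 : Q := act 7 n21979
theorem D46005 : act 7 n21979 = n46005 := rfl
def n46006 : Q := act 0 n21982
theorem D46006 : act 0 n21982 = n46006 := rfl
theorem F72581 : act 5 n46006 = n22343 := d17_3 F35815 D21982 D46006 (iv4 D22343) (iv5 D10636) (iv0 D4864) (iv5 F6067) D9195 D19538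
theorem F72582 : act 2 n22860 = n46006 := d15_3 (iv0 D46006) (iv0 F35954) (iv7 F35559)
theorem F72583 : act 7 n46006 = n22892 := d4_2 (iv7 F35559) F72582 F35961
def n46007 : Q := act 4 n21982
theorem D46007 : act 4 n21982 = n46007 := rfl
theorem F72584 : act 0 n46007 = n41760 := d18_2 F35954 D46007 (iv4 D41760) (iv5 F58700) F35337 (iv0 F62997) (iv4 F62994) F62996 D22849
theorem F72585 : act 1 n46007 = n41763 := d18_6 (iv1 F31267) D19643 F58698 (iv4 F16693) D21982 D46007 (iv4 D41763) F63947 F63946
def n46008 : Q := act 6 n21984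
theorem D46008 : act 6 n21984 = n46008 := rfl
theorem F72586 : act 2 n46008 = n40354 := d3_1 D46008 (iv6 D40354) F34483
theorem F72587 : act 3 n46008 = n40607 := d7_1 D46008 (iv6 D40607) (iv3 F34485)
def n46009 : Q := act 6 n21985
theorem D46009 : act 6 n21985 = n46009 := rfl
theorem F72588 : act 2 n46009 = n21987 := d3_1 D46009 (iv6 D21987) D21985
theorem F72589 : act 4 n46009 = n45388 := d10_1 D46009 (iv6 D45388) (iv4 F34487)
def n46010 : Q := act 4 n21986
theorem D46010 : act 4 n21986 = n46010 := rfl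
def n46011 : Q := act 6 n21986
theorem D46011 : act 6 n21986 = n46011 := rfl
theorem F72590 : act 3 n46011 = n21988 := d7_1 D46011 (iv6 D21988) (iv3 F34491)
def n46012 : Q := act 0 n21987
theorem D46012 : act 0 n21987 = n46012 := rfl
theorem F72591 : act 3 n46012 = n40323 := d20_5 (iv4 F63715) (iv1 D40541) F30773 (iv3 F34492) D46012 (iv4 D40323) (iv1 F30594) (iv4 F30639) (iv3 F31410) (iv1 F63713)
theorem F72592 : act 4 n46012 = n44652 := d20_8 (iv4 D19797) (iv1 D9301) D9303 D19805 F35853 (iv3 F34086) (iv4 F34493) D46012 (iv3 D44652) (iv1 F63201)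
theorem F72593 : act 7 n40422 = n46012 := d11_0 F72592 (iv7 F71544) F71543
def n46013 : Q := act 1 n21987
theorem D46013 : act 1 n21987 = n46013 := rfl
def n46014 : Q := act 5 n21987
theorem D46014 : act 5 n21987 = n46014 := rfl
theorem F72594 : act 3 n46014 = n21991 := d6_1 D46014 (iv5 D21991) (iv3 F34492)
def n46015 : Q := act 7 n21987
theorem D46015 : act 7 n21987 = n46015 := rfl
theorem F72595 : act 3 n46015 = n21992 := d8_1 D46015 (iv7 D21992) (iv3 F34492)
theorem F72596 : act 4 n46015 = n45396 := d11_1 D46015 (iv7 D45396) (iv4 F34493)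
theorem F72597 : act 0 n46015 = n40422 := d20_7 F16444 (iv1 F63153) D9281 D19773 F35801 (iv3 F71605) (iv4 F72596) (iv4 F71543) (iv3 D45375) (iv1 D21644)
theorem F72598 : act 1 n46009 = n40422 := d15_0 (iv0 F72597) (iv7 D46015) (iv2 F72588)
def n46016 : Q := act 0 n21988
theorem D46016 : act 0 n21988 = n46016 := rfl
def n46017 : Q := act 1 n21988
theorem D46017 : act 1 n21988 = n46017 := rfl
def n46018 : Q := act 5 n21988
theorem D46018 : act 5 n21988 = n46018 := rfl
theorem F72599 : act 6 n46018 = n21991 := d12_2 D21988 D46018 (iv5 D21991) (iv6 D10487) D10486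
def n46019 : Q := act 7 n21988
theorem D46019 : act 7 n21988 = n46019 := rfl
def n46020 : Q := act 0 n21991
theorem D46020 : act 0 n21991 = n46020 := rfl
def n46021 : Q := act 1 n21991
theorem D46021 : act 1 n21991 = n46021 := rfl
theorem F72600 : act 5 n45740 = n46021 := d21_6 D4785 D10491 F16698 D10650 (iv1 F66836) D45740 (iv1 D46021) (iv5 D21991) (iv6 D10487) (iv1 D4783)
def n46022 : Q := act 4 n21991
theorem D46022 : act 4 n21991 = n46022 := rfl
def n46023 : Q := act 7 n21991
theorem D46023 : act 7 n21991 = n46023 := rfl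
theorem F72601 : act 5 n46023 = n21992 := d13_1 D46023 (iv7 D21992) D21991
def n46024 : Q := act 0 n21993
theorem D46024 : act 0 n21993 = n46024 := rfl
theorem F72602 : act 4 n46024 = n41344 := d20_0 (iv1 F63687) F31255 F31254 (iv1 F14421) D10445 F16636 F13279 (iv4 F16696) D21993 D46024
theorem F72603 : act 2 n41461 = n46024 := d15_3 (iv0 D46024) (iv0 F72564) F72563
theorem F72604 : act 1 n40605 = n46024 := d15_0 (iv0 D46024) (iv7 F58393) (iv2 F61719)
theorem F72605 : act 7 n46024 = n41456 := d15_2 (iv0 F72565) F72604 (iv2 F72561)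
theorem F72606 : act 3 n40590 = n46024 := d20_3 (iv4 F70951) F71417 F70288 (iv1 F72604) (iv3 D40605) (iv4 F30810) (iv1 F61393) F61390 F58828 (iv1 F58712)
def n46025 : Q := act 2 n21993
theorem D46025 : act 2 n21993 = n46025 := rfl
theorem F72607 : act 3 n46025 = n32771 := d0_2 D21993 D46025 F51888 (iv3 F30808) F21781
theorem F72608 : act 7 n46025 = n40605 := d4_2 F58393 D46025 F61719
theorem F72609 : act 1 n46025 = n41456 := d15_0 (iv0 F63905) F58393 D46025
theorem F72610 : act 4 n46025 = n21993 := d16_0 (iv5 F44067) F44066 (iv5 F34136) F34135 (iv5 F33834) F33833 D37513 F58393 D46025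
theorem F72611 : act 1 n41461 = n46025 := d15_0 F72609 (iv7 F72605) (iv2 F72603)
def n46026 : Q := act 6 n21993
theorem D46026 : act 6 n21993 = n46026 := rfl
theorem F72612 : act 3 n46026 = n21994 := d7_1 D46026 (iv6 D21994) D21993
def n46027 : Q := act 0 n21994
theorem D46027 : act 0 n21994 = n46027 := rfl
def n46028 : Q := act 1 n21994
theorem D46028 : act 1 n21994 = n46028 := rfl
def n46029 : Q := act 5 n21994
theorem D46029 : act 5 n21994 = n46029 := rfl
def n46030 : Q := act 7 n21994
theorem D46030 : act 7 n21994 = n46030 := rfl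
theorem F72613 : act 4 n46030 = n37596 := d11_1 D46030 (iv7 D37596) (iv4 F34494)
def n46031 : Q := act 0 n21995
theorem D46031 : act 0 n21995 = n46031 := rfl
def n46032 : Q := act 1 n21995
theorem D46032 : act 1 n21995 = n46032 := rfl
theorem F72614 : act 1 n46032 = n21999 := d15_1 D46032 (iv7 D21999) (iv2 F34495)
theorem F72615 : act 4 n46032 = n41525 := d20_0 (iv1 D41525) (iv4 F64019) F64018 F62583 (iv3 F16017) (iv4 D10194) (iv1 F65750) (iv4 F16702) (iv3 F34497) (iv1 F72614)
def n46033 : Q := act 5 n21995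
theorem D46033 : act 5 n21995 = n46033 := rfl
theorem F72616 : act 2 n46033 = n21998 := d2_1 D46033 (iv5 D21998) (iv2 F34495)
def n46034 : Q := act 7 n21995
theorem D46034 : act 7 n21995 = n46034 := rfl
theorem F72617 : act 2 n46034 = n21999 := d4_1 D46034 (iv7 D21999) (iv2 F34495)
theorem F72618 : act 1 n21999 = n46031 := d15_0 (iv0 D46031) D46034 F72617
theorem F72619 : act 1 n21997 = n46034 := d15_1 D21997 (iv7 D46034) F34495
theorem F72620 : act 4 n41524 = n46031 := d20_0 (iv1 F72618) (iv4 F69204) (iv3 D43995) (iv1 D20885) (iv3 F16571) (iv4 D10415) F62625 (iv4 F14372) (iv3 F31298) D41524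
theorem F72621 : act 3 n40609 = n41524 := d20_5 (iv4 D9904) (iv1 F66169) (iv4 F14074) (iv3 F30821) D40609 F72620 (iv1 F72618) (iv4 F69204) (iv3 D43995) (iv1 D20885)
theorem F72622 : act 1 n46034 = n21996 := d15_0 (iv0 D21996) D21999 (iv2 F72617)
def n46035 : Q := act 2 n21996
theorem D46035 : act 2 n21996 = n46035 := rfl
theorem F72623 : act 7 n21997 = n46035 := d15_2 (iv0 D21996) D21997 (iv2 D46035)
def n46036 : Q := act 3 n21996
theorem D46036 : act 3 n21996 = n46036 := rfl
def n46037 : Q := act 4 n21996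
theorem D46037 : act 4 n21996 = n46037 := rfl
theorem F72624 : act 0 n46037 = n41527 := d20_1 D46037 (iv4 F69701) (iv3 D44290) (iv1 D21080) (iv3 F16037) (iv4 D10202) (iv1 F65723) (iv4 F6884) (iv3 F16697) D21996
theorem F72625 : act 0 n40330 = n46036 := d20_4 (iv4 D10027) (iv1 F62531) (iv4 F30609) (iv3 F61395) (iv3 D46036) D46037 F72624 (iv4 F69701) (iv3 D44290) (iv1 D21080)
def n46038 : Q := act 5 n21996
theorem D46038 : act 5 n21996 = n46038 := rfl
def n46039 : Q := act 6 n21996
theorem D46039 : act 6 n21996 = n46039 := rfl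
def n46040 : Q := act 7 n21996
theorem D46040 : act 7 n21996 = n46040 := rfl
theorem F72626 : act 2 n46040 = n21997 := d4_1 D46040 F72623 (iv2 D46035)
def n46041 : Q := act 3 n21997
theorem D46041 : act 3 n21997 = n46041 := rfl
def n46042 : Q := act 4 n21997
theorem D46042 : act 4 n21997 = n46042 := rfl
theorem F72627 : act 0 n41527 = n46042 := d20_10 (iv4 D46042) (iv1 D21997) (iv4 F34392) F34391 (iv1 F65811) (iv3 F16553) (iv4 D10405) (iv1 F62630) (iv4 F31313) (iv3 F64064)
theorem F72628 : act 1 n37592 = n46042 := d15_0 (iv0 F72627) (iv7 D41527) (iv2 F58461)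
def n46043 : Q := act 5 n21997
theorem D46043 : act 5 n21997 = n46043 := rfl
def n46044 : Q := act 6 n21997
theorem D46044 : act 6 n21997 = n46044 := rfl
def n46045 : Q := act 0 n21998
theorem D46045 : act 0 n21998 = n46045 := rfl
def n46046 : Q := act 1 n21998
theorem D46046 : act 1 n21998 = n46046 := rfl
def n46047 : Q := act 4 n21998
theorem D46047 : act 4 n21998 = n46047 := rfl
def n46048 : Q := act 7 n21998
theorem D46048 : act 7 n21998 = n46048 := rfl
theorem F72629 : act 3 n46048 = n22021 := d8_1 D46048 (iv7 D22021) (iv3 F34496)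
theorem F72630 : act 5 n46048 = n21999 := d13_1 D46048 (iv7 D21999) D21998
def n46049 : Q := act 0 n22000
theorem D46049 : act 0 n22000 = n46049 := rfl
def n46050 : Q := act 2 n22000
theorem D46050 : act 2 n22000 = n46050 := rfl
theorem F72631 : act 3 n46050 = n40748 := d0_2 D22000 D46050 (iv2 F64074) (iv3 D41530) (iv2 F31308)
theorem F72632 : act 5 n46050 = n22379 := d2_2 (iv5 F34498) D46050 (iv2 D22379)
def n46051 : Q := act 4 n22000
theorem D46051 : act 4 n22000 = n46051 := rfl
theorem F72633 : act 5 n46051 = n32045 := d16_3 (iv4 F17194) (iv5 F34498) D46051 (iv4 D32045) (iv5 D15118) (iv4 F24726) (iv5 F31815) (iv7 F32578) (iv2 D20498)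
def n46052 : Q := act 6 n22000
theorem D46052 : act 6 n22000 = n46052 := rfl
theorem F72634 : act 3 n46052 = n22001 := d7_1 D46052 (iv6 D22001) D22000
def n46053 : Q := act 0 n22001
theorem D46053 : act 0 n22001 = n46053 := rfl
def n46054 : Q := act 1 n22001
theorem D46054 : act 1 n22001 = n46054 := rfl
def n46055 : Q := act 5 n22001
theorem D46055 : act 5 n22001 = n46055 := rfl
theorem F72635 : act 6 n46055 = n22383 := d12_2 D22001 D46055 (iv5 D22383) (iv6 D10650) (iv5 F16698)
def n46056 : Q := act 7 n22001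
theorem D46056 : act 7 n22001 = n46056 := rfl
def n46057 : Q := act 2 n22002
theorem D46057 : act 2 n22002 = n46057 := rfl
theorem F72636 : act 5 n46057 = n22386 := d2_2 (iv5 F34499) D46057 (iv2 D22386)
theorem F72637 : act 7 n46057 = n40748 := d4_2 F64071 D46057 (iv2 F64074)
theorem F72638 : act 1 n46057 = n40353 := d15_0 (iv0 F64072) F64071 D46057
theorem F72639 : act 1 n40746 = n46057 := d15_0 F72638 F61435 (iv2 F61855)
def n46058 : Q := act 4 n22002
theorem D46058 : act 4 n22002 = n46058 := rfl
def n46059 : Q := act 6 n22002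
theorem D46059 : act 6 n22002 = n46059 := rfl
theorem F72640 : act 3 n46059 = n22003 := d7_1 D46059 (iv6 D22003) D22002
def n46060 : Q := act 0 n22003
theorem D46060 : act 0 n22003 = n46060 := rfl
def n46061 : Q := act 1 n22003
theorem D46061 : act 1 n22003 = n46061 := rfl
def n46062 : Q := act 5 n22003
theorem D46062 : act 5 n22003 = n46062 := rfl
theorem F72641 : act 6 n46062 = n22390 := d12_2 D22003 D46062 (iv5 D22390) (iv6 D10652) (iv5 F16701)
def n46063 : Q := act 7 n22003
theorem D46063 : act 7 n22003 = n46063 := rfl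
def n46064 : Q := act 2 n22004
theorem D46064 : act 2 n22004 = n46064 := rfl
theorem F72642 : act 7 n22005 = n46064 := d15_2 (iv0 D22004) D22005 (iv2 D46064)
def n46065 : Q := act 3 n22004
theorem D46065 : act 3 n22004 = n46065 := rfl
def n46066 : Q := act 4 n22004
theorem D46066 : act 4 n22004 = n46066 := rfl
def n46067 : Q := act 5 n22004
theorem D46067 : act 5 n22004 = n46067 := rfl
def n46068 : Q := act 6 n22004
theorem D46068 : act 6 n22004 = n46068 := rfl
def n46069 : Q := act 7 n22004
theorem D46069 : act 7 n22004 = n46069 := rfl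
theorem F72643 : act 2 n46069 = n22005 := d4_1 D46069 F72642 (iv2 D46064)
def n46070 : Q := act 3 n22005
theorem D46070 : act 3 n22005 = n46070 := rfl
def n46071 : Q := act 4 n22005
theorem D46071 : act 4 n22005 = n46071 := rfl
def n46072 : Q := act 5 n22005
theorem D46072 : act 5 n22005 = n46072 := rfl
def n46073 : Q := act 6 n22005
theorem D46073 : act 6 n22005 = n46073 := rfl
def n46074 : Q := act 0 n22006
theorem D46074 : act 0 n22006 = n46074 := rfl
def n46075 : Q := act 1 n22006
theorem D46075 : act 1 n22006 = n46075 := rfl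
def n46076 : Q := act 4 n22006
theorem D46076 : act 4 n22006 = n46076 := rfl
theorem F72644 : act 6 n46076 = n22020 := d10_2 (iv6 F34501) D46076 (iv4 D22020)
def n46077 : Q := act 7 n22006
theorem D46077 : act 7 n22006 = n46077 := rfl
theorem F72645 : act 5 n46077 = n22007 := d13_1 D46077 (iv7 D22007) D22006
def n46078 : Q := act 0 n22009
theorem D46078 : act 0 n22009 = n46078 := rfl
def n46079 : Q := act 1 n22009
theorem D46079 : act 1 n22009 = n46079 := rfl
def n46080 : Q := act 2 n22009
theorem D46080 : act 2 n22009 = n46080 := rfl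
theorem F72646 : act 3 n46080 = n40751 := d0_2 D22009 D46080 (iv2 F66278) (iv3 D41593) F65839
def n46081 : Q := act 5 n22009
theorem D46081 : act 5 n22009 = n46081 := rfl
theorem F72647 : act 3 n46081 = n22011 := d6_1 D46081 (iv5 D22011) D22009
def n46082 : Q := act 6 n22009
theorem D46082 : act 6 n22009 = n46082 := rfl
theorem F72648 : act 3 n46082 = n22012 := d7_1 D46082 (iv6 D22012) D22009
def n46083 : Q := act 1 n22011
theorem D46083 : act 1 n22011 = n46083 := rfl
theorem F72649 : act 1 n46083 = n22016 := d15_1 D46083 (iv7 F65846) F65851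
theorem F72650 : act 5 n46083 = n22861 := d17_7 F62401 F62398 F62407 (iv5 D40547) (iv4 F66240) D22011 D46083 F35959 (iv4 F66270)
def n46084 : Q := act 4 n22011
theorem D46084 : act 4 n22011 = n46084 := rfl
def n46085 : Q := act 6 n22011
theorem D46085 : act 6 n22011 = n46085 := rfl
def n46086 : Q := act 7 n22012
theorem D46086 : act 7 n22012 = n46086 := rfl
def n46087 : Q := act 1 n22014
theorem D46087 : act 1 n22014 = n46087 := rfl
theorem F72651 : act 7 n46087 = n40747 := d15_2 (iv0 F66245) D46087 F61859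
theorem F72652 : act 2 n40754 = n46087 := d4_3 F72651 F61859 D40754
theorem F72653 : act 1 n41593 = n40747 := d15_1 (iv0 F65828) (iv7 F72651) (iv2 F72652)
theorem F72654 : act 1 n46087 = n40751 := d15_0 (iv0 D40751) D40754 F72652
def n46088 : Q := act 2 n22014
theorem D46088 : act 2 n22014 = n46088 := rfl
theorem F72655 : act 7 n46088 = n40751 := d4_2 F65845 D46088 (iv2 F66278)
theorem F72656 : act 1 n46088 = n40754 := d15_0 (iv0 F65828) F65845 D46088
theorem F72657 : act 1 n40747 = n46088 := d15_0 F72656 (iv7 D40754) (iv2 F61859)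
def n46089 : Q := act 5 n22014
theorem D46089 : act 5 n22014 = n46089 := rfl
theorem F72658 : act 3 n46089 = n22016 := d6_1 D46089 (iv5 D22016) D22014
def n46090 : Q := act 6 n22014
theorem D46090 : act 6 n22014 = n46090 := rfl
theorem F72659 : act 3 n46090 = n22017 := d7_1 D46090 (iv6 D22017) D22014
def n46091 : Q := act 4 n22016
theorem D46091 : act 4 n22016 = n46091 := rfl
def n46092 : Q := act 6 n22016
theorem D46092 : act 6 n22016 = n46092 := rfl
def n46093 : Q := act 0 n22017
theorem D46093 : act 0 n22017 = n46093 := rfl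
def n46094 : Q := act 1 n22017
theorem D46094 : act 1 n22017 = n46094 := rfl
def n46095 : Q := act 5 n22017
theorem D46095 : act 5 n22017 = n46095 := rfl
theorem F72660 : act 0 n45739 = n46095 := d21_1 D45739 (iv5 D46095) (iv6 D22017) (iv1 D10495) (iv6 D4786) D4785 D10491 F16698 D10650 (iv1 F66836)
theorem F72661 : act 1 n45745 = n46095 := d15_0 (iv0 F72660) F72175 (iv2 F72192)
theorem E8040 : n46094 = n41491 := (c17_9 F65755 D21424 F65686 (iv5 D21870) D21869 D45745 F72661 (iv5 D46095) D46094 F63963)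
theorem F72662 : act 0 n41491 = n22017 := (sb E8040 (iv1 D46094))
def n46096 : Q := act 2 n22018
theorem D46096 : act 2 n22018 = n46096 := rfl
theorem F72663 : act 7 n22019 = n46096 := d15_2 (iv0 D22018) D22019 (iv2 D46096)
def n46097 : Q := act 3 n22018
theorem D46097 : act 3 n22018 = n46097 := rfl
def n46098 : Q := act 4 n22018
theorem D46098 : act 4 n22018 = n46098 := rfl
def n46099 : Q := act 5 n22018
theorem D46099 : act 5 n22018 = n46099 := rfl
theorem F72664 : act 4 n46099 = n40547 := d17_4 (iv1 D10495) D10496 D22018 D46099 (iv5 D40547) (iv0 D19154) F14002 D19155 (iv4 F66244)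
theorem F72665 : act 1 n46099 = n22350 := d17_8 (iv1 F17367) (iv5 D10501) (iv1 F14402) F14398 (iv4 F31366) (iv5 F64201) F64205 D46099 F34889
theorem F72666 : act 0 n41673 = n46098 := d18_2 (iv1 D41672) D41673 (iv4 D46098) D46099 F72664 (iv0 F62407) F35343 (iv0 F66258) F66130
theorem F72667 : act 5 n46098 = n46091 := d16_3 (iv4 F72664) (iv5 D46099) D46098 (iv4 D46091) (iv5 D22016) F66244 D40552 F66293 F66294
theorem F72668 : act 1 n22890 = n46099 := d15_0 F72665 (iv7 F35561) (iv2 F35956)
theorem F72669 : act 2 n22887 = n46099 := d1_3 F72664 (iv2 F66294) F66270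
theorem F72670 : act 7 n22412 = n46099 := d11_0 F72664 (iv7 F66295) F65838
theorem F72671 : act 7 n22018 = n41603 := d13_2 F72670 (iv5 D46099) (iv5 F64198)
theorem F72672 : act 2 n41603 = n22019 := d4_1 F72671 F72663 (iv2 D46096)
theorem E8041 : n46096 = n41602 := (c15_4 (iv0 D41602) D41603 (iv7 F72671) D46096)
theorem F72673 : act 2 n41602 = n22018 := (sb E8041 (iv2 D46096))
theorem F72674 : act 7 n41602 = n22019 := (sb E8041 (iv7 F72663))
def n46100 : Q := act 6 n22018
theorem D46100 : act 6 n22018 = n46100 := rfl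
def n46101 : Q := act 3 n22019
theorem D46101 : act 3 n22019 = n46101 := rfl
def n46102 : Q := act 4 n22019
theorem D46102 : act 4 n22019 = n46102 := rfl
theorem F72675 : act 5 n46102 = n46084 := d16_1 D46102 (iv4 D46084) (iv5 D22011) F66240 D40547 (iv4 F72664) (iv5 D46099) F72671 F72672
theorem F72676 : act 0 n46102 = n41673 := d18_2 (iv1 F64203) D46102 (iv4 D41673) (iv5 D19618) F14412 D19155 (iv4 F66244) F31369 (iv5 F64201)
def n46103 : Q := act 5 n22019
theorem D46103 : act 5 n22019 = n46103 := rfl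
theorem F72677 : act 2 n46103 = n22412 := d2_1 D46103 F64198 F72672
theorem F72678 : act 4 n46103 = n40552 := d9_1 D46103 (iv5 D40552) (iv4 F66244) D22016 D46091 (iv5 F72667) (iv4 D46098) D46099 F72664 (iv5 D40547) (iv4 F66240) D22011 D46084 (iv5 F72675) (iv4 D46102)
theorem F72679 : act 7 n46103 = n22887 := d13_2 F72674 D46103 (iv5 F64204)
theorem F72680 : act 1 n46103 = n22890 := d17_8 F65690 (iv5 D10203) (iv1 F65723) F7136 (iv4 F6884) D10496 D22019 D46103 F35957
theorem F72681 : act 6 n22240 = n46103 := d21_5 D10483 (iv1 F17116) (iv5 D10603) D10604 D22240 (iv5 D46103) (iv1 D22019) (iv5 D10496) (iv6 D4786) D4782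
theorem F72682 : act 1 n22350 = n46103 := d15_0 F72680 (iv7 D22890) (iv2 F34888)
def n46104 : Q := act 6 n22019
theorem D46104 : act 6 n22019 = n46104 := rfl
def n46105 : Q := act 0 n22020
theorem D46105 : act 0 n22020 = n46105 := rfl
def n46106 : Q := act 1 n22020
theorem D46106 : act 1 n22020 = n46106 := rfl
theorem F72683 : act 4 n46106 = n44884 := d18_7 (iv1 F66221) (iv4 D10202) (iv1 F65723) (iv4 F6884) D10496 D22020 D46106 F70519 F64294
def n46107 : Q := act 3 n22020
theorem D46107 : act 3 n22020 = n46107 := rfl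
def n46108 : Q := act 5 n22020
theorem D46108 : act 5 n22020 = n46108 := rfl
theorem F72684 : act 4 n46108 = n41605 := d16_2 D22020 D46108 F64201 F31366 F14398 (iv4 F31366) (iv5 F64201) (iv7 D41605) F31364
theorem F72685 : act 7 n46108 = n41604 := d16_8 (iv4 D22020) (iv5 D10496) F6884 F7136 (iv4 F6884) D10496 D22020 D46108 F64199
theorem F72686 : act 1 n46106 = n46108 := d15_1 D46106 F72685 F64199
def n46109 : Q := act 7 n22020
theorem D46109 : act 7 n22020 = n46109 := rfl
theorem F72687 : act 2 n46109 = n46108 := d4_1 D46109 F72685 F64199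
theorem F72688 : act 4 n46109 = n22021 := d11_1 D46109 (iv7 D22021) D22020
theorem F72689 : act 5 n46109 = n41604 := d13_1 D46109 (iv7 F72685) (iv5 D46108)
theorem F72690 : act 1 n46108 = n46105 := d15_0 (iv0 D46105) D46109 F72687
def n46110 : Q := act 6 n22021
theorem D46110 : act 6 n22021 = n46110 := rfl
def n46111 : Q := act 0 n22037
theorem D46111 : act 0 n22037 = n46111 := rfl
theorem F72691 : act 1 n40807 = n46111 := d15_0 (iv0 D46111) (iv7 F64229) (iv2 F65957)
def n46112 : Q := act 1 n22037
theorem D46112 : act 1 n22037 = n46112 := rfl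
theorem F72692 : act 1 n46112 = n40807 := d15_1 D46112 (iv7 F69634) F69632
def n46113 : Q := act 5 n22037
theorem D46113 : act 5 n22037 = n46113 := rfl
theorem F72693 : act 3 n46113 = n22038 := d6_1 D46113 (iv5 D22038) D22037
def n46114 : Q := act 6 n22037
theorem D46114 : act 6 n22037 = n46114 := rfl
theorem F72694 : act 3 n46114 = n22039 := d7_1 D46114 (iv6 D22039) D22037
theorem F72695 : act 4 n46114 = n46114 := d10_1 D46114 (iv6 D46114) F65940
def n46115 : Q := act 4 n22038
theorem D46115 : act 4 n22038 = n46115 := rfl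
theorem F72696 : act 2 n46115 = n44867 := d1_1 D46115 (iv4 D44867) F65793
theorem F72697 : act 5 n46115 = n46106 := d16_1 D46115 F72683 (iv5 D44884) (iv4 D21421) (iv5 D10203) D10202 D21417 F33630 F65793
def n46116 : Q := act 6 n22038
theorem D46116 : act 6 n22038 = n46116 := rfl
theorem F72698 : act 2 n46116 = n44868 := d3_1 D46116 (iv6 D44868) F65793
def n46117 : Q := act 0 n22039
theorem D46117 : act 0 n22039 = n46117 := rfl
def n46118 : Q := act 1 n22039
theorem D46118 : act 1 n22039 = n46118 := rfl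
theorem F72699 : act 1 n46118 = n44872 := d15_1 D46118 (iv7 D44872) F65794
theorem F72700 : act 6 n22787 = n46118 := d21_3 D4920 D10768 D22787 (iv1 D46118) (iv6 D22039) D22038 (iv1 F66266) (iv5 D22782) (iv6 D10767) (iv1 D4919)
def n46119 : Q := act 7 n22039
theorem D46119 : act 7 n22039 = n46119 := rfl
theorem F72701 : act 2 n46119 = n44872 := d4_1 D46119 (iv7 D44872) F65794
theorem F72702 : act 4 n46119 = n22045 := d11_1 D46119 (iv7 D22045) (iv4 F34517)
theorem E8042 : n46117 = n41777 := ((c15_1 (iv0 F70484) (iv0 D46117) D46119 F72701)).symm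
theorem F72703 : act 1 n41777 = n22039 := (sb E8042 (iv0 D46117))
theorem F72704 : act 1 n44870 = n46119 := d15_1 D44870 (iv7 D46119) (iv2 F65794)
theorem F72705 : act 1 n46119 = n44869 := d15_0 (iv0 D44869) D44872 (iv2 F72701)
def n46120 : Q := act 3 n22041
theorem D46120 : act 3 n22041 = n46120 := rfl
theorem F72706 : act 4 n46120 = n46120 := d5_2 D22041 D46120 (iv3 D46120) (iv4 D22041) F65748
def n46121 : Q := act 5 n22041
theorem D46121 : act 5 n22041 = n46121 := rfl
theorem F72707 : act 2 n46121 = n41671 := d2_1 D46121 F66311 F65720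
theorem F72708 : act 7 n46121 = n41672 := d13_2 F35552 D46121 (iv5 F66130)
theorem F72709 : act 0 n46121 = n41674 := d17_2 (iv1 F66257) D46121 F64294 F31388 F30777 F30781 D37861 F69102 F69100
theorem F72710 : act 1 n46121 = n37856 := d17_6 (iv1 F65723) F7136 D4788 D10501 D22041 D46121 (iv5 D37856) (iv0 F66220) (iv4 D10202)
theorem F72711 : act 4 n46121 = n46105 := d18_5 (iv1 F72682) F34889 (iv1 F17367) D22041 D46121 (iv0 D46105) (iv4 D22020) D22019 D46103
theorem F72712 : act 5 n44880 = n46105 := d9_14 (iv5 D46121) (iv4 D22041) (iv5 D10501) D10500 D22038 D46115 F72697 F72683 (iv5 D44884) (iv4 D21421) (iv5 D10203) D10202 D21417 D44880 (iv4 F72711)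
def n46122 : Q := act 6 n22041
theorem D46122 : act 6 n22041 = n46122 := rfl
theorem F72713 : act 2 n46122 = n44874 := d3_1 D46122 (iv6 D44874) F65720
theorem F72714 : act 4 n46122 = n22042 := d10_1 D46122 (iv6 D22042) D22041
theorem F72715 : act 0 n46122 = n45730 := d21_4 D37856 (iv1 F72710) (iv5 D46121) D46122 (iv6 D45730) D45729 F72137 (iv5 D44883) (iv6 D21418) F66220
def n46123 : Q := act 0 n22061
theorem D46123 : act 0 n22061 = n46123 := rfl
def n46124 : Q := act 1 n22061
theorem D46124 : act 1 n22061 = n46124 := rfl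
def n46126 : Q := act 5 n22061
theorem D46126 : act 5 n22061 = n46126 := rfl
def n46128 : Q := act 5 n22064
theorem D46128 : act 5 n22064 = n46128 := rfl
theorem F72723 : act 2 n46128 = n22085 := d2_1 D46128 (iv5 D22085) (iv2 F62865)
theorem F72724 : act 3 n46128 = n41510 := d6_1 D46128 (iv5 D41510) F62878
theorem F72725 : act 7 n46128 = n22080 := d13_2 (iv7 F62866) D46128 (iv5 D22080)
theorem F72726 : act 0 n46128 = n45485 := d18_0 F71785 (iv1 D44131) (iv4 D20972) (iv5 D9956) D9955 (iv0 F62850) F31715 D22064 D46128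
theorem F72727 : act 6 n22087 = n46128 := d21_5 (iv5 D9998) (iv1 F17388) D4819 (iv6 F16715) D22087 (iv5 D46128) (iv1 D22064) D22065 F34535 (iv1 F17390)
theorem F72728 : act 0 n45484 = n46128 := d21_7 (iv5 D43222) (iv1 F63165) F35825 (iv6 F63169) F66798 D22926 (iv5 F71728) (iv5 D46128) (iv6 F67702) (iv1 F67710)
def n46129 : Q := act 1 n22065
theorem D46129 : act 1 n22065 = n46129 := rfl
theorem F72731 : act 1 n46129 = n22090 := d15_1 D46129 (iv7 D22090) (iv2 F34534)
theorem F72732 : act 7 n46129 = n22087 := d15_2 (iv0 F62940) D46129 (iv2 F62992)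
theorem F72733 : act 5 n22494 = n46129 := d21_6 (iv5 D4377) F6268 (iv5 F7106) D4891 D10682 D22494 (iv1 D46129) (iv5 D22065) (iv6 D10509) (iv1 F7293)
theorem F72734 : act 2 n46129 = n22088 := d2_1 F72733 (iv5 F62988) (iv2 F62987)
theorem F72735 : act 4 n46129 = n44036 := d18_5 F63651 (iv4 F68302) (iv1 D43449) (iv4 F62985) F72733 F69318 F33170 F33078 (iv5 F63649)
theorem F72736 : act 3 n46129 = n41513 := d20_3 (iv4 F33170) (iv1 F69318) (iv4 F72735) (iv1 D41513) F31284 D19572 D41552 F64120 (iv3 F63038) (iv1 F33078)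
def n46130 : Q := act 7 n22065
theorem D46130 : act 7 n22065 = n46130 := rfl
theorem F72739 : act 5 n46130 = n22066 := d13_1 D46130 (iv7 D22066) D22065
theorem F72741 : act 1 n22088 = n46130 := d15_1 D22088 (iv7 D46130) F34534
theorem F72742 : act 1 n46130 = n22087 := d15_1 F72741 (iv7 F72732) F72734
def n46131 : Q := act 4 n22067
theorem D46131 : act 4 n22067 = n46131 := rfl
theorem F72743 : act 3 n46131 = n40369 := d5_1 D46131 (iv4 F68902) (iv3 D43834) D43835 F68904
theorem F72744 : act 1 n46131 = n43863 := d18_6 (iv1 F55258) F55261 (iv1 F27912) D32571 F51637 D46131 (iv4 D43863) F33093 F33089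
theorem F72745 : act 0 n46131 = n43860 := d20_1 D46131 (iv4 D43860) F33513 (iv1 D20927) (iv3 D9946) (iv4 F6926) F7307 D4815 D10511 D22067
def n46132 : Q := act 6 n22067
theorem D46132 : act 6 n22067 = n46132 := rfl
def n46133 : Q := act 6 n22068
theorem D46133 : act 6 n22068 = n46133 := rfl
def n46134 : Q := act 6 n22069
theorem D46134 : act 6 n22069 = n46134 := rfl
theorem F72746 : act 2 n46134 = n22071 := d3_1 D46134 (iv6 D22071) D22069
theorem F72747 : act 3 n46134 = n43271 := d7_1 D46134 (iv6 D43271) (iv3 F34540)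
theorem F72748 : act 4 n46134 = n22130 := d10_1 D46134 (iv6 D22130) (iv4 F34541)
theorem F72749 : act 0 n22130 = n43895 := d20_7 F32923 (iv1 F15525) D9890 D20840 (iv1 F69112) (iv3 F72747) F72748 (iv4 D43895) (iv3 D20793) (iv1 F32927)
def n46135 : Q := act 0 n22070
theorem D46135 : act 0 n22070 = n46135 := rfl
theorem F72750 : act 5 n46135 = n22480 := d17_1 D46135 (iv1 F68078) F68076 (iv4 D35022) D35023 F55605 (iv5 D26171) D26170 (iv4 F41516)
theorem F72751 : act 4 n46135 = n29703 := d18_1 D46135 (iv1 D29703) (iv4 F47733) (iv5 F47734) D43860 (iv0 F72745) (iv4 D46131) (iv0 D22067) D22070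
def n46136 : Q := act 1 n22070
theorem D46136 : act 1 n22070 = n46136 := rfl
theorem F72752 : act 5 n46136 = n22481 := d17_7 (iv1 F34696) (iv5 F44595) (iv1 D22132) (iv5 D10552) (iv4 F16710) D22070 D46136 F68079 F68075
theorem F72753 : act 4 n29702 = n46136 := d17_4 F54154 D17032 D35081 F55725 F72752 F68079 F68076 (iv0 F55601) F55349
def n46137 : Q := act 0 n22071
theorem D46137 : act 0 n22071 = n46137 := rfl
def n46138 : Q := act 1 n22071
theorem D46138 : act 1 n22071 = n46138 := rfl
def n46139 : Q := act 5 n22071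
theorem D46139 : act 5 n22071 = n46139 := rfl
theorem F72754 : act 3 n46139 = n22075 := d6_1 D46139 (iv5 D22075) (iv3 F34543)
def n46140 : Q := act 5 n22072
theorem D46140 : act 5 n22072 = n46140 := rfl
theorem F72755 : act 6 n46140 = n22075 := d12_2 D22072 D46140 (iv5 D22075) (iv6 D10513) D10512
def n46141 : Q := act 0 n22075
theorem D46141 : act 0 n22075 = n46141 := rfl
def n46142 : Q := act 4 n22075
theorem D46142 : act 4 n22075 = n46142 := rfl
theorem F72756 : act 1 n46142 = n44099 := d18_6 (iv1 F33064) F62869 (iv1 D10515) (iv4 F16713) D22075 D46142 (iv4 D44099) F69288 F69287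
def n46143 : Q := act 5 n22078
theorem D46143 : act 5 n22078 = n46143 := rfl
theorem F72757 : act 2 n46143 = n41508 := d2_1 D46143 (iv5 D41508) F62917
theorem F72759 : act 7 n46143 = n41510 := d13_2 F62880 D46143 (iv5 D41510)
theorem F72760 : act 0 n46143 = n45515 := d17_2 (iv1 F62860) D46143 (iv5 F71786) F70682 F69709 F69708 (iv5 D44255) F62663 (iv4 F31277)
theorem F72761 : act 1 n41508 = n45657 := d15_0 (iv0 F71999) (iv7 F72759) F72757
theorem F72762 : act 1 n46143 = n45514 := d15_0 (iv0 D45514) (iv7 F64023) (iv2 F72757)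
def n46144 : Q := act 6 n22078
theorem D46144 : act 6 n22078 = n46144 := rfl
theorem F72763 : act 2 n46144 = n41509 := d3_1 D46144 (iv6 D41509) F62917
theorem F72764 : act 3 n46144 = n22081 := d7_1 D46144 (iv6 D22081) D22078
theorem F72765 : act 4 n46144 = n40763 := d10_1 D46144 (iv6 D40763) (iv4 F62862)
theorem F72766 : act 5 n46144 = n22374 := d21_6 (iv5 D4650) D4649 (iv5 F14349) D19541 (iv1 F62860) D46144 (iv1 D22374) (iv5 D10647) (iv6 D4878) (iv1 F14142)
theorem F72767 : act 2 n22374 = n23073 := d2_1 F72766 F64025 (iv2 F72763)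
theorem F72768 : act 4 n22374 = n40965 := d18_5 (iv1 F62526) D44279 F69688 (iv4 F72765) F72766 F66967 (iv4 D42749) F66035 D40960
theorem F72769 : act 1 n41497 = n46144 := d18_8 (iv1 D22374) D22375 F63033 (iv4 D20219) D20220 D42793 (iv0 F67065) (iv4 F63986) F72766
def n46145 : Q := act 0 n22080
theorem D46145 : act 0 n22080 = n46145 := rfl
theorem F72770 : act 5 n46145 = n44010 := d21_2 D22080 D46145 (iv6 D44010) (iv1 D20896) (iv6 D9927) (iv5 D4517) F6487 D1987 D4816 D10514
theorem F72771 : act 1 n22085 = n46145 := d15_0 (iv0 D46145) (iv7 F72725) F72723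
theorem F72772 : act 1 n44010 = n22494 := d17_8 (iv1 F68307) (iv5 F69424) (iv1 F69425) (iv5 D20945) F62869 D22085 F72771 F72770 F62985
theorem F72773 : act 1 n43500 = n42297 := d18_6 (iv1 D46129) F69501 (iv1 D44152) (iv4 D20994) (iv5 F35891) (iv4 F68359) (iv4 F69242) F72772 F72733
theorem F72774 : act 2 n45484 = n46145 := d2_3 F72770 F69241 (iv5 F71728)
theorem F72776 : act 1 n22080 = n45636 := d15_1 (iv0 D46145) F71953 F72774
theorem F72777 : act 1 n45636 = n22085 := d15_1 F72776 (iv7 F62939) (iv2 F62942)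
def n46146 : Q := act 4 n22080
theorem D46146 : act 4 n22080 = n46146 := rfl
theorem F72782 : act 0 n46146 = n44128 := d20_1 D46146 (iv4 D44128) F66669 (iv1 F33154) (iv3 F33158) D44137 (iv1 F72007) (iv4 D45637) D45636 (iv1 F72776)
def n46148 : Q := act 0 n22081
theorem D46148 : act 0 n22081 = n46148 := rfl
theorem F72784 : act 1 n42023 = n46148 := d15_0 (iv0 D46148) (iv7 F71739) (iv2 F71737)
def n46149 : Q := act 1 n22081
theorem D46149 : act 1 n22081 = n46149 := rfl
theorem F72785 : act 1 n46149 = n42023 := d15_1 D46149 F64887 (iv2 F62943)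
def n46150 : Q := act 5 n22081
theorem D46150 : act 5 n22081 = n46150 := rfl
theorem F72786 : act 2 n46150 = n42573 := d2_1 D46150 F66404 (iv2 F62943)
theorem F72787 : act 3 n46150 = n22374 := d6_1 D46150 (iv5 F72766) F72764
theorem F72788 : act 7 n46150 = n42568 := d13_2 F71739 D46150 (iv5 F71738)
theorem F72789 : act 4 n46150 = n42245 := d18_5 (iv1 F65129) (iv4 F69431) (iv1 D44085) (iv4 F62941) D46150 F65247 F31907 F31773 (iv5 F65123)
theorem F72790 : act 0 n46150 = n43221 := d21_7 (iv5 D4517) F6487 D1987 D4816 D10514 D22081 D46150 (iv5 D43221) (iv6 D20385) F15054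
theorem E8044 : n42545 = n42469 := (c20_5 (iv4 F67705) F67703 (iv4 D20088) D20087 D42545 F65580 D42749 (iv1 F66967) (iv4 F72768) (iv3 F72787) F72790)
theorem F72791 : act 1 n42469 = n20087 := (sb E8044 (iv0 D42545))
def n46152 : Q := act 3 n22087
theorem D46152 : act 3 n22087 = n46152 := rfl
theorem F72799 : act 6 n46152 = n41510 := d7_2 (iv6 F72727) D46152 (iv3 F72724)
theorem F72801 : act 0 n46152 = n41515 := d20_4 D9965 D21000 F69333 D46152 F64038 (iv4 F64126) (iv1 F64128) F64129 (iv3 D20997) (iv1 D9964)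
theorem F72802 : act 4 n46152 = n40820 := d20_6 (iv4 F64129) (iv1 D22207) (iv4 D10571) (iv3 F16714) D22087 D46152 (iv1 F69631) (iv4 D44253) F62575 (iv1 F64131)
theorem F72803 : act 0 n41504 = n46152 := d20_4 D20998 (iv1 F69499) (iv4 F69501) (iv3 F64009) (iv3 D46152) (iv4 F69333) (iv1 F69332) F69323 F33075 (iv1 F33079)
def n46153 : Q := act 5 n22087
theorem D46153 : act 5 n22087 = n46153 := rfl
theorem F72804 : act 2 n46153 = n45529 := d2_1 D46153 (iv5 D45529) F62992
theorem F72805 : act 7 n46153 = n22494 := d13_2 F72732 D46153 F72733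
theorem F72806 : act 4 n46153 = n43451 := d17_4 (iv1 D10515) D10516 D22087 D46153 (iv5 F68309) (iv0 D20947) (iv5 D9951) D9950 F62869
def n46162 : Q := act 6 n22093
theorem D46162 : act 6 n22093 = n46162 := rfl
theorem F72820 : act 2 n46162 = n36145 := d3_1 D46162 (iv6 D36145) (iv2 F34562)
theorem F72821 : act 3 n46162 = n22094 := d7_1 D46162 (iv6 D22094) D22093
theorem F72822 : act 4 n46162 = n22102 := d10_1 D46162 (iv6 D22102) (iv4 F34558)
def n46163 : Q := act 0 n22094
theorem D46163 : act 0 n22094 = n46163 := rfl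
def n46164 : Q := act 1 n22094
theorem D46164 : act 1 n22094 = n46164 := rfl
theorem F72823 : act 1 n46164 = n40013 := d15_1 D46164 (iv7 D40013) (iv2 F34564)
def n46165 : Q := act 5 n22094
theorem D46165 : act 5 n22094 = n46165 := rfl
theorem F72824 : act 2 n46165 = n40012 := d2_1 D46165 (iv5 D40012) (iv2 F34564)
def n46166 : Q := act 7 n22094
theorem D46166 : act 7 n22094 = n46166 := rfl
theorem F72825 : act 2 n46166 = n40013 := d4_1 D46166 (iv7 D40013) (iv2 F34564)
theorem F72826 : act 4 n46166 = n22098 := d11_1 D46166 (iv7 D22098) (iv4 F34565)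
theorem F72827 : act 6 n46166 = n39988 := d14_1 D46166 (iv7 D39988) (iv6 D18910) (iv7 F16726) D22094
theorem F72828 : act 1 n40013 = n46163 := d15_0 (iv0 D46163) D46166 F72825
theorem F72829 : act 1 n40011 = n46166 := d15_1 D40011 (iv7 D46166) F34564
theorem F72830 : act 1 n46166 = n40010 := d15_0 (iv0 D40010) D40013 (iv2 F72825)
def n46175 : Q := act 5 n22096
theorem D46175 : act 5 n22096 = n46175 := rfl
theorem F72833 : act 6 n40024 = n46175 := d21_5 (iv5 D17848) (iv1 F17412) D8874 (iv6 F30204) D40024 (iv5 D46175) (iv1 D22096) D22097 F34569 (iv1 F29004)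
def n46176 : Q := act 6 n22096
theorem D46176 : act 6 n22096 = n46176 := rfl
theorem F72834 : act 5 n46176 = n40190 := d21_6 (iv5 D39992) (iv1 F34374) F34370 F34371 (iv1 F34566) D46176 (iv1 D40190) F30304 D40058 (iv1 F61190)
def n46177 : Q := act 0 n22097
theorem D46177 : act 0 n22097 = n46177 := rfl
theorem F72835 : act 6 n46177 = n40022 := d21_5 (iv5 D8413) F17405 D10533 (iv6 F34569) D46177 (iv5 D40022) (iv1 D18921) D18922 F30204 (iv1 F17599)
def n46178 : Q := act 1 n22097
theorem D46178 : act 1 n22097 = n46178 := rfl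
theorem F72836 : act 1 n46178 = n40027 := d15_1 D46178 (iv7 D40027) (iv2 F34567)
theorem F72837 : act 5 n40107 = n46178 := d21_6 F13140 F6116 F7027 D8884 D18951 D40107 (iv1 D46178) (iv5 D22097) (iv6 D10532) (iv1 F13142)
def n46179 : Q := act 4 n22097
theorem D46179 : act 4 n22097 = n46179 := rfl
def n46180 : Q := act 7 n22097
theorem D46180 : act 7 n22097 = n46180 := rfl
theorem F72840 : act 2 n46180 = n40027 := d4_1 D46180 (iv7 D40027) (iv2 F34567)
theorem F72841 : act 3 n46180 = n22120 := d8_1 D46180 (iv7 D22120) (iv3 F34568)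
theorem F72842 : act 5 n46180 = n22098 := d13_1 D46180 (iv7 D22098) D22097
theorem F72843 : act 6 n46180 = n46180 := d14_1 D46180 (iv7 D46180) F34569 F16731 (iv6 F34569)
theorem F72844 : act 1 n40027 = n46177 := d15_0 (iv0 D46177) D46180 F72840
theorem F72845 : act 1 n40025 = n46180 := d15_1 D40025 (iv7 D46180) F34567
theorem F72846 : act 0 n40024 = n46180 := d21_10 F72842 (iv1 F34574) D40022 (iv6 F72835) (iv1 F72844) F60884 F60883 (iv1 F34566) D46175 (iv6 F72833)
def n46181 : Q := act 3 n22099
theorem D46181 : act 3 n22099 = n46181 := rfl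
theorem F72847 : act 4 n46181 = n22123 := d5_2 D22099 D46181 (iv3 D22123) (iv4 D10548) (iv3 F16730)
theorem F72848 : act 7 n46181 = n46181 := d8_2 F34577 D46181 (iv3 D46181)
def n46183 : Q := act 3 n22100
theorem D46183 : act 3 n22100 = n46183 := rfl
theorem F72852 : act 5 n46183 = n36512 := d6_2 (iv5 F34578) D46183 (iv3 D36512)
def n46185 : Q := act 6 n22101
theorem D46185 : act 6 n22101 = n46185 := rfl
theorem F72853 : act 2 n46185 = n22102 := d3_1 D46185 (iv6 D22102) D22101
theorem F72854 : act 4 n46185 = n36145 := d10_1 D46185 (iv6 D36145) (iv4 F34580)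
def n46186 : Q := act 0 n22102
theorem D46186 : act 0 n22102 = n46186 := rfl
def n46187 : Q := act 1 n22102
theorem D46187 : act 1 n22102 = n46187 := rfl
def n46188 : Q := act 5 n22102
theorem D46188 : act 5 n22102 = n46188 := rfl
theorem F72855 : act 3 n46188 = n22105 := d6_1 D46188 (iv5 D22105) (iv3 F34583)
theorem F72856 : act 6 n46188 = n35406 := d12_2 D22102 D46188 (iv5 D35406) (iv6 D17176) (iv5 F16732)
def n46189 : Q := act 7 n22102
theorem D46189 : act 7 n22102 = n46189 := rfl
theorem F72857 : act 3 n46189 = n22106 := d8_1 D46189 (iv7 D22106) (iv3 F34583)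
def n46190 : Q := act 0 n22105
theorem D46190 : act 0 n22105 = n46190 := rfl
def n46191 : Q := act 1 n22105
theorem D46191 : act 1 n22105 = n46191 := rfl
def n46192 : Q := act 4 n22105
theorem D46192 : act 4 n22105 = n46192 := rfl
def n46193 : Q := act 7 n22105
theorem D46193 : act 7 n22105 = n46193 := rfl
theorem F72858 : act 5 n46193 = n22106 := d13_1 D46193 (iv7 D22106) D22105
def n46196 : Q := act 3 n22107
theorem D46196 : act 3 n22107 = n46196 := rfl
theorem F72861 : act 7 n46196 = n22113 := d8_2 F34585 D46196 (iv3 D22113)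
def n46197 : Q := act 4 n22107
theorem D46197 : act 4 n22107 = n46197 := rfl
theorem F72862 : act 2 n46197 = n22109 := d1_1 D46197 (iv4 D22109) D22107
theorem F72863 : act 7 n46197 = n22114 := d11_2 F34585 D46197 (iv4 D22114)
def n46198 : Q := act 5 n22107
theorem D46198 : act 5 n22107 = n46198 := rfl
theorem F72864 : act 2 n46198 = n22110 := d2_1 D46198 (iv5 D22110) D22107
theorem F72865 : act 7 n46198 = n22115 := d13_2 F34585 D46198 (iv5 D22115)
def n46199 : Q := act 6 n22107
theorem D46199 : act 6 n22107 = n46199 := rfl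
theorem F72866 : act 2 n46199 = n22111 := d3_1 D46199 (iv6 D22111) D22107
def n46205 : Q := act 6 n22108
theorem D46205 : act 6 n22108 = n46205 := rfl
theorem F72868 : act 3 n46205 = n22111 := d7_1 D46205 (iv6 D22111) D22108
def n46207 : Q := act 0 n22109
theorem D46207 : act 0 n22109 = n46207 := rfl
def n46208 : Q := act 1 n22109
theorem D46208 : act 1 n22109 = n46208 := rfl
theorem F72870 : act 1 n46208 = n22114 := d15_1 D46208 (iv7 F72863) F72862
def n46209 : Q := act 3 n22109
theorem D46209 : act 3 n22109 = n46209 := rfl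
def n46210 : Q := act 5 n22109
theorem D46210 : act 5 n22109 = n46210 := rfl
def n46211 : Q := act 6 n22109
theorem D46211 : act 6 n22109 = n46211 := rfl
theorem F72871 : act 4 n46211 = n22111 := d10_1 D46211 (iv6 D22111) D22109
def n46212 : Q := act 7 n22109
theorem D46212 : act 7 n22109 = n46212 := rfl
theorem F72872 : act 2 n46212 = n22114 := d4_1 D46212 (iv7 F72863) F72862
theorem F72873 : act 4 n46212 = n22112 := d11_1 D46212 (iv7 D22112) D22109
theorem F72874 : act 1 n22114 = n46207 := d15_0 (iv0 D46207) D46212 F72872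
def n46213 : Q := act 0 n22110
theorem D46213 : act 0 n22110 = n46213 := rfl
theorem F72875 : act 5 n46213 = n45835 := d21_2 D22110 D46213 (iv6 D45835) (iv1 D21921) (iv6 D10455) (iv5 D4755) F3288 D1990 D4824 D10536
def n46214 : Q := act 1 n22110
theorem D46214 : act 1 n22110 = n46214 := rfl
theorem F72876 : act 1 n46214 = n22115 := d15_1 D46214 (iv7 F72865) F72864
def n46215 : Q := act 4 n22110
theorem D46215 : act 4 n22110 = n46215 := rfl
def n46216 : Q := act 6 n22110
theorem D46216 : act 6 n22110 = n46216 := rfl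
def n46217 : Q := act 7 n22110
theorem D46217 : act 7 n22110 = n46217 := rfl
theorem F72877 : act 2 n46217 = n22115 := d4_1 D46217 (iv7 F72865) F72864
theorem F72878 : act 5 n46217 = n22112 := d13_1 D46217 (iv7 D22112) D22110
theorem F72879 : act 1 n22115 = n46213 := d15_0 (iv0 D46213) D46217 F72877
theorem F72880 : act 0 n22116 = n45881 := d21_10 (iv5 D45881) (iv1 F57780) F57776 (iv6 F56861) (iv1 F56863) D45835 (iv5 F72875) (iv1 F72879) (iv5 D22115) D22116
def n46218 : Q := act 0 n22111
theorem D46218 : act 0 n22111 = n46218 := rfl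
def n46219 : Q := act 1 n22111
theorem D46219 : act 1 n22111 = n46219 := rfl
def n46220 : Q := act 7 n22111
theorem D46220 : act 7 n22111 = n46220 := rfl
def n46221 : Q := act 6 n22112
theorem D46221 : act 6 n22112 = n46221 := rfl
theorem F72881 : act 2 n46221 = n22116 := d3_1 D46221 (iv6 D22116) (iv2 F34586)
def n46222 : Q := act 0 n22113
theorem D46222 : act 0 n22113 = n46222 := rfl
def n46223 : Q := act 1 n22113
theorem D46223 : act 1 n22113 = n46223 := rfl
def n46224 : Q := act 2 n22113
theorem D46224 : act 2 n22113 = n46224 := rfl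
def n46225 : Q := act 4 n22113
theorem D46225 : act 4 n22113 = n46225 := rfl
def n46226 : Q := act 5 n22113
theorem D46226 : act 5 n22113 = n46226 := rfl
def n46227 : Q := act 6 n22113
theorem D46227 : act 6 n22113 = n46227 := rfl
def n46228 : Q := act 3 n22114
theorem D46228 : act 3 n22114 = n46228 := rfl
def n46229 : Q := act 5 n22114
theorem D46229 : act 5 n22114 = n46229 := rfl
def n46230 : Q := act 6 n22114
theorem D46230 : act 6 n22114 = n46230 := rfl
theorem F72884 : act 4 n46230 = n22116 := d10_1 D46230 (iv6 D22116) D22114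
def n46231 : Q := act 4 n22115
theorem D46231 : act 4 n22115 = n46231 := rfl
def n46232 : Q := act 1 n22116
theorem D46232 : act 1 n22116 = n46232 := rfl
def n46233 : Q := act 5 n22116
theorem D46233 : act 5 n22116 = n46233 := rfl
theorem F72885 : act 0 n38647 = n46233 := d21_1 D38647 (iv5 D46233) (iv6 D22116) (iv1 D10537) (iv6 D4824) (iv5 D1990) (iv1 F3290) D4757 D10461 F59748
theorem F72886 : act 4 n46233 = n38747 := d18_1 F72885 (iv1 D38747) F29585 F13579 D18268 F59096 F59754 (iv0 D38644) D38647
theorem F72887 : act 1 n38666 = n46233 := d15_0 (iv0 F72885) (iv7 F61167) F61162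
theorem F72888 : act 0 n38667 = n45762 := d21_10 (iv5 D45762) (iv1 F34344) F16688 D21969 (iv1 F34466) D22116 D46233 (iv1 F72887) (iv5 D38666) D38667
theorem F72889 : act 0 n34646 = n46230 := d18_2 (iv1 F54889) D34646 F72884 D46233 F72886 F59522 (iv4 D38233) F59571 (iv5 F54884)
def n46234 : Q := act 7 n22116
theorem D46234 : act 7 n22116 = n46234 := rfl
def n46235 : Q := act 2 n22117
theorem D46235 : act 2 n22117 = n46235 := rfl
theorem F72890 : act 7 n22118 = n46235 := d15_2 (iv0 D22117) D22118 (iv2 D46235)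
def n46236 : Q := act 3 n22117
theorem D46236 : act 3 n22117 = n46236 := rfl
def n46237 : Q := act 4 n22117
theorem D46237 : act 4 n22117 = n46237 := rfl
def n46238 : Q := act 5 n22117
theorem D46238 : act 5 n22117 = n46238 := rfl
def n46239 : Q := act 7 n22117
theorem D46239 : act 7 n22117 = n46239 := rfl
theorem F72891 : act 2 n46239 = n22118 := d4_1 D46239 F72890 (iv2 D46235)
def n46240 : Q := act 3 n22118
theorem D46240 : act 3 n22118 = n46240 := rfl
def n46241 : Q := act 4 n22118
theorem D46241 : act 4 n22118 = n46241 := rfl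
def n46242 : Q := act 5 n22118
theorem D46242 : act 5 n22118 = n46242 := rfl
theorem F72892 : act 6 n41395 = n46242 := d21_5 (iv5 F12103) (iv1 F12104) (iv5 F14311) D19497 D41395 (iv5 D46242) (iv1 D22118) (iv5 D10538) (iv6 D4824) (iv1 F6874)
def n46243 : Q := act 6 n22118
theorem D46243 : act 6 n22118 = n46243 := rfl
def n46244 : Q := act 0 n22119
theorem D46244 : act 0 n22119 = n46244 := rfl
def n46245 : Q := act 3 n22119
theorem D46245 : act 3 n22119 = n46245 := rfl
theorem F72893 : act 6 n46245 = n22123 := d7_2 (iv6 F34587) D46245 (iv3 D22123)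
def n46248 : Q := act 0 n22121
theorem D46248 : act 0 n22121 = n46248 := rfl
def n46249 : Q := act 1 n22121
theorem D46249 : act 1 n22121 = n46249 := rfl
def n46250 : Q := act 7 n22121
theorem D46250 : act 7 n22121 = n46250 := rfl
theorem F72896 : act 3 n46250 = n36970 := d8_1 D46250 (iv7 D36970) (iv3 F34590)
def n46251 : Q := act 0 n22122
theorem D46251 : act 0 n22122 = n46251 := rfl
def n46252 : Q := act 1 n22122
theorem D46252 : act 1 n22122 = n46252 := rfl
theorem F72898 : act 1 n46252 = n46250 := d15_1 D46252 (iv7 D46250) (iv2 F34591)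
def n46253 : Q := act 7 n22122
theorem D46253 : act 7 n22122 = n46253 := rfl
theorem F72899 : act 2 n46253 = n46250 := d4_1 D46253 (iv7 D46250) (iv2 F34591)
theorem F72900 : act 3 n46253 = n45561 := d8_1 D46253 (iv7 D45561) (iv3 F34592)
theorem F72902 : act 1 n46250 = n46251 := d15_0 (iv0 D46251) D46253 F72899
theorem F72903 : act 1 n46249 = n46253 := d15_1 D46249 (iv7 D46253) F34591
theorem F72904 : act 1 n46253 = n46248 := d15_0 (iv0 D46248) D46250 (iv2 F72899)
def n46255 : Q := act 1 n22123
theorem D46255 : act 1 n22123 = n46255 := rfl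
def n46256 : Q := act 2 n22123
theorem D46256 : act 2 n22123 = n46256 := rfl
theorem F72905 : act 7 n46256 = n46256 := d4_2 F34593 D46256 (iv2 D46256)
theorem F72907 : act 1 n46255 = n46256 := d15_1 D46255 F72905 (iv2 D46256)
def n46257 : Q := act 5 n22123
theorem D46257 : act 5 n22123 = n46257 := rfl
theorem F72908 : act 3 n46257 = n22124 := d6_1 D46257 (iv5 D22124) D22123
def n46259 : Q := act 5 n22125
theorem D46259 : act 5 n22125 = n46259 := rfl
theorem F72911 : act 2 n46259 = n40592 := d2_1 D46259 (iv5 D40592) (iv2 F34596)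
theorem F72912 : act 3 n46259 = n22126 := d6_1 D46259 (iv5 D22126) D22125
theorem F72913 : act 1 n46259 = n45910 := d17_8 (iv1 D21952) (iv5 F29554) (iv1 F59337) (iv5 D38489) D38488 F71633 F70212 D46259 (iv4 D45910)
theorem F72914 : act 0 n46259 = n45907 := d18_0 (iv4 D45907) (iv1 F54807) (iv4 F54814) (iv5 F58716) D41627 (iv0 F71631) F71629 F70212 D46259
theorem F72915 : act 5 n40880 = n45910 := d17_1 D40880 (iv1 F72913) (iv5 D46259) F34597 D45363 F71517 F70248 (iv0 D21481) (iv4 F30926)
theorem F72916 : act 5 n37511 = n22301 := d6_2 F72915 (iv3 F72502) (iv3 F61985)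
theorem E8045 : n41465 = n22302 := ((c17_6 F63908 (iv5 D37513) D37511 F72916 (iv4 D22301) D22302 (iv0 D41465) (iv5 D19524) D19522 D41461)).symm
theorem F72917 : act 0 n22302 = n40315 := (sb E8045 (iv1 F63913))
theorem F72918 : act 1 n22302 = n19524 := (sb E8045 (iv0 D41465))
theorem F72919 : act 4 n22302 = n37247 := (sb E8045 F63912)
theorem E8046 : n41466 = n22307 := (c15_2 F72918 D41466 (iv7 F72121) F72120)
theorem F72920 : act 0 n22307 = n19524 := (sb E8046 (iv1 D41466))
theorem F72921 : act 1 n22307 = n40315 := (sb E8046 F63914)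
theorem F72922 : act 4 n22307 = n37246 := (sb E8046 (iv4 F70920))
def n46260 : Q := act 6 n22125
theorem D46260 : act 6 n22125 = n46260 := rfl
theorem F72923 : act 2 n46260 = n40593 := d3_1 D46260 (iv6 D40593) (iv2 F34596)
theorem F72924 : act 3 n46260 = n22127 := d7_1 D46260 (iv6 D22127) D22125
theorem F72925 : act 4 n46260 = n45364 := d10_1 D46260 (iv6 D45364) (iv4 F34597)
def n46261 : Q := act 4 n22126
theorem D46261 : act 4 n22126 = n46261 := rfl
def n46262 : Q := act 6 n22126
theorem D46262 : act 6 n22126 = n46262 := rfl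
def n46263 : Q := act 0 n22127
theorem D46263 : act 0 n22127 = n46263 := rfl
def n46264 : Q := act 1 n22127
theorem D46264 : act 1 n22127 = n46264 := rfl
def n46265 : Q := act 5 n22127
theorem D46265 : act 5 n22127 = n46265 := rfl
def n46266 : Q := act 7 n22127
theorem D46266 : act 7 n22127 = n46266 := rfl
def n46267 : Q := act 6 n22128
theorem D46267 : act 6 n22128 = n46267 := rfl
theorem F72926 : act 3 n46267 = n40599 := d7_1 D46267 (iv6 D40599) (iv3 F34598)
def n46268 : Q := act 1 n22129
theorem D46268 : act 1 n22129 = n46268 := rfl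
def n46269 : Q := act 5 n22129
theorem D46269 : act 5 n22129 = n46269 := rfl
theorem F72927 : act 3 n46269 = n40602 := d6_1 D46269 (iv5 D40602) (iv3 F34599)
def n46270 : Q := act 1 n22130
theorem D46270 : act 1 n22130 = n46270 := rfl
theorem F72928 : act 1 n46270 = n22138 := d15_1 D46270 (iv7 D22138) (iv2 F34601)
theorem F72929 : act 7 n46270 = n22135 := d15_2 (iv0 F72749) D46270 (iv2 F69013)
theorem F72930 : act 2 n22136 = n46270 := d4_3 F72929 (iv2 F69013) F69012
def n46271 : Q := act 5 n22130
theorem D46271 : act 5 n22130 = n46271 := rfl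
theorem F72931 : act 2 n46271 = n22137 := d2_1 D46271 (iv5 D22137) (iv2 F34601)
def n46272 : Q := act 7 n22130
theorem D46272 : act 7 n22130 = n46272 := rfl
theorem F72932 : act 2 n46272 = n22138 := d4_1 D46272 (iv7 D22138) (iv2 F34601)
theorem F72933 : act 1 n22136 = n46272 := d15_1 D22136 (iv7 D46272) F34601
theorem F72934 : act 1 n46272 = n22135 := d15_1 F72933 (iv7 F72929) (iv2 F72930)
def n46273 : Q := act 3 n22131
theorem D46273 : act 3 n22131 = n46273 := rfl
theorem F72935 : act 2 n46273 = n40613 := d0_1 D46273 (iv3 D40613) (iv2 F36426) (iv3 F60113) F60116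
theorem F72936 : act 5 n46273 = n22504 := d6_2 (iv5 F34602) D46273 (iv3 D22504)
theorem F72937 : act 0 n38492 = n46273 := d17_2 D44661 (iv5 F71577) F72936 F35057 D44990 F70748 F70121 (iv0 D21274) (iv4 F33492)
def n46274 : Q := act 4 n22131
theorem D46274 : act 4 n22131 = n46274 := rfl
theorem F72938 : act 3 n46274 = n27429 := d20_3 (iv4 D22133) D22131 D46274 (iv1 F44344) (iv3 D16221) (iv4 D7564) (iv1 F9800) D13255 D27766 F59413
def n46275 : Q := act 6 n22131
theorem D46275 : act 6 n22131 = n46275 := rfl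
def n46276 : Q := act 4 n22132
theorem D46276 : act 4 n22132 = n46276 := rfl
def n46277 : Q := act 6 n22132
theorem D46277 : act 6 n22132 = n46277 := rfl
theorem F72939 : act 3 n46277 = n40615 := d7_1 D46277 (iv6 D40615) (iv3 F44594)
def n46278 : Q := act 6 n22133
theorem D46278 : act 6 n22133 = n46278 := rfl
theorem F72940 : act 4 n46278 = n22134 := d10_1 D46278 (iv6 D22134) D22133
def n46279 : Q := act 0 n22134
theorem D46279 : act 0 n22134 = n46279 := rfl
def n46280 : Q := act 1 n22134
theorem D46280 : act 1 n22134 = n46280 := rfl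
def n46281 : Q := act 5 n22134
theorem D46281 : act 5 n22134 = n46281 := rfl
theorem F72941 : act 3 n46281 = n22141 := d6_1 D46281 (iv5 D22141) (iv3 F34603)
theorem F72942 : act 6 n46281 = n22137 := d12_2 D22134 D46281 (iv5 D22137) (iv6 D10553) D10552
def n46282 : Q := act 7 n22134
theorem D46282 : act 7 n22134 = n46282 := rfl
theorem F72943 : act 3 n46282 = n22142 := d8_1 D46282 (iv7 D22142) (iv3 F34603)
def n46283 : Q := act 3 n22135
theorem D46283 : act 3 n22135 = n46283 := rfl
theorem F72944 : act 2 n46283 = n40621 := d0_1 D46283 (iv3 D40621) (iv2 F66307) (iv3 F69011) F69013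
def n46284 : Q := act 5 n22135
theorem D46284 : act 5 n22135 = n46284 := rfl
def n46285 : Q := act 6 n22135
theorem D46285 : act 6 n22135 = n46285 := rfl
def n46286 : Q := act 5 n22136
theorem D46286 : act 5 n22136 = n46286 := rfl
theorem F72945 : act 3 n46286 = n40628 := d6_1 D46286 (iv5 D40628) (iv3 F66229)
def n46287 : Q := act 6 n22136
theorem D46287 : act 6 n22136 = n46287 := rfl
theorem F72946 : act 3 n46287 = n40629 := d7_1 D46287 (iv6 D40629) (iv3 F66229)
def n46288 : Q := act 0 n22137
theorem D46288 : act 0 n22137 = n46288 := rfl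
def n46289 : Q := act 1 n22137
theorem D46289 : act 1 n22137 = n46289 := rfl
def n46290 : Q := act 4 n22137
theorem D46290 : act 4 n22137 = n46290 := rfl
def n46291 : Q := act 7 n22137
theorem D46291 : act 7 n22137 = n46291 := rfl
theorem F72948 : act 5 n46291 = n22138 := d13_1 D46291 (iv7 D22138) D22137
def n46292 : Q := act 2 n22139
theorem D46292 : act 2 n22139 = n46292 := rfl
theorem F72949 : act 7 n22140 = n46292 := d15_2 (iv0 D22139) D22140 (iv2 D46292)
def n46293 : Q := act 3 n22139
theorem D46293 : act 3 n22139 = n46293 := rfl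
def n46294 : Q := act 4 n22139
theorem D46294 : act 4 n22139 = n46294 := rfl
def n46295 : Q := act 5 n22139
theorem D46295 : act 5 n22139 = n46295 := rfl
def n46296 : Q := act 6 n22139
theorem D46296 : act 6 n22139 = n46296 := rfl
def n46297 : Q := act 7 n22139
theorem D46297 : act 7 n22139 = n46297 := rfl
theorem F72950 : act 2 n46297 = n22140 := d4_1 D46297 F72949 (iv2 D46292)
def n46298 : Q := act 3 n22140
theorem D46298 : act 3 n22140 = n46298 := rfl
def n46299 : Q := act 4 n22140
theorem D46299 : act 4 n22140 = n46299 := rfl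
def n46300 : Q := act 5 n22140
theorem D46300 : act 5 n22140 = n46300 := rfl
def n46301 : Q := act 6 n22140
theorem D46301 : act 6 n22140 = n46301 := rfl
def n46302 : Q := act 0 n22141
theorem D46302 : act 0 n22141 = n46302 := rfl
def n46303 : Q := act 1 n22141
theorem D46303 : act 1 n22141 = n46303 := rfl
def n46304 : Q := act 4 n22141
theorem D46304 : act 4 n22141 = n46304 := rfl
theorem F72951 : act 6 n46304 = n22155 := d10_2 (iv6 F34606) D46304 (iv4 D22155)
def n46305 : Q := act 7 n22141
theorem D46305 : act 7 n22141 = n46305 := rfl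
theorem F72952 : act 5 n46305 = n22142 := d13_1 D46305 (iv7 D22142) D22141
def n46306 : Q := act 1 n22144
theorem D46306 : act 1 n22144 = n46306 := rfl
def n46307 : Q := act 2 n22144
theorem D46307 : act 2 n22144 = n46307 := rfl
theorem F72953 : act 4 n46307 = n45454 := d1_2 (iv4 F62907) D46307 (iv2 D45454)
theorem F72954 : act 1 n46307 = n40354 := d15_0 (iv0 F66332) F64091 D46307
def n46308 : Q := act 5 n22144
theorem D46308 : act 5 n22144 = n46308 := rfl
theorem F72955 : act 3 n46308 = n22146 := d6_1 D46308 (iv5 D22146) D22144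
def n46309 : Q := act 6 n22144
theorem D46309 : act 6 n22144 = n46309 := rfl
theorem F72956 : act 3 n46309 = n22147 := d7_1 D46309 (iv6 D22147) D22144
theorem F72957 : act 4 n46309 = n45456 := d10_1 D46309 (iv6 D45456) (iv4 F62907)
def n46310 : Q := act 5 n22145
theorem D46310 : act 5 n22145 = n46310 := rfl
theorem F72961 : act 0 n46310 = n44136 := d17_2 (iv1 F62896) D46310 (iv5 F69473) F68137 F71988 F71987 (iv5 D41547) F62367 (iv4 F29323)
def n46311 : Q := act 6 n22145
theorem D46311 : act 6 n22145 = n46311 := rfl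
theorem F72964 : act 2 n46311 = n38005 := d3_1 D46311 (iv6 D38005) (iv2 F62897)
theorem F72965 : act 3 n46311 = n40705 := d7_1 D46311 (iv6 D40705) (iv3 F62238)
theorem F72966 : act 4 n46311 = n22147 := d10_1 D46311 (iv6 D22147) D22145
theorem F72967 : act 5 n46311 = n40877 := d21_6 F7060 F6469 (iv5 F13397) D18150 (iv1 F62896) D46311 (iv1 D40877) (iv5 D19268) (iv6 D9060) (iv1 F12196)
theorem E8047 : n42556 = n40877 := ((c2_1 F72967 (iv2 D42556) F62933 (iv2 F72964))).symm
theorem F72968 : act 2 n40877 = n20092 := (sb E8047 (iv2 D42556))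
theorem F72969 : act 1 n41752 = n46311 := d18_8 (iv1 D40877) D40878 F63067 (iv4 D23132) F62669 (iv4 F64399) (iv0 D41755) (iv4 F64397) F72967
def n46312 : Q := act 0 n22146
theorem D46312 : act 0 n22146 = n46312 := rfl
theorem F72970 : act 5 n46312 = n45746 := d17_3 D10555 D22146 D46312 F72195 (iv5 F62641) (iv0 D21799) (iv5 D10406) (iv0 F62631) (iv4 F6970)
theorem F72971 : act 1 n22151 = n46312 := d15_0 (iv0 D46312) (iv7 F64093) F64092
def n46313 : Q := act 1 n22146
theorem D46313 : act 1 n22146 = n46313 := rfl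
theorem F72972 : act 1 n46313 = n22151 := d15_1 D46313 (iv7 F64088) F64087
def n46314 : Q := act 4 n22146
theorem D46314 : act 4 n22146 = n46314 := rfl
def n46315 : Q := act 6 n22146
theorem D46315 : act 6 n22146 = n46315 := rfl
def n46316 : Q := act 7 n22147
theorem D46316 : act 7 n22147 = n46316 := rfl
def n46317 : Q := act 0 n22149
theorem D46317 : act 0 n22149 = n46317 := rfl
def n46318 : Q := act 1 n22149
theorem D46318 : act 1 n22149 = n46318 := rfl
def n46319 : Q := act 2 n22149
theorem D46319 : act 2 n22149 = n46319 := rfl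
theorem F72973 : act 4 n46319 = n44140 := d1_2 (iv4 F63030) D46319 (iv2 D44140)
def n46320 : Q := act 5 n22149
theorem D46320 : act 5 n22149 = n46320 := rfl
theorem F72974 : act 3 n46320 = n22151 := d6_1 D46320 (iv5 D22151) D22149
def n46321 : Q := act 6 n22149
theorem D46321 : act 6 n22149 = n46321 := rfl
theorem F72975 : act 3 n46321 = n22152 := d7_1 D46321 (iv6 D22152) D22149
theorem F72976 : act 4 n46321 = n44142 := d10_1 D46321 (iv6 D44142) (iv4 F63030)
def n46322 : Q := act 4 n22151
theorem D46322 : act 4 n22151 = n46322 := rfl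
def n46323 : Q := act 6 n22151
theorem D46323 : act 6 n22151 = n46323 := rfl
def n46324 : Q := act 2 n22153
theorem D46324 : act 2 n22153 = n46324 := rfl
theorem F72977 : act 7 n22154 = n46324 := d15_2 (iv0 D22153) D22154 (iv2 D46324)
def n46325 : Q := act 3 n22153
theorem D46325 : act 3 n22153 = n46325 := rfl
def n46326 : Q := act 4 n22153
theorem D46326 : act 4 n22153 = n46326 := rfl
def n46327 : Q := act 5 n22153
theorem D46327 : act 5 n22153 = n46327 := rfl
theorem F72979 : act 6 n46327 = n22848 := d21_3 D10557 D22153 D46327 (iv1 D22848) (iv6 D10793) D10792 D22843 F35955 (iv6 D22152) (iv1 D10556)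
theorem F72980 : act 7 n22526 = n46327 := d14_0 F72979 F63018 (iv6 F63021) F62955 D22526
theorem F72981 : act 7 n22153 = n41543 := d13_2 F72980 (iv5 D46327) (iv5 F64099)
theorem F72982 : act 2 n41543 = n22154 := d4_1 F72981 F72977 (iv2 D46324)
theorem E8048 : n46324 = n41542 := (c15_4 (iv0 D41542) D41543 (iv7 F72981) D46324)
theorem F72983 : act 2 n41542 = n22153 := (sb E8048 (iv2 D46324))
theorem F72984 : act 7 n41542 = n22154 := (sb E8048 (iv7 F72977))
def n46328 : Q := act 6 n22153
theorem D46328 : act 6 n22153 = n46328 := rfl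
def n46329 : Q := act 3 n22154
theorem D46329 : act 3 n22154 = n46329 := rfl
def n46330 : Q := act 4 n22154
theorem D46330 : act 4 n22154 = n46330 := rfl
def n46331 : Q := act 5 n22154
theorem D46331 : act 5 n22154 = n46331 := rfl
theorem F72987 : act 4 n46331 = n43327 := d17_4 (iv1 F31317) (iv5 F64102) (iv1 F64104) D46331 F68008 F64131 F58845 (iv0 F62895) (iv4 D22145)
theorem F72988 : act 6 n22263 = n46331 := d21_5 D10486 (iv1 F17137) (iv5 D10611) D10612 D22263 (iv5 D46331) (iv1 D22154) (iv5 D10557) (iv6 D4831) (iv1 F6883)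
def n46332 : Q := act 6 n22154
theorem D46332 : act 6 n22154 = n46332 := rfl
def n46338 : Q := act 6 n22156
theorem D46338 : act 6 n22156 = n46338 := rfl
def n46339 : Q := act 0 n22191
theorem D46339 : act 0 n22191 = n46339 := rfl
theorem F72990 : act 1 n40649 = n46339 := d15_0 (iv0 D46339) (iv7 F64107) (iv2 F66323)
def n46340 : Q := act 1 n22191
theorem D46340 : act 1 n22191 = n46340 := rfl
theorem F72991 : act 1 n46340 = n40649 := d15_1 D46340 (iv7 F69187) F69185
def n46341 : Q := act 5 n22191
theorem D46341 : act 5 n22191 = n46341 := rfl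
theorem F72992 : act 3 n46341 = n22192 := d6_1 D46341 (iv5 D22192) D22191
def n46342 : Q := act 6 n22191
theorem D46342 : act 6 n22191 = n46342 := rfl
theorem F72993 : act 3 n46342 = n22193 := d7_1 D46342 (iv6 D22193) D22191
theorem F72994 : act 4 n46342 = n46342 := d10_1 D46342 (iv6 D46342) F62236
def n46344 : Q := act 6 n22192
theorem D46344 : act 6 n22192 = n46344 := rfl
theorem F72996 : act 2 n46344 = n45655 := d3_1 D46344 (iv6 D45655) (iv2 F63050)
def n46345 : Q := act 0 n22193
theorem D46345 : act 0 n22193 = n46345 := rfl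
theorem F72997 : act 5 n46345 = n22330 := d17_1 D46345 (iv1 F34844) F17291 F7344 (iv5 F6076) F14345 D19534 (iv0 F34631) (iv4 F34636)
theorem F72998 : act 4 n46345 = n40401 := d18_3 F35494 (iv4 F34636) D46345 (iv5 D40401) F31268 (iv0 D19527) F14340 D9195 D19539
theorem F72999 : act 2 n22787 = n46345 := d15_3 (iv0 D46345) F64795 (iv7 F64424)
theorem F73000 : act 1 n41993 = n46345 := d15_0 (iv0 D46345) (iv7 F64466) (iv2 F64790)
theorem F73001 : act 7 n46345 = n22792 := d15_2 (iv0 F64794) F73000 (iv2 F64420)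
theorem F73002 : act 6 n46345 = n44870 := d21_3 D10631 D22330 (iv5 F72997) (iv1 D44870) (iv6 D21395) D21394 D44865 F70468 (iv6 D22329) (iv1 D10630)
theorem F73003 : act 2 n44870 = n46118 := d3_1 F73002 (iv6 F72700) F72999
theorem F73004 : act 7 n44870 = n41777 := d14_2 (iv7 F73001) F73002 (iv6 D41777) (iv7 F63695) F63692
theorem F73005 : act 2 n41777 = n44869 := d15_3 (iv0 D44869) D44870 F73004
theorem F73006 : act 7 n46118 = n44869 := d4_2 (iv7 F73004) F73003 (iv2 F73005)
theorem F73007 : act 6 n44869 = n41348 := d14_1 F73006 F63714 D41774 (iv7 F64424) F72700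
def n46351 : Q := act 4 n22204
theorem D46351 : act 4 n22204 = n46351 := rfl
theorem F73014 : act 2 n46351 = n22553 := d1_1 D46351 F35097 (iv2 F35449)
theorem F73015 : act 6 n46351 = n22269 := d10_2 F34640 D46351 (iv4 D22269)
theorem F73016 : act 0 n46351 = n22810 := d17_0 F71988 (iv1 D45653) (iv5 D21824) (iv4 D10415) D10416 D21827 F62652 F35505 D46351
def n46354 : Q := act 4 n22206
theorem D46354 : act 4 n22206 = n46354 := rfl
theorem F73022 : act 2 n46354 = n38011 := d1_1 D46354 (iv4 F64120) F64134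
theorem F73023 : act 7 n46354 = n44155 := d11_2 (iv7 F64135) D46354 F69503
theorem F73024 : act 1 n46354 = n37871 := d18_8 (iv1 F62896) (iv4 D22145) (iv1 F31317) F31313 (iv5 F31328) (iv4 F64126) F64136 D46354 (iv5 D37871)
theorem F73025 : act 3 n40711 = n46354 := d20_5 (iv4 F69628) (iv1 D40821) (iv4 D19245) (iv3 F30855) D40711 (iv4 D46354) (iv1 F64136) F64126 (iv3 F64038) (iv1 F69629)
theorem F73027 : act 0 n46354 = n38014 := d20_4 D10366 D21748 F69494 F73025 (iv3 F62575) D44253 (iv1 F69627) F69628 (iv3 D21744) (iv1 D10365)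
theorem F73028 : act 6 n46354 = n38009 := d21_5 (iv5 D9996) F17437 D18151 (iv6 F58739) (iv1 F73024) (iv5 D38009) (iv1 D18195) D18196 F29364 F17619
theorem E8049 : n44155 = n38012 := ((c15_2 (iv0 D38011) D38012 (iv7 F73023) F73022)).symm
theorem F73030 : act 4 n38012 = n41553 := (sb E8049 F69503)
def n46356 : Q := act 6 n22206
theorem D46356 : act 6 n22206 = n46356 := rfl
theorem F73033 : act 4 n46356 = n38009 := d10_1 D46356 (iv6 F73028) (iv4 D46354)
theorem F73034 : act 0 n45659 = n46356 := d18_2 (iv1 F62651) D45659 F73033 (iv5 D38009) (iv4 F62915) F31310 F17034 F14378 D19563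
theorem F73035 : act 1 n45658 = n46356 := d15_0 (iv0 F73034) F72009 (iv2 F72005)
def n46376 : Q := act 0 n22213
theorem D46376 : act 0 n22213 = n46376 := rfl
def n46377 : Q := act 1 n22213
theorem D46377 : act 1 n22213 = n46377 := rfl
theorem F73055 : act 1 n46377 = n44463 := d15_1 D46377 (iv7 D44463) (iv2 F34648)
def n46379 : Q := act 7 n22213
theorem D46379 : act 7 n22213 = n46379 := rfl
theorem F73057 : act 2 n46379 = n44463 := d4_1 D46379 (iv7 D44463) (iv2 F34648)
theorem F73058 : act 4 n46379 = n22216 := d11_1 D46379 (iv7 D22216) (iv4 F34649)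
theorem F73060 : act 1 n44463 = n46376 := d15_0 (iv0 D46376) D46379 F73057
theorem F73061 : act 1 n44461 = n46379 := d15_1 D44461 (iv7 D46379) F34648
theorem F73062 : act 4 n44362 = n46376 := d20_6 (iv4 F33331) (iv1 D21121) F15894 (iv3 F15889) D21113 D44362 (iv1 F73060) F69971 F33375 (iv1 F15938)
theorem F73063 : act 0 n38015 = n44362 := d20_10 F73062 (iv1 F73060) F69971 F33375 (iv1 F15938) D21153 D44473 F71916 (iv4 F61826) F61825
theorem F73064 : act 1 n46379 = n44460 := d15_0 (iv0 D44460) D44463 (iv2 F73057)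
theorem F73065 : act 4 n44198 = n44460 := d20_0 (iv1 F73064) F73058 F34652 (iv1 F34655) D44468 (iv4 F69980) (iv1 D44211) F33197 (iv3 F33189) D44198
def n46380 : Q := act 3 n22214
theorem D46380 : act 3 n22214 = n46380 := rfl
theorem F73066 : act 7 n46380 = n44468 := d8_2 (iv7 F66856) D46380 (iv3 D44468)
theorem F73067 : act 4 n44191 = n46380 := d20_2 (iv4 F33186) D44191 (iv3 D46380) (iv1 F34654) F33375 (iv4 F33363) (iv1 F33366) (iv4 D21127) (iv3 F66555) (iv1 D21013)
theorem F73068 : act 7 n44211 = n44191 := d11_0 F73067 F73066 (iv4 F69980)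
theorem F73069 : act 2 n44191 = n44210 := d15_3 (iv0 D44210) D44211 F73068
theorem F73070 : act 2 n44211 = n44192 := d15_3 F69567 F69568 (iv7 F73068)
theorem F73071 : act 7 n44192 = n44210 := d4_2 (iv7 F73068) F73070 (iv2 F73069)
def n46381 : Q := act 4 n22214
theorem D46381 : act 4 n22214 = n46381 := rfl
theorem F73072 : act 2 n46381 = n44465 := d1_1 D46381 (iv4 D44465) F66857
def n46383 : Q := act 3 n22215
theorem D46383 : act 3 n22215 = n46383 := rfl
theorem F73077 : act 6 n46383 = n45657 := d7_2 (iv6 F64531) D46383 (iv3 D45657)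
theorem F73078 : act 7 n46383 = n44464 := d8_2 F66855 D46383 (iv3 D44464)
theorem F73079 : act 4 n46383 = n44359 := d20_6 D21125 (iv1 F33365) F33363 (iv3 F33375) (iv1 F34650) D46383 (iv1 D44359) F33321 F15889 D10056
theorem F73080 : act 6 n44359 = n44271 := d10_2 (iv6 F73077) F73079 (iv4 F71997)
def n46384 : Q := act 4 n22215
theorem D46384 : act 4 n22215 = n46384 := rfl
theorem F73081 : act 2 n46384 = n44469 := d1_1 D46384 (iv4 D44469) (iv2 F66854)
theorem F73083 : act 7 n46384 = n44465 := d11_2 F66855 D46384 (iv4 D44465)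
theorem F73084 : act 0 n46384 = n22222 := d20_1 D46384 F34669 F33189 D21020 F66658 D21125 (iv1 F33365) F33363 (iv3 F33375) (iv1 F34650)
theorem F73085 : act 1 n46381 = n22222 := d15_0 (iv0 F73084) F73083 (iv2 F73072)
theorem E8050 : n46380 = n44201 := (c20_10 (iv4 F69582) (iv1 F69584) (iv4 D44215) F66663 (iv1 D21021) (iv3 F33189) (iv4 F34669) (iv1 F73085) (iv4 D46381) D46380 (iv1 F69550))
theorem F73086 : act 3 n44201 = n22214 := (sb E8050 (iv3 D46380))
theorem F73087 : act 4 n44201 = n44191 := (sb E8050 (iv4 F73067))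
theorem F73088 : act 7 n44201 = n44468 := (sb E8050 F73066)
theorem F73089 : act 2 n44468 = n44202 := d15_3 F69546 F69550 F73088
theorem F73090 : act 4 n44202 = n44192 := d1_2 F69980 F73089 (iv2 F73070)
theorem F73091 : act 6 n44202 = n45485 := d3_2 F71952 F73089 (iv2 F72004)
def n46392 : Q := act 1 n22219
theorem D46392 : act 1 n22219 = n46392 := rfl
def n46402 : Q := act 7 n22222
theorem D46402 : act 7 n22222 = n46402 := rfl
theorem F73117 : act 4 n46402 = n44200 := d11_1 D46402 (iv7 D44200) (iv4 F34669)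
theorem F73119 : act 1 n46392 = n46402 := d15_1 D46392 (iv7 D46402) F34668
theorem F73120 : act 0 n44465 = n46402 := d20_1 D44465 F73117 F69543 (iv1 F33203) F66555 D21127 F33350 F15907 (iv3 F15932) D21148
theorem E8052 : n46392 = n44469 := ((c15_4 F73119 (iv0 F73120) (iv7 F73083) F73081)).symm
theorem F73123 : act 0 n44469 = n22219 := (sb E8052 (iv1 D46392))
theorem F73124 : act 1 n44469 = n46402 := (sb E8052 F73119)
theorem E8053 : n44468 = n44181 := (c20_10 (iv4 F33210) (iv1 F69603) (iv4 D44195) F66650 (iv1 F33204) (iv3 F69543) (iv4 F73117) (iv1 F73124) (iv4 D44469) D44468 (iv1 D44181))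
theorem F73125 : act 2 n44181 = n44202 := (sb E8053 F73089)
theorem F73127 : act 4 n44181 = n44211 := (sb E8053 (iv4 F69980))
theorem F73128 : act 6 n44181 = n45636 := (sb E8053 (iv6 F71952))
theorem F73129 : act 7 n44181 = n44201 := (sb E8053 (iv7 F73088))
theorem F73130 : act 2 n44201 = n44180 := d15_3 (iv0 D44180) D44181 F73129
theorem F73131 : act 7 n44202 = n44180 := d4_2 (iv7 F73129) F73125 (iv2 F73130)
theorem F73132 : act 4 n44180 = n44210 := d11_1 F73131 (iv7 F73071) (iv4 F73090)
theorem F73133 : act 4 n43598 = n42595 := d18_7 D44180 F73132 (iv1 F69566) F69535 F33187 (iv4 F66439) F68540 (iv0 D42595) (iv5 F33179)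
def n46417 : Q := act 3 n22227
theorem D46417 : act 3 n22227 = n46417 := rfl
def n46422 : Q := act 7 n22231
theorem D46422 : act 7 n22231 = n46422 := rfl
theorem F73255 : act 4 n46422 = n42549 := d11_1 D46422 F67960 F67957
theorem F73257 : act 1 n46150 = n46422 := d15_1 (iv0 F72790) (iv7 D46422) (iv2 F67691)
theorem F73258 : act 1 n46422 = n23068 := d15_1 F73257 (iv7 F66405) (iv2 F72786)
theorem F73259 : act 0 n45039 = n23069 := d20_7 F73255 (iv1 F66374) (iv4 D20093) D20092 F62935 (iv3 F65010) (iv4 F70887) (iv4 D23069) D23068 (iv1 F73258)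
def n46423 : Q := act 6 n22233
theorem D46423 : act 6 n22233 = n46423 := rfl
theorem F73260 : act 2 n46423 = n40999 := d3_1 D46423 (iv6 D40999) (iv2 F34685)
theorem F73261 : act 3 n46423 = n22234 := d7_1 D46423 (iv6 D22234) D22233
theorem F73262 : act 4 n46423 = n23000 := d10_1 D46423 (iv6 D23000) (iv4 F34682)
theorem F73263 : act 0 n46423 = n40862 := d20_7 (iv4 D11060) (iv1 D5043) D5045 D11067 (iv1 F66548) (iv3 F36064) (iv4 F73262) (iv4 F70646) (iv3 D44943) F63173
theorem F73264 : act 7 n41247 = n46423 := d8_0 F73261 (iv7 F72168) F72170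
theorem E8086 : n41246 = n40999 := ((c15_4 (iv0 D41246) D41247 F73264 F73260)).symm
theorem F73265 : act 1 n40999 = n19402 := (sb E8086 (iv0 D41246))
def n46424 : Q := act 5 n22234
theorem D46424 : act 5 n22234 = n46424 := rfl
theorem F73266 : act 2 n46424 = n22383 := d2_1 D46424 (iv5 D22383) (iv2 F34686)
def n46425 : Q := act 6 n22235
theorem D46425 : act 6 n22235 = n46425 := rfl
theorem F73267 : act 2 n46425 = n22507 := d3_1 D46425 (iv6 D22507) F34688
theorem F73268 : act 4 n46425 = n43402 := d10_1 D46425 (iv6 D43402) (iv4 F34690)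
def n46426 : Q := act 6 n22236
theorem D46426 : act 6 n22236 = n46426 := rfl
theorem F73269 : act 2 n46426 = n22238 := d3_1 D46426 (iv6 D22238) D22236
theorem F73270 : act 3 n46426 = n22394 := d7_1 D46426 (iv6 D22394) (iv3 F34693)
def n46427 : Q := act 4 n22237
theorem D46427 : act 4 n22237 = n46427 := rfl
theorem F73271 : act 2 n46427 = n27336 := d1_1 D46427 F44238 (iv2 F34698)
theorem F73272 : act 7 n46427 = n22512 := d11_2 (iv7 F34700) D46427 (iv4 D22512)
theorem F73273 : act 5 n46427 = n35032 := d16_1 D46427 (iv4 D35032) (iv5 D17006) D17005 F35032 F35031 D22508 F35063 (iv2 F34698)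
theorem F73274 : act 0 n33366 = n46427 := d19_0 F73273 (iv4 D35032) (iv3 F55621) F55624 (iv5 D32113) (iv4 F51057) F51056 F54024 (iv5 F27876) D35059 F55672 (iv1 D25692) (iv5 D12206) F8901 F4028 F11796 D7524 D16111 D33366
theorem F73275 : act 1 n33528 = n46427 := d15_0 (iv0 F73274) F52603 D33528
def n46428 : Q := act 6 n22237
theorem D46428 : act 6 n22237 = n46428 := rfl
theorem F73276 : act 2 n46428 = n37583 := d3_1 D46428 (iv6 D37583) (iv2 F34698)
theorem F73277 : act 3 n46428 = n22239 := d7_1 D46428 (iv6 D22239) (iv3 F34699)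
def n46429 : Q := act 0 n22238
theorem D46429 : act 0 n22238 = n46429 := rfl
def n46430 : Q := act 1 n22238
theorem D46430 : act 1 n22238 = n46430 := rfl
theorem F73278 : act 3 n23321 = n46430 := d20_3 D43660 (iv1 F68616) F62758 (iv1 D46430) F34702 F17118 F65658 D10881 F17663 D20658
theorem F73279 : act 4 n43320 = n46430 := d20_6 (iv4 D19933) (iv1 F14624) (iv4 F14672) (iv3 F15231) (iv1 F32504) D43320 (iv1 D46430) (iv4 F68085) F68084 F65691
theorem F73280 : act 7 n46430 = n41012 := d11_2 (iv7 F67994) F73279 F62984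
theorem F73281 : act 2 n41012 = n46429 := d15_3 (iv0 D46429) D46430 F73280
theorem F73282 : act 4 n46429 = n43441 := d1_2 (iv4 F62984) F73281 (iv2 D43441)
def n46431 : Q := act 5 n22238
theorem D46431 : act 5 n22238 = n46431 := rfl
theorem F73283 : act 3 n46431 = n22242 := d6_1 D46431 (iv5 D22242) (iv3 F34702)
def n46432 : Q := act 7 n22238
theorem D46432 : act 7 n22238 = n46432 := rfl
theorem F73284 : act 3 n46432 = n22243 := d8_1 D46432 (iv7 D22243) (iv3 F34702)
theorem F73285 : act 4 n46432 = n42485 := d11_1 D46432 F68086 F68085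
theorem F73286 : act 6 n46432 = n22517 := d14_1 D46432 (iv7 D22517) (iv6 D10690) (iv7 F17112) D22238
theorem F73287 : act 0 n41012 = n46432 := d20_7 (iv4 D9455) (iv1 D4284) (iv4 F6182) (iv3 F6339) D9746 D20538 (iv4 F62984) F73285 (iv3 D42485) (iv1 F31887)
def n46433 : Q := act 0 n22239
theorem D46433 : act 0 n22239 = n46433 := rfl
def n46434 : Q := act 1 n22239
theorem D46434 : act 1 n22239 = n46434 := rfl
theorem F73288 : act 1 n46434 = n22407 := d15_1 D46434 (iv7 D22407) (iv2 F34703)
def n46435 : Q := act 5 n22239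
theorem D46435 : act 5 n22239 = n46435 := rfl
theorem F73289 : act 2 n46435 = n22406 := d2_1 D46435 (iv5 D22406) (iv2 F34703)
theorem F73290 : act 6 n46435 = n22242 := d12_2 D22239 D46435 (iv5 D22242) (iv6 D10604) D10603
def n46436 : Q := act 7 n22239
theorem D46436 : act 7 n22239 = n46436 := rfl
theorem F73291 : act 2 n46436 = n22407 := d4_1 D46436 (iv7 D22407) (iv2 F34703)
theorem F73292 : act 6 n46436 = n22521 := d14_1 D46436 (iv7 D22521) (iv6 D10691) (iv7 F17114) D22239
theorem F73293 : act 1 n22407 = n46433 := d15_0 (iv0 D46433) D46436 F73291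
theorem F73294 : act 1 n22405 = n46436 := d15_1 D22405 (iv7 D46436) F34703
theorem F73295 : act 1 n46436 = n22404 := d15_0 (iv0 D22404) D22407 (iv2 F73291)
def n46437 : Q := act 3 n22240
theorem D46437 : act 3 n22240 = n46437 := rfl
theorem F73296 : act 4 n46437 = n23016 := d5_2 F66040 D46437 (iv3 D23016) F35765 (iv3 F66039)
theorem F73297 : act 7 n46437 = n22414 := d8_2 (iv7 F65944) D46437 (iv3 D22414)
theorem F73298 : act 0 n46437 = n41006 := d20_4 (iv4 F17245) D22608 F66040 D46437 F62139 F30962 F62486 D9808 F65704 F66060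
theorem F73299 : act 2 n46437 = n41003 := d15_3 (iv0 D41003) (iv0 F65947) (iv7 F73297)
def n46438 : Q := act 5 n22240
theorem D46438 : act 5 n22240 = n46438 := rfl
theorem F73300 : act 2 n46438 = n22411 := d2_1 D46438 (iv5 D22411) (iv2 F65943)
theorem F73301 : act 7 n46438 = n22416 := d13_2 (iv7 F65944) D46438 (iv5 D22416)
def n46439 : Q := act 0 n22242
theorem D46439 : act 0 n22242 = n46439 := rfl
def n46440 : Q := act 1 n22242
theorem D46440 : act 1 n22242 = n46440 := rfl
theorem F73302 : act 1 n46440 = n22421 := d15_1 D46440 (iv7 D22421) (iv2 F34705)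
theorem F73303 : act 5 n41538 = n46440 := d21_6 (iv5 F31306) (iv1 D19554) (iv5 D9203) D9204 D19556 D41538 (iv1 D46440) (iv5 D22242) (iv6 D10604) D10601
theorem F73304 : act 2 n46440 = n22419 := d2_1 F73303 (iv5 F34964) (iv2 F64089)
def n46441 : Q := act 4 n22242
theorem D46441 : act 4 n22242 = n46441 := rfl
theorem F73305 : act 2 n46441 = n22420 := d1_1 D46441 (iv4 D22420) (iv2 F34705)
def n46442 : Q := act 7 n22242
theorem D46442 : act 7 n22242 = n46442 := rfl
theorem F73306 : act 2 n46442 = n22421 := d4_1 D46442 (iv7 D22421) (iv2 F34705)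
theorem F73307 : act 5 n46442 = n22243 := d13_1 D46442 (iv7 D22243) D22242
theorem F73308 : act 1 n22421 = n46439 := d15_0 (iv0 D46439) D46442 F73306
theorem F73309 : act 1 n22419 = n46442 := d15_1 D22419 (iv7 D46442) F34705
theorem F73310 : act 7 n46439 = n22419 := d15_2 F73302 F73308 (iv2 F73304)
theorem F73311 : act 5 n46439 = n41835 := d17_7 D19693 (iv5 F62669) (iv1 F62674) F17220 (iv4 F17214) (iv5 F34965) F73308 (iv0 D41835) F31444
theorem E8087 : n46316 = n41835 := ((c13_2 (iv7 F73310) F73311 (iv7 D46316) F34964)).symm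
theorem F73312 : act 7 n41835 = n22147 := (sb E8087 (iv7 D46316))
theorem F73313 : act 2 n46439 = n22418 := d15_3 (iv0 D22418) D22419 (iv7 F73310)
theorem F73314 : act 7 n22418 = n46440 := d4_2 (iv7 F73310) F73313 F73304
theorem F73315 : act 1 n46442 = n22418 := d15_1 F73309 F73314 F73304
def n46443 : Q := act 3 n22250
theorem D46443 : act 3 n22250 = n46443 := rfl
theorem F73316 : act 2 n46443 = n41048 := d0_1 D46443 (iv3 D41048) F62492 F65704 (iv2 F35529)
theorem F73317 : act 4 n46443 = n46443 := d5_2 D22250 D46443 (iv3 D46443) (iv4 D22250) F65660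
theorem F73318 : act 7 n46443 = n22437 := d8_2 (iv7 F35530) D46443 (iv3 D22437)
def n46444 : Q := act 5 n22250
theorem D46444 : act 5 n22250 = n46444 := rfl
theorem F73319 : act 2 n46444 = n22454 := d2_1 D46444 (iv5 D22454) (iv2 F35529)
theorem F73320 : act 7 n46444 = n22438 := d13_2 (iv7 F35530) D46444 (iv5 D22438)
theorem F73321 : act 1 n22454 = n41757 := d15_0 (iv0 F66129) (iv7 F73320) F73319
theorem E8088 : n41756 = n41548 := (c17_9 F35500 D19695 (iv1 F34992) (iv5 D10672) D10671 D22454 F73321 (iv5 D41757) D41756 F64111)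
theorem F73322 : act 0 n41548 = n19645 := (sb E8088 (iv1 D41756))
def n46445 : Q := act 6 n22250
theorem D46445 : act 6 n22250 = n46445 := rfl
theorem F73323 : act 2 n46445 = n22455 := d3_1 D46445 (iv6 D22455) (iv2 F35529)
theorem F73324 : act 4 n46445 = n22252 := d10_1 D46445 (iv6 D22252) D22250
def n46446 : Q := act 4 n22251
theorem D46446 : act 4 n22251 = n46446 := rfl
theorem F73326 : act 2 n46446 = n22456 := d1_1 D46446 (iv4 D22456) (iv2 F35531)
theorem F73327 : act 7 n46446 = n22442 := d11_2 (iv7 F35532) D46446 (iv4 D22442)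
def n46447 : Q := act 4 n22254
theorem D46447 : act 4 n22254 = n46447 := rfl
theorem F73328 : act 2 n46447 = n22468 := d1_1 D46447 (iv4 D22468) (iv2 F35492)
theorem F73329 : act 7 n46447 = n22464 := d11_2 (iv7 F35493) D46447 (iv4 D22464)
theorem F73330 : act 0 n46447 = n40878 := d18_2 (iv1 F34720) D46447 (iv4 D40878) (iv5 D19268) (iv4 F17155) (iv0 F66080) (iv4 D22250) F17120 (iv5 F17220)
def n46448 : Q := act 6 n22254
theorem D46448 : act 6 n22254 = n46448 := rfl
theorem F73333 : act 5 n46448 = n41550 := d12_1 D46448 (iv6 D41550) (iv5 D19563) D19564 F34721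
def n46449 : Q := act 0 n22255
theorem D46449 : act 0 n22255 = n46449 := rfl
theorem F73337 : act 2 n22470 = n46449 := d15_3 (iv0 D46449) (iv0 F66386) F66385
theorem F73338 : act 7 n22471 = n46449 := d15_2 (iv0 D22470) D22471 (iv2 F73337)
theorem F73339 : act 2 n42557 = n22471 := d4_3 F73338 (iv2 F73337) (iv7 F66385)
theorem F73340 : act 1 n22474 = n46449 := d15_1 (iv0 F66387) (iv7 F73338) (iv2 F73339)
theorem F73341 : act 4 n22471 = n40877 := d1_2 D42557 F73339 F72968
def n46450 : Q := act 3 n22255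
theorem D46450 : act 3 n22255 = n46450 := rfl
theorem F73342 : act 6 n46450 = n41361 := d7_2 (iv6 F34723) D46450 (iv3 D41361)
def n46451 : Q := act 5 n22255
theorem D46451 : act 5 n22255 = n46451 := rfl
theorem F73343 : act 2 n46451 = n22473 := d2_1 D46451 (iv5 D22473) (iv2 F34722)
def n46452 : Q := act 7 n22255
theorem D46452 : act 7 n22255 = n46452 := rfl
theorem F73345 : act 4 n46452 = n22256 := d11_1 D46452 (iv7 D22256) D22255
def n46453 : Q := act 5 n22257
theorem D46453 : act 5 n22257 = n46453 := rfl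
theorem F73349 : act 7 n46453 = n23224 := d13_2 (iv7 F62764) D46453 (iv5 D23224)
def n46454 : Q := act 5 n22258
theorem D46454 : act 5 n22258 = n46454 := rfl
def n46455 : Q := act 0 n22259
theorem D46455 : act 0 n22259 = n46455 := rfl
def n46456 : Q := act 1 n22259
theorem D46456 : act 1 n22259 = n46456 := rfl
theorem F73351 : act 5 n46456 = n45769 := d18_9 F72233 F70230 F70232 (iv4 D43723) (iv5 D20708) D20707 (iv0 F67290) F67288 D46456
theorem F73352 : act 2 n23239 = n46456 := d2_3 F73351 F72231 (iv5 F65883)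
def n46457 : Q := act 7 n22259
theorem D46457 : act 7 n22259 = n46457 := rfl
theorem F73353 : act 3 n46457 = n22279 := d8_1 D46457 (iv7 D22279) (iv3 F34730)
theorem F73354 : act 4 n46457 = n43734 := d11_1 D46457 F70668 F67288
theorem F73355 : act 5 n46457 = n22260 := d13_1 D46457 (iv7 D22260) D22259
theorem F73356 : act 1 n23239 = n46457 := d15_1 (iv0 F70663) (iv7 D46457) (iv2 F70659)
def n46458 : Q := act 0 n22261
theorem D46458 : act 0 n22261 = n46458 := rfl
def n46459 : Q := act 1 n22261
theorem D46459 : act 1 n22261 = n46459 := rfl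
def n46460 : Q := act 5 n22261
theorem D46460 : act 5 n22261 = n46460 := rfl
theorem F73357 : act 3 n46460 = n22265 := d6_1 D46460 (iv5 D22265) (iv3 F34735)
theorem F73358 : act 6 n46460 = n37590 := d12_2 D22261 D46460 (iv5 D37590) (iv6 D18031) F17132
def n46461 : Q := act 7 n22261
theorem D46461 : act 7 n22261 = n46461 := rfl
theorem F73359 : act 3 n46461 = n22266 := d8_1 D46461 (iv7 D22266) (iv3 F34735)
theorem F73360 : act 4 n46461 = n41108 := d11_1 D46461 (iv7 D41108) (iv4 F34736)
theorem F73361 : act 6 n46461 = n22399 := d14_1 D46461 (iv7 D22399) (iv6 D10656) (iv7 F17131) D22261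
def n46462 : Q := act 0 n22262
theorem D46462 : act 0 n22262 = n46462 := rfl
def n46463 : Q := act 1 n22262
theorem D46463 : act 1 n22262 = n46463 := rfl
theorem F73362 : act 1 n46463 = n22521 := d15_1 D46463 (iv7 D22521) (iv2 F34737)
def n46464 : Q := act 5 n22262
theorem D46464 : act 5 n22262 = n46464 := rfl
theorem F73363 : act 2 n46464 = n22520 := d2_1 D46464 (iv5 D22520) (iv2 F34737)
theorem F73364 : act 3 n46464 = n37590 := d6_1 D46464 (iv5 D37590) (iv3 F34738)
theorem F73365 : act 6 n46464 = n22265 := d12_2 D22262 D46464 (iv5 D22265) (iv6 D10612) D10611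
def n46465 : Q := act 7 n22262
theorem D46465 : act 7 n22262 = n46465 := rfl
theorem F73366 : act 2 n46465 = n22521 := d4_1 D46465 (iv7 D22521) (iv2 F34737)
theorem F73367 : act 3 n46465 = n37591 := d8_1 D46465 (iv7 D37591) (iv3 F34738)
theorem F73368 : act 6 n46465 = n22407 := d14_1 D46465 (iv7 D22407) (iv6 D10659) (iv7 F17135) D22262
theorem F73369 : act 1 n22521 = n46462 := d15_0 (iv0 D46462) D46465 F73366
theorem F73370 : act 1 n22519 = n46465 := d15_1 D22519 (iv7 D46465) F34737
theorem F73371 : act 1 n46465 = n22518 := d15_0 (iv0 D22518) D22521 (iv2 F73366)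
def n46466 : Q := act 3 n22263
theorem D46466 : act 3 n22263 = n46466 := rfl
theorem F73372 : act 4 n46466 = n43329 := d5_2 F62751 D46466 (iv3 D43329) (iv4 D20458) D20457
theorem F73373 : act 7 n46466 = n22528 := d8_2 (iv7 F62753) D46466 (iv3 D22528)
def n46467 : Q := act 5 n22263
theorem D46467 : act 5 n22263 = n46467 := rfl
theorem F73374 : act 2 n46467 = n22525 := d2_1 D46467 (iv5 D22525) (iv2 F62752)
theorem F73375 : act 7 n46467 = n22530 := d13_2 (iv7 F62753) D46467 (iv5 D22530)
def n46468 : Q := act 3 n22264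
theorem D46468 : act 3 n22264 = n46468 := rfl
theorem F73376 : act 7 n46468 = n22523 := d8_2 (iv7 F62955) D46468 (iv3 D22523)
theorem F73377 : act 0 n46468 = n23343 := d20_4 (iv4 F67805) (iv1 F67807) F62953 D46468 F36464 F17822 (iv1 F66048) D9517 F62720 F62717
def n46469 : Q := act 5 n22264
theorem D46469 : act 5 n22264 = n46469 := rfl
theorem F73378 : act 2 n46469 = n22530 := d2_1 D46469 (iv5 D22530) (iv2 F62954)
theorem F73379 : act 7 n46469 = n22525 := d13_2 (iv7 F62955) D46469 (iv5 D22525)
def n46470 : Q := act 0 n22265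
theorem D46470 : act 0 n22265 = n46470 := rfl
def n46471 : Q := act 1 n22265
theorem D46471 : act 1 n22265 = n46471 := rfl
theorem F73380 : act 1 n46471 = n22535 := d15_1 D46471 (iv7 D22535) (iv2 F34740)
theorem F73381 : act 5 n41596 = n46471 := d21_6 (iv5 F31299) (iv1 F31301) (iv5 D9213) D9214 D19587 D41596 (iv1 D46471) (iv5 D22265) (iv6 D10612) (iv1 F14655)
theorem F73382 : act 2 n46471 = n22533 := d2_1 F73381 (iv5 F35083) F65899
theorem F73383 : act 0 n44878 = n41596 := d17_0 F73381 (iv1 D46471) (iv5 D22265) F17139 D10615 F65761 F17784 D21401 D44878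
theorem F73384 : act 1 n44878 = n46086 := d15_1 (iv0 F73383) (iv7 D46086) F65899
theorem F73385 : act 1 n44876 = n41596 := d15_0 (iv0 F73383) F70507 (iv2 F70498)
theorem F73386 : act 1 n46086 = n44876 := d15_1 F73384 F70500 (iv2 F70505)
def n46472 : Q := act 4 n22265
theorem D46472 : act 4 n22265 = n46472 := rfl
theorem F73387 : act 2 n46472 = n22534 := d1_1 D46472 (iv4 D22534) (iv2 F34740)
def n46473 : Q := act 7 n22265
theorem D46473 : act 7 n22265 = n46473 := rfl
theorem F73388 : act 2 n46473 = n22535 := d4_1 D46473 (iv7 D22535) (iv2 F34740)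
theorem F73389 : act 5 n46473 = n22266 := d13_1 D46473 (iv7 D22266) D22265
theorem F73390 : act 1 n22535 = n46470 := d15_0 (iv0 D46470) D46473 F73388
theorem F73391 : act 1 n22533 = n46473 := d15_1 D22533 (iv7 D46473) F34740
theorem F73392 : act 7 n46470 = n22533 := d15_2 F73380 F73390 (iv2 F73382)
theorem F73393 : act 5 n46470 = n46086 := d17_7 F65795 (iv5 F35543) (iv1 F34756) F17239 (iv4 F17233) (iv5 F35084) F73390 F73386 (iv4 D44876)
theorem F73394 : act 2 n46470 = n22532 := d15_3 (iv0 D22532) D22533 (iv7 F73392)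
theorem F73395 : act 7 n22532 = n46471 := d4_2 (iv7 F73392) F73394 F73382
theorem F73396 : act 1 n46473 = n22532 := d15_1 F73391 F73395 F73382
def n46474 : Q := act 3 n22269
theorem D46474 : act 3 n22269 = n46474 := rfl
theorem F73397 : act 2 n46474 = n40935 := d0_1 D46474 (iv3 D40935) (iv2 F66092) F62720 (iv2 F35445)
theorem F73398 : act 4 n46474 = n46474 := d5_2 D22269 D46474 (iv3 D46474) (iv4 D22269) F62166
theorem F73399 : act 7 n46474 = n22569 := d8_2 (iv7 F35446) D46474 (iv3 D22569)
def n46475 : Q := act 5 n22269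
theorem D46475 : act 5 n22269 = n46475 := rfl
theorem F73400 : act 2 n46475 = n22552 := d2_1 D46475 (iv5 D22552) (iv2 F35445)
theorem F73401 : act 7 n46475 = n22570 := d13_2 (iv7 F35446) D46475 (iv5 D22570)
def n46476 : Q := act 4 n22270
theorem D46476 : act 4 n22270 = n46476 := rfl
theorem F73402 : act 2 n46476 = n22557 := d1_1 D46476 (iv4 D22557) (iv2 F35447)
theorem F73403 : act 7 n46476 = n22572 := d11_2 (iv7 F35448) D46476 (iv4 D22572)
def n46477 : Q := act 4 n22276
theorem D46477 : act 4 n22276 = n46477 := rfl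
theorem F73404 : act 2 n46477 = n22577 := d1_1 D46477 (iv4 D22577) (iv2 F35542)
theorem F73405 : act 7 n46477 = n22582 := d11_2 (iv7 F35544) D46477 (iv4 D22582)
theorem F73406 : act 0 n43120 = n46477 := d20_1 (iv4 F67528) (iv4 D46477) F65728 (iv1 F34756) (iv3 F35054) (iv4 F68415) (iv1 F68416) (iv4 D20600) D20599 F66302
def n46478 : Q := act 6 n22276
theorem D46478 : act 6 n22276 = n46478 := rfl
theorem F73409 : act 5 n46478 = n22958 := d12_1 D46478 (iv6 F72183) (iv5 F72180) (iv6 F63973) (iv5 F35543)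
theorem F73411 : act 0 n22916 = n46478 := d21_4 (iv5 D4936) D4934 D10821 D22916 (iv6 D46478) F35543 (iv1 F65800) F65802 F63750 (iv1 D10829)
def n46479 : Q := act 0 n22278
theorem D46479 : act 0 n22278 = n46479 := rfl
theorem F73412 : act 4 n46479 = n43336 := d20_2 D22278 D46479 (iv3 D43336) (iv1 F32524) F15237 (iv4 F15442) (iv1 F15444) F15437 D10952 (iv1 F65761)
theorem F73413 : act 7 n22585 = n46479 := d11_0 F73412 F68032 F68059
theorem F73414 : act 2 n46479 = n22584 := d15_3 (iv0 D22584) D22585 F73413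
def n46480 : Q := act 1 n22278
theorem D46480 : act 1 n22278 = n46480 := rfl
theorem F73415 : act 1 n46480 = n22588 := d15_1 D46480 (iv7 D22588) (iv2 F34752)
theorem F73416 : act 7 n46480 = n22584 := d15_2 (iv0 D46479) D46480 (iv2 F73414)
theorem F73417 : act 2 n22585 = n46480 := d4_3 F73416 (iv2 F73414) (iv7 F73413)
theorem F73418 : act 4 n46480 = n43542 := d1_2 F68059 F73417 (iv2 D43542)
theorem F73419 : act 1 n22588 = n46479 := d15_1 F73415 (iv7 F73413) F73417
theorem F73420 : act 1 n43336 = n22653 := d18_8 (iv1 F62750) F62751 (iv1 F34744) F17233 (iv5 F17239) (iv4 F35127) F73419 F73412 (iv5 D22653)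
def n46481 : Q := act 3 n22278
theorem D46481 : act 3 n22278 = n46481 := rfl
theorem F73421 : act 6 n46481 = n22950 := d7_2 (iv6 F34753) D46481 (iv3 D22950)
def n46482 : Q := act 5 n22278
theorem D46482 : act 5 n22278 = n46482 := rfl
theorem F73422 : act 2 n46482 = n22587 := d2_1 D46482 (iv5 D22587) (iv2 F34752)
def n46483 : Q := act 7 n22278
theorem D46483 : act 7 n22278 = n46483 := rfl
theorem F73423 : act 2 n46483 = n22588 := d4_1 D46483 (iv7 D22588) (iv2 F34752)
theorem F73424 : act 4 n46483 = n22279 := d11_1 D46483 (iv7 D22279) D22278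
theorem F73425 : act 1 n22585 = n46483 := d15_1 D22585 (iv7 D46483) F34752
theorem F73426 : act 1 n46483 = n22584 := d15_1 F73425 (iv7 F73416) (iv2 F73417)
def n46484 : Q := act 3 n22280
theorem D46484 : act 3 n22280 = n46484 := rfl
theorem F73427 : act 2 n46484 = n41068 := d0_1 D46484 (iv3 D41068) (iv2 F44844) (iv3 D22636) (iv2 F44838)
theorem F73428 : act 4 n46484 = n22481 := d5_2 (iv4 F34759) D46484 F68073 (iv4 F68068) (iv3 D22633)
theorem F73429 : act 7 n46484 = n22633 := d8_2 (iv7 F44839) D46484 (iv3 D22633)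
theorem F73430 : act 0 n46484 = n22305 := d20_10 F34803 (iv1 D20002) D20004 F31827 (iv1 D10958) (iv3 F17251) (iv4 D10726) D10723 (iv4 F34759) D46484
theorem F73431 : act 1 n46484 = n42361 := d15_1 (iv0 F73430) (iv7 F68199) F68198
def n46485 : Q := act 6 n22280
theorem D46485 : act 6 n22280 = n46485 := rfl
theorem F73432 : act 2 n46485 = n22638 := d3_1 D46485 (iv6 D22638) (iv2 F44838)
theorem F73433 : act 4 n46485 = n22634 := d10_1 D46485 (iv6 D22634) (iv4 F34759)
def n46486 : Q := act 6 n22281
theorem D46486 : act 6 n22281 = n46486 := rfl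
theorem F73434 : act 2 n46486 = n22634 := d3_1 D46486 (iv6 D22634) (iv2 F44840)
theorem F73435 : act 3 n46486 = n41067 := d7_1 D46486 (iv6 D41067) F34769
theorem F73436 : act 4 n46486 = n22638 := d10_1 D46486 (iv6 D22638) F34768
def n46487 : Q := act 6 n22282
theorem D46487 : act 6 n22282 = n46487 := rfl
theorem F73437 : act 2 n46487 = n22283 := d3_1 D46487 (iv6 D22283) D22282
theorem F73438 : act 3 n46487 = n22598 := d7_1 D46487 (iv6 D22598) (iv3 F34761)
theorem F73439 : act 4 n46487 = n40894 := d10_1 D46487 (iv6 D40894) (iv4 F34762)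
def n46488 : Q := act 0 n22283
theorem D46488 : act 0 n22283 = n46488 := rfl
def n46489 : Q := act 1 n22283
theorem D46489 : act 1 n22283 = n46489 := rfl
def n46490 : Q := act 5 n22283
theorem D46490 : act 5 n22283 = n46490 := rfl
theorem F73440 : act 3 n46490 = n22287 := d6_1 D46490 (iv5 D22287) (iv3 F34770)
def n46491 : Q := act 7 n22283
theorem D46491 : act 7 n22283 = n46491 := rfl
theorem F73441 : act 3 n46491 = n22288 := d8_1 D46491 (iv7 D22288) (iv3 F34770)
theorem F73442 : act 4 n46491 = n40898 := d11_1 D46491 (iv7 D40898) (iv4 F34771)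
theorem F73443 : act 6 n46491 = n22650 := d14_1 D46491 (iv7 D22650) (iv6 D10728) (iv7 F17149) D22283
def n46492 : Q := act 0 n22284
theorem D46492 : act 0 n22284 = n46492 := rfl
def n46493 : Q := act 1 n22284
theorem D46493 : act 1 n22284 = n46493 := rfl
theorem F73444 : act 1 n46493 = n22617 := d15_1 D46493 (iv7 D22617) (iv2 F34772)
def n46494 : Q := act 5 n22284
theorem D46494 : act 5 n22284 = n46494 := rfl
theorem F73445 : act 2 n46494 = n22616 := d2_1 D46494 (iv5 D22616) (iv2 F34772)
theorem F73446 : act 6 n46494 = n22287 := d12_2 D22284 D46494 (iv5 D22287) (iv6 D10619) D10618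
def n46495 : Q := act 7 n22284
theorem D46495 : act 7 n22284 = n46495 := rfl
theorem F73447 : act 2 n46495 = n22617 := d4_1 D46495 (iv7 D22617) (iv2 F34772)
theorem F73448 : act 6 n46495 = n22658 := d14_1 D46495 (iv7 D22658) (iv6 D10730) (iv7 F17151) D22284
theorem F73449 : act 1 n22617 = n46492 := d15_0 (iv0 D46492) D46495 F73447
theorem F73450 : act 1 n22615 = n46495 := d15_1 D22615 (iv7 D46495) F34772
theorem F73451 : act 1 n46495 = n22614 := d15_0 (iv0 D22614) D22617 (iv2 F73447)
def n46496 : Q := act 0 n22287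
theorem D46496 : act 0 n22287 = n46496 := rfl
theorem F73452 : act 5 n46496 = n41755 := d17_3 F66080 D22287 D46496 F64399 (iv5 F62669) (iv0 F62673) (iv5 D10607) D10606 D22250
theorem F73453 : act 3 n41123 = n46496 := d6_3 F73452 (iv3 F68734) F68736
theorem F73454 : act 7 n22629 = n46496 := d13_0 F73452 (iv7 F64400) F62623
theorem F73455 : act 0 n46496 = n22631 := d21_1 (iv5 F73452) F35160 (iv6 F34797) F62715 D22571 (iv5 F64374) (iv1 F64375) (iv5 D19644) D19645 D41755
theorem F73456 : act 2 n46496 = n22628 := d15_3 (iv0 D22628) D22629 F73454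
def n46497 : Q := act 1 n22287
theorem D46497 : act 1 n22287 = n46497 := rfl
theorem F73457 : act 1 n46497 = n22631 := d15_1 D46497 (iv7 D22631) (iv2 F34774)
theorem F73458 : act 7 n46497 = n22628 := d15_2 (iv0 D46496) D46497 (iv2 F73456)
theorem F73459 : act 5 n41548 = n46497 := d21_6 (iv5 F7343) (iv1 F14406) (iv5 D9219) D9220 (iv1 F62367) D41548 (iv1 D46497) (iv5 D22287) (iv6 D10619) (iv1 F7005)
theorem F73460 : act 2 n46497 = n22629 := d2_1 F73459 (iv5 F62623) (iv2 F64110)
def n46498 : Q := act 4 n22287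
theorem D46498 : act 4 n22287 = n46498 := rfl
theorem F73461 : act 2 n46498 = n22630 := d1_1 D46498 (iv4 D22630) (iv2 F34774)
def n46499 : Q := act 7 n22287
theorem D46499 : act 7 n22287 = n46499 := rfl
theorem F73462 : act 2 n46499 = n22631 := d4_1 D46499 (iv7 D22631) (iv2 F34774)
theorem F73463 : act 5 n46499 = n22288 := d13_1 D46499 (iv7 D22288) D22287
theorem F73464 : act 1 n22629 = n46499 := d15_1 D22629 (iv7 D46499) F34774
theorem F73465 : act 1 n46499 = n22628 := d15_1 F73464 (iv7 F73458) F73460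
def n46500 : Q := act 4 n22289
theorem D46500 : act 4 n22289 = n46500 := rfl
theorem F73466 : act 2 n46500 = n22594 := d1_1 D46500 (iv4 D22594) (iv2 F34912)
theorem F73467 : act 3 n46500 = n22590 := d5_1 D46500 (iv4 D22590) F34909 F34907 F34783
theorem F73468 : act 7 n46500 = n22590 := d11_2 (iv7 F34910) D46500 (iv4 D22590)
def n46501 : Q := act 6 n22289
theorem D46501 : act 6 n22289 = n46501 := rfl
theorem F73469 : act 2 n46501 = n22596 := d3_1 D46501 (iv6 D22596) (iv2 F34912)
theorem F73470 : act 3 n46501 = n41103 := d7_1 D46501 (iv6 D41103) F34783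
def n46502 : Q := act 3 n22290
theorem D46502 : act 3 n22290 = n46502 := rfl
theorem F73471 : act 2 n46502 = n41101 := d0_1 D46502 (iv3 D41101) F34908 (iv3 F34909) F34911
theorem F73472 : act 7 n46502 = n22593 := d8_2 F34913 D46502 (iv3 D22593)
theorem F73473 : act 4 n46502 = n40974 := d20_6 (iv4 F35175) (iv1 F30935) (iv4 F34762) F34761 (iv1 F34788) D46502 (iv1 F70585) F70583 (iv3 F34938) (iv1 F35173)
theorem F73474 : act 2 n40974 = n44916 := d1_1 F73473 (iv4 F70580) (iv2 F73471)
theorem F73475 : act 7 n40974 = n44915 := d11_2 (iv7 F73472) F73473 F70578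
theorem F73476 : act 2 n44915 = n40975 := d15_3 F70586 F70585 F73475
theorem F73477 : act 7 n44916 = n40975 := d4_2 (iv7 F73475) F73474 (iv2 F73476)
def n46503 : Q := act 4 n22290
theorem D46503 : act 4 n22290 = n46503 := rfl
theorem F73478 : act 2 n46503 = n22590 := d1_1 D46503 (iv4 D22590) F34911
theorem F73479 : act 7 n46503 = n22594 := d11_2 F34913 D46503 (iv4 D22594)
theorem F73480 : act 3 n46503 = n22980 := d19_3 (iv1 F64246) (iv5 F64250) D46503 (iv1 F36032) F26946 (iv4 D15397) F11575 D7283 (iv5 F12943) (iv4 D8178) F10070 (iv1 F9143) (iv5 F9387) (iv4 F26373) (iv3 F9268) (iv1 F9273) (iv5 F24947) D15375 (iv3 F35287)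
def n46504 : Q := act 6 n22290
theorem D46504 : act 6 n22290 = n46504 := rfl
theorem F73481 : act 2 n46504 = n22592 := d3_1 D46504 (iv6 D22592) F34911
def n46505 : Q := act 6 n22291
theorem D46505 : act 6 n22291 = n46505 := rfl
theorem F73482 : act 2 n46505 = n22293 := d3_1 D46505 (iv6 D22293) D22291
theorem F73483 : act 3 n46505 = n22640 := d7_1 D46505 (iv6 D22640) (iv3 F34784)
theorem F73484 : act 4 n46505 = n44591 := d10_1 D46505 (iv6 D44591) (iv4 F34785)
def n46506 : Q := act 4 n22292
theorem D46506 : act 4 n22292 = n46506 := rfl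
theorem F73485 : act 3 n46506 = n34537 := d5_1 D46506 F58966 F58962 F29403 (iv3 F34790)
theorem F73486 : act 7 n46506 = n22602 := d11_2 (iv7 F34791) D46506 (iv4 D22602)
def n46507 : Q := act 6 n22292
theorem D46507 : act 6 n22292 = n46507 := rfl
theorem F73487 : act 3 n46507 = n22294 := d7_1 D46507 (iv6 D22294) (iv3 F34790)
def n46508 : Q := act 0 n22293
theorem D46508 : act 0 n22293 = n46508 := rfl
def n46509 : Q := act 1 n22293
theorem D46509 : act 1 n22293 = n46509 := rfl
def n46510 : Q := act 5 n22293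
theorem D46510 : act 5 n22293 = n46510 := rfl
theorem F73488 : act 3 n46510 = n22297 := d6_1 D46510 (iv5 D22297) (iv3 F34792)
def n46511 : Q := act 7 n22293
theorem D46511 : act 7 n22293 = n46511 := rfl
theorem F73489 : act 3 n46511 = n22298 := d8_1 D46511 (iv7 D22298) (iv3 F34792)
theorem F73490 : act 6 n46511 = n22607 := d14_1 D46511 (iv7 D22607) (iv6 D10715) (iv7 F17156) D22293
def n46512 : Q := act 0 n22294
theorem D46512 : act 0 n22294 = n46512 := rfl
def n46513 : Q := act 1 n22294
theorem D46513 : act 1 n22294 = n46513 := rfl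
theorem F73491 : act 1 n46513 = n22658 := d15_1 D46513 (iv7 D22658) (iv2 F34793)
def n46514 : Q := act 5 n22294
theorem D46514 : act 5 n22294 = n46514 := rfl
theorem F73492 : act 2 n46514 = n22657 := d2_1 D46514 (iv5 D22657) (iv2 F34793)
theorem F73493 : act 6 n46514 = n22297 := d12_2 D22294 D46514 (iv5 D22297) (iv6 D10622) D10621
def n46515 : Q := act 7 n22294
theorem D46515 : act 7 n22294 = n46515 := rfl
theorem F73494 : act 2 n46515 = n22658 := d4_1 D46515 (iv7 D22658) (iv2 F34793)
theorem F73495 : act 6 n46515 = n22617 := d14_1 D46515 (iv7 D22617) (iv6 D10718) (iv7 F17158) D22294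
theorem F73496 : act 1 n22658 = n46512 := d15_0 (iv0 D46512) D46515 F73494
theorem F73497 : act 1 n22656 = n46515 := d15_1 D22656 (iv7 D46515) F34793
theorem F73498 : act 1 n46515 = n22655 := d15_0 (iv0 D22655) D22658 (iv2 F73494)
def n46516 : Q := act 0 n22297
theorem D46516 : act 0 n22297 = n46516 := rfl
theorem F73499 : act 5 n46516 = n46119 := d17_3 (iv1 F62610) D22297 D46516 F72702 (iv5 F35543) (iv0 D22276) (iv5 D10615) F62708 D10946
theorem F73500 : act 2 n22669 = n46516 := d15_3 (iv0 D46516) (iv0 F70478) F70483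
theorem F73501 : act 7 n46516 = n22670 := d4_2 F70483 F73500 (iv2 F70475)
theorem F73502 : act 1 n22672 = n46516 := d15_1 F70477 F73501 (iv2 F70475)
def n46517 : Q := act 4 n22297
theorem D46517 : act 4 n22297 = n46517 := rfl
theorem F73503 : act 2 n46517 = n22671 := d1_1 D46517 (iv4 D22671) (iv2 F34795)
def n46518 : Q := act 7 n22297
theorem D46518 : act 7 n22297 = n46518 := rfl
theorem F73504 : act 2 n46518 = n22672 := d4_1 D46518 (iv7 D22672) (iv2 F34795)
theorem F73505 : act 5 n46518 = n22298 := d13_1 D46518 (iv7 D22298) D22297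
theorem F73506 : act 1 n22670 = n46518 := d15_1 D22670 (iv7 D46518) F34795
theorem F73507 : act 1 n46518 = n22669 := d15_1 F73506 (iv7 F70483) F70475
def n46519 : Q := act 0 n22300
theorem D46519 : act 0 n22300 = n46519 := rfl
def n46520 : Q := act 1 n22300
theorem D46520 : act 1 n22300 = n46520 := rfl
theorem F73508 : act 3 n22355 = n46520 := d20_3 F17130 D19341 (iv4 F34900) (iv1 D46520) (iv3 D22300) D22301 F61995 F61992 F60087 (iv1 F29799)
theorem F73509 : act 2 n46520 = n22593 := d0_1 F73508 (iv3 D22593) (iv2 F34912) (iv3 F34783) F34902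
theorem F73510 : act 5 n46520 = n37455 := d6_2 (iv5 F34899) F73508 (iv3 D37455)
theorem F73511 : act 7 n46520 = n41101 := d8_2 F34903 F73508 (iv3 D41101)
theorem F73512 : act 4 n46520 = n40975 := d20_6 (iv4 F14145) F7048 D4876 D10642 D22355 F73508 (iv1 D40975) F30953 (iv3 D9073) (iv1 F14144)
theorem F73513 : act 3 n44916 = n40975 := d5_5 (iv4 F73512) (iv3 F73508) F34900 D41101 F70580
theorem E8089 : n46519 = n46502 := ((c15_4 (iv0 D46519) D46520 F73511 (iv2 F73471))).symm
theorem F73514 : act 1 n46502 = n22300 := (sb E8089 (iv0 D46519))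
def n46521 : Q := act 2 n22300
theorem D46521 : act 2 n22300 = n46521 := rfl
theorem F73515 : act 3 n46521 = n42361 := d0_2 D22300 D46521 (iv2 F68210) F68214 F68215
theorem F73516 : act 4 n46521 = n23164 := d1_2 (iv4 F36062) D46521 F36267
theorem F73517 : act 1 n46521 = n22593 := d15_0 (iv0 F72105) F72098 D46521
theorem F73518 : act 1 n41101 = n46521 := d15_0 F73517 (iv7 F73472) F73471
def n46522 : Q := act 5 n22300
theorem D46522 : act 5 n22300 = n46522 := rfl
theorem F73519 : act 3 n46522 = n22302 := d6_1 D46522 (iv5 D22302) D22300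
theorem F73520 : act 0 n39999 = n46522 := d20_4 (iv4 F13277) (iv1 F16667) D18914 D39999 F73519 F72919 (iv1 D37247) (iv4 F44066) (iv3 D27240) F21757
def n46523 : Q := act 6 n22300
theorem D46523 : act 6 n22300 = n46523 := rfl
theorem F73521 : act 3 n46523 = n22303 := d7_1 D46523 (iv6 D22303) D22300
def n46524 : Q := act 6 n22301
theorem D46524 : act 6 n22301 = n46524 := rfl
theorem F73522 : act 4 n46524 = n22303 := d10_1 D46524 (iv6 D22303) D22301
def n46525 : Q := act 6 n22302
theorem D46525 : act 6 n22302 = n46525 := rfl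
def n46526 : Q := act 0 n22303
theorem D46526 : act 0 n22303 = n46526 := rfl
def n46527 : Q := act 1 n22303
theorem D46527 : act 1 n22303 = n46527 := rfl
def n46528 : Q := act 5 n22303
theorem D46528 : act 5 n22303 = n46528 := rfl
def n46529 : Q := act 7 n22303
theorem D46529 : act 7 n22303 = n46529 := rfl
def n46530 : Q := act 0 n22305
theorem D46530 : act 0 n22305 = n46530 := rfl
theorem F73523 : act 4 n46530 = n22480 := d18_3 (iv1 F32609) (iv4 F34803) D46530 (iv5 F72750) F72751 F50222 (iv4 F52296) F68226 (iv5 D43401)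
theorem F73524 : act 3 n46530 = n22673 := d20_5 (iv4 F61992) F61994 (iv4 D22306) D22305 D46530 (iv4 F65135) F68208 F68207 (iv3 F72115) F72117
theorem F73525 : act 2 n22633 = n46530 := d15_3 (iv0 D46530) (iv0 F73430) F73429
theorem F73526 : act 1 n42361 = n46530 := d15_0 (iv0 D46530) (iv7 F68211) F68210
theorem F73527 : act 7 n46530 = n41068 := d15_2 F73431 F73526 (iv2 F73427)
def n46531 : Q := act 5 n22305
theorem D46531 : act 5 n22305 = n46531 := rfl
theorem F73528 : act 3 n46531 = n22307 := d6_1 D46531 (iv5 D22307) D22305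
theorem F73529 : act 0 n33507 = n46531 := d20_4 F35180 (iv1 F25718) D16188 D33507 F73528 F72922 (iv1 F70918) F70915 (iv3 D32749) (iv1 F35181)
def n46532 : Q := act 6 n22305
theorem D46532 : act 6 n22305 = n46532 := rfl
theorem F73530 : act 3 n46532 = n22308 := d7_1 D46532 (iv6 D22308) D22305
theorem F73531 : act 4 n46532 = n42364 := d10_1 D46532 (iv6 D42364) (iv4 F34803)
def n46533 : Q := act 5 n22306
theorem D46533 : act 5 n22306 = n46533 := rfl
def n46534 : Q := act 6 n22306
theorem D46534 : act 6 n22306 = n46534 := rfl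
theorem F73532 : act 4 n46534 = n22308 := d10_1 D46534 (iv6 D22308) D22306
def n46535 : Q := act 6 n22307
theorem D46535 : act 6 n22307 = n46535 := rfl
def n46536 : Q := act 0 n22308
theorem D46536 : act 0 n22308 = n46536 := rfl
def n46537 : Q := act 1 n22308
theorem D46537 : act 1 n22308 = n46537 := rfl
def n46538 : Q := act 5 n22308
theorem D46538 : act 5 n22308 = n46538 := rfl
def n46539 : Q := act 7 n22308
theorem D46539 : act 7 n22308 = n46539 := rfl
def n46540 : Q := act 4 n22309
theorem D46540 : act 4 n22309 = n46540 := rfl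
theorem F73533 : act 2 n46540 = n22313 := d1_1 D46540 (iv4 D22313) (iv2 F34804)
theorem F73534 : act 3 n46540 = n40142 := d5_1 D46540 (iv4 D40142) F30280 (iv4 F17265) (iv3 F34805)
theorem F73535 : act 7 n46540 = n40843 := d11_2 (iv7 F34806) D46540 (iv4 D40843)
def n46541 : Q := act 6 n22309
theorem D46541 : act 6 n22309 = n46541 := rfl
theorem F73536 : act 2 n46541 = n22314 := d3_1 D46541 (iv6 D22314) (iv2 F34804)
theorem F73537 : act 3 n46541 = n22683 := d7_1 D46541 (iv6 D22683) (iv3 F34805)
def n46542 : Q := act 0 n22310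
theorem D46542 : act 0 n22310 = n46542 := rfl
def n46543 : Q := act 1 n22310
theorem D46543 : act 1 n22310 = n46543 := rfl
theorem F73538 : act 1 n46543 = n22318 := d15_1 D46543 (iv7 D22318) (iv2 F34807)
def n46544 : Q := act 5 n22310
theorem D46544 : act 5 n22310 = n46544 := rfl
theorem F73539 : act 2 n46544 = n22317 := d2_1 D46544 (iv5 D22317) (iv2 F34807)
theorem F73540 : act 3 n46544 = n22686 := d6_1 D46544 (iv5 D22686) (iv3 F34808)
def n46545 : Q := act 7 n22310
theorem D46545 : act 7 n22310 = n46545 := rfl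
theorem F73541 : act 2 n46545 = n22318 := d4_1 D46545 (iv7 D22318) (iv2 F34807)
theorem F73542 : act 3 n46545 = n22687 := d8_1 D46545 (iv7 D22687) (iv3 F34808)
theorem F73543 : act 4 n46545 = n46545 := d11_1 D46545 (iv7 D46545) F34809
theorem F73544 : act 6 n46545 = n40848 := d14_1 D46545 (iv7 D40848) (iv6 D19254) (iv7 F17165) D22310
theorem F73545 : act 1 n22318 = n46542 := d15_0 (iv0 D46542) D46545 F73541
theorem F73546 : act 1 n22316 = n46545 := d15_1 D22316 (iv7 D46545) F34807
theorem F73547 : act 1 n46545 = n22315 := d15_0 (iv0 D22315) D22318 (iv2 F73541)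
def n46546 : Q := act 2 n22311
theorem D46546 : act 2 n22311 = n46546 := rfl
theorem F73548 : act 7 n22312 = n46546 := d15_2 (iv0 D22311) D22312 (iv2 D46546)
def n46547 : Q := act 3 n22311
theorem D46547 : act 3 n22311 = n46547 := rfl
def n46548 : Q := act 4 n22311
theorem D46548 : act 4 n22311 = n46548 := rfl
theorem F73549 : act 0 n46548 = n27702 := d18_2 D22311 D46548 F44707 D39084 (iv4 F61992) (iv0 F61995) (iv4 D22301) (iv0 D10623) D10626
theorem F73550 : act 0 n37455 = n46547 := d20_4 (iv4 F22000) F30210 F30209 D37455 (iv3 D46547) D46548 F73549 F44707 (iv3 D18560) (iv1 F21998)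
theorem F73551 : act 5 n44764 = n46548 := d17_1 (iv1 F70354) F73549 F44708 (iv4 F36285) F36286 D38889 (iv5 F72119) F71692 F70352
def n46549 : Q := act 5 n22311
theorem D46549 : act 5 n22311 = n46549 := rfl
def n46550 : Q := act 6 n22311
theorem D46550 : act 6 n22311 = n46550 := rfl
def n46551 : Q := act 7 n22311
theorem D46551 : act 7 n22311 = n46551 := rfl
theorem F73552 : act 2 n46551 = n22312 := d4_1 D46551 F73548 (iv2 D46546)
def n46552 : Q := act 3 n22312
theorem D46552 : act 3 n22312 = n46552 := rfl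
def n46553 : Q := act 4 n22312
theorem D46553 : act 4 n22312 = n46553 := rfl
theorem F73553 : act 0 n27702 = n46553 := d20_10 (iv4 D46553) (iv1 D22312) D22313 (iv3 F42584) F42586 (iv3 D17886) (iv4 D8437) (iv1 F9783) D13226 D27702
theorem F73554 : act 1 n26320 = n46553 := d15_0 (iv0 F73553) F44709 (iv2 F41970)
def n46554 : Q := act 5 n22312
theorem D46554 : act 5 n22312 = n46554 := rfl
def n46555 : Q := act 6 n22312
theorem D46555 : act 6 n22312 = n46555 := rfl
def n46556 : Q := act 0 n22313
theorem D46556 : act 0 n22313 = n46556 := rfl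
theorem F73555 : act 1 n40843 = n46556 := d15_0 (iv0 D46556) (iv7 F59402) (iv2 F61940)
def n46557 : Q := act 1 n22313
theorem D46557 : act 1 n22313 = n46557 := rfl
theorem F73556 : act 1 n46557 = n40843 := d15_1 D46557 (iv7 F73535) F73533
def n46558 : Q := act 5 n22313
theorem D46558 : act 5 n22313 = n46558 := rfl
def n46559 : Q := act 6 n22313
theorem D46559 : act 6 n22313 = n46559 := rfl
theorem F73557 : act 4 n46559 = n22314 := d10_1 D46559 (iv6 D22314) D22313
def n46560 : Q := act 0 n22314
theorem D46560 : act 0 n22314 = n46560 := rfl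
def n46561 : Q := act 1 n22314
theorem D46561 : act 1 n22314 = n46561 := rfl
def n46562 : Q := act 5 n22314
theorem D46562 : act 5 n22314 = n46562 := rfl
theorem F73558 : act 3 n46562 = n22321 := d6_1 D46562 (iv5 D22321) (iv3 F34812)
theorem F73559 : act 6 n46562 = n22317 := d12_2 D22314 D46562 (iv5 D22317) (iv6 D10627) D10626
def n46563 : Q := act 7 n22314
theorem D46563 : act 7 n22314 = n46563 := rfl
theorem F73560 : act 3 n46563 = n22322 := d8_1 D46563 (iv7 D22322) (iv3 F34812)
def n46564 : Q := act 2 n22315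
theorem D46564 : act 2 n22315 = n46564 := rfl
theorem F73561 : act 7 n22316 = n46564 := d15_2 (iv0 D22315) D22316 (iv2 D46564)
def n46565 : Q := act 3 n22315
theorem D46565 : act 3 n22315 = n46565 := rfl
def n46566 : Q := act 4 n22315
theorem D46566 : act 4 n22315 = n46566 := rfl
def n46567 : Q := act 5 n22315
theorem D46567 : act 5 n22315 = n46567 := rfl
def n46568 : Q := act 6 n22315
theorem D46568 : act 6 n22315 = n46568 := rfl
def n46569 : Q := act 7 n22315
theorem D46569 : act 7 n22315 = n46569 := rfl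
theorem F73562 : act 2 n46569 = n22316 := d4_1 D46569 F73561 (iv2 D46564)
def n46570 : Q := act 3 n22316
theorem D46570 : act 3 n22316 = n46570 := rfl
theorem F73563 : act 4 n46570 = n42368 := d20_6 (iv4 D10979) (iv1 F17840) (iv4 F35254) (iv3 F73542) (iv1 F73546) D46570 (iv1 D42368) (iv4 F65447) F65446 F66799
def n46571 : Q := act 4 n22316
theorem D46571 : act 4 n22316 = n46571 := rfl
def n46572 : Q := act 5 n22316
theorem D46572 : act 5 n22316 = n46572 := rfl
def n46573 : Q := act 6 n22316
theorem D46573 : act 6 n22316 = n46573 := rfl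
def n46574 : Q := act 0 n22317
theorem D46574 : act 0 n22317 = n46574 := rfl
def n46575 : Q := act 1 n22317
theorem D46575 : act 1 n22317 = n46575 := rfl
def n46576 : Q := act 4 n22317
theorem D46576 : act 4 n22317 = n46576 := rfl
def n46577 : Q := act 7 n22317
theorem D46577 : act 7 n22317 = n46577 := rfl
theorem F73564 : act 3 n46577 = n22333 := d8_1 D46577 (iv7 D22333) (iv3 F34813)
theorem F73565 : act 5 n46577 = n22318 := d13_1 D46577 (iv7 D22318) D22317
def n46578 : Q := act 2 n22319
theorem D46578 : act 2 n22319 = n46578 := rfl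
theorem F73566 : act 7 n22320 = n46578 := d15_2 (iv0 D22319) D22320 (iv2 D46578)
def n46579 : Q := act 3 n22319
theorem D46579 : act 3 n22319 = n46579 := rfl
def n46580 : Q := act 4 n22319
theorem D46580 : act 4 n22319 = n46580 := rfl
def n46581 : Q := act 5 n22319
theorem D46581 : act 5 n22319 = n46581 := rfl
def n46582 : Q := act 6 n22319
theorem D46582 : act 6 n22319 = n46582 := rfl
def n46583 : Q := act 7 n22319
theorem D46583 : act 7 n22319 = n46583 := rfl
def n46584 : Q := act 3 n22320
theorem D46584 : act 3 n22320 = n46584 := rfl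
def n46585 : Q := act 4 n22320
theorem D46585 : act 4 n22320 = n46585 := rfl
def n46586 : Q := act 5 n22320
theorem D46586 : act 5 n22320 = n46586 := rfl
def n46587 : Q := act 6 n22320
theorem D46587 : act 6 n22320 = n46587 := rfl
def n46588 : Q := act 0 n22321
theorem D46588 : act 0 n22321 = n46588 := rfl
def n46589 : Q := act 1 n22321
theorem D46589 : act 1 n22321 = n46589 := rfl
theorem F73568 : act 1 n46589 = n22747 := d15_1 D46589 (iv7 D22747) (iv2 F34817)
theorem F73569 : act 5 n41714 = n46589 := d21_6 (iv5 D9222) (iv1 D4173) D4175 D9229 D19631 D41714 (iv1 D46589) (iv5 D22321) (iv6 D10628) (iv1 F14411)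
def n46590 : Q := act 4 n22321
theorem D46590 : act 4 n22321 = n46590 := rfl
theorem F73570 : act 2 n46590 = n22746 := d1_1 D46590 (iv4 D22746) (iv2 F34817)
theorem F73571 : act 6 n46590 = n22332 := d10_2 (iv6 F34818) D46590 (iv4 D22332)
def n46591 : Q := act 7 n22321
theorem D46591 : act 7 n22321 = n46591 := rfl
theorem F73572 : act 2 n46591 = n22747 := d4_1 D46591 (iv7 D22747) (iv2 F34817)
theorem F73573 : act 5 n46591 = n22322 := d13_1 D46591 (iv7 D22322) D22321
theorem F73574 : act 1 n22747 = n46588 := d15_0 (iv0 D46588) D46591 F73572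
theorem F73575 : act 1 n22745 = n46591 := d15_1 D22745 (iv7 D46591) F34817
theorem F73576 : act 1 n46591 = n22744 := d15_0 (iv0 D22744) D22747 (iv2 F73572)
def n46592 : Q := act 0 n22323
theorem D46592 : act 0 n22323 = n46592 := rfl
theorem F73577 : act 1 n22773 = n46592 := d15_0 (iv0 D46592) F34824 D22773
def n46593 : Q := act 1 n22323
theorem D46593 : act 1 n22323 = n46593 := rfl
def n46594 : Q := act 2 n22323
theorem D46594 : act 2 n22323 = n46594 := rfl
theorem F73578 : act 3 n46594 = n22754 := d0_2 D22323 D46594 (iv2 D22754) (iv3 D10759) (iv2 F31062)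
theorem F73579 : act 4 n46594 = n41214 := d1_2 (iv4 F34823) D46594 (iv2 D41214)
theorem F73580 : act 7 n46594 = n22773 := d4_2 (iv7 F34824) D46594 (iv2 D22773)
theorem F73581 : act 1 n46594 = n22771 := d15_0 (iv0 D22771) (iv7 F34824) D46594
theorem F73582 : act 1 n46593 = n22773 := d15_1 D46593 (iv7 F73580) (iv2 D46594)
theorem F73583 : act 1 n22772 = n46594 := d15_1 D22772 F73580 (iv2 D22773)
def n46595 : Q := act 5 n22323
theorem D46595 : act 5 n22323 = n46595 := rfl
def n46596 : Q := act 6 n22323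
theorem D46596 : act 6 n22323 = n46596 := rfl
theorem F73586 : act 3 n46596 = n22325 := d7_1 D46596 (iv6 D22325) D22323
theorem F73587 : act 4 n46596 = n41216 := d10_1 D46596 (iv6 D41216) (iv4 F34823)
theorem F73588 : act 5 n41762 = n46596 := d6_0 F73586 F34829 D41762
def n46597 : Q := act 1 n22324
theorem D46597 : act 1 n22324 = n46597 := rfl
theorem F73589 : act 1 n46597 = n22328 := d15_1 D46597 F34838 (iv2 F34825)
theorem F73590 : act 7 n46597 = n22763 := d15_2 F71995 D46597 (iv2 F71991)
theorem F73591 : act 2 n22764 = n46597 := d4_3 F73590 (iv2 F71991) F71993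
theorem F73592 : act 5 n41809 = n46597 := d13_3 F73590 F35325 (iv7 F64466)
def n46598 : Q := act 4 n22324
theorem D46598 : act 4 n22324 = n46598 := rfl
theorem F73593 : act 2 n46598 = n22765 := d1_1 D46598 (iv4 D22765) (iv2 F34825)
theorem F73594 : act 7 n46598 = n22778 := d11_2 (iv7 F34826) D46598 (iv4 D22778)
def n46599 : Q := act 6 n22324
theorem D46599 : act 6 n22324 = n46599 := rfl
theorem F73595 : act 2 n46599 = n22766 := d3_1 D46599 (iv6 D22766) (iv2 F34825)
theorem F73596 : act 5 n46599 = n41764 := d12_1 D46599 (iv6 D41764) (iv5 F34829) (iv6 D22325) D22324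
def n46600 : Q := act 0 n22326
theorem D46600 : act 0 n22326 = n46600 := rfl
theorem F73597 : act 1 n22754 = n46600 := d15_0 (iv0 D46600) F34830 D22754
def n46601 : Q := act 1 n22326
theorem D46601 : act 1 n22326 = n46601 := rfl
def n46602 : Q := act 2 n22326
theorem D46602 : act 2 n22326 = n46602 := rfl
theorem F73598 : act 3 n46602 = n22773 := d0_2 D22326 D46602 (iv2 D22773) (iv3 D10764) (iv2 F31064)
theorem F73599 : act 7 n46602 = n22754 := d4_2 (iv7 F34830) D46602 (iv2 D22754)
theorem F73600 : act 1 n46602 = n22752 := d15_0 (iv0 D22752) (iv7 F34830) D46602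
theorem F73601 : act 1 n46601 = n22754 := d15_1 D46601 (iv7 F73599) (iv2 D46602)
theorem F73602 : act 1 n22753 = n46602 := d15_1 D22753 F73599 (iv2 D22754)
def n46603 : Q := act 5 n22326
theorem D46603 : act 5 n22326 = n46603 := rfl
theorem F73603 : act 3 n46603 = n22328 := d6_1 D46603 (iv5 D22328) D22326
theorem F73604 : act 7 n46603 = n22756 := d13_2 (iv7 F34830) D46603 (iv5 D22756)
def n46604 : Q := act 6 n22326
theorem D46604 : act 6 n22326 = n46604 := rfl
theorem F73605 : act 3 n46604 = n22329 := d7_1 D46604 (iv6 D22329) D22326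
def n46605 : Q := act 4 n22328
theorem D46605 : act 4 n22328 = n46605 := rfl
theorem F73606 : act 2 n46605 = n22778 := d1_1 D46605 (iv4 D22778) (iv2 F34837)
theorem F73607 : act 7 n46605 = n22765 := d11_2 (iv7 F34838) D46605 (iv4 D22765)
def n46606 : Q := act 6 n22328
theorem D46606 : act 6 n22328 = n46606 := rfl
theorem F73608 : act 2 n46606 = n22779 := d3_1 D46606 (iv6 D22779) (iv2 F34837)
def n46607 : Q := act 3 n22330
theorem D46607 : act 3 n22330 = n46607 := rfl
theorem F73609 : act 7 n46607 = n22790 := d8_2 (iv7 F64426) D46607 (iv3 D22790)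
def n46608 : Q := act 4 n22330
theorem D46608 : act 4 n22330 = n46608 := rfl
theorem F73610 : act 2 n46608 = n22786 := d1_1 D46608 (iv4 D22786) (iv2 F64425)
theorem F73611 : act 7 n46608 = n22791 := d11_2 (iv7 F64426) D46608 (iv4 D22791)
def n46609 : Q := act 6 n22330
theorem D46609 : act 6 n22330 = n46609 := rfl
theorem F73612 : act 2 n46609 = n22788 := d3_1 D46609 (iv6 D22788) (iv2 F64425)
def n46610 : Q := act 3 n22331
theorem D46610 : act 3 n22331 = n46610 := rfl
theorem F73613 : act 7 n46610 = n22785 := d8_2 (iv7 F64423) D46610 (iv3 D22785)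
def n46611 : Q := act 4 n22331
theorem D46611 : act 4 n22331 = n46611 := rfl
theorem F73614 : act 2 n46611 = n22791 := d1_1 D46611 (iv4 D22791) (iv2 F64422)
theorem F73615 : act 7 n46611 = n22786 := d11_2 (iv7 F64423) D46611 (iv4 D22786)
def n46612 : Q := act 6 n22331
theorem D46612 : act 6 n22331 = n46612 := rfl
theorem F73616 : act 2 n46612 = n22793 := d3_1 D46612 (iv6 D22793) (iv2 F64422)
def n46613 : Q := act 0 n22332
theorem D46613 : act 0 n22332 = n46613 := rfl
theorem F73617 : act 1 n22798 = n46613 := d15_0 (iv0 D46613) (iv7 F64412) F64410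
def n46614 : Q := act 1 n22332
theorem D46614 : act 1 n22332 = n46614 := rfl
theorem F73618 : act 1 n46614 = n22798 := d15_1 D46614 (iv7 D22798) (iv2 F34841)
def n46615 : Q := act 3 n22332
theorem D46615 : act 3 n22332 = n46615 := rfl
def n46616 : Q := act 6 n22333
theorem D46616 : act 6 n22333 = n46616 := rfl
theorem F73619 : act 2 n46616 = n22799 := d3_1 D46616 (iv6 D22799) (iv2 F34842)
def n46617 : Q := act 0 n22338
theorem D46617 : act 0 n22338 = n46617 := rfl
theorem F73620 : act 5 n46617 = n41821 := d17_3 (iv1 F63130) D22338 D46617 (iv4 F69274) (iv5 F69275) (iv0 D41302) (iv5 D19437) F63159 (iv4 F15491)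
theorem F73621 : act 4 n46617 = n41310 := d18_1 D46617 (iv1 F63635) F63619 (iv5 F31090) D19457 F31112 F63138 (iv0 F63129) D22338
theorem F73622 : act 3 n46617 = n22829 := d20_5 (iv4 F62994) F62995 (iv4 D22343) (iv3 F34861) D46617 (iv4 F62418) (iv1 D41222) F31009 (iv3 F31004) (iv1 F62998)
theorem F73623 : act 6 n46617 = n46153 := d21_5 (iv5 F65929) (iv1 D22878) D22879 F35577 D46617 (iv5 D46153) (iv1 F72742) F72739 (iv6 F64141) (iv1 F64143)
theorem F73625 : act 1 n22868 = n46617 := d15_0 (iv0 D46617) F34862 (iv2 F35569)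
theorem F73626 : act 7 n46617 = n22874 := d15_2 (iv0 F63332) F73625 (iv2 F63346)
def n46618 : Q := act 4 n22338
theorem D46618 : act 4 n22338 = n46618 := rfl
theorem F73627 : act 2 n46618 = n43524 := d1_1 D46618 (iv4 F69229) F69225
theorem F73628 : act 6 n46618 = n43949 := d10_2 F35577 D46618 F69085
theorem F73629 : act 7 n46618 = n22876 := d11_2 (iv7 F34862) D46618 (iv4 D22876)
theorem F73630 : act 5 n46618 = n43246 := d17_5 F63530 F17014 (iv1 F63130) D22338 D46618 (iv0 D43246) (iv5 D20401) D20400 F63532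
theorem F73631 : act 0 n46618 = n41315 := d18_2 F68974 D46618 (iv4 D41315) F35630 (iv4 F33160) (iv0 F64488) (iv4 D41823) D41822 F67697
theorem F73632 : act 1 n46618 = n41314 := d18_6 (iv1 F35617) (iv4 F15186) D20482 F35635 D22338 D46618 (iv4 D41314) (iv0 D19443) (iv5 F14190)
def n46619 : Q := act 3 n22339
theorem D46619 : act 3 n22339 = n46619 := rfl
theorem F73633 : act 4 n46619 = n23522 := d5_2 (iv4 F35952) D46619 (iv3 D23522) D23523 F36642
theorem F73634 : act 6 n46619 = n41247 := d7_2 (iv6 F72169) D46619 (iv3 F72170)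
theorem F73635 : act 7 n46619 = n22387 := d8_2 (iv7 F35953) D46619 F34945
theorem F73636 : act 0 n46619 = n23410 := d20_4 D10760 D22758 (iv4 F35952) D46619 (iv3 D23410) (iv4 D10984) (iv1 D5002) (iv4 F7341) F7340 D4918
def n46620 : Q := act 5 n22339
theorem D46620 : act 5 n22339 = n46620 := rfl
theorem F73637 : act 2 n46620 = n22832 := d2_1 D46620 (iv5 D22832) (iv2 F35951)
theorem F73638 : act 7 n46620 = n22390 := d13_2 (iv7 F35953) D46620 (iv5 D22390)
def n46621 : Q := act 0 n22341
theorem D46621 : act 0 n22341 = n46621 := rfl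
theorem F73639 : act 2 n22881 = n46621 := d15_3 (iv0 D46621) (iv0 F68110) (iv7 F66884)
theorem F73640 : act 1 n22882 = n46621 := d15_0 (iv0 D46621) F34867 D22882
theorem F73641 : act 7 n46621 = n22505 := d4_2 (iv7 F66884) F73639 (iv2 F65445)
theorem F73642 : act 1 n42366 = n22882 := d15_0 F73640 F73641 (iv2 F65445)
def n46622 : Q := act 2 n22341
theorem D46622 : act 2 n22341 = n46622 := rfl
theorem F73643 : act 3 n46622 = n22840 := d0_2 D22341 D46622 (iv2 D22840) (iv3 D10791) (iv2 F17356)
theorem F73644 : act 7 n46622 = n22882 := d4_2 (iv7 F34867) D46622 (iv2 D22882)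
theorem F73645 : act 1 n46622 = n22505 := d15_0 F66885 (iv7 F34867) D46622
theorem F73646 : act 1 n22881 = n46622 := d15_0 F73645 (iv7 F73641) (iv2 F73639)
def n46623 : Q := act 5 n22341
theorem D46623 : act 5 n22341 = n46623 := rfl
theorem F73647 : act 3 n46623 = n22342 := d6_1 D46623 (iv5 D22342) D22341
theorem F73648 : act 7 n46623 = n22883 := d13_2 (iv7 F34867) D46623 (iv5 D22883)
def n46624 : Q := act 0 n22342
theorem D46624 : act 0 n22342 = n46624 := rfl
theorem F73649 : act 5 n46624 = n41541 := d17_3 F35614 D22342 D46624 F64095 (iv5 F62406) F62404 (iv5 D22761) (iv0 F35827) (iv4 F31809)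
theorem F73650 : act 1 n22349 = n46624 := d15_0 (iv0 D46624) F34869 (iv2 F34886)
theorem F73651 : act 2 n22843 = n46624 := d2_3 F73649 F64094 (iv5 F35955)
theorem F73652 : act 7 n22844 = n46624 := d15_2 (iv0 D22843) D22844 (iv2 F73651)
def n46625 : Q := act 1 n22342
theorem D46625 : act 1 n22342 = n46625 := rfl
theorem F73653 : act 1 n46625 = n22349 := d15_1 D46625 F34887 (iv2 F34868)
theorem F73654 : act 7 n46625 = n22843 := d15_2 (iv0 D46624) D46625 F73651
theorem F73655 : act 5 n46625 = n41810 := d17_7 D19673 F31433 (iv1 F35466) (iv5 D10636) D10635 D22342 D46625 (iv0 D41810) (iv4 D19675)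
theorem F73656 : act 2 n22844 = n46625 := d4_3 F73654 F73651 (iv7 F73652)
def n46626 : Q := act 4 n22342
theorem D46626 : act 4 n22342 = n46626 := rfl
theorem F73657 : act 2 n46626 = n22845 := d1_1 D46626 (iv4 D22845) (iv2 F34868)
theorem F73658 : act 7 n46626 = n22885 := d11_2 (iv7 F34869) D46626 (iv4 D22885)
def n46627 : Q := act 6 n22342
theorem D46627 : act 6 n22342 = n46627 := rfl
theorem F73659 : act 2 n46627 = n22846 := d3_1 D46627 (iv6 D22846) (iv2 F34868)
def n46628 : Q := act 3 n22343
theorem D46628 : act 3 n22343 = n46628 := rfl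
theorem F73660 : act 7 n46628 = n22891 := d8_2 (iv7 F34871) D46628 (iv3 D22891)
def n46629 : Q := act 0 n22348
theorem D46629 : act 0 n22348 = n46629 := rfl
theorem F73661 : act 1 n22840 = n46629 := d15_0 (iv0 D46629) F34885 D22840
def n46630 : Q := act 1 n22348
theorem D46630 : act 1 n22348 = n46630 := rfl
def n46631 : Q := act 2 n22348
theorem D46631 : act 2 n22348 = n46631 := rfl
theorem F73662 : act 3 n46631 = n22882 := d0_2 D22348 D46631 (iv2 D22882) (iv3 D10810) (iv2 F17348)
theorem F73663 : act 4 n46631 = n41175 := d1_2 (iv4 F34884) D46631 (iv2 D41175)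
theorem F73664 : act 7 n46631 = n22840 := d4_2 (iv7 F34885) D46631 (iv2 D22840)
theorem F73665 : act 1 n46631 = n22838 := d15_0 (iv0 D22838) (iv7 F34885) D46631
theorem F73666 : act 1 n46630 = n22840 := d15_1 D46630 (iv7 F73664) (iv2 D46631)
theorem F73667 : act 1 n22839 = n46631 := d15_1 D22839 F73664 (iv2 D22840)
def n46632 : Q := act 5 n22348
theorem D46632 : act 5 n22348 = n46632 := rfl
theorem F73668 : act 3 n46632 = n22349 := d6_1 D46632 (iv5 D22349) D22348
theorem F73669 : act 7 n46632 = n22841 := d13_2 (iv7 F34885) D46632 (iv5 D22841)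
def n46633 : Q := act 6 n22348
theorem D46633 : act 6 n22348 = n46633 := rfl
theorem F73670 : act 3 n46633 = n22350 := d7_1 D46633 (iv6 D22350) D22348
theorem F73671 : act 4 n46633 = n41177 := d10_1 D46633 (iv6 D41177) (iv4 F34884)
def n46634 : Q := act 4 n22349
theorem D46634 : act 4 n22349 = n46634 := rfl
theorem F73672 : act 2 n46634 = n22885 := d1_1 D46634 (iv4 D22885) (iv2 F34886)
theorem F73673 : act 7 n46634 = n22845 := d11_2 (iv7 F34887) D46634 (iv4 D22845)
def n46635 : Q := act 6 n22349
theorem D46635 : act 6 n22349 = n46635 := rfl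
theorem F73674 : act 2 n46635 = n22886 := d3_1 D46635 (iv6 D22886) (iv2 F34886)
def n46636 : Q := act 5 n22350
theorem D46636 : act 5 n22350 = n46636 := rfl
theorem F73675 : act 2 n46636 = n22889 := d2_1 D46636 (iv5 D22889) (iv2 F34888)
theorem F73676 : act 7 n46636 = n46083 := d13_2 F35561 D46636 F72650
theorem F73677 : act 0 n46636 = n41600 := d17_2 (iv1 F72682) D46636 (iv5 D41600) (iv4 F65815) D20838 F66076 F62398 F66264 (iv4 F72678)
theorem F73678 : act 1 n46636 = n41595 := d17_6 F65749 D10195 (iv1 F65717) F17319 (iv4 F34889) D46636 (iv5 D41595) (iv0 D19587) F14395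
def n46637 : Q := act 5 n22351
theorem D46637 : act 5 n22351 = n46637 := rfl
theorem F73679 : act 2 n46637 = n22366 := d2_1 D46637 (iv5 D22366) (iv2 F65763)
theorem F73680 : act 3 n46637 = n42430 := d6_1 D46637 (iv5 D42430) (iv3 F65644)
theorem F73681 : act 6 n46637 = n45817 := d12_2 (iv6 F34890) D46637 (iv5 D45817) (iv6 D21916) D21915
theorem F73682 : act 7 n46637 = n22371 := d13_2 (iv7 F65764) D46637 (iv5 D22371)
def n46638 : Q := act 0 n22353
theorem D46638 : act 0 n22353 = n46638 := rfl
theorem F73685 : act 6 n46638 = n46454 := d21_5 (iv5 D19124) (iv1 F17587) D19479 (iv6 F34893) D46638 (iv5 D46454) (iv1 D22258) D22259 F34731 F30734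
theorem F73686 : act 2 n22373 = n46638 := d15_3 (iv0 D46638) (iv0 F64027) F66972
theorem F73687 : act 7 n46638 = n22374 := d4_2 F66972 F73686 F72767
theorem F73688 : act 1 n22376 = n46638 := d15_1 (iv0 F64026) F73687 F72767
def n46639 : Q := act 7 n22353
theorem D46639 : act 7 n22353 = n46639 := rfl
theorem F73690 : act 4 n46639 = n42790 := d11_1 D46639 F67073 F63605
theorem F73691 : act 5 n46639 = n22354 := d13_1 D46639 (iv7 D22354) D22353
theorem F73692 : act 1 n22374 = n46639 := d15_1 D22374 (iv7 D46639) F34892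
theorem F73693 : act 1 n46639 = n22373 := d15_1 F73692 (iv7 F66972) (iv2 F72767)
def n46640 : Q := act 6 n22355
theorem D46640 : act 6 n22355 = n46640 := rfl
theorem F73694 : act 2 n46640 = n41103 := d3_1 D46640 (iv6 D41103) F34902
theorem F73695 : act 4 n46640 = n41102 := d10_1 D46640 (iv6 D41102) (iv4 F34900)
def n46641 : Q := act 6 n22356
theorem D46641 : act 6 n22356 = n46641 := rfl
theorem F73696 : act 2 n46641 = n41102 := d3_1 D46641 (iv6 D41102) F34908
theorem F73697 : act 3 n46641 = n22592 := d7_1 D46641 (iv6 D22592) F34909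
theorem F73698 : act 4 n46641 = n41103 := d10_1 D46641 (iv6 D41103) (iv4 F34907)
def n46642 : Q := act 0 n22357
theorem D46642 : act 0 n22357 = n46642 := rfl
def n46643 : Q := act 1 n22357
theorem D46643 : act 1 n22357 = n46643 := rfl
def n46644 : Q := act 5 n22357
theorem D46644 : act 5 n22357 = n46644 := rfl
theorem F73699 : act 3 n46644 = n22361 := d6_1 D46644 (iv5 D22361) (iv3 F34914)
def n46645 : Q := act 0 n22358
theorem D46645 : act 0 n22358 = n46645 := rfl
def n46646 : Q := act 1 n22358
theorem D46646 : act 1 n22358 = n46646 := rfl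
theorem F73700 : act 1 n46646 = n41086 := d15_1 D46646 (iv7 D41086) (iv2 F34916)
def n46647 : Q := act 5 n22358
theorem D46647 : act 5 n22358 = n46647 := rfl
theorem F73701 : act 2 n46647 = n41085 := d2_1 D46647 (iv5 D41085) (iv2 F34916)
theorem F73702 : act 6 n46647 = n22361 := d12_2 D22358 D46647 (iv5 D22361) (iv6 D10644) D10643
def n46648 : Q := act 7 n22358
theorem D46648 : act 7 n22358 = n46648 := rfl
theorem F73703 : act 2 n46648 = n41086 := d4_1 D46648 (iv7 D41086) (iv2 F34916)
theorem F73704 : act 6 n46648 = n41112 := d14_1 D46648 (iv7 D41112) (iv6 D19345) (iv7 F17187) D22358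
theorem F73705 : act 1 n41086 = n46645 := d15_0 (iv0 D46645) D46648 F73703
theorem F73706 : act 1 n41084 = n46648 := d15_1 D41084 (iv7 D46648) F34916
theorem F73707 : act 1 n46648 = n41083 := d15_0 (iv0 D41083) D41086 (iv2 F73703)
def n46649 : Q := act 0 n22361
theorem D46649 : act 0 n22361 = n46649 := rfl
theorem F73708 : act 5 n46649 = n42793 := d17_3 F65776 D22361 D46649 (iv4 D42793) (iv5 D20220) (iv0 F62523) (iv5 D10971) (iv0 F66044) D20196
theorem F73709 : act 1 n41100 = n46649 := d15_0 (iv0 D46649) (iv7 F66995) F66994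
theorem F73710 : act 3 n22669 = n46649 := d6_3 F73708 (iv3 F70479) (iv5 F70482)
theorem F73711 : act 7 n41098 = n46649 := d13_0 F73708 F67064 F62529
theorem F73712 : act 2 n46649 = n41097 := d15_3 (iv0 D41097) D41098 F73711
def n46650 : Q := act 1 n22361
theorem D46650 : act 1 n22361 = n46650 := rfl
theorem F73713 : act 1 n46650 = n41100 := d15_1 D46650 (iv7 D41100) (iv2 F34918)
theorem F73714 : act 7 n46650 = n41097 := d15_2 (iv0 D46649) D46650 (iv2 F73712)
theorem F73715 : act 5 n44256 = n46650 := d21_6 D4911 D10740 F17270 D19079 (iv1 F62663) D44256 (iv1 D46650) (iv5 D22361) (iv6 D10644) F7047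
theorem F73716 : act 2 n46650 = n41098 := d2_1 F73715 (iv5 F62529) (iv2 F69637)
def n46651 : Q := act 4 n22361
theorem D46651 : act 4 n22361 = n46651 := rfl
theorem F73717 : act 2 n46651 = n41099 := d1_1 D46651 (iv4 D41099) (iv2 F34918)
def n46652 : Q := act 0 n22366
theorem D46652 : act 0 n22366 = n46652 := rfl
theorem F73718 : act 4 n46652 = n42729 := d18_1 D46652 (iv1 F66985) (iv4 D42753) (iv5 D20197) D20196 (iv0 F65805) (iv4 F34895) F34898 D22366
theorem F73719 : act 1 n22371 = n46652 := d15_0 (iv0 D46652) F65952 (iv2 F65955)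
theorem F73720 : act 6 n44665 = n46652 := d21_9 (iv5 D22371) (iv1 D10646) D10647 F17192 F30751 (iv6 F33497) (iv5 D21272) D21270 D44665 (iv1 F73719)
def n46653 : Q := act 1 n22366
theorem D46653 : act 1 n22366 = n46653 := rfl
theorem F73721 : act 1 n46653 = n22371 := d15_1 D46653 (iv7 F73682) F73679
theorem F73722 : act 4 n42730 = n46653 := d18_7 (iv1 D10646) (iv4 F17190) (iv1 F65775) (iv4 D9517) D9518 D20174 D42730 F73721 (iv5 D22371)
theorem F73723 : act 3 n22441 = n46653 := d20_5 D20179 F32006 (iv4 D10891) F65696 (iv1 F34985) (iv4 F73722) (iv1 D42730) (iv4 D20174) F14772 D9527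
def n46654 : Q := act 4 n22366
theorem D46654 : act 4 n22366 = n46654 := rfl
theorem F73724 : act 1 n46654 = n42766 := d18_6 (iv1 F66043) (iv4 F14146) D19280 (iv4 F66125) D22366 D46654 (iv4 D42766) (iv0 D20203) (iv5 D9538)
theorem F73725 : act 1 n42769 = n46654 := d15_0 F73724 F67012 (iv2 F67023)
def n46655 : Q := act 5 n22369
theorem D46655 : act 5 n22369 = n46655 := rfl
theorem F73726 : act 2 n46655 = n42444 := d2_1 D46655 (iv5 D42444) (iv2 F65772)
theorem F73727 : act 3 n46655 = n22371 := d6_1 D46655 (iv5 D22371) D22369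
theorem F73728 : act 7 n46655 = n42430 := d13_2 (iv7 F65774) D46655 (iv5 D42430)
theorem F73729 : act 0 n41826 = n46655 := d21_10 (iv5 D46655) F65770 D43221 F67693 F32371 (iv6 F32440) (iv5 D20422) D20420 D43265 F67835
def n46656 : Q := act 6 n22369
theorem D46656 : act 6 n22369 = n46656 := rfl
theorem F73730 : act 2 n46656 = n42445 := d3_1 D46656 (iv6 D42445) (iv2 F65772)
theorem F73731 : act 3 n46656 = n22372 := d7_1 D46656 (iv6 D22372) D22369
theorem F73732 : act 4 n46656 = n42215 := d10_1 D46656 (iv6 D42215) (iv4 F65773)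
theorem F73733 : act 1 n46656 = n44008 := d15_0 (iv0 F70400) F70399 (iv2 F73730)
def n46657 : Q := act 4 n22371
theorem D46657 : act 4 n22371 = n46657 := rfl
theorem F73734 : act 1 n46657 = n42769 := d18_6 F66031 D20193 (iv1 F66053) (iv4 F66124) D22371 D46657 (iv4 D42769) F66095 (iv5 D19287)
theorem F73735 : act 1 n42766 = n46657 := d15_0 F73734 F67024 (iv2 F67011)
def n46658 : Q := act 6 n22371
theorem D46658 : act 6 n22371 = n46658 := rfl
def n46659 : Q := act 0 n22372
theorem D46659 : act 0 n22372 = n46659 := rfl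
def n46660 : Q := act 5 n22372
theorem D46660 : act 5 n22372 = n46660 := rfl
theorem F73736 : act 0 n44665 = n46660 := d21_1 D44665 (iv5 D46660) (iv6 D22372) (iv1 D10646) (iv6 D4878) (iv5 F7102) (iv1 F12149) F6931 D10159 D21270
theorem F73737 : act 1 n44667 = n46660 := d15_0 (iv0 F73736) (iv7 F72278) F72276
def n46661 : Q := act 7 n22372
theorem D46661 : act 7 n22372 = n46661 := rfl
theorem F73738 : act 2 n46661 = n45813 := d4_1 D46661 F72346 (iv2 F65956)
theorem F73739 : act 6 n46661 = n45768 := d14_1 D46661 F72227 (iv6 F34890) F65764 D22372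
theorem F73740 : act 1 n45813 = n46659 := d15_0 (iv0 D46659) D46661 F73738
theorem F73741 : act 7 n46659 = n22906 := d15_2 (iv0 F72347) F73740 (iv2 F70672)
theorem F73742 : act 3 n22458 = n46659 := d8_3 F73741 F35976 (iv7 F66833)
theorem F73743 : act 5 n41858 = n46659 := d13_3 F73741 F70233 (iv7 F70235)
theorem F73744 : act 0 n46661 = n22906 := d21_4 F16626 D21883 D45768 (iv6 F73739) (iv6 D22906) D22905 F70450 (iv5 D44849) (iv6 D21372) (iv1 F65813)
theorem F73745 : act 1 n23057 = n22906 := d15_0 (iv0 F73744) (iv7 D46661) F65956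
def n46662 : Q := act 5 n22373
theorem D46662 : act 5 n22373 = n46662 := rfl
theorem F73746 : act 3 n46662 = n42004 := d6_1 D46662 F64819 (iv3 F66970)
theorem F73747 : act 6 n46662 = n41786 := d12_2 F66971 D46662 F64438 F63231 D23224
theorem F73749 : act 1 n46662 = n41497 := d17_8 F67065 (iv5 F73708) (iv1 F73709) F62332 (iv4 F34895) (iv5 F73691) F73693 D46662 F63986
def n46664 : Q := act 3 n22375
theorem D46664 : act 3 n22375 = n46664 := rfl
theorem F73750 : act 4 n46664 = n22472 := d5_2 D22375 D46664 (iv3 D22472) (iv4 D10676) (iv3 F17191)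
theorem F73751 : act 6 n46664 = n41367 := d7_2 (iv6 F34928) D46664 (iv3 D41367)
def n46665 : Q := act 5 n22375
theorem D46665 : act 5 n22375 = n46665 := rfl
theorem F73752 : act 0 n46665 = n42732 := d17_2 F67071 D46665 (iv5 D42732) (iv4 D20174) (iv5 D9518) F66048 D10971 (iv0 F62553) D42799
def n46666 : Q := act 6 n22376
theorem D46666 : act 6 n22376 = n46666 := rfl
theorem F73753 : act 3 n46666 = n22475 := d7_1 D46666 (iv6 D22475) (iv3 F34929)
def n46667 : Q := act 5 n22377
theorem D46667 : act 5 n22377 = n46667 := rfl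
theorem F73755 : act 2 n46667 = n45996 := d2_1 D46667 F72574 F65385
theorem F73756 : act 3 n46667 = n46533 := d6_1 D46667 (iv5 D46533) (iv3 F34931)
theorem F73757 : act 7 n46667 = n45995 := d13_2 (iv7 F65386) D46667 F72573
theorem F73758 : act 0 n46667 = n45993 := d17_2 D22377 D46667 (iv5 D45993) F34477 (iv5 F40425) (iv0 F51579) (iv5 F51580) (iv0 D20497) (iv4 F17194)
theorem F73759 : act 1 n46667 = n22400 := d17_6 F69379 F68901 (iv1 F55280) (iv5 F65439) F65438 D46667 F34954 D41517 (iv4 F69380)
def n46668 : Q := act 6 n22377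
theorem D46668 : act 6 n22377 = n46668 := rfl
theorem F73760 : act 3 n46668 = n46534 := d7_1 D46668 (iv6 D46534) (iv3 F34931)
def n46669 : Q := act 5 n22378
theorem D46669 : act 5 n22378 = n46669 := rfl
theorem F73761 : act 2 n46669 = n45995 := d2_1 D46669 F72573 (iv2 F65384)
theorem F73762 : act 7 n46669 = n45996 := d13_2 F65382 D46669 F72574
theorem F73763 : act 0 n46669 = n22400 := d17_2 (iv1 F65391) D46669 F34954 F31288 D20426 (iv0 F67744) F67742 F32576 (iv4 F65388)
theorem F73764 : act 1 n46669 = n45993 := d15_0 (iv0 F73758) F73757 (iv2 F73761)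
def n46670 : Q := act 6 n22378
theorem D46670 : act 6 n22378 = n46670 := rfl
def n46671 : Q := act 6 n22379
theorem D46671 : act 6 n22379 = n46671 := rfl
theorem F73765 : act 2 n46671 = n22380 := d3_1 D46671 (iv6 D22380) D22379
theorem F73766 : act 3 n46671 = n40999 := d7_1 D46671 (iv6 D40999) (iv3 F34932)
theorem F73767 : act 4 n46671 = n43376 := d10_1 D46671 (iv6 D43376) (iv4 F34933)
theorem F73768 : act 0 n43376 = n41162 := d20_7 F30918 (iv1 F14137) D9101 D19402 (iv1 F73265) (iv3 F73766) F73767 (iv4 D41162) (iv3 D19359) (iv1 F30920)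
def n46672 : Q := act 0 n22380
theorem D46672 : act 0 n22380 = n46672 := rfl
def n46673 : Q := act 1 n22380
theorem D46673 : act 1 n22380 = n46673 := rfl
def n46674 : Q := act 5 n22380
theorem D46674 : act 5 n22380 = n46674 := rfl
theorem F73769 : act 3 n46674 = n22383 := d6_1 D46674 (iv5 D22383) (iv3 F34934)
def n46675 : Q := act 7 n22380
theorem D46675 : act 7 n22380 = n46675 := rfl
theorem F73770 : act 3 n46675 = n22384 := d8_1 D46675 (iv7 D22384) (iv3 F34934)
theorem F73771 : act 4 n46675 = n43379 := d11_1 D46675 (iv7 D43379) (iv4 F34935)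
theorem F73772 : act 6 n46675 = n22831 := d14_1 D46675 F65394 (iv6 D42344) F31807 D22380
def n46676 : Q := act 0 n22383
theorem D46676 : act 0 n22383 = n46676 := rfl
def n46677 : Q := act 4 n22383
theorem D46677 : act 4 n22383 = n46677 := rfl
def n46678 : Q := act 7 n22383
theorem D46678 : act 7 n22383 = n46678 := rfl
theorem F73773 : act 5 n46678 = n22384 := d13_1 D46678 (iv7 D22384) D22383
def n46679 : Q := act 5 n22385
theorem D46679 : act 5 n22385 = n46679 := rfl
theorem F73774 : act 2 n46679 = n23342 := d2_1 D46679 (iv5 D23342) (iv2 F34939)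
theorem F73775 : act 3 n46679 = n26332 := d6_1 D46679 F41993 F34938
theorem F73776 : act 7 n46679 = n32768 := d13_2 (iv7 F34937) D46679 F51885
theorem F73777 : act 0 n46679 = n22402 := d17_2 (iv1 F34941) D46679 F34957 F31292 D21299 D44717 F71597 F36252 F36063
theorem F73778 : act 1 n46679 = n41001 := d15_1 (iv0 F73777) F62136 F61852
theorem F73779 : act 4 n40007 = n46679 := d11_3 F73776 F72246 (iv7 F72249)
def n46680 : Q := act 6 n22385
theorem D46680 : act 6 n22385 = n46680 := rfl
theorem F73780 : act 2 n46680 = n23343 := d3_1 D46680 (iv6 D23343) (iv2 F34939)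
theorem F73781 : act 3 n46680 = n40894 := d7_1 D46680 (iv6 D40894) F34938
def n46681 : Q := act 6 n22386
theorem D46681 : act 6 n22386 = n46681 := rfl
theorem F73782 : act 2 n46681 = n22387 := d3_1 D46681 (iv6 D22387) D22386
theorem F73783 : act 1 n46681 = n23410 := d15_0 (iv0 F73636) F73635 (iv2 F73782)
def n46682 : Q := act 0 n22387
theorem D46682 : act 0 n22387 = n46682 := rfl
theorem F73784 : act 3 n46682 = n23365 := d20_5 D22327 (iv1 F35587) F30770 (iv3 F34945) D46682 (iv4 D23365) (iv1 F17838) (iv4 F17280) F17279 (iv1 F17171)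
theorem F73785 : act 4 n46682 = n44534 := d20_8 F33788 F66711 (iv4 F17933) (iv3 D11067) (iv1 F35592) (iv3 F36254) F36255 D46682 (iv3 D44534) (iv1 F33792)
theorem F73786 : act 7 n23410 = n46682 := d11_0 F73785 (iv7 F70779) F70778
def n46683 : Q := act 1 n22387
theorem D46683 : act 1 n22387 = n46683 := rfl
def n46684 : Q := act 5 n22387
theorem D46684 : act 5 n22387 = n46684 := rfl
theorem F73787 : act 3 n46684 = n22390 := d6_1 D46684 (iv5 D22390) (iv3 F34945)
def n46685 : Q := act 4 n22390
theorem D46685 : act 4 n22390 = n46685 := rfl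
theorem F73788 : act 0 n46685 = n46608 := d18_2 F64503 D46685 (iv4 D46608) (iv5 F72997) F72998 (iv0 F64474) (iv4 F64095) (iv0 F64096) D41840
theorem F73789 : act 1 n46685 = n46611 := d18_6 (iv1 F17171) D22327 (iv1 F35587) F30770 D22390 D46685 (iv4 D46611) F34840 F17291
def n46686 : Q := act 2 n22392
theorem D46686 : act 2 n22392 = n46686 := rfl
theorem F73790 : act 3 n46686 = n22641 := d0_2 D22392 D46686 F35176 F30930 F22004
theorem F73791 : act 7 n46686 = n40892 := d4_2 F60088 D46686 F61991
theorem F73792 : act 1 n46686 = n45718 := d15_0 (iv0 F72104) F60088 D46686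
theorem F73793 : act 4 n46686 = n22392 := d16_0 (iv5 F44574) F44573 (iv5 F36286) F36285 (iv5 F44708) F44707 D39084 F60088 D46686
theorem F73794 : act 0 n46686 = n45721 := d20_1 (iv4 F73793) (iv4 D45721) (iv3 F68214) F68213 (iv3 D41068) D41069 (iv1 F65441) F65438 F34931 F65442
def n46687 : Q := act 6 n22392
theorem D46687 : act 6 n22392 = n46687 := rfl
theorem F73795 : act 3 n46687 = n22393 := d7_1 D46687 (iv6 D22393) D22392
def n46688 : Q := act 0 n22393
theorem D46688 : act 0 n22393 = n46688 := rfl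
def n46689 : Q := act 1 n22393
theorem D46689 : act 1 n22393 = n46689 := rfl
def n46690 : Q := act 5 n22393
theorem D46690 : act 5 n22393 = n46690 := rfl
def n46691 : Q := act 7 n22393
theorem D46691 : act 7 n22393 = n46691 := rfl
def n46692 : Q := act 0 n22394
theorem D46692 : act 0 n22394 = n46692 := rfl
def n46693 : Q := act 1 n22394
theorem D46693 : act 1 n22394 = n46693 := rfl
theorem F73797 : act 1 n46693 = n22399 := d15_1 D46693 (iv7 D22399) (iv2 F34948)
theorem F73798 : act 4 n46693 = n46459 := d20_0 (iv1 D46459) F34736 F30987 (iv1 F62728) (iv3 F17663) (iv4 D10881) F65657 (iv4 F17214) (iv3 F34953) (iv1 F73797)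
def n46694 : Q := act 5 n22394
theorem D46694 : act 5 n22394 = n46694 := rfl
theorem F73799 : act 2 n46694 = n22398 := d2_1 D46694 (iv5 D22398) (iv2 F34948)
theorem F73800 : act 6 n46694 = n37586 := d12_2 D22394 D46694 (iv5 D37586) (iv6 D18030) F17204
def n46695 : Q := act 7 n22394
theorem D46695 : act 7 n22394 = n46695 := rfl
theorem F73801 : act 2 n46695 = n22399 := d4_1 D46695 (iv7 D22399) (iv2 F34948)
theorem F73802 : act 1 n22399 = n46692 := d15_0 (iv0 D46692) D46695 F73801
theorem F73803 : act 1 n22397 = n46695 := d15_1 D22397 (iv7 D46695) F34948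
theorem F73804 : act 4 n46458 = n46692 := d20_0 (iv1 F73802) (iv4 F66991) (iv3 D42755) (iv1 D20200) (iv3 F17774) (iv4 D10946) (iv1 F62708) (iv4 F17139) (iv3 F34735) D46458
theorem F73805 : act 3 n40895 = n46458 := d20_5 (iv4 D9537) (iv1 F66043) (iv4 F14146) (iv3 F30936) D40895 F73804 (iv1 F73802) (iv4 F66991) (iv3 D42755) (iv1 D20200)
theorem F73806 : act 1 n46695 = n22396 := d15_0 (iv0 D22396) D22399 (iv2 F73801)
def n46696 : Q := act 0 n22395
theorem D46696 : act 0 n22395 = n46696 := rfl
def n46697 : Q := act 1 n22395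
theorem D46697 : act 1 n22395 = n46697 := rfl
theorem F73807 : act 1 n46697 = n37587 := d15_1 D46697 (iv7 D37587) (iv2 F34949)
def n46698 : Q := act 5 n22395
theorem D46698 : act 5 n22395 = n46698 := rfl
theorem F73808 : act 2 n46698 = n37586 := d2_1 D46698 (iv5 D37586) (iv2 F34949)
theorem F73809 : act 3 n46698 = n22406 := d6_1 D46698 (iv5 D22406) (iv3 F34950)
theorem F73810 : act 6 n46698 = n22398 := d12_2 D22395 D46698 (iv5 D22398) (iv6 D10656) D10655
def n46699 : Q := act 7 n22395
theorem D46699 : act 7 n22395 = n46699 := rfl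
theorem F73811 : act 2 n46699 = n37587 := d4_1 D46699 (iv7 D37587) (iv2 F34949)
theorem F73812 : act 3 n46699 = n22407 := d8_1 D46699 (iv7 D22407) (iv3 F34950)
theorem F73813 : act 4 n46699 = n35308 := d11_1 D46699 (iv7 D35308) (iv4 F34951)
theorem F73814 : act 6 n46699 = n37591 := d14_1 D46699 (iv7 D37591) (iv6 D18031) (iv7 F17199) D22395
theorem F73815 : act 1 n37587 = n46696 := d15_0 (iv0 D46696) D46699 F73811
theorem F73816 : act 1 n37585 = n46699 := d15_1 D37585 (iv7 D46699) F34949
theorem F73817 : act 1 n46699 = n37584 := d15_0 (iv0 D37584) D37587 (iv2 F73811)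
def n46700 : Q := act 2 n22396
theorem D46700 : act 2 n22396 = n46700 := rfl
theorem F73818 : act 7 n22397 = n46700 := d15_2 (iv0 D22396) D22397 (iv2 D46700)
def n46701 : Q := act 3 n22396
theorem D46701 : act 3 n22396 = n46701 := rfl
def n46702 : Q := act 4 n22396
theorem D46702 : act 4 n22396 = n46702 := rfl
theorem F73819 : act 0 n46702 = n46461 := d20_1 D46702 F73360 F62338 (iv1 F62725) F65704 (iv4 D10671) (iv1 D4886) (iv4 F7239) (iv3 F17205) D22396
theorem F73820 : act 0 n22643 = n46701 := d20_4 (iv4 D9808) (iv1 F62485) (iv4 F17808) (iv3 F35206) (iv3 D46701) D46702 F73819 F73360 F62338 (iv1 F62725)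
def n46703 : Q := act 5 n22396
theorem D46703 : act 5 n22396 = n46703 := rfl
def n46704 : Q := act 6 n22396
theorem D46704 : act 6 n22396 = n46704 := rfl
def n46705 : Q := act 7 n22396
theorem D46705 : act 7 n22396 = n46705 := rfl
theorem F73821 : act 2 n46705 = n22397 := d4_1 D46705 F73818 (iv2 D46700)
def n46706 : Q := act 3 n22397
theorem D46706 : act 3 n22397 = n46706 := rfl
def n46707 : Q := act 4 n22397
theorem D46707 : act 4 n22397 = n46707 := rfl
theorem F73822 : act 0 n46461 = n46707 := d20_10 (iv4 D46707) (iv1 D22397) (iv4 F34915) F34914 (iv1 F65775) F62720 (iv4 D10698) (iv1 F17147) (iv4 F34742) (iv3 F73359)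
theorem F73823 : act 1 n39114 = n46707 := d15_0 (iv0 F73822) (iv7 D46461) (iv2 F60128)
def n46708 : Q := act 5 n22397
theorem D46708 : act 5 n22397 = n46708 := rfl
def n46709 : Q := act 6 n22397
theorem D46709 : act 6 n22397 = n46709 := rfl
def n46710 : Q := act 0 n22398
theorem D46710 : act 0 n22398 = n46710 := rfl
def n46711 : Q := act 1 n22398
theorem D46711 : act 1 n22398 = n46711 := rfl
def n46712 : Q := act 4 n22398
theorem D46712 : act 4 n22398 = n46712 := rfl
def n46713 : Q := act 7 n22398
theorem D46713 : act 7 n22398 = n46713 := rfl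
theorem F73825 : act 5 n46713 = n22399 := d13_1 D46713 (iv7 D22399) D22398
def n46714 : Q := act 2 n22400
theorem D46714 : act 2 n22400 = n46714 := rfl
theorem F73826 : act 3 n46714 = n41001 := d0_2 D22400 D46714 (iv2 F62135) F34491 F17208
theorem F73827 : act 5 n46714 = n41518 := d2_2 (iv5 F34954) D46714 (iv2 D41518)
theorem F73828 : act 7 n46714 = n45993 := d4_2 (iv7 F34955) D46714 F72568
theorem F73829 : act 1 n46714 = n45995 := d15_0 (iv0 D45995) (iv7 F34955) D46714
theorem F73830 : act 1 n45996 = n46714 := d15_0 F73829 (iv7 F73757) F73755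
def n46715 : Q := act 4 n22400
theorem D46715 : act 4 n22400 = n46715 := rfl
theorem F73831 : act 7 n46715 = n45997 := d11_2 (iv7 F34955) D46715 (iv4 D45997)
theorem F73832 : act 0 n46715 = n37560 := d18_2 F73763 D46715 F58445 F30970 (iv4 F32574) (iv0 D20497) (iv4 F17194) D22378 D46669
def n46716 : Q := act 6 n22400
theorem D46716 : act 6 n22400 = n46716 := rfl
theorem F73833 : act 3 n46716 = n22401 := d7_1 D46716 (iv6 D22401) D22400
def n46717 : Q := act 0 n22401
theorem D46717 : act 0 n22401 = n46717 := rfl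
def n46718 : Q := act 1 n22401
theorem D46718 : act 1 n22401 = n46718 := rfl
theorem F73834 : act 1 n46718 = n46019 := d15_1 D46718 (iv7 D46019) (iv2 F34956)
def n46719 : Q := act 5 n22401
theorem D46719 : act 5 n22401 = n46719 := rfl
theorem F73835 : act 2 n46719 = n46018 := d2_1 D46719 (iv5 D46018) (iv2 F34956)
theorem F73836 : act 6 n46719 = n41520 := d12_2 D22401 D46719 (iv5 D41520) (iv6 D19549) (iv5 F17206)
def n46720 : Q := act 7 n22401
theorem D46720 : act 7 n22401 = n46720 := rfl
theorem F73837 : act 2 n46720 = n46019 := d4_1 D46720 (iv7 D46019) (iv2 F34956)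
theorem F73838 : act 6 n46720 = n46005 := d14_1 D46720 (iv7 D46005) (iv6 D21979) F17209 D22401
theorem F73839 : act 1 n46019 = n46717 := d15_0 (iv0 D46717) D46720 F73837
theorem F73840 : act 1 n46017 = n46720 := d15_1 D46017 (iv7 D46720) F34956
theorem F73841 : act 1 n46720 = n46016 := d15_0 (iv0 D46016) D46019 (iv2 F73837)
def n46721 : Q := act 4 n22402
theorem D46721 : act 4 n22402 = n46721 := rfl
theorem F73842 : act 7 n46721 = n46010 := d11_2 (iv7 F34958) D46721 (iv4 D46010)
def n46722 : Q := act 6 n22402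
theorem D46722 : act 6 n22402 = n46722 := rfl
theorem F73843 : act 3 n46722 = n22403 := d7_1 D46722 (iv6 D22403) D22402
def n46723 : Q := act 0 n22403
theorem D46723 : act 0 n22403 = n46723 := rfl
def n46724 : Q := act 1 n22403
theorem D46724 : act 1 n22403 = n46724 := rfl
theorem F73844 : act 1 n46724 = n46005 := d15_1 D46724 (iv7 D46005) (iv2 F34960)
def n46725 : Q := act 5 n22403
theorem D46725 : act 5 n22403 = n46725 := rfl
theorem F73845 : act 2 n46725 = n46004 := d2_1 D46725 (iv5 D46004) (iv2 F34960)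
theorem F73846 : act 6 n46725 = n41523 := d12_2 D22403 D46725 (iv5 D41523) (iv6 D19551) (iv5 F17212)
def n46726 : Q := act 7 n22403
theorem D46726 : act 7 n22403 = n46726 := rfl
theorem F73847 : act 2 n46726 = n46005 := d4_1 D46726 (iv7 D46005) (iv2 F34960)
theorem F73848 : act 6 n46726 = n46019 := d14_1 D46726 (iv7 D46019) (iv6 D21988) (iv7 F17211) D22403
theorem F73849 : act 1 n46005 = n46723 := d15_0 (iv0 D46723) D46726 F73847
theorem F73850 : act 1 n46003 = n46726 := d15_1 D46003 (iv7 D46726) F34960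
theorem F73851 : act 1 n46726 = n46002 := d15_0 (iv0 D46002) D46005 (iv2 F73847)
def n46727 : Q := act 2 n22404
theorem D46727 : act 2 n22404 = n46727 := rfl
theorem F73852 : act 7 n22405 = n46727 := d15_2 (iv0 D22404) D22405 (iv2 D46727)
def n46728 : Q := act 3 n22404
theorem D46728 : act 3 n22404 = n46728 := rfl
def n46729 : Q := act 4 n22404
theorem D46729 : act 4 n22404 = n46729 := rfl
def n46730 : Q := act 5 n22404
theorem D46730 : act 5 n22404 = n46730 := rfl
def n46731 : Q := act 6 n22404
theorem D46731 : act 6 n22404 = n46731 := rfl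
theorem F73853 : act 5 n46731 = n46303 := d21_6 F16701 (iv1 D4881) D4883 D10659 D22404 D46731 (iv1 D46303) (iv5 D22141) (iv6 D10554) (iv1 F16700)
def n46732 : Q := act 7 n22404
theorem D46732 : act 7 n22404 = n46732 := rfl
theorem F73854 : act 2 n46732 = n22405 := d4_1 D46732 F73852 (iv2 D46727)
def n46733 : Q := act 3 n22405
theorem D46733 : act 3 n22405 = n46733 := rfl
def n46734 : Q := act 4 n22405
theorem D46734 : act 4 n22405 = n46734 := rfl
def n46735 : Q := act 5 n22405
theorem D46735 : act 5 n22405 = n46735 := rfl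
def n46736 : Q := act 6 n22405
theorem D46736 : act 6 n22405 = n46736 := rfl
def n46737 : Q := act 0 n22406
theorem D46737 : act 0 n22406 = n46737 := rfl
def n46738 : Q := act 1 n22406
theorem D46738 : act 1 n22406 = n46738 := rfl
def n46739 : Q := act 4 n22406
theorem D46739 : act 4 n22406 = n46739 := rfl
theorem F73855 : act 6 n46739 = n22420 := d10_2 (iv6 F34961) D46739 (iv4 D22420)
def n46740 : Q := act 7 n22406
theorem D46740 : act 7 n22406 = n46740 := rfl
theorem F73856 : act 5 n46740 = n22407 := d13_1 D46740 (iv7 D22407) D22406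
def n46741 : Q := act 0 n22409
theorem D46741 : act 0 n22409 = n46741 := rfl
def n46742 : Q := act 1 n22409
theorem D46742 : act 1 n22409 = n46742 := rfl
def n46743 : Q := act 2 n22409
theorem D46743 : act 2 n22409 = n46743 := rfl
theorem F73857 : act 3 n46743 = n41003 := d0_2 D22409 D46743 (iv2 F73299) (iv3 D46437) F65943
def n46744 : Q := act 5 n22409
theorem D46744 : act 5 n22409 = n46744 := rfl
theorem F73858 : act 3 n46744 = n22411 := d6_1 D46744 (iv5 D22411) D22409
def n46745 : Q := act 6 n22409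
theorem D46745 : act 6 n22409 = n46745 := rfl
theorem F73859 : act 3 n46745 = n22412 := d7_1 D46745 (iv6 D22412) D22409
theorem F73860 : act 4 n46745 = n43969 := d10_1 D46745 F69123 (iv4 F65950)
def n46746 : Q := act 1 n22411
theorem D46746 : act 1 n22411 = n46746 := rfl
theorem F73861 : act 1 n46746 = n22416 := d15_1 D46746 (iv7 F73301) F73300
def n46747 : Q := act 4 n22411
theorem D46747 : act 4 n22411 = n46747 := rfl
def n46748 : Q := act 6 n22411
theorem D46748 : act 6 n22411 = n46748 := rfl
def n46749 : Q := act 1 n22414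
theorem D46749 : act 1 n22414 = n46749 := rfl
theorem F73862 : act 7 n46749 = n41000 := d15_2 (iv0 F65947) D46749 F62133
theorem F73863 : act 2 n41006 = n46749 := d4_3 F73862 F62133 D41006
theorem F73864 : act 1 n46437 = n41000 := d15_1 (iv0 F73298) (iv7 F73862) (iv2 F73863)
theorem F73865 : act 1 n46749 = n41003 := d15_0 (iv0 D41003) D41006 F73863
def n46750 : Q := act 2 n22414
theorem D46750 : act 2 n22414 = n46750 := rfl
theorem F73866 : act 7 n46750 = n41003 := d4_2 F73297 D46750 (iv2 F73299)
theorem F73867 : act 1 n46750 = n41006 := d15_0 (iv0 F73298) F73297 D46750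
theorem F73868 : act 1 n41000 = n46750 := d15_0 F73867 (iv7 D41006) (iv2 F62133)
def n46751 : Q := act 4 n22414
theorem D46751 : act 4 n22414 = n46751 := rfl
theorem F73869 : act 3 n46751 = n22983 := d5_1 D46751 (iv4 F66066) (iv3 D40872) (iv4 F66068) D22414
theorem F73870 : act 7 n46751 = n23016 := d11_2 F73297 D46751 (iv4 F73296)
def n46752 : Q := act 5 n22414
theorem D46752 : act 5 n22414 = n46752 := rfl
theorem F73871 : act 3 n46752 = n22416 := d6_1 D46752 (iv5 D22416) D22414
def n46753 : Q := act 6 n22414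
theorem D46753 : act 6 n22414 = n46753 := rfl
theorem F73872 : act 3 n46753 = n22417 := d7_1 D46753 (iv6 D22417) D22414
def n46754 : Q := act 4 n22416
theorem D46754 : act 4 n22416 = n46754 := rfl
def n46755 : Q := act 6 n22416
theorem D46755 : act 6 n22416 = n46755 := rfl
def n46756 : Q := act 0 n22417
theorem D46756 : act 0 n22417 = n46756 := rfl
def n46757 : Q := act 1 n22417
theorem D46757 : act 1 n22417 = n46757 := rfl
def n46758 : Q := act 5 n22417
theorem D46758 : act 5 n22417 = n46758 := rfl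
def n46759 : Q := act 7 n22417
theorem D46759 : act 7 n22417 = n46759 := rfl
theorem F73873 : act 6 n46759 = n22887 := d14_1 D46759 (iv7 F72679) (iv6 F72681) F65944 D22417
theorem F73874 : act 1 n22912 = n46759 := d15_1 (iv0 F66675) (iv7 D46759) (iv2 F66002)
def n46760 : Q := act 3 n22418
theorem D46760 : act 3 n22418 = n46760 := rfl
def n46761 : Q := act 4 n22418
theorem D46761 : act 4 n22418 = n46761 := rfl
def n46762 : Q := act 5 n22418
theorem D46762 : act 5 n22418 = n46762 := rfl
theorem F73875 : act 2 n46762 = n41835 := d2_1 D46762 (iv5 F73311) F73313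
theorem F73876 : act 7 n46762 = n41538 := d13_2 (iv7 F73314) D46762 F73303
theorem F73877 : act 1 n46762 = n41500 := d17_8 F35496 (iv5 D22465) (iv1 F34729) F34725 (iv4 F34707) (iv5 F73307) F73315 D46762 F63992
theorem F73878 : act 6 n46762 = n41810 := d21_9 D41840 F64503 (iv5 D22390) (iv6 D10652) (iv1 D4881) D4884 D10662 D22418 D46762 (iv1 F64469)
theorem F73879 : act 1 n41838 = n46762 := d15_1 F64499 F73876 F64089
theorem E8090 : n41836 = n41538 := (c15_2 (iv0 D41835) D41836 (iv7 F73876) F73875)
theorem F73880 : act 0 n41538 = n19691 := (sb E8090 (iv1 D41836))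
def n46763 : Q := act 6 n22418
theorem D46763 : act 6 n22418 = n46763 := rfl
def n46764 : Q := act 3 n22419
theorem D46764 : act 3 n22419 = n46764 := rfl
theorem F73881 : act 5 n46764 = n46309 := d6_2 F34964 D46764 F72956
def n46765 : Q := act 4 n22419
theorem D46765 : act 4 n22419 = n46765 := rfl
theorem F73882 : act 0 n46765 = n46498 := d18_2 (iv1 F73309) D46765 (iv4 D46498) (iv5 D22287) F17155 D19267 (iv4 F66068) F34710 (iv5 F73307)
def n46766 : Q := act 6 n22419
theorem D46766 : act 6 n22419 = n46766 := rfl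
theorem F73883 : act 5 n46766 = n46315 := d12_1 D46766 (iv6 D46315) (iv5 D22146) D22147 F34964
def n46767 : Q := act 0 n22420
theorem D46767 : act 0 n22420 = n46767 := rfl
def n46768 : Q := act 1 n22420
theorem D46768 : act 1 n22420 = n46768 := rfl
theorem F73884 : act 4 n46768 = n22629 := d18_7 F66078 (iv4 D10671) (iv1 D4886) (iv4 F7239) D10662 D22420 D46768 F73464 F73463
def n46769 : Q := act 3 n22420
theorem D46769 : act 3 n22420 = n46769 := rfl
def n46770 : Q := act 5 n22420
theorem D46770 : act 5 n22420 = n46770 := rfl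
def n46771 : Q := act 7 n22420
theorem D46771 : act 7 n22420 = n46771 := rfl
theorem F73885 : act 4 n46771 = n22421 := d11_1 D46771 (iv7 D22421) D22420
def n46772 : Q := act 6 n22421
theorem D46772 : act 6 n22421 = n46772 := rfl
def n46773 : Q := act 0 n22437
theorem D46773 : act 0 n22437 = n46773 := rfl
theorem F73886 : act 1 n41048 = n46773 := d15_0 (iv0 D46773) (iv7 F73318) F73316
def n46774 : Q := act 1 n22437
theorem D46774 : act 1 n22437 = n46774 := rfl
theorem F73887 : act 1 n46774 = n41048 := d15_1 D46774 (iv7 F68595) F68593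
def n46775 : Q := act 5 n22437
theorem D46775 : act 5 n22437 = n46775 := rfl
theorem F73888 : act 3 n46775 = n22438 := d6_1 D46775 (iv5 D22438) D22437
def n46776 : Q := act 6 n22437
theorem D46776 : act 6 n22437 = n46776 := rfl
theorem F73889 : act 3 n46776 = n22439 := d7_1 D46776 (iv6 D22439) D22437
theorem F73890 : act 4 n46776 = n46776 := d10_1 D46776 (iv6 D46776) F65978
theorem F73891 : act 7 n46120 = n46776 := d8_0 F73889 F35552 D46120
def n46777 : Q := act 1 n22438
theorem D46777 : act 1 n22438 = n46777 := rfl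
theorem F73892 : act 1 n46777 = n22454 := d15_1 D46777 F65706 F65977
def n46778 : Q := act 4 n22438
theorem D46778 : act 4 n22438 = n46778 := rfl
def n46779 : Q := act 6 n22438
theorem D46779 : act 6 n22438 = n46779 := rfl
def n46780 : Q := act 4 n22441
theorem D46780 : act 4 n22441 = n46780 := rfl
def n46781 : Q := act 0 n22442
theorem D46781 : act 0 n22442 = n46781 := rfl
theorem F73893 : act 4 n46781 = n42520 := d18_3 (iv1 D22441) D22442 D46781 F66362 F64397 (iv0 F73322) F64111 F64006 F64004
theorem F73894 : act 1 n22456 = n46781 := d15_0 (iv0 D46781) (iv7 F73327) F73326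
def n46782 : Q := act 1 n22442
theorem D46782 : act 1 n22442 = n46782 := rfl
theorem F73895 : act 1 n46782 = n22456 := d15_1 D46782 F65708 F65976
theorem F73896 : act 4 n46782 = n42519 := d18_7 F66041 F17245 (iv1 F66059) (iv4 D10666) D10667 D22442 D46782 (iv0 D42519) (iv5 D20075)
def n46783 : Q := act 3 n22442
theorem D46783 : act 3 n22442 = n46783 := rfl
theorem F73897 : act 4 n46783 = n46783 := d5_2 D22442 D46783 (iv3 D46783) (iv4 D22442) F65714
def n46784 : Q := act 5 n22442
theorem D46784 : act 5 n22442 = n46784 := rfl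
def n46785 : Q := act 6 n22442
theorem D46785 : act 6 n22442 = n46785 := rfl
theorem F73899 : act 4 n46785 = n22443 := d10_1 D46785 (iv6 D22443) D22442
def n46786 : Q := act 4 n22454
theorem D46786 : act 4 n22454 = n46786 := rfl
def n46787 : Q := act 6 n22454
theorem D46787 : act 6 n22454 = n46787 := rfl
theorem F73900 : act 3 n46787 = n43701 := d7_1 D46787 (iv6 D43701) (iv3 F65705)
def n46788 : Q := act 0 n22455
theorem D46788 : act 0 n22455 = n46788 := rfl
theorem F73901 : act 1 n46122 = n46788 := d15_0 (iv0 D46788) (iv7 F70492) (iv2 F72713)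
theorem F73902 : act 7 n46788 = n22805 := d15_2 (iv0 F72715) F73901 (iv2 F72138)
theorem F73903 : act 4 n42523 = n46788 := d20_0 (iv1 F73901) F72714 F65963 F34521 (iv3 F69235) F69236 F69099 F31898 (iv3 F31897) D42523
theorem F73904 : act 7 n43372 = n42523 := d11_0 F73903 F73902 (iv4 F68132)
theorem F73905 : act 2 n42523 = n42776 := d4_1 F73904 F67036 (iv2 F68131)
theorem F73906 : act 5 n43261 = n42523 := d2_0 F73905 F67035 F67825
theorem E8091 : n42524 = n23386 := (c15_2 (iv0 D42523) D42524 (iv7 F67036) (iv2 F73905))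
theorem F73907 : act 0 n23386 = n20076 := (sb E8091 (iv1 D42524))
theorem F73908 : act 5 n46788 = n41778 := d17_5 (iv1 D20416) D20417 D43261 F73906 F73903 (iv0 D41778) (iv5 D19653) D19652 (iv4 F61803)
theorem F73909 : act 4 n41865 = n43261 := d18_3 (iv1 D19708) D19709 D41865 F73906 F73903 (iv0 D46788) F34998 (iv0 F35546) F34325
def n46789 : Q := act 5 n22455
theorem D46789 : act 5 n22455 = n46789 := rfl
theorem F73910 : act 3 n46789 = n43702 := d6_1 D46789 (iv5 D43702) (iv3 F65707)
def n46790 : Q := act 3 n22456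
theorem D46790 : act 3 n22456 = n46790 := rfl
def n46791 : Q := act 5 n22456
theorem D46791 : act 5 n22456 = n46791 := rfl
def n46792 : Q := act 6 n22456
theorem D46792 : act 6 n22456 = n46792 := rfl
theorem F73912 : act 4 n46792 = n22457 := d10_1 D46792 (iv6 D22457) D22456
def n46793 : Q := act 5 n22457
theorem D46793 : act 5 n22457 = n46793 := rfl
theorem F73914 : act 3 n46793 = n23127 := d6_1 D46793 (iv5 D23127) (iv3 F65709)
theorem F73915 : act 6 n46793 = n22460 := d12_2 D22457 D46793 (iv5 D22460) (iv6 D10673) D10672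
theorem F73917 : act 0 n43140 = n46793 := d21_10 (iv5 D46793) (iv1 F64560) F64557 (iv6 D22475) (iv1 F34720) D46448 F73333 F67543 (iv5 D43139) D43140
theorem F73918 : act 1 n22916 = n46793 := d15_0 (iv0 F73917) (iv7 F72188) F72186
def n46794 : Q := act 4 n22458
theorem D46794 : act 4 n22458 = n46794 := rfl
theorem F73919 : act 7 n46794 = n22912 := d11_2 (iv7 F66833) D46794 F35979
theorem F73920 : act 5 n46794 = n46020 := d17_5 (iv1 D9248) D9249 D19707 F35548 D46794 (iv0 D46020) (iv5 D21991) (iv0 F63705) (iv4 D19704)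
def n46796 : Q := act 0 n22464
theorem D46796 : act 0 n22464 = n46796 := rfl
theorem F73921 : act 4 n46796 = n40879 := d18_3 D10674 D22464 D46796 F61984 (iv4 F34776) F66079 (iv4 D10666) (iv0 D4885) D4887
theorem F73922 : act 1 n22468 = n46796 := d15_0 (iv0 D46796) (iv7 F73329) F73328
theorem F73923 : act 7 n46796 = n40878 := d15_2 F66353 F73922 F61981
def n46799 : Q := act 4 n22465
theorem D46799 : act 4 n22465 = n46799 := rfl
theorem F73925 : act 2 n46799 = n41755 := d1_1 D46799 F64399 F35463
theorem F73926 : act 6 n46799 = n41809 := d10_2 (iv6 F35006) D46799 (iv4 D41809)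
theorem F73927 : act 7 n46799 = n41548 := d11_2 F35491 D46799 F64111
theorem F73928 : act 5 n46799 = n22628 := d17_5 (iv1 D4886) D4887 D10674 D22465 D46799 (iv0 D22628) (iv5 D10721) (iv0 F66060) (iv4 D10671)
theorem F73929 : act 4 n22628 = n46767 := d18_5 (iv1 F64500) F63992 F35496 D46799 F73928 (iv0 D46767) (iv4 D22420) D22419 (iv5 F34964)
theorem F73930 : act 1 n45634 = n46799 := d15_1 D45634 F73927 F64110
theorem F73931 : act 1 n46799 = n45633 := d15_0 (iv0 D45633) F64400 (iv2 F73925)
def n46800 : Q := act 5 n22468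
theorem D46800 : act 5 n22468 = n46800 := rfl
def n46803 : Q := act 5 n22470
theorem D46803 : act 5 n22470 = n46803 := rfl
def n46805 : Q := act 5 n22471
theorem D46805 : act 5 n22471 = n46805 := rfl
def n46809 : Q := act 2 n22472
theorem D46809 : act 2 n22472 = n46809 := rfl
theorem F73933 : act 6 n46809 = n41413 := d3_2 (iv6 F35020) D46809 (iv2 D41413)
def n46810 : Q := act 5 n22472
theorem D46810 : act 5 n22472 = n46810 := rfl
theorem F73934 : act 3 n46810 = n22473 := d6_1 D46810 (iv5 D22473) D22472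
def n46812 : Q := act 0 n22473
theorem D46812 : act 0 n22473 = n46812 := rfl
def n46813 : Q := act 1 n22473
theorem D46813 : act 1 n22473 = n46813 := rfl
def n46814 : Q := act 4 n22473
theorem D46814 : act 4 n22473 = n46814 := rfl
def n46815 : Q := act 6 n22473
theorem D46815 : act 6 n22473 = n46815 := rfl
theorem F73936 : act 5 n46815 = n41418 := d12_1 D46815 (iv6 D41418) (iv5 D19506) (iv6 F17219) D22473
def n46816 : Q := act 7 n22473
theorem D46816 : act 7 n22473 = n46816 := rfl
theorem F73937 : act 5 n46816 = n22474 := d13_1 D46816 (iv7 D22474) D22473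
def n46817 : Q := act 6 n22474
theorem D46817 : act 6 n22474 = n46817 := rfl
theorem F73938 : act 4 n46817 = n22475 := d10_1 D46817 (iv6 D22475) (iv4 F35021)
theorem F73939 : act 7 n46817 = n41420 := d14_2 D22474 D46817 (iv6 D41420) (iv7 D19507) (iv6 F17219)
def n46818 : Q := act 5 n22477
theorem D46818 : act 5 n22477 = n46818 := rfl
theorem F73940 : act 2 n46818 = n22498 := d2_1 D46818 (iv5 D22498) F62783
theorem F73942 : act 7 n46818 = n22493 := d13_2 (iv7 F62782) D46818 (iv5 D22493)
theorem F73943 : act 6 n42568 = n46818 := d21_5 (iv5 D9493) (iv1 F17401) D19475 (iv6 F34679) (iv1 F66401) (iv5 D46818) (iv1 D22477) D22478 F35025 F31240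
theorem F73944 : act 4 n46818 = n42570 := d10_1 F73943 (iv6 D42570) D42568
theorem F73945 : act 1 n42570 = n43682 := d18_6 (iv1 F15166) (iv4 F15232) (iv1 F32504) (iv4 F62754) D46818 F73944 (iv4 D43682) (iv0 F35803) (iv5 D20459)
def n46819 : Q := act 1 n22478
theorem D46819 : act 1 n22478 = n46819 := rfl
theorem F73946 : act 1 n46819 = n22503 := d15_1 D46819 (iv7 D22503) (iv2 F35024)
theorem F73947 : act 7 n46819 = n22500 := d15_2 (iv0 F68053) D46819 (iv2 F65905)
theorem F73948 : act 5 n41573 = n46819 := d21_6 (iv5 D4466) (iv1 F6543) (iv5 F7142) D9211 D19578 D41573 (iv1 D46819) (iv5 D22478) (iv6 D10678) (iv1 F7244)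
theorem F73949 : act 2 n46819 = n22501 := d2_1 F73948 (iv5 F65901) F65932
theorem F73950 : act 3 n46819 = n46456 := d6_1 F73948 F73351 F72232
theorem F73951 : act 4 n46819 = n43341 := d18_5 (iv1 F67905) (iv4 F69026) (iv1 D43902) (iv4 F65918) F73948 F68043 F32683 F32524 (iv5 F67903)
theorem F73952 : act 0 n44877 = n41573 := d21_10 F73948 (iv1 D46819) (iv5 D22478) (iv6 D10678) (iv1 F7244) D9854 (iv5 F17014) (iv1 F63164) D41486 (iv6 F70502)
theorem F73953 : act 1 n44877 = n44821 := d15_1 (iv0 F73952) (iv7 D44821) F65932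
theorem F73954 : act 1 n43267 = n41573 := d15_0 (iv0 F73952) F70503 (iv2 F67839)
theorem F73955 : act 1 n43539 = n42132 := d18_6 (iv1 D46819) F68420 (iv1 D43535) (iv4 D20595) D20596 D43539 (iv4 F67840) F73954 F73948
theorem F73956 : act 1 n44821 = n43267 := d15_1 F73953 (iv7 F70403) F70504
theorem F73957 : act 0 n45347 = n44835 := d20_1 (iv4 F71461) F70415 (iv3 F70405) (iv1 F73953) (iv3 D44877) D44878 F73383 (iv4 F66304) (iv3 F69051) (iv1 F69171)
theorem F73958 : act 1 n22503 = n23234 := d15_1 F73946 F65903 (iv2 F73949)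
def n46820 : Q := act 7 n22478
theorem D46820 : act 7 n22478 = n46820 := rfl
theorem F73959 : act 2 n46820 = n22503 := d4_1 D46820 (iv7 D22503) (iv2 F35024)
theorem F73960 : act 5 n46820 = n22479 := d13_1 D46820 (iv7 D22479) D22478
theorem F73961 : act 1 n22501 = n46820 := d15_1 D22501 (iv7 D46820) F35024
theorem F73962 : act 1 n46820 = n22500 := d15_1 F73961 (iv7 F73947) F73949
def n46821 : Q := act 6 n22480
theorem D46821 : act 6 n22480 = n46821 := rfl
def n46822 : Q := act 6 n22481
theorem D46822 : act 6 n22481 = n46822 := rfl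
def n46823 : Q := act 6 n22482
theorem D46823 : act 6 n22482 = n46823 := rfl
theorem F73963 : act 2 n46823 = n22484 := d3_1 D46823 (iv6 D22484) D22482
theorem F73964 : act 3 n46823 = n42346 := d7_1 D46823 (iv6 D42346) (iv3 F35030)
theorem F73965 : act 4 n46823 = n22509 := d10_1 D46823 (iv6 D22509) (iv4 F35031)
theorem F73966 : act 0 n22509 = n42424 := d20_7 F31757 (iv1 F14625) D9455 D20077 (iv1 F68094) (iv3 F73964) F73965 (iv4 D42424) (iv3 D20030) (iv1 F31761)
def n46824 : Q := act 6 n22483
theorem D46824 : act 6 n22483 = n46824 := rfl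
theorem F73967 : act 2 n46824 = n35030 := d3_1 D46824 (iv6 D35030) (iv2 F35033)
theorem F73968 : act 3 n46824 = n22485 := d7_1 D46824 (iv6 D22485) (iv3 F35034)
theorem F73969 : act 4 n46824 = n35021 := d10_1 D46824 (iv6 D35021) F35040
def n46825 : Q := act 0 n22484
theorem D46825 : act 0 n22484 = n46825 := rfl
def n46826 : Q := act 1 n22484
theorem D46826 : act 1 n22484 = n46826 := rfl
def n46827 : Q := act 5 n22484
theorem D46827 : act 5 n22484 = n46827 := rfl
theorem F73970 : act 3 n46827 = n22488 := d6_1 D46827 (iv5 D22488) (iv3 F35048)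
def n46828 : Q := act 0 n22485
theorem D46828 : act 0 n22485 = n46828 := rfl
def n46829 : Q := act 1 n22485
theorem D46829 : act 1 n22485 = n46829 := rfl
def n46830 : Q := act 5 n22485
theorem D46830 : act 5 n22485 = n46830 := rfl
theorem F73971 : act 6 n46830 = n22488 := d12_2 D22485 D46830 (iv5 D22488) (iv6 D10681) D10680
def n46831 : Q := act 7 n22485
theorem D46831 : act 7 n22485 = n46831 := rfl
def n46832 : Q := act 0 n22488
theorem D46832 : act 0 n22488 = n46832 := rfl
def n46833 : Q := act 4 n22488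
theorem D46833 : act 4 n22488 = n46833 := rfl
theorem F73972 : act 1 n46833 = n43468 := d18_6 (iv1 F32510) (iv4 F62793) (iv1 D10683) (iv4 F17225) D22488 D46833 (iv4 D43468) F68003 F68001
def n46834 : Q := act 5 n22491
theorem D46834 : act 5 n22491 = n46834 := rfl
theorem F73973 : act 2 n46834 = n46453 := d2_1 D46834 (iv5 D46453) (iv2 F62777)
theorem F73975 : act 7 n46834 = n46454 := d13_2 (iv7 F62779) D46834 (iv5 D46454)
def n46835 : Q := act 6 n22491
theorem D46835 : act 6 n22491 = n46835 := rfl
theorem F73977 : act 3 n46835 = n22494 := d7_1 D46835 (iv6 D22494) D22491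
theorem F73978 : act 4 n46835 = n41015 := d10_1 D46835 (iv6 D41015) (iv4 F62778)
theorem F73979 : act 5 n46835 = n41513 := d21_6 (iv5 F6931) D8987 (iv5 F16196) D21463 (iv1 F62776) D46835 (iv1 D41513) (iv5 D19546) (iv6 D9199) (iv1 F12151)
theorem F73980 : act 1 n44954 = n46835 := d18_8 (iv1 D41513) D41514 F64037 (iv4 D21092) (iv5 F32774) (iv4 F68625) (iv0 F70683) (iv4 F70682) F73979
def n46836 : Q := act 0 n22493
theorem D46836 : act 0 n22493 = n46836 := rfl
theorem F73981 : act 5 n46836 = n43267 := d21_2 D22493 D46836 (iv6 D43267) (iv1 D20421) (iv6 D9699) (iv5 D4377) F6268 (iv5 F7106) D4891 D10682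
def n46837 : Q := act 1 n22493
theorem D46837 : act 1 n22493 = n46837 := rfl
theorem F73983 : act 1 n46837 = n22498 := d15_1 D46837 (iv7 F62788) (iv2 F62986)
theorem F73984 : act 5 n44877 = n46837 := d21_6 (iv5 F72770) (iv1 F72771) (iv5 D22085) D22086 F65477 (iv6 F70502) (iv1 D46837) (iv5 D22493) D22494 (iv1 F72772)
theorem F73985 : act 3 n46837 = n22556 := d6_1 F73984 (iv5 F65802) D44877
theorem F73986 : act 6 n46837 = n22939 := d12_2 (iv6 F70502) F73984 F63952 (iv6 D41487) D41486
def n46838 : Q := act 4 n22493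
theorem D46838 : act 4 n22493 = n46838 := rfl
theorem F73987 : act 7 n46838 = n42570 := d11_2 F73942 D46838 (iv4 F73944)
theorem F73988 : act 5 n46838 = n43559 := d17_5 (iv1 D22501) (iv5 D10684) D10682 D22493 D46838 (iv0 D43559) (iv5 D20606) D20604 (iv4 F65904)
theorem F73989 : act 0 n46838 = n43501 := d18_2 (iv1 D46837) D46838 (iv4 D43501) F32664 (iv4 F67899) (iv0 F69024) (iv4 F65918) (iv0 F73952) F73984
def n46840 : Q := act 1 n22494
theorem D46840 : act 1 n22494 = n46840 := rfl
theorem F73991 : act 1 n46840 = n45529 := d15_1 D46840 F71806 (iv2 F62987)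
theorem F73993 : act 5 n46840 = n45636 := d18_9 (iv1 F72776) D46146 F72782 (iv4 D44128) F33150 (iv4 F68194) F68307 (iv4 F62985) D46840
theorem F73994 : act 3 n22561 = n46840 := d6_3 F73993 (iv3 D45636) F62643
theorem E8092 : n46148 = n41817 := (c21_5 F73993 (iv1 F72776) (iv5 D22080) D22081 D46148 (iv6 D41817) D41816 F64481 (iv5 F63348) (iv6 F71805) (iv1 F73991))
theorem F73995 : act 0 n41817 = n42023 := (sb E8092 (iv1 F72784))
theorem F73996 : act 1 n41817 = n22081 := (sb E8092 (iv0 D46148))
theorem E8093 : n46149 = n41827 := (c15_2 F73996 D46149 (iv7 D41827) (iv2 F64483))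
theorem F73997 : act 0 n41827 = n22081 := (sb E8093 (iv1 D46149))
theorem F73998 : act 1 n41827 = n42023 := (sb E8093 F72785)
theorem F73999 : act 1 n42554 = n43245 := d18_6 F72790 (iv4 F67705) F67703 (iv4 D20088) D20089 D42554 F67770 F73996 D46150
theorem F74000 : act 0 n42548 = n44278 := d20_4 (iv4 F67770) (iv1 F73999) (iv4 D42554) (iv3 F66372) (iv3 D44278) D44279 F69688 (iv4 F72765) F72764 (iv1 F73996)
theorem F74001 : act 0 n42953 = n43568 := d21_4 D42548 F74000 F69685 (iv6 F67309) (iv6 D43568) F32692 (iv1 D19849) D19850 (iv6 F65011) F65012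
theorem F74002 : act 1 n42548 = n43220 := d15_1 (iv0 F74000) (iv7 F71755) (iv2 F71756)
theorem F74003 : act 1 n40705 = n44278 := d15_0 (iv0 F74000) F66373 F62922
theorem F74004 : act 1 n43220 = n40705 := d15_0 F74003 F69686 (iv2 F67690)
theorem F74005 : act 0 n44657 = n42024 := d20_1 (iv4 F70206) (iv4 D42024) D42023 (iv1 F73998) F64490 (iv4 F64498) (iv1 F64499) (iv4 F72966) F72965 (iv1 F74004)
theorem F74006 : act 1 n42953 = n43573 := d15_1 (iv0 F74001) (iv7 D43573) (iv2 F68469)
def n46841 : Q := act 4 n22498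
theorem D46841 : act 4 n22498 = n46841 := rfl
theorem F74007 : act 2 n46841 = n42570 := d1_1 D46841 (iv4 F73944) F73940
theorem F74009 : act 1 n46841 = n43501 := d18_6 (iv1 F15168) (iv4 F32507) (iv1 F32510) (iv4 F62793) D22498 D46841 (iv4 D43501) (iv0 D20570) (iv5 D9753)
theorem F74011 : act 5 n43560 = n46841 := d17_7 (iv1 F32668) (iv5 D9758) (iv1 D4406) D4407 D9762 D20606 D43560 F74009 (iv4 D43501)
def n46842 : Q := act 3 n22500
theorem D46842 : act 3 n22500 = n46842 := rfl
theorem F74012 : act 7 n46842 = n46456 := d8_2 F73947 D46842 (iv3 F73950)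
theorem F74013 : act 0 n46842 = n46457 := d20_4 D9762 D20603 F68056 D46842 F73353 (iv4 F73424) (iv1 F73425) (iv4 F68059) (iv3 D20599) (iv1 D9761)
theorem F74014 : act 4 n46842 = n41060 := d20_6 F68059 (iv1 D22585) (iv4 D10708) (iv3 F17226) D22500 D46842 (iv1 F68592) (iv4 D43653) (iv3 F68379) F68381
theorem F74015 : act 0 n44950 = n46842 := d20_4 D20600 (iv1 F68418) (iv4 F68420) (iv3 F70660) (iv3 D46842) (iv4 F68056) (iv1 F68058) F68048 F32522 (iv1 F32525)
theorem F74016 : act 2 n46842 = n46455 := d15_3 (iv0 D46455) D46456 (iv7 F74012)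
theorem F74017 : act 3 n46455 = n23161 := d0_2 D46842 F74016 F63419 D23234 F65905
theorem F74018 : act 7 n46455 = n23239 := d4_2 (iv7 F74012) F74016 F73352
theorem F74019 : act 5 n45814 = n46455 := d13_3 F74018 F65883 D45814
def n46843 : Q := act 5 n22500
theorem D46843 : act 5 n22500 = n46843 := rfl
theorem F74020 : act 2 n46843 = n44821 := d2_1 D46843 F70406 F65905
theorem F74021 : act 7 n46843 = n41573 := d13_2 F73947 D46843 F73948
theorem F74022 : act 4 n46843 = n43464 := d17_4 (iv1 D10683) D10684 D22500 D46843 (iv5 D43464) (iv0 D20547) (iv5 D9748) D9747 (iv4 F62793)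
theorem F74023 : act 1 n44820 = n46843 := d15_1 D44820 F74021 (iv2 F65932)
theorem F74024 : act 1 n46843 = n41851 := d15_1 F74023 (iv7 F70503) (iv2 F70504)
theorem F74025 : act 0 n46833 = n43463 := d18_2 F69079 D46833 (iv4 D43463) D43464 (iv4 F74022) F74024 (iv4 F67880) (iv0 F67881) D43947
def n46844 : Q := act 6 n22500
theorem D46844 : act 6 n22500 = n46844 := rfl
theorem F74026 : act 4 n46844 = n43550 := d10_1 D46844 (iv6 D43550) F68056
def n46845 : Q := act 6 n22501
theorem D46845 : act 6 n22501 = n46845 := rfl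
theorem F74028 : act 4 n46845 = n43553 := d10_1 D46845 (iv6 D43553) (iv4 F65904)
theorem F74029 : act 5 n46845 = n44818 := d12_1 D46845 (iv6 D44818) (iv5 D21348) D21349 F65901
theorem F74030 : act 0 n43266 = n46845 := d21_1 D43266 F74029 (iv6 D44818) (iv1 F65873) F35577 (iv5 D22338) F63129 F33041 F32376 (iv1 F32437)
theorem F74031 : act 0 n46845 = n43265 := d21_7 (iv5 F73620) (iv1 F73625) (iv5 D22868) D22869 (iv1 F65924) D44818 (iv5 F74029) (iv5 D43265) (iv6 F63477) D41821
def n46846 : Q := act 3 n22502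
theorem D46846 : act 3 n22502 = n46846 := rfl
theorem F74034 : act 4 n46846 = n22586 := d5_2 D22502 D46846 (iv3 D22586) (iv4 D10708) (iv3 F17226)
theorem F74035 : act 6 n46846 = n41424 := d7_2 (iv6 F35053) D46846 (iv3 D41424)
def n46847 : Q := act 5 n22502
theorem D46847 : act 5 n22502 = n46847 := rfl
def n46848 : Q := act 6 n22503
theorem D46848 : act 6 n22503 = n46848 := rfl
theorem F74036 : act 3 n46848 = n22589 := d7_1 D46848 (iv6 D22589) (iv3 F35054)
theorem F74037 : act 7 n46848 = n22952 := d14_2 D22503 D46848 (iv6 D22952) F17383 (iv6 F17227)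
def n46849 : Q := act 6 n22504
theorem D46849 : act 6 n22504 = n46849 := rfl
theorem F74038 : act 2 n46849 = n40882 := d3_1 D46849 (iv6 D40882) (iv2 F35056)
theorem F74039 : act 3 n46849 = n22505 := d7_1 D46849 (iv6 D22505) D22504
theorem F74040 : act 4 n46849 = n44991 := d10_1 D46849 (iv6 D44991) (iv4 F35057)
theorem F74041 : act 0 n44991 = n22755 := d20_7 F17174 (iv1 F7037) D4930 D10810 (iv1 F66885) (iv3 F74039) F74040 (iv4 D22755) (iv3 D10759) (iv1 F17178)
def n46850 : Q := act 5 n22505
theorem D46850 : act 5 n22505 = n46850 := rfl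
def n46851 : Q := act 1 n22507
theorem D46851 : act 1 n22507 = n46851 := rfl
def n46852 : Q := act 5 n22507
theorem D46852 : act 5 n22507 = n46852 := rfl
theorem F74042 : act 3 n46852 = n40889 := d6_1 D46852 (iv5 D40889) (iv3 F35059)
def n46853 : Q := act 7 n22507
theorem D46853 : act 7 n22507 = n46853 := rfl
theorem F74043 : act 3 n46853 = n40861 := d8_1 D46853 F63098 (iv3 F35059)
theorem F74044 : act 4 n46853 = n41300 := d11_1 D46853 F63623 (iv4 F35060)
theorem F74045 : act 6 n46853 = n22881 := d14_1 D46853 F66884 (iv6 D42366) F31828 D22507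
theorem F74046 : act 0 n46853 = n22927 := d20_7 F15200 F66484 D10994 F17847 D19435 D41300 (iv4 F74044) (iv4 F68169) (iv3 D43385) (iv1 D20503)
theorem F74047 : act 1 n46425 = n22927 := d15_0 (iv0 F74046) (iv7 D46853) (iv2 F73267)
def n46854 : Q := act 4 n22508
theorem D46854 : act 4 n22508 = n46854 := rfl
theorem F74048 : act 2 n46854 = n22512 := d1_1 D46854 (iv4 D22512) (iv2 F35061)
theorem F74049 : act 3 n46854 = n26758 := d5_1 D46854 F42994 (iv3 F27373) F27377 (iv3 F35062)
theorem F74050 : act 5 n46854 = n35037 := d9_2 D22508 D46854 (iv4 D35037) (iv5 D17011) D17010 (iv5 F32533) F32532 D22237 D46427 F73273 (iv4 D35032) (iv5 D17006) D17005 F35032 F35031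
theorem F74051 : act 7 n46854 = n27336 := d11_2 (iv7 F35063) D46854 F44238
theorem F74052 : act 1 n33366 = n46854 := d15_1 (iv0 F73274) F74051 (iv2 F73271)
theorem F74053 : act 1 n46854 = n33528 := d15_0 F73275 F73272 (iv2 F74048)
def n46855 : Q := act 6 n22508
theorem D46855 : act 6 n22508 = n46855 := rfl
theorem F74054 : act 2 n46855 = n22513 := d3_1 D46855 (iv6 D22513) (iv2 F35061)
theorem F74055 : act 3 n46855 = n27257 := d7_1 D46855 (iv6 D27257) (iv3 F35062)
def n46856 : Q := act 1 n22509
theorem D46856 : act 1 n22509 = n46856 := rfl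
theorem F74056 : act 1 n46856 = n22517 := d15_1 D46856 (iv7 D22517) (iv2 F35067)
theorem F74057 : act 7 n46856 = n22514 := d15_2 (iv0 F73966) D46856 (iv2 F65529)
theorem F74058 : act 2 n22515 = n46856 := d4_3 F74057 (iv2 F65529) F65528
def n46857 : Q := act 5 n22509
theorem D46857 : act 5 n22509 = n46857 := rfl
theorem F74059 : act 2 n46857 = n22516 := d2_1 D46857 (iv5 D22516) (iv2 F35067)
def n46858 : Q := act 7 n22509
theorem D46858 : act 7 n22509 = n46858 := rfl
theorem F74060 : act 2 n46858 = n22517 := d4_1 D46858 (iv7 D22517) (iv2 F35067)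
theorem F74061 : act 1 n22515 = n46858 := d15_1 D22515 (iv7 D46858) F35067
theorem F74062 : act 1 n46858 = n22514 := d15_1 F74061 (iv7 F74057) (iv2 F74058)
def n46859 : Q := act 3 n22510
theorem D46859 : act 3 n22510 = n46859 := rfl
theorem F74063 : act 2 n46859 = n40899 := d0_1 D46859 (iv3 D40899) (iv2 F30939) (iv3 F34598) F35070
theorem F74064 : act 5 n46859 = n41579 := d6_2 (iv5 F35068) D46859 (iv3 D41579)
theorem F74065 : act 7 n46859 = n46259 := d8_2 F35071 D46859 F72912
def n46860 : Q := act 4 n22510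
theorem D46860 : act 4 n22510 = n46860 := rfl
theorem F74066 : act 2 n46860 = n35051 := d1_1 D46860 F55667 F35070
theorem F74067 : act 7 n46860 = n46261 := d11_2 F35071 D46860 (iv4 D46261)
theorem F74068 : act 5 n46860 = n35026 := d16_1 D46860 (iv4 D35026) (iv5 D17001) (iv4 F27765) (iv5 F27767) F31348 F35076 F35073 F35070
def n46861 : Q := act 6 n22510
theorem D46861 : act 6 n22510 = n46861 := rfl
theorem F74069 : act 2 n46861 = n46267 := d3_1 D46861 (iv6 D46267) F35070
def n46862 : Q := act 4 n22511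
theorem D46862 : act 4 n22511 = n46862 := rfl
theorem F74070 : act 2 n46862 = n46261 := d1_1 D46862 (iv4 D46261) F35074
theorem F74071 : act 5 n46862 = n35052 := d9_2 F35076 D46862 F55668 F27875 (iv4 F27777) (iv5 F33089) F33088 (iv5 F35068) D46860 F74068 (iv4 D35026) (iv5 D17001) (iv4 F27765) (iv5 F27767) F31348
theorem F74072 : act 7 n46862 = n35051 := d11_2 (iv7 F35073) D46862 F55667
def n46863 : Q := act 6 n22511
theorem D46863 : act 6 n22511 = n46863 := rfl
theorem F74073 : act 2 n46863 = n46262 := d3_1 D46863 (iv6 D46262) F35074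
theorem F74074 : act 3 n46863 = n40901 := d7_1 D46863 (iv6 D40901) F35075
def n46864 : Q := act 0 n22512
theorem D46864 : act 0 n22512 = n46864 := rfl
theorem F74075 : act 2 n33366 = n46864 := d15_3 (iv0 D46864) (iv0 F52825) (iv7 F52603)
theorem F74076 : act 1 n27336 = n46864 := d15_0 (iv0 D46864) (iv7 F73272) F73271
theorem F74077 : act 7 n46864 = n33528 := d15_2 (iv0 F44239) F74076 (iv2 D33528)
theorem F74078 : act 3 n46864 = n33444 := d0_2 D33366 F74075 (iv2 D33444) (iv3 D16157) (iv2 F25626)
def n46865 : Q := act 5 n22512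
theorem D46865 : act 5 n22512 = n46865 := rfl
theorem F74079 : act 2 n46865 = n35037 := d2_1 D46865 (iv5 F74050) F74048
theorem F74080 : act 7 n46865 = n35032 := d13_2 F73272 D46865 (iv5 F73273)
theorem F74081 : act 4 n46865 = n35023 := d16_2 D22512 D46865 (iv5 D35023) D35022 (iv5 F68076) F68075 (iv5 F34697) (iv7 F35063) F35061
def n46866 : Q := act 6 n22512
theorem D46866 : act 6 n22512 = n46866 := rfl
theorem F74082 : act 4 n46866 = n22513 := d10_1 D46866 (iv6 D22513) D22512
def n46867 : Q := act 0 n22513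
theorem D46867 : act 0 n22513 = n46867 := rfl
def n46868 : Q := act 1 n22513
theorem D46868 : act 1 n22513 = n46868 := rfl
def n46869 : Q := act 5 n22513
theorem D46869 : act 5 n22513 = n46869 := rfl
theorem F74083 : act 3 n46869 = n22520 := d6_1 D46869 (iv5 D22520) (iv3 F35077)
theorem F74084 : act 6 n46869 = n22516 := d12_2 D22513 D46869 (iv5 D22516) (iv6 D10690) D10689
def n46870 : Q := act 7 n22513
theorem D46870 : act 7 n22513 = n46870 := rfl
theorem F74085 : act 3 n46870 = n22521 := d8_1 D46870 (iv7 D22521) (iv3 F35077)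
def n46871 : Q := act 3 n22514
theorem D46871 : act 3 n22514 = n46871 := rfl
theorem F74086 : act 2 n46871 = n40907 := d0_1 D46871 (iv3 D40907) (iv2 F66346) F66347 F65529
def n46872 : Q := act 5 n22514
theorem D46872 : act 5 n22514 = n46872 := rfl
def n46873 : Q := act 6 n22514
theorem D46873 : act 6 n22514 = n46873 := rfl
def n46874 : Q := act 5 n22515
theorem D46874 : act 5 n22515 = n46874 := rfl
theorem F74087 : act 3 n46874 = n40914 := d6_1 D46874 (iv5 D40914) (iv3 F66123)
def n46875 : Q := act 6 n22515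
theorem D46875 : act 6 n22515 = n46875 := rfl
theorem F74088 : act 3 n46875 = n40915 := d7_1 D46875 (iv6 D40915) (iv3 F66123)
theorem F74089 : act 0 n46875 = n46628 := d20_4 (iv4 F70674) (iv1 F72348) (iv4 F66351) (iv3 F74088) (iv3 D46628) (iv4 D22343) (iv1 F17326) (iv4 F35333) (iv3 F67006) F70675
def n46876 : Q := act 0 n22516
theorem D46876 : act 0 n22516 = n46876 := rfl
def n46877 : Q := act 1 n22516
theorem D46877 : act 1 n22516 = n46877 := rfl
def n46878 : Q := act 4 n22516
theorem D46878 : act 4 n22516 = n46878 := rfl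
def n46879 : Q := act 7 n22516
theorem D46879 : act 7 n22516 = n46879 := rfl
theorem F74090 : act 3 n46879 = n22535 := d8_1 D46879 (iv7 D22535) (iv3 F35078)
theorem F74091 : act 5 n46879 = n22517 := d13_1 D46879 (iv7 D22517) D22516
def n46880 : Q := act 2 n22518
theorem D46880 : act 2 n22518 = n46880 := rfl
theorem F74092 : act 7 n22519 = n46880 := d15_2 (iv0 D22518) D22519 (iv2 D46880)
def n46881 : Q := act 3 n22518
theorem D46881 : act 3 n22518 = n46881 := rfl
def n46882 : Q := act 4 n22518
theorem D46882 : act 4 n22518 = n46882 := rfl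
def n46883 : Q := act 5 n22518
theorem D46883 : act 5 n22518 = n46883 := rfl
def n46884 : Q := act 6 n22518
theorem D46884 : act 6 n22518 = n46884 := rfl
theorem F74093 : act 5 n46884 = n46075 := d21_6 F16698 (iv1 F7094) D4893 D10691 D22518 D46884 (iv1 D46075) (iv5 D22006) (iv6 D10493) D10491
def n46885 : Q := act 7 n22518
theorem D46885 : act 7 n22518 = n46885 := rfl
theorem F74094 : act 2 n46885 = n22519 := d4_1 D46885 F74092 (iv2 D46880)
def n46886 : Q := act 3 n22519
theorem D46886 : act 3 n22519 = n46886 := rfl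
def n46887 : Q := act 4 n22519
theorem D46887 : act 4 n22519 = n46887 := rfl
def n46888 : Q := act 5 n22519
theorem D46888 : act 5 n22519 = n46888 := rfl
def n46889 : Q := act 6 n22519
theorem D46889 : act 6 n22519 = n46889 := rfl
def n46890 : Q := act 0 n22520
theorem D46890 : act 0 n22520 = n46890 := rfl
def n46891 : Q := act 1 n22520
theorem D46891 : act 1 n22520 = n46891 := rfl
def n46892 : Q := act 4 n22520
theorem D46892 : act 4 n22520 = n46892 := rfl
theorem F74095 : act 6 n46892 = n22534 := d10_2 (iv6 F35080) D46892 (iv4 D22534)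
def n46893 : Q := act 7 n22520
theorem D46893 : act 7 n22520 = n46893 := rfl
theorem F74096 : act 5 n46893 = n22521 := d13_1 D46893 (iv7 D22521) D22520
def n46894 : Q := act 1 n22523
theorem D46894 : act 1 n22523 = n46894 := rfl
def n46895 : Q := act 2 n22523
theorem D46895 : act 2 n22523 = n46895 := rfl
theorem F74097 : act 1 n46895 = n23343 := d15_0 (iv0 F73377) F73376 D46895
def n46896 : Q := act 5 n22523
theorem D46896 : act 5 n22523 = n46896 := rfl
theorem F74098 : act 3 n46896 = n22525 := d6_1 D46896 (iv5 D22525) D22523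
def n46897 : Q := act 6 n22523
theorem D46897 : act 6 n22523 = n46897 := rfl
theorem F74099 : act 3 n46897 = n22526 := d7_1 D46897 (iv6 D22526) D22523
def n46898 : Q := act 5 n22524
theorem D46898 : act 5 n22524 = n46898 := rfl
theorem F74100 : act 2 n46898 = n43326 := d2_1 D46898 (iv5 D43326) F62755
theorem F74101 : act 3 n46898 = n40987 := d6_1 D46898 (iv5 D40987) F62963
theorem F74102 : act 7 n46898 = n43512 := d13_2 (iv7 F62956) D46898 (iv5 D43512)
theorem F74103 : act 0 n46898 = n43514 := d21_1 D46898 (iv5 F68383) (iv6 D43260) (iv1 D20416) (iv6 D9696) (iv5 D4375) D4372 D9694 D20413 F62960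
def n46899 : Q := act 6 n22524
theorem D46899 : act 6 n22524 = n46899 := rfl
theorem F74106 : act 3 n46899 = n40988 := d7_1 D46899 (iv6 D40988) F62963
theorem F74107 : act 4 n46899 = n22526 := d10_1 D46899 (iv6 D22526) D22524
theorem F74108 : act 5 n46899 = n38012 := d21_6 (iv5 D4375) D4372 D9694 D20413 F62960 D46899 (iv1 D38012) (iv5 D18196) (iv6 D8582) (iv1 F12198)
theorem F74109 : act 1 n43374 = n46899 := d18_8 (iv1 D38012) D38013 F63057 (iv4 D21835) (iv5 F33016) (iv4 F69157) (iv0 F69160) (iv4 F68137) F74108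
theorem F74110 : act 0 n22526 = n45746 := d17_0 (iv5 F72970) (iv1 F72971) (iv5 D22151) (iv4 F62689) D20983 D44136 (iv5 F69473) F74109 F74107
def n46900 : Q := act 0 n22525
theorem D46900 : act 0 n22525 = n46900 := rfl
theorem F74111 : act 5 n46900 = n44876 := d17_3 D10692 D22525 D46900 (iv4 D44876) F65797 (iv0 D22555) (iv5 D10699) (iv0 D4895) (iv4 F7314)
theorem F74112 : act 1 n22530 = n46900 := d15_0 (iv0 D46900) (iv7 F73379) F73378
def n46901 : Q := act 1 n22525
theorem D46901 : act 1 n22525 = n46901 := rfl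
theorem F74113 : act 1 n46901 = n22530 := d15_1 D46901 (iv7 F73375) F73374
theorem F74114 : act 5 n44878 = n46901 := d21_6 (iv5 F72970) (iv1 F72971) (iv5 D22151) D22152 (iv1 F63997) (iv6 F70506) (iv1 D46901) (iv5 D22525) D22526 F74110
def n46902 : Q := act 4 n22525
theorem D46902 : act 4 n22525 = n46902 := rfl
def n46903 : Q := act 6 n22525
theorem D46903 : act 6 n22525 = n46903 := rfl
def n46904 : Q := act 1 n22526
theorem D46904 : act 1 n22526 = n46904 := rfl
theorem F74115 : act 7 n46904 = n22929 := d15_2 (iv0 F74110) D46904 (iv2 F72194)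
theorem F74116 : act 4 n46904 = n22561 := d17_9 (iv1 D22561) F62693 F62681 (iv5 D9207) (iv4 F14372) D19558 D41543 (iv5 F64099) D46904
theorem F74117 : act 5 n46313 = n46904 := d17_3 (iv1 F31316) D22151 (iv1 F72972) F74116 (iv5 F62643) F62642 (iv5 D10567) F14379 (iv4 F31313)
def n46905 : Q := act 0 n22528
theorem D46905 : act 0 n22528 = n46905 := rfl
def n46906 : Q := act 1 n22528
theorem D46906 : act 1 n22528 = n46906 := rfl
def n46907 : Q := act 2 n22528
theorem D46907 : act 2 n22528 = n46907 := rfl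
theorem F74118 : act 4 n46907 = n43519 := d1_2 (iv4 F62993) D46907 (iv2 D43519)
def n46908 : Q := act 5 n22528
theorem D46908 : act 5 n22528 = n46908 := rfl
theorem F74119 : act 3 n46908 = n22530 := d6_1 D46908 (iv5 D22530) D22528
def n46909 : Q := act 6 n22528
theorem D46909 : act 6 n22528 = n46909 := rfl
theorem F74120 : act 3 n46909 = n22531 := d7_1 D46909 (iv6 D22531) D22528
theorem F74121 : act 4 n46909 = n43521 := d10_1 D46909 (iv6 D43521) (iv4 F62993)
def n46910 : Q := act 4 n22530
theorem D46910 : act 4 n22530 = n46910 := rfl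
def n46911 : Q := act 6 n22530
theorem D46911 : act 6 n22530 = n46911 := rfl
def n46912 : Q := act 3 n22532
theorem D46912 : act 3 n22532 = n46912 := rfl
def n46913 : Q := act 4 n22532
theorem D46913 : act 4 n22532 = n46913 := rfl
def n46914 : Q := act 5 n22532
theorem D46914 : act 5 n22532 = n46914 := rfl
theorem F74122 : act 2 n46914 = n46086 := d2_1 D46914 (iv5 F73393) F73394
theorem F74123 : act 7 n46914 = n41596 := d13_2 (iv7 F73395) D46914 F73381
theorem F74124 : act 1 n46914 = n41854 := d17_8 (iv1 F65732) F65734 (iv1 F34758) F34755 (iv4 F34742) (iv5 F73389) F73396 D46914 F64523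
theorem F74125 : act 6 n46914 = n41806 := d21_3 D10694 D22532 D46914 (iv1 D41806) (iv6 D19671) D19670 D41801 F64459 (iv6 D22531) (iv1 D10693)
theorem F74126 : act 1 n41813 = n46914 := d15_0 F74124 (iv7 F70507) F70505
def n46915 : Q := act 6 n22532
theorem D46915 : act 6 n22532 = n46915 := rfl
def n46916 : Q := act 3 n22533
theorem D46916 : act 3 n22533 = n46916 := rfl
theorem F74127 : act 5 n46916 = n46082 := d6_2 F35083 D46916 F72648
def n46917 : Q := act 4 n22533
theorem D46917 : act 4 n22533 = n46917 := rfl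
theorem F74128 : act 0 n46917 = n46517 := d18_2 (iv1 F73391) D46917 (iv4 D46517) (iv5 D22297) (iv4 F32422) F62617 F62727 F34745 (iv5 F73389)
def n46918 : Q := act 6 n22533
theorem D46918 : act 6 n22533 = n46918 := rfl
theorem F74129 : act 5 n46918 = n46085 := d12_1 D46918 (iv6 D46085) (iv5 D22011) D22012 F35083
def n46919 : Q := act 0 n22534
theorem D46919 : act 0 n22534 = n46919 := rfl
theorem F74130 : act 4 n46919 = n22669 := d18_3 (iv1 D22533) D22534 D46919 F70482 F70480 F65732 (iv4 F64523) F70501 F35083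
def n46920 : Q := act 1 n22534
theorem D46920 : act 1 n22534 = n46920 := rfl
theorem F74131 : act 4 n46920 = n22670 := d18_7 F62715 (iv4 D10703) (iv1 D4896) (iv4 F7314) D10694 D22534 D46920 F73506 F73505
def n46921 : Q := act 3 n22534
theorem D46921 : act 3 n22534 = n46921 := rfl
def n46922 : Q := act 5 n22534
theorem D46922 : act 5 n22534 = n46922 := rfl
def n46923 : Q := act 7 n22534
theorem D46923 : act 7 n22534 = n46923 := rfl
theorem F74132 : act 4 n46923 = n22535 := d11_1 D46923 (iv7 D22535) D22534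
def n46924 : Q := act 6 n22535
theorem D46924 : act 6 n22535 = n46924 := rfl
def n46925 : Q := act 0 n22552
theorem D46925 : act 0 n22552 = n46925 := rfl
theorem F74133 : act 5 n46925 = n44869 := d21_2 D22552 D46925 F73007 (iv1 D41348) (iv6 D19469) (iv5 F17246) (iv1 F17249) (iv5 D4907) D4908 (iv1 F62718)
theorem F74134 : act 1 n22570 = n46925 := d15_0 (iv0 D46925) F62722 (iv2 F63004)
def n46926 : Q := act 1 n22552
theorem D46926 : act 1 n22552 = n46926 := rfl
theorem F74135 : act 1 n46926 = n22570 := d15_1 D46926 (iv7 F73401) F73400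
theorem F74136 : act 5 n46926 = n44870 := d17_7 (iv1 F65800) F65802 (iv1 D22556) (iv5 D10699) D10698 D22552 D46926 F72704 F72702
def n46927 : Q := act 4 n22552
theorem D46927 : act 4 n22552 = n46927 := rfl
def n46928 : Q := act 6 n22552
theorem D46928 : act 6 n22552 = n46928 := rfl
theorem F74137 : act 3 n46928 = n42724 := d7_1 D46928 (iv6 D42724) (iv3 F62721)
def n46929 : Q := act 1 n22553
theorem D46929 : act 1 n22553 = n46929 := rfl
theorem F74138 : act 7 n46929 = n22810 := d15_2 F72150 D46929 (iv2 F72147)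
theorem F74139 : act 5 n45630 = n46929 := d13_3 F74138 F71988 (iv7 F72151)
def n46930 : Q := act 3 n22555
theorem D46930 : act 3 n22555 = n46930 := rfl
theorem F74141 : act 4 n46930 = n43708 := d20_6 D20672 F32785 (iv4 D10940) F62710 D22555 D46930 (iv1 D43708) (iv4 D20698) F15383 (iv1 F15295)
def n46931 : Q := act 4 n22555
theorem D46931 : act 4 n22555 = n46931 := rfl
theorem F74144 : act 0 n46931 = n43515 := d18_2 D22555 D46931 (iv4 D43515) (iv5 D20584) F62727 F34745 F34742 F17147 D10699
def n46932 : Q := act 4 n22556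
theorem D46932 : act 4 n22556 = n46932 := rfl
theorem F74145 : act 6 n46932 = n22940 := d10_2 (iv6 F63750) D46932 (iv4 D22940)
theorem F74146 : act 0 n43515 = n46932 := d20_7 D46838 F73989 (iv4 D43501) F35673 (iv1 F32668) (iv3 F32674) D43515 (iv4 D46932) (iv3 F73985) (iv1 D46837)
def n46933 : Q := act 0 n22557
theorem D46933 : act 0 n22557 = n46933 := rfl
theorem F74147 : act 1 n22572 = n46933 := d15_0 (iv0 D46933) F62711 F63028
def n46934 : Q := act 1 n22557
theorem D46934 : act 1 n22557 = n46934 := rfl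
theorem F74148 : act 1 n46934 = n22572 := d15_1 D46934 (iv7 F73403) F73402
theorem F74149 : act 4 n43703 = n46934 := d20_6 (iv4 F32787) (iv1 F32788) (iv4 D9811) (iv3 F15383) D20696 D43703 (iv1 D46934) (iv4 D22557) (iv3 F62710) D10938
theorem F74150 : act 6 n46934 = n22943 := d10_2 (iv6 F68688) F74149 (iv4 F66691)
theorem F74151 : act 0 n43512 = n43703 := d18_0 F74149 (iv1 D46934) (iv4 D22557) (iv5 D10699) D10698 F62718 (iv4 F17257) (iv0 F62951) D43512
theorem F74152 : act 1 n43326 = n43703 := d15_0 (iv0 F74151) (iv7 F74102) F74100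
def n46936 : Q := act 5 n22557
theorem D46936 : act 5 n22557 = n46936 := rfl
def n46938 : Q := act 0 n22569
theorem D46938 : act 0 n22569 = n46938 := rfl
theorem F74156 : act 1 n40935 = n46938 := d15_0 (iv0 D46938) (iv7 F73399) F73397
def n46939 : Q := act 1 n22569
theorem D46939 : act 1 n22569 = n46939 := rfl
theorem F74157 : act 1 n46939 = n40935 := d15_1 D46939 (iv7 F66975) F66973
def n46940 : Q := act 5 n22569
theorem D46940 : act 5 n22569 = n46940 := rfl
theorem F74158 : act 3 n46940 = n22570 := d6_1 D46940 (iv5 D22570) D22569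
def n46941 : Q := act 6 n22569
theorem D46941 : act 6 n22569 = n46941 := rfl
theorem F74159 : act 3 n46941 = n22571 := d7_1 D46941 (iv6 D22571) D22569
theorem F74160 : act 4 n46941 = n46941 := d10_1 D46941 (iv6 D46941) F62235
def n46942 : Q := act 4 n22570
theorem D46942 : act 4 n22570 = n46942 := rfl
def n46943 : Q := act 6 n22570
theorem D46943 : act 6 n22570 = n46943 := rfl
def n46945 : Q := act 5 n22572
theorem D46945 : act 5 n22572 = n46945 := rfl
def n46947 : Q := act 5 n22577
theorem D46947 : act 5 n22577 = n46947 := rfl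
def n46948 : Q := act 6 n22577
theorem D46948 : act 6 n22577 = n46948 := rfl
theorem F74165 : act 4 n46948 = n22579 := d10_1 D46948 (iv6 D22579) D22577
def n46950 : Q := act 3 n22582
theorem D46950 : act 3 n22582 = n46950 := rfl
theorem F74169 : act 4 n46950 = n46950 := d5_2 D22582 D46950 (iv3 D46950) (iv4 D22582) F65727
def n46951 : Q := act 5 n22582
theorem D46951 : act 5 n22582 = n46951 := rfl
def n46952 : Q := act 6 n22582
theorem D46952 : act 6 n22582 = n46952 := rfl
theorem F74170 : act 4 n46952 = n22583 := d10_1 D46952 (iv6 D22583) D22582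
def n46953 : Q := act 3 n22584
theorem D46953 : act 3 n22584 = n46953 := rfl
def n46954 : Q := act 4 n22584
theorem D46954 : act 4 n22584 = n46954 := rfl
theorem F74172 : act 7 n46954 = n43542 := d11_2 F73416 D46954 (iv4 F73418)
theorem F74173 : act 1 n46954 = n38855 := d18_8 F62960 (iv4 D22524) (iv1 F34746) F34742 (iv5 F34755) (iv4 F73424) F73426 D46954 F59873
theorem F74174 : act 3 n40994 = n46954 := d20_5 (iv4 F68591) (iv1 D41061) (iv4 D19327) (iv3 F30957) D40994 (iv4 D46954) (iv1 F73426) F73424 (iv3 F73353) (iv1 F73356)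
theorem F74175 : act 0 n46954 = n43511 := d20_4 D10930 D23242 F68411 F74174 F68379 D43653 (iv1 F68590) F68591 (iv3 D23239) (iv1 D10929)
def n46955 : Q := act 5 n22584
theorem D46955 : act 5 n22584 = n46955 := rfl
def n46956 : Q := act 6 n22584
theorem D46956 : act 6 n22584 = n46956 := rfl
def n46957 : Q := act 3 n22585
theorem D46957 : act 3 n22585 = n46957 := rfl
theorem F74176 : act 4 n46957 = n43544 := d5_2 F68059 D46957 (iv3 D43544) (iv4 D20600) D20599
def n46958 : Q := act 5 n22585
theorem D46958 : act 5 n22585 = n46958 := rfl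
def n46959 : Q := act 6 n22585
theorem D46959 : act 6 n22585 = n46959 := rfl
theorem F74177 : act 4 n46959 = n43543 := d10_1 D46959 (iv6 D43543) F68059
def n46960 : Q := act 0 n22586
theorem D46960 : act 0 n22586 = n46960 := rfl
def n46961 : Q := act 1 n22586
theorem D46961 : act 1 n22586 = n46961 := rfl
def n46962 : Q := act 2 n22586
theorem D46962 : act 2 n22586 = n46962 := rfl
theorem F74178 : act 6 n46962 = n41448 := d3_2 (iv6 F35126) D46962 (iv2 D41448)
def n46963 : Q := act 5 n22586
theorem D46963 : act 5 n22586 = n46963 := rfl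
theorem F74179 : act 3 n46963 = n22587 := d6_1 D46963 (iv5 D22587) D22586
def n46964 : Q := act 7 n22586
theorem D46964 : act 7 n22586 = n46964 := rfl
theorem F74180 : act 3 n46964 = n22588 := d8_1 D46964 (iv7 D22588) D22586
def n46965 : Q := act 0 n22587
theorem D46965 : act 0 n22587 = n46965 := rfl
def n46966 : Q := act 1 n22587
theorem D46966 : act 1 n22587 = n46966 := rfl
theorem F74181 : act 5 n46966 = n43515 := d17_7 (iv1 F35104) (iv5 D10704) (iv1 D4896) D4897 D10708 D22587 D46966 (iv0 F74144) (iv4 D46931)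
def n46967 : Q := act 4 n22587
theorem D46967 : act 4 n22587 = n46967 := rfl
def n46968 : Q := act 6 n22587
theorem D46968 : act 6 n22587 = n46968 := rfl
theorem F74182 : act 5 n46968 = n41453 := d12_1 D46968 (iv6 D41453) (iv5 D19520) (iv6 F17238) D22587
def n46969 : Q := act 7 n22587
theorem D46969 : act 7 n22587 = n46969 := rfl
theorem F74183 : act 5 n46969 = n22588 := d13_1 D46969 (iv7 D22588) D22587
def n46970 : Q := act 6 n22588
theorem D46970 : act 6 n22588 = n46970 := rfl
theorem F74184 : act 4 n46970 = n22589 := d10_1 D46970 (iv6 D22589) (iv4 F35127)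
theorem F74185 : act 7 n46970 = n22957 := d14_2 D22588 D46970 (iv6 D22957) F17631 (iv6 F17238)
def n46971 : Q := act 0 n22590
theorem D46971 : act 0 n22590 = n46971 := rfl
theorem F74186 : act 4 n46971 = n40881 := d18_3 D10710 D22590 D46971 F72500 (iv4 D45907) (iv0 D21951) (iv4 F34428) (iv0 F34429) (iv5 D10714)
theorem F74187 : act 3 n46971 = n23005 := d20_5 F33676 D22289 D46500 F73467 D46971 F36066 (iv1 F31839) (iv4 F33692) F33691 (iv1 F33776)
theorem F74188 : act 1 n22594 = n46971 := d15_0 (iv0 D46971) (iv7 F73468) F73466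
def n46972 : Q := act 1 n22590
theorem D46972 : act 1 n22590 = n46972 := rfl
theorem F74189 : act 1 n46972 = n22594 := d15_1 D46972 (iv7 F73479) F73478
theorem F74190 : act 4 n40880 = n46972 := d20_0 (iv1 D46972) (iv4 D22590) F34909 (iv1 D22356) (iv3 D10642) (iv4 D4876) (iv1 F14142) (iv4 F14140) D19270 D40880
theorem F74191 : act 3 n22998 = n46972 := d20_3 (iv4 F73512) (iv1 D46520) F36062 (iv1 D46972) (iv3 F73467) (iv4 D46500) (iv1 F34782) (iv4 F33774) (iv3 F70582) (iv1 F70586)
def n46973 : Q := act 5 n22590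
theorem D46973 : act 5 n22590 = n46973 := rfl
def n46974 : Q := act 6 n22590
theorem D46974 : act 6 n22590 = n46974 := rfl
theorem F74192 : act 4 n46974 = n22592 := d10_1 D46974 (iv6 D22592) D22590
def n46975 : Q := act 6 n22591
theorem D46975 : act 6 n22591 = n46975 := rfl
theorem F74193 : act 3 n46975 = n37457 := d7_1 D46975 (iv6 D37457) (iv3 F35129)
theorem F74194 : act 4 n46975 = n38182 := d10_1 D46975 (iv6 D38182) (iv4 F35131)
def n46976 : Q := act 0 n22592
theorem D46976 : act 0 n22592 = n46976 := rfl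
def n46977 : Q := act 1 n22592
theorem D46977 : act 1 n22592 = n46977 := rfl
def n46978 : Q := act 5 n22592
theorem D46978 : act 5 n22592 = n46978 := rfl
def n46979 : Q := act 7 n22592
theorem D46979 : act 7 n22592 = n46979 := rfl
def n46980 : Q := act 5 n22593
theorem D46980 : act 5 n22593 = n46980 := rfl
theorem F74195 : act 2 n46980 = n37455 := d2_1 D46980 (iv5 F73510) F73509
theorem F74196 : act 3 n46980 = n22595 := d6_1 D46980 (iv5 D22595) D22593
theorem F74197 : act 4 n46980 = n36868 := d18_5 F34684 (iv4 F33672) D44915 F70578 D46980 F60990 F61436 (iv0 F64072) F64070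
def n46981 : Q := act 6 n22593
theorem D46981 : act 6 n22593 = n46981 := rfl
theorem F74198 : act 3 n46981 = n22596 := d7_1 D46981 (iv6 D22596) D22593
def n46982 : Q := act 5 n22594
theorem D46982 : act 5 n22594 = n46982 := rfl
theorem F74199 : act 3 n46982 = n45076 := d6_1 D46982 F70963 F36216
def n46983 : Q := act 6 n22594
theorem D46983 : act 6 n22594 = n46983 := rfl
theorem F74200 : act 4 n46983 = n22596 := d10_1 D46983 (iv6 D22596) D22594
def n46984 : Q := act 6 n22595
theorem D46984 : act 6 n22595 = n46984 := rfl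
theorem F74201 : act 2 n46984 = n38496 := d3_1 D46984 (iv6 D38496) (iv2 F35133)
theorem F74202 : act 4 n46984 = n38495 := d10_1 D46984 (iv6 D38495) F35134
def n46985 : Q := act 0 n22596
theorem D46985 : act 0 n22596 = n46985 := rfl
def n46986 : Q := act 1 n22596
theorem D46986 : act 1 n22596 = n46986 := rfl
def n46987 : Q := act 5 n22596
theorem D46987 : act 5 n22596 = n46987 := rfl
def n46988 : Q := act 7 n22596
theorem D46988 : act 7 n22596 = n46988 := rfl
def n46989 : Q := act 4 n22597
theorem D46989 : act 4 n22597 = n46989 := rfl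
theorem F74203 : act 2 n46989 = n22602 := d1_1 D46989 (iv4 D22602) (iv2 F35135)
theorem F74204 : act 3 n46989 = n26517 := d5_1 D46989 F42448 F24931 D15358 (iv3 F35136)
def n46990 : Q := act 6 n22597
theorem D46990 : act 6 n22597 = n46990 := rfl
theorem F74205 : act 2 n46990 = n22603 := d3_1 D46990 (iv6 D22603) (iv2 F35135)
theorem F74206 : act 3 n46990 = n32457 := d7_1 D46990 (iv6 D32457) (iv3 F35136)
def n46991 : Q := act 0 n22598
theorem D46991 : act 0 n22598 = n46991 := rfl
def n46992 : Q := act 1 n22598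
theorem D46992 : act 1 n22598 = n46992 := rfl
theorem F74207 : act 1 n46992 = n22607 := d15_1 D46992 (iv7 D22607) (iv2 F35137)
def n46993 : Q := act 5 n22598
theorem D46993 : act 5 n22598 = n46993 := rfl
theorem F74208 : act 2 n46993 = n22606 := d2_1 D46993 (iv5 D22606) (iv2 F35137)
def n46994 : Q := act 7 n22598
theorem D46994 : act 7 n22598 = n46994 := rfl
theorem F74209 : act 2 n46994 = n22607 := d4_1 D46994 (iv7 D22607) (iv2 F35137)
theorem F74210 : act 1 n22607 = n46991 := d15_0 (iv0 D46991) D46994 F74209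
theorem F74211 : act 1 n22605 = n46994 := d15_1 D22605 (iv7 D46994) F35137
theorem F74212 : act 1 n46994 = n22604 := d15_0 (iv0 D22604) D22607 (iv2 F74209)
def n46995 : Q := act 4 n22599
theorem D46995 : act 4 n22599 = n46995 := rfl
def n46996 : Q := act 6 n22599
theorem D46996 : act 6 n22599 = n46996 := rfl
theorem F74213 : act 3 n46996 = n44514 := d7_1 D46996 (iv6 D44514) (iv3 F35138)
def n46997 : Q := act 0 n22600
theorem D46997 : act 0 n22600 = n46997 := rfl
theorem F74214 : act 3 n46997 = n23156 := d20_5 (iv4 F66066) F66063 (iv4 F33417) (iv3 F35139) D46997 (iv4 D23156) (iv1 F17718) (iv4 F17734) F17733 (iv1 F36036)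
theorem F74215 : act 7 n23226 = n46997 := d8_0 F74214 F62810 D23226
def n46998 : Q := act 1 n22600
theorem D46998 : act 1 n22600 = n46998 := rfl
def n46999 : Q := act 5 n22600
theorem D46999 : act 5 n22600 = n46999 := rfl
theorem F74216 : act 3 n46999 = n44515 := d6_1 D46999 (iv5 D44515) (iv3 F35139)
def n47000 : Q := act 7 n22600
theorem D47000 : act 7 n22600 = n47000 := rfl
theorem F74217 : act 3 n47000 = n44516 := d8_1 D47000 (iv7 D44516) (iv3 F35139)
theorem F74218 : act 4 n47000 = n22607 := d11_1 D47000 (iv7 D22607) (iv4 F35140)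
theorem F74219 : act 0 n47000 = n23226 := d20_7 F14154 F62490 D9792 (iv3 F17663) F66082 (iv3 F35144) (iv4 F74218) (iv4 F63055) (iv3 D41017) (iv1 D19312)
theorem F74220 : act 1 n44989 = n23226 := d15_0 (iv0 F74219) (iv7 D47000) (iv2 F70742)
def n47001 : Q := act 3 n22601
theorem D47001 : act 3 n22601 = n47001 := rfl
theorem F74221 : act 2 n47001 = n39999 := d0_1 D47001 (iv3 D39999) F30193 (iv3 F54811) F54813
theorem F74222 : act 4 n47001 = n36143 := d5_2 (iv4 F54814) D47001 F56880 (iv4 F34580) (iv3 F54805)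
theorem F74223 : act 5 n47001 = n41626 := d6_2 F58716 D47001 (iv3 D41626)
theorem F74224 : act 5 n44711 = n46547 := d17_7 F61863 F72261 (iv1 D36140) D36143 (iv4 F74222) F74223 F70291 (iv0 F73550) (iv4 F60898)
theorem E8094 : n46549 = n41344 := (c6_3 F74224 (iv3 D46547) D46549 (iv3 F70290))
theorem F74225 : act 5 n41344 = n22311 := (sb E8094 (iv5 D46549))
theorem E8095 : n46546 = n41462 := (c2_2 F74225 D46546 (iv5 D41462) (iv2 F68967))
theorem F74226 : act 2 n41462 = n22311 := (sb E8095 (iv2 D46546))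
theorem F74227 : act 7 n41462 = n22312 := (sb E8095 (iv7 F73548))
theorem E8096 : n46551 = n38606 := (c13_3 (iv7 F68968) F74225 D46551 F72118)
theorem F74228 : act 2 n38606 = n22312 := (sb E8096 F73552)
theorem F74229 : act 7 n38606 = n22311 := (sb E8096 (iv7 D46551))
theorem F74230 : act 7 n46548 = n38889 := d11_2 F74229 D46548 (iv4 F59922)
theorem E8097 : n41462 = n38607 := (c15_4 F59424 F59423 F74229 (iv2 F74226))
theorem F74231 : act 2 n38607 = n22311 := (sb E8097 F74226)
theorem F74232 : act 5 n38607 = n19522 := (sb E8097 (iv5 D41462))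
theorem F74233 : act 7 n38607 = n22312 := (sb E8097 F74227)
theorem F74234 : act 7 n46553 = n38888 := d11_2 F74233 D46553 F59921
theorem E8098 : n46554 = n41345 := (c13_2 F74233 D46554 F68966 (iv5 F74232))
theorem F74235 : act 5 n41345 = n22312 := (sb E8098 (iv5 D46554))
theorem F74236 : act 5 n46552 = n43863 := d6_2 F74235 D46552 F68963
theorem F74237 : act 5 n39083 = n41461 := d18_9 F63908 (iv4 F61720) F72565 F72562 F74235 D46553 (iv0 F73553) F44707 D39083
theorem F74238 : act 5 n45431 = n38888 := d17_3 (iv1 D37247) (iv5 F34136) D45431 F59921 F74232 F31257 D40315 (iv0 F72917) F72919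
theorem F74239 : act 2 n46548 = n38888 := d1_3 F59921 F74231 D46548
theorem F74240 : act 2 n45431 = n44764 := d2_3 F73551 F74239 (iv5 F74238)
theorem F74241 : act 2 n46553 = n38889 := d4_3 (iv7 F74230) F74239 (iv7 F74234)
theorem F74242 : act 1 n46548 = n26320 := d15_0 F73554 F74234 (iv2 F74239)
theorem F74243 : act 7 n44763 = n45431 := d15_2 F70354 F70350 F74240
theorem F74244 : act 7 n45432 = n44764 := d15_2 (iv0 D45431) D45432 (iv2 F74240)
theorem F74245 : act 2 n44763 = n45432 := d4_3 F74244 (iv2 F74240) (iv7 F74243)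
theorem F74246 : act 5 n46553 = n44763 := d2_0 F74245 F72119 (iv2 F74241)
def n47002 : Q := act 6 n22601
theorem D47002 : act 6 n22601 = n47002 := rfl
def n47003 : Q := act 0 n22602
theorem D47003 : act 0 n22602 = n47003 := rfl
theorem F74247 : act 4 n47003 = n40592 := d18_3 (iv1 D22601) D22602 D47003 (iv5 D40592) F30800 (iv0 F31374) (iv4 D19602) D19600 F58716
def n47004 : Q := act 1 n22602
theorem D47004 : act 1 n22602 = n47004 := rfl
theorem F74248 : act 4 n46859 = n47004 := d20_6 F17247 (iv1 F13550) F13549 (iv3 F17231) D22510 D46859 (iv1 D47004) (iv4 D22602) F17242 D10717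
def n47005 : Q := act 5 n22602
theorem D47005 : act 5 n22602 = n47005 := rfl
theorem F74249 : act 3 n47005 = n38019 := d6_1 D47005 (iv5 D38019) (iv3 F35141)
def n47006 : Q := act 6 n22602
theorem D47006 : act 6 n22602 = n47006 := rfl
theorem F74251 : act 4 n47006 = n22603 := d10_1 D47006 (iv6 D22603) D22602
def n47007 : Q := act 0 n22603
theorem D47007 : act 0 n22603 = n47007 := rfl
def n47008 : Q := act 1 n22603
theorem D47008 : act 1 n22603 = n47008 := rfl
def n47009 : Q := act 5 n22603
theorem D47009 : act 5 n22603 = n47009 := rfl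
theorem F74252 : act 3 n47009 = n22616 := d6_1 D47009 (iv5 D22616) (iv3 F35142)
theorem F74253 : act 6 n47009 = n22606 := d12_2 D22603 D47009 (iv5 D22606) (iv6 D10715) D10714
def n47010 : Q := act 7 n22603
theorem D47010 : act 7 n22603 = n47010 := rfl
theorem F74254 : act 3 n47010 = n22617 := d8_1 D47010 (iv7 D22617) (iv3 F35142)
def n47011 : Q := act 2 n22604
theorem D47011 : act 2 n22604 = n47011 := rfl
theorem F74255 : act 7 n22605 = n47011 := d15_2 (iv0 D22604) D22605 (iv2 D47011)
def n47012 : Q := act 3 n22604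
theorem D47012 : act 3 n22604 = n47012 := rfl
def n47013 : Q := act 4 n22604
theorem D47013 : act 4 n22604 = n47013 := rfl
def n47014 : Q := act 5 n22604
theorem D47014 : act 5 n22604 = n47014 := rfl
def n47015 : Q := act 6 n22604
theorem D47015 : act 6 n22604 = n47015 := rfl
def n47016 : Q := act 7 n22604
theorem D47016 : act 7 n22604 = n47016 := rfl
theorem F74256 : act 2 n47016 = n22605 := d4_1 D47016 F74255 (iv2 D47011)
def n47017 : Q := act 3 n22605
theorem D47017 : act 3 n22605 = n47017 := rfl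
def n47018 : Q := act 4 n22605
theorem D47018 : act 4 n22605 = n47018 := rfl
def n47019 : Q := act 5 n22605
theorem D47019 : act 5 n22605 = n47019 := rfl
def n47020 : Q := act 6 n22605
theorem D47020 : act 6 n22605 = n47020 := rfl
def n47021 : Q := act 0 n22606
theorem D47021 : act 0 n22606 = n47021 := rfl
def n47022 : Q := act 1 n22606
theorem D47022 : act 1 n22606 = n47022 := rfl
def n47023 : Q := act 4 n22606
theorem D47023 : act 4 n22606 = n47023 := rfl
def n47024 : Q := act 7 n22606
theorem D47024 : act 7 n22606 = n47024 := rfl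
theorem F74257 : act 3 n47024 = n22631 := d8_1 D47024 (iv7 D22631) (iv3 F35143)
theorem F74258 : act 5 n47024 = n22607 := d13_1 D47024 (iv7 D22607) D22606
def n47025 : Q := act 5 n22608
theorem D47025 : act 5 n22608 = n47025 := rfl
theorem F74259 : act 2 n47025 = n40870 := d2_1 D47025 (iv5 D40870) (iv2 F66057)
theorem F74260 : act 3 n47025 = n42474 := d6_1 D47025 (iv5 D42474) (iv3 F66039)
theorem F74261 : act 7 n47025 = n40874 := d13_2 (iv7 F66058) D47025 (iv5 D40874)
theorem F74262 : act 0 n47025 = n42520 := d17_2 D22608 D47025 F66362 F64397 D41757 (iv0 F66129) (iv5 D22438) F66059 (iv4 F17245)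
theorem F74263 : act 1 n47025 = n42519 := d15_0 (iv0 D42519) (iv7 F66075) (iv2 F74259)
def n47026 : Q := act 0 n22610
theorem D47026 : act 0 n22610 = n47026 := rfl
theorem F74264 : act 4 n47026 = n46449 := d18_1 D47026 (iv1 F73340) F35021 F17220 (iv4 F17214) F34709 (iv4 F66040) (iv0 D22608) D22610
theorem F74265 : act 6 n47026 = n43512 := d21_5 (iv5 D9492) (iv1 F17516) D16721 (iv6 F35147) D47026 (iv5 D43512) F62951 D22653 F35221 F27459
theorem F74266 : act 2 n40876 = n47026 := d15_3 (iv0 D47026) (iv0 F62935) (iv7 F63053)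
theorem F74268 : act 7 n47026 = n40877 := d4_2 (iv7 F63053) F74266 F72968
theorem F74269 : act 1 n40879 = n47026 := d15_1 (iv0 F62934) F74268 F72968
def n47027 : Q := act 7 n22610
theorem D47027 : act 7 n22610 = n47027 := rfl
theorem F74271 : act 5 n47027 = n22611 := d13_1 D47027 (iv7 D22611) D22610
theorem F74272 : act 1 n40877 = n47027 := d15_1 D40877 (iv7 D47027) F35146
theorem F74273 : act 1 n47027 = n40876 := d15_1 F74272 F63053 (iv2 F72968)
def n47028 : Q := act 0 n22612
theorem D47028 : act 0 n22612 = n47028 := rfl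
theorem F74274 : act 4 n47028 = n45052 := d18_1 D47028 (iv1 D45052) F33833 D37513 (iv4 F61720) F72604 F72602 (iv0 D41344) (iv5 F35153)
theorem F74275 : act 1 n41081 = n47028 := d15_0 (iv0 D47028) F35154 (iv2 F62324)
def n47029 : Q := act 1 n22612
theorem D47029 : act 1 n22612 = n47029 := rfl
theorem F74276 : act 1 n47029 = n41081 := d15_1 D47029 F62326 F61373
theorem F74277 : act 4 n47029 = n45051 := d17_9 (iv1 F70913) F51984 (iv1 F70354) F73551 (iv4 D46548) (iv5 F74225) (iv0 D41344) (iv5 F35153) D47029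
def n47030 : Q := act 4 n22612
theorem D47030 : act 4 n22612 = n47030 := rfl
theorem F74278 : act 3 n47030 = n34579 := d5_1 D47030 (iv4 D34579) F27535 (iv4 F17247) D22612
theorem F74279 : act 7 n47030 = n41467 := d11_2 (iv7 F35154) D47030 (iv4 D41467)
def n47031 : Q := act 6 n22612
theorem D47031 : act 6 n22612 = n47031 := rfl
theorem F74280 : act 3 n47031 = n22613 := d7_1 D47031 (iv6 D22613) D22612
def n47032 : Q := act 0 n22613
theorem D47032 : act 0 n22613 = n47032 := rfl
def n47033 : Q := act 1 n22613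
theorem D47033 : act 1 n22613 = n47033 := rfl
theorem F74281 : act 1 n47033 = n41724 := d15_1 D47033 F64359 (iv2 F35155)
def n47034 : Q := act 5 n22613
theorem D47034 : act 5 n22613 = n47034 := rfl
theorem F74282 : act 2 n47034 = n41727 := d2_1 D47034 (iv5 D41727) (iv2 F35155)
theorem F74283 : act 6 n47034 = n41349 := d12_2 D22613 D47034 (iv5 D41349) (iv6 D19469) (iv5 F17246)
def n47035 : Q := act 7 n22613
theorem D47035 : act 7 n22613 = n47035 := rfl
theorem F74284 : act 2 n47035 = n41724 := d4_1 D47035 F64359 (iv2 F35155)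
theorem F74285 : act 4 n47035 = n34588 := d11_1 D47035 (iv7 D34588) (iv4 F35156)
theorem F74286 : act 6 n47035 = n41476 := d14_1 D47035 (iv7 D41476) (iv6 D19526) (iv7 F17250) D22613
theorem F74287 : act 1 n41724 = n47032 := d15_0 (iv0 D47032) D47035 F74284
theorem F74288 : act 1 n41726 = n47035 := d15_1 D41726 (iv7 D47035) F35155
theorem F74289 : act 1 n47035 = n41725 := d15_0 (iv0 D41725) (iv7 F64359) (iv2 F74284)
def n47036 : Q := act 2 n22614
theorem D47036 : act 2 n22614 = n47036 := rfl
theorem F74290 : act 7 n22615 = n47036 := d15_2 (iv0 D22614) D22615 (iv2 D47036)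
def n47037 : Q := act 3 n22614
theorem D47037 : act 3 n22614 = n47037 := rfl
def n47038 : Q := act 4 n22614
theorem D47038 : act 4 n22614 = n47038 := rfl
def n47039 : Q := act 5 n22614
theorem D47039 : act 5 n22614 = n47039 := rfl
def n47040 : Q := act 6 n22614
theorem D47040 : act 6 n22614 = n47040 := rfl
def n47041 : Q := act 7 n22614
theorem D47041 : act 7 n22614 = n47041 := rfl
theorem F74291 : act 2 n47041 = n22615 := d4_1 D47041 F74290 (iv2 D47036)
def n47042 : Q := act 3 n22615
theorem D47042 : act 3 n22615 = n47042 := rfl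
def n47043 : Q := act 4 n22615
theorem D47043 : act 4 n22615 = n47043 := rfl
def n47044 : Q := act 5 n22615
theorem D47044 : act 5 n22615 = n47044 := rfl
def n47045 : Q := act 6 n22615
theorem D47045 : act 6 n22615 = n47045 := rfl
def n47046 : Q := act 0 n22616
theorem D47046 : act 0 n22616 = n47046 := rfl
def n47047 : Q := act 1 n22616
theorem D47047 : act 1 n22616 = n47047 := rfl
def n47048 : Q := act 4 n22616
theorem D47048 : act 4 n22616 = n47048 := rfl
theorem F74292 : act 6 n47048 = n22630 := d10_2 (iv6 F35157) D47048 (iv4 D22630)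
def n47049 : Q := act 7 n22616
theorem D47049 : act 7 n22616 = n47049 := rfl
theorem F74293 : act 5 n47049 = n22617 := d13_1 D47049 (iv7 D22617) D22616
def n47050 : Q := act 3 n22628
theorem D47050 : act 3 n22628 = n47050 := rfl
def n47051 : Q := act 6 n22628
theorem D47051 : act 6 n22628 = n47051 := rfl
def n47053 : Q := act 0 n22630
theorem D47053 : act 0 n22630 = n47053 := rfl
def n47054 : Q := act 1 n22630
theorem D47054 : act 1 n22630 = n47054 := rfl
theorem F74295 : act 4 n47054 = n46440 := d18_7 (iv1 F65667) (iv4 D20074) F66041 F17245 D10721 D22630 D47054 F73302 F34965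
theorem F74296 : act 2 n46765 = n47054 := d1_3 F74295 F73304 D46765
theorem F74297 : act 7 n46761 = n47054 := d11_0 F74295 (iv7 F73314) D46761
theorem F74298 : act 2 n46761 = n47053 := d15_3 (iv0 D47053) D47054 (iv7 F74297)
theorem F74299 : act 4 n47053 = n46439 := d1_2 D46761 F74298 F73313
theorem F74300 : act 7 n47053 = n46765 := d4_2 (iv7 F74297) F74298 F74296
theorem F74301 : act 1 n46761 = n46498 := d15_0 (iv0 F73882) (iv7 F74300) (iv2 F74298)
def n47055 : Q := act 3 n22630
theorem D47055 : act 3 n22630 = n47055 := rfl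
def n47056 : Q := act 5 n22630
theorem D47056 : act 5 n22630 = n47056 := rfl
def n47057 : Q := act 7 n22630
theorem D47057 : act 7 n22630 = n47057 := rfl
theorem F74302 : act 4 n47057 = n22631 := d11_1 D47057 (iv7 D22631) D22630
theorem F74303 : act 1 n46765 = n47057 := d15_1 (iv0 F73882) (iv7 D47057) (iv2 F73461)
theorem F74304 : act 1 n47057 = n46761 := d15_1 F74303 F74297 (iv2 F74296)
def n47058 : Q := act 6 n22631
theorem D47058 : act 6 n22631 = n47058 := rfl
def n47059 : Q := act 6 n22633
theorem D47059 : act 6 n22633 = n47059 := rfl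
theorem F74305 : act 3 n47059 = n22634 := d7_1 D47059 (iv6 D22634) D22633
def n47060 : Q := act 0 n22634
theorem D47060 : act 0 n22634 = n47060 := rfl
def n47061 : Q := act 1 n22634
theorem D47061 : act 1 n22634 = n47061 := rfl
def n47062 : Q := act 5 n22634
theorem D47062 : act 5 n22634 = n47062 := rfl
def n47063 : Q := act 7 n22634
theorem D47063 : act 7 n22634 = n47063 := rfl
def n47064 : Q := act 4 n22636
theorem D47064 : act 4 n22636 = n47064 := rfl
theorem F74306 : act 2 n47064 = n41069 := d1_1 D47064 (iv4 D41069) (iv2 F44844)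
theorem F74307 : act 3 n47064 = n41066 := d5_1 D47064 (iv4 D41066) F34769 (iv4 F34768) D22636
theorem F74308 : act 7 n47064 = n41066 := d11_2 (iv7 F44842) D47064 (iv4 D41066)
theorem F74309 : act 0 n47064 = n34938 := d17_0 (iv5 D34938) F54157 (iv5 F69243) F69245 F64302 (iv0 D37566) F30970 F35164 D47064
theorem F74310 : act 1 n47064 = n43398 := d18_8 (iv1 F55295) (iv4 F55297) F54123 D32507 (iv5 F51580) F32574 F35164 D47064 F68205
theorem F74311 : act 5 n47064 = n25514 := d21_2 (iv5 F68205) (iv1 F74310) (iv6 D25514) (iv1 D12127) F8854 D5784 D12207 F40556 D26703 F54158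
def n47065 : Q := act 5 n22636
theorem D47065 : act 5 n22636 = n47065 := rfl
theorem F74312 : act 2 n47065 = n37480 := d2_1 D47065 F62305 (iv2 F44844)
theorem F74313 : act 3 n47065 = n22637 := d6_1 D47065 (iv5 D22637) D22636
theorem F74314 : act 7 n47065 = n37481 := d13_2 (iv7 F44842) D47065 F58369
theorem F74315 : act 0 n47065 = n27235 := d17_2 F35163 D47065 (iv5 F64297) F64296 (iv5 F50659) F50656 (iv5 D20499) (iv0 F32540) F32538
theorem F74316 : act 4 n47065 = n28632 := d19_2 F35163 D47065 (iv3 D28632) (iv1 F46054) F46051 (iv4 D16280) (iv3 F21961) (iv1 F43031) (iv5 D26774) F21854 F21851 F14097 F13325 (iv4 D4012) D4011 D8987 (iv5 F16196) F16197 D10735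
theorem F74317 : act 1 n47065 = n22688 := d15_1 (iv0 F74315) F35262 (iv2 F44055)
def n47066 : Q := act 6 n22636
theorem D47066 : act 6 n22636 = n47066 := rfl
theorem F74318 : act 2 n47066 = n41070 := d3_1 D47066 (iv6 D41070) (iv2 F44844)
theorem F74319 : act 3 n47066 = n22638 := d7_1 D47066 (iv6 D22638) D22636
def n47067 : Q := act 6 n22637
theorem D47067 : act 6 n22637 = n47067 := rfl
def n47068 : Q := act 0 n22638
theorem D47068 : act 0 n22638 = n47068 := rfl
def n47069 : Q := act 1 n22638
theorem D47069 : act 1 n22638 = n47069 := rfl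
def n47070 : Q := act 5 n22638
theorem D47070 : act 5 n22638 = n47070 := rfl
def n47071 : Q := act 7 n22638
theorem D47071 : act 7 n22638 = n47071 := rfl
def n47072 : Q := act 6 n22639
theorem D47072 : act 6 n22639 = n47072 := rfl
theorem F74320 : act 2 n47072 = n22643 := d3_1 D47072 (iv6 D22643) (iv2 F35166)
theorem F74321 : act 3 n47072 = n41000 := d7_1 D47072 (iv6 D41000) (iv3 F35168)
theorem F74322 : act 4 n47072 = n22640 := d10_1 D47072 (iv6 D22640) D22639
def n47073 : Q := act 0 n22640
theorem D47073 : act 0 n22640 = n47073 := rfl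
def n47074 : Q := act 1 n22640
theorem D47074 : act 1 n22640 = n47074 := rfl
theorem F74323 : act 1 n47074 = n22650 := d15_1 D47074 (iv7 D22650) (iv2 F35172)
def n47075 : Q := act 5 n22640
theorem D47075 : act 5 n22640 = n47075 := rfl
theorem F74324 : act 2 n47075 = n22649 := d2_1 D47075 (iv5 D22649) (iv2 F35172)
def n47076 : Q := act 7 n22640
theorem D47076 : act 7 n22640 = n47076 := rfl
theorem F74325 : act 2 n47076 = n22650 := d4_1 D47076 (iv7 D22650) (iv2 F35172)
theorem F74326 : act 1 n22650 = n47073 := d15_0 (iv0 D47073) D47076 F74325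
theorem F74327 : act 1 n22648 = n47076 := d15_1 D22648 (iv7 D47076) F35172
theorem F74328 : act 1 n47076 = n22647 := d15_0 (iv0 D22647) D22650 (iv2 F74325)
def n47077 : Q := act 6 n22641
theorem D47077 : act 6 n22641 = n47077 := rfl
theorem F74329 : act 2 n47077 = n40891 := d3_1 D47077 (iv6 D40891) (iv2 F35176)
theorem F74330 : act 4 n47077 = n32485 := d10_1 D47077 (iv6 D32485) F35175
def n47078 : Q := act 6 n22642
theorem D47078 : act 6 n22642 = n47078 := rfl
theorem F74331 : act 2 n47078 = n32769 := d3_1 D47078 (iv6 D32769) (iv2 F35177)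
theorem F74332 : act 3 n47078 = n23319 := d7_1 D47078 (iv6 D23319) (iv3 F35178)
theorem F74333 : act 4 n47078 = n32454 := d10_1 D47078 (iv6 D32454) (iv4 F35180)
def n47079 : Q := act 1 n22643
theorem D47079 : act 1 n22643 = n47079 := rfl
def n47080 : Q := act 5 n22643
theorem D47080 : act 5 n22643 = n47080 := rfl
theorem F74334 : act 3 n47080 = n23322 := d6_1 D47080 (iv5 D23322) (iv3 F35206)
def n47081 : Q := act 3 n22644
theorem D47081 : act 3 n22644 = n47081 := rfl
theorem F74335 : act 4 n47081 = n33366 := d5_2 (iv4 F35208) D47081 (iv3 D33366) (iv4 D16111) (iv3 F25621)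
theorem F74336 : act 5 n47081 = n41647 := d6_2 F35211 D47081 (iv3 D41647)
theorem F74337 : act 7 n47081 = n33507 := d8_2 F35210 D47081 (iv3 D33507)
def n47082 : Q := act 6 n22644
theorem D47082 : act 6 n22644 = n47082 := rfl
theorem F74338 : act 4 n47082 = n33360 := d10_1 D47082 (iv6 D33360) (iv4 F35208)
def n47083 : Q := act 6 n22645
theorem D47083 : act 6 n22645 = n47083 := rfl
theorem F74339 : act 2 n47083 = n33509 := d3_1 D47083 (iv6 D33509) F35215
theorem F74340 : act 4 n47083 = n33505 := d10_1 D47083 (iv6 D33505) (iv4 F35213)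
def n47084 : Q := act 0 n22646
theorem D47084 : act 0 n22646 = n47084 := rfl
def n47085 : Q := act 1 n22646
theorem D47085 : act 1 n22646 = n47085 := rfl
def n47086 : Q := act 5 n22646
theorem D47086 : act 5 n22646 = n47086 := rfl
theorem F74341 : act 3 n47086 = n22657 := d6_1 D47086 (iv5 D22657) (iv3 F35216)
theorem F74342 : act 6 n47086 = n22649 := d12_2 D22646 D47086 (iv5 D22649) (iv6 D10728) D10727
def n47087 : Q := act 7 n22646
theorem D47087 : act 7 n22646 = n47087 := rfl
theorem F74343 : act 3 n47087 = n22658 := d8_1 D47087 (iv7 D22658) (iv3 F35216)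
theorem F74344 : act 4 n47087 = n32444 := d11_1 D47087 (iv7 D32444) (iv4 F35217)
def n47088 : Q := act 2 n22647
theorem D47088 : act 2 n22647 = n47088 := rfl
theorem F74345 : act 7 n22648 = n47088 := d15_2 (iv0 D22647) D22648 (iv2 D47088)
def n47089 : Q := act 3 n22647
theorem D47089 : act 3 n22647 = n47089 := rfl
def n47090 : Q := act 4 n22647
theorem D47090 : act 4 n22647 = n47090 := rfl
def n47091 : Q := act 5 n22647
theorem D47091 : act 5 n22647 = n47091 := rfl
def n47092 : Q := act 6 n22647
theorem D47092 : act 6 n22647 = n47092 := rfl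
def n47093 : Q := act 7 n22647
theorem D47093 : act 7 n22647 = n47093 := rfl
def n47094 : Q := act 3 n22648
theorem D47094 : act 3 n22648 = n47094 := rfl
def n47095 : Q := act 4 n22648
theorem D47095 : act 4 n22648 = n47095 := rfl
def n47096 : Q := act 5 n22648
theorem D47096 : act 5 n22648 = n47096 := rfl
def n47097 : Q := act 6 n22648
theorem D47097 : act 6 n22648 = n47097 := rfl
def n47098 : Q := act 0 n22649
theorem D47098 : act 0 n22649 = n47098 := rfl
def n47099 : Q := act 1 n22649
theorem D47099 : act 1 n22649 = n47099 := rfl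
def n47100 : Q := act 4 n22649
theorem D47100 : act 4 n22649 = n47100 := rfl
def n47101 : Q := act 7 n22649
theorem D47101 : act 7 n22649 = n47101 := rfl
theorem F74347 : act 3 n47101 = n22672 := d8_1 D47101 (iv7 D22672) (iv3 F35218)
theorem F74348 : act 5 n47101 = n22650 := d13_1 D47101 (iv7 D22650) D22649
def n47102 : Q := act 2 n22655
theorem D47102 : act 2 n22655 = n47102 := rfl
theorem F74349 : act 7 n22656 = n47102 := d15_2 (iv0 D22655) D22656 (iv2 D47102)
def n47103 : Q := act 3 n22655
theorem D47103 : act 3 n22655 = n47103 := rfl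
def n47104 : Q := act 4 n22655
theorem D47104 : act 4 n22655 = n47104 := rfl
def n47105 : Q := act 5 n22655
theorem D47105 : act 5 n22655 = n47105 := rfl
def n47106 : Q := act 6 n22655
theorem D47106 : act 6 n22655 = n47106 := rfl
def n47107 : Q := act 7 n22655
theorem D47107 : act 7 n22655 = n47107 := rfl
theorem F74350 : act 2 n47107 = n22656 := d4_1 D47107 F74349 (iv2 D47102)
def n47108 : Q := act 3 n22656
theorem D47108 : act 3 n22656 = n47108 := rfl
def n47109 : Q := act 4 n22656
theorem D47109 : act 4 n22656 = n47109 := rfl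
def n47110 : Q := act 5 n22656
theorem D47110 : act 5 n22656 = n47110 := rfl
def n47111 : Q := act 6 n22656
theorem D47111 : act 6 n22656 = n47111 := rfl
def n47112 : Q := act 0 n22657
theorem D47112 : act 0 n22657 = n47112 := rfl
def n47113 : Q := act 1 n22657
theorem D47113 : act 1 n22657 = n47113 := rfl
def n47114 : Q := act 4 n22657
theorem D47114 : act 4 n22657 = n47114 := rfl
theorem F74351 : act 6 n47114 = n22671 := d10_2 (iv6 F35225) D47114 (iv4 D22671)
def n47115 : Q := act 7 n22657
theorem D47115 : act 7 n22657 = n47115 := rfl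
theorem F74352 : act 5 n47115 = n22658 := d13_1 D47115 (iv7 D22658) D22657
def n47116 : Q := act 6 n22669
theorem D47116 : act 6 n22669 = n47116 := rfl
def n47117 : Q := act 3 n22670
theorem D47117 : act 3 n22670 = n47117 := rfl
theorem F74353 : act 5 n47117 = n46114 := d6_2 F66312 D47117 F72694
def n47118 : Q := act 6 n22670
theorem D47118 : act 6 n22670 = n47118 := rfl
theorem F74354 : act 5 n47118 = n46116 := d12_1 D47118 (iv6 D46116) (iv5 D22038) D22039 F66312
def n47119 : Q := act 0 n22671
theorem D47119 : act 0 n22671 = n47119 := rfl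
def n47120 : Q := act 1 n22671
theorem D47120 : act 1 n22671 = n47120 := rfl
theorem F74355 : act 4 n47120 = n46471 := d18_7 (iv1 F34739) (iv4 F62953) F62951 F17257 D10733 D22671 D47120 F73380 F35084
theorem F74356 : act 2 n46917 = n47120 := d1_3 F74355 F73382 D46917
theorem F74357 : act 7 n46913 = n47120 := d11_0 F74355 (iv7 F73395) D46913
theorem F74358 : act 2 n46913 = n47119 := d15_3 (iv0 D47119) D47120 (iv7 F74357)
theorem F74359 : act 4 n47119 = n46470 := d1_2 D46913 F74358 F73394
theorem F74360 : act 7 n47119 = n46917 := d4_2 (iv7 F74357) F74358 F74356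
theorem F74361 : act 1 n46913 = n46517 := d15_0 (iv0 F74128) (iv7 F74360) (iv2 F74358)
def n47121 : Q := act 3 n22671
theorem D47121 : act 3 n22671 = n47121 := rfl
def n47122 : Q := act 5 n22671
theorem D47122 : act 5 n22671 = n47122 := rfl
def n47123 : Q := act 7 n22671
theorem D47123 : act 7 n22671 = n47123 := rfl
theorem F74362 : act 4 n47123 = n22672 := d11_1 D47123 (iv7 D22672) D22671
theorem F74363 : act 1 n46917 = n47123 := d15_1 (iv0 F74128) (iv7 D47123) (iv2 F73503)
theorem F74364 : act 1 n47123 = n46913 := d15_1 F74363 F74357 (iv2 F74356)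
def n47124 : Q := act 6 n22672
theorem D47124 : act 6 n22672 = n47124 := rfl
def n47125 : Q := act 5 n22673
theorem D47125 : act 5 n22673 = n47125 := rfl
theorem F74365 : act 2 n47125 = n37481 := d2_1 D47125 F58369 F44843
theorem F74366 : act 7 n47125 = n37480 := d13_2 F44845 D47125 F62305
theorem F74367 : act 0 n47125 = n22688 := d17_2 (iv1 F35233) D47125 F35261 (iv4 F31709) (iv5 F50402) (iv0 D32028) (iv5 F31815) F32573 F32574
theorem F74368 : act 0 n27235 = n47125 := d19_0 (iv5 D47125) (iv4 F65135) (iv3 D42196) (iv1 F31748) D19924 (iv4 F31860) (iv3 D20023) F14670 F14665 (iv4 F6926) F6925 (iv1 F3234) (iv5 D1935) D1934 (iv3 F3228) (iv1 F4200) D6210 D13048 D27235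
def n47126 : Q := act 6 n22673
theorem D47126 : act 6 n22673 = n47126 := rfl
theorem F74369 : act 2 n47126 = n41067 := d3_1 D47126 (iv6 D41067) F44843
def n47127 : Q := act 6 n22674
theorem D47127 : act 6 n22674 = n47127 := rfl
theorem F74370 : act 2 n47127 = n22676 := d3_1 D47127 (iv6 D22676) D22674
theorem F74371 : act 3 n47127 = n41104 := d7_1 D47127 (iv6 D41104) (iv3 F35229)
theorem F74372 : act 4 n47127 = n42346 := d10_1 D47127 (iv6 D42346) (iv4 F35230)
def n47128 : Q := act 4 n22675
theorem D47128 : act 4 n22675 = n47128 := rfl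
theorem F74373 : act 7 n47128 = n41075 := d11_2 (iv7 F35236) D47128 (iv4 D41075)
theorem F74374 : act 0 n47128 = n46715 := d18_2 (iv1 F58450) D47128 (iv4 D46715) F34954 F31288 (iv0 F32382) F32380 D41675 F64302
def n47129 : Q := act 6 n22675
theorem D47129 : act 6 n22675 = n47129 := rfl
theorem F74375 : act 3 n47129 = n22678 := d7_1 D47129 (iv6 D22678) (iv3 F35235)
def n47130 : Q := act 0 n22676
theorem D47130 : act 0 n22676 = n47130 := rfl
def n47131 : Q := act 1 n22676
theorem D47131 : act 1 n22676 = n47131 := rfl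
def n47132 : Q := act 5 n22676
theorem D47132 : act 5 n22676 = n47132 := rfl
theorem F74376 : act 3 n47132 = n22681 := d6_1 D47132 (iv5 D22681) (iv3 F35237)
def n47133 : Q := act 6 n22677
theorem D47133 : act 6 n22677 = n47133 := rfl
theorem F74377 : act 2 n47133 = n40068 := d3_1 D47133 (iv6 D40068) (iv2 F35238)
theorem F74378 : act 4 n47133 = n22678 := d10_1 D47133 (iv6 D22678) D22677
def n47134 : Q := act 0 n22678
theorem D47134 : act 0 n22678 = n47134 := rfl
def n47135 : Q := act 1 n22678
theorem D47135 : act 1 n22678 = n47135 := rfl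
theorem F74379 : act 1 n47135 = n41112 := d15_1 D47135 (iv7 D41112) (iv2 F35241)
def n47136 : Q := act 5 n22678
theorem D47136 : act 5 n22678 = n47136 := rfl
theorem F74380 : act 2 n47136 = n41111 := d2_1 D47136 (iv5 D41111) (iv2 F35241)
theorem F74381 : act 6 n47136 = n22681 := d12_2 D22678 D47136 (iv5 D22681) (iv6 D10737) D10736
def n47137 : Q := act 7 n22678
theorem D47137 : act 7 n22678 = n47137 := rfl
theorem F74382 : act 2 n47137 = n41112 := d4_1 D47137 (iv7 D41112) (iv2 F35241)
theorem F74383 : act 6 n47137 = n41086 := d14_1 D47137 (iv7 D41086) (iv6 D19336) (iv7 F17260) D22678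
theorem F74384 : act 1 n41112 = n47134 := d15_0 (iv0 D47134) D47137 F74382
theorem F74385 : act 1 n41110 = n47137 := d15_1 D41110 (iv7 D47137) F35241
theorem F74386 : act 1 n47137 = n41109 := d15_0 (iv0 D41109) D41112 (iv2 F74382)
def n47138 : Q := act 0 n22681
theorem D47138 : act 0 n22681 = n47138 := rfl
theorem F74387 : act 2 n41123 = n47138 := d15_3 (iv0 D47138) (iv0 F69152) F69150
theorem F74388 : act 1 n41126 = n47138 := d15_0 (iv0 D47138) (iv7 F68618) F68617
theorem F74389 : act 7 n47138 = n41124 := d15_2 F69151 F74388 (iv2 F69148)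
def n47139 : Q := act 4 n22681
theorem D47139 : act 4 n22681 = n47139 := rfl
theorem F74390 : act 2 n47139 = n41125 := d1_1 D47139 (iv4 D41125) (iv2 F35243)
def n47140 : Q := act 0 n22683
theorem D47140 : act 0 n22683 = n47140 := rfl
def n47141 : Q := act 1 n22683
theorem D47141 : act 1 n22683 = n47141 := rfl
theorem F74391 : act 1 n47141 = n22697 := d15_1 D47141 (iv7 D22697) (iv2 F35249)
def n47142 : Q := act 5 n22683
theorem D47142 : act 5 n22683 = n47142 := rfl
theorem F74392 : act 2 n47142 = n22696 := d2_1 D47142 (iv5 D22696) (iv2 F35249)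
theorem F74393 : act 6 n47142 = n22686 := d12_2 D22683 D47142 (iv5 D22686) (iv6 D10739) D10738
def n47143 : Q := act 7 n22683
theorem D47143 : act 7 n22683 = n47143 := rfl
theorem F74394 : act 2 n47143 = n22697 := d4_1 D47143 (iv7 D22697) (iv2 F35249)
theorem F74395 : act 4 n47143 = n40153 := d11_1 D47143 (iv7 D40153) (iv4 F35250)
theorem F74396 : act 6 n47143 = n40852 := d14_1 D47143 (iv7 D40852) (iv6 D19255) (iv7 F17264) D22683
theorem F74397 : act 1 n22697 = n47140 := d15_0 (iv0 D47140) D47143 F74394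
theorem F74398 : act 1 n22695 = n47143 := d15_1 D22695 (iv7 D47143) F35249
theorem F74399 : act 1 n47143 = n22694 := d15_0 (iv0 D22694) D22697 (iv2 F74394)
def n47144 : Q := act 3 n22684
theorem D47144 : act 3 n22684 = n47144 := rfl
theorem F74400 : act 4 n47144 = n22910 := d5_2 F35258 D47144 (iv3 D22910) (iv4 D10820) D10819
theorem F74401 : act 7 n47144 = n22704 := d8_2 (iv7 F66810) D47144 (iv3 D22704)
def n47145 : Q := act 5 n22684
theorem D47145 : act 5 n22684 = n47145 := rfl
theorem F74402 : act 2 n47145 = n22701 := d2_1 D47145 (iv5 D22701) (iv2 F66809)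
theorem F74403 : act 7 n47145 = n22705 := d13_2 (iv7 F66810) D47145 (iv5 D22705)
theorem F74404 : act 0 n47145 = n44001 := d17_2 D22684 D47145 (iv5 D44001) F33033 (iv5 F32001) F66138 (iv5 D23366) (iv0 D10973) (iv4 F17269)
def n47146 : Q := act 3 n22685
theorem D47146 : act 3 n22685 = n47146 := rfl
theorem F74405 : act 4 n47146 = n42294 := d5_2 (iv4 F68872) D47146 (iv3 D42294) (iv4 F66845) F68873
theorem F74406 : act 7 n47146 = n22699 := d8_2 (iv7 F66863) D47146 (iv3 D22699)
def n47147 : Q := act 5 n22685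
theorem D47147 : act 5 n22685 = n47147 := rfl
theorem F74407 : act 2 n47147 = n22705 := d2_1 D47147 (iv5 D22705) (iv2 F66862)
theorem F74408 : act 7 n47147 = n22701 := d13_2 (iv7 F66863) D47147 (iv5 D22701)
theorem F74409 : act 1 n47147 = n44001 := d15_0 (iv0 F74404) F74403 (iv2 F74407)
def n47148 : Q := act 0 n22686
theorem D47148 : act 0 n22686 = n47148 := rfl
def n47149 : Q := act 1 n22686
theorem D47149 : act 1 n22686 = n47149 := rfl
theorem F74410 : act 1 n47149 = n22710 := d15_1 D47149 (iv7 D22710) (iv2 F35252)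
theorem F74411 : act 5 n47149 = n40385 := d17_7 F66190 F36496 (iv1 D23373) (iv5 D10975) (iv4 F17269) D22686 D47149 (iv0 F69217) F69215
theorem F74412 : act 2 n22708 = n47149 := d2_3 F74411 (iv2 F64435) F64437
theorem F74413 : act 7 n22707 = n47149 := d13_0 F74411 F72339 F72338
theorem F74414 : act 2 n22707 = n47148 := d15_3 (iv0 D47148) D47149 (iv7 F74413)
theorem F74415 : act 7 n47148 = n22708 := d4_2 (iv7 F74413) F74414 F74412
theorem F74416 : act 1 n22710 = n47148 := d15_1 F74410 F74415 F74412
def n47150 : Q := act 4 n22686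
theorem D47150 : act 4 n22686 = n47150 := rfl
theorem F74417 : act 2 n47150 = n22709 := d1_1 D47150 (iv4 D22709) (iv2 F35252)
def n47151 : Q := act 7 n22686
theorem D47151 : act 7 n22686 = n47151 := rfl
theorem F74418 : act 2 n47151 = n22710 := d4_1 D47151 (iv7 D22710) (iv2 F35252)
theorem F74419 : act 5 n47151 = n22687 := d13_1 D47151 (iv7 D22687) D22686
theorem F74420 : act 1 n22708 = n47151 := d15_1 D22708 (iv7 D47151) F35252
theorem F74421 : act 1 n47151 = n22707 := d15_1 F74420 F74413 (iv2 F74412)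
def n47152 : Q := act 4 n22688
theorem D47152 : act 4 n22688 = n47152 := rfl
theorem F74422 : act 2 n47152 = n37472 := d1_1 D47152 F58357 (iv2 F35260)
theorem F74423 : act 7 n47152 = n41127 := d11_2 (iv7 F35262) D47152 (iv4 D41127)
theorem F74424 : act 0 n47152 = n46051 := d18_2 F74367 D47152 (iv4 D46051) F34498 F17194 (iv0 F32540) F32538 D22673 D47125
def n47153 : Q := act 6 n22688
theorem D47153 : act 6 n22688 = n47153 := rfl
theorem F74425 : act 2 n47153 = n37483 := d3_1 D47153 (iv6 D37483) (iv2 F35260)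
theorem F74426 : act 3 n47153 = n22689 := d7_1 D47153 (iv6 D22689) D22688
def n47154 : Q := act 0 n22689
theorem D47154 : act 0 n22689 = n47154 := rfl
def n47155 : Q := act 1 n22689
theorem D47155 : act 1 n22689 = n47155 := rfl
theorem F74427 : act 1 n47155 = n41136 := d15_1 D47155 (iv7 D41136) (iv2 F35263)
def n47156 : Q := act 5 n22689
theorem D47156 : act 5 n22689 = n47156 := rfl
theorem F74428 : act 2 n47156 = n41135 := d2_1 D47156 (iv5 D41135) (iv2 F35263)
theorem F74429 : act 6 n47156 = n40373 := d12_2 D22689 D47156 (iv5 D40373) (iv6 D19079) (iv5 F17270)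
def n47157 : Q := act 7 n22689
theorem D47157 : act 7 n22689 = n47157 := rfl
theorem F74430 : act 2 n47157 = n41136 := d4_1 D47157 (iv7 D41136) (iv2 F35263)
theorem F74431 : act 6 n47157 = n41132 := d14_1 D47157 (iv7 D41132) (iv6 D19351) (iv7 F17273) D22689
theorem F74432 : act 1 n41136 = n47154 := d15_0 (iv0 D47154) D47157 F74430
theorem F74433 : act 1 n41134 = n47157 := d15_1 D41134 (iv7 D47157) F35263
theorem F74434 : act 1 n47157 = n41133 := d15_0 (iv0 D41133) D41136 (iv2 F74430)
def n47158 : Q := act 6 n22690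
theorem D47158 : act 6 n22690 = n47158 := rfl
theorem F74435 : act 2 n47158 = n40148 := d3_1 D47158 (iv6 D40148) F35267
theorem F74436 : act 4 n47158 = n40331 := d10_1 D47158 (iv6 D40331) (iv4 F35265)
def n47159 : Q := act 3 n22691
theorem D47159 : act 3 n22691 = n47159 := rfl
theorem F74437 : act 5 n47159 = n35277 := d6_2 (iv5 F35271) D47159 (iv3 D35277)
theorem F74438 : act 7 n47159 = n40147 := d8_2 (iv7 F35270) D47159 (iv3 D40147)
theorem F74439 : act 0 n47159 = n40120 := d20_4 F56883 F33443 (iv4 F35272) D47159 F61011 F43348 F30559 F21640 D17478 D36150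
def n47160 : Q := act 6 n22691
theorem D47160 : act 6 n22691 = n47160 := rfl
theorem F74440 : act 2 n47160 = n40149 := d3_1 D47160 (iv6 D40149) F35273
theorem F74441 : act 4 n47160 = n40355 := d10_1 D47160 (iv6 D40355) (iv4 F35272)
def n47161 : Q := act 0 n22692
theorem D47161 : act 0 n22692 = n47161 := rfl
theorem F74442 : act 1 n41139 = n47161 := d15_0 (iv0 D47161) F35276 D41139
def n47162 : Q := act 1 n22692
theorem D47162 : act 1 n22692 = n47162 := rfl
def n47163 : Q := act 2 n22692
theorem D47163 : act 2 n22692 = n47163 := rfl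
theorem F74443 : act 3 n47163 = n40139 := d0_2 D22692 D47163 F61033 F30280 (iv2 F17274)
theorem F74444 : act 4 n47163 = n22728 := d1_2 (iv4 F35274) D47163 (iv2 D22728)
theorem F74445 : act 5 n47163 = n40047 := d2_2 (iv5 F35275) D47163 (iv2 D40047)
theorem F74446 : act 7 n47163 = n41139 := d4_2 (iv7 F35276) D47163 (iv2 D41139)
theorem F74447 : act 1 n47163 = n41137 := d15_0 (iv0 D41137) (iv7 F35276) D47163
theorem F74448 : act 1 n47162 = n41139 := d15_1 D47162 (iv7 F74446) (iv2 D47163)
theorem F74449 : act 1 n41138 = n47163 := d15_1 D41138 F74446 (iv2 D41139)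
theorem F74450 : act 4 n36062 = n38200 := d20_0 (iv1 F59063) (iv4 F74444) F74443 F61035 (iv3 D26880) (iv4 D12867) (iv1 F9480) D8206 D17451 D36062
def n47164 : Q := act 6 n22692
theorem D47164 : act 6 n22692 = n47164 := rfl
theorem F74451 : act 3 n47164 = n22693 := d7_1 D47164 (iv6 D22693) D22692
theorem F74452 : act 4 n47164 = n22729 := d10_1 D47164 (iv6 D22729) (iv4 F35274)
def n47165 : Q := act 0 n22693
theorem D47165 : act 0 n22693 = n47165 := rfl
def n47166 : Q := act 1 n22693
theorem D47166 : act 1 n22693 = n47166 := rfl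
theorem F74453 : act 1 n47166 = n40153 := d15_1 D47166 (iv7 D40153) (iv2 F35277)
def n47167 : Q := act 5 n22693
theorem D47167 : act 5 n22693 = n47167 := rfl
theorem F74454 : act 2 n47167 = n40152 := d2_1 D47167 (iv5 D40152) (iv2 F35277)
theorem F74455 : act 6 n47167 = n40050 := d12_2 D22693 D47167 (iv5 D40050) (iv6 D18932) (iv5 F17276)
def n47168 : Q := act 7 n22693
theorem D47168 : act 7 n22693 = n47168 := rfl
theorem F74456 : act 2 n47168 = n40153 := d4_1 D47168 (iv7 D40153) (iv2 F35277)
theorem F74457 : act 4 n47168 = n22697 := d11_1 D47168 (iv7 D22697) (iv4 F35278)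
theorem F74459 : act 1 n40153 = n47165 := d15_0 (iv0 D47165) D47168 F74456
theorem F74460 : act 1 n40151 = n47168 := d15_1 D40151 (iv7 D47168) F35277
theorem F74461 : act 1 n47168 = n40150 := d15_0 (iv0 D40150) D40153 (iv2 F74456)
def n47169 : Q := act 2 n22694
theorem D47169 : act 2 n22694 = n47169 := rfl
theorem F74462 : act 7 n22695 = n47169 := d15_2 (iv0 D22694) D22695 (iv2 D47169)
def n47170 : Q := act 3 n22694
theorem D47170 : act 3 n22694 = n47170 := rfl
def n47171 : Q := act 4 n22694
theorem D47171 : act 4 n22694 = n47171 := rfl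
def n47172 : Q := act 5 n22694
theorem D47172 : act 5 n22694 = n47172 := rfl
def n47173 : Q := act 6 n22694
theorem D47173 : act 6 n22694 = n47173 := rfl
def n47174 : Q := act 7 n22694
theorem D47174 : act 7 n22694 = n47174 := rfl
theorem F74463 : act 2 n47174 = n22695 := d4_1 D47174 F74462 (iv2 D47169)
def n47175 : Q := act 3 n22695
theorem D47175 : act 3 n22695 = n47175 := rfl
def n47176 : Q := act 4 n22695
theorem D47176 : act 4 n22695 = n47176 := rfl
def n47177 : Q := act 5 n22695
theorem D47177 : act 5 n22695 = n47177 := rfl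
def n47178 : Q := act 6 n22695
theorem D47178 : act 6 n22695 = n47178 := rfl
def n47179 : Q := act 0 n22696
theorem D47179 : act 0 n22696 = n47179 := rfl
def n47180 : Q := act 1 n22696
theorem D47180 : act 1 n22696 = n47180 := rfl
def n47181 : Q := act 4 n22696
theorem D47181 : act 4 n22696 = n47181 := rfl
theorem F74464 : act 6 n47181 = n22709 := d10_2 (iv6 F35280) D47181 (iv4 D22709)
def n47182 : Q := act 7 n22696
theorem D47182 : act 7 n22696 = n47182 := rfl
theorem F74465 : act 3 n47182 = n22747 := d8_1 D47182 (iv7 D22747) (iv3 F35279)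
theorem F74466 : act 5 n47182 = n22697 := d13_1 D47182 (iv7 D22697) D22696
def n47183 : Q := act 0 n22699
theorem D47183 : act 0 n22699 = n47183 := rfl
def n47184 : Q := act 1 n22699
theorem D47184 : act 1 n22699 = n47184 := rfl
def n47185 : Q := act 2 n22699
theorem D47185 : act 2 n22699 = n47185 := rfl
theorem F74467 : act 4 n47185 = n42349 := d1_2 F68154 D47185 (iv2 F68157)
def n47186 : Q := act 5 n22699
theorem D47186 : act 5 n22699 = n47186 := rfl
theorem F74468 : act 3 n47186 = n22701 := d6_1 D47186 (iv5 D22701) D22699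
def n47187 : Q := act 6 n22699
theorem D47187 : act 6 n22699 = n47187 := rfl
theorem F74469 : act 3 n47187 = n22702 := d7_1 D47187 (iv6 D22702) D22699
def n47188 : Q := act 0 n22701
theorem D47188 : act 0 n22701 = n47188 := rfl
theorem F74470 : act 5 n47188 = n43992 := d17_3 D10743 D22701 D47188 F69193 F66152 (iv0 D23394) (iv5 D10980) (iv0 D5001) (iv4 F7341)
theorem F74471 : act 1 n22705 = n47188 := d15_0 (iv0 D47188) (iv7 F74408) F74407
theorem F74472 : act 2 n44001 = n47188 := d2_3 F74470 F69192 D44001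
def n47189 : Q := act 1 n22701
theorem D47189 : act 1 n22701 = n47189 := rfl
theorem F74473 : act 1 n47189 = n22705 := d15_1 D47189 (iv7 F74403) F74402
theorem F74474 : act 7 n47189 = n44001 := d15_2 (iv0 D47188) D47189 F74472
theorem F74475 : act 3 n22764 = n47189 := d8_3 F74474 (iv3 F71992) F71993
theorem F74476 : act 5 n44002 = n47189 := d13_3 F74474 (iv5 D44001) D44002
def n47190 : Q := act 4 n22701
theorem D47190 : act 4 n22701 = n47190 := rfl
def n47191 : Q := act 6 n22701
theorem D47191 : act 6 n22701 = n47191 := rfl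
def n47192 : Q := act 5 n22702
theorem D47192 : act 5 n22702 = n47192 := rfl
theorem F74477 : act 2 n47192 = n41699 := d2_1 D47192 (iv5 F67005) (iv2 F67004)
theorem F74478 : act 0 n47192 = n41684 := d17_2 F70675 D47192 (iv5 D41684) F31394 D19720 (iv0 F36526) (iv5 D23401) (iv0 F66111) (iv4 F67007)
theorem F74479 : act 1 n47192 = n41701 := d17_6 F63555 (iv5 F70241) (iv1 F72283) (iv5 F72285) F70674 D47192 F64350 (iv0 F64319) F64317
def n47193 : Q := act 7 n22702
theorem D47193 : act 7 n22702 = n47193 := rfl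
def n47194 : Q := act 0 n22704
theorem D47194 : act 0 n22704 = n47194 := rfl
def n47195 : Q := act 1 n22704
theorem D47195 : act 1 n22704 = n47195 := rfl
def n47196 : Q := act 2 n22704
theorem D47196 : act 2 n22704 = n47196 := rfl
def n47197 : Q := act 5 n22704
theorem D47197 : act 5 n22704 = n47197 := rfl
theorem F74480 : act 3 n47197 = n22705 := d6_1 D47197 (iv5 D22705) D22704
def n47198 : Q := act 6 n22704
theorem D47198 : act 6 n22704 = n47198 := rfl
theorem F74481 : act 3 n47198 = n22706 := d7_1 D47198 (iv6 D22706) D22704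
def n47199 : Q := act 4 n22705
theorem D47199 : act 4 n22705 = n47199 := rfl
def n47200 : Q := act 6 n22705
theorem D47200 : act 6 n22705 = n47200 := rfl
def n47201 : Q := act 3 n22707
theorem D47201 : act 3 n22707 = n47201 := rfl
def n47202 : Q := act 4 n22707
theorem D47202 : act 4 n22707 = n47202 := rfl
def n47203 : Q := act 6 n22707
theorem D47203 : act 6 n22707 = n47203 := rfl
def n47204 : Q := act 3 n22708
theorem D47204 : act 3 n22708 = n47204 := rfl
def n47205 : Q := act 4 n22708
theorem D47205 : act 4 n22708 = n47205 := rfl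
def n47206 : Q := act 6 n22708
theorem D47206 : act 6 n22708 = n47206 := rfl
def n47207 : Q := act 0 n22709
theorem D47207 : act 0 n22709 = n47207 := rfl
def n47208 : Q := act 1 n22709
theorem D47208 : act 1 n22709 = n47208 := rfl
def n47209 : Q := act 3 n22709
theorem D47209 : act 3 n22709 = n47209 := rfl
theorem F74482 : act 4 n47209 = n22796 := d5_2 D22709 D47209 (iv3 D22796) (iv4 D10770) (iv3 F17278)
def n47210 : Q := act 5 n22709
theorem D47210 : act 5 n22709 = n47210 := rfl
def n47211 : Q := act 7 n22709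
theorem D47211 : act 7 n22709 = n47211 := rfl
theorem F74483 : act 4 n47211 = n22710 := d11_1 D47211 (iv7 D22710) D22709
def n47212 : Q := act 6 n22710
theorem D47212 : act 6 n22710 = n47212 := rfl
theorem F74484 : act 3 n47212 = n22799 := d7_1 D47212 (iv6 D22799) (iv3 F35285)
theorem F74485 : act 5 n47212 = n41199 := d12_1 D47212 (iv6 D41199) F30992 (iv6 F17281) (iv5 F35286)
def n47213 : Q := act 6 n22712
theorem D47213 : act 6 n22712 = n47213 := rfl
theorem F74486 : act 2 n47213 = n22714 := d3_1 D47213 (iv6 D22714) D22712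
theorem F74487 : act 3 n47213 = n32478 := d7_1 D47213 (iv6 D32478) (iv3 F35287)
def n47214 : Q := act 0 n22713
theorem D47214 : act 0 n22713 = n47214 := rfl
theorem F74488 : act 4 n47214 = n44576 := d18_3 F59336 D22713 D47214 (iv5 D44576) F33439 (iv0 F17241) (iv4 D10713) D10711 D22595
theorem F74489 : act 3 n47214 = n45843 := d20_3 D38488 (iv1 F71634) (iv4 F74488) (iv1 D45843) (iv3 D21925) (iv4 D10460) F7236 F7228 D8643 D18342
def n47215 : Q := act 1 n22713
theorem D47215 : act 1 n22713 = n47215 := rfl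
theorem F74490 : act 4 n47215 = n46273 := d18_7 (iv1 F70211) F34597 (iv1 F34060) F33470 F29317 D22713 D47215 (iv0 F72937) F71577
def n47216 : Q := act 5 n22713
theorem D47216 : act 5 n22713 = n47216 := rfl
def n47217 : Q := act 6 n22713
theorem D47217 : act 6 n22713 = n47217 := rfl
theorem F74491 : act 4 n47217 = n22714 := d10_1 D47217 (iv6 D22714) D22713
def n47218 : Q := act 0 n22714
theorem D47218 : act 0 n22714 = n47218 := rfl
def n47219 : Q := act 1 n22714
theorem D47219 : act 1 n22714 = n47219 := rfl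
def n47220 : Q := act 5 n22714
theorem D47220 : act 5 n22714 = n47220 := rfl
theorem F74492 : act 3 n47220 = n22717 := d6_1 D47220 (iv5 D22717) (iv3 F35289)
def n47221 : Q := act 7 n22714
theorem D47221 : act 7 n22714 = n47221 := rfl
theorem F74493 : act 3 n47221 = n22718 := d8_1 D47221 (iv7 D22718) (iv3 F35289)
def n47222 : Q := act 2 n22715
theorem D47222 : act 2 n22715 = n47222 := rfl
theorem F74494 : act 7 n22716 = n47222 := d15_2 (iv0 D22715) D22716 (iv2 D47222)
def n47223 : Q := act 3 n22715
theorem D47223 : act 3 n22715 = n47223 := rfl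
def n47224 : Q := act 4 n22715
theorem D47224 : act 4 n22715 = n47224 := rfl
def n47225 : Q := act 5 n22715
theorem D47225 : act 5 n22715 = n47225 := rfl
def n47226 : Q := act 6 n22715
theorem D47226 : act 6 n22715 = n47226 := rfl
def n47227 : Q := act 7 n22715
theorem D47227 : act 7 n22715 = n47227 := rfl
theorem F74495 : act 2 n47227 = n22716 := d4_1 D47227 F74494 (iv2 D47222)
def n47228 : Q := act 3 n22716
theorem D47228 : act 3 n22716 = n47228 := rfl
def n47229 : Q := act 4 n22716
theorem D47229 : act 4 n22716 = n47229 := rfl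
def n47230 : Q := act 5 n22716
theorem D47230 : act 5 n22716 = n47230 := rfl
def n47231 : Q := act 6 n22716
theorem D47231 : act 6 n22716 = n47231 := rfl
def n47232 : Q := act 0 n22717
theorem D47232 : act 0 n22717 = n47232 := rfl
def n47233 : Q := act 1 n22717
theorem D47233 : act 1 n22717 = n47233 := rfl
theorem F74496 : act 5 n47106 = n47233 := d21_6 F13565 (iv1 F6815) D4907 D10730 D22655 D47106 (iv1 D47233) (iv5 D22717) (iv6 D10748) F13568
def n47234 : Q := act 4 n22717
theorem D47234 : act 4 n22717 = n47234 := rfl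
def n47235 : Q := act 7 n22717
theorem D47235 : act 7 n22717 = n47235 := rfl
theorem F74497 : act 5 n47235 = n22718 := d13_1 D47235 (iv7 D22718) D22717
def n47236 : Q := act 6 n22720
theorem D47236 : act 6 n22720 = n47236 := rfl
theorem F74498 : act 2 n47236 = n22721 := d3_1 D47236 (iv6 D22721) D22720
theorem F74499 : act 4 n47236 = n26310 := d10_1 D47236 (iv6 D26310) (iv4 F35290)
def n47237 : Q := act 0 n22721
theorem D47237 : act 0 n22721 = n47237 := rfl
def n47238 : Q := act 1 n22721
theorem D47238 : act 1 n22721 = n47238 := rfl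
def n47239 : Q := act 5 n22721
theorem D47239 : act 5 n22721 = n47239 := rfl
theorem F74500 : act 3 n47239 = n22724 := d6_1 D47239 (iv5 D22724) (iv3 F35293)
def n47240 : Q := act 7 n22721
theorem D47240 : act 7 n22721 = n47240 := rfl
theorem F74501 : act 3 n47240 = n22725 := d8_1 D47240 (iv7 D22725) (iv3 F35293)
def n47241 : Q := act 2 n22722
theorem D47241 : act 2 n22722 = n47241 := rfl
theorem F74503 : act 7 n22723 = n47241 := d15_2 (iv0 D22722) D22723 (iv2 D47241)
def n47242 : Q := act 3 n22722
theorem D47242 : act 3 n22722 = n47242 := rfl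
def n47243 : Q := act 4 n22722
theorem D47243 : act 4 n22722 = n47243 := rfl
def n47244 : Q := act 5 n22722
theorem D47244 : act 5 n22722 = n47244 := rfl
def n47245 : Q := act 6 n22722
theorem D47245 : act 6 n22722 = n47245 := rfl
def n47246 : Q := act 7 n22722
theorem D47246 : act 7 n22722 = n47246 := rfl
theorem F74504 : act 2 n47246 = n22723 := d4_1 D47246 F74503 (iv2 D47241)
def n47247 : Q := act 3 n22723
theorem D47247 : act 3 n22723 = n47247 := rfl
def n47248 : Q := act 4 n22723
theorem D47248 : act 4 n22723 = n47248 := rfl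
def n47249 : Q := act 5 n22723
theorem D47249 : act 5 n22723 = n47249 := rfl
def n47250 : Q := act 6 n22723
theorem D47250 : act 6 n22723 = n47250 := rfl
def n47251 : Q := act 0 n22724
theorem D47251 : act 0 n22724 = n47251 := rfl
def n47252 : Q := act 1 n22724
theorem D47252 : act 1 n22724 = n47252 := rfl
theorem F74505 : act 5 n47040 = n47252 := d21_6 (iv5 D2025) D2022 D4902 D10718 D22614 D47040 (iv1 D47252) (iv5 D22724) (iv6 D10750) (iv1 D4914)
def n47253 : Q := act 4 n22724
theorem D47253 : act 4 n22724 = n47253 := rfl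
def n47254 : Q := act 7 n22724
theorem D47254 : act 7 n22724 = n47254 := rfl
theorem F74506 : act 5 n47254 = n22725 := d13_1 D47254 (iv7 D22725) D22724
def n47255 : Q := act 2 n22726
theorem D47255 : act 2 n22726 = n47255 := rfl
theorem F74507 : act 7 n22727 = n47255 := d15_2 (iv0 D22726) D22727 (iv2 D47255)
def n47256 : Q := act 3 n22726
theorem D47256 : act 3 n22726 = n47256 := rfl
def n47257 : Q := act 4 n22726
theorem D47257 : act 4 n22726 = n47257 := rfl
theorem F74508 : act 0 n26870 = n47257 := d20_10 (iv4 D47257) (iv1 F59060) (iv4 F62349) F62348 (iv1 D36091) (iv3 D17461) (iv4 D8214) (iv1 F9476) D12862 D26870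
theorem F74509 : act 1 n33760 = n47257 := d15_0 (iv0 F74508) F43321 (iv2 F52995)
def n47258 : Q := act 5 n22726
theorem D47258 : act 5 n22726 = n47258 := rfl
def n47259 : Q := act 6 n22726
theorem D47259 : act 6 n22726 = n47259 := rfl
def n47260 : Q := act 7 n22726
theorem D47260 : act 7 n22726 = n47260 := rfl
theorem F74510 : act 2 n47260 = n22727 := d4_1 D47260 F74507 (iv2 D47255)
def n47261 : Q := act 3 n22727
theorem D47261 : act 3 n22727 = n47261 := rfl
def n47262 : Q := act 4 n22727
theorem D47262 : act 4 n22727 = n47262 := rfl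
theorem F74511 : act 0 n47262 = n26870 := d20_1 D47262 F43320 (iv3 D17162) (iv1 F21551) (iv3 F42459) (iv4 F42460) F40625 F40624 (iv3 F59057) (iv1 F59059)
theorem E8099 : n47261 = n38377 := ((c20_5 (iv4 F21553) F16297 D8633 D18311 D38377 (iv3 D47261) D47262 F74511 F43320 (iv3 D17162) (iv1 F21551))).symm
theorem F74512 : act 3 n38377 = n22727 := (sb E8099 (iv3 D47261))
theorem F74513 : act 0 n33760 = n47262 := d20_10 (iv4 D47262) (iv1 D22727) (iv4 F35274) (iv3 D22692) D22690 (iv3 F42212) (iv4 D26421) F27274 D16319 D33760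
def n47263 : Q := act 5 n22727
theorem D47263 : act 5 n22727 = n47263 := rfl
def n47264 : Q := act 6 n22727
theorem D47264 : act 6 n22727 = n47264 := rfl
def n47265 : Q := act 6 n22728
theorem D47265 : act 6 n22728 = n47265 := rfl
theorem F74514 : act 2 n47265 = n22729 := d3_1 D47265 (iv6 D22729) D22728
def n47266 : Q := act 0 n22729
theorem D47266 : act 0 n22729 = n47266 := rfl
def n47267 : Q := act 1 n22729
theorem D47267 : act 1 n22729 = n47267 := rfl
def n47268 : Q := act 5 n22729
theorem D47268 : act 5 n22729 = n47268 := rfl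
theorem F74515 : act 3 n47268 = n22732 := d6_1 D47268 (iv5 D22732) (iv3 F35295)
def n47269 : Q := act 7 n22729
theorem D47269 : act 7 n22729 = n47269 := rfl
theorem F74516 : act 3 n47269 = n22733 := d8_1 D47269 (iv7 D22733) (iv3 F35295)
def n47270 : Q := act 2 n22730
theorem D47270 : act 2 n22730 = n47270 := rfl
theorem F74517 : act 7 n22731 = n47270 := d15_2 (iv0 D22730) D22731 (iv2 D47270)
def n47271 : Q := act 3 n22730
theorem D47271 : act 3 n22730 = n47271 := rfl
def n47272 : Q := act 4 n22730
theorem D47272 : act 4 n22730 = n47272 := rfl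
def n47273 : Q := act 5 n22730
theorem D47273 : act 5 n22730 = n47273 := rfl
def n47274 : Q := act 6 n22730
theorem D47274 : act 6 n22730 = n47274 := rfl
def n47275 : Q := act 7 n22730
theorem D47275 : act 7 n22730 = n47275 := rfl
theorem F74518 : act 2 n47275 = n22731 := d4_1 D47275 F74517 (iv2 D47270)
def n47276 : Q := act 3 n22731
theorem D47276 : act 3 n22731 = n47276 := rfl
def n47277 : Q := act 4 n22731
theorem D47277 : act 4 n22731 = n47277 := rfl
def n47278 : Q := act 5 n22731
theorem D47278 : act 5 n22731 = n47278 := rfl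
def n47279 : Q := act 6 n22731
theorem D47279 : act 6 n22731 = n47279 := rfl
def n47280 : Q := act 0 n22732
theorem D47280 : act 0 n22732 = n47280 := rfl
def n47281 : Q := act 1 n22732
theorem D47281 : act 1 n22732 = n47281 := rfl
def n47282 : Q := act 4 n22732
theorem D47282 : act 4 n22732 = n47282 := rfl
def n47283 : Q := act 7 n22732
theorem D47283 : act 7 n22732 = n47283 := rfl
theorem F74519 : act 5 n47283 = n22733 := d13_1 D47283 (iv7 D22733) D22732
def n47286 : Q := act 3 n22734
theorem D47286 : act 3 n22734 = n47286 := rfl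
theorem F74522 : act 7 n47286 = n22740 := d8_2 F35297 D47286 (iv3 D22740)
def n47287 : Q := act 4 n22734
theorem D47287 : act 4 n22734 = n47287 := rfl
theorem F74523 : act 2 n47287 = n22736 := d1_1 D47287 (iv4 D22736) D22734
theorem F74524 : act 7 n47287 = n22741 := d11_2 F35297 D47287 (iv4 D22741)
def n47288 : Q := act 5 n22734
theorem D47288 : act 5 n22734 = n47288 := rfl
theorem F74525 : act 2 n47288 = n22737 := d2_1 D47288 (iv5 D22737) D22734
theorem F74526 : act 7 n47288 = n22742 := d13_2 F35297 D47288 (iv5 D22742)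
def n47289 : Q := act 6 n22734
theorem D47289 : act 6 n22734 = n47289 := rfl
theorem F74527 : act 2 n47289 = n22738 := d3_1 D47289 (iv6 D22738) D22734
def n47290 : Q := act 0 n22735
theorem D47290 : act 0 n22735 = n47290 := rfl
def n47291 : Q := act 1 n22735
theorem D47291 : act 1 n22735 = n47291 := rfl
def n47292 : Q := act 2 n22735
theorem D47292 : act 2 n22735 = n47292 := rfl
def n47293 : Q := act 4 n22735
theorem D47293 : act 4 n22735 = n47293 := rfl
def n47294 : Q := act 5 n22735
theorem D47294 : act 5 n22735 = n47294 := rfl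
theorem F74528 : act 3 n47294 = n22737 := d6_1 D47294 (iv5 D22737) D22735
def n47295 : Q := act 6 n22735
theorem D47295 : act 6 n22735 = n47295 := rfl
theorem F74529 : act 3 n47295 = n22738 := d7_1 D47295 (iv6 D22738) D22735
def n47296 : Q := act 7 n22735
theorem D47296 : act 7 n22735 = n47296 := rfl
theorem F74530 : act 3 n47296 = n22739 := d8_1 D47296 (iv7 D22739) D22735
def n47297 : Q := act 0 n22736
theorem D47297 : act 0 n22736 = n47297 := rfl
def n47298 : Q := act 1 n22736
theorem D47298 : act 1 n22736 = n47298 := rfl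
theorem F74531 : act 1 n47298 = n22741 := d15_1 D47298 (iv7 F74524) F74523
def n47299 : Q := act 3 n22736
theorem D47299 : act 3 n22736 = n47299 := rfl
def n47300 : Q := act 5 n22736
theorem D47300 : act 5 n22736 = n47300 := rfl
def n47301 : Q := act 6 n22736
theorem D47301 : act 6 n22736 = n47301 := rfl
theorem F74532 : act 4 n47301 = n22738 := d10_1 D47301 (iv6 D22738) D22736
def n47302 : Q := act 7 n22736
theorem D47302 : act 7 n22736 = n47302 := rfl
theorem F74533 : act 2 n47302 = n22741 := d4_1 D47302 (iv7 F74524) F74523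
theorem F74535 : act 1 n22741 = n47297 := d15_0 (iv0 D47297) D47302 F74533
def n47303 : Q := act 0 n22737
theorem D47303 : act 0 n22737 = n47303 := rfl
theorem F74536 : act 5 n47303 = n47111 := d21_2 D22737 D47303 (iv6 D47111) (iv1 D22656) (iv6 D10730) (iv5 D4907) (iv1 D2023) D2025 D4916 D10753
def n47304 : Q := act 1 n22737
theorem D47304 : act 1 n22737 = n47304 := rfl
theorem F74537 : act 1 n47304 = n22742 := d15_1 D47304 (iv7 F74526) F74525
def n47305 : Q := act 4 n22737
theorem D47305 : act 4 n22737 = n47305 := rfl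
def n47306 : Q := act 6 n22737
theorem D47306 : act 6 n22737 = n47306 := rfl
def n47307 : Q := act 7 n22737
theorem D47307 : act 7 n22737 = n47307 := rfl
theorem F74538 : act 2 n47307 = n22742 := d4_1 D47307 (iv7 F74526) F74525
theorem F74540 : act 1 n22742 = n47303 := d15_0 (iv0 D47303) D47307 F74538
def n47308 : Q := act 0 n22738
theorem D47308 : act 0 n22738 = n47308 := rfl
def n47309 : Q := act 1 n22738
theorem D47309 : act 1 n22738 = n47309 := rfl
def n47310 : Q := act 5 n22738
theorem D47310 : act 5 n22738 = n47310 := rfl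
theorem F74541 : act 0 n47310 = n47034 := d21_7 (iv5 D4907) (iv1 D2023) D2025 D4916 D10753 D22738 D47310 (iv5 D47034) (iv6 D22613) (iv1 F17249)
def n47311 : Q := act 7 n22738
theorem D47311 : act 7 n22738 = n47311 := rfl
def n47312 : Q := act 6 n22739
theorem D47312 : act 6 n22739 = n47312 := rfl
theorem F74542 : act 2 n47312 = n22743 := d3_1 D47312 (iv6 D22743) (iv2 F35298)
def n47313 : Q := act 0 n22740
theorem D47313 : act 0 n22740 = n47313 := rfl
def n47314 : Q := act 1 n22740
theorem D47314 : act 1 n22740 = n47314 := rfl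
def n47315 : Q := act 2 n22740
theorem D47315 : act 2 n22740 = n47315 := rfl
def n47316 : Q := act 4 n22740
theorem D47316 : act 4 n22740 = n47316 := rfl
def n47317 : Q := act 5 n22740
theorem D47317 : act 5 n22740 = n47317 := rfl
def n47318 : Q := act 6 n22740
theorem D47318 : act 6 n22740 = n47318 := rfl
theorem F74544 : act 3 n47318 = n22743 := d7_1 D47318 (iv6 D22743) D22740
def n47319 : Q := act 3 n22741
theorem D47319 : act 3 n22741 = n47319 := rfl
def n47320 : Q := act 5 n22741
theorem D47320 : act 5 n22741 = n47320 := rfl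
def n47321 : Q := act 6 n22741
theorem D47321 : act 6 n22741 = n47321 := rfl
theorem F74545 : act 4 n47321 = n22743 := d10_1 D47321 (iv6 D22743) D22741
def n47322 : Q := act 4 n22742
theorem D47322 : act 4 n22742 = n47322 := rfl
def n47323 : Q := act 6 n22742
theorem D47323 : act 6 n22742 = n47323 := rfl
def n47324 : Q := act 0 n22743
theorem D47324 : act 0 n22743 = n47324 := rfl
def n47325 : Q := act 1 n22743
theorem D47325 : act 1 n22743 = n47325 := rfl
def n47326 : Q := act 5 n22743
theorem D47326 : act 5 n22743 = n47326 := rfl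
theorem F74546 : act 0 n47039 = n47326 := d21_1 D47039 (iv5 D47326) (iv6 D22743) (iv1 D10754) (iv6 D4916) (iv5 D2025) D2022 D4902 D10718 D22614
def n47327 : Q := act 7 n22743
theorem D47327 : act 7 n22743 = n47327 := rfl
def n47328 : Q := act 2 n22744
theorem D47328 : act 2 n22744 = n47328 := rfl
theorem F74547 : act 7 n22745 = n47328 := d15_2 (iv0 D22744) D22745 (iv2 D47328)
def n47329 : Q := act 3 n22744
theorem D47329 : act 3 n22744 = n47329 := rfl
def n47330 : Q := act 4 n22744
theorem D47330 : act 4 n22744 = n47330 := rfl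
def n47331 : Q := act 5 n22744
theorem D47331 : act 5 n22744 = n47331 := rfl
def n47332 : Q := act 6 n22744
theorem D47332 : act 6 n22744 = n47332 := rfl
def n47333 : Q := act 7 n22744
theorem D47333 : act 7 n22744 = n47333 := rfl
theorem F74548 : act 2 n47333 = n22745 := d4_1 D47333 F74547 (iv2 D47328)
def n47334 : Q := act 3 n22745
theorem D47334 : act 3 n22745 = n47334 := rfl
def n47335 : Q := act 4 n22745
theorem D47335 : act 4 n22745 = n47335 := rfl
def n47336 : Q := act 5 n22745
theorem D47336 : act 5 n22745 = n47336 := rfl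
theorem F74549 : act 6 n41473 = n47336 := d21_5 (iv5 F13392) F13393 D9192 D19526 D41473 (iv5 D47336) (iv1 D22745) (iv5 D10755) (iv6 D4916) D4913
def n47337 : Q := act 6 n22745
theorem D47337 : act 6 n22745 = n47337 := rfl
def n47338 : Q := act 0 n22746
theorem D47338 : act 0 n22746 = n47338 := rfl
def n47339 : Q := act 1 n22746
theorem D47339 : act 1 n22746 = n47339 := rfl
def n47340 : Q := act 3 n22746
theorem D47340 : act 3 n22746 = n47340 := rfl
theorem F74550 : act 6 n47340 = n22796 := d7_2 (iv6 F35299) D47340 (iv3 D22796)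
def n47341 : Q := act 5 n22746
theorem D47341 : act 5 n22746 = n47341 := rfl
def n47342 : Q := act 7 n22746
theorem D47342 : act 7 n22746 = n47342 := rfl
theorem F74551 : act 4 n47342 = n22747 := d11_1 D47342 (iv7 D22747) D22746
def n47343 : Q := act 6 n22747
theorem D47343 : act 6 n22747 = n47343 := rfl
theorem F74552 : act 7 n47343 = n22799 := d14_2 D22747 D47343 (iv6 D22799) (iv7 D10771) (iv6 F17286)
def n47344 : Q := act 5 n22748
theorem D47344 : act 5 n22748 = n47344 := rfl
theorem F74554 : act 7 n47344 = n22751 := d13_2 (iv7 F35302) D47344 (iv5 D22751)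
def n47345 : Q := act 2 n22749
theorem D47345 : act 2 n22749 = n47345 := rfl
theorem F74555 : act 7 n22750 = n47345 := d15_2 (iv0 D22749) D22750 (iv2 D47345)
def n47346 : Q := act 3 n22749
theorem D47346 : act 3 n22749 = n47346 := rfl
def n47347 : Q := act 4 n22749
theorem D47347 : act 4 n22749 = n47347 := rfl
def n47348 : Q := act 5 n22749
theorem D47348 : act 5 n22749 = n47348 := rfl
def n47349 : Q := act 6 n22749
theorem D47349 : act 6 n22749 = n47349 := rfl
def n47350 : Q := act 7 n22749
theorem D47350 : act 7 n22749 = n47350 := rfl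
def n47351 : Q := act 3 n22750
theorem D47351 : act 3 n22750 = n47351 := rfl
def n47352 : Q := act 4 n22750
theorem D47352 : act 4 n22750 = n47352 := rfl
def n47353 : Q := act 5 n22750
theorem D47353 : act 5 n22750 = n47353 := rfl
def n47354 : Q := act 6 n22750
theorem D47354 : act 6 n22750 = n47354 := rfl
def n47355 : Q := act 0 n22751
theorem D47355 : act 0 n22751 = n47355 := rfl
def n47356 : Q := act 1 n22751
theorem D47356 : act 1 n22751 = n47356 := rfl
def n47357 : Q := act 4 n22751
theorem D47357 : act 4 n22751 = n47357 := rfl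
theorem F74557 : act 6 n47357 = n22813 := d10_2 (iv6 F35304) D47357 (iv4 D22813)
def n47358 : Q := act 2 n22752
theorem D47358 : act 2 n22752 = n47358 := rfl
theorem F74558 : act 7 n22753 = n47358 := d15_2 (iv0 D22752) D22753 (iv2 D47358)
def n47359 : Q := act 3 n22752
theorem D47359 : act 3 n22752 = n47359 := rfl
theorem F74559 : act 4 n47359 = n41174 := d20_6 F31809 F35827 (iv4 D10760) D10759 D22752 D47359 (iv1 D41174) (iv4 F34884) (iv3 D22348) (iv1 F35615)
def n47360 : Q := act 4 n22752
theorem D47360 : act 4 n22752 = n47360 := rfl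
def n47361 : Q := act 5 n22752
theorem D47361 : act 5 n22752 = n47361 := rfl
def n47362 : Q := act 6 n22752
theorem D47362 : act 6 n22752 = n47362 := rfl
def n47363 : Q := act 7 n22752
theorem D47363 : act 7 n22752 = n47363 := rfl
theorem F74560 : act 2 n47363 = n22753 := d4_1 D47363 F74558 (iv2 D47358)
def n47364 : Q := act 3 n22753
theorem D47364 : act 3 n22753 = n47364 := rfl
def n47365 : Q := act 4 n22753
theorem D47365 : act 4 n22753 = n47365 := rfl
def n47366 : Q := act 5 n22753
theorem D47366 : act 5 n22753 = n47366 := rfl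
def n47367 : Q := act 6 n22753
theorem D47367 : act 6 n22753 = n47367 := rfl
def n47368 : Q := act 5 n22754
theorem D47368 : act 5 n22754 = n47368 := rfl
theorem F74561 : act 2 n47368 = n22756 := d2_1 D47368 (iv5 D22756) D22754
def n47369 : Q := act 6 n22754
theorem D47369 : act 6 n22754 = n47369 := rfl
theorem F74562 : act 2 n47369 = n22757 := d3_1 D47369 (iv6 D22757) D22754
def n47370 : Q := act 5 n22755
theorem D47370 : act 5 n22755 = n47370 := rfl
theorem F74563 : act 3 n47370 = n44603 := d6_1 D47370 (iv5 D44603) F63146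
def n47371 : Q := act 6 n22755
theorem D47371 : act 6 n22755 = n47371 := rfl
theorem F74564 : act 3 n47371 = n44604 := d7_1 D47371 (iv6 D44604) F63146
theorem F74565 : act 4 n47371 = n22757 := d10_1 D47371 (iv6 D22757) D22755
def n47372 : Q := act 0 n22756
theorem D47372 : act 0 n22756 = n47372 := rfl
def n47373 : Q := act 1 n22756
theorem D47373 : act 1 n22756 = n47373 := rfl
def n47374 : Q := act 4 n22756
theorem D47374 : act 4 n22756 = n47374 := rfl
def n47375 : Q := act 6 n22756
theorem D47375 : act 6 n22756 = n47375 := rfl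
theorem F74566 : act 3 n47375 = n22766 := d7_1 D47375 (iv6 D22766) (iv3 F35305)
def n47376 : Q := act 0 n22757
theorem D47376 : act 0 n22757 = n47376 := rfl
def n47377 : Q := act 1 n22757
theorem D47377 : act 1 n22757 = n47377 := rfl
def n47378 : Q := act 5 n22757
theorem D47378 : act 5 n22757 = n47378 := rfl
theorem F74567 : act 3 n47378 = n22769 := d6_1 D47378 (iv5 D22769) (iv3 F35306)
theorem F74568 : act 7 n41759 = n47378 := d8_0 F74567 (iv7 F58701) D41759
def n47379 : Q := act 7 n22757
theorem D47379 : act 7 n22757 = n47379 := rfl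
theorem F74569 : act 3 n47379 = n22770 := d8_1 D47379 (iv7 D22770) (iv3 F35306)
theorem F74570 : act 5 n47379 = n41759 := d13_1 D47379 F74568 (iv5 D47378)
def n47380 : Q := act 5 n22760
theorem D47380 : act 5 n22760 = n47380 := rfl
theorem F74571 : act 2 n47380 = n40860 := d2_1 D47380 (iv5 D40860) (iv2 F35309)
theorem F74572 : act 3 n47380 = n22761 := d6_1 D47380 (iv5 D22761) D22760
theorem F74573 : act 6 n47380 = n42483 := d12_2 (iv6 F62462) D47380 F66275 (iv6 D41236) D41235
theorem F74574 : act 7 n47380 = n41235 := d13_2 (iv7 F35310) D47380 (iv5 D41235)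
theorem F74575 : act 0 n47380 = n41241 := d17_2 F35589 D47380 F63081 F62927 (iv5 F36755) F36754 (iv5 D23518) (iv0 F35591) (iv4 F30834)
theorem F74576 : act 1 n47380 = n41240 := d17_8 (iv1 F36651) (iv5 F70303) (iv1 F70305) (iv5 D42007) F35818 (iv5 F35594) F35312 D47380 F62466
def n47381 : Q := act 6 n22761
theorem D47381 : act 6 n22761 = n47381 := rfl
theorem F74577 : act 2 n47381 = n41203 := d3_1 D47381 (iv6 D41203) (iv2 F35320)
theorem F74578 : act 3 n47381 = n42483 := d7_1 D47381 (iv6 F74573) F74572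
theorem F74579 : act 4 n47381 = n44873 := d10_1 D47381 (iv6 F70489) F35337
theorem F74580 : act 5 n47381 = n43953 := d12_1 D47381 (iv6 F69103) F35323 (iv6 D22762) D22761
theorem F74582 : act 0 n47381 = n40552 := d21_4 F17013 F35827 D22761 D47381 (iv6 F61677) D47025 F74262 F66362 (iv6 D41752) F58698
theorem F74583 : act 0 n40547 = n47381 := d21_4 D43259 (iv1 F68440) F68437 (iv6 F66297) (iv6 D47381) (iv5 D22761) D22758 (iv5 F58696) (iv6 F61671) (iv1 F61673)
theorem E8100 : n43955 = n40402 := ((c21_4 F62406 F64474 (iv5 D40401) D40402 (iv1 D43955) (iv6 D20839) D20838 D43953 (iv5 F74580) (iv6 D47381) (iv1 F62404))).symm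
theorem F74584 : act 0 n40402 = n20839 := (sb E8100 (iv1 D43955))
theorem F74585 : act 2 n44003 = n43954 := d15_3 (iv0 D43954) (iv0 F74584) (iv7 F69220)
theorem F74586 : act 5 n43954 = n42647 := d2_2 (iv5 F69219) F74585 (iv2 F66692)
theorem F74587 : act 7 n43954 = n41736 := d4_2 (iv7 F69220) F74585 F64372
theorem F74588 : act 1 n44003 = n40553 := d15_0 (iv0 F66265) (iv7 F74587) (iv2 F74585)
theorem F74589 : act 0 n23420 = n42649 := d21_1 F69219 F66694 (iv6 F35622) (iv1 F34835) F69103 (iv5 F74580) F74582 (iv5 D40552) D40553 (iv1 F74588)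
theorem F74590 : act 4 n41744 = n43954 := d11_3 F74587 F64373 D41744
def n47382 : Q := act 3 n22763
theorem D47382 : act 3 n22763 = n47382 := rfl
theorem F74591 : act 5 n47382 = n46342 := d6_2 (iv5 F35325) D47382 F72993
def n47383 : Q := act 4 n22763
theorem D47383 : act 4 n22763 = n47383 := rfl
theorem F74592 : act 0 n47383 = n22885 := d17_0 F64405 (iv1 F64406) (iv5 D22797) (iv4 D10770) (iv5 D4920) D4919 D10766 F35328 D47383
theorem F74593 : act 1 n47383 = n22845 := d18_8 (iv1 D41766) (iv4 D19648) D19646 D41760 F64402 (iv4 D22778) F35328 D47383 (iv5 F64409)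
def n47384 : Q := act 6 n22763
theorem D47384 : act 6 n22763 = n47384 := rfl
theorem F74594 : act 5 n47384 = n46344 := d12_1 D47384 (iv6 D46344) (iv5 D22192) D22193 (iv5 F35325)
def n47385 : Q := act 4 n22764
theorem D47385 : act 4 n22764 = n47385 := rfl
theorem F74595 : act 0 n47385 = n22845 := d17_0 (iv5 F64409) (iv1 D41766) D41768 F64411 F34843 F17178 D10761 D22764 D47385
theorem F74596 : act 1 n47385 = n22885 := d18_6 (iv1 F63997) (iv4 D41492) (iv1 F62658) D41993 F64793 D47385 (iv4 D22885) F35412 F35955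
def n47386 : Q := act 6 n22764
theorem D47386 : act 6 n22764 = n47386 := rfl
def n47387 : Q := act 0 n22765
theorem D47387 : act 0 n22765 = n47387 := rfl
theorem F74597 : act 4 n47387 = n46624 := d18_3 (iv1 D22764) D22765 D47387 F73649 F64095 F67815 F67812 (iv0 F64794) F64793
theorem F74598 : act 1 n22778 = n47387 := d15_0 (iv0 D47387) (iv7 F73607) F73606
def n47388 : Q := act 1 n22765
theorem D47388 : act 1 n22765 = n47388 := rfl
theorem F74599 : act 1 n47388 = n22778 := d15_1 D47388 (iv7 F73594) F73593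
theorem F74600 : act 4 n47388 = n46625 := d18_7 (iv1 F35615) F31809 F35827 (iv4 D10760) D10761 D22765 D47388 F73653 (iv5 D22349)
def n47389 : Q := act 3 n22765
theorem D47389 : act 3 n22765 = n47389 := rfl
def n47390 : Q := act 6 n22765
theorem D47390 : act 6 n22765 = n47390 := rfl
theorem F74601 : act 4 n47390 = n22766 := d10_1 D47390 (iv6 D22766) D22765
def n47391 : Q := act 0 n22766
theorem D47391 : act 0 n22766 = n47391 := rfl
def n47392 : Q := act 1 n22766
theorem D47392 : act 1 n22766 = n47392 := rfl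
def n47393 : Q := act 5 n22766
theorem D47393 : act 5 n22766 = n47393 := rfl
theorem F74602 : act 2 n47393 = n41764 := d2_1 D47393 (iv5 F73596) F73595
theorem F74603 : act 6 n47393 = n22769 := d12_2 D22766 D47393 (iv5 D22769) (iv6 D10762) D10761
def n47394 : Q := act 7 n22766
theorem D47394 : act 7 n22766 = n47394 := rfl
def n47395 : Q := act 4 n22769
theorem D47395 : act 4 n22769 = n47395 := rfl
theorem F74604 : act 2 n47395 = n41763 := d1_1 D47395 (iv4 D41763) (iv2 F35334)
theorem F74605 : act 7 n47395 = n41760 := d11_2 F58701 D47395 (iv4 D41760)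
theorem F74606 : act 5 n47395 = n46598 := d16_1 D47395 (iv4 D46598) (iv5 D22324) (iv4 F17177) D19378 D41202 (iv5 F63937) F63939 (iv2 F35334)
def n47396 : Q := act 2 n22771
theorem D47396 : act 2 n22771 = n47396 := rfl
theorem F74607 : act 7 n22772 = n47396 := d15_2 (iv0 D22771) D22772 (iv2 D47396)
def n47397 : Q := act 3 n22771
theorem D47397 : act 3 n22771 = n47397 := rfl
def n47398 : Q := act 4 n22771
theorem D47398 : act 4 n22771 = n47398 := rfl
def n47399 : Q := act 5 n22771
theorem D47399 : act 5 n22771 = n47399 := rfl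
def n47400 : Q := act 6 n22771
theorem D47400 : act 6 n22771 = n47400 := rfl
def n47401 : Q := act 7 n22771
theorem D47401 : act 7 n22771 = n47401 := rfl
theorem F74608 : act 2 n47401 = n22772 := d4_1 D47401 F74607 (iv2 D47396)
def n47402 : Q := act 3 n22772
theorem D47402 : act 3 n22772 = n47402 := rfl
def n47403 : Q := act 4 n22772
theorem D47403 : act 4 n22772 = n47403 := rfl
theorem F74609 : act 3 n41159 = n47403 := d20_5 F33446 (iv1 F63108) (iv4 F17365) D19359 D41159 (iv4 D47403) (iv1 D22772) D22774 F35338 (iv1 F63096)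
def n47404 : Q := act 5 n22772
theorem D47404 : act 5 n22772 = n47404 := rfl
def n47405 : Q := act 6 n22772
theorem D47405 : act 6 n22772 = n47405 := rfl
def n47406 : Q := act 4 n22773
theorem D47406 : act 4 n22773 = n47406 := rfl
theorem F74610 : act 2 n47406 = n22774 := d1_1 D47406 (iv4 D22774) D22773
theorem F74611 : act 7 n47406 = n41214 := d11_2 F73580 D47406 (iv4 F73579)
theorem F74612 : act 1 n41213 = n47406 := d15_1 D41213 F74611 (iv2 D41214)
theorem F74613 : act 3 n41248 = n47406 := d0_0 F74610 F35338 F31047 D19402 D41248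
theorem F74614 : act 1 n47406 = n41212 := d15_0 (iv0 D41212) (iv7 F35339) (iv2 F74610)
def n47407 : Q := act 5 n22773
theorem D47407 : act 5 n22773 = n47407 := rfl
theorem F74615 : act 2 n47407 = n22775 := d2_1 D47407 (iv5 D22775) D22773
def n47408 : Q := act 6 n22773
theorem D47408 : act 6 n22773 = n47408 := rfl
theorem F74616 : act 2 n47408 = n22776 := d3_1 D47408 (iv6 D22776) D22773
def n47409 : Q := act 0 n22774
theorem D47409 : act 0 n22774 = n47409 := rfl
theorem F74617 : act 1 n41214 = n47409 := d15_0 (iv0 D47409) F35339 D41214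
def n47410 : Q := act 1 n22774
theorem D47410 : act 1 n22774 = n47410 := rfl
theorem F74618 : act 1 n47410 = n41214 := d15_1 D47410 (iv7 F74611) F74610
def n47411 : Q := act 5 n22774
theorem D47411 : act 5 n22774 = n47411 := rfl
theorem F74619 : act 3 n47411 = n40865 := d6_1 D47411 (iv5 D40865) (iv3 F35338)
theorem F74620 : act 7 n47411 = n41215 := d13_2 (iv7 F35339) D47411 (iv5 D41215)
def n47412 : Q := act 6 n22774
theorem D47412 : act 6 n22774 = n47412 := rfl
theorem F74621 : act 3 n47412 = n40866 := d7_1 D47412 (iv6 D40866) (iv3 F35338)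
theorem F74622 : act 4 n47412 = n22776 := d10_1 D47412 (iv6 D22776) D22774
def n47415 : Q := act 4 n22775
theorem D47415 : act 4 n22775 = n47415 := rfl
def n47417 : Q := act 0 n22776
theorem D47417 : act 0 n22776 = n47417 := rfl
def n47418 : Q := act 1 n22776
theorem D47418 : act 1 n22776 = n47418 := rfl
def n47419 : Q := act 5 n22776
theorem D47419 : act 5 n22776 = n47419 := rfl
theorem F74624 : act 3 n47419 = n22782 := d6_1 D47419 (iv5 D22782) (iv3 F35341)
def n47420 : Q := act 7 n22776
theorem D47420 : act 7 n22776 = n47420 := rfl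
theorem F74625 : act 3 n47420 = n22783 := d8_1 D47420 (iv7 D22783) (iv3 F35341)
def n47421 : Q := act 3 n22778
theorem D47421 : act 3 n22778 = n47421 := rfl
def n47422 : Q := act 6 n22778
theorem D47422 : act 6 n22778 = n47422 := rfl
def n47423 : Q := act 0 n22779
theorem D47423 : act 0 n22779 = n47423 := rfl
def n47424 : Q := act 1 n22779
theorem D47424 : act 1 n22779 = n47424 := rfl
def n47425 : Q := act 5 n22779
theorem D47425 : act 5 n22779 = n47425 := rfl
theorem F74627 : act 6 n47425 = n22782 := d12_2 D22779 D47425 (iv5 D22782) (iv6 D10767) D10766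
def n47427 : Q := act 4 n22782
theorem D47427 : act 4 n22782 = n47427 := rfl
def n47428 : Q := act 0 n22785
theorem D47428 : act 0 n22785 = n47428 := rfl
def n47429 : Q := act 1 n22785
theorem D47429 : act 1 n22785 = n47429 := rfl
def n47430 : Q := act 2 n22785
theorem D47430 : act 2 n22785 = n47430 := rfl
def n47431 : Q := act 4 n22785
theorem D47431 : act 4 n22785 = n47431 := rfl
def n47432 : Q := act 5 n22785
theorem D47432 : act 5 n22785 = n47432 := rfl
theorem F74628 : act 3 n47432 = n22787 := d6_1 D47432 (iv5 D22787) D22785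
def n47433 : Q := act 6 n22785
theorem D47433 : act 6 n22785 = n47433 := rfl
theorem F74629 : act 3 n47433 = n22788 := d7_1 D47433 (iv6 D22788) D22785
def n47434 : Q := act 0 n22786
theorem D47434 : act 0 n22786 = n47434 := rfl
theorem F74630 : act 5 n47434 = n46007 := d17_1 D47434 F72584 F64402 (iv4 D22778) (iv5 D10766) F17176 (iv5 F34843) F34846 D22786
theorem F74631 : act 4 n47434 = n46620 := d18_3 D10768 D22786 D47434 (iv5 D46620) F35952 (iv0 D22758) (iv4 D10760) (iv0 D4918) D4920
theorem F74632 : act 1 n22791 = n47434 := d15_0 (iv0 D47434) (iv7 F73615) F73614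
theorem F74633 : act 7 n46685 = n47434 := d11_0 F74631 F73638 D46685
def n47435 : Q := act 1 n22786
theorem D47435 : act 1 n22786 = n47435 := rfl
theorem F74634 : act 1 n47435 = n22791 := d15_1 D47435 (iv7 F73611) F73610
theorem F74635 : act 2 n46685 = n47435 := d15_3 F74634 F74632 (iv7 F74633)
theorem F74636 : act 4 n42345 = n47435 := d18_5 (iv1 F17176) D10765 F35828 (iv4 F31809) D42345 F74634 (iv4 D22791) F34845 F34843
def n47436 : Q := act 3 n22786
theorem D47436 : act 3 n22786 = n47436 := rfl
def n47437 : Q := act 6 n22786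
theorem D47437 : act 6 n22786 = n47437 := rfl
theorem F74637 : act 4 n47437 = n22788 := d10_1 D47437 (iv6 D22788) D22786
def n47438 : Q := act 0 n22788
theorem D47438 : act 0 n22788 = n47438 := rfl
def n47439 : Q := act 1 n22788
theorem D47439 : act 1 n22788 = n47439 := rfl
def n47440 : Q := act 5 n22788
theorem D47440 : act 5 n22788 = n47440 := rfl
def n47441 : Q := act 7 n22788
theorem D47441 : act 7 n22788 = n47441 := rfl
def n47442 : Q := act 0 n22790
theorem D47442 : act 0 n22790 = n47442 := rfl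
def n47443 : Q := act 1 n22790
theorem D47443 : act 1 n22790 = n47443 := rfl
def n47444 : Q := act 2 n22790
theorem D47444 : act 2 n22790 = n47444 := rfl
def n47445 : Q := act 4 n22790
theorem D47445 : act 4 n22790 = n47445 := rfl
def n47446 : Q := act 5 n22790
theorem D47446 : act 5 n22790 = n47446 := rfl
theorem F74638 : act 3 n47446 = n22792 := d6_1 D47446 (iv5 D22792) D22790
def n47447 : Q := act 6 n22790
theorem D47447 : act 6 n22790 = n47447 := rfl
theorem F74639 : act 3 n47447 = n22793 := d7_1 D47447 (iv6 D22793) D22790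
def n47448 : Q := act 3 n22791
theorem D47448 : act 3 n22791 = n47448 := rfl
def n47449 : Q := act 6 n22791
theorem D47449 : act 6 n22791 = n47449 := rfl
theorem F74640 : act 4 n47449 = n22793 := d10_1 D47449 (iv6 D22793) D22791
def n47450 : Q := act 0 n22793
theorem D47450 : act 0 n22793 = n47450 := rfl
def n47451 : Q := act 1 n22793
theorem D47451 : act 1 n22793 = n47451 := rfl
def n47452 : Q := act 5 n22793
theorem D47452 : act 5 n22793 = n47452 := rfl
def n47453 : Q := act 7 n22793
theorem D47453 : act 7 n22793 = n47453 := rfl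
def n47454 : Q := act 2 n22794
theorem D47454 : act 2 n22794 = n47454 := rfl
theorem F74641 : act 7 n22795 = n47454 := d15_2 (iv0 D22794) D22795 (iv2 D47454)
def n47455 : Q := act 3 n22794
theorem D47455 : act 3 n22794 = n47455 := rfl
def n47456 : Q := act 6 n22794
theorem D47456 : act 6 n22794 = n47456 := rfl
def n47457 : Q := act 7 n22794
theorem D47457 : act 7 n22794 = n47457 := rfl
theorem F74642 : act 2 n47457 = n22795 := d4_1 D47457 F74641 (iv2 D47454)
def n47458 : Q := act 3 n22795
theorem D47458 : act 3 n22795 = n47458 := rfl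
def n47459 : Q := act 6 n22795
theorem D47459 : act 6 n22795 = n47459 := rfl
def n47460 : Q := act 0 n22796
theorem D47460 : act 0 n22796 = n47460 := rfl
def n47461 : Q := act 1 n22796
theorem D47461 : act 1 n22796 = n47461 := rfl
def n47462 : Q := act 2 n22796
theorem D47462 : act 2 n22796 = n47462 := rfl
def n47463 : Q := act 5 n22796
theorem D47463 : act 5 n22796 = n47463 := rfl
theorem F74643 : act 3 n47463 = n22797 := d6_1 D47463 (iv5 D22797) D22796
def n47464 : Q := act 7 n22796
theorem D47464 : act 7 n22796 = n47464 := rfl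
theorem F74644 : act 3 n47464 = n22798 := d8_1 D47464 (iv7 D22798) D22796
def n47465 : Q := act 6 n22797
theorem D47465 : act 6 n22797 = n47465 := rfl
def n47466 : Q := act 6 n22798
theorem D47466 : act 6 n22798 = n47466 := rfl
theorem F74645 : act 4 n47466 = n22799 := d10_1 D47466 (iv6 D22799) (iv4 F35346)
def n47467 : Q := act 0 n22799
theorem D47467 : act 0 n22799 = n47467 := rfl
def n47468 : Q := act 1 n22799
theorem D47468 : act 1 n22799 = n47468 := rfl
def n47469 : Q := act 5 n22799
theorem D47469 : act 5 n22799 = n47469 := rfl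
theorem F74646 : act 3 n47469 = n41199 := d6_1 D47469 (iv5 F74485) F74484
theorem F74647 : act 6 n47469 = n22800 := d12_2 D22799 D47469 (iv5 D22800) (iv6 D10772) (iv5 F17291)
def n47470 : Q := act 4 n22800
theorem D47470 : act 4 n22800 = n47470 := rfl
theorem F74648 : act 7 n47470 = n22813 := d11_2 (iv7 F35348) D47470 (iv4 D22813)
def n47471 : Q := act 0 n22802
theorem D47471 : act 0 n22802 = n47471 := rfl
def n47472 : Q := act 1 n22802
theorem D47472 : act 1 n22802 = n47472 := rfl
def n47473 : Q := act 2 n22802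
theorem D47473 : act 2 n22802 = n47473 := rfl
theorem F74649 : act 4 n47473 = n44597 := d1_2 F70771 D47473 (iv2 F70774)
def n47474 : Q := act 5 n22802
theorem D47474 : act 5 n22802 = n47474 := rfl
theorem F74650 : act 3 n47474 = n22804 := d6_1 D47474 (iv5 D22804) D22802
def n47475 : Q := act 6 n22802
theorem D47475 : act 6 n22802 = n47475 := rfl
theorem F74651 : act 3 n47475 = n22805 := d7_1 D47475 (iv6 D22805) D22802
def n47476 : Q := act 0 n22804
theorem D47476 : act 0 n22804 = n47476 := rfl
theorem F74652 : act 5 n47476 = n41623 := d17_3 D10773 D22804 D47476 F64233 (iv5 F34986) (iv0 F34989) (iv5 D10821) (iv0 D4934) (iv4 F7346)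
theorem F74653 : act 0 n44874 = n22805 := d21_4 D19618 D41671 F66311 D44874 (iv6 D22805) D22804 D47476 F74652 (iv6 D41623) F66225
theorem F74654 : act 1 n22809 = n47476 := d15_0 (iv0 D47476) (iv7 F72145) F72144
theorem F74655 : act 1 n46445 = n22805 := d15_0 (iv0 F74653) F70492 (iv2 F73323)
theorem F74656 : act 2 n44883 = n47476 := d2_3 F74652 (iv2 F65756) D44883
def n47477 : Q := act 1 n22804
theorem D47477 : act 1 n22804 = n47477 := rfl
theorem F74657 : act 1 n47477 = n22809 := d15_1 D47477 (iv7 F72136) F72135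
theorem F74658 : act 7 n47477 = n44883 := d15_2 (iv0 D47476) D47477 F74656
theorem F74659 : act 3 n41166 = n47477 := d8_3 F74658 F70514 F69718
theorem F74660 : act 5 n41742 = n47477 := d13_3 F74658 (iv5 D44883) (iv7 F65789)
def n47478 : Q := act 4 n22804
theorem D47478 : act 4 n22804 = n47478 := rfl
def n47479 : Q := act 6 n22804
theorem D47479 : act 6 n22804 = n47479 := rfl
def n47480 : Q := act 5 n22805
theorem D47480 : act 5 n22805 = n47480 := rfl
theorem F74661 : act 2 n47480 = n41779 := d2_1 D47480 (iv5 F72140) F72138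
theorem F74662 : act 7 n47480 = n41778 := d13_2 F73902 D47480 (iv5 F73908)
theorem F74663 : act 0 n47480 = n41349 := d17_2 F74653 D47480 (iv5 D41349) F31127 D19472 (iv0 F35988) (iv5 D22918) (iv0 F65711) (iv4 F70491)
theorem F74664 : act 0 n41771 = n47480 := d21_1 D41771 (iv5 D47480) (iv6 D22805) (iv1 F34323) F34319 (iv5 F34843) (iv1 F34845) D22792 (iv6 F63692) F63693
def n47481 : Q := act 0 n22807
theorem D47481 : act 0 n22807 = n47481 := rfl
def n47482 : Q := act 1 n22807
theorem D47482 : act 1 n22807 = n47482 := rfl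
def n47483 : Q := act 2 n22807
theorem D47483 : act 2 n22807 = n47483 := rfl
def n47484 : Q := act 4 n22807
theorem D47484 : act 4 n22807 = n47484 := rfl
theorem F74665 : act 3 n47484 = n23369 := d5_1 D47484 (iv4 D23369) (iv3 F66642) F66643 D22807
theorem F74666 : act 7 n47484 = n23390 := d11_2 F72134 D47484 (iv4 F72133)
theorem E8101 : n47482 = n47403 := ((c20_1 D47403 (iv1 D47482) D47484 F74665 F66874 (iv3 F61986) F61987 D44995 F70758 (iv3 F73578) (iv1 F73583))).symm
theorem F74667 : act 0 n47403 = n22807 := (sb E8101 (iv1 D47482))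
theorem E8102 : n47402 = n47183 := ((c20_5 F30927 D21464 F66804 D22699 D47183 (iv3 D47402) D47403 F74667 D47484 F74665 F66874)).symm
theorem F74668 : act 3 n47183 = n22772 := (sb E8102 (iv3 D47402))
def n47485 : Q := act 5 n22807
theorem D47485 : act 5 n22807 = n47485 := rfl
theorem F74669 : act 3 n47485 = n22809 := d6_1 D47485 (iv5 D22809) D22807
def n47486 : Q := act 6 n22807
theorem D47486 : act 6 n22807 = n47486 := rfl
theorem F74670 : act 3 n47486 = n22810 := d7_1 D47486 (iv6 D22810) D22807
def n47487 : Q := act 4 n22809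
theorem D47487 : act 4 n22809 = n47487 := rfl
def n47488 : Q := act 6 n22809
theorem D47488 : act 6 n22809 = n47488 := rfl
def n47489 : Q := act 3 n22811
theorem D47489 : act 3 n22811 = n47489 := rfl
def n47490 : Q := act 4 n22811
theorem D47490 : act 4 n22811 = n47490 := rfl
theorem F74671 : act 1 n47490 = n46677 := d18_6 (iv1 F65935) F65934 D43954 (iv4 F74590) F72162 D47490 (iv4 D46677) (iv0 F64464) (iv5 D41807)
def n47491 : Q := act 6 n22811
theorem D47491 : act 6 n22811 = n47491 := rfl
def n47492 : Q := act 3 n22812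
theorem D47492 : act 3 n22812 = n47492 := rfl
def n47493 : Q := act 4 n22812
theorem D47493 : act 4 n22812 = n47493 := rfl
theorem F74672 : act 0 n47493 = n46677 := d18_2 (iv1 F72158) D47493 (iv4 D46677) (iv5 D22383) F17195 D20495 F66643 F34321 (iv5 F72156)
def n47494 : Q := act 6 n22812
theorem D47494 : act 6 n22812 = n47494 := rfl
def n47495 : Q := act 0 n22813
theorem D47495 : act 0 n22813 = n47495 := rfl
def n47496 : Q := act 1 n22813
theorem D47496 : act 1 n22813 = n47496 := rfl
def n47497 : Q := act 3 n22813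
theorem D47497 : act 3 n22813 = n47497 := rfl
theorem F74673 : act 4 n47497 = n41196 := d5_2 D22813 D47497 (iv3 D41196) (iv4 D19367) (iv3 F17295)
def n47498 : Q := act 5 n22813
theorem D47498 : act 5 n22813 = n47498 := rfl
def n47499 : Q := act 0 n22821
theorem D47499 : act 0 n22821 = n47499 := rfl
theorem F74674 : act 1 n41175 = n47499 := d15_0 (iv0 D47499) F35395 D41175
def n47500 : Q := act 1 n22821
theorem D47500 : act 1 n22821 = n47500 := rfl
def n47501 : Q := act 2 n22821
theorem D47501 : act 2 n22821 = n47501 := rfl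
theorem F74675 : act 3 n47501 = n41161 := d0_2 D22821 D47501 (iv2 D41161) (iv3 D19359) (iv2 F17364)
theorem F74676 : act 4 n47501 = n22840 := d1_2 (iv4 F35394) D47501 (iv2 D22840)
theorem F74677 : act 7 n47501 = n41175 := d4_2 (iv7 F35395) D47501 (iv2 D41175)
theorem F74678 : act 1 n47501 = n41173 := d15_0 (iv0 D41173) (iv7 F35395) D47501
theorem F74679 : act 1 n47500 = n41175 := d15_1 D47500 (iv7 F74677) (iv2 D47501)
theorem F74680 : act 1 n41174 = n47501 := d15_1 D41174 F74677 (iv2 D41175)
theorem E8103 : n47359 = n47195 := (c20_1 (iv4 F74559) (iv1 D47195) (iv4 F72190) (iv3 D45744) F66482 (iv3 F34934) F34935 D43377 F68143 (iv3 F74675) (iv1 F74680))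
theorem F74681 : act 3 n47195 = n22752 := (sb E8103 (iv3 D47359))
theorem F74682 : act 4 n47195 = n41174 := (sb E8103 F74559)
theorem F74683 : act 3 n47471 = n41174 := d20_5 F17195 D20494 F66647 D22802 D47471 (iv4 F74682) (iv1 D47195) (iv4 F72190) (iv3 D45744) F66482
def n47502 : Q := act 5 n22821
theorem D47502 : act 5 n22821 = n47502 := rfl
theorem F74684 : act 3 n47502 = n22822 := d6_1 D47502 (iv5 D22822) D22821
theorem F74685 : act 7 n47502 = n41176 := d13_2 (iv7 F35395) D47502 (iv5 D41176)
def n47503 : Q := act 6 n22821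
theorem D47503 : act 6 n22821 = n47503 := rfl
theorem F74686 : act 3 n47503 = n22823 := d7_1 D47503 (iv6 D22823) D22821
theorem F74687 : act 4 n47503 = n22842 := d10_1 D47503 (iv6 D22842) (iv4 F35394)
def n47504 : Q := act 1 n22822
theorem D47504 : act 1 n22822 = n47504 := rfl
theorem F74688 : act 1 n47504 = n40854 := d15_1 D47504 F61955 (iv2 F35396)
theorem F74689 : act 7 n47504 = n41165 := d15_2 F69719 D47504 (iv2 F69717)
theorem F74690 : act 2 n41166 = n47504 := d4_3 F74689 (iv2 F69717) F69718
def n47505 : Q := act 4 n22822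
theorem D47505 : act 4 n22822 = n47505 := rfl
theorem F74691 : act 2 n47505 = n41167 := d1_1 D47505 (iv4 D41167) (iv2 F35396)
theorem F74692 : act 7 n47505 = n41178 := d11_2 (iv7 F35397) D47505 (iv4 D41178)
def n47506 : Q := act 6 n22822
theorem D47506 : act 6 n22822 = n47506 := rfl
theorem F74693 : act 2 n47506 = n41168 := d3_1 D47506 (iv6 D41168) (iv2 F35396)
def n47507 : Q := act 6 n22824
theorem D47507 : act 6 n22824 = n47507 := rfl
theorem F74695 : act 5 n47507 = n41512 := d12_1 D47507 F64032 (iv5 D21730) D21731 (iv5 F63430)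
def n47508 : Q := act 5 n22825
theorem D47508 : act 5 n22825 = n47508 := rfl
theorem F74698 : act 2 n47508 = n41786 := d2_1 D47508 F64438 F63337
theorem F74699 : act 7 n47508 = n41511 := d13_2 F63340 D47508 (iv5 F64030)
theorem F74700 : act 0 n47508 = n41496 := d18_0 F63982 F63984 F33278 F62484 (iv4 F62373) F62372 (iv4 D22826) D22825 D47508
theorem F74701 : act 0 n41781 = n47508 := d21_1 D41781 (iv5 D47508) (iv6 F63344) (iv1 D22258) (iv6 D10609) F6991 (iv1 F12148) F7301 D10332 (iv1 F63497)
def n47509 : Q := act 3 n22826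
theorem D47509 : act 3 n22826 = n47509 := rfl
theorem F74702 : act 4 n47509 = n22859 := d5_2 D22826 D47509 (iv3 D22859) (iv4 D10797) (iv3 F17308)
theorem F74703 : act 7 n47509 = n47503 := d8_2 (iv7 F35402) D47509 F74686
def n47510 : Q := act 5 n22826
theorem D47510 : act 5 n22826 = n47510 := rfl
theorem F74704 : act 2 n47510 = n40390 := d2_1 D47510 (iv5 F63559) F62377
theorem F74705 : act 7 n47510 = n40391 := d13_2 (iv7 F35402) D47510 (iv5 F61463)
theorem F74706 : act 0 n47510 = n40393 := d17_2 (iv1 F62157) D47510 F61464 F30639 F13925 F14136 D19262 (iv0 F62075) (iv4 F62156)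
theorem F74707 : act 1 n47510 = n40319 := d17_6 (iv1 D41363) F31155 (iv1 F63099) D10786 D22826 D47510 (iv5 D40319) D40318 F63774
def n47511 : Q := act 6 n22829
theorem D47511 : act 6 n22829 = n47511 := rfl
theorem F74709 : act 3 n47511 = n46153 := d7_1 D47511 (iv6 F73623) F73622
theorem F74710 : act 5 n47511 = n46152 := d12_1 D47511 F72799 (iv5 D41510) D41511 (iv5 F64030)
theorem F74711 : act 7 n47511 = n46835 := d14_2 (iv7 F63340) D47511 (iv6 D46835) F62779 F63344
def n47512 : Q := act 0 n22831
theorem D47512 : act 0 n22831 = n47512 := rfl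
theorem F74712 : act 3 n47512 = n46571 := d20_5 (iv4 F17177) D19375 F34854 D22831 D47512 (iv4 D46571) (iv1 D22316) F17169 F17168 D10629
def n47513 : Q := act 1 n22831
theorem D47513 : act 1 n22831 = n47513 := rfl
def n47514 : Q := act 2 n22831
theorem D47514 : act 2 n22831 = n47514 := rfl
def n47515 : Q := act 5 n22831
theorem D47515 : act 5 n22831 = n47515 := rfl
theorem F74713 : act 3 n47515 = n22832 := d6_1 D47515 (iv5 D22832) D22831
def n47516 : Q := act 4 n22832
theorem D47516 : act 4 n22832 = n47516 := rfl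
theorem F74714 : act 2 n47516 = n47434 := d1_1 D47516 F74631 F73637
theorem F74715 : act 7 n47516 = n47435 := d11_2 F65396 D47516 (iv4 F74636)
theorem F74716 : act 0 n47516 = n46611 := d18_2 (iv1 F64473) D47516 (iv4 D46611) (iv5 F64421) (iv4 F67812) (iv0 F68390) F68389 (iv0 D41810) D41812
theorem F74717 : act 1 n47516 = n46608 := d18_6 D10629 (iv4 F17177) D19375 F34854 D22832 D47516 (iv4 D46608) (iv0 D22330) (iv5 D10631)
def n47517 : Q := act 6 n22832
theorem D47517 : act 6 n22832 = n47517 := rfl
def n47518 : Q := act 2 n22838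
theorem D47518 : act 2 n22838 = n47518 := rfl
theorem F74718 : act 7 n22839 = n47518 := d15_2 (iv0 D22838) D22839 (iv2 D47518)
def n47519 : Q := act 3 n22838
theorem D47519 : act 3 n22838 = n47519 := rfl
theorem F74719 : act 4 n47519 = n47410 := d20_6 F3318 D2028 D4925 D10791 D22838 D47519 (iv1 D47410) (iv4 D22774) (iv3 D10764) (iv1 D4919)
theorem F74720 : act 0 n23390 = n47519 := d20_10 F74719 (iv1 D47410) (iv4 D22774) (iv3 D10764) (iv1 D4919) (iv3 F7340) F7341 D5001 D10979 D23390
def n47520 : Q := act 4 n22838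
theorem D47520 : act 4 n22838 = n47520 := rfl
theorem F74721 : act 0 n47520 = n45744 := d20_1 D47520 F72190 (iv3 D22704) (iv1 D10744) F7340 F3318 D2028 D4925 D10791 D22838
def n47521 : Q := act 5 n22838
theorem D47521 : act 5 n22838 = n47521 := rfl
def n47522 : Q := act 6 n22838
theorem D47522 : act 6 n22838 = n47522 := rfl
def n47523 : Q := act 7 n22838
theorem D47523 : act 7 n22838 = n47523 := rfl
theorem F74722 : act 2 n47523 = n22839 := d4_1 D47523 F74718 (iv2 D47518)
def n47524 : Q := act 3 n22839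
theorem D47524 : act 3 n22839 = n47524 := rfl
def n47525 : Q := act 4 n22839
theorem D47525 : act 4 n22839 = n47525 := rfl
theorem F74723 : act 0 n45744 = n47525 := d20_10 (iv4 D47525) (iv1 D22839) (iv4 F35394) (iv3 D22821) F17306 (iv3 F17292) F17293 (iv1 F16601) D21869 D45744
theorem F74724 : act 3 n47409 = n47525 := d20_5 F14160 (iv1 F14133) D19264 (iv3 F35338) D47409 (iv4 D47525) (iv1 D22839) (iv4 F35394) (iv3 D22821) F17306
theorem F74725 : act 0 n47524 = n46566 := d20_10 (iv4 D46566) (iv1 F73547) F73543 F73542 (iv1 F35257) D22704 (iv4 F72190) F74723 (iv4 D47525) D47524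
def n47526 : Q := act 5 n22839
theorem D47526 : act 5 n22839 = n47526 := rfl
def n47527 : Q := act 6 n22839
theorem D47527 : act 6 n22839 = n47527 := rfl
def n47528 : Q := act 5 n22840
theorem D47528 : act 5 n22840 = n47528 := rfl
theorem F74726 : act 2 n47528 = n22841 := d2_1 D47528 (iv5 D22841) D22840
def n47529 : Q := act 6 n22840
theorem D47529 : act 6 n22840 = n47529 := rfl
theorem F74727 : act 2 n47529 = n22842 := d3_1 D47529 (iv6 D22842) D22840
def n47530 : Q := act 0 n22841
theorem D47530 : act 0 n22841 = n47530 := rfl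
def n47531 : Q := act 1 n22841
theorem D47531 : act 1 n22841 = n47531 := rfl
def n47532 : Q := act 4 n22841
theorem D47532 : act 4 n22841 = n47532 := rfl
def n47533 : Q := act 6 n22841
theorem D47533 : act 6 n22841 = n47533 := rfl
theorem F74728 : act 3 n47533 = n22846 := d7_1 D47533 (iv6 D22846) (iv3 F35410)
def n47534 : Q := act 0 n22842
theorem D47534 : act 0 n22842 = n47534 := rfl
def n47535 : Q := act 1 n22842
theorem D47535 : act 1 n22842 = n47535 := rfl
def n47536 : Q := act 5 n22842
theorem D47536 : act 5 n22842 = n47536 := rfl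
theorem F74729 : act 3 n47536 = n22849 := d6_1 D47536 (iv5 D22849) (iv3 F35411)
def n47537 : Q := act 3 n22843
theorem D47537 : act 3 n22843 = n47537 := rfl
theorem F74730 : act 5 n47537 = n46321 := d6_2 (iv5 F35955) D47537 F72975
def n47538 : Q := act 4 n22843
theorem D47538 : act 4 n22843 = n47538 := rfl
theorem F74731 : act 2 n47538 = n47387 := d1_1 D47538 F74597 (iv2 F73651)
theorem F74732 : act 7 n47538 = n47388 := d11_2 F73654 D47538 F74600
theorem F74733 : act 0 n47538 = n46605 := d18_2 D22843 D47538 (iv4 D46605) (iv5 D22328) D22327 F34835 F34854 (iv0 D10789) D10792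
theorem F74734 : act 1 n47538 = n46598 := d18_6 F64467 (iv4 F64392) F64393 (iv4 F63027) (iv5 F35955) D47538 (iv4 D46598) D46597 (iv5 F73592)
def n47539 : Q := act 6 n22843
theorem D47539 : act 6 n22843 = n47539 := rfl
theorem F74735 : act 5 n47539 = n46323 := d12_1 D47539 (iv6 D46323) (iv5 D22151) D22152 (iv5 F35955)
def n47540 : Q := act 3 n22844
theorem D47540 : act 3 n22844 = n47540 := rfl
def n47541 : Q := act 4 n22844
theorem D47541 : act 4 n22844 = n47541 := rfl
theorem F74736 : act 2 n47541 = n47388 := d1_1 D47541 F74600 (iv2 F73656)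
theorem F74737 : act 7 n47541 = n47387 := d11_2 (iv7 F73652) D47541 F74597
theorem F74738 : act 0 n47541 = n46598 := d18_2 (iv1 F35413) D47541 (iv4 D46598) (iv5 D22324) (iv4 F17177) (iv0 F35586) F30770 (iv0 F35584) D10811
theorem F74739 : act 1 n47541 = n46605 := d15_1 (iv0 F74738) F73607 (iv2 F73593)
def n47542 : Q := act 5 n22844
theorem D47542 : act 5 n22844 = n47542 := rfl
theorem F74740 : act 2 n47542 = n41810 := d2_1 D47542 (iv5 F73655) (iv2 F73656)
theorem F74741 : act 7 n47542 = n41541 := d13_2 (iv7 F73652) D47542 (iv5 F73649)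
theorem F74742 : act 1 n47542 = n41492 := d17_8 (iv1 F62658) (iv5 F62685) (iv1 D10796) (iv5 D4926) D4925 D10792 D22844 D47542 (iv4 D41492)
theorem F74743 : act 0 n47542 = n41501 := d18_0 (iv4 D41501) F35494 (iv4 F34636) (iv5 F35325) D47383 F74593 (iv4 D22845) D22844 D47542
theorem F74744 : act 6 n41835 = n47542 := d21_5 (iv5 F64459) (iv1 F64460) (iv5 D19690) D19691 D41835 (iv5 D47542) (iv1 D22844) (iv5 D10792) D10793 (iv1 F62996)
def n47543 : Q := act 6 n22844
theorem D47543 : act 6 n22844 = n47543 := rfl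
def n47544 : Q := act 3 n22845
theorem D47544 : act 3 n22845 = n47544 := rfl
def n47545 : Q := act 6 n22845
theorem D47545 : act 6 n22845 = n47545 := rfl
theorem F74745 : act 4 n47545 = n22846 := d10_1 D47545 (iv6 D22846) D22845
def n47546 : Q := act 0 n22846
theorem D47546 : act 0 n22846 = n47546 := rfl
def n47547 : Q := act 1 n22846
theorem D47547 : act 1 n22846 = n47547 := rfl
def n47548 : Q := act 5 n22846
theorem D47548 : act 5 n22846 = n47548 := rfl
theorem F74746 : act 6 n47548 = n22849 := d12_2 D22846 D47548 (iv5 D22849) (iv6 D10793) D10792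
def n47549 : Q := act 7 n22846
theorem D47549 : act 7 n22846 = n47549 := rfl
def n47550 : Q := act 3 n22848
theorem D47550 : act 3 n22848 = n47550 := rfl
def n47551 : Q := act 1 n22849
theorem D47551 : act 1 n22849 = n47551 := rfl
theorem F74747 : act 1 n47551 = n46006 := d15_1 D47551 F72583 F35961
theorem F74748 : act 7 n47551 = n41523 := d15_2 (iv0 F35954) D47551 F64060
theorem F74749 : act 5 n47551 = n41488 := d17_7 (iv1 F14345) F6076 (iv1 F7033) (iv5 F7348) (iv4 F17313) D22849 D47551 (iv0 D41488) (iv4 D19533)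
theorem F74750 : act 2 n41795 = n47551 := d2_3 F74749 (iv2 F63955) D41795
def n47552 : Q := act 4 n22849
theorem D47552 : act 4 n22849 = n47552 := rfl
theorem F74751 : act 2 n47552 = n41766 := d1_1 D47552 (iv4 F64408) F35961
theorem F74752 : act 7 n47552 = n41765 := d11_2 F35559 D47552 F64404
theorem F74753 : act 5 n47552 = n46626 := d16_1 D47552 (iv4 D46626) (iv5 D22342) (iv4 D10635) D10636 D22343 (iv5 F72581) F72583 F35961
theorem F74754 : act 0 n47552 = n41484 := d18_2 (iv1 D47551) D47552 (iv4 D41484) (iv5 D19529) F14340 D9195 D19538 F63956 (iv5 F74749)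
theorem F74755 : act 1 n47552 = n41769 := d18_6 (iv1 F62394) F35333 (iv1 D10801) (iv4 F17313) D22849 D47552 F64416 F63940 F63937
def n47553 : Q := act 3 n22852
theorem D47553 : act 3 n22852 = n47553 := rfl
theorem F74756 : act 4 n47553 = n47553 := d5_2 D22852 D47553 (iv3 D47553) (iv4 D22852) F62158
theorem F74757 : act 7 n47553 = n46941 := d8_2 (iv7 F35423) D47553 F74159
def n47554 : Q := act 5 n22852
theorem D47554 : act 5 n22852 = n47554 := rfl
theorem F74758 : act 2 n47554 = n41738 := d2_1 D47554 (iv5 F64377) F35554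
theorem F74759 : act 7 n47554 = n41737 := d13_2 (iv7 F35423) D47554 F64374
theorem F74760 : act 0 n47554 = n41478 := d17_2 (iv1 F35425) D47554 (iv5 D41478) (iv4 F31268) D40401 (iv0 F64474) (iv5 F62406) F62404 (iv4 F35337)
theorem F74761 : act 1 n47554 = n41481 := d17_6 (iv1 F14341) D19539 F35494 (iv5 F17317) D22852 D47554 (iv5 D41481) F31262 F14430
def n47555 : Q := act 6 n22852
theorem D47555 : act 6 n22852 = n47555 := rfl
theorem F74762 : act 2 n47555 = n43982 := d3_1 D47555 F69158 F35554
theorem F74763 : act 4 n47555 = n22853 := d10_1 D47555 (iv6 D22853) D22852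
theorem F74764 : act 7 n47555 = n46351 := d14_2 (iv7 F35423) D47555 F73015 F35446 D22571
theorem F74765 : act 5 n47555 = n41643 := d21_6 D21417 D44879 F70511 (iv6 F70489) (iv1 F35425) D47555 (iv1 F71985) (iv5 D45651) F62613 (iv1 F66221)
theorem F74766 : act 0 n45733 = n47555 := d21_4 D44883 (iv1 F72146) (iv5 D45732) D45733 (iv6 D47555) D47554 F74760 (iv5 D41478) D41479 F66327
theorem F74767 : act 1 n46929 = n47555 := d15_1 D46929 F74764 F73014
theorem E8104 : n45633 = n41482 := (c21_5 (iv5 F74139) (iv1 D45630) (iv5 D21797) D21798 D45633 (iv6 D41482) D41481 (iv1 F74761) (iv5 D47554) D47555 (iv1 F74767))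
theorem F74768 : act 0 n41482 = n46799 := (sb E8104 (iv1 F73931))
theorem F74769 : act 1 n41482 = n21798 := (sb E8104 (iv0 D45633))
theorem E8105 : n45634 = n41758 := (c15_2 F74769 D45634 (iv7 D41758) (iv2 F63936))
theorem F74770 : act 0 n41758 = n21798 := (sb E8105 (iv1 D45634))
theorem F74771 : act 1 n41758 = n46799 := (sb E8105 F73930)
def n47556 : Q := act 5 n22855
theorem D47556 : act 5 n22855 = n47556 := rfl
theorem F74772 : act 2 n47556 = n41737 := d2_1 D47556 F64374 (iv2 F35433)
theorem F74773 : act 3 n47556 = n42763 := d6_1 D47556 (iv5 D42763) (iv3 F62696)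
theorem F74774 : act 7 n47556 = n41738 := d13_2 (iv7 F35553) D47556 (iv5 F64377)
theorem F74775 : act 0 n47556 = n41481 := d17_2 (iv1 F35436) D47556 (iv5 D41481) F58693 (iv5 F67813) (iv0 F68390) (iv5 D43516) F62998 (iv4 F34828)
theorem F74776 : act 1 n47556 = n41478 := d17_6 D9194 D19534 (iv1 F62658) (iv5 F62685) D22855 D47556 (iv5 D41478) (iv0 D19527) F14340
def n47557 : Q := act 3 n22857
theorem D47557 : act 3 n22857 = n47557 := rfl
theorem F74777 : act 7 n47557 = n46909 := d8_2 (iv7 F63011) D47557 F74120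
def n47558 : Q := act 5 n22857
theorem D47558 : act 5 n22857 = n47558 := rfl
theorem F74778 : act 2 n47558 = n41802 := d2_1 D47558 F64462 (iv2 F63019)
theorem F74779 : act 7 n47558 = n41801 := d13_2 (iv7 F63011) D47558 F64459
theorem F74780 : act 0 n47558 = n41490 := d17_2 D22857 D47558 (iv5 D41490) (iv4 D19533) D19534 (iv0 F34631) (iv5 F17317) (iv0 D10795) D10797
theorem F74781 : act 1 n47558 = n41499 := d17_6 (iv1 F58699) D41751 F64393 F63009 F62387 D47558 (iv5 D41499) F63956 F63954
def n47559 : Q := act 6 n22857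
theorem D47559 : act 6 n22857 = n47559 := rfl
theorem F74782 : act 2 n47559 = n46327 := d3_1 D47559 F72979 (iv2 F63019)
theorem F74784 : act 5 n47559 = n41542 := d21_6 D22016 (iv1 F72649) F72650 (iv6 D22861) D22857 D47559 (iv1 F64103) F34609 (iv6 F31367) (iv1 F31369)
theorem F74785 : act 0 n47559 = n46904 := d21_10 (iv5 F74117) (iv1 D46313) (iv5 D22146) D22147 (iv1 F64500) (iv6 D41500) D41499 (iv1 F74781) (iv5 D47558) D47559
def n47560 : Q := act 3 n22858
theorem D47560 : act 3 n22858 = n47560 := rfl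
theorem F74788 : act 6 n47560 = n46468 := d7_2 F63021 D47560 (iv3 D46468)
theorem F74789 : act 7 n47560 = n47550 := d8_2 F63018 D47560 (iv3 D47550)
def n47561 : Q := act 5 n22858
theorem D47561 : act 5 n22858 = n47561 := rfl
theorem F74790 : act 2 n47561 = n41801 := d2_1 D47561 F64459 (iv2 F63015)
theorem F74791 : act 7 n47561 = n41802 := d13_2 F63018 D47561 F64462
theorem F74792 : act 0 n47561 = n41499 := d17_2 (iv1 F35557) D47561 (iv5 D41499) (iv4 D19538) D19539 (iv0 F62657) (iv5 F62685) F17318 D10813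
theorem F74793 : act 0 n41490 = n47561 := d21_1 D41490 (iv5 D47561) (iv6 F63021) (iv1 D22264) (iv6 D10612) D10611 F17136 (iv5 D10483) D10484 (iv1 F63435)
def n47562 : Q := act 0 n22859
theorem D47562 : act 0 n22859 = n47562 := rfl
theorem F74794 : act 1 n47529 = n47562 := d15_0 (iv0 D47562) F35558 (iv2 F74727)
def n47563 : Q := act 1 n22859
theorem D47563 : act 1 n22859 = n47563 := rfl
def n47564 : Q := act 2 n22859
theorem D47564 : act 2 n22859 = n47564 := rfl
theorem F74795 : act 7 n47564 = n47529 := d4_2 (iv7 F35558) D47564 F74727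
theorem F74796 : act 1 n47564 = n47534 := d15_0 (iv0 D47534) (iv7 F35558) D47564
theorem F74797 : act 1 n47563 = n47529 := d15_1 D47563 (iv7 F74795) (iv2 D47564)
theorem F74798 : act 1 n47535 = n47564 := d15_1 D47535 F74795 F74727
def n47565 : Q := act 5 n22859
theorem D47565 : act 5 n22859 = n47565 := rfl
theorem F74799 : act 3 n47565 = n22860 := d6_1 D47565 (iv5 D22860) D22859
theorem F74800 : act 7 n47565 = n47536 := d13_2 (iv7 F35558) D47565 (iv5 D47536)
def n47566 : Q := act 6 n22859
theorem D47566 : act 6 n22859 = n47566 := rfl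
theorem F74801 : act 3 n47566 = n22861 := d7_1 D47566 (iv6 D22861) D22859
theorem F74802 : act 7 n47566 = n46633 := d14_2 (iv7 F35558) D47566 (iv6 D46633) F34885 D22842
def n47567 : Q := act 6 n22860
theorem D47567 : act 6 n22860 = n47567 := rfl
def n47568 : Q := act 5 n22869
theorem D47568 : act 5 n22869 = n47568 := rfl
theorem F74803 : act 2 n47568 = n22879 := d2_1 D47568 (iv5 D22879) (iv2 F35572)
theorem F74804 : act 3 n47568 = n45811 := d6_1 D47568 F72322 F70445
theorem F74805 : act 6 n47568 = n44006 := d12_2 D22869 D47568 (iv5 D44006) F63117 (iv5 D22868)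
theorem F74806 : act 0 n47568 = n22878 := d17_2 (iv1 F65874) D47568 F65929 F65907 D20800 F69019 F69018 F65552 (iv4 F65548)
theorem F74807 : act 4 n47568 = n42501 := d17_4 (iv1 F65855) F65858 (iv1 F65874) D47568 (iv5 F69077) F69076 (iv5 D20841) F32980 F65790
theorem F74808 : act 0 n41487 = n45815 := d21_4 F63348 F65477 (iv5 D41486) D41487 (iv6 D45815) F65858 (iv1 F65874) D47568 F74805 F69228
theorem F74809 : act 0 n22877 = n47568 := d21_1 (iv5 F64145) (iv5 D47568) (iv6 D22869) F63131 (iv6 D9854) (iv5 D4466) (iv1 F6543) (iv5 F7142) D9211 D19578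
theorem F74810 : act 7 n22869 = n47568 := d11_0 F74807 F68121 F68119
def n47569 : Q := act 0 n22871
theorem D47569 : act 0 n22871 = n47569 := rfl
def n47570 : Q := act 1 n22871
theorem D47570 : act 1 n22871 = n47570 := rfl
def n47571 : Q := act 2 n22871
theorem D47571 : act 2 n22871 = n47571 := rfl
theorem F74811 : act 4 n47571 = n22882 := d1_2 (iv4 F35573) D47571 (iv2 D22882)
def n47572 : Q := act 5 n22871
theorem D47572 : act 5 n22871 = n47572 := rfl
theorem F74812 : act 3 n47572 = n22872 := d6_1 D47572 (iv5 D22872) D22871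
def n47573 : Q := act 6 n22871
theorem D47573 : act 6 n22871 = n47573 := rfl
theorem F74813 : act 3 n47573 = n22873 := d7_1 D47573 (iv6 D22873) D22871
theorem F74814 : act 4 n47573 = n22884 := d10_1 D47573 (iv6 D22884) (iv4 F35573)
def n47574 : Q := act 0 n22872
theorem D47574 : act 0 n22872 = n47574 := rfl
theorem F74815 : act 5 n47574 = n43528 := d17_3 F31083 D22872 D47574 (iv4 D43528) (iv5 D20591) (iv0 F35619) (iv5 F31090) F14227 D19424
theorem F74816 : act 1 n42356 = n47574 := d15_0 (iv0 D47574) (iv7 F68112) F68111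
theorem F74817 : act 7 n44146 = n47574 := d13_0 F74815 F68404 D44146
def n47575 : Q := act 1 n22872
theorem D47575 : act 1 n22872 = n47575 := rfl
theorem F74818 : act 1 n47575 = n42356 := d15_1 D47575 (iv7 F68117) F68116
theorem F74819 : act 5 n47575 = n44032 := d17_7 F64481 (iv5 F63348) (iv1 D22875) (iv5 D10808) D10807 D22872 D47575 F69310 F67873
theorem F74820 : act 2 n44146 = n47575 := d2_3 F74819 F69308 D44146
def n47576 : Q := act 4 n22872
theorem D47576 : act 4 n22872 = n47576 := rfl
def n47577 : Q := act 6 n22872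
theorem D47577 : act 6 n22872 = n47577 := rfl
def n47578 : Q := act 5 n22874
theorem D47578 : act 5 n22874 = n47578 := rfl
theorem F74821 : act 2 n47578 = n41822 := d2_1 D47578 F67697 F63346
theorem F74822 : act 3 n47578 = n47508 := d6_1 D47578 (iv5 D47508) (iv3 F62453)
theorem F74823 : act 6 n47578 = n41824 := d12_2 (iv6 F63345) D47578 F71738 F73943 (iv5 D46818)
theorem F74824 : act 7 n47578 = n41821 := d13_2 F73626 D47578 (iv5 F73620)
theorem F74825 : act 0 n47578 = n41816 := d17_2 D22874 D47578 (iv5 D41816) (iv4 F63532) D43244 F68403 (iv5 D43525) (iv0 F62999) (iv4 D22876)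
theorem F74826 : act 0 n41486 = n47578 := d21_10 (iv5 D47578) F69230 (iv5 D44006) F63117 F63332 (iv6 D22499) D22498 (iv1 F73983) (iv5 F73984) F70502
def n47579 : Q := act 3 n22876
theorem D47579 : act 3 n22876 = n47579 := rfl
theorem F74827 : act 4 n47579 = n22891 := d5_2 D22876 D47579 (iv3 D22891) (iv4 D10813) (iv3 F17331)
theorem F74828 : act 6 n47579 = n43363 := d7_2 F35636 D47579 (iv3 D43363)
def n47580 : Q := act 6 n22877
theorem D47580 : act 6 n22877 = n47580 := rfl
theorem F74829 : act 2 n47580 = n44818 := d3_1 D47580 (iv6 D44818) (iv2 F65922)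
theorem F74830 : act 3 n47580 = n46661 := d7_1 D47580 F73739 F72226
theorem F74831 : act 7 n47580 = n46656 := d14_2 F65921 D47580 (iv6 D46656) F65774 D42431
theorem F74832 : act 0 n47580 = n43826 := d21_10 F68881 (iv1 D43269) (iv5 D20422) (iv6 D9699) (iv1 F12164) D9211 F14390 D19578 (iv5 F64145) D47580
def n47581 : Q := act 3 n22881
theorem D47581 : act 3 n22881 = n47581 := rfl
theorem F74833 : act 4 n47581 = n43824 := d5_2 F66883 D47581 F68876 F32903 (iv3 F65449)
theorem F74834 : act 6 n47581 = n40861 := d7_2 F74045 D47581 (iv3 F74043)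
theorem F74835 : act 7 n47581 = n23317 := d8_2 (iv7 F66884) D47581 (iv3 F65446)
theorem F74836 : act 4 n47194 = n41173 := d20_0 (iv1 F74678) F74676 (iv3 F73643) (iv1 F73646) D47581 F74833 (iv1 F68878) F66813 D22704 D47194
theorem F74837 : act 2 n23388 = n47581 := d4_3 F74835 F36430 (iv7 F66741)
theorem F74838 : act 1 n23369 = n47581 := d15_1 (iv0 F66874) F74835 F36430
theorem F74839 : act 1 n47581 = n23365 := d15_1 F74838 F66588 (iv2 F66577)
def n47582 : Q := act 5 n22881
theorem D47582 : act 5 n22881 = n47582 := rfl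
def n47583 : Q := act 5 n22882
theorem D47583 : act 5 n22882 = n47583 := rfl
theorem F74840 : act 2 n47583 = n22883 := d2_1 D47583 (iv5 D22883) D22882
def n47584 : Q := act 6 n22882
theorem D47584 : act 6 n22882 = n47584 := rfl
theorem F74841 : act 2 n47584 = n22884 := d3_1 D47584 (iv6 D22884) D22882
def n47585 : Q := act 0 n22883
theorem D47585 : act 0 n22883 = n47585 := rfl
def n47586 : Q := act 1 n22883
theorem D47586 : act 1 n22883 = n47586 := rfl
def n47587 : Q := act 4 n22883
theorem D47587 : act 4 n22883 = n47587 := rfl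
def n47588 : Q := act 6 n22883
theorem D47588 : act 6 n22883 = n47588 := rfl
theorem F74842 : act 3 n47588 = n22886 := d7_1 D47588 (iv6 D22886) (iv3 F35579)
def n47589 : Q := act 0 n22884
theorem D47589 : act 0 n22884 = n47589 := rfl
def n47590 : Q := act 1 n22884
theorem D47590 : act 1 n22884 = n47590 := rfl
theorem F74843 : act 4 n43443 = n47590 := d20_6 (iv4 D43855) (iv1 F35612) (iv4 F63641) F68304 (iv1 D43449) (iv3 F68296) (iv1 D47590) (iv4 F74814) F74813 (iv1 F68945)
theorem F74844 : act 3 n47590 = n41015 := d5_1 F74843 (iv4 F73978) F73977 F62985 (iv3 F68296)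
theorem F74845 : act 6 n47590 = n41012 := d10_2 D43443 F74843 F62984
def n47591 : Q := act 5 n22884
theorem D47591 : act 5 n22884 = n47591 := rfl
theorem F74846 : act 3 n47591 = n22889 := d6_1 D47591 (iv5 D22889) (iv3 F35580)
def n47592 : Q := act 7 n22884
theorem D47592 : act 7 n22884 = n47592 := rfl
theorem F74847 : act 3 n47592 = n22890 := d8_1 D47592 (iv7 D22890) (iv3 F35580)
theorem F74848 : act 6 n47592 = n46628 := d14_1 D47592 F73660 F35960 F34867 D22884
def n47593 : Q := act 3 n22885
theorem D47593 : act 3 n22885 = n47593 := rfl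
def n47594 : Q := act 6 n22885
theorem D47594 : act 6 n22885 = n47594 := rfl
theorem F74849 : act 4 n47594 = n22886 := d10_1 D47594 (iv6 D22886) D22885
def n47595 : Q := act 0 n22886
theorem D47595 : act 0 n22886 = n47595 := rfl
def n47596 : Q := act 1 n22886
theorem D47596 : act 1 n22886 = n47596 := rfl
def n47597 : Q := act 5 n22886
theorem D47597 : act 5 n22886 = n47597 := rfl
theorem F74850 : act 6 n47597 = n22889 := d12_2 D22886 D47597 (iv5 D22889) (iv6 D10812) D10811
def n47598 : Q := act 7 n22886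
theorem D47598 : act 7 n22886 = n47598 := rfl
def n47599 : Q := act 3 n22887
theorem D47599 : act 3 n22887 = n47599 := rfl
def n47600 : Q := act 4 n22889
theorem D47600 : act 4 n22889 = n47600 := rfl
theorem F74851 : act 0 n47600 = n44880 := d17_0 F72712 (iv1 F72690) (iv5 D46108) (iv4 D22020) (iv5 D10496) D10495 D22016 F65852 D47600
theorem F74852 : act 1 n47600 = n46115 := d18_6 (iv1 F70487) F34981 F17366 (iv4 F17334) D22889 D47600 (iv4 D46115) F70509 F70511
def n47601 : Q := act 7 n22889
theorem D47601 : act 7 n22889 = n47601 := rfl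
theorem F74853 : act 2 n47601 = n46083 := d4_1 D47601 (iv7 F73676) F73675
theorem F74854 : act 5 n47601 = n22890 := d13_1 D47601 (iv7 D22890) D22889
theorem F74855 : act 1 n41595 = n47601 := d15_1 F73678 (iv7 D47601) (iv2 F73675)
theorem F74856 : act 1 n47601 = n41600 := d15_1 F74855 (iv7 F65850) (iv2 F65851)
def n47602 : Q := act 0 n22891
theorem D47602 : act 0 n22891 = n47602 := rfl
def n47603 : Q := act 1 n22891
theorem D47603 : act 1 n22891 = n47603 := rfl
def n47604 : Q := act 2 n22891
theorem D47604 : act 2 n22891 = n47604 := rfl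
theorem F74857 : act 3 n47604 = n47529 := d0_2 D22891 D47604 F74727 F35411 F17360
theorem F74858 : act 6 n47604 = n46622 := d3_2 (iv6 F35960) D47604 (iv2 D46622)
def n47605 : Q := act 5 n22891
theorem D47605 : act 5 n22891 = n47605 := rfl
theorem F74859 : act 3 n47605 = n22892 := d6_1 D47605 (iv5 D22892) D22891
def n47606 : Q := act 6 n22892
theorem D47606 : act 6 n22892 = n47606 := rfl
theorem F74860 : act 2 n47606 = n47548 := d3_1 D47606 F74746 (iv2 F35961)
theorem F74861 : act 5 n47606 = n46627 := d12_1 D47606 (iv6 D46627) (iv5 D22342) (iv6 F17335) D22892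
def n47607 : Q := act 3 n22895
theorem D47607 : act 3 n22895 = n47607 := rfl
theorem F74862 : act 4 n47607 = n23654 := d5_2 D22895 D47607 (iv3 D23654) (iv4 D11078) (iv3 F17368)
def n47608 : Q := act 5 n22895
theorem D47608 : act 5 n22895 = n47608 := rfl
theorem F74864 : act 7 n47608 = n22945 := d13_2 (iv7 F35966) D47608 (iv5 D22945)
def n47609 : Q := act 1 n22905
theorem D47609 : act 1 n22905 = n47609 := rfl
theorem F74865 : act 7 n47609 = n45817 := d15_2 (iv0 F70450) D47609 F72360
theorem F74866 : act 5 n41791 = n47609 := d13_3 F74865 (iv5 D45817) (iv7 F72329)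
def n47610 : Q := act 4 n22905
theorem D47610 : act 4 n22905 = n47610 := rfl
theorem F74867 : act 0 n47610 = n42733 := d18_2 (iv1 D47609) D47610 F66936 F32001 (iv4 F33033) (iv0 F65938) F64436 D41791 F74866
def n47611 : Q := act 6 n22905
theorem D47611 : act 6 n22905 = n47611 := rfl
theorem F74868 : act 3 n47611 = n22916 := d7_1 D47611 (iv6 D22916) (iv3 F35975)
def n47612 : Q := act 0 n22910
theorem D47612 : act 0 n22910 = n47612 := rfl
theorem F74869 : act 4 n47612 = n46630 := d20_0 (iv1 D46630) F34884 (iv3 D19362) (iv1 D9091) (iv3 F7345) F7346 D4934 D10820 D22910 D47612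
theorem F74870 : act 3 n41212 = n47612 := d20_5 F6006 D4087 D9096 D19383 D41212 F74869 (iv1 D46630) F34884 (iv3 D19362) (iv1 D9091)
def n47613 : Q := act 1 n22910
theorem D47613 : act 1 n22910 = n47613 := rfl
theorem F74871 : act 4 n46629 = n47613 := d20_0 (iv1 D47613) (iv4 F74400) (iv3 D47144) (iv1 F35256) F17279 F7344 (iv1 F7033) D10639 D22348 D46629
def n47614 : Q := act 2 n22910
theorem D47614 : act 2 n22910 = n47614 := rfl
theorem F74872 : act 1 n47614 = n47525 := d15_0 (iv0 F74723) F72191 D47614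
def n47615 : Q := act 5 n22910
theorem D47615 : act 5 n22910 = n47615 := rfl
theorem F74873 : act 3 n47615 = n22911 := d6_1 D47615 (iv5 D22911) D22910
def n47616 : Q := act 6 n22910
theorem D47616 : act 6 n22910 = n47616 := rfl
theorem F74874 : act 3 n47616 = n22912 := d7_1 D47616 (iv6 D22912) D22910
def n47617 : Q := act 0 n22911
theorem D47617 : act 0 n22911 = n47617 := rfl
theorem F74875 : act 5 n47617 = n41601 := d17_3 F66633 D22911 D47617 F65934 D43956 (iv0 F69107) (iv5 D23385) F66561 (iv4 F34687)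
theorem F74876 : act 1 n22928 = n47617 := d15_0 (iv0 D47617) (iv7 F72193) F72192
theorem F74877 : act 2 n46095 = n47617 := d2_3 F74875 F65848 D46095
def n47618 : Q := act 1 n22911
theorem D47618 : act 1 n22911 = n47618 := rfl
theorem F74878 : act 1 n47618 = n22928 := d15_1 D47618 (iv7 F72175) F72174
theorem F74879 : act 7 n47618 = n46095 := d15_2 (iv0 D47617) D47618 F74877
theorem F74880 : act 5 n41806 = n47618 := d13_3 F74879 (iv5 D46095) (iv7 F65936)
def n47619 : Q := act 4 n22911
theorem D47619 : act 4 n22911 = n47619 := rfl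
def n47620 : Q := act 6 n22911
theorem D47620 : act 6 n22911 = n47620 := rfl
def n47621 : Q := act 5 n22912
theorem D47621 : act 5 n22912 = n47621 := rfl
theorem F74881 : act 2 n47621 = n46021 := d2_1 D47621 (iv5 F72600) F72176
theorem F74882 : act 7 n47621 = n46020 := d13_2 F73919 D47621 (iv5 F73920)
theorem F74883 : act 1 n47621 = n46023 := d17_6 F31129 D19697 F35989 (iv5 D22918) (iv4 F35979) D47621 F72601 (iv0 F63726) (iv4 D41351)
theorem F74884 : act 0 n47621 = n41520 := d21_1 D47621 (iv5 D41520) (iv6 D19549) (iv1 F14361) D9214 D19589 D41602 F64204 (iv6 F73873) (iv1 F73874)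
def n47622 : Q := act 4 n22914
theorem D47622 : act 4 n22914 = n47622 := rfl
def n47623 : Q := act 0 n22915
theorem D47623 : act 0 n22915 = n47623 := rfl
theorem F74886 : act 4 n47623 = n43956 := d18_3 (iv1 D22914) D22915 D47623 (iv5 D43956) (iv4 F65934) F65935 F31429 D19679 F35985
theorem F74887 : act 1 n22930 = n47623 := d15_0 (iv0 D47623) (iv7 F72198) F72196
def n47624 : Q := act 1 n22915
theorem D47624 : act 1 n22915 = n47624 := rfl
theorem F74888 : act 1 n47624 = n22930 := d15_1 D47624 (iv7 F72185) F72184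
def n47625 : Q := act 3 n22915
theorem D47625 : act 3 n22915 = n47625 := rfl
def n47626 : Q := act 5 n22915
theorem D47626 : act 5 n22915 = n47626 := rfl
def n47627 : Q := act 6 n22915
theorem D47627 : act 6 n22915 = n47627 := rfl
theorem F74889 : act 4 n47627 = n22916 := d10_1 D47627 (iv6 D22916) D22915
def n47628 : Q := act 5 n22916
theorem D47628 : act 5 n22916 = n47628 := rfl
def n47629 : Q := act 4 n22918
theorem D47629 : act 4 n22918 = n47629 := rfl
theorem F74894 : act 0 n47629 = n41407 := d18_2 F35989 D47629 F63854 (iv5 D20417) (iv4 F31291) (iv0 F63735) (iv4 D41353) F31130 D19697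
def n47630 : Q := act 0 n22925
theorem D47630 : act 0 n22925 = n47630 := rfl
theorem F74895 : act 1 n43825 = n47630 := d15_0 (iv0 D47630) (iv7 F69233) F69231
def n47631 : Q := act 1 n22925
theorem D47631 : act 1 n22925 = n47631 := rfl
theorem F74896 : act 1 n47631 = n43825 := d15_1 D47631 (iv7 F69239) F69238
theorem F74897 : act 6 n23035 = n47631 := d21_9 (iv5 D22925) F66796 D20750 F32902 (iv1 F32372) (iv6 F67693) (iv5 D43221) F65640 D23035 (iv1 D47631)
theorem F74898 : act 3 n47631 = n23047 := d7_1 F74897 (iv6 D23047) (iv3 F36084)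
theorem F74899 : act 5 n47631 = n41578 := d12_1 F74897 (iv6 D41578) (iv5 F65929) F65930 D23035
theorem F74900 : act 0 n22926 = n46153 := d21_4 (iv5 F74899) (iv1 D47631) (iv5 D22925) D22926 (iv6 F73623) F73620 (iv1 F67710) (iv5 D43222) D43223 (iv1 F69035)
theorem F74901 : act 1 n44096 = n46142 := d18_6 F68175 F68174 F74900 F72806 (iv5 F68309) D44096 (iv4 D46142) (iv0 F68358) (iv5 D43499)
theorem F74902 : act 1 n22926 = n23203 := d15_1 (iv0 F74900) (iv7 F71806) (iv2 F72804)
def n47632 : Q := act 4 n22925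
theorem D47632 : act 4 n22925 = n47632 := rfl
theorem F74903 : act 1 n47632 = n42509 := d18_6 (iv1 F66483) (iv4 F31799) (iv1 F32585) F66505 D22925 D47632 F65989 F66493 (iv5 D10995)
def n47633 : Q := act 6 n22925
theorem D47633 : act 6 n22925 = n47633 := rfl
theorem F74904 : act 2 n47633 = n42595 := d3_1 D47633 F69240 F69238
theorem F74905 : act 3 n47633 = n22931 := d7_1 D47633 (iv6 D22931) (iv3 F35991)
theorem F74906 : act 0 n40450 = n47633 := d21_4 (iv5 D20386) (iv1 F17391) D19118 D40450 (iv6 D47633) (iv5 D22925) F66796 D20750 F32902 (iv1 F32372)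
theorem F74907 : act 4 n47633 = n42607 := d18_1 F74906 (iv1 F68542) F68538 (iv5 F33200) (iv4 F69564) F69568 (iv4 F73087) (iv0 D44201) (iv5 F61544)
theorem F74908 : act 2 n42607 = n43598 := d1_1 F74907 F73133 (iv2 F74904)
theorem F74910 : act 7 n43599 = n42607 := d15_2 (iv0 D43598) D43599 F74908
theorem F74911 : act 7 n42608 = n43598 := d15_2 (iv0 D42607) D42608 (iv2 F74908)
theorem F74913 : act 7 n47633 = n43137 := d11_2 F74910 (iv4 F74907) (iv4 F68535)
theorem E8106 : n43137 = n42596 := ((c15_2 (iv0 D42595) D42596 (iv7 F74913) F74904)).symm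
theorem F74914 : act 3 n42596 = n20348 := (sb E8106 (iv3 D43137))
theorem F74916 : act 7 n42596 = n47633 := (sb E8106 (iv7 F74913))
def n47634 : Q := act 2 n22927
theorem D47634 : act 2 n22927 = n47634 := rfl
def n47635 : Q := act 5 n22927
theorem D47635 : act 5 n22927 = n47635 := rfl
theorem F74917 : act 3 n47635 = n22928 := d6_1 D47635 (iv5 D22928) D22927
def n47636 : Q := act 6 n22927
theorem D47636 : act 6 n22927 = n47636 := rfl
theorem F74918 : act 3 n47636 = n22929 := d7_1 D47636 (iv6 D22929) D22927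
def n47637 : Q := act 4 n22928
theorem D47637 : act 4 n22928 = n47637 := rfl
def n47638 : Q := act 6 n22928
theorem D47638 : act 6 n22928 = n47638 := rfl
def n47639 : Q := act 5 n22929
theorem D47639 : act 5 n22929 = n47639 := rfl
theorem F74921 : act 1 n47639 = n41537 := d17_6 D9205 D19563 (iv1 F62651) F62652 (iv4 F35993) D47639 (iv5 D41537) (iv0 D19556) F14372
theorem F74922 : act 0 n47639 = n41540 := d21_7 D41812 (iv1 F64473) (iv5 D22832) (iv6 F35655) F66539 D22929 D47639 (iv5 D41540) D41541 (iv1 F64097)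
def n47640 : Q := act 3 n22930
theorem D47640 : act 3 n22930 = n47640 := rfl
def n47641 : Q := act 5 n22930
theorem D47641 : act 5 n22930 = n47641 := rfl
def n47642 : Q := act 6 n22930
theorem D47642 : act 6 n22930 = n47642 := rfl
theorem F74923 : act 2 n47642 = n43135 := d3_1 D47642 (iv6 F72197) F72196
theorem F74924 : act 4 n47642 = n22931 := d10_1 D47642 (iv6 D22931) D22930
theorem F74925 : act 7 n43138 = n47642 := d11_0 F74924 (iv7 F66859) D43138
def n47643 : Q := act 1 n22935
theorem D47643 : act 1 n22935 = n47643 := rfl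
def n47644 : Q := act 4 n22935
theorem D47644 : act 4 n22935 = n47644 := rfl
theorem F74926 : act 2 n47644 = n23429 := d1_1 D47644 F70686 (iv2 F70684)
theorem F74927 : act 7 n47644 = n23430 := d11_2 (iv7 F64449) D47644 (iv4 F64450)
theorem F74928 : act 0 n47644 = n23433 := d20_7 D11013 F17875 (iv4 D5063) (iv3 F7353) D10828 D22935 D47644 F36540 F17844 (iv1 F7435)
theorem E8107 : n47643 = n41366 := (c18_9 F66797 F35258 (iv1 F35256) F17280 (iv5 F17845) (iv4 F36540) (iv0 F74928) (iv4 D47644) D47643 F63785)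
theorem F74929 : act 0 n41366 = n22935 := (sb E8107 (iv1 D47643))
theorem F74930 : act 0 n23374 = n47644 := d20_1 D23374 (iv4 D47644) (iv3 D22935) (iv1 F34336) F34332 (iv4 F72208) (iv1 F72210) (iv4 F66691) F66689 (iv1 D23373)
def n47645 : Q := act 6 n22935
theorem D47645 : act 6 n22935 = n47645 := rfl
theorem F74931 : act 3 n47645 = n22937 := d7_1 D47645 (iv6 D22937) D22935
def n47646 : Q := act 0 n22936
theorem D47646 : act 0 n22936 = n47646 := rfl
theorem F74932 : act 4 n47646 = n42649 := d18_3 D10828 D22936 D47646 F66694 (iv4 F34936) F66540 (iv4 D10820) (iv0 D4934) D4936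
theorem F74933 : act 1 n22940 = n47646 := d15_0 (iv0 D47646) (iv7 F64479) F64478
theorem F74934 : act 7 n47646 = n42646 := d15_2 (iv0 F66635) F74933 F66479
def n47647 : Q := act 3 n22936
theorem D47647 : act 3 n22936 = n47647 := rfl
def n47648 : Q := act 5 n22936
theorem D47648 : act 5 n22936 = n47648 := rfl
def n47649 : Q := act 6 n22936
theorem D47649 : act 6 n22936 = n47649 := rfl
theorem F74935 : act 4 n47649 = n22937 := d10_1 D47649 (iv6 D22937) D22936
def n47651 : Q := act 1 n22937
theorem D47651 : act 1 n22937 = n47651 := rfl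
def n47652 : Q := act 3 n22940
theorem D47652 : act 3 n22940 = n47652 := rfl
def n47653 : Q := act 5 n22940
theorem D47653 : act 5 n22940 = n47653 := rfl
def n47654 : Q := act 3 n22942
theorem D47654 : act 3 n22942 = n47654 := rfl
def n47655 : Q := act 5 n22942
theorem D47655 : act 5 n22942 = n47655 := rfl
def n47656 : Q := act 6 n22942
theorem D47656 : act 6 n22942 = n47656 := rfl
def n47657 : Q := act 3 n22943
theorem D47657 : act 3 n22943 = n47657 := rfl
def n47658 : Q := act 5 n22943
theorem D47658 : act 5 n22943 = n47658 := rfl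
def n47659 : Q := act 0 n22944
theorem D47659 : act 0 n22944 = n47659 := rfl
def n47661 : Q := act 2 n22944
theorem D47661 : act 2 n22944 = n47661 := rfl
theorem F74937 : act 6 n47661 = n22974 := d3_2 (iv6 F36000) D47661 (iv2 D22974)
def n47662 : Q := act 5 n22944
theorem D47662 : act 5 n22944 = n47662 := rfl
theorem F74938 : act 3 n47662 = n22945 := d6_1 D47662 (iv5 D22945) D22944
def n47663 : Q := act 0 n22945
theorem D47663 : act 0 n22945 = n47663 := rfl
def n47664 : Q := act 1 n22945
theorem D47664 : act 1 n22945 = n47664 := rfl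
def n47665 : Q := act 4 n22945
theorem D47665 : act 4 n22945 = n47665 := rfl
def n47666 : Q := act 6 n22945
theorem D47666 : act 6 n22945 = n47666 := rfl
theorem F74939 : act 5 n47666 = n22979 := d12_1 D47666 (iv6 D22979) (iv5 D10846) (iv6 F17372) D22945
def n47667 : Q := act 4 n22946
theorem D47667 : act 4 n22946 = n47667 := rfl
theorem F74940 : act 0 n47667 = n34439 := d18_2 F56215 D47667 (iv4 D34439) F28188 F31199 (iv0 F31203) (iv4 F31211) F31214 D35547
theorem F74941 : act 1 n47667 = n34442 := d18_6 (iv1 D8491) (iv4 F13096) F28060 F28058 D22946 D47667 (iv4 D34442) (iv0 F29161) (iv5 D18002)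
def n47668 : Q := act 6 n22946
theorem D47668 : act 6 n22946 = n47668 := rfl
theorem F74942 : act 2 n47668 = n40092 := d3_1 D47668 F60988 F55994
theorem F74943 : act 3 n47668 = n22948 := d7_1 D47668 (iv6 D22948) (iv3 F36001)
theorem F74944 : act 5 n47668 = n40087 := d12_1 D47668 (iv6 D40087) F30250 (iv6 F17374) D22946
def n47669 : Q := act 3 n22947
theorem D47669 : act 3 n22947 = n47669 := rfl
def n47670 : Q := act 6 n22947
theorem D47670 : act 6 n22947 = n47670 := rfl
theorem F74945 : act 2 n47670 = n41438 := d3_1 D47670 F63882 (iv2 F36002)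
theorem F74946 : act 4 n47670 = n22948 := d10_1 D47670 (iv6 D22948) D22947
def n47671 : Q := act 0 n22948
theorem D47671 : act 0 n22948 = n47671 := rfl
def n47672 : Q := act 1 n22948
theorem D47672 : act 1 n22948 = n47672 := rfl
theorem F74947 : act 1 n47672 = n41439 := d15_1 D47672 (iv7 D41439) (iv2 F36004)
theorem F74948 : act 5 n45763 = n47672 := d21_6 (iv5 D9848) (iv1 F6546) D4728 D10434 D21877 D45763 (iv1 D47672) F36005 (iv6 D19497) (iv1 F15483)
def n47673 : Q := act 7 n22948
theorem D47673 : act 7 n22948 = n47673 := rfl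
theorem F74949 : act 2 n47673 = n41439 := d4_1 D47673 (iv7 D41439) (iv2 F36004)
theorem F74950 : act 5 n47673 = n41394 := d13_1 D47673 F63827 (iv5 F36005)
theorem F74951 : act 1 n41439 = n47671 := d15_0 (iv0 D47671) D47673 F74949
theorem F74952 : act 1 n41437 = n47673 := d15_1 D41437 (iv7 D47673) F36004
theorem F74953 : act 1 n47673 = n41436 := d15_0 (iv0 D41436) D41439 (iv2 F74949)
def n47674 : Q := act 3 n22949
theorem D47674 : act 3 n22949 = n47674 := rfl
theorem F74954 : act 7 n47674 = n41442 := d8_2 (iv7 F36007) D47674 (iv3 D41442)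
def n47675 : Q := act 5 n22949
theorem D47675 : act 5 n22949 = n47675 := rfl
theorem F74956 : act 7 n47675 = n41417 := d13_2 (iv7 F36007) D47675 F63864
theorem F74957 : act 0 n47675 = n41419 := d17_2 (iv1 F36006) D47675 F63866 F31237 F14323 F17448 D4337 (iv0 F17494) D10838
theorem F74958 : act 1 n47675 = n41362 := d17_6 (iv1 F27433) (iv5 D16721) D16720 (iv5 F32725) (iv4 F36008) D47675 (iv5 D41362) (iv0 F31958) (iv4 D20128)
def n47676 : Q := act 6 n22949
theorem D47676 : act 6 n22949 = n47676 := rfl
theorem F74960 : act 4 n47676 = n43588 := d10_1 D47676 (iv6 D43588) (iv4 F36008)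
theorem F74961 : act 0 n43138 = n47676 := d18_2 (iv1 F63849) D43138 F74960 F68520 F58848 (iv0 F73123) (iv4 D44469) F34655 (iv5 F63847)
theorem F74962 : act 1 n43135 = n47676 := d15_0 (iv0 F74961) F74925 F74923
def n47677 : Q := act 0 n22950
theorem D47677 : act 0 n22950 = n47677 := rfl
def n47678 : Q := act 1 n22950
theorem D47678 : act 1 n22950 = n47678 := rfl
def n47679 : Q := act 2 n22950
theorem D47679 : act 2 n22950 = n47679 := rfl
theorem F74963 : act 3 n47679 = n41448 := d0_2 D22950 D47679 (iv2 D41448) (iv3 D19519) (iv2 F17381)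
def n47680 : Q := act 5 n22950
theorem D47680 : act 5 n22950 = n47680 := rfl
theorem F74964 : act 3 n47680 = n22951 := d6_1 D47680 (iv5 D22951) D22950
def n47681 : Q := act 6 n22951
theorem D47681 : act 6 n22951 = n47681 := rfl
theorem F74965 : act 2 n47681 = n41453 := d3_1 D47681 (iv6 D41453) (iv2 F36010)
def n47682 : Q := act 0 n22952
theorem D47682 : act 0 n22952 = n47682 := rfl
theorem F74966 : act 6 n47682 = n46655 := d21_5 (iv5 D9700) (iv1 F14566) D10836 D22952 D47682 (iv5 D46655) F65770 D43221 F67693 F32371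
theorem F74967 : act 3 n46658 = n47682 := d7_3 F74966 F73727 D46658
def n47683 : Q := act 1 n22952
theorem D47683 : act 1 n22952 = n47683 := rfl
def n47684 : Q := act 3 n22953
theorem D47684 : act 3 n22953 = n47684 := rfl
theorem F74968 : act 7 n47684 = n41440 := d8_2 (iv7 F36012) D47684 (iv3 D41440)
def n47685 : Q := act 6 n22953
theorem D47685 : act 6 n22953 = n47685 := rfl
theorem F74969 : act 4 n47685 = n22954 := d10_1 D47685 (iv6 D22954) D22953
def n47686 : Q := act 0 n22954
theorem D47686 : act 0 n22954 = n47686 := rfl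
theorem F74970 : act 6 n47686 = n41389 := d21_5 (iv5 D19487) F14287 D10837 D22954 D47686 (iv5 D41389) (iv1 D19494) D19495 F31215 (iv1 F31189)
def n47687 : Q := act 1 n22954
theorem D47687 : act 1 n22954 = n47687 := rfl
def n47688 : Q := act 7 n22954
theorem D47688 : act 7 n22954 = n47688 := rfl
theorem F74971 : act 6 n47688 = n41439 := d14_1 D47688 (iv7 D41439) F31249 (iv7 F17630) D22954
def n47689 : Q := act 0 n22955
theorem D47689 : act 0 n22955 = n47689 := rfl
def n47690 : Q := act 1 n22955
theorem D47690 : act 1 n22955 = n47690 := rfl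
theorem F74973 : act 4 n43624 = n47690 := d20_6 (iv4 D9776) (iv1 D4420) D4421 D9780 D20635 D43624 (iv1 D47690) (iv4 F68484) (iv3 D43574) (iv1 F32704)
def n47691 : Q := act 2 n22955
theorem D47691 : act 2 n22955 = n47691 := rfl
theorem F74974 : act 7 n47691 = n41448 := d4_2 (iv7 F36014) D47691 (iv2 D41448)
def n47692 : Q := act 5 n22955
theorem D47692 : act 5 n22955 = n47692 := rfl
theorem F74978 : act 3 n47692 = n22956 := d6_1 D47692 (iv5 D22956) D22955
theorem F74979 : act 7 n47692 = n41449 := d13_2 (iv7 F36014) D47692 (iv5 D41449)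
def n47694 : Q := act 6 n22956
theorem D47694 : act 6 n22956 = n47694 := rfl
def n47695 : Q := act 0 n22957
theorem D47695 : act 0 n22957 = n47695 := rfl
def n47696 : Q := act 1 n22957
theorem D47696 : act 1 n22957 = n47696 := rfl
def n47699 : Q := act 0 n22959
theorem D47699 : act 0 n22959 = n47699 := rfl
def n47700 : Q := act 1 n22959
theorem D47700 : act 1 n22959 = n47700 := rfl
def n47701 : Q := act 7 n22959
theorem D47701 : act 7 n22959 = n47701 := rfl
theorem F74981 : act 3 n47701 = n22965 := d8_1 D47701 (iv7 D22965) (iv3 F36017)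
theorem F74982 : act 5 n47701 = n46848 := d13_1 D47701 F74037 (iv5 F36018)
def n47702 : Q := act 0 n22960
theorem D47702 : act 0 n22960 = n47702 := rfl
def n47703 : Q := act 1 n22960
theorem D47703 : act 1 n22960 = n47703 := rfl
theorem F74984 : act 4 n42680 = n47703 := d20_6 (iv4 D9500) (iv1 D4298) D4299 D9504 D20142 D42680 (iv1 D47703) (iv4 F65094) (iv3 D42164) (iv1 F31739)
def n47704 : Q := act 2 n22960
theorem D47704 : act 2 n22960 = n47704 := rfl
def n47705 : Q := act 5 n22960
theorem D47705 : act 5 n22960 = n47705 := rfl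
theorem F74985 : act 3 n47705 = n22961 := d6_1 D47705 (iv5 D22961) D22960
def n47706 : Q := act 6 n22960
theorem D47706 : act 6 n22960 = n47706 := rfl
theorem F74986 : act 3 n47706 = n22962 := d7_1 D47706 (iv6 D22962) D22960
def n47707 : Q := act 6 n22961
theorem D47707 : act 6 n22961 = n47707 := rfl
def n47708 : Q := act 0 n22962
theorem D47708 : act 0 n22962 = n47708 := rfl
def n47709 : Q := act 1 n22962
theorem D47709 : act 1 n22962 = n47709 := rfl
theorem F74987 : act 1 n47709 = n46817 := d15_1 D47709 F73939 F63867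
def n47710 : Q := act 5 n22962
theorem D47710 : act 5 n22962 = n47710 := rfl
def n47711 : Q := act 7 n22962
theorem D47711 : act 7 n22962 = n47711 := rfl
theorem F74988 : act 2 n47711 = n46817 := d4_1 D47711 F73939 F63867
theorem F74989 : act 4 n47711 = n22965 := d11_1 D47711 (iv7 D22965) (iv4 F36019)
def n47713 : Q := act 3 n22963
theorem D47713 : act 3 n22963 = n47713 := rfl
def n47714 : Q := act 4 n22963
theorem D47714 : act 4 n22963 = n47714 := rfl
def n47715 : Q := act 5 n22963
theorem D47715 : act 5 n22963 = n47715 := rfl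
theorem F74993 : act 6 n47715 = n47651 := d21_3 (iv5 F17635) D22963 D47715 (iv1 D47651) (iv6 D22937) (iv5 F63524) (iv1 F63971) F72180 F72183 (iv1 D22958)
theorem F74994 : act 0 n41864 = n47715 := d21_10 (iv5 D47715) (iv1 F36024) (iv5 F64557) F64558 (iv1 F34757) D22583 F35125 F34521 F34325 D41864
def n47716 : Q := act 6 n22963
theorem D47716 : act 6 n22963 = n47716 := rfl
theorem F74995 : act 5 n47716 = n41422 := d21_6 (iv5 D9174) (iv1 F17457) (iv5 F17502) D10842 D22963 D47716 (iv1 D41422) (iv5 F31465) (iv6 D19713) F14449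
theorem F74996 : act 0 n47716 = n47628 := d21_10 (iv5 D47628) F73411 F73409 (iv6 F72183) (iv1 D45741) D45743 F72187 F74994 (iv5 D47715) D47716
def n47721 : Q := act 0 n22966
theorem D47721 : act 0 n22966 = n47721 := rfl
def n47722 : Q := act 1 n22966
theorem D47722 : act 1 n22966 = n47722 := rfl
def n47723 : Q := act 2 n22966
theorem D47723 : act 2 n22966 = n47723 := rfl
def n47724 : Q := act 5 n22966
theorem D47724 : act 5 n22966 = n47724 := rfl
theorem F75001 : act 3 n47724 = n22967 := d6_1 D47724 (iv5 D22967) D22966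
def n47725 : Q := act 6 n22966
theorem D47725 : act 6 n22966 = n47725 := rfl
def n47726 : Q := act 6 n22967
theorem D47726 : act 6 n22967 = n47726 := rfl
def n47727 : Q := act 5 n22968
theorem D47727 : act 5 n22968 = n47727 := rfl
theorem F75003 : act 0 n47727 = n46784 := d17_2 (iv1 F66353) D47727 (iv5 D46784) (iv4 D22442) (iv5 D10667) (iv0 D4885) D4887 D10675 D22468
theorem F75004 : act 1 n47727 = n46791 := d17_6 (iv1 D42520) (iv5 D20075) F66041 D22610 (iv4 F36026) D47727 (iv5 D46791) F73894 F73893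
def n47729 : Q := act 0 n22969
theorem D47729 : act 0 n22969 = n47729 := rfl
def n47730 : Q := act 1 n22969
theorem D47730 : act 1 n22969 = n47730 := rfl
def n47731 : Q := act 2 n22969
theorem D47731 : act 2 n22969 = n47731 := rfl
def n47732 : Q := act 5 n22969
theorem D47732 : act 5 n22969 = n47732 := rfl
theorem F75009 : act 3 n47732 = n22970 := d6_1 D47732 (iv5 D22970) D22969
def n47733 : Q := act 6 n22969
theorem D47733 : act 6 n22969 = n47733 := rfl
theorem F75010 : act 3 n47733 = n22971 := d7_1 D47733 (iv6 D22971) D22969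
def n47734 : Q := act 6 n22970
theorem D47734 : act 6 n22970 = n47734 := rfl
def n47735 : Q := act 0 n22971
theorem D47735 : act 0 n22971 = n47735 := rfl
def n47737 : Q := act 5 n22971
theorem D47737 : act 5 n22971 = n47737 := rfl
def n47738 : Q := act 7 n22971
theorem D47738 : act 7 n22971 = n47738 := rfl
theorem F75011 : act 6 n47738 = n46796 := d14_1 D47738 F73923 F61982 (iv7 F31471) D22971
def n47739 : Q := act 2 n22972
theorem D47739 : act 2 n22972 = n47739 := rfl
theorem F75012 : act 7 n22973 = n47739 := d15_2 (iv0 D22972) D22973 (iv2 D47739)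
def n47740 : Q := act 3 n22972
theorem D47740 : act 3 n22972 = n47740 := rfl
theorem F75013 : act 4 n47740 = n43306 := d20_6 (iv4 D10841) (iv1 D4944) D4945 D10845 D22972 D47740 (iv1 D43306) (iv4 F63851) (iv3 D41405) (iv1 F31233)
def n47741 : Q := act 4 n22972
theorem D47741 : act 4 n22972 = n47741 := rfl
def n47744 : Q := act 7 n22972
theorem D47744 : act 7 n22972 = n47744 := rfl
theorem F75014 : act 2 n47744 = n22973 := d4_1 D47744 F75012 (iv2 D47739)
def n47745 : Q := act 3 n22973
theorem D47745 : act 3 n22973 = n47745 := rfl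
def n47746 : Q := act 5 n22973
theorem D47746 : act 5 n22973 = n47746 := rfl
def n47747 : Q := act 6 n22973
theorem D47747 : act 6 n22973 = n47747 := rfl
def n47748 : Q := act 5 n22974
theorem D47748 : act 5 n22974 = n47748 := rfl
theorem F75015 : act 2 n47748 = n22975 := d2_1 D47748 (iv5 D22975) D22974
def n47749 : Q := act 0 n22975
theorem D47749 : act 0 n22975 = n47749 := rfl
def n47750 : Q := act 1 n22975
theorem D47750 : act 1 n22975 = n47750 := rfl
def n47751 : Q := act 4 n22975
theorem D47751 : act 4 n22975 = n47751 := rfl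
def n47752 : Q := act 6 n22975
theorem D47752 : act 6 n22975 = n47752 := rfl
theorem F75016 : act 3 n47752 = n22979 := d7_1 D47752 (iv6 D22979) (iv3 F36029)
def n47753 : Q := act 3 n22976
theorem D47753 : act 3 n22976 = n47753 := rfl
theorem F75017 : act 5 n47753 = n43119 := d6_2 (iv5 F36030) D47753 (iv3 D43119)
def n47754 : Q := act 6 n22976
theorem D47754 : act 6 n22976 = n47754 := rfl
def n47755 : Q := act 3 n22977
theorem D47755 : act 3 n22977 = n47755 := rfl
def n47756 : Q := act 6 n22977
theorem D47756 : act 6 n22977 = n47756 := rfl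
def n47757 : Q := act 3 n22978
theorem D47757 : act 3 n22978 = n47757 := rfl
def n47758 : Q := act 6 n22978
theorem D47758 : act 6 n22978 = n47758 := rfl
theorem F75019 : act 4 n47758 = n22979 := d10_1 D47758 (iv6 D22979) D22978
def n47759 : Q := act 0 n22979
theorem D47759 : act 0 n22979 = n47759 := rfl
def n47760 : Q := act 1 n22979
theorem D47760 : act 1 n22979 = n47760 := rfl
def n47761 : Q := act 7 n22979
theorem D47761 : act 7 n22979 = n47761 := rfl
def n47762 : Q := act 4 n22980
theorem D47762 : act 4 n22980 = n47762 := rfl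
theorem F75020 : act 3 n47762 = n40974 := d5_1 D47762 (iv4 F73473) (iv3 D46502) D46503 F73480
theorem F75021 : act 5 n47762 = n32512 := d16_1 D47762 (iv4 D32512) (iv5 D15388) D15387 D32510 (iv4 F70138) F70137 (iv7 F70968) (iv2 F70969)
theorem F75022 : act 0 n47762 = n44518 := d20_1 D47762 (iv4 F70603) (iv3 D44924) (iv1 D21442) (iv3 D10220) (iv4 D4643) (iv1 F7264) D4946 D10847 D22980
theorem F75023 : act 0 n44518 = n47762 := d20_10 (iv4 D47762) (iv1 F36032) F17637 (iv3 D10847) (iv1 F7392) D10910 F17724 F27797 F33419 D44518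
def n47763 : Q := act 6 n22980
theorem D47763 : act 6 n22980 = n47763 := rfl
def n47764 : Q := act 0 n22981
theorem D47764 : act 0 n22981 = n47764 := rfl
def n47765 : Q := act 1 n22981
theorem D47765 : act 1 n22981 = n47765 := rfl
def n47766 : Q := act 5 n22981
theorem D47766 : act 5 n22981 = n47766 := rfl
theorem F75024 : act 3 n47766 = n22984 := d6_1 D47766 (iv5 D22984) (iv3 F36033)
def n47767 : Q := act 7 n22981
theorem D47767 : act 7 n22981 = n47767 := rfl
theorem F75025 : act 3 n47767 = n22985 := d8_1 D47767 (iv7 D22985) (iv3 F36033)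
theorem F75026 : act 4 n47767 = n47767 := d11_1 D47767 (iv7 D47767) F36034
def n47768 : Q := act 0 n22982
theorem D47768 : act 0 n22982 = n47768 := rfl
def n47769 : Q := act 1 n22982
theorem D47769 : act 1 n22982 = n47769 := rfl
theorem F75027 : act 1 n47769 = n23015 := d15_1 D47769 (iv7 D23015) (iv2 F36035)
def n47770 : Q := act 5 n22982
theorem D47770 : act 5 n22982 = n47770 := rfl
theorem F75028 : act 2 n47770 = n23014 := d2_1 D47770 (iv5 D23014) (iv2 F36035)
theorem F75029 : act 6 n47770 = n22984 := d12_2 D22982 D47770 (iv5 D22984) (iv6 D10849) D10848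
def n47771 : Q := act 7 n22982
theorem D47771 : act 7 n22982 = n47771 := rfl
theorem F75030 : act 2 n47771 = n23015 := d4_1 D47771 (iv7 D23015) (iv2 F36035)
theorem F75031 : act 1 n23015 = n47768 := d15_0 (iv0 D47768) D47771 F75030
theorem F75032 : act 1 n23013 = n47771 := d15_1 D23013 (iv7 D47771) F36035
theorem F75033 : act 1 n47771 = n23012 := d15_0 (iv0 D23012) D23015 (iv2 F75030)
def n47772 : Q := act 5 n22983
theorem D47772 : act 5 n22983 = n47772 := rfl
theorem F75034 : act 2 n47772 = n23020 := d2_1 D47772 (iv5 D23020) F36038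
theorem F75035 : act 7 n47772 = n23017 := d13_2 (iv7 F36037) D47772 (iv5 D23017)
theorem F75036 : act 1 n47772 = n42016 := d15_0 (iv0 F65627) F65626 (iv2 F75034)
def n47773 : Q := act 6 n22983
theorem D47773 : act 6 n22983 = n47773 := rfl
theorem F75037 : act 2 n47773 = n23021 := d3_1 D47773 (iv6 D23021) F36038
def n47774 : Q := act 0 n22984
theorem D47774 : act 0 n22984 = n47774 := rfl
def n47775 : Q := act 4 n22984
theorem D47775 : act 4 n22984 = n47775 := rfl
theorem F75038 : act 2 n47775 = n23024 := d1_1 D47775 (iv4 D23024) (iv2 F36039)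
def n47776 : Q := act 7 n22984
theorem D47776 : act 7 n22984 = n47776 := rfl
theorem F75039 : act 2 n47776 = n23025 := d4_1 D47776 (iv7 D23025) (iv2 F36039)
theorem F75040 : act 5 n47776 = n22985 := d13_1 D47776 (iv7 D22985) D22984
theorem F75041 : act 1 n23025 = n47774 := d15_0 (iv0 D47774) D47776 F75039
theorem F75042 : act 1 n23023 = n47776 := d15_1 D23023 (iv7 D47776) F36039
theorem F75043 : act 7 n47774 = n23023 := d15_2 (iv0 F71717) F75041 (iv2 F71714)
theorem F75044 : act 2 n47774 = n23022 := d15_3 (iv0 D23022) D23023 (iv7 F75043)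
theorem F75045 : act 7 n23022 = n45463 := d4_2 (iv7 F75043) F75044 F71714
theorem F75046 : act 5 n42014 = n23022 := d13_3 F75045 (iv5 D45463) F64874
theorem F75047 : act 1 n47776 = n23022 := d15_1 F75042 F75045 F71714
def n47777 : Q := act 3 n22988
theorem D47777 : act 3 n22988 = n47777 := rfl
theorem F75048 : act 4 n47777 = n40907 := d5_2 D22988 D47777 (iv3 D40907) (iv4 F66125) (iv3 F65765)
theorem F75049 : act 6 n47777 = n44860 := d7_2 (iv6 F36047) D47777 (iv3 D44860)
theorem F75050 : act 7 n47777 = n23058 := d8_2 (iv7 F63380) D47777 (iv3 D23058)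
theorem F75051 : act 0 n44920 = n47777 := d20_4 (iv4 F62947) (iv1 D40971) (iv4 F33681) (iv3 F70591) (iv3 D47777) (iv4 D22988) (iv1 F17650) (iv4 F17655) (iv3 F17733) (iv1 F36227)
def n47778 : Q := act 5 n22988
theorem D47778 : act 5 n22988 = n47778 := rfl
theorem F75052 : act 2 n47778 = n23041 := d2_1 D47778 (iv5 D23041) (iv2 F63379)
theorem F75053 : act 7 n47778 = n23059 := d13_2 (iv7 F63380) D47778 (iv5 D23059)
def n47779 : Q := act 1 n22989
theorem D47779 : act 1 n22989 = n47779 := rfl
theorem F75054 : act 1 n47779 = n22992 := d15_1 D47779 F63394 (iv2 F63381)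
theorem F75055 : act 7 n47779 = n23044 := d15_2 (iv0 F63323) D47779 (iv2 F63272)
theorem F75056 : act 5 n42005 = n47779 := d21_0 (iv1 D47779) (iv5 D22989) F17643 (iv1 F63251) (iv6 D5046) F7448 D11041 (iv5 F63313) (iv6 F63319) (iv1 F64833)
def n47780 : Q := act 4 n22989
theorem D47780 : act 4 n22989 = n47780 := rfl
theorem F75060 : act 2 n47780 = n23046 := d1_1 D47780 (iv4 D23046) (iv2 F63381)
theorem F75062 : act 7 n47780 = n23061 := d11_2 (iv7 F63382) D47780 (iv4 D23061)
def n47781 : Q := act 5 n22991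
theorem D47781 : act 5 n22991 = n47781 := rfl
theorem F75063 : act 2 n47781 = n23059 := d2_1 D47781 (iv5 D23059) (iv2 F63391)
theorem F75064 : act 7 n47781 = n23041 := d13_2 (iv7 F63392) D47781 (iv5 D23041)
def n47782 : Q := act 6 n22991
theorem D47782 : act 6 n22991 = n47782 := rfl
theorem F75065 : act 2 n47782 = n23060 := d3_1 D47782 (iv6 D23060) (iv2 F63391)
theorem F75066 : act 4 n47782 = n22993 := d10_1 D47782 (iv6 D22993) D22991
theorem F75067 : act 7 n47782 = n44841 := d14_2 (iv7 F63392) D47782 (iv6 D44841) F63421 (iv6 D23042)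
theorem F75068 : act 1 n23060 = n44536 := d15_0 (iv0 F70432) (iv7 F75067) F75065
def n47783 : Q := act 4 n22992
theorem D47783 : act 4 n22992 = n47783 := rfl
theorem F75069 : act 2 n47783 = n23061 := d1_1 D47783 (iv4 D23061) (iv2 F63393)
theorem F75070 : act 7 n47783 = n23046 := d11_2 (iv7 F63394) D47783 (iv4 D23046)
def n47784 : Q := act 4 n22994
theorem D47784 : act 4 n22994 = n47784 := rfl
theorem F75071 : act 2 n47784 = n23069 := d1_1 D47784 (iv4 D23069) (iv2 F62838)
theorem F75072 : act 6 n47784 = n23229 := d10_2 (iv6 F36053) D47784 (iv4 D23229)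
theorem F75074 : act 0 n44558 = n47784 := d20_7 F73690 (iv1 F67072) (iv4 D42799) F32067 F62553 (iv3 F36458) (iv4 F70075) (iv4 D47784) (iv3 F66970) (iv1 F73693)
def n47785 : Q := act 1 n22995
theorem D47785 : act 1 n22995 = n47785 := rfl
theorem F75075 : act 1 n47785 = n23080 := d15_1 D47785 (iv7 D23080) (iv2 F36054)
def n47786 : Q := act 3 n22995
theorem D47786 : act 3 n22995 = n47786 := rfl
theorem F75079 : act 6 n47786 = n40448 := d7_2 (iv6 F36055) D47786 (iv3 D40448)
def n47787 : Q := act 5 n22995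
theorem D47787 : act 5 n22995 = n47787 := rfl
theorem F75080 : act 2 n47787 = n23079 := d2_1 D47787 (iv5 D23079) (iv2 F36054)
def n47788 : Q := act 7 n22995
theorem D47788 : act 7 n22995 = n47788 := rfl
theorem F75082 : act 4 n47788 = n22996 := d11_1 D47788 (iv7 D22996) D22995
def n47789 : Q := act 4 n22997
theorem D47789 : act 4 n22997 = n47789 := rfl
theorem F75085 : act 2 n47789 = n45717 := d1_1 D47789 F72099 (iv2 F36268)
theorem F75086 : act 3 n47789 = n43396 := d5_1 D47789 (iv4 D43396) (iv3 F32601) F36262 F36265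
theorem F75087 : act 7 n47789 = n46521 := d11_2 (iv7 F36266) D47789 F73516
theorem F75088 : act 0 n47789 = n46520 := d17_0 F73510 F73550 (iv5 F74224) (iv4 D44711) D44712 F71665 F71662 F36251 D47789
theorem F75089 : act 0 n46502 = n47789 := d20_1 (iv4 F73473) (iv4 D47789) (iv3 F36265) (iv1 D23170) (iv3 D10910) (iv4 F7393) (iv1 F14084) D9071 D19299 D40974
def n47790 : Q := act 6 n22997
theorem D47790 : act 6 n22997 = n47790 := rfl
def n47791 : Q := act 6 n22998
theorem D47791 : act 6 n22998 = n47791 := rfl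
theorem F75090 : act 4 n47791 = n46523 := d10_1 D47791 (iv6 D46523) F36062
def n47792 : Q := act 6 n22999
theorem D47792 : act 6 n22999 = n47792 := rfl
theorem F75091 : act 2 n47792 = n23000 := d3_1 D47792 (iv6 D23000) D22999
theorem F75092 : act 4 n47792 = n40999 := d10_1 D47792 (iv6 D40999) (iv4 F36063)
def n47793 : Q := act 0 n23000
theorem D47793 : act 0 n23000 = n47793 := rfl
def n47794 : Q := act 1 n23000
theorem D47794 : act 1 n23000 = n47794 := rfl
def n47795 : Q := act 5 n23000
theorem D47795 : act 5 n23000 = n47795 := rfl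
theorem F75093 : act 3 n47795 = n23003 := d6_1 D47795 (iv5 D23003) (iv3 F36064)
def n47796 : Q := act 7 n23000
theorem D47796 : act 7 n23000 = n47796 := rfl
theorem F75094 : act 3 n47796 = n23004 := d8_1 D47796 (iv7 D23004) (iv3 F36064)
theorem F75095 : act 4 n47796 = n41247 := d11_1 D47796 F73264 F73262
theorem F75096 : act 6 n47796 = n23522 := d14_1 D47796 F36639 (iv6 D23167) F17722 D23000
def n47797 : Q := act 0 n23003
theorem D47797 : act 0 n23003 = n47797 := rfl
def n47798 : Q := act 4 n23003
theorem D47798 : act 4 n23003 = n47798 := rfl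
def n47799 : Q := act 7 n23003
theorem D47799 : act 7 n23003 = n47799 := rfl
theorem F75097 : act 5 n47799 = n23004 := d13_1 D47799 (iv7 D23004) D23003
def n47800 : Q := act 6 n23005
theorem D47800 : act 6 n23005 = n47800 := rfl
theorem F75098 : act 4 n47800 = n34940 := d10_1 D47800 (iv6 D34940) (iv4 F36066)
def n47801 : Q := act 6 n23006
theorem D47801 : act 6 n23006 = n47801 := rfl
theorem F75099 : act 4 n47801 = n34936 := d10_1 D47801 (iv6 D34936) F36067
def n47802 : Q := act 6 n23007
theorem D47802 : act 6 n23007 = n47802 := rfl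
theorem F75100 : act 2 n47802 = n23008 := d3_1 D47802 (iv6 D23008) D23007
theorem F75101 : act 4 n47802 = n43360 := d10_1 D47802 (iv6 D43360) (iv4 F36068)
def n47803 : Q := act 0 n23008
theorem D47803 : act 0 n23008 = n47803 := rfl
def n47804 : Q := act 1 n23008
theorem D47804 : act 1 n23008 = n47804 := rfl
def n47805 : Q := act 5 n23008
theorem D47805 : act 5 n23008 = n47805 := rfl
theorem F75102 : act 3 n47805 = n23009 := d6_1 D47805 (iv5 D23009) (iv3 F36069)
def n47806 : Q := act 1 n23009
theorem D47806 : act 1 n23009 = n47806 := rfl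
theorem F75103 : act 1 n47806 = n23524 := d15_1 D47806 F36645 F36256
theorem F75104 : act 5 n42003 = n47806 := d21_0 (iv1 D47806) (iv5 D23009) (iv6 D10857) (iv1 D4949) D4951 D10862 D23022 (iv5 F75046) F64854 (iv1 F64818)
theorem F75105 : act 2 n47806 = n42022 := d2_1 F75104 (iv5 D42022) (iv2 F64814)
def n47807 : Q := act 4 n23009
theorem D47807 : act 4 n23009 = n47807 := rfl
def n47808 : Q := act 0 n23010
theorem D47808 : act 0 n23010 = n47808 := rfl
theorem F75106 : act 5 n47808 = n37246 := d17_3 F73549 F44708 D47808 (iv4 F72922) (iv5 D22307) F17166 D19253 F34810 D46548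
def n47809 : Q := act 1 n23010
theorem D47809 : act 1 n23010 = n47809 := rfl
def n47810 : Q := act 6 n23010
theorem D47810 : act 6 n23010 = n47810 := rfl
theorem F75107 : act 3 n47810 = n23011 := d7_1 D47810 (iv6 D23011) D23010
def n47811 : Q := act 0 n23011
theorem D47811 : act 0 n23011 = n47811 := rfl
def n47812 : Q := act 1 n23011
theorem D47812 : act 1 n23011 = n47812 := rfl
def n47813 : Q := act 5 n23011
theorem D47813 : act 5 n23011 = n47813 := rfl
def n47814 : Q := act 7 n23011
theorem D47814 : act 7 n23011 = n47814 := rfl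
theorem F75108 : act 4 n47814 = n23015 := d11_1 D47814 (iv7 D23015) (iv4 F36071)
def n47815 : Q := act 2 n23012
theorem D47815 : act 2 n23012 = n47815 := rfl
theorem F75109 : act 7 n23013 = n47815 := d15_2 (iv0 D23012) D23013 (iv2 D47815)
def n47816 : Q := act 3 n23012
theorem D47816 : act 3 n23012 = n47816 := rfl
def n47817 : Q := act 4 n23012
theorem D47817 : act 4 n23012 = n47817 := rfl
def n47818 : Q := act 5 n23012
theorem D47818 : act 5 n23012 = n47818 := rfl
def n47819 : Q := act 6 n23012
theorem D47819 : act 6 n23012 = n47819 := rfl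
def n47820 : Q := act 7 n23012
theorem D47820 : act 7 n23012 = n47820 := rfl
def n47821 : Q := act 3 n23013
theorem D47821 : act 3 n23013 = n47821 := rfl
def n47822 : Q := act 4 n23013
theorem D47822 : act 4 n23013 = n47822 := rfl
def n47823 : Q := act 5 n23013
theorem D47823 : act 5 n23013 = n47823 := rfl
def n47824 : Q := act 6 n23013
theorem D47824 : act 6 n23013 = n47824 := rfl
def n47825 : Q := act 0 n23014
theorem D47825 : act 0 n23014 = n47825 := rfl
def n47826 : Q := act 1 n23014
theorem D47826 : act 1 n23014 = n47826 := rfl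
def n47827 : Q := act 4 n23014
theorem D47827 : act 4 n23014 = n47827 := rfl
theorem F75111 : act 6 n47827 = n23024 := d10_2 (iv6 F36072) D47827 (iv4 D23024)
def n47828 : Q := act 7 n23014
theorem D47828 : act 7 n23014 = n47828 := rfl
theorem F75112 : act 5 n47828 = n23015 := d13_1 D47828 (iv7 D23015) D23014
def n47829 : Q := act 0 n23016
theorem D47829 : act 0 n23016 = n47829 := rfl
def n47830 : Q := act 1 n23016
theorem D47830 : act 1 n23016 = n47830 := rfl
def n47831 : Q := act 2 n23016
theorem D47831 : act 2 n23016 = n47831 := rfl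
theorem F75113 : act 4 n47831 = n41003 := d1_2 F73296 D47831 (iv2 F73299)
def n47832 : Q := act 5 n23016
theorem D47832 : act 5 n23016 = n47832 := rfl
theorem F75114 : act 3 n47832 = n23017 := d6_1 D47832 (iv5 D23017) D23016
def n47833 : Q := act 6 n23016
theorem D47833 : act 6 n23016 = n47833 := rfl
theorem F75115 : act 3 n47833 = n23018 := d7_1 D47833 (iv6 D23018) D23016
def n47834 : Q := act 0 n23017
theorem D47834 : act 0 n23017 = n47834 := rfl
theorem F75116 : act 5 n47834 = n42002 := d17_3 D10860 D23017 D47834 F64813 F63198 (iv0 D23044) (iv5 D10867) (iv0 D4952) (iv4 F7372)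
theorem F75117 : act 1 n23020 = n47834 := d15_0 (iv0 D47834) (iv7 F75035) F75034
theorem F75118 : act 2 n42016 = n47834 := d2_3 F75116 F64812 D42016
def n47835 : Q := act 1 n23017
theorem D47835 : act 1 n23017 = n47835 := rfl
theorem F75119 : act 1 n47835 = n23020 := d15_1 D47835 (iv7 F65626) F65625
theorem F75121 : act 5 n42017 = n47835 := d21_6 (iv5 F70364) (iv1 F70366) (iv5 D21333) D21334 F68951 (iv6 F64861) (iv1 D47835) (iv5 D23017) D23018 (iv1 F66291)
def n47836 : Q := act 4 n23017
theorem D47836 : act 4 n23017 = n47836 := rfl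
def n47837 : Q := act 6 n23017
theorem D47837 : act 6 n23017 = n47837 := rfl
def n47838 : Q := act 0 n23019
theorem D47838 : act 0 n23019 = n47838 := rfl
def n47839 : Q := act 1 n23019
theorem D47839 : act 1 n23019 = n47839 := rfl
def n47840 : Q := act 2 n23019
theorem D47840 : act 2 n23019 = n47840 := rfl
def n47841 : Q := act 5 n23019
theorem D47841 : act 5 n23019 = n47841 := rfl
theorem F75122 : act 3 n47841 = n23020 := d6_1 D47841 (iv5 D23020) D23019
def n47842 : Q := act 6 n23019
theorem D47842 : act 6 n23019 = n47842 := rfl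
theorem F75123 : act 3 n47842 = n23021 := d7_1 D47842 (iv6 D23021) D23019
def n47843 : Q := act 4 n23020
theorem D47843 : act 4 n23020 = n47843 := rfl
def n47844 : Q := act 6 n23020
theorem D47844 : act 6 n23020 = n47844 := rfl
def n47845 : Q := act 1 n23021
theorem D47845 : act 1 n23021 = n47845 := rfl
def n47846 : Q := act 5 n23021
theorem D47846 : act 5 n23021 = n47846 := rfl
theorem F75124 : act 0 n45353 = n47846 := d21_1 D45353 (iv5 D47846) (iv6 D23021) (iv1 D10861) (iv6 D4951) D4950 (iv1 F16456) (iv5 D10341) D10342 (iv1 F63255)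
theorem F75125 : act 1 n42008 = n47846 := d15_0 (iv0 F75124) F71483 F70271
theorem E8108 : n47845 = n44546 := (c17_9 F63397 D23065 (iv1 F63282) (iv5 D19818) (iv4 F31576) D42008 F75125 (iv5 D47846) D47845 F70061)
theorem F75126 : act 0 n44546 = n23021 := (sb E8108 (iv1 D47845))
def n47847 : Q := act 7 n23021
theorem D47847 : act 7 n23021 = n47847 := rfl
theorem F75127 : act 4 n47847 = n43932 := d11_1 D47847 F69067 F65226
theorem F75128 : act 6 n47847 = n43931 := d14_1 D47847 F69063 F36758 F35763 D23021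
theorem F75129 : act 0 n47847 = n23529 := d21_10 F71616 (iv1 D45402) (iv5 D21664) (iv6 D10342) (iv1 F6784) D10146 D21235 D44625 F70157 (iv6 F75128)
theorem F75130 : act 1 n47773 = n23529 := d15_0 (iv0 F75129) (iv7 D47847) (iv2 F75037)
def n47848 : Q := act 3 n23022
theorem D47848 : act 3 n23022 = n47848 := rfl
def n47849 : Q := act 4 n23022
theorem D47849 : act 4 n23022 = n47849 := rfl
def n47850 : Q := act 6 n23022
theorem D47850 : act 6 n23022 = n47850 := rfl
def n47851 : Q := act 3 n23023
theorem D47851 : act 3 n23023 = n47851 := rfl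
def n47852 : Q := act 4 n23023
theorem D47852 : act 4 n23023 = n47852 := rfl
def n47853 : Q := act 6 n23023
theorem D47853 : act 6 n23023 = n47853 := rfl
def n47854 : Q := act 0 n23024
theorem D47854 : act 0 n23024 = n47854 := rfl
def n47855 : Q := act 1 n23024
theorem D47855 : act 1 n23024 = n47855 := rfl
def n47856 : Q := act 3 n23024
theorem D47856 : act 3 n23024 = n47856 := rfl
def n47857 : Q := act 5 n23024
theorem D47857 : act 5 n23024 = n47857 := rfl
def n47858 : Q := act 7 n23024
theorem D47858 : act 7 n23024 = n47858 := rfl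
theorem F75131 : act 4 n47858 = n23025 := d11_1 D47858 (iv7 D23025) D23024
def n47859 : Q := act 6 n23025
theorem D47859 : act 6 n23025 = n47859 := rfl
def n47860 : Q := act 1 n23035
theorem D47860 : act 1 n23035 = n47860 := rfl
theorem F75132 : act 1 n47860 = n46655 := d15_1 D47860 F73728 F65546
theorem F75133 : act 5 n45489 = n47860 := d21_0 (iv1 D47860) (iv5 D23035) (iv6 F65930) (iv1 D22878) (iv6 D10809) D10808 D22874 D47578 F74823 (iv1 F71741)
theorem F75134 : act 6 n47860 = n42630 := d21_3 (iv5 F71738) (iv1 F71741) F75133 (iv1 D42630) (iv6 D20121) (iv5 D9493) (iv1 F17401) D19475 (iv6 F34679) (iv1 F66401)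
theorem F75135 : act 4 n42506 = n47860 := d18_7 F65770 F32367 F65637 (iv4 D9450) D9451 D20064 D42506 F75132 (iv5 D46655)
def n47861 : Q := act 4 n23035
theorem D47861 : act 4 n23035 = n47861 := rfl
theorem F75136 : act 0 n47861 = n42734 := d18_2 (iv1 D47860) D47861 (iv4 D42734) F32002 (iv4 F61526) (iv0 F65572) (iv4 F65571) D45489 F75133
def n47862 : Q := act 3 n23038
theorem D47862 : act 3 n23038 = n47862 := rfl
theorem F75137 : act 4 n47862 = n42747 := d5_2 F65545 D47862 (iv3 D42747) (iv4 D20193) (iv3 F65544)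
theorem F75138 : act 7 n47862 = n44918 := d8_2 (iv7 F66365) D47862 F70587
def n47863 : Q := act 5 n23038
theorem D47863 : act 5 n23038 = n47863 := rfl
theorem F75139 : act 7 n47863 = n44919 := d13_2 (iv7 F66365) D47863 (iv5 D44919)
def n47864 : Q := act 0 n23040
theorem D47864 : act 0 n23040 = n47864 := rfl
def n47865 : Q := act 1 n23040
theorem D47865 : act 1 n23040 = n47865 := rfl
def n47866 : Q := act 2 n23040
theorem D47866 : act 2 n23040 = n47866 := rfl
def n47867 : Q := act 5 n23040
theorem D47867 : act 5 n23040 = n47867 := rfl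
theorem F75140 : act 3 n47867 = n23041 := d6_1 D47867 (iv5 D23041) D23040
def n47868 : Q := act 6 n23040
theorem D47868 : act 6 n23040 = n47868 := rfl
theorem F75141 : act 3 n47868 = n23042 := d7_1 D47868 (iv6 D23042) D23040
theorem F75142 : act 7 n44839 = n47868 := d8_0 F75141 (iv7 F63421) D44839
def n47869 : Q := act 0 n23041
theorem D47869 : act 0 n23041 = n47869 := rfl
theorem F75143 : act 5 n47869 = n45377 := d17_3 F66025 D23041 D47869 F71548 (iv5 F66367) (iv0 D42478) (iv5 D20053) (iv0 F66016) (iv4 F33417)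
theorem F75144 : act 1 n23059 = n47869 := d15_0 (iv0 D47869) (iv7 F75064) F75063
def n47870 : Q := act 1 n23041
theorem D47870 : act 1 n23041 = n47870 := rfl
theorem F75145 : act 1 n47870 = n23059 := d15_1 D47870 (iv7 F75053) F75052
theorem F75146 : act 5 n45501 = n47870 := d21_6 (iv5 F70410) (iv1 F70411) (iv5 D21374) D21375 D44857 F71752 (iv1 D47870) (iv5 D23041) D23042 F66341
def n47871 : Q := act 4 n23041
theorem D47871 : act 4 n23041 = n47871 := rfl
def n47872 : Q := act 6 n23041
theorem D47872 : act 6 n23041 = n47872 := rfl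
def n47873 : Q := act 1 n23042
theorem D47873 : act 1 n23042 = n47873 := rfl
theorem F75148 : act 7 n47873 = n44838 := d15_2 (iv0 F66341) D47873 (iv2 F70426)
theorem F75149 : act 4 n47873 = n42483 := d18_7 F66246 (iv4 F70170) (iv1 F70172) (iv4 D21243) (iv5 F17657) (iv4 F36090) D47873 F66276 (iv5 F66248)
theorem F75150 : act 2 n44837 = n47873 := d1_3 F75149 (iv2 F66274) (iv4 F70421)
theorem F75151 : act 5 n44830 = n47873 := d17_3 (iv1 F33552) D21374 (iv1 F70412) F75149 F66275 F66289 (iv5 F66284) (iv0 F66200) F65892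
def n47874 : Q := act 5 n23042
theorem D47874 : act 5 n23042 = n47874 := rfl
theorem F75152 : act 2 n47874 = n44861 := d2_1 D47874 (iv5 D44861) (iv2 F63414)
theorem F75153 : act 7 n47874 = n44840 := d13_2 F63421 D47874 (iv5 D44840)
theorem F75154 : act 0 n47874 = n45326 := d17_2 (iv1 D47873) D47874 (iv5 D45326) F34009 F30622 (iv0 F66236) F32942 D42483 (iv4 F75149)
def n47875 : Q := act 4 n23044
theorem D47875 : act 4 n23044 = n47875 := rfl
theorem F75155 : act 2 n47875 = n42026 := d1_1 D47875 (iv4 D42026) F63272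
theorem F75156 : act 6 n47875 = n45354 := d10_2 F36095 D47875 (iv4 D45354)
def n47876 : Q := act 4 n23045
theorem D47876 : act 4 n23045 = n47876 := rfl
theorem F75158 : act 7 n47876 = n42026 := d11_2 (iv7 F63271) D47876 (iv4 D42026)
def n47877 : Q := act 0 n23046
theorem D47877 : act 0 n23046 = n47877 := rfl
theorem F75159 : act 4 n47877 = n42478 := d18_3 (iv1 D23045) D23046 D47877 F66367 (iv4 F71548) (iv0 F71549) F34161 (iv0 F63258) (iv5 F63269)
theorem F75160 : act 1 n23061 = n47877 := d15_0 (iv0 D47877) (iv7 F75070) F75069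
def n47878 : Q := act 1 n23046
theorem D47878 : act 1 n23046 = n47878 := rfl
theorem F75161 : act 1 n47878 = n23061 := d15_1 D47878 (iv7 F75062) F75060
theorem F75162 : act 4 n42479 = n47878 := d20_6 (iv4 F65986) (iv1 F65987) (iv4 D20080) (iv3 F31896) D42519 F71759 (iv1 D47878) (iv4 D23046) (iv3 F36084) (iv1 F65636)
def n47879 : Q := act 3 n23046
theorem D47879 : act 3 n23046 = n47879 := rfl
def n47880 : Q := act 5 n23046
theorem D47880 : act 5 n23046 = n47880 := rfl
def n47881 : Q := act 6 n23046
theorem D47881 : act 6 n23046 = n47881 := rfl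
theorem F75164 : act 4 n47881 = n23047 := d10_1 D47881 (iv6 D23047) D23046
def n47882 : Q := act 3 n23055
theorem D47882 : act 3 n23055 = n47882 := rfl
theorem F75165 : act 4 n47882 = n23058 := d5_2 D23055 D47882 (iv3 D23058) (iv4 D10871) D10870
theorem F75166 : act 7 n47882 = n40907 := d8_2 (iv7 F66122) D47882 (iv3 D40907)
def n47883 : Q := act 5 n23055
theorem D47883 : act 5 n23055 = n47883 := rfl
theorem F75167 : act 2 n47883 = n40914 := d2_1 D47883 (iv5 D40914) (iv2 F66121)
theorem F75168 : act 7 n47883 = n40909 := d13_2 (iv7 F66122) D47883 (iv5 D40909)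
def n47884 : Q := act 6 n23055
theorem D47884 : act 6 n23055 = n47884 := rfl
theorem F75169 : act 2 n47884 = n40915 := d3_1 D47884 (iv6 D40915) (iv2 F66121)
theorem F75170 : act 4 n47884 = n23057 := d10_1 D47884 (iv6 D23057) D23055
theorem F75171 : act 0 n23392 = n47884 := d20_1 (iv4 F36517) F75170 F36117 (iv1 F66745) (iv3 D11052) (iv4 D5040) D5038 F14828 (iv3 F32045) F66111
def n47885 : Q := act 0 n23056
theorem D47885 : act 0 n23056 = n47885 := rfl
theorem F75173 : act 3 n47885 = n47860 := d20_5 (iv4 F75159) (iv1 F75160) (iv4 D23061) (iv3 F36116) D47885 (iv4 F75135) (iv1 D42506) (iv4 D20064) (iv3 F31880) D42478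
theorem F75174 : act 1 n46637 = n47885 := d15_0 (iv0 D47885) (iv7 F65952) (iv2 F73679)
def n47886 : Q := act 1 n23056
theorem D47886 : act 1 n23056 = n47886 := rfl
theorem F75175 : act 1 n47886 = n46637 := d15_1 D47886 F73682 F65955
theorem F75176 : act 6 n41844 = n47886 := d21_9 (iv5 D23056) F65646 D22353 F34893 F31700 (iv6 F34378) (iv5 D21895) (iv1 F63556) D41844 (iv1 D47886)
theorem F75177 : act 2 n47886 = n46652 := d3_1 F75176 (iv6 F73720) F70216
theorem F75178 : act 3 n47886 = n23097 := d7_1 F75176 F65681 (iv3 F64511)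
theorem F75179 : act 5 n47886 = n41497 := d12_1 F75176 (iv6 D41497) D41496 F63983 D41844
theorem F75180 : act 4 n42771 = n47886 := d18_3 F66093 D40940 (iv1 F67026) F75179 F63986 F69639 F69638 (iv0 F67017) (iv5 D42767)
theorem F75181 : act 2 n42729 = n42771 := d1_3 F75180 F75177 F73718
theorem F75182 : act 7 n42770 = n42729 := d15_2 F67026 F67025 F75181
theorem F75183 : act 7 n42730 = n42771 := d15_2 (iv0 D42729) D42730 (iv2 F75181)
theorem F75184 : act 2 n42770 = n42730 := d4_3 F75183 (iv2 F75181) (iv7 F75182)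
theorem F75185 : act 7 n47886 = n46653 := d11_2 F75183 F75180 (iv4 F73722)
theorem F75186 : act 2 n46653 = n47885 := d15_3 (iv0 D47885) D47886 F75185
theorem F75187 : act 7 n46652 = n47885 := d4_2 (iv7 F75185) F75177 (iv2 F75186)
def n47887 : Q := act 4 n23056
theorem D47887 : act 4 n23056 = n47887 := rfl
theorem F75188 : act 2 n47887 = n46657 := d1_1 D47887 (iv4 D46657) F65955
theorem F75189 : act 7 n47887 = n46654 := d11_2 F65952 D47887 (iv4 D46654)
theorem F75190 : act 1 n47887 = n42726 := d18_6 F66047 (iv4 F30945) (iv1 F66120) (iv4 D23055) D23056 D47887 (iv4 D42726) (iv0 D20172) (iv5 D9518)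
theorem F75191 : act 1 n42728 = n47887 := d15_0 F75190 (iv7 F67012) F67011
def n47888 : Q := act 6 n23056
theorem D47888 : act 6 n23056 = n47888 := rfl
theorem F75192 : act 2 n47888 = n46658 := d3_1 D47888 (iv6 D46658) F65955
theorem F75193 : act 3 n47888 = n23062 := d7_1 D47888 (iv6 D23062) (iv3 F36116)
theorem F75194 : act 0 n41869 = n47888 := d21_4 (iv5 D19859) F14562 D19710 D41869 (iv6 D47888) (iv5 D23056) F65646 D22353 F34893 F31700
def n47889 : Q := act 0 n23057
theorem D47889 : act 0 n23057 = n47889 := rfl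
theorem F75195 : act 5 n47889 = n44669 := d21_0 (iv1 F72297) F72295 (iv6 F63778) (iv1 F63779) D41497 (iv5 F75179) (iv1 D47886) (iv5 D23056) D23057 D47889
theorem F75196 : act 2 n46659 = n47889 := d15_3 (iv0 D47889) F73745 (iv7 F73741)
theorem F75197 : act 1 n46661 = n47889 := d15_0 (iv0 D47889) (iv7 F72346) (iv2 F73738)
theorem F75198 : act 7 n47889 = n44952 := d15_2 (iv0 F73744) F75197 F70672
theorem F75199 : act 4 n47193 = n47889 := d11_3 F75198 F70674 D47193
theorem F75200 : act 5 n41698 = n47193 := d17_3 (iv1 D19626) D19627 D41698 F75199 F75195 (iv0 D44669) (iv5 D21272) D21271 F63426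
theorem E8109 : n47193 = n42761 := ((c18_3 (iv1 D20208) (iv4 F32039) D42761 F75199 F75195 (iv4 F71503) (iv0 D41922) (iv4 D19734) D19733 (iv5 F66106))).symm
theorem F75201 : act 4 n42761 = n47889 := (sb E8109 F75199)
theorem F75202 : act 5 n42761 = n41698 := (sb E8109 (iv5 F75200))
theorem F75203 : act 7 n42761 = n22702 := (sb E8109 (iv7 D47193))
theorem F75204 : act 7 n47192 = n41698 := d13_2 F75203 D47192 (iv5 F75202)
def n47890 : Q := act 5 n23057
theorem D47890 : act 5 n23057 = n47890 := rfl
theorem F75205 : act 2 n47890 = n46660 := d2_1 D47890 (iv5 D46660) F65956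
theorem F75207 : act 0 n41844 = n47890 := d21_1 D41844 (iv5 D47890) (iv6 D23057) F65646 (iv6 D10641) F7235 F6301 F6913 D10444 (iv1 F63556)
theorem F75208 : act 1 n45791 = n47890 := d15_0 (iv0 F75207) (iv7 F70226) (iv2 F72276)
def n47891 : Q := act 0 n23058
theorem D47891 : act 0 n23058 = n47891 := rfl
def n47892 : Q := act 1 n23058
theorem D47892 : act 1 n23058 = n47892 := rfl
theorem F75209 : act 3 n44922 = n47892 := d20_3 F62965 (iv1 F62121) (iv4 F70595) (iv1 D47892) (iv3 D23058) (iv4 D10871) (iv1 D4953) (iv4 F7372) (iv3 F7400) D10914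
theorem F75210 : act 4 n46511 = n47892 := d20_6 F17822 (iv1 F66048) D9517 F62720 F62717 (iv3 F73489) (iv1 D47892) (iv4 F75165) (iv3 D47882) F66119
theorem F75211 : act 6 n47892 = n47000 := d10_2 (iv6 F73490) F75210 F74218
theorem F75212 : act 7 n47892 = n44920 := d11_2 D46511 F75210 F70592
theorem E8110 : n47891 = n44591 := ((c15_4 (iv0 D47891) D47892 F75212 F70590)).symm
theorem F75213 : act 1 n44591 = n23058 := (sb E8110 (iv0 D47891))
def n47893 : Q := act 2 n23058
theorem D47893 : act 2 n23058 = n47893 := rfl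
def n47894 : Q := act 5 n23058
theorem D47894 : act 5 n23058 = n47894 := rfl
theorem F75214 : act 3 n47894 = n23059 := d6_1 D47894 (iv5 D23059) D23058
def n47895 : Q := act 6 n23058
theorem D47895 : act 6 n23058 = n47895 := rfl
theorem F75215 : act 3 n47895 = n23060 := d7_1 D47895 (iv6 D23060) D23058
def n47896 : Q := act 4 n23059
theorem D47896 : act 4 n23059 = n47896 := rfl
def n47897 : Q := act 6 n23059
theorem D47897 : act 6 n23059 = n47897 := rfl
def n47898 : Q := act 0 n23060
theorem D47898 : act 0 n23060 = n47898 := rfl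
theorem F75216 : act 5 n47898 = n44692 := d17_1 D47898 (iv1 F71478) F71472 F34031 (iv5 F34044) (iv0 F66746) F31609 F66745 (iv4 F36118)
theorem F75217 : act 7 n45004 = n47898 := d13_0 F75216 F71477 (iv5 F71468)
theorem F75218 : act 1 n44841 = n47898 := d15_1 (iv0 F70432) (iv7 F75217) F70777
def n47899 : Q := act 5 n23060
theorem D47899 : act 5 n23060 = n47899 := rfl
theorem F75219 : act 1 n47899 = n45343 := d17_6 D10328 D21624 F36121 (iv5 D23065) (iv4 F36118) D47899 (iv5 D45343) (iv0 D21617) F16430
theorem F75220 : act 1 n45346 = n47899 := d15_0 F75219 F71446 (iv2 F71458)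
def n47900 : Q := act 7 n23060
theorem D47900 : act 7 n23060 = n47900 := rfl
theorem F75222 : act 4 n47900 = n23066 := d11_1 D47900 (iv7 D23066) (iv4 F36118)
theorem F75223 : act 6 n47900 = n44633 := d14_1 D47900 F70182 (iv6 F36047) F63380 D23060
theorem F75224 : act 1 n45004 = n47900 := d17_8 F66784 (iv5 F31614) (iv1 F66788) (iv5 D10330) (iv4 F16430) D21619 D45349 (iv5 F71468) F75222
theorem F75225 : act 1 n47782 = n45004 := d15_0 F75224 (iv7 D47900) (iv2 F75065)
def n47901 : Q := act 3 n23061
theorem D47901 : act 3 n23061 = n47901 := rfl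
def n47902 : Q := act 5 n23061
theorem D47902 : act 5 n23061 = n47902 := rfl
def n47903 : Q := act 6 n23061
theorem D47903 : act 6 n23061 = n47903 := rfl
theorem F75226 : act 4 n47903 = n23062 := d10_1 D47903 (iv6 D23062) D23061
def n47904 : Q := act 5 n23062
theorem D47904 : act 5 n23062 = n47904 := rfl
theorem F75228 : act 0 n47904 = n23579 := d21_1 D47904 (iv5 F64918) (iv6 D42041) (iv1 F66788) F16433 (iv5 D8956) (iv1 F16771) D10269 D21506 F36119
def n47905 : Q := act 4 n23065
theorem D47905 : act 4 n23065 = n47905 := rfl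
def n47906 : Q := act 0 n23069
theorem D47906 : act 0 n23069 = n47906 := rfl
theorem F75229 : act 4 n47906 = n42469 := d18_3 D10874 D23069 D47906 (iv5 D42469) F65545 (iv0 D23038) (iv4 D10866) (iv0 D4952) D4954
theorem F75230 : act 1 n23074 = n47906 := d15_0 (iv0 D47906) (iv7 F71781) F71780
def n47909 : Q := act 6 n23069
theorem D47909 : act 6 n23069 = n47909 := rfl
theorem F75232 : act 2 n47909 = n23229 := d3_1 D47909 (iv6 F75072) F75071
theorem F75233 : act 4 n47909 = n23071 := d10_1 D47909 (iv6 D23071) D23069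
theorem F75234 : act 7 n23213 = n47909 := d11_0 F75233 F62802 D23213
def n47910 : Q := act 4 n23073
theorem D47910 : act 4 n23073 = n47910 := rfl
theorem F75237 : act 0 n47910 = n23361 := d18_2 F64026 D47910 (iv4 D23361) (iv5 D10971) (iv4 F17822) (iv0 F66119) (iv4 D23055) (iv0 F65647) (iv5 F34930)
theorem F75238 : act 0 n40968 = n47910 := d20_1 (iv4 F62112) (iv4 D47910) (iv3 D23073) (iv1 D10875) F7373 D4967 (iv1 F15368) (iv4 D9548) D9547 (iv1 F62522)
def n47913 : Q := act 5 n23074
theorem D47913 : act 5 n23074 = n47913 := rfl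
def n47916 : Q := act 5 n23076
theorem D47916 : act 5 n23076 = n47916 := rfl
def n47917 : Q := act 6 n23076
theorem D47917 : act 6 n23076 = n47917 := rfl
def n47919 : Q := act 5 n23077
theorem D47919 : act 5 n23077 = n47919 := rfl
def n47924 : Q := act 5 n23078
theorem D47924 : act 5 n23078 = n47924 := rfl
theorem F75244 : act 3 n47924 = n23079 := d6_1 D47924 (iv5 D23079) D23078
def n47926 : Q := act 0 n23079
theorem D47926 : act 0 n23079 = n47926 := rfl
def n47927 : Q := act 1 n23079
theorem D47927 : act 1 n23079 = n47927 := rfl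
def n47929 : Q := act 6 n23079
theorem D47929 : act 6 n23079 = n47929 := rfl
theorem F75247 : act 5 n47929 = n40482 := d12_1 D47929 (iv6 D40482) (iv5 D19130) (iv6 F17659) D23079
def n47930 : Q := act 7 n23079
theorem D47930 : act 7 n23079 = n47930 := rfl
theorem F75248 : act 5 n47930 = n23080 := d13_1 D47930 (iv7 D23080) D23079
def n47931 : Q := act 6 n23080
theorem D47931 : act 6 n23080 = n47931 := rfl
theorem F75249 : act 4 n47931 = n23081 := d10_1 D47931 (iv6 D23081) (iv4 F36130)
theorem F75250 : act 7 n47931 = n23685 := d14_2 D23080 D47931 (iv6 D23685) F17975 (iv6 F17659)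
def n47932 : Q := act 0 n23096
theorem D47932 : act 0 n23096 = n47932 := rfl
theorem F75251 : act 5 n47932 = n41482 := d21_2 D23096 D47932 (iv6 D41482) (iv1 D19528) (iv6 D9193) D9192 (iv1 F17153) (iv5 D10618) D10619 (iv1 F66083)
theorem F75252 : act 1 n46444 = n47932 := d15_0 (iv0 D47932) (iv7 F65706) (iv2 F73319)
theorem F75253 : act 2 n41757 = n47932 := d2_3 F75251 F63936 D41757
theorem F75254 : act 7 n46777 = n47932 := d15_2 (iv0 F66129) D46777 (iv2 F75253)
def n47933 : Q := act 1 n23096
theorem D47933 : act 1 n23096 = n47933 := rfl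
theorem F75255 : act 1 n47933 = n46444 := d15_1 D47933 F73320 (iv2 F65977)
theorem F75256 : act 7 n47933 = n41757 := d15_2 (iv0 D47932) D47933 F75253
theorem F75257 : act 5 n47933 = n41758 := d17_7 (iv1 F63537) (iv5 F65675) (iv1 D23098) (iv5 D10882) D10881 D23096 D47933 F74771 (iv4 D46799)
theorem F75258 : act 2 n46777 = n47933 := d4_3 F75256 F75253 (iv7 F75254)
def n47934 : Q := act 4 n23096
theorem D47934 : act 4 n23096 = n47934 := rfl
theorem F75259 : act 2 n47934 = n46778 := d1_1 D47934 (iv4 D46778) (iv2 F65977)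
theorem F75260 : act 7 n47934 = n46786 := d11_2 F65706 D47934 (iv4 D46786)
def n47935 : Q := act 6 n23096
theorem D47935 : act 6 n23096 = n47935 := rfl
theorem F75261 : act 2 n47935 = n46779 := d3_1 D47935 (iv6 D46779) (iv2 F65977)
theorem F75262 : act 3 n47935 = n43665 := d7_1 D47935 (iv6 D43665) (iv3 F36141)
def n47936 : Q := act 4 n23097
theorem D47936 : act 4 n23097 = n47936 := rfl
theorem F75263 : act 2 n47936 = n41841 := d1_1 D47936 (iv4 D41841) (iv2 F65679)
theorem F75264 : act 6 n47936 = n41849 := d10_2 (iv6 F65681) D47936 (iv4 D41849)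
theorem F75265 : act 7 n47936 = n46780 := d11_2 (iv7 F65682) D47936 (iv4 D46780)
theorem F75266 : act 0 n47936 = n42521 := d18_2 D23097 D47936 (iv4 D42521) (iv5 D20075) D20074 F65667 F17214 (iv0 F65657) D10882
def n47937 : Q := act 3 n23098
theorem D47937 : act 3 n23098 = n47937 := rfl
theorem F75267 : act 2 n47937 = n47860 := d0_1 D47937 (iv3 F75173) (iv2 F75186) (iv3 F73723) (iv2 F65674)
theorem F75268 : act 5 n47937 = n41827 := d6_2 (iv5 F65675) D47937 F64490
theorem F75269 : act 6 n47937 = n43191 := d7_2 (iv6 F65676) D47937 (iv3 D43191)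
theorem F75270 : act 7 n47937 = n41826 := d8_2 (iv7 F65677) D47937 F64489
theorem F75271 : act 2 n43191 = n42630 := d3_1 F75269 (iv6 F75134) (iv2 F75267)
theorem F75272 : act 0 n43191 = n41423 := d21_4 (iv5 F64885) (iv1 F73998) (iv5 F75268) F75269 (iv6 D41423) F31242 (iv1 F17578) D20386 (iv6 F67693) F67695
theorem F75273 : act 1 n43191 = n42631 := d15_1 (iv0 F75272) (iv7 D42631) (iv2 F63871)
theorem F75274 : act 4 n42630 = n43584 := d1_2 F68508 F75271 (iv2 F68510)
theorem F75276 : act 0 n47937 = n42430 := d21_1 (iv5 F75268) (iv5 D42430) D42431 (iv1 F65874) (iv6 D22869) D22868 F63332 (iv5 F67697) F67698 (iv1 F73998)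
theorem F75277 : act 1 n47937 = n42444 := d15_1 (iv0 F75276) F65562 (iv2 F65546)
def n47938 : Q := act 4 n23098
theorem D47938 : act 4 n23098 = n47938 := rfl
theorem F75278 : act 2 n47938 = n46780 := d1_1 D47938 (iv4 D46780) (iv2 F65674)
theorem F75279 : act 6 n47938 = n43192 := d10_2 (iv6 F65676) D47938 (iv4 D43192)
theorem F75280 : act 7 n47938 = n41841 := d11_2 (iv7 F65677) D47938 (iv4 D41841)
theorem F75281 : act 1 n47938 = n42521 := d15_0 (iv0 F75266) F75265 (iv2 F75278)
def n47939 : Q := act 0 n23099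
theorem D47939 : act 0 n23099 = n47939 := rfl
theorem F75282 : act 1 n46446 = n47939 := d15_0 (iv0 D47939) (iv7 F65708) (iv2 F73326)
def n47940 : Q := act 1 n23099
theorem D47940 : act 1 n23099 = n47940 := rfl
theorem F75284 : act 4 n42765 = n47940 := d20_6 D19822 F31607 (iv4 D9540) (iv3 F14819) D20203 D42765 (iv1 D47940) (iv4 D23099) F17664 F14496
theorem F75286 : act 7 n47940 = n46781 := d11_2 (iv7 F67009) F75284 F73893
theorem F75287 : act 0 n40874 = n42765 := d18_0 F75284 (iv1 D47940) (iv4 D23099) (iv5 D10882) D10881 F66083 F17155 D19267 D40874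
theorem F75288 : act 1 n40870 = n42765 := d15_0 (iv0 F75287) (iv7 F74261) F74259
def n47941 : Q := act 3 n23099
theorem D47941 : act 3 n23099 = n47941 := rfl
def n47942 : Q := act 5 n23099
theorem D47942 : act 5 n23099 = n47942 := rfl
theorem F75293 : act 2 n47942 = n46784 := d2_1 D47942 (iv5 D46784) (iv2 F65976)
theorem F75294 : act 7 n47942 = n46791 := d13_2 F65708 D47942 (iv5 D46791)
def n47978 : Q := act 4 n23147
theorem D47978 : act 4 n23147 = n47978 := rfl
theorem F75342 : act 2 n47978 = n47762 := d1_1 D47978 (iv4 D47762) F70969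
theorem F75343 : act 3 n47978 = n44915 := d5_1 D47978 F70578 (iv3 D22593) D22594 (iv3 F36216)
theorem F75344 : act 7 n47978 = n47762 := d11_2 (iv7 F70968) D47978 (iv4 D47762)
theorem F75345 : act 0 n47978 = n44924 := d20_1 D47978 F70603 (iv3 D44518) (iv1 D21173) (iv3 D10091) (iv4 D4591) (iv1 F7079) D4969 D10901 D23147
theorem F75346 : act 0 n44924 = n47978 := d20_10 (iv4 D47978) (iv1 F36217) F17702 (iv3 D10901) F7387 D10856 F17653 D20478 F33688 D44924
def n47979 : Q := act 6 n23147
theorem D47979 : act 6 n23147 = n47979 := rfl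
theorem F75347 : act 2 n47979 = n47763 := d3_1 D47979 (iv6 D47763) F70969
theorem F75348 : act 3 n47979 = n46983 := d7_1 D47979 (iv6 D46983) (iv3 F36216)
def n47980 : Q := act 6 n23148
theorem D47980 : act 6 n23148 = n47980 := rfl
theorem F75349 : act 2 n47980 = n32502 := d3_1 D47980 F51575 (iv2 F36218)
theorem F75350 : act 3 n47980 = n23150 := d7_1 D47980 (iv6 D23150) (iv3 F36219)
theorem F75351 : act 4 n47980 = n32467 := d10_1 D47980 F51548 F36221
def n47981 : Q := act 0 n23149
theorem D47981 : act 0 n23149 = n47981 := rfl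
def n47982 : Q := act 1 n23149
theorem D47982 : act 1 n23149 = n47982 := rfl
theorem F75352 : act 1 n47982 = n47767 := d15_1 D47982 (iv7 D47767) (iv2 F36222)
theorem F75353 : act 3 n47982 = n47018 := d20_5 (iv4 D10866) (iv1 F17652) (iv4 F36041) (iv3 F75025) (iv1 F75352) (iv4 D47018) (iv1 D22605) (iv4 F35140) F35139 F66025
def n47983 : Q := act 5 n23149
theorem D47983 : act 5 n23149 = n47983 := rfl
theorem F75354 : act 2 n47983 = n47766 := d2_1 D47983 (iv5 D47766) (iv2 F36222)
theorem F75355 : act 3 n47983 = n23152 := d6_1 D47983 (iv5 D23152) (iv3 F36223)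
def n47984 : Q := act 7 n23149
theorem D47984 : act 7 n23149 = n47984 := rfl
theorem F75356 : act 2 n47984 = n47767 := d4_1 D47984 (iv7 D47767) (iv2 F36222)
theorem F75357 : act 3 n47984 = n23153 := d8_1 D47984 (iv7 D23153) (iv3 F36223)
theorem F75358 : act 4 n47984 = n47984 := d11_1 D47984 (iv7 D47984) F36224
theorem F75359 : act 6 n47984 = n47767 := d14_1 D47984 (iv7 D47767) (iv6 D22981) (iv7 F17703) D23149
theorem F75360 : act 1 n47767 = n47981 := d15_0 (iv0 D47981) D47984 F75356
theorem F75361 : act 1 n47765 = n47984 := d15_1 D47765 (iv7 D47984) F36222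
theorem F75362 : act 1 n47984 = n47764 := d15_0 (iv0 D47764) D47767 (iv2 F75356)
def n47985 : Q := act 0 n23150
theorem D47985 : act 0 n23150 = n47985 := rfl
def n47986 : Q := act 1 n23150
theorem D47986 : act 1 n23150 = n47986 := rfl
theorem F75363 : act 1 n47986 = n23182 := d15_1 D47986 (iv7 D23182) (iv2 F36225)
def n47987 : Q := act 5 n23150
theorem D47987 : act 5 n23150 = n47987 := rfl
theorem F75364 : act 2 n47987 = n23181 := d2_1 D47987 (iv5 D23181) (iv2 F36225)
theorem F75365 : act 6 n47987 = n23152 := d12_2 D23150 D47987 (iv5 D23152) (iv6 D10903) D10902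
def n47988 : Q := act 7 n23150
theorem D47988 : act 7 n23150 = n47988 := rfl
theorem F75366 : act 2 n47988 = n23182 := d4_1 D47988 (iv7 D23182) (iv2 F36225)
theorem F75367 : act 4 n47988 = n38927 := d11_1 D47988 (iv7 D38927) (iv4 F36226)
theorem F75368 : act 6 n47988 = n47771 := d14_1 D47988 (iv7 D47771) (iv6 D22982) (iv7 F17705) D23150
theorem F75369 : act 1 n23182 = n47985 := d15_0 (iv0 D47985) D47988 F75366
theorem F75370 : act 1 n23180 = n47988 := d15_1 D23180 (iv7 D47988) F36225
theorem F75371 : act 1 n47988 = n23179 := d15_0 (iv0 D23179) D23182 (iv2 F75366)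
def n47989 : Q := act 3 n23151
theorem D47989 : act 3 n23151 = n47989 := rfl
theorem F75372 : act 4 n47989 = n46468 := d5_2 F62947 D47989 (iv3 D46468) (iv4 F62953) F62952
theorem F75373 : act 7 n47989 = n23183 := d8_2 (iv7 F36228) D47989 (iv3 D23183)
def n47990 : Q := act 5 n23151
theorem D47990 : act 5 n23151 = n47990 := rfl
theorem F75374 : act 2 n47990 = n23187 := d2_1 D47990 (iv5 D23187) F36229
theorem F75375 : act 7 n47990 = n23184 := d13_2 (iv7 F36228) D47990 (iv5 D23184)
def n47991 : Q := act 0 n23152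
theorem D47991 : act 0 n23152 = n47991 := rfl
def n47992 : Q := act 4 n23152
theorem D47992 : act 4 n23152 = n47992 := rfl
theorem F75376 : act 2 n47992 = n23191 := d1_1 D47992 (iv4 D23191) (iv2 F36230)
def n47993 : Q := act 7 n23152
theorem D47993 : act 7 n23152 = n47993 := rfl
theorem F75377 : act 2 n47993 = n23192 := d4_1 D47993 (iv7 D23192) (iv2 F36230)
theorem F75378 : act 5 n47993 = n23153 := d13_1 D47993 (iv7 D23153) D23152
theorem F75379 : act 1 n23192 = n47991 := d15_0 (iv0 D47991) D47993 F75377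
theorem F75380 : act 1 n23190 = n47993 := d15_1 D23190 (iv7 D47993) F36230
theorem F75381 : act 7 n47991 = n23190 := d15_2 (iv0 F70375) F75379 (iv2 F70373)
theorem F75382 : act 2 n47991 = n23189 := d15_3 (iv0 D23189) D23190 (iv7 F75381)
theorem F75383 : act 7 n23189 = n44794 := d4_2 (iv7 F75381) F75382 F70373
theorem F75384 : act 5 n44795 = n23189 := d13_3 F75383 (iv5 D44794) D44795
theorem F75385 : act 1 n47993 = n23189 := d15_1 F75380 F75383 F70373
theorem F75386 : act 1 n44795 = n42009 := d17_8 (iv1 F63417) F63418 (iv1 F36245) F36242 (iv4 F36232) (iv5 F75378) F75385 (iv5 F75384) F64843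
def n47994 : Q := act 5 n23156
theorem D47994 : act 5 n23156 = n47994 := rfl
theorem F75387 : act 2 n47994 = n23208 := d2_1 D47994 (iv5 D23208) (iv2 F62809)
theorem F75388 : act 7 n47994 = n23227 := d13_2 (iv7 F62810) D47994 (iv5 D23227)
def n47995 : Q := act 4 n23157
theorem D47995 : act 4 n23157 = n47995 := rfl
theorem F75389 : act 2 n47995 = n23213 := d1_1 D47995 (iv4 D23213) (iv2 F62811)
theorem F75390 : act 7 n47995 = n23229 := d11_2 (iv7 F62812) D47995 (iv4 D23229)
def n47996 : Q := act 5 n23159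
theorem D47996 : act 5 n23159 = n47996 := rfl
theorem F75391 : act 2 n47996 = n23227 := d2_1 D47996 (iv5 D23227) (iv2 F62798)
theorem F75392 : act 7 n47996 = n23208 := d13_2 (iv7 F62799) D47996 (iv5 D23208)
def n47997 : Q := act 4 n23161
theorem D47997 : act 4 n23161 = n47997 := rfl
theorem F75393 : act 2 n47997 = n23235 := d1_1 D47997 (iv4 D23235) (iv2 F63419)
theorem F75395 : act 1 n47997 = n40996 := d15_0 (iv0 F70435) F70434 (iv2 F75393)
def n47998 : Q := act 6 n23161
theorem D47998 : act 6 n23161 = n47998 := rfl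
theorem F75396 : act 2 n47998 = n23237 := d3_1 D47998 (iv6 D23237) (iv2 F63419)
theorem F75397 : act 5 n47998 = n23676 := d12_1 D47998 (iv6 F66776) F66775 (iv6 F64775) (iv5 F64773)
theorem F75400 : act 0 n44548 = n47998 := d21_4 (iv5 D10096) D10094 D21186 D44548 (iv6 D47998) F64773 (iv1 D41984) (iv5 F63304) F63305 F63218
def n47999 : Q := act 1 n23162
theorem D47999 : act 1 n23162 = n47999 := rfl
theorem F75401 : act 1 n47999 = n23246 := d15_1 D47999 (iv7 D23246) (iv2 F36238)
theorem F75402 : act 7 n47999 = n23242 := d15_2 (iv0 F68409) D47999 (iv2 F68410)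
theorem F75403 : act 2 n23243 = n47999 := d4_3 F75402 (iv2 F68410) F68406
def n48000 : Q := act 3 n23162
theorem D48000 : act 3 n23162 = n48000 := rfl
theorem F75404 : act 4 n48000 = n48000 := d5_2 D23162 D48000 (iv3 D48000) (iv4 D23162) F17713
theorem F75405 : act 6 n48000 = n40499 := d7_2 (iv6 F36239) D48000 (iv3 D40499)
def n48001 : Q := act 5 n23162
theorem D48001 : act 5 n23162 = n48001 := rfl
theorem F75406 : act 2 n48001 = n23245 := d2_1 D48001 (iv5 D23245) (iv2 F36238)
def n48002 : Q := act 7 n23162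
theorem D48002 : act 7 n23162 = n48002 := rfl
theorem F75407 : act 2 n48002 = n23246 := d4_1 D48002 (iv7 D23246) (iv2 F36238)
theorem F75408 : act 4 n48002 = n23163 := d11_1 D48002 (iv7 D23163) D23162
theorem F75409 : act 1 n23243 = n48002 := d15_1 D23243 (iv7 D48002) F36238
theorem F75410 : act 1 n48002 = n23242 := d15_1 F75409 (iv7 F75402) (iv2 F75403)
def n48003 : Q := act 6 n23164
theorem D48003 : act 6 n23164 = n48003 := rfl
theorem F75411 : act 2 n48003 = n47791 := d3_1 D48003 (iv6 D47791) (iv2 F36267)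
theorem F75412 : act 3 n48003 = n47801 := d7_1 D48003 (iv6 D47801) (iv3 F36246)
def n48004 : Q := act 3 n23165
theorem D48004 : act 3 n23165 = n48004 := rfl
theorem F75413 : act 2 n48004 = n46971 := d0_1 D48004 F74187 (iv2 F36263) F36265 F36268
theorem F75414 : act 4 n48004 = n44573 := d5_2 F72099 D48004 (iv3 F72103) (iv4 D45718) D45717
theorem F75415 : act 7 n48004 = n46972 := d8_2 (iv7 F36269) D48004 (iv3 F74191)
theorem F75416 : act 0 n48004 = n46500 := d20_4 (iv4 F70580) F72100 F72099 D48004 F73467 (iv4 D22590) (iv1 F34787) F34785 (iv3 F62122) F70581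
theorem F75417 : act 0 n46503 = n48004 := d20_4 F70603 F75023 (iv4 D47762) (iv3 F73480) (iv3 D48004) (iv4 F72099) F72105 (iv4 F70578) (iv3 F75343) F75345
def n48005 : Q := act 6 n23165
theorem D48005 : act 6 n23165 = n48005 := rfl
theorem F75418 : act 2 n48005 = n47790 := d3_1 D48005 (iv6 D47790) F36268
def n48006 : Q := act 6 n23166
theorem D48006 : act 6 n23166 = n48006 := rfl
theorem F75419 : act 2 n48006 = n23167 := d3_1 D48006 (iv6 D23167) D23166
theorem F75420 : act 3 n48006 = n47802 := d7_1 D48006 (iv6 D47802) (iv3 F36248)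
theorem F75421 : act 4 n48006 = n46681 := d10_1 D48006 (iv6 D46681) (iv4 F36249)
def n48007 : Q := act 0 n23167
theorem D48007 : act 0 n23167 = n48007 := rfl
def n48008 : Q := act 1 n23167
theorem D48008 : act 1 n23167 = n48008 := rfl
def n48009 : Q := act 5 n23167
theorem D48009 : act 5 n23167 = n48009 := rfl
theorem F75422 : act 3 n48009 = n23168 := d6_1 D48009 (iv5 D23168) (iv3 F36254)
def n48010 : Q := act 0 n23168
theorem D48010 : act 0 n23168 = n48010 := rfl
theorem F75423 : act 5 n48010 = n41963 := d17_3 (iv1 F35592) D23168 D48010 (iv4 D41963) (iv5 D19769) F63184 (iv5 F16768) (iv0 F63143) D5045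
theorem F75424 : act 2 n41982 = n48010 := d15_3 (iv0 D48010) (iv0 F64884) F64882
theorem F75425 : act 1 n23613 = n48010 := d15_0 (iv0 D48010) (iv7 F36645) (iv2 F36740)
theorem F75426 : act 7 n48010 = n47806 := d15_2 F64883 F75425 F75105
def n48011 : Q := act 4 n23168
theorem D48011 : act 4 n23168 = n48011 := rfl
theorem F75427 : act 2 n48011 = n47807 := d1_1 D48011 (iv4 D47807) (iv2 F36256)
def n48012 : Q := act 3 n23169
theorem D48012 : act 3 n23169 = n48012 := rfl
theorem F75428 : act 2 n48012 = n46972 := d0_1 D48012 (iv3 F74191) (iv2 F36267) F36246 F36259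
theorem F75429 : act 4 n48012 = n44574 := d5_2 (iv4 F36257) D48012 (iv3 F70096) (iv4 F51670) F51669
theorem F75430 : act 7 n48012 = n46971 := d8_2 F36260 D48012 F74187
theorem F75431 : act 0 n48012 = n46503 := d20_4 F16167 F27051 (iv4 F36257) D48012 F73480 D47762 F75022 (iv4 F70603) (iv3 D44924) (iv1 D21442)
theorem F75432 : act 0 n46500 = n48012 := d20_4 (iv4 D10713) D10710 D22590 (iv3 F73467) (iv3 D48012) F36257 (iv1 F32624) (iv4 F33420) (iv3 F33777) (iv1 F33780)
theorem F75433 : act 1 n38488 = n46273 := d18_8 F70097 (iv4 F75429) F75431 (iv4 D46503) F64250 F64248 F57404 D38488 F72936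
def n48013 : Q := act 6 n23169
theorem D48013 : act 6 n23169 = n48013 := rfl
theorem F75434 : act 2 n48013 = n47801 := d3_1 D48013 (iv6 D47801) F36259
theorem F75435 : act 4 n48013 = n32621 := d10_1 D48013 (iv6 D32621) (iv4 F36257)
def n48014 : Q := act 6 n23170
theorem D48014 : act 6 n23170 = n48014 := rfl
theorem F75436 : act 2 n48014 = n47800 := d3_1 D48014 (iv6 D47800) (iv2 F36263)
theorem F75437 : act 3 n48014 = n47790 := d7_1 D48014 (iv6 D47790) (iv3 F36265)
theorem F75438 : act 4 n48014 = n42388 := d10_1 D48014 (iv6 D42388) F36262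
def n48015 : Q := act 6 n23171
theorem D48015 : act 6 n23171 = n48015 := rfl
theorem F75439 : act 2 n48015 = n23172 := d3_1 D48015 (iv6 D23172) D23171
theorem F75440 : act 3 n48015 = n47792 := d7_1 D48015 (iv6 D47792) (iv3 F36270)
theorem F75441 : act 4 n48015 = n42277 := d10_1 D48015 (iv6 D42277) (iv4 F36271)
def n48016 : Q := act 0 n23172
theorem D48016 : act 0 n23172 = n48016 := rfl
def n48017 : Q := act 1 n23172
theorem D48017 : act 1 n23172 = n48017 := rfl
def n48018 : Q := act 5 n23172
theorem D48018 : act 5 n23172 = n48018 := rfl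
theorem F75442 : act 3 n48018 = n23175 := d6_1 D48018 (iv5 D23175) (iv3 F36275)
def n48019 : Q := act 7 n23172
theorem D48019 : act 7 n23172 = n48019 := rfl
theorem F75443 : act 3 n48019 = n23176 := d8_1 D48019 (iv7 D23176) (iv3 F36275)
theorem F75444 : act 4 n48019 = n42281 := d11_1 D48019 (iv7 D42281) (iv4 F36276)
theorem F75445 : act 6 n48019 = n23612 := d14_1 D48019 F36739 (iv6 D23008) (iv7 F17725) D23172
def n48020 : Q := act 0 n23175
theorem D48020 : act 0 n23175 = n48020 := rfl
theorem F75446 : act 5 n48020 = n41978 := d17_3 F66764 D23175 D48020 F64764 F31552 F63205 (iv5 D10259) D10258 D21497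
theorem F75447 : act 3 n41982 = n48020 := d6_3 F75446 F64763 D41982
theorem F75448 : act 7 n41977 = n48020 := d13_0 F75446 (iv7 D41978) D41977
theorem F75449 : act 0 n48020 = n47799 := d21_1 (iv5 F75446) F75097 F36065 (iv1 F17928) D23611 (iv5 F70364) (iv1 F70366) (iv5 D21333) D21334 F68951
theorem F75450 : act 2 n48020 = n47797 := d15_3 (iv0 D47797) (iv0 F64762) F75448
def n48021 : Q := act 1 n23175
theorem D48021 : act 1 n23175 = n48021 := rfl
theorem F75451 : act 1 n48021 = n47799 := d15_1 D48021 (iv7 D47799) (iv2 F36278)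
theorem F75452 : act 7 n48021 = n47797 := d15_2 (iv0 D48020) D48021 (iv2 F75450)
theorem F75453 : act 5 n41962 = n48021 := d21_6 D4973 (iv1 F16007) (iv5 D10168) D10169 (iv1 F35821) D41962 (iv1 D48021) (iv5 D23175) (iv6 D10911) (iv1 D4972)
theorem F75454 : act 2 n48021 = n41977 := d2_1 F75453 (iv5 D41977) (iv2 F64733)
def n48022 : Q := act 4 n23175
theorem D48022 : act 4 n23175 = n48022 := rfl
theorem F75455 : act 2 n48022 = n47798 := d1_1 D48022 (iv4 D47798) (iv2 F36278)
def n48023 : Q := act 7 n23175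
theorem D48023 : act 7 n23175 = n48023 := rfl
theorem F75456 : act 2 n48023 = n47799 := d4_1 D48023 (iv7 D47799) (iv2 F36278)
theorem F75457 : act 5 n48023 = n23176 := d13_1 D48023 (iv7 D23176) D23175
theorem F75458 : act 1 n41977 = n48023 := d15_1 (iv0 F64762) (iv7 D48023) F36278
theorem F75459 : act 1 n48023 = n47797 := d15_1 F75458 (iv7 F75452) F75454
def n48024 : Q := act 0 n23177
theorem D48024 : act 0 n23177 = n48024 := rfl
theorem F75460 : act 5 n48024 = n45051 := d17_1 D48024 (iv1 F70913) F51984 (iv4 F70352) (iv5 F70916) F70918 (iv5 F75106) (iv0 D47808) (iv4 F36285)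
theorem E8111 : n47029 = n45722 := (c17_5 (iv1 D38889) (iv5 F36286) D48024 F75460 (iv4 F74277) (iv5 D45722) F34311 D22309 F59423 F59922)
theorem F75461 : act 0 n45722 = n22612 := (sb E8111 (iv1 D47029))
theorem F75462 : act 1 n45722 = n41081 := (sb E8111 F74276)
theorem F75463 : act 4 n45722 = n45051 := (sb E8111 F74277)
theorem F75464 : act 1 n26280 = n48024 := d15_0 (iv0 D48024) F36287 (iv2 F41831)
theorem F75465 : act 2 n45051 = n37247 := d1_1 F75463 (iv4 F72919) (iv2 F72120)
theorem F75466 : act 7 n45051 = n37246 := d11_2 (iv7 F72121) F75463 (iv4 F72922)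
theorem E8112 : n46533 = n37512 := ((c18_9 F65442 (iv4 F73793) F73794 (iv4 D45721) D45722 F75463 (iv0 D45051) F33833 D37512 (iv5 D46533))).symm
theorem F75467 : act 3 n37512 = n46667 := (sb E8112 (iv3 F73756))
theorem F75468 : act 5 n37512 = n22306 := (sb E8112 (iv5 D46533))
theorem F75469 : act 7 n47808 = n48024 := d13_2 F75466 (iv5 F75106) F75460
theorem F75470 : act 2 n37246 = n45052 := d15_3 F70919 F70913 F75466
theorem F75471 : act 7 n37247 = n45052 := d4_2 (iv7 F75466) F75465 (iv2 F75470)
theorem E8113 : n47028 = n45719 := (c11_2 F75471 (iv4 F74274) F72112 F72919)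
theorem F75472 : act 0 n45719 = n41081 := (sb E8113 (iv1 F74275))
theorem F75473 : act 1 n45719 = n22612 := (sb E8113 (iv0 D47028))
theorem F75474 : act 4 n45719 = n45052 := (sb E8113 F74274)
def n48025 : Q := act 1 n23177
theorem D48025 : act 1 n23177 = n48025 := rfl
def n48026 : Q := act 2 n23177
theorem D48026 : act 2 n23177 = n48026 := rfl
theorem F75475 : act 3 n48026 = n26269 := d0_2 D23177 D48026 F41722 F26496 (iv2 F17728)
theorem F75476 : act 4 n48026 = n26280 := d1_2 (iv4 F36285) D48026 F41831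
theorem F75477 : act 5 n48026 = n26320 := d2_2 (iv5 F36286) D48026 F41970
theorem F75478 : act 7 n48026 = n26280 := d4_2 (iv7 F36287) D48026 F41831
theorem F75479 : act 1 n48026 = n47808 := d15_0 (iv0 D47808) (iv7 F36287) D48026
theorem F75480 : act 1 n48025 = n26280 := d15_1 D48025 (iv7 F75478) (iv2 D48026)
theorem F75481 : act 2 n47808 = n48025 := d15_3 F75480 F75464 (iv7 F75469)
theorem F75482 : act 5 n48025 = n45052 := d2_2 (iv5 F75106) F75481 (iv2 F75470)
theorem F75483 : act 7 n47809 = n48025 := d15_2 (iv0 D47808) D47809 (iv2 F75481)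
theorem F75484 : act 2 n48024 = n47809 := d4_3 F75483 (iv2 F75481) F75469
theorem F75485 : act 5 n37247 = n47809 := d13_3 F75483 F75482 (iv7 F75471)
theorem F75486 : act 1 n47809 = n48026 := d17_6 (iv1 D22312) (iv5 D10626) D10623 D22302 F72919 F75485 F75477 F73554 (iv4 D46553)
def n48027 : Q := act 6 n23177
theorem D48027 : act 6 n23177 = n48027 := rfl
theorem F75487 : act 3 n48027 = n23178 := d7_1 D48027 (iv6 D23178) D23177
theorem F75488 : act 4 n48027 = n47810 := d10_1 D48027 (iv6 D47810) (iv4 F36285)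
def n48028 : Q := act 0 n23178
theorem D48028 : act 0 n23178 = n48028 := rfl
def n48029 : Q := act 1 n23178
theorem D48029 : act 1 n23178 = n48029 := rfl
theorem F75489 : act 1 n48029 = n38927 := d15_1 D48029 (iv7 D38927) (iv2 F36288)
def n48030 : Q := act 5 n23178
theorem D48030 : act 5 n23178 = n48030 := rfl
theorem F75490 : act 2 n48030 = n38926 := d2_1 D48030 (iv5 D38926) (iv2 F36288)
theorem F75491 : act 6 n48030 = n38893 := d12_2 D23178 D48030 (iv5 D38893) (iv6 D18477) (iv5 F17730)
def n48031 : Q := act 7 n23178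
theorem D48031 : act 7 n23178 = n48031 := rfl
theorem F75492 : act 2 n48031 = n38927 := d4_1 D48031 (iv7 D38927) (iv2 F36288)
theorem F75493 : act 4 n48031 = n23182 := d11_1 D48031 (iv7 D23182) (iv4 F36289)
theorem F75494 : act 6 n48031 = n47814 := d14_1 D48031 (iv7 D47814) (iv6 D23011) (iv7 F17729) D23178
theorem F75495 : act 1 n38927 = n48028 := d15_0 (iv0 D48028) D48031 F75492
theorem F75496 : act 1 n38925 = n48031 := d15_1 D38925 (iv7 D48031) F36288
theorem F75497 : act 1 n48031 = n38924 := d15_0 (iv0 D38924) D38927 (iv2 F75492)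
def n48032 : Q := act 2 n23179
theorem D48032 : act 2 n23179 = n48032 := rfl
theorem F75498 : act 7 n23180 = n48032 := d15_2 (iv0 D23179) D23180 (iv2 D48032)
def n48033 : Q := act 3 n23179
theorem D48033 : act 3 n23179 = n48033 := rfl
def n48034 : Q := act 4 n23179
theorem D48034 : act 4 n23179 = n48034 := rfl
def n48035 : Q := act 5 n23179
theorem D48035 : act 5 n23179 = n48035 := rfl
def n48036 : Q := act 6 n23179
theorem D48036 : act 6 n23179 = n48036 := rfl
def n48037 : Q := act 7 n23179
theorem D48037 : act 7 n23179 = n48037 := rfl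
theorem F75499 : act 2 n48037 = n23180 := d4_1 D48037 F75498 (iv2 D48032)
def n48038 : Q := act 3 n23180
theorem D48038 : act 3 n23180 = n48038 := rfl
def n48039 : Q := act 4 n23180
theorem D48039 : act 4 n23180 = n48039 := rfl
def n48040 : Q := act 5 n23180
theorem D48040 : act 5 n23180 = n48040 := rfl
def n48041 : Q := act 6 n23180
theorem D48041 : act 6 n23180 = n48041 := rfl
def n48042 : Q := act 0 n23181
theorem D48042 : act 0 n23181 = n48042 := rfl
def n48043 : Q := act 1 n23181
theorem D48043 : act 1 n23181 = n48043 := rfl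
def n48044 : Q := act 4 n23181
theorem D48044 : act 4 n23181 = n48044 := rfl
theorem F75500 : act 6 n48044 = n23191 := d10_2 (iv6 F36291) D48044 (iv4 D23191)
def n48045 : Q := act 7 n23181
theorem D48045 : act 7 n23181 = n48045 := rfl
theorem F75501 : act 3 n48045 = n47828 := d8_1 D48045 (iv7 D47828) (iv3 F36290)
theorem F75502 : act 5 n48045 = n23182 := d13_1 D48045 (iv7 D23182) D23181
def n48046 : Q := act 0 n23183
theorem D48046 : act 0 n23183 = n48046 := rfl
def n48047 : Q := act 1 n23183
theorem D48047 : act 1 n23183 = n48047 := rfl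
def n48048 : Q := act 2 n23183
theorem D48048 : act 2 n23183 = n48048 := rfl
theorem F75503 : act 4 n48048 = n46895 := d1_2 F62959 D48048 (iv2 D46895)
def n48049 : Q := act 5 n23183
theorem D48049 : act 5 n23183 = n48049 := rfl
theorem F75504 : act 3 n48049 = n23184 := d6_1 D48049 (iv5 D23184) D23183
def n48050 : Q := act 6 n23183
theorem D48050 : act 6 n23183 = n48050 := rfl
theorem F75505 : act 3 n48050 = n23185 := d7_1 D48050 (iv6 D23185) D23183
theorem F75506 : act 4 n48050 = n46897 := d10_1 D48050 (iv6 D46897) F62959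
def n48051 : Q := act 0 n23184
theorem D48051 : act 0 n23184 = n48051 := rfl
theorem F75507 : act 5 n48051 = n44698 := d17_3 D10914 D23184 D48051 F70273 (iv5 F36313) (iv0 D23211) (iv5 D10921) (iv0 D4975) (iv4 F7401)
theorem F75508 : act 1 n23187 = n48051 := d15_0 (iv0 D48051) (iv7 F75375) F75374
def n48052 : Q := act 1 n23184
theorem D48052 : act 1 n23184 = n48052 := rfl
theorem F75509 : act 1 n48052 = n23187 := d15_1 D48052 (iv7 F68336) F68335
theorem F75510 : act 5 n41983 = n48052 := d17_5 (iv1 F17719) D10926 (iv1 F36314) F63304 (iv4 F64770) F75509 (iv5 D23187) F36234 F36232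
theorem F75511 : act 3 n48052 = n47835 := d6_1 F75510 (iv5 F75121) F64859
theorem F75512 : act 0 n23185 = n45014 := d21_10 (iv5 F71711) (iv1 F71712) (iv5 D21692) D21693 F62929 D41983 F75510 (iv1 D48052) (iv5 D23184) D23185
def n48053 : Q := act 4 n23184
theorem D48053 : act 4 n23184 = n48053 := rfl
def n48054 : Q := act 6 n23184
theorem D48054 : act 6 n23184 = n48054 := rfl
def n48055 : Q := act 1 n23185
theorem D48055 : act 1 n23185 = n48055 := rfl
theorem F75514 : act 4 n48055 = n23217 := d17_9 (iv1 D23217) F33872 (iv1 D21537) (iv5 D10282) (iv4 F16279) D21525 D45089 (iv5 F70996) D48055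
theorem F75515 : act 6 n23549 = n48055 := d21_3 D21314 D44746 F70337 (iv1 D48055) (iv6 D23185) D23184 D48051 F75507 (iv6 D44698) F63261
theorem F75516 : act 3 n48055 = n23551 := d7_1 F75515 (iv6 D23551) D23549
theorem F75517 : act 5 n48055 = n45458 := d21_6 (iv5 F75116) (iv1 F75117) (iv5 D23020) D23021 F66681 F75515 (iv1 D45458) (iv5 D21688) D21689 (iv1 F71718)
theorem F75518 : act 3 n45458 = n44791 := d6_1 F75517 F70371 (iv3 F75516)
def n48056 : Q := act 0 n23186
theorem D48056 : act 0 n23186 = n48056 := rfl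
def n48057 : Q := act 1 n23186
theorem D48057 : act 1 n23186 = n48057 := rfl
def n48058 : Q := act 2 n23186
theorem D48058 : act 2 n23186 = n48058 := rfl
def n48059 : Q := act 5 n23186
theorem D48059 : act 5 n23186 = n48059 := rfl
theorem F75519 : act 3 n48059 = n23187 := d6_1 D48059 (iv5 D23187) D23186
def n48060 : Q := act 6 n23186
theorem D48060 : act 6 n23186 = n48060 := rfl
theorem F75520 : act 3 n48060 = n23188 := d7_1 D48060 (iv6 D23188) D23186
def n48061 : Q := act 4 n23187
theorem D48061 : act 4 n23187 = n48061 := rfl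
def n48062 : Q := act 6 n23187
theorem D48062 : act 6 n23187 = n48062 := rfl
def n48063 : Q := act 3 n23189
theorem D48063 : act 3 n23189 = n48063 := rfl
def n48064 : Q := act 4 n23189
theorem D48064 : act 4 n23189 = n48064 := rfl
def n48065 : Q := act 6 n23189
theorem D48065 : act 6 n23189 = n48065 := rfl
def n48066 : Q := act 3 n23190
theorem D48066 : act 3 n23190 = n48066 := rfl
def n48067 : Q := act 4 n23190
theorem D48067 : act 4 n23190 = n48067 := rfl
def n48068 : Q := act 6 n23190
theorem D48068 : act 6 n23190 = n48068 := rfl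
def n48069 : Q := act 0 n23191
theorem D48069 : act 0 n23191 = n48069 := rfl
def n48070 : Q := act 1 n23191
theorem D48070 : act 1 n23191 = n48070 := rfl
def n48071 : Q := act 3 n23191
theorem D48071 : act 3 n23191 = n48071 := rfl
theorem F75521 : act 4 n48071 = n47856 := d5_2 D23191 D48071 (iv3 D47856) (iv4 D23024) (iv3 F17732)
def n48072 : Q := act 5 n23191
theorem D48072 : act 5 n23191 = n48072 := rfl
def n48073 : Q := act 7 n23191
theorem D48073 : act 7 n23191 = n48073 := rfl
theorem F75522 : act 4 n48073 = n23192 := d11_1 D48073 (iv7 D23192) D23191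
def n48074 : Q := act 6 n23192
theorem D48074 : act 6 n23192 = n48074 := rfl
theorem F75523 : act 3 n48074 = n47859 := d7_1 D48074 (iv6 D47859) (iv3 F36294)
theorem F75524 : act 5 n48074 = n47859 := d12_1 D48074 (iv6 D47859) F36073 (iv6 F17735) (iv5 F36295)
def n48075 : Q := act 0 n23202
theorem D48075 : act 0 n23202 = n48075 := rfl
theorem F75525 : act 5 n48075 = n41851 := d17_3 (iv1 F62736) D23202 D48075 (iv4 F67880) (iv5 F68353) (iv0 D43494) (iv5 D20567) (iv0 F62744) F32543
theorem F75526 : act 4 n48075 = n43504 := d18_1 D48075 (iv1 F68367) (iv4 D20589) (iv5 D9758) D9757 F32663 F62723 F62737 D23202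
theorem F75527 : act 1 n46818 = n48075 := d15_0 (iv0 D48075) F62788 (iv2 F73940)
theorem F75528 : act 3 n48075 = n23294 := d20_3 D20572 D43504 (iv4 F75526) (iv1 D23294) F17776 D10949 (iv1 F32786) (iv4 D20672) (iv3 F35848) (iv1 D20571)
def n48076 : Q := act 1 n23202
theorem D48076 : act 1 n23202 = n48076 := rfl
theorem F75531 : act 1 n48076 = n46818 := d15_1 D48076 F73942 F62986
theorem F75533 : act 5 n44820 = n48076 := d21_6 (iv5 F71728) F72728 (iv5 D46128) (iv6 F67702) (iv1 F67710) F70402 (iv1 D48076) (iv5 D23202) D23203 (iv1 F74902)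
theorem F75534 : act 2 n48076 = n46837 := d2_1 F75533 (iv5 F73984) (iv2 F70504)
theorem F75535 : act 6 n48076 = n43566 := d12_2 F70402 F75533 (iv5 F68461) (iv6 D43223) D43222
theorem F75536 : act 4 n43505 = n48076 := d18_7 (iv1 D22477) (iv4 F32543) F62744 (iv4 D9752) D9753 D20572 D43505 F75531 (iv5 D46818)
def n48077 : Q := act 4 n23202
theorem D48077 : act 4 n23202 = n48077 := rfl
theorem F75540 : act 0 n48077 = n43682 := d18_2 (iv1 D48076) D48077 (iv4 D43682) F32776 (iv4 F64681) (iv0 F68323) (iv4 F68322) D44820 F75533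
def n48078 : Q := act 6 n23202
theorem D48078 : act 6 n23202 = n48078 := rfl
theorem F75542 : act 3 n48078 = n23214 := d7_1 D48078 (iv6 D23214) (iv3 F36304)
def n48079 : Q := act 1 n23203
theorem D48079 : act 1 n23203 = n48079 := rfl
theorem F75544 : act 1 n48079 = n46153 := d15_1 D48079 F72805 F62987
theorem F75546 : act 4 n48079 = n43498 := d17_9 (iv1 D43498) D43499 F68358 (iv5 D22075) F16713 D10516 D22088 (iv5 F62988) D48079
theorem F75547 : act 5 n48079 = n45485 := d18_9 (iv1 D45485) D45486 F71731 (iv4 D44280) F33236 (iv4 F36592) (iv0 F67993) F67991 D48079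
def n48080 : Q := act 3 n23205
theorem D48080 : act 3 n23205 = n48080 := rfl
theorem F75549 : act 4 n48080 = n41006 := d5_2 (iv4 F62533) D48080 F62139 F30962 (iv3 F30959)
theorem F75550 : act 6 n48080 = n47862 := d7_2 (iv6 F66366) D48080 (iv3 D47862)
theorem F75551 : act 7 n48080 = n40978 := d8_2 (iv7 F62534) D48080 F62125
def n48081 : Q := act 5 n23205
theorem D48081 : act 5 n23205 = n48081 := rfl
theorem F75552 : act 7 n48081 = n40982 := d13_2 (iv7 F62534) D48081 (iv5 D40982)
def n48082 : Q := act 0 n23207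
theorem D48082 : act 0 n23207 = n48082 := rfl
def n48083 : Q := act 1 n23207
theorem D48083 : act 1 n23207 = n48083 := rfl
def n48084 : Q := act 2 n23207
theorem D48084 : act 2 n23207 = n48084 := rfl
def n48085 : Q := act 5 n23207
theorem D48085 : act 5 n23207 = n48085 := rfl
theorem F75553 : act 3 n48085 = n23208 := d6_1 D48085 (iv5 D23208) D23207
def n48086 : Q := act 6 n23207
theorem D48086 : act 6 n23207 = n48086 := rfl
theorem F75554 : act 3 n48086 = n23209 := d7_1 D48086 (iv6 D23209) D23207
def n48087 : Q := act 0 n23208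
theorem D48087 : act 0 n23208 = n48087 := rfl
theorem F75555 : act 5 n48087 = n44691 := d17_3 F62739 D23208 D48087 F70265 (iv5 F68341) (iv0 D43480) (iv5 D20561) F62632 (iv4 F33681)
theorem F75556 : act 1 n23227 = n48087 := d15_0 (iv0 D48087) (iv7 F75392) F75391
def n48088 : Q := act 1 n23208
theorem D48088 : act 1 n23208 = n48088 := rfl
theorem F75557 : act 1 n48088 = n23227 := d15_1 D48088 (iv7 F75388) F75387
theorem F75558 : act 5 n44833 = n48088 := d21_6 (iv5 F71748) (iv1 F71749) (iv5 D21733) D21734 D45524 (iv6 F71801) (iv1 D48088) (iv5 D23208) D23209 F70785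
def n48089 : Q := act 4 n23208
theorem D48089 : act 4 n23208 = n48089 := rfl
def n48090 : Q := act 6 n23208
theorem D48090 : act 6 n23208 = n48090 := rfl
def n48091 : Q := act 1 n23209
theorem D48091 : act 1 n23209 = n48091 := rfl
theorem F75559 : act 7 n48091 = n44539 := d15_2 (iv0 F70785) D48091 (iv2 F70783)
theorem F75560 : act 6 n47898 = n48091 := d21_3 D21281 D44692 (iv5 F75216) (iv1 D48091) (iv6 D23209) D23208 D48087 F75555 (iv6 D44691) (iv1 D21280)
theorem F75561 : act 5 n48091 = n45498 := d21_6 (iv5 F75143) (iv1 F75144) (iv5 D23059) D23060 D47898 F75560 (iv1 D45498) (iv5 D21713) D21714 F71549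
theorem F75562 : act 4 n43485 = n48091 := d11_3 F75559 F70055 (iv7 F72017)
def n48092 : Q := act 5 n23209
theorem D48092 : act 5 n23209 = n48092 := rfl
theorem F75563 : act 0 n48092 = n40699 := d17_2 (iv1 D48091) D48092 (iv5 D40699) F30854 D19210 D40712 (iv5 F63043) D43485 F75562
def n48093 : Q := act 4 n23211
theorem D48093 : act 4 n23211 = n48093 := rfl
def n48094 : Q := act 6 n23211
theorem D48094 : act 6 n23211 = n48094 := rfl
theorem F75564 : act 2 n48094 = n43214 := d3_1 D48094 F67671 F63307
theorem F75566 : act 5 n48094 = n40506 := d12_1 D48094 F61626 (iv5 D21290) D21291 (iv5 F36313)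
theorem F75567 : act 7 n48094 = n44550 := d14_2 F70818 D48094 (iv6 D44550) (iv7 F63208) D45018
def n48095 : Q := act 4 n23212
theorem D48095 : act 4 n23212 = n48095 := rfl
theorem F75568 : act 6 n48095 = n23664 := d10_2 (iv6 F63305) D48095 (iv4 D23664)
def n48096 : Q := act 0 n23213
theorem D48096 : act 0 n23213 = n48096 := rfl
theorem F75569 : act 4 n48096 = n43480 := d18_3 (iv1 D23212) D23213 D48096 F68341 (iv4 F70265) (iv0 F70266) F33549 (iv0 F63235) (iv5 F63304)
theorem F75570 : act 1 n23229 = n48096 := d15_0 (iv0 D48096) F75234 F75232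
def n48097 : Q := act 1 n23213
theorem D48097 : act 1 n23213 = n48097 := rfl
theorem F75571 : act 1 n48097 = n23229 := d15_1 D48097 (iv7 F75390) F75389
def n48099 : Q := act 5 n23213
theorem D48099 : act 5 n23213 = n48099 := rfl
def n48101 : Q := act 0 n23224
theorem D48101 : act 0 n23224 = n48101 := rfl
theorem F75573 : act 4 n48101 = n43707 := d18_1 D48101 (iv1 F68698) (iv4 D43657) (iv5 D20656) D20655 (iv0 F62730) (iv4 F33733) F62735 D23224
theorem F75574 : act 3 n48101 = n48076 := d20_5 (iv4 F75569) (iv1 F75570) (iv4 D23229) (iv3 F36324) D48101 (iv4 F75536) (iv1 D43505) (iv4 D20572) (iv3 F32656) D43480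
theorem F75575 : act 1 n46834 = n48101 := d15_0 (iv0 D48101) (iv7 F73349) (iv2 F73973)
def n48102 : Q := act 4 n23224
theorem D48102 : act 4 n23224 = n48102 := rfl
theorem F75577 : act 1 n48102 = n43670 := d18_6 D9789 D20647 (iv1 F62547) (iv4 F62578) D23224 D48102 (iv4 D43670) (iv0 D20662) (iv5 D9793)
theorem F75578 : act 1 n43672 = n48102 := d15_0 F75577 (iv7 F68692) F68691
def n48103 : Q := act 2 n23226
theorem D48103 : act 2 n23226 = n48103 := rfl
def n48104 : Q := act 5 n23226
theorem D48104 : act 5 n23226 = n48104 := rfl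
theorem F75579 : act 3 n48104 = n23227 := d6_1 D48104 (iv5 D23227) D23226
def n48105 : Q := act 6 n23226
theorem D48105 : act 6 n23226 = n48105 := rfl
theorem F75580 : act 3 n48105 = n23228 := d7_1 D48105 (iv6 D23228) D23226
def n48106 : Q := act 4 n23227
theorem D48106 : act 4 n23227 = n48106 := rfl
def n48107 : Q := act 6 n23227
theorem D48107 : act 6 n23227 = n48107 := rfl
def n48108 : Q := act 0 n23228
theorem D48108 : act 0 n23228 = n48108 := rfl
theorem F75581 : act 5 n48108 = n45378 := d17_1 D48108 (iv1 F71550) (iv5 D41959) (iv4 D19760) (iv5 F35868) (iv0 D5025) D5029 (iv0 F63188) (iv4 F36326)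
theorem F75582 : act 4 n48108 = n47380 := d18_3 F63228 (iv4 F36326) D48108 (iv5 D47380) (iv4 F63147) (iv0 D21216) F15976 (iv0 F63123) F17898
theorem F75583 : act 6 n48108 = n47873 := d21_5 (iv5 F75555) (iv1 F75556) (iv5 D23227) D23228 D48108 (iv5 F75151) (iv1 D44830) (iv5 D21354) D21355 F70266
theorem F75584 : act 1 n23539 = n48108 := d15_0 (iv0 D48108) (iv7 F63334) (iv2 F63335)
theorem F75585 : act 7 n48108 = n44604 := d15_2 F63083 F75584 F70126
def n48109 : Q := act 5 n23228
theorem D48109 : act 5 n23228 = n48109 := rfl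
theorem F75586 : act 1 n48109 = n44653 := d17_6 (iv1 F63184) D19769 (iv1 F31581) F63242 (iv4 F36326) D48109 (iv5 D44653) (iv0 D21254) F15998
theorem F75587 : act 1 n44656 = n48109 := d15_0 F75586 (iv7 F71546) F71545
def n48111 : Q := act 5 n23229
theorem D48111 : act 5 n23229 = n48111 := rfl
def n48112 : Q := act 6 n23234
theorem D48112 : act 6 n23234 = n48112 := rfl
theorem F75588 : act 2 n48112 = n46844 := d3_1 D48112 (iv6 D46844) (iv2 F65905)
theorem F75589 : act 3 n48112 = n23237 := d7_1 D48112 (iv6 D23237) D23234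
theorem F75590 : act 5 n48112 = n47683 := d21_6 (iv5 D9839) F16832 D19509 (iv6 F35025) F68053 D48112 (iv1 D47683) (iv5 F36018) (iv6 D22959) (iv1 F17633)
theorem F75591 : act 3 n47683 = n45029 := d6_1 F75590 (iv5 F70855) (iv3 F75589)
theorem F75592 : act 4 n47683 = n43645 := d20_6 (iv4 F32052) F36422 F36420 (iv3 F36336) (iv1 F70853) (iv3 F75591) (iv1 D43645) F32761 F15253 F14821
def n48113 : Q := act 0 n23235
theorem D48113 : act 0 n23235 = n48113 := rfl
theorem F75593 : act 4 n48113 = n40997 := d18_3 D10928 D23235 D48113 F62132 (iv4 F62533) (iv0 D23205) (iv4 D10920) (iv0 D4975) D4977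
theorem F75594 : act 1 n23240 = n48113 := d15_0 (iv0 D48113) (iv7 F70434) F70433
theorem E8114 : n43529 = n40997 := (c20_11 (iv4 F75593) (iv1 F75594) (iv4 D23240) D23239 F70663 F70660 F68420 (iv1 D43535) (iv4 D20595) D20594 D43529)
theorem F75595 : act 1 n40997 = n20594 := (sb E8114 (iv0 D43529))
theorem F75596 : act 7 n40996 = n48113 := d11_0 F75593 (iv7 D40997) D40996
def n48114 : Q := act 1 n23235
theorem D48114 : act 1 n23235 = n48114 := rfl
theorem F75598 : act 4 n40972 = n48114 := d20_6 (iv4 F68415) (iv1 F68416) (iv4 D20600) D20599 F66302 (iv3 F62116) (iv1 D48114) (iv4 D23235) D23234 (iv1 F73958)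
theorem F75599 : act 2 n48114 = n40996 := d1_1 F75598 (iv4 D40996) (iv2 F62115)
def n48115 : Q := act 3 n23235
theorem D48115 : act 3 n23235 = n48115 := rfl
def n48116 : Q := act 5 n23235
theorem D48116 : act 5 n23235 = n48116 := rfl
def n48117 : Q := act 6 n23235
theorem D48117 : act 6 n23235 = n48117 := rfl
def n48119 : Q := act 7 n23237
theorem D48119 : act 7 n23237 = n48119 := rfl
theorem F75608 : act 5 n48119 = n23675 := d13_1 D48119 (iv7 F70854) (iv5 F70855)
theorem F75609 : act 6 n48119 = n41990 := d14_1 D48119 (iv7 F64896) (iv6 F64897) F63416 D23237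
theorem F75610 : act 1 n44548 = n48119 := d15_1 (iv0 F75400) (iv7 D48119) (iv2 F75396)
def n48120 : Q := act 6 n23239
theorem D48120 : act 6 n23239 = n48120 := rfl
theorem F75612 : act 3 n48120 = n23241 := d7_1 D48120 (iv6 D23241) D23239
theorem F75613 : act 5 n48120 = n45813 := d12_1 D48120 (iv6 D45813) (iv5 D21910) D21911 (iv5 F65883)
theorem F75615 : act 0 n44667 = n48120 := d21_1 D44667 F75613 (iv6 D45813) D45811 (iv6 F72327) (iv5 D22819) F63107 (iv5 F63777) F63778 (iv1 F34382)
theorem F75616 : act 0 n48120 = n44665 := d21_7 (iv5 F64030) (iv1 D22829) (iv5 F17310) D22347 F64031 D45813 (iv5 F75613) (iv5 D44665) D44666 (iv1 F70223)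
def n48121 : Q := act 3 n23240
theorem D48121 : act 3 n23240 = n48121 := rfl
def n48122 : Q := act 5 n23240
theorem D48122 : act 5 n23240 = n48122 := rfl
def n48123 : Q := act 6 n23240
theorem D48123 : act 6 n23240 = n48123 := rfl
theorem F75617 : act 4 n48123 = n23241 := d10_1 D48123 (iv6 D23241) D23240
theorem F75618 : act 7 n47905 = n48123 := d11_0 F75617 (iv7 F36331) D47905
def n48124 : Q := act 3 n23242
theorem D48124 : act 3 n23242 = n48124 := rfl
theorem F75619 : act 4 n48124 = n46953 := d5_2 (iv4 F68411) D48124 (iv3 D46953) D46954 (iv3 F74174)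
def n48125 : Q := act 5 n23242
theorem D48125 : act 5 n23242 = n48125 := rfl
def n48126 : Q := act 6 n23242
theorem D48126 : act 6 n23242 = n48126 := rfl
def n48127 : Q := act 3 n23243
theorem D48127 : act 3 n23243 = n48127 := rfl
def n48128 : Q := act 5 n23243
theorem D48128 : act 5 n23243 = n48128 := rfl
def n48129 : Q := act 6 n23243
theorem D48129 : act 6 n23243 = n48129 := rfl
def n48130 : Q := act 0 n23244
theorem D48130 : act 0 n23244 = n48130 := rfl
def n48132 : Q := act 2 n23244
theorem D48132 : act 2 n23244 = n48132 := rfl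
def n48133 : Q := act 5 n23244
theorem D48133 : act 5 n23244 = n48133 := rfl
theorem F75622 : act 3 n48133 = n23245 := d6_1 D48133 (iv5 D23245) D23244
def n48134 : Q := act 7 n23244
theorem D48134 : act 7 n23244 = n48134 := rfl
theorem F75623 : act 3 n48134 = n23246 := d8_1 D48134 (iv7 D23246) D23244
def n48135 : Q := act 0 n23245
theorem D48135 : act 0 n23245 = n48135 := rfl
def n48136 : Q := act 1 n23245
theorem D48136 : act 1 n23245 = n48136 := rfl
def n48137 : Q := act 4 n23245
theorem D48137 : act 4 n23245 = n48137 := rfl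
def n48138 : Q := act 6 n23245
theorem D48138 : act 6 n23245 = n48138 := rfl
theorem F75625 : act 5 n48138 = n40527 := d12_1 D48138 (iv6 D40527) (iv5 D19147) (iv6 F17738) D23245
def n48139 : Q := act 7 n23245
theorem D48139 : act 7 n23245 = n48139 := rfl
theorem F75626 : act 5 n48139 = n23246 := d13_1 D48139 (iv7 D23246) D23245
def n48140 : Q := act 6 n23246
theorem D48140 : act 6 n23246 = n48140 := rfl
theorem F75627 : act 4 n48140 = n23247 := d10_1 D48140 (iv6 D23247) (iv4 F36335)
theorem F75628 : act 7 n48140 = n23674 := d14_2 D23246 D48140 (iv6 D23674) F17964 (iv6 F17738)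
def n48141 : Q := act 4 n23271
theorem D48141 : act 4 n23271 = n48141 := rfl
theorem F75629 : act 2 n48141 = n48093 := d1_1 D48141 (iv4 D48093) (iv2 F63307)
theorem F75631 : act 0 n43482 = n48141 := d20_7 D10949 (iv1 F32786) (iv4 D20672) (iv3 F35848) (iv1 D20571) (iv3 F32656) D43482 (iv4 D48141) (iv3 D23271) (iv1 F17747)
theorem F75632 : act 5 n43934 = n43481 := d18_9 (iv1 D43481) D43482 F75631 (iv4 D48141) F36357 (iv4 F64843) (iv0 F69061) F69059 D43934
theorem F75633 : act 2 n43481 = n43671 := d2_1 F75632 (iv5 F69166) (iv2 F71464)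
theorem F75634 : act 3 n43513 = n43481 := d0_0 F75633 (iv3 D43671) F64615 D43703 F68690
theorem F75635 : act 4 n43481 = n48097 := d20_6 F75526 (iv1 F68367) (iv4 D20589) (iv3 F32674) D43513 F75634 (iv1 D48097) (iv4 D23213) (iv3 F36304) D48075
def n48147 : Q := act 0 n23291
theorem D48147 : act 0 n23291 = n48147 := rfl
theorem F75643 : act 5 n48147 = n46118 := d21_2 D23291 D48147 (iv6 F72700) (iv1 F64468) (iv6 F73926) F73928 (iv1 F73465) F73463 F34777 (iv1 F62576)
theorem F75644 : act 1 n46475 = n48147 := d15_0 (iv0 D48147) (iv7 F62722) (iv2 F73400)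
theorem F75645 : act 2 n46926 = n48147 := d2_3 F75643 (iv2 F73003) (iv5 F74136)
theorem F75646 : act 6 n47440 = n48147 := d12_0 F75643 (iv6 F72700) (iv5 D22787) D22788 D47440
theorem F75647 : act 7 n46925 = n48147 := d13_0 F75643 F73006 (iv5 F74133)
def n48148 : Q := act 1 n23291
theorem D48148 : act 1 n23291 = n48148 := rfl
theorem F75649 : act 7 n48148 = n46926 := d15_2 (iv0 D48147) D48148 F75645
theorem F75650 : act 5 n48148 = n41777 := d17_7 (iv1 F63007) (iv5 F63005) (iv1 D23294) (iv5 D10947) D10946 D23291 D48148 F72703 F34517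
theorem F75651 : act 2 n46925 = n48148 := d2_3 F75650 F73005 (iv5 F74133)

end Cfsg.Agent.Helper17.ONTC
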