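import Cfsg.Agent.Helper17.ONTC.Facts10

set_option autoImplicit false
set_option linter.all false

noncomputable section

namespace Cfsg.Agent.Helper17.ONTC

def n48149 : Q := act 4 n23291
theorem D48149 : act 4 n23291 = n48149 := rfl
theorem F75652 : act 2 n48149 = n46942 := d1_1 D48149 (iv4 D46942) F63004
theorem F75653 : act 7 n48149 = n46927 := d11_2 F62722 D48149 (iv4 D46927)
def n48150 : Q := act 6 n23291
theorem D48150 : act 6 n23291 = n48150 := rfl
theorem F75654 : act 2 n48150 = n46943 := d3_1 D48150 (iv6 D46943) F63004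
theorem F75655 : act 3 n48150 = n42760 := d7_1 D48150 (iv6 D42760) (iv3 F36388)
def n48151 : Q := act 3 n23293
theorem D48151 : act 3 n23293 = n48151 := rfl
theorem F75656 : act 2 n48151 = n48101 := d0_1 D48151 F75574 F75534 F73985 F63749
theorem F75657 : act 5 n48151 = n41789 := d6_2 (iv5 F63002) D48151 F64446
theorem F75658 : act 6 n48151 = n41792 := d7_2 F63003 D48151 F64447
theorem F75659 : act 7 n48151 = n46930 := d8_2 F63748 D48151 (iv3 D46930)
theorem F75660 : act 4 n48151 = n43674 := d20_6 D20670 F32778 (iv4 D10949) (iv3 F17776) D23293 D48151 (iv1 D43674) (iv4 D20664) F15261 D9796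
theorem F75661 : act 2 n43674 = n43707 := d1_1 F75660 (iv4 F75573) (iv2 F75656)
theorem F75662 : act 6 n43674 = n23430 := d10_2 (iv6 F75658) F75660 (iv4 F64450)
theorem F75663 : act 7 n43674 = n43708 := d11_2 (iv7 F75659) F75660 (iv4 F74141)
theorem F75664 : act 0 n46454 = n48151 := d18_0 F75660 (iv1 D43674) (iv4 D20664) (iv5 D9793) D9792 F62728 (iv4 F17129) D22258 D46454
theorem F75665 : act 1 n46453 = n48151 := d15_0 (iv0 F75664) (iv7 F73975) F73973
theorem F75666 : act 2 n43708 = n43673 := d15_3 (iv0 D43673) D43674 F75663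
theorem F75667 : act 7 n43707 = n43673 := d4_2 (iv7 F75663) F75661 (iv2 F75666)
def n48152 : Q := act 4 n23293
theorem D48152 : act 4 n23293 = n48152 := rfl
theorem F75668 : act 2 n48152 = n46932 := d1_1 D48152 (iv4 D46932) F63749
theorem F75669 : act 6 n48152 = n41815 := d10_2 F63003 D48152 (iv4 D41815)
def n48153 : Q := act 4 n23294
theorem D48153 : act 4 n23294 = n48153 := rfl
theorem F75671 : act 2 n48153 = n46931 := d1_1 D48153 (iv4 D46931) F63747
def n48154 : Q := act 6 n23294
theorem D48154 : act 6 n23294 = n48154 := rfl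
theorem F75674 : act 5 n48154 = n41856 := d12_1 D48154 (iv6 D41856) (iv5 D19705) D19706 (iv5 F63005)
def n48155 : Q := act 0 n23295
theorem D48155 : act 0 n23295 = n48155 := rfl
theorem F75678 : act 4 n48155 = n43513 := d20_2 D23295 D48155 F75634 (iv1 D43481) F32656 D20572 D43504 (iv4 F75526) F75528 (iv1 D23294)
theorem F75680 : act 2 n46934 = n48155 := d1_3 F75678 (iv2 F68690) F74149
theorem F75681 : act 6 n48155 = n45750 := d3_2 (iv6 F74150) F75680 (iv2 F72214)
def n48158 : Q := act 5 n23295
theorem D48158 : act 5 n23295 = n48158 := rfl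
theorem F75690 : act 2 n48158 = n46945 := d2_1 D48158 (iv5 D46945) (iv2 F63028)
def n48162 : Q := act 1 n23307
theorem D48162 : act 1 n23307 = n48162 := rfl
theorem F75699 : act 1 n48162 = n46477 := d15_1 D48162 F73405 F65968
theorem F75700 : act 7 n48162 = n43176 := d15_2 (iv0 F67529) D48162 F67621
theorem F75701 : act 4 n43511 = n48162 := d20_0 (iv1 D48162) (iv4 D23307) (iv3 D10952) (iv1 D4990) (iv3 F7402) D10930 D23242 F68411 F74174 F74175
def n48163 : Q := act 5 n23307
theorem D48163 : act 5 n23307 = n48163 := rfl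
theorem F75703 : act 2 n48163 = n46951 := d2_1 D48163 (iv5 D46951) F65968
theorem F75704 : act 7 n48163 = n46947 := d13_2 F65730 D48163 (iv5 D46947)
def n48164 : Q := act 6 n23307
theorem D48164 : act 6 n23307 = n48164 := rfl
theorem F75705 : act 2 n48164 = n46952 := d3_1 D48164 (iv6 D46952) F65968
theorem F75706 : act 4 n48164 = n23308 := d10_1 D48164 (iv6 D23308) D23307
def n48184 : Q := act 6 n23316
theorem D48184 : act 6 n23316 = n48184 := rfl
theorem F75722 : act 2 n48184 = n40614 := d3_1 D48184 (iv6 D40614) (iv2 F36426)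
def n48185 : Q := act 5 n23317
theorem D48185 : act 5 n23317 = n48185 := rfl
theorem F75723 : act 2 n48185 = n40885 := d2_1 D48185 (iv5 D40885) (iv2 F36430)
def n48186 : Q := act 6 n23318
theorem D48186 : act 6 n23318 = n48186 := rfl
theorem F75724 : act 2 n48186 = n40123 := d3_1 D48186 (iv6 D40123) (iv2 F36432)
theorem F75725 : act 3 n48186 = n33076 := d7_1 D48186 (iv6 D33076) (iv3 F36433)
theorem F75726 : act 4 n48186 = n23319 := d10_1 D48186 (iv6 D23319) D23318
def n48187 : Q := act 0 n23319
theorem D48187 : act 0 n23319 = n48187 := rfl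
def n48188 : Q := act 1 n23319
theorem D48188 : act 1 n23319 = n48188 := rfl
theorem F75727 : act 1 n48188 = n41010 := d15_1 D48188 (iv7 D41010) (iv2 F36438)
def n48189 : Q := act 5 n23319
theorem D48189 : act 5 n23319 = n48189 := rfl
theorem F75728 : act 2 n48189 = n41009 := d2_1 D48189 (iv5 D41009) (iv2 F36438)
theorem F75729 : act 6 n48189 = n23322 := d12_2 D23319 D48189 (iv5 D23322) (iv6 D10960) D10959
def n48190 : Q := act 7 n23319
theorem D48190 : act 7 n23319 = n48190 := rfl
theorem F75730 : act 2 n48190 = n41010 := d4_1 D48190 (iv7 D41010) (iv2 F36438)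
theorem F75731 : act 6 n48190 = n40905 := d14_1 D48190 (iv7 D40905) (iv6 D19279) (iv7 F17806) D23319
theorem F75732 : act 1 n41010 = n48187 := d15_0 (iv0 D48187) D48190 F75730
theorem F75733 : act 1 n41008 = n48190 := d15_1 D41008 (iv7 D48190) F36438
theorem F75734 : act 1 n48190 = n41007 := d15_0 (iv0 D41007) D41010 (iv2 F75730)
def n48191 : Q := act 3 n23320
theorem D48191 : act 3 n23320 = n48191 := rfl
theorem F75735 : act 4 n48191 = n46997 := d5_2 (iv4 F62945) D48191 F74214 (iv4 D23156) (iv3 F62808)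
theorem F75736 : act 7 n48191 = n41017 := d8_2 (iv7 F62946) D48191 (iv3 D41017)
def n48192 : Q := act 5 n23320
theorem D48192 : act 5 n23320 = n48192 := rfl
theorem F75737 : act 2 n48192 = n41014 := d2_1 D48192 (iv5 D41014) (iv2 F62944)
theorem F75738 : act 7 n48192 = n41019 := d13_2 (iv7 F62946) D48192 (iv5 D41019)
def n48193 : Q := act 6 n23320
theorem D48193 : act 6 n23320 = n48193 := rfl
theorem F75739 : act 2 n48193 = n41015 := d3_1 D48193 (iv6 D41015) (iv2 F62944)
theorem F75740 : act 4 n48193 = n45536 := d10_1 D48193 (iv6 F71820) (iv4 F62945)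
theorem F75741 : act 5 n48193 = n40770 := d21_6 D19173 F30804 (iv5 D10959) D10960 D23320 D48193 (iv1 D40770) (iv5 D19231) (iv6 D9039) (iv1 F14072)
def n48194 : Q := act 5 n23321
theorem D48194 : act 5 n23321 = n48194 := rfl
theorem F75742 : act 2 n48194 = n41019 := d2_1 D48194 (iv5 D41019) (iv2 F62746)
theorem F75743 : act 7 n48194 = n41014 := d13_2 (iv7 F62747) D48194 (iv5 D41014)
def n48195 : Q := act 0 n23322
theorem D48195 : act 0 n23322 = n48195 := rfl
theorem F75744 : act 1 n41024 = n48195 := d15_0 (iv0 D48195) (iv7 F68585) F68584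
def n48196 : Q := act 1 n23322
theorem D48196 : act 1 n23322 = n48196 := rfl
theorem F75745 : act 1 n48196 = n41024 := d15_1 D48196 (iv7 D41024) (iv2 F36440)
def n48197 : Q := act 4 n23322
theorem D48197 : act 4 n23322 = n48197 := rfl
theorem F75746 : act 2 n48197 = n41023 := d1_1 D48197 (iv4 D41023) (iv2 F36440)
def n48198 : Q := act 0 n23336
theorem D48198 : act 0 n23336 = n48198 := rfl
theorem F75747 : act 4 n48198 = n46455 := d20_2 D23336 D48198 F74017 (iv1 F36243) F17739 (iv4 F17794) (iv1 F17796) (iv4 D9818) D9817 (iv1 F66159)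
theorem F75750 : act 7 n41061 = n48198 := d11_0 F75747 F74018 (iv4 F68591)
def n48199 : Q := act 1 n23336
theorem D48199 : act 1 n23336 = n48199 := rfl
theorem F75751 : act 1 n48199 = n41064 := d15_1 D48199 (iv7 D41064) (iv2 F36451)
theorem F75753 : act 4 n46456 = n48199 := d20_6 (iv4 F73412) (iv1 F73419) F35127 (iv3 F35054) (iv1 F73946) F73950 (iv1 D48199) (iv4 D23336) (iv3 F35220) (iv1 F73420)
def n48200 : Q := act 3 n23336
theorem D48200 : act 3 n23336 = n48200 := rfl
def n48201 : Q := act 5 n23336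
theorem D48201 : act 5 n23336 = n48201 := rfl
theorem F75756 : act 2 n48201 = n41063 := d2_1 D48201 (iv5 D41063) (iv2 F36451)
def n48202 : Q := act 6 n23342
theorem D48202 : act 6 n23342 = n48202 := rfl
theorem F75757 : act 3 n48202 = n23345 := d7_1 D48202 (iv6 D23345) (iv3 F36462)
def n48203 : Q := act 5 n23343
theorem D48203 : act 5 n23343 = n48203 := rfl
theorem F75758 : act 3 n48203 = n23348 := d6_1 D48203 (iv5 D23348) (iv3 F36464)
def n48204 : Q := act 3 n23344
theorem D48204 : act 3 n23344 = n48204 := rfl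
theorem F75759 : act 2 n48204 = n33083 := d0_1 D48204 (iv3 D33083) (iv2 F35201) F30268 (iv2 F36465)
theorem F75760 : act 5 n48204 = n40043 := d6_2 (iv5 F36466) D48204 (iv3 D40043)
theorem F75762 : act 0 n48204 = n36821 := d20_4 F58248 F30801 D23344 D48204 (iv3 D36821) F28865 F13474 (iv4 F21617) (iv3 F30244) (iv1 F58250)
def n48205 : Q := act 6 n23344
theorem D48205 : act 6 n23344 = n48205 := rfl
theorem F75763 : act 2 n48205 = n40131 := d3_1 D48205 (iv6 D40131) (iv2 F36465)
theorem F75764 : act 4 n48205 = n23345 := d10_1 D48205 (iv6 D23345) D23344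
def n48206 : Q := act 0 n23345
theorem D48206 : act 0 n23345 = n48206 := rfl
def n48207 : Q := act 1 n23345
theorem D48207 : act 1 n23345 = n48207 := rfl
theorem F75765 : act 1 n48207 = n40905 := d15_1 D48207 (iv7 D40905) (iv2 F36471)
def n48208 : Q := act 5 n23345
theorem D48208 : act 5 n23345 = n48208 := rfl
theorem F75766 : act 2 n48208 = n40904 := d2_1 D48208 (iv5 D40904) (iv2 F36471)
theorem F75767 : act 6 n48208 = n23348 := d12_2 D23345 D48208 (iv5 D23348) (iv6 D10968) D10967
def n48209 : Q := act 7 n23345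
theorem D48209 : act 7 n23345 = n48209 := rfl
theorem F75768 : act 2 n48209 = n40905 := d4_1 D48209 (iv7 D40905) (iv2 F36471)
theorem F75769 : act 6 n48209 = n41010 := d14_1 D48209 (iv7 D41010) (iv6 D19310) (iv7 F17820) D23345
theorem F75770 : act 1 n40905 = n48206 := d15_0 (iv0 D48206) D48209 F75768
theorem F75771 : act 1 n40903 = n48209 := d15_1 D40903 (iv7 D48209) F36471
theorem F75772 : act 1 n48209 = n40902 := d15_0 (iv0 D40902) D40905 (iv2 F75768)
def n48210 : Q := act 5 n23346
theorem D48210 : act 5 n23346 = n48210 := rfl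
theorem F75773 : act 2 n48210 = n40909 := d2_1 D48210 (iv5 D40909) (iv2 F66346)
theorem F75774 : act 7 n48210 = n40914 := d13_2 (iv7 F66349) D48210 (iv5 D40914)
def n48211 : Q := act 0 n23348
theorem D48211 : act 0 n23348 = n48211 := rfl
theorem F75775 : act 1 n40919 = n48211 := d15_0 (iv0 D48211) (iv7 F66962) F66961
def n48212 : Q := act 1 n23348
theorem D48212 : act 1 n23348 = n48212 := rfl
theorem F75776 : act 1 n48212 = n40919 := d15_1 D48212 (iv7 D40919) (iv2 F36473)
def n48213 : Q := act 4 n23348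
theorem D48213 : act 4 n23348 = n48213 := rfl
theorem F75777 : act 2 n48213 = n40918 := d1_1 D48213 (iv4 D40918) (iv2 F36473)
def n48214 : Q := act 0 n23361
theorem D48214 : act 0 n23361 = n48214 := rfl
theorem F75779 : act 1 n40968 = n48214 := d15_0 (iv0 D48214) (iv7 F66966) F66965
theorem F75781 : act 4 n48214 = n46638 := d18_7 D22351 (iv4 F66348) (iv1 F36477) F30945 (iv5 F30951) (iv4 F62112) F75779 (iv0 D46638) (iv5 D22353)
def n48215 : Q := act 3 n23361
theorem D48215 : act 3 n23361 = n48215 := rfl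
theorem F75782 : act 6 n48215 = n42060 := d7_2 (iv6 F36485) D48215 (iv3 D42060)
def n48216 : Q := act 5 n23361
theorem D48216 : act 5 n23361 = n48216 := rfl
def n48217 : Q := act 5 n23365
theorem D48217 : act 5 n23365 = n48217 := rfl
theorem F75784 : act 2 n48217 = n23391 := d2_1 D48217 (iv5 D23391) (iv2 F66587)
theorem F75785 : act 7 n48217 = n23411 := d13_2 (iv7 F66588) D48217 (iv5 D23411)
def n48218 : Q := act 1 n23366
theorem D48218 : act 1 n23366 = n48218 := rfl
theorem F75786 : act 1 n48218 = n23370 := d15_1 D48218 F66580 (iv2 F66589)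
theorem F75788 : act 5 n43994 = n48218 := d21_0 (iv1 D48218) (iv5 D23366) (iv6 F66107) (iv1 D20208) (iv6 D9539) D9538 D20203 D42767 (iv6 F67016) (iv1 F69203)
theorem F75791 : act 6 n48218 = n41272 := d12_2 (iv6 F69201) F75788 (iv5 F68728) (iv6 D43718) F66128
def n48219 : Q := act 4 n23366
theorem D48219 : act 4 n23366 = n48219 := rfl
def n48220 : Q := act 5 n23369
theorem D48220 : act 5 n23369 = n48220 := rfl
theorem F75794 : act 2 n48220 = n23411 := d2_1 D48220 (iv5 D23411) (iv2 F66577)
theorem F75795 : act 7 n48220 = n23391 := d13_2 (iv7 F66578) D48220 (iv5 D23391)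
def n48221 : Q := act 4 n23370
theorem D48221 : act 4 n23370 = n48221 := rfl
theorem F75796 : act 2 n48221 = n23413 := d1_1 D48221 (iv4 D23413) (iv2 F66579)
theorem F75798 : act 7 n48221 = n23396 := d11_2 (iv7 F66580) D48221 (iv4 D23396)
def n48222 : Q := act 4 n23372
theorem D48222 : act 4 n23372 = n48222 := rfl
theorem F75799 : act 2 n48222 = n23421 := d1_1 D48222 (iv4 D23421) (iv2 F63491)
def n48223 : Q := act 4 n23373
theorem D48223 : act 4 n23373 = n48223 := rfl
theorem F75801 : act 2 n48223 = n23426 := d1_1 D48223 (iv4 D23426) (iv2 F63488)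
theorem F75802 : act 6 n48223 = n43704 := d10_2 F63059 D48223 (iv4 D43704)
theorem F75803 : act 7 n48223 = n23421 := d11_2 (iv7 F63489) D48223 (iv4 D23421)
theorem F75804 : act 0 n48223 = n44956 := d18_2 (iv1 F36495) D48223 (iv4 D44956) (iv5 D21466) (iv4 F30927) (iv0 F66874) (iv4 D23369) F17831 (iv5 F17845)
theorem F75805 : act 1 n48222 = n44956 := d15_0 (iv0 F75804) F75803 (iv2 F75799)
def n48224 : Q := act 1 n23374
theorem D48224 : act 1 n23374 = n48224 := rfl
theorem F75806 : act 1 n48224 = n23433 := d15_1 D48224 (iv7 D23433) (iv2 F36497)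
theorem F75807 : act 7 n48224 = n23429 := d15_2 (iv0 F74930) D48224 (iv2 F74926)
theorem F75808 : act 2 n23430 = n48224 := d4_3 F75807 (iv2 F74926) F74927
theorem F75809 : act 6 n48224 = n43707 := d3_2 F75662 F75808 (iv2 F75661)
def n48225 : Q := act 3 n23374
theorem D48225 : act 3 n23374 = n48225 := rfl
theorem F75810 : act 4 n48225 = n48225 := d5_2 D23374 D48225 (iv3 D48225) (iv4 D23374) F17833
theorem F75811 : act 6 n48225 = n40538 := d7_2 (iv6 F36498) D48225 (iv3 D40538)
def n48226 : Q := act 5 n23374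
theorem D48226 : act 5 n23374 = n48226 := rfl
theorem F75812 : act 2 n48226 = n23432 := d2_1 D48226 (iv5 D23432) (iv2 F36497)
def n48227 : Q := act 7 n23374
theorem D48227 : act 7 n23374 = n48227 := rfl
theorem F75813 : act 2 n48227 = n23433 := d4_1 D48227 (iv7 D23433) (iv2 F36497)
theorem F75814 : act 4 n48227 = n23375 := d11_1 D48227 (iv7 D23375) D23374
theorem F75815 : act 1 n23430 = n48227 := d15_1 D23430 (iv7 D48227) F36497
theorem F75816 : act 1 n48227 = n23429 := d15_1 F75815 (iv7 F75807) (iv2 F75808)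
def n48228 : Q := act 1 n23385
theorem D48228 : act 1 n23385 = n48228 := rfl
def n48229 : Q := act 4 n23385
theorem D48229 : act 4 n23385 = n48229 := rfl
theorem F75817 : act 0 n48229 = n44885 := d20_7 D11077 (iv1 F36561) (iv4 D23458) (iv3 F66163) (iv1 D23395) (iv3 F36513) D48229 (iv4 D44885) F33638 F16121
def n48230 : Q := act 6 n23385
theorem D48230 : act 6 n23385 = n48230 := rfl
theorem F75818 : act 3 n48230 = n23397 := d7_1 D48230 (iv6 D23397) (iv3 F36513)
def n48231 : Q := act 1 n23386
theorem D48231 : act 1 n23386 = n48231 := rfl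
theorem F75819 : act 1 n48231 = n42523 := d15_1 D48231 (iv7 F73904) F68131
theorem F75821 : act 4 n48231 = n46759 := d17_9 (iv1 F73874) D47621 F74884 (iv5 D41520) F31291 D20417 D43262 (iv5 F67822) D48231
theorem F75822 : act 6 n37861 = n48231 := d21_3 F13395 D18147 D37861 (iv1 D48231) (iv6 D23386) D23385 F69107 (iv5 D43956) (iv6 D20839) (iv1 F66160)
theorem F75823 : act 2 n48231 = n42526 := d3_1 F75822 (iv6 F66297) (iv2 F66294)
def n48232 : Q := act 3 n23388
theorem D48232 : act 3 n23388 = n48232 := rfl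
theorem F75824 : act 4 n48232 = n44997 := d5_2 (iv4 F66739) D48232 F70760 F33788 (iv3 F33736)
theorem F75825 : act 6 n48232 = n41206 := d7_2 (iv6 F66740) D48232 (iv3 D41206)
theorem F75826 : act 7 n48232 = n40882 := d8_2 (iv7 F66741) D48232 F61986
def n48233 : Q := act 5 n23388
theorem D48233 : act 5 n23388 = n48233 := rfl
theorem F75827 : act 7 n48233 = n40885 := d13_2 (iv7 F66741) D48233 (iv5 D40885)
def n48234 : Q := act 1 n23390
theorem D48234 : act 1 n23390 = n48234 := rfl
theorem F75828 : act 4 n47409 = n48234 := d20_0 (iv1 D48234) (iv4 F72133) (iv3 D45728) (iv1 F34320) F17292 F14160 (iv1 F14133) D19264 (iv3 F35338) D47409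
def n48235 : Q := act 2 n23390
theorem D48235 : act 2 n23390 = n48235 := rfl
def n48236 : Q := act 5 n23390
theorem D48236 : act 5 n23390 = n48236 := rfl
theorem F75829 : act 3 n48236 = n23391 := d6_1 D48236 (iv5 D23391) D23390
def n48237 : Q := act 6 n23390
theorem D48237 : act 6 n23390 = n48237 := rfl
theorem F75830 : act 3 n48237 = n23392 := d7_1 D48237 (iv6 D23392) D23390
def n48238 : Q := act 0 n23391
theorem D48238 : act 0 n23391 = n48238 := rfl
theorem F75831 : act 5 n48238 = n44845 := d17_3 F66799 D23391 D48238 F70442 D44849 (iv0 F70450) (iv5 D22905) (iv0 F66797) (iv4 F36431)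
theorem F75832 : act 1 n23411 = n48238 := d15_0 (iv0 D48238) (iv7 F75795) F75794
def n48239 : Q := act 1 n23391
theorem D48239 : act 1 n23391 = n48239 := rfl
theorem F75833 : act 1 n48239 = n23411 := d15_1 D48239 (iv7 F75785) F75784
def n48240 : Q := act 4 n23391
theorem D48240 : act 4 n23391 = n48240 := rfl
def n48241 : Q := act 6 n23391
theorem D48241 : act 6 n23391 = n48241 := rfl
def n48242 : Q := act 1 n23392
theorem D48242 : act 1 n23392 = n48242 := rfl
theorem F75834 : act 7 n48242 = n40915 := d15_2 (iv0 F75171) D48242 (iv2 F75169)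
theorem F75835 : act 4 n46661 = n48242 := d11_3 F75834 F66351 D46661
theorem F75836 : act 6 n41253 = n48242 := d14_5 F75834 (iv6 D40915) (iv7 F66349) (iv6 F72355) F72356
theorem F75837 : act 3 n48242 = n47603 := d20_3 F75201 (iv1 F75197) F75835 (iv1 D47603) (iv3 D22891) (iv4 D10813) (iv1 F17318) D22855 F62696 D42761
theorem F75838 : act 7 n47603 = n46875 := d8_2 (iv7 F75834) F75837 F74088
theorem F75839 : act 2 n46875 = n47602 := d15_3 (iv0 D47602) D47603 F75838
theorem F75840 : act 6 n47602 = n46856 := d3_2 D46875 F75839 (iv2 F74058)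
def n48243 : Q := act 5 n23392
theorem D48243 : act 5 n23392 = n48243 := rfl
theorem F75841 : act 0 n48243 = n44664 := d17_2 (iv1 D48242) D48243 (iv5 D44664) F33495 D21272 D44670 (iv5 F70233) (iv0 F73744) F75835
def n48244 : Q := act 4 n23394
theorem D48244 : act 4 n23394 = n48244 := rfl
theorem F75842 : act 2 n48244 = n42733 := d1_1 D48244 F66936 F66139
theorem F75843 : act 6 n48244 = n40940 := d10_2 F36525 D48244 (iv4 D40940)
def n48246 : Q := act 0 n23396
theorem D48246 : act 0 n23396 = n48246 := rfl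
theorem F75846 : act 4 n48246 = n44849 := d18_3 (iv1 D23395) D23396 D48246 (iv5 D44849) (iv4 F70442) (iv0 F70443) F61482 (iv0 F66190) F66191
theorem F75847 : act 1 n23413 = n48246 := d15_0 (iv0 D48246) (iv7 F75798) F75796
theorem F75848 : act 6 n46654 = n48246 := d10_0 F75846 F70449 D46654
def n48247 : Q := act 1 n23396
theorem D48247 : act 1 n23396 = n48247 := rfl
def n48249 : Q := act 5 n23396
theorem D48249 : act 5 n23396 = n48249 := rfl
def n48250 : Q := act 6 n23396
theorem D48250 : act 6 n23396 = n48250 := rfl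
theorem F75850 : act 4 n48250 = n23397 := d10_1 D48250 (iv6 D23397) D23396
def n48253 : Q := act 0 n23408
theorem D48253 : act 0 n23408 = n48253 := rfl
def n48254 : Q := act 4 n23408
theorem D48254 : act 4 n23408 = n48254 := rfl
theorem F75856 : act 1 n48254 = n47881 := d18_6 F66772 (iv4 F33426) (iv1 F33785) F66780 D23408 D48254 F75164 (iv0 F66778) (iv5 D11046)
def n48255 : Q := act 0 n23409
theorem D48255 : act 0 n23409 = n48255 := rfl
theorem F75857 : act 2 n43486 = n48255 := d15_3 (iv0 D48255) F72018 D43486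
theorem F75858 : act 1 n43485 = n48255 := d15_0 (iv0 D48255) (iv7 F68641) F72016
theorem F75859 : act 7 n48255 = n40988 := d15_2 D43485 F75858 F62981
theorem F75860 : act 4 n45473 = n48255 := d11_3 F75859 F62979 (iv7 F71721)
theorem F75861 : act 5 n48255 = n40711 := d17_5 (iv1 D10351) D10352 D21694 D45473 F75860 (iv0 D40711) (iv5 D19210) D19209 (iv4 F62902)
theorem F75862 : act 6 n44110 = n44177 := d21_3 (iv5 F75861) (iv1 F75858) F71969 (iv1 D44177) (iv6 D21005) (iv5 D9976) (iv1 F17408) D9031 (iv6 F30856) D40711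
theorem F75863 : act 2 n44177 = n44364 := d3_1 F75862 F69830 (iv2 F72014)
def n48256 : Q := act 2 n23410
theorem D48256 : act 2 n23410 = n48256 := rfl
def n48257 : Q := act 5 n23410
theorem D48257 : act 5 n23410 = n48257 := rfl
theorem F75864 : act 3 n48257 = n23411 := d6_1 D48257 (iv5 D23411) D23410
def n48258 : Q := act 6 n23410
theorem D48258 : act 6 n23410 = n48258 := rfl
theorem F75865 : act 3 n48258 = n23412 := d7_1 D48258 (iv6 D23412) D23410
def n48259 : Q := act 4 n23411
theorem D48259 : act 4 n23411 = n48259 := rfl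
def n48260 : Q := act 6 n23411
theorem D48260 : act 6 n23411 = n48260 := rfl
def n48261 : Q := act 0 n23412
theorem D48261 : act 0 n23412 = n48261 := rfl
theorem F75866 : act 5 n48261 = n40769 := d17_1 D48261 (iv1 F69623) (iv5 D44252) (iv4 D21036) D21037 F62573 (iv5 F32774) F62487 (iv4 F36532)
theorem F75867 : act 4 n48261 = n47511 := d18_3 F62520 (iv4 F36532) D48261 F74710 F72802 (iv0 D40820) (iv4 D19245) D19244 F62558
theorem F75868 : act 6 n41222 = n48261 := d10_0 F75867 (iv6 D47511) (iv4 F62418)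
theorem F75869 : act 7 n41015 = n48261 := d11_0 F75867 F74711 F73978
def n48262 : Q := act 1 n23412
theorem D48262 : act 1 n23412 = n48262 := rfl
def n48263 : Q := act 5 n23412
theorem D48263 : act 5 n23412 = n48263 := rfl
def n48265 : Q := act 5 n23413
theorem D48265 : act 5 n23413 = n48265 := rfl
def n48267 : Q := act 6 n23420
theorem D48267 : act 6 n23420 = n48267 := rfl
theorem F75873 : act 3 n48267 = n23423 := d7_1 D48267 (iv6 D23423) D23420
theorem F75874 : act 5 n48267 = n42625 := d21_6 F31937 (iv1 F16787) D18142 (iv6 F58683) F72213 D48267 (iv1 D42625) F31946 (iv6 D20119) D20117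
theorem F75875 : act 3 n42625 = n42768 := d6_1 F75874 F67019 (iv3 F75873)
theorem F75876 : act 6 n42765 = n42625 := d7_0 F75875 (iv6 D42768) D42765
theorem F75877 : act 7 n42950 = n42625 := d8_0 F75875 F67020 D42950
theorem F75880 : act 2 n42950 = n42624 := d15_3 (iv0 D42624) D42625 (iv7 F75877)
def n48268 : Q := act 0 n23421
theorem D48268 : act 0 n23421 = n48268 := rfl
theorem F75881 : act 4 n48268 = n44957 := d18_3 D10987 D23421 D48268 F70689 (iv4 F66739) (iv0 D23388) (iv4 D10979) (iv0 D5001) D5003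
theorem F75882 : act 1 n23426 = n48268 := d15_0 (iv0 D48268) (iv7 F75803) F75801
theorem F75883 : act 7 n44956 = n48268 := d11_0 F75881 (iv7 D44957) D44956
def n48269 : Q := act 1 n23421
theorem D48269 : act 1 n23421 = n48269 := rfl
theorem F75885 : act 4 n41366 = n48269 := d20_6 (iv4 F74932) (iv1 F74933) (iv4 D22940) D22939 F63953 (iv3 F63784) (iv1 D48269) (iv4 D23421) D23420 F74589
theorem F75887 : act 6 n48269 = n40303 := d10_2 D41366 F75885 (iv4 F61360)
def n48270 : Q := act 3 n23421
theorem D48270 : act 3 n23421 = n48270 := rfl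
def n48271 : Q := act 5 n23421
theorem D48271 : act 5 n23421 = n48271 := rfl
def n48272 : Q := act 6 n23421
theorem D48272 : act 6 n23421 = n48272 := rfl
theorem F75888 : act 4 n48272 = n23423 := d10_1 D48272 (iv6 D23423) D23421
def n48274 : Q := act 1 n23423
theorem D48274 : act 1 n23423 = n48274 := rfl
def n48275 : Q := act 2 n23425
theorem D48275 : act 2 n23425 = n48275 := rfl
theorem F75891 : act 4 n48275 = n44552 := d1_2 F70820 D48275 (iv2 F70833)
theorem F75892 : act 6 n48275 = n43481 := d3_2 F68627 D48275 F75633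
theorem F75893 : act 6 n48097 = n44552 := d10_2 F75892 F75635 (iv4 F75891)
def n48276 : Q := act 3 n23426
theorem D48276 : act 3 n23426 = n48276 := rfl
def n48277 : Q := act 5 n23426
theorem D48277 : act 5 n23426 = n48277 := rfl
def n48278 : Q := act 3 n23429
theorem D48278 : act 3 n23429 = n48278 := rfl
def n48279 : Q := act 5 n23429
theorem D48279 : act 5 n23429 = n48279 := rfl
def n48280 : Q := act 6 n23429
theorem D48280 : act 6 n23429 = n48280 := rfl
def n48281 : Q := act 3 n23430
theorem D48281 : act 3 n23430 = n48281 := rfl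
def n48282 : Q := act 5 n23430
theorem D48282 : act 5 n23430 = n48282 := rfl
def n48283 : Q := act 0 n23431
theorem D48283 : act 0 n23431 = n48283 := rfl
def n48285 : Q := act 2 n23431
theorem D48285 : act 2 n23431 = n48285 := rfl
theorem F75894 : act 4 n48285 = n23497 := d1_2 (iv4 F36538) D48285 (iv2 D23497)
theorem F75895 : act 6 n48285 = n41288 := d3_2 (iv6 F36539) D48285 (iv2 D41288)
def n48286 : Q := act 5 n23431
theorem D48286 : act 5 n23431 = n48286 := rfl
theorem F75896 : act 3 n48286 = n23432 := d6_1 D48286 (iv5 D23432) D23431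
def n48287 : Q := act 7 n23431
theorem D48287 : act 7 n23431 = n48287 := rfl
theorem F75897 : act 3 n48287 = n23433 := d8_1 D48287 (iv7 D23433) D23431
theorem F75898 : act 4 n48287 = n23499 := d11_1 D48287 (iv7 D23499) (iv4 F36538)
def n48288 : Q := act 0 n23432
theorem D48288 : act 0 n23432 = n48288 := rfl
def n48289 : Q := act 1 n23432
theorem D48289 : act 1 n23432 = n48289 := rfl
def n48290 : Q := act 4 n23432
theorem D48290 : act 4 n23432 = n48290 := rfl
def n48291 : Q := act 6 n23432
theorem D48291 : act 6 n23432 = n48291 := rfl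
theorem F75899 : act 5 n48291 = n41293 := d12_1 D48291 (iv6 D41293) (iv5 D19421) (iv6 F17843) D23432
def n48292 : Q := act 7 n23432
theorem D48292 : act 7 n23432 = n48292 := rfl
theorem F75900 : act 5 n48292 = n23433 := d13_1 D48292 (iv7 D23433) D23432
def n48293 : Q := act 0 n23449
theorem D48293 : act 0 n23449 = n48293 := rfl
theorem F75901 : act 5 n48293 = n43849 := d21_2 D23449 D48293 (iv6 D43849) (iv1 D20763) (iv6 D9869) D9868 F15515 (iv5 D9741) D9742 (iv1 F66709)
theorem F75902 : act 1 n43393 = n48293 := d15_0 (iv0 D48293) (iv7 F36590) (iv2 F68191)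
theorem F75903 : act 1 n43849 = n40433 := d17_8 F35686 F32944 F32596 (iv5 D20514) D20513 D43393 F75902 F75901 F61511
theorem F75904 : act 1 n40433 = n43914 := d15_1 F75903 (iv7 D43914) (iv2 F68928)
theorem F75905 : act 2 n43913 = n48293 := d2_3 F75901 F68928 D43913
def n48294 : Q := act 1 n23449
theorem D48294 : act 1 n23449 = n48294 := rfl
theorem F75906 : act 1 n48294 = n43393 := d15_1 D48294 F68192 (iv2 F66686)
theorem F75907 : act 7 n48294 = n43913 := d15_2 (iv0 D48293) D48294 F75905
theorem F75908 : act 5 n43914 = n48294 := d13_3 F75907 (iv5 D43913) D43914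
def n48295 : Q := act 4 n23449
theorem D48295 : act 4 n23449 = n48295 := rfl
def n48296 : Q := act 6 n23449
theorem D48296 : act 6 n23449 = n48296 := rfl
theorem F75909 : act 3 n48296 = n41305 := d7_1 D48296 (iv6 D41305) (iv3 F36549)
def n48297 : Q := act 3 n23452
theorem D48297 : act 3 n23452 = n48297 := rfl
theorem F75910 : act 5 n48297 = n43957 := d6_2 F66679 D48297 F69108
theorem F75911 : act 6 n48297 = n43649 := d7_2 (iv6 F66677) D48297 (iv3 D43649)
theorem F75912 : act 7 n48297 = n43956 := d8_2 (iv7 F66678) D48297 F69105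
theorem F75913 : act 0 n43649 = n42620 := d21_4 (iv5 F69219) (iv1 F69221) (iv5 F75910) F75911 (iv6 D42620) F31937 (iv1 F16787) D18142 (iv6 F58683) F72213
def n48298 : Q := act 4 n23452
theorem D48298 : act 4 n23452 = n48298 := rfl
def n48299 : Q := act 0 n23453
theorem D48299 : act 0 n23453 = n48299 := rfl
theorem F75916 : act 1 n43395 = n48299 := d15_0 (iv0 D48299) (iv7 F36595) (iv2 F68195)
def n48300 : Q := act 1 n23453
theorem D48300 : act 1 n23453 = n48300 := rfl
def n48302 : Q := act 5 n23453
theorem D48302 : act 5 n23453 = n48302 := rfl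
theorem F75919 : act 1 n48302 = n42676 := d17_6 (iv1 D20134) F14758 F66484 D10995 D23453 D48302 (iv5 D42676) F66707 (iv4 D42660)
def n48303 : Q := act 6 n23453
theorem D48303 : act 6 n23453 = n48303 := rfl
theorem F75920 : act 4 n48303 = n23454 := d10_1 D48303 (iv6 D23454) D23453
def n48304 : Q := act 3 n23458
theorem D48304 : act 3 n23458 = n48304 := rfl
theorem F75922 : act 6 n48304 = n43821 := d7_2 (iv6 F36558) D48304 (iv3 D43821)
theorem F75923 : act 7 n48304 = n42745 := d8_2 (iv7 F36559) D48304 F66956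
def n48305 : Q := act 3 n23459
theorem D48305 : act 3 n23459 = n48305 := rfl
theorem F75924 : act 5 n48305 = n43757 := d6_2 (iv5 F36564) D48305 F68797
def n48311 : Q := act 0 n23477
theorem D48311 : act 0 n23477 = n48311 := rfl
theorem F75932 : act 2 n48294 = n48311 := d15_3 (iv0 D48311) F69039 (iv7 F75907)
theorem F75933 : act 1 n42317 = n48311 := d15_0 (iv0 D48311) F36590 F66686
theorem F75934 : act 7 n48311 = n48293 := d15_2 (iv0 F69038) F75933 (iv2 F75905)
def n48312 : Q := act 4 n23477
theorem D48312 : act 4 n23477 = n48312 := rfl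
theorem F75935 : act 7 n48312 = n48295 := d11_2 (iv7 F36590) D48312 (iv4 D48295)
def n48313 : Q := act 6 n23477
theorem D48313 : act 6 n23477 = n48313 := rfl
theorem F75936 : act 3 n48313 = n41330 := d7_1 D48313 (iv6 D41330) (iv3 F36589)
def n48314 : Q := act 5 n23478
theorem D48314 : act 5 n23478 = n48314 := rfl
theorem F75938 : act 3 n48314 = n41333 := d6_1 D48314 (iv5 D41333) (iv3 F36591)
theorem F75940 : act 0 n48314 = n44021 := d17_2 F67993 D48314 (iv5 D44021) F62875 D46128 (iv0 F72728) F71728 F74902 (iv4 F67991)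
def n48315 : Q := act 3 n23479
theorem D48315 : act 3 n23479 = n48315 := rfl
theorem F75942 : act 7 n48315 = n42481 := d8_2 (iv7 F66513) D48315 F65629
theorem F75943 : act 2 n48315 = n48253 := d15_3 (iv0 D48253) (iv0 F66638) (iv7 F75942)
def n48316 : Q := act 4 n23479
theorem D48316 : act 4 n23479 = n48316 := rfl
theorem F75944 : act 2 n48316 = n48298 := d1_1 D48316 (iv4 D48298) (iv2 F66676)
theorem F75945 : act 7 n48316 = n42509 := d11_2 (iv7 F66513) D48316 F65989
theorem F75946 : act 1 n48298 = n47632 := d15_0 F74903 (iv7 F75945) F75944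
def n48317 : Q := act 0 n23481
theorem D48317 : act 0 n23481 = n48317 := rfl
theorem F75947 : act 1 n42320 = n48317 := d15_0 (iv0 D48317) F36595 F66683
theorem F75948 : act 4 n48317 = n47630 := d18_7 F66796 F15469 F66790 (iv4 D19965) D19966 D42320 F75947 (iv0 D47630) (iv5 D22925)
theorem F75949 : act 3 n47630 = n47609 := d20_3 D23481 D48317 F75948 (iv1 D47609) F35975 D22915 D47623 F74886 F69105 F66510
theorem F75950 : act 4 n47609 = n48247 := d20_6 (iv4 F74886) (iv1 F74887) (iv4 D22930) (iv3 F35991) D47630 F75949 (iv1 D48247) (iv4 D23396) (iv3 F36513) F69107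
def n48318 : Q := act 1 n23481
theorem D48318 : act 1 n23481 = n48318 := rfl
theorem F75951 : act 1 n48318 = n42320 := d15_1 D48318 (iv7 F68197) F68195
theorem F75952 : act 4 n48318 = n47631 := d18_7 (iv1 F33053) F33049 (iv1 F66786) (iv4 D11003) D11004 D23481 D48318 F74896 (iv5 D43825)
theorem F75953 : act 6 n47861 = n48318 := d10_0 F75952 (iv6 F74897) D47861
def n48320 : Q := act 5 n23481
theorem D48320 : act 5 n23481 = n48320 := rfl
theorem F75956 : act 7 n48320 = n48302 := d13_2 (iv7 F36595) D48320 (iv5 D48302)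
def n48324 : Q := act 0 n23485
theorem D48324 : act 0 n23485 = n48324 := rfl
theorem F75963 : act 4 n48324 = n43828 := d18_3 (iv1 F35717) D23485 D48324 F68888 F32903 F66729 (iv4 D10994) (iv0 F66484) (iv5 F14758)
def n48325 : Q := act 3 n23485
theorem D48325 : act 3 n23485 = n48325 := rfl
def n48326 : Q := act 5 n23485
theorem D48326 : act 5 n23485 = n48326 := rfl
def n48327 : Q := act 6 n23485
theorem D48327 : act 6 n23485 = n48327 := rfl
def n48328 : Q := act 0 n23486
theorem D48328 : act 0 n23486 = n48328 := rfl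
theorem F75970 : act 6 n48328 = n42162 := d21_5 (iv5 D20846) D20844 (iv5 F35718) D23486 D48328 (iv5 F66926) F67914 F67913 (iv6 D42321) F32999
def n48329 : Q := act 1 n23486
theorem D48329 : act 1 n23486 = n48329 := rfl
theorem F75973 : act 5 n42720 = n48329 := d21_0 (iv1 D48329) F36598 (iv6 F35710) (iv1 D20063) D20065 (iv5 F32944) F65372 (iv5 D42334) D42335 F66930
def n48334 : Q := act 1 n23488
theorem D48334 : act 1 n23488 = n48334 := rfl
theorem F75976 : act 1 n48334 = n42981 := d15_1 D48334 F67342 F36599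
theorem F75977 : act 4 n48334 = n23661 := d17_9 (iv1 D23661) F17954 (iv1 D9657) F6261 (iv4 F15031) D20376 D43210 (iv5 F67660) D48334
def n48335 : Q := act 3 n23489
theorem D48335 : act 3 n23489 = n48335 := rfl
theorem F75979 : act 6 n48335 = n43086 := d7_2 F36603 D48335 F67451
def n48336 : Q := act 4 n23489
theorem D48336 : act 4 n23489 = n48336 := rfl
theorem F75985 : act 1 n48336 = n43215 := d18_6 (iv1 D23661) (iv4 F36607) (iv1 F67678) F67474 F36602 D48336 (iv4 D43215) F36785 F36787
def n48337 : Q := act 3 n23490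
theorem D48337 : act 3 n23490 = n48337 := rfl
theorem F75987 : act 7 n48337 = n48325 := d8_2 (iv7 F36604) D48337 (iv3 D48325)
def n48338 : Q := act 5 n23490
theorem D48338 : act 5 n23490 = n48338 := rfl
theorem F75988 : act 7 n48338 = n48326 := d13_2 (iv7 F36604) D48338 (iv5 D48326)
def n48342 : Q := act 0 n23492
theorem D48342 : act 0 n23492 = n48342 := rfl
def n48343 : Q := act 1 n23492
theorem D48343 : act 1 n23492 = n48343 := rfl
def n48345 : Q := act 4 n23492
theorem D48345 : act 4 n23492 = n48345 := rfl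
theorem F75996 : act 3 n48345 = n23658 := d5_1 D48345 (iv4 D23658) (iv3 D11079) (iv4 F17876) D23492
def n48351 : Q := act 0 n23495
theorem D48351 : act 0 n23495 = n48351 := rfl
theorem F76006 : act 2 n23499 = n48351 := d15_3 (iv0 D48351) (iv0 D23495) D23499
theorem F76008 : act 5 n48351 = n41957 := d2_2 (iv5 F36614) F76006 (iv2 D41957)
theorem F76009 : act 7 n48351 = n23497 := d4_2 D23499 F76006 (iv2 D23497)
theorem F76010 : act 1 n23496 = n48351 := d15_1 D23496 F76009 (iv2 D23497)
def n48353 : Q := act 3 n23495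
theorem D48353 : act 3 n23495 = n48353 := rfl
def n48354 : Q := act 4 n23495
theorem D48354 : act 4 n23495 = n48354 := rfl
def n48356 : Q := act 6 n23495
theorem D48356 : act 6 n23495 = n48356 := rfl
def n48361 : Q := act 6 n23496
theorem D48361 : act 6 n23496 = n48361 := rfl
def n48367 : Q := act 4 n23498
theorem D48367 : act 4 n23498 = n48367 := rfl
theorem F76024 : act 6 n48367 = n48287 := d10_2 F36615 D48367 F75898
theorem F76025 : act 7 n48367 = n41924 := d11_2 F36612 D48367 F64669
def n48368 : Q := act 0 n23501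
theorem D48368 : act 0 n23501 = n48368 := rfl
theorem F76026 : act 4 n48368 = n42279 := d20_0 (iv1 D42279) (iv4 F36276) F36275 (iv1 F66549) (iv3 D11034) (iv4 D5028) D5025 D11021 D23501 D48368
theorem F76027 : act 1 n44927 = n48368 := d15_0 (iv0 D48368) (iv7 F63180) (iv2 F70613)
def n48369 : Q := act 1 n23501
theorem D48369 : act 1 n23501 = n48369 := rfl
theorem F76028 : act 4 n42278 = n48369 := d20_0 (iv1 D48369) (iv4 F63673) (iv3 D41325) (iv1 D19460) (iv3 F17864) (iv4 D11003) (iv1 F66488) (iv4 F14650) (iv3 F31793) D42278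
theorem F76029 : act 3 n43361 = n42278 := d20_5 (iv4 D9138) (iv1 F35617) (iv4 F15186) (iv3 F32558) D43361 F76028 (iv1 D48369) (iv4 F63673) (iv3 D41325) (iv1 D19460)
def n48370 : Q := act 2 n23501
theorem D48370 : act 2 n23501 = n48370 := rfl
theorem F76030 : act 7 n48370 = n44927 := d4_2 F63180 D48370 F70613
theorem F76031 : act 1 n48370 = n44931 := d15_0 (iv0 D44931) F63180 D48370
theorem F76032 : act 1 n48369 = n44927 := d15_1 D48369 (iv7 F76030) (iv2 D48370)
theorem F76033 : act 1 n44932 = n48370 := d15_1 D44932 F76030 F70613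
def n48371 : Q := act 5 n23501
theorem D48371 : act 5 n23501 = n48371 := rfl
theorem F76034 : act 3 n48371 = n23502 := d6_1 D48371 (iv5 D23502) D23501
theorem F76035 : act 7 n48371 = n44933 := d13_2 F63180 D48371 (iv5 D44933)
def n48372 : Q := act 4 n23502
theorem D48372 : act 4 n23502 = n48372 := rfl
theorem F76036 : act 7 n48372 = n44949 := d11_2 F63181 D48372 (iv4 D44949)
theorem F76037 : act 5 n48372 = n45380 := d16_1 D48372 (iv4 D45380) (iv5 D21645) F16444 (iv5 F16815) (iv4 F15976) D21218 F63151 F36719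
def n48373 : Q := act 6 n23502
theorem D48373 : act 6 n23502 = n48373 := rfl
def n48374 : Q := act 0 n23517
theorem D48374 : act 0 n23517 = n48374 := rfl
theorem F76038 : act 1 n45012 = n48374 := d15_0 (iv0 D48374) (iv7 F36732) (iv2 F70795)
def n48375 : Q := act 1 n23517
theorem D48375 : act 1 n23517 = n48375 := rfl
theorem F76039 : act 1 n48375 = n45012 := d15_1 D48375 F70797 F70057
def n48376 : Q := act 5 n23517
theorem D48376 : act 5 n23517 = n48376 := rfl
theorem F76040 : act 3 n48376 = n23518 := d6_1 D48376 (iv5 D23518) D23517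
def n48377 : Q := act 6 n23517
theorem D48377 : act 6 n23517 = n48377 := rfl
theorem F76041 : act 3 n48377 = n23519 := d7_1 D48377 (iv6 D23519) D23517
theorem F76042 : act 4 n48377 = n48377 := d10_1 D48377 (iv6 D48377) F36627
def n48378 : Q := act 4 n23518
theorem D48378 : act 4 n23518 = n48378 := rfl
theorem F76043 : act 2 n48378 = n23532 := d1_1 D48378 (iv4 D23532) (iv2 F36628)
def n48379 : Q := act 6 n23518
theorem D48379 : act 6 n23518 = n48379 := rfl
theorem F76044 : act 2 n48379 = n23533 := d3_1 D48379 (iv6 D23533) (iv2 F36628)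
def n48380 : Q := act 3 n23520
theorem D48380 : act 3 n23520 = n48380 := rfl
theorem F76045 : act 4 n48380 = n48380 := d5_2 D23520 D48380 (iv3 D48380) (iv4 D23520) F17895
theorem F76046 : act 7 n48380 = n48377 := d8_2 (iv7 F36632) D48380 F76041
def n48381 : Q := act 0 n23522
theorem D48381 : act 0 n23522 = n48381 := rfl
theorem F76047 : act 1 n48006 = n48381 := d15_0 (iv0 D48381) F36639 (iv2 F75419)
def n48382 : Q := act 1 n23522
theorem D48382 : act 1 n23522 = n48382 := rfl
theorem F76048 : act 4 n46565 = n48382 := d20_6 (iv4 D10639) (iv1 D4865) (iv4 F7032) (iv3 F17168) D22315 D46565 (iv1 D48382) (iv4 F73633) (iv3 D46619) (iv1 F34863)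
theorem F76049 : act 0 n48006 = n48382 := d20_1 (iv4 F75421) (iv4 F76048) (iv3 D46565) (iv1 F73547) F73542 F35254 (iv1 F17839) D10984 D23410 (iv1 F73783)
def n48383 : Q := act 2 n23522
theorem D48383 : act 2 n23522 = n48383 := rfl
theorem F76050 : act 7 n48383 = n48006 := d4_2 (iv7 F36639) D48383 F75419
theorem F76051 : act 1 n48383 = n48007 := d15_0 (iv0 D48007) (iv7 F36639) D48383
theorem F76052 : act 1 n48008 = n48383 := d15_1 D48008 F76050 F75419
def n48384 : Q := act 5 n23522
theorem D48384 : act 5 n23522 = n48384 := rfl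
theorem F76053 : act 3 n48384 = n23524 := d6_1 D48384 (iv5 D23524) D23522
theorem F76054 : act 7 n48384 = n48009 := d13_2 (iv7 F36639) D48384 (iv5 D48009)
def n48385 : Q := act 4 n23524
theorem D48385 : act 4 n23524 = n48385 := rfl
theorem F76055 : act 7 n48385 = n48011 := d11_2 (iv7 F36645) D48385 (iv4 D48011)
theorem F76056 : act 5 n48385 = n45417 := d16_1 D48385 (iv4 D45417) (iv5 D21673) F16464 F16965 (iv4 F17654) D23009 (iv7 F36741) F36740
def n48386 : Q := act 6 n23524
theorem D48386 : act 6 n23524 = n48386 := rfl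
def n48387 : Q := act 0 n23528
theorem D48387 : act 0 n23528 = n48387 := rfl
theorem F76057 : act 5 n48387 = n44624 := d21_2 D23528 D48387 (iv6 D44624) (iv1 D21234) (iv6 D10146) D10145 (iv1 F16469) F16471 D10911 (iv1 F66549)
theorem F76058 : act 1 n45013 = n48387 := d15_0 (iv0 D48387) (iv7 F36750) (iv2 F70798)
theorem E8115 : n44624 = n41975 := (c17_8 D19780 F63236 F36099 (iv5 D21498) D21497 D45013 F76058 F76057 (iv0 D41975) F31549)
theorem F76059 : act 2 n41975 = n21334 := (sb E8115 F70156)
theorem F76060 : act 5 n41975 = n48387 := (sb E8115 (iv5 F76057))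
theorem F76061 : act 6 n41975 = n21234 := (sb E8115 (iv6 D44624))
theorem F76062 : act 2 n48387 = n44803 := d2_1 F76060 (iv5 D44803) (iv2 F76059)
theorem E8116 : n44804 = n41976 := ((c15_2 (iv0 D41975) D41976 (iv7 D44804) (iv2 F76059))).symm
theorem F76063 : act 7 n41976 = n21334 := (sb E8116 (iv7 D44804))
def n48388 : Q := act 1 n23528
theorem D48388 : act 1 n23528 = n48388 := rfl
theorem F76064 : act 1 n48388 = n45013 := d15_1 D48388 F70799 F70059
theorem F76065 : act 7 n48388 = n44803 := d15_2 (iv0 D48387) D48388 (iv2 F76062)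
theorem F76066 : act 5 n41976 = n48388 := d13_3 F76065 (iv5 D44803) (iv7 F76063)
def n48389 : Q := act 4 n23528
theorem D48389 : act 4 n23528 = n48389 := rfl
def n48390 : Q := act 6 n23528
theorem D48390 : act 6 n23528 = n48390 := rfl
theorem F76067 : act 3 n48390 = n23533 := d7_1 D48390 (iv6 D23533) (iv3 F36648)
def n48391 : Q := act 3 n23530
theorem D48391 : act 3 n23530 = n48391 := rfl
def n48392 : Q := act 4 n23530
theorem D48392 : act 4 n23530 = n48392 := rfl
def n48393 : Q := act 6 n23530
theorem D48393 : act 6 n23530 = n48393 := rfl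
def n48394 : Q := act 3 n23531
theorem D48394 : act 3 n23531 = n48394 := rfl
def n48395 : Q := act 4 n23531
theorem D48395 : act 4 n23531 = n48395 := rfl
def n48396 : Q := act 6 n23531
theorem D48396 : act 6 n23531 = n48396 := rfl
def n48397 : Q := act 0 n23532
theorem D48397 : act 0 n23532 = n48397 := rfl
def n48398 : Q := act 1 n23532
theorem D48398 : act 1 n23532 = n48398 := rfl
def n48399 : Q := act 3 n23532
theorem D48399 : act 3 n23532 = n48399 := rfl
def n48400 : Q := act 5 n23532
theorem D48400 : act 5 n23532 = n48400 := rfl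
theorem F76068 : act 4 n48400 = n45416 := d16_2 D23532 D48400 (iv5 F71658) F36630 (iv5 F17898) D11063 D23610 F36734 F36628
theorem F76069 : act 1 n45380 = n48400 := d18_6 (iv1 F31565) (iv4 D19800) F63154 (iv4 F16444) D21645 D45380 F76068 F71656 (iv5 D41969)
def n48401 : Q := act 6 n23532
theorem D48401 : act 6 n23532 = n48401 := rfl
theorem F76070 : act 4 n48401 = n23533 := d10_1 D48401 (iv6 D23533) D23532
def n48402 : Q := act 0 n23533
theorem D48402 : act 0 n23533 = n48402 := rfl
def n48403 : Q := act 1 n23533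
theorem D48403 : act 1 n23533 = n48403 := rfl
def n48404 : Q := act 5 n23533
theorem D48404 : act 5 n23533 = n48404 := rfl
theorem F76071 : act 6 n48404 = n23536 := d12_2 D23533 D48404 (iv5 D23536) (iv6 D11036) D11035
def n48405 : Q := act 7 n23533
theorem D48405 : act 7 n23533 = n48405 := rfl
def n48406 : Q := act 3 n23534
theorem D48406 : act 3 n23534 = n48406 := rfl
theorem F76072 : act 4 n48406 = n47560 := d5_2 F62466 D48406 (iv3 D47560) F62390 (iv3 F62467)
theorem F76073 : act 6 n48406 = n47989 := d7_2 (iv6 F63022) D48406 (iv3 D47989)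
def n48407 : Q := act 3 n23535
theorem D48407 : act 3 n23535 = n48407 := rfl
theorem F76074 : act 7 n48407 = n48060 := d8_2 (iv7 F63024) D48407 F75520
def n48408 : Q := act 6 n23535
theorem D48408 : act 6 n23535 = n48408 := rfl
theorem F76078 : act 0 n48408 = n48055 := d21_4 D42001 (iv1 F64811) F64761 D48408 (iv6 F75515) (iv5 F70337) (iv1 F71627) F71625 (iv6 F35860) (iv1 F31565)
theorem F76079 : act 5 n45088 = n48408 := d21_2 D21525 D45088 (iv6 D48408) (iv1 D23535) (iv6 D11036) D11035 D23530 (iv5 F64867) F64869 (iv1 D21524)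
def n48409 : Q := act 4 n23536
theorem D48409 : act 4 n23536 = n48409 := rfl
theorem F76081 : act 2 n48409 = n48400 := d1_1 D48409 F76068 F71659
theorem F76082 : act 5 n48409 = n48378 := d16_1 D48409 (iv4 D48378) (iv5 D23518) (iv4 D11029) D11030 D23520 (iv5 F70303) (iv7 F71657) F71659
theorem F76083 : act 0 n48409 = n44660 := d18_2 F64837 D48409 (iv4 D44660) (iv5 D21256) F15998 (iv0 F63185) D9303 D19804 D42007
def n48410 : Q := act 3 n23539
theorem D48410 : act 3 n23539 = n48410 := rfl
def n48411 : Q := act 5 n23539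
theorem D48411 : act 5 n23539 = n48411 := rfl
theorem F76084 : act 0 n48411 = n44653 := d17_2 (iv1 F75584) D48411 (iv5 D44653) F63436 D43217 F67682 (iv5 F63081) (iv0 F74575) (iv4 F75582)
theorem F76085 : act 1 n48411 = n44656 := d17_6 (iv1 D9301) D9304 D19808 F63284 D23539 D48411 (iv5 D44656) (iv0 F63200) (iv4 D19797)
theorem E8117 : n44858 = n44654 := ((c21_4 D48411 F76084 (iv5 D44653) D44654 (iv1 D44858) (iv6 D21375) D21374 (iv1 F70412) F75151 (iv6 F75583) (iv1 F75584))).symm
theorem F76086 : act 0 n44654 = n21375 := (sb E8117 (iv1 D44858))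
theorem F76087 : act 0 n44539 = n45534 := d21_4 D44859 (iv1 F70782) (iv5 D44538) D44539 F71817 D48411 F76084 (iv5 D44653) D44654 F76086
theorem F76088 : act 0 n40988 = n42269 := d20_10 (iv4 F70055) F76087 (iv4 D45534) (iv3 F71804) (iv1 F73991) (iv3 F73994) (iv4 F74116) (iv1 D46904) (iv4 F74107) F74106
theorem F76089 : act 1 n40988 = n43680 := d15_1 (iv0 F76088) F68641 (iv2 F66631)
theorem F76090 : act 1 n43486 = n42269 := d15_0 (iv0 F76088) (iv7 F75859) (iv2 F75857)
theorem F76091 : act 1 n43680 = n43486 := d15_0 F76090 (iv7 F72017) (iv2 F72016)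
theorem F76093 : act 0 n43681 = n41015 := d20_7 F69242 (iv1 F72773) F68359 (iv3 F68344) (iv1 F76091) (iv3 D43680) D43681 (iv4 F73978) F73977 (iv1 F72772)
theorem F76094 : act 0 n44364 = n40715 := d21_4 (iv5 F68345) (iv1 F76091) (iv5 F69667) (iv6 F69830) (iv6 D40715) (iv5 D19212) (iv1 F14109) D19200 (iv6 F61772) F62926
theorem F76095 : act 1 n44364 = n44178 := d15_1 (iv0 F76094) (iv7 D44178) (iv2 F61824)
theorem F76097 : act 3 n45576 = n44180 := d20_5 (iv4 F71881) (iv1 D45590) F34210 (iv3 F34198) D45576 F73132 (iv1 F69566) F69535 (iv3 F69514) (iv1 F76095)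
theorem F76098 : act 2 n44464 = n45576 := d0_5 F76097 (iv2 F73130) F73086 (iv2 F66857) D44464
theorem F76099 : act 4 n44358 = n45576 := d20_2 (iv4 F33321) D44358 F76097 (iv1 F69552) F69548 (iv4 F71852) (iv1 F71880) F71881 (iv3 D44364) (iv1 D21114)
theorem E8118 : n46383 = n45577 := ((c15_2 (iv0 D45576) D45577 F73078 F76098)).symm
theorem F76101 : act 4 n45577 = n44359 := (sb E8118 F73079)
theorem F76103 : act 7 n45577 = n44464 := (sb E8118 F73078)
theorem F76104 : act 1 n43679 = n41015 := d15_0 (iv0 F76093) F68642 (iv2 F68639)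
def n48412 : Q := act 3 n23547
theorem D48412 : act 3 n23547 = n48412 := rfl
theorem F76106 : act 7 n48412 = n48406 := d8_2 (iv7 F63025) D48412 (iv3 D48406)
theorem F76107 : act 4 n47550 = n48412 := d11_3 F76106 F76072 F74789
def n48413 : Q := act 4 n23547
theorem D48413 : act 4 n23547 = n48413 := rfl
theorem F76108 : act 2 n48413 = n41241 := d1_1 D48413 F63079 F63026
theorem F76109 : act 3 n48413 = n41205 := d5_1 D48413 F62405 D47550 F76107 (iv3 D48412)
theorem F76110 : act 6 n48413 = n48255 := d10_2 F71723 D48413 (iv4 F75860)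
theorem F76111 : act 7 n48413 = n41240 := d11_2 (iv7 F63025) D48413 F62466
theorem F76112 : act 0 n48413 = n41235 := d17_0 (iv5 D41235) F35639 (iv5 F16965) (iv4 F16464) D21673 D45416 (iv5 F71658) F36656 D48413
theorem F76113 : act 1 n48413 = n40860 := d18_8 F36643 (iv4 D23523) (iv1 F17928) (iv4 D11063) F17898 (iv4 F36630) F36656 D48413 (iv5 D40860)
theorem F76114 : act 0 n47371 = n47895 := d20_4 D48413 F76112 (iv4 F70127) (iv3 F74564) F75215 F36118 (iv1 F66745) (iv4 F36658) (iv3 D23549) D23547
def n48414 : Q := act 0 n23549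
theorem D48414 : act 0 n23549 = n48414 := rfl
theorem F76115 : act 6 n48414 = n23623 := d21_5 D21692 (iv1 F71713) (iv5 F75517) (iv6 F75515) D48414 (iv5 F66252) (iv1 F70169) F70167 (iv6 F33863) (iv1 F33864)
theorem F76116 : act 2 n47847 = n48414 := d15_3 (iv0 D48414) (iv0 F66681) D47847
theorem F76117 : act 1 n44546 = n48414 := d15_0 (iv0 D48414) F36659 (iv2 F70060)
theorem F76118 : act 7 n48414 = n47773 := d15_2 (iv0 F75126) F76117 F75037
def n48415 : Q := act 2 n23549
theorem D48415 : act 2 n23549 = n48415 := rfl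
theorem F76119 : act 4 n48415 = n23591 := d1_2 (iv4 F36658) D48415 (iv2 D23591)
theorem F76120 : act 5 n48415 = n45401 := d2_2 F70337 D48415 (iv2 F71620)
theorem F76122 : act 1 n48415 = n47773 := d15_0 F75130 (iv7 F36659) D48415
theorem F76123 : act 1 n47847 = n48415 := d15_0 F76122 (iv7 F76118) (iv2 F76116)
def n48416 : Q := act 4 n23550
theorem D48416 : act 4 n23550 = n48416 := rfl
theorem F76124 : act 7 n48416 = n48409 := d11_2 (iv7 F36660) D48416 (iv4 D48409)
theorem F76125 : act 1 n48416 = n45380 := d18_6 (iv1 F63232) F36326 F63188 D11039 D23550 D48416 (iv4 D45380) D45379 F71552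
def n48417 : Q := act 6 n23550
theorem D48417 : act 6 n23550 = n48417 := rfl
def n48418 : Q := act 0 n23556
theorem D48418 : act 0 n23556 = n48418 := rfl
theorem F76126 : act 5 n48418 = n44658 := d17_1 D48418 (iv1 F70207) (iv5 D41999) (iv4 D19797) (iv5 F35838) F7486 D11030 F17908 D23556
theorem F76127 : act 4 n48418 = n40860 := d18_3 D11041 D23556 D48418 (iv5 D40860) (iv4 F63174) (iv0 D21450) F16172 (iv0 F63143) F7448
theorem F76128 : act 2 n48108 = n48418 := d15_3 (iv0 D48418) F70129 (iv7 F75585)
theorem F76129 : act 1 n23561 = n48418 := d15_0 (iv0 D48418) (iv7 F63329) F63335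
theorem F76130 : act 7 n48418 = n41242 := d15_2 (iv0 F70128) F76129 (iv2 F70126)
theorem F76131 : act 6 n44837 = n48418 := d14_5 F76130 (iv6 F63175) F63176 D41239 F70423
def n48419 : Q := act 3 n23556
theorem D48419 : act 3 n23556 = n48419 := rfl
theorem F76132 : act 4 n48419 = n43457 := d5_2 D23556 D48419 F68314 F62983 F63292
theorem F76133 : act 6 n48419 = n43455 := d7_2 (iv6 F63324) D48419 F68311
theorem F76134 : act 7 n48419 = n48410 := d8_2 F63329 D48419 (iv3 D48410)
def n48420 : Q := act 5 n23556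
theorem D48420 : act 5 n23556 = n48420 := rfl
theorem F76135 : act 2 n48420 = n48109 := d2_1 D48420 (iv5 D48109) F63328
theorem F76136 : act 7 n48420 = n48411 := d13_2 F63329 D48420 (iv5 D48411)
theorem F76137 : act 1 n48420 = n45373 := d17_6 (iv1 F63153) D9282 D19776 F63313 D23556 D48420 (iv5 D45373) (iv0 D21643) F16444
theorem F76138 : act 1 n45376 = n48420 := d15_0 F76137 F71533 (iv2 F71545)
def n48421 : Q := act 3 n23561
theorem D48421 : act 3 n23561 = n48421 := rfl
theorem F76139 : act 7 n48421 = n48105 := d8_2 (iv7 F63334) D48421 F75580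
def n48422 : Q := act 5 n23561
theorem D48422 : act 5 n23561 = n48422 := rfl
theorem F76140 : act 2 n48422 = n48411 := d2_1 D48422 (iv5 D48411) F63335
theorem F76141 : act 7 n48422 = n48109 := d13_2 (iv7 F63334) D48422 (iv5 D48109)
theorem F76142 : act 1 n48422 = n45376 := d17_6 (iv1 F16110) D19801 F63252 F63241 D23561 D48422 (iv5 D45376) (iv0 F63223) (iv4 D19760)
theorem F76143 : act 1 n45373 = n48422 := d15_0 F76142 F71546 (iv2 F71532)
def n48423 : Q := act 6 n23561
theorem D48423 : act 6 n23561 = n48423 := rfl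
theorem F76144 : act 2 n48423 = n45534 := d3_1 D48423 F71817 F63335
theorem F76145 : act 4 n48423 = n23563 := d10_1 D48423 (iv6 D23563) D23561
theorem F76147 : act 0 n48423 = n48091 := d21_4 D45376 (iv1 F76142) (iv5 D48422) D48423 (iv6 F75560) F75216 (iv1 F71478) F71472 (iv6 F63225) F63223
theorem F76149 : act 0 n45007 = n48423 := d18_2 (iv1 F72018) (iv4 F70784) F76145 (iv5 F63298) D45100 F71041 (iv4 D40713) D40712 (iv5 F63043)
def n48424 : Q := act 3 n23577
theorem D48424 : act 3 n23577 = n48424 := rfl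
theorem F76150 : act 5 n48424 = n41987 := d6_2 (iv5 F66775) D48424 (iv3 D41987)
theorem F76151 : act 7 n48424 = n44849 := d8_2 (iv7 F66777) D48424 F70448
theorem F76152 : act 2 n47609 = n48424 := d4_3 F76151 (iv2 F72360) (iv7 F74865)
theorem F76153 : act 1 n44951 = n48424 := d15_1 (iv0 F72361) F76151 (iv2 F72360)
theorem F76154 : act 1 n48424 = n44953 := d15_1 F76153 F70678 (iv2 F70670)
theorem F76155 : act 0 n44668 = n45814 := d21_4 D46660 (iv1 F73737) (iv5 D44667) D44668 F72350 (iv5 F76150) (iv1 F76153) (iv5 D44951) D44952 (iv1 F72348)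
def n48425 : Q := act 4 n23577
theorem D48425 : act 4 n23577 = n48425 := rfl
def n48426 : Q := act 0 n23578
theorem D48426 : act 0 n23578 = n48426 := rfl
theorem F76157 : act 1 n45015 = n48426 := d15_0 (iv0 D48426) (iv7 F36778) (iv2 F70802)
def n48427 : Q := act 1 n23578
theorem D48427 : act 1 n23578 = n48427 := rfl
theorem F76159 : act 4 n48315 = n48427 := d20_6 D21425 F33642 (iv4 D11006) (iv3 F17866) D23479 D48315 (iv1 D48427) (iv4 D23578) F17911 (iv1 F16122)
theorem F76160 : act 0 n42268 = n48315 := d18_0 F76159 (iv1 D48427) (iv4 D23578) (iv5 D11046) (iv4 F17900) F66549 F17727 D19949 D42268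
def n48429 : Q := act 5 n23578
theorem D48429 : act 5 n23578 = n48429 := rfl
def n48430 : Q := act 6 n23578
theorem D48430 : act 6 n23578 = n48430 := rfl
theorem F76162 : act 4 n48430 = n23579 := d10_1 D48430 (iv6 D23579) D23578
def n48436 : Q := act 0 n23602
theorem D48436 : act 0 n23602 = n48436 := rfl
theorem F76168 : act 2 n44537 = n48436 := d15_3 (iv0 D48436) (iv0 F70773) F70772
theorem F76169 : act 1 n44593 = n48436 := d15_0 (iv0 D48436) (iv7 F63150) (iv2 F70120)
theorem F76170 : act 7 n48436 = n44597 := d4_2 F70772 F76168 (iv2 F70774)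
theorem F76171 : act 1 n45002 = n44593 := d15_0 F76169 F76170 (iv2 F70774)
def n48437 : Q := act 2 n23602
theorem D48437 : act 2 n23602 = n48437 := rfl
theorem F76172 : act 3 n48437 = n48370 := d0_2 D23602 D48437 (iv2 D48370) (iv3 D23501) F35385
theorem F76173 : act 7 n48437 = n44593 := d4_2 F63150 D48437 F70120
theorem F76174 : act 1 n48437 = n44597 := d15_0 (iv0 D44597) F63150 D48437
theorem F76175 : act 1 n44537 = n48437 := d15_0 F76174 (iv7 F76170) (iv2 F76168)
def n48438 : Q := act 5 n23602
theorem D48438 : act 5 n23602 = n48438 := rfl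
theorem F76176 : act 3 n48438 = n23603 := d6_1 D48438 (iv5 D23603) D23602
theorem F76177 : act 7 n48438 = n44598 := d13_2 F63150 D48438 (iv5 D44598)
def n48439 : Q := act 4 n23603
theorem D48439 : act 4 n23603 = n48439 := rfl
theorem F76178 : act 2 n48439 = n48372 := d1_1 D48439 (iv4 D48372) (iv2 F36719)
theorem F76179 : act 7 n48439 = n44607 := d11_2 F63151 D48439 (iv4 D44607)
theorem F76180 : act 5 n48439 = n44660 := d16_1 D48439 (iv4 D44660) (iv5 D21256) F15998 (iv5 F16768) (iv4 F16172) D21452 F63181 (iv2 F36719)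
def n48440 : Q := act 6 n23603
theorem D48440 : act 6 n23603 = n48440 := rfl
theorem F76181 : act 2 n48440 = n48373 := d3_1 D48440 (iv6 D48373) (iv2 F36719)
def n48441 : Q := act 0 n23609
theorem D48441 : act 0 n23609 = n48441 := rfl
theorem F76182 : act 3 n48441 = n47365 := d20_5 (iv4 D11021) (iv1 F7485) D11063 D23609 D48441 (iv4 D47365) (iv1 D22753) D22755 (iv3 F63146) (iv1 F63182)
theorem F76183 : act 1 n44544 = n48441 := d15_0 (iv0 D48441) F36732 (iv2 F70057)
def n48442 : Q := act 1 n23609
theorem D48442 : act 1 n23609 = n48442 := rfl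
theorem F76184 : act 1 n48442 = n44544 := d15_1 D48442 (iv7 F70797) F70795
def n48443 : Q := act 5 n23609
theorem D48443 : act 5 n23609 = n48443 := rfl
theorem F76185 : act 3 n48443 = n23610 := d6_1 D48443 (iv5 D23610) D23609
theorem F76186 : act 7 n48443 = n48376 := d13_2 (iv7 F36732) D48443 (iv5 D48376)
def n48444 : Q := act 6 n23609
theorem D48444 : act 6 n23609 = n48444 := rfl
theorem F76187 : act 3 n48444 = n23611 := d7_1 D48444 (iv6 D23611) D23609
theorem F76188 : act 4 n48444 = n48444 := d10_1 D48444 (iv6 D48444) F36731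
def n48445 : Q := act 4 n23610
theorem D48445 : act 4 n23610 = n48445 := rfl
theorem F76189 : act 2 n48445 = n23621 := d1_1 D48445 (iv4 D23621) (iv2 F36733)
theorem F76190 : act 5 n48445 = n48416 := d9_2 D23610 D48445 (iv4 D48416) (iv5 D23550) (iv4 D11039) (iv5 D5029) D5028 D11035 D23532 D48400 F76068 (iv5 F71658) F36630 (iv5 F17898) D11063
theorem F76191 : act 7 n48445 = n48378 := d11_2 (iv7 F36734) D48445 (iv4 D48378)
theorem F76192 : act 1 n48398 = n48445 := d15_1 D48398 F76191 F76043
theorem F76193 : act 1 n48445 = n48397 := d15_0 (iv0 D48397) (iv7 F36756) (iv2 F76189)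
def n48446 : Q := act 6 n23610
theorem D48446 : act 6 n23610 = n48446 := rfl
theorem F76194 : act 2 n48446 = n23622 := d3_1 D48446 (iv6 D23622) (iv2 F36733)
def n48447 : Q := act 0 n23612
theorem D48447 : act 0 n23612 = n48447 := rfl
theorem F76195 : act 1 n47802 = n48447 := d15_0 (iv0 D48447) F36739 (iv2 F75100)
def n48448 : Q := act 1 n23612
theorem D48448 : act 1 n23612 = n48448 := rfl
def n48449 : Q := act 2 n23612
theorem D48449 : act 2 n23612 = n48449 := rfl
theorem F76196 : act 3 n48449 = n48383 := d0_2 D23612 D48449 (iv2 D48383) (iv3 D23522) (iv2 F35642)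
theorem F76197 : act 7 n48449 = n47802 := d4_2 (iv7 F36739) D48449 F75100
theorem F76198 : act 1 n48449 = n47803 := d15_0 (iv0 D47803) (iv7 F36739) D48449
theorem F76199 : act 1 n48448 = n47802 := d15_1 D48448 (iv7 F76197) (iv2 D48449)
theorem F76200 : act 1 n47804 = n48449 := d15_1 D47804 F76197 F75100
def n48450 : Q := act 5 n23612
theorem D48450 : act 5 n23612 = n48450 := rfl
theorem F76201 : act 3 n48450 = n23613 := d6_1 D48450 (iv5 D23613) D23612
theorem F76202 : act 7 n48450 = n47805 := d13_2 (iv7 F36739) D48450 (iv5 D47805)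
def n48451 : Q := act 4 n23613
theorem D48451 : act 4 n23613 = n48451 := rfl
theorem F76203 : act 2 n48451 = n48385 := d1_1 D48451 (iv4 D48385) (iv2 F36740)
theorem F76204 : act 7 n48451 = n47807 := d11_2 (iv7 F36741) D48451 (iv4 D47807)
theorem F76205 : act 5 n48451 = n44728 := d16_1 D48451 (iv4 D44728) (iv5 D21304) (iv4 F32361) F32362 F30834 D23168 (iv7 F36645) (iv2 F36740)
def n48452 : Q := act 6 n23613
theorem D48452 : act 6 n23613 = n48452 := rfl
theorem F76206 : act 2 n48452 = n48386 := d3_1 D48452 (iv6 D48386) (iv2 F36740)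
def n48453 : Q := act 0 n23617
theorem D48453 : act 0 n23617 = n48453 := rfl
theorem F76207 : act 2 n48388 = n48453 := d15_3 (iv0 D48453) (iv0 F70378) (iv7 F76065)
theorem F76208 : act 1 n44545 = n48453 := d15_0 (iv0 D48453) F36750 (iv2 F70059)
theorem F76209 : act 7 n48453 = n48387 := d15_2 (iv0 F70379) F76208 F76062
def n48454 : Q := act 4 n23617
theorem D48454 : act 4 n23617 = n48454 := rfl
theorem F76210 : act 7 n48454 = n48389 := d11_2 (iv7 F36750) D48454 (iv4 D48389)
def n48455 : Q := act 6 n23617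
theorem D48455 : act 6 n23617 = n48455 := rfl
theorem F76211 : act 3 n48455 = n23622 := d7_1 D48455 (iv6 D23622) (iv3 F36749)
def n48456 : Q := act 5 n23618
theorem D48456 : act 5 n23618 = n48456 := rfl
theorem F76212 : act 2 n48456 = n45457 := d2_1 D48456 F71711 F70800
theorem F76213 : act 3 n48456 = n23625 := d6_1 D48456 (iv5 D23625) (iv3 F36751)
theorem F76215 : act 1 n48456 = n44108 := d17_6 D10280 D21530 (iv1 F66887) F34253 (iv4 F36752) D48456 (iv5 D44108) (iv0 F33141) F16279
theorem F76216 : act 0 n48456 = n45087 := d21_7 (iv5 F75423) (iv1 F75425) (iv5 D23613) (iv6 F36281) (iv1 F66535) D23618 D48456 (iv5 D45087) (iv6 F64869) (iv1 F64868)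
def n48457 : Q := act 3 n23619
theorem D48457 : act 3 n23619 = n48457 := rfl
theorem F76217 : act 7 n48457 = n48391 := d8_2 F64873 D48457 (iv3 D48391)
def n48458 : Q := act 4 n23619
theorem D48458 : act 4 n23619 = n48458 := rfl
theorem F76218 : act 2 n48458 = n48395 := d1_1 D48458 (iv4 D48395) (iv2 F64875)
theorem F76219 : act 7 n48458 = n48392 := d11_2 F64873 D48458 (iv4 D48392)
def n48459 : Q := act 6 n23619
theorem D48459 : act 6 n23619 = n48459 := rfl
theorem F76220 : act 2 n48459 = n48396 := d3_1 D48459 (iv6 D48396) (iv2 F64875)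
theorem F76221 : act 5 n48459 = n47850 := d12_1 D48459 (iv6 D47850) (iv5 F75046) F64854 F64767
def n48460 : Q := act 3 n23620
theorem D48460 : act 3 n23620 = n48460 := rfl
theorem F76222 : act 5 n48460 = n45468 := d6_2 (iv5 F36755) D48460 F71720
theorem F76223 : act 7 n48460 = n48394 := d8_2 (iv7 F64876) D48460 (iv3 D48394)
def n48461 : Q := act 4 n23620
theorem D48461 : act 4 n23620 = n48461 := rfl
theorem F76224 : act 2 n48461 = n48392 := d1_1 D48461 (iv4 D48392) F64871
theorem F76225 : act 7 n48461 = n48395 := d11_2 (iv7 F64876) D48461 (iv4 D48395)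
def n48462 : Q := act 6 n23620
theorem D48462 : act 6 n23620 = n48462 := rfl
theorem F76226 : act 2 n48462 = n48393 := d3_1 D48462 (iv6 D48393) F64871
theorem F76227 : act 5 n48462 = n45470 := d12_1 D48462 (iv6 D45470) (iv5 D21692) D21693 (iv5 F36755)
def n48463 : Q := act 0 n23621
theorem D48463 : act 0 n23621 = n48463 := rfl
theorem F76228 : act 1 n48378 = n48463 := d15_0 (iv0 D48463) F36756 (iv2 F76043)
def n48464 : Q := act 1 n23621
theorem D48464 : act 1 n23621 = n48464 := rfl
theorem F76229 : act 1 n48464 = n48378 := d15_1 D48464 (iv7 F76191) F76189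
theorem F76230 : act 4 n48464 = n45525 := d18_7 F63173 (iv4 D11060) (iv1 D5043) D5045 D11068 D23621 D48464 F71802 (iv5 D44944)
def n48465 : Q := act 3 n23621
theorem D48465 : act 3 n23621 = n48465 := rfl
theorem F76231 : act 7 n48465 = n48399 := d8_2 (iv7 F36756) D48465 (iv3 D48399)
def n48466 : Q := act 5 n23621
theorem D48466 : act 5 n23621 = n48466 := rfl
theorem F76232 : act 2 n48466 = n48416 := d2_1 D48466 (iv5 F76190) F76189
theorem F76233 : act 4 n48466 = n44727 := d9_1 D48466 F70303 (iv4 D23520) (iv5 D11030) D11029 D23518 D48378 (iv5 F76082) (iv4 D48409) (iv5 D23536) F17901 (iv5 F7448) D5045 D11068 D23621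
theorem F76234 : act 7 n48466 = n48400 := d13_2 (iv7 F36756) D48466 (iv5 D48400)
theorem F76235 : act 0 n44660 = n48466 := d18_2 (iv1 D44659) D44660 F76233 F70303 (iv4 D23520) F17908 D23556 F70129 (iv5 F70209)
def n48467 : Q := act 6 n23621
theorem D48467 : act 6 n23621 = n48467 := rfl
theorem F76236 : act 4 n48467 = n23622 := d10_1 D48467 (iv6 D23622) D23621
def n48468 : Q := act 0 n23622
theorem D48468 : act 0 n23622 = n48468 := rfl
def n48469 : Q := act 1 n23622
theorem D48469 : act 1 n23622 = n48469 := rfl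
def n48470 : Q := act 5 n23622
theorem D48470 : act 5 n23622 = n48470 := rfl
theorem F76237 : act 6 n48470 = n23625 := d12_2 D23622 D48470 (iv5 D23625) (iv6 D11069) D11068
def n48471 : Q := act 7 n23622
theorem D48471 : act 7 n23622 = n48471 := rfl
theorem F76238 : act 6 n48471 = n48405 := d14_1 D48471 (iv7 D48405) (iv6 D23533) (iv7 F17935) D23622
def n48472 : Q := act 3 n23623
theorem D48472 : act 3 n23623 = n48472 := rfl
theorem F76239 : act 4 n48472 = n47599 := d5_2 F66251 D48472 (iv3 D47599) (iv4 F66270) (iv3 F66250)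
theorem F76240 : act 5 n48472 = n44805 := d6_2 F66252 D48472 (iv3 D44805)
theorem F76241 : act 7 n48472 = n47833 := d8_2 (iv7 F66277) D48472 F75115
def n48473 : Q := act 3 n23624
theorem D48473 : act 3 n23624 = n48473 := rfl
theorem F76242 : act 4 n48473 = n42496 := d5_2 F36757 D48473 F65633 F31884 (iv3 F31881)
theorem F76243 : act 5 n48473 = n44808 := d6_2 (iv5 F36760) D48473 (iv3 D44808)
theorem F76244 : act 6 n48473 = n42476 := d7_2 (iv6 F36758) D48473 (iv3 D42476)
def n48474 : Q := act 4 n23625
theorem D48474 : act 4 n23625 = n48474 := rfl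
def n48475 : Q := act 3 n23648
theorem D48475 : act 3 n23648 = n48475 := rfl
theorem F76246 : act 6 n48475 = n47683 := d7_2 (iv6 F70856) D48475 F75591
theorem F76247 : act 7 n48475 = n47631 := d8_2 (iv7 F66873) D48475 F74898
theorem F76248 : act 4 n48475 = n48300 := d20_6 (iv4 F32020) F32021 (iv4 D11077) (iv3 F17943) D23648 D48475 (iv1 D48300) (iv4 D23453) F17848 F14789
theorem F76251 : act 7 n48300 = n48318 := d11_2 (iv7 F76247) F76248 F75952
theorem F76252 : act 0 n44009 = n48475 := d18_0 F76248 (iv1 D48300) (iv4 D23453) (iv5 D10995) D10994 F66709 (iv4 F15636) D20896 D44009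
theorem F76253 : act 1 n44007 = n48475 := d15_0 (iv0 F76252) F69239 (iv2 F69231)
theorem F76254 : act 2 n48318 = n48299 := d15_3 (iv0 D48299) D48300 F76251
def n48476 : Q := act 4 n23648
theorem D48476 : act 4 n23648 = n48476 := rfl
theorem F76256 : act 2 n48476 = n48425 := d1_1 D48476 (iv4 D48425) F66871
theorem F76257 : act 7 n48476 = n47881 := d11_2 (iv7 F66873) D48476 F75164
theorem F76258 : act 1 n48425 = n48254 := d15_0 F75856 (iv7 F76257) F76256
def n48477 : Q := act 0 n23650
theorem D48477 : act 0 n23650 = n48477 := rfl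
theorem F76259 : act 1 n44547 = n48477 := d15_0 (iv0 D48477) F36778 (iv2 F70062)
theorem F76260 : act 4 n48477 = n48253 := d18_7 F66559 F29057 (iv1 F66715) (iv4 D21185) D21186 D44547 F76259 (iv0 D48253) (iv5 D23408)
theorem F76261 : act 2 n48427 = n48477 := d1_3 F76260 (iv2 F75943) F76159
theorem F76262 : act 3 n48253 = n48228 := d20_3 D23650 D48477 F76260 (iv1 D48228) F36513 D23396 D48246 F75846 F70448 F66731
theorem F76263 : act 2 n48228 = n48297 := d0_1 F76262 (iv3 D48297) (iv2 F66676) D48315 F75943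
theorem F76264 : act 4 n48228 = n47624 := d20_6 (iv4 F75846) (iv1 F75847) (iv4 D23413) (iv3 F36530) D48253 F76262 (iv1 D47624) (iv4 D22915) (iv3 F35975) F70450
def n48478 : Q := act 1 n23650
theorem D48478 : act 1 n23650 = n48478 := rfl
theorem F76266 : act 1 n48478 = n44547 := d15_1 D48478 (iv7 F70803) F70802
theorem F76268 : act 4 n42481 = n48478 := d20_6 (iv4 F36565) (iv1 D23459) (iv4 D10998) (iv3 F17848) (iv1 F66493) (iv3 F65629) (iv1 D48478) (iv4 D23650) F17943 (iv1 F17913)
def n48480 : Q := act 5 n23650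
theorem D48480 : act 5 n23650 = n48480 := rfl
theorem F76273 : act 7 n48480 = n48429 := d13_2 (iv7 F36778) D48480 (iv5 D48429)
def n48485 : Q := act 1 n23654
theorem D48485 : act 1 n23654 = n48485 := rfl
def n48486 : Q := act 2 n23654
theorem D48486 : act 2 n23654 = n48486 := rfl
theorem F76283 : act 7 n48486 = n23667 := d4_2 (iv7 F36781) D48486 (iv2 D23667)
theorem F76285 : act 1 n48485 = n23667 := d15_1 D48485 (iv7 F76283) (iv2 D48486)
def n48487 : Q := act 0 n23658
theorem D48487 : act 0 n23658 = n48487 := rfl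
theorem F76287 : act 1 n45017 = n48487 := d15_0 (iv0 D48487) (iv7 F36803) (iv2 F70809)
def n48488 : Q := act 5 n23658
theorem D48488 : act 5 n23658 = n48488 := rfl
def n48489 : Q := act 6 n23658
theorem D48489 : act 6 n23658 = n48489 := rfl
theorem F76288 : act 4 n48489 = n23659 := d10_1 D48489 (iv6 D23659) D23658
def n48490 : Q := act 0 n23659
theorem D48490 : act 0 n23659 = n48490 := rfl
def n48491 : Q := act 1 n23659
theorem D48491 : act 1 n23659 = n48491 := rfl
def n48492 : Q := act 2 n23660
theorem D48492 : act 2 n23660 = n48492 := rfl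
theorem F76291 : act 6 n48492 = n23696 := d3_2 F36788 D48492 F36852
theorem F76292 : act 7 n23661 = n48492 := d15_2 (iv0 D23660) D23661 (iv2 D48492)
theorem F76293 : act 7 n23695 = n23694 := d14_4 F76292 F76291 (iv7 D23696) D23695 F36848
theorem E8119 : n23696 = n11095 := (c13_3 F76293 (iv5 D23694) D23696 (iv5 F36850))
theorem E8122 : n23692 = n11094 := ((F36847).symm.trans (sb E8119 (iv7 D23696)))
theorem F76298 : act 2 n11094 = n11094 := (sb E8122 (iv2 D23692))
theorem F76299 : act 7 n11094 = n11095 := (sb E8122 (iv7 F36847))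
theorem F76316 : act 7 n23697 = n23693 := d8_2 F76299 D23697 (iv3 D23693)
def n48493 : Q := act 3 n23660
theorem D48493 : act 3 n23660 = n48493 := rfl
theorem F76317 : act 6 n48493 = n23697 := d7_2 F36788 D48493 (iv3 D23697)
def n48494 : Q := act 3 n23661
theorem D48494 : act 3 n23661 = n48494 := rfl
theorem F76318 : act 5 n48494 = n48493 := d6_2 F36787 D48494 (iv3 D48493)
def n48495 : Q := act 0 n23664
theorem D48495 : act 0 n23664 = n48495 := rfl
theorem F76320 : act 4 n48495 = n37185 := d18_3 (iv1 F63219) D23664 D48495 (iv5 D37185) F29057 F66548 F17933 (iv0 F66711) (iv5 F33800)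
theorem F76321 : act 1 n44549 = n48495 := d15_0 (iv0 D48495) F36803 (iv2 F70065)
theorem F76322 : act 2 n40474 = n48495 := d1_3 F76320 F58139 (iv4 F61573)
theorem F76323 : act 6 n23682 = n48495 := d10_0 F76320 F58140 (iv4 F36831)
theorem F76324 : act 7 n48487 = n48495 := d15_2 (iv0 F70811) F76287 (iv2 F76322)
def n48496 : Q := act 1 n23664
theorem D48496 : act 1 n23664 = n48496 := rfl
theorem F76325 : act 1 n48496 = n44549 := d15_1 D48496 (iv7 F70810) F70809
theorem F76326 : act 7 n48496 = n40474 := d15_2 (iv0 D48495) D48496 F76322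
theorem F76327 : act 4 n42272 = n48496 := d20_6 D5063 (iv1 F17872) (iv4 D11009) D11008 F35716 (iv3 F65280) (iv1 D48496) (iv4 D23664) (iv3 D11081) (iv1 D5062)
def n48497 : Q := act 5 n23664
theorem D48497 : act 5 n23664 = n48497 := rfl
theorem F76329 : act 7 n48497 = n48488 := d13_2 (iv7 F36803) D48497 (iv5 D48488)
def n48498 : Q := act 2 n23665
theorem D48498 : act 2 n23665 = n48498 := rfl
theorem F76330 : act 7 n23666 = n48498 := d15_2 (iv0 D23665) D23666 (iv2 D48498)
def n48505 : Q := act 4 n23666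
theorem D48505 : act 4 n23666 = n48505 := rfl
def n48512 : Q := act 3 n23669
theorem D48512 : act 3 n23669 = n48512 := rfl
theorem F76343 : act 4 n48512 = n27911 := d5_2 D23669 D48512 (iv3 D27911) (iv4 D13309) (iv3 F17962)
theorem F76344 : act 7 n48512 = n39871 := d8_2 (iv7 F36809) D48512 (iv3 D39871)
def n48513 : Q := act 5 n23669
theorem D48513 : act 5 n23669 = n48513 := rfl
theorem F76345 : act 2 n48513 = n40526 := d2_1 D48513 (iv5 F70838) F70836
theorem F76346 : act 7 n48513 = n39872 := d13_2 (iv7 F36809) D48513 (iv5 D39872)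
theorem F76347 : act 4 n48513 = n40500 := d16_2 D23669 D48513 (iv5 D40500) (iv4 D19138) (iv5 D8990) (iv4 F16811) D17893 (iv7 F33808) F33806
theorem F76348 : act 0 n48513 = n44513 := d17_2 F57005 D48513 (iv5 D44513) (iv4 D21169) (iv5 D10088) D10087 D21165 F33403 D36260
theorem F76349 : act 1 n48513 = n44568 := d17_6 F30177 (iv5 D18905) F13814 D11084 D23669 D48513 F70086 F56943 (iv4 D34420)
def n48514 : Q := act 6 n23669
theorem D48514 : act 6 n23669 = n48514 := rfl
theorem F76350 : act 4 n48514 = n23670 := d10_1 D48514 (iv6 D23670) D23669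
def n48515 : Q := act 0 n23670
theorem D48515 : act 0 n23670 = n48515 := rfl
theorem F76351 : act 6 n48515 = n38901 := d21_5 (iv5 D18905) F13814 D11084 D23670 D48515 (iv5 D38901) (iv1 D18479) D18480 F29662 F30177
def n48516 : Q := act 1 n23670
theorem D48516 : act 1 n23670 = n48516 := rfl
def n48517 : Q := act 7 n23670
theorem D48517 : act 7 n23670 = n48517 := rfl
theorem F76352 : act 3 n48517 = n27751 := d8_1 D48517 F44799 (iv3 F36810)
theorem F76353 : act 5 n48517 = n38999 := d13_1 D48517 F60013 F45083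
theorem F76354 : act 6 n48517 = n27726 := d14_1 D48517 (iv7 D27726) F22036 (iv7 F17963) D23670
theorem F76355 : act 0 n38979 = n48517 := d21_4 F59946 (iv1 F29665) D18501 D38979 F76354 F44731 (iv1 F44712) (iv5 F60006) (iv6 D38988) (iv1 F59949)
def n48518 : Q := act 3 n23671
theorem D48518 : act 3 n23671 = n48518 := rfl
theorem F76356 : act 4 n48518 = n47674 := d5_2 (iv4 F36811) D48518 (iv3 D47674) F36008 F32724
theorem F76357 : act 7 n48518 = n40516 := d8_2 (iv7 F36814) D48518 (iv3 D40516)
def n48519 : Q := act 6 n23671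
theorem D48519 : act 6 n23671 = n48519 := rfl
def n48520 : Q := act 0 n23672
theorem D48520 : act 0 n23672 = n48520 := rfl
def n48521 : Q := act 2 n23672
theorem D48521 : act 2 n23672 = n48521 := rfl
theorem F76362 : act 4 n48521 = n23679 := d1_2 (iv4 F36815) D48521 (iv2 D23679)
theorem F76364 : act 1 n48521 = n40522 := d15_0 (iv0 D40522) (iv7 F36816) D48521
def n48524 : Q := act 0 n23673
theorem D48524 : act 0 n23673 = n48524 := rfl
theorem F76370 : act 5 n48524 = n23682 := d17_3 F32699 D23673 D48524 F36831 (iv5 D17883) F16924 D19411 F31913 D20611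
theorem F76372 : act 1 n40500 = n48524 := d15_0 (iv0 D48524) F36817 (iv2 F61612)
theorem F76373 : act 7 n48524 = n40470 := d15_2 F65033 F76372 (iv2 F65029)
def n48525 : Q := act 4 n23673
theorem D48525 : act 4 n23673 = n48525 := rfl
theorem F76375 : act 5 n48525 = n37215 := d9_2 D23673 D48525 (iv4 D37215) (iv5 D17893) F16811 D8990 D19138 D40500 (iv4 F76347) (iv5 D48513) (iv4 D23669) (iv5 D11084) (iv4 D5067) D5068 D11085
def n48528 : Q := act 1 n23674
theorem D48528 : act 1 n23674 = n48528 := rfl
def n48530 : Q := act 3 n23675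
theorem D48530 : act 3 n23675 = n48530 := rfl
theorem F76379 : act 2 n48530 = n47682 := d0_1 D48530 (iv3 F74967) (iv2 F75192) F75193 F63398
theorem F76380 : act 6 n48530 = n42444 := d7_2 (iv6 F36819) D48530 F65561
theorem F76381 : act 7 n48530 = n47683 := d8_2 F70854 D48530 F75591
theorem F76382 : act 0 n42115 = n48530 := d21_4 (iv5 D9350) D9349 D19864 D42115 F76380 (iv5 D42444) F65862 D22231 F34679 F31145
def n48531 : Q := act 4 n23675
theorem D48531 : act 4 n23675 = n48531 := rfl
theorem F76383 : act 2 n48531 = n47903 := d1_1 D48531 F75226 F63398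
theorem F76384 : act 6 n48531 = n47783 := d10_2 (iv6 F36819) D48531 (iv4 D47783)
def n48532 : Q := act 3 n23676
theorem D48532 : act 3 n23676 = n48532 := rfl
theorem F76385 : act 6 n48532 = n48424 := d7_2 F66776 D48532 (iv3 D48424)
theorem F76386 : act 7 n48532 = n47888 := d8_2 (iv7 F63400) D48532 F75193
def n48533 : Q := act 4 n23676
theorem D48533 : act 4 n23676 = n48533 := rfl
theorem F76388 : act 7 n48533 = n47903 := d11_2 (iv7 F63400) D48533 F75226
def n48535 : Q := act 4 n23677
theorem D48535 : act 4 n23677 = n48535 := rfl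
def n48538 : Q := act 3 n23678
theorem D48538 : act 3 n23678 = n48538 := rfl
def n48539 : Q := act 4 n23678
theorem D48539 : act 4 n23678 = n48539 := rfl
def n48544 : Q := act 4 n23681
theorem D48544 : act 4 n23681 = n48544 := rfl
theorem F76398 : act 6 n48544 = n47622 := d10_2 (iv6 F65741) D48544 (iv4 D47622)
theorem F76399 : act 7 n48544 = n46792 := d11_2 (iv7 F65742) D48544 F73912
def n48545 : Q := act 3 n23682
theorem D48545 : act 3 n23682 = n48545 := rfl
theorem F76400 : act 4 n48545 = n41408 := d5_2 (iv4 F36831) D48545 (iv3 D41408) (iv4 F31235) F29313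
theorem F76401 : act 7 n48545 = n40469 := d8_2 (iv7 F36834) D48545 (iv3 D40469)
def n48546 : Q := act 0 n23683
theorem D48546 : act 0 n23683 = n48546 := rfl
theorem F76402 : act 1 n40477 = n48546 := d15_0 (iv0 D48546) F36836 D40477
def n48547 : Q := act 2 n23683
theorem D48547 : act 2 n23683 = n48547 := rfl
theorem F76403 : act 4 n48547 = n23690 := d1_2 (iv4 F36835) D48547 (iv2 D23690)
theorem F76404 : act 7 n48547 = n40477 := d4_2 (iv7 F36836) D48547 (iv2 D40477)
theorem F76405 : act 1 n48547 = n40475 := d15_0 (iv0 D40475) (iv7 F36836) D48547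
theorem F76406 : act 1 n40476 = n48547 := d15_1 D40476 F76404 (iv2 D40477)
def n48548 : Q := act 5 n23683
theorem D48548 : act 5 n23683 = n48548 := rfl
theorem F76407 : act 3 n48548 = n23684 := d6_1 D48548 (iv5 D23684) D23683
theorem F76408 : act 7 n48548 = n40478 := d13_2 (iv7 F36836) D48548 (iv5 D40478)
def n48549 : Q := act 6 n23683
theorem D48549 : act 6 n23683 = n48549 := rfl
theorem F76409 : act 3 n48549 = n23685 := d7_1 D48549 (iv6 D23685) D23683
def n48550 : Q := act 4 n23684
theorem D48550 : act 4 n23684 = n48550 := rfl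
theorem F76411 : act 2 n48550 = n34429 := d1_1 D48550 (iv4 F70866) F70865
theorem F76412 : act 7 n48550 = n40481 := d11_2 (iv7 F36837) D48550 (iv4 D40481)
theorem F76413 : act 5 n48550 = n34420 := d16_1 D48550 (iv4 D34420) (iv5 D16691) F12249 D8964 D19117 D40449 (iv7 F70867) F70865
def n48551 : Q := act 6 n23684
theorem D48551 : act 6 n23684 = n48551 := rfl
def n48552 : Q := act 0 n23685
theorem D48552 : act 0 n23685 = n48552 := rfl
def n48553 : Q := act 1 n23685
theorem D48553 : act 1 n23685 = n48553 := rfl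
def n48554 : Q := act 5 n23685
theorem D48554 : act 5 n23685 = n48554 := rfl
def n48555 : Q := act 2 n23686
theorem D48555 : act 2 n23686 = n48555 := rfl
theorem F76414 : act 7 n23687 = n48555 := d15_2 (iv0 D23686) D23687 (iv2 D48555)
def n48556 : Q := act 3 n23686
theorem D48556 : act 3 n23686 = n48556 := rfl
def n48559 : Q := act 6 n23686
theorem D48559 : act 6 n23686 = n48559 := rfl
theorem F76417 : act 5 n48559 = n45035 := d21_6 (iv5 F13986) (iv1 F16882) (iv5 F7521) D11091 D23686 D48559 (iv1 D45035) F33823 (iv6 D21506) F16894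
def n48563 : Q := act 5 n23687
theorem D48563 : act 5 n23687 = n48563 := rfl
theorem F76420 : act 0 n48563 = n42041 := d21_1 D48563 F64918 (iv6 D23579) F66778 (iv6 D23047) (iv5 D10867) (iv1 F17652) (iv5 F36058) (iv6 F70876) (iv1 F70878)
theorem F76421 : act 6 n48563 = n45034 := d21_3 (iv5 F70875) (iv1 F70878) D48563 (iv1 F70877) (iv6 D23081) F17661 (iv1 F17644) D22992 (iv6 F36819) (iv1 F70862)
def n48564 : Q := act 6 n23687
theorem D48564 : act 6 n23687 = n48564 := rfl
theorem F76422 : act 5 n48564 = n48491 := d21_6 (iv5 D10867) (iv1 F17652) (iv5 F36058) (iv6 F70876) (iv1 F70878) D48564 (iv1 D48491) F36784 (iv6 F63270) (iv1 D23045)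
theorem F76423 : act 0 n44550 = n48564 := d21_4 (iv5 F63236) (iv1 F64749) F64747 D44550 (iv6 D48564) D48563 F76420 F64918 (iv6 D23579) F66778
theorem F76424 : act 1 n43214 = n48564 := d15_0 (iv0 F76423) (iv7 F75567) F75564
def n48566 : Q := act 4 n23688
theorem D48566 : act 4 n23688 = n48566 := rfl
def n48567 : Q := act 5 n23688
theorem D48567 : act 5 n23688 = n48567 := rfl
def n48570 : Q := act 3 n23689
theorem D48570 : act 3 n23689 = n48570 := rfl
def n48571 : Q := act 4 n23689
theorem D48571 : act 4 n23689 = n48571 := rfl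
def n48572 : Q := act 5 n23689
theorem D48572 : act 5 n23689 = n48572 := rfl
def n48579 : Q := act 2 n23693
theorem D48579 : act 2 n23693 = n48579 := rfl
theorem F76429 : act 3 n48579 = n48579 := d0_2 D23693 D48579 (iv2 D48579) (iv3 D23693) F76298
def n48581 : Q := act 5 n23693
theorem D48581 : act 5 n23693 = n48581 := rfl
theorem F76430 : act 3 n48581 = n23694 := d6_1 D48581 (iv5 D23694) D23693
theorem F76431 : act 6 n48494 = n48581 := d7_0 F76430 F36848 D48494
def n48582 : Q := act 6 n23693
theorem D48582 : act 6 n23693 = n48582 := rfl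
theorem F76433 : act 5 n48582 = n23697 := d12_1 D48582 (iv6 F76317) (iv5 F76318) F76431 (iv5 D48581)
def n48584 : Q := act 0 n23697
theorem D48584 : act 0 n23697 = n48584 := rfl
theorem F76440 : act 1 n48579 = n48584 := d15_0 (iv0 D48584) F76316 D48579
def n48585 : Q := act 1 n23697
theorem D48585 : act 1 n23697 = n48585 := rfl
def n48586 : Q := act 2 n23697
theorem D48586 : act 2 n23697 = n48586 := rfl
theorem F76442 : act 7 n48586 = n48579 := d4_2 (iv7 F76316) D48586 (iv2 D48579)
theorem F76444 : act 1 n48585 = n48579 := d15_1 D48585 (iv7 F76442) (iv2 D48586)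
def n48587 : Q := act 4 n23697
theorem D48587 : act 4 n23697 = n48587 := rfl
def n48589 : Q := act 1 n23698
theorem D48589 : act 1 n23698 = n48589 := rfl
theorem F76448 : act 1 n48589 = n23703 := d15_1 D48589 (iv7 D23703) D23698
def n48590 : Q := act 3 n23698
theorem D48590 : act 3 n23698 = n48590 := rfl
theorem F76449 : act 7 n48590 = n23704 := d8_2 F36853 D48590 (iv3 D23704)
def n48591 : Q := act 4 n23698
theorem D48591 : act 4 n23698 = n48591 := rfl
theorem F76450 : act 2 n48591 = n23700 := d1_1 D48591 (iv4 D23700) D23698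
theorem F76451 : act 7 n48591 = n23705 := d11_2 F36853 D48591 (iv4 D23705)
def n48592 : Q := act 5 n23698
theorem D48592 : act 5 n23698 = n48592 := rfl
theorem F76452 : act 2 n48592 = n23701 := d2_1 D48592 (iv5 D23701) D23698
theorem F76453 : act 7 n48592 = n23706 := d13_2 F36853 D48592 (iv5 D23706)
def n48594 : Q := act 0 n23699
theorem D48594 : act 0 n23699 = n48594 := rfl
def n48595 : Q := act 1 n23699
theorem D48595 : act 1 n23699 = n48595 := rfl
def n48596 : Q := act 2 n23699
theorem D48596 : act 2 n23699 = n48596 := rfl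
def n48597 : Q := act 5 n23699
theorem D48597 : act 5 n23699 = n48597 := rfl
theorem F76455 : act 3 n48597 = n23701 := d6_1 D48597 (iv5 D23701) D23699
def n48599 : Q := act 7 n23699
theorem D48599 : act 7 n23699 = n48599 := rfl
theorem F76457 : act 3 n48599 = n23703 := d8_1 D48599 (iv7 D23703) D23699
def n48600 : Q := act 0 n23700
theorem D48600 : act 0 n23700 = n48600 := rfl
theorem F76458 : act 4 n48600 = n48570 := d20_2 D23700 D48600 (iv3 D48570) (iv1 D23689) (iv3 D11092) (iv4 D5072) (iv1 D2076) D2077 D5074 D11096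
def n48601 : Q := act 1 n23700
theorem D48601 : act 1 n23700 = n48601 := rfl
theorem F76459 : act 1 n48601 = n23705 := d15_1 D48601 (iv7 F76451) F76450
def n48602 : Q := act 3 n23700
theorem D48602 : act 3 n23700 = n48602 := rfl
def n48603 : Q := act 5 n23700
theorem D48603 : act 5 n23700 = n48603 := rfl
def n48605 : Q := act 7 n23700
theorem D48605 : act 7 n23700 = n48605 := rfl
theorem F76461 : act 2 n48605 = n23705 := d4_1 D48605 (iv7 F76451) F76450
theorem F76462 : act 4 n48605 = n23703 := d11_1 D48605 (iv7 D23703) D23700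
theorem F76463 : act 1 n23705 = n48600 := d15_0 (iv0 D48600) D48605 F76461
def n48606 : Q := act 0 n23701
theorem D48606 : act 0 n23701 = n48606 := rfl
def n48610 : Q := act 7 n23701
theorem D48610 : act 7 n23701 = n48610 := rfl
theorem F76465 : act 2 n48610 = n23706 := d4_1 D48610 (iv7 F76453) F76452
theorem F76466 : act 5 n48610 = n23703 := d13_1 D48610 (iv7 D23703) D23701
theorem F76467 : act 1 n23706 = n48606 := d15_0 (iv0 D48606) D48610 F76465
def n48616 : Q := act 0 n23704
theorem D48616 : act 0 n23704 = n48616 := rfl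
theorem F76469 : act 4 n48616 = n48546 := d20_0 (iv1 F76402) F61575 F30738 (iv1 F36844) D48570 (iv4 F76458) (iv1 F76463) (iv4 D23705) D23704 D48616
theorem F76470 : act 3 n48616 = n48595 := d20_3 (iv4 F36835) D48546 (iv4 F76469) (iv1 D48595) (iv3 D23699) D23700 D48600 F76458 (iv3 D48570) (iv1 D23689)
def n48617 : Q := act 1 n23704
theorem D48617 : act 1 n23704 = n48617 := rfl
def n48618 : Q := act 2 n23704
theorem D48618 : act 2 n23704 = n48618 := rfl
def n48619 : Q := act 4 n23704
theorem D48619 : act 4 n23704 = n48619 := rfl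
theorem F76471 : act 0 n40485 = n48619 := d20_1 D40485 (iv4 D48619) (iv3 D23704) (iv1 D11097) (iv3 D5074) (iv4 D2077) (iv1 F2967) D4005 D8978 D19131
def n48620 : Q := act 5 n23704
theorem D48620 : act 5 n23704 = n48620 := rfl
theorem F76472 : act 3 n48620 = n23706 := d6_1 D48620 (iv5 D23706) D23704
def n48621 : Q := act 6 n23704
theorem D48621 : act 6 n23704 = n48621 := rfl
def n48622 : Q := act 3 n23705
theorem D48622 : act 3 n23705 = n48622 := rfl
def n48623 : Q := act 5 n23705
theorem D48623 : act 5 n23705 = n48623 := rfl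
def n48624 : Q := act 6 n23705
theorem D48624 : act 6 n23705 = n48624 := rfl
def n48625 : Q := act 4 n23706
theorem D48625 : act 4 n23706 = n48625 := rfl
def n48631 : Q := act 6 n23708
theorem D48631 : act 6 n23708 = n48631 := rfl
theorem F76475 : act 2 n48631 = n24527 := d3_1 D48631 (iv6 D24527) F36861
theorem F76476 : act 3 n48631 = n25373 := d7_1 D48631 (iv6 D25373) F38408
theorem F76477 : act 4 n48631 = n28008 := d10_1 D48631 (iv6 D28008) (iv4 F36868)
theorem F76478 : act 5 n48631 = n24165 := d12_1 D48631 (iv6 F53445) F53440 (iv6 F48678) F36865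
def n48632 : Q := act 6 n23709
theorem D48632 : act 6 n23709 = n48632 := rfl
theorem F76479 : act 2 n48632 = n25385 := d3_1 D48632 (iv6 D25385) (iv2 F36857)
theorem F76480 : act 3 n48632 = n24467 := d7_1 D48632 (iv6 D24467) (iv3 F36858)
theorem F76481 : act 4 n48632 = n28011 := d10_1 D48632 (iv6 D28011) (iv4 F36860)
theorem F76482 : act 5 n48632 = n29793 := d12_1 D48632 (iv6 D29793) (iv5 D14157) D14158 F36856
def n48633 : Q := act 3 n23710
theorem D48633 : act 3 n23710 = n48633 := rfl
theorem F76483 : act 4 n48633 = n34033 := d5_2 D23710 D48633 (iv3 D34033) (iv4 D16486) (iv3 F17987)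
theorem F76484 : act 6 n48633 = n23725 := d7_2 (iv6 F36871) D48633 (iv3 D23725)
def n48634 : Q := act 5 n23710
theorem D48634 : act 5 n23710 = n48634 := rfl
theorem F76485 : act 2 n48634 = n25387 := d2_1 D48634 (iv5 D25387) (iv2 F36870)
def n48635 : Q := act 6 n23711
theorem D48635 : act 6 n23711 = n48635 := rfl
theorem F76486 : act 2 n48635 = n25389 := d3_1 D48635 (iv6 D25389) (iv2 F36872)
theorem F76487 : act 3 n48635 = n24616 := d7_1 D48635 (iv6 D24616) (iv3 F36873)
theorem F76488 : act 5 n48635 = n48635 := d12_1 D48635 (iv6 D48635) F36874 F17992 (iv5 F36874)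
theorem F76489 : act 7 n48635 = n23728 := d14_2 D23711 D48635 (iv6 D23728) (iv7 D11111) (iv6 F17988)
theorem F76490 : act 1 n25439 = n48635 := d15_1 D25439 F76489 F36929
theorem F76491 : act 1 n48635 = n25438 := d15_0 (iv0 D25438) (iv7 F40156) (iv2 F76486)
def n48636 : Q := act 4 n23712
theorem D48636 : act 4 n23712 = n48636 := rfl
theorem F76492 : act 7 n48636 = n25400 := d11_2 (iv7 F36878) D48636 (iv4 D25400)
theorem F76493 : act 0 n48636 = n25199 := d18_2 (iv1 F39208) D48636 (iv4 D25199) (iv5 F22576) (iv4 F38491) (iv0 F38492) F24600 (iv0 F45526) F45525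
theorem F76494 : act 1 n48636 = n25201 := d18_6 F19382 (iv4 F18639) F19388 F18015 D23712 D48636 (iv4 D25201) F19739 (iv5 D11751)
def n48637 : Q := act 6 n23712
theorem D48637 : act 6 n23712 = n48637 := rfl
theorem F76495 : act 3 n48637 = n23716 := d7_1 D48637 (iv6 D23716) (iv3 F36877)
theorem F76496 : act 5 n48637 = n30062 := d12_1 D48637 (iv6 D30062) (iv5 F36881) (iv6 D23713) D23712
def n48638 : Q := act 6 n23714
theorem D48638 : act 6 n23714 = n48638 := rfl
theorem F76497 : act 2 n48638 = n25391 := d3_1 D48638 (iv6 D25391) F36890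
theorem F76498 : act 3 n48638 = n24586 := d7_1 D48638 (iv6 D24586) F36891
theorem F76499 : act 5 n48638 = n25346 := d12_1 D48638 (iv6 D25346) F19922 (iv6 F19806) (iv5 F36889)
theorem F76500 : act 0 n48638 = n25380 := d21_4 (iv5 F18528) (iv1 F19808) (iv5 F36889) D48638 (iv6 D25380) (iv5 D12067) (iv1 D5715) D5716 F8818 D5723
def n48639 : Q := act 3 n23715
theorem D48639 : act 3 n23715 = n48639 := rfl
theorem F76501 : act 7 n48639 = n25402 := d8_2 (iv7 F36893) D48639 (iv3 D25402)
def n48640 : Q := act 6 n23715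
theorem D48640 : act 6 n23715 = n48640 := rfl
theorem F76502 : act 2 n48640 = n25395 := d3_1 D48640 (iv6 D25395) (iv2 F36892)
theorem F76503 : act 4 n48640 = n23716 := d10_1 D48640 (iv6 D23716) D23715
def n48641 : Q := act 0 n23716
theorem D48641 : act 0 n23716 = n48641 := rfl
def n48642 : Q := act 1 n23716
theorem D48642 : act 1 n23716 = n48642 := rfl
theorem F76504 : act 1 n48642 = n25398 := d15_1 D48642 (iv7 D25398) (iv2 F36894)
def n48643 : Q := act 7 n23716
theorem D48643 : act 7 n23716 = n48643 := rfl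
theorem F76505 : act 2 n48643 = n25398 := d4_1 D48643 (iv7 D25398) (iv2 F36894)
theorem F76506 : act 6 n48643 = n25407 := d14_1 D48643 (iv7 D25407) (iv6 D12081) (iv7 F17998) D23716
theorem F76507 : act 1 n25398 = n48641 := d15_0 (iv0 D48641) D48643 F76505
theorem F76508 : act 1 n25397 = n48643 := d15_1 D25397 (iv7 D48643) F36894
theorem F76509 : act 1 n48643 = n25396 := d15_0 (iv0 D25396) D25398 (iv2 F76505)
def n48644 : Q := act 3 n23718
theorem D48644 : act 3 n23718 = n48644 := rfl
theorem F76510 : act 7 n48644 = n25393 := d8_2 (iv7 F36908) D48644 (iv3 D25393)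
def n48645 : Q := act 6 n23718
theorem D48645 : act 6 n23718 = n48645 := rfl
theorem F76511 : act 2 n48645 = n25404 := d3_1 D48645 (iv6 D25404) (iv2 F36907)
theorem F76512 : act 4 n48645 = n23719 := d10_1 D48645 (iv6 D23719) D23718
def n48646 : Q := act 0 n23719
theorem D48646 : act 0 n23719 = n48646 := rfl
def n48647 : Q := act 1 n23719
theorem D48647 : act 1 n23719 = n48647 := rfl
theorem F76513 : act 1 n48647 = n25407 := d15_1 D48647 (iv7 D25407) (iv2 F36909)
theorem F76514 : act 6 n24474 = n48647 := d21_3 (iv5 F36865) (iv1 F47941) F47944 (iv1 D48647) (iv6 D23719) (iv5 D11106) (iv1 D5077) D5078 (iv6 F17988) D23708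
theorem F76515 : act 2 n48647 = n25406 := d3_1 F76514 (iv6 F40186) F39301
def n48648 : Q := act 7 n23719
theorem D48648 : act 7 n23719 = n48648 := rfl
theorem F76516 : act 2 n48648 = n25407 := d4_1 D48648 (iv7 D25407) (iv2 F36909)
theorem F76517 : act 6 n48648 = n25398 := d14_1 D48648 (iv7 D25398) (iv6 D12075) (iv7 F18003) D23719
theorem F76518 : act 1 n25407 = n48646 := d15_0 (iv0 D48646) D48648 F76516
theorem F76519 : act 1 n25406 = n48648 := d15_1 D25406 (iv7 D48648) F36909
theorem F76520 : act 7 n48646 = n25406 := d15_2 F76513 F76518 (iv2 F76515)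
theorem F76521 : act 2 n48646 = n25405 := d15_3 (iv0 D25405) D25406 (iv7 F76520)
theorem F76522 : act 7 n25405 = n48647 := d4_2 (iv7 F76520) F76521 F76515
theorem F76523 : act 1 n48648 = n25405 := d15_1 F76519 F76522 F76515
def n48649 : Q := act 4 n23720
theorem D48649 : act 4 n23720 = n48649 := rfl
theorem F76524 : act 7 n48649 = n25415 := d11_2 (iv7 F36910) D48649 (iv4 D25415)
theorem F76525 : act 0 n48649 = n25193 := d18_2 F37381 D48649 (iv4 D25193) (iv5 D11956) D11955 (iv0 F19726) F18015 F22445 D12050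
theorem F76526 : act 1 n48649 = n24326 := d18_6 (iv1 F22596) (iv4 F22646) F39646 (iv4 F39792) F39793 D48649 (iv4 D24326) F22340 F22335
def n48650 : Q := act 6 n23720
theorem D48650 : act 6 n23720 = n48650 := rfl
theorem F76527 : act 3 n48650 = n23721 := d7_1 D48650 (iv6 D23721) D23720
def n48651 : Q := act 0 n23721
theorem D48651 : act 0 n23721 = n48651 := rfl
def n48652 : Q := act 1 n23721
theorem D48652 : act 1 n23721 = n48652 := rfl
theorem F76528 : act 1 n48652 = n25414 := d15_1 D48652 (iv7 D25414) (iv2 F36911)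
def n48653 : Q := act 7 n23721
theorem D48653 : act 7 n23721 = n48653 := rfl
theorem F76529 : act 2 n48653 = n25414 := d4_1 D48653 (iv7 D25414) (iv2 F36911)
theorem F76530 : act 6 n48653 = n25422 := d14_1 D48653 (iv7 D25422) (iv6 D12086) (iv7 F18386) D23721
theorem F76531 : act 1 n25414 = n48651 := d15_0 (iv0 D48651) D48653 F76529
theorem F76532 : act 1 n25412 = n48653 := d15_1 D25412 (iv7 D48653) F36911
theorem F76533 : act 1 n48653 = n25411 := d15_0 (iv0 D25411) D25414 (iv2 F76529)
def n48654 : Q := act 0 n23722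
theorem D48654 : act 0 n23722 = n48654 := rfl
def n48655 : Q := act 1 n23722
theorem D48655 : act 1 n23722 = n48655 := rfl
theorem F76534 : act 1 n48655 = n25422 := d15_1 D48655 (iv7 D25422) (iv2 F36912)
def n48656 : Q := act 7 n23722
theorem D48656 : act 7 n23722 = n48656 := rfl
theorem F76535 : act 2 n48656 = n25422 := d4_1 D48656 (iv7 D25422) (iv2 F36912)
theorem F76536 : act 6 n48656 = n25414 := d14_1 D48656 (iv7 D25414) (iv6 D12083) F18385 D23722
theorem F76537 : act 1 n25422 = n48654 := d15_0 (iv0 D48654) D48656 F76535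
theorem F76538 : act 1 n25421 = n48656 := d15_1 D25421 (iv7 D48656) F36912
theorem F76539 : act 1 n48656 = n25420 := d15_0 (iv0 D25420) D25422 (iv2 F76535)
def n48657 : Q := act 3 n23723
theorem D48657 : act 3 n23723 = n48657 := rfl
theorem F76540 : act 7 n48657 = n25426 := d8_2 F36915 D48657 (iv3 D25426)
def n48658 : Q := act 6 n23723
theorem D48658 : act 6 n23723 = n48658 := rfl
theorem F76541 : act 2 n48658 = n25425 := d3_1 D48658 (iv6 D25425) F36914
theorem F76542 : act 4 n48658 = n23941 := d10_1 D48658 (iv6 D23941) (iv4 F36913)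
def n48659 : Q := act 3 n23724
theorem D48659 : act 3 n23724 = n48659 := rfl
theorem F76543 : act 4 n48659 = n24554 := d5_2 (iv4 F36919) D48659 (iv3 D24554) (iv4 F37368) (iv3 D23942)
theorem F76544 : act 7 n48659 = n25423 := d8_2 (iv7 F36918) D48659 (iv3 D25423)
def n48660 : Q := act 5 n23724
theorem D48660 : act 5 n23724 = n48660 := rfl
theorem F76545 : act 2 n48660 = n25427 := d2_1 D48660 (iv5 D25427) F36920
theorem F76546 : act 4 n48660 = n23739 := d9_1 D48660 (iv5 D23739) (iv4 D11118) (iv5 F8684) (iv4 F18597) F18596 (iv4 F36913) (iv5 F45914) (iv4 D28392) (iv5 D13550) (iv4 D6451) (iv5 F7937) (iv4 F10754) F18212 (iv4 F36919)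
theorem F76547 : act 7 n48660 = n25424 := d13_2 (iv7 F36918) D48660 (iv5 D25424)
def n48661 : Q := act 6 n23724
theorem D48661 : act 6 n23724 = n48661 := rfl
theorem F76548 : act 2 n48661 = n25428 := d3_1 D48661 (iv6 D25428) F36920
theorem F76549 : act 4 n48661 = n23943 := d10_1 D48661 (iv6 D23943) (iv4 F36919)
def n48662 : Q := act 0 n23725
theorem D48662 : act 0 n23725 = n48662 := rfl
def n48663 : Q := act 1 n23725
theorem D48663 : act 1 n23725 = n48663 := rfl
def n48664 : Q := act 2 n23725
theorem D48664 : act 2 n23725 = n48664 := rfl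
theorem F76550 : act 3 n48664 = n25431 := d0_2 D23725 D48664 (iv2 D25431) (iv3 D12089) (iv2 F18009)
def n48665 : Q := act 5 n23725
theorem D48665 : act 5 n23725 = n48665 := rfl
theorem F76551 : act 3 n48665 = n23726 := d6_1 D48665 (iv5 D23726) D23725
theorem F76552 : act 7 n25528 = n48665 := d8_0 F76551 (iv7 F36923) D25528
def n48666 : Q := act 7 n23725
theorem D48666 : act 7 n23725 = n48666 := rfl
theorem F76553 : act 3 n48666 = n23727 := d8_1 D48666 (iv7 D23727) D23725
theorem F76554 : act 5 n48666 = n25528 := d13_1 D48666 F76552 (iv5 D48665)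
def n48667 : Q := act 6 n23726
theorem D48667 : act 6 n23726 = n48667 := rfl
theorem F76555 : act 2 n48667 = n25436 := d3_1 D48667 (iv6 D25436) (iv2 F36921)
theorem F76556 : act 4 n48667 = n25533 := d10_1 D48667 (iv6 D25533) (iv4 F36922)
def n48668 : Q := act 6 n23727
theorem D48668 : act 6 n23727 = n48668 := rfl
theorem F76557 : act 2 n48668 = n25437 := d3_1 D48668 (iv6 D25437) (iv2 F36924)
theorem F76558 : act 4 n48668 = n23728 := d10_1 D48668 (iv6 D23728) (iv4 F36925)
def n48669 : Q := act 0 n23728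
theorem D48669 : act 0 n23728 = n48669 := rfl
theorem F76559 : act 1 n25389 = n48669 := d15_0 (iv0 D48669) (iv7 F76489) F76486
def n48670 : Q := act 1 n23728
theorem D48670 : act 1 n23728 = n48670 := rfl
theorem F76560 : act 1 n48670 = n25389 := d15_1 D48670 F40156 (iv2 F36929)
def n48671 : Q := act 5 n23729
theorem D48671 : act 5 n23729 = n48671 := rfl
theorem F76561 : act 2 n48671 = n23730 := d2_1 D48671 (iv5 D23730) D23729
theorem F76562 : act 3 n48671 = n24096 := d6_1 D48671 (iv5 D24096) (iv3 F36931)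
theorem F76563 : act 7 n48671 = n24984 := d13_2 (iv7 F36933) D48671 (iv5 D24984)
theorem F76564 : act 0 n48671 = n24753 := d17_2 (iv1 F36934) D48671 F38750 F22646 (iv5 F19733) F19732 (iv5 D11957) F19325 (iv4 F18720)
theorem F76565 : act 1 n48671 = n25464 := d17_6 F39796 (iv5 F38621) (iv1 F39134) (iv5 D24952) (iv4 F36932) D48671 F40260 F39764 (iv4 F39792)
def n48672 : Q := act 6 n23729
theorem D48672 : act 6 n23729 = n48672 := rfl
theorem F76566 : act 2 n48672 = n23731 := d3_1 D48672 (iv6 D23731) D23729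
theorem F76567 : act 3 n48672 = n24097 := d7_1 D48672 (iv6 D24097) (iv3 F36931)
theorem F76568 : act 4 n48672 = n24953 := d10_1 D48672 (iv6 D24953) (iv4 F36932)
theorem F76569 : act 5 n48672 = n28197 := d21_6 (iv5 F4250) D6315 F9833 D11452 (iv1 F36934) D48672 (iv1 D28197) (iv5 D13460) (iv6 D6401) F4402
theorem F76570 : act 0 n48672 = n24344 := d21_10 F46967 (iv1 D29318) (iv5 D13950) D13951 F45717 F45715 (iv5 F40260) (iv1 F76565) (iv5 D48671) D48672
theorem F76571 : act 0 n30715 = n48672 := d21_4 D11768 (iv1 F24109) (iv5 F38843) F49176 (iv6 D48672) D48671 F76564 F38750 (iv6 D13489) F18104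
def n48673 : Q := act 0 n23730
theorem D48673 : act 0 n23730 = n48673 := rfl
theorem F76572 : act 5 n48673 = n24511 := d17_3 F19388 D23730 D48673 F38491 F22576 (iv0 D11959) (iv5 D5637) (iv0 F19381) (iv4 F18639)
theorem F76573 : act 4 n48673 = n25048 := d18_1 D48673 (iv1 F39310) (iv4 D24617) (iv5 D11655) (iv4 F10109) F8625 D11955 (iv0 F19726) D23730
theorem F76574 : act 2 n24753 = n48673 := d15_3 (iv0 D48673) F48793 F39829
theorem F76575 : act 1 n24984 = n48673 := d15_0 (iv0 D48673) F36937 (iv2 F39201)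
theorem F76576 : act 7 n48673 = n25464 := d15_2 (iv0 F39832) F76575 (iv2 F40262)
theorem F76577 : act 3 n24515 = n48673 := d8_3 F76576 (iv3 F45187) F45184
def n48674 : Q := act 6 n23730
theorem D48674 : act 6 n23730 = n48674 := rfl
theorem F76578 : act 3 n48674 = n23733 := d7_1 D48674 (iv6 D23733) (iv3 F36936)
theorem F76579 : act 5 n48674 = n29338 := d12_1 D48674 (iv6 D29338) F36940 (iv6 D23731) D23730
def n48675 : Q := act 7 n23731
theorem D48675 : act 7 n23731 = n48675 := rfl
theorem F76580 : act 3 n48675 = n23734 := d8_1 D48675 (iv7 D23734) (iv3 F36938)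
theorem F76581 : act 4 n48675 = n30067 := d11_1 D48675 F48317 (iv4 F36939)
theorem F76582 : act 5 n48675 = n24036 := d13_1 D48675 F37577 F36940
theorem F76583 : act 6 n48675 = n24742 := d14_1 D48675 F38718 (iv6 D12105) (iv7 F18016) D23731
theorem F76584 : act 1 n30715 = n48675 := d15_1 (iv0 F76571) (iv7 D48675) (iv2 F76566)
theorem F76585 : act 1 n48675 = n24344 := d15_1 F76584 (iv7 F39709) (iv2 F49172)
def n48676 : Q := act 3 n23732
theorem D48676 : act 3 n23732 = n48676 := rfl
theorem F76586 : act 7 n48676 = n25467 := d8_2 (iv7 F36943) D48676 (iv3 D25467)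
def n48677 : Q := act 6 n23732
theorem D48677 : act 6 n23732 = n48677 := rfl
theorem F76587 : act 2 n48677 = n25447 := d3_1 D48677 (iv6 D25447) (iv2 F36942)
theorem F76588 : act 4 n48677 = n23733 := d10_1 D48677 (iv6 D23733) D23732
def n48678 : Q := act 0 n23733
theorem D48678 : act 0 n23733 = n48678 := rfl
theorem F76589 : act 5 n48678 = n28751 := d21_0 (iv1 D28751) (iv5 F45172) (iv6 D27950) (iv1 D13333) F9853 (iv5 D5148) (iv1 F10162) D11113 D23733 D48678
def n48679 : Q := act 1 n23733
theorem D48679 : act 1 n23733 = n48679 := rfl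
theorem F76590 : act 1 n48679 = n25450 := d15_1 D48679 (iv7 D25450) (iv2 F36944)
theorem F76591 : act 5 n28750 = n48679 := d21_0 (iv1 D48679) F36945 (iv6 D13960) (iv1 D6636) F4661 (iv5 D2901) D2899 D6525 D13711 D28750
theorem F76592 : act 6 n29314 = n28750 := d21_5 (iv5 D2974) D2972 D6630 D13949 D29314 F76591 (iv1 D48679) F36945 (iv6 D13960) (iv1 D6636)
def n48680 : Q := act 7 n23733
theorem D48680 : act 7 n23733 = n48680 := rfl
theorem F76593 : act 2 n48680 = n25450 := d4_1 D48680 (iv7 D25450) (iv2 F36944)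
theorem F76594 : act 5 n48680 = n29344 := d13_1 D48680 (iv7 D29344) (iv5 F36945)
theorem F76595 : act 6 n48680 = n25471 := d14_1 D48680 (iv7 D25471) (iv6 D12107) (iv7 F18018) D23733
theorem F76596 : act 1 n25450 = n48678 := d15_0 (iv0 D48678) D48680 F76593
theorem F76597 : act 1 n25449 = n48680 := d15_1 D25449 (iv7 D48680) F36944
theorem F76598 : act 1 n48680 = n25448 := d15_0 (iv0 D25448) D25450 (iv2 F76593)
def n48681 : Q := act 0 n23735
theorem D48681 : act 0 n23735 = n48681 := rfl
theorem F76599 : act 1 n25474 = n48681 := d15_0 (iv0 D48681) F36952 D25474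
def n48682 : Q := act 1 n23735
theorem D48682 : act 1 n23735 = n48682 := rfl
theorem F76600 : act 3 n25545 = n48682 := d20_3 (iv4 F55379) (iv1 F55396) (iv4 F50618) (iv1 D48682) (iv3 D23735) (iv4 D11115) (iv1 F10012) D7071 D14846 D31514
theorem F76601 : act 4 n25568 = n48682 := d20_6 (iv4 D7071) F10011 D6445 D13542 D28384 (iv3 F50630) (iv1 D48682) (iv4 F37338) (iv3 D23923) F18186
theorem F76602 : act 6 n48682 = n25544 := d10_2 D25568 F76601 F40387
theorem F76603 : act 0 n25568 = n34954 := d20_7 F24847 (iv1 F12519) D16960 (iv3 F54580) (iv1 F56607) F76600 (iv4 F76601) F55325 (iv3 D34876) F27706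
theorem F76604 : act 0 n25474 = n48682 := d20_10 (iv4 F76601) F76603 F55325 (iv3 D34876) F27706 (iv3 F51373) F51374 (iv1 F26895) (iv4 F45894) F45893
theorem F76605 : act 2 n25472 = n48682 := d3_3 F76602 F67750 (iv6 F67753)
theorem F76606 : act 7 n48681 = n25472 := d15_2 (iv0 F76604) F76599 F76605
theorem F76607 : act 7 n25473 = n48682 := d15_2 (iv0 D25472) D25473 (iv2 F76605)
theorem F76608 : act 2 n48681 = n25473 := d4_3 F76607 (iv2 F76605) (iv7 F76606)
def n48683 : Q := act 2 n23735
theorem D48683 : act 2 n23735 = n48683 := rfl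
theorem F76609 : act 3 n48683 = n25456 := d0_2 D23735 D48683 (iv2 D25456) (iv3 D12100) (iv2 F18024)
theorem F76610 : act 7 n48683 = n25474 := d4_2 (iv7 F36952) D48683 (iv2 D25474)
theorem F76611 : act 1 n48683 = n25472 := d15_0 (iv0 D25472) (iv7 F36952) D48683
theorem F76612 : act 1 n25473 = n48683 := d15_0 F76611 (iv7 F76606) F76608
def n48684 : Q := act 5 n23735
theorem D48684 : act 5 n23735 = n48684 := rfl
theorem F76613 : act 3 n48684 = n23736 := d6_1 D48684 (iv5 D23736) D23735
theorem F76614 : act 7 n48684 = n25475 := d13_2 (iv7 F36952) D48684 (iv5 D25475)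
def n48685 : Q := act 6 n23735
theorem D48685 : act 6 n23735 = n48685 := rfl
theorem F76615 : act 3 n48685 = n23737 := d7_1 D48685 (iv6 D23737) D23735
def n48686 : Q := act 6 n23736
theorem D48686 : act 6 n23736 = n48686 := rfl
theorem F76616 : act 2 n48686 = n25459 := d3_1 D48686 (iv6 D25459) (iv2 F36953)
def n48687 : Q := act 5 n23737
theorem D48687 : act 5 n23737 = n48687 := rfl
theorem F76617 : act 2 n48687 = n25462 := d2_1 D48687 (iv5 D25462) (iv2 F36956)
theorem F76618 : act 0 n48687 = n25613 := d17_2 F45861 D48687 (iv5 D25613) F20175 D15751 (iv0 F25251) F18350 D13531 D28363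
theorem F76619 : act 1 n48687 = n25615 := d17_6 (iv1 F10545) (iv5 F12669) F19126 F19124 (iv4 F36957) D48687 (iv5 D25615) F22755 F22753
def n48688 : Q := act 5 n23738
theorem D48688 : act 5 n23738 = n48688 := rfl
theorem F76620 : act 3 n48688 = n23739 := d6_1 D48688 (iv5 D23739) D23738
theorem F76621 : act 7 n48688 = n25492 := d13_2 (iv7 F36959) D48688 (iv5 D25492)
def n48689 : Q := act 6 n23739
theorem D48689 : act 6 n23739 = n48689 := rfl
theorem F76622 : act 2 n48689 = n25484 := d3_1 D48689 (iv6 D25484) (iv2 F36960)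
def n48690 : Q := act 5 n23741
theorem D48690 : act 5 n23741 = n48690 := rfl
theorem F76623 : act 3 n48690 = n23742 := d6_1 D48690 (iv5 D23742) D23741
theorem F76624 : act 7 n48690 = n25502 := d13_2 (iv7 F36965) D48690 (iv5 D25502)
def n48691 : Q := act 6 n23742
theorem D48691 : act 6 n23742 = n48691 := rfl
theorem F76625 : act 2 n48691 = n25497 := d3_1 D48691 (iv6 D25497) (iv2 F36966)
def n48692 : Q := act 6 n23744
theorem D48692 : act 6 n23744 = n48692 := rfl
theorem F76626 : act 2 n48692 = n25503 := d3_1 D48692 (iv6 D25503) (iv2 F36971)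
theorem F76627 : act 5 n48692 = n43415 := d12_1 D48692 (iv6 D43415) F36975 (iv6 D23745) D23744
def n48693 : Q := act 5 n23746
theorem D48693 : act 5 n23746 = n48693 := rfl
theorem F76628 : act 3 n48693 = n43410 := d6_1 D48693 (iv5 D43410) (iv3 F41553)
theorem F76629 : act 6 n48693 = n43407 := d12_2 F41552 D48693 (iv5 D43407) (iv6 D20520) D20519
theorem F76630 : act 1 n48693 = n34904 := d17_6 F50649 D16986 D34995 F55448 F41558 D48693 (iv5 D34904) (iv0 F51408) (iv4 D32370)
def n48694 : Q := act 5 n23747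
theorem D48694 : act 5 n23747 = n48694 := rfl
theorem F76631 : act 2 n48694 = n23748 := d2_1 D48694 (iv5 D23748) D23747
theorem F76632 : act 3 n48694 = n25517 := d6_1 D48694 (iv5 D25517) (iv3 F36978)
def n48695 : Q := act 0 n23748
theorem D48695 : act 0 n23748 = n48695 := rfl
def n48696 : Q := act 1 n23748
theorem D48696 : act 1 n23748 = n48696 := rfl
theorem F76633 : act 5 n48696 = n31574 := d17_7 (iv1 F39938) (iv5 F50935) (iv1 D23852) (iv5 D11178) (iv4 F18046) D23748 D48696 F55242 F55240
def n48697 : Q := act 4 n23748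
theorem D48697 : act 4 n23748 = n48697 := rfl
def n48698 : Q := act 6 n23748
theorem D48698 : act 6 n23748 = n48698 := rfl
theorem F76634 : act 3 n48698 = n23753 := d7_1 D48698 (iv6 D23753) (iv3 F36981)
theorem F76635 : act 5 n48698 = n23780 := d12_1 D48698 (iv6 D23780) (iv5 D11136) (iv6 F18047) D23748
def n48699 : Q := act 7 n23748
theorem D48699 : act 7 n23748 = n48699 := rfl
theorem F76636 : act 3 n48699 = n23754 := d8_1 D48699 (iv7 D23754) (iv3 F36981)
theorem F76637 : act 5 n48699 = n23749 := d13_1 D48699 (iv7 D23749) D23748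
def n48700 : Q := act 3 n23750
theorem D48700 : act 3 n23750 = n48700 := rfl
theorem F76638 : act 5 n48700 = n23923 := d6_2 (iv5 F36984) D48700 (iv3 D23923)
theorem F76639 : act 7 n48700 = n25526 := d8_2 F36986 D48700 (iv3 D25526)
def n48701 : Q := act 6 n23750
theorem D48701 : act 6 n23750 = n48701 := rfl
theorem F76640 : act 2 n48701 = n25525 := d3_1 D48701 (iv6 D25525) F36985
def n48702 : Q := act 3 n23751
theorem D48702 : act 3 n23751 = n48702 := rfl
theorem F76641 : act 5 n48702 = n23833 := d6_2 (iv5 F36990) D48702 (iv3 D23833)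
theorem F76642 : act 7 n48702 = n25524 := d8_2 (iv7 F36989) D48702 (iv3 D25524)
def n48703 : Q := act 6 n23751
theorem D48703 : act 6 n23751 = n48703 := rfl
theorem F76643 : act 2 n48703 = n25527 := d3_1 D48703 (iv6 D25527) F36991
def n48704 : Q := act 3 n23752
theorem D48704 : act 3 n23752 = n48704 := rfl
theorem F76644 : act 5 n48704 = n25433 := d6_2 (iv5 F36993) D48704 F40208
theorem F76645 : act 7 n48704 = n25432 := d8_2 F36994 D48704 F40207
def n48705 : Q := act 6 n23752
theorem D48705 : act 6 n23752 = n48705 := rfl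
theorem F76646 : act 2 n48705 = n25529 := d3_1 D48705 (iv6 D25529) (iv2 F36992)
theorem F76647 : act 4 n48705 = n23753 := d10_1 D48705 (iv6 D23753) D23752
def n48706 : Q := act 0 n23753
theorem D48706 : act 0 n23753 = n48706 := rfl
def n48707 : Q := act 1 n23753
theorem D48707 : act 1 n23753 = n48707 := rfl
theorem F76648 : act 1 n48707 = n25532 := d15_1 D48707 (iv7 D25532) (iv2 F36995)
def n48708 : Q := act 7 n23753
theorem D48708 : act 7 n23753 = n48708 := rfl
theorem F76649 : act 2 n48708 = n25532 := d4_1 D48708 (iv7 D25532) (iv2 F36995)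
theorem F76650 : act 5 n48708 = n23783 := d13_1 D48708 (iv7 D23783) (iv5 F36996)
theorem F76651 : act 1 n25532 = n48706 := d15_0 (iv0 D48706) D48708 F76649
theorem F76652 : act 1 n25531 = n48708 := d15_1 D25531 (iv7 D48708) F36995
theorem F76653 : act 1 n48708 = n25530 := d15_0 (iv0 D25530) D25532 (iv2 F76649)
def n48709 : Q := act 6 n23754
theorem D48709 : act 6 n23754 = n48709 := rfl
theorem F76654 : act 2 n48709 = n25533 := d3_1 D48709 (iv6 D25533) (iv2 F36997)
theorem F76655 : act 4 n48709 = n25436 := d10_1 D48709 (iv6 D25436) (iv4 F36998)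
def n48710 : Q := act 6 n23755
theorem D48710 : act 6 n23755 = n48710 := rfl
theorem F76656 : act 2 n48710 = n25568 := d3_1 D48710 (iv6 D25568) (iv2 F37005)
theorem F76657 : act 3 n48710 = n27008 := d7_1 D48710 (iv6 D27008) (iv3 F37002)
theorem F76658 : act 4 n48710 = n25472 := d10_1 D48710 F67753 F67749
theorem F76659 : act 0 n32363 = n48710 := d20_4 F27747 (iv1 F12529) D15251 D32363 F76657 F43631 (iv1 F50525) (iv4 F49900) F49899 (iv1 F27750)
def n48711 : Q := act 6 n23756
theorem D48711 : act 6 n23756 = n48711 := rfl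
theorem F76660 : act 2 n48711 = n25565 := d3_1 D48711 (iv6 D25565) F37011
theorem F76661 : act 3 n48711 = n35932 := d7_1 D48711 (iv6 D35932) (iv3 F37009)
theorem F76662 : act 4 n48711 = n35911 := d10_1 D48711 (iv6 D35911) F37008
theorem F76663 : act 0 n26716 = n35932 := d20_4 (iv4 D6568) D6566 D13805 (iv3 F42826) (iv3 F76661) F76662 F56578 (iv4 F46649) (iv3 D29012) (iv1 D13809)
theorem F76664 : act 0 n48711 = n24064 := d20_7 F19131 (iv1 F8422) (iv4 F18433) (iv3 F27090) (iv1 F54426) (iv3 F56572) (iv4 F76662) F37664 (iv3 D24013) (iv1 F19133)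
theorem F76665 : act 1 n26713 = n35932 := d15_0 (iv0 F76663) (iv7 F47456) F47454
def n48712 : Q := act 0 n23757
theorem D48712 : act 0 n23757 = n48712 := rfl
theorem F76666 : act 1 n25569 = n48712 := d15_0 (iv0 D48712) F37014 (iv2 F40450)
def n48713 : Q := act 1 n23757
theorem D48713 : act 1 n23757 = n48713 := rfl
theorem F76667 : act 1 n48713 = n25569 := d15_1 D48713 (iv7 F67863) F67860
theorem F76668 : act 5 n48713 = n23760 := d17_7 (iv1 F37038) F65468 (iv1 D34861) (iv5 D16900) (iv4 F18053) D23757 D48713 (iv0 F37024) (iv4 F20186)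
theorem F76669 : act 2 n25571 = n48713 := d2_3 F76668 (iv2 F37025) (iv5 F52200)
theorem F76670 : act 3 n26499 = n48713 := d6_3 F76668 F37023 D26499
theorem F76671 : act 7 n25597 = n48713 := d13_0 F76668 (iv7 F37026) D25597
theorem E8124 : n25597 = n25572 := ((c15_2 (iv0 D25571) D25572 F76671 (iv2 F76669))).symm
theorem F76672 : act 5 n25572 = n12171 := (sb E8124 (iv5 D25597))
theorem F76673 : act 7 n25572 = n48713 := (sb E8124 F76671)
theorem F76674 : act 2 n25572 = n48712 := d15_3 (iv0 D48712) D48713 (iv7 F76673)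
theorem F76675 : act 5 n48712 = n23759 := d2_2 (iv5 F76672) F76674 F37027
theorem F76676 : act 7 n48712 = n25571 := d4_2 (iv7 F76673) F76674 F76669
theorem F76677 : act 3 n26426 = n48712 := d8_3 F76676 F52199 (iv7 F42233)
theorem F76678 : act 4 n48712 = n27556 := d5_2 F44243 F76677 (iv3 D27556) (iv4 F21955) (iv3 F44242)
theorem F76679 : act 0 n27342 = n26988 := d20_7 (iv4 F8912) (iv1 F9527) (iv4 F18056) (iv3 F37012) D48712 (iv3 F76677) (iv4 F44243) (iv4 D26988) F21473 F9526
theorem F76680 : act 5 n23764 = n34860 := d17_1 D23764 (iv1 F55131) F40634 F37423 D25569 F76666 F76675 (iv0 D23759) (iv4 F18067)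
theorem E8125 : n25717 = n25638 := ((c17_2 (iv1 F25390) D25638 (iv1 D25717) F20210 F18240 D12157 D25572 F76672 F37032 F37029)).symm
theorem F76681 : act 0 n25638 = n12213 := (sb E8125 (iv1 D25717))
theorem F76682 : act 1 n25638 = n34859 := (sb E8125 F55128)
theorem F76683 : act 0 n25639 = n34812 := d21_10 F68290 (iv1 D43436) (iv5 D20535) (iv6 D9745) D9743 (iv6 F27684) D34859 (iv1 F76682) (iv5 D25638) D25639
theorem F76684 : act 4 n25646 = n25639 := d20_0 F76683 (iv4 F55038) (iv3 D34819) (iv1 F27679) F27675 (iv4 F22749) (iv1 F12660) (iv4 F8900) (iv3 F20188) D25646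
theorem F76685 : act 6 n25637 = n25646 := d10_0 F76684 (iv6 D25639) D25637
def n48714 : Q := act 4 n23757
theorem D48714 : act 4 n23757 = n48714 := rfl
theorem F76686 : act 3 n48714 = n26988 := d5_1 D48714 (iv4 D26988) F21473 (iv4 F18056) (iv3 F37012)
theorem F76687 : act 6 n48714 = n42135 := d10_2 (iv6 F37013) D48714 (iv4 D42135)
theorem F76688 : act 7 n48714 = n25573 := d11_2 (iv7 F37014) D48714 (iv4 D25573)
def n48715 : Q := act 0 n23758
theorem D48715 : act 0 n23758 = n48715 := rfl
def n48716 : Q := act 1 n23758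
theorem D48716 : act 1 n23758 = n48716 := rfl
theorem F76689 : act 1 n48716 = n25559 := d15_1 D48716 (iv7 D25559) (iv2 F37015)
def n48717 : Q := act 7 n23758
theorem D48717 : act 7 n23758 = n48717 := rfl
theorem F76690 : act 2 n48717 = n25559 := d4_1 D48717 (iv7 D25559) (iv2 F37015)
theorem F76691 : act 3 n48717 = n42136 := d8_1 D48717 (iv7 D42136) (iv3 F37016)
theorem F76692 : act 4 n48717 = n26993 := d11_1 D48717 (iv7 D26993) (iv4 F37017)
theorem F76693 : act 5 n48717 = n42126 := d13_1 D48717 (iv7 D42126) (iv5 F37018)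
theorem F76694 : act 6 n48717 = n25579 := d14_1 D48717 (iv7 D25579) (iv6 D12159) (iv7 F18057) D23758
theorem F76695 : act 1 n25559 = n48715 := d15_0 (iv0 D48715) D48717 F76690
theorem F76696 : act 1 n25557 = n48717 := d15_1 D25557 (iv7 D48717) F37015
theorem F76697 : act 1 n48717 = n25556 := d15_0 (iv0 D25556) D25559 (iv2 F76690)
def n48718 : Q := act 4 n23759
theorem D48718 : act 4 n23759 = n48718 := rfl
theorem F76698 : act 2 n48718 = n25585 := d1_1 D48718 F40484 (iv2 F37027)
theorem F76699 : act 3 n48718 = n23872 := d5_1 D48718 F37220 (iv3 D12612) D12613 (iv3 F37019)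
theorem F76700 : act 7 n48718 = n25593 := d11_2 F37021 D48718 (iv4 D25593)
theorem F76701 : act 0 n48718 = n26504 := d20_1 D48718 F42421 (iv3 D23773) (iv1 D11134) (iv3 D5090) (iv4 D2086) D2085 D5088 D11128 D23759
theorem F76702 : act 0 n26501 = n48718 := d20_10 (iv4 D48718) (iv1 F37020) (iv4 F20186) (iv3 F21001) F21003 D15940 (iv4 F26506) F18627 F27662 (iv3 F42412)
def n48719 : Q := act 6 n23759
theorem D48719 : act 6 n23759 = n48719 := rfl
theorem F76703 : act 2 n48719 = n25598 := d3_1 D48719 (iv6 D25598) (iv2 F37027)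
theorem F76704 : act 3 n48719 = n26427 := d7_1 D48719 (iv6 D26427) (iv3 F37019)
theorem F76705 : act 0 n25758 = n48719 := d20_4 F27623 (iv1 F12429) D12226 D25758 F76704 F42235 F43611 D16424 F25902 (iv1 F27626)
def n48720 : Q := act 5 n23761
theorem D48720 : act 5 n23761 = n48720 := rfl
theorem F76706 : act 2 n48720 = n23762 := d2_1 D48720 (iv5 D23762) D23761
theorem F76707 : act 3 n48720 = n25587 := d6_1 D48720 (iv5 D25587) (iv3 F37028)
theorem F76708 : act 7 n48720 = n25599 := d13_2 (iv7 F37030) D48720 (iv5 D25599)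
theorem F76709 : act 1 n48720 = n25601 := d17_6 D16897 (iv5 F65521) (iv1 F52209) (iv5 D33028) (iv4 F37029) D48720 (iv5 F46137) (iv0 D23755) F18053
theorem F76710 : act 1 n25602 = n48720 := d15_0 F76709 (iv7 F46138) F46141
theorem F76711 : act 0 n26502 = n35910 := d17_2 F40495 D26502 (iv5 D35910) F37008 F46142 F76710 (iv5 D48720) F37031 D25593
def n48721 : Q := act 4 n23762
theorem D48721 : act 4 n23762 = n48721 := rfl
theorem F76712 : act 3 n48721 = n26443 := d5_1 D48721 (iv4 D26443) F21016 (iv4 F18066) (iv3 F37033)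
theorem F76713 : act 7 n48721 = n25603 := d11_2 (iv7 F37034) D48721 (iv4 D25603)
theorem F76714 : act 0 n33599 = n48721 := d20_4 D34367 F54540 F46200 (iv3 F52890) F76712 (iv4 D26443) (iv1 F27844) (iv4 F52947) F52945 (iv1 F27291)
def n48722 : Q := act 6 n23762
theorem D48722 : act 6 n23762 = n48722 := rfl
theorem F76715 : act 3 n48722 = n23763 := d7_1 D48722 (iv6 D23763) (iv3 F37033)
def n48723 : Q := act 0 n23763
theorem D48723 : act 0 n23763 = n48723 := rfl
def n48724 : Q := act 1 n23763
theorem D48724 : act 1 n23763 = n48724 := rfl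
theorem F76716 : act 1 n48724 = n25592 := d15_1 D48724 (iv7 D25592) (iv2 F37035)
def n48725 : Q := act 7 n23763
theorem D48725 : act 7 n23763 = n48725 := rfl
theorem F76717 : act 2 n48725 = n25592 := d4_1 D48725 (iv7 D25592) (iv2 F37035)
theorem F76718 : act 4 n48725 = n34415 := d11_1 D48725 (iv7 D34415) (iv4 F37036)
theorem F76719 : act 6 n48725 = n25612 := d14_1 D48725 (iv7 D25612) (iv6 D12175) (iv7 F18065) D23763
theorem F76720 : act 1 n25592 = n48723 := d15_0 (iv0 D48723) D48725 F76717
theorem F76721 : act 1 n25591 = n48725 := d15_1 D25591 (iv7 D48725) F37035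
theorem F76722 : act 1 n48725 = n25590 := d15_0 (iv0 D25590) D25592 (iv2 F76717)
def n48726 : Q := act 2 n23764
theorem D48726 : act 2 n23764 = n48726 := rfl
theorem F76723 : act 7 n23765 = n48726 := d15_2 (iv0 D23764) D23765 (iv2 D48726)
def n48727 : Q := act 4 n23764
theorem D48727 : act 4 n23764 = n48727 := rfl
theorem F76724 : act 0 n26487 = n48727 := d20_10 (iv4 D48727) (iv1 F37037) F20186 F20172 (iv1 F20167) (iv3 F37227) (iv4 F37225) (iv1 D12647) D12649 D26487
def n48728 : Q := act 6 n23764
theorem D48728 : act 6 n23764 = n48728 := rfl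
theorem F76725 : act 3 n48728 = n25646 := d7_1 D48728 (iv6 F76685) F40538
theorem F76726 : act 0 n25748 = n48728 := d20_4 F27676 (iv1 F18278) F20219 D25748 F76725 F76684 F76683 (iv4 F55038) (iv3 D34819) (iv1 F27679)
theorem F76727 : act 1 n44069 = n48728 := d15_0 (iv0 F76726) (iv7 F55020) (iv2 F69410)
def n48729 : Q := act 7 n23764
theorem D48729 : act 7 n23764 = n48729 := rfl
theorem F76728 : act 2 n48729 = n23765 := d4_1 D48729 F76723 (iv2 D48726)
def n48730 : Q := act 3 n23765
theorem D48730 : act 3 n23765 = n48730 := rfl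
theorem F76729 : act 4 n48730 = n25664 := d5_2 F40535 D48730 (iv3 F40571) (iv4 D25632) D25631
theorem F76730 : act 0 n23971 = n48730 := d20_4 F21066 (iv1 F40593) F40591 (iv3 F37452) (iv3 D48730) (iv4 F40535) F42384 F42382 (iv3 D12655) D12653
theorem F76731 : act 1 n23967 = n48730 := d15_0 (iv0 F76730) F37451 (iv2 F37443)
def n48731 : Q := act 0 n23766
theorem D48731 : act 0 n23766 = n48731 := rfl
theorem F76732 : act 1 n25640 = n48731 := d15_0 (iv0 D48731) F37040 (iv2 F40539)
theorem F76733 : act 5 n48731 = n23960 := d17_7 D12154 D25564 (iv1 F55473) (iv5 D25599) (iv4 F20186) D25640 F76732 (iv0 D23960) F18240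
def n48732 : Q := act 1 n23766
theorem D48732 : act 1 n23766 = n48732 := rfl
theorem F76734 : act 1 n48732 = n25640 := d15_1 D48732 (iv7 F52207) F52205
theorem F76735 : act 5 n48732 = n23961 := d17_7 (iv1 F32467) D25567 (iv1 F55472) (iv5 D23762) (iv4 F18067) D23766 D48732 F37426 (iv4 F32464)
def n48733 : Q := act 6 n23766
theorem D48733 : act 6 n23766 = n48733 := rfl
theorem F76736 : act 3 n48733 = n23768 := d7_1 D48733 (iv6 D23768) (iv3 F37039)
def n48734 : Q := act 0 n23768
theorem D48734 : act 0 n23768 = n48734 := rfl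
def n48735 : Q := act 1 n23768
theorem D48735 : act 1 n23768 = n48735 := rfl
theorem F76737 : act 1 n48735 = n25627 := d15_1 D48735 (iv7 D25627) (iv2 F37043)
def n48736 : Q := act 5 n23768
theorem D48736 : act 5 n23768 = n48736 := rfl
theorem F76738 : act 2 n48736 = n25626 := d2_1 D48736 (iv5 D25626) (iv2 F37043)
theorem F76739 : act 6 n48736 = n23769 := d12_2 D23768 D48736 (iv5 D23769) (iv6 D11132) D11131
def n48737 : Q := act 7 n23768
theorem D48737 : act 7 n23768 = n48737 := rfl
theorem F76740 : act 2 n48737 = n25627 := d4_1 D48737 (iv7 D25627) (iv2 F37043)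
theorem F76741 : act 4 n48737 = n28492 := d11_1 D48737 (iv7 D28492) (iv4 F37044)
theorem F76742 : act 6 n48737 = n25653 := d14_1 D48737 (iv7 D25653) (iv6 D12190) (iv7 F18071) D23768
theorem F76743 : act 1 n25627 = n48734 := d15_0 (iv0 D48734) D48737 F76740
theorem F76744 : act 1 n25625 = n48737 := d15_1 D25625 (iv7 D48737) F37043
theorem F76745 : act 1 n48737 = n25624 := d15_0 (iv0 D25624) D25627 (iv2 F76740)
def n48738 : Q := act 4 n23769
theorem D48738 : act 4 n23769 = n48738 := rfl
theorem F76746 : act 2 n48738 = n25628 := d1_1 D48738 (iv4 D25628) (iv2 F37045)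
theorem F76747 : act 5 n48738 = n25350 := d9_2 D23769 D48738 F40059 F19927 F8789 (iv5 F10429) (iv4 F20183) (iv5 F40531) F40530 (iv5 D25358) (iv4 D12043) (iv5 D5705) F3770 D5128 (iv4 F18075)
theorem F76748 : act 7 n48738 = n25349 := d11_2 F47554 D48738 F47557
theorem F76749 : act 0 n48738 = n34258 := d18_2 F40011 D48738 F53915 F39977 (iv4 D23922) F23061 (iv4 F23068) F23067 D25330
def n48739 : Q := act 6 n23771
theorem D48739 : act 6 n23771 = n48739 := rfl
def n48740 : Q := act 5 n23772
theorem D48740 : act 5 n23772 = n48740 := rfl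
theorem F76750 : act 3 n48740 = n24055 := d6_1 D48740 (iv5 D24055) (iv3 F37050)
theorem F76751 : act 1 n48740 = n34909 := d17_6 (iv1 D16996) D16997 F29904 F27117 (iv4 F37051) D48740 (iv5 D34909) D34908 (iv4 F55249)
def n48741 : Q := act 2 n23773
theorem D48741 : act 2 n23773 = n48741 := rfl
theorem F76752 : act 3 n48741 = n25750 := d0_2 D23773 D48741 (iv2 F45390) F45391 (iv2 F27602)
theorem F76753 : act 4 n48741 = n23933 := d1_2 F42421 D48741 (iv2 F42419)
theorem F76754 : act 7 n48741 = n44071 := d4_2 F42383 D48741 F69413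
theorem F76755 : act 1 n48741 = n48727 := d15_0 (iv0 F76724) F42383 D48741
theorem F76756 : act 6 n25748 = n48741 := d14_5 F76754 (iv6 D44071) F65510 (iv6 F55019) F55020
theorem F76757 : act 1 n25631 = n48741 := d15_1 (iv0 F42384) F76754 F69413
def n48742 : Q := act 5 n23773
theorem D48742 : act 5 n23773 = n48742 := rfl
theorem F76758 : act 3 n48742 = n23774 := d6_1 D48742 (iv5 D23774) D23773
def n48743 : Q := act 6 n23773
theorem D48743 : act 6 n23773 = n48743 := rfl
theorem F76759 : act 2 n48743 = n25748 := d3_1 D48743 F76756 (iv2 D48741)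
theorem F76760 : act 3 n48743 = n23775 := d7_1 D48743 (iv6 D23775) D23773
theorem F76761 : act 7 n48743 = n44069 := d14_2 F42383 D48743 (iv6 D44069) (iv7 F68987) F68991
theorem F76762 : act 1 n25639 = n48743 := d15_1 (iv0 F76683) F76761 F69410
def n48744 : Q := act 4 n23774
theorem D48744 : act 4 n23774 = n48744 := rfl
theorem F76763 : act 2 n48744 = n37341 := d1_1 D48744 F58276 (iv2 F51469)
theorem F76764 : act 5 n48744 = n38917 := d9_2 D23774 D48744 F59954 F56837 F51929 (iv5 D26486) F26666 D23771 (iv4 F70633) F70634 (iv4 F43350) (iv5 F51937) F51935 F42396 F26647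
def n48745 : Q := act 6 n23774
theorem D48745 : act 6 n23774 = n48745 := rfl
def n48746 : Q := act 5 n23775
theorem D48746 : act 5 n23775 = n48746 := rfl
def n48747 : Q := act 4 n23776
theorem D48747 : act 4 n23776 = n48747 := rfl
theorem F76765 : act 2 n48747 = n23779 := d1_1 D48747 (iv4 D23779) (iv2 F37053)
theorem F76766 : act 5 n48747 = n40142 := d16_1 D48747 (iv4 D40142) (iv5 D18964) F13855 F5922 (iv4 F12406) (iv5 F20212) F20213 (iv2 F37053)
theorem F76767 : act 0 n48747 = n35066 := d18_2 (iv1 F40640) D48747 F55682 (iv5 D34959) (iv4 D16966) F12540 D15313 (iv0 F26702) (iv5 F40641)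
def n48748 : Q := act 6 n23776
theorem D48748 : act 6 n23776 = n48748 := rfl
theorem F76768 : act 2 n48748 = n23780 := d3_1 D48748 (iv6 D23780) (iv2 F37053)
theorem F76769 : act 3 n48748 = n25694 := d7_1 D48748 (iv6 D25694) (iv3 F37054)
def n48749 : Q := act 6 n23777
theorem D48749 : act 6 n23777 = n48749 := rfl
theorem F76770 : act 2 n48749 = n44052 := d3_1 D48749 F69360 F40645
theorem F76771 : act 5 n48749 = n44049 := d12_1 D48749 (iv6 D44049) F33089 F27778 (iv5 F40646)
def n48750 : Q := act 3 n23778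
theorem D48750 : act 3 n23778 = n48750 := rfl
theorem F76772 : act 5 n48750 = n32414 := d6_2 F37309 D48750 (iv3 D32414)
theorem F76773 : act 7 n48750 = n42400 := d8_2 F40643 D48750 F65480
def n48751 : Q := act 4 n23778
theorem D48751 : act 4 n23778 = n48751 := rfl
theorem F76774 : act 2 n48751 = n38922 := d1_1 D48751 F59961 (iv2 F40642)
theorem F76775 : act 5 n48751 = n45216 := d9_2 F37309 D48751 F71270 F56769 (iv4 F42530) F42531 F27040 (iv5 F40646) (iv4 F58269) (iv5 D37332) F29097 F29907 (iv4 D18633) (iv5 F26652) F26651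
def n48752 : Q := act 6 n23778
theorem D48752 : act 6 n23778 = n48752 := rfl
def n48753 : Q := act 0 n23779
theorem D48753 : act 0 n23779 = n48753 := rfl
theorem F76776 : act 4 n48753 = n32405 := d18_3 (iv1 D23778) D23779 D48753 (iv5 D32405) (iv4 D15305) (iv0 D7246) D7249 D15316 F37309
theorem F76777 : act 2 n35066 = n48753 := d15_3 (iv0 D48753) (iv0 F51662) (iv7 F55684)
def n48754 : Q := act 5 n23779
theorem D48754 : act 5 n23779 = n48754 := rfl
theorem F76778 : act 2 n48754 = n40142 := d2_1 D48754 (iv5 F76766) F76765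
theorem F76779 : act 3 n48754 = n45115 := d6_1 D48754 F71076 F40627
theorem F76780 : act 4 n48754 = n40139 := d16_2 D23779 D48754 (iv5 D40139) F30277 F13868 (iv4 F27606) (iv5 F40650) F40651 F37053
theorem F76781 : act 0 n35985 = n48754 := d19_0 (iv5 D48754) (iv4 D23779) F18079 (iv1 F12478) (iv5 D7881) (iv4 D3573) (iv3 F3402) F3404 F2578 F2179 F2178 (iv1 F1364) (iv5 F1326) D1173 D2516 D5960 (iv5 F26441) (iv4 F28396) D35985
def n48755 : Q := act 6 n23779
theorem D48755 : act 6 n23779 = n48755 := rfl
theorem F76782 : act 4 n48755 = n23780 := d10_1 D48755 (iv6 D23780) D23779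
def n48756 : Q := act 0 n23780
theorem D48756 : act 0 n23780 = n48756 := rfl
def n48757 : Q := act 1 n23780
theorem D48757 : act 1 n23780 = n48757 := rfl
def n48758 : Q := act 7 n23780
theorem D48758 : act 7 n23780 = n48758 := rfl
theorem F76783 : act 3 n48758 = n23783 := d8_1 D48758 (iv7 D23783) (iv3 F37055)
def n48759 : Q := act 2 n23781
theorem D48759 : act 2 n23781 = n48759 := rfl
def n48760 : Q := act 3 n23781
theorem D48760 : act 3 n23781 = n48760 := rfl
def n48761 : Q := act 4 n23781
theorem D48761 : act 4 n23781 = n48761 := rfl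
def n48762 : Q := act 5 n23781
theorem D48762 : act 5 n23781 = n48762 := rfl
def n48763 : Q := act 6 n23781
theorem D48763 : act 6 n23781 = n48763 := rfl
def n48764 : Q := act 7 n23781
theorem D48764 : act 7 n23781 = n48764 := rfl
def n48765 : Q := act 3 n23782
theorem D48765 : act 3 n23782 = n48765 := rfl
def n48766 : Q := act 4 n23782
theorem D48766 : act 4 n23782 = n48766 := rfl
def n48767 : Q := act 5 n23782
theorem D48767 : act 5 n23782 = n48767 := rfl
def n48768 : Q := act 6 n23782
theorem D48768 : act 6 n23782 = n48768 := rfl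
def n48769 : Q := act 0 n23785
theorem D48769 : act 0 n23785 = n48769 := rfl
theorem F76786 : act 4 n48769 = n25763 := d20_2 D23785 D48769 (iv3 F40703) (iv1 F23655) F10993 (iv4 F10997) (iv1 F10998) (iv4 D6556) D6555 F19433
theorem F76787 : act 1 n28848 = n48769 := d15_0 (iv0 D48769) (iv7 F47025) F47024
theorem F76788 : act 2 n30207 = n48769 := d1_3 F76786 F40704 D30207
theorem F76789 : act 7 n29834 = n48769 := d11_0 F76786 F40702 D29834
def n48770 : Q := act 1 n23785
theorem D48770 : act 1 n23785 = n48770 := rfl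
theorem F76790 : act 1 n48770 = n28848 := d15_1 D48770 F46483 F37063
theorem F76791 : act 7 n48770 = n30207 := d15_2 (iv0 D48769) D48770 F76788
theorem F76792 : act 4 n48770 = n25370 := d18_7 (iv1 F20234) (iv4 F23747) F23749 F18082 D11141 D23785 D48770 (iv0 F40117) F23955
theorem F76793 : act 2 n29834 = n48770 := d1_3 F76792 F40114 D29834
def n48771 : Q := act 3 n23785
theorem D48771 : act 3 n23785 = n48771 := rfl
theorem F76794 : act 6 n48771 = n28191 := d7_2 (iv6 F37062) D48771 (iv3 D28191)
def n48772 : Q := act 5 n23785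
theorem D48772 : act 5 n23785 = n48772 := rfl
def n48773 : Q := act 3 n23786
theorem D48773 : act 3 n23786 = n48773 := rfl
theorem F76795 : act 6 n48773 = n28206 := d7_2 (iv6 F37064) D48773 (iv3 D28206)
def n48774 : Q := act 5 n23786
theorem D48774 : act 5 n23786 = n48774 := rfl
theorem F76796 : act 2 n48774 = n48772 := d2_1 D48774 (iv5 D48772) (iv2 F37063)
def n48775 : Q := act 4 n23787
theorem D48775 : act 4 n23787 = n48775 := rfl
theorem F76797 : act 2 n48775 = n23798 := d1_1 D48775 (iv4 D23798) (iv2 F37065)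
theorem F76798 : act 7 n48775 = n23803 := d11_2 (iv7 F37067) D48775 (iv4 D23803)
theorem F76799 : act 1 n48775 = n30678 := d18_6 (iv1 F19318) (iv4 F18717) F22162 F22160 D23787 D48775 (iv4 D30678) F38580 (iv5 D24152)
def n48776 : Q := act 6 n23787
theorem D48776 : act 6 n23787 = n48776 := rfl
theorem F76800 : act 2 n48776 = n23799 := d3_1 D48776 (iv6 D23799) (iv2 F37065)
theorem F76801 : act 3 n48776 = n24483 := d7_1 D48776 (iv6 D24483) (iv3 F37066)
theorem F76802 : act 5 n48776 = n24262 := d12_1 D48776 (iv6 D24262) (iv5 F24314) F24312 D23787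
def n48777 : Q := act 4 n23788
theorem D48777 : act 4 n23788 = n48777 := rfl
theorem F76803 : act 2 n48777 = n23803 := d1_1 D48777 (iv4 D23803) (iv2 F37070)
theorem F76804 : act 7 n48777 = n23798 := d11_2 (iv7 F37072) D48777 (iv4 D23798)
theorem F76805 : act 0 n48777 = n30678 := d18_2 F37073 D48777 (iv4 D30678) (iv5 F38483) (iv4 F39760) (iv0 F39880) (iv4 D25271) (iv0 D11996) D11998
def n48778 : Q := act 6 n23788
theorem D48778 : act 6 n23788 = n48778 := rfl
theorem F76806 : act 2 n48778 = n23804 := d3_1 D48778 (iv6 D23804) (iv2 F37070)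
theorem F76807 : act 3 n48778 = n28253 := d7_1 D48778 (iv6 D28253) (iv3 F37071)
theorem F76808 : act 5 n48778 = n24755 := d12_1 D48778 (iv6 D24755) (iv5 F20273) F20274 D23788
theorem F76809 : act 0 n26091 = n48778 := d21_4 F38865 F38864 F38156 (iv6 F41277) (iv6 D48778) (iv5 D23788) (iv1 D11148) D11149 (iv6 F18734) D24329
theorem F76810 : act 1 n31769 = n48778 := d15_0 (iv0 F76809) F41278 D31769
def n48779 : Q := act 4 n23789
theorem D48779 : act 4 n23789 = n48779 := rfl
theorem F76811 : act 2 n48779 = n23806 := d1_1 D48779 (iv4 D23806) (iv2 F37090)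
theorem F76812 : act 7 n48779 = n23809 := d11_2 (iv7 F37089) D48779 (iv4 D23809)
theorem F76813 : act 1 n48779 = n29775 := d18_6 (iv1 F37869) (iv4 F38471) F49681 F49678 (iv5 F38769) D48779 (iv4 D29775) F37892 F37889
def n48780 : Q := act 6 n23789
theorem D48780 : act 6 n23789 = n48780 := rfl
theorem F76814 : act 2 n48780 = n23807 := d3_1 D48780 (iv6 D23807) (iv2 F37090)
theorem F76815 : act 5 n48780 = n29373 := d12_1 D48780 (iv6 D29373) (iv5 F23902) D24769 (iv5 F38769)
def n48781 : Q := act 4 n23790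
theorem D48781 : act 4 n23790 = n48781 := rfl
theorem F76816 : act 2 n48781 = n23809 := d1_1 D48781 (iv4 D23809) (iv2 F37079)
theorem F76817 : act 3 n48781 = n30462 := d5_1 D48781 (iv4 D30462) (iv3 D14463) D14464 F37077
theorem F76818 : act 7 n48781 = n23806 := d11_2 F37091 D48781 (iv4 D23806)
theorem F76819 : act 0 n48781 = n29775 := d18_2 (iv1 F37076) D48781 (iv4 D29775) (iv5 D14148) (iv4 F18717) F22219 F22217 F18095 (iv5 F18116)
def n48782 : Q := act 6 n23790
theorem D48782 : act 6 n23790 = n48782 := rfl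
theorem F76820 : act 2 n48782 = n23810 := d3_1 D48782 (iv6 D23810) (iv2 F37079)
theorem F76821 : act 3 n48782 = n30465 := d7_1 D48782 (iv6 D30465) F37077
theorem F76822 : act 5 n48782 = n24253 := d12_1 D48782 (iv6 D24253) (iv5 D11413) D11414 F37078
def n48783 : Q := act 3 n23791
theorem D48783 : act 3 n23791 = n48783 := rfl
theorem F76823 : act 4 n48783 = n28219 := d5_2 D23791 D48783 (iv3 D28219) (iv4 D13473) (iv3 F18098)
def n48784 : Q := act 5 n23791
theorem D48784 : act 5 n23791 = n48784 := rfl
theorem F76824 : act 2 n48784 = n23814 := d2_1 D48784 (iv5 D23814) (iv2 F37083)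
def n48785 : Q := act 7 n23791
theorem D48785 : act 7 n23791 = n48785 := rfl
theorem F76825 : act 2 n48785 = n23815 := d4_1 D48785 (iv7 D23815) (iv2 F37083)
theorem F76826 : act 4 n48785 = n23792 := d11_1 D48785 (iv7 D23792) D23791
theorem F76827 : act 1 n23812 = n48785 := d15_1 D23812 (iv7 D48785) F37083
theorem F76828 : act 1 n48785 = n23811 := d15_1 F76827 (iv7 F37895) F37894
def n48786 : Q := act 6 n23792
theorem D48786 : act 6 n23792 = n48786 := rfl
theorem F76829 : act 2 n48786 = n23816 := d3_1 D48786 (iv6 D23816) (iv2 F37084)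
theorem F76830 : act 3 n48786 = n28222 := d7_1 D48786 (iv6 D28222) (iv3 F37085)
theorem F76831 : act 5 n48786 = n48786 := d12_1 D48786 (iv6 D48786) F37086 F18102 (iv5 F37086)
def n48787 : Q := act 4 n23793
theorem D48787 : act 4 n23793 = n48787 := rfl
theorem F76832 : act 2 n48787 = n28230 := d1_1 D48787 (iv4 D28230) (iv2 F37095)
theorem F76833 : act 7 n48787 = n28252 := d11_2 (iv7 F37097) D48787 (iv4 D28252)
theorem F76834 : act 5 n48787 = n30191 := d17_5 F48559 (iv5 D24832) (iv1 F19117) D23793 D48787 (iv0 D30191) (iv5 D14329) D14327 D30183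
theorem F76835 : act 0 n48787 = n24630 := d17_0 F48875 (iv1 D30453) (iv5 D14460) D14459 (iv5 F38843) (iv0 F39412) (iv5 F24581) (iv0 F37098) D48787
theorem F76836 : act 1 n48787 = n30148 := d18_6 (iv1 D3086) (iv4 F4406) D6406 (iv4 F18109) D23793 D48787 (iv4 D30148) F23916 (iv5 D6838)
theorem E8126 : n30491 = n30191 := ((c2_1 F76834 (iv2 D30491) (iv5 F45702) (iv2 F76832))).symm
theorem F76837 : act 2 n30191 = n14472 := (sb E8126 (iv2 D30491))
theorem F76838 : act 7 n30191 = n14473 := (sb E8126 (iv7 F48895))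
theorem E8127 : n30494 = n30192 := (c15_4 F48567 F48566 F76838 (iv2 F48896))
theorem F76839 : act 2 n30192 = n14473 := (sb E8127 F48896)
theorem F76840 : act 7 n30192 = n14472 := (sb E8127 (iv7 D30494))
def n48788 : Q := act 6 n23793
theorem D48788 : act 6 n23793 = n48788 := rfl
theorem F76841 : act 2 n48788 = n28231 := d3_1 D48788 (iv6 D28231) (iv2 F37095)
theorem F76842 : act 3 n48788 = n23799 := d7_1 D48788 (iv6 D23799) (iv3 F37096)
def n48789 : Q := act 4 n23795
theorem D48789 : act 4 n23795 = n48789 := rfl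
theorem F76843 : act 1 n48789 = n24585 := d18_6 (iv1 F10164) F4826 D5096 D11153 D23795 D48789 (iv4 D24585) F19635 (iv5 D11915)
theorem F76844 : act 0 n48789 = n24583 := d20_1 D48789 (iv4 D24583) (iv3 F38480) (iv1 D24506) F18899 D11599 (iv1 F38450) F40220 (iv3 F45233) (iv1 F45235)
def n48790 : Q := act 6 n23795
theorem D48790 : act 6 n23795 = n48790 := rfl
def n48791 : Q := act 1 n23796
theorem D48791 : act 1 n23796 = n48791 := rfl
theorem F76845 : act 1 n48791 = n31511 := d15_1 D48791 F49840 F45145
theorem F76846 : act 7 n48791 = n29937 := d15_2 (iv0 F39701) D48791 F48127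
theorem F76847 : act 4 n48791 = n25798 := d17_9 (iv1 D25798) F38316 (iv1 D24433) (iv5 D11531) (iv4 F10440) D13450 D28177 (iv5 F45564) D48791
theorem F76848 : act 6 n27979 = n48791 := d21_3 D13690 (iv1 F40823) (iv5 F45239) (iv1 D48791) (iv6 D23796) D23795 F39671 F39667 (iv6 D24504) (iv1 F19352)
theorem F76849 : act 2 n48791 = n30713 := d3_1 F76848 F49164 F45241
theorem F76850 : act 3 n48791 = n25444 := d7_1 F76848 (iv6 F49252) F49251
theorem F76851 : act 5 n48791 = n28753 := d21_6 (iv5 F39667) (iv1 F39675) (iv5 D13349) D13350 D27979 F76848 (iv1 F46383) (iv5 D24249) D24250 F38472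
def n48792 : Q := act 4 n23797
theorem D48792 : act 4 n23797 = n48792 := rfl
theorem F76852 : act 2 n48792 = n25273 := d1_1 D48792 (iv4 D25273) F37105
theorem F76853 : act 7 n48792 = n31429 := d11_2 (iv7 F37107) D48792 (iv4 D31429)
theorem F76854 : act 0 n48792 = n31431 := d18_2 D23797 D48792 F49724 (iv5 D24152) F18522 F8530 (iv4 F18101) F18107 D11154
theorem F76855 : act 1 n48792 = n24578 := d18_6 (iv1 F38484) F19219 (iv1 F20330) F20283 (iv5 F37104) D48792 (iv4 D24578) F38579 (iv5 F38483)
def n48793 : Q := act 6 n23797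
theorem D48793 : act 6 n23797 = n48793 := rfl
theorem F76856 : act 2 n48793 = n25268 := d3_1 D48793 F39867 F37105
theorem F76857 : act 3 n48793 = n28235 := d7_1 D48793 (iv6 D28235) (iv3 F37108)
theorem F76858 : act 5 n48793 = n25254 := d12_1 D48793 (iv6 D25254) (iv5 D11990) D11991 (iv5 F37104)
def n48794 : Q := act 0 n23798
theorem D48794 : act 0 n23798 = n48794 := rfl
theorem F76859 : act 4 n48794 = n24155 := d18_3 (iv1 F37069) D23798 D48794 F37867 (iv4 F38471) (iv0 F38472) F38024 (iv0 F37080) F19837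
theorem F76860 : act 1 n23803 = n48794 := d15_0 (iv0 D48794) (iv7 F76804) F76803
theorem F76861 : act 7 n30678 = n48794 := d11_0 F76859 F37870 D30678
def n48795 : Q := act 1 n23798
theorem D48795 : act 1 n23798 = n48795 := rfl
theorem F76862 : act 1 n48795 = n23803 := d15_1 D48795 (iv7 F76798) F76797
theorem F76863 : act 4 n48795 = n24154 := d18_7 (iv1 F19408) (iv4 F22128) F22130 (iv4 D11153) D11154 D23798 D48795 (iv0 D24154) (iv5 D11347)
theorem F76864 : act 2 n30678 = n48795 := d1_3 F76863 (iv2 F37871) D30678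
def n48796 : Q := act 3 n23798
theorem D48796 : act 3 n23798 = n48796 := rfl
def n48797 : Q := act 5 n23798
theorem D48797 : act 5 n23798 = n48797 := rfl
def n48798 : Q := act 6 n23798
theorem D48798 : act 6 n23798 = n48798 := rfl
theorem F76865 : act 4 n48798 = n23799 := d10_1 D48798 (iv6 D23799) D23798
def n48799 : Q := act 0 n23799
theorem D48799 : act 0 n23799 = n48799 := rfl
def n48801 : Q := act 5 n23799
theorem D48801 : act 5 n23799 = n48801 := rfl
theorem F76866 : act 2 n48801 = n24262 := d2_1 D48801 (iv5 F76802) F76800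
theorem F76867 : act 6 n48801 = n23800 := d12_2 D23799 D48801 (iv5 D23800) (iv6 D11155) D11154
def n48802 : Q := act 7 n23799
theorem D48802 : act 7 n23799 = n48802 := rfl
def n48803 : Q := act 4 n23800
theorem D48803 : act 4 n23800 = n48803 := rfl
theorem F76868 : act 2 n48803 = n24261 := d1_1 D48803 (iv4 D24261) (iv2 F37109)
theorem F76869 : act 7 n48803 = n24258 := d11_2 (iv7 F37110) D48803 (iv4 D24258)
theorem F76870 : act 0 n48803 = n24434 := d18_2 F37112 D48803 (iv4 D24434) (iv5 D11531) (iv4 F10440) D13449 (iv4 F22384) F18650 (iv5 F18665)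
def n48804 : Q := act 4 n23801
theorem D48804 : act 4 n23801 = n48804 := rfl
theorem F76871 : act 2 n48804 = n24512 := d1_1 D48804 (iv4 D24512) (iv2 F37113)
theorem F76872 : act 7 n48804 = n24482 := d11_2 (iv7 F37115) D48804 (iv4 D24482)
theorem F76873 : act 0 n48804 = n25862 := d18_2 (iv1 F38391) D48804 (iv4 D25862) (iv5 F20344) (iv4 F38517) (iv0 D24533) D24534 (iv0 F39215) (iv5 F39006)
theorem F76874 : act 1 n48804 = n25860 := d18_6 (iv1 F10169) F7795 (iv1 F8206) (iv4 F18113) D23801 D48804 (iv4 D25860) (iv0 D12274) (iv5 D5823)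
def n48805 : Q := act 6 n23801
theorem D48805 : act 6 n23801 = n48805 := rfl
theorem F76875 : act 2 n48805 = n24513 := d3_1 D48805 (iv6 D24513) (iv2 F37113)
theorem F76876 : act 3 n48805 = n23804 := d7_1 D48805 (iv6 D23804) (iv3 F37114)
def n48806 : Q := act 3 n23803
theorem D48806 : act 3 n23803 = n48806 := rfl
def n48807 : Q := act 5 n23803
theorem D48807 : act 5 n23803 = n48807 := rfl
def n48808 : Q := act 6 n23803
theorem D48808 : act 6 n23803 = n48808 := rfl
theorem F76877 : act 4 n48808 = n23804 := d10_1 D48808 (iv6 D23804) D23803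
def n48809 : Q := act 1 n23804
theorem D48809 : act 1 n23804 = n48809 := rfl
theorem F76878 : act 7 n48809 = n31769 := d15_2 (iv0 F50061) D48809 (iv2 D31769)
theorem F76879 : act 5 n28026 = n48809 := d21_6 (iv5 D5662) F19387 D11400 (iv6 F18721) (iv1 F22242) D28026 (iv1 D48809) (iv5 F39853) (iv6 D25261) (iv1 D11993)
theorem F76880 : act 2 n48809 = n26091 := d2_1 F76879 F41276 (iv2 F45295)
theorem F76881 : act 3 n48809 = n28258 := d6_1 F76879 (iv5 F45764) F45437
theorem F76882 : act 1 n48809 = n31767 := d15_0 (iv0 D31767) (iv7 F41278) (iv2 F76880)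
theorem F76883 : act 7 n31767 = n48778 := d15_2 D48809 F76882 F76806
theorem F76884 : act 6 n48802 = n31767 := d14_5 F76883 (iv6 D48778) F37072 D23799 D48802
def n48810 : Q := act 7 n23804
theorem D48810 : act 7 n23804 = n48810 := rfl
theorem F76885 : act 2 n48810 = n31767 := d4_1 D48810 F76883 F76806
theorem F76886 : act 1 n26091 = n48810 := d15_1 (iv0 F76809) (iv7 D48810) (iv2 F76806)
theorem F76887 : act 1 n48810 = n31769 := d15_1 F76886 (iv7 F76878) F76880
def n48811 : Q := act 6 n23805
theorem D48811 : act 6 n23805 = n48811 := rfl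
theorem F76888 : act 2 n48811 = n30451 := d3_1 D48811 (iv6 D30451) (iv2 F37123)
theorem F76889 : act 3 n48811 = n23807 := d7_1 D48811 (iv6 D23807) D23805
theorem F76890 : act 4 n48811 = n30181 := d10_1 D48811 (iv6 D30181) (iv4 F37120)
def n48812 : Q := act 0 n23806
theorem D48812 : act 0 n23806 = n48812 := rfl
theorem F76891 : act 4 n48812 = n24151 := d18_3 D11160 D23806 D48812 (iv5 D24151) (iv4 F19719) (iv0 F19720) (iv4 D11153) (iv0 D5096) D5098
theorem F76892 : act 1 n23809 = n48812 := d15_0 (iv0 D48812) (iv7 F76818) F76816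
theorem F76893 : act 7 n48812 = n29775 := d15_2 F48587 F76892 (iv2 F48584)
def n48813 : Q := act 3 n23806
theorem D48813 : act 3 n23806 = n48813 := rfl
theorem F76894 : act 4 n48813 = n30179 := d5_2 D23806 D48813 (iv3 D30179) (iv4 F37120) (iv3 D23805)
theorem F76895 : act 7 n48813 = n30462 := d8_2 F76818 D48813 (iv3 F76817)
def n48814 : Q := act 5 n23806
theorem D48814 : act 5 n23806 = n48814 := rfl
def n48815 : Q := act 6 n23806
theorem D48815 : act 6 n23806 = n48815 := rfl
theorem F76896 : act 4 n48815 = n23807 := d10_1 D48815 (iv6 D23807) D23806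
def n48816 : Q := act 0 n23807
theorem D48816 : act 0 n23807 = n48816 := rfl
def n48817 : Q := act 1 n23807
theorem D48817 : act 1 n23807 = n48817 := rfl
def n48818 : Q := act 7 n23807
theorem D48818 : act 7 n23807 = n48818 := rfl
def n48819 : Q := act 6 n23808
theorem D48819 : act 6 n23808 = n48819 := rfl
theorem F76897 : act 3 n48819 = n23810 := d7_1 D48819 (iv6 D23810) D23808
theorem F76898 : act 5 n48819 = n29799 := d12_1 D48819 (iv6 D29799) (iv5 D14160) D14161 (iv5 F37127)
def n48820 : Q := act 3 n23809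
theorem D48820 : act 3 n23809 = n48820 := rfl
def n48821 : Q := act 5 n23809
theorem D48821 : act 5 n23809 = n48821 := rfl
def n48822 : Q := act 6 n23809
theorem D48822 : act 6 n23809 = n48822 := rfl
theorem F76899 : act 4 n48822 = n23810 := d10_1 D48822 (iv6 D23810) D23809
def n48823 : Q := act 0 n23810
theorem D48823 : act 0 n23810 = n48823 := rfl
def n48824 : Q := act 1 n23810
theorem D48824 : act 1 n23810 = n48824 := rfl
def n48825 : Q := act 5 n23810
theorem D48825 : act 5 n23810 = n48825 := rfl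
theorem F76900 : act 2 n48825 = n24253 := d2_1 D48825 (iv5 F76822) F76820
theorem F76901 : act 3 n48825 = n29799 := d6_1 D48825 (iv5 F76898) F76897
theorem F76902 : act 6 n48825 = n24242 := d12_2 D23810 D48825 (iv5 D24242) (iv6 F24291) F24295
def n48826 : Q := act 7 n23810
theorem D48826 : act 7 n23810 = n48826 := rfl
def n48827 : Q := act 3 n23811
theorem D48827 : act 3 n23811 = n48827 := rfl
def n48828 : Q := act 5 n23811
theorem D48828 : act 5 n23811 = n48828 := rfl
def n48829 : Q := act 6 n23811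
theorem D48829 : act 6 n23811 = n48829 := rfl
def n48830 : Q := act 3 n23812
theorem D48830 : act 3 n23812 = n48830 := rfl
def n48831 : Q := act 5 n23812
theorem D48831 : act 5 n23812 = n48831 := rfl
theorem F76903 : act 4 n48831 = n24650 := d16_2 F37893 D48831 (iv5 D24650) (iv4 D11674) (iv5 F10365) (iv4 F22275) (iv5 F37500) F37501 D24177
def n48832 : Q := act 6 n23812
theorem D48832 : act 6 n23812 = n48832 := rfl
def n48833 : Q := act 0 n23813
theorem D48833 : act 0 n23813 = n48833 := rfl
def n48834 : Q := act 1 n23813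
theorem D48834 : act 1 n23813 = n48834 := rfl
theorem F76904 : act 4 n31255 = n48834 := d20_6 (iv4 D5840) (iv1 F3834) (iv4 F5000) (iv3 F11278) (iv1 F24400) D31255 (iv1 D48834) F37129 (iv3 D11167) (iv1 F8991)
def n48835 : Q := act 2 n23813
theorem D48835 : act 2 n23813 = n48835 := rfl
theorem F76905 : act 4 n48835 = n23827 := d1_2 (iv4 F37129) D48835 (iv2 D23827)
theorem F76906 : act 0 n48835 = n31214 := d20_7 (iv4 F48880) (iv1 F48882) D30479 (iv3 F48885) (iv1 D28338) (iv3 F37153) (iv4 F76905) (iv4 D31214) (iv3 D14739) D14737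
def n48836 : Q := act 5 n23813
theorem D48836 : act 5 n23813 = n48836 := rfl
theorem F76907 : act 3 n48836 = n23814 := d6_1 D48836 (iv5 D23814) D23813
def n48837 : Q := act 0 n23814
theorem D48837 : act 0 n23814 = n48837 := rfl
theorem F76908 : act 5 n48837 = n24578 := d17_3 (iv1 D23812) D23814 D48837 (iv4 D24578) (iv5 D11626) (iv0 F19317) D14148 F37892 F37893
def n48838 : Q := act 1 n23814
theorem D48838 : act 1 n23814 = n48838 := rfl
theorem F76909 : act 5 n48838 = n31431 := d17_7 (iv1 F37106) (iv5 D11158) (iv1 D5097) D5098 D11162 D23814 D48838 (iv0 F76854) (iv4 D48792)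
theorem F76910 : act 4 n24590 = n48838 := d16_2 D11630 D24590 F76909 F49724 (iv5 D24152) F18522 D11915 F19634 F18962
def n48839 : Q := act 4 n23814
theorem D48839 : act 4 n23814 = n48839 := rfl
theorem F76911 : act 5 n48839 = n24570 := d16_3 D11162 D23814 D48839 (iv4 D24570) (iv5 D11621) (iv4 F18101) (iv5 F37086) (iv7 D23792) F18097
theorem F76912 : act 7 n30200 = n48839 := d13_0 F76911 F38555 D30200
def n48840 : Q := act 6 n23814
theorem D48840 : act 6 n23814 = n48840 := rfl
def n48841 : Q := act 7 n23814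
theorem D48841 : act 7 n23814 = n48841 := rfl
theorem F76913 : act 4 n48841 = n30200 := d11_1 D48841 F76912 (iv4 D48839)
theorem F76914 : act 5 n48841 = n23815 := d13_1 D48841 (iv7 D23815) D23814
def n48842 : Q := act 6 n23815
theorem D48842 : act 6 n23815 = n48842 := rfl
theorem F76915 : act 4 n48842 = n23816 := d10_1 D48842 (iv6 D23816) (iv4 F37130)
def n48843 : Q := act 0 n23816
theorem D48843 : act 0 n23816 = n48843 := rfl
def n48844 : Q := act 1 n23816
theorem D48844 : act 1 n23816 = n48844 := rfl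
def n48845 : Q := act 5 n23817
theorem D48845 : act 5 n23817 = n48845 := rfl
theorem F76916 : act 3 n48845 = n31140 := d6_1 D48845 (iv5 D31140) (iv3 F37133)
theorem F76917 : act 7 n48845 = n28314 := d13_2 (iv7 F37134) D48845 (iv5 D28314)
def n48846 : Q := act 6 n23817
theorem D48846 : act 6 n23817 = n48846 := rfl
theorem F76918 : act 3 n48846 = n31141 := d7_1 D48846 (iv6 D31141) (iv3 F37133)
theorem F76919 : act 4 n48846 = n23818 := d10_1 D48846 (iv6 D23818) D23817
def n48847 : Q := act 0 n23818
theorem D48847 : act 0 n23818 = n48847 := rfl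
def n48848 : Q := act 1 n23818
theorem D48848 : act 1 n23818 = n48848 := rfl
def n48849 : Q := act 7 n23818
theorem D48849 : act 7 n23818 = n48849 := rfl
theorem F76920 : act 3 n48849 = n23821 := d8_1 D48849 (iv7 D23821) (iv3 F37135)
theorem F76921 : act 5 n48849 = n29426 := d13_1 D48849 F47155 F46378
theorem F76922 : act 6 n48849 = n28318 := d14_1 D48849 (iv7 D28318) (iv6 D13514) (iv7 F18118) D23818
def n48850 : Q := act 2 n23819
theorem D48850 : act 2 n23819 = n48850 := rfl
theorem F76923 : act 6 n48850 = n31508 := d3_2 F38045 D48850 F49827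
theorem F76924 : act 7 n23820 = n48850 := d15_2 (iv0 D23819) D23820 (iv2 D48850)
def n48851 : Q := act 3 n23819
theorem D48851 : act 3 n23819 = n48851 := rfl
theorem F76925 : act 6 n48851 = n31509 := d7_2 F38045 D48851 (iv3 D31509)
def n48852 : Q := act 5 n23819
theorem D48852 : act 5 n23819 = n48852 := rfl
theorem F76926 : act 6 n48852 = n28304 := d12_2 F38045 D48852 (iv5 D28304) F38044 F38043
theorem F76927 : act 0 n48852 = n28931 := d21_1 D48852 F47168 F47169 (iv1 D25282) F19844 (iv5 D5666) (iv1 F7595) (iv5 F7587) D11165 D23819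
theorem F76928 : act 0 n28909 = n48852 := d21_10 (iv5 D48852) (iv1 F37141) F23332 (iv6 F46462) (iv1 F47072) (iv6 F49826) (iv5 F49823) F49824 (iv5 D28908) D28909
def n48853 : Q := act 7 n23819
theorem D48853 : act 7 n23819 = n48853 := rfl
theorem F76929 : act 2 n48853 = n23820 := d4_1 D48853 F76924 (iv2 D48850)
def n48854 : Q := act 3 n23820
theorem D48854 : act 3 n23820 = n48854 := rfl
def n48855 : Q := act 6 n23820
theorem D48855 : act 6 n23820 = n48855 := rfl
theorem F76930 : act 5 n48855 = n29386 := d12_1 D48855 (iv6 F47359) (iv5 D29532) D29533 F47362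
theorem F76931 : act 7 n48855 = n31507 := d14_2 (iv7 F76924) D48855 (iv6 D31507) D31508 (iv6 F76923)
theorem F76932 : act 0 n48855 = n29453 := d21_4 (iv5 F47168) F47363 F47362 D48855 F47213 (iv5 D28037) (iv1 F22333) F22329 D26090 (iv1 F47167)
theorem F76933 : act 0 n28354 = n48855 := d21_4 F53899 F45847 (iv5 D28353) D28354 (iv6 D48855) (iv5 F47362) F47361 (iv5 F47165) (iv6 F49801) F53902
theorem F76934 : act 7 n28823 = n29386 := d13_2 F76931 F49823 (iv5 F76930)
theorem F76935 : act 2 n48855 = n28309 := d15_3 (iv0 F47113) (iv0 F49824) (iv7 F76931)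
theorem F76936 : act 2 n28822 = n29386 := d2_3 (iv5 F76930) F76935 (iv5 F46460)
theorem E8128 : n28305 = n23820 := (c3_4 D48855 F76935 (iv6 D28309) (iv2 F45815))
theorem E8129 : n48853 = n13509 := (((iv2 F76929)).symm.trans (sb E8128 F45815))
theorem E8130 : n31012 = n25934 := (((F47154).symm.trans (sb E8128 (iv4 F49434)))).symm
theorem E8131 : n48850 = n13508 := ((F76924).symm.trans (sb E8128 (iv7 D28305)))
theorem F76937 : act 2 n13509 = n23820 := (sb E8129 F76929)
theorem E8132 : n28301 = n23819 := ((F45814).symm.trans (sb E8129 (iv7 D48853)))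
theorem F76938 : act 2 n25934 = n14671 := (sb E8130 F49433)
theorem F76939 : act 7 n25934 = n14670 := (sb E8130 (iv7 D31012))
theorem E8133 : n31508 = n24274 := (((F38044).symm.trans (sb E8131 F76923))).symm
theorem F76940 : act 7 n13508 = n23820 := (sb E8131 (iv7 F76924))
theorem F76941 : act 2 n23819 = n13508 := (sb E8132 (iv2 D28301))
theorem E8134 : n31008 = n25933 := ((((iv4 F46742)).symm.trans (sb E8132 (iv4 F49430)))).symm
theorem F76942 : act 7 n23819 = n13509 := (sb E8132 (iv7 F45814))
theorem F76943 : act 2 n24274 = n14840 := (sb E8133 F49827)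
theorem F76944 : act 7 n24274 = n14839 := (sb E8133 (iv7 D31508))
theorem F76945 : act 2 n25933 = n14670 := (sb E8134 (iv2 D31008))
theorem F76946 : act 7 n25933 = n14671 := (sb E8134 (iv7 F49431))
theorem F76947 : act 2 n30603 = n31510 := d3_3 F49828 F76945 (iv6 F53688)
theorem F76948 : act 7 n31506 = n30603 := d15_2 (iv0 F49830) (iv0 F49836) F76947
theorem F76949 : act 7 n30602 = n31510 := d15_2 F53758 F53760 (iv2 F76947)
theorem E8135 : n31504 = n24273 := (c11_3 F76949 (iv4 D31510) F49822 (iv4 F53759))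
theorem F76951 : act 2 n24273 = n14839 := (sb E8135 (iv2 D31504))
theorem F76952 : act 7 n24273 = n14840 := (sb E8135 (iv7 F49822))
theorem F76953 : act 7 n28306 = n48851 := d8_2 F76942 D28306 (iv3 D48851)
theorem F76954 : act 7 n28308 = n48852 := d13_2 F76942 D28308 (iv5 D48852)
theorem F76955 : act 2 n48852 = n28304 := d15_3 (iv0 F47227) (iv0 F47226) F76954
theorem F76956 : act 2 n28308 = n29533 := d15_3 (iv0 F47363) (iv0 F76927) (iv7 F76954)
theorem E8136 : n29529 = n13799 := (c3_4 (iv6 F45816) F76956 (iv6 D29533) D29529)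
theorem E8137 : n28986 = n14031 := ((D28986).symm.trans (sb E8136 (iv2 D29529)))
theorem F76957 : act 2 n14031 = n13799 := (sb E8137 (iv2 D28986))
theorem F76958 : act 7 n14031 = n13799 := (sb E8137 (iv7 F46609))
theorem F76959 : act 7 n29533 = n28304 := d4_2 (iv7 F76954) F76956 (iv2 F76955)
theorem F76960 : act 7 n28987 = n29530 := d8_2 F76958 D28987 (iv3 D29530)
theorem F76961 : act 7 n28988 = n29531 := d11_2 F76958 D28988 (iv4 D29531)
theorem F76962 : act 7 n28989 = n29532 := d13_2 F76958 D28989 (iv5 D29532)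
theorem F76963 : act 7 n29387 = n28822 := d14_4 F76962 F47359 (iv7 F76934) F49826 (iv6 F46610)
theorem F76964 : act 2 n29532 = n28989 := d15_3 (iv0 F46611) (iv0 F47112) F76962
theorem F76965 : act 2 n28823 = n29387 := d4_3 F76963 F76936 (iv7 F76934)
theorem F76966 : act 2 n28988 = n29531 := d1_3 (iv4 D29531) F76957 D28988
theorem F76967 : act 7 n48854 = n28302 := d8_2 F76940 D48854 (iv3 D28302)
def n48856 : Q := act 2 n23822
theorem D48856 : act 2 n23822 = n48856 := rfl
theorem F76969 : act 7 n23823 = n48856 := d15_2 (iv0 D23822) D23823 (iv2 D48856)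
def n48857 : Q := act 3 n23822
theorem D48857 : act 3 n23822 = n48857 := rfl
theorem F76970 : act 5 n48857 = n28320 := d6_2 F37151 D48857 (iv3 D28320)
def n48858 : Q := act 6 n23822
theorem D48858 : act 6 n23822 = n48858 := rfl
theorem F76971 : act 5 n48858 = n24775 := d12_1 D48858 (iv6 F45833) (iv5 F45830) (iv6 D28322) F37151
theorem F76972 : act 0 n48858 = n28132 := d21_4 F11972 D13515 F37151 D48858 F45448 D28357 F45850 (iv5 F53899) (iv6 D34252) (iv1 D16571)
theorem F76973 : act 0 n28128 = n48858 := d21_4 F20489 D13772 D28905 F46549 (iv6 D48858) (iv5 F37151) (iv1 F37152) (iv5 F38186) F38187 (iv1 F27070)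
def n48859 : Q := act 7 n23822
theorem D48859 : act 7 n23822 = n48859 := rfl
theorem F76974 : act 2 n48859 = n23823 := d4_1 D48859 F76969 (iv2 D48856)
def n48860 : Q := act 3 n23823
theorem D48860 : act 3 n23823 = n48860 := rfl
theorem F76976 : act 5 n48860 = n28324 := d6_2 (iv5 F37145) D48860 (iv3 D28324)
def n48861 : Q := act 2 n23825
theorem D48861 : act 2 n23825 = n48861 := rfl
theorem F76977 : act 7 n23826 = n48861 := d15_2 (iv0 D23825) D23826 (iv2 D48861)
def n48862 : Q := act 3 n23825
theorem D48862 : act 3 n23825 = n48862 := rfl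
def n48863 : Q := act 4 n23825
theorem D48863 : act 4 n23825 = n48863 := rfl
def n48864 : Q := act 5 n23825
theorem D48864 : act 5 n23825 = n48864 := rfl
def n48865 : Q := act 6 n23825
theorem D48865 : act 6 n23825 = n48865 := rfl
def n48866 : Q := act 7 n23825
theorem D48866 : act 7 n23825 = n48866 := rfl
theorem F76978 : act 2 n48866 = n23826 := d4_1 D48866 F76977 (iv2 D48861)
def n48867 : Q := act 3 n23826
theorem D48867 : act 3 n23826 = n48867 := rfl
def n48868 : Q := act 4 n23826
theorem D48868 : act 4 n23826 = n48868 := rfl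
def n48869 : Q := act 5 n23826
theorem D48869 : act 5 n23826 = n48869 := rfl
def n48870 : Q := act 6 n23826
theorem D48870 : act 6 n23826 = n48870 := rfl
def n48871 : Q := act 5 n23827
theorem D48871 : act 5 n23827 = n48871 := rfl
theorem F76979 : act 2 n48871 = n23828 := d2_1 D48871 (iv5 D23828) D23827
theorem F76980 : act 3 n48871 = n28339 := d6_1 D48871 (iv5 D28339) (iv3 F37153)
theorem F76981 : act 7 n48871 = n28474 := d13_2 F49401 D48871 (iv5 F49400)
theorem F76982 : act 1 n28473 = n48871 := d15_1 D28473 F76981 (iv2 D28474)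
theorem F76983 : act 1 n48871 = n28472 := d15_0 (iv0 D28472) (iv7 F37155) (iv2 F76979)
def n48872 : Q := act 0 n23828
theorem D48872 : act 0 n23828 = n48872 := rfl
theorem F76984 : act 1 n28474 = n48872 := d15_0 (iv0 D48872) F37155 D28474
def n48873 : Q := act 1 n23828
theorem D48873 : act 1 n23828 = n48873 := rfl
theorem F76985 : act 1 n48873 = n28474 := d15_1 D48873 (iv7 F76981) F76979
def n48874 : Q := act 4 n23828
theorem D48874 : act 4 n23828 = n48874 := rfl
theorem F76986 : act 3 n48874 = n28464 := d5_1 D48874 F45987 F22733 (iv4 F18125) (iv3 F37154)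
theorem F76987 : act 7 n48874 = n28461 := d11_2 (iv7 F37155) D48874 F45985
def n48875 : Q := act 6 n23828
theorem D48875 : act 6 n23828 = n48875 := rfl
theorem F76988 : act 3 n48875 = n23829 := d7_1 D48875 (iv6 D23829) (iv3 F37154)
def n48876 : Q := act 0 n23829
theorem D48876 : act 0 n23829 = n48876 := rfl
def n48877 : Q := act 1 n23829
theorem D48877 : act 1 n23829 = n48877 := rfl
theorem F76989 : act 1 n48877 = n28347 := d15_1 D48877 (iv7 D28347) (iv2 F37156)
def n48878 : Q := act 7 n23829
theorem D48878 : act 7 n23829 = n48878 := rfl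
theorem F76990 : act 2 n48878 = n28347 := d4_1 D48878 (iv7 D28347) (iv2 F37156)
theorem F76991 : act 4 n48878 = n28484 := d11_1 D48878 F46006 (iv4 F37157)
theorem F76992 : act 6 n48878 = n28478 := d14_1 D48878 (iv7 D28478) (iv6 D13574) (iv7 F18124) D23829
theorem F76993 : act 1 n28347 = n48876 := d15_0 (iv0 D48876) D48878 F76990
theorem F76994 : act 1 n28346 = n48878 := d15_1 D28346 (iv7 D48878) F37156
theorem F76995 : act 1 n48878 = n28345 := d15_0 (iv0 D28345) D28347 (iv2 F76990)
def n48879 : Q := act 3 n23830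
theorem D48879 : act 3 n23830 = n48879 := rfl
theorem F76996 : act 7 n48879 = n28355 := d8_2 (iv7 F45484) D48879 (iv3 D28355)
def n48880 : Q := act 4 n23830
theorem D48880 : act 4 n23830 = n48880 := rfl
theorem F76997 : act 2 n48880 = n28352 := d1_1 D48880 (iv4 D28352) F45485
theorem F76998 : act 7 n48880 = n28356 := d11_2 (iv7 F45484) D48880 (iv4 D28356)
def n48881 : Q := act 3 n23831
theorem D48881 : act 3 n23831 = n48881 := rfl
theorem F76999 : act 7 n48881 = n28351 := d8_2 F45483 D48881 (iv3 D28351)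
def n48882 : Q := act 4 n23831
theorem D48882 : act 4 n23831 = n48882 := rfl
theorem F77000 : act 2 n48882 = n28356 := d1_1 D48882 (iv4 D28356) (iv2 F45482)
theorem F77001 : act 7 n48882 = n28352 := d11_2 F45483 D48882 (iv4 D28352)
def n48883 : Q := act 1 n23832
theorem D48883 : act 1 n23832 = n48883 := rfl
theorem F77002 : act 1 n48883 = n29066 := d15_1 D48883 (iv7 F51400) F51398
theorem F77003 : act 7 n48883 = n33295 := d15_2 (iv0 F41859) D48883 F52530
theorem F77004 : act 2 n33291 = n48883 := d4_3 F77003 F52530 (iv7 F52521)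
theorem F77005 : act 5 n33212 = n48883 := d13_3 F77003 (iv5 D33295) (iv7 F52527)
def n48884 : Q := act 4 n23835
theorem D48884 : act 4 n23835 = n48884 := rfl
theorem F77006 : act 2 n48884 = n28365 := d1_1 D48884 (iv4 D28365) (iv2 F50551)
theorem F77007 : act 7 n48884 = n28370 := d11_2 (iv7 F50555) D48884 (iv4 D28370)
theorem F77008 : act 3 n48884 = n48681 := d20_3 F45855 (iv1 F37171) D48884 (iv1 F76599) (iv3 F45893) F45894 (iv1 F26896) (iv4 F51364) (iv3 F55186) (iv1 F55190)
theorem F77009 : act 0 n34967 = n48884 := d20_10 (iv4 D48884) (iv1 D23835) (iv4 F37162) (iv3 D23833) (iv1 F22703) (iv3 F24520) (iv4 D14866) D14863 D31564 (iv3 F55373)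
theorem F77010 : act 1 n34972 = n48884 := d15_1 (iv0 F56596) F77007 (iv2 F56592)
def n48885 : Q := act 5 n23837
theorem D48885 : act 5 n23837 = n48885 := rfl
theorem F77011 : act 2 n48885 = n23855 := d2_1 D48885 F37188 F37173
theorem F77012 : act 3 n48885 = n28396 := d6_1 D48885 (iv5 D28396) (iv3 F37174)
theorem F77013 : act 7 n48885 = n23850 := d13_2 (iv7 F37175) D48885 (iv5 D23850)
theorem F77014 : act 0 n31565 = n48885 := d21_1 D31565 (iv5 D48885) (iv6 F55071) (iv1 F55072) F51728 D28564 F46131 (iv5 F26882) F12954 D14863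
theorem E8138 : n31565 = n23851 := (c15_1 (iv0 F77014) (iv0 D23851) D23855 (iv2 F77011))
theorem F77015 : act 0 n23851 = n48885 := (sb E8138 F77014)
theorem F77016 : act 5 n23851 = n14863 := (sb E8138 (iv5 D31565))
theorem E8139 : n31678 = n31566 := ((c21_4 D11178 D23851 F77016 D31566 (iv1 F55723) (iv6 D35080) D35079 (iv1 F55709) F55710 (iv6 D23847) (iv1 D11176))).symm
theorem F77017 : act 0 n31566 = n35080 := (sb E8139 (iv1 F55723))
theorem F77018 : act 1 n31566 = n14894 := (sb E8139 (iv0 D31678))
theorem F77019 : act 0 n34832 = n32872 := d21_1 D34832 F52040 (iv6 D31682) (iv1 F77018) (iv6 D31566) (iv5 F77016) F77015 (iv5 D48885) (iv6 F55071) (iv1 F55072)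
theorem F77020 : act 1 n23852 = n48885 := d15_1 D23852 F77013 F37183
def n48886 : Q := act 3 n23838
theorem D48886 : act 3 n23838 = n48886 := rfl
theorem F77021 : act 2 n48886 = n28407 := d0_1 D48886 F50771 (iv2 F54302) (iv3 D23839) D23838
theorem F77022 : act 7 n48886 = n23844 := d8_2 F37177 D48886 (iv3 D23844)
theorem F77023 : act 4 n48886 = n25509 := d20_6 F24758 F24781 (iv4 F10524) (iv3 F18138) (iv1 F54335) D48886 F56679 (iv4 D15102) D15101 F26977
theorem F77024 : act 6 n25507 = n48886 := d10_0 F77023 (iv6 D25509) D25507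
theorem F77025 : act 0 n26121 = n48886 := d20_10 F77023 F56679 (iv4 D15102) D15101 F26977 (iv3 F24789) F24791 D15156 F24765 D26121
theorem F77026 : act 0 n48886 = n31826 := d20_1 (iv4 F77023) F50119 F65305 (iv1 D42285) (iv3 F37345) (iv4 F37343) F27813 D25489 F40306 (iv1 F56680)
theorem E8140 : n31825 = n23844 := (c15_2 F50770 F50398 (iv7 F77022) F77021)
theorem F77027 : act 0 n23844 = n32021 := (sb E8140 (iv1 F50398))
theorem F77028 : act 1 n23844 = n14978 := (sb E8140 (iv0 D31825))
def n48887 : Q := act 4 n23838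
theorem D48887 : act 4 n23838 = n48887 := rfl
theorem F77029 : act 2 n48887 = n23840 := d1_1 D48887 (iv4 D23840) D23838
theorem F77030 : act 7 n48887 = n23845 := d11_2 F37177 D48887 (iv4 D23845)
theorem F77031 : act 0 n48887 = n31971 := d20_1 D48887 (iv4 D31971) F26819 (iv1 F24790) F24789 F24758 F24781 (iv4 F10524) (iv3 F18138) (iv1 F54335)
theorem F77032 : act 0 n31933 = n48887 := d20_10 (iv4 D48887) F54334 (iv4 F36983) F36982 (iv1 F18051) D12123 F20054 D25490 F65299 F65298
theorem F77033 : act 3 n23951 = n48887 := d20_5 (iv4 F10219) (iv1 D5161) D5162 D11223 D23951 (iv4 D48887) F54334 (iv4 F36983) F36982 (iv1 F18051)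
def n48888 : Q := act 6 n23838
theorem D48888 : act 6 n23838 = n48888 := rfl
theorem F77034 : act 2 n48888 = n23842 := d3_1 D48888 (iv6 D23842) D23838
theorem F77035 : act 3 n48888 = n25507 := d7_1 D48888 F77024 (iv3 D48886)
theorem F77036 : act 7 n48888 = n28425 := d14_2 F37177 D48888 (iv6 F54202) (iv7 F54293) (iv6 D23847)
theorem F77037 : act 5 n48888 = n34974 := d21_6 F25996 (iv1 F18159) (iv5 D11193) (iv6 F18139) (iv1 F54335) D48888 (iv1 D34974) (iv5 D16972) (iv6 D7923) D7920
theorem F77038 : act 0 n28424 = n48888 := d21_4 F25993 (iv1 F46127) (iv5 D28563) (iv6 F45966) (iv6 D48888) F54336 (iv1 D31577) (iv5 D14867) (iv6 F12954) F27735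
theorem F77039 : act 4 n48888 = n31925 := d20_0 (iv1 D31925) (iv4 D15061) D15060 F24794 (iv3 D7196) D7197 (iv1 F24754) D32085 F50719 F77038
theorem F77040 : act 1 n26111 = n48888 := d15_0 (iv0 F77038) (iv7 F50271) F50269
theorem F77041 : act 6 n31925 = n48887 := d10_2 D48888 F77039 (iv4 D48887)
def n48889 : Q := act 0 n23840
theorem D48889 : act 0 n23840 = n48889 := rfl
theorem F77042 : act 4 n48889 = n26154 := d20_2 D23840 D48889 (iv3 D26154) (iv1 D12408) (iv3 D5905) F5145 (iv1 D2106) D2107 D5118 D11175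
theorem F77043 : act 2 n31971 = n48889 := d1_3 F77042 F41469 D31971
theorem F77044 : act 3 n43380 = n48889 := d5_5 F77042 (iv3 D26154) D26155 F65418 F68150
theorem F77045 : act 6 n26459 = n48889 := d10_0 F77042 F42231 D26459
theorem F77046 : act 7 n31933 = n48889 := d11_0 F77042 F41470 D31933
theorem F77047 : act 0 n48889 = n23845 := d20_1 (iv4 F77042) (iv4 D23845) D23844 F77027 F50393 F50395 (iv1 D26185) (iv4 D12419) D12418 (iv1 F41545)
def n48890 : Q := act 1 n23840
theorem D48890 : act 1 n23840 = n48890 := rfl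
theorem F77048 : act 1 n48890 = n23845 := d15_1 D48890 (iv7 F77030) F77029
theorem F77049 : act 7 n48890 = n31971 := d15_2 (iv0 D48889) D48890 F77043
theorem F77050 : act 4 n26180 = n48890 := d20_0 (iv1 D48890) (iv4 D23840) D23839 F50302 (iv3 D15005) F20526 F12090 (iv4 F11509) (iv3 F24704) (iv1 F41540)
theorem F77051 : act 2 n48890 = n31933 := d1_1 F77050 (iv4 D31933) F41542
theorem F77052 : act 3 n48890 = n25478 := d5_1 F77050 (iv4 F41329) (iv3 D26121) (iv4 F24765) (iv3 F41541)
theorem F77053 : act 6 n48890 = n23873 := d10_2 F41543 F77050 (iv4 F37225)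
def n48891 : Q := act 3 n23840
theorem D48891 : act 3 n23840 = n48891 := rfl
theorem F77054 : act 4 n48891 = n23842 := d5_2 D23840 D48891 (iv3 F54299) (iv4 F54303) (iv3 D23839)
theorem F77055 : act 0 n48891 = n26155 := d20_4 F18046 D11175 D23840 D48891 F65418 F68150 (iv1 D43380) (iv4 F32614) (iv3 F41553) (iv1 D23746)
theorem F77056 : act 0 n26152 = n48891 := d20_4 D25512 F45975 D31833 F50127 (iv3 D48891) (iv4 D23840) D23837 (iv4 F50291) F50292 (iv1 F40339)
theorem E8141 : n32008 = n25511 := (c20_5 F77054 F50927 (iv4 D31942) F24719 (iv1 F50378) (iv3 D25511) D25512 F45975 D31833 F50127 F77056)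
theorem F77057 : act 0 n25511 = n15097 := (sb E8141 (iv1 D32008))
theorem F77058 : act 1 n25511 = n15102 := (sb E8141 F50378)
theorem F77059 : act 2 n31925 = n48891 := d1_3 F77054 (iv2 F77034) F77039
theorem F77060 : act 6 n23840 = n48891 := d10_0 F77054 (iv6 D23842) D23840
theorem F77061 : act 7 n28426 = n48891 := d11_0 F77054 F54298 D28426
def n48892 : Q := act 5 n23840
theorem D48892 : act 5 n23840 = n48892 := rfl
def n48893 : Q := act 7 n23840
theorem D48893 : act 7 n23840 = n48893 := rfl
theorem F77062 : act 2 n48893 = n23845 := d4_1 D48893 (iv7 F77030) F77029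
theorem F77063 : act 3 n48893 = n28426 := d8_1 D48893 F77061 (iv3 D48891)
theorem F77064 : act 4 n48893 = n23843 := d11_1 D48893 (iv7 D23843) D23840
theorem F77065 : act 1 n31933 = n48893 := d15_1 (iv0 F77032) (iv7 D48893) (iv2 F77029)
theorem F77066 : act 1 n48893 = n31971 := d15_1 F77065 (iv7 F77049) F77051
theorem F77067 : act 6 n46136 = n48893 := d21_3 (iv5 F68076) (iv1 F68079) (iv5 F72752) (iv1 F77065) F50259 D33017 (iv1 F55346) (iv5 D34959) D34960 F55601
def n48894 : Q := act 4 n23841
theorem D48894 : act 4 n23841 = n48894 := rfl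
def n48895 : Q := act 6 n23841
theorem D48895 : act 6 n23841 = n48895 := rfl
def n48896 : Q := act 5 n23842
theorem D48896 : act 5 n23842 = n48896 := rfl
theorem F77068 : act 2 n48896 = n34974 := d2_1 D48896 (iv5 F77037) F77034
theorem F77069 : act 3 n48896 = n28402 := d6_1 D48896 (iv5 D28402) F54299
theorem F77070 : act 7 n48896 = n28427 := d13_2 (iv7 F54298) D48896 (iv5 D28427)
theorem F77071 : act 0 n48896 = n34964 := d17_2 (iv1 F50928) D48896 (iv5 D34964) (iv4 F55187) (iv5 F55188) (iv0 D31947) (iv5 D15074) D15073 F26624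
theorem F77072 : act 0 n31885 = n48896 := d21_7 D48885 (iv1 F77020) F50935 (iv6 F55539) F55537 (iv6 F27828) (iv5 F50186) (iv5 D48896) (iv6 D23842) D23837
def n48897 : Q := act 2 n23844
theorem D48897 : act 2 n23844 = n48897 := rfl
theorem F77073 : act 3 n48897 = n28413 := d0_2 D23844 D48897 F45956 (iv3 F54296) F37179
theorem F77074 : act 7 n48897 = n28407 := d4_2 F77022 D48897 (iv2 F77021)
theorem F77075 : act 1 n48897 = n31826 := d15_0 (iv0 F77026) F77022 D48897
theorem F77076 : act 1 n26121 = n48897 := d15_0 F77075 (iv7 F50392) F50390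
theorem F77077 : act 4 n48897 = n25511 := d20_2 (iv4 F50119) (iv1 F77075) (iv3 D25511) (iv1 D12127) (iv3 D5751) (iv4 D2408) D2406 D5744 D12110 D25477
def n48898 : Q := act 4 n23844
theorem D48898 : act 4 n23844 = n48898 := rfl
theorem F77078 : act 2 n48898 = n25511 := d1_1 D48898 (iv4 F77077) (iv2 D48897)
theorem F77079 : act 7 n48898 = n25509 := d11_2 F77022 D48898 (iv4 F77023)
theorem F77080 : act 0 n48898 = n26140 := d20_1 D48898 (iv4 D26140) F26956 (iv1 D15141) D15142 (iv4 F24777) (iv1 F24795) (iv4 D14979) D14978 (iv1 F77028)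
theorem F77081 : act 0 n26138 = n48898 := d20_10 (iv4 D48898) F77027 (iv4 D32021) D32020 (iv1 F65415) F65309 F36963 F18632 D15014 (iv3 F41418)
def n48899 : Q := act 5 n23844
theorem D48899 : act 5 n23844 = n48899 := rfl
theorem F77082 : act 3 n48899 = n23846 := d6_1 D48899 (iv5 D23846) D23844
def n48900 : Q := act 6 n23844
theorem D48900 : act 6 n23844 = n48900 := rfl
theorem F77083 : act 3 n48900 = n23847 := d7_1 D48900 (iv6 D23847) D23844
def n48901 : Q := act 3 n23845
theorem D48901 : act 3 n23845 = n48901 := rfl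
theorem F77084 : act 7 n48901 = n23951 := d8_2 F77030 D48901 F77033
theorem F77085 : act 0 n48901 = n23953 := d20_4 F50291 (iv1 F37176) D23845 D48901 F37400 F37346 (iv1 D13548) (iv4 F20053) (iv3 F24700) D31951
theorem F77086 : act 0 n23955 = n48901 := d20_4 F18038 (iv1 F7678) (iv4 F18231) (iv3 F37404) (iv3 D48901) (iv4 D23845) (iv1 D11176) (iv4 F18046) (iv3 D11122) D11120
def n48902 : Q := act 5 n23845
theorem D48902 : act 5 n23845 = n48902 := rfl
def n48903 : Q := act 6 n23845
theorem D48903 : act 6 n23845 = n48903 := rfl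
theorem F77087 : act 2 n48903 = n46136 := d3_1 D48903 F77067 F77062
theorem F77088 : act 4 n48903 = n23847 := d10_1 D48903 (iv6 D23847) D23845
theorem F77089 : act 7 n46135 = n48903 := d11_0 F77088 F54293 (iv4 F72751)
theorem F77090 : act 5 n43350 = n48903 := d16_1 (iv4 F68064) F77088 (iv5 F55710) F55711 (iv5 D33631) (iv4 F52913) F52914 (iv7 F73429) F73427
theorem F77091 : act 1 n33124 = n48903 := d17_8 F54290 (iv5 F41813) F55705 (iv5 D35078) D35077 (iv5 F64151) (iv0 F64154) (iv5 F55483) F77088
theorem F77092 : act 0 n41563 = n48903 := d20_10 F77088 F54290 D31918 F50223 (iv1 F31843) F31841 F14661 (iv1 F16712) (iv4 F31339) (iv3 F64160)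
theorem F77093 : act 0 n29219 = n48900 := d20_4 (iv4 F51057) F54352 F46880 (iv3 F46872) F77083 (iv4 F77088) (iv1 F77091) F52353 (iv3 F54355) (iv1 F51062)
def n48904 : Q := act 4 n23846
theorem D48904 : act 4 n23846 = n48904 := rfl
def n48905 : Q := act 6 n23846
theorem D48905 : act 6 n23846 = n48905 := rfl
def n48906 : Q := act 0 n23850
theorem D48906 : act 0 n23850 = n48906 := rfl
theorem F77094 : act 1 n23855 = n48906 := d15_0 (iv0 D48906) (iv7 F77013) F77011
theorem F77095 : act 5 n25288 = n48906 := d21_0 (iv1 F77094) F37188 (iv6 F27652) F50934 (iv6 D13622) D13621 D28568 F46147 (iv6 F27755) (iv1 F39937)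
theorem F77096 : act 2 n48906 = n23851 := d2_1 F77095 F77016 (iv2 F55535)
theorem F77097 : act 7 n48906 = n23852 := d13_2 (iv7 F55536) F77095 F50935
theorem F77098 : act 6 n25288 = n35086 := d21_3 D23850 D48906 (iv5 F77095) (iv1 D35086) (iv6 D17033) D17032 D35081 F55725 (iv6 F54297) F54294
theorem F77099 : act 2 n35086 = n31566 := d3_1 F77098 (iv6 D31566) (iv2 F55535)
theorem F77100 : act 7 n35086 = n24308 := d14_2 (iv7 F55536) F77098 (iv6 D24308) F38093 F55539
theorem F77101 : act 5 n35086 = n32919 := d21_6 D13621 D28568 F46147 (iv6 F27755) (iv1 F39937) F77098 (iv1 D32919) (iv5 D15852) (iv6 F26439) F25452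
theorem F77102 : act 2 n24308 = n35085 := d15_3 (iv0 D35085) D35086 F77100
theorem F77103 : act 7 n31566 = n35085 := d4_2 (iv7 F77100) F77099 (iv2 F77102)
theorem E8142 : n31679 = n24308 := (c15_2 F77018 D31679 (iv7 F77100) F77099)
theorem F77104 : act 0 n24308 = n14894 := (sb E8142 (iv1 D31679))
theorem F77105 : act 1 n24308 = n35080 := (sb E8142 F55724)
theorem F77106 : act 0 n24307 = n29730 := d21_7 (iv5 F55718) (iv1 F55717) (iv5 D35079) D35080 (iv1 F77105) (iv6 D24308) D24307 (iv5 D29730) (iv6 F26911) (iv1 F54174)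
theorem F77107 : act 6 n35085 = n24304 := d14_1 F77103 (iv7 D24304) D24303 F55534 D31566
theorem F77108 : act 5 n32918 = n35085 := d21_2 D15852 D32918 F77107 F55505 F18711 D15314 (iv1 F43062) (iv5 D11191) D11192 (iv1 F50900)
def n48907 : Q := act 1 n23850
theorem D48907 : act 1 n23850 = n48907 := rfl
theorem F77109 : act 1 n48907 = n23855 := d15_1 D48907 (iv7 D23855) (iv2 F37183)
theorem F77110 : act 7 n48907 = n23851 := d15_2 (iv0 D48906) D48907 (iv2 F77096)
theorem F77111 : act 3 n32179 = n48907 := d20_3 D32064 (iv1 F50687) D32179 (iv1 D48907) F37184 D28447 (iv1 F51116) (iv4 D32151) (iv3 D15177) (iv1 F24737)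
theorem F77112 : act 5 n24303 = n48907 := d21_0 (iv1 D48907) (iv5 D23850) F18139 (iv1 F12436) F54238 D29691 F54234 F23614 F22374 (iv1 F54268)
theorem F77113 : act 2 n48907 = n23852 := d2_1 F77112 F50935 (iv2 F55533)
def n48908 : Q := act 4 n23850
theorem D48908 : act 4 n23850 = n48908 := rfl
theorem F77114 : act 2 n48908 = n23853 := d1_1 D48908 (iv4 D23853) (iv2 F37183)
def n48909 : Q := act 6 n23850
theorem D48909 : act 6 n23850 = n48909 := rfl
theorem F77115 : act 2 n48909 = n23854 := d3_1 D48909 (iv6 D23854) (iv2 F37183)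
theorem F77116 : act 3 n48909 = n28448 := d7_1 D48909 (iv6 D28448) (iv3 F37184)
theorem F77117 : act 5 n48909 = n23899 := d12_1 D48909 (iv6 D23899) (iv5 D11193) (iv6 F18139) D23850
def n48910 : Q := act 3 n23851
theorem D48910 : act 3 n23851 = n48910 := rfl
theorem F77118 : act 5 n48910 = n31552 := d6_2 (iv5 F77016) D48910 F49888
theorem F77119 : act 7 n48910 = n32179 := d8_2 F77110 D48910 F77111
theorem F77120 : act 4 n48910 = n32142 := d20_6 (iv4 F20365) F20366 (iv4 D11180) (iv3 F18140) D23851 D48910 (iv1 F51098) F24811 F11528 (iv1 F9162)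
theorem E8143 : n32172 = n32142 := ((c11_2 (iv7 F77119) F77120 (iv7 F51133) D32179)).symm
theorem F77121 : act 2 n32142 = n15186 := (sb E8143 (iv2 D32172))
theorem F77122 : act 7 n32142 = n15187 := (sb E8143 (iv7 F51133))
theorem F77123 : act 2 n48910 = n32174 := d1_1 (iv4 F77120) (iv4 D32174) (iv2 F77121)
theorem E8144 : n32177 = n32143 := (c15_4 F51099 F51098 F77122 (iv2 F51135))
theorem F77124 : act 2 n32143 = n15187 := (sb E8144 F51135)
theorem F77125 : act 7 n32143 = n15186 := (sb E8144 (iv7 D32177))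
theorem F77126 : act 1 n31802 = n48910 := d17_6 (iv1 F49874) (iv5 F51109) (iv1 F51111) (iv5 D32084) (iv4 F26587) (iv5 F50105) F77118 F50151 (iv4 F27138)
def n48911 : Q := act 4 n23851
theorem D48911 : act 4 n23851 = n48911 := rfl
def n48912 : Q := act 6 n23851
theorem D48912 : act 6 n23851 = n48912 := rfl
def n48913 : Q := act 3 n23852
theorem D48913 : act 3 n23852 = n48913 := rfl
theorem F77127 : act 5 n48913 = n31568 := d6_2 (iv5 F50935) D48913 (iv3 D31568)
def n48914 : Q := act 4 n23852
theorem D48914 : act 4 n23852 = n48914 := rfl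
def n48915 : Q := act 6 n23852
theorem D48915 : act 6 n23852 = n48915 := rfl
def n48916 : Q := act 0 n23853
theorem D48916 : act 0 n23853 = n48916 := rfl
theorem F77128 : act 4 n48916 = n34402 := d18_3 (iv1 D23852) D23853 D48916 (iv5 D34402) (iv4 F49900) (iv0 D31573) (iv4 D14866) D14864 (iv5 F50935)
def n48917 : Q := act 1 n23853
theorem D48917 : act 1 n23853 = n48917 := rfl
def n48918 : Q := act 3 n23853
theorem D48918 : act 3 n23853 = n48918 := rfl
theorem F77129 : act 4 n48918 = n23856 := d5_2 D23853 D48918 (iv3 D23856) (iv4 D11180) (iv3 F18140)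
theorem F77130 : act 7 n28342 = n48918 := d11_0 F77129 F37190 D28342
def n48919 : Q := act 5 n23853
theorem D48919 : act 5 n23853 = n48919 := rfl
def n48920 : Q := act 6 n23853
theorem D48920 : act 6 n23853 = n48920 := rfl
theorem F77131 : act 4 n48920 = n23854 := d10_1 D48920 (iv6 D23854) D23853
def n48921 : Q := act 7 n23853
theorem D48921 : act 7 n23853 = n48921 := rfl
theorem F77132 : act 3 n48921 = n28342 := d8_1 D48921 F77130 (iv3 D48918)
theorem F77133 : act 4 n48921 = n23855 := d11_1 D48921 (iv7 D23855) D23853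
def n48922 : Q := act 0 n23854
theorem D48922 : act 0 n23854 = n48922 := rfl
def n48923 : Q := act 1 n23854
theorem D48923 : act 1 n23854 = n48923 := rfl
def n48924 : Q := act 7 n23854
theorem D48924 : act 7 n23854 = n48924 := rfl
theorem F77134 : act 3 n48924 = n23860 := d8_1 D48924 (iv7 D23860) (iv3 F37185)
theorem F77135 : act 5 n48924 = n23913 := d13_1 D48924 (iv7 D23913) (iv5 F37186)
def n48925 : Q := act 6 n23855
theorem D48925 : act 6 n23855 = n48925 := rfl
theorem F77136 : act 3 n48925 = n23861 := d7_1 D48925 (iv6 D23861) (iv3 F37187)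
def n48926 : Q := act 0 n23856
theorem D48926 : act 0 n23856 = n48926 := rfl
theorem F77137 : act 1 n28339 = n48926 := d15_0 (iv0 D48926) F37190 (iv2 F45842)
def n48927 : Q := act 1 n23856
theorem D48927 : act 1 n23856 = n48927 := rfl
def n48928 : Q := act 2 n23856
theorem D48928 : act 2 n23856 = n48928 := rfl
theorem F77138 : act 3 n48928 = n28474 := d0_2 D23856 D48928 (iv2 D28474) (iv3 D13573) (iv2 F18142)
theorem F77139 : act 5 n48928 = n28326 := d2_2 (iv5 F37189) D48928 (iv2 F45835)
theorem F77140 : act 7 n48928 = n28339 := d4_2 (iv7 F37190) D48928 F45842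
theorem F77141 : act 1 n48928 = n28340 := d15_0 (iv0 D28340) (iv7 F37190) D48928
theorem F77142 : act 1 n48927 = n28339 := d15_1 D48927 (iv7 F77140) (iv2 D48928)
theorem F77143 : act 1 n28341 = n48928 := d15_1 D28341 F77140 F45842
def n48929 : Q := act 6 n23856
theorem D48929 : act 6 n23856 = n48929 := rfl
theorem F77144 : act 3 n48929 = n23857 := d7_1 D48929 (iv6 D23857) D23856
def n48930 : Q := act 5 n23857
theorem D48930 : act 5 n23857 = n48930 := rfl
theorem F77146 : act 6 n48930 = n28350 := d12_2 D23857 D48930 (iv5 D28350) (iv6 D13524) (iv5 F18143)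
def n48931 : Q := act 3 n23858
theorem D48931 : act 3 n23858 = n48931 := rfl
theorem F77147 : act 7 n48931 = n28482 := d8_2 (iv7 F43199) D48931 (iv3 D28482)
def n48932 : Q := act 6 n23858
theorem D48932 : act 6 n23858 = n48932 := rfl
theorem F77148 : act 2 n48932 = n28481 := d3_1 D48932 (iv6 D28481) (iv2 F43201)
theorem F77149 : act 4 n48932 = n32280 := d10_1 D48932 (iv6 D32280) F41661
theorem F77150 : act 5 n48932 = n32671 := d12_1 D48932 (iv6 F56339) F56338 (iv6 F57685) F57683
def n48933 : Q := act 3 n23859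
theorem D48933 : act 3 n23859 = n48933 := rfl
theorem F77151 : act 5 n48933 = n34742 := d6_2 F37194 D48933 F54969
theorem F77152 : act 7 n48933 = n28479 := d8_2 F43200 D48933 (iv3 D28479)
def n48934 : Q := act 6 n23859
theorem D48934 : act 6 n23859 = n48934 := rfl
theorem F77153 : act 2 n48934 = n28483 := d3_1 D48934 (iv6 D28483) F43197
theorem F77154 : act 4 n48934 = n32283 := d10_1 D48934 (iv6 D32283) F37328
theorem F77155 : act 5 n48934 = n34745 := d12_1 D48934 (iv6 D34745) (iv5 D16825) D16826 F37194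
theorem F77156 : act 0 n31871 = n34745 := d21_1 D31871 (iv5 F77155) (iv6 D48934) (iv1 D23859) (iv6 D11181) (iv5 D5119) F5189 D3285 D7137 D15001
def n48935 : Q := act 6 n23860
theorem D48935 : act 6 n23860 = n48935 := rfl
theorem F77157 : act 2 n48935 = n28484 := d3_1 D48935 (iv6 D28484) (iv2 F37196)
theorem F77158 : act 4 n48935 = n28347 := d10_1 D48935 F51215 F51212
theorem F77159 : act 5 n48935 = n39590 := d12_1 D48935 (iv6 D39590) (iv5 D18743) (iv6 F30051) (iv5 F37197)
theorem F77160 : act 7 n48935 = n23861 := d14_2 D23860 D48935 (iv6 D23861) (iv7 D11182) D11181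
theorem F77161 : act 1 n28486 = n48935 := d15_1 D28486 F77160 F37201
theorem F77162 : act 1 n48935 = n28485 := d15_0 (iv0 D28485) (iv7 F46006) (iv2 F77157)
def n48936 : Q := act 0 n23861
theorem D48936 : act 0 n23861 = n48936 := rfl
theorem F77163 : act 1 n28484 = n48936 := d15_0 (iv0 D48936) (iv7 F77160) F77157
def n48937 : Q := act 1 n23861
theorem D48937 : act 1 n23861 = n48937 := rfl
theorem F77164 : act 1 n48937 = n28484 := d15_1 D48937 F46006 (iv2 F37201)
def n48938 : Q := act 6 n23869
theorem D48938 : act 6 n23869 = n48938 := rfl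
theorem F77165 : act 2 n48938 = n28525 := d3_1 D48938 (iv6 D28525) (iv2 F37267)
theorem F77166 : act 3 n48938 = n23880 := d7_1 D48938 (iv6 D23880) (iv3 F37213)
theorem F77167 : act 4 n48938 = n34366 := d10_1 D48938 (iv6 D34366) (iv4 F43055)
def n48939 : Q := act 5 n23870
theorem D48939 : act 5 n23870 = n48939 := rfl
theorem F77168 : act 2 n48939 = n24399 := d2_1 D48939 F50859 (iv2 F37258)
theorem F77169 : act 3 n48939 = n23883 := d6_1 D48939 (iv5 D23883) (iv3 F37215)
theorem F77170 : act 7 n48939 = n24400 := d13_2 F54223 D48939 (iv5 F54240)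
theorem F77172 : act 1 n48939 = n24398 := d17_6 (iv1 F45532) (iv5 F47828) (iv1 F50847) (iv5 D28511) F37257 D48939 (iv5 D24398) (iv0 F55496) F55499
def n48940 : Q := act 5 n23872
theorem D48940 : act 5 n23872 = n48940 := rfl
theorem F77173 : act 2 n48940 = n33219 := d2_1 D48940 (iv5 D33219) F37221
theorem F77174 : act 7 n48940 = n33017 := d13_2 F37222 D48940 (iv5 D33017)
theorem F77175 : act 0 n48940 = n32410 := d17_2 D23872 D48940 (iv5 D32410) (iv4 D15310) (iv5 F37308) F18161 F13868 F12435 D11185
theorem F77176 : act 1 n48940 = n32405 := d17_6 (iv1 F26784) (iv5 F27028) (iv1 F42225) (iv5 D26424) (iv4 F37220) D48940 (iv5 D32405) (iv0 F40396) F40390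
def n48941 : Q := act 6 n23872
theorem D48941 : act 6 n23872 = n48941 := rfl
theorem F77177 : act 2 n48941 = n26457 := d3_1 D48941 F42317 F37221
theorem F77178 : act 4 n48941 = n26425 := d10_1 D48941 (iv6 D26425) (iv4 F37220)
theorem F77179 : act 7 n48941 = n26459 := d14_2 F37222 D48941 F77045 (iv7 F77046) F50259
theorem F77180 : act 0 n28567 = n48941 := d21_4 D26999 (iv1 F46144) (iv5 D28566) D28567 (iv6 D48941) D48940 F77175 (iv5 D32410) (iv6 F50910) (iv1 D26998)
theorem F77181 : act 3 n25605 = n48941 := d20_5 (iv4 D12181) (iv1 D5774) (iv4 F8893) (iv3 F20174) D25605 F77178 (iv1 F42262) (iv4 F42298) F42297 (iv1 F27330)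
theorem F77182 : act 4 n25605 = n48719 := d5_2 (iv4 F77178) (iv3 F77181) F76704 F42235 (iv3 F42227)
theorem F77183 : act 6 n48718 = n25605 := d10_0 F77182 (iv6 D48719) D48718
def n48942 : Q := act 5 n23873
theorem D48942 : act 5 n23873 = n48942 := rfl
theorem F77184 : act 2 n48942 = n33017 := d2_1 D48942 (iv5 D33017) (iv2 F37226)
theorem F77185 : act 3 n48942 = n25550 := d6_1 D48942 F40409 (iv3 F37227)
theorem F77186 : act 7 n48942 = n33219 := d13_2 (iv7 F37224) D48942 (iv5 D33219)
theorem F77187 : act 0 n48942 = n32405 := d17_2 (iv1 F37223) D48942 (iv5 D32405) (iv4 D15305) (iv5 F30279) (iv0 D11194) (iv5 D5124) D5122 D11190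
theorem F77188 : act 1 n48942 = n32410 := d17_6 F27250 D12938 F42379 (iv5 D26485) F37225 D48942 (iv5 D32410) (iv0 F43624) (iv4 D27005)
def n48943 : Q := act 6 n23874
theorem D48943 : act 6 n23874 = n48943 := rfl
theorem F77189 : act 2 n48943 = n33000 := d3_1 D48943 (iv6 D33000) (iv2 F37281)
theorem F77190 : act 3 n48943 = n23876 := d7_1 D48943 (iv6 D23876) D23874
theorem F77191 : act 4 n48943 = n28506 := d10_1 D48943 (iv6 D28506) (iv4 F37275)
theorem F77192 : act 7 n48943 = n33121 := d14_2 (iv7 F37276) D48943 (iv6 F55075) F55076 (iv6 D28567)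
theorem F77193 : act 0 n48943 = n33042 := d21_4 D16980 D34981 F55408 D48943 F55478 (iv5 D22070) D22067 (iv5 F51637) F54156 (iv1 D16978)
theorem F77194 : act 1 n48943 = n33045 := d15_1 (iv0 F77193) F52250 (iv2 F52240)
def n48944 : Q := act 4 n23875
theorem D48944 : act 4 n23875 = n48944 := rfl
theorem F77195 : act 2 n48944 = n35099 := d1_1 D48944 F55770 F55058
theorem F77196 : act 1 n48944 = n34890 := d18_6 (iv1 D11134) F7576 D5121 D11185 D23875 D48944 (iv4 D34890) F43063 (iv5 D23774)
def n48945 : Q := act 6 n23875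
theorem D48945 : act 6 n23875 = n48945 := rfl
def n48946 : Q := act 0 n23876
theorem D48946 : act 0 n23876 = n48946 := rfl
theorem F77197 : act 4 n48946 = n24287 := d20_2 (iv4 F37282) D48946 (iv3 F50595) (iv1 F25401) F11730 F5409 (iv1 F4377) F5106 D6603 F54068
theorem F77198 : act 3 n48946 = n41565 := d20_5 (iv4 F26985) (iv1 F54047) (iv4 F77191) F77190 D48946 F64164 F69001 (iv4 D43884) F65518 (iv1 F52226)
theorem F77199 : act 6 n48946 = n41563 := d21_5 D35917 F56590 (iv5 D23875) D23876 D48946 (iv5 D41563) D41560 F64147 (iv6 D34960) F28348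
theorem F77200 : act 1 n29189 = n48946 := d15_0 (iv0 D48946) (iv7 F54256) (iv2 F54257)
theorem F77201 : act 7 n33129 = n48946 := d14_0 F77199 F64161 (iv6 F55478) F52241 (iv6 F52362)
def n48947 : Q := act 1 n23876
theorem D48947 : act 1 n23876 = n48947 := rfl
theorem F77202 : act 1 n48947 = n29189 := d15_1 D48947 F54255 (iv2 F54245)
theorem F77203 : act 4 n24286 = n48947 := d20_0 (iv1 D48947) F37282 (iv3 F37215) F54048 (iv3 D16573) F11973 (iv1 F7939) D5325 D11436 D24286
theorem F77204 : act 2 n48947 = n33129 := d1_1 F77203 (iv4 D33129) F50588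
theorem F77205 : act 3 n48947 = n25309 := d5_1 F77203 (iv4 F50577) F46873 (iv4 F46882) F50579
theorem F77206 : act 6 n48947 = n33045 := d10_2 (iv6 F50580) F77203 (iv4 D33045)
theorem E8145 : n29214 = n29188 := (c20_5 F25674 (iv1 F53959) (iv4 D13897) D13896 D29214 (iv3 D29188) D29189 (iv1 F77202) (iv4 F77203) (iv3 F50579) (iv1 F53950))
theorem F77207 : act 1 n29188 = n13896 := (sb E8145 (iv0 D29214))
def n48948 : Q := act 5 n23876
theorem D48948 : act 5 n23876 = n48948 := rfl
def n48949 : Q := act 1 n23879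
theorem D48949 : act 1 n23879 = n48949 := rfl
theorem F77208 : act 1 n48949 = n23892 := d15_1 D48949 (iv7 F51481) F51480
theorem F77209 : act 4 n48949 = n26491 := d18_7 (iv1 F42218) F37225 (iv1 D23873) (iv4 D11185) D11186 D23879 D48949 (iv0 F51796) F51794
theorem F77210 : act 2 n33081 = n48949 := d1_3 F77209 (iv2 F42392) D33081
theorem F77211 : act 3 n40007 = n48949 := d5_5 F77209 (iv3 F42393) (iv4 F41994) (iv3 F73775) (iv4 F73779)
def n48950 : Q := act 3 n23879
theorem D48950 : act 3 n23879 = n48950 := rfl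
theorem F77212 : act 4 n48950 = n34365 := d5_2 D23879 D48950 (iv3 D34365) (iv4 F43055) F37213
theorem F77213 : act 7 n48950 = n33097 := d8_2 F51474 D48950 (iv3 F52320)
theorem F77214 : act 0 n48950 = n26451 := d19_4 D5121 D11186 D23879 D48950 (iv5 D26451) (iv4 D12625) F9315 F4024 F2723 (iv4 D1471) D1470 F2583 (iv5 D868) (iv4 F1378) (iv3 D721) F994 D658 D1041 D2109
theorem F77215 : act 5 n26632 = n48950 := d17_1 (iv1 F42676) F77214 (iv5 D26451) (iv4 D12625) (iv5 D5993) D5990 D12614 F27277 D16319
theorem F77216 : act 2 n48950 = n33096 := d2_1 F77215 F52318 (iv2 F42680)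
theorem F77217 : act 1 n48950 = n33036 := d17_6 (iv1 F51729) F51731 F40581 (iv5 F41697) F42677 F77215 (iv5 D33036) F42301 (iv4 F46148)
def n48951 : Q := act 5 n23879
theorem D48951 : act 5 n23879 = n48951 := rfl
theorem F77218 : act 3 n48951 = n26632 := d6_1 D48951 F77215 (iv3 D48950)
theorem F77219 : act 7 n48951 = n33769 := d13_2 F51474 D48951 F53010
theorem F77220 : act 4 n48951 = n35985 := d16_2 D23879 D48951 F56701 F51628 (iv5 D23890) (iv4 D11190) D11191 (iv7 F43052) F43050
def n48952 : Q := act 6 n23879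
theorem D48952 : act 6 n23879 = n48952 := rfl
theorem F77221 : act 4 n48952 = n23880 := d10_1 D48952 (iv6 D23880) D23879
def n48953 : Q := act 0 n23880
theorem D48953 : act 0 n23880 = n48953 := rfl
def n48954 : Q := act 1 n23880
theorem D48954 : act 1 n23880 = n48954 := rfl
def n48955 : Q := act 5 n23880
theorem D48955 : act 5 n23880 = n48955 := rfl
theorem F77222 : act 6 n48955 = n23883 := d12_2 D23880 D48955 (iv5 D23883) (iv6 D11187) D11186
def n48956 : Q := act 7 n23880
theorem D48956 : act 7 n23880 = n48956 := rfl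
def n48957 : Q := act 4 n23883
theorem D48957 : act 4 n23883 = n48957 := rfl
def n48958 : Q := act 6 n23885
theorem D48958 : act 6 n23885 = n48958 := rfl
theorem F77223 : act 2 n48958 = n23888 := d3_1 D48958 (iv6 D23888) D23885
theorem F77224 : act 3 n48958 = n28469 := d7_1 D48958 F50871 (iv3 F37285)
theorem F77225 : act 4 n48958 = n25682 := d10_1 D48958 (iv6 D25682) (iv4 F37289)
theorem F77226 : act 0 n48958 = n26327 := d21_4 (iv5 F51848) (iv1 F51851) F51501 D48958 (iv6 D26327) (iv5 F41920) (iv1 F41922) F41890 F50913 F40394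
theorem F77227 : act 7 n28661 = n48958 := d8_0 F77224 F50872 D28661
def n48959 : Q := act 3 n23886
theorem D48959 : act 3 n23886 = n48959 := rfl
theorem F77228 : act 2 n48959 = n23971 := d0_1 D48959 F37452 F20199 D12200 (iv2 F37290)
theorem F77229 : act 4 n48959 = n23889 := d5_2 D23886 D48959 (iv3 D23889) (iv4 D11190) D11189
theorem F77230 : act 7 n48959 = n23967 := d8_2 (iv7 F37291) D48959 F37444
theorem F77231 : act 0 n48959 = n25664 := d20_4 (iv4 F11745) (iv1 F37230) D23886 D48959 (iv3 F40571) (iv4 D25632) (iv1 F25391) (iv4 F37029) F37028 (iv1 F20168)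
theorem F77232 : act 0 n25636 = n48959 := d20_4 (iv4 F69415) F69417 (iv4 D25637) D25636 (iv3 D48959) (iv4 D23886) F37229 (iv4 D16036) D16035 F42415
def n48960 : Q := act 6 n23886
theorem D48960 : act 6 n23886 = n48960 := rfl
theorem F77233 : act 2 n48960 = n25682 := d3_1 D48960 (iv6 D25682) (iv2 F37290)
theorem F77234 : act 4 n48960 = n23888 := d10_1 D48960 (iv6 D23888) D23886
theorem F77235 : act 0 n48960 = n25659 := d21_4 D17409 D35956 F56641 D48960 (iv6 D25659) D25658 (iv1 F40554) (iv5 F27035) (iv6 F50917) (iv1 D17408)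
theorem F77236 : act 1 n48960 = n25523 := d15_1 (iv0 F77235) F40356 (iv2 F40557)
theorem F77237 : act 0 n25598 = n34819 := d20_4 F77234 (iv1 F52479) (iv4 D33238) (iv3 F50255) (iv3 D34819) (iv4 D16872) F12412 (iv4 F20065) (iv3 F40354) (iv1 F77236)
theorem F77238 : act 7 n25713 = n48960 := d15_2 F50919 F40631 F77233
def n48961 : Q := act 6 n23887
theorem D48961 : act 6 n23887 = n48961 := rfl
theorem F77239 : act 3 n48961 = n23893 := d7_1 D48961 (iv6 D23893) (iv3 F37294)
def n48962 : Q := act 5 n23888
theorem D48962 : act 5 n23888 = n48962 := rfl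
theorem F77240 : act 3 n48962 = n23896 := d6_1 D48962 (iv5 D23896) (iv3 F37295)
def n48963 : Q := act 7 n23888
theorem D48963 : act 7 n23888 = n48963 := rfl
theorem F77241 : act 2 n48963 = n28661 := d4_1 D48963 F77227 F77223
theorem F77242 : act 3 n48963 = n23897 := d8_1 D48963 (iv7 D23897) (iv3 F37295)
theorem F77243 : act 4 n48963 = n25713 := d11_1 D48963 F77238 F77234
theorem F77244 : act 6 n48963 = n29188 := d14_1 D48963 F54254 F54242 F37234 D23888
theorem F77245 : act 0 n26327 = n48963 := d20_10 F77243 (iv1 F40631) (iv4 D16075) (iv3 F26872) (iv1 F24740) (iv3 F50777) F25721 (iv1 F50997) F25370 (iv3 F41982)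
def n48964 : Q := act 6 n23889
theorem D48964 : act 6 n23889 = n48964 := rfl
theorem F77246 : act 2 n48964 = n23973 := d3_1 D48964 (iv6 D23973) (iv2 F37437)
theorem F77247 : act 3 n48964 = n23891 := d7_1 D48964 (iv6 D23891) D23889
theorem F77248 : act 0 n48964 = n23980 := d21_4 D16915 F54194 F51621 D48964 (iv6 D23980) (iv5 F37458) F51663 F51649 F50912 (iv1 D16913)
theorem F77249 : act 1 n48964 = n25614 := d15_1 (iv0 F77248) (iv7 F46023) F46020
def n48965 : Q := act 6 n23890
theorem D48965 : act 6 n23890 = n48965 := rfl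
def n48966 : Q := act 1 n23891
theorem D48966 : act 1 n23891 = n48966 := rfl
theorem F77250 : act 1 n48966 = n32914 := d15_1 D48966 (iv7 F55050) F55047
theorem F77251 : act 7 n48966 = n26427 := d15_2 (iv0 F51154) D48966 F42234
theorem F77252 : act 4 n26157 = n48966 := d20_6 (iv4 D33238) (iv1 F42597) (iv4 D26603) (iv3 F42266) (iv1 F42268) (iv3 F42230) (iv1 D48966) F37299 (iv3 F37295) (iv1 F52479)
theorem F77253 : act 2 n48966 = n31927 := d1_1 F77252 F50248 (iv2 F41477)
theorem F77254 : act 6 n48966 = n26155 := d10_2 D26157 F77252 (iv4 D26155)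
def n48967 : Q := act 5 n23891
theorem D48967 : act 5 n23891 = n48967 := rfl
def n48968 : Q := act 7 n23891
theorem D48968 : act 7 n23891 = n48968 := rfl
theorem F77255 : act 2 n48968 = n32914 := d4_1 D48968 (iv7 F55050) F55047
theorem F77256 : act 4 n48968 = n23897 := d11_1 D48968 (iv7 D23897) (iv4 F37299)
theorem F77257 : act 6 n48968 = n29189 := d14_1 D48968 F54255 F54243 F37236 D23891
theorem F77258 : act 1 n31927 = n48968 := d15_1 (iv0 F55051) (iv7 D48968) (iv2 F55047)
theorem F77259 : act 1 n48968 = n26427 := d15_1 F77258 (iv7 F77251) F77253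
def n48969 : Q := act 3 n23892
theorem D48969 : act 3 n23892 = n48969 := rfl
theorem F77260 : act 0 n39983 = n48969 := d20_4 F28069 (iv1 F21821) (iv4 F30189) D39983 (iv3 D48969) (iv4 D23892) F43061 D15704 F25197 D17123
def n48970 : Q := act 5 n23892
theorem D48970 : act 5 n23892 = n48970 := rfl
theorem F77261 : act 2 n48970 = n33769 := d2_1 D48970 F53010 F51473
def n48971 : Q := act 6 n23892
theorem D48971 : act 6 n23892 = n48971 := rfl
theorem F77262 : act 4 n48971 = n23893 := d10_1 D48971 (iv6 D23893) D23892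
def n48972 : Q := act 0 n23893
theorem D48972 : act 0 n23893 = n48972 := rfl
def n48973 : Q := act 1 n23893
theorem D48973 : act 1 n23893 = n48973 := rfl
def n48974 : Q := act 5 n23893
theorem D48974 : act 5 n23893 = n48974 := rfl
theorem F77263 : act 6 n48974 = n23896 := d12_2 D23893 D48974 (iv5 D23896) (iv6 D11192) D11191
def n48975 : Q := act 7 n23893
theorem D48975 : act 7 n23893 = n48975 := rfl
def n48976 : Q := act 5 n23895
theorem D48976 : act 5 n23895 = n48976 := rfl
theorem F77264 : act 2 n48976 = n26358 := d2_1 D48976 (iv5 D26358) (iv2 F50895)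
theorem F77265 : act 3 n48976 = n28595 := d6_1 D48976 (iv5 D28595) (iv3 F50896)
theorem F77266 : act 7 n48976 = n32916 := d13_2 (iv7 F50899) D48976 (iv5 D32916)
theorem F77267 : act 0 n48976 = n32919 := d21_1 D48976 (iv5 F77101) (iv6 F77098) (iv1 D25288) (iv6 F22374) (iv5 F23614) (iv1 F54227) (iv5 D29686) (iv6 F54230) (iv1 F50894)
theorem F77268 : act 0 n32918 = n48976 := d21_1 (iv5 F77108) (iv5 D48976) F50898 (iv1 F54333) (iv6 F54202) (iv5 F55732) (iv1 D35082) (iv5 D17032) D17033 D35085
def n48977 : Q := act 1 n23896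
theorem D48977 : act 1 n23896 = n48977 := rfl
theorem F77269 : act 1 n48977 = n32915 := d15_1 D48977 (iv7 F55055) F55053
theorem F77270 : act 7 n48977 = n32939 := d15_2 (iv0 F53311) D48977 (iv2 D32939)
theorem F77271 : act 5 n35080 = n48977 := d21_0 (iv1 D48977) (iv5 D23896) (iv6 D11192) (iv1 D5122) (iv6 F7632) D11178 D23851 F77016 D31566 F77017
theorem F77272 : act 2 n48977 = n26363 := d2_1 F77271 F42058 (iv2 F55720)
theorem F77273 : act 3 n48977 = n28598 := d6_1 F77271 F54161 (iv3 F55721)
theorem E8146 : n32937 = n32915 := ((c15_1 F77269 (iv0 D32937) (iv7 F42059) (iv2 F77272))).symm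
theorem F77274 : act 1 n32915 = n15862 := (sb E8146 (iv0 D32937))
def n48978 : Q := act 4 n23896
theorem D48978 : act 4 n23896 = n48978 := rfl
def n48979 : Q := act 7 n23896
theorem D48979 : act 7 n23896 = n48979 := rfl
theorem F77275 : act 2 n48979 = n32915 := d4_1 D48979 (iv7 F55055) F55053
theorem F77276 : act 5 n48979 = n23897 := d13_1 D48979 (iv7 D23897) D23896
theorem F77277 : act 1 n26363 = n48979 := d15_1 (iv0 F55056) (iv7 D48979) (iv2 F55053)
theorem F77278 : act 1 n48979 = n32939 := d15_1 F77277 (iv7 F77270) F77272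
def n48980 : Q := act 3 n23898
theorem D48980 : act 3 n23898 = n48980 := rfl
theorem F77279 : act 2 n48980 = n39976 := d0_1 D48980 (iv3 D39976) F30178 (iv3 F18162) (iv2 F37300)
theorem F77280 : act 4 n48980 = n28607 := d5_2 D23898 D48980 (iv3 D28607) (iv4 D13641) (iv3 F18156)
theorem F77281 : act 5 n48980 = n41139 := d6_2 F56835 D48980 F62348
theorem F77282 : act 7 n48980 = n40047 := d8_2 (iv7 F37301) D48980 F60927
theorem F77283 : act 1 n40046 = n48980 := d15_1 D40046 F77282 (iv2 D40047)
theorem F77284 : act 1 n48980 = n40045 := d15_0 (iv0 D40045) (iv7 F60842) (iv2 F77279)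
def n48981 : Q := act 6 n23898
theorem D48981 : act 6 n23898 = n48981 := rfl
theorem F77285 : act 2 n48981 = n23910 := d3_1 D48981 (iv6 D23910) (iv2 F37300)
theorem F77286 : act 4 n48981 = n23899 := d10_1 D48981 (iv6 D23899) D23898
def n48982 : Q := act 0 n23899
theorem D48982 : act 0 n23899 = n48982 := rfl
def n48983 : Q := act 1 n23899
theorem D48983 : act 1 n23899 = n48983 := rfl
theorem F77287 : act 1 n48983 = n23913 := d15_1 D48983 (iv7 D23913) (iv2 F37304)
theorem F77288 : act 3 n48983 = n33692 := d20_5 D7606 (iv1 F28956) (iv4 F18167) (iv3 F37323) (iv1 F77287) (iv4 D33692) (iv1 D16283) F11823 F5427 D3454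
theorem F77289 : act 0 n28608 = n33708 := d20_7 (iv4 F52868) (iv1 F52870) D33692 (iv3 F77288) (iv1 D48983) F37305 (iv4 F46175) (iv4 D33708) (iv3 D16287) (iv1 F25774)
def n48984 : Q := act 7 n23899
theorem D48984 : act 7 n23899 = n48984 := rfl
theorem F77290 : act 2 n48984 = n23913 := d4_1 D48984 (iv7 D23913) (iv2 F37304)
theorem F77291 : act 3 n48984 = n28611 := d8_1 D48984 (iv7 D28611) (iv3 F37305)
theorem F77292 : act 6 n48984 = n39586 := d14_1 D48984 F60452 (iv6 D18997) (iv7 F18157) D23899
theorem F77293 : act 1 n23913 = n48982 := d15_0 (iv0 D48982) D48984 F77290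
theorem F77294 : act 1 n23912 = n48984 := d15_1 D23912 (iv7 D48984) F37304
theorem F77295 : act 1 n48984 = n23911 := d15_0 (iv0 D23911) D23913 (iv2 F77290)
def n48985 : Q := act 6 n23901
theorem D48985 : act 6 n23901 = n48985 := rfl
theorem F77296 : act 2 n48985 = n33658 := d3_1 D48985 (iv6 D33658) F42913
theorem F77297 : act 3 n48985 = n23903 := d7_1 D48985 (iv6 D23903) D23901
theorem F77298 : act 4 n48985 = n27543 := d10_1 D48985 (iv6 D27543) (iv4 F37311)
def n48986 : Q := act 0 n23902
theorem D48986 : act 0 n23902 = n48986 := rfl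
theorem F77299 : act 4 n48986 = n26424 := d18_3 D11194 D23902 D48986 (iv5 D26424) (iv4 F37220) (iv0 D23872) (iv4 D11185) (iv0 D5121) D5124
theorem F77300 : act 1 n23906 = n48986 := d15_0 (iv0 D48986) F42927 F42925
theorem F77301 : act 2 n39272 = n48986 := d1_3 F77299 F42221 D39272
theorem F77302 : act 7 n33018 = n48986 := d11_0 F77299 F42223 D33018
def n48987 : Q := act 1 n23902
theorem D48987 : act 1 n23902 = n48987 := rfl
theorem F77303 : act 1 n48987 = n23906 := d15_1 D48987 (iv7 F42924) F42928
theorem F77304 : act 7 n48987 = n39272 := d15_2 (iv0 D48986) D48987 F77301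
theorem F77305 : act 4 n48987 = n26485 := d18_7 D12936 (iv4 F40390) F40396 (iv4 D15305) (iv5 F30279) D23902 D48987 (iv0 F42379) (iv5 D12938)
theorem F77306 : act 3 n40095 = n48987 := d19_19 (iv1 D48987) F52313 F52312 (iv3 D32838) (iv1 F51805) F51802 (iv4 D32627) D32626 (iv1 F55592) (iv5 D17006) D17005 F40420 (iv1 D25554) F32455 (iv4 F64044) F64043 (iv1 F34490) D40746 F61858
theorem F77307 : act 2 n33018 = n48987 := d1_3 F77305 F42375 D33018
def n48988 : Q := act 6 n23902
theorem D48988 : act 6 n23902 = n48988 := rfl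
theorem F77308 : act 2 n48988 = n40225 := d3_1 D48988 (iv6 D40225) F42928
theorem F77309 : act 4 n48988 = n23903 := d10_1 D48988 (iv6 D23903) D23902
def n48990 : Q := act 1 n23903
theorem D48990 : act 1 n23903 = n48990 := rfl
theorem F77310 : act 1 n48990 = n40229 := d15_1 D48990 (iv7 D40229) (iv2 F42938)
def n48991 : Q := act 5 n23903
theorem D48991 : act 5 n23903 = n48991 := rfl
theorem F77311 : act 2 n48991 = n40228 := d2_1 D48991 (iv5 D40228) (iv2 F42938)
theorem F77312 : act 6 n48991 = n32409 := d12_2 D23903 D48991 (iv5 D32409) (iv6 D15307) (iv5 F30279)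
def n48992 : Q := act 7 n23903
theorem D48992 : act 7 n23903 = n48992 := rfl
theorem F77313 : act 2 n48992 = n40229 := d4_1 D48992 (iv7 D40229) (iv2 F42938)
theorem F77314 : act 6 n48992 = n40221 := d14_1 D48992 (iv7 D40221) (iv6 D18992) F42906 D23903
theorem F77316 : act 1 n40227 = n48992 := d15_1 D40227 (iv7 D48992) F42938
theorem F77317 : act 1 n48992 = n40226 := d15_0 (iv0 D40226) D40229 (iv2 F77313)
def n48993 : Q := act 2 n23905
theorem D48993 : act 2 n23905 = n48993 := rfl
theorem F77318 : act 3 n48993 = n27538 := d0_2 D23905 D48993 F44425 F25831 (iv2 F42907)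
theorem F77319 : act 5 n48993 = n26292 := d2_2 (iv5 F37315) D48993 F42916
theorem F77320 : act 7 n48993 = n32434 := d4_2 F42918 D48993 F51489
theorem F77321 : act 1 n48993 = n32471 := d15_0 F51561 F42918 D48993
theorem F77322 : act 1 n26307 = n48993 := d15_0 F77321 (iv7 F52449) F52447
theorem F77323 : act 4 n33183 = n48993 := d18_7 (iv1 F37287) F37289 F37279 (iv4 D7488) D7489 D16010 D33183 F77321 F51560
def n48994 : Q := act 4 n23905
theorem D48994 : act 4 n23905 = n48994 := rfl
theorem F77324 : act 2 n48994 = n33183 := d1_1 D48994 F77323 (iv2 D48993)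
theorem F77325 : act 7 n48994 = n33182 := d11_2 F42918 D48994 F52407
theorem F77326 : act 0 n48994 = n26381 := d18_2 F51512 D48994 (iv4 D26381) (iv5 D12589) D12588 (iv0 F37292) (iv4 D23886) F37230 (iv5 F24948)
theorem F77327 : act 1 n48994 = n26378 := d18_6 D6070 D12839 D26848 F43254 (iv5 F37315) D48994 (iv4 D26378) F26949 F9348
def n48995 : Q := act 6 n23905
theorem D48995 : act 6 n23905 = n48995 := rfl
theorem F77328 : act 3 n48995 = n23907 := d7_1 D48995 (iv6 D23907) D23905
theorem F77329 : act 5 n48995 = n38549 := d12_1 D48995 (iv6 D38549) F41890 F50913 (iv5 F37315)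
def n48996 : Q := act 3 n23906
theorem D48996 : act 3 n23906 = n48996 := rfl
theorem F77330 : act 7 n48996 = n40223 := d8_2 F42924 D48996 (iv3 D40223)
theorem F77331 : act 0 n40065 = n48996 := d20_4 F30225 (iv1 F15961) (iv4 F30242) D40065 (iv3 D48996) (iv4 D23906) (iv1 D11195) D11196 F18162 (iv1 F30223)
def n48997 : Q := act 5 n23906
theorem D48997 : act 5 n23906 = n48997 := rfl
theorem F77332 : act 2 n48997 = n40217 := d2_1 D48997 (iv5 D40217) F42925
theorem F77333 : act 7 n48997 = n40224 := d13_2 F42924 D48997 (iv5 D40224)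
def n48998 : Q := act 6 n23906
theorem D48998 : act 6 n23906 = n48998 := rfl
theorem F77334 : act 2 n48998 = n40218 := d3_1 D48998 (iv6 D40218) F42925
theorem F77335 : act 4 n48998 = n23907 := d10_1 D48998 (iv6 D23907) D23906
def n48999 : Q := act 0 n23907
theorem D48999 : act 0 n23907 = n48999 := rfl
def n49000 : Q := act 1 n23907
theorem D49000 : act 1 n23907 = n49000 := rfl
def n49001 : Q := act 5 n23907
theorem D49001 : act 5 n23907 = n49001 := rfl
theorem F77337 : act 2 n49001 = n28624 := d2_1 D49001 F50909 F42926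
theorem F77338 : act 3 n49001 = n38549 := d6_1 D49001 (iv5 F77329) F77328
theorem F77339 : act 6 n49001 = n28622 := d12_2 D23907 D49001 (iv5 F50856) (iv6 D15312) (iv5 F37308)
def n49002 : Q := act 7 n23907
theorem D49002 : act 7 n23907 = n49002 := rfl
theorem F77340 : act 2 n49002 = n40221 := d4_1 D49002 (iv7 D40221) F42926
theorem F77341 : act 6 n49002 = n40229 := d14_1 D49002 (iv7 D40229) (iv6 D18996) (iv7 F42908) D23907
theorem F77344 : act 1 n49002 = n40219 := d15_0 (iv0 D40219) D40221 (iv2 F77340)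
def n49003 : Q := act 3 n23908
theorem D49003 : act 3 n23908 = n49003 := rfl
theorem F77345 : act 2 n49003 = n36848 := d0_1 D49003 F57792 F28883 F30270 F37316
theorem F77346 : act 4 n49003 = n37227 := d5_2 F42530 D49003 (iv3 F58185) F43306 (iv3 F42529)
theorem F77347 : act 5 n49003 = n36847 := d6_2 F56769 D49003 F57788
theorem F77348 : act 7 n49003 = n40136 := d8_2 (iv7 F37318) D49003 (iv3 D40136)
def n49004 : Q := act 6 n23908
theorem D49004 : act 6 n23908 = n49004 := rfl
theorem F77349 : act 2 n49004 = n40138 := d3_1 D49004 (iv6 D40138) F37316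
def n49005 : Q := act 4 n23909
theorem D49005 : act 4 n23909 = n49005 := rfl
theorem F77350 : act 3 n49005 = n40843 := d5_1 D49005 (iv4 D40843) F30909 (iv4 F30299) (iv3 F37319)
theorem F77351 : act 7 n49005 = n40142 := d11_2 (iv7 F37320) D49005 (iv4 D40142)
theorem F77352 : act 0 n49005 = n35985 := d18_2 F43352 D49005 (iv4 F77220) (iv5 D48951) (iv4 D23879) (iv0 F43060) D15704 D32801 F51937
def n49006 : Q := act 6 n23909
theorem D49006 : act 6 n23909 = n49006 := rfl
def n49007 : Q := act 0 n23910
theorem D49007 : act 0 n23910 = n49007 := rfl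
def n49008 : Q := act 1 n23910
theorem D49008 : act 1 n23910 = n49008 := rfl
def n49009 : Q := act 5 n23910
theorem D49009 : act 5 n23910 = n49009 := rfl
theorem F77354 : act 3 n49009 = n40168 := d6_1 D49009 (iv5 D40168) (iv3 F37321)
def n49010 : Q := act 7 n23910
theorem D49010 : act 7 n23910 = n49010 := rfl
theorem F77355 : act 3 n49010 = n40165 := d8_1 D49010 F61059 (iv3 F37321)
theorem F77356 : act 4 n49010 = n23913 := d11_1 D49010 (iv7 D23913) (iv4 F37322)
theorem F77357 : act 6 n49010 = n39587 := d14_1 D49010 F60457 (iv6 D18965) (iv7 F18163) D23910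
def n49011 : Q := act 2 n23911
theorem D49011 : act 2 n23911 = n49011 := rfl
theorem F77358 : act 7 n23912 = n49011 := d15_2 (iv0 D23911) D23912 (iv2 D49011)
def n49012 : Q := act 3 n23911
theorem D49012 : act 3 n23911 = n49012 := rfl
theorem F77359 : act 4 n49012 = n33571 := d20_6 F41672 (iv1 D8917) (iv4 F7644) (iv3 F18164) D23911 D49012 (iv1 F52869) F25832 F11824 (iv1 F9356)
def n49013 : Q := act 4 n23911
theorem D49013 : act 4 n23911 = n49013 := rfl
def n49014 : Q := act 5 n23911
theorem D49014 : act 5 n23911 = n49014 := rfl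
def n49015 : Q := act 6 n23911
theorem D49015 : act 6 n23911 = n49015 := rfl
def n49016 : Q := act 7 n23911
theorem D49016 : act 7 n23911 = n49016 := rfl
theorem F77360 : act 2 n49016 = n23912 := d4_1 D49016 F77358 (iv2 D49011)
def n49017 : Q := act 3 n23912
theorem D49017 : act 3 n23912 = n49017 := rfl
def n49018 : Q := act 4 n23912
theorem D49018 : act 4 n23912 = n49018 := rfl
def n49019 : Q := act 5 n23912
theorem D49019 : act 5 n23912 = n49019 := rfl
def n49020 : Q := act 6 n23912
theorem D49020 : act 6 n23912 = n49020 := rfl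
def n49021 : Q := act 0 n23915
theorem D49021 : act 0 n23915 = n49021 := rfl
theorem F77361 : act 1 n28687 = n49021 := d15_0 (iv0 D49021) (iv7 F44678) D28687
def n49022 : Q := act 1 n23915
theorem D49022 : act 1 n23915 = n49022 := rfl
def n49023 : Q := act 2 n23915
theorem D49023 : act 2 n23915 = n49023 := rfl
theorem F77362 : act 3 n49023 = n28674 := d0_2 D23915 D49023 (iv2 D28674) (iv3 D13666) (iv2 F44661)
theorem F77363 : act 7 n49023 = n28687 := d4_2 F44678 D49023 (iv2 D28687)
theorem F77364 : act 1 n49023 = n28685 := d15_0 (iv0 D28685) F44678 D49023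
theorem F77365 : act 1 n49022 = n28687 := d15_1 D49022 (iv7 F77363) (iv2 D49023)
theorem F77366 : act 1 n28686 = n49023 := d15_1 D28686 F77363 (iv2 D28687)
def n49024 : Q := act 4 n23915
theorem D49024 : act 4 n23915 = n49024 := rfl
theorem F77367 : act 3 n49024 = n27889 := d5_1 D49024 (iv4 D27889) (iv3 D13297) (iv4 F37195) D23915
theorem F77368 : act 7 n49024 = n28688 := d11_2 F44678 D49024 (iv4 D28688)
def n49025 : Q := act 5 n23915
theorem D49025 : act 5 n23915 = n49025 := rfl
theorem F77369 : act 3 n49025 = n23916 := d6_1 D49025 (iv5 D23916) D23915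
theorem F77370 : act 7 n49025 = n28689 := d13_2 F44678 D49025 (iv5 D28689)
def n49026 : Q := act 6 n23915
theorem D49026 : act 6 n23915 = n49026 := rfl
theorem F77371 : act 3 n49026 = n23917 := d7_1 D49026 (iv6 D23917) D23915
def n49027 : Q := act 1 n23916
theorem D49027 : act 1 n23916 = n49027 := rfl
theorem F77372 : act 1 n49027 = n23920 := d15_1 D49027 F44682 F44680
theorem F77373 : act 7 n49027 = n28678 := d15_2 F52084 D49027 (iv2 F52082)
theorem F77374 : act 5 n49027 = n36784 := d17_7 (iv1 F43212) F45034 (iv1 D27892) (iv5 D13299) (iv4 F37195) D23916 D49027 F57693 F46004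
theorem F77375 : act 2 n28679 = n49027 := d2_3 F77374 F57689 F52087
theorem F77376 : act 6 n49027 = n26134 := d21_3 D28480 (iv1 F57693) (iv5 F77374) (iv1 D26134) (iv6 D12395) (iv5 D5898) F4926 D2876 D6460 D13575
theorem E8147 : n31906 = n26134 := ((c3_1 F77376 F50213 (iv6 F52090) F77375)).symm
theorem F77377 : act 2 n26134 = n15050 := (sb E8147 F50213)
theorem F77378 : act 7 n26134 = n15049 := (sb E8147 (iv7 D31906))
theorem E8148 : n31901 = n26133 := (c15_4 (iv0 D26133) D26134 F77378 D31901)
theorem F77379 : act 2 n26133 = n15049 := (sb E8148 (iv2 D31901))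
theorem F77380 : act 7 n26133 = n15050 := (sb E8148 (iv7 F50211))
def n49028 : Q := act 4 n23916
theorem D49028 : act 4 n23916 = n49028 := rfl
theorem F77381 : act 2 n49028 = n28680 := d1_1 D49028 (iv4 D28680) F44680
theorem F77382 : act 7 n49028 = n28691 := d11_2 F44679 D49028 (iv4 D28691)
theorem F77383 : act 5 n49028 = n32284 := d17_5 (iv1 D23859) F18146 D11198 D23916 D49028 (iv0 D32284) (iv5 D15223) D15222 F37328
theorem F77384 : act 0 n49028 = n33914 := d18_2 (iv1 D49027) D49028 (iv4 D33914) F25890 F29136 (iv0 F29271) (iv4 F43118) F57692 (iv5 F77374)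
theorem F77385 : act 1 n49028 = n33917 := d18_6 (iv1 D3455) (iv4 F4243) D6309 (iv4 F37195) D23916 D49028 (iv4 D33917) F25891 (iv5 D7612)
def n49029 : Q := act 6 n23916
theorem D49029 : act 6 n23916 = n49029 := rfl
theorem F77386 : act 2 n49029 = n28681 := d3_1 D49029 (iv6 D28681) F44680
theorem F77387 : act 0 n49029 = n31872 := d21_4 F18146 D11198 D23916 D49029 (iv6 D31872) D31871 F77156 (iv5 F77155) (iv6 D48934) (iv1 D23859)
def n49030 : Q := act 0 n23919
theorem D49030 : act 0 n23919 = n49030 := rfl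
theorem F77388 : act 1 n28674 = n49030 := d15_0 (iv0 D49030) F44681 D28674
def n49031 : Q := act 1 n23919
theorem D49031 : act 1 n23919 = n49031 := rfl
def n49032 : Q := act 2 n23919
theorem D49032 : act 2 n23919 = n49032 := rfl
theorem F77389 : act 3 n49032 = n28687 := d0_2 D23919 D49032 (iv2 D28687) (iv3 D13671) F44658
theorem F77390 : act 7 n49032 = n28674 := d4_2 (iv7 F44681) D49032 (iv2 D28674)
theorem F77391 : act 1 n49032 = n28672 := d15_0 (iv0 D28672) (iv7 F44681) D49032
theorem F77392 : act 1 n49031 = n28674 := d15_1 D49031 (iv7 F77390) (iv2 D49032)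
theorem F77393 : act 1 n28673 = n49032 := d15_1 D28673 F77390 (iv2 D28674)
def n49033 : Q := act 4 n23919
theorem D49033 : act 4 n23919 = n49033 := rfl
theorem F77394 : act 3 n49033 = n27898 := d5_1 D49033 (iv4 D27898) (iv3 D13302) (iv4 F37327) D23919
theorem F77395 : act 7 n49033 = n28675 := d11_2 (iv7 F44681) D49033 (iv4 D28675)
def n49034 : Q := act 5 n23919
theorem D49034 : act 5 n23919 = n49034 := rfl
theorem F77396 : act 3 n49034 = n23920 := d6_1 D49034 (iv5 D23920) D23919
theorem F77397 : act 7 n49034 = n28676 := d13_2 (iv7 F44681) D49034 (iv5 D28676)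
def n49035 : Q := act 6 n23919
theorem D49035 : act 6 n23919 = n49035 := rfl
theorem F77398 : act 3 n49035 = n23921 := d7_1 D49035 (iv6 D23921) D23919
def n49036 : Q := act 4 n23920
theorem D49036 : act 4 n23920 = n49036 := rfl
theorem F77399 : act 2 n49036 = n28691 := d1_1 D49036 (iv4 D28691) F44683
theorem F77400 : act 7 n49036 = n28680 := d11_2 (iv7 F44682) D49036 (iv4 D28680)
theorem F77401 : act 0 n49036 = n33917 := d18_2 F52083 D49036 (iv4 D33917) D33918 F53262 F43212 (iv4 F46004) F46005 D32900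
theorem F77402 : act 1 n49036 = n33914 := d18_6 (iv1 F9362) F9358 (iv1 F9820) (iv4 F37327) D23920 D49036 (iv4 D33914) (iv0 D16396) (iv5 D7607)
theorem F77403 : act 5 n32285 = n49036 := d17_7 (iv1 F25894) (iv5 D7612) (iv1 D3455) (iv5 F5308) (iv4 F11534) D15223 D32285 F77402 (iv4 D33914)
def n49037 : Q := act 3 n23922
theorem D49037 : act 3 n23922 = n49037 := rfl
theorem F77404 : act 2 n49037 = n24072 := d0_1 D49037 F37679 F18444 (iv3 F27010) (iv2 F37333)
theorem F77405 : act 4 n49037 = n49037 := d5_2 D23922 D49037 (iv3 D49037) (iv4 D23922) F18173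
theorem F77406 : act 6 n49037 = n24226 := d7_2 (iv6 F37334) D49037 (iv3 D24226)
theorem F77407 : act 7 n49037 = n24070 := d8_2 (iv7 F37335) D49037 F37675
theorem F77408 : act 1 n24069 = n49037 := d15_1 D24069 F77407 (iv2 D24070)
theorem F77409 : act 1 n49037 = n24068 := d15_0 (iv0 D24068) D24072 (iv2 F77404)
def n49038 : Q := act 0 n23923
theorem D49038 : act 0 n23923 = n49038 := rfl
def n49039 : Q := act 1 n23923
theorem D49039 : act 1 n23923 = n49039 := rfl
def n49040 : Q := act 2 n23923
theorem D49040 : act 2 n23923 = n49040 := rfl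
theorem F77410 : act 3 n49040 = n28360 := d0_2 D23923 D49040 (iv2 D28360) (iv3 D13529) (iv2 F18185)
theorem F77411 : act 4 n49040 = n48683 := d1_2 (iv4 F37338) D49040 (iv2 D48683)
def n49041 : Q := act 6 n23923
theorem D49041 : act 6 n23923 = n49041 := rfl
theorem F77412 : act 3 n49041 = n23924 := d7_1 D49041 (iv6 D23924) D23923
theorem F77413 : act 4 n49041 = n48685 := d10_1 D49041 (iv6 D48685) (iv4 F37338)
def n49042 : Q := act 5 n23924
theorem D49042 : act 5 n23924 = n49042 := rfl
theorem F77414 : act 2 n49042 = n28362 := d2_1 D49042 (iv5 D28362) (iv2 F37339)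
theorem F77415 : act 7 n49042 = n32986 := d13_2 F37662 D49042 F52165
theorem F77416 : act 0 n49042 = n25621 := d17_2 F46048 D49042 (iv5 D25621) (iv4 D12180) F20026 F20024 F19124 (iv0 F22764) D28501
theorem F77417 : act 1 n49042 = n25623 := d17_6 F12659 (iv5 F12661) F18431 F18429 (iv4 F37340) D49042 (iv5 D25623) F27330 F27328
def n49043 : Q := act 5 n23925
theorem D49043 : act 5 n23925 = n49043 := rfl
theorem F77418 : act 2 n49043 = n34872 := d2_1 D49043 F55146 F40298
theorem F77419 : act 3 n49043 = n42286 := d6_1 D49043 (iv5 D42286) (iv3 F37345)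
theorem F77420 : act 6 n49043 = n42280 := d12_2 F37344 D49043 (iv5 D42280) (iv6 D19956) D19955
theorem F77421 : act 7 n49043 = n34873 := d13_2 (iv7 F37342) D49043 F55149
theorem F77422 : act 0 n49043 = n34875 := d17_2 (iv1 F40297) D49043 F55152 F27702 F12494 (iv0 F21463) (iv5 F22712) (iv0 F27342) (iv4 F40293)
theorem F77423 : act 1 n49043 = n25541 := d17_6 (iv1 D7918) F5622 D7917 D16959 F37343 D49043 (iv5 D25541) (iv0 F27819) (iv4 D16960)
def n49044 : Q := act 5 n23926
theorem D49044 : act 5 n23926 = n49044 := rfl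
theorem F77424 : act 2 n49044 = n23927 := d2_1 D49044 (iv5 D23927) D23926
theorem F77425 : act 0 n49044 = n34955 := d17_2 (iv1 F40301) D49044 (iv5 D34955) (iv4 D16958) D16959 (iv0 F27814) (iv5 F27903) (iv0 F27906) (iv4 F40300)
theorem F77426 : act 1 n49044 = n34956 := d17_6 (iv1 F21458) (iv5 F21459) F27343 F27340 (iv4 F37346) D49044 (iv5 D34956) F27818 F27702
def n49045 : Q := act 4 n23927
theorem D49045 : act 4 n23927 = n49045 := rfl
def n49046 : Q := act 6 n23927
theorem D49046 : act 6 n23927 = n49046 := rfl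
theorem F77427 : act 3 n49046 = n23930 := d7_1 D49046 (iv6 D23930) (iv3 F37348)
theorem F77428 : act 5 n49046 = n23936 := d12_1 D49046 (iv6 D23936) (iv5 D11215) (iv6 F18206) D23927
def n49047 : Q := act 7 n23927
theorem D49047 : act 7 n23927 = n49047 := rfl
theorem F77429 : act 3 n49047 = n23931 := d8_1 D49047 (iv7 D23931) (iv3 F37348)
theorem F77430 : act 5 n49047 = n23928 := d13_1 D49047 (iv7 D23928) D23927
theorem F77431 : act 1 n34956 = n49047 := d15_1 F77426 (iv7 D49047) (iv2 F77424)
theorem F77432 : act 1 n49047 = n34955 := d15_1 F77431 F55328 (iv2 F55329)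
def n49048 : Q := act 3 n23929
theorem D49048 : act 3 n23929 = n49048 := rfl
def n49049 : Q := act 6 n23929
theorem D49049 : act 6 n23929 = n49049 := rfl
theorem F77433 : act 4 n49049 = n23930 := d10_1 D49049 (iv6 D23930) D23929
def n49050 : Q := act 0 n23930
theorem D49050 : act 0 n23930 = n49050 := rfl
def n49051 : Q := act 1 n23930
theorem D49051 : act 1 n23930 = n49051 := rfl
def n49052 : Q := act 7 n23930
theorem D49052 : act 7 n23930 = n49052 := rfl
theorem F77434 : act 5 n49052 = n23939 := d13_1 D49052 (iv7 D23939) (iv5 F37353)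
def n49053 : Q := act 6 n23931
theorem D49053 : act 6 n23931 = n49053 := rfl
def n49054 : Q := act 6 n23932
theorem D49054 : act 6 n23932 = n49054 := rfl
theorem F77435 : act 4 n49054 = n45426 := d10_1 D49054 (iv6 D45426) (iv4 F37357)
def n49055 : Q := act 5 n23933
theorem D49055 : act 5 n23933 = n49055 := rfl
theorem F77436 : act 3 n49055 = n23934 := d6_1 D49055 (iv5 D23934) D23933
theorem F77437 : act 0 n35910 = n49055 := d21_1 D35910 (iv5 D49055) (iv6 F40685) F76705 (iv6 D48719) (iv5 F76675) (iv1 F76666) (iv5 D25569) D25570 (iv1 F40455)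
def n49056 : Q := act 6 n23934
theorem D49056 : act 6 n23934 = n49056 := rfl
def n49057 : Q := act 6 n23935
theorem D49057 : act 6 n23935 = n49057 := rfl
theorem F77438 : act 4 n49057 = n23936 := d10_1 D49057 (iv6 D23936) D23935
def n49058 : Q := act 0 n23936
theorem D49058 : act 0 n23936 = n49058 := rfl
def n49059 : Q := act 1 n23936
theorem D49059 : act 1 n23936 = n49059 := rfl
def n49060 : Q := act 7 n23936
theorem D49060 : act 7 n23936 = n49060 := rfl
theorem F77439 : act 3 n49060 = n23939 := d8_1 D49060 (iv7 D23939) (iv3 F37363)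
def n49061 : Q := act 2 n23937
theorem D49061 : act 2 n23937 = n49061 := rfl
theorem F77440 : act 7 n23938 = n49061 := d15_2 (iv0 D23937) D23938 (iv2 D49061)
def n49062 : Q := act 3 n23937
theorem D49062 : act 3 n23937 = n49062 := rfl
def n49063 : Q := act 4 n23937
theorem D49063 : act 4 n23937 = n49063 := rfl
def n49064 : Q := act 5 n23937
theorem D49064 : act 5 n23937 = n49064 := rfl
def n49065 : Q := act 6 n23937
theorem D49065 : act 6 n23937 = n49065 := rfl
def n49066 : Q := act 7 n23937
theorem D49066 : act 7 n23937 = n49066 := rfl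
theorem F77441 : act 2 n49066 = n23938 := d4_1 D49066 F77440 (iv2 D49061)
def n49067 : Q := act 3 n23938
theorem D49067 : act 3 n23938 = n49067 := rfl
def n49068 : Q := act 4 n23938
theorem D49068 : act 4 n23938 = n49068 := rfl
def n49069 : Q := act 5 n23938
theorem D49069 : act 5 n23938 = n49069 := rfl
def n49070 : Q := act 6 n23938
theorem D49070 : act 6 n23938 = n49070 := rfl
def n49071 : Q := act 2 n23940
theorem D49071 : act 2 n23940 = n49071 := rfl
theorem F77442 : act 3 n49071 = n24551 := d0_2 D23940 D49071 F38544 (iv3 D13412) F18215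
theorem F77443 : act 4 n49071 = n34032 := d1_2 F53372 D49071 (iv2 F53382)
theorem F77444 : act 5 n49071 = n30355 := d2_2 F37972 D49071 F48788
theorem F77445 : act 7 n49071 = n28097 := d4_2 (iv7 F37364) D49071 (iv2 D28097)
theorem F77446 : act 1 n49071 = n24324 := d15_0 (iv0 F38110) (iv7 F37364) D49071
theorem F77447 : act 1 n24745 = n49071 := d15_0 F77446 (iv7 F39643) F39642
def n49072 : Q := act 6 n23940
theorem D49072 : act 6 n23940 = n49072 := rfl
theorem F77448 : act 3 n49072 = n23941 := d7_1 D49072 (iv6 D23941) D23940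
def n49073 : Q := act 0 n23941
theorem D49073 : act 0 n23941 = n49073 := rfl
def n49074 : Q := act 1 n23941
theorem D49074 : act 1 n23941 = n49074 := rfl
theorem F77449 : act 1 n49074 = n28096 := d15_1 D49074 (iv7 D28096) (iv2 F37365)
def n49075 : Q := act 7 n23941
theorem D49075 : act 7 n23941 = n49075 := rfl
theorem F77450 : act 2 n49075 = n28096 := d4_1 D49075 (iv7 D28096) (iv2 F37365)
theorem F77451 : act 6 n49075 = n28102 := d14_1 D49075 (iv7 D28102) (iv6 D13415) F18216 D23941
theorem F77452 : act 1 n28096 = n49073 := d15_0 (iv0 D49073) D49075 F77450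
theorem F77453 : act 1 n28094 = n49075 := d15_1 D28094 (iv7 D49075) F37365
theorem F77454 : act 1 n49075 = n28093 := d15_0 (iv0 D28093) D28096 (iv2 F77450)
def n49076 : Q := act 6 n23942
theorem D49076 : act 6 n23942 = n49076 := rfl
theorem F77455 : act 3 n49076 = n23943 := d7_1 D49076 (iv6 D23943) D23942
theorem F77456 : act 4 n49076 = n24556 := d10_1 D49076 (iv6 D24556) (iv4 F37368)
theorem F77457 : act 5 n49076 = n29305 := d12_1 D49076 (iv6 D29305) (iv5 D13944) D13945 (iv5 F37366)
def n49077 : Q := act 0 n23943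
theorem D49077 : act 0 n23943 = n49077 := rfl
def n49078 : Q := act 1 n23943
theorem D49078 : act 1 n23943 = n49078 := rfl
theorem F77458 : act 1 n49078 = n28102 := d15_1 D49078 (iv7 D28102) (iv2 F37371)
def n49079 : Q := act 7 n23943
theorem D49079 : act 7 n23943 = n49079 := rfl
theorem F77459 : act 2 n49079 = n28102 := d4_1 D49079 (iv7 D28102) (iv2 F37371)
theorem F77460 : act 5 n49079 = n29316 := d13_1 D49079 (iv7 D29316) (iv5 F37372)
theorem F77461 : act 6 n49079 = n28096 := d14_1 D49079 (iv7 D28096) (iv6 D13413) (iv7 F18214) D23943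
theorem F77462 : act 1 n28102 = n49077 := d15_0 (iv0 D49077) D49079 F77459
theorem F77463 : act 1 n28101 = n49079 := d15_1 D28101 (iv7 D49079) F37371
theorem F77464 : act 1 n49079 = n28100 := d15_0 (iv0 D28100) D28102 (iv2 F77459)
def n49080 : Q := act 0 n23944
theorem D49080 : act 0 n23944 = n49080 := rfl
def n49081 : Q := act 1 n23944
theorem D49081 : act 1 n23944 = n49081 := rfl
def n49082 : Q := act 2 n23944
theorem D49082 : act 2 n23944 = n49082 := rfl
theorem F77465 : act 3 n49082 = n28111 := d0_2 D23944 D49082 (iv2 D28111) (iv3 D13418) (iv2 F18218)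
def n49083 : Q := act 5 n23944
theorem D49083 : act 5 n23944 = n49083 := rfl
theorem F77466 : act 3 n49083 = n23945 := d6_1 D49083 (iv5 D23945) D23944
theorem F77467 : act 7 n49048 = n49083 := d8_0 F77466 (iv7 F37375) D49048
def n49084 : Q := act 7 n23944
theorem D49084 : act 7 n23944 = n49084 := rfl
theorem F77468 : act 3 n49084 = n23946 := d8_1 D49084 (iv7 D23946) D23944
theorem F77469 : act 5 n49084 = n49048 := d13_1 D49084 F77467 (iv5 D49083)
def n49085 : Q := act 6 n23945
theorem D49085 : act 6 n23945 = n49085 := rfl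
theorem F77470 : act 2 n49085 = n28115 := d3_1 D49085 (iv6 D28115) (iv2 F37373)
theorem F77471 : act 4 n49085 = n49053 := d10_1 D49085 (iv6 D49053) (iv4 F37374)
def n49086 : Q := act 6 n23946
theorem D49086 : act 6 n23946 = n49086 := rfl
theorem F77472 : act 2 n49086 = n28116 := d3_1 D49086 (iv6 D28116) (iv2 F37376)
theorem F77473 : act 4 n49086 = n23947 := d10_1 D49086 (iv6 D23947) (iv4 F37377)
def n49087 : Q := act 0 n23948
theorem D49087 : act 0 n23948 = n49087 := rfl
theorem F77474 : act 1 n49040 = n49087 := d15_0 (iv0 D49087) F37385 D49040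
def n49088 : Q := act 1 n23948
theorem D49088 : act 1 n23948 = n49088 := rfl
def n49089 : Q := act 2 n23948
theorem D49089 : act 2 n23948 = n49089 := rfl
theorem F77475 : act 3 n49089 = n34892 := d0_2 D23948 D49089 F55199 (iv3 D23833) (iv2 F18223)
theorem F77476 : act 4 n49089 = n25474 := d1_2 (iv4 F37384) D49089 (iv2 D25474)
theorem F77477 : act 7 n49089 = n49040 := d4_2 (iv7 F37385) D49089 (iv2 D49040)
theorem F77478 : act 1 n49089 = n49038 := d15_0 (iv0 D49038) (iv7 F37385) D49089
theorem F77479 : act 1 n49088 = n49040 := d15_1 D49088 (iv7 F77477) (iv2 D49089)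
theorem F77480 : act 1 n49039 = n49089 := d15_1 D49039 F77477 (iv2 D49040)
def n49090 : Q := act 0 n23951
theorem D49090 : act 0 n23951 = n49090 := rfl
theorem F77481 : act 3 n49090 = n25485 := d20_5 F36979 (iv1 F54335) D48887 (iv3 F77033) D49090 F40293 F27342 (iv4 F40330) (iv3 F50298) (iv1 F50300)
theorem F77482 : act 2 n23955 = n49090 := d15_3 (iv0 D49090) (iv0 D23951) D23955
theorem F77483 : act 4 n49090 = n49090 := d1_2 F37405 F77482 (iv2 F77482)
theorem F77484 : act 7 n49090 = n23953 := d4_2 D23955 F77482 (iv2 D23953)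
theorem F77485 : act 6 n25614 = n49090 := d14_5 F77484 F37402 (iv7 F37435) (iv6 F46022) F46023
theorem F77486 : act 1 n23952 = n49090 := d15_1 D23952 F77484 (iv2 D23953)
theorem F77487 : act 2 n48901 = n23952 := d15_3 F77486 (iv0 D49090) (iv7 F77084)
def n49091 : Q := act 2 n23951
theorem D49091 : act 2 n23951 = n49091 := rfl
theorem F77488 : act 3 n49091 = n31925 := d0_2 (iv3 F77033) D49091 F77059 (iv3 D48891) (iv2 F77029)
theorem F77489 : act 7 n49091 = n23952 := d4_2 F77084 D49091 (iv2 F77487)
theorem F77490 : act 1 n49091 = n23953 := d15_0 (iv0 F77085) F77084 D49091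
theorem F77491 : act 1 n23955 = n49091 := d15_0 F77490 (iv7 F77484) (iv2 F77482)
theorem F77492 : act 4 n49091 = n25506 := d20_2 F37401 (iv1 F77490) (iv3 D25506) D25504 (iv3 F50292) F50291 (iv1 F37176) D23845 D48901 F77085
theorem F77493 : act 6 n23951 = n49091 := d7_0 F77488 F77041 (iv3 F77033)
def n49092 : Q := act 4 n23951
theorem D49092 : act 4 n23951 = n49092 := rfl
theorem F77494 : act 2 n49092 = n25506 := d1_1 D49092 (iv4 F77492) (iv2 D49091)
theorem F77495 : act 3 n49092 = n25509 := d5_1 D49092 (iv4 F77023) (iv3 D48886) D48887 (iv3 F77033)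
theorem F77496 : act 6 n49092 = n25506 := d10_2 (iv6 F77493) D49092 (iv4 F77492)
def n49093 : Q := act 5 n23951
theorem D49093 : act 5 n23951 = n49093 := rfl
def n49094 : Q := act 3 n23952
theorem D49094 : act 3 n23952 = n49094 := rfl
theorem F77497 : act 2 n49094 = n28426 := d0_1 D49094 (iv3 F77063) F77062 D48901 F77487
theorem F77498 : act 7 n49094 = n31925 := d8_2 F77489 D49094 (iv3 F77488)
theorem F77499 : act 4 n49094 = n28425 := d20_6 F36969 F27343 (iv4 F40293) (iv3 F77481) (iv1 F77486) D49094 F54332 (iv4 F26624) D31945 (iv1 F50288)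
theorem F77500 : act 6 n46135 = n49094 := d10_0 F77499 (iv6 F54202) (iv4 F72751)
theorem F77501 : act 0 n26155 = n49094 := d20_10 F77499 F54332 (iv4 F26624) D31945 (iv1 F50288) (iv3 F65472) F65473 (iv1 F68148) (iv4 F68150) (iv3 F65418)
theorem F77502 : act 0 n49094 = n26152 := d20_1 (iv4 F77499) (iv4 D26152) F24624 (iv1 F24797) (iv3 D15130) (iv4 F24780) (iv1 F26978) (iv4 F45951) (iv3 F50270) (iv1 F54333)
def n49095 : Q := act 4 n23952
theorem D49095 : act 4 n23952 = n49095 := rfl
theorem F77503 : act 7 n49095 = n25506 := d11_2 F77489 D49095 (iv4 F77492)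
theorem F77504 : act 3 n49095 = n25510 := d20_3 F77483 (iv1 F77486) D49095 F54330 (iv3 F36978) F36979 (iv1 F54335) D48887 (iv3 F77033) D49090
def n49096 : Q := act 5 n23952
theorem D49096 : act 5 n23952 = n49096 := rfl
def n49097 : Q := act 6 n23952
theorem D49097 : act 6 n23952 = n49097 := rfl
theorem F77505 : act 3 n49097 = n46135 := d7_1 D49097 F77500 (iv3 D49094)
theorem F77506 : act 5 n42197 = n49097 := d21_2 D34949 F65141 (iv6 D49097) (iv1 D23952) F18228 D11236 D23975 (iv5 F54362) D34882 F55352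
theorem F77507 : act 4 n49097 = n43311 := d17_4 F55352 D34949 F65141 F77506 (iv5 D43311) (iv0 D20450) (iv5 F31861) F65484 F65482
theorem F77508 : act 6 n43311 = n49095 := d10_2 D49097 F77507 (iv4 D49095)
theorem E8149 : n43879 = n43311 := ((c20_7 F15215 (iv1 F31341) F31339 (iv3 F34542) D46135 (iv3 F77505) F77507 (iv1 F68982) F32952 F32915 F15515)).symm
theorem F77509 : act 0 n43311 = n20786 := (sb E8149 (iv1 F68982))
theorem F77510 : act 1 n43311 = n20786 := (sb E8149 (iv0 D43879))
theorem E8150 : n43837 = n42198 := ((c18_10 (iv1 F68906) (iv4 F32952) (iv1 F77510) (iv4 F77507) (iv5 F77506) (iv4 D42197) (iv0 D19923) F14613 F31748 D42198)).symm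
theorem F77511 : act 0 n42198 = n20759 := (sb E8150 (iv1 F68906))
theorem F77512 : act 1 n42198 = n20759 := (sb E8150 (iv0 D43837))
def n49098 : Q := act 5 n23953
theorem D49098 : act 5 n23953 = n49098 := rfl
theorem F77513 : act 2 n49098 = n23954 := d2_1 D49098 (iv5 D23954) D23953
theorem F77514 : act 3 n49098 = n49044 := d6_1 D49098 (iv5 D49044) (iv3 F37400)
def n49099 : Q := act 0 n23954
theorem D49099 : act 0 n23954 = n49099 := rfl
def n49100 : Q := act 1 n23954
theorem D49100 : act 1 n23954 = n49100 := rfl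
def n49101 : Q := act 4 n23954
theorem D49101 : act 4 n23954 = n49101 := rfl
def n49102 : Q := act 6 n23954
theorem D49102 : act 6 n23954 = n49102 := rfl
theorem F77515 : act 3 n49102 = n23957 := d7_1 D49102 (iv6 D23957) (iv3 F37403)
theorem F77516 : act 5 n49102 = n23978 := d12_1 D49102 (iv6 D23978) (iv5 D11236) (iv6 F18228) D23954
def n49103 : Q := act 7 n23954
theorem D49103 : act 7 n23954 = n49103 := rfl
theorem F77517 : act 3 n49103 = n23958 := d8_1 D49103 (iv7 D23958) (iv3 F37403)
theorem F77518 : act 5 n49103 = n23955 := d13_1 D49103 (iv7 D23955) D23954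
def n49104 : Q := act 6 n23955
theorem D49104 : act 6 n23955 = n49104 := rfl
theorem F77519 : act 2 n49104 = n25614 := d3_1 D49104 F77485 (iv2 F77482)
theorem F77520 : act 3 n49104 = n23959 := d7_1 D49104 (iv6 D23959) (iv3 F37404)
theorem F77521 : act 4 n49104 = n49104 := d10_1 D49104 (iv6 D49104) F37405
theorem F77522 : act 7 n49104 = n23980 := d14_2 D23955 D49104 (iv6 D23980) (iv7 D11237) (iv6 F18228)
theorem F77523 : act 1 n23973 = n49104 := d15_1 (iv0 F55091) F77522 (iv2 F46020)
def n49105 : Q := act 3 n23956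
theorem D49105 : act 3 n23956 = n49105 := rfl
theorem F77524 : act 5 n49105 = n28074 := d6_2 (iv5 F37407) D49105 F45340
theorem F77525 : act 7 n49105 = n28112 := d8_2 F37408 D49105 F45420
def n49106 : Q := act 6 n23956
theorem D49106 : act 6 n23956 = n49106 := rfl
theorem F77526 : act 2 n49106 = n49049 := d3_1 D49106 (iv6 D49049) (iv2 F37406)
theorem F77527 : act 4 n49106 = n23957 := d10_1 D49106 (iv6 D23957) D23956
def n49107 : Q := act 0 n23957
theorem D49107 : act 0 n23957 = n49107 := rfl
def n49108 : Q := act 1 n23957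
theorem D49108 : act 1 n23957 = n49108 := rfl
theorem F77528 : act 1 n49108 = n49052 := d15_1 D49108 (iv7 D49052) (iv2 F37409)
def n49109 : Q := act 7 n23957
theorem D49109 : act 7 n23957 = n49109 := rfl
theorem F77529 : act 2 n49109 = n49052 := d4_1 D49109 (iv7 D49052) (iv2 F37409)
theorem F77530 : act 5 n49109 = n23984 := d13_1 D49109 (iv7 D23984) (iv5 F37410)
theorem F77531 : act 1 n49052 = n49107 := d15_0 (iv0 D49107) D49109 F77529
theorem F77532 : act 1 n49051 = n49109 := d15_1 D49051 (iv7 D49109) F37409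
theorem F77533 : act 1 n49109 = n49050 := d15_0 (iv0 D49050) D49052 (iv2 F77529)
def n49110 : Q := act 6 n23958
theorem D49110 : act 6 n23958 = n49110 := rfl
theorem F77534 : act 2 n49110 = n49053 := d3_1 D49110 (iv6 D49053) (iv2 F37411)
theorem F77535 : act 4 n49110 = n28115 := d10_1 D49110 (iv6 D28115) (iv4 F37412)
def n49111 : Q := act 5 n23959
theorem D49111 : act 5 n23959 = n49111 := rfl
theorem F77536 : act 2 n49111 = n34849 := d2_1 D49111 F55112 (iv2 F37416)
theorem F77537 : act 7 n49111 = n23985 := d13_2 (iv7 F37418) D49111 (iv5 D23985)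
theorem F77538 : act 0 n49111 = n34847 := d17_2 (iv1 F37420) D49111 (iv5 F55110) (iv4 D25760) (iv5 D12227) F12429 F12427 F12430 D12224
theorem F77539 : act 1 n49111 = n34846 := d17_6 F27698 (iv5 D16896) F18238 F18236 (iv4 F37417) D49111 F55109 F40683 F40435
def n49112 : Q := act 2 n23960
theorem D49112 : act 2 n23960 = n49112 := rfl
theorem F77540 : act 7 n23961 = n49112 := d15_2 (iv0 D23960) D23961 (iv2 D49112)
def n49113 : Q := act 6 n23960
theorem D49113 : act 6 n23960 = n49113 := rfl
def n49114 : Q := act 7 n23960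
theorem D49114 : act 7 n23960 = n49114 := rfl
theorem F77541 : act 2 n49114 = n23961 := d4_1 D49114 F77540 (iv2 D49112)
def n49115 : Q := act 3 n23961
theorem D49115 : act 3 n23961 = n49115 := rfl
theorem F77542 : act 0 n26702 = n49115 := d20_4 (iv4 D15353) D15350 F24927 D26702 (iv3 D49115) (iv4 F55114) F55116 F51465 F40453 F24929
def n49116 : Q := act 6 n23961
theorem D49116 : act 6 n23961 = n49116 := rfl
def n49117 : Q := act 5 n23963
theorem D49117 : act 5 n23963 = n49117 := rfl
theorem F77543 : act 2 n49117 = n48750 := d2_1 D49117 F76772 F51464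
theorem F77544 : act 3 n49117 = n23964 := d6_1 D49117 (iv5 D23964) (iv3 F37428)
theorem F77545 : act 7 n49117 = n43424 := d13_2 (iv7 F37430) D49117 (iv5 D43424)
def n49118 : Q := act 1 n23964
theorem D49118 : act 1 n23964 = n49118 := rfl
theorem F77546 : act 1 n49118 = n26996 := d15_1 D49118 (iv7 D26996) (iv2 F37431)
theorem F77547 : act 7 n49118 = n26994 := d15_2 F51675 D49118 (iv2 F51671)
theorem F77548 : act 5 n49118 = n26441 := d17_7 F26279 F26271 (iv1 D7884) (iv5 F7685) (iv4 F18243) D23964 D49118 (iv0 F42280) F37047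
theorem F77549 : act 4 n49118 = n44735 := d17_9 (iv1 F70322) F40474 (iv1 F34117) D44731 F70310 (iv5 D25584) (iv0 F20162) D23964 D49118
theorem F77550 : act 2 n26995 = n49118 := d1_3 F77549 (iv2 F70323) F56637
theorem F77551 : act 3 n49118 = n26442 := d19_3 D23169 (iv5 F70321) (iv4 F77549) F42283 (iv5 D12919) F9522 (iv3 D2583) F2255 D2554 F4062 (iv3 F5576) F6938 (iv5 D1671) D1670 D3830 F5825 (iv5 F7255) F7393 D10910
def n49119 : Q := act 5 n23965
theorem D49119 : act 5 n23965 = n49119 := rfl
theorem F77552 : act 2 n49119 = n23979 := d2_1 D49119 F37458 F37432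
theorem F77553 : act 3 n49119 = n25581 := d6_1 D49119 F40471 (iv3 F37433)
theorem F77554 : act 7 n49119 = n23974 := d13_2 (iv7 F37435) D49119 (iv5 D23974)
theorem F77555 : act 4 n49119 = n32638 := d16_2 F37434 D49119 (iv5 D32638) F54073 D16648 F54082 (iv5 D11236) D11237 F37432
theorem F77556 : act 1 n49119 = n23975 := d17_8 F54172 (iv5 D34027) (iv1 F54129) D32554 F51624 (iv5 D23972) F37436 D49119 F54360
theorem F77557 : act 0 n49119 = n23976 := d21_7 (iv5 F54193) (iv1 F54190) (iv5 D23972) D23973 F55091 F46022 D49119 F54179 (iv6 F50912) (iv1 F40363)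
def n49120 : Q := act 6 n23966
theorem D49120 : act 6 n23966 = n49120 := rfl
theorem F77558 : act 2 n49120 = n23969 := d3_1 D49120 (iv6 D23969) D23966
theorem F77559 : act 3 n49120 = n33000 := d7_1 D49120 (iv6 D33000) (iv3 F37438)
theorem F77560 : act 4 n49120 = n25666 := d10_1 D49120 (iv6 D25666) (iv4 F37442)
theorem F77561 : act 0 n49120 = n25305 := d20_7 F19917 (iv1 F10001) D6700 D14093 F54282 (iv3 F40573) (iv4 F77560) F39967 (iv3 D25305) (iv1 F19919)
def n49121 : Q := act 0 n23967
theorem D49121 : act 0 n23967 = n49121 := rfl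
theorem F77562 : act 4 n49121 = n25636 := d20_2 D23967 D49121 (iv3 D25636) (iv1 D12186) (iv3 D5778) F3811 (iv1 D2124) D2125 D5167 D11233
theorem F77563 : act 3 n49121 = n48727 := d20_5 (iv4 F20904) F27641 F27640 (iv3 F37444) D49121 (iv4 D48727) (iv1 F37037) F20186 F20172 (iv1 F20167)
theorem F77564 : act 1 n23971 = n49121 := d15_0 (iv0 D49121) (iv7 F77230) F77228
def n49122 : Q := act 5 n23967
theorem D49122 : act 5 n23967 = n49122 := rfl
theorem F77565 : act 2 n49122 = n25665 := d2_1 D49122 (iv5 D25665) (iv2 F37443)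
theorem F77566 : act 3 n49122 = n33177 := d6_1 D49122 (iv5 D33177) (iv3 F37444)
theorem F77567 : act 4 n49122 = n32133 := d9_1 D49122 (iv5 F51077) F54077 D32554 F51624 (iv5 D23972) D23971 (iv5 F51703) (iv4 D32644) (iv5 D15455) (iv4 F12701) D17039 (iv4 F37445) (iv5 D23968) D23967
def n49123 : Q := act 6 n23967
theorem D49123 : act 6 n23967 = n49123 := rfl
theorem F77568 : act 2 n49123 = n25666 := d3_1 D49123 (iv6 D25666) (iv2 F37443)
theorem F77569 : act 3 n49123 = n33178 := d7_1 D49123 (iv6 D33178) (iv3 F37444)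
theorem F77570 : act 4 n49123 = n23969 := d10_1 D49123 (iv6 D23969) D23967
theorem F77571 : act 0 n49123 = n43880 := d20_1 (iv4 F77570) F68985 F68907 F65507 (iv3 D29666) F23548 (iv1 F18183) (iv4 F19912) D25333 F54247
def n49124 : Q := act 6 n23968
theorem D49124 : act 6 n23968 = n49124 := rfl
theorem F77572 : act 4 n49124 = n35096 := d10_1 D49124 (iv6 D35096) (iv4 F37445)
def n49125 : Q := act 0 n23969
theorem D49125 : act 0 n23969 = n49125 := rfl
theorem F77573 : act 3 n49125 = n24003 := d20_5 (iv4 D29192) (iv1 F23577) D29690 (iv3 F54246) D49125 (iv4 D24003) (iv1 F18332) D11265 D24011 (iv1 F46843)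
theorem F77574 : act 4 n49125 = n49125 := d20_8 (iv4 D11770) F10921 (iv4 F23554) (iv3 F47687) F54250 (iv3 F77569) F77570 D49125 F77573 F37524
theorem F77575 : act 2 n25305 = n49125 := d15_3 (iv0 D49125) (iv0 F54247) F40028
def n49126 : Q := act 5 n23969
theorem D49126 : act 5 n23969 = n49126 := rfl
def n49127 : Q := act 7 n23969
theorem D49127 : act 7 n23969 = n49127 := rfl
theorem F77576 : act 3 n49127 = n29189 := d8_1 D49127 F54255 (iv3 F54246)
theorem F77577 : act 0 n25305 = n49127 := d20_4 F18075 D11202 (iv4 F19877) D25305 F77576 (iv4 D29189) (iv1 D13887) D13889 F23157 F19054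
def n49128 : Q := act 6 n23971
theorem D49128 : act 6 n23971 = n49128 := rfl
theorem F77578 : act 3 n49128 = n25680 := d7_1 D49128 (iv6 D25680) (iv3 F37452)
theorem F77579 : act 4 n49128 = n23973 := d10_1 D49128 (iv6 D23973) D23971
def n49129 : Q := act 6 n23972
theorem D49129 : act 6 n23972 = n49129 := rfl
def n49130 : Q := act 5 n23973
theorem D49130 : act 5 n23973 = n49130 := rfl
def n49131 : Q := act 7 n23973
theorem D49131 : act 7 n23973 = n49131 := rfl
theorem F77580 : act 1 n25614 = n49131 := d15_1 F77249 (iv7 D49131) (iv2 F77246)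
theorem F77581 : act 1 n49131 = n23980 := d15_1 F77580 (iv7 F77522) F77519
def n49132 : Q := act 0 n23974
theorem D49132 : act 0 n23974 = n49132 := rfl
theorem F77582 : act 5 n49132 = n25536 := d17_1 D49132 (iv1 D25536) D25538 (iv4 F54028) (iv5 D32116) F53997 (iv5 F43300) (iv0 F54524) F54522
theorem F77583 : act 2 n23975 = n49132 := d15_3 (iv0 D49132) F51664 F54361
theorem F77584 : act 1 n23979 = n49132 := d15_0 (iv0 D49132) (iv7 F77554) F77552
theorem F77585 : act 7 n49132 = n23976 := d15_2 (iv0 F51663) F77584 (iv2 F54178)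
theorem F77586 : act 3 n33002 = n49132 := d6_3 F77582 (iv3 F40364) (iv5 F52180)
def n49133 : Q := act 6 n23974
theorem D49133 : act 6 n23974 = n49133 := rfl
theorem F77587 : act 2 n49133 = n23978 := d3_1 D49133 (iv6 D23978) (iv2 F37453)
theorem F77588 : act 3 n49133 = n35950 := d7_1 D49133 (iv6 D35950) (iv3 F37454)
theorem F77589 : act 4 n49133 = n27771 := d10_1 D49133 (iv6 F54520) F54522
def n49134 : Q := act 6 n23975
theorem D49134 : act 6 n23975 = n49134 := rfl
def n49135 : Q := act 3 n23976
theorem D49135 : act 3 n23976 = n49135 := rfl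
theorem F77590 : act 2 n49135 = n33001 := d0_1 D49135 (iv3 F55332) F55331 F51650 F54178
theorem F77591 : act 5 n49135 = n26998 := d6_2 (iv5 F54179) D49135 F43600
theorem F77592 : act 7 n49135 = n33002 := d8_2 F77585 D49135 F77586
theorem F77593 : act 0 n26426 = n49135 := d17_2 F37277 D26426 F77591 (iv4 F50855) F50856 (iv0 F52273) (iv5 D33051) (iv0 F37253) (iv4 F37275)
theorem F77594 : act 1 n26420 = n49135 := d17_6 (iv1 D6129) (iv5 F9352) (iv1 F27275) (iv5 D12609) D12608 D26420 F77591 F43596 (iv4 D12932)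
def n49136 : Q := act 6 n23976
theorem D49136 : act 6 n23976 = n49136 := rfl
def n49137 : Q := act 0 n23978
theorem D49137 : act 0 n23978 = n49137 := rfl
def n49138 : Q := act 1 n23978
theorem D49138 : act 1 n23978 = n49138 := rfl
def n49139 : Q := act 7 n23978
theorem D49139 : act 7 n23978 = n49139 := rfl
theorem F77595 : act 3 n49139 = n23984 := d8_1 D49139 (iv7 D23984) (iv3 F37456)
theorem F77596 : act 4 n49139 = n33621 := d11_1 D49139 (iv7 D33621) (iv4 F54212)
def n49140 : Q := act 6 n23979
theorem D49140 : act 6 n23979 = n49140 := rfl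
theorem F77597 : act 3 n49140 = n23981 := d7_1 D49140 (iv6 D23981) (iv3 F37457)
theorem F77598 : act 4 n49140 = n33591 := d10_1 D49140 (iv6 F54528) F54530
def n49141 : Q := act 5 n23980
theorem D49141 : act 5 n23980 = n49141 := rfl
theorem F77599 : act 3 n49141 = n23985 := d6_1 D49141 (iv5 D23985) (iv3 F37459)
def n49142 : Q := act 0 n23981
theorem D49142 : act 0 n23981 = n49142 := rfl
def n49143 : Q := act 1 n23981
theorem D49143 : act 1 n23981 = n49143 := rfl
theorem F77600 : act 1 n49143 = n34845 := d15_1 D49143 (iv7 D34845) (iv2 F37461)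
def n49144 : Q := act 5 n23981
theorem D49144 : act 5 n23981 = n49144 := rfl
theorem F77601 : act 2 n49144 = n34844 := d2_1 D49144 (iv5 D34844) (iv2 F37461)
theorem F77602 : act 6 n49144 = n23985 := d12_2 D23981 D49144 (iv5 D23985) (iv6 D11240) (iv5 F18271)
def n49145 : Q := act 7 n23981
theorem D49145 : act 7 n23981 = n49145 := rfl
theorem F77603 : act 2 n49145 = n34845 := d4_1 D49145 (iv7 D34845) (iv2 F37461)
theorem F77604 : act 4 n49145 = n23984 := d11_1 D49145 (iv7 D23984) (iv4 F37462)
theorem F77605 : act 6 n49145 = n23984 := d14_1 D49145 (iv7 D23984) (iv6 D11239) (iv7 F18274) D23981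
theorem F77606 : act 1 n34845 = n49142 := d15_0 (iv0 D49142) D49145 F77603
theorem F77607 : act 1 n34843 = n49145 := d15_1 D34843 (iv7 D49145) F37461
theorem F77608 : act 1 n49145 = n34842 := d15_0 (iv0 D34842) D34845 (iv2 F77603)
def n49146 : Q := act 2 n23982
theorem D49146 : act 2 n23982 = n49146 := rfl
theorem F77609 : act 7 n23983 = n49146 := d15_2 (iv0 D23982) D23983 (iv2 D49146)
def n49147 : Q := act 3 n23982
theorem D49147 : act 3 n23982 = n49147 := rfl
def n49148 : Q := act 4 n23982
theorem D49148 : act 4 n23982 = n49148 := rfl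
def n49149 : Q := act 5 n23982
theorem D49149 : act 5 n23982 = n49149 := rfl
def n49150 : Q := act 6 n23982
theorem D49150 : act 6 n23982 = n49150 := rfl
def n49151 : Q := act 7 n23982
theorem D49151 : act 7 n23982 = n49151 := rfl
theorem F77610 : act 2 n49151 = n23983 := d4_1 D49151 F77609 (iv2 D49146)
def n49152 : Q := act 3 n23983
theorem D49152 : act 3 n23983 = n49152 := rfl
def n49153 : Q := act 4 n23983
theorem D49153 : act 4 n23983 = n49153 := rfl
def n49154 : Q := act 5 n23983
theorem D49154 : act 5 n23983 = n49154 := rfl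
def n49155 : Q := act 6 n23983
theorem D49155 : act 6 n23983 = n49155 := rfl
def n49156 : Q := act 0 n23985
theorem D49156 : act 0 n23985 = n49156 := rfl
theorem F77611 : act 5 n49156 = n29607 := d17_3 F22838 D23985 D49156 F47541 F23472 (iv0 D7863) F5591 F12413 D13684
theorem F77612 : act 1 n34849 = n49156 := d15_0 (iv0 D49156) (iv7 F77537) F77536
theorem F77613 : act 2 n34846 = n49156 := d2_3 F77611 F47540 (iv5 F55109)
theorem F77614 : act 7 n34847 = n49156 := d13_0 F77611 F47542 F55110
def n49157 : Q := act 1 n23985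
theorem D49157 : act 1 n23985 = n49157 := rfl
theorem F77615 : act 1 n49157 = n34849 := d15_1 D49157 (iv7 D34849) (iv2 F37468)
theorem F77616 : act 7 n49157 = n34846 := d15_2 (iv0 D49156) D49157 F77613
theorem F77617 : act 5 n28709 = n49157 := d21_6 D5771 (iv1 F12489) (iv5 D7887) D7888 F24849 (iv6 F46290) (iv1 D49157) (iv5 D23985) (iv6 D11240) (iv1 F7694)
theorem F77618 : act 2 n49157 = n34847 := d2_1 F77617 (iv5 F55110) (iv2 F46289)
def n49158 : Q := act 4 n23985
theorem D49158 : act 4 n23985 = n49158 := rfl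
theorem F77619 : act 2 n49158 = n34848 := d1_1 D49158 (iv4 D34848) (iv2 F37468)
def n49159 : Q := act 6 n23986
theorem D49159 : act 6 n23986 = n49159 := rfl
theorem F77620 : act 2 n49159 = n30172 := d3_1 D49159 (iv6 D30172) (iv2 F37472)
theorem F77621 : act 3 n49159 = n30413 := d7_1 D49159 (iv6 D30413) F37473
theorem F77622 : act 5 n49159 = n34049 := d12_1 D49159 (iv6 D34049) (iv5 D16494) D16495 F37471
def n49160 : Q := act 3 n23987
theorem D49160 : act 3 n23987 = n49160 := rfl
theorem F77623 : act 4 n49160 = n23998 := d5_2 D23987 D49160 (iv3 D23998) (iv4 D11249) (iv3 F18282)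
def n49161 : Q := act 5 n23987
theorem D49161 : act 5 n23987 = n49161 := rfl
theorem F77624 : act 0 n49161 = n28239 := d17_2 (iv1 F37474) D49161 (iv5 D28239) (iv4 D13481) (iv5 D6413) (iv0 D2811) D2813 D6421 D13498
theorem F77625 : act 1 n49161 = n28255 := d17_6 (iv1 F23978) (iv5 D14313) F11091 D11242 D23987 D49161 (iv5 D28255) F45724 F45723
def n49162 : Q := act 4 n23988
theorem D49162 : act 4 n23988 = n49162 := rfl
theorem F77626 : act 2 n49162 = n24112 := d1_1 D49162 (iv4 D24112) (iv2 F37475)
theorem F77627 : act 7 n49162 = n24119 := d11_2 (iv7 F37477) D49162 (iv4 D24119)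
theorem F77628 : act 0 n49162 = n31405 := d18_2 (iv1 F53442) D49162 (iv4 D31405) (iv5 D14802) D14801 F24461 (iv4 F23999) D30278 (iv5 F53440)
theorem F77629 : act 1 n49162 = n31409 := d18_6 (iv1 D6318) F4253 D5231 (iv4 F19528) D23988 D49162 (iv4 D31409) F24464 (iv5 D13320)
def n49163 : Q := act 6 n23988
theorem D49163 : act 6 n23988 = n49163 := rfl
theorem F77630 : act 2 n49163 = n24113 := d3_1 D49163 (iv6 D24113) (iv2 F37475)
theorem F77631 : act 3 n49163 = n34049 := d7_1 D49163 (iv6 D34049) (iv3 F37476)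
theorem F77632 : act 5 n49163 = n30413 := d12_1 D49163 (iv6 D30413) F37481 (iv6 D23989) D23988
def n49164 : Q := act 6 n23990
theorem D49164 : act 6 n23990 = n49164 := rfl
theorem F77633 : act 2 n49164 = n24126 := d3_1 D49164 (iv6 D24126) (iv2 F37495)
theorem F77634 : act 5 n49164 = n48647 := d12_1 D49164 (iv6 F76514) (iv5 F47944) (iv6 F48685) F48684
def n49165 : Q := act 3 n23991
theorem D49165 : act 3 n23991 = n49165 := rfl
theorem F77635 : act 6 n49165 = n23998 := d7_2 (iv6 F37488) D49165 (iv3 D23998)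
def n49166 : Q := act 5 n23991
theorem D49166 : act 5 n23991 = n49166 := rfl
theorem F77636 : act 2 n49166 = n24132 := d2_1 D49166 (iv5 D24132) (iv2 F37487)
def n49167 : Q := act 7 n23991
theorem D49167 : act 7 n23991 = n49167 := rfl
theorem F77637 : act 2 n49167 = n24133 := d4_1 D49167 (iv7 D24133) (iv2 F37487)
theorem F77638 : act 4 n49167 = n23992 := d11_1 D49167 (iv7 D23992) D23991
theorem F77639 : act 1 n24130 = n49167 := d15_1 D24130 (iv7 D49167) F37487
theorem F77640 : act 1 n49167 = n24129 := d15_1 F77639 (iv7 F37809) F37811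
def n49168 : Q := act 6 n23992
theorem D49168 : act 6 n23992 = n49168 := rfl
theorem F77641 : act 2 n49168 = n24134 := d3_1 D49168 (iv6 D24134) (iv2 F37490)
theorem F77642 : act 5 n49168 = n49168 := d12_1 D49168 (iv6 D49168) F37491 F18288 (iv5 F37491)
theorem F77643 : act 7 n49168 = n23999 := d14_2 D23992 D49168 (iv6 D23999) (iv7 D11250) (iv6 F18285)
theorem F77644 : act 1 n24197 = n49168 := d15_1 D24197 F77643 F37518
theorem F77645 : act 1 n49168 = n24196 := d15_0 (iv0 D24196) (iv7 F37816) (iv2 F77641)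
def n49169 : Q := act 6 n23993
theorem D49169 : act 6 n23993 = n49169 := rfl
theorem F77646 : act 2 n49169 = n25821 := d3_1 D49169 (iv6 D25821) (iv2 F37499)
theorem F77647 : act 3 n49169 = n23995 := d7_1 D49169 (iv6 D23995) D23993
theorem F77648 : act 4 n49169 = n48829 := d10_1 D49169 (iv6 D48829) F37502
def n49170 : Q := act 3 n23994
theorem D49170 : act 3 n23994 = n49170 := rfl
theorem F77649 : act 4 n49170 = n48827 := d5_2 D23994 D49170 (iv3 D48827) F37502 (iv3 D23993)
theorem F77650 : act 5 n49170 = n25240 := d6_2 (iv5 F37507) D49170 (iv3 D25240)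
theorem F77651 : act 7 n49170 = n24180 := d8_2 (iv7 F37506) D49170 (iv3 D24180)
def n49171 : Q := act 6 n23994
theorem D49171 : act 6 n23994 = n49171 := rfl
theorem F77652 : act 2 n49171 = n24172 := d3_1 D49171 (iv6 D24172) (iv2 F37505)
theorem F77653 : act 4 n49171 = n23995 := d10_1 D49171 (iv6 D23995) D23994
def n49172 : Q := act 0 n23995
theorem D49172 : act 0 n23995 = n49172 := rfl
def n49173 : Q := act 1 n23995
theorem D49173 : act 1 n23995 = n49173 := rfl
theorem F77654 : act 1 n49173 = n24176 := d15_1 D49173 (iv7 D24176) (iv2 F37510)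
def n49174 : Q := act 5 n23995
theorem D49174 : act 5 n23995 = n49174 := rfl
theorem F77655 : act 2 n49174 = n24175 := d2_1 D49174 (iv5 D24175) (iv2 F37510)
theorem F77656 : act 6 n49174 = n24049 := d12_2 D23995 D49174 F37622 (iv6 F19985) (iv5 F18292)
theorem F77657 : act 0 n49174 = n28760 := d21_4 (iv5 F36897) (iv1 F36899) (iv5 F37622) (iv6 F77656) (iv6 D28760) (iv5 D13714) F22517 D6813 F11067 D11303
def n49175 : Q := act 7 n23995
theorem D49175 : act 7 n23995 = n49175 := rfl
theorem F77658 : act 2 n49175 = n24176 := d4_1 D49175 (iv7 D24176) (iv2 F37510)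
theorem F77659 : act 6 n49175 = n24184 := d14_1 D49175 (iv7 D24184) (iv6 D11359) F18294 D23995
theorem F77660 : act 1 n24176 = n49172 := d15_0 (iv0 D49172) D49175 F77658
theorem F77661 : act 1 n24174 = n49175 := d15_1 D24174 (iv7 D49175) F37510
theorem F77662 : act 1 n49175 = n24173 := d15_0 (iv0 D24173) D24176 (iv2 F77658)
def n49176 : Q := act 3 n23996
theorem D49176 : act 3 n23996 = n49176 := rfl
theorem F77663 : act 4 n49176 = n25831 := d5_2 D23996 D49176 (iv3 D25831) (iv4 D12266) F19652
theorem F77664 : act 5 n49176 = n28084 := d6_2 (iv5 F37512) D49176 (iv3 D28084)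
theorem F77665 : act 7 n49176 = n24171 := d8_2 (iv7 F37513) D49176 (iv3 D24171)
def n49177 : Q := act 6 n23996
theorem D49177 : act 6 n23996 = n49177 := rfl
theorem F77666 : act 2 n49177 = n24181 := d3_1 D49177 (iv6 D24181) (iv2 F37511)
theorem F77667 : act 4 n49177 = n23997 := d10_1 D49177 (iv6 D23997) D23996
def n49178 : Q := act 0 n23997
theorem D49178 : act 0 n23997 = n49178 := rfl
def n49179 : Q := act 1 n23997
theorem D49179 : act 1 n23997 = n49179 := rfl
theorem F77668 : act 1 n49179 = n24184 := d15_1 D49179 (iv7 D24184) (iv2 F37516)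
def n49180 : Q := act 7 n23997
theorem D49180 : act 7 n23997 = n49180 := rfl
theorem F77669 : act 2 n49180 = n24184 := d4_1 D49180 (iv7 D24184) (iv2 F37516)
theorem F77670 : act 3 n49180 = n25837 := d8_1 D49180 (iv7 D25837) (iv3 F37517)
theorem F77671 : act 6 n49180 = n24176 := d14_1 D49180 (iv7 D24176) (iv6 D11356) (iv7 F18297) D23997
theorem F77672 : act 1 n24184 = n49178 := d15_0 (iv0 D49178) D49180 F77669
theorem F77673 : act 1 n24183 = n49180 := d15_1 D24183 (iv7 D49180) F37516
theorem F77674 : act 1 n49180 = n24182 := d15_0 (iv0 D24182) D24184 (iv2 F77669)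
def n49181 : Q := act 0 n23998
theorem D49181 : act 0 n23998 = n49181 := rfl
def n49182 : Q := act 1 n23998
theorem D49182 : act 1 n23998 = n49182 := rfl
def n49183 : Q := act 2 n23998
theorem D49183 : act 2 n23998 = n49183 := rfl
theorem F77675 : act 3 n49183 = n24191 := d0_2 D23998 D49183 (iv2 D24191) (iv3 D11362) (iv2 F18300)
def n49184 : Q := act 0 n23999
theorem D49184 : act 0 n23999 = n49184 := rfl
theorem F77676 : act 1 n24134 = n49184 := d15_0 (iv0 D49184) (iv7 F77643) F77641
def n49185 : Q := act 1 n23999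
theorem D49185 : act 1 n23999 = n49185 := rfl
theorem F77677 : act 1 n49185 = n24134 := d15_1 D49185 F37816 (iv2 F37518)
def n49186 : Q := act 4 n24000
theorem D49186 : act 4 n24000 = n49186 := rfl
theorem F77678 : act 2 n49186 = n29310 := d1_1 D49186 F46958 (iv2 F37623)
theorem F77679 : act 7 n49186 = n29309 := d11_2 (iv7 F37619) D49186 F46955
theorem F77680 : act 0 n49186 = n24031 := d18_2 (iv1 F37520) D49186 (iv4 D24031) (iv5 D11276) F10224 (iv0 D2162) (iv4 F3512) (iv0 F10237) D11263
theorem F77681 : act 1 n49186 = n24033 := d18_6 F20013 F20010 (iv1 F8840) (iv4 F19044) (iv5 F37521) D49186 (iv4 D24033) F22984 F22982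
def n49187 : Q := act 3 n24001
theorem D49187 : act 3 n24001 = n49187 := rfl
def n49188 : Q := act 6 n24001
theorem D49188 : act 6 n24001 = n49188 := rfl
theorem F77682 : act 4 n49188 = n24002 := d10_1 D49188 (iv6 D24002) D24001
def n49189 : Q := act 0 n24002
theorem D49189 : act 0 n24002 = n49189 := rfl
def n49190 : Q := act 1 n24002
theorem D49190 : act 1 n24002 = n49190 := rfl
def n49191 : Q := act 7 n24002
theorem D49191 : act 7 n24002 = n49191 := rfl
theorem F77683 : act 5 n49191 = n25422 := d13_1 D49191 (iv7 D25422) (iv5 F37523)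
def n49192 : Q := act 5 n24003
theorem D49192 : act 5 n24003 = n49192 := rfl
theorem F77684 : act 0 n49192 = n24065 := d17_2 (iv1 F37525) D49192 (iv5 D24065) F18437 (iv5 F18029) F18032 (iv5 F18676) (iv0 D11430) D11431
theorem F77685 : act 1 n49192 = n24066 := d17_6 (iv1 F7768) (iv5 F7769) (iv1 F10488) (iv5 F18331) D24003 D49192 (iv5 D24066) F18432 F18355
def n49193 : Q := act 5 n24004
theorem D49193 : act 5 n24004 = n49193 := rfl
theorem F77686 : act 3 n49193 = n24213 := d6_1 D49193 (iv5 D24213) (iv3 F37526)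
theorem F77687 : act 0 n49193 = n24066 := d17_2 (iv1 F37529) D49193 (iv5 D24066) F18433 (iv5 F7905) D5736 (iv5 F10919) (iv0 F10921) D11770
theorem F77688 : act 1 n49193 = n24065 := d17_6 D5214 (iv5 F10494) (iv1 F10496) F18335 D24004 D49193 (iv5 D24065) (iv0 D11297) (iv4 D5216)
def n49194 : Q := act 5 n24005
theorem D49194 : act 5 n24005 = n49194 := rfl
theorem F77689 : act 2 n49194 = n29674 := d2_1 D49194 (iv5 D29674) F37532
theorem F77690 : act 3 n49194 = n33071 := d6_1 D49194 (iv5 D33071) F37533
theorem F77691 : act 0 n49194 = n24062 := d17_2 (iv1 F37530) D49194 (iv5 D24062) (iv4 D11295) (iv5 F7769) (iv0 F7821) F18335 F18334 D11265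
theorem F77692 : act 1 n49194 = n24060 := d17_6 F8087 (iv5 F8838) (iv1 F8840) F18621 (iv4 F37531) D49194 (iv5 D24060) (iv0 F18424) (iv4 D5512)
def n49195 : Q := act 6 n24007
theorem D49195 : act 6 n24007 = n49195 := rfl
def n49196 : Q := act 3 n24009
theorem D49196 : act 3 n24009 = n49196 := rfl
def n49197 : Q := act 6 n24009
theorem D49197 : act 6 n24009 = n49197 := rfl
theorem F77693 : act 4 n49197 = n24010 := d10_1 D49197 (iv6 D24010) D24009
def n49198 : Q := act 0 n24010
theorem D49198 : act 0 n24010 = n49198 := rfl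
def n49199 : Q := act 1 n24010
theorem D49199 : act 1 n24010 = n49199 := rfl
theorem F77694 : act 6 n29791 = n49199 := d21_3 (iv5 F45208) (iv1 F45210) (iv5 F47933) (iv1 D49199) (iv6 D24010) (iv5 D11263) F10237 D5220 (iv6 F11067) D14287
def n49200 : Q := act 7 n24010
theorem D49200 : act 7 n24010 = n49200 := rfl
def n49201 : Q := act 5 n24011
theorem D49201 : act 5 n24011 = n49201 := rfl
theorem F77695 : act 3 n49201 = n24012 := d6_1 D49201 (iv5 D24012) D24011
theorem F77696 : act 7 n49201 = n48740 := d13_2 (iv7 F37541) D49201 (iv5 D48740)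
def n49202 : Q := act 6 n24012
theorem D49202 : act 6 n24012 = n49202 := rfl
def n49203 : Q := act 0 n24013
theorem D49203 : act 0 n24013 = n49203 := rfl
def n49204 : Q := act 1 n24013
theorem D49204 : act 1 n24013 = n49204 := rfl
def n49205 : Q := act 2 n24013
theorem D49205 : act 2 n24013 = n49205 := rfl
theorem F77697 : act 3 n49205 = n34286 := d0_2 D24013 D49205 F54395 F27086 F18421
theorem F77698 : act 6 n49205 = n49089 := d3_2 (iv6 F37544) D49205 (iv2 D49089)
def n49206 : Q := act 5 n24013
theorem D49206 : act 5 n24013 = n49206 := rfl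
theorem F77699 : act 3 n49206 = n24014 := d6_1 D49206 (iv5 D24014) D24013
def n49207 : Q := act 1 n24014
theorem D49207 : act 1 n24014 = n49207 := rfl
theorem F77700 : act 1 n49207 = n24016 := d15_1 D49207 (iv7 F37655) F37654
theorem F77701 : act 7 n49207 = n49194 := d15_2 F47694 D49207 F77689
theorem F77702 : act 5 n49207 = n24054 := d17_7 D11285 F18391 (iv1 F18194) F18191 D11267 D24014 D49207 (iv0 D24054) (iv4 D11287)
theorem F77703 : act 2 n29616 = n49207 := d2_3 F77702 (iv2 F37640) D29616
def n49208 : Q := act 6 n24014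
theorem D49208 : act 6 n24014 = n49208 := rfl
theorem F77704 : act 5 n49208 = n25527 := d12_1 D49208 (iv6 D25527) F20062 (iv6 F18346) D24014
def n49209 : Q := act 5 n24015
theorem D49209 : act 5 n24015 = n49209 := rfl
theorem F77705 : act 3 n49209 = n24016 := d6_1 D49209 (iv5 D24016) D24015
theorem F77706 : act 7 n49209 = n34289 := d13_2 (iv7 F37546) D49209 (iv5 D34289)
theorem F77707 : act 1 n49209 = n29196 := d17_6 (iv1 F50587) D33130 (iv1 F55569) (iv5 D24295) (iv4 F37545) D49209 (iv5 D29196) D29195 (iv4 F46850)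
def n49210 : Q := act 6 n24015
theorem D49210 : act 6 n24015 = n49210 := rfl
theorem F77708 : act 3 n49210 = n24017 := d7_1 D49210 (iv6 D24017) D24015
theorem F77709 : act 4 n49210 = n24296 := d10_1 D49210 (iv6 D24296) (iv4 F37545)
theorem F77710 : act 7 n49210 = n28361 := d14_2 (iv7 F37546) D49210 (iv6 D28361) (iv7 F37164) F37163
theorem F77711 : act 0 n32576 = n49210 := d20_7 (iv4 D12356) (iv1 D5877) (iv4 F9078) F26626 (iv1 F21182) (iv3 F24975) (iv4 F51641) F77709 F38087 (iv1 F20536)
theorem E8151 : n48685 = n46829 := (c20_4 (iv4 D28501) F22764 (iv4 F36957) (iv3 F76615) (iv1 D46829) (iv3 F73968) F73969 (iv1 F55597) (iv4 F77709) F77708 (iv1 F46049))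
theorem F77712 : act 3 n46829 = n23737 := (sb E8151 F76615)
theorem F77713 : act 4 n46829 = n49041 := (sb E8151 (iv4 F77413))
theorem F77714 : act 6 n46829 = n23735 := (sb E8151 (iv6 D48685))
def n49211 : Q := act 6 n24016
theorem D49211 : act 6 n24016 = n49211 := rfl
def n49212 : Q := act 5 n24017
theorem D49212 : act 5 n24017 = n49212 := rfl
theorem F77715 : act 2 n49212 = n32986 := d2_1 D49212 F52165 F37660
theorem F77716 : act 7 n49212 = n28362 := d13_2 (iv7 F37548) D49212 (iv5 D28362)
theorem F77717 : act 0 n49212 = n25623 := d17_2 F37549 D49212 (iv5 D25623) (iv4 D12181) (iv5 F12669) (iv0 F12673) (iv5 F18629) (iv0 F18631) D14898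
theorem F77718 : act 1 n49212 = n25621 := d17_6 D11231 F22682 (iv1 D13531) (iv5 F18350) (iv4 F37547) D49212 (iv5 D25621) (iv0 F20179) F8900
def n49213 : Q := act 5 n24018
theorem D49213 : act 5 n24018 = n49213 := rfl
theorem F77719 : act 3 n49213 = n24019 := d6_1 D49213 (iv5 D24019) D24018
theorem F77720 : act 7 n49213 = n34299 := d13_2 (iv7 F37552) D49213 (iv5 D34299)
def n49214 : Q := act 0 n24019
theorem D49214 : act 0 n24019 = n49214 := rfl
theorem F77721 : act 5 n49214 = n24053 := d17_3 D11270 D24019 D49214 (iv4 D24053) (iv5 F18398) F18193 F18191 (iv0 D5196) D5198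
theorem F77722 : act 1 n24021 = n49214 := d15_0 (iv0 D49214) (iv7 F37670) F37669
theorem F77723 : act 2 n49193 = n49214 := d2_3 F77721 F37634 D49193
theorem F77724 : act 7 n49192 = n49214 := d13_0 F77721 F37636 D49192
def n49215 : Q := act 1 n24019
theorem D49215 : act 1 n24019 = n49215 := rfl
theorem F77725 : act 1 n49215 = n24021 := d15_1 D49215 (iv7 F37668) F37667
theorem F77726 : act 7 n49215 = n49193 := d15_2 (iv0 D49214) D49215 F77723
theorem F77727 : act 5 n49215 = n24052 := d17_7 F10893 (iv5 D6688) F10019 F8838 (iv4 F18352) D24019 D49215 F37633 (iv4 D11389)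
theorem F77728 : act 2 n49192 = n49215 := d2_3 F77727 F37629 D49192
theorem F77729 : act 3 n25331 = n49215 := d6_3 F77727 F37630 D25331
def n49216 : Q := act 6 n24019
theorem D49216 : act 6 n24019 = n49216 := rfl
theorem F77730 : act 5 n49216 = n28389 := d12_1 D49216 (iv6 D28389) (iv5 D13543) F18353 D24019
def n49217 : Q := act 1 n24020
theorem D49217 : act 1 n24020 = n49217 := rfl
theorem F77731 : act 7 n49217 = n48711 := d15_2 (iv0 F50510) D49217 F76660
def n49218 : Q := act 2 n24020
theorem D49218 : act 2 n24020 = n49218 := rfl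
theorem F77732 : act 3 n49218 = n29064 := d0_2 D24020 D49218 F46700 F27090 (iv2 F18434)
theorem F77733 : act 0 n49218 = n48711 := d20_10 F76662 F56578 (iv4 F46649) (iv3 D29012) (iv1 D13809) D13810 F23069 D13836 D29064 (iv3 F77732)
def n49219 : Q := act 5 n24020
theorem D49219 : act 5 n24020 = n49219 := rfl
theorem F77734 : act 3 n49219 = n24021 := d6_1 D49219 (iv5 D24021) D24020
def n49220 : Q := act 6 n24020
theorem D49220 : act 6 n24020 = n49220 := rfl
theorem F77735 : act 3 n49220 = n24022 := d7_1 D49220 (iv6 D24022) D24020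
theorem F77736 : act 7 n49220 = n46829 := d14_2 F37666 D49220 F77714 F36952 (iv6 F37665)
theorem F77737 : act 2 n49220 = n46828 := d15_3 (iv0 D46828) D46829 (iv7 F77736)
theorem F77738 : act 6 n46828 = n49218 := d3_2 D49220 F77737 (iv2 D49218)
def n49221 : Q := act 6 n24021
theorem D49221 : act 6 n24021 = n49221 := rfl
def n49222 : Q := act 5 n24022
theorem D49222 : act 5 n24022 = n49222 := rfl
theorem F77739 : act 7 n49222 = n48687 := d13_2 (iv7 F37554) D49222 (iv5 D48687)
theorem F77740 : act 0 n49222 = n28495 := d17_2 (iv1 F40252) D49222 (iv5 D28495) (iv4 F22749) (iv5 F12661) (iv0 F12663) (iv5 F18350) (iv0 F27335) (iv4 F40250)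
theorem F77741 : act 1 n49222 = n28494 := d17_6 D6465 D13586 F22764 (iv5 F19124) (iv4 F37553) D49222 (iv5 D28494) (iv0 D13581) F10538
def n49223 : Q := act 4 n24023
theorem D49223 : act 4 n24023 = n49223 := rfl
theorem F77742 : act 5 n49223 = n25290 := d9_2 D24023 D49223 (iv4 D25290) (iv5 D12009) F10074 D11201 D23922 (iv5 F39977) (iv4 F53915) (iv5 D34258) (iv4 D16584) (iv5 D7706) F10291 D6618 (iv4 F26406)
theorem F77743 : act 0 n49223 = n48738 := d18_2 (iv1 F40052) D49223 (iv4 D48738) (iv5 D23769) F18075 (iv0 F7825) D11377 F19918 (iv5 F40051)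
theorem F77744 : act 1 n49223 = n25358 := d18_6 D13808 F23065 F18344 (iv4 F26406) D24023 D49223 (iv4 F40530) F40533 (iv5 D13811)
def n49224 : Q := act 6 n24023
theorem D49224 : act 6 n24023 = n49224 := rfl
theorem F77745 : act 3 n49224 = n24027 := d7_1 D49224 (iv6 D24027) (iv3 F37555)
def n49225 : Q := act 3 n24024
theorem D49225 : act 3 n24024 = n49225 := rfl
theorem F77746 : act 5 n49225 = n24283 := d6_2 (iv5 F37557) D49225 (iv3 D24283)
theorem F77747 : act 2 n26512 = n49225 := d2_3 F77746 (iv2 F38061) D26512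
def n49226 : Q := act 6 n24024
theorem D49226 : act 6 n24024 = n49226 := rfl
theorem F77748 : act 5 n49226 = n49054 := d12_1 D49226 (iv6 D49054) (iv5 D23932) F26793 (iv5 F37557)
def n49227 : Q := act 3 n24025
theorem D49227 : act 3 n24025 = n49227 := rfl
theorem F77749 : act 5 n49227 = n24835 := d6_2 (iv5 F37558) D49227 (iv3 D24835)
def n49228 : Q := act 6 n24025
theorem D49228 : act 6 n24025 = n49228 := rfl
def n49229 : Q := act 3 n24026
theorem D49229 : act 3 n24026 = n49229 := rfl
def n49230 : Q := act 6 n24026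
theorem D49230 : act 6 n24026 = n49230 := rfl
theorem F77750 : act 4 n49230 = n24027 := d10_1 D49230 (iv6 D24027) D24026
def n49231 : Q := act 0 n24027
theorem D49231 : act 0 n24027 = n49231 := rfl
def n49232 : Q := act 1 n24027
theorem D49232 : act 1 n24027 = n49232 := rfl
theorem F77751 : act 5 n49150 = n49232 := d21_6 (iv5 D6463) F4476 D5168 D11239 D23982 D49150 (iv1 D49232) (iv5 F40384) (iv6 D25543) F20082
def n49233 : Q := act 7 n24027
theorem D49233 : act 7 n24027 = n49233 := rfl
def n49234 : Q := act 6 n24028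
theorem D49234 : act 6 n24028 = n49234 := rfl
def n49235 : Q := act 0 n24029
theorem D49235 : act 0 n24029 = n49235 := rfl
theorem F77752 : act 5 n49235 = n25212 := d17_3 F19478 D24029 D49235 (iv4 D25212) (iv5 F23861) (iv0 D13733) (iv5 D6539) (iv0 F19473) (iv4 F10446)
theorem F77753 : act 4 n49235 = n29539 := d18_1 D49235 (iv1 F47383) (iv4 D14291) (iv5 D6823) (iv4 F22504) F10447 (iv4 F22396) (iv0 F22398) D24029
theorem F77754 : act 2 n29318 = n49235 := d15_3 (iv0 D49235) F46492 F46970
theorem F77755 : act 1 n28195 = n49235 := d15_0 (iv0 D49235) F37561 (iv2 F45598)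
theorem F77756 : act 7 n49235 = n29317 := d15_2 (iv0 F46491) F77755 (iv2 F46971)
theorem F77757 : act 3 n29817 = n49235 := d8_3 F77756 F46965 (iv7 F47984)
def n49236 : Q := act 4 n24029
theorem D49236 : act 4 n24029 = n49236 := rfl
theorem F77758 : act 7 n49236 = n29319 := d11_2 (iv7 F37561) D49236 (iv4 D29319)
theorem F77759 : act 5 n49236 = n30094 := d17_5 (iv1 D28197) (iv5 D13460) F19478 D24029 D49236 (iv0 D30094) (iv5 D14284) D14282 F45609
theorem F77760 : act 0 n49236 = n29075 := d18_2 (iv1 F46492) D49236 (iv4 D29075) F23118 (iv4 F26093) F36883 (iv4 F36939) (iv0 F39710) (iv5 F46490)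
theorem F77761 : act 1 n49236 = n29073 := d18_6 F22493 (iv4 F4806) D6793 F22496 D24029 D49236 (iv4 D29073) (iv0 D13841) (iv5 D6584)
theorem F77762 : act 7 n30094 = n30091 := d13_2 (iv7 F77758) F77759 F48351
theorem F77763 : act 2 n30091 = n30095 := d15_3 F48358 F48357 F77762
theorem F77764 : act 2 n30094 = n30092 := d15_3 F48356 F48352 (iv7 F77762)
theorem F77765 : act 7 n30092 = n30095 := d4_2 (iv7 F77762) F77764 (iv2 F77763)
def n49237 : Q := act 6 n24029
theorem D49237 : act 6 n24029 = n49237 := rfl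
theorem F77766 : act 3 n49237 = n24032 := d7_1 D49237 (iv6 D24032) (iv3 F37560)
theorem F77767 : act 5 n49237 = n28099 := d12_1 D49237 (iv6 D28099) (iv5 F24601) F24602 D24029
def n49238 : Q := act 4 n24030
theorem D49238 : act 4 n24030 = n49238 := rfl
theorem F77768 : act 2 n49238 = n29308 := d1_1 D49238 (iv4 D29308) F37565
theorem F77769 : act 7 n49238 = n29306 := d11_2 (iv7 F37563) D49238 (iv4 D29306)
theorem F77770 : act 0 n49238 = n24050 := d18_2 (iv1 F37562) D49238 (iv4 D24050) (iv5 D11283) (iv4 D5206) (iv0 D2138) (iv4 F3500) D5201 D11277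
theorem F77771 : act 1 n49238 = n24056 := d18_6 (iv1 F36900) F36896 (iv1 F18193) D13532 (iv5 F37564) D49238 (iv4 D24056) F37616 F37615
def n49239 : Q := act 3 n24031
theorem D49239 : act 3 n24031 = n49239 := rfl
theorem F77772 : act 7 n49239 = n29322 := d8_2 (iv7 F37567) D49239 (iv3 D29322)
def n49240 : Q := act 5 n24031
theorem D49240 : act 5 n24031 = n49240 := rfl
theorem F77773 : act 2 n49240 = n29312 := d2_1 D49240 (iv5 D29312) (iv2 F37566)
theorem F77774 : act 7 n49240 = n29323 := d13_2 (iv7 F37567) D49240 (iv5 D29323)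
theorem F77775 : act 4 n49240 = n24074 := d16_2 D24031 D49240 F37687 (iv4 D11391) (iv5 D5293) (iv4 F10274) D11277 F18361 (iv2 F18358)
theorem F77776 : act 0 n49240 = n24235 := d17_2 F77680 D49240 F37992 F37732 F18472 (iv0 F10227) D11257 D24000 D49186
theorem F77777 : act 1 n49240 = n24082 := d17_6 (iv1 D11280) (iv5 D5202) D5200 D11276 D24031 D49240 (iv5 D24082) (iv0 F37594) (iv4 D24040)
def n49241 : Q := act 6 n24031
theorem D49241 : act 6 n24031 = n49241 := rfl
theorem F77778 : act 2 n49241 = n29313 := d3_1 D49241 (iv6 D29313) (iv2 F37566)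
theorem F77779 : act 4 n49241 = n24032 := d10_1 D49241 (iv6 D24032) D24031
def n49242 : Q := act 0 n24032
theorem D49242 : act 0 n24032 = n49242 := rfl
theorem F77780 : act 5 n49242 = n27971 := d21_0 (iv1 D27971) D27972 F45225 F22214 F10591 (iv5 D5202) D5200 D11276 D24032 D49242
def n49243 : Q := act 1 n24032
theorem D49243 : act 1 n24032 = n49243 := rfl
theorem F77781 : act 1 n49243 = n29316 := d15_1 D49243 (iv7 D29316) (iv2 F37568)
theorem F77782 : act 5 n27970 = n49243 := d21_0 (iv1 D49243) F37569 (iv6 D13415) (iv1 D6374) F4318 (iv5 D2652) D2650 D6328 D13343 D27970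
theorem F77783 : act 6 n25448 = n27970 := d21_5 (iv5 D2726) (iv1 F9906) D5730 D12096 D25448 F77782 (iv1 D49243) F37569 (iv6 D13415) (iv1 D6374)
def n49244 : Q := act 7 n24032
theorem D49244 : act 7 n24032 = n49244 := rfl
theorem F77784 : act 2 n49244 = n29316 := d4_1 D49244 (iv7 D29316) (iv2 F37568)
theorem F77785 : act 5 n49244 = n28102 := d13_1 D49244 (iv7 D28102) (iv5 F37569)
theorem F77786 : act 6 n49244 = n29328 := d14_1 D49244 (iv7 D29328) (iv6 D13953) (iv7 F18359) D24032
theorem F77787 : act 1 n29316 = n49242 := d15_0 (iv0 D49242) D49244 F77784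
theorem F77788 : act 1 n29315 = n49244 := d15_1 D29315 (iv7 D49244) F37568
theorem F77789 : act 1 n49244 = n29314 := d15_0 (iv0 D29314) D29316 (iv2 F77784)
def n49245 : Q := act 3 n24033
theorem D49245 : act 3 n24033 = n49245 := rfl
theorem F77790 : act 7 n49245 = n29311 := d8_2 (iv7 F37571) D49245 (iv3 D29311)
def n49246 : Q := act 5 n24033
theorem D49246 : act 5 n24033 = n49246 := rfl
theorem F77791 : act 2 n49246 = n29323 := d2_1 D49246 (iv5 D29323) (iv2 F37570)
theorem F77792 : act 4 n49246 = n24073 := d9_1 D49246 F37681 (iv4 D11389) (iv5 D5290) (iv4 F10224) D11276 D24031 D49240 F77775 F37687 (iv4 D11391) (iv5 D5293) (iv4 F10274) D11277 D24033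
theorem F77793 : act 7 n49246 = n29312 := d13_2 (iv7 F37571) D49246 (iv5 D29312)
theorem F77794 : act 0 n49246 = n24082 := d17_2 F47529 D49246 (iv5 D24082) (iv4 D11305) (iv5 D5220) (iv0 F10237) D11263 (iv0 F23463) D29603
theorem F77795 : act 1 n49246 = n24235 := d17_6 (iv1 F18371) F10759 (iv1 F7755) D11277 D24033 D49246 F37992 F37734 (iv4 D24037)
def n49247 : Q := act 6 n24033
theorem D49247 : act 6 n24033 = n49247 := rfl
theorem F77796 : act 2 n49247 = n29324 := d3_1 D49247 (iv6 D29324) (iv2 F37570)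
theorem F77797 : act 4 n49247 = n24034 := d10_1 D49247 (iv6 D24034) D24033
def n49248 : Q := act 0 n24034
theorem D49248 : act 0 n24034 = n49248 := rfl
theorem F77798 : act 2 n29426 = n49248 := d15_3 (iv0 D49248) (iv0 F46379) (iv7 F47155)
theorem F77799 : act 7 n49248 = n29326 := d4_2 (iv7 F47155) F77798 F46980
theorem E8152 : n29426 = n29325 := (c15_4 (iv0 D29325) D29326 (iv7 F77799) (iv2 F77798))
theorem F77800 : act 2 n29325 = n49248 := (sb E8152 F77798)
theorem F77801 : act 3 n29325 = n13995 := (sb E8152 (iv3 D29426))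
theorem F77802 : act 5 n29325 = n48849 := (sb E8152 (iv5 F76921))
theorem F77803 : act 7 n29325 = n28744 := (sb E8152 F47155)
theorem F77804 : act 1 n29328 = n49248 := d15_1 F46984 F77799 F46980
def n49249 : Q := act 5 n24034
theorem D49249 : act 5 n24034 = n49249 := rfl
theorem F77805 : act 2 n49249 = n29327 := d2_1 D49249 (iv5 D29327) (iv2 F37572)
theorem F77806 : act 6 n49249 = n24035 := d12_2 D24034 D49249 (iv5 D24035) (iv6 D11278) D11277
def n49250 : Q := act 7 n24034
theorem D49250 : act 7 n24034 = n49250 := rfl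
theorem F77807 : act 2 n49250 = n29328 := d4_1 D49250 (iv7 D29328) (iv2 F37572)
theorem F77808 : act 6 n49250 = n29316 := d14_1 D49250 (iv7 D29316) (iv6 D13949) (iv7 F18361) D24034
theorem F77809 : act 1 n29326 = n49250 := d15_1 D29326 (iv7 D49250) F37572
theorem F77810 : act 1 n49250 = n29325 := d15_1 F77809 F77803 (iv2 F46980)
theorem F77811 : act 5 n28782 = n28100 := d21_0 (iv1 F77464) F77460 (iv6 F77808) (iv1 F77809) (iv6 F46979) (iv5 F46328) (iv1 F39757) F22168 D13726 D28782
def n49251 : Q := act 6 n24036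
theorem D49251 : act 6 n24036 = n49251 := rfl
theorem F77812 : act 3 n49251 = n24038 := d7_1 D49251 (iv6 D24038) D24036
theorem F77813 : act 4 n49251 = n30087 := d10_1 D49251 (iv6 D30087) F37578
def n49252 : Q := act 3 n24037
theorem D49252 : act 3 n24037 = n49252 := rfl
theorem F77814 : act 4 n49252 = n30085 := d5_2 D24037 D49252 (iv3 D30085) F37578 (iv3 D24036)
theorem F77815 : act 7 n49252 = n29339 := d8_2 (iv7 F37585) D49252 (iv3 D29339)
def n49253 : Q := act 5 n24037
theorem D49253 : act 5 n24037 = n49253 := rfl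
theorem F77816 : act 2 n49253 = n29333 := d2_1 D49253 (iv5 D29333) (iv2 F37584)
theorem F77817 : act 7 n49253 = n29340 := d13_2 (iv7 F37585) D49253 (iv5 D29340)
theorem F77818 : act 4 n49253 = n24066 := d16_2 D24037 D49253 (iv5 D24066) F18433 (iv5 F7905) (iv4 F8827) F18366 (iv7 F18375) (iv2 F18374)
def n49254 : Q := act 6 n24037
theorem D49254 : act 6 n24037 = n49254 := rfl
theorem F77819 : act 2 n49254 = n29334 := d3_1 D49254 (iv6 D29334) (iv2 F37584)
theorem F77820 : act 4 n49254 = n24038 := d10_1 D49254 (iv6 D24038) D24037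
def n49255 : Q := act 0 n24038
theorem D49255 : act 0 n24038 = n49255 := rfl
def n49256 : Q := act 1 n24038
theorem D49256 : act 1 n24038 = n49256 := rfl
theorem F77821 : act 1 n49256 = n29337 := d15_1 D49256 (iv7 D29337) (iv2 F37587)
def n49257 : Q := act 7 n24038
theorem D49257 : act 7 n24038 = n49257 := rfl
theorem F77822 : act 2 n49257 = n29337 := d4_1 D49257 (iv7 D29337) (iv2 F37587)
theorem F77823 : act 6 n49257 = n29344 := d14_1 D49257 (iv7 D29344) (iv6 D13960) (iv7 F18373) D24038
theorem F77824 : act 1 n29337 = n49255 := d15_0 (iv0 D49255) D49257 F77822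
theorem F77825 : act 1 n29336 = n49257 := d15_1 D29336 (iv7 D49257) F37587
theorem F77826 : act 1 n49257 = n29335 := d15_0 (iv0 D29335) D29337 (iv2 F77822)
def n49258 : Q := act 6 n24039
theorem D49258 : act 6 n24039 = n49258 := rfl
theorem F77827 : act 3 n49258 = n24041 := d7_1 D49258 (iv6 D24041) D24039
theorem F77828 : act 4 n49258 = n29847 := d10_1 D49258 (iv6 D29847) (iv4 F37590)
theorem F77829 : act 5 n49258 = n25442 := d12_1 D49258 (iv6 D25442) (iv5 D12093) D12094 (iv5 F37588)
def n49259 : Q := act 3 n24040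
theorem D49259 : act 3 n24040 = n49259 := rfl
theorem F77830 : act 4 n49259 = n29845 := d5_2 D24040 D49259 (iv3 D29845) (iv4 F37590) (iv3 D24039)
theorem F77831 : act 7 n49259 = n29332 := d8_2 (iv7 F37593) D49259 (iv3 D29332)
def n49260 : Q := act 5 n24040
theorem D49260 : act 5 n24040 = n49260 := rfl
theorem F77832 : act 2 n49260 = n29340 := d2_1 D49260 (iv5 D29340) (iv2 F37592)
theorem F77833 : act 4 n49260 = n24065 := d9_1 D49260 (iv5 D24065) F18437 (iv5 F18029) (iv4 F36947) F36948 D24037 D49253 F77818 (iv5 D24066) F18433 (iv5 F7905) (iv4 F8827) F18366 D24040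
theorem F77834 : act 7 n49260 = n29333 := d13_2 (iv7 F37593) D49260 (iv5 D29333)
def n49261 : Q := act 6 n24040
theorem D49261 : act 6 n24040 = n49261 := rfl
theorem F77835 : act 2 n49261 = n29341 := d3_1 D49261 (iv6 D29341) (iv2 F37592)
theorem F77836 : act 4 n49261 = n24041 := d10_1 D49261 (iv6 D24041) D24040
def n49262 : Q := act 0 n24041
theorem D49262 : act 0 n24041 = n49262 := rfl
def n49263 : Q := act 1 n24041
theorem D49263 : act 1 n24041 = n49263 := rfl
theorem F77837 : act 1 n49263 = n29344 := d15_1 D49263 (iv7 D29344) (iv2 F37595)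
def n49264 : Q := act 7 n24041
theorem D49264 : act 7 n24041 = n49264 := rfl
theorem F77838 : act 2 n49264 = n29344 := d4_1 D49264 (iv7 D29344) (iv2 F37595)
theorem F77839 : act 5 n49264 = n25450 := d13_1 D49264 (iv7 D25450) (iv5 F37596)
theorem F77840 : act 6 n49264 = n29337 := d14_1 D49264 (iv7 D29337) (iv6 D13957) F18375 D24041
theorem F77841 : act 1 n29344 = n49262 := d15_0 (iv0 D49262) D49264 F77838
theorem F77842 : act 1 n29343 = n49264 := d15_1 D29343 (iv7 D49264) F37595
theorem F77843 : act 1 n49264 = n29342 := d15_0 (iv0 D29342) D29344 (iv2 F77838)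
theorem F77844 : act 5 n28002 = n29342 := d21_0 (iv1 F77843) F77839 (iv6 F45887) (iv1 F45888) (iv6 F40267) F39713 (iv1 F37957) F23670 D13364 D28002
def n49265 : Q := act 3 n24042
theorem D49265 : act 3 n24042 = n49265 := rfl
theorem F77845 : act 4 n49265 = n29971 := d5_2 (iv4 F37597) D49265 (iv3 D29971) (iv4 D14233) (iv3 F19546)
theorem F77846 : act 7 n49265 = n29348 := d8_2 F37599 D49265 (iv3 D29348)
def n49266 : Q := act 5 n24042
theorem D49266 : act 5 n24042 = n49266 := rfl
theorem F77847 : act 2 n49266 = n29346 := d2_1 D49266 (iv5 D29346) F37598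
theorem F77848 : act 7 n49266 = n29349 := d13_2 F37599 D49266 (iv5 D29349)
theorem F77849 : act 4 n49266 = n24062 := d16_2 (iv4 F37597) D49266 (iv5 D24062) (iv4 D11295) (iv5 F7769) (iv4 F18000) F18468 (iv7 F18477) (iv2 F18476)
def n49267 : Q := act 6 n24042
theorem D49267 : act 6 n24042 = n49267 := rfl
theorem F77850 : act 2 n49267 = n29347 := d3_1 D49267 (iv6 D29347) F37598
theorem F77851 : act 4 n49267 = n24090 := d10_1 D49267 (iv6 D24090) (iv4 F37597)
def n49268 : Q := act 3 n24043
theorem D49268 : act 3 n24043 = n49268 := rfl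
theorem F77852 : act 7 n49268 = n29345 := d8_2 (iv7 F37602) D49268 (iv3 D29345)
def n49269 : Q := act 5 n24043
theorem D49269 : act 5 n24043 = n49269 := rfl
theorem F77853 : act 2 n49269 = n29349 := d2_1 D49269 (iv5 D29349) F37604
theorem F77854 : act 4 n49269 = n24060 := d9_1 D49269 (iv5 D24060) (iv4 D11294) (iv5 F10494) (iv4 F19988) F19989 (iv4 F37597) D49266 F77849 (iv5 D24062) (iv4 D11295) (iv5 F7769) (iv4 F18000) F18468 (iv4 F37603)
theorem F77855 : act 7 n49269 = n29346 := d13_2 (iv7 F37602) D49269 (iv5 D29346)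
def n49270 : Q := act 6 n24043
theorem D49270 : act 6 n24043 = n49270 := rfl
theorem F77856 : act 2 n49270 = n29350 := d3_1 D49270 (iv6 D29350) F37604
theorem F77857 : act 4 n49270 = n24091 := d10_1 D49270 (iv6 D24091) (iv4 F37603)
def n49271 : Q := act 0 n24044
theorem D49271 : act 0 n24044 = n49271 := rfl
def n49272 : Q := act 1 n24044
theorem D49272 : act 1 n24044 = n49272 := rfl
def n49273 : Q := act 2 n24044
theorem D49273 : act 2 n24044 = n49273 := rfl
theorem F77858 : act 3 n49273 = n29353 := d0_2 D24044 D49273 (iv2 D29353) (iv3 D13963) (iv2 F18368)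
def n49274 : Q := act 5 n24044
theorem D49274 : act 5 n24044 = n49274 := rfl
theorem F77859 : act 3 n49274 = n24045 := d6_1 D49274 (iv5 D24045) D24044
theorem F77860 : act 7 n49229 = n49274 := d8_0 F77859 (iv7 F37607) D49229
def n49275 : Q := act 7 n24044
theorem D49275 : act 7 n24044 = n49275 := rfl
theorem F77861 : act 3 n49275 = n24046 := d8_1 D49275 (iv7 D24046) D24044
theorem F77862 : act 5 n49275 = n49229 := d13_1 D49275 F77860 (iv5 D49274)
def n49276 : Q := act 0 n24045
theorem D49276 : act 0 n24045 = n49276 := rfl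
theorem F77863 : act 5 n49276 = n24050 := d17_3 (iv1 D24043) D24045 D49276 (iv4 D24050) (iv5 D11283) F10262 D5225 D11312 (iv4 F37603)
theorem F77864 : act 4 n49276 = n24059 := d18_1 D49276 F37653 D24841 F38885 F37706 F18473 (iv4 F37597) (iv0 D24042) D24045
theorem F77865 : act 1 n24075 = n49276 := d15_0 (iv0 D49276) (iv7 F37607) (iv2 F37689)
theorem F77866 : act 2 n29356 = n49276 := d1_3 F77864 F37651 (iv4 F47010)
theorem F77867 : act 7 n29357 = n49276 := d11_0 F77864 F37652 (iv4 F47014)
def n49277 : Q := act 1 n24045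
theorem D49277 : act 1 n24045 = n49277 := rfl
theorem F77868 : act 1 n49277 = n24075 := d15_1 D49277 (iv7 F37691) (iv2 F37605)
theorem F77869 : act 7 n49277 = n29356 := d15_2 (iv0 D49276) D49277 F77866
theorem F77870 : act 5 n49277 = n24056 := d17_7 (iv1 F22984) (iv5 D11277) (iv1 D5201) D5202 D11281 D24045 D49277 (iv0 F46452) (iv4 D28817)
theorem F77871 : act 4 n49277 = n24055 := d17_9 (iv1 F37998) F37996 (iv1 F18636) D24062 (iv4 F77849) (iv5 D49266) (iv0 D24042) D24045 D49277
theorem F77872 : act 2 n29357 = n49277 := d1_3 F77871 F37644 (iv4 F47014)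
def n49278 : Q := act 6 n24045
theorem D49278 : act 6 n24045 = n49278 := rfl
theorem F77873 : act 2 n49278 = n29358 := d3_1 D49278 (iv6 D29358) (iv2 F37605)
theorem F77874 : act 4 n49278 = n49234 := d10_1 D49278 (iv6 D49234) (iv4 F37606)
def n49279 : Q := act 6 n24046
theorem D49279 : act 6 n24046 = n49279 := rfl
theorem F77875 : act 2 n49279 = n29359 := d3_1 D49279 (iv6 D29359) (iv2 F37608)
theorem F77876 : act 4 n49279 = n24047 := d10_1 D49279 (iv6 D24047) (iv4 F37609)
def n49280 : Q := act 6 n24048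
theorem D49280 : act 6 n24048 = n49280 := rfl
theorem F77877 : act 2 n49280 = n29601 := d3_1 D49280 F47525 F37617
theorem F77878 : act 3 n49280 = n29620 := d7_1 D49280 (iv6 D29620) F37618
theorem F77879 : act 5 n49280 = n25329 := d12_1 D49280 (iv6 D25329) (iv5 D12026) D12027 (iv5 F37615)
def n49281 : Q := act 3 n24050
theorem D49281 : act 3 n24050 = n49281 := rfl
theorem F77880 : act 4 n49281 = n29952 := d5_2 D24050 D49281 (iv3 D29952) (iv4 D14225) (iv3 F18378)
theorem F77881 : act 7 n49281 = n49196 := d8_2 (iv7 F37625) D49281 (iv3 D49196)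
def n49282 : Q := act 6 n24050
theorem D49282 : act 6 n24050 = n49282 := rfl
theorem F77882 : act 2 n49282 = n49188 := d3_1 D49282 (iv6 D49188) (iv2 F37624)
theorem F77883 : act 4 n49282 = n24051 := d10_1 D49282 (iv6 D24051) D24050
def n49283 : Q := act 0 n24051
theorem D49283 : act 0 n24051 = n49283 := rfl
def n49284 : Q := act 1 n24051
theorem D49284 : act 1 n24051 = n49284 := rfl
theorem F77884 : act 1 n49284 = n49191 := d15_1 D49284 (iv7 D49191) (iv2 F37626)
def n49285 : Q := act 7 n24051
theorem D49285 : act 7 n24051 = n49285 := rfl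
theorem F77885 : act 2 n49285 = n49191 := d4_1 D49285 (iv7 D49191) (iv2 F37626)
theorem F77886 : act 3 n49285 = n29957 := d8_1 D49285 (iv7 D29957) (iv3 F37627)
theorem F77887 : act 5 n49285 = n48656 := d13_1 D49285 (iv7 D48656) (iv5 F37628)
theorem F77888 : act 6 n49285 = n49200 := d14_1 D49285 (iv7 D49200) (iv6 D24010) (iv7 F18379) D24051
theorem F77889 : act 1 n49191 = n49283 := d15_0 (iv0 D49283) D49285 F77885
theorem F77890 : act 1 n49190 = n49285 := d15_1 D49190 (iv7 D49285) F37626
theorem F77891 : act 1 n49285 = n49189 := d15_0 (iv0 D49189) D49191 (iv2 F77885)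
def n49286 : Q := act 3 n24053
theorem D49286 : act 3 n24053 = n49286 := rfl
theorem F77892 : act 2 n49286 = n25333 := d0_1 D49286 (iv3 D25333) (iv2 F19913) (iv3 F37526) (iv2 F37634)
theorem F77893 : act 4 n49286 = n49286 := d5_2 D24053 D49286 (iv3 D49286) (iv4 D24053) F18400
theorem F77894 : act 6 n49286 = n25333 := d7_2 (iv6 F37635) D49286 (iv3 D25333)
theorem F77895 : act 7 n49286 = n49125 := d8_2 (iv7 F37636) D49286 F77573
theorem F77896 : act 0 n49286 = n49120 := d20_4 (iv4 D11292) (iv1 F18396) D24053 D49286 F77559 F54287 (iv1 D29727) D29729 F47781 (iv1 F37641)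
theorem F77897 : act 0 n49127 = n49286 := d20_4 (iv4 D29693) (iv1 F23578) D29189 (iv3 F77576) (iv3 D49286) (iv4 D24053) (iv1 D11286) D11287 (iv3 F37050) (iv1 F47721)
def n49287 : Q := act 6 n24055
theorem D49287 : act 6 n24055 = n49287 := rfl
theorem F77898 : act 2 n49287 = n49195 := d3_1 D49287 (iv6 D49195) (iv2 F37644)
def n49288 : Q := act 3 n24056
theorem D49288 : act 3 n24056 = n49288 := rfl
theorem F77899 : act 7 n49288 = n49187 := d8_2 (iv7 F37648) D49288 (iv3 D49187)
def n49289 : Q := act 6 n24056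
theorem D49289 : act 6 n24056 = n49289 := rfl
theorem F77900 : act 2 n49289 = n49197 := d3_1 D49289 (iv6 D49197) (iv2 F37647)
theorem F77901 : act 4 n49289 = n24057 := d10_1 D49289 (iv6 D24057) D24056
def n49290 : Q := act 0 n24057
theorem D49290 : act 0 n24057 = n49290 := rfl
def n49291 : Q := act 1 n24057
theorem D49291 : act 1 n24057 = n49291 := rfl
theorem F77902 : act 1 n49291 = n49200 := d15_1 D49291 (iv7 D49200) (iv2 F37649)
theorem F77903 : act 6 n28738 = n49291 := d21_3 (iv5 F37796) (iv1 F39323) (iv5 F46371) (iv1 D49291) (iv6 D24057) (iv5 D11290) F10253 D5225 (iv6 F18459) (iv1 F37717)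
theorem F77904 : act 5 n30164 = n49291 := d21_6 (iv5 D6683) F7730 D5700 (iv6 F19921) (iv1 F37486) D30164 (iv1 D49291) (iv5 F47512) (iv6 D29594) (iv1 D14056)
theorem F77905 : act 3 n49291 = n29538 := d6_1 F77904 F47381 (iv3 F48519)
theorem F77906 : act 2 n49291 = n49199 := d3_1 F77903 (iv6 F77694) (iv2 F47934)
def n49292 : Q := act 7 n24057
theorem D49292 : act 7 n24057 = n49292 := rfl
theorem F77907 : act 2 n49292 = n49200 := d4_1 D49292 (iv7 D49200) (iv2 F37649)
theorem F77908 : act 6 n49292 = n49191 := d14_1 D49292 (iv7 D49191) (iv6 D24002) (iv7 F18411) D24057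
theorem F77909 : act 1 n49200 = n49290 := d15_0 (iv0 D49290) D49292 F77907
theorem F77910 : act 1 n49199 = n49292 := d15_1 D49199 (iv7 D49292) F37649
theorem F77911 : act 7 n49290 = n49199 := d15_2 F77902 F77909 (iv2 F77906)
theorem F77912 : act 2 n49290 = n49198 := d15_3 (iv0 D49198) D49199 (iv7 F77911)
theorem F77913 : act 7 n49198 = n49291 := d4_2 (iv7 F77911) F77912 F77906
theorem F77914 : act 1 n49292 = n49198 := d15_1 F77910 F77913 F77906
def n49293 : Q := act 5 n24058
theorem D49293 : act 5 n24058 = n49293 := rfl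
theorem F77915 : act 2 n49293 = n44068 := d2_1 D49293 (iv5 D44068) (iv2 F65524)
theorem F77916 : act 3 n49293 = n24059 := d6_1 D49293 (iv5 D24059) D24058
theorem F77917 : act 7 n49293 = n44070 := d13_2 F65510 D49293 (iv5 D44070)
def n49294 : Q := act 6 n24059
theorem D49294 : act 6 n24059 = n49294 := rfl
theorem F77918 : act 2 n49294 = n49202 := d3_1 D49294 (iv6 D49202) (iv2 F37651)
def n49295 : Q := act 6 n24060
theorem D49295 : act 6 n24060 = n49295 := rfl
theorem F77919 : act 2 n49295 = n49208 := d3_1 D49295 (iv6 D49208) (iv2 F37654)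
theorem F77920 : act 5 n49295 = n48703 := d12_1 D49295 (iv6 D48703) F36990 (iv6 F18422) D24060
def n49296 : Q := act 0 n24061
theorem D49296 : act 0 n24061 = n49296 := rfl
theorem F77921 : act 1 n49205 = n49296 := d15_0 (iv0 D49296) F37657 D49205
def n49297 : Q := act 1 n24061
theorem D49297 : act 1 n24061 = n49297 := rfl
def n49298 : Q := act 2 n24061
theorem D49298 : act 2 n24061 = n49298 := rfl
theorem F77922 : act 3 n49298 = n34908 := d0_2 D24061 D49298 F55250 (iv3 D24015) (iv2 F18425)
theorem F77923 : act 4 n49298 = n49218 := d1_2 (iv4 F37656) D49298 (iv2 D49218)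
theorem F77924 : act 7 n49298 = n49205 := d4_2 (iv7 F37657) D49298 (iv2 D49205)
theorem F77925 : act 1 n49298 = n49203 := d15_0 (iv0 D49203) (iv7 F37657) D49298
theorem F77926 : act 1 n49297 = n49205 := d15_1 D49297 (iv7 F77924) (iv2 D49298)
theorem F77927 : act 1 n49204 = n49298 := d15_1 D49204 F77924 (iv2 D49205)
def n49299 : Q := act 5 n24061
theorem D49299 : act 5 n24061 = n49299 := rfl
theorem F77928 : act 3 n49299 = n24062 := d6_1 D49299 (iv5 D24062) D24061
theorem F77929 : act 7 n49299 = n49206 := d13_2 (iv7 F37657) D49299 (iv5 D49206)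
def n49300 : Q := act 6 n24061
theorem D49300 : act 6 n24061 = n49300 := rfl
theorem F77930 : act 3 n49300 = n24063 := d7_1 D49300 (iv6 D24063) D24061
theorem F77931 : act 4 n49300 = n49220 := d10_1 D49300 (iv6 D49220) (iv4 F37656)
theorem F77932 : act 7 n49300 = n49041 := d14_2 (iv7 F37657) D49300 (iv6 D49041) (iv7 F37385) (iv6 F37544)
def n49301 : Q := act 6 n24062
theorem D49301 : act 6 n24062 = n49301 := rfl
theorem F77933 : act 2 n49301 = n49211 := d3_1 D49301 (iv6 D49211) (iv2 F37658)
def n49302 : Q := act 0 n24064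
theorem D49302 : act 0 n24064 = n49302 := rfl
theorem F77934 : act 3 n49302 = n35007 := d20_5 (iv4 D5297) D5295 (iv4 F18437) D24064 D49302 F55487 (iv1 F50544) (iv4 F37545) (iv3 D24015) F18348
theorem F77935 : act 2 n49217 = n49302 := d15_3 (iv0 D49302) (iv0 F76664) (iv7 F77731)
theorem F77936 : act 1 n49218 = n49302 := d15_0 (iv0 D49302) F37666 D49218
theorem F77937 : act 7 n49302 = n25565 := d15_2 (iv0 F77733) F77936 (iv2 F76660)
def n49303 : Q := act 2 n24064
theorem D49303 : act 2 n24064 = n49303 := rfl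
theorem F77938 : act 3 n49303 = n29641 := d0_2 D24064 D49303 F47620 (iv3 D24018) F18436
theorem F77939 : act 4 n49303 = n49205 := d1_2 (iv4 F37664) D49303 (iv2 D49205)
theorem F77940 : act 6 n49303 = n25474 := d3_2 (iv6 F37665) D49303 (iv2 D25474)
theorem F77941 : act 7 n49303 = n49218 := d4_2 (iv7 F37666) D49303 (iv2 D49218)
theorem F77942 : act 1 n49303 = n25565 := d15_0 (iv0 F50510) (iv7 F37666) D49303
theorem F77943 : act 1 n49217 = n49303 := d15_0 F77942 (iv7 F77937) (iv2 F77935)
def n49304 : Q := act 5 n24064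
theorem D49304 : act 5 n24064 = n49304 := rfl
theorem F77944 : act 3 n49304 = n24065 := d6_1 D49304 (iv5 D24065) D24064
theorem F77945 : act 7 n49304 = n49219 := d13_2 (iv7 F37666) D49304 (iv5 D49219)
def n49305 : Q := act 6 n24065
theorem D49305 : act 6 n24065 = n49305 := rfl
theorem F77946 : act 2 n49305 = n49216 := d3_1 D49305 (iv6 D49216) (iv2 F37667)
theorem F77947 : act 5 n49305 = n25476 := d12_1 D49305 (iv6 D25476) (iv5 D12109) (iv6 F18438) D24065
def n49306 : Q := act 6 n24066
theorem D49306 : act 6 n24066 = n49306 := rfl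
theorem F77948 : act 2 n49306 = n49221 := d3_1 D49306 (iv6 D49221) (iv2 F37669)
def n49307 : Q := act 5 n24067
theorem D49307 : act 5 n24067 = n49307 := rfl
theorem F77949 : act 2 n49307 = n49222 := d2_1 D49307 (iv5 D49222) (iv2 F37671)
theorem F77950 : act 7 n49307 = n25462 := d13_2 (iv7 F37673) D49307 (iv5 D25462)
theorem F77951 : act 0 n49307 = n25615 := d17_2 F37674 D49307 (iv5 D25615) (iv4 F22745) D16687 (iv0 F27337) (iv5 F18429) (iv0 F18431) (iv4 F27798)
theorem F77952 : act 1 n49307 = n25613 := d17_6 D5773 F20026 (iv1 D12103) (iv5 F18629) (iv4 F37672) D49307 (iv5 D25613) (iv0 D12176) F8893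
def n49308 : Q := act 2 n24068
theorem D49308 : act 2 n24068 = n49308 := rfl
theorem F77953 : act 7 n24069 = n49308 := d15_2 (iv0 D24068) D24069 (iv2 D49308)
def n49309 : Q := act 3 n24068
theorem D49309 : act 3 n24068 = n49309 := rfl
theorem F77954 : act 4 n49309 = n24299 := d20_6 (iv4 D11295) (iv1 D5215) D5216 D11299 D24068 D49309 F55537 (iv4 F37991) F37990 (iv1 F18636)
theorem F77955 : act 2 n24301 = n49309 := d1_3 F77954 (iv2 D24299) D24301
theorem F77956 : act 6 n31569 = n49309 := d10_0 F77954 F55539 D31569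
theorem F77957 : act 7 n24306 = n49309 := d11_0 F77954 (iv7 F38093) D24306
def n49310 : Q := act 4 n24068
theorem D49310 : act 4 n24068 = n49310 := rfl
theorem F77958 : act 3 n49310 = n29610 := d20_9 F46654 (iv1 F26825) D16603 F27090 (iv1 D11298) D11299 F18441 D24068 D49310 (iv1 F47549)
def n49311 : Q := act 5 n24068
theorem D49311 : act 5 n24068 = n49311 := rfl
def n49312 : Q := act 6 n24068
theorem D49312 : act 6 n24068 = n49312 := rfl
theorem F77959 : act 3 n49312 = n31569 := d7_1 D49312 F77956 (iv3 D49309)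
theorem F77960 : act 0 n24226 = n49312 := d20_4 (iv4 D11204) F7832 D11387 D24226 F77959 (iv4 D31569) (iv1 D14864) D14866 F24520 F22702
theorem F77961 : act 0 n49312 = n25539 := d20_4 F55240 (iv1 F39938) D31569 (iv3 F77959) F40373 F20075 (iv1 F21464) (iv4 F24844) (iv3 F49899) (iv1 F55243)
def n49313 : Q := act 7 n24068
theorem D49313 : act 7 n24068 = n49313 := rfl
theorem F77962 : act 2 n49313 = n24069 := d4_1 D49313 F77953 (iv2 D49308)
theorem F77963 : act 3 n49313 = n24306 := d8_1 D49313 F77957 (iv3 D49309)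
theorem F77964 : act 0 n24072 = n49313 := d20_4 (iv4 D11267) (iv1 F7777) (iv4 F18445) (iv3 F37679) F77963 (iv4 D24306) (iv1 D11444) (iv4 F18633) (iv3 D11393) F18347
theorem F77965 : act 1 n24072 = n49308 := d15_1 (iv0 F77964) (iv7 F77953) (iv2 F77962)
theorem F77966 : act 1 n24070 = n49313 := d15_0 (iv0 F77964) (iv7 D24072) D24070
theorem F77967 : act 1 n49308 = n24070 := d15_0 F77966 (iv7 D49313) D49308
theorem F77968 : act 3 n49308 = n35004 := d20_5 F23483 F18419 D13442 (iv3 F37675) (iv1 F77967) (iv4 F55489) (iv1 D28164) (iv4 F39959) (iv3 D25302) (iv1 F23481)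
def n49314 : Q := act 3 n24069
theorem D49314 : act 3 n24069 = n49314 := rfl
theorem F77969 : act 7 n49314 = n35004 := d8_2 (iv7 F77953) D49314 (iv3 F77968)
theorem F77970 : act 4 n49314 = n28172 := d20_6 F23068 (iv1 F23061) D23922 D49037 (iv1 F77408) D49314 (iv1 D28172) (iv4 F27760) F27759 (iv1 F23067)
theorem F77971 : act 2 n35005 = n49314 := d1_3 F77970 F55545 F55485
theorem F77972 : act 0 n49314 = n27000 := d20_1 (iv4 F77970) F43605 (iv3 F24934) D32455 F51534 F49988 (iv1 F23444) (iv4 F45534) F45533 (iv1 F45546)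
theorem F77973 : act 1 n49314 = n35007 := d15_1 (iv0 F77972) (iv7 D35007) (iv2 F43604)
def n49315 : Q := act 4 n24069
theorem D49315 : act 4 n24069 = n49315 := rfl
def n49316 : Q := act 5 n24069
theorem D49316 : act 5 n24069 = n49316 := rfl
def n49317 : Q := act 6 n24069
theorem D49317 : act 6 n24069 = n49317 := rfl
def n49318 : Q := act 5 n24070
theorem D49318 : act 5 n24070 = n49318 := rfl
theorem F77974 : act 2 n49318 = n24071 := d2_1 D49318 (iv5 D24071) D24070
theorem F77975 : act 3 n49318 = n25341 := d6_1 D49318 F40042 (iv3 F37675)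
theorem F77976 : act 0 n49318 = n49126 := d21_7 D49119 F77557 F54179 (iv6 F50912) (iv1 F40363) (iv6 F37677) D49318 (iv5 D49126) (iv6 D23969) D23965
def n49319 : Q := act 0 n24071
theorem D49319 : act 0 n24071 = n49319 := rfl
theorem F77977 : act 5 n49319 = n49120 := d21_8 (iv5 F37458) F51663 F51649 F50912 (iv1 D16913) (iv6 F18442) D24071 D49319 (iv6 D49120) (iv1 F37441)
theorem F77978 : act 2 n49126 = n49319 := d2_3 F77977 F77558 D49126
def n49320 : Q := act 1 n24071
theorem D49320 : act 1 n24071 = n49320 := rfl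
theorem F77979 : act 7 n49320 = n49126 := d15_2 (iv0 D49319) D49320 F77978
theorem F77980 : act 5 n49127 = n49320 := d13_3 F77979 (iv5 D49126) D49127
def n49321 : Q := act 4 n24071
theorem D49321 : act 4 n24071 = n49321 := rfl
def n49322 : Q := act 6 n24071
theorem D49322 : act 6 n24071 = n49322 := rfl
theorem F77981 : act 3 n49322 = n24076 := d7_1 D49322 (iv6 D24076) (iv3 F37678)
theorem F77982 : act 5 n49322 = n34884 := d12_1 D49322 (iv6 D34884) (iv5 D16915) (iv6 F18442) D24071
def n49323 : Q := act 7 n24071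
theorem D49323 : act 7 n24071 = n49323 := rfl
theorem F77983 : act 3 n49323 = n24077 := d8_1 D49323 (iv7 D24077) (iv3 F37678)
theorem F77984 : act 5 n49323 = n24072 := d13_1 D49323 (iv7 D24072) D24071
def n49324 : Q := act 6 n24072
theorem D49324 : act 6 n24072 = n49324 := rfl
theorem F77985 : act 2 n49324 = n24226 := d3_1 D49324 (iv6 F77406) F77404
theorem F77986 : act 3 n49324 = n24078 := d7_1 D49324 (iv6 D24078) (iv3 F37679)
theorem F77987 : act 4 n49324 = n49324 := d10_1 D49324 (iv6 D49324) F37680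
theorem F77988 : act 7 n49324 = n25539 := d14_2 D24072 D49324 (iv6 D25539) F20068 (iv6 F18442)
def n49325 : Q := act 3 n24073
theorem D49325 : act 3 n24073 = n49325 := rfl
theorem F77989 : act 5 n49325 = n24228 := d6_2 (iv5 F37681) D49325 (iv3 D24228)
theorem F77990 : act 7 n49325 = n49227 := d8_2 F37683 D49325 (iv3 D49227)
def n49326 : Q := act 6 n24073
theorem D49326 : act 6 n24073 = n49326 := rfl
theorem F77991 : act 2 n49326 = n49226 := d3_1 D49326 (iv6 D49226) F37682
def n49327 : Q := act 3 n24074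
theorem D49327 : act 3 n24074 = n49327 := rfl
theorem F77992 : act 5 n49327 = n24229 := d6_2 (iv5 F37687) D49327 (iv3 D24229)
theorem F77993 : act 7 n49327 = n49225 := d8_2 (iv7 F37686) D49327 (iv3 D49225)
theorem F77994 : act 1 n35915 = n49327 := d15_1 (iv0 F56584) F77993 (iv2 F77747)
def n49328 : Q := act 6 n24074
theorem D49328 : act 6 n24074 = n49328 := rfl
theorem F77995 : act 2 n49328 = n49228 := d3_1 D49328 (iv6 D49228) F37688
def n49329 : Q := act 3 n24075
theorem D49329 : act 3 n24075 = n49329 := rfl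
theorem F77996 : act 5 n49329 = n29355 := d6_2 (iv5 F37690) D49329 F47007
theorem F77997 : act 7 n49329 = n29354 := d8_2 F37691 D49329 F47006
def n49330 : Q := act 6 n24075
theorem D49330 : act 6 n24075 = n49330 := rfl
theorem F77998 : act 2 n49330 = n49230 := d3_1 D49330 (iv6 D49230) (iv2 F37689)
theorem F77999 : act 4 n49330 = n24076 := d10_1 D49330 (iv6 D24076) D24075
def n49331 : Q := act 0 n24076
theorem D49331 : act 0 n24076 = n49331 := rfl
def n49332 : Q := act 1 n24076
theorem D49332 : act 1 n24076 = n49332 := rfl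
theorem F78000 : act 1 n49332 = n49233 := d15_1 D49332 (iv7 D49233) (iv2 F37692)
theorem F78001 : act 5 n49065 = n49332 := d21_6 (iv5 D5771) F3801 D5145 D11216 D23937 D49065 (iv1 D49332) F37693 (iv6 D16916) F12497
def n49333 : Q := act 7 n24076
theorem D49333 : act 7 n24076 = n49333 := rfl
theorem F78002 : act 2 n49333 = n49233 := d4_1 D49333 (iv7 D49233) (iv2 F37692)
theorem F78003 : act 5 n49333 = n34887 := d13_1 D49333 (iv7 D34887) (iv5 F37693)
theorem F78004 : act 1 n49233 = n49331 := d15_0 (iv0 D49331) D49333 F78002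
theorem F78005 : act 1 n49232 = n49333 := d15_1 D49232 (iv7 D49333) F37692
theorem F78006 : act 1 n49333 = n49231 := d15_0 (iv0 D49231) D49233 (iv2 F78002)
def n49334 : Q := act 6 n24077
theorem D49334 : act 6 n24077 = n49334 := rfl
theorem F78007 : act 2 n49334 = n49234 := d3_1 D49334 (iv6 D49234) (iv2 F37694)
theorem F78008 : act 4 n49334 = n29358 := d10_1 D49334 (iv6 D29358) (iv4 F37695)
def n49335 : Q := act 5 n24078
theorem D49335 : act 5 n24078 = n49335 := rfl
theorem F78009 : act 2 n49335 = n34875 := d2_1 D49335 F55152 (iv2 F37699)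
theorem F78010 : act 7 n49335 = n25541 := d13_2 (iv7 F37701) D49335 (iv5 D25541)
theorem F78011 : act 0 n49335 = n34873 := d17_2 (iv1 F37703) D49335 F55149 F36963 F18037 F12529 F12526 F12534 D15250
theorem F78012 : act 1 n49335 = n34872 := d17_6 F27711 (iv5 D16909) (iv1 F18453) F18450 (iv4 F37700) D49335 F55146 F40302 F37350
def n49336 : Q := act 0 n24079
theorem D49336 : act 0 n24079 = n49336 := rfl
def n49337 : Q := act 1 n24079
theorem D49337 : act 1 n24079 = n49337 := rfl
def n49338 : Q := act 7 n24079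
theorem D49338 : act 7 n24079 = n49338 := rfl
def n49339 : Q := act 0 n24080
theorem D49339 : act 0 n24080 = n49339 := rfl
def n49340 : Q := act 1 n24080
theorem D49340 : act 1 n24080 = n49340 := rfl
def n49341 : Q := act 7 n24080
theorem D49341 : act 7 n24080 = n49341 := rfl
theorem F78013 : act 5 n49341 = n25398 := d13_1 D49341 (iv7 D25398) (iv5 F37705)
def n49342 : Q := act 0 n24081
theorem D49342 : act 0 n24081 = n49342 := rfl
def n49343 : Q := act 1 n24081
theorem D49343 : act 1 n24081 = n49343 := rfl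
def n49344 : Q := act 2 n24081
theorem D49344 : act 2 n24081 = n49344 := rfl
def n49345 : Q := act 5 n24081
theorem D49345 : act 5 n24081 = n49345 := rfl
theorem F78014 : act 3 n49345 = n24082 := d6_1 D49345 (iv5 D24082) D24081
def n49346 : Q := act 7 n24081
theorem D49346 : act 7 n24081 = n49346 := rfl
theorem F78015 : act 3 n49346 = n24083 := d8_1 D49346 (iv7 D24083) D24081
def n49347 : Q := act 6 n24082
theorem D49347 : act 6 n24082 = n49347 := rfl
def n49348 : Q := act 6 n24083
theorem D49348 : act 6 n24083 = n49348 := rfl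
theorem F78016 : act 4 n49348 = n24084 := d10_1 D49348 (iv6 D24084) (iv4 F37706)
def n49349 : Q := act 0 n24084
theorem D49349 : act 0 n24084 = n49349 := rfl
def n49350 : Q := act 1 n24084
theorem D49350 : act 1 n24084 = n49350 := rfl
def n49351 : Q := act 4 n24085
theorem D49351 : act 4 n24085 = n49351 := rfl
theorem F78017 : act 2 n49351 = n28759 := d1_1 D49351 (iv4 D28759) (iv2 F37710)
theorem F78018 : act 7 n49351 = n28739 := d11_2 (iv7 F37711) D49351 (iv4 D28739)
theorem F78019 : act 1 n49351 = n29382 := d18_6 (iv1 F10596) F4513 (iv1 F10588) (iv4 F22522) D24085 D49351 (iv4 D29382) (iv0 F23278) (iv5 D13693)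
def n49352 : Q := act 6 n24085
theorem D49352 : act 6 n24085 = n49352 := rfl
theorem F78020 : act 2 n49352 = n28760 := d3_1 D49352 (iv6 D28760) (iv2 F37710)
theorem F78021 : act 0 n24175 = n49352 := d21_4 (iv5 F19989) (iv1 F19991) (iv5 F37521) (iv6 F37887) (iv6 D49352) (iv5 D24085) (iv1 D11308) D11309 F18459 D11311
def n49353 : Q := act 6 n24087
theorem D49353 : act 6 n24087 = n49353 := rfl
theorem F78022 : act 2 n49353 = n30102 := d3_1 D49353 (iv6 D30102) (iv2 F37714)
theorem F78023 : act 5 n49353 = n27961 := d12_1 D49353 (iv6 D27961) (iv5 D13339) D13340 F37713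
def n49354 : Q := act 3 n24088
theorem D49354 : act 3 n24088 = n49354 := rfl
theorem F78024 : act 4 n49354 = n30069 := d5_2 D24088 D49354 (iv3 D30069) (iv4 D14274) (iv3 F18458)
theorem F78025 : act 6 n49354 = n24092 := d7_2 (iv6 F37719) D49354 (iv3 D24092)
def n49355 : Q := act 5 n24088
theorem D49355 : act 5 n24088 = n49355 := rfl
theorem F78026 : act 2 n49355 = n30104 := d2_1 D49355 (iv5 D30104) (iv2 F37718)
theorem F78027 : act 0 n49355 = n28748 := d17_2 (iv1 F37720) D49355 (iv5 D28748) (iv4 D13710) (iv5 D6525) (iv0 D2899) D2901 D6533 D13725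
theorem F78028 : act 1 n49355 = n28763 := d17_6 (iv1 F46717) (iv5 D24085) (iv1 D11308) D11309 D24088 D49355 (iv5 D28763) F46380 F46715
def n49356 : Q := act 7 n24088
theorem D49356 : act 7 n24088 = n49356 := rfl
theorem F78029 : act 2 n49356 = n28771 := d4_1 D49356 F46416 (iv2 F37718)
theorem F78030 : act 4 n49356 = n24089 := d11_1 D49356 (iv7 D24089) D24088
theorem F78031 : act 1 n27974 = n49356 := d15_1 (iv0 F45228) (iv7 D49356) F37718
theorem F78032 : act 1 n49356 = n28725 := d15_1 F78031 F46338 (iv2 F45226)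
def n49357 : Q := act 6 n24089
theorem D49357 : act 6 n24089 = n49357 := rfl
theorem F78033 : act 2 n49357 = n30105 := d3_1 D49357 (iv6 D30105) (iv2 F37721)
theorem F78034 : act 3 n49357 = n30071 := d7_1 D49357 (iv6 D30071) (iv3 F37722)
theorem F78035 : act 5 n49357 = n49357 := d12_1 D49357 (iv6 D49357) F37723 F18463 (iv5 F37723)
theorem F78036 : act 7 n49357 = n24095 := d14_2 D24089 D49357 (iv6 D24095) (iv7 D11314) (iv6 F18459)
theorem F78037 : act 1 n49350 = n49357 := d15_1 D49350 F78036 F37735
theorem F78038 : act 1 n49357 = n49349 := d15_0 (iv0 D49349) (iv7 F48377) (iv2 F78033)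
def n49358 : Q := act 0 n24090
theorem D49358 : act 0 n24090 = n49358 := rfl
def n49359 : Q := act 1 n24090
theorem D49359 : act 1 n24090 = n49359 := rfl
theorem F78039 : act 1 n49359 = n49338 := d15_1 D49359 (iv7 D49338) (iv2 F37726)
def n49360 : Q := act 7 n24090
theorem D49360 : act 7 n24090 = n49360 := rfl
theorem F78040 : act 2 n49360 = n49338 := d4_1 D49360 (iv7 D49338) (iv2 F37726)
theorem F78041 : act 3 n49360 = n29976 := d8_1 D49360 (iv7 D29976) (iv3 F37727)
theorem F78042 : act 6 n49360 = n49341 := d14_1 D49360 (iv7 D49341) (iv6 D24080) (iv7 F18475) D24090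
theorem F78043 : act 1 n49338 = n49358 := d15_0 (iv0 D49358) D49360 F78040
theorem F78044 : act 1 n49337 = n49360 := d15_1 D49337 (iv7 D49360) F37726
theorem F78045 : act 1 n49360 = n49336 := d15_0 (iv0 D49336) D49338 (iv2 F78040)
def n49361 : Q := act 0 n24091
theorem D49361 : act 0 n24091 = n49361 := rfl
def n49362 : Q := act 1 n24091
theorem D49362 : act 1 n24091 = n49362 := rfl
theorem F78046 : act 1 n49362 = n49341 := d15_1 D49362 (iv7 D49341) (iv2 F37728)
def n49363 : Q := act 7 n24091
theorem D49363 : act 7 n24091 = n49363 := rfl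
theorem F78047 : act 2 n49363 = n49341 := d4_1 D49363 (iv7 D49341) (iv2 F37728)
theorem F78048 : act 5 n49363 = n48643 := d13_1 D49363 (iv7 D48643) (iv5 F37729)
theorem F78049 : act 6 n49363 = n49338 := d14_1 D49363 (iv7 D49338) (iv6 D24079) F18477 D24091
theorem F78050 : act 1 n49341 = n49361 := d15_0 (iv0 D49361) D49363 F78047
theorem F78051 : act 1 n49340 = n49363 := d15_1 D49340 (iv7 D49363) F37728
theorem F78052 : act 1 n49363 = n49339 := d15_0 (iv0 D49339) D49341 (iv2 F78047)
def n49364 : Q := act 0 n24092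
theorem D49364 : act 0 n24092 = n49364 := rfl
def n49365 : Q := act 1 n24092
theorem D49365 : act 1 n24092 = n49365 := rfl
def n49366 : Q := act 2 n24092
theorem D49366 : act 2 n24092 = n49366 := rfl
theorem F78053 : act 3 n49366 = n49344 := d0_2 D24092 D49366 (iv2 D49344) (iv3 D24081) (iv2 F18470)
def n49367 : Q := act 5 n24092
theorem D49367 : act 5 n24092 = n49367 := rfl
theorem F78054 : act 3 n49367 = n24093 := d6_1 D49367 (iv5 D24093) D24092
def n49368 : Q := act 7 n24092
theorem D49368 : act 7 n24092 = n49368 := rfl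
theorem F78055 : act 3 n49368 = n24094 := d8_1 D49368 (iv7 D24094) D24092
def n49369 : Q := act 6 n24093
theorem D49369 : act 6 n24093 = n49369 := rfl
theorem F78056 : act 2 n49369 = n49347 := d3_1 D49369 (iv6 D49347) (iv2 F37730)
def n49370 : Q := act 6 n24094
theorem D49370 : act 6 n24094 = n49370 := rfl
theorem F78057 : act 2 n49370 = n49348 := d3_1 D49370 (iv6 D49348) (iv2 F37731)
theorem F78058 : act 4 n49370 = n24095 := d10_1 D49370 (iv6 D24095) (iv4 F37732)
def n49371 : Q := act 0 n24095
theorem D49371 : act 0 n24095 = n49371 := rfl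
theorem F78059 : act 1 n30105 = n49371 := d15_0 (iv0 D49371) (iv7 F78036) F78033
def n49372 : Q := act 1 n24095
theorem D49372 : act 1 n24095 = n49372 := rfl
theorem F78060 : act 1 n49372 = n30105 := d15_1 D49372 F48377 (iv2 F37735)
def n49373 : Q := act 4 n24096
theorem D49373 : act 4 n24096 = n49373 := rfl
theorem F78061 : act 2 n49373 = n25441 := d1_1 D49373 (iv4 D25441) (iv2 F37737)
theorem F78062 : act 7 n49373 = n30824 := d11_2 (iv7 F37738) D49373 (iv4 D30824)
theorem F78063 : act 5 n49373 = n30872 := d16_1 D49373 (iv4 D30872) (iv5 D14620) (iv4 D6983) (iv5 D3157) D3156 D6979 (iv7 F20007) (iv2 F37737)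
theorem E8153 : n30872 = n24562 := (c17_6 (iv1 F37370) (iv5 D14213) F19390 D24096 D49373 F78063 (iv0 D24562) (iv5 D11618) D11616 (iv4 F37368))
theorem F78064 : act 4 n24562 = n14620 := (sb E8153 (iv4 D30872))
theorem F78065 : act 5 n24562 = n49373 := (sb E8153 (iv5 F78063))
theorem F78066 : act 0 n49373 = n24486 := d18_2 (iv1 F37741) D49373 (iv4 D24486) F19313 F19312 (iv0 F24296) (iv4 F38900) F38902 F38859
theorem F78067 : act 1 n49373 = n24488 := d18_6 (iv1 D2217) (iv4 F3519) D5227 D11315 D24096 D49373 (iv4 D24488) F18892 (iv5 D5392)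
def n49374 : Q := act 6 n24096
theorem D49374 : act 6 n24096 = n49374 := rfl
theorem F78068 : act 2 n49374 = n25442 := d3_1 D49374 (iv6 D25442) (iv2 F37737)
def n49375 : Q := act 7 n24097
theorem D49375 : act 7 n24097 = n49375 := rfl
theorem F78069 : act 2 n49375 = n25445 := d4_1 D49375 (iv7 D25445) (iv2 F37742)
theorem F78070 : act 4 n49375 = n24100 := d11_1 D49375 (iv7 D24100) (iv4 F37743)
theorem F78071 : act 5 n49375 = n24847 := d13_1 D49375 F38925 (iv5 F38923)
theorem F78072 : act 6 n49375 = n30827 := d14_1 D49375 (iv7 D30827) (iv6 D14597) (iv7 F18480) D24097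
theorem F78073 : act 1 n25444 = n49375 := d15_1 D25444 (iv7 D49375) F37742
theorem F78074 : act 1 n49375 = n24342 := d15_1 F78073 (iv7 F39707) (iv2 F40226)
def n49376 : Q := act 3 n24098
theorem D49376 : act 3 n24098 = n49376 := rfl
theorem F78075 : act 4 n49376 = n30665 := d5_2 D24098 D49376 (iv3 D30665) (iv4 D14535) (iv3 F18484)
theorem F78076 : act 7 n49376 = n30828 := d8_2 (iv7 F37746) D49376 (iv3 D30828)
def n49377 : Q := act 5 n24098
theorem D49377 : act 5 n24098 = n49377 := rfl
theorem F78077 : act 2 n49377 = n25867 := d2_1 D49377 (iv5 D25867) (iv2 F37745)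
theorem F78078 : act 4 n49377 = n24563 := d9_1 D49377 F38551 (iv4 D14606) (iv5 D6979) (iv4 D3156) D3157 D6983 D14620 (iv4 F78064) F78065 (iv4 D49373) (iv5 D24096) (iv4 D11315) D11316 D24098
theorem F78079 : act 7 n49377 = n30829 := d13_2 (iv7 F37746) D49377 (iv5 D30829)
theorem F78080 : act 0 n49377 = n30871 := d17_2 (iv1 F37748) D49377 F49327 (iv4 F24416) (iv5 D14776) (iv0 F18862) D24456 (iv0 F49320) (iv4 D30859)
theorem F78081 : act 1 n49377 = n30870 := d17_6 F11195 (iv5 D5229) D5227 D11316 D24098 D49377 F49326 (iv0 D14687) (iv4 D7012)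
def n49378 : Q := act 6 n24098
theorem D49378 : act 6 n24098 = n49378 := rfl
theorem F78082 : act 2 n49378 = n25868 := d3_1 D49378 (iv6 D25868) (iv2 F37745)
theorem F78083 : act 4 n49378 = n24099 := d10_1 D49378 (iv6 D24099) D24098
def n49379 : Q := act 7 n24099
theorem D49379 : act 7 n24099 = n49379 := rfl
theorem F78084 : act 2 n49379 = n25871 := d4_1 D49379 (iv7 D25871) (iv2 F37749)
theorem F78085 : act 3 n49379 = n30670 := d8_1 D49379 (iv7 D30670) (iv3 F37750)
theorem F78086 : act 6 n49379 = n30832 := d14_1 D49379 (iv7 D30832) (iv6 D14599) (iv7 F18485) D24099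
theorem F78087 : act 1 n25871 = n30708 := d15_0 (iv0 F49148) D49379 F78084
theorem F78088 : act 1 n25870 = n49379 := d15_1 D25870 (iv7 D49379) F37749
theorem F78089 : act 1 n49379 = n25869 := d15_0 (iv0 D25869) D25871 (iv2 F78084)
def n49380 : Q := act 3 n24101
theorem D49380 : act 3 n24101 = n49380 := rfl
theorem F78090 : act 4 n49380 = n30941 := d5_2 D24101 D49380 (iv3 D30941) (iv4 D14648) (iv3 F18492)
theorem F78091 : act 7 n49380 = n31040 := d8_2 (iv7 F37758) D49380 (iv3 D31040)
def n49381 : Q := act 5 n24101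
theorem D49381 : act 5 n24101 = n49381 := rfl
theorem F78092 : act 2 n49381 = n25921 := d2_1 D49381 (iv5 D25921) (iv2 F37757)
theorem F78093 : act 4 n49381 = n24555 := d9_1 D49381 (iv5 D24555) (iv4 F37368) F37366 F23226 (iv5 F11194) D7012 D14690 (iv4 F38546) (iv5 D24552) D24551 (iv5 F45754) F45753 (iv5 D24102) D24101
theorem F78094 : act 7 n49381 = n31041 := d13_2 (iv7 F37758) D49381 (iv5 D31041)
theorem F78095 : act 0 n49381 = n31055 := d17_2 (iv1 F37760) D49381 F49465 F40857 (iv5 F47959) (iv0 F49181) (iv5 F49182) (iv0 F48866) F38279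
theorem F78096 : act 1 n49381 = n31054 := d17_6 D12274 F20335 (iv1 F37764) (iv5 D24102) D24101 D49381 F49461 (iv0 D25864) (iv4 D12276)
def n49382 : Q := act 6 n24101
theorem D49382 : act 6 n24101 = n49382 := rfl
theorem F78097 : act 2 n49382 = n25922 := d3_1 D49382 (iv6 D25922) (iv2 F37757)
theorem F78098 : act 4 n49382 = n24103 := d10_1 D49382 (iv6 D24103) D24101
def n49383 : Q := act 0 n24103
theorem D49383 : act 0 n24103 = n49383 := rfl
def n49384 : Q := act 1 n24103
theorem D49384 : act 1 n24103 = n49384 := rfl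
theorem F78099 : act 1 n49384 = n25926 := d15_1 D49384 (iv7 D25926) (iv2 F37766)
def n49385 : Q := act 7 n24103
theorem D49385 : act 7 n24103 = n49385 := rfl
theorem F78100 : act 2 n49385 = n25926 := d4_1 D49385 (iv7 D25926) (iv2 F37766)
theorem F78101 : act 3 n49385 = n30946 := d8_1 D49385 (iv7 D30946) (iv3 F37767)
theorem F78102 : act 6 n49385 = n31045 := d14_1 D49385 (iv7 D31045) (iv6 D14686) (iv7 F18493) D24103
theorem F78103 : act 1 n25926 = n49383 := d15_0 (iv0 D49383) D49385 F78100
theorem F78104 : act 1 n25924 = n49385 := d15_1 D25924 (iv7 D49385) F37766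
theorem F78105 : act 1 n49385 = n25923 := d15_0 (iv0 D25923) D25926 (iv2 F78100)
def n49386 : Q := act 3 n24104
theorem D49386 : act 3 n24104 = n49386 := rfl
def n49387 : Q := act 5 n24104
theorem D49387 : act 5 n24104 = n49387 := rfl
theorem F78106 : act 4 n49387 = n24543 := d16_2 F46300 D49387 (iv5 D24543) (iv4 D11612) D11613 D24545 (iv5 F46305) (iv7 F48862) F48861
def n49388 : Q := act 6 n24104
theorem D49388 : act 6 n24104 = n49388 := rfl
def n49389 : Q := act 3 n24105
theorem D49389 : act 3 n24105 = n49389 := rfl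
theorem F78107 : act 4 n49389 = n30182 := d5_2 (iv4 F46307) D49389 (iv3 D30182) D30183 F48558
theorem F78108 : act 7 n49389 = n30447 := d8_2 F48057 D49389 F48865
def n49390 : Q := act 5 n24105
theorem D49390 : act 5 n24105 = n49390 := rfl
theorem F78109 : act 4 n49390 = n24531 := d9_1 D49390 (iv5 D24531) (iv4 D11607) D11608 D24534 (iv5 F46299) F46300 D49387 F78106 (iv5 D24543) (iv4 D11612) D11613 D24545 (iv5 F46305) (iv4 F46307)
def n49391 : Q := act 6 n24105
theorem D49391 : act 6 n24105 = n49391 := rfl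
def n49392 : Q := act 0 n24106
theorem D49392 : act 0 n24106 = n49392 := rfl
def n49393 : Q := act 1 n24106
theorem D49393 : act 1 n24106 = n49393 := rfl
def n49394 : Q := act 2 n24106
theorem D49394 : act 2 n24106 = n49394 := rfl
theorem F78110 : act 4 n49394 = n24191 := d1_2 (iv4 F37769) D49394 (iv2 D24191)
def n49395 : Q := act 5 n24106
theorem D49395 : act 5 n24106 = n49395 := rfl
theorem F78111 : act 3 n49395 = n24107 := d6_1 D49395 (iv5 D24107) D24106
def n49396 : Q := act 7 n24106
theorem D49396 : act 7 n24106 = n49396 := rfl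
theorem F78112 : act 3 n49396 = n24108 := d8_1 D49396 (iv7 D24108) D24106
theorem F78113 : act 4 n49396 = n24193 := d11_1 D49396 (iv7 D24193) (iv4 F37769)
def n49397 : Q := act 0 n24107
theorem D49397 : act 0 n24107 = n49397 := rfl
theorem F78114 : act 5 n49397 = n24482 := d17_3 (iv1 D24105) D24107 D49397 (iv4 D24482) (iv5 D11577) (iv0 F19398) D13688 D28712 (iv4 F46307)
theorem F78115 : act 4 n24518 = n49397 := d16_2 D11599 D24518 F78114 (iv4 D24482) (iv5 D11577) (iv4 D5386) D5387 (iv7 F18922) F18921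
theorem F78116 : act 1 n24564 = n49397 := d17_6 (iv1 F18488) (iv5 D11316) F10150 D6973 D14594 (iv5 F38552) F78114 F38438 (iv4 D14612)
def n49398 : Q := act 1 n24107
theorem D49398 : act 1 n24107 = n49398 := rfl
theorem F78117 : act 1 n49398 = n24564 := d15_1 D49398 (iv7 F48060) F48059
theorem F78118 : act 5 n49398 = n24512 := d17_7 (iv1 D6982) (iv5 D3157) F10154 D5229 D11319 D24107 D49398 F38493 (iv4 D14615)
theorem F78119 : act 4 n24493 = n49398 := d9_15 F78118 (iv4 D24512) (iv5 D11597) (iv4 D5391) D5392 D11599 D24518 F78115 F78114 (iv4 D24482) (iv5 D11577) (iv4 D5386) D5387 D11582 D24493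
def n49399 : Q := act 4 n24107
theorem D49399 : act 4 n24107 = n49399 := rfl
theorem F78120 : act 2 n49399 = n24566 := d1_1 D49399 (iv4 F48061) F48059
theorem F78121 : act 5 n49399 = n24472 := d9_2 D24107 D49399 F38427 F18871 F10159 D6973 D14594 (iv5 F38552) (iv4 D24564) (iv5 D11618) (iv4 D5396) (iv5 D2218) (iv4 F3519) D5229 D11319
theorem F78122 : act 0 n49399 = n24563 := d18_2 (iv1 D49398) D49399 (iv4 F78078) (iv5 D49377) (iv4 D24098) F18488 D14612 (iv0 F38494) (iv5 F78118)
theorem F78123 : act 1 n49399 = n24562 := d18_6 (iv1 D14688) (iv4 D7012) F11195 D11319 D24107 D49399 F78064 D30871 F49327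
theorem F78124 : act 7 n49399 = n24471 := d15_2 D24563 (iv0 F78122) F38425
def n49400 : Q := act 6 n24107
theorem D49400 : act 6 n24107 = n49400 := rfl
def n49401 : Q := act 7 n24107
theorem D49401 : act 7 n24107 = n49401 := rfl
theorem F78125 : act 2 n49401 = n24564 := d4_1 D49401 (iv7 F48060) F48059
theorem F78126 : act 4 n49401 = n24471 := d11_1 D49401 (iv7 F78124) (iv4 D49399)
theorem F78127 : act 5 n49401 = n24108 := d13_1 D49401 (iv7 D24108) D24107
def n49402 : Q := act 6 n24108
theorem D49402 : act 6 n24108 = n49402 := rfl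
theorem F78128 : act 2 n49402 = n30821 := d3_1 D49402 (iv6 D30821) (iv2 F37770)
theorem F78129 : act 4 n49402 = n24109 := d10_1 D49402 (iv6 D24109) (iv4 F37771)
def n49403 : Q := act 0 n24109
theorem D49403 : act 0 n24109 = n49403 := rfl
theorem F78130 : act 1 n24453 = n49403 := d15_0 (iv0 D49403) (iv7 F38308) (iv2 F38373)
def n49404 : Q := act 1 n24109
theorem D49404 : act 1 n24109 = n49404 := rfl
theorem F78131 : act 1 n49404 = n24453 := d15_1 D49404 F38375 (iv2 F37773)
def n49405 : Q := act 6 n24110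
theorem D49405 : act 6 n24110 = n49405 := rfl
theorem F78132 : act 5 n49405 = n49352 := d12_1 D49405 (iv6 D49352) (iv5 D24085) (iv6 F24452) (iv5 F37776)
def n49406 : Q := act 1 n24112
theorem D49406 : act 1 n24112 = n49406 := rfl
theorem F78133 : act 1 n49406 = n24119 := d15_1 D49406 (iv7 F77627) F77626
theorem F78134 : act 7 n49406 = n31405 := d15_2 F46407 D49406 F49669
theorem F78135 : act 4 n49406 = n24365 := d18_7 (iv1 F19503) (iv4 F7701) D11243 F19528 D11324 D24112 D49406 (iv0 D24365) (iv5 D11486)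
theorem F78136 : act 2 n31409 = n49406 := d1_3 F78135 (iv2 F38192) D31409
def n49407 : Q := act 3 n24112
theorem D49407 : act 3 n24112 = n49407 := rfl
def n49408 : Q := act 5 n24112
theorem D49408 : act 5 n24112 = n49408 := rfl
theorem F78137 : act 1 n49408 = n24895 := d17_6 (iv1 D11332) (iv5 D5233) D5231 D11324 D24112 D49408 (iv5 D24895) (iv0 F37807) (iv4 D24127)
def n49409 : Q := act 6 n24112
theorem D49409 : act 6 n24112 = n49409 := rfl
theorem F78138 : act 4 n49409 = n24113 := d10_1 D49409 (iv6 D24113) D24112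
def n49410 : Q := act 0 n24113
theorem D49410 : act 0 n24113 = n49410 := rfl
theorem F78139 : act 5 n49410 = n29005 := d21_0 (iv1 D29005) F23054 (iv6 D11359) (iv1 D5242) (iv6 F7797) (iv5 D5233) D5231 D11324 D24113 D49410
theorem F78140 : act 6 n24146 = n49410 := d21_5 (iv5 D2150) D2148 D5236 D11340 D24146 F78139 (iv1 D29005) F23054 (iv6 D11359) (iv1 D5242)
def n49411 : Q := act 1 n24113
theorem D49411 : act 1 n24113 = n49411 := rfl
theorem F78141 : act 5 n29004 = n49411 := d21_0 (iv1 D49411) F37782 (iv6 D14448) F19944 F19943 (iv5 D5705) F4895 D6565 D13804 D29004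
def n49412 : Q := act 7 n24113
theorem D49412 : act 7 n24113 = n49412 := rfl
theorem F78142 : act 3 n49412 = n30443 := d8_1 D49412 (iv7 D30443) (iv3 F37781)
theorem F78143 : act 5 n49412 = n30419 := d13_1 D49412 (iv7 D30419) (iv5 F37782)
def n49413 : Q := act 4 n24117
theorem D49413 : act 4 n24117 = n49413 := rfl
theorem F78144 : act 2 n49413 = n34061 := d1_1 D49413 (iv4 D34061) (iv2 F37790)
theorem F78145 : act 7 n49413 = n34048 := d11_2 (iv7 F37792) D49413 (iv4 D34048)
theorem F78146 : act 1 n49413 = n29417 := d18_6 (iv1 F18739) F8121 (iv1 F11882) F19519 D24117 D49413 (iv4 D29417) (iv0 F38117) (iv5 D24327)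
def n49414 : Q := act 6 n24117
theorem D49414 : act 6 n24117 = n49414 := rfl
theorem F78147 : act 2 n49414 = n34062 := d3_1 D49414 (iv6 D34062) (iv2 F37790)
theorem F78148 : act 3 n49414 = n24120 := d7_1 D49414 (iv6 D24120) (iv3 F37791)
theorem F78149 : act 0 n30679 = n49414 := d21_4 (iv5 F39440) (iv1 F39442) F38483 D30679 (iv6 D49414) (iv5 D24117) F19521 D12039 (iv6 F23948) (iv1 F37503)
def n49415 : Q := act 3 n24119
theorem D49415 : act 3 n24119 = n49415 := rfl
def n49416 : Q := act 5 n24119
theorem D49416 : act 5 n24119 = n49416 := rfl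
theorem F78150 : act 0 n49416 = n24895 := d17_2 F46406 D49416 (iv5 D24895) (iv4 D11815) (iv5 D5526) F19503 D11486 F22971 D28768
def n49417 : Q := act 6 n24119
theorem D49417 : act 6 n24119 = n49417 := rfl
theorem F78151 : act 4 n49417 = n24120 := d10_1 D49417 (iv6 D24120) D24119
def n49418 : Q := act 0 n24120
theorem D49418 : act 0 n24120 = n49418 := rfl
def n49419 : Q := act 5 n24120
theorem D49419 : act 5 n24120 = n49419 := rfl
theorem F78152 : act 6 n49419 = n24122 := d12_2 D24120 D49419 (iv5 D24122) (iv6 D11330) D11329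
def n49420 : Q := act 7 n24120
theorem D49420 : act 7 n24120 = n49420 := rfl
theorem F78153 : act 1 n24143 = n49420 := d15_1 (iv0 F53458) (iv7 D49420) (iv2 F53456)
def n49421 : Q := act 4 n24122
theorem D49421 : act 4 n24122 = n49421 := rfl
theorem F78154 : act 2 n49421 = n28745 := d1_1 D49421 F46715 F46718
theorem F78155 : act 7 n49421 = n28746 := d11_2 F47932 D49421 F47935
theorem F78156 : act 0 n49421 = n28723 := d18_2 F37801 D49421 (iv4 D28723) (iv5 D13695) (iv4 F22522) F18456 (iv4 F18462) (iv0 F22498) D13706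
theorem F78157 : act 1 n49421 = n28722 := d18_6 (iv1 F39757) F22167 (iv1 F39325) F26088 D24122 D49421 (iv4 D28722) D28721 (iv5 F46328)
def n49422 : Q := act 3 n24124
theorem D49422 : act 3 n24124 = n49422 := rfl
def n49423 : Q := act 5 n24124
theorem D49423 : act 5 n24124 = n49423 := rfl
def n49424 : Q := act 6 n24124
theorem D49424 : act 6 n24124 = n49424 := rfl
theorem F78158 : act 4 n49424 = n24126 := d10_1 D49424 (iv6 D24126) D24124
def n49425 : Q := act 0 n24126
theorem D49425 : act 0 n24126 = n49425 := rfl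
def n49426 : Q := act 1 n24126
theorem D49426 : act 1 n24126 = n49426 := rfl
def n49427 : Q := act 7 n24126
theorem D49427 : act 7 n24126 = n49427 := rfl
theorem F78159 : act 5 n49427 = n48646 := d13_1 D49427 F76520 (iv5 F40187)
def n49428 : Q := act 3 n24127
theorem D49428 : act 3 n24127 = n49428 := rfl
def n49429 : Q := act 5 n24127
theorem D49429 : act 5 n24127 = n49429 := rfl
def n49430 : Q := act 6 n24127
theorem D49430 : act 6 n24127 = n49430 := rfl
theorem F78160 : act 4 n49430 = n24128 := d10_1 D49430 (iv6 D24128) D24127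
def n49431 : Q := act 0 n24128
theorem D49431 : act 0 n24128 = n49431 := rfl
def n49432 : Q := act 1 n24128
theorem D49432 : act 1 n24128 = n49432 := rfl
def n49433 : Q := act 7 n24128
theorem D49433 : act 7 n24128 = n49433 := rfl
def n49434 : Q := act 5 n24129
theorem D49434 : act 5 n24129 = n49434 := rfl
theorem F78161 : act 7 n49434 = n31410 := d13_2 F37809 D49434 (iv5 D31410)
def n49435 : Q := act 6 n24129
theorem D49435 : act 6 n24129 = n49435 := rfl
theorem F78162 : act 4 n49435 = n24269 := d10_1 D49435 (iv6 D24269) (iv4 F37808)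
def n49436 : Q := act 3 n24130
theorem D49436 : act 3 n24130 = n49436 := rfl
def n49437 : Q := act 5 n24130
theorem D49437 : act 5 n24130 = n49437 := rfl
theorem F78163 : act 2 n49437 = n31410 := d2_1 D49437 (iv5 D31410) F37811
theorem F78164 : act 4 n49437 = n49434 := d16_2 (iv4 F37810) D49437 (iv5 D49434) F37808 F18666 F11303 (iv5 F18666) F18667 (iv2 F22148)
def n49438 : Q := act 6 n24130
theorem D49438 : act 6 n24130 = n49438 := rfl
theorem F78165 : act 2 n49438 = n31402 := d3_1 D49438 F49661 F37811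
theorem F78166 : act 4 n49438 = n27933 := d10_1 D49438 (iv6 D27933) (iv4 F37810)
def n49439 : Q := act 0 n24131
theorem D49439 : act 0 n24131 = n49439 := rfl
def n49440 : Q := act 1 n24131
theorem D49440 : act 1 n24131 = n49440 := rfl
def n49441 : Q := act 2 n24131
theorem D49441 : act 2 n24131 = n49441 := rfl
theorem F78167 : act 6 n49441 = n24191 := d3_2 (iv6 F37812) D49441 (iv2 D24191)
def n49442 : Q := act 5 n24131
theorem D49442 : act 5 n24131 = n49442 := rfl
theorem F78168 : act 3 n49442 = n24132 := d6_1 D49442 (iv5 D24132) D24131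
def n49443 : Q := act 7 n24131
theorem D49443 : act 7 n24131 = n49443 := rfl
theorem F78169 : act 3 n49443 = n24133 := d8_1 D49443 (iv7 D24133) D24131
def n49444 : Q := act 1 n24132
theorem D49444 : act 1 n24132 = n49444 := rfl
theorem F78170 : act 5 n49444 = n27931 := d17_7 (iv1 F37777) (iv5 D11329) (iv1 D5232) D5233 D11333 D24132 D49444 F53877 F53876
theorem F78171 : act 4 n34239 = n49444 := d16_2 D16566 D34239 F78170 (iv4 D27931) (iv5 D13320) F19461 D13320 F22142 F19526
def n49445 : Q := act 4 n24132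
theorem D49445 : act 4 n24132 = n49445 := rfl
theorem F78172 : act 5 n49445 = n24896 := d16_3 D11333 D24132 D49445 F39033 F19184 (iv4 F18287) (iv5 F37491) (iv7 D23992) F18284
theorem F78173 : act 7 n24895 = n49445 := d13_0 F78172 (iv7 D24896) D24895
def n49446 : Q := act 6 n24132
theorem D49446 : act 6 n24132 = n49446 := rfl
theorem F78174 : act 5 n49446 = n24194 := d12_1 D49446 (iv6 D24194) (iv5 D11363) (iv6 F18500) D24132
def n49447 : Q := act 7 n24132
theorem D49447 : act 7 n24132 = n49447 := rfl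
theorem F78175 : act 4 n49447 = n24895 := d11_1 D49447 F78173 (iv4 D49445)
theorem F78176 : act 5 n49447 = n24133 := d13_1 D49447 (iv7 D24133) D24132
def n49448 : Q := act 6 n24133
theorem D49448 : act 6 n24133 = n49448 := rfl
theorem F78177 : act 4 n49448 = n24134 := d10_1 D49448 (iv6 D24134) (iv4 F37813)
theorem F78178 : act 7 n49448 = n24195 := d14_2 D24133 D49448 (iv6 D24195) (iv7 D11364) (iv6 F18500)
def n49449 : Q := act 4 n24135
theorem D49449 : act 4 n24135 = n49449 := rfl
theorem F78179 : act 2 n49449 = n25802 := d1_1 D49449 (iv4 D25802) F37819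
theorem F78180 : act 7 n49449 = n25800 := d11_2 (iv7 F37818) D49449 (iv4 D25800)
theorem F78181 : act 0 n49449 = n28224 := d18_2 (iv1 F37817) D49449 (iv4 D28224) (iv5 D13475) (iv4 F18861) (iv0 F18863) F8811 D5803 D12244
theorem F78182 : act 1 n49449 = n30718 := d18_6 D27979 F45240 F45389 F45384 F39408 D49449 F49186 F41234 F41230
def n49450 : Q := act 0 n24136
theorem D49450 : act 0 n24136 = n49450 := rfl
theorem F78183 : act 2 n25804 = n49450 := d15_3 (iv0 D49450) (iv0 F49634) F49633
theorem F78184 : act 1 n25786 = n49450 := d15_0 (iv0 D49450) F37822 (iv2 F40746)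
theorem F78185 : act 7 n49450 = n25805 := d15_2 F49635 F78184 (iv2 F49632)
def n49451 : Q := act 3 n24136
theorem D49451 : act 3 n24136 = n49451 := rfl
theorem F78186 : act 4 n49451 = n24144 := d5_2 D24136 D49451 (iv3 D24144) (iv4 D11339) (iv3 F18503)
theorem F78187 : act 7 n49451 = n25814 := d8_2 (iv7 F37822) D49451 (iv3 D25814)
def n49452 : Q := act 5 n24136
theorem D49452 : act 5 n24136 = n49452 := rfl
theorem F78188 : act 2 n49452 = n25807 := d2_1 D49452 (iv5 D25807) (iv2 F37821)
theorem F78189 : act 7 n49452 = n25815 := d13_2 (iv7 F37822) D49452 (iv5 D25815)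
def n49453 : Q := act 6 n24136
theorem D49453 : act 6 n24136 = n49453 := rfl
theorem F78190 : act 2 n49453 = n25808 := d3_1 D49453 (iv6 D25808) (iv2 F37821)
theorem F78191 : act 4 n49453 = n24137 := d10_1 D49453 (iv6 D24137) D24136
def n49454 : Q := act 7 n24137
theorem D49454 : act 7 n24137 = n49454 := rfl
theorem F78192 : act 2 n49454 = n25812 := d4_1 D49454 (iv7 D25812) (iv2 F37823)
theorem F78193 : act 3 n49454 = n24149 := d8_1 D49454 (iv7 D24149) (iv3 F37824)
theorem F78194 : act 5 n49454 = n30245 := d13_1 D49454 (iv7 D30245) (iv5 F37825)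
theorem F78195 : act 6 n49454 = n25819 := d14_1 D49454 (iv7 D25819) (iv6 D12260) (iv7 F18504) D24137
theorem F78196 : act 1 n25812 = n30329 := d15_0 (iv0 F48756) D49454 F78192
theorem F78197 : act 1 n25810 = n49454 := d15_1 D25810 (iv7 D49454) F37823
theorem F78198 : act 1 n49454 = n25809 := d15_0 (iv0 D25809) D25812 (iv2 F78192)
def n49455 : Q := act 4 n24138
theorem D49455 : act 4 n24138 = n49455 := rfl
theorem F78199 : act 2 n49455 = n25369 := d1_1 D49455 (iv4 F40111) (iv2 F37829)
theorem F78200 : act 3 n49455 = n24574 := d5_1 D49455 F38561 (iv3 F39766) F39767 (iv3 F37830)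
theorem F78201 : act 6 n49455 = n25099 := d10_2 F37828 D49455 F39439
theorem F78202 : act 7 n49455 = n24431 := d11_2 (iv7 F37827) D49455 F38314
theorem F78203 : act 5 n49455 = n29617 := d17_5 (iv1 F11079) D14304 (iv1 F47036) F47038 D49455 (iv0 F47567) (iv5 D25762) F20234 F11108
theorem F78204 : act 0 n49455 = n24455 := d17_0 (iv5 F38385) F38384 (iv5 D6849) F4833 D3095 D6857 (iv5 F18509) D24138 D49455
theorem F78205 : act 1 n49455 = n25371 := d18_8 (iv1 F40708) F46560 (iv1 D28912) (iv4 D13776) F10615 (iv4 F18508) D24138 D49455 F40707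
def n49456 : Q := act 3 n24140
theorem D49456 : act 3 n24140 = n49456 := rfl
theorem F78206 : act 5 n49456 = n31727 := d6_2 (iv5 F37840) D49456 (iv3 D31727)
theorem F78207 : act 7 n49456 = n31725 := d8_2 (iv7 F37839) D49456 (iv3 D31725)
def n49457 : Q := act 6 n24140
theorem D49457 : act 6 n24140 = n49457 := rfl
theorem F78208 : act 2 n49457 = n31728 := d3_1 D49457 (iv6 D31728) (iv2 F37838)
theorem F78209 : act 4 n49457 = n24141 := d10_1 D49457 (iv6 D24141) D24140
def n49458 : Q := act 0 n24141
theorem D49458 : act 0 n24141 = n49458 := rfl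
def n49459 : Q := act 1 n24141
theorem D49459 : act 1 n24141 = n49459 := rfl
def n49460 : Q := act 7 n24141
theorem D49460 : act 7 n24141 = n49460 := rfl
theorem F78210 : act 5 n49460 = n25407 := d13_1 D49460 (iv7 D25407) (iv5 F37843)
def n49461 : Q := act 3 n24142
theorem D49461 : act 3 n24142 = n49461 := rfl
theorem F78211 : act 4 n49461 = n30848 := d5_2 D24142 D49461 (iv3 D30848) (iv4 D14612) (iv3 F20340)
theorem F78212 : act 5 n49461 = n31725 := d6_2 (iv5 F37845) D49461 (iv3 D31725)
theorem F78213 : act 7 n49461 = n31727 := d8_2 (iv7 F37846) D49461 (iv3 D31727)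
def n49462 : Q := act 6 n24142
theorem D49462 : act 6 n24142 = n49462 := rfl
theorem F78214 : act 2 n49462 = n31726 := d3_1 D49462 (iv6 D31726) (iv2 F37844)
theorem F78215 : act 4 n49462 = n24143 := d10_1 D49462 (iv6 D24143) D24142
def n49463 : Q := act 7 n24143
theorem D49463 : act 7 n24143 = n49463 := rfl
theorem F78216 : act 3 n49463 = n30851 := d8_1 D49463 (iv7 D30851) (iv3 F37849)
theorem F78217 : act 5 n49463 = n49360 := d13_1 D49463 (iv7 D49360) (iv5 F37850)
def n49464 : Q := act 0 n24144
theorem D49464 : act 0 n24144 = n49464 := rfl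
def n49465 : Q := act 1 n24144
theorem D49465 : act 1 n24144 = n49465 := rfl
def n49466 : Q := act 2 n24144
theorem D49466 : act 2 n24144 = n49466 := rfl
def n49467 : Q := act 6 n24144
theorem D49467 : act 6 n24144 = n49467 := rfl
theorem F78218 : act 3 n49467 = n24145 := d7_1 D49467 (iv6 D24145) D24144
def n49468 : Q := act 0 n24145
theorem D49468 : act 0 n24145 = n49468 := rfl
def n49469 : Q := act 1 n24145
theorem D49469 : act 1 n24145 = n49469 := rfl
def n49470 : Q := act 5 n24145
theorem D49470 : act 5 n24145 = n49470 := rfl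
def n49471 : Q := act 7 n24145
theorem D49471 : act 7 n24145 = n49471 := rfl
theorem F78219 : act 4 n49471 = n24149 := d11_1 D49471 (iv7 D24149) (iv4 F37851)
def n49472 : Q := act 2 n24146
theorem D49472 : act 2 n24146 = n49472 := rfl
theorem F78220 : act 7 n24147 = n49472 := d15_2 (iv0 D24146) D24147 (iv2 D49472)
def n49473 : Q := act 3 n24146
theorem D49473 : act 3 n24146 = n49473 := rfl
def n49474 : Q := act 4 n24146
theorem D49474 : act 4 n24146 = n49474 := rfl
def n49475 : Q := act 5 n24146
theorem D49475 : act 5 n24146 = n49475 := rfl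
theorem F78221 : act 0 n49475 = n30277 := d21_1 D49475 F48674 (iv6 D24128) (iv1 D11332) F7797 (iv5 D2150) D2148 D5236 D11340 D24146
def n49476 : Q := act 7 n24146
theorem D49476 : act 7 n24146 = n49476 := rfl
theorem F78222 : act 2 n49476 = n24147 := d4_1 D49476 F78220 (iv2 D49472)
def n49477 : Q := act 3 n24147
theorem D49477 : act 3 n24147 = n49477 := rfl
def n49478 : Q := act 4 n24147
theorem D49478 : act 4 n24147 = n49478 := rfl
def n49479 : Q := act 5 n24147
theorem D49479 : act 5 n24147 = n49479 := rfl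
theorem F78223 : act 0 n30277 = n49479 := d21_10 (iv5 D49479) (iv1 D24147) D24148 F37853 F18516 (iv6 F19943) (iv5 D12041) F19402 D14370 D30277
theorem F78224 : act 6 n29004 = n49479 := d21_5 (iv5 D5705) F4895 D6565 D13804 D29004 (iv5 D49479) (iv1 D24147) D24148 F37853 F18516
def n49480 : Q := act 6 n24147
theorem D49480 : act 6 n24147 = n49480 := rfl
def n49481 : Q := act 0 n24148
theorem D49481 : act 0 n24148 = n49481 := rfl
def n49482 : Q := act 1 n24148
theorem D49482 : act 1 n24148 = n49482 := rfl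
def n49483 : Q := act 4 n24148
theorem D49483 : act 4 n24148 = n49483 := rfl
theorem F78225 : act 6 n49483 = n24150 := d10_2 (iv6 F37853) D49483 (iv4 D24150)
def n49484 : Q := act 7 n24148
theorem D49484 : act 7 n24148 = n49484 := rfl
theorem F78226 : act 3 n49484 = n30245 := d8_1 D49484 (iv7 D30245) (iv3 F37852)
theorem F78227 : act 5 n49484 = n24149 := d13_1 D49484 (iv7 D24149) D24148
def n49485 : Q := act 3 n24150
theorem D49485 : act 3 n24150 = n49485 := rfl
theorem F78228 : act 4 n49485 = n30240 := d5_2 D24150 D49485 (iv3 D30240) (iv4 D14352) (iv3 F18515)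
def n49486 : Q := act 6 n24151
theorem D49486 : act 6 n24151 = n49486 := rfl
theorem F78229 : act 3 n49486 = n25893 := d7_1 D49486 (iv6 D25893) (iv3 F37855)
theorem F78230 : act 5 n49486 = n49486 := d12_1 D49486 (iv6 D49486) (iv5 D24151) F19412 D24151
def n49487 : Q := act 6 n24152
theorem D49487 : act 6 n24152 = n49487 := rfl
theorem F78231 : act 2 n49487 = n24157 := d3_1 D49487 (iv6 D24157) (iv2 F37858)
theorem F78232 : act 3 n49487 = n25787 := d7_1 D49487 (iv6 D25787) (iv3 F37859)
def n49488 : Q := act 6 n24154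
theorem D49488 : act 6 n24154 = n49488 := rfl
theorem F78233 : act 2 n49488 = n30679 := d3_1 D49488 (iv6 D30679) F37871
theorem F78234 : act 3 n49488 = n29600 := d7_1 D49488 (iv6 F47524) (iv3 F40143)
theorem F78235 : act 5 n49488 = n30208 := d12_1 D49488 (iv6 D30208) (iv5 F40707) F45382 F45377
theorem F78236 : act 0 n49488 = n34062 := d21_4 F37500 D28089 F45377 D49488 (iv6 D34062) (iv5 D16500) F19937 D11839 (iv6 F23635) F37504
def n49489 : Q := act 6 n24155
theorem D49489 : act 6 n24155 = n49489 := rfl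
theorem F78237 : act 3 n49489 = n24522 := d7_1 D49489 F38498 F37868
theorem F78238 : act 5 n49489 = n24508 := d12_1 D49489 (iv6 D24508) (iv5 D11594) D11595 (iv5 F37867)
def n49490 : Q := act 3 n24156
theorem D49490 : act 3 n24156 = n49490 := rfl
theorem F78239 : act 4 n49490 = n24162 := d5_2 D24156 D49490 (iv3 D24162) (iv4 D11349) (iv3 F18525)
def n49491 : Q := act 5 n24156
theorem D49491 : act 5 n24156 = n49491 := rfl
theorem F78240 : act 2 n49491 = n48838 := d2_1 D49491 F76909 (iv2 F49725)
theorem F78241 : act 7 n49491 = n48837 := d13_2 F38581 D49491 F76908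
theorem F78242 : act 0 n49491 = n48784 := d17_2 F39890 D49491 (iv5 D48784) (iv4 D23791) (iv5 D11149) D11148 D23788 (iv0 F37073) D25273
theorem F78243 : act 1 n49491 = n48841 := d17_6 (iv1 F37891) (iv5 D24151) (iv1 D11345) D11347 D24156 D49491 F76914 (iv0 F40808) (iv4 D25820)
def n49492 : Q := act 6 n24156
theorem D49492 : act 6 n24156 = n49492 := rfl
theorem F78244 : act 4 n49492 = n24157 := d10_1 D49492 (iv6 D24157) D24156
def n49493 : Q := act 0 n24157
theorem D49493 : act 0 n24157 = n49493 := rfl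
def n49494 : Q := act 1 n24157
theorem D49494 : act 1 n24157 = n49494 := rfl
theorem F78245 : act 6 n30291 = n49494 := d21_3 F26094 (iv1 F24014) D30291 (iv1 D49494) (iv6 D24157) (iv5 D11347) (iv1 F19408) D14334 F23948 F26096
theorem F78246 : act 3 n49494 = n25903 := d7_1 F78245 (iv6 F40934) (iv3 F48718)
def n49495 : Q := act 5 n24157
theorem D49495 : act 5 n24157 = n49495 := rfl
theorem F78247 : act 3 n49495 = n24166 := d6_1 D49495 (iv5 D24166) (iv3 F37872)
theorem F78248 : act 6 n49495 = n24160 := d12_2 D24157 D49495 (iv5 D24160) (iv6 D11348) D11347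
def n49496 : Q := act 7 n24157
theorem D49496 : act 7 n24157 = n49496 := rfl
theorem F78249 : act 3 n49496 = n24167 := d8_1 D49496 (iv7 D24167) (iv3 F37872)
def n49497 : Q := act 0 n24162
theorem D49497 : act 0 n24162 = n49497 := rfl
def n49498 : Q := act 1 n24162
theorem D49498 : act 1 n24162 = n49498 := rfl
def n49499 : Q := act 2 n24162
theorem D49499 : act 2 n24162 = n49499 := rfl
def n49500 : Q := act 6 n24162
theorem D49500 : act 6 n24162 = n49500 := rfl
theorem F78250 : act 3 n49500 = n24163 := d7_1 D49500 (iv6 D24163) D24162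
def n49501 : Q := act 0 n24163
theorem D49501 : act 0 n24163 = n49501 := rfl
def n49502 : Q := act 1 n24163
theorem D49502 : act 1 n24163 = n49502 := rfl
def n49503 : Q := act 5 n24163
theorem D49503 : act 5 n24163 = n49503 := rfl
def n49504 : Q := act 7 n24163
theorem D49504 : act 7 n24163 = n49504 := rfl
theorem F78251 : act 4 n49504 = n24167 := d11_1 D49504 (iv7 D24167) (iv4 F37877)
def n49505 : Q := act 4 n24164
theorem D49505 : act 4 n24164 = n49505 := rfl
theorem F78252 : act 7 n49505 = n31734 := d11_2 (iv7 F53451) D49505 (iv4 F50038)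
theorem F78253 : act 0 n49505 = n31736 := d20_7 (iv4 F47794) (iv1 D14635) F11255 (iv3 F11249) D14622 (iv3 F53450) D49505 F50039 F24595 (iv1 F20549)
theorem F78254 : act 2 n49505 = n31733 := d15_3 (iv0 D31733) D31734 (iv7 F78252)
theorem F78255 : act 4 n31733 = n25242 := d1_2 D49505 F78254 (iv2 F53449)
def n49506 : Q := act 5 n24164
theorem D49506 : act 5 n24164 = n49506 := rfl
theorem F78256 : act 3 n49506 = n24538 := d6_1 D49506 F49270 (iv3 F53450)
theorem F78257 : act 7 n49506 = n24527 := d13_2 (iv7 F53451) D49506 F39783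
def n49507 : Q := act 6 n24164
theorem D49507 : act 6 n24164 = n49507 := rfl
theorem F78258 : act 3 n49507 = n30880 := d7_1 D49507 (iv6 D30880) (iv3 F53450)
def n49508 : Q := act 4 n24165
theorem D49508 : act 4 n24165 = n49508 := rfl
theorem F78259 : act 2 n49508 = n31734 := d1_1 D49508 (iv4 F50038) (iv2 F53446)
theorem F78260 : act 7 n49508 = n31733 := d11_2 F53448 D49508 F78255
theorem F78261 : act 1 n49508 = n31736 := d15_0 (iv0 F78253) F78252 (iv2 F78259)
theorem F78262 : act 1 n24218 = n49508 := d15_0 F78261 (iv7 D31736) (iv2 F37962)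
theorem F78263 : act 1 n49505 = n24218 := d15_0 F78262 F78260 (iv2 F78254)
def n49509 : Q := act 0 n24166
theorem D49509 : act 0 n24166 = n49509 := rfl
def n49510 : Q := act 1 n24166
theorem D49510 : act 1 n24166 = n49510 := rfl
def n49511 : Q := act 4 n24166
theorem D49511 : act 4 n24166 = n49511 := rfl
theorem F78264 : act 6 n49511 = n24168 := d10_2 (iv6 F37878) D49511 (iv4 D24168)
def n49512 : Q := act 7 n24166
theorem D49512 : act 7 n24166 = n49512 := rfl
theorem F78265 : act 5 n49512 = n24167 := d13_1 D49512 (iv7 D24167) D24166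
def n49513 : Q := act 3 n24168
theorem D49513 : act 3 n24168 = n49513 := rfl
def n49514 : Q := act 5 n24168
theorem D49514 : act 5 n24168 = n49514 := rfl
theorem F78266 : act 4 n49514 = n25496 := d9_1 D49514 F40325 (iv4 D13541) F10506 (iv4 F19805) (iv5 F36889) (iv4 F45870) (iv5 F49857) (iv4 D31518) (iv5 D14847) (iv4 D7071) F10014 (iv4 F10009) D11352 D24168
theorem F78267 : act 0 n49514 = n25424 := d17_2 (iv1 F37880) D49514 (iv5 D25424) F20002 F11428 (iv0 D7112) D7114 (iv0 F18019) D23732
theorem F78268 : act 1 n49514 = n25427 := d17_6 (iv1 F18013) (iv5 F18329) (iv1 F18330) D11352 D24168 D49514 (iv5 D25427) F36927 F36925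
def n49515 : Q := act 0 n24169
theorem D49515 : act 0 n24169 = n49515 := rfl
theorem F78269 : act 4 n49515 = n24746 := d18_3 F19042 D24169 D49515 (iv5 D24746) (iv4 D11711) (iv0 D5450) (iv4 F10015) F10115 D5804
theorem F78270 : act 2 n25822 = n49515 := d15_3 (iv0 D49515) (iv0 F46318) F46317
theorem F78271 : act 1 n25788 = n49515 := d15_0 (iv0 D49515) F37882 (iv2 F40751)
theorem F78272 : act 7 n49515 = n25823 := d15_2 F46319 F78271 (iv2 F46315)
def n49516 : Q := act 3 n24169
theorem D49516 : act 3 n24169 = n49516 := rfl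
theorem F78273 : act 4 n49516 = n24171 := d5_2 D24169 D49516 (iv3 D24171) (iv4 D11355) D11354
theorem F78274 : act 7 n49516 = n25831 := d8_2 (iv7 F37882) D49516 (iv3 D25831)
def n49517 : Q := act 5 n24169
theorem D49517 : act 5 n24169 = n49517 := rfl
theorem F78275 : act 2 n49517 = n25825 := d2_1 D49517 (iv5 D25825) (iv2 F37881)
theorem F78276 : act 7 n49517 = n25832 := d13_2 (iv7 F37882) D49517 (iv5 D25832)
def n49518 : Q := act 6 n24169
theorem D49518 : act 6 n24169 = n49518 := rfl
theorem F78277 : act 2 n49518 = n25826 := d3_1 D49518 (iv6 D25826) (iv2 F37881)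
theorem F78278 : act 4 n49518 = n24170 := d10_1 D49518 (iv6 D24170) D24169
def n49519 : Q := act 0 n24170
theorem D49519 : act 0 n24170 = n49519 := rfl
def n49520 : Q := act 1 n24170
theorem D49520 : act 1 n24170 = n49520 := rfl
theorem F78279 : act 1 n49520 = n25830 := d15_1 D49520 (iv7 D25830) (iv2 F37883)
def n49521 : Q := act 7 n24170
theorem D49521 : act 7 n24170 = n49521 := rfl
theorem F78280 : act 2 n49521 = n25830 := d4_1 D49521 (iv7 D25830) (iv2 F37883)
theorem F78281 : act 3 n49521 = n24176 := d8_1 D49521 (iv7 D24176) (iv3 F37884)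
theorem F78282 : act 5 n49521 = n30109 := d13_1 D49521 F48390 F46668
theorem F78283 : act 6 n49521 = n25837 := d14_1 D49521 (iv7 D25837) (iv6 D12267) F19653 D24170
theorem F78284 : act 1 n25830 = n49519 := d15_0 (iv0 D49519) D49521 F78280
theorem F78285 : act 1 n25828 = n49521 := d15_1 D25828 (iv7 D49521) F37883
theorem F78286 : act 1 n49521 = n25827 := d15_0 (iv0 D25827) D25830 (iv2 F78280)
def n49522 : Q := act 0 n24171
theorem D49522 : act 0 n24171 = n49522 := rfl
def n49523 : Q := act 1 n24171
theorem D49523 : act 1 n24171 = n49523 := rfl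
def n49524 : Q := act 2 n24171
theorem D49524 : act 2 n24171 = n49524 := rfl
theorem F78287 : act 5 n49524 = n49499 := d2_2 (iv5 F37885) D49524 (iv2 D49499)
def n49525 : Q := act 6 n24171
theorem D49525 : act 6 n24171 = n49525 := rfl
theorem F78288 : act 3 n49525 = n24172 := d7_1 D49525 (iv6 D24172) D24171
def n49526 : Q := act 0 n24172
theorem D49526 : act 0 n24172 = n49526 := rfl
def n49527 : Q := act 1 n24172
theorem D49527 : act 1 n24172 = n49527 := rfl
def n49528 : Q := act 5 n24172
theorem D49528 : act 5 n24172 = n49528 := rfl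
theorem F78289 : act 6 n49528 = n49503 := d12_2 D24172 D49528 (iv5 D49503) (iv6 D24163) (iv5 F18537)
def n49529 : Q := act 7 n24172
theorem D49529 : act 7 n24172 = n49529 := rfl
theorem F78290 : act 4 n49529 = n24176 := d11_1 D49529 (iv7 D24176) (iv4 F37886)
def n49530 : Q := act 2 n24173
theorem D49530 : act 2 n24173 = n49530 := rfl
theorem F78291 : act 7 n24174 = n49530 := d15_2 (iv0 D24173) D24174 (iv2 D49530)
def n49531 : Q := act 3 n24173
theorem D49531 : act 3 n24173 = n49531 := rfl
def n49532 : Q := act 4 n24173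
theorem D49532 : act 4 n24173 = n49532 := rfl
def n49533 : Q := act 5 n24173
theorem D49533 : act 5 n24173 = n49533 := rfl
def n49534 : Q := act 6 n24173
theorem D49534 : act 6 n24173 = n49534 := rfl
def n49535 : Q := act 7 n24173
theorem D49535 : act 7 n24173 = n49535 := rfl
theorem F78292 : act 2 n49535 = n24174 := d4_1 D49535 F78291 (iv2 D49530)
def n49536 : Q := act 3 n24174
theorem D49536 : act 3 n24174 = n49536 := rfl
def n49537 : Q := act 4 n24174
theorem D49537 : act 4 n24174 = n49537 := rfl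
def n49538 : Q := act 5 n24174
theorem D49538 : act 5 n24174 = n49538 := rfl
theorem F78293 : act 6 n49371 = n49538 := d21_5 (iv5 D11257) F10227 (iv5 F18472) D24095 D49371 (iv5 D49538) (iv1 D24174) D24175 F37887 (iv1 D24000)
def n49539 : Q := act 6 n24174
theorem D49539 : act 6 n24174 = n49539 := rfl
def n49540 : Q := act 1 n24175
theorem D49540 : act 1 n24175 = n49540 := rfl
theorem F78294 : act 7 n49540 = n28760 := d15_2 (iv0 F78021) D49540 (iv2 F78020)
theorem F78295 : act 5 n49507 = n49540 := d21_6 F18302 (iv1 F7742) D5239 D11350 D24164 D49507 (iv1 D49540) (iv5 D24175) (iv6 D11356) (iv1 F18304)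
def n49541 : Q := act 4 n24175
theorem D49541 : act 4 n24175 = n49541 := rfl
theorem F78296 : act 6 n49541 = n49186 := d10_2 (iv6 F37887) D49541 (iv4 D49186)
def n49542 : Q := act 7 n24175
theorem D49542 : act 7 n24175 = n49542 := rfl
theorem F78297 : act 3 n49542 = n30109 := d8_1 D49542 F48390 F46667
theorem F78298 : act 5 n49542 = n24176 := d13_1 D49542 (iv7 D24176) D24175
def n49543 : Q := act 6 n24177
theorem D49543 : act 6 n24177 = n49543 := rfl
theorem F78299 : act 2 n49543 = n24179 := d3_1 D49543 (iv6 D24179) D24177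
theorem F78300 : act 3 n49543 = n25789 := d7_1 D49543 (iv6 D25789) (iv3 F37888)
theorem F78301 : act 4 n49543 = n48832 := d10_1 D49543 (iv6 D48832) (iv4 F37893)
theorem F78302 : act 5 n49543 = n30213 := d12_1 D49543 (iv6 D30213) (iv5 D14341) D14342 (iv5 F37889)
def n49544 : Q := act 3 n24178
theorem D49544 : act 3 n24178 = n49544 := rfl
theorem F78303 : act 4 n49544 = n24180 := d5_2 D24178 D49544 (iv3 D24180) (iv4 D11358) D11357
theorem F78304 : act 7 n49544 = n48827 := d8_2 (iv7 F37895) D49544 (iv3 D48827)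
def n49545 : Q := act 5 n24178
theorem D49545 : act 5 n24178 = n49545 := rfl
theorem F78305 : act 2 n49545 = n48831 := d2_1 D49545 (iv5 D48831) (iv2 F37894)
theorem F78306 : act 7 n49545 = n48828 := d13_2 (iv7 F37895) D49545 (iv5 D48828)
theorem F78307 : act 1 n49545 = n31433 := d17_6 (iv1 F38580) (iv5 F38483) (iv1 F38484) F19220 D24178 D49545 (iv5 D31433) D31431 F49724
def n49546 : Q := act 6 n24178
theorem D49546 : act 6 n24178 = n49546 := rfl
theorem F78308 : act 2 n49546 = n48832 := d3_1 D49546 (iv6 D48832) (iv2 F37894)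
theorem F78309 : act 4 n49546 = n24179 := d10_1 D49546 (iv6 D24179) D24178
def n49547 : Q := act 0 n24179
theorem D49547 : act 0 n24179 = n49547 := rfl
def n49548 : Q := act 1 n24179
theorem D49548 : act 1 n24179 = n49548 := rfl
def n49549 : Q := act 7 n24179
theorem D49549 : act 7 n24179 = n49549 := rfl
theorem F78310 : act 3 n49549 = n24184 := d8_1 D49549 (iv7 D24184) (iv3 F37898)
def n49550 : Q := act 0 n24180
theorem D49550 : act 0 n24180 = n49550 := rfl
def n49551 : Q := act 1 n24180
theorem D49551 : act 1 n24180 = n49551 := rfl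
def n49552 : Q := act 2 n24180
theorem D49552 : act 2 n24180 = n49552 := rfl
theorem F78311 : act 5 n49552 = n49466 := d2_2 (iv5 F37899) D49552 (iv2 D49466)
def n49553 : Q := act 6 n24180
theorem D49553 : act 6 n24180 = n49553 := rfl
theorem F78312 : act 3 n49553 = n24181 := d7_1 D49553 (iv6 D24181) D24180
def n49554 : Q := act 0 n24181
theorem D49554 : act 0 n24181 = n49554 := rfl
def n49555 : Q := act 1 n24181
theorem D49555 : act 1 n24181 = n49555 := rfl
def n49556 : Q := act 5 n24181
theorem D49556 : act 5 n24181 = n49556 := rfl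
theorem F78313 : act 6 n49556 = n49470 := d12_2 D24181 D49556 (iv5 D49470) (iv6 D24145) (iv5 F18540)
def n49557 : Q := act 7 n24181
theorem D49557 : act 7 n24181 = n49557 := rfl
theorem F78314 : act 4 n49557 = n24184 := d11_1 D49557 (iv7 D24184) (iv4 F37900)
def n49558 : Q := act 2 n24182
theorem D49558 : act 2 n24182 = n49558 := rfl
theorem F78315 : act 7 n24183 = n49558 := d15_2 (iv0 D24182) D24183 (iv2 D49558)
def n49559 : Q := act 3 n24182
theorem D49559 : act 3 n24182 = n49559 := rfl
def n49560 : Q := act 4 n24182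
theorem D49560 : act 4 n24182 = n49560 := rfl
def n49561 : Q := act 5 n24182
theorem D49561 : act 5 n24182 = n49561 := rfl
def n49562 : Q := act 6 n24182
theorem D49562 : act 6 n24182 = n49562 := rfl
def n49563 : Q := act 7 n24182
theorem D49563 : act 7 n24182 = n49563 := rfl
theorem F78316 : act 2 n49563 = n24183 := d4_1 D49563 F78315 (iv2 D49558)
def n49564 : Q := act 3 n24183
theorem D49564 : act 3 n24183 = n49564 := rfl
def n49565 : Q := act 4 n24183
theorem D49565 : act 4 n24183 = n49565 := rfl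
def n49566 : Q := act 5 n24183
theorem D49566 : act 5 n24183 = n49566 := rfl
def n49567 : Q := act 6 n24183
theorem D49567 : act 6 n24183 = n49567 := rfl
def n49568 : Q := act 0 n24185
theorem D49568 : act 0 n24185 = n49568 := rfl
theorem F78317 : act 1 n31172 = n49568 := d15_0 (iv0 D49568) F37902 (iv2 F49514)
def n49569 : Q := act 1 n24185
theorem D49569 : act 1 n24185 = n49569 := rfl
def n49570 : Q := act 2 n24185
theorem D49570 : act 2 n24185 = n49570 := rfl
theorem F78318 : act 4 n49570 = n25973 := d1_2 (iv4 F37901) D49570 (iv2 D25973)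
theorem F78319 : act 7 n49570 = n31172 := d4_2 (iv7 F37902) D49570 F49514
theorem F78320 : act 1 n49570 = n31175 := d15_0 (iv0 D31175) (iv7 F37902) D49570
theorem F78321 : act 1 n49569 = n31172 := d15_1 D49569 (iv7 F78319) (iv2 D49570)
theorem F78322 : act 1 n31176 = n49570 := d15_1 D31176 F78319 F49514
def n49571 : Q := act 6 n24185
theorem D49571 : act 6 n24185 = n49571 := rfl
theorem F78323 : act 3 n49571 = n24186 := d7_1 D49571 (iv6 D24186) D24185
theorem F78324 : act 4 n49571 = n25975 := d10_1 D49571 (iv6 D25975) (iv4 F37901)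
def n49572 : Q := act 0 n24186
theorem D49572 : act 0 n24186 = n49572 := rfl
def n49573 : Q := act 1 n24186
theorem D49573 : act 1 n24186 = n49573 := rfl
def n49574 : Q := act 5 n24186
theorem D49574 : act 5 n24186 = n49574 := rfl
def n49575 : Q := act 7 n24186
theorem D49575 : act 7 n24186 = n49575 := rfl
theorem F78325 : act 4 n49575 = n28300 := d11_1 D49575 (iv7 D28300) (iv4 F37903)
def n49576 : Q := act 0 n24187
theorem D49576 : act 0 n24187 = n49576 := rfl
def n49577 : Q := act 1 n24187
theorem D49577 : act 1 n24187 = n49577 := rfl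
def n49578 : Q := act 2 n24187
theorem D49578 : act 2 n24187 = n49578 := rfl
theorem F78326 : act 3 n49578 = n31172 := d0_2 D24187 D49578 F49514 F24390 F19201
def n49579 : Q := act 4 n24187
theorem D49579 : act 4 n24187 = n49579 := rfl
theorem F78327 : act 3 n49579 = n28311 := d5_1 D49579 (iv4 D28311) F22658 F18616 D24187
def n49580 : Q := act 6 n24187
theorem D49580 : act 6 n24187 = n49580 := rfl
theorem F78328 : act 3 n49580 = n24188 := d7_1 D49580 (iv6 D24188) D24187
def n49581 : Q := act 0 n24188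
theorem D49581 : act 0 n24188 = n49581 := rfl
def n49582 : Q := act 1 n24188
theorem D49582 : act 1 n24188 = n49582 := rfl
def n49583 : Q := act 5 n24188
theorem D49583 : act 5 n24188 = n49583 := rfl
def n49584 : Q := act 7 n24188
theorem D49584 : act 7 n24188 = n49584 := rfl
def n49585 : Q := act 0 n24189
theorem D49585 : act 0 n24189 = n49585 := rfl
theorem F78329 : act 2 n24193 = n49585 := d15_3 (iv0 D49585) (iv0 D24189) D24193
theorem F78330 : act 5 n49585 = n49183 := d2_2 (iv5 F37907) F78329 (iv2 D49183)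
theorem F78331 : act 7 n49585 = n24191 := d4_2 D24193 F78329 (iv2 D24191)
theorem F78332 : act 1 n24190 = n49585 := d15_1 D24190 F78331 (iv2 D24191)
def n49586 : Q := act 2 n24189
theorem D49586 : act 2 n24189 = n49586 := rfl
theorem F78333 : act 7 n24190 = n49586 := d15_2 (iv0 D24189) D24190 (iv2 D49586)
def n49587 : Q := act 3 n24189
theorem D49587 : act 3 n24189 = n49587 := rfl
def n49588 : Q := act 4 n24189
theorem D49588 : act 4 n24189 = n49588 := rfl
def n49589 : Q := act 5 n24189
theorem D49589 : act 5 n24189 = n49589 := rfl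
def n49590 : Q := act 6 n24189
theorem D49590 : act 6 n24189 = n49590 := rfl
def n49591 : Q := act 7 n24189
theorem D49591 : act 7 n24189 = n49591 := rfl
theorem F78334 : act 2 n49591 = n24190 := d4_1 D49591 F78333 (iv2 D49586)
def n49592 : Q := act 3 n24190
theorem D49592 : act 3 n24190 = n49592 := rfl
def n49593 : Q := act 4 n24190
theorem D49593 : act 4 n24190 = n49593 := rfl
def n49594 : Q := act 5 n24190
theorem D49594 : act 5 n24190 = n49594 := rfl
def n49595 : Q := act 6 n24190
theorem D49595 : act 6 n24190 = n49595 := rfl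
def n49596 : Q := act 0 n24191
theorem D49596 : act 0 n24191 = n49596 := rfl
theorem F78335 : act 1 n24193 = n49596 := d15_0 (iv0 D49596) (iv7 F78331) (iv2 F78329)
def n49597 : Q := act 1 n24191
theorem D49597 : act 1 n24191 = n49597 := rfl
theorem F78336 : act 1 n49597 = n24193 := d15_1 D49597 (iv7 D24193) D24191
def n49598 : Q := act 5 n24191
theorem D49598 : act 5 n24191 = n49598 := rfl
theorem F78337 : act 2 n49598 = n24192 := d2_1 D49598 (iv5 D24192) D24191
theorem F78338 : act 3 n49598 = n49585 := d6_1 D49598 F78330 F77675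
theorem F78339 : act 7 n49598 = n49183 := d13_2 F78331 D49598 (iv5 F78330)
theorem F78340 : act 1 n49182 = n49598 := d15_1 D49182 F78339 (iv2 D49183)
theorem F78341 : act 1 n49598 = n49181 := d15_0 (iv0 D49181) F37905 (iv2 F78337)
def n49599 : Q := act 0 n24192
theorem D49599 : act 0 n24192 = n49599 := rfl
theorem F78342 : act 1 n49183 = n49599 := d15_0 (iv0 D49599) (iv7 F37905) D49183
def n49600 : Q := act 1 n24192
theorem D49600 : act 1 n24192 = n49600 := rfl
theorem F78343 : act 1 n49600 = n49183 := d15_1 D49600 (iv7 F78339) F78337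
def n49601 : Q := act 4 n24192
theorem D49601 : act 4 n24192 = n49601 := rfl
theorem F78344 : act 3 n49601 = n30274 := d5_1 D49601 (iv4 D30274) F23991 (iv4 F18543) (iv3 F37904)
theorem F78345 : act 7 n49601 = n49160 := d11_2 F37905 D49601 F77623
def n49602 : Q := act 6 n24192
theorem D49602 : act 6 n24192 = n49602 := rfl
theorem F78346 : act 3 n49602 = n24194 := d7_1 D49602 (iv6 D24194) (iv3 F37904)
def n49603 : Q := act 6 n24193
theorem D49603 : act 6 n24193 = n49603 := rfl
theorem F78347 : act 3 n49603 = n24195 := d7_1 D49603 (iv6 D24195) (iv3 F37906)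
def n49604 : Q := act 0 n24194
theorem D49604 : act 0 n24194 = n49604 := rfl
def n49605 : Q := act 1 n24194
theorem D49605 : act 1 n24194 = n49605 := rfl
theorem F78348 : act 1 n49605 = n49448 := d15_1 D49605 F78178 F37909
def n49606 : Q := act 7 n24194
theorem D49606 : act 7 n24194 = n49606 := rfl
theorem F78349 : act 2 n49606 = n49448 := d4_1 D49606 F78178 F37909
theorem F78350 : act 4 n49606 = n49168 := d11_1 D49606 F77643 (iv4 F37908)
theorem F78351 : act 6 n49606 = n49167 := d14_1 D49606 (iv7 D49167) F37488 (iv7 F18544) D24194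
theorem F78352 : act 1 n49448 = n49604 := d15_0 (iv0 D49604) D49606 F78349
def n49607 : Q := act 0 n24195
theorem D49607 : act 0 n24195 = n49607 := rfl
theorem F78353 : act 1 n49606 = n49607 := d15_0 (iv0 D49607) (iv7 F78178) (iv2 F78349)
def n49608 : Q := act 1 n24195
theorem D49608 : act 1 n24195 = n49608 := rfl
theorem F78354 : act 1 n49608 = n49606 := d15_1 D49608 (iv7 D49606) (iv2 F37909)
def n49609 : Q := act 5 n24195
theorem D49609 : act 5 n24195 = n49609 := rfl
theorem F78355 : act 2 n49609 = n49446 := d2_1 D49609 F78174 (iv2 F37909)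
theorem F78356 : act 6 n49609 = n49166 := d12_2 D24195 D49609 (iv5 D49166) F37488 (iv5 F18549)
def n49610 : Q := act 2 n24196
theorem D49610 : act 2 n24196 = n49610 := rfl
theorem F78357 : act 7 n24197 = n49610 := d15_2 (iv0 D24196) D24197 (iv2 D49610)
def n49611 : Q := act 3 n24196
theorem D49611 : act 3 n24196 = n49611 := rfl
def n49612 : Q := act 4 n24196
theorem D49612 : act 4 n24196 = n49612 := rfl
def n49613 : Q := act 5 n24196
theorem D49613 : act 5 n24196 = n49613 := rfl
theorem F78358 : act 0 n49480 = n49613 := d21_10 (iv5 D49613) (iv1 F77645) F77642 (iv6 D49168) (iv1 F37493) D24128 (iv5 F48674) F78223 (iv5 D49479) D49480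
def n49614 : Q := act 6 n24196
theorem D49614 : act 6 n24196 = n49614 := rfl
theorem F78359 : act 5 n49614 = n49337 := d21_6 (iv5 D6355) (iv1 F7707) (iv5 F7801) D11365 D24196 D49614 (iv1 D49337) (iv5 F39772) (iv6 D25238) (iv1 F19785)
theorem E8154 : n49463 = n49418 := ((c21_11 F78217 (iv1 F78044) (iv5 F78359) (iv6 D49614) (iv1 F77645) (iv6 D49168) F37491 (iv1 F18290) D11329 D24120 D49418)).symm
theorem F78360 : act 3 n49418 = n30851 := (sb E8154 F78216)
theorem F78361 : act 5 n49418 = n49360 := (sb E8154 F78217)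
theorem F78362 : act 7 n49418 = n24143 := (sb E8154 (iv7 D49463))
def n49615 : Q := act 7 n24196
theorem D49615 : act 7 n24196 = n49615 := rfl
theorem F78363 : act 2 n49615 = n24197 := d4_1 D49615 F78357 (iv2 D49610)
def n49616 : Q := act 3 n24197
theorem D49616 : act 3 n24197 = n49616 := rfl
def n49617 : Q := act 4 n24197
theorem D49617 : act 4 n24197 = n49617 := rfl
def n49618 : Q := act 5 n24197
theorem D49618 : act 5 n24197 = n49618 := rfl
theorem F78364 : act 6 n49458 = n49618 := d21_5 (iv5 F18298) F10136 (iv5 F18510) D24141 D49458 (iv5 D49618) (iv1 D24197) F18550 (iv6 D11365) (iv1 F18296)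
def n49619 : Q := act 6 n24197
theorem D49619 : act 6 n24197 = n49619 := rfl
def n49620 : Q := act 3 n24198
theorem D49620 : act 3 n24198 = n49620 := rfl
theorem F78365 : act 5 n49620 = n31720 := d6_2 (iv5 F37913) D49620 (iv3 D31720)
theorem F78366 : act 7 n49620 = n31716 := d8_2 (iv7 F37912) D49620 (iv3 D31716)
def n49621 : Q := act 6 n24198
theorem D49621 : act 6 n24198 = n49621 := rfl
theorem F78367 : act 2 n49621 = n31721 := d3_1 D49621 (iv6 D31721) (iv2 F37911)
theorem F78368 : act 4 n49621 = n24199 := d10_1 D49621 (iv6 D24199) D24198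
def n49622 : Q := act 0 n24199
theorem D49622 : act 0 n24199 = n49622 := rfl
def n49623 : Q := act 1 n24199
theorem D49623 : act 1 n24199 = n49623 := rfl
theorem F78369 : act 1 n49623 = n31724 := d15_1 D49623 (iv7 D31724) (iv2 F37916)
def n49624 : Q := act 7 n24199
theorem D49624 : act 7 n24199 = n49624 := rfl
theorem F78370 : act 2 n49624 = n31724 := d4_1 D49624 (iv7 D31724) (iv2 F37916)
theorem F78371 : act 5 n49624 = n28383 := d13_1 D49624 (iv7 D28383) (iv5 F37917)
theorem F78372 : act 6 n49624 = n31718 := d14_1 D49624 (iv7 D31718) (iv6 D14921) F18554 D24199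
theorem F78373 : act 1 n31724 = n49622 := d15_0 (iv0 D49622) D49624 F78370
theorem F78374 : act 1 n31723 = n49624 := d15_1 D31723 (iv7 D49624) F37916
theorem F78375 : act 0 n24367 = n31718 := d21_4 F22156 (iv1 F19502) D11486 D24367 (iv6 F78372) F78371 (iv1 F45888) (iv5 F40268) (iv6 D24893) (iv1 F22158)
theorem F78376 : act 5 n29343 = n28003 := d21_0 (iv1 D28003) D28004 F45272 F23278 D29383 F47068 F78375 F50025 (iv6 F77840) (iv1 F77842)
theorem F78377 : act 6 n28775 = n29343 := d21_5 F23276 F22973 F22870 D13723 D28775 F78376 (iv1 D28003) D28004 F45272 F23278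
theorem F78378 : act 6 n28093 = n28003 := d21_5 (iv5 D7114) D7112 (iv5 F11428) D13413 D28093 (iv5 F78376) (iv1 D29343) (iv5 F36945) (iv6 D23733) F18019
theorem F78379 : act 1 n49624 = n31722 := d15_0 (iv0 D31722) D31724 (iv2 F78370)
def n49625 : Q := act 6 n24200
theorem D49625 : act 6 n24200 = n49625 := rfl
theorem F78380 : act 3 n49625 = n24202 := d7_1 D49625 (iv6 D24202) D24200
theorem F78381 : act 5 n49625 = n49251 := d12_1 D49625 (iv6 D49251) (iv5 F76582) F76583 F38717
def n49626 : Q := act 3 n24201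
theorem D49626 : act 3 n24201 = n49626 := rfl
theorem F78382 : act 5 n49626 = n31716 := d6_2 (iv5 F37920) D49626 (iv3 D31716)
theorem F78383 : act 7 n49626 = n31720 := d8_2 (iv7 F37921) D49626 (iv3 D31720)
def n49627 : Q := act 6 n24201
theorem D49627 : act 6 n24201 = n49627 := rfl
theorem F78384 : act 2 n49627 = n31717 := d3_1 D49627 (iv6 D31717) (iv2 F37919)
theorem F78385 : act 4 n49627 = n24202 := d10_1 D49627 (iv6 D24202) D24201
theorem F78386 : act 0 n49627 = n49417 := d21_4 F18537 (iv1 F24579) (iv5 F37920) D49627 (iv6 D49417) D49416 F78150 (iv5 D24895) F19183 (iv1 F18538)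
def n49628 : Q := act 1 n24202
theorem D49628 : act 1 n24202 = n49628 := rfl
theorem F78387 : act 1 n49628 = n31718 := d15_1 D49628 (iv7 D31718) (iv2 F37924)
theorem F78388 : act 7 n49628 = n27932 := d15_2 (iv0 F38202) D49628 F45116
theorem F78389 : act 2 n31445 = n49628 := d4_3 F78388 F45116 (iv7 F49764)
theorem F78390 : act 3 n31371 = n49628 := d8_3 F78388 F45117 (iv7 F49638)
def n49629 : Q := act 7 n24202
theorem D49629 : act 7 n24202 = n49629 := rfl
theorem F78391 : act 2 n49629 = n31718 := d4_1 D49629 (iv7 D31718) (iv2 F37924)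
theorem F78392 : act 5 n49629 = n49257 := d13_1 D49629 (iv7 D49257) (iv5 F37925)
theorem F78393 : act 6 n49629 = n31724 := d14_1 D49629 (iv7 D31724) (iv6 D14924) (iv7 F18556) D24202
theorem F78394 : act 1 n31445 = n49629 := d15_1 F49765 (iv7 D49629) F37924
theorem F78395 : act 1 n49629 = n27932 := d15_1 F78394 (iv7 F78388) (iv2 F78389)
def n49630 : Q := act 0 n24203
theorem D49630 : act 0 n24203 = n49630 := rfl
theorem F78396 : act 1 n31731 = n49630 := d15_0 (iv0 D49630) F37928 D31731
def n49631 : Q := act 1 n24203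
theorem D49631 : act 1 n24203 = n49631 := rfl
def n49632 : Q := act 2 n24203
theorem D49632 : act 2 n24203 = n49632 := rfl
theorem F78397 : act 4 n49632 = n26033 := d1_2 (iv4 F37926) D49632 (iv2 D26033)
theorem F78398 : act 5 n49632 = n49578 := d2_2 (iv5 F37927) D49632 (iv2 D49578)
theorem F78399 : act 7 n49632 = n31731 := d4_2 (iv7 F37928) D49632 (iv2 D31731)
theorem F78400 : act 1 n49632 = n31729 := d15_0 (iv0 D31729) (iv7 F37928) D49632
theorem F78401 : act 1 n49631 = n31731 := d15_1 D49631 (iv7 F78399) (iv2 D49632)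
theorem F78402 : act 1 n31730 = n49632 := d15_1 D31730 F78399 (iv2 D31731)
def n49633 : Q := act 6 n24203
theorem D49633 : act 6 n24203 = n49633 := rfl
theorem F78403 : act 3 n49633 = n24204 := d7_1 D49633 (iv6 D24204) D24203
theorem F78404 : act 4 n49633 = n26034 := d10_1 D49633 (iv6 D26034) (iv4 F37926)
def n49634 : Q := act 0 n24204
theorem D49634 : act 0 n24204 = n49634 := rfl
def n49635 : Q := act 1 n24204
theorem D49635 : act 1 n24204 = n49635 := rfl
def n49636 : Q := act 5 n24204
theorem D49636 : act 5 n24204 = n49636 := rfl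
theorem F78405 : act 6 n49636 = n49583 := d12_2 D24204 D49636 (iv5 D49583) (iv6 D24188) (iv5 F18617)
def n49637 : Q := act 7 n24204
theorem D49637 : act 7 n24204 = n49637 := rfl
theorem F78406 : act 4 n49637 = n24208 := d11_1 D49637 (iv7 D24208) (iv4 F37929)
theorem F78407 : act 6 n49637 = n31736 := d14_1 D49637 (iv7 D31736) (iv6 D14928) (iv7 F18558) D24204
def n49638 : Q := act 2 n24205
theorem D49638 : act 2 n24205 = n49638 := rfl
theorem F78408 : act 7 n24206 = n49638 := d15_2 (iv0 D24205) D24206 (iv2 D49638)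
def n49639 : Q := act 3 n24205
theorem D49639 : act 3 n24205 = n49639 := rfl
def n49640 : Q := act 4 n24205
theorem D49640 : act 4 n24205 = n49640 := rfl
def n49641 : Q := act 7 n24205
theorem D49641 : act 7 n24205 = n49641 := rfl
def n49642 : Q := act 3 n24206
theorem D49642 : act 3 n24206 = n49642 := rfl
def n49643 : Q := act 4 n24206
theorem D49643 : act 4 n24206 = n49643 := rfl
def n49644 : Q := act 6 n24206
theorem D49644 : act 6 n24206 = n49644 := rfl
def n49645 : Q := act 0 n24207
theorem D49645 : act 0 n24207 = n49645 := rfl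
def n49646 : Q := act 1 n24207
theorem D49646 : act 1 n24207 = n49646 := rfl
def n49647 : Q := act 4 n24207
theorem D49647 : act 4 n24207 = n49647 := rfl
theorem F78410 : act 6 n49647 = n24211 := d10_2 (iv6 F37931) D49647 (iv4 D24211)
def n49648 : Q := act 7 n24207
theorem D49648 : act 7 n24207 = n49648 := rfl
theorem F78411 : act 3 n49648 = n24275 := d8_1 D49648 (iv7 D24275) (iv3 F37930)
theorem F78412 : act 5 n49648 = n24208 := d13_1 D49648 (iv7 D24208) D24207
def n49649 : Q := act 5 n24209
theorem D49649 : act 5 n24209 = n49649 := rfl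
theorem F78413 : act 3 n49649 = n24210 := d6_1 D49649 (iv5 D24210) D24209
theorem F78414 : act 7 n49649 = n29321 := d13_2 (iv7 F37935) D49649 (iv5 D29321)
theorem F78415 : act 0 n49649 = n24335 := d17_2 F46508 D49649 (iv5 D24335) (iv4 D11467) D11468 D24338 (iv5 F38156) (iv0 F38864) (iv4 F46505)
theorem F78416 : act 1 n49649 = n24343 := d17_6 F19522 D24117 F46624 F46623 (iv4 F37934) D49649 (iv5 D24343) F38143 F38140
def n49650 : Q := act 5 n24211
theorem D49650 : act 5 n24211 = n49650 := rfl
theorem F78417 : act 4 n49650 = n25306 := d16_2 D24211 D49650 (iv5 D25306) F19877 (iv5 F18317) (iv4 F19191) (iv5 F19864) F19867 F19188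
def n49651 : Q := act 4 n24213
theorem D49651 : act 4 n24213 = n49651 := rfl
theorem F78418 : act 5 n49651 = n25292 := d9_2 D24213 D49651 (iv4 D25292) F19864 F19191 F18317 (iv4 F19877) D25306 (iv4 F78417) (iv5 D49650) (iv4 D24211) (iv5 D11371) F7815 D5270 D11377
def n49652 : Q := act 6 n24213
theorem D49652 : act 6 n24213 = n49652 := rfl
def n49653 : Q := act 3 n24214
theorem D49653 : act 3 n24214 = n49653 := rfl
theorem F78419 : act 4 n49653 = n24217 := d5_2 D24214 D49653 (iv3 D24217) (iv4 D11380) (iv3 F18586)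
theorem F78420 : act 7 n49653 = n31353 := d8_2 (iv7 F37948) D49653 (iv3 D31353)
def n49654 : Q := act 6 n24214
theorem D49654 : act 6 n24214 = n49654 := rfl
theorem F78421 : act 2 n49654 = n26076 := d3_1 D49654 (iv6 D26076) (iv2 F37947)
theorem F78422 : act 4 n49654 = n24215 := d10_1 D49654 (iv6 D24215) D24214
def n49655 : Q := act 0 n24215
theorem D49655 : act 0 n24215 = n49655 := rfl
def n49656 : Q := act 7 n24215
theorem D49656 : act 7 n24215 = n49656 := rfl
theorem F78423 : act 2 n49656 = n26079 := d4_1 D49656 (iv7 D26079) (iv2 F37951)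
theorem F78424 : act 3 n49656 = n24222 := d8_1 D49656 (iv7 D24222) (iv3 F37952)
theorem F78425 : act 6 n49656 = n31358 := d14_1 D49656 (iv7 D31358) (iv6 D14781) (iv7 F18587) D24215
theorem F78426 : act 1 n26079 = n49655 := d15_0 (iv0 D49655) D49656 F78423
theorem F78427 : act 1 n26078 = n49656 := d15_1 D26078 (iv7 D49656) F37951
theorem F78428 : act 7 n49655 = n26078 := d15_2 F45400 F78426 (iv2 F45397)
theorem F78429 : act 5 n49075 = n49655 := d13_3 F78428 (iv5 F41252) D49075
theorem F78430 : act 2 n49655 = n26077 := d15_3 (iv0 D26077) D26078 (iv7 F78428)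
theorem F78431 : act 5 n26077 = n28096 := d2_2 F78429 F78430 (iv2 F77450)
theorem F78432 : act 7 n26077 = n28095 := d4_2 (iv7 F78428) F78430 F45397
theorem F78433 : act 1 n49656 = n26077 := d15_1 F78427 F78432 F45397
theorem F78434 : act 5 n28101 = n28783 := d21_0 (iv1 D28783) (iv5 F45153) (iv6 D27943) F22165 D24771 F38773 D26077 F78431 (iv6 F77461) (iv1 F77463)
theorem F78435 : act 6 n27993 = n28101 := d21_5 F19069 D12362 F22196 D13359 D27993 F78434 (iv1 D28783) (iv5 F45153) (iv6 D27943) F22165
theorem F78436 : act 6 n29335 = n28783 := d21_5 F22982 F20013 F20011 D13957 D29335 (iv5 F78434) (iv1 D28101) (iv5 F37569) (iv6 D24032) F22983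
def n49657 : Q := act 0 n24217
theorem D49657 : act 0 n24217 = n49657 := rfl
def n49658 : Q := act 1 n24217
theorem D49658 : act 1 n24217 = n49658 := rfl
def n49659 : Q := act 2 n24217
theorem D49659 : act 2 n24217 = n49659 := rfl
theorem F78437 : act 3 n49659 = n31731 := d0_2 D24217 D49659 (iv2 D31731) (iv3 D14927) (iv2 F18593)
theorem F78438 : act 5 n49659 = n49570 := d2_2 (iv5 F37961) D49659 (iv2 D49570)
def n49660 : Q := act 6 n24217
theorem D49660 : act 6 n24217 = n49660 := rfl
theorem F78439 : act 3 n49660 = n24218 := d7_1 D49660 (iv6 D24218) D24217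
def n49661 : Q := act 5 n24218
theorem D49661 : act 5 n24218 = n49661 := rfl
theorem F78440 : act 2 n49661 = n31735 := d2_1 D49661 (iv5 D31735) (iv2 F37962)
theorem F78441 : act 6 n49661 = n49574 := d12_2 D24218 D49661 (iv5 D49574) (iv6 D24186) (iv5 F18594)
def n49662 : Q := act 7 n24218
theorem D49662 : act 7 n24218 = n49662 := rfl
theorem F78442 : act 2 n49662 = n31736 := d4_1 D49662 (iv7 D31736) (iv2 F37962)
theorem F78443 : act 4 n49662 = n24222 := d11_1 D49662 (iv7 D24222) (iv4 F37963)
theorem F78444 : act 1 n31734 = n49662 := d15_1 D31734 (iv7 D49662) F37962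
theorem F78445 : act 1 n49662 = n31733 := d15_1 F78444 (iv7 F78260) F78259
def n49663 : Q := act 3 n24219
theorem D49663 : act 3 n24219 = n49663 := rfl
theorem F78446 : act 7 n49663 = n31740 := d8_2 (iv7 F38197) D49663 (iv3 D31740)
def n49664 : Q := act 4 n24219
theorem D49664 : act 4 n24219 = n49664 := rfl
theorem F78447 : act 2 n49664 = n31738 := d1_1 D49664 (iv4 D31738) (iv2 F38199)
theorem F78448 : act 7 n49664 = n31741 := d11_2 (iv7 F38197) D49664 (iv4 D31741)
def n49665 : Q := act 5 n24219
theorem D49665 : act 5 n24219 = n49665 := rfl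
theorem F78449 : act 2 n49665 = n27995 := d2_1 D49665 F45264 (iv2 F38199)
theorem F78450 : act 7 n49665 = n27948 := d13_2 (iv7 F38197) D49665 F45166
theorem F78451 : act 6 n28005 = n49665 := d14_5 F78450 (iv6 D27948) F22941 D13364 D28005
theorem F78452 : act 1 n27994 = n49665 := d15_1 D27994 F78450 F45165
theorem F78453 : act 1 n49665 = n27993 := d15_0 (iv0 D27993) D27995 (iv2 F78449)
def n49666 : Q := act 6 n24219
theorem D49666 : act 6 n24219 = n49666 := rfl
theorem F78454 : act 2 n49666 = n31739 := d3_1 D49666 (iv6 D31739) (iv2 F38199)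
theorem F78455 : act 7 n49666 = n28766 := d14_2 (iv7 F38197) D49666 F46404 (iv7 F24462) F24592
theorem F78456 : act 5 n49666 = n28767 := d21_6 F8450 (iv1 F9969) D5280 D11381 D24219 D49666 (iv1 F46405) (iv5 D28299) (iv6 D13507) (iv1 F10469)
def n49667 : Q := act 3 n24220
theorem D49667 : act 3 n24220 = n49667 := rfl
theorem F78457 : act 5 n49667 = n27988 := d6_2 F37967 D49667 F45258
theorem F78458 : act 6 n49667 = n29797 := d7_2 (iv6 F38195) D49667 F47956
theorem F78459 : act 7 n49667 = n31737 := d8_2 F38198 D49667 (iv3 D31737)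
def n49668 : Q := act 4 n24220
theorem D49668 : act 4 n24220 = n49668 := rfl
theorem F78460 : act 2 n49668 = n31741 := d1_1 D49668 (iv4 D31741) F38196
theorem F78461 : act 6 n49668 = n49406 := d10_2 (iv6 F38195) D49668 F78135
theorem F78462 : act 7 n49668 = n31738 := d11_2 F38198 D49668 (iv4 D31738)
def n49669 : Q := act 0 n24221
theorem D49669 : act 0 n24221 = n49669 := rfl
def n49670 : Q := act 1 n24221
theorem D49670 : act 1 n24221 = n49670 := rfl
theorem F78463 : act 1 n49670 = n31745 := d15_1 D49670 (iv7 D31745) (iv2 F37965)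
def n49671 : Q := act 4 n24221
theorem D49671 : act 4 n24221 = n49671 := rfl
theorem F78464 : act 2 n49671 = n31744 := d1_1 D49671 (iv4 D31744) (iv2 F37965)
theorem F78465 : act 6 n49671 = n24224 := d10_2 (iv6 F37966) D49671 (iv4 D24224)
def n49672 : Q := act 7 n24221
theorem D49672 : act 7 n24221 = n49672 := rfl
theorem F78466 : act 2 n49672 = n31745 := d4_1 D49672 (iv7 D31745) (iv2 F37965)
theorem F78467 : act 5 n49672 = n24222 := d13_1 D49672 (iv7 D24222) D24221
theorem F78468 : act 1 n31745 = n49669 := d15_0 (iv0 D49669) D49672 F78466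
theorem F78469 : act 1 n31743 = n49672 := d15_1 D31743 (iv7 D49672) F37965
theorem F78470 : act 1 n49672 = n31742 := d15_0 (iv0 D31742) D31745 (iv2 F78466)
def n49673 : Q := act 3 n24224
theorem D49673 : act 3 n24224 = n49673 := rfl
def n49674 : Q := act 5 n24224
theorem D49674 : act 5 n24224 = n49674 := rfl
theorem F78471 : act 2 n49674 = n31747 := d2_1 D49674 (iv5 D31747) (iv2 F37975)
theorem F78472 : act 4 n49674 = n25453 := d16_2 D24224 D49674 (iv5 D25453) F20019 (iv5 F18324) F18323 (iv5 F19077) F19078 (iv2 F18602)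
theorem F78473 : act 0 n49674 = n25409 := d17_2 (iv1 F37977) D49674 (iv5 D25409) (iv4 D12082) (iv5 F18528) (iv0 D11351) D11352 F18534 D23715
theorem F78474 : act 1 n49674 = n25418 := d17_6 (iv1 F18211) (iv5 F18212) F10755 D11383 D24224 D49674 (iv5 D25418) F22315 F22314
def n49675 : Q := act 0 n24225
theorem D49675 : act 0 n24225 = n49675 := rfl
def n49676 : Q := act 1 n24225
theorem D49676 : act 1 n24225 = n49676 := rfl
theorem F78475 : act 1 n49676 = n24916 := d15_1 D49676 (iv7 D24916) (iv2 F37978)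
def n49677 : Q := act 7 n24225
theorem D49677 : act 7 n24225 = n49677 := rfl
theorem F78476 : act 2 n49677 = n24916 := d4_1 D49677 (iv7 D24916) (iv2 F37978)
theorem F78477 : act 4 n49677 = n49584 := d11_1 D49677 (iv7 D49584) (iv4 F37979)
theorem F78478 : act 6 n49677 = n24912 := d14_1 D49677 (iv7 D24912) (iv6 D11823) (iv7 F18613) D24225
theorem F78479 : act 1 n24916 = n49675 := d15_0 (iv0 D49675) D49677 F78476
theorem F78480 : act 1 n24915 = n49677 := d15_1 D24915 (iv7 D49677) F37978
theorem F78481 : act 1 n49677 = n24914 := d15_0 (iv0 D24914) D24916 (iv2 F78476)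
def n49678 : Q := act 1 n24226
theorem D49678 : act 1 n24226 = n49678 := rfl
theorem F78482 : act 1 n49678 = n25539 := d15_1 D49678 (iv7 F77988) F77985
def n49679 : Q := act 5 n24226
theorem D49679 : act 5 n24226 = n49679 := rfl
theorem F78483 : act 3 n49679 = n24227 := d6_1 D49679 (iv5 D24227) D24226
def n49680 : Q := act 4 n24227
theorem D49680 : act 4 n24227 = n49680 := rfl
theorem F78484 : act 5 n49680 = n24777 := d9_2 D24227 D49680 (iv4 D24777) F19077 (iv4 F18323) F18324 (iv4 F20019) D25453 (iv4 F78472) (iv5 D49674) (iv4 D24224) (iv5 D11383) F7829 D5285 D11387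
theorem F78485 : act 7 n49680 = n31747 := d11_2 (iv7 F40288) D49680 F50049
theorem F78486 : act 0 n49680 = n25418 := d17_0 (iv5 D25418) F20001 D23945 F37374 F37354 F18209 D23739 (iv0 F37981) D49680
theorem F78487 : act 1 n49680 = n25409 := d18_6 F22702 (iv4 D11204) F7832 D11387 D24227 D49680 F40190 F40327 F40325
def n49681 : Q := act 6 n24227
theorem D49681 : act 6 n24227 = n49681 := rfl
def n49682 : Q := act 1 n24228
theorem D49682 : act 1 n24228 = n49682 := rfl
theorem F78488 : act 1 n49682 = n44067 := d15_1 D49682 F69407 F42417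
theorem F78489 : act 7 n49682 = n42283 := d15_2 (iv0 F69002) D49682 F65293
theorem F78490 : act 4 n25336 = n49682 := d20_6 (iv4 D14067) F10892 D11391 D24229 (iv1 F42434) F65044 (iv1 D49682) (iv4 F65509) F65508 (iv1 F23490)
theorem F78491 : act 6 n25336 = n49682 := d14_5 F78489 (iv6 D42283) F31795 D42118 (iv7 F65041)
def n49683 : Q := act 0 n24230
theorem D49683 : act 0 n24230 = n49683 := rfl
theorem F78492 : act 4 n49683 = n24298 := d20_2 (iv4 F37986) D49683 (iv3 F38237) (iv1 F38240) D24392 F55485 (iv1 D35005) F27861 (iv3 F27860) F47451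
theorem F78493 : act 2 n24234 = n49683 := d15_3 (iv0 D49683) (iv0 D24230) D24234
theorem F78494 : act 1 n24231 = n49683 := d15_0 (iv0 D49683) (iv7 F46644) (iv2 F47450)
theorem F78495 : act 7 n49683 = n24232 := d15_2 D24231 F78494 (iv2 D24232)
theorem F78496 : act 6 n28359 = n49683 := d14_5 F78495 F37988 (iv7 F27731) D34889 (iv7 F55191)
def n49684 : Q := act 2 n24230
theorem D49684 : act 2 n24230 = n49684 := rfl
theorem F78497 : act 4 n49684 = n26712 := d1_2 (iv4 F37986) D49684 F42820
theorem F78498 : act 6 n49684 = n31574 := d3_2 F51406 D49684 (iv2 F51404)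
theorem F78499 : act 7 n49684 = n24231 := d4_2 F46644 D49684 F47450
theorem F78500 : act 1 n49684 = n24232 := d15_0 F46646 F46644 D49684
theorem F78501 : act 1 n24234 = n49684 := d15_0 F78500 (iv7 F78495) (iv2 F78493)
def n49685 : Q := act 5 n24230
theorem D49685 : act 5 n24230 = n49685 := rfl
theorem F78502 : act 3 n49685 = n29125 := d6_1 D49685 F46787 (iv3 F37985)
def n49686 : Q := act 3 n24231
theorem D49686 : act 3 n24231 = n49686 := rfl
theorem F78503 : act 2 n49686 = n29608 := d0_1 D49686 (iv3 D29608) (iv2 F23484) D29010 (iv2 F47450)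
def n49687 : Q := act 5 n24231
theorem D49687 : act 5 n24231 = n49687 := rfl
def n49688 : Q := act 6 n24231
theorem D49688 : act 6 n24231 = n49688 := rfl
def n49689 : Q := act 5 n24232
theorem D49689 : act 5 n24232 = n49689 := rfl
theorem F78504 : act 2 n49689 = n24233 := d2_1 D49689 (iv5 D24233) D24232
theorem F78505 : act 0 n49689 = n33033 := d17_2 (iv1 F46646) D49689 (iv5 D33033) F25394 D15934 D33048 (iv5 F52260) F50492 (iv4 F46643)
theorem F78506 : act 0 n33074 = n49689 := d21_1 (iv5 F52300) (iv5 D49689) F37988 F27728 F31851 F31848 D20918 F50227 F50224 F47783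
def n49690 : Q := act 1 n24233
theorem D49690 : act 1 n24233 = n49690 := rfl
theorem F78507 : act 7 n49690 = n33033 := d15_2 (iv0 F43572) D49690 F52223
theorem F78508 : act 5 n49690 = n33034 := d17_7 (iv1 F47780) F46854 (iv1 D24313) (iv5 D11446) (iv4 F18633) D24233 D49690 F52227 F47786
theorem F78509 : act 2 n33074 = n49690 := d2_3 F78508 F52224 (iv5 F52300)
theorem F78510 : act 3 n43885 = n49690 := d6_3 F78508 (iv3 F65518) D43885
theorem F78511 : act 1 n49690 = n33072 := d15_0 (iv0 D33072) D33074 F78509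
theorem F78512 : act 7 n33072 = n49689 := d15_2 D49690 F78511 F78504
theorem F78513 : act 5 n33072 = n49683 := d17_7 (iv1 F50548) (iv5 F50540) (iv1 F52267) F52265 (iv4 F52225) (iv5 F78508) F78511 (iv0 D49683) F37986
def n49691 : Q := act 4 n24233
theorem D49691 : act 4 n24233 = n49691 := rfl
def n49692 : Q := act 6 n24233
theorem D49692 : act 6 n24233 = n49692 := rfl
theorem F78514 : act 3 n49692 = n24236 := d7_1 D49692 (iv6 D24236) (iv3 F37989)
theorem F78515 : act 5 n49692 = n32417 := d12_1 D49692 (iv6 D32417) (iv5 D15317) (iv6 F18634) D24233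
def n49693 : Q := act 7 n24233
theorem D49693 : act 7 n24233 = n49693 := rfl
theorem F78516 : act 2 n49693 = n33072 := d4_1 D49693 F78512 F78504
theorem F78517 : act 3 n49693 = n24237 := d8_1 D49693 (iv7 D24237) (iv3 F37989)
theorem F78518 : act 5 n49693 = n24234 := d13_1 D49693 (iv7 D24234) D24233
theorem F78519 : act 1 n33074 = n49693 := d15_1 (iv0 F78506) (iv7 D49693) (iv2 F78504)
theorem F78520 : act 1 n49693 = n33033 := d15_1 F78519 (iv7 F78507) (iv2 F78509)
def n49694 : Q := act 3 n24235
theorem D49694 : act 3 n24235 = n49694 := rfl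
theorem F78521 : act 5 n49694 = n49368 := d6_2 (iv5 F37992) D49694 F78055
theorem F78522 : act 7 n49694 = n49367 := d8_2 F37993 D49694 F78054
def n49695 : Q := act 6 n24235
theorem D49695 : act 6 n24235 = n49695 := rfl
theorem F78523 : act 4 n49695 = n24236 := d10_1 D49695 (iv6 D24236) D24235
def n49696 : Q := act 0 n24236
theorem D49696 : act 0 n24236 = n49696 := rfl
def n49697 : Q := act 1 n24236
theorem D49697 : act 1 n24236 = n49697 := rfl
theorem F78524 : act 5 n25737 = n49697 := d21_6 (iv5 D5779) (iv1 D2419) D2421 D5788 D12217 D25737 (iv1 D49697) F37994 (iv6 D17383) F12912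
def n49698 : Q := act 7 n24236
theorem D49698 : act 7 n24236 = n49698 := rfl
theorem F78525 : act 5 n49698 = n35909 := d13_1 D49698 (iv7 D35909) (iv5 F37994)
def n49699 : Q := act 6 n24237
theorem D49699 : act 6 n24237 = n49699 := rfl
theorem F78526 : act 4 n49699 = n49369 := d10_1 D49699 (iv6 D49369) (iv4 F37995)
def n49700 : Q := act 0 n24240
theorem D49700 : act 0 n24240 = n49700 := rfl
theorem F78527 : act 4 n49700 = n24463 := d18_3 F19555 D24240 D49700 (iv5 F49170) F49167 F39928 (iv4 D25284) (iv0 D12005) (iv5 F9868)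
theorem F78528 : act 1 n25251 = n49700 := d15_0 (iv0 D49700) (iv7 F38735) (iv2 F39809)
theorem F78529 : act 2 n25372 = n49700 := d1_3 F78527 F38407 D25372
theorem F78530 : act 7 n24540 = n49700 := d11_0 F78527 F38406 D24540
def n49701 : Q := act 1 n24240
theorem D49701 : act 1 n24240 = n49701 := rfl
theorem F78531 : act 1 n49701 = n25251 := d15_1 D49701 F39810 F38001
theorem F78532 : act 7 n49701 = n25372 := d15_2 (iv0 D49700) D49701 F78529
theorem F78533 : act 4 n49701 = n24539 := d18_7 (iv1 F18951) F19174 F19389 F18641 D11400 D24240 D49701 F38533 F19974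
theorem F78534 : act 2 n24540 = n49701 := d1_3 F78533 (iv2 D24539) D24540
def n49702 : Q := act 3 n24240
theorem D49702 : act 3 n24240 = n49702 := rfl
def n49703 : Q := act 5 n24240
theorem D49703 : act 5 n24240 = n49703 := rfl
def n49704 : Q := act 3 n24241
theorem D49704 : act 3 n24241 = n49704 := rfl
def n49705 : Q := act 5 n24241
theorem D49705 : act 5 n24241 = n49705 := rfl
theorem F78535 : act 2 n49705 = n49703 := d2_1 D49705 (iv5 D49703) (iv2 F38001)
def n49706 : Q := act 4 n24242
theorem D49706 : act 4 n24242 = n49706 := rfl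
theorem F78536 : act 2 n49706 = n24252 := d1_1 D49706 (iv4 D24252) (iv2 F38002)
theorem F78537 : act 7 n49706 = n24255 := d11_2 (iv7 F38004) D49706 (iv4 D24255)
def n49707 : Q := act 4 n24243
theorem D49707 : act 4 n24243 = n49707 := rfl
theorem F78538 : act 2 n49707 = n24255 := d1_1 D49707 (iv4 D24255) (iv2 F38006)
theorem F78539 : act 7 n49707 = n24252 := d11_2 (iv7 F38007) D49707 (iv4 D24252)
def n49708 : Q := act 6 n24243
theorem D49708 : act 6 n24243 = n49708 := rfl
theorem F78540 : act 2 n49708 = n24256 := d3_1 D49708 (iv6 D24256) (iv2 F38006)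
theorem F78541 : act 5 n49708 = n29370 := d12_1 D49708 (iv6 D29370) (iv5 F23894) F23895 D24243
theorem F78542 : act 0 n26030 = n49708 := d21_4 (iv5 F38816) (iv1 F38820) (iv5 F20486) D26030 (iv6 D49708) (iv5 D24243) (iv1 D11407) D11408 F18652 D13471
def n49709 : Q := act 4 n24244
theorem D49709 : act 4 n24244 = n49709 := rfl
theorem F78543 : act 2 n49709 = n24258 := d1_1 D49709 (iv4 D24258) F38010
theorem F78544 : act 7 n49709 = n24261 := d11_2 (iv7 F38011) D49709 (iv4 D24261)
theorem F78545 : act 1 n49709 = n24434 := d18_6 F39700 (iv4 F39699) (iv1 F49842) (iv4 D31511) (iv5 F38009) D49709 (iv4 D24434) D24433 (iv5 F38316)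
def n49710 : Q := act 6 n24244
theorem D49710 : act 6 n24244 = n49710 := rfl
theorem F78546 : act 2 n49710 = n24259 := d3_1 D49710 (iv6 D24259) F38010
theorem F78547 : act 5 n49710 = n24758 := d12_1 D49710 (iv6 D24758) (iv5 F20281) F24497 (iv5 F38009)
def n49711 : Q := act 1 n24245
theorem D49711 : act 1 n24245 = n49711 := rfl
theorem F78548 : act 1 n49711 = n24267 := d15_1 D49711 (iv7 D24267) (iv2 F38013)
theorem F78549 : act 7 n49711 = n24263 := d15_2 F48619 D49711 (iv2 F48616)
theorem F78550 : act 4 n49711 = n24581 := d18_7 (iv1 F19515) F10876 F10344 (iv4 F7918) D11408 D24245 D49711 F38590 F38323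
theorem F78551 : act 2 n24264 = n49711 := d1_3 F78550 F38588 F38319
def n49712 : Q := act 3 n24245
theorem D49712 : act 3 n24245 = n49712 := rfl
theorem F78552 : act 6 n49712 = n28219 := d7_2 (iv6 F38014) D49712 (iv3 D28219)
def n49713 : Q := act 5 n24245
theorem D49713 : act 5 n24245 = n49713 := rfl
theorem F78553 : act 2 n49713 = n24266 := d2_1 D49713 (iv5 D24266) (iv2 F38013)
def n49714 : Q := act 7 n24245
theorem D49714 : act 7 n24245 = n49714 := rfl
theorem F78554 : act 2 n49714 = n24267 := d4_1 D49714 (iv7 D24267) (iv2 F38013)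
theorem F78555 : act 4 n49714 = n24246 := d11_1 D49714 (iv7 D24246) D24245
theorem F78556 : act 1 n24264 = n49714 := d15_1 D24264 (iv7 D49714) F38013
theorem F78557 : act 1 n49714 = n24263 := d15_1 F78556 (iv7 F78549) (iv2 F78551)
def n49715 : Q := act 6 n24246
theorem D49715 : act 6 n24246 = n49715 := rfl
theorem F78558 : act 2 n49715 = n24268 := d3_1 D49715 (iv6 D24268) (iv2 F38015)
theorem F78559 : act 5 n49715 = n49715 := d12_1 D49715 (iv6 D49715) F38016 F18655 (iv5 F38016)
theorem F78560 : act 7 n49715 = n28222 := d14_2 D24246 D49715 (iv6 D28222) (iv7 D13474) (iv6 F18652)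
theorem F78561 : act 1 n28296 = n49715 := d15_1 D28296 F78560 F45673
theorem F78562 : act 1 n49715 = n28295 := d15_0 (iv0 D28295) (iv7 F38037) (iv2 F78558)
def n49716 : Q := act 1 n24247
theorem D49716 : act 1 n24247 = n49716 := rfl
theorem F78563 : act 1 n49716 = n29814 := d15_1 D49716 F47981 F38146
theorem F78564 : act 5 n30290 = n49716 := d21_0 (iv1 D49716) (iv5 D24247) D24248 F38023 (iv6 D12105) D12104 D25464 F40260 (iv6 F45715) F48716
theorem F78565 : act 2 n49716 = n49649 := d2_1 F78564 (iv5 D49649) (iv2 F48713)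
theorem F78566 : act 4 n49716 = n34051 := d18_5 D14293 (iv4 F23988) (iv1 F24014) D30290 F78564 F53430 (iv4 D16502) (iv0 F23872) (iv5 D14294)
def n49717 : Q := act 4 n24247
theorem D49717 : act 4 n24247 = n49717 := rfl
theorem F78567 : act 0 n49717 = n29085 := d18_2 (iv1 D49716) D49717 (iv4 D29085) (iv5 D13846) (iv4 F10796) (iv0 F37102) (iv4 F37101) (iv0 F48715) F78564
def n49718 : Q := act 6 n24247
theorem D49718 : act 6 n24247 = n49718 := rfl
theorem F78568 : act 3 n49718 = n24253 := d7_1 D49718 (iv6 D24253) (iv3 F38019)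
theorem F78569 : act 5 n49718 = n30465 := d12_1 D49718 (iv6 D30465) (iv5 F38022) (iv6 D24248) D24247
def n49719 : Q := act 1 n24248
theorem D49719 : act 1 n24248 = n49719 := rfl
theorem F78570 : act 1 n49719 = n24819 := d15_1 D49719 F38842 F38147
theorem F78571 : act 7 n49719 = n24985 := d15_2 (iv0 F38023) D49719 F39203
theorem F78572 : act 4 n49719 = n24989 := d17_9 (iv1 F39213) F37471 (iv1 D23986) (iv5 D11242) (iv4 F8402) D11768 F37124 (iv5 F38022) D49719
theorem F78573 : act 5 n49719 = n30307 := d18_9 (iv1 F48741) D48787 F76835 (iv4 D24630) (iv5 D11663) (iv4 F10113) D11758 (iv4 F38021) D49719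
theorem F78574 : act 3 n30827 = n49719 := d20_3 (iv4 F11493) (iv1 F24265) (iv4 F49257) (iv1 D49719) F38020 (iv4 F38024) F38472 F38471 F18900 (iv1 F20387)
theorem F78575 : act 2 n49719 = n24742 := d0_1 F78574 (iv3 D24742) F19034 (iv3 F24280) (iv2 F49256)
def n49720 : Q := act 4 n24249
theorem D49720 : act 4 n24249 = n49720 := rfl
theorem F78576 : act 0 n49720 = n29021 := d18_2 (iv1 F46383) D49720 (iv4 D29021) F23070 (iv4 F23011) (iv0 F24501) (iv4 F37103) D48791 F76851
theorem F78577 : act 1 n49720 = n29023 := d18_6 (iv1 D5799) F3822 D5304 D11412 D24249 D49720 (iv4 D29023) F23072 (iv5 D12238)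
def n49721 : Q := act 6 n24249
theorem D49721 : act 6 n24249 = n49721 := rfl
def n49722 : Q := act 1 n24250
theorem D49722 : act 1 n24250 = n49722 := rfl
theorem F78578 : act 1 n49722 = n31408 := d15_1 D49722 F49679 F39882
theorem F78579 : act 7 n49722 = n24874 := d15_2 (iv0 F38472) D49722 F38998
theorem F78580 : act 4 n49722 = n28089 := d17_9 (iv1 F45380) (iv5 F37889) (iv1 F37892) (iv5 D14148) (iv4 F18717) D24323 F45266 F45265 D49722
theorem F78581 : act 5 n49722 = n27976 := d18_9 (iv1 F45235) D48789 F76844 (iv4 D24583) (iv5 F20284) F20283 F37081 (iv4 F38024) D49722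
theorem F78582 : act 3 n24879 = n49722 := d20_3 (iv4 F49179) F49181 F47958 (iv1 D49722) (iv3 F38284) F38285 (iv1 F24283) F24255 (iv3 F19311) F24218
theorem F78583 : act 6 n28757 = n49722 := d21_3 D13318 D27927 (iv5 F46392) (iv1 D49722) (iv6 D24250) D24249 (iv1 F46384) F46385 F39698 (iv1 D13317)
theorem F78584 : act 2 n49722 = n25235 := d3_1 F78583 (iv6 F45687) F46389
def n49723 : Q := act 4 n24251
theorem D49723 : act 4 n24251 = n49723 := rfl
theorem F78585 : act 2 n49723 = n28867 := d1_1 D49723 (iv4 D28867) F38026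
theorem F78586 : act 1 n49723 = n28992 := d18_6 (iv1 F38587) F18970 D11632 (iv4 F23011) (iv5 F38025) D49723 (iv4 D28992) D28991 F46616
def n49724 : Q := act 6 n24251
theorem D49724 : act 6 n24251 = n49724 := rfl
theorem F78587 : act 2 n49724 = n28863 := d3_1 D49724 F46499 F38026
theorem F78588 : act 5 n49724 = n28851 := d12_1 D49724 (iv6 D28851) (iv5 D13751) D13752 (iv5 F38025)
def n49725 : Q := act 0 n24252
theorem D49725 : act 0 n24252 = n49725 := rfl
theorem F78589 : act 4 n49725 = n29587 := d18_3 F37082 D24252 D49725 F47484 (iv4 F39699) (iv0 F39701) F37103 F24502 D14845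
theorem F78590 : act 1 n24255 = n49725 := d15_0 (iv0 D49725) (iv7 F78539) F78538
def n49726 : Q := act 1 n24252
theorem D49726 : act 1 n24252 = n49726 := rfl
theorem F78591 : act 1 n49726 = n24255 := d15_1 D49726 (iv7 F78537) F78536
theorem F78592 : act 4 n49726 = n29586 := d18_7 F19512 (iv4 F19143) F19941 (iv4 D11412) D11413 D24252 D49726 (iv0 D29586) (iv5 D14053)
def n49727 : Q := act 3 n24252
theorem D49727 : act 3 n24252 = n49727 := rfl
def n49728 : Q := act 5 n24252
theorem D49728 : act 5 n24252 = n49728 := rfl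
def n49729 : Q := act 6 n24252
theorem D49729 : act 6 n24252 = n49729 := rfl
theorem F78593 : act 4 n49729 = n24253 := d10_1 D49729 (iv6 D24253) D24252
def n49730 : Q := act 0 n24253
theorem D49730 : act 0 n24253 = n49730 := rfl
def n49731 : Q := act 1 n24253
theorem D49731 : act 1 n24253 = n49731 := rfl
def n49732 : Q := act 7 n24253
theorem D49732 : act 7 n24253 = n49732 := rfl
def n49733 : Q := act 0 n24254
theorem D49733 : act 0 n24254 = n49733 := rfl
theorem F78594 : act 4 n49733 = n34132 := d18_1 D49733 (iv1 F53581) (iv4 D24926) (iv5 D11832) (iv4 F19464) (iv0 D11776) (iv4 F19136) F19471 D24254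
theorem F78595 : act 2 n29797 = n49733 := d15_3 (iv0 D49733) (iv0 F49667) F49666
theorem F78596 : act 1 n29780 = n49733 := d15_0 (iv0 D49733) F38030 (iv2 F47905)
theorem F78597 : act 7 n49733 = n29796 := d15_2 F49668 F78596 (iv2 F49664)
def n49734 : Q := act 4 n24254
theorem D49734 : act 4 n24254 = n49734 := rfl
theorem F78598 : act 2 n49734 = n29815 := d1_1 D49734 (iv4 D29815) (iv2 F38028)
theorem F78599 : act 7 n49734 = n29798 := d11_2 (iv7 F38030) D49734 (iv4 D29798)
theorem F78600 : act 0 n49734 = n30518 := d18_2 F49667 D49734 (iv4 D30518) (iv5 F24123) (iv4 F38349) F38352 (iv4 F38442) (iv0 F38443) D31404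
theorem F78601 : act 1 n49734 = n30516 := d18_6 F10310 F8462 (iv1 F10981) (iv4 F18662) D24254 D49734 (iv4 D30516) (iv0 D14480) (iv5 D6916)
def n49735 : Q := act 6 n24254
theorem D49735 : act 6 n24254 = n49735 := rfl
theorem F78602 : act 2 n49735 = n29816 := d3_1 D49735 (iv6 D29816) (iv2 F38028)
theorem F78603 : act 3 n49735 = n24256 := d7_1 D49735 (iv6 D24256) (iv3 F38029)
theorem F78604 : act 0 n31715 = n49735 := d21_4 (iv5 F49249) (iv1 F49255) (iv5 F24574) D31715 (iv6 D49735) (iv5 D24254) (iv1 F19471) D24844 F38896 D24860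
def n49736 : Q := act 3 n24255
theorem D49736 : act 3 n24255 = n49736 := rfl
def n49737 : Q := act 5 n24255
theorem D49737 : act 5 n24255 = n49737 := rfl
def n49738 : Q := act 6 n24255
theorem D49738 : act 6 n24255 = n49738 := rfl
theorem F78605 : act 4 n49738 = n24256 := d10_1 D49738 (iv6 D24256) D24255
def n49739 : Q := act 1 n24256
theorem D49739 : act 1 n24256 = n49739 := rfl
theorem F78606 : act 6 n26028 = n49739 := d21_3 F22614 (iv1 F38824) (iv5 F41140) (iv1 D49739) (iv6 D24256) (iv5 D11417) (iv1 D5305) D5306 F7920 D6420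
theorem F78607 : act 5 n28188 = n49739 := d21_6 (iv5 D6547) F19482 D11141 F18083 D13456 D28188 (iv1 D49739) (iv5 F46495) (iv6 D28856) (iv1 D13754)
theorem F78608 : act 2 n49739 = n26030 := d2_1 F78607 F41148 (iv2 F45593)
theorem F78609 : act 3 n49739 = n31430 := d6_1 F78607 F49721 F47177
def n49740 : Q := act 7 n24256
theorem D49740 : act 7 n24256 = n49740 := rfl
theorem F78610 : act 1 n26030 = n49740 := d15_1 (iv0 F78542) (iv7 D49740) (iv2 F78540)
def n49741 : Q := act 6 n24257
theorem D49741 : act 6 n24257 = n49741 := rfl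
theorem F78611 : act 3 n49741 = n24259 := d7_1 D49741 (iv6 D24259) D24257
def n49742 : Q := act 0 n24258
theorem D49742 : act 0 n24258 = n49742 := rfl
theorem F78612 : act 4 n49742 = n24435 := d18_3 D11419 D24258 D49742 F38323 (iv4 F22388) (iv0 F22391) (iv4 D11412) (iv0 D5304) D5306
theorem F78613 : act 1 n24261 = n49742 := d15_0 (iv0 D49742) (iv7 F76869) F76868
theorem F78614 : act 7 n49742 = n24434 := d15_2 F40089 F78613 (iv2 F40087)
def n49743 : Q := act 3 n24258
theorem D49743 : act 3 n24258 = n49743 := rfl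
def n49744 : Q := act 5 n24258
theorem D49744 : act 5 n24258 = n49744 := rfl
def n49745 : Q := act 6 n24258
theorem D49745 : act 6 n24258 = n49745 := rfl
theorem F78615 : act 4 n49745 = n24259 := d10_1 D49745 (iv6 D24259) D24258
def n49746 : Q := act 0 n24259
theorem D49746 : act 0 n24259 = n49746 := rfl
def n49747 : Q := act 1 n24259
theorem D49747 : act 1 n24259 = n49747 := rfl
def n49748 : Q := act 7 n24259
theorem D49748 : act 7 n24259 = n49748 := rfl
def n49749 : Q := act 6 n24260
theorem D49749 : act 6 n24260 = n49749 := rfl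
theorem F78616 : act 3 n49749 = n24262 := d7_1 D49749 (iv6 D24262) D24260
theorem F78617 : act 5 n49749 = n24483 := d12_1 D49749 (iv6 D24483) (iv5 D11577) D11578 (iv5 F38031)
def n49750 : Q := act 3 n24261
theorem D49750 : act 3 n24261 = n49750 := rfl
def n49751 : Q := act 5 n24261
theorem D49751 : act 5 n24261 = n49751 := rfl
def n49752 : Q := act 6 n24261
theorem D49752 : act 6 n24261 = n49752 := rfl
theorem F78618 : act 4 n49752 = n24262 := d10_1 D49752 (iv6 D24262) D24261
def n49753 : Q := act 0 n24262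
theorem D49753 : act 0 n24262 = n49753 := rfl
def n49754 : Q := act 1 n24262
theorem D49754 : act 1 n24262 = n49754 := rfl
def n49755 : Q := act 7 n24262
theorem D49755 : act 7 n24262 = n49755 := rfl
def n49756 : Q := act 3 n24263
theorem D49756 : act 3 n24263 = n49756 := rfl
def n49757 : Q := act 5 n24263
theorem D49757 : act 5 n24263 = n49757 := rfl
def n49758 : Q := act 6 n24263
theorem D49758 : act 6 n24263 = n49758 := rfl
def n49759 : Q := act 3 n24264
theorem D49759 : act 3 n24264 = n49759 := rfl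
def n49760 : Q := act 5 n24264
theorem D49760 : act 5 n24264 = n49760 := rfl
theorem F78619 : act 4 n49760 = n29862 := d16_2 F38319 D49760 (iv5 D29862) (iv4 D14186) (iv5 F18977) (iv4 F38596) F38597 F38593 F38588
def n49761 : Q := act 6 n24264
theorem D49761 : act 6 n24264 = n49761 := rfl
def n49762 : Q := act 0 n24265
theorem D49762 : act 0 n24265 = n49762 := rfl
def n49763 : Q := act 1 n24265
theorem D49763 : act 1 n24265 = n49763 := rfl
def n49764 : Q := act 2 n24265
theorem D49764 : act 2 n24265 = n49764 := rfl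
theorem F78620 : act 4 n49764 = n24278 := d1_2 (iv4 F38032) D49764 (iv2 D24278)
theorem F78621 : act 6 n49764 = n28286 := d3_2 (iv6 F38033) D49764 (iv2 D28286)
def n49765 : Q := act 5 n24265
theorem D49765 : act 5 n24265 = n49765 := rfl
theorem F78622 : act 3 n49765 = n24266 := d6_1 D49765 (iv5 D24266) D24265
def n49766 : Q := act 7 n24265
theorem D49766 : act 7 n24265 = n49766 := rfl
theorem F78623 : act 3 n49766 = n24267 := d8_1 D49766 (iv7 D24267) D24265
theorem F78624 : act 4 n49766 = n24280 := d11_1 D49766 (iv7 D24280) (iv4 F38032)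
def n49767 : Q := act 0 n24266
theorem D49767 : act 0 n24266 = n49767 := rfl
theorem F78625 : act 5 n49767 = n28992 := d17_3 (iv1 D24264) D24266 D49767 (iv4 D28992) (iv5 D13800) F19531 D11531 D24433 F38319
def n49768 : Q := act 1 n24266
theorem D49768 : act 1 n24266 = n49768 := rfl
def n49769 : Q := act 4 n24266
theorem D49769 : act 4 n24266 = n49769 := rfl
theorem F78626 : act 5 n49769 = n25774 := d16_3 D11421 D24266 D49769 F40718 F20253 (iv4 F18654) (iv5 F38016) (iv7 D24246) F18651
theorem F78627 : act 7 n25773 = n49769 := d13_0 F78626 (iv7 D25774) D25773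
def n49770 : Q := act 6 n24266
theorem D49770 : act 6 n24266 = n49770 := rfl
theorem F78628 : act 5 n49770 = n28292 := d12_1 D49770 (iv6 D28292) (iv5 D13504) (iv6 F18663) D24266
def n49771 : Q := act 7 n24266
theorem D49771 : act 7 n24266 = n49771 := rfl
theorem F78629 : act 4 n49771 = n25773 := d11_1 D49771 F78627 (iv4 D49769)
theorem F78630 : act 5 n49771 = n24267 := d13_1 D49771 (iv7 D24267) D24266
def n49772 : Q := act 6 n24267
theorem D49772 : act 6 n24267 = n49772 := rfl
theorem F78631 : act 4 n49772 = n24268 := d10_1 D49772 (iv6 D24268) (iv4 F38034)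
theorem F78632 : act 7 n49772 = n28294 := d14_2 D24267 D49772 (iv6 D28294) (iv7 D13505) (iv6 F18663)
def n49773 : Q := act 0 n24268
theorem D49773 : act 0 n24268 = n49773 := rfl
theorem F78633 : act 1 n28222 = n49773 := d15_0 (iv0 D49773) F38037 (iv2 F45673)
def n49774 : Q := act 1 n24268
theorem D49774 : act 1 n24268 = n49774 := rfl
theorem F78634 : act 1 n49774 = n28222 := d15_1 D49774 (iv7 F78560) F78558
def n49775 : Q := act 0 n24269
theorem D49775 : act 0 n24269 = n49775 := rfl
def n49776 : Q := act 1 n24269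
theorem D49776 : act 1 n24269 = n49776 := rfl
def n49777 : Q := act 7 n24269
theorem D49777 : act 7 n24269 = n49777 := rfl
theorem F78635 : act 3 n49777 = n24272 := d8_1 D49777 (iv7 D24272) (iv3 F38038)
theorem F78636 : act 5 n49777 = n24828 := d13_1 D49777 F39721 F39719
theorem F78637 : act 6 n49777 = n31403 := d14_1 D49777 (iv7 D31403) F24447 (iv7 F18667) D24269
def n49778 : Q := act 2 n24270
theorem D49778 : act 2 n24270 = n49778 := rfl
theorem F78638 : act 6 n49778 = n28323 := d3_2 (iv6 F38039) D49778 F45834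
theorem F78639 : act 7 n24271 = n49778 := d15_2 (iv0 D24270) D24271 (iv2 D49778)
def n49779 : Q := act 3 n24270
theorem D49779 : act 3 n24270 = n49779 := rfl
theorem F78640 : act 6 n49779 = n28324 := d7_2 (iv6 F38039) D49779 (iv3 D28324)
def n49780 : Q := act 5 n24270
theorem D49780 : act 5 n24270 = n49780 := rfl
theorem F78641 : act 0 n49780 = n28054 := d21_1 D49780 F45323 (iv6 F47224) (iv1 D28880) F23018 (iv5 D6551) (iv1 F8004) (iv5 F7923) D11424 D24270
theorem F78642 : act 0 n28042 = n49780 := d21_10 (iv5 D49780) F38216 F38213 (iv6 F24614) (iv1 F38778) (iv6 F45833) (iv5 F45830) F45831 (iv5 D28041) D28042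
def n49781 : Q := act 7 n24270
theorem D49781 : act 7 n24270 = n49781 := rfl
theorem F78643 : act 2 n49781 = n24271 := d4_1 D49781 F78639 (iv2 D49778)
def n49782 : Q := act 3 n24271
theorem D49782 : act 3 n24271 = n49782 := rfl
def n49783 : Q := act 6 n24271
theorem D49783 : act 6 n24271 = n49783 := rfl
theorem F78644 : act 5 n49783 = n24774 := d12_1 D49783 (iv6 F45517) (iv5 D28160) D28161 F45519
theorem F78645 : act 7 n49783 = n28322 := d14_2 (iv7 F78639) D49783 (iv6 D28322) D28323 (iv6 F78638)
theorem F78646 : act 0 n49783 = n28128 := d21_4 (iv5 F45323) F45521 F45519 D49783 (iv6 F46549) (iv5 D28905) (iv1 F23355) (iv5 F24486) (iv6 F39910) (iv1 F39912)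
theorem F78647 : act 0 n28132 = n49783 := d21_4 D31503 (iv1 F49805) (iv5 D28357) (iv6 F45448) (iv6 D49783) (iv5 F45519) F45520 F45307 D31427 F49716
theorem F78648 : act 2 n28322 = n48858 := d15_3 (iv0 F76973) (iv0 F78646) F78645
theorem E8155 : n31782 = n24775 := ((c2_3 (iv5 F45830) F78648 F76971 F50078)).symm
theorem F78649 : act 2 n24775 = n14950 := (sb E8155 F50078)
theorem F78650 : act 7 n24775 = n14949 := (sb E8155 (iv7 D31782))
theorem E8156 : n48856 = n13515 := (c3_4 D28322 F78648 (iv6 D48858) D48856)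
theorem E8157 : n28319 = n23822 := ((D28319).symm.trans (sb E8156 (iv2 D48856)))
theorem E8158 : n28323 = n23823 := ((D28323).symm.trans (sb E8156 (iv7 F76969)))
theorem F78651 : act 2 n23822 = n13515 := (sb E8157 (iv2 D28319))
theorem E8159 : n31095 = n25960 := ((((iv4 F53674)).symm.trans (sb E8157 (iv4 F53665)))).symm
theorem E8160 : n48859 = n13516 := ((D48859).symm.trans (sb E8157 (iv7 F45829)))
theorem E8161 : n31100 = n25961 := ((((iv4 F53667)).symm.trans (sb E8158 (iv4 F53664)))).symm
theorem E8162 : n49778 = n24372 := ((((iv6 F38209)).symm.trans (sb E8158 (iv6 F78638)))).symm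
theorem F78652 : act 7 n23823 = n13515 := (sb E8158 (iv7 D28323))
theorem F78653 : act 2 n25960 = n14701 := (sb E8159 (iv2 D31095))
theorem F78654 : act 7 n25960 = n14702 := (sb E8159 (iv7 F49480))
theorem F78655 : act 2 n13516 = n23823 := (sb E8160 F76974)
theorem F78656 : act 7 n13516 = n23822 := (sb E8160 (iv7 D48859))
theorem F78657 : act 2 n25961 = n14702 := (sb E8161 F49481)
theorem F78658 : act 7 n25961 = n14701 := (sb E8161 (iv7 D31100))
theorem F78659 : act 2 n24372 = n24270 := (sb E8162 (iv2 D49778))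
theorem F78660 : act 7 n24372 = n24271 := (sb E8162 (iv7 F78639))
theorem F78661 : act 7 n31781 = n48858 := d15_2 F45832 (iv0 F50076) (iv2 F78648)
theorem F78662 : act 2 n49783 = n31781 := d4_3 F78661 (iv2 F78648) (iv7 F78645)
theorem E8163 : n49781 = n24373 := (c14_5 F78661 (iv6 D48858) (iv7 F78656) (iv6 F38039) D49781 (iv6 F50075))
theorem F78663 : act 2 n24373 = n24271 := (sb E8163 F78643)
theorem F78664 : act 7 n24373 = n24270 := (sb E8163 (iv7 D49781))
theorem F78665 : act 7 n30578 = n34161 := d11_2 F78664 (iv4 F53662) F53652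
theorem F78666 : act 7 n49780 = n28083 := d13_2 F78664 D49780 F45367
theorem F78667 : act 2 n28083 = n28161 := d15_3 (iv0 F45521) (iv0 F78641) F78666
theorem E8164 : n28157 = n13392 := (c3_4 D28083 F78667 (iv6 D28161) D28157)
theorem E8165 : n28079 = n13437 := ((D28079).symm.trans (sb E8164 (iv2 D28157)))
theorem F78668 : act 2 n13437 = n13392 := (sb E8165 (iv2 D28079))
theorem F78669 : act 7 n13437 = n13392 := (sb E8165 (iv7 F45348))
theorem F78670 : act 7 n28080 = n28158 := d8_2 F78669 D28080 (iv3 D28158)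
theorem F78672 : act 7 n28082 = n28160 := d13_2 F78669 D28082 (iv5 D28160)
theorem E8166 : n31778 = n24774 := ((c14_2 F78672 F45517 (iv7 F50073) F45833 F78650 (iv6 F45350))).symm
theorem F78673 : act 2 n24774 = n14949 := (sb E8166 (iv2 D31778))
theorem F78674 : act 7 n24774 = n14950 := (sb E8166 (iv7 F50073))
theorem F78675 : act 2 n28160 = n28082 := d15_3 (iv0 F45351) (iv0 F45349) F78672
theorem F78676 : act 2 n28081 = n28159 := d1_3 (iv4 D28159) F78668 D28081
theorem F78677 : act 2 n34161 = n30579 := d15_3 F53659 F53661 F78665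
theorem F78678 : act 2 n30578 = n34160 := d15_3 (iv0 D34160) D34161 (iv7 F78665)
theorem F78679 : act 7 n34160 = n30579 := d4_2 (iv7 F78665) F78678 (iv2 F78677)
theorem F78680 : act 7 n48857 = n28324 := d8_2 F78656 D48857 (iv3 D28324)
theorem F78681 : act 7 n48860 = n28320 := d13_2 F78680 (iv5 F76976) (iv5 F76970)
theorem F78682 : act 7 n31780 = n30934 := d11_2 F78650 D31780 F49367
theorem F78683 : act 2 n30934 = n31784 := d15_3 F50081 (iv0 F50074) F78682
theorem F78684 : act 2 n31780 = n30933 := d15_3 (iv0 D30933) D30934 (iv7 F78682)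
theorem F78685 : act 4 n30933 = n24774 := d1_2 D31780 F78684 F78673
theorem F78686 : act 7 n30933 = n31784 := d4_2 (iv7 F78682) F78684 (iv2 F78683)
theorem F78687 : act 1 n31780 = n25061 := d15_0 (iv0 F50080) (iv7 F78686) (iv2 F78684)
def n49784 : Q := act 3 n24273
theorem D49784 : act 3 n24273 = n49784 := rfl
theorem F78688 : act 5 n49784 = n31505 := d6_2 F38050 D49784 (iv3 D31505)
theorem F78689 : act 7 n49784 = n31509 := d8_2 (iv7 F76952) D49784 (iv3 D31509)
def n49785 : Q := act 6 n24273
theorem D49785 : act 6 n24273 = n49785 := rfl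
theorem F78690 : act 2 n49785 = n31507 := d3_1 D49785 (iv6 D31507) (iv2 F76951)
theorem F78691 : act 5 n49785 = n29387 := d12_1 D49785 (iv6 F49826) (iv5 F49823) (iv6 D31507) F38050
theorem F78692 : act 7 n49785 = n28309 := d14_2 (iv7 F76952) D49785 (iv6 D28309) (iv7 F76942) (iv6 F38045)
theorem F78693 : act 0 n49785 = n28354 := d21_4 D7067 D14839 F38050 D49785 (iv6 D28354) D28353 F49804 (iv5 D31503) (iv6 D14838) (iv1 D7066)
theorem F78694 : act 0 n29453 = n49785 := d21_4 (iv5 F20551) D13376 D28037 (iv6 F47213) (iv6 D49785) (iv5 F38050) F38051 F38047 F20497 (iv1 F20549)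
def n49786 : Q := act 3 n24274
theorem D49786 : act 3 n24274 = n49786 := rfl
theorem F78695 : act 5 n49786 = n31509 := d6_2 (iv5 F38043) D49786 (iv3 D31509)
theorem F78696 : act 6 n49786 = n28302 := d7_2 F38044 D49786 (iv3 D28302)
theorem F78697 : act 7 n49786 = n31505 := d8_2 (iv7 F76944) D49786 (iv3 D31505)
def n49787 : Q := act 0 n24276
theorem D49787 : act 0 n24276 = n49787 := rfl
theorem F78698 : act 2 n24280 = n49787 := d15_3 (iv0 D49787) (iv0 D24276) D24280
theorem F78699 : act 7 n49787 = n24278 := d4_2 D24280 F78698 (iv2 D24278)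
theorem F78700 : act 1 n24277 = n49787 := d15_1 D24277 F78699 (iv2 D24278)
def n49788 : Q := act 2 n24276
theorem D49788 : act 2 n24276 = n49788 := rfl
theorem F78701 : act 7 n24277 = n49788 := d15_2 (iv0 D24276) D24277 (iv2 D49788)
def n49789 : Q := act 3 n24276
theorem D49789 : act 3 n24276 = n49789 := rfl
def n49790 : Q := act 4 n24276
theorem D49790 : act 4 n24276 = n49790 := rfl
def n49791 : Q := act 5 n24276
theorem D49791 : act 5 n24276 = n49791 := rfl
def n49793 : Q := act 7 n24276
theorem D49793 : act 7 n24276 = n49793 := rfl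
theorem F78702 : act 2 n49793 = n24277 := d4_1 D49793 F78701 (iv2 D49788)
def n49794 : Q := act 3 n24277
theorem D49794 : act 3 n24277 = n49794 := rfl
def n49795 : Q := act 4 n24277
theorem D49795 : act 4 n24277 = n49795 := rfl
def n49796 : Q := act 5 n24277
theorem D49796 : act 5 n24277 = n49796 := rfl
def n49798 : Q := act 0 n24278
theorem D49798 : act 0 n24278 = n49798 := rfl
theorem F78703 : act 1 n24280 = n49798 := d15_0 (iv0 D49798) (iv7 F78699) (iv2 F78698)
def n49799 : Q := act 1 n24278
theorem D49799 : act 1 n24278 = n49799 := rfl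
theorem F78704 : act 1 n49799 = n24280 := d15_1 D49799 (iv7 D24280) D24278
def n49800 : Q := act 5 n24278
theorem D49800 : act 5 n24278 = n49800 := rfl
theorem F78705 : act 2 n49800 = n24279 := d2_1 D49800 (iv5 D24279) D24278
def n49801 : Q := act 0 n24279
theorem D49801 : act 0 n24279 = n49801 := rfl
def n49802 : Q := act 1 n24279
theorem D49802 : act 1 n24279 = n49802 := rfl
def n49804 : Q := act 6 n24279
theorem D49804 : act 6 n24279 = n49804 := rfl
theorem F78707 : act 3 n49804 = n24281 := d7_1 D49804 (iv6 D24281) (iv3 F38053)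
theorem F78708 : act 5 n49804 = n28343 := d12_1 D49804 (iv6 D28343) (iv5 D13521) (iv6 F18670) D24279
def n49805 : Q := act 6 n24280
theorem D49805 : act 6 n24280 = n49805 := rfl
theorem F78709 : act 3 n49805 = n24282 := d7_1 D49805 (iv6 D24282) (iv3 F38054)
theorem F78710 : act 7 n49805 = n28344 := d14_2 D24280 D49805 (iv6 D28344) (iv7 D13522) (iv6 F18670)
def n49806 : Q := act 0 n24281
theorem D49806 : act 0 n24281 = n49806 := rfl
def n49807 : Q := act 1 n24281
theorem D49807 : act 1 n24281 = n49807 := rfl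
def n49808 : Q := act 7 n24281
theorem D49808 : act 7 n24281 = n49808 := rfl
theorem F78711 : act 5 n49808 = n28347 := d13_1 D49808 (iv7 D28347) (iv5 F38055)
def n49809 : Q := act 5 n24282
theorem D49809 : act 5 n24282 = n49809 := rfl
theorem F78712 : act 7 n49809 = n28350 := d13_2 (iv7 F38057) D49809 (iv5 D28350)
def n49810 : Q := act 0 n24283
theorem D49810 : act 0 n24283 = n49810 := rfl
theorem F78713 : act 3 n49810 = n42118 := d20_5 F23554 F10922 D11431 D24283 D49810 (iv4 F65295) F65297 F38876 (iv3 D24058) F23557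
theorem F78714 : act 6 n49810 = n32028 := d21_5 D34980 F55406 (iv5 D26482) (iv6 F38059) D49810 F50402 F31710 D19907 (iv6 F31854) (iv1 F27856)
theorem F78715 : act 2 n26510 = n49810 := d15_3 (iv0 D49810) (iv0 F46899) (iv7 F50606)
theorem F78716 : act 1 n26513 = n49810 := d15_0 (iv0 D49810) F38060 (iv2 F42435)
theorem F78717 : act 7 n49810 = n26511 := d15_2 (iv0 F46900) F78716 (iv2 F50607)
def n49811 : Q := act 4 n24284
theorem D49811 : act 4 n24284 = n49811 := rfl
theorem F78718 : act 2 n49811 = n26531 := d1_1 D49811 (iv4 D26531) (iv2 F38062)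
theorem F78719 : act 7 n49811 = n34338 := d11_2 (iv7 F38064) D49811 (iv4 D34338)
def n49812 : Q := act 6 n24284
theorem D49812 : act 6 n24284 = n49812 := rfl
theorem F78720 : act 2 n49812 = n26525 := d3_1 D49812 F42467 (iv2 F38062)
theorem F78721 : act 3 n49812 = n24285 := d7_1 D49812 (iv6 D24285) (iv3 F38063)
theorem F78722 : act 5 n49812 = n26484 := d12_1 D49812 (iv6 D26484) (iv5 D12644) (iv6 F26671) D24284
def n49813 : Q := act 0 n24285
theorem D49813 : act 0 n24285 = n49813 := rfl
def n49814 : Q := act 1 n24285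
theorem D49814 : act 1 n24285 = n49814 := rfl
theorem F78723 : act 1 n49814 = n34337 := d15_1 D49814 (iv7 D34337) (iv2 F38066)
def n49815 : Q := act 7 n24285
theorem D49815 : act 7 n24285 = n49815 := rfl
theorem F78724 : act 2 n49815 = n34337 := d4_1 D49815 (iv7 D34337) (iv2 F38066)
theorem F78725 : act 6 n49815 = n34342 := d14_1 D49815 (iv7 D34342) (iv6 D16628) (iv7 F18689) D24285
theorem F78726 : act 1 n34337 = n49813 := d15_0 (iv0 D49813) D49815 F78724
theorem F78727 : act 1 n34335 = n49815 := d15_1 D34335 (iv7 D49815) F38066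
theorem F78728 : act 1 n49815 = n34334 := d15_0 (iv0 D34334) D34337 (iv2 F78724)
def n49816 : Q := act 6 n24287
theorem D49816 : act 6 n24287 = n49816 := rfl
theorem F78729 : act 2 n49816 = n26169 := d3_1 D49816 (iv6 F46895) F50582
theorem F78730 : act 3 n49816 = n26170 := d7_1 D49816 F55482 F50595
theorem F78731 : act 4 n49816 = n41563 := d10_1 D49816 (iv6 F77199) F77197
theorem F78732 : act 7 n49816 = n26170 := d14_2 F50589 D49816 F55482 F50596 (iv6 F50592)
theorem F78733 : act 0 n49816 = n26172 := d21_4 D35015 (iv1 F55568) (iv5 F54409) D49816 F41519 (iv5 F50330) (iv1 F55455) F55453 (iv6 F50503) (iv1 F50505)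
theorem F78734 : act 5 n49816 = n35025 := d21_6 (iv5 F42391) (iv1 D26491) (iv5 D12650) D12651 (iv1 F38071) D49816 (iv1 F55612) F27875 (iv6 F21494) (iv1 F26661)
theorem F78735 : act 0 n26160 = n49816 := d21_4 F50467 (iv1 F41491) (iv5 D26159) D26160 (iv6 D49816) F54409 (iv1 D34291) (iv5 D16601) (iv6 F18135) D23834
theorem E8167 : n35045 = n35025 := ((c6_1 F78734 (iv3 D35045) (iv5 F55481) (iv3 F78730))).symm
theorem F78736 : act 3 n35025 = n17014 := (sb E8167 (iv3 D35045))
def n49817 : Q := act 4 n24289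
theorem D49817 : act 4 n24289 = n49817 := rfl
theorem F78737 : act 7 n49817 = n34332 := d11_2 (iv7 F38073) D49817 (iv4 D34332)
theorem F78738 : act 1 n49817 = n29741 := d18_6 (iv1 D14104) D14106 F37542 F37539 D24289 D49817 (iv4 D29741) (iv0 F54234) (iv5 D29691)
def n49818 : Q := act 6 n24289
theorem D49818 : act 6 n24289 = n49818 := rfl
theorem F78739 : act 3 n49818 = n24290 := d7_1 D49818 (iv6 D24290) (iv3 F38072)
theorem F78740 : act 5 n49818 = n33973 := d12_1 D49818 (iv6 D33973) (iv5 D16425) (iv6 F18695) D24289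
def n49819 : Q := act 0 n24290
theorem D49819 : act 0 n24290 = n49819 := rfl
def n49820 : Q := act 1 n24290
theorem D49820 : act 1 n24290 = n49820 := rfl
theorem F78741 : act 1 n49820 = n34342 := d15_1 D49820 (iv7 D34342) (iv2 F38074)
def n49821 : Q := act 7 n24290
theorem D49821 : act 7 n24290 = n49821 := rfl
theorem F78742 : act 2 n49821 = n34342 := d4_1 D49821 (iv7 D34342) (iv2 F38074)
theorem F78743 : act 5 n49821 = n33981 := d13_1 D49821 (iv7 D33981) (iv5 F38075)
theorem F78744 : act 6 n49821 = n34337 := d14_1 D49821 (iv7 D34337) (iv6 D16626) (iv7 F18697) D24290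
theorem F78745 : act 1 n34342 = n49819 := d15_0 (iv0 D49819) D49821 F78742
theorem F78746 : act 1 n34341 = n49821 := d15_1 D34341 (iv7 D49821) F38074
theorem F78747 : act 1 n49821 = n34340 := d15_0 (iv0 D34340) D34342 (iv2 F78742)
def n49822 : Q := act 4 n24291
theorem D49822 : act 4 n24291 = n49822 := rfl
theorem F78748 : act 7 n49822 = n34301 := d11_2 (iv7 F38077) D49822 (iv4 D34301)
def n49823 : Q := act 0 n24295
theorem D49823 : act 0 n24295 = n49823 := rfl
theorem F78749 : act 5 n49823 = n24382 := d21_2 D24295 D49823 F46895 F68240 F68237 (iv5 F55448) (iv1 F55450) (iv5 F50315) F43637 (iv1 F50544)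
theorem F78750 : act 2 n34291 = n49823 := d15_3 (iv0 D49823) F55569 (iv7 F54408)
theorem F78751 : act 1 n34287 = n49823 := d15_0 (iv0 D49823) F38086 (iv2 F54398)
theorem F78752 : act 7 n49823 = n34290 := d15_2 (iv0 F54400) F78751 (iv2 F54407)
theorem F78753 : act 3 n49823 = n29223 := d0_2 (iv3 F54410) F78750 (iv2 F52337) F52338 (iv2 F52243)
def n49824 : Q := act 4 n24295
theorem D49824 : act 4 n24295 = n49824 := rfl
theorem F78754 : act 7 n49824 = n34292 := d11_2 (iv7 F38086) D49824 (iv4 D34292)
theorem F78755 : act 1 n49824 = n29199 := d18_6 (iv1 D28164) (iv4 F39959) F39962 F37545 D24295 D49824 (iv4 D29199) D29198 (iv5 F54349)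
def n49825 : Q := act 6 n24295
theorem D49825 : act 6 n24295 = n49825 := rfl
theorem F78756 : act 3 n49825 = n24297 := d7_1 D49825 (iv6 D24297) (iv3 F38085)
def n49826 : Q := act 0 n24297
theorem D49826 : act 0 n24297 = n49826 := rfl
def n49827 : Q := act 1 n24297
theorem D49827 : act 1 n24297 = n49827 := rfl
theorem F78757 : act 1 n49827 = n34307 := d15_1 D49827 (iv7 D34307) (iv2 F38089)
theorem F78758 : act 6 n33928 = n49827 := d21_3 (iv5 F53089) (iv1 F53095) D33928 (iv1 D49827) (iv6 D24297) (iv5 D11441) F8096 D6042 D12775 D26723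
theorem F78759 : act 5 n33323 = n49827 := d21_6 (iv5 D7454) F11594 D3429 (iv6 F11753) D16092 D33323 (iv1 D49827) (iv5 F52155) (iv6 D32978) (iv1 F25349)
def n49828 : Q := act 7 n24297
theorem D49828 : act 7 n24297 = n49828 := rfl
theorem F78760 : act 2 n49828 = n34307 := d4_1 D49828 (iv7 D34307) (iv2 F38089)
theorem F78761 : act 6 n49828 = n34296 := d14_1 D49828 (iv7 D34296) (iv6 D16602) (iv7 F18706) D24297
theorem F78762 : act 1 n34307 = n49826 := d15_0 (iv0 D49826) D49828 F78760
theorem F78763 : act 1 n34305 = n49828 := d15_1 D34305 (iv7 D49828) F38089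
theorem F78764 : act 1 n49828 = n34304 := d15_0 (iv0 D34304) D34307 (iv2 F78760)
def n49829 : Q := act 5 n24298
theorem D49829 : act 5 n24298 = n49829 := rfl
theorem F78765 : act 2 n49829 = n24316 := d2_1 D49829 F38102 F38090
theorem F78766 : act 7 n49829 = n24311 := d13_2 (iv7 F38091) D49829 (iv5 D24311)
theorem F78767 : act 1 n49829 = n24312 := d17_6 (iv1 D15948) D15949 D33072 F78513 F78492 D49829 F52274 F54047 F26985
theorem F78768 : act 4 n49829 = n33140 := d18_5 F47451 (iv4 F37986) D49683 F78492 D49829 (iv0 D33140) (iv4 D15981) D15980 (iv5 F30295)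
theorem F78769 : act 0 n49829 = n24313 := d21_1 D49829 (iv5 F46854) (iv6 F55062) (iv1 F55065) F27652 (iv5 F37188) (iv1 F77109) (iv5 F77112) (iv6 D24303) D24298
def n49830 : Q := act 3 n24299
theorem D49830 : act 3 n24299 = n49830 := rfl
theorem F78770 : act 4 n49830 = n29610 := d5_2 F77954 D49830 (iv3 F77958) (iv4 D49310) D49309
theorem F78771 : act 6 n49830 = n31568 := d7_2 (iv6 F55539) D49830 (iv3 D31568)
theorem F78772 : act 7 n49830 = n24305 := d8_2 F38093 D49830 (iv3 D24305)
theorem F78773 : act 7 n29014 = n29610 := d11_2 F78772 (iv4 F46652) (iv4 F78770)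
theorem F78774 : act 2 n29610 = n29015 := d15_3 F46656 F46653 F78773
theorem F78775 : act 2 n29014 = n29611 := d15_3 F47550 F47549 (iv7 F78773)
theorem F78776 : act 7 n29611 = n29015 := d4_2 (iv7 F78773) F78775 (iv2 F78774)
theorem F78777 : act 0 n26293 = n49830 := d20_10 F78770 (iv1 F47549) F46654 (iv3 F23442) (iv1 F23446) D29104 F46757 (iv1 F50490) F41879 (iv3 F41871)
def n49831 : Q := act 5 n24299
theorem D49831 : act 5 n24299 = n49831 := rfl
theorem F78778 : act 2 n49831 = n24302 := d2_1 D49831 (iv5 D24302) D24299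
theorem F78779 : act 7 n49831 = n24307 := d13_2 F38093 D49831 (iv5 D24307)
theorem F78780 : act 0 n49831 = n29202 := d21_1 D49831 (iv5 D29202) (iv6 D13891) F54068 (iv6 D11187) D11186 (iv1 F43059) (iv5 D15314) (iv6 F18711) (iv1 F55538)
def n49832 : Q := act 0 n24301
theorem D49832 : act 0 n24301 = n49832 := rfl
theorem F78781 : act 4 n49832 = n29568 := d20_2 D24301 D49832 (iv3 F50498) (iv1 F50544) (iv3 D11440) (iv4 D5330) (iv1 D2185) D2186 D5332 D11443
theorem F78782 : act 6 n48884 = n49832 := d10_0 F78781 (iv6 F50554) D48884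
theorem F78783 : act 7 n34999 = n49832 := d11_0 F78781 F50495 (iv4 F55459)
theorem F78784 : act 0 n49832 = n24306 := d20_1 (iv4 F78781) (iv4 D24306) D24305 (iv1 F56577) F56574 (iv4 F56622) (iv1 F76665) (iv4 D26713) D26712 (iv1 F47447)
def n49833 : Q := act 1 n24301
theorem D49833 : act 1 n24301 = n49833 := rfl
theorem F78785 : act 1 n49833 = n24306 := d15_1 D49833 F77957 (iv2 F77955)
theorem F78786 : act 4 n27014 = n49833 := d20_0 (iv1 D49833) (iv4 D24301) D24300 F45548 (iv3 D13446) (iv4 D6393) F8083 (iv4 F10864) D14046 (iv1 F50492)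
theorem F78787 : act 2 n49833 = n34999 := d1_1 F78786 F55459 (iv2 F43647)
theorem F78788 : act 3 n49833 = n25547 := d5_1 F78786 (iv4 F41872) F41871 (iv4 F41879) (iv3 F43648)
theorem F78789 : act 6 n49833 = n25546 := d10_2 D27014 F78786 F40390
def n49834 : Q := act 3 n24301
theorem D49834 : act 3 n24301 = n49834 := rfl
theorem F78790 : act 2 n49834 = n35004 := d0_1 D49834 (iv3 F77968) (iv2 D49308) D49309 (iv2 F77955)
theorem F78791 : act 4 n49834 = n28171 := d5_2 D24301 D49834 (iv3 F55510) F55511 (iv3 D24300)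
theorem F78792 : act 0 n49834 = n35007 := d20_10 F55487 (iv1 F50544) (iv4 F37545) (iv3 D24015) F18348 D11393 F18633 D11443 D24301 D49834
theorem F78793 : act 1 n49834 = n27000 := d15_1 (iv0 F78792) (iv7 F54392) (iv2 F55486)
theorem F78794 : act 7 n49834 = n35005 := d15_2 F77973 (iv0 F78792) F77971
theorem F78795 : act 3 n29611 = n24837 := d20_5 F78791 (iv1 F45540) (iv4 F54402) F54401 (iv1 F47550) (iv4 F51527) (iv1 D32452) (iv4 F51516) F51515 (iv1 F78793)
def n49835 : Q := act 5 n24301
theorem D49835 : act 5 n24301 = n49835 := rfl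
theorem F78796 : act 0 n49835 = n33132 := d17_2 (iv1 D49833) D49835 (iv5 D33132) (iv4 D15976) D15977 F52357 F52354 (iv0 F50491) F78786
theorem F78797 : act 1 n49835 = n33123 := d17_6 (iv1 D29727) D29730 F54289 (iv5 D24302) D24301 D49835 (iv5 D33123) (iv0 F54285) F54287
def n49836 : Q := act 6 n24301
theorem D49836 : act 6 n24301 = n49836 := rfl
theorem F78798 : act 2 n49836 = n31569 := d3_1 D49836 F77956 (iv2 F77955)
theorem F78799 : act 4 n49836 = n24303 := d10_1 D49836 (iv6 D24303) D24301
theorem F78800 : act 0 n49836 = n27008 := d21_4 D33123 (iv1 F78797) (iv5 D49835) D49836 (iv6 D27008) D27007 (iv1 F52176) (iv5 D32999) D33000 F54285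
theorem F78801 : act 1 n49836 = n34986 := d15_1 (iv0 F78800) (iv7 D34986) (iv2 F43630)
theorem F78802 : act 7 n31564 = n49836 := d11_0 F78799 F55534 D31564
def n49837 : Q := act 7 n24301
theorem D49837 : act 7 n24301 = n49837 := rfl
theorem F78803 : act 2 n49837 = n24306 := d4_1 D49837 F77957 (iv2 F77955)
theorem F78804 : act 3 n49837 = n35005 := d8_1 D49837 (iv7 F78794) (iv3 D49834)
theorem F78805 : act 4 n49837 = n24304 := d11_1 D49837 (iv7 D24304) D24301
theorem F78806 : act 0 n49837 = n34999 := d20_1 (iv4 F78805) F55459 F27860 F50509 (iv3 D7719) F5515 (iv1 F3574) (iv4 F8101) (iv3 F18713) (iv1 F55506)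
theorem F78807 : act 1 n49309 = n34999 := d15_0 (iv0 F78806) (iv7 D49837) F77955
def n49838 : Q := act 0 n24302
theorem D49838 : act 0 n24302 = n49838 := rfl
theorem F78808 : act 5 n49838 = n29194 := d21_2 D24302 D49838 (iv6 D29194) (iv1 F23577) (iv6 F54238) (iv5 F43051) (iv1 D15319) (iv5 D7250) (iv6 F8100) D11443
theorem F78809 : act 2 n29202 = n49838 := d15_3 (iv0 D49838) (iv0 F54289) F47788
theorem F78810 : act 0 n49838 = n24307 := d21_7 (iv5 F25330) (iv1 F77274) (iv5 D32915) F54230 (iv1 F23573) D29194 (iv5 F78808) (iv5 D24307) D24308 F77104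
theorem F78811 : act 0 n32872 = n34829 := d21_7 (iv5 F78808) F78810 (iv5 D24307) D24308 F77104 D31682 (iv5 F52040) (iv5 D34829) (iv6 F54272) (iv1 F47753)
def n49839 : Q := act 4 n24302
theorem D49839 : act 4 n24302 = n49839 := rfl
theorem F78812 : act 0 n49839 = n33133 := d18_2 F54289 D49839 (iv4 D33133) (iv5 D15977) D15976 F52350 F52348 (iv0 F47752) D29730
theorem F78813 : act 1 n49839 = n33126 := d18_6 (iv1 F50492) F78786 (iv1 D49833) (iv4 D24301) D24302 D49839 (iv4 D33126) (iv0 F52346) F46805
def n49840 : Q := act 6 n24302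
theorem D49840 : act 6 n24302 = n49840 := rfl
def n49841 : Q := act 7 n24302
theorem D49841 : act 7 n24302 = n49841 := rfl
theorem F78814 : act 2 n49841 = n24307 := d4_1 D49841 (iv7 F78779) F78778
theorem F78815 : act 3 n49841 = n29172 := d8_1 D49841 (iv7 F55517) F54261
theorem F78816 : act 5 n49841 = n24304 := d13_1 D49841 (iv7 D24304) D24302
theorem F78817 : act 0 n29202 = n49841 := d21_7 (iv5 F52117) (iv1 F77278) F77276 F54220 (iv1 D13887) D13891 D29202 F78816 (iv6 F77107) (iv1 F55736)
def n49842 : Q := act 2 n24305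
theorem D49842 : act 2 n24305 = n49842 := rfl
theorem F78818 : act 3 n49842 = n28168 := d0_2 D24305 D49842 F55500 (iv3 F55507) F38094
theorem F78819 : act 4 n49842 = n29611 := d1_2 F46652 D49842 (iv2 F78775)
theorem F78820 : act 0 n49842 = n26293 := d20_1 (iv4 F78819) F41872 (iv3 F78788) (iv1 D49833) D49834 F78791 (iv1 F45540) (iv4 F54402) F54401 (iv1 F47550)
def n49843 : Q := act 5 n24305
theorem D49843 : act 5 n24305 = n49843 := rfl
theorem F78821 : act 3 n49843 = n24307 := d6_1 D49843 (iv5 D24307) D24305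
def n49844 : Q := act 6 n24305
theorem D49844 : act 6 n24305 = n49844 := rfl
theorem F78822 : act 3 n49844 = n24308 := d7_1 D49844 (iv6 D24308) D24305
def n49845 : Q := act 5 n24306
theorem D49845 : act 5 n24306 = n49845 := rfl
theorem F78823 : act 0 n49845 = n33123 := d17_2 F78784 D49845 (iv5 D33123) (iv4 D15971) D15972 (iv0 F52346) F46805 D29568 (iv4 F78781)
theorem F78824 : act 1 n49845 = n33132 := d17_6 (iv1 F47753) (iv5 F78808) F78810 (iv5 D24307) D24306 D49845 (iv5 D33132) F52350 F52348
def n49846 : Q := act 6 n24306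
theorem D49846 : act 6 n24306 = n49846 := rfl
theorem F78825 : act 4 n49846 = n24308 := d10_1 D49846 (iv6 D24308) D24306
theorem F78826 : act 0 n35036 = n49846 := d20_10 F78825 F77104 D31681 F49958 F46048 (iv3 F77412) (iv4 F77713) (iv1 D46829) (iv4 F67740) F67739
def n49847 : Q := act 4 n24307
theorem D49847 : act 4 n24307 = n49847 := rfl
theorem F78827 : act 0 n49847 = n33126 := d18_2 F78810 D49847 (iv4 D33126) (iv5 D15972) D15971 (iv0 F54285) F54287 (iv0 F47777) (iv5 F78808)
theorem F78828 : act 1 n49847 = n33133 := d18_6 (iv1 F47447) (iv4 F78781) F78784 (iv4 D24306) D24307 D49847 (iv4 D33133) F52357 F52354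
def n49848 : Q := act 6 n24307
theorem D49848 : act 6 n24307 = n49848 := rfl
def n49849 : Q := act 5 n24308
theorem D49849 : act 5 n24308 = n49849 := rfl
theorem F78829 : act 2 n49849 = n32918 := d2_1 D49849 F77108 (iv2 F77102)
theorem F78830 : act 7 n49849 = n32919 := d13_2 F77100 D49849 (iv5 F77101)
theorem F78831 : act 0 n49849 = n26358 := d21_1 D49849 (iv5 D26358) (iv6 F41301) F45944 D28428 (iv5 F55718) (iv1 F55717) (iv5 D35079) D35080 (iv1 F77105)
theorem F78832 : act 0 n32916 = n49849 := d21_1 D32916 (iv5 D49849) (iv6 D24308) (iv1 D11444) F8100 D7250 D15318 F43048 D16876 F50828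
def n49850 : Q := act 0 n24311
theorem D49850 : act 0 n24311 = n49850 := rfl
theorem F78833 : act 5 n49850 = n29727 := d21_2 D24311 D49850 F54283 F40581 F26439 D15852 D32918 F77108 F77107 F55505
theorem F78834 : act 1 n24316 = n49850 := d15_0 (iv0 D49850) (iv7 F78766) F78765
theorem F78835 : act 2 n24312 = n49850 := d2_3 F78833 (iv2 F54274) (iv5 F52274)
theorem F78836 : act 7 n24313 = n49850 := d13_0 F78833 F54284 F46854
def n49851 : Q := act 1 n24311
theorem D49851 : act 1 n24311 = n49851 := rfl
theorem F78837 : act 1 n49851 = n24316 := d15_1 D49851 (iv7 D24316) (iv2 F38097)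
theorem F78838 : act 7 n49851 = n24312 := d15_2 (iv0 D49850) D49851 F78835
theorem F78839 : act 5 n49851 = n29713 := d17_7 F47783 (iv5 F52300) F78506 (iv5 D49689) F37987 D24311 D49851 (iv0 F47752) D29729
theorem F78840 : act 2 n24313 = n49851 := d2_3 F78839 F54273 F46854
theorem F78841 : act 3 n29714 = n49851 := d6_3 F78839 (iv3 D29713) D29714
def n49852 : Q := act 4 n24311
theorem D49852 : act 4 n24311 = n49852 := rfl
theorem F78842 : act 2 n49852 = n24314 := d1_1 D49852 (iv4 D24314) (iv2 F38097)
theorem F78843 : act 7 n49852 = n33140 := d11_2 F78766 D49852 (iv4 F78768)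
theorem F78844 : act 0 n49852 = n33049 := d18_2 (iv1 D49851) D49852 (iv4 D33049) (iv5 D15934) (iv4 F25394) D33032 (iv4 F52219) F47753 (iv5 F78839)
theorem F78845 : act 1 n49852 = n33143 := d18_6 (iv1 D29568) (iv4 F46643) (iv1 F46646) F37987 D24311 D49852 F52371 F52262 F52255
def n49853 : Q := act 6 n24311
theorem D49853 : act 6 n24311 = n49853 := rfl
theorem F78846 : act 2 n49853 = n24315 := d3_1 D49853 (iv6 D24315) (iv2 F38097)
theorem F78847 : act 5 n49853 = n32413 := d12_1 D49853 (iv6 D32413) (iv5 D15314) (iv6 F18711) D24311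
def n49854 : Q := act 4 n24312
theorem D49854 : act 4 n24312 = n49854 := rfl
def n49855 : Q := act 6 n24312
theorem D49855 : act 6 n24312 = n49855 := rfl
def n49856 : Q := act 3 n24313
theorem D49856 : act 3 n24313 = n49856 := rfl
def n49857 : Q := act 4 n24313
theorem D49857 : act 4 n24313 = n49857 := rfl
def n49858 : Q := act 6 n24313
theorem D49858 : act 6 n24313 = n49858 := rfl
def n49859 : Q := act 1 n24314
theorem D49859 : act 1 n24314 = n49859 := rfl
theorem F78848 : act 1 n49859 = n33140 := d15_1 D49859 (iv7 F78843) F78842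
theorem F78849 : act 7 n49859 = n33049 := d15_2 (iv0 F38098) D49859 F52263
theorem F78850 : act 4 n49859 = n33050 := d18_7 F50547 F47449 (iv1 D24231) F18633 D11446 D24314 D49859 F52267 F50540
theorem F78851 : act 2 n33143 = n49859 := d1_3 F78850 F52264 (iv4 F52371)
def n49860 : Q := act 3 n24314
theorem D49860 : act 3 n24314 = n49860 := rfl
theorem F78852 : act 4 n49860 = n24317 := d5_2 D24314 D49860 (iv3 D24317) (iv4 D11448) (iv3 F18712)
def n49861 : Q := act 5 n24314
theorem D49861 : act 5 n24314 = n49861 := rfl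
def n49862 : Q := act 6 n24314
theorem D49862 : act 6 n24314 = n49862 := rfl
theorem F78853 : act 4 n49862 = n24315 := d10_1 D49862 (iv6 D24315) D24314
def n49863 : Q := act 7 n24314
theorem D49863 : act 7 n24314 = n49863 := rfl
theorem F78854 : act 2 n49863 = n33140 := d4_1 D49863 (iv7 F78843) F78842
theorem F78855 : act 4 n49863 = n24316 := d11_1 D49863 (iv7 D24316) D24314
theorem F78856 : act 1 n33143 = n49863 := d15_1 F78845 (iv7 D49863) (iv2 F78842)
theorem F78857 : act 1 n49863 = n33049 := d15_1 F78856 (iv7 F78849) (iv2 F78851)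
def n49864 : Q := act 0 n24315
theorem D49864 : act 0 n24315 = n49864 := rfl
def n49865 : Q := act 1 n24315
theorem D49865 : act 1 n24315 = n49865 := rfl
def n49866 : Q := act 7 n24315
theorem D49866 : act 7 n24315 = n49866 := rfl
theorem F78858 : act 3 n49866 = n24321 := d8_1 D49866 (iv7 D24321) (iv3 F38099)
theorem F78859 : act 5 n49866 = n32428 := d13_1 D49866 (iv7 D32428) (iv5 F38100)
def n49867 : Q := act 6 n24316
theorem D49867 : act 6 n24316 = n49867 := rfl
theorem F78860 : act 3 n49867 = n24322 := d7_1 D49867 (iv6 D24322) (iv3 F38101)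
def n49868 : Q := act 0 n24317
theorem D49868 : act 0 n24317 = n49868 := rfl
def n49869 : Q := act 1 n24317
theorem D49869 : act 1 n24317 = n49869 := rfl
def n49870 : Q := act 2 n24317
theorem D49870 : act 2 n24317 = n49870 := rfl
def n49871 : Q := act 6 n24317
theorem D49871 : act 6 n24317 = n49871 := rfl
theorem F78861 : act 3 n49871 = n24318 := d7_1 D49871 (iv6 D24318) D24317
def n49872 : Q := act 0 n24318
theorem D49872 : act 0 n24318 = n49872 := rfl
theorem F78862 : act 4 n49872 = n26723 := d18_3 (iv1 D24320) (iv4 F38103) D49872 (iv5 F53089) (iv4 F53082) (iv0 D17307) (iv4 F28246) F46232 F38104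
theorem F78863 : act 2 n34352 = n49872 := d15_3 (iv0 D49872) (iv0 F53283) (iv7 F54509)
theorem F78864 : act 7 n49872 = n34355 := d4_2 (iv7 F54509) F78863 F54513
def n49873 : Q := act 5 n24318
theorem D49873 : act 5 n24318 = n49873 := rfl
def n49874 : Q := act 7 n24318
theorem D49874 : act 7 n24318 = n49874 := rfl
theorem F78865 : act 4 n49874 = n24321 := d11_1 D49874 (iv7 D24321) (iv4 F38103)
theorem F78866 : act 1 n34355 = n49874 := d15_1 (iv0 F54514) (iv7 D49874) (iv2 F38264)
theorem F78867 : act 1 n49874 = n34352 := d15_1 F78866 F54509 (iv2 F54513)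
def n49875 : Q := act 3 n24319
theorem D49875 : act 3 n24319 = n49875 := rfl
def n49876 : Q := act 6 n24319
theorem D49876 : act 6 n24319 = n49876 := rfl
theorem F78868 : act 5 n49876 = n29724 := d12_1 D49876 (iv6 F51964) F51963 (iv6 F56389) F56387
def n49877 : Q := act 3 n24320
theorem D49877 : act 3 n24320 = n49877 := rfl
theorem F78869 : act 5 n49877 = n28677 := d6_2 F38104 D49877 F46223
def n49878 : Q := act 6 n24320
theorem D49878 : act 6 n24320 = n49878 := rfl
theorem F78870 : act 5 n49878 = n28681 := d12_1 D49878 (iv6 D28681) (iv5 D13668) D13669 F38104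
def n49879 : Q := act 6 n24321
theorem D49879 : act 6 n24321 = n49879 := rfl
theorem F78871 : act 7 n49879 = n24322 := d14_2 D24321 D49879 (iv6 D24322) (iv7 D11450) D11449
def n49880 : Q := act 0 n24322
theorem D49880 : act 0 n24322 = n49880 := rfl
def n49881 : Q := act 1 n24322
theorem D49881 : act 1 n24322 = n49881 := rfl
def n49882 : Q := act 0 n24325
theorem D49882 : act 0 n24325 = n49882 := rfl
theorem F78872 : act 4 n49882 = n24959 := d18_3 F19487 D24325 D49882 F39279 D30355 (iv0 F48794) F38491 (iv0 D11764) (iv5 F10409)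
theorem F78873 : act 2 n48649 = n49882 := d15_3 (iv0 D49882) (iv0 F40197) (iv7 F76524)
theorem F78874 : act 1 n24799 = n49882 := d15_0 (iv0 D49882) (iv7 F39649) F39648
theorem F78875 : act 7 n49882 = n25007 := d15_2 F40198 F78874 (iv2 F40196)
def n49883 : Q := act 3 n24325
theorem D49883 : act 3 n24325 = n49883 := rfl
theorem F78876 : act 6 n49883 = n49702 := d7_2 (iv6 F38111) D49883 (iv3 D49702)
theorem F78877 : act 0 n49883 = n32185 := d19_4 F19326 D11455 D24325 D49883 (iv5 D32185) F24809 (iv3 D7213) (iv1 F11282) F11283 (iv4 D3269) (iv3 F5048) D7108 (iv5 F18571) F18572 (iv3 D5462) (iv1 F3615) (iv5 D1096) D1095 D2269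
def n49884 : Q := act 5 n24325
theorem D49884 : act 5 n24325 = n49884 := rfl
def n49885 : Q := act 3 n24326
theorem D49885 : act 3 n24326 = n49885 := rfl
theorem F78878 : act 6 n49885 = n49704 := d7_2 (iv6 F38113) D49885 (iv3 D49704)
def n49886 : Q := act 5 n24326
theorem D49886 : act 5 n24326 = n49886 := rfl
theorem F78879 : act 2 n49886 = n49884 := d2_1 D49886 (iv5 D49884) (iv2 F38112)
def n49887 : Q := act 1 n24327
theorem D49887 : act 1 n24327 = n49887 := rfl
theorem F78880 : act 1 n49887 = n24328 := d15_1 D49887 F38119 (iv2 F38114)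
theorem F78881 : act 7 n49887 = n24337 := d15_2 (iv0 F38117) D49887 (iv2 F38152)
theorem F78882 : act 5 n49887 = n25237 := d17_7 F48716 F78564 (iv1 D49716) (iv5 D24247) F18741 D24327 D49887 (iv0 F39770) (iv4 F45713)
theorem F78883 : act 2 n24338 = n49887 := d2_3 F78882 F39765 F38156
theorem F78884 : act 3 n31512 = n49887 := d6_3 F78882 F39766 D31512
theorem F78885 : act 6 n48809 = n49887 := d12_0 F78882 (iv6 D25237) (iv5 F22241) D28026 F76879
def n49888 : Q := act 4 n24327
theorem D49888 : act 4 n24327 = n49888 := rfl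
theorem F78886 : act 2 n49888 = n24339 := d1_1 D49888 (iv4 D24339) (iv2 F38114)
theorem F78887 : act 7 n49888 = n24345 := d11_2 (iv7 F38116) D49888 (iv4 D24345)
def n49889 : Q := act 4 n24328
theorem D49889 : act 4 n24328 = n49889 := rfl
theorem F78888 : act 2 n49889 = n24345 := d1_1 D49889 (iv4 D24345) (iv2 F38118)
theorem F78889 : act 7 n49889 = n24339 := d11_2 (iv7 F38119) D49889 (iv4 D24339)
def n49890 : Q := act 4 n24329
theorem D49890 : act 4 n24329 = n49890 := rfl
theorem F78890 : act 2 n49890 = n24348 := d1_1 D49890 (iv4 D24348) F38121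
theorem F78891 : act 7 n49890 = n24351 := d11_2 (iv7 F38122) D49890 (iv4 D24351)
theorem F78892 : act 1 n49890 = n24938 := d18_6 (iv1 F23984) (iv4 F45603) F46507 F46505 (iv5 F38865) D49890 (iv4 D24938) (iv0 F23986) (iv5 D14367)
def n49891 : Q := act 6 n24329
theorem D49891 : act 6 n24329 = n49891 := rfl
theorem F78893 : act 2 n49891 = n24349 := d3_1 D49891 (iv6 D24349) F38121
theorem F78894 : act 3 n49891 = n29941 := d7_1 D49891 (iv6 D29941) F38367
theorem F78895 : act 5 n49891 = n25202 := d12_1 D49891 (iv6 D25202) (iv5 F22584) D24831 (iv5 F38865)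
def n49892 : Q := act 3 n24330
theorem D49892 : act 3 n24330 = n49892 := rfl
theorem F78896 : act 4 n49892 = n49712 := d5_2 D24330 D49892 (iv3 D49712) (iv4 D24245) (iv3 F18733)
theorem F78897 : act 6 n49892 = n48783 := d7_2 (iv6 F38125) D49892 (iv3 D48783)
def n49893 : Q := act 5 n24330
theorem D49893 : act 5 n24330 = n49893 := rfl
theorem F78898 : act 2 n49893 = n24356 := d2_1 D49893 (iv5 D24356) (iv2 F38124)
theorem F78899 : act 4 n49893 = n34101 := d16_2 D24330 D49893 F53511 F26107 F11903 (iv4 F8121) (iv5 F18753) (iv7 D11478) (iv2 F18732)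
theorem F78900 : act 7 n34099 = n49893 := d11_0 F78899 (iv7 D34101) D34099
def n49894 : Q := act 7 n24330
theorem D49894 : act 7 n24330 = n49894 := rfl
theorem F78901 : act 2 n49894 = n24357 := d4_1 D49894 (iv7 D24357) (iv2 F38124)
theorem F78902 : act 4 n49894 = n24331 := d11_1 D49894 (iv7 D24331) D24330
theorem F78903 : act 5 n49894 = n34099 := d13_1 D49894 F78900 (iv5 D49893)
theorem F78904 : act 1 n24354 = n49894 := d15_1 D24354 (iv7 D49894) F38124
theorem F78905 : act 1 n49894 = n24353 := d15_1 F78904 (iv7 F48723) F48722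
def n49895 : Q := act 6 n24331
theorem D49895 : act 6 n24331 = n49895 := rfl
theorem F78906 : act 2 n49895 = n24358 := d3_1 D49895 (iv6 D24358) (iv2 F38126)
theorem F78907 : act 3 n49895 = n49715 := d7_1 D49895 (iv6 D49715) (iv3 F38127)
theorem F78908 : act 5 n49895 = n49895 := d12_1 D49895 (iv6 D49895) F38128 F18738 (iv5 F38128)
theorem F78909 : act 7 n49895 = n48786 := d14_2 D24331 D49895 (iv6 D48786) (iv7 D23792) (iv6 F18734)
theorem F78910 : act 1 n48844 = n49895 := d15_1 D48844 F78909 F76829
theorem F78911 : act 1 n49895 = n48843 := d15_0 (iv0 D48843) (iv7 F38176) (iv2 F78906)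
def n49896 : Q := act 1 n24332
theorem D49896 : act 1 n24332 = n49896 := rfl
theorem F78912 : act 1 n49896 = n29936 := d15_1 D49896 F48125 F45096
theorem F78913 : act 5 n49896 = n28226 := d17_7 (iv1 F78205) F78203 (iv1 F47568) (iv5 D25761) F20230 D24332 D49896 F46390 F46388
theorem F78914 : act 2 n31407 = n49896 := d2_3 F78913 (iv2 F45683) D31407
theorem F78915 : act 4 n30218 = n49896 := d18_3 (iv1 F23962) D14347 (iv1 F48611) F78913 F45682 F38740 (iv4 F37833) F37837 (iv5 F23961)
theorem F78916 : act 3 n49733 = n49896 := d20_5 (iv4 F78589) (iv1 F78590) (iv4 D24255) (iv3 F38029) D49733 (iv4 F78915) (iv1 D30218) (iv4 D14345) (iv3 F23957) (iv1 F47482)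
def n49897 : Q := act 4 n24332
theorem D49897 : act 4 n24332 = n49897 := rfl
theorem F78917 : act 0 n49897 = n29629 := d18_2 (iv1 D49896) D49897 (iv4 D29629) (iv5 D14072) (iv4 F23453) (iv0 F38386) F38382 D28226 (iv5 F78913)
def n49898 : Q := act 6 n24332
theorem D49898 : act 6 n24332 = n49898 := rfl
theorem F78918 : act 3 n49898 = n24340 := d7_1 D49898 (iv6 D24340) (iv3 F38131)
def n49899 : Q := act 5 n24334
theorem D49899 : act 5 n24334 = n49899 := rfl
theorem F78919 : act 2 n49899 = n25320 := d2_1 D49899 F39987 F38142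
theorem F78920 : act 3 n49899 = n29919 := d6_1 D49899 F48072 (iv3 F38141)
theorem F78921 : act 7 n49899 = n24936 := d13_2 (iv7 F38144) D49899 (iv5 D24936)
theorem F78922 : act 0 n49899 = n25318 := d17_2 D24334 D49899 (iv5 F39980) F37101 F22600 F38129 F38128 F18743 D11467
theorem F78923 : act 1 n49899 = n25317 := d17_6 F23989 (iv5 F26094) (iv1 F39094) F39092 (iv4 F38140) D49899 (iv5 F45714) (iv0 F45717) (iv4 F23810)
theorem F78924 : act 4 n49899 = n30336 := d18_5 D7652 (iv4 F11894) (iv1 F19935) (iv4 F38140) D49899 F53398 (iv4 D34038) (iv0 D16490) (iv5 D7654)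
def n49900 : Q := act 0 n24335
theorem D49900 : act 0 n24335 = n49900 := rfl
theorem F78925 : act 5 n49900 = n28196 := d17_3 F18745 D24335 D49900 F45603 D29961 (iv0 F48167) (iv5 D16493) (iv0 F11895) F8794
theorem F78926 : act 2 n29321 = n49900 := d15_3 (iv0 D49900) (iv0 F78415) F78414
theorem F78927 : act 1 n24343 = n49900 := d15_0 (iv0 D49900) (iv7 F47981) F47979
theorem F78928 : act 7 n49900 = n49716 := d15_2 F78416 F78927 F78565
theorem F78929 : act 3 n49900 = n29932 := d0_2 (iv3 F46973) F78926 (iv2 F53567) F53568 F37573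
def n49901 : Q := act 4 n24335
theorem D49901 : act 4 n24335 = n49901 := rfl
theorem F78930 : act 2 n49901 = n49717 := d1_1 D49901 (iv4 D49717) (iv2 F38146)
theorem F78931 : act 5 n49901 = n34097 := d17_5 (iv1 D25318) (iv5 D12020) F18745 D24335 D49901 (iv0 D34097) (iv5 D16513) D16511 (iv4 F39983)
theorem F78932 : act 0 n49901 = n30112 := d18_2 F78415 D49901 (iv4 D30112) (iv5 D14294) F22525 F22628 (iv4 F22623) (iv0 F37936) D49649
theorem F78933 : act 1 n49901 = n30335 := d18_6 (iv1 D3472) (iv4 F3553) D5340 D11467 D24335 D49901 (iv4 D30335) (iv0 F24034) (iv5 D7664)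
def n49902 : Q := act 6 n24335
theorem D49902 : act 6 n24335 = n49902 := rfl
theorem F78934 : act 2 n49902 = n49718 := d3_1 D49902 (iv6 D49718) (iv2 F38146)
def n49903 : Q := act 4 n24337
theorem D49903 : act 4 n24337 = n49903 := rfl
theorem F78935 : act 2 n49903 = n29417 := d1_1 D49903 (iv4 D29417) F38152
theorem F78936 : act 0 n49903 = n34061 := d18_2 D24337 D49903 (iv4 D34061) (iv5 D16500) (iv4 D7663) F11891 (iv4 F18737) F18743 D11468
theorem F78937 : act 1 n49903 = n34048 := d18_6 (iv1 D14376) F11140 (iv1 F22556) F22525 (iv5 F38149) D49903 (iv4 D34048) (iv0 F48720) (iv5 D30291)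
def n49904 : Q := act 6 n24337
theorem D49904 : act 6 n24337 = n49904 := rfl
theorem F78938 : act 2 n49904 = n29415 := d3_1 D49904 F47133 F38152
theorem F78939 : act 3 n49904 = n49724 := d7_1 D49904 (iv6 D49724) F38153
theorem F78940 : act 5 n49904 = n28201 := d12_1 D49904 (iv6 D28201) (iv5 D13462) D13463 (iv5 F38149)
def n49905 : Q := act 4 n24338
theorem D49905 : act 4 n24338 = n49905 := rfl
theorem F78941 : act 7 n49905 = n29417 := d11_2 (iv7 F38155) D49905 (iv4 D29417)
theorem F78942 : act 0 n49905 = n34048 := d18_2 (iv1 F38154) D49905 (iv4 D34048) (iv5 D16494) (iv4 D7658) (iv0 D3471) (iv4 F3553) D5341 D11473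
theorem F78943 : act 1 n49905 = n34061 := d18_6 F23989 F23988 (iv1 F23859) F22553 F38156 D49905 (iv4 D34061) F47506 F47503
def n49906 : Q := act 0 n24339
theorem D49906 : act 0 n24339 = n49906 := rfl
theorem F78944 : act 4 n49906 = n29961 := d18_3 (iv1 D24338) D24339 D49906 (iv5 D29961) (iv4 F45603) (iv0 F45604) F22623 (iv0 F22625) F38156
theorem F78945 : act 1 n24345 = n49906 := d15_0 (iv0 D49906) (iv7 F78889) F78888
def n49907 : Q := act 1 n24339
theorem D49907 : act 1 n24339 = n49907 := rfl
theorem F78946 : act 1 n49907 = n24345 := d15_1 D49907 (iv7 F78887) F78886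
theorem F78947 : act 4 n49907 = n28996 := d18_7 F19521 F8794 F18745 (iv4 D11467) D11468 D24339 D49907 (iv0 F46624) (iv5 D24117)
def n49908 : Q := act 3 n24339
theorem D49908 : act 3 n24339 = n49908 := rfl
def n49909 : Q := act 5 n24339
theorem D49909 : act 5 n24339 = n49909 := rfl
def n49910 : Q := act 6 n24339
theorem D49910 : act 6 n24339 = n49910 := rfl
theorem F78948 : act 4 n49910 = n24340 := d10_1 D49910 (iv6 D24340) D24339
def n49911 : Q := act 0 n24340
theorem D49911 : act 0 n24340 = n49911 := rfl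
def n49912 : Q := act 1 n24340
theorem D49912 : act 1 n24340 = n49912 := rfl
def n49913 : Q := act 7 n24340
theorem D49913 : act 7 n24340 = n49913 := rfl
def n49914 : Q := act 0 n24341
theorem D49914 : act 0 n24341 = n49914 := rfl
theorem F78949 : act 4 n49914 = n30548 := d18_1 D49914 (iv1 F48967) (iv4 D24420) (iv5 D11518) F19445 (iv0 D6761) (iv4 F11006) F18750 D24341
theorem F78950 : act 3 n49914 = n49716 := d20_5 (iv4 F78944) (iv1 F78945) (iv4 D24345) (iv3 F38159) D49914 F78566 (iv1 D34051) (iv4 D16496) (iv3 F26075) F48167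
theorem F78951 : act 2 n29933 = n49914 := d15_3 (iv0 D49914) (iv0 F53570) F53569
theorem F78952 : act 1 n28733 = n49914 := d15_0 (iv0 D49914) F38160 (iv2 F46361)
theorem F78953 : act 7 n49914 = n29932 := d15_2 F53571 F78952 (iv2 F53567)
def n49915 : Q := act 4 n24341
theorem D49915 : act 4 n24341 = n49915 := rfl
theorem F78954 : act 2 n49915 = n29938 := d1_1 D49915 (iv4 D29938) (iv2 F38158)
theorem F78955 : act 7 n49915 = n29934 := d11_2 (iv7 F38160) D49915 (iv4 D29934)
theorem F78956 : act 0 n49915 = n30717 := d18_2 F53570 D49915 (iv4 D30717) (iv5 D14557) D14556 F49152 F49150 (iv0 F46509) D34130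
theorem F78957 : act 1 n49915 = n30711 := d18_6 F19490 (iv4 F18832) (iv1 F18842) F19530 D24341 D49915 (iv4 D30711) (iv0 F24199) (iv5 D7673)
def n49916 : Q := act 6 n24341
theorem D49916 : act 6 n24341 = n49916 := rfl
theorem F78958 : act 2 n49916 = n29939 := d3_1 D49916 (iv6 D29939) (iv2 F38158)
theorem F78959 : act 3 n49916 = n24346 := d7_1 D49916 (iv6 D24346) (iv3 F38159)
def n49917 : Q := act 4 n24343
theorem D49917 : act 4 n24343 = n49917 := rfl
theorem F78960 : act 7 n49917 = n49717 := d11_2 (iv7 F38164) D49917 (iv4 D49717)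
theorem F78961 : act 0 n49917 = n30335 := d18_2 (iv1 F78927) D49917 (iv4 D30335) (iv5 D14392) F22553 (iv0 F38864) (iv4 F46505) (iv0 F46507) (iv5 F78925)
theorem F78962 : act 1 n49917 = n30112 := d18_6 (iv1 F11892) (iv4 F18737) (iv1 F18740) D11472 D24343 D49917 (iv4 D30112) (iv0 F23873) (iv5 D7659)
theorem F78963 : act 5 n34098 = n49917 := d17_7 F23872 (iv5 D7664) (iv1 D3472) D3473 D7668 D16513 D34098 F78962 (iv4 D30112)
theorem F78964 : act 4 n49909 = n34098 := d16_2 D24339 D49909 F78963 (iv4 D49917) (iv5 D24343) (iv4 D11472) D11473 (iv7 F38116) F38114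
def n49918 : Q := act 6 n24343
theorem D49918 : act 6 n24343 = n49918 := rfl
theorem F78965 : act 3 n49918 = n49708 := d7_1 D49918 (iv6 D49708) (iv3 F38163)
def n49919 : Q := act 3 n24345
theorem D49919 : act 3 n24345 = n49919 := rfl
def n49920 : Q := act 5 n24345
theorem D49920 : act 5 n24345 = n49920 := rfl
theorem F78966 : act 4 n49920 = n34097 := d9_1 D49920 (iv5 F78931) (iv4 D49901) (iv5 D24335) (iv4 D11467) D11468 D24339 D49909 F78964 F78963 (iv4 D49917) (iv5 D24343) (iv4 D11472) D11473 D24345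
def n49921 : Q := act 6 n24345
theorem D49921 : act 6 n24345 = n49921 := rfl
theorem F78967 : act 4 n49921 = n24346 := d10_1 D49921 (iv6 D24346) D24345
def n49922 : Q := act 0 n24346
theorem D49922 : act 0 n24346 = n49922 := rfl
def n49923 : Q := act 6 n24347
theorem D49923 : act 6 n24347 = n49923 := rfl
theorem F78968 : act 3 n49923 = n24349 := d7_1 D49923 (iv6 D24349) D24347
def n49924 : Q := act 0 n24348
theorem D49924 : act 0 n24348 = n49924 := rfl
theorem F78969 : act 4 n49924 = n24939 := d18_3 D11475 D24348 D49924 F39092 (iv4 F38140) (iv0 D24334) (iv4 D11467) (iv0 D5340) D5342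
theorem F78970 : act 1 n24351 = n49924 := d15_0 (iv0 D49924) (iv7 F45731) F45730
theorem F78971 : act 7 n49924 = n24938 := d15_2 F40065 F78970 (iv2 F40064)
def n49925 : Q := act 3 n24348
theorem D49925 : act 3 n24348 = n49925 := rfl
def n49926 : Q := act 5 n24348
theorem D49926 : act 5 n24348 = n49926 := rfl
theorem F78972 : act 4 n49926 = n34090 := d16_2 D24348 D49926 (iv5 D34090) (iv4 F39983) (iv5 F39980) F37101 F22600 (iv7 F38122) (iv2 F38121)
def n49927 : Q := act 6 n24348
theorem D49927 : act 6 n24348 = n49927 := rfl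
theorem F78973 : act 4 n49927 = n24349 := d10_1 D49927 (iv6 D24349) D24348
def n49928 : Q := act 0 n24349
theorem D49928 : act 0 n24349 = n49928 := rfl
def n49929 : Q := act 1 n24349
theorem D49929 : act 1 n24349 = n49929 := rfl
def n49930 : Q := act 7 n24349
theorem D49930 : act 7 n24349 = n49930 := rfl
def n49931 : Q := act 6 n24350
theorem D49931 : act 6 n24350 = n49931 := rfl
theorem F78974 : act 2 n49931 = n29943 := d3_1 D49931 (iv6 D29943) F38944
theorem F78975 : act 3 n49931 = n24352 := d7_1 D49931 (iv6 D24352) D24350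
theorem F78976 : act 5 n49931 = n24871 := d12_1 D49931 (iv6 D24871) (iv5 D11793) D11794 (iv5 F38167)
def n49932 : Q := act 3 n24351
theorem D49932 : act 3 n24351 = n49932 := rfl
def n49933 : Q := act 5 n24351
theorem D49933 : act 5 n24351 = n49933 := rfl
theorem F78977 : act 4 n49933 = n34087 := d9_1 D49933 (iv5 D34087) (iv4 F45716) (iv5 F45714) F45713 (iv5 F22633) D24348 D49926 F78972 (iv5 D34090) (iv4 F39983) (iv5 F39980) F37101 F22600 D24351
def n49934 : Q := act 6 n24351
theorem D49934 : act 6 n24351 = n49934 := rfl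
theorem F78978 : act 4 n49934 = n24352 := d10_1 D49934 (iv6 D24352) D24351
def n49935 : Q := act 0 n24352
theorem D49935 : act 0 n24352 = n49935 := rfl
def n49936 : Q := act 1 n24352
theorem D49936 : act 1 n24352 = n49936 := rfl
def n49937 : Q := act 7 n24352
theorem D49937 : act 7 n24352 = n49937 := rfl
def n49938 : Q := act 3 n24353
theorem D49938 : act 3 n24353 = n49938 := rfl
def n49939 : Q := act 5 n24353
theorem D49939 : act 5 n24353 = n49939 := rfl
theorem F78979 : act 4 n49939 = n34081 := d16_2 (iv4 F39090) D49939 (iv5 D34081) (iv4 D16508) (iv5 F11899) (iv4 F11129) D14367 (iv7 F26095) F39087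
def n49940 : Q := act 6 n24353
theorem D49940 : act 6 n24353 = n49940 := rfl
def n49941 : Q := act 3 n24354
theorem D49941 : act 3 n24354 = n49941 := rfl
theorem F78980 : act 4 n49941 = n30337 := d5_2 F38170 D49941 (iv3 D30337) (iv4 D14393) (iv3 F23985)
def n49942 : Q := act 5 n24354
theorem D49942 : act 5 n24354 = n49942 := rfl
theorem F78981 : act 4 n49942 = n34074 := d9_1 D49942 (iv5 D34074) (iv4 D16505) F22547 (iv4 F24022) (iv5 F39086) (iv4 F39090) D49939 F78979 (iv5 D34081) (iv4 D16508) (iv5 F11899) (iv4 F11129) D14367 F38170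
def n49943 : Q := act 6 n24354
theorem D49943 : act 6 n24354 = n49943 := rfl
theorem F78982 : act 4 n49943 = n30272 := d10_1 D49943 F48660 F38170
def n49944 : Q := act 0 n24355
theorem D49944 : act 0 n24355 = n49944 := rfl
def n49945 : Q := act 1 n24355
theorem D49945 : act 1 n24355 = n49945 := rfl
def n49946 : Q := act 2 n24355
theorem D49946 : act 2 n24355 = n49946 := rfl
theorem F78983 : act 4 n49946 = n24377 := d1_2 (iv4 F38171) D49946 (iv2 D24377)
theorem F78984 : act 6 n49946 = n48835 := d3_2 (iv6 F38172) D49946 (iv2 D48835)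
def n49947 : Q := act 5 n24355
theorem D49947 : act 5 n24355 = n49947 := rfl
theorem F78985 : act 3 n49947 = n24356 := d6_1 D49947 (iv5 D24356) D24355
def n49948 : Q := act 7 n24355
theorem D49948 : act 7 n24355 = n49948 := rfl
theorem F78986 : act 3 n49948 = n24357 := d8_1 D49948 (iv7 D24357) D24355
theorem F78987 : act 4 n49948 = n24379 := d11_1 D49948 (iv7 D24379) (iv4 F38171)
def n49949 : Q := act 0 n24356
theorem D49949 : act 0 n24356 = n49949 := rfl
theorem F78988 : act 5 n49949 = n34048 := d17_3 (iv1 D24354) D24356 D49949 (iv4 D34048) (iv5 D16494) (iv0 F18742) D11839 (iv0 F23986) F38170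
theorem F78989 : act 4 n34064 = n49949 := d16_2 D16502 D34064 F78988 (iv4 D34048) (iv5 D16494) (iv4 D7658) D7659 (iv7 F26062) F26061
theorem F78990 : act 1 n34099 = n49949 := d17_6 (iv1 D24338) (iv5 D11468) (iv1 F18743) (iv5 F38128) (iv4 F78902) F78903 F78988 (iv0 F78942) (iv4 D49905)
def n49950 : Q := act 1 n24356
theorem D49950 : act 1 n24356 = n49950 := rfl
theorem F78991 : act 1 n49950 = n34099 := d15_1 D49950 F78900 F78898
theorem F78992 : act 5 n49950 = n34061 := d17_7 (iv1 F38150) (iv5 D11473) (iv1 D5341) D5342 D11477 D24356 D49950 (iv0 F78936) (iv4 D49903)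
theorem F78993 : act 3 n34046 = n49950 := d19_19 (iv1 D49950) (iv5 D24356) (iv4 D11477) F8118 D5349 (iv5 F9050) F9049 (iv3 F9027) (iv1 F9031) F26386 (iv4 D6624) (iv3 F10349) F7825 (iv5 D5128) (iv4 F3770) (iv3 F8793) F11895 D16493 D34046
theorem F78994 : act 4 n49950 = n34052 := d5_2 D34046 F78993 (iv3 D34052) (iv4 D16496) (iv3 F26075)
theorem E8168 : n34053 = n34052 := ((c9_2 (iv5 F78992) F78994 (iv5 D34053) (iv4 D16496) (iv5 D7659) D7658 D16494 D34048 (iv5 F78988) (iv4 F78989) (iv5 D34064) (iv4 D16502) (iv5 D7664) D7663 D16500 D34061)).symm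
theorem F78995 : act 5 n34052 = n16496 := (sb E8168 (iv5 D34053))
def n49951 : Q := act 4 n24356
theorem D49951 : act 4 n24356 = n49951 := rfl
theorem F78996 : act 2 n49951 = n34101 := d1_1 D49951 (iv4 F78899) F78898
theorem F78997 : act 5 n49951 = n34044 := d9_2 D24356 D49951 F53414 F26072 (iv4 F18737) (iv5 F38128) (iv4 F78902) F78903 (iv4 D34099) (iv5 D16513) (iv4 D7668) (iv5 D3473) (iv4 F3553) D5342 D11477
theorem F78998 : act 0 n49951 = n34098 := d18_2 (iv1 D49950) D49951 (iv4 F78964) (iv5 D49909) (iv4 D24339) D24338 D49905 F78943 (iv5 F78992)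
theorem F78999 : act 1 n49951 = n34097 := d18_8 F78932 (iv4 D30112) F23872 D16502 D34064 F78989 (iv0 D49949) D49951 (iv5 F78931)
theorem F79000 : act 7 n49951 = n34043 := d15_2 D34098 (iv0 F78998) F53412
def n49952 : Q := act 6 n24356
theorem D49952 : act 6 n24356 = n49952 := rfl
theorem F79001 : act 5 n49952 = n48840 := d12_1 D49952 (iv6 D48840) (iv5 D23814) (iv6 F18751) D24356
def n49953 : Q := act 7 n24356
theorem D49953 : act 7 n24356 = n49953 := rfl
theorem F79002 : act 2 n49953 = n34099 := d4_1 D49953 F78900 F78898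
theorem F79003 : act 4 n49953 = n34043 := d11_1 D49953 (iv7 F79000) (iv4 D49951)
theorem F79004 : act 5 n49953 = n24357 := d13_1 D49953 (iv7 D24357) D24356
def n49954 : Q := act 6 n24357
theorem D49954 : act 6 n24357 = n49954 := rfl
theorem F79005 : act 4 n49954 = n24358 := d10_1 D49954 (iv6 D24358) (iv4 F38173)
theorem F79006 : act 7 n49954 = n48842 := d14_2 D24357 D49954 (iv6 D48842) (iv7 D23815) (iv6 F18751)
def n49955 : Q := act 0 n24358
theorem D49955 : act 0 n24358 = n49955 := rfl
theorem F79007 : act 1 n48786 = n49955 := d15_0 (iv0 D49955) F38176 (iv2 F76829)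
def n49956 : Q := act 1 n24358
theorem D49956 : act 1 n24358 = n49956 := rfl
theorem F79008 : act 1 n49956 = n48786 := d15_1 D49956 (iv7 F78909) F78906
def n49957 : Q := act 3 n24359
theorem D49957 : act 3 n24359 = n49957 := rfl
theorem F79009 : act 4 n49957 = n24361 := d5_2 D24359 D49957 (iv3 D24361) (iv4 D11481) (iv3 F18754)
theorem F79010 : act 7 n49957 = n34257 := d8_2 (iv7 F38177) D49957 (iv3 D34257)
def n49958 : Q := act 5 n24359
theorem D49958 : act 5 n24359 = n49958 := rfl
theorem F79011 : act 2 n49958 = n49223 := d2_1 D49958 F77742 F39939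
theorem F79012 : act 7 n49958 = n34258 := d13_2 (iv7 F38177) D49958 (iv5 D34258)
theorem F79013 : act 4 n49958 = n25341 := d16_2 D24359 D49958 F40042 (iv4 D13442) (iv5 D6386) F10076 D12022 F19885 F19862
theorem F79014 : act 0 n49958 = n25628 := d17_2 F47501 D49958 F40528 F40082 F19950 (iv0 F10050) D12013 F23455 D29591
theorem F79015 : act 1 n49958 = n25349 := d17_6 F19189 (iv5 D5687) (iv1 F10285) D11479 D24359 D49958 (iv5 D25349) (iv0 F39051) (iv4 D24904)
def n49959 : Q := act 6 n24359
theorem D49959 : act 6 n24359 = n49959 := rfl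
theorem F79016 : act 4 n49959 = n24360 := d10_1 D49959 (iv6 D24360) D24359
def n49960 : Q := act 1 n24360
theorem D49960 : act 1 n24360 = n49960 := rfl
def n49961 : Q := act 7 n24360
theorem D49961 : act 7 n24360 = n49961 := rfl
theorem F79017 : act 3 n49961 = n24364 := d8_1 D49961 (iv7 D24364) (iv3 F38178)
theorem F79018 : act 5 n49961 = n24916 := d13_1 D49961 (iv7 D24916) (iv5 F38179)
theorem F79019 : act 6 n49961 = n34261 := d14_1 D49961 (iv7 D34261) (iv6 D16585) (iv7 F18755) D24360
def n49962 : Q := act 0 n24361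
theorem D49962 : act 0 n24361 = n49962 := rfl
theorem F79020 : act 1 n34264 = n49962 := d15_0 (iv0 D49962) F38180 D34264
def n49963 : Q := act 1 n24361
theorem D49963 : act 1 n24361 = n49963 := rfl
def n49964 : Q := act 2 n24361
theorem D49964 : act 2 n24361 = n49964 := rfl
theorem F79021 : act 3 n49964 = n34246 := d0_2 D24361 D49964 (iv2 D34246) (iv3 D16568) (iv2 F18760)
theorem F79022 : act 7 n49964 = n34264 := d4_2 (iv7 F38180) D49964 (iv2 D34264)
theorem F79023 : act 1 n49964 = n34262 := d15_0 (iv0 D34262) (iv7 F38180) D49964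
theorem F79024 : act 1 n49963 = n34264 := d15_1 D49963 (iv7 F79022) (iv2 D49964)
theorem F79025 : act 1 n34263 = n49964 := d15_1 D34263 F79022 (iv2 D34264)
def n49965 : Q := act 6 n24361
theorem D49965 : act 6 n24361 = n49965 := rfl
def n49966 : Q := act 5 n24362
theorem D49966 : act 5 n24362 = n49966 := rfl
def n49967 : Q := act 7 n24362
theorem D49967 : act 7 n24362 = n49967 := rfl
theorem F79029 : act 4 n49967 = n24364 := d11_1 D49967 (iv7 D24364) (iv4 F38182)
theorem F79030 : act 6 n49967 = n34267 := d14_1 D49967 (iv7 D34267) (iv6 D16587) (iv7 F18761) D24362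
theorem F79031 : act 1 n34127 = n49967 := d15_1 F53804 (iv7 D49967) F38181
theorem F79032 : act 1 n49967 = n34125 := d15_1 F79031 F53557 (iv2 F53560)
def n49968 : Q := act 3 n24363
theorem D49968 : act 3 n24363 = n49968 := rfl
theorem F79033 : act 5 n49968 = n31484 := d6_2 F38184 D49968 F49785
theorem F79034 : act 7 n49968 = n34250 := d8_2 F49819 D49968 (iv3 D34250)
def n49969 : Q := act 0 n24366
theorem D49969 : act 0 n24366 = n49969 := rfl
theorem F79035 : act 4 n49969 = n34058 := d18_3 (iv1 F22971) D24366 D49969 F53440 F48677 F24425 F11303 (iv0 F22957) D13719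
theorem F79036 : act 1 n24890 = n49969 := d15_0 (iv0 D49969) F38200 (iv2 F39025)
theorem F79037 : act 2 n34237 = n49969 := d1_3 F79035 (iv2 F53441) (iv4 F53879)
theorem F79038 : act 6 n49508 = n49969 := d10_0 F79035 F53445 D49508
theorem F79039 : act 7 n34236 = n49969 := d11_0 F79035 F53443 (iv4 F53876)
def n49970 : Q := act 1 n24366
theorem D49970 : act 1 n24366 = n49970 := rfl
theorem F79040 : act 1 n49970 = n24890 := d15_1 D49970 (iv7 F45115) F45114
theorem F79041 : act 7 n49970 = n34237 := d15_2 (iv0 D49969) D49970 F79037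
theorem F79042 : act 4 n49970 = n28761 := d18_7 (iv1 F18289) (iv4 F9845) (iv1 F19502) F8126 D11486 D24366 D49970 F46402 (iv5 D23988)
theorem F79043 : act 2 n34236 = n49970 := d1_3 F79042 F46398 (iv4 F53876)
def n49971 : Q := act 3 n24366
theorem D49971 : act 3 n24366 = n49971 := rfl
theorem F79044 : act 4 n49971 = n24368 := d5_2 D24366 D49971 (iv3 D24368) (iv4 D11488) (iv3 F18771)
theorem F79045 : act 7 n49971 = n34238 := d8_2 (iv7 F38200) D49971 (iv3 D34238)
def n49972 : Q := act 5 n24366
theorem D49972 : act 5 n24366 = n49972 := rfl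
theorem F79046 : act 2 n49972 = n49444 := d2_1 D49972 F78170 F45114
theorem F79047 : act 7 n49972 = n34239 := d13_2 (iv7 F38200) D49972 (iv5 D34239)
theorem F79048 : act 0 n49972 = n49166 := d17_2 (iv1 D49970) D49972 (iv5 D49166) (iv4 D23991) (iv5 D11245) (iv0 F19523) D16498 (iv0 F46401) (iv4 F79042)
theorem F79049 : act 1 n49972 = n49447 := d17_6 (iv1 F22158) F22156 (iv1 F19502) D11486 D24366 D49972 F78176 (iv0 F39029) (iv4 D24892)
def n49973 : Q := act 6 n24366
theorem D49973 : act 6 n24366 = n49973 := rfl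
theorem F79050 : act 4 n49973 = n24367 := d10_1 D49973 (iv6 D24367) D24366
theorem F79051 : act 0 n49462 = n49973 := d21_4 F19198 D14925 (iv5 F37845) D49462 (iv6 D49973) D49972 F79048 (iv5 D49166) F37488 (iv1 F19200)
def n49974 : Q := act 0 n24368
theorem D49974 : act 0 n24368 = n49974 := rfl
theorem F79052 : act 1 n34246 = n49974 := d15_0 (iv0 D49974) F38203 D34246
def n49975 : Q := act 1 n24368
theorem D49975 : act 1 n24368 = n49975 := rfl
def n49976 : Q := act 2 n24368
theorem D49976 : act 2 n24368 = n49976 := rfl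
theorem F79053 : act 3 n49976 = n34264 := d0_2 D24368 D49976 (iv2 D34264) (iv3 D16586) (iv2 F18775)
theorem F79054 : act 7 n49976 = n34246 := d4_2 (iv7 F38203) D49976 (iv2 D34246)
theorem F79055 : act 1 n49976 = n34244 := d15_0 (iv0 D34244) (iv7 F38203) D49976
theorem F79056 : act 1 n49975 = n34246 := d15_1 D49975 (iv7 F79054) (iv2 D49976)
theorem F79057 : act 1 n34245 = n49976 := d15_1 D34245 F79054 (iv2 D34246)
def n49977 : Q := act 6 n24368
theorem D49977 : act 6 n24368 = n49977 := rfl
theorem F79058 : act 3 n49977 = n24369 := d7_1 D49977 (iv6 D24369) D24368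
def n49978 : Q := act 5 n24369
theorem D49978 : act 5 n24369 = n49978 := rfl
theorem F79059 : act 2 n49978 = n34266 := d2_1 D49978 (iv5 D34266) (iv2 F38204)
def n49979 : Q := act 5 n24370
theorem D49979 : act 5 n24370 = n49979 := rfl
theorem F79060 : act 2 n49979 = n49651 := d2_1 D49979 F78418 F39943
theorem F79061 : act 7 n49979 = n49650 := d13_2 (iv7 F38206) D49979 (iv5 D49650)
theorem F79062 : act 4 n49979 = n25334 := d16_2 D24370 D49979 (iv5 D25334) F19912 (iv5 F10425) (iv4 F10140) D11819 (iv7 F19867) (iv2 F19865)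
def n49980 : Q := act 6 n24370
theorem D49980 : act 6 n24370 = n49980 := rfl
theorem F79063 : act 4 n49980 = n24371 := d10_1 D49980 (iv6 D24371) D24370
def n49981 : Q := act 0 n24371
theorem D49981 : act 0 n24371 = n49981 := rfl
def n49982 : Q := act 1 n24371
theorem D49982 : act 1 n24371 = n49982 := rfl
def n49983 : Q := act 7 n24371
theorem D49983 : act 7 n24371 = n49983 := rfl
theorem F79064 : act 3 n49983 = n24374 := d8_1 D49983 (iv7 D24374) (iv3 F38208)
theorem F79065 : act 5 n49983 = n25280 := d13_1 D49983 F39906 F38789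
theorem F79066 : act 6 n49983 = n49648 := d14_1 D49983 (iv7 D49648) F37931 (iv7 F18779) D24371
def n49984 : Q := act 3 n24372
theorem D49984 : act 3 n24372 = n49984 := rfl
theorem F79067 : act 6 n49984 = n48860 := d7_2 (iv6 F38209) D49984 (iv3 D48860)
theorem F79068 : act 7 n49984 = n49782 := d8_2 (iv7 F78660) D49984 (iv3 D49782)
def n49985 : Q := act 5 n24372
theorem D49985 : act 5 n24372 = n49985 := rfl
theorem F79069 : act 2 n49985 = n49780 := d2_1 D49985 (iv5 D49780) (iv2 F78659)
theorem F79070 : act 6 n49985 = n49780 := d12_2 (iv6 F38209) D49985 (iv5 D49780) F38039 (iv5 F37145)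
theorem F79071 : act 7 n49985 = n28161 := d13_2 (iv7 F78660) D49985 F45519
theorem F79072 : act 0 n49985 = n28144 := d21_1 D49985 F45507 (iv6 F47169) (iv1 D29429) F23324 (iv5 D6655) (iv1 F9053) F9050 D11491 D24372
theorem F79073 : act 0 n28133 = n49985 := d21_10 (iv5 D49985) F38210 F38040 (iv6 F38781) (iv1 F38783) F45833 (iv5 F76971) F76972 (iv5 D28132) D28133
def n49986 : Q := act 3 n24373
theorem D49986 : act 3 n24373 = n49986 := rfl
theorem F79074 : act 7 n49986 = n49779 := d8_2 (iv7 F78664) D49986 (iv3 D49779)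
def n49987 : Q := act 0 n24375
theorem D49987 : act 0 n24375 = n49987 := rfl
theorem F79075 : act 2 n24379 = n49987 := d15_3 (iv0 D49987) (iv0 D24375) D24379
theorem F79076 : act 3 n49987 = n49787 := d0_2 (iv3 F38221) F79075 (iv2 F78698) F38054 (iv2 F18786)
theorem F79077 : act 5 n49987 = n49870 := d2_2 (iv5 F38222) F79075 (iv2 D49870)
theorem F79078 : act 7 n49987 = n24377 := d4_2 D24379 F79075 (iv2 D24377)
theorem F79079 : act 1 n24376 = n49987 := d15_1 D24376 F79078 (iv2 D24377)
def n49988 : Q := act 2 n24375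
theorem D49988 : act 2 n24375 = n49988 := rfl
theorem F79080 : act 7 n24376 = n49988 := d15_2 (iv0 D24375) D24376 (iv2 D49988)
def n49989 : Q := act 3 n24375
theorem D49989 : act 3 n24375 = n49989 := rfl
def n49990 : Q := act 4 n24375
theorem D49990 : act 4 n24375 = n49990 := rfl
def n49991 : Q := act 5 n24375
theorem D49991 : act 5 n24375 = n49991 := rfl
def n49992 : Q := act 6 n24375
theorem D49992 : act 6 n24375 = n49992 := rfl
def n49993 : Q := act 7 n24375
theorem D49993 : act 7 n24375 = n49993 := rfl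
theorem F79081 : act 2 n49993 = n24376 := d4_1 D49993 F79080 (iv2 D49988)
def n49994 : Q := act 3 n24376
theorem D49994 : act 3 n24376 = n49994 := rfl
def n49995 : Q := act 4 n24376
theorem D49995 : act 4 n24376 = n49995 := rfl
def n49996 : Q := act 5 n24376
theorem D49996 : act 5 n24376 = n49996 := rfl
def n49997 : Q := act 6 n24376
theorem D49997 : act 6 n24376 = n49997 := rfl
def n49998 : Q := act 0 n24377
theorem D49998 : act 0 n24377 = n49998 := rfl
theorem F79082 : act 1 n24379 = n49998 := d15_0 (iv0 D49998) (iv7 F79078) (iv2 F79075)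
def n49999 : Q := act 1 n24377
theorem D49999 : act 1 n24377 = n49999 := rfl
theorem F79083 : act 1 n49999 = n24379 := d15_1 D49999 (iv7 D24379) D24377
def n50000 : Q := act 5 n24377
theorem D50000 : act 5 n24377 = n50000 := rfl
theorem F79084 : act 2 n50000 = n24378 := d2_1 D50000 (iv5 D24378) D24377
theorem F79085 : act 3 n50000 = n49800 := d6_1 D50000 (iv5 D49800) (iv3 F38217)
theorem F79086 : act 7 n50000 = n49870 := d13_2 F79078 D50000 (iv5 F79077)
theorem F79087 : act 1 n49869 = n50000 := d15_1 D49869 F79086 (iv2 D49870)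
theorem F79088 : act 1 n50000 = n49868 := d15_0 (iv0 D49868) F38220 (iv2 F79084)
def n50001 : Q := act 0 n24378
theorem D50001 : act 0 n24378 = n50001 := rfl
theorem F79089 : act 1 n49870 = n50001 := d15_0 (iv0 D50001) (iv7 F38220) D49870
def n50002 : Q := act 1 n24378
theorem D50002 : act 1 n24378 = n50002 := rfl
theorem F79090 : act 1 n50002 = n49870 := d15_1 D50002 (iv7 F79086) F79084
def n50003 : Q := act 4 n24378
theorem D50003 : act 4 n24378 = n50003 := rfl
theorem F79091 : act 3 n50003 = n49863 := d5_1 D50003 F78855 F38101 (iv4 F18784) (iv3 F38219)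
theorem F79092 : act 7 n50003 = n49860 := d11_2 F38220 D50003 F78852
def n50004 : Q := act 6 n24378
theorem D50004 : act 6 n24378 = n50004 := rfl
theorem F79093 : act 3 n50004 = n24380 := d7_1 D50004 (iv6 D24380) (iv3 F38219)
theorem F79094 : act 5 n50004 = n48875 := d12_1 D50004 (iv6 D48875) (iv5 D23828) (iv6 F18782) D24378
def n50005 : Q := act 6 n24379
theorem D50005 : act 6 n24379 = n50005 := rfl
theorem F79095 : act 3 n50005 = n24381 := d7_1 D50005 (iv6 D24381) (iv3 F38221)
theorem F79096 : act 7 n50005 = n30976 := d14_2 D24379 D50005 (iv6 D30976) F24345 (iv6 F18782)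
def n50006 : Q := act 0 n24380
theorem D50006 : act 0 n24380 = n50006 := rfl
def n50007 : Q := act 1 n24380
theorem D50007 : act 1 n24380 = n50007 := rfl
theorem F79097 : act 1 n50007 = n49808 := d15_1 D50007 (iv7 D49808) (iv2 F38223)
def n50008 : Q := act 7 n24380
theorem D50008 : act 7 n24380 = n50008 := rfl
theorem F79098 : act 2 n50008 = n49808 := d4_1 D50008 (iv7 D49808) (iv2 F38223)
theorem F79099 : act 4 n50008 = n49879 := d11_1 D50008 F78871 (iv4 F38224)
theorem F79100 : act 5 n50008 = n48878 := d13_1 D50008 (iv7 D48878) (iv5 F38225)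
theorem F79101 : act 6 n50008 = n49874 := d14_1 D50008 (iv7 D49874) (iv6 D24318) F18785 D24380
theorem F79102 : act 1 n49808 = n50006 := d15_0 (iv0 D50006) D50008 F79098
theorem F79103 : act 1 n49807 = n50008 := d15_1 D49807 (iv7 D50008) F38223
theorem F79104 : act 1 n50008 = n49806 := d15_0 (iv0 D49806) D49808 (iv2 F79098)
def n50009 : Q := act 5 n24381
theorem D50009 : act 5 n24381 = n50009 := rfl
theorem F79105 : act 2 n50009 = n49809 := d2_1 D50009 (iv5 D49809) (iv2 F38226)
theorem F79106 : act 6 n50009 = n49873 := d12_2 D24381 D50009 (iv5 D49873) (iv6 D24318) (iv5 F18788)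
theorem F79107 : act 7 n50009 = n30979 := d13_2 (iv7 F38228) D50009 (iv5 D30979)
def n50010 : Q := act 4 n24382
theorem D50010 : act 4 n24382 = n50010 := rfl
theorem F79108 : act 2 n50010 = n48946 := d1_1 D50010 F77197 (iv2 F50582)
theorem F79109 : act 3 n50010 = n29217 := d5_1 D50010 (iv4 D29217) (iv3 D13896) D13897 (iv3 F38229)
theorem F79110 : act 7 n50010 = n48947 := d11_2 F50581 D50010 (iv4 F77203)
theorem F79111 : act 0 n50010 = n29685 := d20_1 D50010 (iv4 D29685) D29684 F47722 F23594 F10941 (iv1 D5357) D5358 D11497 D24382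
theorem F79112 : act 0 n29690 = n50010 := d20_1 D29690 (iv4 D50010) F38229 D29221 (iv3 F53969) F25686 F53985 (iv4 F23587) F23586 (iv1 F23577)
def n50011 : Q := act 5 n24385
theorem D50011 : act 5 n24385 = n50011 := rfl
theorem F79113 : act 2 n50011 = n24403 := d2_1 D50011 F38252 F38236
theorem F79114 : act 3 n50011 = n49829 := d6_1 D50011 (iv5 D49829) (iv3 F38237)
theorem F79115 : act 7 n50011 = n24398 := d13_2 (iv7 F38239) D50011 (iv5 D24398)
theorem F79116 : act 0 n50011 = n24400 := d17_2 D24385 D50011 (iv5 F54240) F47715 D29714 F54040 F50876 F45537 (iv4 D24388)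
theorem F79117 : act 1 n50011 = n24399 := d17_6 (iv1 F53981) D16125 D33400 F52637 (iv4 F38238) D50011 F50859 (iv0 F54066) F23595
def n50012 : Q := act 5 n24386
theorem D50012 : act 5 n24386 = n50012 := rfl
theorem F79118 : act 2 n50012 = n24389 := d2_1 D50012 (iv5 D24389) D24386
theorem F79119 : act 3 n50012 = n29698 := d6_1 D50012 (iv5 F54288) (iv3 F55510)
theorem F79120 : act 7 n50012 = n24394 := d13_2 F38241 D50012 (iv5 D24394)
theorem F79121 : act 0 n50012 = n29722 := d17_2 (iv1 F55509) D50012 (iv5 D29722) F23595 D29153 (iv0 F54444) (iv5 D34308) F49987 (iv4 F18804)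
def n50013 : Q := act 4 n24387
theorem D50013 : act 4 n24387 = n50013 := rfl
theorem F79122 : act 2 n50013 = n24836 := d1_1 D50013 F55492 F55494
theorem F79123 : act 7 n50013 = n24837 := d11_2 F55495 D50013 (iv4 F51527)
theorem F79124 : act 0 n50013 = n24840 := d20_1 D50013 F38883 F21206 (iv1 F9406) D7721 D16603 (iv1 F54426) (iv4 F56575) F56574 F56576
theorem F79125 : act 3 n50013 = n29015 := d20_3 F56622 F56576 D50013 (iv1 D29015) (iv3 D13810) (iv4 D6568) D6566 D13805 (iv3 F42826) F76663
theorem F79126 : act 0 n24838 = n50013 := d20_1 (iv4 F38879) (iv4 D50013) (iv3 D24387) D24385 F38237 (iv4 F78492) (iv1 F78494) (iv4 F47449) F47444 (iv1 F42824)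
def n50014 : Q := act 5 n24387
theorem D50014 : act 5 n24387 = n50014 := rfl
theorem F79127 : act 3 n50014 = n24389 := d6_1 D50014 (iv5 D24389) D24387
def n50015 : Q := act 3 n24388
theorem D50015 : act 3 n24388 = n50015 := rfl
theorem F79128 : act 2 n50015 = n49830 := d0_1 D50015 (iv3 D49830) (iv2 D24299) D24300 (iv2 F55503)
theorem F79129 : act 4 n50015 = n29015 := d5_2 D24388 D50015 (iv3 F79125) (iv4 D50013) (iv3 D24387)
theorem F79130 : act 7 n50015 = n49842 := d8_2 F55501 D50015 F78818
theorem F79131 : act 0 n50015 = n34272 := d20_4 (iv4 F8171) D11500 D24388 D50015 (iv3 D34272) D34273 F53944 F46757 (iv3 D16613) (iv1 D7725)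
theorem F79132 : act 0 n35912 = n50015 := d20_4 D26716 F76663 F56622 (iv3 F56574) (iv3 D50015) (iv4 D24388) D24385 F38238 (iv3 F42816) (iv1 F42818)
def n50016 : Q := act 0 n24389
theorem D50016 : act 0 n24389 = n50016 := rfl
theorem F79133 : act 5 n50016 = n29717 := d17_3 D11500 D24389 D50016 F53977 D33428 F52781 (iv5 D16610) (iv0 D7724) (iv4 F8171)
theorem F79136 : act 1 n24394 = n50016 := d17_6 F54032 D29716 (iv1 F47757) (iv5 F54321) (iv4 D24393) D24394 F79133 (iv0 F54052) F46099
def n50017 : Q := act 4 n24389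
theorem D50017 : act 4 n24389 = n50017 := rfl
theorem F79137 : act 1 n50017 = n29659 := d18_6 (iv1 D13854) (iv4 F22375) F42819 (iv4 D24388) D24389 D50017 (iv4 D29659) (iv0 F54035) (iv5 D29105)
def n50018 : Q := act 6 n24389
theorem D50018 : act 6 n24389 = n50018 := rfl
def n50019 : Q := act 7 n24389
theorem D50019 : act 7 n24389 = n50019 := rfl
theorem F79138 : act 2 n50019 = n24394 := d4_1 D50019 (iv7 F79120) F79118
theorem F79139 : act 5 n50019 = n24391 := d13_1 D50019 (iv7 D24391) D24389
theorem F79140 : act 0 n29722 = n50019 := d17_2 F47722 D29722 F79139 F55499 F54186 (iv0 D29718) (iv5 D14113) D14111 (iv4 F47715)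
def n50020 : Q := act 6 n24393
theorem D50020 : act 6 n24393 = n50020 := rfl
theorem F79141 : act 2 n50020 = n35097 := d3_1 D50020 F55766 F55500
theorem F79142 : act 3 n50020 = n35085 := d7_1 D50020 F77107 F55507
theorem F79143 : act 4 n50020 = n24395 := d10_1 D50020 (iv6 D24395) D24393
theorem F79144 : act 0 n35094 = n50020 := d21_4 F54317 (iv1 F55758) (iv5 D35093) D35094 (iv6 D50020) F54321 (iv1 D29172) (iv5 D13881) D13882 (iv1 F54175)
theorem F79145 : act 0 n24395 = n26061 := d20_1 F79143 F41210 (iv3 D14900) (iv1 F18132) (iv3 F22689) (iv4 F45857) F55285 F55284 (iv3 F55760) F79144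
theorem F79146 : act 1 n35094 = n32394 := d15_1 (iv0 F79144) F55768 (iv2 F79141)
theorem F79147 : act 1 n32394 = n34019 := d15_1 F79146 F53345 (iv2 F55759)
theorem F79148 : act 1 n33753 = n32930 := d18_6 F79145 F41210 (iv1 F54098) (iv4 F54099) F54100 D33753 (iv4 D32930) D32929 (iv5 F56718)
theorem F79149 : act 0 n50020 = n34019 := d20_7 F27304 (iv1 F12454) (iv4 F11588) (iv3 F24975) D32581 (iv3 F55713) (iv4 F79143) F53343 F49973 F27308
theorem F79150 : act 7 n35098 = n50020 := d15_2 (iv0 D35097) D35098 F79141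
theorem F79151 : act 2 n35098 = n32394 := d4_3 F55768 (iv2 F79141) (iv7 F79150)
theorem F79152 : act 6 n31552 = n35098 := d3_0 F79151 (iv6 D32394) (iv2 F55531)
theorem F79153 : act 3 n35098 = n31566 := d7_1 F79152 (iv6 D31566) (iv3 F49888)
theorem F79154 : act 4 n35098 = n31554 := d10_1 F79152 (iv6 D31554) D31552
theorem F79155 : act 5 n35098 = n28670 := d21_6 (iv5 F22793) F37251 (iv5 D15287) D15288 (iv1 F50151) F79152 (iv1 D28670) (iv5 D13664) (iv6 D6493) F37247
theorem F79156 : act 0 n31682 = n34969 := d20_4 (iv4 D13683) F21338 (iv4 F24534) (iv3 F49959) F55375 (iv4 F79154) (iv1 D35098) F27936 F24996 (iv1 F22835)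
theorem F79157 : act 1 n32575 = n34969 := d15_0 (iv0 F79156) F49960 (iv2 F51639)
theorem F79158 : act 0 n31799 = n34968 := d21_1 (iv5 F50103) (iv5 D34968) D34969 (iv1 F79157) (iv6 D32575) D32574 (iv1 F55730) F55732 F54202 F54332
def n50021 : Q := act 4 n24394
theorem D50021 : act 4 n24394 = n50021 := rfl
theorem F79159 : act 0 n50021 = n29659 := d18_2 (iv1 F79136) D50021 (iv4 D29659) (iv5 D14089) F10910 (iv0 F54029) F37257 F54049 (iv5 F79133)
def n50022 : Q := act 6 n24394
theorem D50022 : act 6 n24394 = n50022 := rfl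
def n50023 : Q := act 1 n24398
theorem D50023 : act 1 n24398 = n50023 := rfl
theorem F79160 : act 1 n50023 = n24403 := d15_1 D50023 (iv7 D24403) (iv2 F38247)
theorem F79161 : act 7 n50023 = n24399 := d15_2 F77172 D50023 (iv2 F77168)
theorem F79162 : act 5 n50023 = n28530 := d17_7 (iv1 F53965) (iv5 F52643) (iv1 F52644) (iv5 D16618) (iv4 F18804) D24398 D50023 F54053 F26244
theorem F79163 : act 4 n33496 = n24398 := d18_7 F54052 F53977 (iv1 D16141) F11773 D7545 D16178 D33496 D50023 F79162
theorem F79164 : act 2 n24401 = n33496 := d1_3 F79163 F38247 D24401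
theorem F79165 : act 2 n24400 = n50023 := d2_3 F79162 F54224 F54240
def n50024 : Q := act 6 n24398
theorem D50024 : act 6 n24398 = n50024 := rfl
theorem F79166 : act 2 n50024 = n24402 := d3_1 D50024 (iv6 D24402) (iv2 F38247)
theorem F79168 : act 5 n50024 = n28533 := d12_1 D50024 (iv6 D28533) F25731 (iv6 F18805) D24398
def n50025 : Q := act 3 n24399
theorem D50025 : act 3 n24399 = n50025 := rfl
theorem F79169 : act 5 n50025 = n28523 := d6_2 (iv5 F50859) D50025 F46091
def n50026 : Q := act 4 n24399
theorem D50026 : act 4 n24399 = n50026 := rfl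
theorem F79170 : act 0 n50026 = n33493 := d18_2 D24399 D50026 (iv4 D33493) F50969 (iv4 F45534) F45537 (iv4 D24388) (iv0 D11500) D11503
theorem F79171 : act 1 n50026 = n29110 := d18_6 (iv1 D13872) (iv4 F10936) (iv1 F54004) (iv4 F22787) (iv5 F50859) D50026 (iv4 D29110) D29109 F53967
def n50027 : Q := act 6 n24399
theorem D50027 : act 6 n24399 = n50027 := rfl
theorem F79172 : act 5 n50027 = n28525 := d12_1 D50027 (iv6 D28525) (iv5 D13604) D13605 (iv5 F50859)
def n50028 : Q := act 4 n24400
theorem D50028 : act 4 n24400 = n50028 := rfl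
theorem F79173 : act 0 n50028 = n29110 := d18_2 F79116 D50028 (iv4 D29110) (iv5 D13856) (iv4 F22375) (iv0 F50879) (iv4 D24393) F38240 D50011
theorem F79174 : act 1 n50028 = n33493 := d18_6 D7543 (iv4 F50976) (iv1 F54005) (iv4 F47715) F54240 D50028 (iv4 D33493) (iv0 D16176) (iv5 D7545)
def n50029 : Q := act 6 n24400
theorem D50029 : act 6 n24400 = n50029 := rfl
def n50030 : Q := act 3 n24401
theorem D50030 : act 3 n24401 = n50030 := rfl
theorem F79175 : act 4 n50030 = n24406 := d5_2 D24401 D50030 (iv3 D24406) (iv4 D11507) (iv3 F18806)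
def n50031 : Q := act 5 n24401
theorem D50031 : act 5 n24401 = n50031 := rfl
def n50032 : Q := act 6 n24401
theorem D50032 : act 6 n24401 = n50032 := rfl
theorem F79177 : act 4 n50032 = n24402 := d10_1 D50032 (iv6 D24402) D24401
def n50033 : Q := act 0 n24402
theorem D50033 : act 0 n24402 = n50033 := rfl
def n50034 : Q := act 1 n24402
theorem D50034 : act 1 n24402 = n50034 := rfl
def n50035 : Q := act 7 n24402
theorem D50035 : act 7 n24402 = n50035 := rfl
theorem F79178 : act 3 n50035 = n24410 := d8_1 D50035 (iv7 D24410) (iv3 F38249)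
theorem F79179 : act 5 n50035 = n32792 := d13_1 D50035 (iv7 D32792) (iv5 F38250)
def n50036 : Q := act 6 n24403
theorem D50036 : act 6 n24403 = n50036 := rfl
theorem F79180 : act 3 n50036 = n24411 := d7_1 D50036 (iv6 D24411) (iv3 F38251)
def n50037 : Q := act 4 n24404
theorem D50037 : act 4 n24404 = n50037 := rfl
theorem F79181 : act 2 n50037 = n29264 := d1_1 D50037 F46922 (iv2 F38253)
theorem F79182 : act 7 n50037 = n29251 := d11_2 (iv7 F38255) D50037 (iv4 D29251)
theorem F79183 : act 1 n29260 = n50037 := d15_1 D29260 F79182 F46914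
theorem F79184 : act 1 n50037 = n29259 := d15_0 (iv0 D29259) D29264 (iv2 F79181)
def n50038 : Q := act 6 n24404
theorem D50038 : act 6 n24404 = n50038 := rfl
theorem F79185 : act 2 n50038 = n29268 := d3_1 D50038 (iv6 D29268) (iv2 F38253)
theorem F79186 : act 3 n50038 = n24405 := d7_1 D50038 (iv6 D24405) D24404
theorem F79187 : act 5 n50038 = n34012 := d12_1 D50038 (iv6 D34012) (iv5 D16452) (iv6 F21201) (iv5 F38254)
def n50039 : Q := act 0 n24405
theorem D50039 : act 0 n24405 = n50039 := rfl
def n50040 : Q := act 1 n24405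
theorem D50040 : act 1 n24405 = n50040 := rfl
theorem F79188 : act 1 n50040 = n34271 := d15_1 D50040 (iv7 D34271) (iv2 F38260)
def n50041 : Q := act 7 n24405
theorem D50041 : act 7 n24405 = n50041 := rfl
theorem F79189 : act 2 n50041 = n34271 := d4_1 D50041 (iv7 D34271) (iv2 F38260)
theorem F79190 : act 5 n50041 = n34017 := d13_1 D50041 (iv7 D34017) (iv5 F38261)
theorem F79191 : act 6 n50041 = n34256 := d14_1 D50041 (iv7 D34256) (iv6 D16579) (iv7 F18814) D24405
theorem F79192 : act 1 n34271 = n50039 := d15_0 (iv0 D50039) D50041 F79189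
theorem F79193 : act 1 n34270 = n50041 := d15_1 D34270 (iv7 D50041) F38260
theorem F79194 : act 1 n50041 = n34269 := d15_0 (iv0 D34269) D34271 (iv2 F79189)
def n50042 : Q := act 0 n24406
theorem D50042 : act 0 n24406 = n50042 := rfl
theorem F79195 : act 1 n49800 = n50042 := d15_0 (iv0 D50042) F38263 (iv2 F78705)
def n50043 : Q := act 1 n24406
theorem D50043 : act 1 n24406 = n50043 := rfl
def n50044 : Q := act 2 n24406
theorem D50044 : act 2 n24406 = n50044 := rfl
theorem F79197 : act 5 n50044 = n49787 := d2_2 (iv5 F38262) D50044 (iv2 F78698)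
def n50045 : Q := act 6 n24406
theorem D50045 : act 6 n24406 = n50045 := rfl
theorem F79202 : act 3 n50045 = n24407 := d7_1 D50045 (iv6 D24407) D24406
def n50046 : Q := act 5 n24407
theorem D50046 : act 5 n24407 = n50046 := rfl
theorem F79203 : act 2 n50046 = n49873 := d2_1 D50046 (iv5 D49873) (iv2 F38264)
theorem F79204 : act 6 n50046 = n49809 := d12_2 D24407 D50046 (iv5 D49809) (iv6 D24282) (iv5 F18818)
def n50047 : Q := act 7 n24407
theorem D50047 : act 7 n24407 = n50047 := rfl
theorem F79206 : act 4 n50047 = n24410 := d11_1 D50047 (iv7 D24410) (iv4 F38265)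
theorem F79207 : act 6 n50047 = n49808 := d14_1 D50047 (iv7 D49808) (iv6 D24281) F18819 D24407
theorem F79208 : act 1 n33929 = n50047 := d15_1 (iv0 F53283) (iv7 D50047) F38264
theorem F79209 : act 1 n50047 = n49872 := d15_1 F79208 F78864 F54513
def n50048 : Q := act 3 n24408
theorem D50048 : act 3 n24408 = n50048 := rfl
theorem F79210 : act 7 n50048 = n49877 := d8_2 (iv7 F44676) D50048 (iv3 D49877)
def n50049 : Q := act 4 n24408
theorem D50049 : act 4 n24408 = n50049 := rfl
theorem F79212 : act 7 n50049 = n34348 := d11_2 (iv7 F44676) D50049 F54503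
theorem F79213 : act 0 n50049 = n34350 := d18_2 D24408 D50049 F54505 F27133 (iv4 F12758) F12761 (iv4 F38268) (iv0 D15698) (iv5 F18821)
theorem F79214 : act 1 n50049 = n26722 := d18_6 (iv1 F42700) F42347 D18543 (iv4 F46233) F46234 D50049 F42837 (iv0 F25895) (iv5 D16403)
def n50050 : Q := act 6 n24408
theorem D50050 : act 6 n24408 = n50050 := rfl
theorem F79215 : act 2 n50050 = n49876 := d3_1 D50050 (iv6 D49876) F44677
theorem F79216 : act 5 n50050 = n29204 := d12_1 D50050 (iv6 F57936) F57934 (iv6 F57067) F46234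
def n50051 : Q := act 3 n24409
theorem D50051 : act 3 n24409 = n50051 := rfl
theorem F79217 : act 5 n50051 = n49026 := d6_2 F38267 D50051 F77371
theorem F79218 : act 7 n50051 = n49875 := d8_2 F44675 D50051 (iv3 D49875)
def n50052 : Q := act 4 n24409
theorem D50052 : act 4 n24409 = n50052 := rfl
theorem F79219 : act 2 n50052 = n34348 := d1_1 D50052 F54503 (iv2 F44674)
theorem F79220 : act 7 n50052 = n34347 := d11_2 F44675 D50052 F56393
theorem F79221 : act 0 n50052 = n26722 := d18_2 (iv1 F38266) D50052 F42837 F21211 F9412 D7858 (iv4 F43178) F25183 (iv5 F38105)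
theorem F79222 : act 1 n50052 = n34350 := d18_6 (iv1 F53095) F29128 F29127 (iv4 F37329) F38267 D50052 F54505 F42840 (iv5 F53089)
def n50053 : Q := act 6 n24409
theorem D50053 : act 6 n24409 = n50053 := rfl
theorem F79223 : act 2 n50053 = n49878 := d3_1 D50053 (iv6 D49878) (iv2 F44674)
theorem F79224 : act 5 n50053 = n49029 := d12_1 D50053 (iv6 D49029) (iv5 D23916) D23917 F38267
def n50054 : Q := act 6 n24410
theorem D50054 : act 6 n24410 = n50054 := rfl
theorem F79225 : act 2 n50054 = n49879 := d3_1 D50054 (iv6 D49879) (iv2 F38269)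
theorem F79226 : act 4 n50054 = n49808 := d10_1 D50054 (iv6 F79207) F79206
theorem F79227 : act 7 n50054 = n24411 := d14_2 D24410 D50054 (iv6 D24411) (iv7 D11509) D11508
theorem F79228 : act 1 n49881 = n50054 := d15_1 D49881 F79227 F38274
theorem F79229 : act 1 n50054 = n49880 := d15_0 (iv0 D49880) (iv7 F78871) (iv2 F79225)
def n50055 : Q := act 0 n24411
theorem D50055 : act 0 n24411 = n50055 := rfl
theorem F79230 : act 1 n49879 = n50055 := d15_0 (iv0 D50055) (iv7 F79227) F79225
def n50056 : Q := act 1 n24411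
theorem D50056 : act 1 n24411 = n50056 := rfl
theorem F79231 : act 1 n50056 = n49879 := d15_1 D50056 F78871 (iv2 F38274)
def n50057 : Q := act 4 n24413
theorem D50057 : act 4 n24413 = n50057 := rfl
theorem F79232 : act 2 n50057 = n28736 := d1_1 D50057 (iv4 D28736) (iv2 F38281)
theorem F79233 : act 5 n50057 = n29995 := d17_5 (iv1 D24417) (iv5 D11513) D11511 D24413 D50057 (iv0 D29995) (iv5 D14241) D14239 (iv4 F38295)
theorem F79234 : act 0 n50057 = n29948 := d18_2 F47050 D50057 (iv4 D29948) F23753 (iv4 F38920) F38921 (iv4 F38979) (iv0 F38982) (iv5 F47047)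
theorem F79235 : act 1 n50057 = n29553 := d18_6 (iv1 D3056) (iv4 F4786) D6767 F19517 D24413 D50057 (iv4 D29553) F23723 (iv5 D6775)
def n50058 : Q := act 6 n24413
theorem D50058 : act 6 n24413 = n50058 := rfl
theorem F79236 : act 2 n50058 = n28737 := d3_1 D50058 (iv6 D28737) (iv2 F38281)
theorem F79237 : act 3 n50058 = n49721 := d7_1 D50058 (iv6 D49721) (iv3 F38282)
def n50059 : Q := act 4 n24415
theorem D50059 : act 4 n24415 = n50059 := rfl
theorem F79238 : act 7 n50059 = n28736 := d11_2 (iv7 F38289) D50059 (iv4 D28736)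
theorem F79239 : act 1 n50059 = n29948 := d18_6 (iv1 F11022) (iv4 F23716) (iv1 F23718) (iv4 F22399) D24415 D50059 (iv4 D29948) (iv0 D14224) (iv5 D6771)
theorem F79240 : act 0 n50059 = n29553 := d20_1 D50059 (iv4 D29553) (iv3 D14038) (iv1 D6673) (iv3 F10842) D14034 D29539 (iv4 F77753) (iv3 F77757) F47986
theorem F79241 : act 5 n29996 = n50059 := d17_7 (iv1 F23755) (iv5 D6775) (iv1 D3056) D3057 D6779 D14241 D29996 F79239 (iv4 D29948)
def n50060 : Q := act 6 n24415
theorem D50060 : act 6 n24415 = n50060 := rfl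
theorem F79242 : act 3 n50060 = n28724 := d7_1 D50060 (iv6 D28724) (iv3 F38288)
def n50061 : Q := act 3 n24416
theorem D50061 : act 3 n24416 = n50061 := rfl
theorem F79243 : act 2 n50061 = n28176 := d0_1 D50061 (iv3 F45558) F22868 D13721 F38296
theorem F79244 : act 5 n50061 = n28866 := d6_2 F49149 D50061 F49154
theorem F79245 : act 7 n50061 = n28177 := d8_2 (iv7 F38985) D50061 F45566
theorem F79246 : act 0 n50061 = n28179 := d20_4 D6779 D14238 F46412 D50061 F45570 (iv4 F45596) (iv1 F45632) F45634 (iv3 D14235) (iv1 D6778)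
theorem F79247 : act 4 n50061 = n25780 := d20_6 D29834 F47998 (iv4 D23786) (iv3 F18830) D24416 D50061 (iv1 F40739) F40718 (iv3 F40698) (iv1 F40701)
theorem F79248 : act 0 n24850 = n50061 := d20_4 D14178 (iv1 F38931) (iv4 D24856) (iv3 F38909) (iv3 D50061) (iv4 F46412) (iv1 F48097) F48095 F23734 (iv1 F23656)
def n50062 : Q := act 6 n24416
theorem D50062 : act 6 n24416 = n50062 := rfl
theorem F79249 : act 2 n50062 = n28770 := d3_1 D50062 (iv6 D28770) F38296
theorem F79250 : act 4 n50062 = n29986 := d10_1 D50062 (iv6 D29986) F46412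
def n50063 : Q := act 6 n24417
theorem D50063 : act 6 n24417 = n50063 := rfl
theorem F79251 : act 3 n50063 = n27972 := d7_1 D50063 F45225 (iv3 F38291)
theorem F79252 : act 4 n50063 = n29989 := d10_1 D50063 (iv6 D29989) (iv4 F38295)
theorem F79253 : act 5 n50063 = n27957 := d12_1 D50063 (iv6 D27957) (iv5 D13336) D13337 F38290
def n50064 : Q := act 3 n24418
theorem D50064 : act 3 n24418 = n50064 := rfl
theorem F79254 : act 4 n50064 = n48773 := d5_2 D24418 D50064 (iv3 D48773) (iv4 D23786) (iv3 F18830)
def n50065 : Q := act 5 n24418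
theorem D50065 : act 5 n24418 = n50065 := rfl
def n50066 : Q := act 6 n24419
theorem D50066 : act 6 n24419 = n50066 := rfl
theorem F79255 : act 3 n50066 = n28849 := d7_1 D50066 (iv6 D28849) (iv3 F38297)
theorem F79256 : act 5 n50066 = n50066 := d12_1 D50066 (iv6 D50066) F38298 F18833 (iv5 F38298)
def n50067 : Q := act 3 n24420
theorem D50067 : act 3 n24420 = n50067 := rfl
def n50068 : Q := act 5 n24420
theorem D50068 : act 5 n24420 = n50068 := rfl
theorem F79257 : act 2 n50068 = n34108 := d2_1 D50068 (iv5 D34108) (iv2 F38299)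
def n50069 : Q := act 6 n24420
theorem D50069 : act 6 n24420 = n50069 := rfl
theorem F79258 : act 2 n50069 = n34109 := d3_1 D50069 (iv6 D34109) (iv2 F38299)
theorem F79259 : act 4 n50069 = n24421 := d10_1 D50069 (iv6 D24421) D24420
def n50070 : Q := act 0 n24421
theorem D50070 : act 0 n24421 = n50070 := rfl
theorem F79260 : act 6 n50070 = n30708 := d21_5 (iv5 D5372) D5370 D11518 D24421 D50070 (iv5 D30708) (iv1 D14551) (iv5 F24154) (iv6 D14510) F19436
theorem F79261 : act 5 n50070 = n30525 := d21_0 (iv1 D30525) F24125 (iv6 D7013) F11195 (iv6 F8193) (iv5 D5372) D5370 D11518 D24421 D50070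
def n50071 : Q := act 1 n24421
theorem D50071 : act 1 n24421 = n50071 := rfl
theorem F79262 : act 1 n50071 = n34112 := d15_1 D50071 (iv7 D34112) (iv2 F38300)
theorem F79263 : act 5 n30524 = n50071 := d21_0 (iv1 D50071) (iv5 F41010) (iv6 D25947) (iv1 F20433) F10975 (iv5 D5557) (iv1 F10311) D6916 D14483 D30524
def n50072 : Q := act 7 n24421
theorem D50072 : act 7 n24421 = n50072 := rfl
theorem F79264 : act 2 n50072 = n34112 := d4_1 D50072 (iv7 D34112) (iv2 F38300)
theorem F79265 : act 1 n34112 = n50070 := d15_0 (iv0 D50070) D50072 F79264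
theorem F79266 : act 1 n34111 = n50072 := d15_1 D34111 (iv7 D50072) F38300
theorem F79267 : act 1 n50072 = n34110 := d15_0 (iv0 D34110) D34112 (iv2 F79264)
def n50073 : Q := act 3 n24422
theorem D50073 : act 3 n24422 = n50073 := rfl
def n50074 : Q := act 5 n24422
theorem D50074 : act 5 n24422 = n50074 := rfl
theorem F79268 : act 2 n50074 = n34149 := d2_1 D50074 (iv5 D34149) (iv2 F38301)
def n50075 : Q := act 6 n24422
theorem D50075 : act 6 n24422 = n50075 := rfl
theorem F79269 : act 2 n50075 = n34150 := d3_1 D50075 (iv6 D34150) (iv2 F38301)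
theorem F79270 : act 4 n50075 = n24423 := d10_1 D50075 (iv6 D24423) D24422
def n50076 : Q := act 0 n24423
theorem D50076 : act 0 n24423 = n50076 := rfl
def n50077 : Q := act 1 n24423
theorem D50077 : act 1 n24423 = n50077 := rfl
theorem F79271 : act 1 n50077 = n34153 := d15_1 D50077 (iv7 D34153) (iv2 F38302)
def n50078 : Q := act 7 n24423
theorem D50078 : act 7 n24423 = n50078 := rfl
theorem F79272 : act 2 n50078 = n34153 := d4_1 D50078 (iv7 D34153) (iv2 F38302)
theorem F79273 : act 1 n34153 = n50076 := d15_0 (iv0 D50076) D50078 F79272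
theorem F79274 : act 1 n34152 = n50078 := d15_1 D34152 (iv7 D50078) F38302
theorem F79275 : act 1 n50078 = n34151 := d15_0 (iv0 D34151) D34153 (iv2 F79272)
def n50079 : Q := act 3 n24424
theorem D50079 : act 3 n24424 = n50079 := rfl
def n50080 : Q := act 5 n24424
theorem D50080 : act 5 n24424 = n50080 := rfl
theorem F79276 : act 4 n50080 = n29988 := d16_2 (iv4 F38366) D50080 (iv5 D29988) (iv4 F38295) (iv5 F38290) (iv4 F38942) F38943 (iv7 F48065) (iv2 F48063)
def n50081 : Q := act 6 n24424
theorem D50081 : act 6 n24424 = n50081 := rfl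
theorem F79277 : act 4 n50081 = n29941 := d10_1 D50081 (iv6 D29941) (iv4 F38366)
def n50082 : Q := act 3 n24425
theorem D50082 : act 3 n24425 = n50082 := rfl
def n50083 : Q := act 5 n24425
theorem D50083 : act 5 n24425 = n50083 := rfl
theorem F79278 : act 4 n50083 = n29985 := d9_1 D50083 (iv5 D29985) F46412 (iv5 F49149) F49150 F38994 (iv4 F38366) D50080 F79276 (iv5 D29988) (iv4 F38295) (iv5 F38290) (iv4 F38942) F38943 F38945
def n50084 : Q := act 6 n24425
theorem D50084 : act 6 n24425 = n50084 := rfl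
theorem F79279 : act 4 n50084 = n29943 := d10_1 D50084 (iv6 D29943) F38945
def n50085 : Q := act 0 n24426
theorem D50085 : act 0 n24426 = n50085 := rfl
def n50086 : Q := act 1 n24426
theorem D50086 : act 1 n24426 = n50086 := rfl
def n50087 : Q := act 2 n24426
theorem D50087 : act 2 n24426 = n50087 := rfl
theorem F79280 : act 4 n50087 = n49441 := d1_2 (iv4 F38303) D50087 (iv2 D49441)
theorem F79281 : act 6 n50087 = n49394 := d3_2 (iv6 F38304) D50087 (iv2 D49394)
def n50088 : Q := act 5 n24426
theorem D50088 : act 5 n24426 = n50088 := rfl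
theorem F79282 : act 3 n50088 = n24427 := d6_1 D50088 (iv5 D24427) D24426
def n50089 : Q := act 7 n24426
theorem D50089 : act 7 n24426 = n50089 := rfl
theorem F79283 : act 3 n50089 = n24428 := d8_1 D50089 (iv7 D24428) D24426
theorem F79284 : act 4 n50089 = n49443 := d11_1 D50089 (iv7 D49443) (iv4 F38303)
def n50090 : Q := act 0 n24427
theorem D50090 : act 0 n24427 = n50090 := rfl
theorem F79285 : act 5 n50090 = n29934 := d17_3 (iv1 D24425) D24427 D50090 (iv4 D29934) (iv5 D14215) (iv0 D6767) D6769 D14221 F38945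
theorem F79286 : act 4 n50090 = n29996 := d18_1 D50090 (iv1 D29996) D29997 F53630 F53626 F48074 (iv4 F38366) (iv0 D24424) D24427
def n50091 : Q := act 1 n24427
theorem D50091 : act 1 n24427 = n50091 := rfl
theorem F79287 : act 5 n50091 = n29938 := d17_7 (iv1 F23692) (iv5 D6923) F19449 D5372 D11527 D24427 D50091 F48132 (iv4 D29825)
theorem F79288 : act 4 n29995 = n50091 := d9_15 F79287 (iv4 D29938) (iv5 D14218) (iv4 F22399) D24415 D50059 (iv5 F79241) (iv4 F79286) F79285 (iv4 D29934) (iv5 D14215) F19517 D24413 D50057 F79233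
def n50092 : Q := act 4 n24427
theorem D50092 : act 4 n24427 = n50092 := rfl
def n50093 : Q := act 6 n24427
theorem D50093 : act 6 n24427 = n50093 := rfl
theorem F79289 : act 5 n50093 = n49400 := d12_1 D50093 (iv6 D49400) (iv5 D24107) (iv6 F18836) D24427
def n50094 : Q := act 7 n24427
theorem D50094 : act 7 n24427 = n50094 := rfl
theorem F79290 : act 5 n50094 = n24428 := d13_1 D50094 (iv7 D24428) D24427
def n50095 : Q := act 6 n24428
theorem D50095 : act 6 n24428 = n50095 := rfl
theorem F79291 : act 4 n50095 = n24429 := d10_1 D50095 (iv6 D24429) (iv4 F38305)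
theorem F79292 : act 7 n50095 = n49402 := d14_2 D24428 D50095 (iv6 D49402) (iv7 D24108) (iv6 F18836)
def n50096 : Q := act 4 n24430
theorem D50096 : act 4 n24430 = n50096 := rfl
theorem F79293 : act 2 n50096 = n29588 := d1_1 D50096 (iv4 D29588) (iv2 F38309)
theorem F79294 : act 7 n50096 = n30212 := d11_2 (iv7 F38311) D50096 (iv4 D30212)
theorem F79295 : act 0 n50096 = n31513 := d18_2 (iv1 F46613) D50096 (iv4 D31513) (iv5 D14845) F18972 F38568 (iv4 F40780) F40783 (iv5 F46612)
theorem F79296 : act 1 n50096 = n49723 := d18_6 (iv1 F18659) F18654 (iv1 F8922) F19543 D24430 D50096 (iv4 D49723) (iv0 D24251) (iv5 D11413)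
theorem F79297 : act 5 n49768 = n50096 := d17_7 (iv1 F38027) (iv5 D11417) (iv1 D5305) D5306 D11421 D24266 D49768 F79296 (iv4 D49723)
theorem F79298 : act 4 n29028 = n49768 := d16_2 D13814 D29028 F79297 (iv4 D50096) (iv5 D24430) (iv4 F19543) D12238 F20255 F20244
def n50097 : Q := act 6 n24430
theorem D50097 : act 6 n24430 = n50097 := rfl
theorem F79299 : act 2 n50097 = n29589 := d3_1 D50097 (iv6 D29589) (iv2 F38309)
theorem F79300 : act 3 n50097 = n30137 := d7_1 D50097 (iv6 D30137) (iv3 F38310)
theorem F79301 : act 0 n30265 = n50097 := d21_4 (iv5 F26046) (iv1 F37946) F37943 D30265 (iv6 D50097) (iv5 D24430) (iv1 D11530) D11531 (iv6 F23711) (iv1 F26044)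
def n50098 : Q := act 0 n24431
theorem D50098 : act 0 n24431 = n50098 := rfl
theorem F79302 : act 5 n50098 = n25763 := d17_1 D50098 (iv1 F40700) F23955 F11108 (iv5 F11115) F23906 (iv5 F37834) F37837 (iv4 F38314)
theorem F79303 : act 4 n50098 = n28227 := d18_1 D50098 (iv1 F45688) F24457 F23902 D29372 F47977 (iv4 D29812) F46664 F46661
theorem F79304 : act 6 n50098 = n24509 := d21_5 (iv5 F46612) (iv1 F46613) (iv5 D24430) D24431 D50098 F38483 (iv1 F38579) (iv5 D11626) D11627 D24580
theorem F79305 : act 2 n25371 = n50098 := d15_3 (iv0 D50098) (iv0 F38315) D25371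
theorem F79306 : act 1 n25369 = n50098 := d15_0 (iv0 D50098) (iv7 F78202) F78199
theorem F79307 : act 7 n50098 = n24455 := d15_2 D25369 F79306 F38380
theorem F79308 : act 3 n24444 = n50098 := d8_3 F79307 F38381 (iv7 F38345)
def n50099 : Q := act 6 n24432
theorem D50099 : act 6 n24432 = n50099 := rfl
theorem F79309 : act 2 n50099 = n30231 := d3_1 D50099 (iv6 D30231) F38320
theorem F79310 : act 3 n50099 = n25356 := d7_1 D50099 (iv6 D25356) (iv3 F38321)
theorem F79311 : act 4 n50099 = n49758 := d10_1 D50099 (iv6 D49758) (iv4 F38599)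
def n50100 : Q := act 6 n24433
theorem D50100 : act 6 n24433 = n50100 := rfl
theorem F79312 : act 3 n50100 = n25811 := d7_1 D50100 F40796 (iv3 F38317)
theorem F79313 : act 4 n50100 = n49761 := d10_1 D50100 (iv6 D49761) (iv4 F38319)
theorem F79314 : act 5 n50100 = n25797 := d12_1 D50100 (iv6 D25797) (iv5 D12249) D12250 F38316
def n50101 : Q := act 3 n24434
theorem D50101 : act 3 n24434 = n50101 := rfl
theorem F79315 : act 4 n50101 = n24450 := d5_2 D24434 D50101 (iv3 D24450) (iv4 D11549) (iv3 F18839)
def n50102 : Q := act 5 n24434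
theorem D50102 : act 5 n24434 = n50102 := rfl
def n50103 : Q := act 6 n24435
theorem D50103 : act 6 n24435 = n50103 := rfl
theorem F79316 : act 3 n50103 = n24453 := d7_1 D50103 (iv6 D24453) (iv3 F38322)
theorem F79317 : act 5 n50103 = n50103 := d12_1 D50103 (iv6 D50103) F38323 F18841 (iv5 F38323)
theorem F79318 : act 7 n50103 = n30263 := d14_2 D24435 D50103 (iv6 D30263) F23976 F23711
def n50104 : Q := act 4 n24436
theorem D50104 : act 4 n24436 = n50104 := rfl
theorem F79319 : act 2 n50104 = n50059 := d1_1 D50104 (iv4 D50059) (iv2 F38324)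
theorem F79320 : act 7 n50104 = n50057 := d11_2 (iv7 F38325) D50104 (iv4 D50057)
theorem F79321 : act 1 n50104 = n29033 := d18_6 (iv1 F11014) (iv4 F11028) F18749 (iv4 F19530) D24436 D50104 (iv4 D29033) (iv0 F23722) (iv5 D14208)
def n50105 : Q := act 6 n24436
theorem D50105 : act 6 n24436 = n50105 := rfl
theorem F79322 : act 2 n50105 = n50060 := d3_1 D50105 (iv6 D50060) (iv2 F38324)
def n50106 : Q := act 0 n24437
theorem D50106 : act 0 n24437 = n50106 := rfl
theorem F79323 : act 4 n50106 = n24444 := d18_1 D50106 (iv1 F38347) (iv4 F24307) (iv5 F26140) D34131 (iv0 F53580) (iv4 D29815) F47953 F47952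
theorem F79324 : act 3 n50106 = n28233 := d20_5 F18508 D11724 D24767 F38759 D50106 F45713 F39770 F39767 (iv3 F37830) (iv1 D24138)
theorem F79325 : act 6 n50106 = n24516 := d21_5 (iv5 F46364) (iv1 F46365) (iv5 D24436) D24437 D50106 F45186 (iv1 D27955) (iv5 D13336) D13337 (iv1 F38293)
theorem F79326 : act 2 n24485 = n50106 := d15_3 (iv0 D50106) (iv0 F38328) D24485
theorem F79327 : act 7 n50106 = n24457 := d4_2 D24485 F79326 F38392
theorem F79328 : act 1 n24484 = n50106 := d15_1 D24484 F79327 F38392
def n50107 : Q := act 7 n24437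
theorem D50107 : act 7 n24437 = n50107 := rfl
theorem F79329 : act 2 n50107 = n24484 := d4_1 D50107 F38439 (iv2 F38326)
theorem F79330 : act 3 n50107 = n28226 := d8_1 D50107 F45681 F38759
theorem F79331 : act 4 n50107 = n25213 := d11_1 D50107 F39707 (iv4 F38327)
theorem F79332 : act 5 n50107 = n49733 := d13_1 D50107 F78597 F47952
theorem F79333 : act 6 n50107 = n30847 := d14_1 D50107 F49307 (iv6 D24414) (iv7 F22878) D24437
theorem F79334 : act 1 n24457 = n50107 := d15_1 F40234 (iv7 D50107) F38326
theorem F79335 : act 1 n50107 = n24485 := d15_1 F79334 (iv7 D24485) (iv2 F38392)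
def n50108 : Q := act 6 n24439
theorem D50108 : act 6 n24439 = n50108 := rfl
theorem F79336 : act 2 n50108 = n50063 := d3_1 D50108 (iv6 D50063) (iv2 F38981)
def n50109 : Q := act 3 n24440
theorem D50109 : act 3 n24440 = n50109 := rfl
def n50110 : Q := act 5 n24440
theorem D50110 : act 5 n24440 = n50110 := rfl
theorem F79337 : act 2 n50110 = n50065 := d2_1 D50110 (iv5 D50065) (iv2 F38330)
theorem F79338 : act 4 n50110 = n50094 := d16_2 D24440 D50110 F79290 F38305 F18838 (iv4 F18832) (iv5 F38298) (iv7 D24419) (iv2 F18843)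
theorem F79339 : act 0 n50110 = n29953 := d17_2 (iv1 F38331) D50110 (iv5 D29953) (iv4 D14225) (iv5 D6771) (iv0 D3055) D3057 D6778 D14236
theorem F79340 : act 1 n50110 = n29963 := d17_6 (iv1 F46365) (iv5 D24436) (iv1 D11534) D11535 D24440 D50110 (iv5 D29963) F48153 F48152
theorem F79341 : act 7 n50092 = n50110 := d11_0 F79338 (iv7 D50094) D50092
def n50111 : Q := act 7 n24440
theorem D50111 : act 7 n24440 = n50111 := rfl
theorem F79342 : act 2 n50111 = n29970 := d4_1 D50111 F48179 (iv2 F38330)
theorem F79343 : act 4 n50111 = n24441 := d11_1 D50111 (iv7 D24441) D24440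
theorem F79344 : act 5 n50111 = n50092 := d13_1 D50111 F79341 (iv5 D50110)
theorem F79345 : act 1 n24983 = n50111 := d15_1 (iv0 F39200) (iv7 D50111) F38330
theorem F79346 : act 1 n50111 = n29923 := d15_1 F79345 F48083 (iv2 F39198)
def n50112 : Q := act 6 n24441
theorem D50112 : act 6 n24441 = n50112 := rfl
theorem F79347 : act 2 n50112 = n50066 := d3_1 D50112 (iv6 D50066) (iv2 F38333)
theorem F79348 : act 5 n50112 = n50112 := d12_1 D50112 (iv6 D50112) F38334 F18846 (iv5 F38334)
def n50113 : Q := act 3 n24442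
theorem D50113 : act 3 n24442 = n50113 := rfl
theorem F79349 : act 7 n50113 = n50067 := d8_2 (iv7 F38339) D50113 (iv3 D50067)
def n50114 : Q := act 5 n24442
theorem D50114 : act 5 n24442 = n50114 := rfl
theorem F79350 : act 2 n50114 = n30551 := d2_1 D50114 (iv5 D30551) (iv2 F38338)
theorem F79351 : act 4 n50114 = n29953 := d9_1 D50114 (iv5 D29953) (iv4 D14225) (iv5 D6771) F10313 D7673 D16516 D34108 F53523 (iv5 D29963) (iv4 D14229) (iv5 D6775) F19494 D11545 D24442
theorem F79352 : act 7 n50114 = n50068 := d13_2 (iv7 F38339) D50114 (iv5 D50068)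
theorem F79353 : act 0 n50114 = n29945 := d17_2 (iv1 F53517) D50114 (iv5 D29945) (iv4 D14222) (iv5 D6769) D6768 D14218 F48116 (iv4 F53516)
theorem F79354 : act 1 n50114 = n29997 := d17_6 F19431 F18838 (iv1 F8199) D11545 D24442 D50114 F53630 (iv0 D34147) (iv4 D16535)
def n50115 : Q := act 6 n24442
theorem D50115 : act 6 n24442 = n50115 := rfl
theorem F79355 : act 2 n50115 = n30552 := d3_1 D50115 (iv6 D30552) (iv2 F38338)
theorem F79356 : act 4 n50115 = n24443 := d10_1 D50115 (iv6 D24443) D24442
theorem F79357 : act 0 n30861 = n50115 := d21_4 D25921 (iv1 F49449) (iv5 D30860) D30861 (iv6 D50115) D50114 F79353 (iv5 D29945) (iv6 F40974) (iv1 D25919)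
def n50116 : Q := act 0 n24443
theorem D50116 : act 0 n24443 = n50116 := rfl
theorem F79358 : act 6 n50116 = n30857 := d21_5 F18838 (iv1 F8199) D11545 D24443 D50116 F49315 (iv1 F39229) F38448 (iv6 D16536) F19431
theorem F79359 : act 2 n30851 = n50116 := d15_3 (iv0 D50116) (iv0 F38341) D30851
theorem F79360 : act 7 n50116 = n25863 := d4_2 D30851 F79359 F40852
theorem E8169 : n30851 = n30553 := (c15_4 (iv0 D30553) (iv0 F40853) (iv7 F79360) (iv2 F79359))
theorem F79361 : act 2 n30553 = n50116 := (sb E8169 F79359)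
theorem F79362 : act 3 n30553 = n49418 := (sb E8169 (iv3 F78360))
theorem F79363 : act 5 n30553 = n29976 := (sb E8169 F49313)
theorem F79364 : act 7 n30553 = n14614 := (sb E8169 (iv7 D30851))
theorem F79365 : act 1 n30554 = n50116 := d15_1 F48972 F79360 F40852
def n50117 : Q := act 7 n24443
theorem D50117 : act 7 n24443 = n50117 := rfl
theorem F79366 : act 2 n50117 = n30554 := d4_1 D50117 (iv7 D30554) (iv2 F38340)
theorem F79367 : act 3 n50117 = n30683 := d8_1 D50117 F49135 F39098
theorem F79368 : act 6 n50117 = n50072 := d14_1 D50117 (iv7 D50072) (iv6 D24421) (iv7 F19500) D24443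
theorem F79369 : act 1 n25863 = n50117 := d15_1 (iv0 F40853) (iv7 D50117) F38340
theorem F79370 : act 1 n50117 = n30553 := d15_1 F79369 F79364 (iv2 F40852)
def n50118 : Q := act 3 n24446
theorem D50118 : act 3 n24446 = n50118 := rfl
theorem F79371 : act 7 n50118 = n50073 := d8_2 (iv7 F38354) D50118 (iv3 D50073)
def n50119 : Q := act 5 n24446
theorem D50119 : act 5 n24446 = n50119 := rfl
theorem F79372 : act 2 n50119 = n30591 := d2_1 D50119 (iv5 D30591) (iv2 F38353)
theorem F79373 : act 4 n50119 = n29972 := d9_1 D50119 (iv5 D29972) (iv4 D14233) (iv5 F19501) F19300 (iv5 F11932) D16535 D34149 F53635 (iv5 D29979) (iv4 D14236) (iv5 F19259) F19258 F19424 D24446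
theorem F79374 : act 7 n50119 = n50074 := d13_2 (iv7 F38354) D50119 (iv5 D50074)
def n50120 : Q := act 6 n24446
theorem D50120 : act 6 n24446 = n50120 := rfl
theorem F79375 : act 2 n50120 = n30592 := d3_1 D50120 (iv6 D30592) (iv2 F38353)
theorem F79376 : act 4 n50120 = n24447 := d10_1 D50120 (iv6 D24447) D24446
def n50121 : Q := act 0 n24447
theorem D50121 : act 0 n24447 = n50121 := rfl
def n50122 : Q := act 1 n24447
theorem D50122 : act 1 n24447 = n50122 := rfl
theorem F79377 : act 1 n50122 = n30595 := d15_1 D50122 (iv7 D30595) (iv2 F38356)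
theorem F79378 : act 5 n30965 = n50122 := d21_6 (iv5 D11603) (iv1 F20387) (iv5 D7001) D7002 D14656 D30965 (iv1 D50122) F38357 (iv6 D14536) F19425
theorem F79379 : act 0 n34177 = n30965 := d21_10 F79378 (iv1 D50122) F38357 (iv6 D14536) F19425 (iv6 F38498) (iv5 D24522) D24520 F49342 (iv6 F53739)
theorem F79380 : act 1 n24945 = n30965 := d15_0 (iv0 F79379) (iv7 D34177) (iv2 F39113)
theorem E8170 : n25106 = n24995 := ((c21_8 (iv5 F79378) (iv1 F79380) F39115 (iv6 D24099) (iv1 F18486) D14616 F24298 D24995 (iv5 F53638) F53639 (iv1 F79377))).symm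
theorem F79381 : act 3 n24995 = n11926 := (sb E8170 (iv3 D25106))
theorem F79382 : act 5 n24995 = n34153 := (sb E8170 (iv5 F53638))
theorem F79383 : act 7 n24995 = n24489 := (sb E8170 F39457)
theorem F79384 : act 6 n25923 = n50122 := d21_5 F18487 D11872 F19560 D12301 D25923 (iv5 F79378) (iv1 F79380) F39115 (iv6 D24099) (iv1 F18486)
def n50123 : Q := act 7 n24447
theorem D50123 : act 7 n24447 = n50123 := rfl
theorem F79385 : act 2 n50123 = n30595 := d4_1 D50123 (iv7 D30595) (iv2 F38356)
theorem F79386 : act 5 n50123 = n30670 := d13_1 D50123 (iv7 D30670) (iv5 F38357)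
theorem F79387 : act 6 n50123 = n50078 := d14_1 D50123 (iv7 D50078) (iv6 D24423) F19444 D24447
theorem F79388 : act 1 n30595 = n50121 := d15_0 (iv0 D50121) D50123 F79385
theorem F79389 : act 1 n30594 = n50123 := d15_1 D30594 (iv7 D50123) F38356
theorem F79390 : act 1 n50123 = n30593 := d15_0 (iv0 D30593) D30595 (iv2 F79385)
def n50124 : Q := act 3 n24448
theorem D50124 : act 3 n24448 = n50124 := rfl
theorem F79391 : act 4 n50124 = n30246 := d5_2 F48062 D50124 (iv3 D30246) (iv4 F46393) (iv3 F48064)
theorem F79392 : act 7 n50124 = n50082 := d8_2 (iv7 F38372) D50124 (iv3 D50082)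
def n50125 : Q := act 5 n24448
theorem D50125 : act 5 n24448 = n50125 := rfl
theorem F79393 : act 2 n50125 = n50080 := d2_1 D50125 (iv5 D50080) F38371
theorem F79394 : act 7 n50125 = n50083 := d13_2 (iv7 F38372) D50125 (iv5 D50083)
def n50126 : Q := act 6 n24448
theorem D50126 : act 6 n24448 = n50126 := rfl
theorem F79395 : act 2 n50126 = n50081 := d3_1 D50126 (iv6 D50081) F38371
def n50127 : Q := act 3 n24449
theorem D50127 : act 3 n24449 = n50127 := rfl
theorem F79396 : act 4 n50127 = n49932 := d5_2 (iv4 F38359) D50127 (iv3 D49932) (iv4 D24351) D24350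
theorem F79397 : act 7 n50127 = n50079 := d8_2 F38369 D50127 (iv3 D50079)
def n50128 : Q := act 5 n24449
theorem D50128 : act 5 n24449 = n50128 := rfl
theorem F79398 : act 2 n50128 = n50083 := d2_1 D50128 (iv5 D50083) (iv2 F38370)
theorem F79399 : act 7 n50128 = n50080 := d13_2 F38369 D50128 (iv5 D50080)
def n50129 : Q := act 6 n24449
theorem D50129 : act 6 n24449 = n50129 := rfl
theorem F79400 : act 2 n50129 = n50084 := d3_1 D50129 (iv6 D50084) (iv2 F38370)
theorem F79401 : act 4 n50129 = n49931 := d10_1 D50129 (iv6 D49931) (iv4 F38359)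
def n50130 : Q := act 0 n24450
theorem D50130 : act 0 n24450 = n50130 := rfl
def n50131 : Q := act 1 n24450
theorem D50131 : act 1 n24450 = n50131 := rfl
def n50132 : Q := act 2 n24450
theorem D50132 : act 2 n24450 = n50132 := rfl
theorem F79402 : act 3 n50132 = n50087 := d0_2 D24450 D50132 (iv2 D50087) (iv3 D24426) (iv2 F18853)
def n50133 : Q := act 5 n24450
theorem D50133 : act 5 n24450 = n50133 := rfl
theorem F79403 : act 3 n50133 = n24451 := d6_1 D50133 (iv5 D24451) D24450
def n50134 : Q := act 7 n24450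
theorem D50134 : act 7 n24450 = n50134 := rfl
theorem F79404 : act 3 n50134 = n24452 := d8_1 D50134 (iv7 D24452) D24450
def n50135 : Q := act 0 n24451
theorem D50135 : act 0 n24451 = n50135 := rfl
def n50136 : Q := act 1 n24451
theorem D50136 : act 1 n24451 = n50136 := rfl
theorem F79405 : act 1 n50136 = n50094 := d15_1 D50136 (iv7 D50094) (iv2 F38360)
theorem F79406 : act 5 n50136 = n49915 := d17_7 F24198 (iv5 D11545) (iv1 D5377) D5378 D11549 D24451 D50136 F78957 (iv4 D30711)
theorem F79407 : act 2 n50091 = n50136 := d2_3 F79406 F78954 (iv5 F79287)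
theorem F79408 : act 7 n50090 = n50136 := d13_0 F79406 F78955 (iv5 F79285)
theorem F79409 : act 2 n50090 = n50135 := d15_3 (iv0 D50135) D50136 (iv7 F79408)
theorem F79410 : act 7 n50135 = n50091 := d4_2 (iv7 F79408) F79409 F79407
theorem F79411 : act 1 n50094 = n50135 := d15_1 F79405 F79410 F79407
def n50137 : Q := act 4 n24451
theorem D50137 : act 4 n24451 = n50137 := rfl
theorem F79412 : act 2 n50137 = n50092 := d1_1 D50137 (iv4 D50092) (iv2 F38360)
theorem F79413 : act 5 n50137 = n29970 := d9_2 D24451 D50137 F48177 F38298 F18832 (iv5 F18838) (iv4 F38305) (iv5 F79290) (iv4 F79338) (iv5 D50110) (iv4 D24440) (iv5 D11535) F8198 D5378 D11549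
theorem F79414 : act 0 n50137 = n29963 := d18_2 (iv1 D50136) D50137 (iv4 F53523) (iv5 D34108) (iv4 D16516) F24212 D30717 (iv0 F78956) (iv5 F79406)
theorem F79415 : act 1 n50137 = n29953 := d18_6 (iv1 F53628) (iv4 D24446) (iv1 D11548) D11549 D24451 D50137 (iv4 F79351) F79354 F53630
theorem F79416 : act 7 n50137 = n50065 := d15_2 F79340 (iv0 F79414) (iv2 F79337)
def n50138 : Q := act 6 n24451
theorem D50138 : act 6 n24451 = n50138 := rfl
theorem F79417 : act 2 n50138 = n50093 := d3_1 D50138 (iv6 D50093) (iv2 F38360)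
def n50139 : Q := act 7 n24451
theorem D50139 : act 7 n24451 = n50139 := rfl
theorem F79418 : act 2 n50139 = n50094 := d4_1 D50139 (iv7 D50094) (iv2 F38360)
theorem F79419 : act 4 n50139 = n50065 := d11_1 D50139 (iv7 F79416) (iv4 D50137)
theorem F79420 : act 5 n50139 = n24452 := d13_1 D50139 (iv7 D24452) D24451
theorem F79421 : act 1 n50091 = n50139 := d15_1 D50091 (iv7 D50139) F38360
theorem F79422 : act 1 n50139 = n50090 := d15_1 F79421 F79408 (iv2 F79407)
def n50140 : Q := act 6 n24452
theorem D50140 : act 6 n24452 = n50140 := rfl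
theorem F79423 : act 2 n50140 = n50095 := d3_1 D50140 (iv6 D50095) (iv2 F38361)
theorem F79424 : act 4 n50140 = n24453 := d10_1 D50140 (iv6 D24453) (iv4 F38362)
theorem F79425 : act 7 n50140 = n30821 := d14_2 D24452 D50140 (iv6 D30821) F24251 F23713
def n50141 : Q := act 4 n24454
theorem D50141 : act 4 n24454 = n50141 := rfl
theorem F79426 : act 2 n50141 = n25367 := d1_1 D50141 (iv4 D25367) (iv2 F38376)
theorem F79427 : act 7 n50141 = n24507 := d11_2 (iv7 F38378) D50141 (iv4 D24507)
theorem F79428 : act 0 n50141 = n25260 := d18_2 (iv1 F39418) D50141 (iv4 D25260) F19831 (iv4 F22222) (iv0 F38720) F38133 (iv0 F45388) F45385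
theorem F79429 : act 1 n50141 = n25257 := d18_6 F19387 (iv4 F18641) F19392 (iv4 F18861) D24454 D50141 (iv4 D25257) (iv0 D11992) (iv5 D5662)
def n50142 : Q := act 6 n24454
theorem D50142 : act 6 n24454 = n50142 := rfl
theorem F79430 : act 2 n50142 = n25368 := d3_1 D50142 (iv6 D25368) (iv2 F38376)
theorem F79431 : act 3 n50142 = n24460 := d7_1 D50142 (iv6 D24460) (iv3 F38377)
theorem F79432 : act 5 n50142 = n29835 := d12_1 D50142 (iv6 D29835) F38385 (iv6 D24455) D24454
def n50143 : Q := act 4 n24456
theorem D50143 : act 4 n24456 = n50143 := rfl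
theorem F79433 : act 2 n50143 = n24482 := d1_1 D50143 (iv4 D24482) (iv2 F38387)
theorem F79434 : act 7 n50143 = n24512 := d11_2 (iv7 F38389) D50143 (iv4 D24512)
theorem F79435 : act 1 n50143 = n25862 := d18_6 (iv1 F10171) F4771 D5380 D11553 D24456 D50143 (iv4 D25862) F20341 (iv5 D6975)
theorem F79436 : act 0 n50143 = n25860 := d20_1 D50143 (iv4 D25860) (iv3 F20338) (iv1 D11981) (iv3 F10132) D12259 (iv1 F40792) F45678 (iv3 F49319) F49320
def n50144 : Q := act 6 n24456
theorem D50144 : act 6 n24456 = n50144 := rfl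
theorem F79437 : act 2 n50144 = n24483 := d3_1 D50144 (iv6 D24483) (iv2 F38387)
theorem F79438 : act 3 n50144 = n28231 := d7_1 D50144 (iv6 D28231) (iv3 F38388)
def n50145 : Q := act 4 n24458
theorem D50145 : act 4 n24458 = n50145 := rfl
theorem F79439 : act 2 n50145 = n24488 := d1_1 D50145 (iv4 D24488) F38397
theorem F79440 : act 7 n50145 = n24486 := d11_2 (iv7 F38396) D50145 (iv4 D24486)
theorem F79441 : act 0 n50145 = n25441 := d18_2 (iv1 F38395) D50145 (iv4 D25441) (iv5 D12093) F8825 (iv0 F10170) F4771 D5381 D11557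
theorem F79442 : act 1 n50145 = n30824 := d18_6 D28251 F45753 (iv1 F37765) (iv4 F38517) F38519 D50145 (iv4 D30824) F38830 F38827
def n50146 : Q := act 3 n24459
theorem D50146 : act 3 n24459 = n50146 := rfl
theorem F79443 : act 7 n50146 = n24517 := d8_2 (iv7 F38399) D50146 (iv3 D24517)
def n50147 : Q := act 5 n24459
theorem D50147 : act 5 n24459 = n50147 := rfl
theorem F79444 : act 2 n50147 = n24493 := d2_1 D50147 (iv5 D24493) (iv2 F38398)
theorem F79445 : act 7 n50147 = n24518 := d13_2 (iv7 F38399) D50147 (iv5 D24518)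
def n50148 : Q := act 6 n24459
theorem D50148 : act 6 n24459 = n50148 := rfl
theorem F79446 : act 2 n50148 = n24494 := d3_1 D50148 (iv6 D24494) (iv2 F38398)
theorem F79447 : act 4 n50148 = n24460 := d10_1 D50148 (iv6 D24460) D24459
def n50149 : Q := act 0 n24460
theorem D50149 : act 0 n24460 = n50149 := rfl
theorem F79448 : act 5 n50149 = n29956 := d21_0 (iv1 D29956) (iv5 F39163) (iv6 D24963) (iv1 D11854) F8482 (iv5 D5382) D5380 D11554 D24460 D50149
def n50150 : Q := act 1 n24460
theorem D50150 : act 1 n24460 = n50150 := rfl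
theorem F79449 : act 1 n50150 = n24498 := d15_1 D50150 (iv7 D24498) (iv2 F38400)
theorem F79450 : act 5 n29955 = n50150 := d21_0 (iv1 D50150) F38401 (iv6 D14179) (iv1 D6747) (iv6 F4788) (iv5 D3057) D3055 D6771 D14226 D29955
theorem F79451 : act 6 n29808 = n29955 := d21_5 (iv5 D3032) D3030 D6739 D14164 D29808 F79450 (iv1 D50150) F38401 (iv6 D14179) (iv1 D6747)
def n50151 : Q := act 7 n24460
theorem D50151 : act 7 n24460 = n50151 := rfl
theorem F79452 : act 2 n50151 = n24498 := d4_1 D50151 (iv7 D24498) (iv2 F38400)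
theorem F79453 : act 5 n50151 = n29841 := d13_1 D50151 (iv7 D29841) (iv5 F38401)
theorem F79454 : act 6 n50151 = n24523 := d14_1 D50151 (iv7 D24523) (iv6 D11600) (iv7 F18932) D24460
theorem F79455 : act 1 n24498 = n50149 := d15_0 (iv0 D50149) D50151 F79452
theorem F79456 : act 1 n24496 = n50151 := d15_1 D24496 (iv7 D50151) F38400
theorem F79457 : act 1 n50151 = n24495 := d15_0 (iv0 D24495) D24498 (iv2 F79452)
def n50152 : Q := act 3 n24461
theorem D50152 : act 3 n24461 = n50152 := rfl
theorem F79458 : act 7 n50152 = n24492 := d8_2 (iv7 F38403) D50152 (iv3 D24492)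
def n50153 : Q := act 5 n24461
theorem D50153 : act 5 n24461 = n50153 := rfl
theorem F79459 : act 2 n50153 = n24518 := d2_1 D50153 (iv5 D24518) (iv2 F38402)
theorem F79460 : act 7 n50153 = n24493 := d13_2 (iv7 F38403) D50153 (iv5 D24493)
def n50154 : Q := act 6 n24461
theorem D50154 : act 6 n24461 = n50154 := rfl
theorem F79461 : act 2 n50154 = n24519 := d3_1 D50154 (iv6 D24519) (iv2 F38402)
theorem F79462 : act 4 n50154 = n24462 := d10_1 D50154 (iv6 D24462) D24461
def n50155 : Q := act 0 n24462
theorem D50155 : act 0 n24462 = n50155 := rfl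
theorem F79463 : act 2 n24520 = n50155 := d15_3 (iv0 D50155) (iv0 F39189) (iv7 F49344)
theorem F79464 : act 7 n50155 = n24521 := d4_2 (iv7 F49344) F79463 (iv2 F39186)
theorem F79465 : act 1 n24523 = n50155 := d15_1 F39190 F79464 (iv2 F39186)
def n50156 : Q := act 7 n24462
theorem D50156 : act 7 n24462 = n50156 := rfl
theorem F79466 : act 2 n50156 = n24523 := d4_1 D50156 (iv7 D24523) (iv2 F38404)
theorem F79467 : act 5 n50156 = n30677 := d13_1 D50156 (iv7 D30677) (iv5 F38405)
theorem F79468 : act 6 n50156 = n24498 := d14_1 D50156 (iv7 D24498) (iv6 D11583) (iv7 F18922) D24462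
theorem F79469 : act 1 n24521 = n50156 := d15_1 D24521 (iv7 D50156) F38404
theorem F79470 : act 1 n50156 = n24520 := d15_1 F79469 F49344 F39186
def n50157 : Q := act 6 n24463
theorem D50157 : act 6 n24463 = n50157 := rfl
theorem F79471 : act 2 n50157 = n25373 := d3_1 D50157 (iv6 D25373) (iv2 F38407)
theorem F79472 : act 3 n50157 = n24465 := d7_1 D50157 (iv6 D24465) D24463
theorem F79473 : act 5 n50157 = n30881 := d12_1 D50157 F49332 F46616 D30714 F49170
def n50158 : Q := act 3 n24464
theorem D50158 : act 3 n24464 = n50158 := rfl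
theorem F79474 : act 7 n50158 = n24542 := d8_2 (iv7 F38411) D50158 (iv3 D24542)
def n50159 : Q := act 5 n24464
theorem D50159 : act 5 n24464 = n50159 := rfl
theorem F79475 : act 2 n50159 = n24531 := d2_1 D50159 (iv5 D24531) (iv2 F38410)
theorem F79476 : act 7 n50159 = n24543 := d13_2 (iv7 F38411) D50159 (iv5 D24543)
def n50160 : Q := act 6 n24464
theorem D50160 : act 6 n24464 = n50160 := rfl
theorem F79477 : act 2 n50160 = n24532 := d3_1 D50160 (iv6 D24532) (iv2 F38410)
theorem F79478 : act 4 n50160 = n24465 := d10_1 D50160 (iv6 D24465) D24464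
def n50161 : Q := act 0 n24465
theorem D50161 : act 0 n24465 = n50161 := rfl
def n50162 : Q := act 1 n24465
theorem D50162 : act 1 n24465 = n50162 := rfl
theorem F79479 : act 1 n50162 = n24538 := d15_1 D50162 (iv7 D24538) (iv2 F38412)
def n50163 : Q := act 7 n24465
theorem D50163 : act 7 n24465 = n50163 := rfl
theorem F79480 : act 2 n50163 = n24538 := d4_1 D50163 (iv7 D24538) (iv2 F38412)
theorem F79481 : act 5 n50163 = n30831 := d13_1 D50163 F49267 (iv5 F38413)
theorem F79482 : act 6 n50163 = n24549 := d14_1 D50163 (iv7 D24549) (iv6 D11614) (iv7 F22927) D24465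
theorem F79483 : act 1 n24538 = n50161 := d15_0 (iv0 D50161) D50163 F79480
theorem F79484 : act 1 n24536 = n50163 := d15_1 D24536 (iv7 D50163) F38412
theorem F79485 : act 1 n50163 = n24535 := d15_0 (iv0 D24535) D24538 (iv2 F79480)
def n50164 : Q := act 3 n24466
theorem D50164 : act 3 n24466 = n50164 := rfl
theorem F79486 : act 4 n50164 = n28009 := d5_2 D24466 D50164 (iv3 D28009) (iv4 F36860) F36858
theorem F79487 : act 7 n50164 = n24530 := d8_2 (iv7 F38415) D50164 (iv3 D24530)
def n50165 : Q := act 5 n24466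
theorem D50165 : act 5 n24466 = n50165 := rfl
theorem F79488 : act 2 n50165 = n24543 := d2_1 D50165 (iv5 D24543) (iv2 F38414)
theorem F79489 : act 7 n50165 = n24531 := d13_2 (iv7 F38415) D50165 (iv5 D24531)
def n50166 : Q := act 6 n24466
theorem D50166 : act 6 n24466 = n50166 := rfl
theorem F79490 : act 2 n50166 = n24544 := d3_1 D50166 (iv6 D24544) (iv2 F38414)
theorem F79491 : act 4 n50166 = n24467 := d10_1 D50166 (iv6 D24467) D24466
def n50167 : Q := act 0 n24467
theorem D50167 : act 0 n24467 = n50167 := rfl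
def n50168 : Q := act 1 n24467
theorem D50168 : act 1 n24467 = n50168 := rfl
theorem F79492 : act 1 n50168 = n24549 := d15_1 D50168 (iv7 D24549) (iv2 F38416)
def n50169 : Q := act 7 n24467
theorem D50169 : act 7 n24467 = n50169 := rfl
theorem F79493 : act 2 n50169 = n24549 := d4_1 D50169 (iv7 D24549) (iv2 F38416)
theorem F79494 : act 5 n50169 = n29810 := d13_1 D50169 (iv7 D29810) (iv5 F38417)
theorem F79495 : act 6 n50169 = n24538 := d14_1 D50169 (iv7 D24538) (iv6 D11609) (iv7 F22924) D24467
theorem F79496 : act 1 n24549 = n50167 := d15_0 (iv0 D50167) D50169 F79493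
theorem F79497 : act 1 n24547 = n50169 := d15_1 D24547 (iv7 D50169) F38416
theorem F79498 : act 5 n24547 = n29982 := d21_0 (iv1 D29982) (iv5 F39147) (iv6 D24956) F19256 (iv6 F24303) (iv5 D14624) D14622 (iv5 F49270) (iv6 F79495) (iv1 F79497)
theorem F79499 : act 6 n25003 = n24547 := d21_5 (iv5 D6987) D6985 F19279 D11876 D25003 F79498 (iv1 D29982) (iv5 F39147) (iv6 D24956) F19256
theorem F79500 : act 6 n29831 = n29982 := d21_5 F23416 F23693 F23660 D14176 D29831 (iv5 F79498) (iv1 D24547) D24548 F38543 F23646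
theorem F79501 : act 1 n50169 = n24546 := d15_0 (iv0 D24546) D24549 (iv2 F79493)
def n50170 : Q := act 3 n24468
theorem D50170 : act 3 n24468 = n50170 := rfl
theorem F79502 : act 4 n50170 = n25423 := d5_2 (iv4 F38418) D50170 (iv3 D25423) F20002 D13412
theorem F79503 : act 7 n50170 = n24554 := d8_2 F38419 D50170 (iv3 D24554)
def n50171 : Q := act 5 n24468
theorem D50171 : act 5 n24468 = n50171 := rfl
theorem F79504 : act 2 n50171 = n24552 := d2_1 D50171 (iv5 D24552) (iv2 F38421)
theorem F79505 : act 7 n50171 = n24555 := d13_2 F38419 D50171 (iv5 D24555)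
theorem F79506 : act 4 n50171 = n31041 := d16_2 (iv4 F38418) D50171 (iv5 D31041) (iv4 D14685) (iv5 F19225) (iv4 F38900) (iv5 F48111) F48110 F38544
def n50172 : Q := act 6 n24468
theorem D50172 : act 6 n24468 = n50172 := rfl
theorem F79507 : act 2 n50172 = n24553 := d3_1 D50172 (iv6 D24553) (iv2 F38421)
theorem F79508 : act 4 n50172 = n28092 := d10_1 D50172 (iv6 D28092) (iv4 F38418)
def n50173 : Q := act 3 n24469
theorem D50173 : act 3 n24469 = n50173 := rfl
theorem F79509 : act 7 n50173 = n24550 := d8_2 (iv7 F38423) D50173 (iv3 D24550)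
def n50174 : Q := act 5 n24469
theorem D50174 : act 5 n24469 = n50174 := rfl
theorem F79510 : act 2 n50174 = n24555 := d2_1 D50174 (iv5 D24555) F38424
theorem F79511 : act 4 n50174 = n25921 := d9_1 D50174 (iv5 D25921) (iv4 D12300) (iv5 F19560) (iv4 F24596) F24597 (iv4 F38418) D50171 F79506 (iv5 D31041) (iv4 D14685) (iv5 F19225) (iv4 F38900) (iv5 F48111) (iv4 F48114)
theorem F79512 : act 7 n50174 = n24552 := d13_2 (iv7 F38423) D50174 (iv5 D24552)
def n50175 : Q := act 6 n24469
theorem D50175 : act 6 n24469 = n50175 := rfl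
theorem F79513 : act 2 n50175 = n24556 := d3_1 D50175 (iv6 D24556) F38424
def n50176 : Q := act 0 n24470
theorem D50176 : act 0 n24470 = n50176 := rfl
def n50177 : Q := act 1 n24470
theorem D50177 : act 1 n24470 = n50177 := rfl
def n50178 : Q := act 2 n24470
theorem D50178 : act 2 n24470 = n50178 := rfl
theorem F79514 : act 3 n50178 = n24559 := d0_2 D24470 D50178 (iv2 D24559) (iv3 D11617) (iv2 F18869)
def n50179 : Q := act 5 n24470
theorem D50179 : act 5 n24470 = n50179 := rfl
theorem F79515 : act 3 n50179 = n24471 := d6_1 D50179 (iv5 D24471) D24470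
def n50180 : Q := act 7 n24470
theorem D50180 : act 7 n24470 = n50180 := rfl
theorem F79516 : act 3 n50180 = n24472 := d8_1 D50180 (iv7 D24472) D24470
def n50181 : Q := act 0 n24471
theorem D50181 : act 0 n24471 = n50181 := rfl
theorem F79517 : act 5 n50181 = n25441 := d17_3 (iv1 D24469) D24471 D50181 (iv4 D25441) (iv5 D12093) F19396 D14214 D29931 (iv4 F48114)
theorem F79518 : act 1 n24566 = n50181 := d15_0 (iv0 D50181) (iv7 F78124) F78120
theorem F79519 : act 2 n24562 = n50181 := d2_3 F79517 (iv2 F78061) (iv5 F78065)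
theorem F79520 : act 7 n24563 = n50181 := d13_0 F79517 F40221 (iv5 F38551)
theorem F79521 : act 4 n30829 = n50181 := d16_0 F79517 (iv4 D25441) (iv5 D12093) F8825 D5823 D12276 D25867 F40867 (iv2 F49261)
def n50182 : Q := act 1 n24471
theorem D50182 : act 1 n24471 = n50182 := rfl
theorem F79522 : act 1 n50182 = n24566 := d15_1 D50182 (iv7 D24566) (iv2 F38425)
theorem F79523 : act 7 n50182 = n24562 := d15_2 (iv0 D50181) D50182 F79519
theorem F79524 : act 5 n50182 = n30824 := d17_7 (iv1 F19601) (iv5 D11557) (iv1 D5381) D5382 D11561 D24471 D50182 F49247 (iv4 D25058)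
theorem F79525 : act 2 n24563 = n50182 := d2_3 F79524 F49246 (iv5 F38551)
theorem F79526 : act 4 n25867 = n50182 := d9_15 F79524 (iv4 D30824) (iv5 D14596) (iv4 D6974) D6975 D14598 D30829 F79521 F79517 (iv4 D25441) (iv5 D12093) F8825 D5823 D12276 D25867
def n50183 : Q := act 6 n24471
theorem D50183 : act 6 n24471 = n50183 := rfl
theorem F79527 : act 2 n50183 = n24565 := d3_1 D50183 (iv6 D24565) (iv2 F38425)
def n50184 : Q := act 6 n24472
theorem D50184 : act 6 n24472 = n50184 := rfl
theorem F79528 : act 2 n50184 = n24567 := d3_1 D50184 (iv6 D24567) (iv2 F38426)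
theorem F79529 : act 4 n50184 = n24473 := d10_1 D50184 (iv6 D24473) (iv4 F38427)
def n50185 : Q := act 1 n24475
theorem D50185 : act 1 n24475 = n50185 := rfl
theorem F79530 : act 1 n50185 = n25379 := d15_1 D50185 (iv7 F45201) F45200
theorem F79531 : act 7 n50185 = n27963 := d15_2 (iv0 F38771) D50185 F45213
theorem F79532 : act 4 n50185 = n25215 := d18_7 (iv1 D6322) F4256 D6321 (iv4 F9860) D11572 D24475 D50185 F39715 (iv5 D13330)
theorem F79533 : act 2 n25216 = n50185 := d1_3 F79532 (iv2 D25215) D25216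
def n50186 : Q := act 3 n24475
theorem D50186 : act 3 n24475 = n50186 := rfl
theorem F79534 : act 4 n50186 = n24492 := d5_2 D24475 D50186 (iv3 D24492) (iv4 D11582) (iv3 F18883)
def n50187 : Q := act 5 n24475
theorem D50187 : act 5 n24475 = n50187 := rfl
theorem F79535 : act 2 n50187 = n28017 := d2_1 D50187 F45279 F45200
theorem F79536 : act 7 n50187 = n28018 := d13_2 F45245 D50187 F45281
theorem F79537 : act 0 n50187 = n28021 := d17_2 (iv1 D50185) D50187 F45289 F22238 F9866 F9858 D13327 F39716 (iv4 F79532)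
theorem F79538 : act 1 n50187 = n27952 := d17_6 (iv1 D12070) (iv5 D5716) (iv1 F22454) D11572 D24475 D50187 (iv5 D27952) (iv0 F40151) (iv4 D25384)
def n50188 : Q := act 6 n24475
theorem D50188 : act 6 n24475 = n50188 := rfl
theorem F79539 : act 4 n50188 = n24476 := d10_1 D50188 (iv6 D24476) D24475
def n50189 : Q := act 0 n24476
theorem D50189 : act 0 n24476 = n50189 := rfl
theorem F79540 : act 5 n50189 = n49190 := d21_0 (iv1 D49190) F37523 (iv6 D12086) (iv1 D5724) (iv6 F8818) (iv5 D5716) (iv1 F22454) D11572 D24476 D50189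
theorem F79541 : act 6 n25396 = n50189 := d21_5 (iv5 D2394) D2392 D5718 D12075 D25396 F79540 (iv1 D49190) F37523 (iv6 D12086) (iv1 D5724)
def n50190 : Q := act 1 n24476
theorem D50190 : act 1 n24476 = n50190 := rfl
theorem F79542 : act 5 n49189 = n50190 := d21_0 (iv1 D50190) (iv5 F48372) (iv6 D30102) (iv1 D14288) F11067 (iv5 D5220) (iv1 F10228) D11257 D24002 D49189
def n50191 : Q := act 7 n24476
theorem D50191 : act 7 n24476 = n50191 := rfl
theorem F79543 : act 3 n50191 = n24498 := d8_1 D50191 (iv7 D24498) (iv3 F38433)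
def n50192 : Q := act 6 n24479
theorem D50192 : act 6 n24479 = n50192 := rfl
theorem F79544 : act 2 n50192 = n31345 := d3_1 D50192 (iv6 D31345) (iv2 F38434)
theorem F79545 : act 5 n50192 = n50192 := d12_1 D50192 (iv6 D50192) (iv5 D24479) F19342 D24479
def n50193 : Q := act 3 n24480
theorem D50193 : act 3 n24480 = n50193 := rfl
theorem F79546 : act 2 n50193 = n26069 := d0_1 D50193 (iv3 D26069) F22180 D14785 F40861
theorem F79547 : act 5 n50193 = n25284 := d6_2 F45741 D50193 (iv3 F45739)
theorem F79548 : act 7 n50193 = n28223 := d8_2 F49317 D50193 (iv3 F49319)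
theorem F79549 : act 0 n50193 = n24503 := d20_4 D12276 D25864 F40855 D50193 F38468 D28212 F48698 (iv4 D30282) (iv3 F24011) (iv1 D12275)
theorem F79550 : act 4 n50193 = n49450 := d20_6 D30678 (iv1 F76799) (iv4 D48775) F37066 D24480 D50193 (iv1 F78184) (iv4 D25786) (iv3 F37859) (iv1 F38580)
theorem F79551 : act 0 n25365 = n50193 := d20_4 D14543 (iv1 F49128) (iv4 F49130) (iv3 F40100) (iv3 D50193) (iv4 F40855) (iv1 F40854) (iv4 D14598) (iv3 F19306) (iv1 F19308)
def n50194 : Q := act 6 n24480
theorem D50194 : act 6 n24480 = n50194 := rfl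
theorem F79552 : act 2 n50194 = n31359 := d3_1 D50194 (iv6 D31359) F40861
def n50195 : Q := act 6 n24481
theorem D50195 : act 6 n24481 = n50195 := rfl
theorem F79553 : act 3 n50195 = n26068 := d7_1 D50195 (iv6 D26068) F40858
theorem F79554 : act 5 n50195 = n28770 := d12_1 D50195 (iv6 D28770) (iv5 F45192) F47961 F47959
theorem F79555 : act 0 n50195 = n49916 := d21_4 F49182 F49181 F47959 D50195 (iv6 D49916) (iv5 D24341) (iv1 F18750) D14206 (iv6 F38278) F48866
def n50196 : Q := act 3 n24482
theorem D50196 : act 3 n24482 = n50196 := rfl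
def n50197 : Q := act 6 n24482
theorem D50197 : act 6 n24482 = n50197 := rfl
theorem F79556 : act 4 n50197 = n24483 := d10_1 D50197 (iv6 D24483) D24482
def n50198 : Q := act 0 n24483
theorem D50198 : act 0 n24483 = n50198 := rfl
def n50199 : Q := act 1 n24483
theorem D50199 : act 1 n24483 = n50199 := rfl
def n50200 : Q := act 7 n24483
theorem D50200 : act 7 n24483 = n50200 := rfl
def n50201 : Q := act 3 n24486
theorem D50201 : act 3 n24486 = n50201 := rfl
def n50202 : Q := act 5 n24486
theorem D50202 : act 5 n24486 = n50202 := rfl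
theorem F79557 : act 4 n50202 = n30849 := d16_2 D24486 D50202 (iv5 D30849) (iv4 D14612) D14613 F24287 F19770 F19599 F19595
theorem F79558 : act 0 n50202 = n50171 := d17_2 F78066 D50202 (iv5 D50171) F38418 (iv5 F24597) F38446 (iv5 F37740) F37739 D49373
theorem F79559 : act 1 n50202 = n50174 := d17_6 (iv1 F18867) (iv5 F18868) (iv1 F19774) (iv5 F19313) D24486 D50202 (iv5 D50174) F38422 F18958
def n50203 : Q := act 6 n24486
theorem D50203 : act 6 n24486 = n50203 := rfl
theorem F79560 : act 4 n50203 = n24487 := d10_1 D50203 (iv6 D24487) D24486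
def n50204 : Q := act 0 n24487
theorem D50204 : act 0 n24487 = n50204 := rfl
def n50205 : Q := act 1 n24487
theorem D50205 : act 1 n24487 = n50205 := rfl
def n50206 : Q := act 7 n24487
theorem D50206 : act 7 n24487 = n50206 := rfl
def n50207 : Q := act 3 n24488
theorem D50207 : act 3 n24488 = n50207 := rfl
theorem F79561 : act 4 n50207 = n24595 := d5_2 D24488 D50207 (iv3 D24595) (iv4 D11636) (iv3 F19598)
def n50208 : Q := act 5 n24488
theorem D50208 : act 5 n24488 = n50208 := rfl
theorem F79562 : act 4 n50208 = n30853 := d9_1 D50208 (iv5 D30853) (iv4 D14615) F18487 (iv4 F19312) (iv5 F19313) D24486 D50202 F79557 (iv5 D30849) (iv4 D14612) D14613 F24287 F19770 D24488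
theorem F79563 : act 0 n50208 = n50174 := d17_2 F38445 D50208 (iv5 D50174) F48114 F48111 F38902 F38859 (iv0 D14604) D14606
theorem F79564 : act 1 n50208 = n50171 := d17_6 D11559 F24217 F24216 F19770 D24488 D50208 (iv5 D50171) (iv0 D24468) (iv4 D11561)
def n50209 : Q := act 6 n24488
theorem D50209 : act 6 n24488 = n50209 := rfl
theorem F79565 : act 4 n50209 = n24489 := d10_1 D50209 (iv6 D24489) D24488
def n50210 : Q := act 3 n24490
theorem D50210 : act 3 n24490 = n50210 := rfl
def n50211 : Q := act 5 n24490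
theorem D50211 : act 5 n24490 = n50211 := rfl
theorem F79566 : act 4 n50211 = n31055 := d16_2 (iv4 F38828) D50211 F49465 F40857 (iv5 F47959) F47958 F40219 F40217 F38832
theorem F79567 : act 0 n50211 = n50159 := d17_2 D24490 D50211 (iv5 D50159) (iv4 D24464) F24217 (iv0 F24218) (iv5 F19313) (iv0 D11580) D11582
theorem F79568 : act 1 n50211 = n50165 := d17_6 F37369 F37366 (iv1 F38831) (iv5 F38827) (iv4 F38828) D50211 (iv5 D50165) (iv0 F49280) (iv4 D30834)
def n50212 : Q := act 6 n24490
theorem D50212 : act 6 n24490 = n50212 := rfl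
def n50213 : Q := act 3 n24491
theorem D50213 : act 3 n24491 = n50213 := rfl
def n50214 : Q := act 5 n24491
theorem D50214 : act 5 n24491 = n50214 := rfl
theorem F79569 : act 4 n50214 = n31054 := d9_1 D50214 F49461 F40855 (iv5 F45741) F45740 (iv5 F38827) (iv4 F38828) D50211 F79566 F49465 F40857 (iv5 F47959) F47958 F40219 (iv4 F40220)
theorem F79570 : act 0 n50214 = n50165 := d17_2 (iv1 F38450) D50214 (iv5 D50165) (iv4 D24466) (iv5 F18868) (iv0 F19773) F19770 F18892 D11599
theorem F79571 : act 1 n50214 = n50159 := d17_6 (iv1 F38545) (iv5 F45754) (iv1 F45756) F40219 (iv4 F40220) D50214 (iv5 D50159) (iv0 F48108) (iv4 D29930)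
def n50215 : Q := act 6 n24491
theorem D50215 : act 6 n24491 = n50215 := rfl
def n50216 : Q := act 0 n24492
theorem D50216 : act 0 n24492 = n50216 := rfl
def n50217 : Q := act 1 n24492
theorem D50217 : act 1 n24492 = n50217 := rfl
def n50218 : Q := act 2 n24492
theorem D50218 : act 2 n24492 = n50218 := rfl
def n50219 : Q := act 5 n24492
theorem D50219 : act 5 n24492 = n50219 := rfl
theorem F79572 : act 3 n50219 = n24493 := d6_1 D50219 (iv5 D24493) D24492
def n50220 : Q := act 6 n24492
theorem D50220 : act 6 n24492 = n50220 := rfl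
theorem F79573 : act 3 n50220 = n24494 := d7_1 D50220 (iv6 D24494) D24492
def n50221 : Q := act 0 n24493
theorem D50221 : act 0 n24493 = n50221 := rfl
theorem F79574 : act 5 n50221 = n24528 := d17_1 D50221 (iv1 F38513) D24543 (iv4 F78106) (iv5 D49387) (iv0 D24104) D24107 D49398 (iv4 F78119)
theorem F79575 : act 1 n24518 = n50221 := d15_0 (iv0 D50221) (iv7 F79460) F79459
def n50222 : Q := act 1 n24493
theorem D50222 : act 1 n24493 = n50222 := rfl
theorem F79576 : act 1 n50222 = n24518 := d15_1 D50222 (iv7 F79445) F79444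
theorem F79577 : act 5 n50222 = n24529 := d17_7 (iv1 D5395) (iv5 D2218) D2216 D5387 D11582 D24493 D50222 F38514 (iv4 D11612)
def n50223 : Q := act 6 n24493
theorem D50223 : act 6 n24493 = n50223 := rfl
def n50224 : Q := act 0 n24494
theorem D50224 : act 0 n24494 = n50224 := rfl
def n50225 : Q := act 1 n24494
theorem D50225 : act 1 n24494 = n50225 := rfl
def n50226 : Q := act 5 n24494
theorem D50226 : act 5 n24494 = n50226 := rfl
def n50227 : Q := act 7 n24494
theorem D50227 : act 7 n24494 = n50227 := rfl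
theorem F79578 : act 4 n50227 = n24498 := d11_1 D50227 (iv7 D24498) (iv4 F38451)
def n50228 : Q := act 2 n24495
theorem D50228 : act 2 n24495 = n50228 := rfl
theorem F79579 : act 7 n24496 = n50228 := d15_2 (iv0 D24495) D24496 (iv2 D50228)
def n50229 : Q := act 3 n24495
theorem D50229 : act 3 n24495 = n50229 := rfl
def n50230 : Q := act 4 n24495
theorem D50230 : act 4 n24495 = n50230 := rfl
def n50231 : Q := act 5 n24495
theorem D50231 : act 5 n24495 = n50231 := rfl
theorem F79580 : act 0 n50231 = n25014 := d21_1 D50231 (iv5 D25014) (iv6 D11880) (iv1 D5573) F3671 (iv5 D2218) D2216 D5387 D11583 D24495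
theorem F79581 : act 6 n24979 = n24495 := d21_5 (iv5 D2312) D2310 D5565 D11860 D24979 D50231 F79580 (iv5 D25014) (iv6 D11880) (iv1 D5573)
theorem F79582 : act 1 n50231 = n29957 := d15_1 (iv0 F79580) (iv7 D29957) (iv2 F39247)
def n50232 : Q := act 7 n24495
theorem D50232 : act 7 n24495 = n50232 := rfl
theorem F79583 : act 2 n50232 = n24496 := d4_1 D50232 F79579 (iv2 D50228)
def n50233 : Q := act 3 n24496
theorem D50233 : act 3 n24496 = n50233 := rfl
def n50234 : Q := act 4 n24496
theorem D50234 : act 4 n24496 = n50234 := rfl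
def n50235 : Q := act 5 n24496
theorem D50235 : act 5 n24496 = n50235 := rfl
theorem F79584 : act 0 n25014 = n50235 := d21_10 (iv5 D50235) (iv1 D24496) D24497 F38453 F18896 (iv6 F11017) (iv5 D6763) D6761 D14208 (iv6 F39248)
def n50236 : Q := act 6 n24496
theorem D50236 : act 6 n24496 = n50236 := rfl
def n50237 : Q := act 0 n24497
theorem D50237 : act 0 n24497 = n50237 := rfl
def n50238 : Q := act 1 n24497
theorem D50238 : act 1 n24497 = n50238 := rfl
def n50239 : Q := act 4 n24497
theorem D50239 : act 4 n24497 = n50239 := rfl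
theorem F79586 : act 2 n50239 = n29838 := d1_1 D50239 F48001 (iv2 F38452)
theorem F79587 : act 6 n50239 = n24499 := d10_2 (iv6 F38453) D50239 (iv4 D24499)
def n50240 : Q := act 7 n24497
theorem D50240 : act 7 n24497 = n50240 := rfl
theorem F79588 : act 2 n50240 = n29841 := d4_1 D50240 (iv7 D29841) (iv2 F38452)
theorem F79589 : act 5 n50240 = n24498 := d13_1 D50240 (iv7 D24498) D24497
theorem F79590 : act 6 n50240 = n29833 := d14_1 D50240 (iv7 D29833) (iv6 D14176) F23659 (iv6 F38453)
theorem F79591 : act 1 n29841 = n50237 := d15_0 (iv0 D50237) D50240 F79588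
theorem F79592 : act 1 n29840 = n50240 := d15_1 D29840 (iv7 D50240) F38452
theorem F79593 : act 5 n29840 = n25013 := d21_0 (iv1 D25013) D25014 F39248 F23722 D29034 F46678 D34137 (iv5 F53595) (iv6 F79590) (iv1 F79592)
theorem F79594 : act 6 n29974 = n29840 := d21_5 F23076 F19993 F19501 D14234 D29974 F79593 (iv1 D25013) D25014 F39248 F23722
theorem F79595 : act 6 n25013 = n24535 := d21_9 F79481 (iv1 F49265) (iv5 F49339) (iv6 F49343) (iv1 F79470) F79468 (iv5 F79589) (iv1 F79592) F79593 (iv1 F79485)
theorem F79596 : act 1 n50240 = n29839 := d15_0 (iv0 D29839) D29841 (iv2 F79588)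
theorem F79597 : act 5 n25012 = n29839 := d21_0 (iv1 F79596) F79589 (iv6 F79468) (iv1 F79469) F39143 F39140 (iv1 F24264) F24206 D11880 D25012
def n50241 : Q := act 1 n24499
theorem D50241 : act 1 n24499 = n50241 := rfl
theorem F79598 : act 1 n50241 = n29784 := d15_1 D50241 F47916 (iv2 F38454)
theorem F79599 : act 7 n50241 = n24856 := d15_2 F38905 D50241 F38928
theorem F79600 : act 4 n50241 = n24857 := d18_7 (iv1 F78073) F40224 (iv1 D24484) F18888 D11587 D24499 D50241 F38935 (iv5 F78071)
theorem F79601 : act 2 n29827 = n50241 := d1_3 F79600 F38932 (iv4 F47994)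
def n50242 : Q := act 3 n24499
theorem D50242 : act 3 n24499 = n50242 := rfl
theorem F79602 : act 4 n50242 = n28788 := d5_2 D24499 D50242 (iv3 D28788) (iv4 F23843) F23841
theorem F79603 : act 7 n50242 = n29828 := d8_2 (iv7 F38455) D50242 (iv3 D29828)
def n50243 : Q := act 5 n24499
theorem D50243 : act 5 n24499 = n50243 := rfl
theorem F79604 : act 2 n50243 = n29837 := d2_1 D50243 (iv5 D29837) (iv2 F38454)
theorem F79605 : act 7 n50243 = n29829 := d13_2 (iv7 F38455) D50243 (iv5 D29829)
def n50244 : Q := act 6 n24500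
theorem D50244 : act 6 n24500 = n50244 := rfl
theorem F79606 : act 2 n50244 = n25378 := d3_1 D50244 (iv6 D25378) (iv2 F38456)
theorem F79607 : act 3 n50244 = n24571 := d7_1 D50244 (iv6 D24571) (iv3 F38457)
theorem F79608 : act 5 n50244 = n50244 := d12_1 D50244 (iv6 D50244) (iv5 D24500) F18914 D24500
def n50245 : Q := act 4 n24501
theorem D50245 : act 4 n24501 = n50245 := rfl
theorem F79609 : act 2 n50245 = n24507 := d1_1 D50245 (iv4 D24507) (iv2 F38461)
theorem F79610 : act 7 n50245 = n25367 := d11_2 (iv7 F38463) D50245 (iv4 D25367)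
theorem F79611 : act 0 n50245 = n25257 := d18_2 (iv1 F38464) D50245 (iv4 D25257) F20310 D24797 F45242 F45240 (iv0 D24158) D24160
theorem F79612 : act 1 n50245 = n25260 := d18_6 (iv1 F8702) D11988 (iv1 F19817) (iv4 F19174) D24501 D50245 (iv4 D25260) F19830 (iv5 D11718)
def n50246 : Q := act 6 n24501
theorem D50246 : act 6 n24501 = n50246 := rfl
theorem F79613 : act 2 n50246 = n24508 := d3_1 D50246 (iv6 D24508) (iv2 F38461)
theorem F79614 : act 3 n50246 = n25380 := d7_1 D50246 (iv6 D25380) (iv3 F38462)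
def n50247 : Q := act 4 n24503
theorem D50247 : act 4 n24503 = n50247 := rfl
theorem F79615 : act 2 n50247 = n30718 := d1_1 D50247 F49186 F38996
theorem F79616 : act 7 n50247 = n28224 := d11_2 (iv7 F38469) D50247 (iv4 D28224)
theorem F79617 : act 0 n50247 = n25802 := d18_2 F79549 D50247 (iv4 D25802) F20314 (iv4 F37875) (iv0 F49169) F49167 F39928 (iv5 F79547)
theorem F79618 : act 1 n50247 = n25800 := d18_6 (iv1 F8941) F18905 (iv1 D11591) D11593 D24503 D50247 (iv4 D25800) (iv0 D12251) (iv5 D5809)
theorem F79619 : act 5 n25853 = n50247 := d17_7 (iv1 F20305) (iv5 D5814) (iv1 D2429) D2430 D5818 D12271 D25853 F79618 (iv4 D25800)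
def n50248 : Q := act 6 n24503
theorem D50248 : act 6 n24503 = n50248 := rfl
theorem F79620 : act 3 n50248 = n28213 := d7_1 D50248 (iv6 D28213) (iv3 F38468)
def n50249 : Q := act 6 n24505
theorem D50249 : act 6 n24505 = n50249 := rfl
theorem F79621 : act 3 n50249 = n25391 := d7_1 D50249 (iv6 D25391) F38475
theorem F79622 : act 5 n50249 = n50099 := d12_1 D50249 (iv6 D50099) (iv5 F38597) F38598 (iv5 F38473)
theorem F79623 : act 0 n50249 = n25401 := d21_4 (iv5 F49170) F49169 (iv5 F38473) D50249 (iv6 D25401) (iv5 D12078) (iv1 F22440) D16484 F25999 (iv1 F38534)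
def n50250 : Q := act 6 n24506
theorem D50250 : act 6 n24506 = n50250 := rfl
theorem F79624 : act 2 n50250 = n49495 := d3_1 D50250 F78248 F38478
theorem F79625 : act 3 n50250 = n24584 := d7_1 D50250 (iv6 D24584) (iv3 F38480)
theorem F79626 : act 5 n50250 = n49487 := d12_1 D50250 (iv6 D49487) (iv5 D24152) D24153 F38479
def n50251 : Q := act 3 n24507
theorem D50251 : act 3 n24507 = n50251 := rfl
theorem F79627 : act 4 n50251 = n24517 := d5_2 D24507 D50251 (iv3 D24517) (iv4 D11599) (iv3 F18899)
def n50252 : Q := act 5 n24507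
theorem D50252 : act 5 n24507 = n50252 := rfl
theorem F79628 : act 0 n50252 = n49705 := d17_2 F38752 D50252 (iv5 D49705) (iv4 D24241) (iv5 D11404) (iv0 F19349) D11990 F19826 D24754
def n50253 : Q := act 6 n24507
theorem D50253 : act 6 n24507 = n50253 := rfl
theorem F79629 : act 4 n50253 = n24508 := d10_1 D50253 (iv6 D24508) D24507
def n50254 : Q := act 0 n24508
theorem D50254 : act 0 n24508 = n50254 := rfl
def n50255 : Q := act 1 n24508
theorem D50255 : act 1 n24508 = n50255 := rfl
theorem F79630 : act 6 n24619 = n50255 := d21_3 (iv5 F39793) F39796 (iv5 F38621) (iv1 D50255) (iv6 D24508) (iv5 D11594) F18906 D5712 (iv6 F19964) F37381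
theorem F79631 : act 5 n34070 = n50255 := d21_6 (iv5 D11347) (iv1 F19408) D14334 F23948 F26096 D34070 (iv1 D50255) (iv5 F78238) (iv6 D49489) (iv1 D24155)
theorem F79632 : act 3 n50255 = n24621 := d6_1 F79631 F38624 (iv3 F53476)
def n50256 : Q := act 7 n24508
theorem D50256 : act 7 n24508 = n50256 := rfl
theorem F79633 : act 3 n50256 = n24523 := d8_1 D50256 (iv7 D24523) (iv3 F38481)
def n50257 : Q := act 4 n24510
theorem D50257 : act 4 n24510 = n50257 := rfl
theorem F79634 : act 2 n50257 = n28252 := d1_1 D50257 (iv4 D28252) (iv2 F38485)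
theorem F79635 : act 7 n50257 = n28230 := d11_2 (iv7 F38487) D50257 (iv4 D28230)
theorem F79636 : act 5 n50257 = n30192 := d17_5 F39878 (iv5 D14917) F18902 D24510 D50257 F48567 F24115 F23940 (iv4 F37120)
theorem F79637 : act 0 n50257 = n30148 := d17_0 (iv5 F48868) (iv1 F48869) (iv5 D14465) D14464 (iv5 F38022) D49719 F78573 F48739 D50257
theorem F79638 : act 1 n50257 = n24630 := d18_6 (iv1 F4821) (iv4 F4409) (iv1 F10454) F18901 D24510 D50257 (iv4 D24630) (iv0 F22436) (iv5 D6834)
def n50258 : Q := act 6 n24510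
theorem D50258 : act 6 n24510 = n50258 := rfl
theorem F79639 : act 2 n50258 = n28253 := d3_1 D50258 (iv6 D28253) (iv2 F38485)
theorem F79640 : act 3 n50258 = n24513 := d7_1 D50258 (iv6 D24513) (iv3 F38486)
theorem F79641 : act 0 n31740 = n50258 := d21_4 (iv5 F45686) (iv1 F45688) D31407 (iv6 F50041) (iv6 D50258) (iv5 D24510) F19116 D24832 F38869 F45692
def n50259 : Q := act 3 n24512
theorem D50259 : act 3 n24512 = n50259 := rfl
def n50260 : Q := act 6 n24512
theorem D50260 : act 6 n24512 = n50260 := rfl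
theorem F79642 : act 4 n50260 = n24513 := d10_1 D50260 (iv6 D24513) D24512
def n50261 : Q := act 0 n24513
theorem D50261 : act 0 n24513 = n50261 := rfl
def n50262 : Q := act 1 n24513
theorem D50262 : act 1 n24513 = n50262 := rfl
def n50263 : Q := act 5 n24513
theorem D50263 : act 5 n24513 = n50263 := rfl
theorem F79643 : act 6 n50263 = n24515 := d12_2 D24513 D50263 (iv5 D24515) (iv6 D11598) D11597
def n50264 : Q := act 7 n24513
theorem D50264 : act 7 n24513 = n50264 := rfl
def n50265 : Q := act 4 n24515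
theorem D50265 : act 4 n24515 = n50265 := rfl
theorem F79644 : act 2 n50265 = n24974 := d1_1 D50265 (iv4 F39845) (iv2 F39847)
theorem F79645 : act 7 n50265 = n24975 := d11_2 F45184 D50265 (iv4 F45188)
theorem F79646 : act 0 n50265 = n24957 := d18_2 F38976 D50265 (iv4 D24957) (iv5 D11851) F9909 D5832 D12289 (iv0 F20382) D24867
theorem F79647 : act 1 n50265 = n24955 := d18_6 (iv1 F24264) F24205 F24202 (iv4 F18953) D24515 D50265 (iv4 D24955) D24954 F39140
def n50266 : Q := act 0 n24517
theorem D50266 : act 0 n24517 = n50266 := rfl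
def n50267 : Q := act 1 n24517
theorem D50267 : act 1 n24517 = n50267 := rfl
def n50268 : Q := act 2 n24517
theorem D50268 : act 2 n24517 = n50268 := rfl
def n50269 : Q := act 5 n24517
theorem D50269 : act 5 n24517 = n50269 := rfl
theorem F79648 : act 3 n50269 = n24518 := d6_1 D50269 (iv5 D24518) D24517
def n50270 : Q := act 6 n24517
theorem D50270 : act 6 n24517 = n50270 := rfl
theorem F79649 : act 3 n50270 = n24519 := d7_1 D50270 (iv6 D24519) D24517
def n50271 : Q := act 6 n24518
theorem D50271 : act 6 n24518 = n50271 := rfl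
def n50272 : Q := act 0 n24519
theorem D50272 : act 0 n24519 = n50272 := rfl
def n50273 : Q := act 1 n24519
theorem D50273 : act 1 n24519 = n50273 := rfl
def n50274 : Q := act 5 n24519
theorem D50274 : act 5 n24519 = n50274 := rfl
def n50275 : Q := act 7 n24519
theorem D50275 : act 7 n24519 = n50275 := rfl
theorem F79650 : act 4 n50275 = n24523 := d11_1 D50275 (iv7 D24523) (iv4 F38496)
def n50276 : Q := act 4 n24520
theorem D50276 : act 4 n24520 = n50276 := rfl
theorem F79651 : act 0 n30842 = n50276 := d20_7 (iv4 F39453) (iv1 F39455) F38606 (iv3 F39718) F39720 (iv3 F24273) (iv4 F49301) (iv4 D50276) F49341 (iv1 F19673)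
def n50277 : Q := act 4 n24521
theorem D50277 : act 4 n24521 = n50277 := rfl
def n50278 : Q := act 0 n24522
theorem D50278 : act 0 n24522 = n50278 := rfl
def n50279 : Q := act 1 n24522
theorem D50279 : act 1 n24522 = n50279 := rfl
theorem F79652 : act 1 n50279 = n30677 := d15_1 D50279 (iv7 D30677) (iv2 F38497)
def n50280 : Q := act 4 n24522
theorem D50280 : act 4 n24522 = n50280 := rfl
theorem F79653 : act 2 n50280 = n30674 := d1_1 D50280 F49132 (iv2 F38497)
theorem F79654 : act 6 n50280 = n24524 := d10_2 (iv6 F38498) D50280 (iv4 D24524)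
def n50281 : Q := act 7 n24522
theorem D50281 : act 7 n24522 = n50281 := rfl
theorem F79655 : act 2 n50281 = n30677 := d4_1 D50281 (iv7 D30677) (iv2 F38497)
theorem F79656 : act 5 n50281 = n24523 := d13_1 D50281 (iv7 D24523) D24522
theorem F79657 : act 6 n50281 = n30684 := d14_1 D50281 (iv7 D30684) (iv6 D14544) F19442 (iv6 F38498)
theorem F79658 : act 1 n30677 = n50278 := d15_0 (iv0 D50278) D50281 F79655
theorem F79659 : act 1 n30676 = n50281 := d15_1 D30676 (iv7 D50281) F38497
theorem F79660 : act 1 n50281 = n30675 := d15_0 (iv0 D30675) D30677 (iv2 F79655)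
def n50282 : Q := act 3 n24524
theorem D50282 : act 3 n24524 = n50282 := rfl
theorem F79661 : act 7 n50282 = n30680 := d8_2 (iv7 F38500) D50282 (iv3 D30680)
def n50283 : Q := act 5 n24524
theorem D50283 : act 5 n24524 = n50283 := rfl
theorem F79662 : act 2 n50283 = n30673 := d2_1 D50283 (iv5 D30673) (iv2 F38499)
theorem F79663 : act 7 n50283 = n30681 := d13_2 (iv7 F38500) D50283 (iv5 D30681)
def n50284 : Q := act 3 n24525
theorem D50284 : act 3 n24525 = n50284 := rfl
theorem F79664 : act 4 n50284 = n24530 := d5_2 D24525 D50284 (iv3 D24530) (iv4 D11607) D11606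
theorem F79665 : act 7 n50284 = n28009 := d8_2 (iv7 F38502) D50284 (iv3 D28009)
def n50285 : Q := act 5 n24525
theorem D50285 : act 5 n24525 = n50285 := rfl
theorem F79666 : act 2 n50285 = n28007 := d2_1 D50285 (iv5 D28007) (iv2 F38501)
theorem F79667 : act 7 n50285 = n28010 := d13_2 (iv7 F38502) D50285 (iv5 D28010)
def n50286 : Q := act 6 n24525
theorem D50286 : act 6 n24525 = n50286 := rfl
theorem F79668 : act 2 n50286 = n28008 := d3_1 D50286 (iv6 D28008) (iv2 F38501)
theorem F79669 : act 4 n50286 = n24527 := d10_1 D50286 (iv6 D24527) D24525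
def n50287 : Q := act 0 n24527
theorem D50287 : act 0 n24527 = n50287 := rfl
def n50288 : Q := act 1 n24527
theorem D50288 : act 1 n24527 = n50288 := rfl
theorem F79670 : act 5 n49619 = n50288 := d21_6 (iv5 D11324) (iv1 F18291) (iv5 F37491) D49168 (iv1 F77644) D49619 (iv1 D50288) F39783 F39785 (iv1 D24111)
def n50289 : Q := act 3 n24528
theorem D50289 : act 3 n24528 = n50289 := rfl
def n50290 : Q := act 6 n24528
theorem D50290 : act 6 n24528 = n50290 := rfl
def n50291 : Q := act 3 n24529
theorem D50291 : act 3 n24529 = n50291 := rfl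
def n50292 : Q := act 0 n24530
theorem D50292 : act 0 n24530 = n50292 := rfl
def n50293 : Q := act 1 n24530
theorem D50293 : act 1 n24530 = n50293 := rfl
def n50294 : Q := act 2 n24530
theorem D50294 : act 2 n24530 = n50294 := rfl
def n50295 : Q := act 5 n24530
theorem D50295 : act 5 n24530 = n50295 := rfl
theorem F79671 : act 3 n50295 = n24531 := d6_1 D50295 (iv5 D24531) D24530
def n50296 : Q := act 6 n24530
theorem D50296 : act 6 n24530 = n50296 := rfl
theorem F79672 : act 3 n50296 = n24532 := d7_1 D50296 (iv6 D24532) D24530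
def n50297 : Q := act 0 n24531
theorem D50297 : act 0 n24531 = n50297 := rfl
theorem F79673 : act 5 n50297 = n30836 := d17_3 (iv1 D24529) D24531 D50297 (iv4 D30836) (iv5 F38859) (iv0 F38861) F24597 F24599 F38515
theorem F79674 : act 4 n50297 = n30863 := d18_1 D50297 F49321 (iv4 F79511) (iv5 D50174) F48114 F48109 F38809 (iv0 D24528) D24531
theorem F79675 : act 1 n24543 = n50297 := d15_0 (iv0 D50297) (iv7 F79489) F79488
theorem F79676 : act 2 n50214 = n50297 := d1_3 F79674 F49462 (iv4 F79569)
theorem F79677 : act 7 n50211 = n50297 := d11_0 F79674 (iv7 F49464) (iv4 F79566)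
def n50298 : Q := act 1 n24531
theorem D50298 : act 1 n24531 = n50298 := rfl
theorem F79678 : act 1 n50298 = n24543 := d15_1 D50298 (iv7 F79476) F79475
theorem F79679 : act 7 n50298 = n50214 := d15_2 (iv0 D50297) D50298 F79676
theorem F79680 : act 5 n50298 = n30839 := d17_7 F19600 F19596 F19428 (iv5 D11608) D11607 D24531 D50298 F49298 (iv4 D24459)
theorem F79681 : act 4 n50298 = n30860 := d18_7 D25918 F40966 (iv1 F46304) (iv4 F46307) D49390 F78109 D50298 F49449 (iv5 D25921)
theorem F79682 : act 2 n50211 = n50298 := d1_3 F79681 F49466 (iv4 F79566)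
def n50299 : Q := act 6 n24531
theorem D50299 : act 6 n24531 = n50299 := rfl
def n50300 : Q := act 0 n24532
theorem D50300 : act 0 n24532 = n50300 := rfl
def n50301 : Q := act 1 n24532
theorem D50301 : act 1 n24532 = n50301 := rfl
def n50302 : Q := act 5 n24532
theorem D50302 : act 5 n24532 = n50302 := rfl
def n50303 : Q := act 7 n24532
theorem D50303 : act 7 n24532 = n50303 := rfl
theorem F79683 : act 4 n50303 = n24538 := d11_1 D50303 (iv7 D24538) (iv4 F38516)
def n50304 : Q := act 0 n24534
theorem D50304 : act 0 n24534 = n50304 := rfl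
theorem F79684 : act 5 n50304 = n30859 := d17_1 D50304 F49320 (iv5 D24456) (iv4 D11553) D11554 D24458 (iv5 F38519) (iv0 D24533) D24534
theorem F79685 : act 4 n50304 = n24830 := d18_1 D50304 (iv1 F38902) F38900 F19225 D14685 F40967 F40966 F46301 F46299
theorem F79686 : act 3 n50304 = n24797 := d20_5 (iv4 F38471) F49681 F49678 F38766 D50304 (iv4 D24797) (iv1 F19858) F19855 (iv3 F23959) (iv1 F37869)
theorem F79687 : act 6 n50304 = n30710 := d21_5 D24415 F47049 F47047 (iv6 F38764) D50304 F49149 (iv1 F38337) F38334 F18846 (iv1 F18848)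
theorem F79688 : act 2 n29800 = n50304 := d15_3 (iv0 D50304) (iv0 F39215) (iv7 F47957)
theorem F79689 : act 1 n24545 = n50304 := d15_0 (iv0 D50304) F38524 (iv2 F38539)
theorem F79690 : act 7 n50304 = n28247 := d15_2 F39007 F79689 F45738
def n50305 : Q := act 2 n24535
theorem D50305 : act 2 n24535 = n50305 := rfl
theorem F79691 : act 7 n24536 = n50305 := d15_2 (iv0 D24535) D24536 (iv2 D50305)
def n50306 : Q := act 3 n24535
theorem D50306 : act 3 n24535 = n50306 := rfl
def n50307 : Q := act 4 n24535
theorem D50307 : act 4 n24535 = n50307 := rfl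
def n50308 : Q := act 5 n24535
theorem D50308 : act 5 n24535 = n50308 := rfl
def n50309 : Q := act 7 n24535
theorem D50309 : act 7 n24535 = n50309 := rfl
theorem F79692 : act 2 n50309 = n24536 := d4_1 D50309 F79691 (iv2 D50305)
def n50310 : Q := act 3 n24536
theorem D50310 : act 3 n24536 = n50310 := rfl
def n50311 : Q := act 4 n24536
theorem D50311 : act 4 n24536 = n50311 := rfl
def n50312 : Q := act 5 n24536
theorem D50312 : act 5 n24536 = n50312 := rfl
theorem F79693 : act 6 n50312 = n49404 := d21_3 (iv5 F79481) (iv1 F79484) D50312 (iv1 D49404) (iv6 D24109) F18497 F10168 D6975 D14599 D30831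
def n50313 : Q := act 6 n24536
theorem D50313 : act 6 n24536 = n50313 := rfl
theorem F79694 : act 5 n30855 = n50313 := d21_2 (iv5 F24298) D30855 (iv6 D50313) (iv1 D24536) (iv6 D11609) D11608 D24533 F38519 F39225 (iv1 D24996)
def n50314 : Q := act 4 n24537
theorem D50314 : act 4 n24537 = n50314 := rfl
theorem F79695 : act 2 n50314 = n30882 := d1_1 D50314 (iv4 D30882) (iv2 F38525)
theorem F79696 : act 6 n50314 = n30547 := d10_2 (iv6 F38526) D50314 (iv4 D30547)
theorem F79697 : act 7 n50314 = n30879 := d11_2 F49269 D50314 (iv4 D30879)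
def n50315 : Q := act 6 n24539
theorem D50315 : act 6 n24539 = n50315 := rfl
theorem F79698 : act 2 n50315 = n24541 := d3_1 D50315 (iv6 D24541) D24539
theorem F79699 : act 3 n50315 = n25385 := d7_1 D50315 (iv6 D25385) (iv3 F38529)
theorem F79700 : act 5 n50315 = n30206 := d12_1 D50315 (iv6 D30206) (iv5 D14335) D14336 (iv5 F38530)
def n50316 : Q := act 3 n24540
theorem D50316 : act 3 n24540 = n50316 := rfl
theorem F79701 : act 4 n50316 = n24542 := d5_2 D24540 D50316 (iv3 D24542) (iv4 D11612) D11611
def n50317 : Q := act 5 n24540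
theorem D50317 : act 5 n24540 = n50317 := rfl
theorem F79702 : act 4 n50317 = n25841 := d16_2 D24540 D50317 (iv5 D25841) D25840 (iv5 F45239) F45240 F38409 (iv7 F38531) (iv2 D24539)
def n50318 : Q := act 6 n24540
theorem D50318 : act 6 n24540 = n50318 := rfl
theorem F79703 : act 4 n50318 = n24541 := d10_1 D50318 (iv6 D24541) D24540
def n50319 : Q := act 0 n24541
theorem D50319 : act 0 n24541 = n50319 := rfl
def n50320 : Q := act 1 n24541
theorem D50320 : act 1 n24541 = n50320 := rfl
def n50321 : Q := act 5 n24541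
theorem D50321 : act 5 n24541 = n50321 := rfl
theorem F79704 : act 2 n50321 = n30206 := d2_1 D50321 (iv5 F79700) F79698
theorem F79705 : act 3 n50321 = n24548 := d6_1 D50321 (iv5 D24548) (iv3 F38537)
theorem F79706 : act 6 n50321 = n25761 := d12_2 D24541 D50321 (iv5 D25761) (iv6 F38134) (iv5 F38139)
def n50322 : Q := act 7 n24541
theorem D50322 : act 7 n24541 = n50322 := rfl
theorem F79707 : act 3 n50322 = n24549 := d8_1 D50322 (iv7 D24549) (iv3 F38537)
def n50323 : Q := act 0 n24542
theorem D50323 : act 0 n24542 = n50323 := rfl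
def n50324 : Q := act 1 n24542
theorem D50324 : act 1 n24542 = n50324 := rfl
def n50325 : Q := act 2 n24542
theorem D50325 : act 2 n24542 = n50325 := rfl
def n50326 : Q := act 5 n24542
theorem D50326 : act 5 n24542 = n50326 := rfl
theorem F79708 : act 3 n50326 = n24543 := d6_1 D50326 (iv5 D24543) D24542
def n50327 : Q := act 6 n24542
theorem D50327 : act 6 n24542 = n50327 := rfl
theorem F79709 : act 3 n50327 = n24544 := d7_1 D50327 (iv6 D24544) D24542
def n50328 : Q := act 6 n24543
theorem D50328 : act 6 n24543 = n50328 := rfl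
def n50329 : Q := act 0 n24544
theorem D50329 : act 0 n24544 = n50329 := rfl
def n50330 : Q := act 1 n24544
theorem D50330 : act 1 n24544 = n50330 := rfl
def n50331 : Q := act 5 n24544
theorem D50331 : act 5 n24544 = n50331 := rfl
def n50332 : Q := act 7 n24544
theorem D50332 : act 7 n24544 = n50332 := rfl
theorem F79710 : act 4 n50332 = n24549 := d11_1 D50332 (iv7 D24549) (iv4 F38538)
def n50333 : Q := act 2 n24546
theorem D50333 : act 2 n24546 = n50333 := rfl
theorem F79711 : act 7 n24547 = n50333 := d15_2 (iv0 D24546) D24547 (iv2 D50333)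
def n50334 : Q := act 3 n24546
theorem D50334 : act 3 n24546 = n50334 := rfl
def n50335 : Q := act 4 n24546
theorem D50335 : act 4 n24546 = n50335 := rfl
def n50336 : Q := act 5 n24546
theorem D50336 : act 5 n24546 = n50336 := rfl
def n50337 : Q := act 6 n24546
theorem D50337 : act 6 n24546 = n50337 := rfl
theorem F79712 : act 5 n50337 = n30676 := d21_6 (iv5 F38519) (iv1 F38521) (iv5 D11613) D11614 D24546 D50337 (iv1 D30676) (iv5 F38405) (iv6 D24462) (iv1 F38395)
def n50338 : Q := act 7 n24546
theorem D50338 : act 7 n24546 = n50338 := rfl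
theorem F79713 : act 2 n50338 = n24547 := d4_1 D50338 F79711 (iv2 D50333)
def n50339 : Q := act 3 n24547
theorem D50339 : act 3 n24547 = n50339 := rfl
def n50340 : Q := act 4 n24547
theorem D50340 : act 4 n24547 = n50340 := rfl
def n50341 : Q := act 0 n24548
theorem D50341 : act 0 n24548 = n50341 := rfl
theorem F79714 : act 6 n50341 = n50235 := d21_5 (iv5 D6734) D6732 D14152 (iv6 F38543) D50341 (iv5 D50235) (iv1 D24496) D24497 F38453 F18896
theorem F79715 : act 5 n50341 = n24980 := d21_0 (iv1 D24980) D24981 F39197 F19298 F11017 (iv5 D6734) D6732 D14152 (iv6 F38543) D50341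
def n50342 : Q := act 1 n24548
theorem D50342 : act 1 n24548 = n50342 := rfl
theorem F79716 : act 1 n50342 = n29810 := d15_1 D50342 (iv7 D29810) (iv2 F38542)
theorem F79717 : act 5 n24979 = n50342 := d21_0 (iv1 D50342) (iv5 D24548) (iv6 D11614) (iv1 D5395) (iv6 F3671) (iv5 D2312) D2310 D5565 D11860 D24979
def n50343 : Q := act 4 n24548
theorem D50343 : act 4 n24548 = n50343 := rfl
theorem F79718 : act 2 n50343 = n29807 := d1_1 D50343 F47969 (iv2 F38542)
theorem F79719 : act 6 n50343 = n29781 := d10_2 (iv6 F38543) D50343 (iv4 D29781)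
def n50344 : Q := act 7 n24548
theorem D50344 : act 7 n24548 = n50344 := rfl
theorem F79720 : act 2 n50344 = n29810 := d4_1 D50344 (iv7 D29810) (iv2 F38542)
theorem F79721 : act 5 n50344 = n24549 := d13_1 D50344 (iv7 D24549) D24548
theorem F79722 : act 6 n50344 = n29824 := d14_1 D50344 (iv7 D29824) (iv6 D14171) (iv7 F23645) (iv6 F38543)
theorem F79723 : act 1 n29810 = n50341 := d15_0 (iv0 D50341) D50344 F79720
theorem F79724 : act 1 n29809 = n50344 := d15_1 D29809 (iv7 D50344) F38542
theorem F79725 : act 1 n50344 = n29808 := d15_0 (iv0 D29808) D29810 (iv2 F79720)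
def n50345 : Q := act 0 n24550
theorem D50345 : act 0 n24550 = n50345 := rfl
def n50346 : Q := act 1 n24550
theorem D50346 : act 1 n24550 = n50346 := rfl
def n50347 : Q := act 2 n24550
theorem D50347 : act 2 n24550 = n50347 := rfl
def n50348 : Q := act 4 n24550
theorem D50348 : act 4 n24550 = n50348 := rfl
theorem F79726 : act 3 n50348 = n34032 := d5_1 D50348 (iv4 F77443) F77442 (iv4 D24551) D24550
def n50349 : Q := act 5 n24550
theorem D50349 : act 5 n24550 = n50349 := rfl
theorem F79727 : act 3 n50349 = n24552 := d6_1 D50349 (iv5 D24552) D24550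
def n50350 : Q := act 6 n24550
theorem D50350 : act 6 n24550 = n50350 := rfl
theorem F79728 : act 3 n50350 = n24553 := d7_1 D50350 (iv6 D24553) D24550
def n50351 : Q := act 6 n24551
theorem D50351 : act 6 n24551 = n50351 := rfl
theorem F79729 : act 2 n50351 = n28092 := d3_1 D50351 (iv6 D28092) (iv2 F38544)
theorem F79730 : act 4 n50351 = n24553 := d10_1 D50351 (iv6 D24553) D24551
theorem F79731 : act 5 n50351 = n50262 := d21_6 (iv5 D24875) (iv1 F19351) D14146 (iv6 F23739) (iv1 F38545) D50351 (iv1 D50262) D50263 F79643 (iv1 F39003)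
def n50352 : Q := act 0 n24552
theorem D50352 : act 0 n24552 = n50352 := rfl
theorem F79732 : act 5 n50352 = n50145 := d17_1 D50352 F79441 (iv5 F79517) (iv4 F79521) (iv5 D30829) F40854 (iv5 F49461) (iv0 D31054) (iv4 F38546)
theorem F79733 : act 1 n24555 = n50352 := d15_0 (iv0 D50352) (iv7 F79512) F79510
theorem F79734 : act 2 n50208 = n50352 := d2_3 F79732 F79439 D50208
theorem F79735 : act 7 n50202 = n50352 := d13_0 F79732 F79440 D50202
def n50353 : Q := act 1 n24552
theorem D50353 : act 1 n24552 = n50353 := rfl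
theorem F79736 : act 1 n50353 = n24555 := d15_1 D50353 (iv7 F79505) F79504
theorem F79737 : act 7 n50353 = n50208 := d15_2 (iv0 D50352) D50353 F79734
theorem F79738 : act 5 n50353 = n25058 := d17_7 (iv1 F38829) F38827 D28251 F45754 (iv4 D24551) D24552 D50353 (iv0 F40222) (iv4 D25441)
theorem F79739 : act 2 n50202 = n50353 := d2_3 F79738 F39331 D50202
def n50354 : Q := act 6 n24552
theorem D50354 : act 6 n24552 = n50354 := rfl
theorem F79740 : act 4 n50354 = n31056 := d10_1 D50354 (iv6 D31056) (iv4 F38546)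
def n50355 : Q := act 0 n24553
theorem D50355 : act 0 n24553 = n50355 := rfl
def n50356 : Q := act 1 n24553
theorem D50356 : act 1 n24553 = n50356 := rfl
def n50357 : Q := act 5 n24553
theorem D50357 : act 5 n24553 = n50357 := rfl
def n50358 : Q := act 7 n24553
theorem D50358 : act 7 n24553 = n50358 := rfl
def n50359 : Q := act 0 n24554
theorem D50359 : act 0 n24554 = n50359 := rfl
def n50360 : Q := act 1 n24554
theorem D50360 : act 1 n24554 = n50360 := rfl
def n50361 : Q := act 2 n24554
theorem D50361 : act 2 n24554 = n50361 := rfl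
def n50362 : Q := act 5 n24554
theorem D50362 : act 5 n24554 = n50362 := rfl
theorem F79741 : act 3 n50362 = n24555 := d6_1 D50362 (iv5 D24555) D24554
def n50363 : Q := act 6 n24554
theorem D50363 : act 6 n24554 = n50363 := rfl
theorem F79742 : act 3 n50363 = n24556 := d7_1 D50363 (iv6 D24556) D24554
def n50364 : Q := act 6 n24555
theorem D50364 : act 6 n24555 = n50364 := rfl
def n50365 : Q := act 0 n24556
theorem D50365 : act 0 n24556 = n50365 := rfl
def n50366 : Q := act 1 n24556
theorem D50366 : act 1 n24556 = n50366 := rfl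
def n50367 : Q := act 5 n24556
theorem D50367 : act 5 n24556 = n50367 := rfl
def n50368 : Q := act 7 n24556
theorem D50368 : act 7 n24556 = n50368 := rfl
def n50369 : Q := act 0 n24557
theorem D50369 : act 0 n24557 = n50369 := rfl
theorem F79743 : act 2 n24561 = n50369 := d15_3 (iv0 D50369) (iv0 D24557) D24561
theorem F79744 : act 4 n50369 = n24716 := d1_2 (iv4 F38550) F79743 (iv2 F38689)
theorem F79745 : act 7 n50369 = n24559 := d4_2 D24561 F79743 (iv2 D24559)
theorem F79746 : act 1 n24558 = n50369 := d15_1 D24558 F79745 (iv2 D24559)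
def n50370 : Q := act 2 n24557
theorem D50370 : act 2 n24557 = n50370 := rfl
theorem F79747 : act 7 n24558 = n50370 := d15_2 (iv0 D24557) D24558 (iv2 D50370)
def n50371 : Q := act 3 n24557
theorem D50371 : act 3 n24557 = n50371 := rfl
def n50372 : Q := act 4 n24557
theorem D50372 : act 4 n24557 = n50372 := rfl
def n50373 : Q := act 5 n24557
theorem D50373 : act 5 n24557 = n50373 := rfl
def n50374 : Q := act 6 n24557
theorem D50374 : act 6 n24557 = n50374 := rfl
def n50375 : Q := act 7 n24557
theorem D50375 : act 7 n24557 = n50375 := rfl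
def n50376 : Q := act 3 n24558
theorem D50376 : act 3 n24558 = n50376 := rfl
def n50377 : Q := act 4 n24558
theorem D50377 : act 4 n24558 = n50377 := rfl
theorem F79749 : act 3 n28070 = n50377 := d20_5 F8245 (iv1 F4329) (iv4 F9874) (iv3 F22253) (iv1 F45332) (iv4 D50377) (iv1 D24558) F18957 (iv3 D5429) D5427
def n50378 : Q := act 5 n24558
theorem D50378 : act 5 n24558 = n50378 := rfl
def n50379 : Q := act 6 n24558
theorem D50379 : act 6 n24558 = n50379 := rfl
def n50380 : Q := act 0 n24559
theorem D50380 : act 0 n24559 = n50380 := rfl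
theorem F79750 : act 1 n24561 = n50380 := d15_0 (iv0 D50380) (iv7 F79745) (iv2 F79743)
theorem F79751 : act 4 n28060 = n50380 := d20_6 F8570 (iv1 D2665) D2666 D6343 D13385 D28060 (iv1 F79750) F38550 F19026 (iv1 F8568)
def n50381 : Q := act 1 n24559
theorem D50381 : act 1 n24559 = n50381 := rfl
theorem F79752 : act 1 n50381 = n24561 := d15_1 D50381 (iv7 D24561) D24559
def n50382 : Q := act 5 n24559
theorem D50382 : act 5 n24559 = n50382 := rfl
theorem F79753 : act 2 n50382 = n24560 := d2_1 D50382 (iv5 D24560) D24559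
def n50383 : Q := act 0 n24560
theorem D50383 : act 0 n24560 = n50383 := rfl
def n50384 : Q := act 1 n24560
theorem D50384 : act 1 n24560 = n50384 := rfl
def n50385 : Q := act 4 n24560
theorem D50385 : act 4 n24560 = n50385 := rfl
def n50386 : Q := act 6 n24560
theorem D50386 : act 6 n24560 = n50386 := rfl
theorem F79754 : act 3 n50386 = n24565 := d7_1 D50386 (iv6 D24565) (iv3 F38548)
def n50387 : Q := act 7 n24560
theorem D50387 : act 7 n24560 = n50387 := rfl
theorem F79755 : act 3 n50387 = n24566 := d8_1 D50387 (iv7 D24566) (iv3 F38548)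
theorem F79756 : act 5 n50387 = n24561 := d13_1 D50387 (iv7 D24561) D24560
def n50388 : Q := act 6 n24561
theorem D50388 : act 6 n24561 = n50388 := rfl
theorem F79757 : act 3 n50388 = n24567 := d7_1 D50388 (iv6 D24567) (iv3 F38549)
theorem F79758 : act 4 n50388 = n24734 := d10_1 D50388 (iv6 D24734) (iv4 F38550)
def n50389 : Q := act 3 n24562
theorem D50389 : act 3 n24562 = n50389 := rfl
def n50390 : Q := act 6 n24562
theorem D50390 : act 6 n24562 = n50390 := rfl
theorem F79759 : act 4 n50390 = n30873 := d10_1 D50390 (iv6 D30873) (iv4 F78064)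
def n50391 : Q := act 3 n24563
theorem D50391 : act 3 n24563 = n50391 := rfl
theorem F79760 : act 5 n50391 = n30841 := d6_2 (iv5 F38551) D50391 (iv3 D30841)
def n50392 : Q := act 6 n24563
theorem D50392 : act 6 n24563 = n50392 := rfl
def n50393 : Q := act 3 n24564
theorem D50393 : act 3 n24564 = n50393 := rfl
theorem F79761 : act 5 n50393 = n30820 := d6_2 (iv5 F38552) D50393 (iv3 D30820)
def n50394 : Q := act 6 n24564
theorem D50394 : act 6 n24564 = n50394 := rfl
theorem F79762 : act 4 n50394 = n24565 := d10_1 D50394 (iv6 D24565) D24564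
def n50395 : Q := act 0 n24565
theorem D50395 : act 0 n24565 = n50395 := rfl
def n50396 : Q := act 1 n24565
theorem D50396 : act 1 n24565 = n50396 := rfl
def n50397 : Q := act 7 n24565
theorem D50397 : act 7 n24565 = n50397 := rfl
def n50398 : Q := act 6 n24566
theorem D50398 : act 6 n24566 = n50398 := rfl
def n50399 : Q := act 0 n24567
theorem D50399 : act 0 n24567 = n50399 := rfl
def n50400 : Q := act 1 n24567
theorem D50400 : act 1 n24567 = n50400 := rfl
def n50401 : Q := act 5 n24567
theorem D50401 : act 5 n24567 = n50401 := rfl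
def n50402 : Q := act 2 n24568
theorem D50402 : act 2 n24568 = n50402 := rfl
theorem F79763 : act 7 n24569 = n50402 := d15_2 (iv0 D24568) D24569 (iv2 D50402)
def n50403 : Q := act 3 n24568
theorem D50403 : act 3 n24568 = n50403 := rfl
def n50404 : Q := act 4 n24568
theorem D50404 : act 4 n24568 = n50404 := rfl
def n50405 : Q := act 5 n24568
theorem D50405 : act 5 n24568 = n50405 := rfl
theorem F79764 : act 0 n50236 = n50405 := d21_10 (iv5 D50405) (iv1 F39180) F39177 (iv6 D24969) (iv1 F19277) D11880 D25014 F79584 (iv5 D50235) D50236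
theorem F79765 : act 6 n30883 = n50405 := d21_5 (iv5 F24206) (iv1 D6986) D6987 (iv6 F24303) D30883 (iv5 D50405) (iv1 F39180) F39177 (iv6 D24969) (iv1 F19277)
def n50406 : Q := act 6 n24568
theorem D50406 : act 6 n24568 = n50406 := rfl
theorem F79766 : act 5 n50406 = n50077 := d21_6 (iv5 D11554) (iv1 F8210) (iv5 F8216) D11620 D24568 D50406 (iv1 D50077) F39226 (iv6 F39225) (iv1 D24458)
def n50407 : Q := act 7 n24568
theorem D50407 : act 7 n24568 = n50407 := rfl
theorem F79767 : act 2 n50407 = n24569 := d4_1 D50407 F79763 (iv2 D50402)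
def n50408 : Q := act 3 n24569
theorem D50408 : act 3 n24569 = n50408 := rfl
def n50409 : Q := act 4 n24569
theorem D50409 : act 4 n24569 = n50409 := rfl
def n50410 : Q := act 5 n24569
theorem D50410 : act 5 n24569 = n50410 := rfl
theorem F79768 : act 6 n50204 = n50410 := d21_5 (iv5 F18868) (iv1 F19774) (iv5 F19313) D24487 D50204 (iv5 D50410) (iv1 D24569) F18960 (iv6 D11620) (iv1 F18867)
def n50411 : Q := act 6 n24569
theorem D50411 : act 6 n24569 = n50411 := rfl
theorem F79769 : act 5 n50411 = n30570 := d21_6 (iv5 D5565) (iv1 F8488) (iv5 F19275) D24969 (iv1 F39179) D50411 (iv1 D30570) (iv5 F39188) (iv6 D24973) (iv1 D11858)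
def n50412 : Q := act 3 n24570
theorem D50412 : act 3 n24570 = n50412 := rfl
theorem F79770 : act 7 n50412 = n30199 := d8_2 (iv7 F38555) D50412 (iv3 D30199)
def n50413 : Q := act 6 n24570
theorem D50413 : act 6 n24570 = n50413 := rfl
theorem F79771 : act 4 n50413 = n24571 := d10_1 D50413 (iv6 D24571) D24570
def n50414 : Q := act 0 n24571
theorem D50414 : act 0 n24571 = n50414 := rfl
theorem F79772 : act 1 n24616 = n50414 := d15_0 (iv0 D50414) (iv7 F39287) F39285
def n50415 : Q := act 1 n24571
theorem D50415 : act 1 n24571 = n50415 := rfl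
def n50416 : Q := act 3 n24572
theorem D50416 : act 3 n24572 = n50416 := rfl
def n50417 : Q := act 5 n24572
theorem D50417 : act 5 n24572 = n50417 := rfl
theorem F79774 : act 2 n50417 = n24590 := d2_1 D50417 (iv5 D24590) (iv2 F38557)
theorem F79775 : act 4 n50417 = n49491 := d16_2 D24572 D50417 (iv5 D49491) (iv4 D24156) (iv5 D11347) F7799 D5592 F8534 (iv2 F18962)
def n50418 : Q := act 6 n24572
theorem D50418 : act 6 n24572 = n50418 := rfl
theorem F79776 : act 2 n50418 = n24591 := d3_1 D50418 (iv6 D24591) (iv2 F38557)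
theorem F79777 : act 4 n50418 = n24573 := d10_1 D50418 (iv6 D24573) D24572
def n50419 : Q := act 0 n24573
theorem D50419 : act 0 n24573 = n50419 := rfl
theorem F79778 : act 5 n50419 = n29545 := d21_0 (iv1 D29545) F23415 (iv6 D11686) (iv1 F22442) F11871 (iv5 D6844) F10116 D11622 D24573 D50419
def n50420 : Q := act 1 n24573
theorem D50420 : act 1 n24573 = n50420 := rfl
theorem F79779 : act 1 n50420 = n24594 := d15_1 D50420 (iv7 D24594) (iv2 F38558)
theorem F79780 : act 5 n29544 = n50420 := d21_0 (iv1 D50420) (iv5 F40730) (iv6 D25779) (iv1 D12241) F8925 (iv5 D3082) F22501 D6671 D14035 D29544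
theorem F79781 : act 6 n29030 = n29544 := d21_5 (iv5 D5800) (iv1 F10277) D6569 D13815 D29030 F79780 (iv1 D50420) (iv5 F40730) (iv6 D25779) (iv1 D12241)
def n50421 : Q := act 7 n24573
theorem D50421 : act 7 n24573 = n50421 := rfl
theorem F79782 : act 2 n50421 = n24594 := d4_1 D50421 (iv7 D24594) (iv2 F38558)
theorem F79783 : act 1 n24594 = n50419 := d15_0 (iv0 D50419) D50421 F79782
theorem F79784 : act 1 n24593 = n50421 := d15_1 D24593 (iv7 D50421) F38558
theorem F79785 : act 1 n50421 = n24592 := d15_0 (iv0 D24592) D24594 (iv2 F79782)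
def n50422 : Q := act 4 n24576
theorem D50422 : act 4 n24576 = n50422 := rfl
theorem F79786 : act 2 n50422 = n48812 := d1_1 D50422 F76891 (iv2 F38570)
theorem F79787 : act 7 n50422 = n30204 := d11_2 (iv7 F38572) D50422 (iv4 D30204)
theorem F79788 : act 0 n50422 = n48781 := d18_2 F38574 D50422 (iv4 D48781) (iv5 F37078) (iv4 F38024) D49722 F78580 (iv0 D28089) (iv5 F37500)
theorem F79789 : act 1 n50422 = n48779 := d18_6 D11147 (iv4 F22160) F24271 F24267 D24576 D50422 (iv4 D48779) (iv0 D23789) (iv5 D11149)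
def n50423 : Q := act 6 n24576
theorem D50423 : act 6 n24576 = n50423 := rfl
theorem F79790 : act 2 n50423 = n49486 := d3_1 D50423 (iv6 D49486) (iv2 F38570)
theorem F79791 : act 3 n50423 = n31347 := d7_1 D50423 (iv6 D31347) (iv3 F38571)
theorem F79792 : act 5 n50423 = n50423 := d12_1 D50423 (iv6 D50423) (iv5 D24576) F19369 D24576
def n50424 : Q := act 4 n24577
theorem D50424 : act 4 n24577 = n50424 := rfl
theorem F79793 : act 2 n50424 = n48794 := d1_1 D50424 F76859 F38577
theorem F79794 : act 7 n50424 = n48795 := d11_2 (iv7 F38578) D50424 F76863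
theorem F79795 : act 0 n50424 = n48777 := d18_2 D24577 D50424 (iv4 D48777) (iv5 D23788) (iv4 F22217) (iv0 F24270) F24267 (iv0 D11624) D11626
theorem F79796 : act 1 n50424 = n48775 := d18_6 (iv1 F39826) D25272 (iv1 F39886) F39000 (iv5 F38575) D50424 (iv4 D48775) F37075 (iv5 F39824)
def n50425 : Q := act 6 n24577
theorem D50425 : act 6 n24577 = n50425 := rfl
theorem F79797 : act 2 n50425 = n49489 := d3_1 D50425 (iv6 D49489) F38577
theorem F79798 : act 5 n50425 = n50246 := d12_1 D50425 (iv6 D50246) (iv5 D24501) D24502 (iv5 F38575)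
def n50426 : Q := act 3 n24578
theorem D50426 : act 3 n24578 = n50426 := rfl
theorem F79799 : act 4 n50426 = n28084 := d5_2 D24578 D50426 (iv3 D28084) (iv4 D13393) (iv3 F18967)
theorem F79800 : act 7 n50426 = n49490 := d8_2 (iv7 F38581) D50426 (iv3 D49490)
def n50427 : Q := act 6 n24578
theorem D50427 : act 6 n24578 = n50427 := rfl
theorem F79801 : act 4 n50427 = n24579 := d10_1 D50427 (iv6 D24579) D24578
def n50428 : Q := act 0 n24579
theorem D50428 : act 0 n24579 = n50428 := rfl
theorem F79802 : act 5 n50428 = n30271 := d21_0 (iv1 D30271) D30272 F48660 F23986 (iv6 F23635) (iv5 D14148) F19317 D11626 D24579 D50428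
def n50429 : Q := act 1 n24579
theorem D50429 : act 1 n24579 = n50429 := rfl
def n50430 : Q := act 5 n24579
theorem D50430 : act 5 n24579 = n50430 := rfl
theorem F79803 : act 2 n50430 = n50100 := d2_1 D50430 F79314 F40772
theorem F79804 : act 3 n50430 = n25347 := d6_1 D50430 F40057 (iv3 F38583)
theorem F79805 : act 6 n50430 = n24581 := d12_2 D24579 D50430 (iv5 D24581) (iv6 D11627) D11626
theorem F79806 : act 5 n30270 = n50429 := d21_0 (iv1 D50429) D50430 F79805 F38591 F19955 (iv5 D11242) F10348 D6868 D14364 D30270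
def n50431 : Q := act 7 n24579
theorem D50431 : act 7 n24579 = n50431 := rfl
theorem F79807 : act 3 n50431 = n28088 := d8_1 D50431 (iv7 D28088) (iv3 F38583)
theorem F79808 : act 6 n50431 = n49496 := d14_1 D50431 (iv7 D49496) (iv6 D24157) (iv7 F18968) D24579
def n50432 : Q := act 3 n24583
theorem D50432 : act 3 n24583 = n50432 := rfl
def n50433 : Q := act 5 n24583
theorem D50433 : act 5 n24583 = n50433 := rfl
theorem F79809 : act 4 n50433 = n31433 := d16_2 D24583 D50433 (iv5 D31433) (iv4 D14817) (iv5 F19837) (iv4 F20326) F20327 F20287 (iv2 F20285)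
def n50434 : Q := act 6 n24583
theorem D50434 : act 6 n24583 = n50434 := rfl
theorem F79810 : act 4 n50434 = n24584 := d10_1 D50434 (iv6 D24584) D24583
def n50435 : Q := act 0 n24584
theorem D50435 : act 0 n24584 = n50435 := rfl
def n50436 : Q := act 1 n24584
theorem D50436 : act 1 n24584 = n50436 := rfl
def n50437 : Q := act 7 n24584
theorem D50437 : act 7 n24584 = n50437 := rfl
def n50438 : Q := act 3 n24585
theorem D50438 : act 3 n24585 = n50438 := rfl
def n50439 : Q := act 5 n24585
theorem D50439 : act 5 n24585 = n50439 := rfl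
def n50440 : Q := act 6 n24585
theorem D50440 : act 6 n24585 = n50440 := rfl
theorem F79811 : act 4 n50440 = n24586 := d10_1 D50440 (iv6 D24586) D24585
def n50441 : Q := act 1 n24586
theorem D50441 : act 1 n24586 = n50441 := rfl
theorem F79812 : act 7 n50441 = n24618 := d15_2 (iv0 F38600) D50441 F38619
theorem F79813 : act 2 n24629 = n50441 := d4_3 F79812 F38619 D24629
theorem F79814 : act 5 n30298 = n50441 := d13_3 F79812 F38620 D30298
theorem F79815 : act 1 n50441 = n24627 := d15_0 (iv0 D24627) D24629 F79813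
theorem F79816 : act 7 n24627 = n25089 := d15_2 D50441 F79815 F39421
theorem F79817 : act 5 n30239 = n24627 := d13_3 F79816 F39422 D30239
theorem F79818 : act 6 n50437 = n24627 := d14_5 F79816 (iv6 D25089) F20286 D24584 D50437
def n50442 : Q := act 7 n24586
theorem D50442 : act 7 n24586 = n50442 := rfl
theorem F79819 : act 2 n50442 = n24627 := d4_1 D50442 F79816 F39421
theorem F79820 : act 1 n24629 = n50442 := d15_1 F39424 (iv7 D50442) (iv2 F39421)
theorem F79821 : act 1 n50442 = n24618 := d15_1 F79820 (iv7 F79812) (iv2 F79813)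
def n50443 : Q := act 3 n24587
theorem D50443 : act 3 n24587 = n50443 := rfl
def n50444 : Q := act 5 n24587
theorem D50444 : act 5 n24587 = n50444 := rfl
theorem F79822 : act 1 n50444 = n25140 := d17_6 F39888 F39887 (iv1 F39886) (iv5 F49290) (iv4 F49292) D50444 (iv5 D25140) D25138 (iv4 F39636)
def n50445 : Q := act 6 n24587
theorem D50445 : act 6 n24587 = n50445 := rfl
def n50446 : Q := act 3 n24588
theorem D50446 : act 3 n24588 = n50446 := rfl
def n50447 : Q := act 5 n24588
theorem D50447 : act 5 n24588 = n50447 := rfl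
theorem F79823 : act 0 n50447 = n25140 := d17_2 (iv1 F39401) D50447 (iv5 D25140) (iv4 D11939) (iv5 F10419) (iv0 F20329) F20327 F19635 D25084
def n50448 : Q := act 6 n24588
theorem D50448 : act 6 n24588 = n50448 := rfl
def n50449 : Q := act 0 n24589
theorem D50449 : act 0 n24589 = n50449 := rfl
def n50450 : Q := act 1 n24589
theorem D50450 : act 1 n24589 = n50450 := rfl
def n50451 : Q := act 2 n24589
theorem D50451 : act 2 n24589 = n50451 := rfl
theorem F79824 : act 4 n50451 = n24601 := d1_2 (iv4 F38601) D50451 (iv2 D24601)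
def n50452 : Q := act 5 n24589
theorem D50452 : act 5 n24589 = n50452 := rfl
theorem F79825 : act 3 n50452 = n24590 := d6_1 D50452 (iv5 D24590) D24589
def n50453 : Q := act 6 n24589
theorem D50453 : act 6 n24589 = n50453 := rfl
theorem F79826 : act 3 n50453 = n24591 := d7_1 D50453 (iv6 D24591) D24589
theorem F79827 : act 4 n50453 = n24602 := d10_1 D50453 (iv6 D24602) (iv4 F38601)
def n50454 : Q := act 0 n24590
theorem D50454 : act 0 n24590 = n50454 := rfl
theorem F79828 : act 5 n50454 = n24647 := d17_3 (iv1 D24588) D24590 D50454 (iv4 F49276) (iv5 D30833) (iv0 F24271) D27940 F45144 F38825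
def n50455 : Q := act 1 n24590
theorem D50455 : act 1 n24590 = n50455 := rfl
theorem F79829 : act 5 n50455 = n24648 := d17_7 (iv1 F20248) (iv5 D6845) F10163 D5402 D11630 D24590 D50455 (iv0 F39549) (iv4 D25135)
def n50456 : Q := act 6 n24590
theorem D50456 : act 6 n24590 = n50456 := rfl
def n50457 : Q := act 0 n24591
theorem D50457 : act 0 n24591 = n50457 := rfl
def n50458 : Q := act 1 n24591
theorem D50458 : act 1 n24591 = n50458 := rfl
def n50459 : Q := act 5 n24591
theorem D50459 : act 5 n24591 = n50459 := rfl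
def n50460 : Q := act 7 n24591
theorem D50460 : act 7 n24591 = n50460 := rfl
theorem F79830 : act 4 n50460 = n24594 := d11_1 D50460 (iv7 D24594) (iv4 F38602)
def n50461 : Q := act 2 n24592
theorem D50461 : act 2 n24592 = n50461 := rfl
theorem F79831 : act 7 n24593 = n50461 := d15_2 (iv0 D24592) D24593 (iv2 D50461)
def n50462 : Q := act 3 n24592
theorem D50462 : act 3 n24592 = n50462 := rfl
def n50463 : Q := act 4 n24592
theorem D50463 : act 4 n24592 = n50463 := rfl
def n50464 : Q := act 7 n24592
theorem D50464 : act 7 n24592 = n50464 := rfl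
theorem F79832 : act 2 n50464 = n24593 := d4_1 D50464 F79831 (iv2 D50461)
def n50465 : Q := act 3 n24593
theorem D50465 : act 3 n24593 = n50465 := rfl
def n50466 : Q := act 4 n24593
theorem D50466 : act 4 n24593 = n50466 := rfl
def n50467 : Q := act 6 n24593
theorem D50467 : act 6 n24593 = n50467 := rfl
def n50468 : Q := act 0 n24595
theorem D50468 : act 0 n24595 = n50468 := rfl
def n50469 : Q := act 1 n24595
theorem D50469 : act 1 n24595 = n50469 := rfl
def n50470 : Q := act 2 n24595
theorem D50470 : act 2 n24595 = n50470 := rfl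
def n50471 : Q := act 6 n24595
theorem D50471 : act 6 n24595 = n50471 := rfl
theorem F79833 : act 3 n50471 = n24596 := d7_1 D50471 (iv6 D24596) D24595
def n50472 : Q := act 5 n24596
theorem D50472 : act 5 n24596 = n50472 := rfl
def n50473 : Q := act 0 n24597
theorem D50473 : act 0 n24597 = n50473 := rfl
def n50474 : Q := act 1 n24597
theorem D50474 : act 1 n24597 = n50474 := rfl
def n50475 : Q := act 2 n24597
theorem D50475 : act 2 n24597 = n50475 := rfl
def n50476 : Q := act 4 n24597
theorem D50476 : act 4 n24597 = n50476 := rfl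
theorem F79834 : act 3 n50476 = n25216 := d5_1 D50476 (iv4 D25216) (iv3 D11966) (iv4 F18983) D24597
def n50477 : Q := act 6 n24597
theorem D50477 : act 6 n24597 = n50477 := rfl
theorem F79835 : act 3 n50477 = n24598 := d7_1 D50477 (iv6 D24598) D24597
def n50478 : Q := act 5 n24598
theorem D50478 : act 5 n24598 = n50478 := rfl
def n50479 : Q := act 2 n24599
theorem D50479 : act 2 n24599 = n50479 := rfl
theorem F79836 : act 7 n24600 = n50479 := d15_2 (iv0 D24599) D24600 (iv2 D50479)
def n50480 : Q := act 3 n24599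
theorem D50480 : act 3 n24599 = n50480 := rfl
def n50481 : Q := act 4 n24599
theorem D50481 : act 4 n24599 = n50481 := rfl
def n50482 : Q := act 5 n24599
theorem D50482 : act 5 n24599 = n50482 := rfl
def n50483 : Q := act 6 n24599
theorem D50483 : act 6 n24599 = n50483 := rfl
def n50484 : Q := act 7 n24599
theorem D50484 : act 7 n24599 = n50484 := rfl
theorem F79837 : act 2 n50484 = n24600 := d4_1 D50484 F79836 (iv2 D50479)
def n50485 : Q := act 3 n24600
theorem D50485 : act 3 n24600 = n50485 := rfl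
def n50486 : Q := act 4 n24600
theorem D50486 : act 4 n24600 = n50486 := rfl
def n50487 : Q := act 5 n24600
theorem D50487 : act 5 n24600 = n50487 := rfl
def n50488 : Q := act 6 n24600
theorem D50488 : act 6 n24600 = n50488 := rfl
def n50489 : Q := act 6 n24601
theorem D50489 : act 6 n24601 = n50489 := rfl
def n50490 : Q := act 0 n24602
theorem D50490 : act 0 n24602 = n50490 := rfl
def n50491 : Q := act 1 n24602
theorem D50491 : act 1 n24602 = n50491 := rfl
def n50493 : Q := act 7 n24602
theorem D50493 : act 7 n24602 = n50493 := rfl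
theorem F79840 : act 3 n50493 = n24606 := d8_1 D50493 (iv7 D24606) (iv3 F38608)
def n50494 : Q := act 2 n24603
theorem D50494 : act 2 n24603 = n50494 := rfl
theorem F79841 : act 7 n24604 = n50494 := d15_2 (iv0 D24603) D24604 (iv2 D50494)
def n50495 : Q := act 3 n24603
theorem D50495 : act 3 n24603 = n50495 := rfl
def n50496 : Q := act 4 n24603
theorem D50496 : act 4 n24603 = n50496 := rfl
def n50497 : Q := act 5 n24603
theorem D50497 : act 5 n24603 = n50497 := rfl
theorem F79842 : act 0 n50497 = n25151 := d17_2 D24603 D50497 (iv5 D25151) F19701 (iv5 F10633) D13824 (iv5 F23090) (iv0 D11641) (iv4 F18984)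
theorem F79843 : act 6 n25071 = n24603 := d21_5 (iv5 F9875) (iv1 F9876) F8560 D11910 D25071 D50497 F79842 (iv5 D25151) (iv6 D11942) F8562
def n50498 : Q := act 7 n24603
theorem D50498 : act 7 n24603 = n50498 := rfl
def n50499 : Q := act 3 n24604
theorem D50499 : act 3 n24604 = n50499 := rfl
def n50500 : Q := act 4 n24604
theorem D50500 : act 4 n24604 = n50500 := rfl
def n50501 : Q := act 5 n24604
theorem D50501 : act 5 n24604 = n50501 := rfl
def n50502 : Q := act 6 n24604
theorem D50502 : act 6 n24604 = n50502 := rfl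
def n50503 : Q := act 0 n24605
theorem D50503 : act 0 n24605 = n50503 := rfl
def n50504 : Q := act 1 n24605
theorem D50504 : act 1 n24605 = n50504 := rfl
theorem F79845 : act 5 n50504 = n24688 := d17_7 (iv1 F19706) F23783 (iv1 D14252) F11041 (iv4 F18984) D24605 D50504 F39576 F39573
theorem E8171 : n28057 = n24688 := (c21_6 (iv5 F19072) F19073 (iv5 F8555) D11934 D25122 F47646 (iv5 F79845) (iv1 D50504) (iv5 D24605) (iv6 D11640) (iv1 F11443))
theorem F79847 : act 4 n24688 = n13383 := (sb E8171 (iv4 D28057))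
theorem F79848 : act 6 n24688 = n25122 := (sb E8171 (iv6 F47646))
theorem F79849 : act 7 n24688 = n28143 := (sb E8171 (iv7 F45503))
theorem E8172 : n28053 = n24687 := (c15_4 (iv0 D24687) D24688 F79849 F45502)
theorem F79850 : act 2 n24687 = n28143 := (sb E8172 (iv2 F45502))
theorem F79851 : act 4 n24687 = n13382 := (sb E8172 (iv4 D28053))
theorem F79852 : act 7 n24687 = n28146 := (sb E8172 (iv7 F45512))
theorem E8173 : n29497 = n29475 := ((c18_6 (iv1 D11690) (iv4 F19021) D24687 F79851 (iv5 F23365) D29475 (iv0 D29497) F23387 D14252 (iv5 F23783))).symm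
theorem F79853 : act 0 n29475 = n28957 := (sb E8173 (iv1 F47312))
theorem F79854 : act 1 n29475 = n14021 := (sb E8173 (iv0 D29497))
theorem E8174 : n29558 = n29401 := ((c18_2 D13982 D29401 (iv1 F47427) F46691 F23092 (iv4 F39573) F39577 F79851 (iv0 D13382) (iv5 F10785))).symm
theorem F79855 : act 0 n29401 = n29050 := (sb E8174 (iv1 F47427))
theorem F79856 : act 1 n29401 = n14040 := (sb E8174 (iv0 D29558))
theorem E8175 : n29559 = n29403 := (c15_2 F79856 D29559 F47108 (iv2 F47102))
theorem F79857 : act 0 n29403 = n14040 := (sb E8175 (iv1 D29559))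
theorem F79858 : act 1 n29403 = n29050 := (sb E8175 F47422)
theorem E8176 : n25072 = n24794 := (c18_3 (iv1 F19624) (iv4 F38609) (iv1 F39362) (iv4 D24794) (iv5 F23299) D29401 F79856 F23425 D14042 (iv5 F23429))
theorem F79859 : act 0 n24794 = n11910 := (sb E8176 (iv1 D25072))
theorem F79860 : act 1 n24794 = n24606 := (sb E8176 F39362)
theorem E8177 : n25071 = n24791 := (c15_2 F79860 F39367 (iv7 F45358) F45366)
theorem F79861 : act 0 n24791 = n24606 := (sb E8177 (iv1 F39367))
theorem F79862 : act 1 n24791 = n11910 := (sb E8177 (iv0 D25071))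
theorem E8178 : n25228 = n24603 := (((iv6 F39742)).symm.trans (sb E8177 F79843))
theorem E8179 : n50494 = n24791 := ((D50494).symm.trans (sb E8178 F45363))
theorem E8180 : n50496 = n11970 := ((D50496).symm.trans (sb E8178 (iv4 D25228)))
theorem F79863 : act 6 n24603 = n24791 := (sb E8178 F39742)
theorem E8181 : n50498 = n24794 := ((D50498).symm.trans (sb E8178 (iv7 F45365)))
theorem F79864 : act 2 n24791 = n24603 := (sb E8179 (iv2 D50494))
theorem E8182 : n25231 = n24604 := (((iv7 F45358)).symm.trans (sb E8179 (iv7 F79841)))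
theorem F79865 : act 4 n11970 = n24603 := (sb E8180 (iv4 D50496))
theorem F79866 : act 7 n24794 = n24603 := (sb E8181 (iv7 D50498))
theorem F79867 : act 2 n24604 = n24794 := (sb E8182 F45366)
theorem E8183 : n50500 = n11971 := ((D50500).symm.trans (sb E8182 (iv4 D25231)))
theorem F79868 : act 7 n24604 = n24791 := (sb E8182 F45358)
theorem F79869 : act 4 n11971 = n24604 := (sb E8183 (iv4 D50500))
theorem F79870 : act 4 n50502 = n25232 := d10_3 (iv6 D25232) F79869 D50502
theorem F79871 : act 5 n50503 = n24687 := d17_3 (iv1 D24604) D24605 D50503 F79851 (iv5 F23365) (iv0 D14013) F10814 D11971 F79869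
theorem E8184 : n29498 = n29478 := (c18_7 (iv1 F19756) F79869 (iv1 D24604) F18984 (iv5 F11041) (iv4 F23387) D29498 (iv4 D29478) F23367 F23034)
theorem F79872 : act 0 n29478 = n14021 := (sb E8184 (iv1 D29498))
theorem F79873 : act 1 n29478 = n28957 := (sb E8184 F47307)
theorem E8185 : n29047 = n28844 := (c18_3 (iv1 D13824) (iv4 F23088) D29047 (iv4 D28844) F23001 F79869 F39368 F39365 F19626 F23090)
theorem F79874 : act 0 n28844 = n29561 := (sb E8185 (iv1 F47429))
theorem F79875 : act 1 n28844 = n13822 := (sb E8185 (iv0 D29047))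
theorem E8186 : n29048 = n28846 := (c15_2 F79875 D29048 (iv7 F47104) F47102)
theorem F79876 : act 0 n28846 = n13822 := (sb E8186 (iv1 D29048))
theorem F79877 : act 1 n28846 = n29561 := (sb E8186 F47428)
theorem E8187 : n28146 = n25150 := ((c18_7 (iv1 F23306) D28846 F79876 F23088 F10633 (iv4 F19701) D25150 (iv4 D28146) F22349 (iv5 F23303))).symm
theorem F79879 : act 4 n25150 = n13432 := (sb E8187 (iv4 D28146))
theorem F79880 : act 6 n25150 = n24660 := (sb E8187 (iv6 F46781))
theorem F79881 : act 7 n25150 = n24687 := (sb E8187 (iv7 F79852))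
theorem E8188 : n28143 = n25149 := (c15_4 (iv0 D25149) D25150 F79881 F79850)
theorem F79882 : act 2 n25149 = n24687 := (sb E8188 (iv2 F79850))
theorem F79883 : act 4 n25149 = n13431 := (sb E8188 (iv4 D28143))
theorem F79884 : act 7 n25149 = n24688 := (sb E8188 (iv7 F79849))
theorem E8189 : n28954 = n28930 := ((c18_6 (iv1 D11944) (iv4 F19701) D25149 F79883 (iv5 F23307) D28930 (iv0 D28954) F23038 D14194 (iv5 F23702))).symm
theorem F79885 : act 0 n28930 = n29500 := (sb E8189 (iv1 F47314))
theorem F79886 : act 1 n28930 = n13789 := (sb E8189 (iv0 D28954))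
theorem E8190 : n28955 = n28933 := (c15_2 F79886 D28955 (iv7 F47261) F47260)
theorem F79887 : act 0 n28933 = n13789 := (sb E8190 (iv1 D28955))
theorem F79888 : act 1 n28933 = n29500 := (sb E8190 F47313)
theorem F79889 : act 1 n50501 = n25151 := d17_6 (iv1 D13432) (iv5 F10609) D13747 F23001 F79869 D50501 (iv5 D25151) D25150 F79879
def n50505 : Q := act 4 n24605
theorem D50505 : act 4 n24605 = n50505 := rfl
def n50506 : Q := act 7 n24605
theorem D50506 : act 7 n24605 = n50506 := rfl
theorem F79890 : act 5 n50506 = n24606 := d13_1 D50506 (iv7 D24606) D24605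
def n50507 : Q := act 0 n24608
theorem D50507 : act 0 n24608 = n50507 := rfl
def n50508 : Q := act 1 n24608
theorem D50508 : act 1 n24608 = n50508 := rfl
def n50509 : Q := act 2 n24608
theorem D50509 : act 2 n24608 = n50509 := rfl
def n50510 : Q := act 4 n24608
theorem D50510 : act 4 n24608 = n50510 := rfl
def n50511 : Q := act 0 n24609
theorem D50511 : act 0 n24609 = n50511 := rfl
theorem F79891 : act 1 n24612 = n50511 := d15_0 (iv0 D50511) (iv7 F39391) (iv2 F39392)
def n50512 : Q := act 1 n24609
theorem D50512 : act 1 n24609 = n50512 := rfl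
def n50513 : Q := act 3 n24609
theorem D50513 : act 3 n24609 = n50513 := rfl
def n50514 : Q := act 5 n24609
theorem D50514 : act 5 n24609 = n50514 := rfl
def n50517 : Q := act 2 n24611
theorem D50517 : act 2 n24611 = n50517 := rfl
def n50518 : Q := act 4 n24611
theorem D50518 : act 4 n24611 = n50518 := rfl
def n50519 : Q := act 6 n24611
theorem D50519 : act 6 n24611 = n50519 := rfl
theorem F79893 : act 3 n50519 = n24613 := d7_1 D50519 (iv6 D24613) D24611
def n50520 : Q := act 3 n24612
theorem D50520 : act 3 n24612 = n50520 := rfl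
def n50521 : Q := act 5 n24612
theorem D50521 : act 5 n24612 = n50521 := rfl
def n50522 : Q := act 6 n24612
theorem D50522 : act 6 n24612 = n50522 := rfl
theorem F79894 : act 4 n50522 = n24613 := d10_1 D50522 (iv6 D24613) D24612
def n50523 : Q := act 6 n24614
theorem D50523 : act 6 n24614 = n50523 := rfl
theorem F79895 : act 3 n50523 = n25040 := d7_1 D50523 (iv6 D25040) (iv3 F38612)
theorem F79896 : act 5 n50523 = n50523 := d12_1 D50523 (iv6 D50523) (iv5 D24614) F22563 D24614
theorem F79897 : act 7 n50523 = n50244 := d14_2 (iv7 F38613) D50523 (iv6 D50244) F38458 (iv6 F25999)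
def n50524 : Q := act 3 n24615
theorem D50524 : act 3 n24615 = n50524 := rfl
theorem F79898 : act 7 n50524 = n34033 := d8_2 (iv7 F38616) D50524 (iv3 D34033)
def n50525 : Q := act 5 n24615
theorem D50525 : act 5 n24615 = n50525 := rfl
theorem F79899 : act 7 n50525 = n34034 := d13_2 (iv7 F38616) D50525 (iv5 D34034)
def n50526 : Q := act 6 n24615
theorem D50526 : act 6 n24615 = n50526 := rfl
theorem F79900 : act 4 n50526 = n24616 := d10_1 D50526 (iv6 D24616) D24615
def n50527 : Q := act 3 n24617
theorem D50527 : act 3 n24617 = n50527 := rfl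
def n50528 : Q := act 5 n24617
theorem D50528 : act 5 n24617 = n50528 := rfl
theorem F79901 : act 2 n50528 = n24625 := d2_1 D50528 (iv5 D24625) (iv2 F38618)
theorem F79902 : act 4 n50528 = n25206 := d16_2 D24617 D50528 (iv5 D25206) (iv4 D11961) (iv5 D5637) F10042 D5580 F8503 (iv2 F18997)
def n50529 : Q := act 6 n24617
theorem D50529 : act 6 n24617 = n50529 := rfl
theorem F79903 : act 2 n50529 = n24626 := d3_1 D50529 (iv6 D24626) (iv2 F38618)
theorem F79904 : act 4 n50529 = n24618 := d10_1 D50529 (iv6 D24618) D24617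
def n50530 : Q := act 3 n24620
theorem D50530 : act 3 n24620 = n50530 := rfl
theorem F79905 : act 4 n50530 = n32156 := d5_2 D24620 D50530 F51123 F39687 (iv3 D24619)
theorem F79906 : act 5 n28460 = n50530 := d16_1 F51091 F79905 (iv5 D32156) (iv4 D15178) F50821 D31529 (iv5 F51109) (iv7 F54554) F54552
def n50531 : Q := act 5 n24620
theorem D50531 : act 5 n24620 = n50531 := rfl
theorem F79907 : act 3 n50531 = n28460 := d6_1 D50531 F79906 (iv3 D50530)
def n50532 : Q := act 6 n24620
theorem D50532 : act 6 n24620 = n50532 := rfl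
theorem F79908 : act 4 n50532 = n24621 := d10_1 D50532 (iv6 D24621) D24620
def n50533 : Q := act 7 n24621
theorem D50533 : act 7 n24621 = n50533 := rfl
theorem F79909 : act 5 n50533 = n34078 := d13_1 D50533 (iv7 D34078) (iv5 F38624)
def n50534 : Q := act 3 n24622
theorem D50534 : act 3 n24622 = n50534 := rfl
def n50535 : Q := act 5 n24622
theorem D50535 : act 5 n24622 = n50535 := rfl
theorem F79910 : act 1 n50535 = n25113 := d17_6 (iv1 F39647) (iv5 F37972) (iv1 F39764) (iv5 F40260) F40261 D50535 (iv5 D25113) D25111 (iv4 F39471)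
def n50536 : Q := act 6 n24622
theorem D50536 : act 6 n24622 = n50536 := rfl
def n50537 : Q := act 3 n24623
theorem D50537 : act 3 n24623 = n50537 := rfl
def n50538 : Q := act 5 n24623
theorem D50538 : act 5 n24623 = n50538 := rfl
theorem F79911 : act 0 n50538 = n25113 := d17_2 F39290 D50538 (iv5 D25113) (iv4 D11931) (iv5 F10417) (iv0 F22474) D6898 F22588 D25041
def n50539 : Q := act 6 n24623
theorem D50539 : act 6 n24623 = n50539 := rfl
def n50540 : Q := act 0 n24624
theorem D50540 : act 0 n24624 = n50540 := rfl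
def n50541 : Q := act 1 n24624
theorem D50541 : act 1 n24624 = n50541 := rfl
def n50542 : Q := act 2 n24624
theorem D50542 : act 2 n24624 = n50542 := rfl
theorem F79912 : act 4 n50542 = n24633 := d1_2 (iv4 F38625) D50542 (iv2 D24633)
def n50543 : Q := act 5 n24624
theorem D50543 : act 5 n24624 = n50543 := rfl
theorem F79913 : act 3 n50543 = n24625 := d6_1 D50543 (iv5 D24625) D24624
def n50544 : Q := act 6 n24624
theorem D50544 : act 6 n24624 = n50544 := rfl
theorem F79914 : act 3 n50544 = n24626 := d7_1 D50544 (iv6 D24626) D24624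
def n50545 : Q := act 0 n24625
theorem D50545 : act 0 n24625 = n50545 := rfl
theorem F79916 : act 5 n50545 = n24675 := d17_3 (iv1 D24623) D24625 D50545 F38672 (iv5 D24324) F19323 D12104 (iv0 F40160) F38751
def n50546 : Q := act 1 n24625
theorem D50546 : act 1 n24625 = n50546 := rfl
theorem F79917 : act 5 n50546 = n24676 := d17_7 (iv1 F19679) (iv5 D11653) (iv1 D5411) D5414 D11659 D24625 D50546 (iv0 F39465) (iv4 D25108)
theorem F79918 : act 4 n49884 = n50546 := d16_2 D24325 D49884 F79917 (iv4 F38732) (iv5 D24745) F19056 D11749 (iv7 F19346) F18724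
def n50547 : Q := act 4 n24625
theorem D50547 : act 4 n24625 = n50547 := rfl
theorem F79919 : act 2 n50547 = n25206 := d1_1 D50547 (iv4 F79902) F79901
theorem F79920 : act 5 n50547 = n25195 := d16_3 D11659 D24625 D50547 (iv4 D25195) (iv5 D11957) (iv4 F10107) D11895 F19583 F18997
theorem F79921 : act 0 n50547 = n32096 := d18_2 (iv1 D50546) D50547 (iv4 F53379) (iv5 D34031) (iv4 D16485) F22442 D11685 D24676 (iv5 F79917)
def n50548 : Q := act 6 n24625
theorem D50548 : act 6 n24625 = n50548 := rfl
def n50549 : Q := act 0 n24626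
theorem D50549 : act 0 n24626 = n50549 := rfl
def n50550 : Q := act 1 n24626
theorem D50550 : act 1 n24626 = n50550 := rfl
def n50551 : Q := act 5 n24626
theorem D50551 : act 5 n24626 = n50551 := rfl
def n50552 : Q := act 7 n24626
theorem D50552 : act 7 n24626 = n50552 := rfl
theorem F79922 : act 4 n50552 = n24629 := d11_1 D50552 (iv7 D24629) (iv4 F38626)
def n50553 : Q := act 3 n24627
theorem D50553 : act 3 n24627 = n50553 := rfl
def n50554 : Q := act 4 n24627
theorem D50554 : act 4 n24627 = n50554 := rfl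
def n50555 : Q := act 0 n24628
theorem D50555 : act 0 n24628 = n50555 := rfl
def n50556 : Q := act 1 n24628
theorem D50556 : act 1 n24628 = n50556 := rfl
theorem F79923 : act 1 n50556 = n30298 := d15_1 D50556 (iv7 D30298) (iv2 F38627)
def n50557 : Q := act 4 n24628
theorem D50557 : act 4 n24628 = n50557 := rfl
theorem F79924 : act 2 n50557 = n30295 := d1_1 D50557 F48728 (iv2 F38627)
theorem F79925 : act 6 n50557 = n24630 := d10_2 (iv6 F38629) D50557 (iv4 D24630)
def n50558 : Q := act 7 n24628
theorem D50558 : act 7 n24628 = n50558 := rfl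
theorem F79926 : act 2 n50558 = n30298 := d4_1 D50558 (iv7 D30298) (iv2 F38627)
theorem F79927 : act 3 n50558 = n24643 := d8_1 D50558 (iv7 D24643) (iv3 F38628)
theorem F79928 : act 5 n50558 = n24629 := d13_1 D50558 (iv7 D24629) D24628
theorem F79929 : act 6 n50558 = n30228 := d14_1 D50558 F48903 (iv6 D14382) F22560 (iv6 F38629)
theorem F79930 : act 1 n30298 = n50555 := d15_0 (iv0 D50555) D50558 F79926
theorem F79931 : act 1 n30297 = n50558 := d15_1 D30297 (iv7 D50558) F38627
theorem F79932 : act 0 n30296 = n50558 := d21_4 F48468 (iv1 F48470) D30514 (iv6 F48905) F79929 F48902 (iv1 F48343) (iv5 F48900) (iv6 D30510) (iv1 F48471)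
def n50559 : Q := act 3 n24630
theorem D50559 : act 3 n24630 = n50559 := rfl
theorem F79933 : act 4 n50559 = n24644 := d5_2 D24630 D50559 (iv3 D24644) (iv4 D11670) (iv3 F19000)
theorem F79934 : act 7 n50559 = n30299 := d8_2 (iv7 F38632) D50559 (iv3 D30299)
def n50560 : Q := act 2 n24631
theorem D50560 : act 2 n24631 = n50560 := rfl
theorem F79935 : act 7 n24632 = n50560 := d15_2 (iv0 D24631) D24632 (iv2 D50560)
def n50561 : Q := act 3 n24631
theorem D50561 : act 3 n24631 = n50561 := rfl
def n50562 : Q := act 4 n24631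
theorem D50562 : act 4 n24631 = n50562 := rfl
def n50563 : Q := act 5 n24631
theorem D50563 : act 5 n24631 = n50563 := rfl
def n50564 : Q := act 6 n24631
theorem D50564 : act 6 n24631 = n50564 := rfl
def n50565 : Q := act 7 n24631
theorem D50565 : act 7 n24631 = n50565 := rfl
theorem F79936 : act 2 n50565 = n24632 := d4_1 D50565 F79935 (iv2 D50560)
def n50566 : Q := act 3 n24632
theorem D50566 : act 3 n24632 = n50566 := rfl
def n50567 : Q := act 4 n24632
theorem D50567 : act 4 n24632 = n50567 := rfl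
def n50568 : Q := act 5 n24632
theorem D50568 : act 5 n24632 = n50568 := rfl
def n50569 : Q := act 6 n24632
theorem D50569 : act 6 n24632 = n50569 := rfl
def n50570 : Q := act 6 n24633
theorem D50570 : act 6 n24633 = n50570 := rfl
def n50572 : Q := act 1 n24634
theorem D50572 : act 1 n24634 = n50572 := rfl
def n50575 : Q := act 3 n24635
theorem D50575 : act 3 n24635 = n50575 := rfl
def n50576 : Q := act 5 n24635
theorem D50576 : act 5 n24635 = n50576 := rfl
def n50577 : Q := act 0 n24636
theorem D50577 : act 0 n24636 = n50577 := rfl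
def n50578 : Q := act 1 n24636
theorem D50578 : act 1 n24636 = n50578 := rfl
def n50579 : Q := act 4 n24636
theorem D50579 : act 4 n24636 = n50579 := rfl
def n50580 : Q := act 7 n24636
theorem D50580 : act 7 n24636 = n50580 := rfl
theorem F79940 : act 5 n50580 = n24637 := d13_1 D50580 (iv7 D24637) D24636
def n50581 : Q := act 3 n24639
theorem D50581 : act 3 n24639 = n50581 := rfl
def n50582 : Q := act 5 n24639
theorem D50582 : act 5 n24639 = n50582 := rfl
def n50583 : Q := act 3 n24640
theorem D50583 : act 3 n24640 = n50583 := rfl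
theorem F79941 : act 7 n50583 = n30737 := d8_2 (iv7 F39509) D50583 (iv3 D30737)
def n50584 : Q := act 3 n24641
theorem D50584 : act 3 n24641 = n50584 := rfl
theorem F79942 : act 7 n50584 = n30735 := d8_2 F39514 D50584 (iv3 D30735)
def n50585 : Q := act 0 n24642
theorem D50585 : act 0 n24642 = n50585 := rfl
def n50586 : Q := act 1 n24642
theorem D50586 : act 1 n24642 = n50586 := rfl
theorem F79943 : act 1 n50586 = n30734 := d15_1 D50586 (iv7 D30734) (iv2 F38636)
theorem F79944 : act 4 n50586 = n25282 := d18_7 (iv1 F19751) (iv4 F38606) F38607 F19004 D11668 D24642 D50586 F39907 F24478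
theorem F79945 : act 2 n30732 = n50586 := d1_3 F79944 (iv2 F45453) (iv4 F49196)
theorem F79946 : act 7 n31426 = n50586 := d11_0 F79944 (iv7 F45456) D31426
theorem F79947 : act 2 n31426 = n50585 := d15_3 (iv0 D50585) D50586 (iv7 F79946)
theorem F79948 : act 4 n50585 = n25281 := d1_2 D31426 F79947 F45454
theorem F79949 : act 7 n50585 = n30732 := d4_2 (iv7 F79946) F79947 F79945
theorem E8191 : n31426 = n30731 := (c15_4 (iv0 D30731) D30732 (iv7 F79949) (iv2 F79947))
theorem F79950 : act 2 n30731 = n50585 := (sb E8191 F79947)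
theorem F79951 : act 4 n30731 = n14812 := (sb E8191 (iv4 D31426))
theorem F79952 : act 7 n30731 = n50586 := (sb E8191 F79946)
theorem F79953 : act 1 n30734 = n50585 := d15_1 F79943 F79949 F79945
def n50587 : Q := act 3 n24642
theorem D50587 : act 3 n24642 = n50587 := rfl
theorem F79954 : act 6 n50587 = n24644 := d7_2 (iv6 F38637) D50587 (iv3 D24644)
def n50588 : Q := act 5 n24642
theorem D50588 : act 5 n24642 = n50588 := rfl
theorem F79955 : act 2 n50588 = n30733 := d2_1 D50588 (iv5 D30733) (iv2 F38636)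
theorem F79956 : act 1 n50588 = n34199 := d17_6 (iv1 D16541) (iv5 F18980) F18981 D11668 D24642 D50588 (iv5 D34199) (iv0 F53715) (iv4 D34168)
def n50589 : Q := act 7 n24642
theorem D50589 : act 7 n24642 = n50589 := rfl
theorem F79957 : act 2 n50589 = n30734 := d4_1 D50589 (iv7 D30734) (iv2 F38636)
theorem F79958 : act 4 n50589 = n24643 := d11_1 D50589 (iv7 D24643) D24642
theorem F79959 : act 6 n50589 = n30564 := d14_1 D50589 F48985 (iv6 D14569) (iv7 F19008) (iv6 F38637)
theorem F79960 : act 1 n30732 = n50589 := d15_1 D30732 (iv7 D50589) F38636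
theorem F79961 : act 1 n50589 = n30731 := d15_1 F79960 F79952 (iv2 F79945)
def n50590 : Q := act 0 n24644
theorem D50590 : act 0 n24644 = n50590 := rfl
theorem F79962 : act 1 n30741 = n50590 := d15_0 (iv0 D50590) F38644 D30741
def n50591 : Q := act 1 n24644
theorem D50591 : act 1 n24644 = n50591 := rfl
def n50592 : Q := act 2 n24644
theorem D50592 : act 2 n24644 = n50592 := rfl
theorem F79963 : act 3 n50592 = n30727 := d0_2 D24644 D50592 (iv2 D30727) (iv3 D14561) (iv2 F19007)
theorem F79964 : act 7 n50592 = n30741 := d4_2 (iv7 F38644) D50592 (iv2 D30741)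
theorem F79965 : act 1 n50592 = n30739 := d15_0 (iv0 D30739) (iv7 F38644) D50592
theorem F79966 : act 1 n50591 = n30741 := d15_1 D50591 (iv7 F79964) (iv2 D50592)
theorem F79967 : act 1 n30740 = n50592 := d15_1 D30740 F79964 (iv2 D30741)
def n50593 : Q := act 3 n24645
theorem D50593 : act 3 n24645 = n50593 := rfl
def n50594 : Q := act 5 n24645
theorem D50594 : act 5 n24645 = n50594 := rfl
theorem F79968 : act 2 n50594 = n24650 := d2_1 D50594 (iv5 D24650) (iv2 F38645)
theorem F79969 : act 4 n50594 = n49545 := d16_2 D24645 D50594 (iv5 D49545) (iv4 D24178) (iv5 F19220) F19219 F10419 F8558 D11673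
theorem F79970 : act 1 n50594 = n50444 := d17_6 D11628 (iv5 F20284) (iv1 F22287) F22285 D24645 D50594 (iv5 D50444) (iv0 D24587) (iv4 D11630)
def n50595 : Q := act 6 n24645
theorem D50595 : act 6 n24645 = n50595 := rfl
theorem F79971 : act 2 n50595 = n24651 := d3_1 D50595 (iv6 D24651) (iv2 F38645)
theorem F79972 : act 4 n50595 = n24646 := d10_1 D50595 (iv6 D24646) D24645
def n50596 : Q := act 0 n24646
theorem D50596 : act 0 n24646 = n50596 := rfl
def n50597 : Q := act 1 n24646
theorem D50597 : act 1 n24646 = n50597 := rfl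
theorem F79973 : act 1 n50597 = n24655 := d15_1 D50597 (iv7 D24655) (iv2 F38646)
def n50598 : Q := act 7 n24646
theorem D50598 : act 7 n24646 = n50598 := rfl
theorem F79974 : act 2 n50598 = n24655 := d4_1 D50598 (iv7 D24655) (iv2 F38646)
theorem F79975 : act 5 n50598 = n30162 := d13_1 D50598 F48509 (iv5 F38647)
theorem F79976 : act 1 n24655 = n50596 := d15_0 (iv0 D50596) D50598 F79974
theorem F79977 : act 1 n24653 = n50598 := d15_1 D24653 (iv7 D50598) F38646
theorem F79978 : act 1 n50598 = n24652 := d15_0 (iv0 D24652) D24655 (iv2 F79974)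
def n50599 : Q := act 3 n24647
theorem D50599 : act 3 n24647 = n50599 := rfl
def n50600 : Q := act 6 n24647
theorem D50600 : act 6 n24647 = n50600 := rfl
def n50601 : Q := act 3 n24648
theorem D50601 : act 3 n24648 = n50601 := rfl
theorem F79979 : act 4 n50601 = n49883 := d5_2 F38648 D50601 (iv3 D49883) (iv4 D24325) (iv3 F38106)
def n50602 : Q := act 0 n24649
theorem D50602 : act 0 n24649 = n50602 := rfl
def n50603 : Q := act 1 n24649
theorem D50603 : act 1 n24649 = n50603 := rfl
def n50604 : Q := act 2 n24649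
theorem D50604 : act 2 n24649 = n50604 := rfl
theorem F79980 : act 4 n50604 = n24658 := d1_2 (iv4 F38649) D50604 (iv2 D24658)
def n50605 : Q := act 5 n24649
theorem D50605 : act 5 n24649 = n50605 := rfl
theorem F79981 : act 3 n50605 = n24650 := d6_1 D50605 (iv5 D24650) D24649
def n50606 : Q := act 6 n24649
theorem D50606 : act 6 n24649 = n50606 := rfl
theorem F79982 : act 3 n50606 = n24651 := d7_1 D50606 (iv6 D24651) D24649
theorem F79983 : act 4 n50606 = n24659 := d10_1 D50606 (iv6 D24659) (iv4 F38649)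
def n50607 : Q := act 0 n24650
theorem D50607 : act 0 n24650 = n50607 := rfl
theorem F79984 : act 5 n50607 = n25092 := d17_3 (iv1 D24648) D24650 D50607 (iv4 F45232) (iv5 F78581) F78578 F49680 (iv0 F45164) F38648
theorem F79985 : act 2 n50447 = n50607 := d2_3 F79984 (iv2 F39672) D50447
theorem F79986 : act 7 n50444 = n50607 := d13_0 F79984 (iv7 F39674) D50444
theorem F79987 : act 1 n50447 = n50594 := d15_0 F79970 F79986 (iv2 F79985)
theorem E8192 : n50550 = n50448 := ((c21_4 D50594 (iv1 F79987) (iv5 D50447) D50448 (iv1 D50550) (iv6 D24626) D24625 D50545 F79916 (iv6 F39641) (iv1 F39553))).symm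
theorem F79988 : act 0 n50448 = n24626 := (sb E8192 (iv1 D50550))
def n50608 : Q := act 1 n24650
theorem D50608 : act 1 n24650 = n50608 := rfl
theorem F79989 : act 7 n50608 = n50447 := d15_2 (iv0 D50607) D50608 F79985
theorem F79990 : act 5 n50608 = n25093 := d17_7 (iv1 F19640) F19641 F11437 F10365 D11674 D24650 D50608 F39430 (iv4 D24572)
theorem F79991 : act 2 n50444 = n50608 := d2_3 F79990 F39673 D50444
def n50609 : Q := act 6 n24650
theorem D50609 : act 6 n24650 = n50609 := rfl
def n50610 : Q := act 0 n24651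
theorem D50610 : act 0 n24651 = n50610 := rfl
def n50611 : Q := act 1 n24651
theorem D50611 : act 1 n24651 = n50611 := rfl
def n50612 : Q := act 5 n24651
theorem D50612 : act 5 n24651 = n50612 := rfl
def n50613 : Q := act 7 n24651
theorem D50613 : act 7 n24651 = n50613 := rfl
theorem F79992 : act 4 n50613 = n24655 := d11_1 D50613 (iv7 D24655) (iv4 F38650)
def n50614 : Q := act 2 n24652
theorem D50614 : act 2 n24652 = n50614 := rfl
theorem F79993 : act 7 n24653 = n50614 := d15_2 (iv0 D24652) D24653 (iv2 D50614)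
def n50615 : Q := act 3 n24652
theorem D50615 : act 3 n24652 = n50615 := rfl
def n50616 : Q := act 4 n24652
theorem D50616 : act 4 n24652 = n50616 := rfl
def n50617 : Q := act 5 n24652
theorem D50617 : act 5 n24652 = n50617 := rfl
def n50618 : Q := act 6 n24652
theorem D50618 : act 6 n24652 = n50618 := rfl
def n50619 : Q := act 7 n24652
theorem D50619 : act 7 n24652 = n50619 := rfl
theorem F79994 : act 2 n50619 = n24653 := d4_1 D50619 F79993 (iv2 D50614)
def n50620 : Q := act 3 n24653
theorem D50620 : act 3 n24653 = n50620 := rfl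
def n50621 : Q := act 4 n24653
theorem D50621 : act 4 n24653 = n50621 := rfl
def n50622 : Q := act 6 n24653
theorem D50622 : act 6 n24653 = n50622 := rfl
theorem F79995 : act 5 n50622 = n30296 := d12_1 D50622 F48905 (iv5 D30514) D30515 F48906
def n50623 : Q := act 4 n24654
theorem D50623 : act 4 n24654 = n50623 := rfl
theorem F79996 : act 2 n50623 = n30368 := d1_1 D50623 (iv4 D30368) (iv2 F38651)
theorem F79997 : act 6 n50623 = n30216 := d10_2 (iv6 F38653) D50623 (iv4 D30216)
theorem F79998 : act 7 n50623 = n30366 := d11_2 F48513 D50623 (iv4 D30366)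
def n50624 : Q := act 2 n24656
theorem D50624 : act 2 n24656 = n50624 := rfl
theorem F79999 : act 7 n24657 = n50624 := d15_2 (iv0 D24656) D24657 (iv2 D50624)
def n50625 : Q := act 3 n24656
theorem D50625 : act 3 n24656 = n50625 := rfl
def n50626 : Q := act 4 n24656
theorem D50626 : act 4 n24656 = n50626 := rfl
def n50627 : Q := act 5 n24656
theorem D50627 : act 5 n24656 = n50627 := rfl
def n50628 : Q := act 6 n24656
theorem D50628 : act 6 n24656 = n50628 := rfl
def n50629 : Q := act 7 n24656
theorem D50629 : act 7 n24656 = n50629 := rfl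
theorem F80000 : act 2 n50629 = n24657 := d4_1 D50629 F79999 (iv2 D50624)
def n50630 : Q := act 3 n24657
theorem D50630 : act 3 n24657 = n50630 := rfl
def n50631 : Q := act 4 n24657
theorem D50631 : act 4 n24657 = n50631 := rfl
def n50632 : Q := act 5 n24657
theorem D50632 : act 5 n24657 = n50632 := rfl
def n50633 : Q := act 6 n24657
theorem D50633 : act 6 n24657 = n50633 := rfl
def n50634 : Q := act 6 n24658
theorem D50634 : act 6 n24658 = n50634 := rfl
def n50635 : Q := act 0 n24659
theorem D50635 : act 0 n24659 = n50635 := rfl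
def n50636 : Q := act 1 n24659
theorem D50636 : act 1 n24659 = n50636 := rfl
def n50637 : Q := act 5 n24659
theorem D50637 : act 5 n24659 = n50637 := rfl
theorem F80002 : act 3 n50637 = n24662 := d6_1 D50637 (iv5 D24662) (iv3 F38660)
def n50638 : Q := act 7 n24659
theorem D50638 : act 7 n24659 = n50638 := rfl
theorem F80004 : act 3 n50638 = n24663 := d8_1 D50638 (iv7 D24663) (iv3 F38660)
def n50639 : Q := act 3 n24660
theorem D50639 : act 3 n24660 = n50639 := rfl
def n50640 : Q := act 5 n24660
theorem D50640 : act 5 n24660 = n50640 := rfl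
def n50641 : Q := act 3 n24661
theorem D50641 : act 3 n24661 = n50641 := rfl
def n50642 : Q := act 5 n24661
theorem D50642 : act 5 n24661 = n50642 := rfl
def n50643 : Q := act 6 n24661
theorem D50643 : act 6 n24661 = n50643 := rfl
theorem F80005 : act 4 n50643 = n28042 := d10_1 D50643 (iv6 D28042) (iv4 F46777)
def n50644 : Q := act 0 n24662
theorem D50644 : act 0 n24662 = n50644 := rfl
theorem F80006 : act 5 n50644 = n24773 := d17_3 (iv1 D24661) D24662 D50644 F38777 F19076 D12367 (iv5 F20551) D13377 (iv4 F46777)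
theorem F80007 : act 2 n31787 = n50644 := d2_3 F80006 F38776 D31787
theorem F80008 : act 6 n31787 = n50644 := d12_0 F80006 (iv6 D24773) F19072 (iv6 F24612) D31787
def n50645 : Q := act 1 n24662
theorem D50645 : act 1 n24662 = n50645 := rfl
theorem F80009 : act 7 n50645 = n31787 := d15_2 (iv0 D50644) D50645 F80007
theorem F80010 : act 5 n31788 = n50645 := d21_6 (iv5 D6344) (iv1 F8242) F8241 D11666 D24635 (iv6 F50085) (iv1 D50645) (iv5 D24662) (iv6 D11677) (iv1 F9872)
def n50646 : Q := act 4 n24662
theorem D50646 : act 4 n24662 = n50646 := rfl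
def n50647 : Q := act 7 n24662
theorem D50647 : act 7 n24662 = n50647 := rfl
theorem F80012 : act 5 n50647 = n24663 := d13_1 D50647 (iv7 D24663) D24662
theorem F80013 : act 0 n31787 = n50647 := d17_2 F49366 D31787 F80012 F38662 (iv5 F20409) (iv0 D6992) D6994 D14644 D30932
def n50648 : Q := act 0 n24665
theorem D50648 : act 0 n24665 = n50648 := rfl
def n50649 : Q := act 1 n24665
theorem D50649 : act 1 n24665 = n50649 := rfl
def n50650 : Q := act 2 n24665
theorem D50650 : act 2 n24665 = n50650 := rfl
def n50651 : Q := act 4 n24665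
theorem D50651 : act 4 n24665 = n50651 := rfl
def n50652 : Q := act 5 n24665
theorem D50652 : act 5 n24665 = n50652 := rfl
theorem F80014 : act 3 n50652 = n24667 := d6_1 D50652 (iv5 D24667) D24665
def n50653 : Q := act 3 n24666
theorem D50653 : act 3 n24666 = n50653 := rfl
def n50654 : Q := act 5 n24666
theorem D50654 : act 5 n24666 = n50654 := rfl
def n50655 : Q := act 4 n24667
theorem D50655 : act 4 n24667 = n50655 := rfl
def n50658 : Q := act 2 n24669
theorem D50658 : act 2 n24669 = n50658 := rfl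
def n50659 : Q := act 4 n24669
theorem D50659 : act 4 n24669 = n50659 := rfl
def n50660 : Q := act 6 n24669
theorem D50660 : act 6 n24669 = n50660 := rfl
theorem F80015 : act 3 n50660 = n24671 := d7_1 D50660 (iv6 D24671) D24669
theorem F80016 : act 5 n50660 = n30735 := d12_1 D50660 F49592 (iv5 D31339) D31340 (iv5 F49594)
def n50661 : Q := act 3 n24670
theorem D50661 : act 3 n24670 = n50661 := rfl
def n50662 : Q := act 5 n24670
theorem D50662 : act 5 n24670 = n50662 := rfl
def n50663 : Q := act 6 n24670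
theorem D50663 : act 6 n24670 = n50663 := rfl
theorem F80017 : act 4 n50663 = n24671 := d10_1 D50663 (iv6 D24671) D24670
def n50664 : Q := act 3 n24672
theorem D50664 : act 3 n24672 = n50664 := rfl
theorem F80018 : act 6 n50664 = n30527 := d7_2 (iv6 F38667) D50664 (iv3 D30527)
theorem F80019 : act 7 n50664 = n30923 := d8_2 (iv7 F38668) D50664 (iv3 D30923)
def n50665 : Q := act 5 n24672
theorem D50665 : act 5 n24672 = n50665 := rfl
theorem F80020 : act 2 n50665 = n30928 := d2_1 D50665 (iv5 D30928) (iv2 F38666)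
theorem F80021 : act 7 n50665 = n30924 := d13_2 (iv7 F38668) D50665 (iv5 D30924)
def n50666 : Q := act 3 n24673
theorem D50666 : act 3 n24673 = n50666 := rfl
def n50667 : Q := act 5 n24673
theorem D50667 : act 5 n24673 = n50667 := rfl
theorem F80022 : act 2 n50667 = n24678 := d2_1 D50667 (iv5 D24678) (iv2 F38669)
theorem F80023 : act 4 n50667 = n28029 := d16_2 D24673 D50667 (iv5 D28029) (iv4 D13374) F9867 (iv4 F10416) F10417 F8552 D11684
theorem F80024 : act 0 n50667 = n50538 := d17_2 (iv1 F39469) D50667 (iv5 D50538) (iv4 F38751) F38750 F45580 F45578 F45401 F39644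
theorem F80025 : act 1 n50667 = n50535 := d17_6 D11657 (iv5 F22591) (iv1 F22486) F22490 D24673 D50667 (iv5 D50535) (iv0 D24622) (iv4 D11659)
def n50668 : Q := act 6 n24673
theorem D50668 : act 6 n24673 = n50668 := rfl
theorem F80026 : act 2 n50668 = n24679 := d3_1 D50668 (iv6 D24679) (iv2 F38669)
theorem F80027 : act 4 n50668 = n24674 := d10_1 D50668 (iv6 D24674) D24673
def n50669 : Q := act 0 n24674
theorem D50669 : act 0 n24674 = n50669 := rfl
def n50670 : Q := act 1 n24674
theorem D50670 : act 1 n24674 = n50670 := rfl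
theorem F80028 : act 1 n50670 = n24682 := d15_1 D50670 (iv7 D24682) (iv2 F38670)
def n50671 : Q := act 7 n24674
theorem D50671 : act 7 n24674 = n50671 := rfl
theorem F80029 : act 2 n50671 = n24682 := d4_1 D50671 (iv7 D24682) (iv2 F38670)
theorem F80030 : act 5 n50671 = n30077 := d13_1 D50671 (iv7 D30077) (iv5 F38671)
theorem F80031 : act 1 n24682 = n50669 := d15_0 (iv0 D50669) D50671 F80029
theorem F80032 : act 1 n24681 = n50671 := d15_1 D24681 (iv7 D50671) F38670
theorem F80033 : act 1 n50671 = n24680 := d15_0 (iv0 D24680) D24682 (iv2 F80029)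
theorem F80034 : act 5 n30019 = n24680 := d21_0 (iv1 F80033) F80030 (iv6 F48387) (iv1 F48389) (iv6 D29024) (iv5 F23073) (iv1 D11633) (iv5 F11037) D14250 D30019
def n50672 : Q := act 3 n24675
theorem D50672 : act 3 n24675 = n50672 := rfl
def n50673 : Q := act 3 n24676
theorem D50673 : act 3 n24676 = n50673 := rfl
def n50674 : Q := act 6 n24676
theorem D50674 : act 6 n24676 = n50674 := rfl
def n50675 : Q := act 0 n24677
theorem D50675 : act 0 n24677 = n50675 := rfl
def n50676 : Q := act 1 n24677
theorem D50676 : act 1 n24677 = n50676 := rfl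
def n50677 : Q := act 2 n24677
theorem D50677 : act 2 n24677 = n50677 := rfl
theorem F80035 : act 4 n50677 = n24685 := d1_2 (iv4 F38673) D50677 (iv2 D24685)
def n50678 : Q := act 5 n24677
theorem D50678 : act 5 n24677 = n50678 := rfl
theorem F80036 : act 3 n50678 = n24678 := d6_1 D50678 (iv5 D24678) D24677
def n50679 : Q := act 6 n24677
theorem D50679 : act 6 n24677 = n50679 := rfl
theorem F80037 : act 3 n50679 = n24679 := d7_1 D50679 (iv6 D24679) D24677
theorem F80038 : act 4 n50679 = n24686 := d10_1 D50679 (iv6 D24686) (iv4 F38673)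
def n50680 : Q := act 0 n24678
theorem D50680 : act 0 n24678 = n50680 := rfl
theorem F80039 : act 5 n50680 = n25048 := d17_3 (iv1 D24676) D24678 D50680 (iv4 F76573) F76572 (iv0 F38492) F24601 F38731 F38732
theorem F80040 : act 2 n50538 = n50680 := d2_3 F80039 (iv2 F39833) D50538
theorem F80041 : act 7 n50535 = n50680 := d13_0 F80039 (iv7 F39835) D50535
def n50681 : Q := act 1 n24678
theorem D50681 : act 1 n24678 = n50681 := rfl
theorem F80042 : act 7 n50681 = n50538 := d15_2 (iv0 D50680) D50681 F80040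
theorem F80043 : act 5 n50681 = n25049 := d17_7 (iv1 F19589) F22585 F22472 F10367 D11685 D24678 D50681 F39311 (iv4 D24617)
theorem F80044 : act 2 n50535 = n50681 := d2_3 F80043 F39834 D50535
def n50682 : Q := act 4 n24678
theorem D50682 : act 4 n24678 = n50682 := rfl
theorem F80045 : act 2 n50682 = n28029 := d1_1 D50682 (iv4 F80023) F80022
theorem F80046 : act 5 n50682 = n28025 := d16_3 D11685 D24678 D50682 (iv4 D28025) F22241 (iv4 F22360) F22361 F19676 (iv2 D11684)
theorem F80047 : act 0 n50682 = n32155 := d17_0 (iv5 F51122) (iv1 D25204) D25206 (iv4 F79902) (iv5 D50528) F39310 (iv5 F80039) (iv0 D50680) D50682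
def n50683 : Q := act 6 n24678
theorem D50683 : act 6 n24678 = n50683 := rfl
def n50684 : Q := act 0 n24679
theorem D50684 : act 0 n24679 = n50684 := rfl
def n50685 : Q := act 1 n24679
theorem D50685 : act 1 n24679 = n50685 := rfl
def n50686 : Q := act 5 n24679
theorem D50686 : act 5 n24679 = n50686 := rfl
def n50687 : Q := act 7 n24679
theorem D50687 : act 7 n24679 = n50687 := rfl
theorem F80048 : act 4 n50687 = n24682 := d11_1 D50687 (iv7 D24682) (iv4 F38674)
def n50688 : Q := act 2 n24680
theorem D50688 : act 2 n24680 = n50688 := rfl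
theorem F80049 : act 7 n24681 = n50688 := d15_2 (iv0 D24680) D24681 (iv2 D50688)
def n50689 : Q := act 3 n24680
theorem D50689 : act 3 n24680 = n50689 := rfl
def n50690 : Q := act 4 n24680
theorem D50690 : act 4 n24680 = n50690 := rfl
def n50691 : Q := act 6 n24680
theorem D50691 : act 6 n24680 = n50691 := rfl
theorem F80050 : act 5 n50691 = n30297 := d21_6 F22585 F22472 F10367 D11686 D24680 D50691 (iv1 D30297) (iv5 F38620) (iv6 D24618) (iv1 F19589)
def n50692 : Q := act 7 n24680
theorem D50692 : act 7 n24680 = n50692 := rfl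
theorem F80051 : act 2 n50692 = n24681 := d4_1 D50692 F80049 (iv2 D50688)
def n50693 : Q := act 3 n24681
theorem D50693 : act 3 n24681 = n50693 := rfl
def n50694 : Q := act 4 n24681
theorem D50694 : act 4 n24681 = n50694 := rfl
def n50695 : Q := act 5 n24681
theorem D50695 : act 5 n24681 = n50695 := rfl
theorem F80052 : act 6 n30081 = n50695 := d21_5 (iv5 F23860) (iv1 F23836) (iv5 D14279) D14280 D30081 (iv5 D50695) (iv1 D24681) (iv5 F23415) (iv6 D14035) D14032
def n50696 : Q := act 6 n24681
theorem D50696 : act 6 n24681 = n50696 := rfl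
def n50697 : Q := act 2 n24683
theorem D50697 : act 2 n24683 = n50697 := rfl
theorem F80053 : act 7 n24684 = n50697 := d15_2 (iv0 D24683) D24684 (iv2 D50697)
def n50698 : Q := act 3 n24683
theorem D50698 : act 3 n24683 = n50698 := rfl
def n50699 : Q := act 4 n24683
theorem D50699 : act 4 n24683 = n50699 := rfl
def n50700 : Q := act 5 n24683
theorem D50700 : act 5 n24683 = n50700 := rfl
def n50701 : Q := act 6 n24683
theorem D50701 : act 6 n24683 = n50701 := rfl
def n50702 : Q := act 7 n24683
theorem D50702 : act 7 n24683 = n50702 := rfl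
theorem F80054 : act 2 n50702 = n24684 := d4_1 D50702 F80053 (iv2 D50697)
def n50703 : Q := act 3 n24684
theorem D50703 : act 3 n24684 = n50703 := rfl
def n50704 : Q := act 4 n24684
theorem D50704 : act 4 n24684 = n50704 := rfl
def n50705 : Q := act 5 n24684
theorem D50705 : act 5 n24684 = n50705 := rfl
def n50706 : Q := act 6 n24684
theorem D50706 : act 6 n24684 = n50706 := rfl
def n50707 : Q := act 6 n24685
theorem D50707 : act 6 n24685 = n50707 := rfl
def n50708 : Q := act 0 n24686
theorem D50708 : act 0 n24686 = n50708 := rfl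
def n50709 : Q := act 1 n24686
theorem D50709 : act 1 n24686 = n50709 := rfl
def n50710 : Q := act 5 n24686
theorem D50710 : act 5 n24686 = n50710 := rfl
theorem F80056 : act 3 n50710 = n24689 := d6_1 D50710 (iv5 D24689) (iv3 F38677)
def n50711 : Q := act 7 n24686
theorem D50711 : act 7 n24686 = n50711 := rfl
theorem F80058 : act 3 n50711 = n24690 := d8_1 D50711 (iv7 D24690) (iv3 F38677)
def n50712 : Q := act 3 n24687
theorem D50712 : act 3 n24687 = n50712 := rfl
def n50713 : Q := act 6 n24687
theorem D50713 : act 6 n24687 = n50713 := rfl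
theorem F80059 : act 4 n50713 = n28054 := d10_1 D50713 (iv6 D28054) (iv4 F79851)
def n50714 : Q := act 3 n24688
theorem D50714 : act 3 n24688 = n50714 := rfl
def n50715 : Q := act 0 n24689
theorem D50715 : act 0 n24689 = n50715 := rfl
theorem F80060 : act 5 n50715 = n24794 := d17_3 (iv1 D24688) D24689 D50715 (iv4 D24794) (iv5 F23299) (iv0 D13982) F10785 D13383 (iv4 F79847)
theorem F80061 : act 6 n50715 = n50715 := d21_5 (iv5 D50501) (iv1 D24604) D24605 (iv6 F38678) D50715 F80060 F79859 D25073 (iv6 F39571) (iv1 F79889)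
theorem F80062 : act 6 n50501 = n50501 := d21_5 F80060 F79859 D25073 (iv6 F39571) (iv1 F79889) (iv5 D50501) (iv1 D24604) D24605 (iv6 F38678) D50715
theorem F80063 : act 5 n50502 = n50502 := d12_3 F80062 (iv5 D50501) D50502 (iv6 D50502) D50501
theorem F80064 : act 2 n50501 = n50715 := d2_3 F80060 (iv2 F79867) D50501
theorem F80065 : act 7 n50497 = n50715 := d13_0 F80060 F79866 D50497
def n50716 : Q := act 1 n24689
theorem D50716 : act 1 n24689 = n50716 := rfl
theorem F80066 : act 7 n50716 = n50501 := d15_2 (iv0 D50715) D50716 F80064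
theorem F80067 : act 5 n50716 = n24791 := d17_7 D11911 F23429 (iv1 D14042) F10855 (iv4 F19021) D24689 D50716 F79862 F19620
theorem F80068 : act 2 n50497 = n50716 := d2_3 F80067 F79864 D50497
def n50717 : Q := act 4 n24689
theorem D50717 : act 4 n24689 = n50717 := rfl
def n50718 : Q := act 7 n24689
theorem D50718 : act 7 n24689 = n50718 := rfl
theorem F80070 : act 5 n50718 = n24690 := d13_1 D50718 (iv7 D24690) D24689
theorem F80071 : act 1 n50497 = n50718 := d15_1 (iv0 F79842) (iv7 D50718) (iv2 F39570)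
theorem F80072 : act 1 n50718 = n50501 := d15_1 F80071 (iv7 F80066) (iv2 F80068)
def n50721 : Q := act 2 n24692
theorem D50721 : act 2 n24692 = n50721 := rfl
def n50722 : Q := act 4 n24692
theorem D50722 : act 4 n24692 = n50722 := rfl
def n50723 : Q := act 6 n24692
theorem D50723 : act 6 n24692 = n50723 := rfl
theorem F80073 : act 3 n50723 = n24694 := d7_1 D50723 (iv6 D24694) D24692
theorem F80074 : act 5 n30737 = n50723 := d6_0 F80073 F38681 D30737
def n50724 : Q := act 0 n24693
theorem D50724 : act 0 n24693 = n50724 := rfl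
theorem F80075 : act 1 n24697 = n50724 := d15_0 (iv0 D50724) (iv7 F39589) F39587
def n50725 : Q := act 1 n24693
theorem D50725 : act 1 n24693 = n50725 := rfl
theorem F80076 : act 1 n50725 = n24697 := d15_1 D50725 (iv7 F39580) F39579
def n50727 : Q := act 5 n24693
theorem D50727 : act 5 n24693 = n50727 := rfl
def n50728 : Q := act 6 n24693
theorem D50728 : act 6 n24693 = n50728 := rfl
theorem F80077 : act 4 n50728 = n24694 := d10_1 D50728 (iv6 D24694) D24693
def n50729 : Q := act 0 n24696
theorem D50729 : act 0 n24696 = n50729 := rfl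
def n50730 : Q := act 1 n24696
theorem D50730 : act 1 n24696 = n50730 := rfl
def n50731 : Q := act 2 n24696
theorem D50731 : act 2 n24696 = n50731 := rfl
def n50732 : Q := act 4 n24696
theorem D50732 : act 4 n24696 = n50732 := rfl
def n50733 : Q := act 3 n24697
theorem D50733 : act 3 n24697 = n50733 := rfl
def n50734 : Q := act 5 n24697
theorem D50734 : act 5 n24697 = n50734 := rfl
theorem F80078 : act 0 n50734 = n24787 := d21_7 (iv5 F19604) F19605 F8708 D11947 (iv1 F47801) F39503 D50734 (iv5 D24787) (iv6 D11734) (iv1 F11260)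
theorem E8193 : n50724 = n25175 := (c17_9 (iv1 F22349) F23032 (iv1 D13782) F10617 (iv4 F19089) D24787 (iv0 F80078) (iv5 D50734) F80075 F39619)
theorem E8194 : n24713 = n24697 := (((iv1 F39622)).symm.trans (sb E8193 (iv1 F80075)))
theorem E8195 : n24712 = n24693 := ((F39623).symm.trans (sb E8193 (iv0 D50724)))
theorem E8196 : n50725 = n11695 := (((iv1 F80076)).symm.trans (sb E8194 (iv1 D24713)))
theorem F80079 : act 1 n24697 = n25175 := (sb E8194 F39622)
theorem F80080 : act 0 n24693 = n25175 := (sb E8195 (iv1 F39623))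
theorem F80081 : act 0 n11695 = n24693 := (sb E8196 (iv1 D50725))
theorem F80082 : act 1 n11695 = n24697 := (sb E8196 F80076)
theorem E8197 : n29565 = n28840 := (c18_2 (iv1 F23428) D29565 (iv1 D28840) F23000 F10609 (iv4 F19023) F80082 (iv4 D24697) F19706 (iv5 F23092))
theorem F80083 : act 2 n28840 = n29054 := (sb E8197 F47438)
theorem F80084 : act 4 n28840 = n14042 := (sb E8197 (iv4 D29565))
theorem F80085 : act 7 n28840 = n29052 := (sb E8197 F47439)
theorem E8198 : n29563 = n28839 := (c15_4 (iv0 D28839) D28840 F80085 (iv2 F47433))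
theorem F80086 : act 2 n28839 = n29052 := (sb E8198 F47433)
theorem F80087 : act 4 n28839 = n14041 := (sb E8198 (iv4 D29563))
theorem F80088 : act 6 n28839 = n29052 := (sb E8198 F47434)
theorem F80089 : act 7 n28839 = n29054 := (sb E8198 F47435)
theorem E8199 : n25223 = n25080 := ((c18_6 (iv1 D13748) (iv4 F23000) D28839 F80087 F23427 D25080 F39730 F38799 F19759 F23002)).symm
theorem F80090 : act 0 n25080 = n11969 := (sb E8199 (iv1 D25223))
theorem F80091 : act 1 n25080 = n24788 := (sb E8199 F39730)
theorem E8200 : n25222 = n25077 := (c15_2 F80091 F39736 (iv7 F39384) F39392)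
theorem F80092 : act 0 n25077 = n24788 := (sb E8200 (iv1 F39736))
theorem F80093 : act 1 n25077 = n11969 := (sb E8200 (iv0 D25222))
theorem F80094 : act 0 n50514 = n25174 := d21_7 (iv5 F8253) (iv1 F8568) (iv5 F8640) D11969 (iv1 F80093) F39373 D50514 (iv5 D25174) (iv6 D11949) (iv1 D5605)
theorem E8201 : n24785 = n24609 := (c17_1 D24785 D50514 F80094 (iv5 D25174) F19713 (iv5 F10785) D13983 (iv5 F23301) (iv0 D11735) (iv4 F19089))
theorem E8202 : n50511 = n25225 := ((D50511).symm.trans (sb E8201 (iv1 F39738)))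
theorem E8203 : n50512 = n11734 := ((D50512).symm.trans (sb E8201 (iv0 D24785)))
theorem E8204 : n24786 = n24612 := (((iv1 F39737)).symm.trans (sb E8202 (iv1 F79891)))
theorem F80095 : act 1 n25225 = n24609 := (sb E8202 (iv0 D50511))
theorem F80096 : act 0 n11734 = n24609 := (sb E8203 (iv1 D50512))
theorem F80097 : act 0 n24612 = n11734 := (sb E8204 (iv1 D24786))
theorem F80098 : act 1 n24612 = n25225 := (sb E8204 F39737)
theorem E8205 : n29396 = n29052 := (c18_3 (iv1 D13983) (iv4 F23297) D29396 (iv4 D29052) F23089 D24612 F80098 F39734 F19761 F23301)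
theorem F80099 : act 0 n29052 = n28842 := (sb E8205 (iv1 F47096))
theorem F80100 : act 1 n29052 = n13981 := (sb E8205 (iv0 D29396))
theorem E8206 : n29397 = n29054 := (c15_2 F80100 D29397 (iv7 F80089) F80086)
theorem F80101 : act 0 n29054 = n13981 := (sb E8206 (iv1 D29397))
theorem F80102 : act 1 n29054 = n28842 := (sb E8206 F47091)
theorem E8207 : n25173 = n25157 := (c18_7 (iv1 F23434) D29054 F80101 F23297 F10785 (iv4 F19713) D25173 (iv4 D25157) F19702 (iv5 F23431))
theorem F80103 : act 0 n25157 = n11949 := (sb E8207 (iv1 D25173))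
theorem F80104 : act 1 n25157 = n24715 := (sb E8207 F39616)
theorem E8208 : n25172 = n25154 := (c15_2 F80104 F39621 F39580 (iv2 F39587))
theorem F80105 : act 0 n25154 = n24715 := (sb E8208 (iv1 F39621))
theorem F80106 : act 1 n25154 = n11949 := (sb E8208 (iv0 D25172))
theorem E8209 : n29883 = n29471 := ((c18_3 F23366 (iv4 F46568) (iv1 F47250) (iv4 D29883) (iv5 F23702) D25157 F80104 F38688 F22354 (iv5 F23365))).symm
theorem F80107 : act 2 n29471 = n30026 := (sb E8209 (iv2 F48247))
theorem F80108 : act 4 n29471 = n14194 := (sb E8209 (iv4 D29883))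
theorem F80109 : act 6 n29471 = n28899 := (sb E8209 (iv6 F48983))
theorem F80110 : act 7 n29471 = n30023 := (sb E8209 (iv7 F48238))
theorem E8210 : n29880 = n29470 := (c15_4 (iv0 D29470) D29471 F80110 F48237)
theorem F80111 : act 2 n29470 = n30023 := (sb E8210 (iv2 F48237))
theorem F80112 : act 4 n29470 = n14193 := (sb E8210 (iv4 D29880))
theorem F80113 : act 7 n29470 = n30026 := (sb E8210 (iv7 F48249))
theorem F80114 : act 0 n25174 = n50521 := d17_2 F80103 D25174 (iv5 D50521) (iv4 D24612) (iv5 F23089) (iv0 D13823) F10633 D11944 D25157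
theorem F80115 : act 0 n24787 = n50727 := d17_2 F80097 D24787 (iv5 D50727) (iv4 D24693) (iv5 F23780) (iv0 D14251) F11041 D11642 D24612
theorem E8211 : n30026 = n28926 := ((c18_7 (iv1 F19625) D24612 F80097 F19089 (iv5 F10617) (iv4 F23031) D28926 (iv4 D30026) F23782 F23704)).symm
theorem F80116 : act 2 n28926 = n29471 := (sb E8211 (iv2 F80107))
theorem F80117 : act 4 n28926 = n14252 := (sb E8211 (iv4 D30026))
theorem F80118 : act 6 n28926 = n29447 := (sb E8211 (iv6 F49752))
theorem F80119 : act 7 n28926 = n29470 := (sb E8211 (iv7 F80113))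
theorem E8212 : n30023 = n28925 := (c15_4 (iv0 D28925) D28926 F80119 F80111)
theorem F80120 : act 2 n28925 = n29470 := (sb E8212 (iv2 F80111))
theorem F80121 : act 4 n28925 = n14251 := (sb E8212 (iv4 D30023))
theorem F80122 : act 7 n28925 = n29471 := (sb E8212 (iv7 F80110))
def n50735 : Q := act 2 n24698
theorem D50735 : act 2 n24698 = n50735 := rfl
theorem F80123 : act 7 n24699 = n50735 := d15_2 (iv0 D24698) D24699 (iv2 D50735)
def n50736 : Q := act 3 n24698
theorem D50736 : act 3 n24698 = n50736 := rfl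
def n50737 : Q := act 4 n24698
theorem D50737 : act 4 n24698 = n50737 := rfl
def n50738 : Q := act 5 n24698
theorem D50738 : act 5 n24698 = n50738 := rfl
def n50739 : Q := act 6 n24698
theorem D50739 : act 6 n24698 = n50739 := rfl
def n50740 : Q := act 7 n24698
theorem D50740 : act 7 n24698 = n50740 := rfl
theorem F80124 : act 2 n50740 = n24699 := d4_1 D50740 F80123 (iv2 D50735)
def n50741 : Q := act 3 n24699
theorem D50741 : act 3 n24699 = n50741 := rfl
def n50742 : Q := act 4 n24699
theorem D50742 : act 4 n24699 = n50742 := rfl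
def n50743 : Q := act 5 n24699
theorem D50743 : act 5 n24699 = n50743 := rfl
def n50744 : Q := act 6 n24699
theorem D50744 : act 6 n24699 = n50744 := rfl
def n50745 : Q := act 4 n24700
theorem D50745 : act 4 n24700 = n50745 := rfl
theorem F80125 : act 2 n50745 = n24701 := d1_1 D50745 (iv4 D24701) D24700
def n50746 : Q := act 6 n24700
theorem D50746 : act 6 n24700 = n50746 := rfl
def n50747 : Q := act 0 n24701
theorem D50747 : act 0 n24701 = n50747 := rfl
def n50748 : Q := act 1 n24701
theorem D50748 : act 1 n24701 = n50748 := rfl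
theorem F80127 : act 4 n50698 = n50748 := d20_6 F8247 (iv1 F3682) D5425 D11687 D24683 D50698 (iv1 D50748) (iv4 D24701) (iv3 D11692) F8250
def n50749 : Q := act 5 n24701
theorem D50749 : act 5 n24701 = n50749 := rfl
theorem F80128 : act 3 n50749 = n28120 := d6_1 D50749 (iv5 D28120) (iv3 F38683)
def n50750 : Q := act 6 n24701
theorem D50750 : act 6 n24701 = n50750 := rfl
theorem F80129 : act 3 n50750 = n28121 := d7_1 D50750 (iv6 D28121) (iv3 F38683)
theorem F80130 : act 4 n50750 = n24702 := d10_1 D50750 (iv6 D24702) D24701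
def n50754 : Q := act 7 n24702
theorem D50754 : act 7 n24702 = n50754 := rfl
theorem F80132 : act 3 n50754 = n24706 := d8_1 D50754 (iv7 D24706) (iv3 F38684)
def n50755 : Q := act 0 n24705
theorem D50755 : act 0 n24705 = n50755 := rfl
theorem F80133 : act 5 n50755 = n25061 := d17_3 F48931 D24705 D50755 F39339 F19608 (iv0 F19017) (iv5 D11680) D11679 D24670
theorem F80134 : act 2 n30936 = n50755 := d2_3 F80133 F39338 D30936
def n50756 : Q := act 1 n24705
theorem D50756 : act 1 n24705 = n50756 := rfl
theorem F80136 : act 7 n50756 = n30936 := d15_2 (iv0 D50755) D50756 F80134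
theorem F80137 : act 5 n50756 = n30937 := d17_7 (iv1 F38784) F38780 (iv1 F20556) F11440 (iv4 F19022) D24705 D50756 (iv0 F50074) (iv4 D31780)
def n50757 : Q := act 4 n24705
theorem D50757 : act 4 n24705 = n50757 := rfl
def n50759 : Q := act 2 n24707
theorem D50759 : act 2 n24707 = n50759 := rfl
theorem F80140 : act 7 n24708 = n50759 := d15_2 (iv0 D24707) D24708 (iv2 D50759)
def n50760 : Q := act 3 n24707
theorem D50760 : act 3 n24707 = n50760 := rfl
def n50761 : Q := act 4 n24707
theorem D50761 : act 4 n24707 = n50761 := rfl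
def n50762 : Q := act 5 n24707
theorem D50762 : act 5 n24707 = n50762 := rfl
def n50763 : Q := act 6 n24707
theorem D50763 : act 6 n24707 = n50763 := rfl
def n50764 : Q := act 7 n24707
theorem D50764 : act 7 n24707 = n50764 := rfl
theorem F80141 : act 2 n50764 = n24708 := d4_1 D50764 F80140 (iv2 D50759)
def n50765 : Q := act 3 n24708
theorem D50765 : act 3 n24708 = n50765 := rfl
def n50766 : Q := act 4 n24708
theorem D50766 : act 4 n24708 = n50766 := rfl
def n50767 : Q := act 5 n24708
theorem D50767 : act 5 n24708 = n50767 := rfl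
def n50768 : Q := act 6 n24708
theorem D50768 : act 6 n24708 = n50768 := rfl
def n50769 : Q := act 4 n24709
theorem D50769 : act 4 n24709 = n50769 := rfl
theorem F80142 : act 2 n50769 = n24710 := d1_1 D50769 (iv4 D24710) D24709
def n50771 : Q := act 0 n24710
theorem D50771 : act 0 n24710 = n50771 := rfl
def n50772 : Q := act 1 n24710
theorem D50772 : act 1 n24710 = n50772 := rfl
theorem F80144 : act 4 n50625 = n50772 := d20_6 (iv4 D2232) D2230 D5422 D11676 D24656 D50625 (iv1 D50772) (iv4 D24710) (iv3 D11694) (iv1 D5428)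
def n50773 : Q := act 5 n24710
theorem D50773 : act 5 n24710 = n50773 := rfl
theorem F80145 : act 3 n50773 = n28137 := d6_1 D50773 (iv5 D28137) (iv3 F38686)
def n50779 : Q := act 0 n24714
theorem D50779 : act 0 n24714 = n50779 := rfl
theorem F80150 : act 5 n50779 = n25080 := d17_3 (iv1 F80082) D24714 D50779 (iv4 D25080) (iv5 F23427) (iv0 D14041) F10855 D11690 D24697
theorem F80151 : act 6 n50779 = n50779 := d21_5 (iv5 D50521) F80097 D24787 F38798 D50779 F80150 F80090 D25224 F39732 F80114
theorem F80152 : act 6 n50521 = n50521 := d21_5 F80150 F80090 D25224 F39732 F80114 (iv5 D50521) F80097 D24787 F38798 D50779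
theorem F80153 : act 5 n50522 = n50522 := d12_3 F80152 (iv5 D50521) D50522 (iv6 D50522) D50521
theorem F80155 : act 7 n50514 = n50779 := d13_0 F80150 F39391 D50514
def n50780 : Q := act 1 n24714
theorem D50780 : act 1 n24714 = n50780 := rfl
theorem F80157 : act 5 n50780 = n25077 := d17_7 D11970 F23002 (iv1 D13748) F10609 (iv4 F19023) D24714 D50780 F80093 F19755
theorem F80158 : act 2 n50514 = n50780 := d2_3 F80157 (iv2 F39389) D50514
def n50781 : Q := act 4 n24714
theorem D50781 : act 4 n24714 = n50781 := rfl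
def n50782 : Q := act 7 n24714
theorem D50782 : act 7 n24714 = n50782 := rfl
theorem F80159 : act 5 n50782 = n24715 := d13_1 D50782 (iv7 D24715) D24714
theorem F80160 : act 1 n50514 = n50782 := d15_1 (iv0 F80094) (iv7 D50782) (iv2 F39617)
def n50783 : Q := act 6 n24716
theorem D50783 : act 6 n24716 = n50783 := rfl
theorem F80162 : act 2 n50783 = n24734 := d3_1 D50783 (iv6 D24734) F38689
def n50784 : Q := act 0 n24717
theorem D50784 : act 0 n24717 = n50784 := rfl
theorem F80163 : act 1 n24722 = n50784 := d15_0 (iv0 D50784) (iv7 F38693) (iv2 F38694)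
def n50785 : Q := act 1 n24717
theorem D50785 : act 1 n24717 = n50785 := rfl
theorem F80164 : act 1 n50785 = n24722 := d15_1 D50785 (iv7 D24722) D24717
def n50786 : Q := act 3 n24717
theorem D50786 : act 3 n24717 = n50786 := rfl
theorem F80165 : act 7 n50786 = n24723 := d8_2 F38693 D50786 (iv3 D24723)
def n50787 : Q := act 4 n24717
theorem D50787 : act 4 n24717 = n50787 := rfl
theorem F80166 : act 2 n50787 = n24719 := d1_1 D50787 (iv4 D24719) D24717
theorem F80167 : act 7 n50787 = n24724 := d11_2 F38693 D50787 (iv4 D24724)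
def n50788 : Q := act 5 n24717
theorem D50788 : act 5 n24717 = n50788 := rfl
theorem F80168 : act 2 n50788 = n24720 := d2_1 D50788 (iv5 D24720) D24717
theorem F80169 : act 7 n50788 = n24725 := d13_2 F38693 D50788 (iv5 D24725)
def n50789 : Q := act 6 n24717
theorem D50789 : act 6 n24717 = n50789 := rfl
theorem F80170 : act 2 n50789 = n24721 := d3_1 D50789 (iv6 D24721) D24717
def n50790 : Q := act 0 n24718
theorem D50790 : act 0 n24718 = n50790 := rfl
def n50791 : Q := act 1 n24718
theorem D50791 : act 1 n24718 = n50791 := rfl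
def n50792 : Q := act 2 n24718
theorem D50792 : act 2 n24718 = n50792 := rfl
def n50793 : Q := act 4 n24718
theorem D50793 : act 4 n24718 = n50793 := rfl
theorem F80171 : act 0 n50793 = n28074 := d20_7 (iv4 D5425) (iv1 D2231) D2232 D5429 D11696 D24718 D50793 (iv4 D28074) F22251 F9871
theorem F80172 : act 0 n28111 = n50793 := d20_7 (iv4 F79744) (iv1 F79746) D50377 (iv3 F79749) (iv1 D28070) (iv3 F22355) (iv4 F45418) (iv4 D50793) (iv3 D24718) D24716
def n50794 : Q := act 5 n24718
theorem D50794 : act 5 n24718 = n50794 := rfl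
theorem F80173 : act 3 n50794 = n24720 := d6_1 D50794 (iv5 D24720) D24718
def n50795 : Q := act 6 n24718
theorem D50795 : act 6 n24718 = n50795 := rfl
def n50796 : Q := act 7 n24718
theorem D50796 : act 7 n24718 = n50796 := rfl
theorem F80175 : act 3 n50796 = n24722 := d8_1 D50796 (iv7 D24722) D24718
def n50797 : Q := act 0 n24719
theorem D50797 : act 0 n24719 = n50797 := rfl
theorem F80176 : act 4 n50797 = n50703 := d20_2 D24719 D50797 (iv3 D50703) (iv1 D24684) (iv3 D11687) (iv4 D5425) (iv1 D2231) D2232 D5429 D11696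
def n50798 : Q := act 1 n24719
theorem D50798 : act 1 n24719 = n50798 := rfl
theorem F80177 : act 1 n50798 = n24724 := d15_1 D50798 (iv7 F80167) F80166
def n50799 : Q := act 3 n24719
theorem D50799 : act 3 n24719 = n50799 := rfl
def n50800 : Q := act 5 n24719
theorem D50800 : act 5 n24719 = n50800 := rfl
def n50801 : Q := act 6 n24719
theorem D50801 : act 6 n24719 = n50801 := rfl
theorem F80178 : act 4 n50801 = n24721 := d10_1 D50801 (iv6 D24721) D24719
def n50802 : Q := act 7 n24719
theorem D50802 : act 7 n24719 = n50802 := rfl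
theorem F80179 : act 2 n50802 = n24724 := d4_1 D50802 (iv7 F80167) F80166
theorem F80180 : act 4 n50802 = n24722 := d11_1 D50802 (iv7 D24722) D24719
theorem F80181 : act 1 n24724 = n50797 := d15_0 (iv0 D50797) D50802 F80179
def n50803 : Q := act 0 n24720
theorem D50803 : act 0 n24720 = n50803 := rfl
def n50804 : Q := act 1 n24720
theorem D50804 : act 1 n24720 = n50804 := rfl
theorem F80182 : act 1 n50804 = n24725 := d15_1 D50804 (iv7 F80169) F80168
def n50805 : Q := act 4 n24720
theorem D50805 : act 4 n24720 = n50805 := rfl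
def n50806 : Q := act 6 n24720
theorem D50806 : act 6 n24720 = n50806 := rfl
def n50807 : Q := act 7 n24720
theorem D50807 : act 7 n24720 = n50807 := rfl
theorem F80183 : act 2 n50807 = n24725 := d4_1 D50807 (iv7 F80169) F80168
theorem F80184 : act 5 n50807 = n24722 := d13_1 D50807 (iv7 D24722) D24720
theorem F80185 : act 1 n24725 = n50803 := d15_0 (iv0 D50803) D50807 F80183
def n50808 : Q := act 0 n24721
theorem D50808 : act 0 n24721 = n50808 := rfl
def n50809 : Q := act 1 n24721
theorem D50809 : act 1 n24721 = n50809 := rfl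
def n50810 : Q := act 5 n24721
theorem D50810 : act 5 n24721 = n50810 := rfl
def n50811 : Q := act 7 n24721
theorem D50811 : act 7 n24721 = n50811 := rfl
def n50812 : Q := act 6 n24722
theorem D50812 : act 6 n24722 = n50812 := rfl
def n50813 : Q := act 0 n24723
theorem D50813 : act 0 n24723 = n50813 := rfl
def n50814 : Q := act 1 n24723
theorem D50814 : act 1 n24723 = n50814 := rfl
def n50815 : Q := act 2 n24723
theorem D50815 : act 2 n24723 = n50815 := rfl
def n50816 : Q := act 4 n24723
theorem D50816 : act 4 n24723 = n50816 := rfl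
theorem F80187 : act 0 n50626 = n50816 := d20_1 D50626 (iv4 D50816) (iv3 D24723) (iv1 D11697) (iv3 D5429) (iv4 D2232) D2230 D5422 D11676 D24656
def n50817 : Q := act 5 n24723
theorem D50817 : act 5 n24723 = n50817 := rfl
theorem F80188 : act 3 n50817 = n24725 := d6_1 D50817 (iv5 D24725) D24723
def n50818 : Q := act 6 n24723
theorem D50818 : act 6 n24723 = n50818 := rfl
def n50819 : Q := act 3 n24724
theorem D50819 : act 3 n24724 = n50819 := rfl
def n50820 : Q := act 5 n24724
theorem D50820 : act 5 n24724 = n50820 := rfl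
def n50821 : Q := act 6 n24724
theorem D50821 : act 6 n24724 = n50821 := rfl
theorem F80190 : act 4 n50821 = n24726 := d10_1 D50821 (iv6 D24726) D24724
def n50822 : Q := act 4 n24725
theorem D50822 : act 4 n24725 = n50822 := rfl
def n50823 : Q := act 6 n24725
theorem D50823 : act 6 n24725 = n50823 := rfl
def n50824 : Q := act 0 n24726
theorem D50824 : act 0 n24726 = n50824 := rfl
def n50825 : Q := act 1 n24726
theorem D50825 : act 1 n24726 = n50825 := rfl
def n50826 : Q := act 5 n24726
theorem D50826 : act 5 n24726 = n50826 := rfl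
def n50827 : Q := act 7 n24726
theorem D50827 : act 7 n24726 = n50827 := rfl
def n50830 : Q := act 4 n24727
theorem D50830 : act 4 n24727 = n50830 := rfl
def n50834 : Q := act 3 n24728
theorem D50834 : act 3 n24728 = n50834 := rfl
theorem F80193 : act 4 n50834 = n28110 := d20_6 (iv4 D5599) (iv1 F3681) (iv4 F8252) (iv3 F19026) (iv1 F38696) D50834 (iv1 D28110) F22312 (iv3 D6381) (iv1 F8556)
def n50838 : Q := act 4 n24729
theorem D50838 : act 4 n24729 = n50838 := rfl
theorem F80194 : act 2 n50838 = n24732 := d1_1 D50838 (iv4 D24732) (iv2 F38697)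
theorem F80195 : act 7 n50838 = n25028 := d11_2 (iv7 F38699) D50838 F39263
theorem F80196 : act 1 n25027 = n50838 := d15_1 D25027 F80195 (iv2 D25028)
theorem F80197 : act 1 n50838 = n25026 := d15_0 (iv0 D25026) (iv7 F38705) (iv2 F80194)
def n50839 : Q := act 6 n24729
theorem D50839 : act 6 n24729 = n50839 := rfl
theorem F80198 : act 2 n50839 = n24733 := d3_1 D50839 (iv6 D24733) (iv2 F38697)
theorem F80199 : act 3 n50839 = n50783 := d7_1 D50839 (iv6 D50783) (iv3 F38698)
theorem F80200 : act 5 n50839 = n50783 := d12_1 D50839 (iv6 D50783) F38690 F19715 D24729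
theorem F80201 : act 7 n50839 = n50783 := d14_2 (iv7 F38699) D50839 (iv6 D50783) F38691 (iv6 F19715)
def n50840 : Q := act 2 n24730
theorem D50840 : act 2 n24730 = n50840 := rfl
theorem F80202 : act 7 n24731 = n50840 := d15_2 (iv0 D24730) D24731 (iv2 D50840)
def n50841 : Q := act 3 n24730
theorem D50841 : act 3 n24730 = n50841 := rfl
theorem F80203 : act 4 n50841 = n28013 := d20_6 (iv4 D5422) (iv1 F3683) (iv4 F8247) (iv3 F19024) D24730 D50841 (iv1 D28013) F22237 (iv3 D6343) (iv1 F8242)
def n50842 : Q := act 4 n24730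
theorem D50842 : act 4 n24730 = n50842 := rfl
def n50843 : Q := act 5 n24730
theorem D50843 : act 5 n24730 = n50843 := rfl
def n50844 : Q := act 6 n24730
theorem D50844 : act 6 n24730 = n50844 := rfl
def n50845 : Q := act 7 n24730
theorem D50845 : act 7 n24730 = n50845 := rfl
def n50846 : Q := act 3 n24731
theorem D50846 : act 3 n24731 = n50846 := rfl
def n50847 : Q := act 4 n24731
theorem D50847 : act 4 n24731 = n50847 := rfl
def n50848 : Q := act 5 n24731
theorem D50848 : act 5 n24731 = n50848 := rfl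
def n50849 : Q := act 6 n24731
theorem D50849 : act 6 n24731 = n50849 := rfl
def n50850 : Q := act 0 n24732
theorem D50850 : act 0 n24732 = n50850 := rfl
theorem F80205 : act 1 n25028 = n50850 := d15_0 (iv0 D50850) F38705 D25028
def n50851 : Q := act 1 n24732
theorem D50851 : act 1 n24732 = n50851 := rfl
theorem F80206 : act 1 n50851 = n25028 := d15_1 D50851 (iv7 F80195) F80194
theorem F80207 : act 4 n28148 = n50851 := d20_6 F8246 (iv1 D2739) D2740 D6381 D13434 D28148 (iv1 D50851) (iv4 D24732) F19024 (iv1 F8249)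
def n50852 : Q := act 5 n24732
theorem D50852 : act 5 n24732 = n50852 := rfl
theorem F80208 : act 3 n50852 = n25034 := d6_1 D50852 F39269 (iv3 F38704)
theorem F80209 : act 7 n50852 = n25029 := d13_2 (iv7 F38705) D50852 (iv5 D25029)
def n50853 : Q := act 6 n24732
theorem D50853 : act 6 n24732 = n50853 := rfl
theorem F80210 : act 3 n50853 = n25035 := d7_1 D50853 (iv6 D25035) (iv3 F38704)
theorem F80211 : act 4 n50853 = n24733 := d10_1 D50853 (iv6 D24733) D24732
theorem F80212 : act 7 n50853 = n50388 := d14_2 (iv7 F38705) D50853 (iv6 D50388) (iv7 D24561) (iv6 F19569)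
def n50854 : Q := act 0 n24733
theorem D50854 : act 0 n24733 = n50854 := rfl
theorem F80213 : act 1 n50783 = n50854 := d15_0 (iv0 D50854) (iv7 F38709) (iv2 F80162)
def n50855 : Q := act 1 n24733
theorem D50855 : act 1 n24733 = n50855 := rfl
theorem F80214 : act 1 n50855 = n50783 := d15_1 D50855 (iv7 F80201) F80198
def n50856 : Q := act 0 n24734
theorem D50856 : act 0 n24734 = n50856 := rfl
theorem F80215 : act 1 n50839 = n50856 := d15_0 (iv0 D50856) F38709 (iv2 F80198)
def n50857 : Q := act 1 n24734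
theorem D50857 : act 1 n24734 = n50857 := rfl
theorem F80216 : act 1 n50857 = n50839 := d15_1 D50857 F80201 F80162
def n50858 : Q := act 2 n24735
theorem D50858 : act 2 n24735 = n50858 := rfl
theorem F80217 : act 7 n24735 = n50858 := d15_2 (iv0 D24735) F38710 (iv2 D50858)
def n50859 : Q := act 3 n24735
theorem D50859 : act 3 n24735 = n50859 := rfl
def n50860 : Q := act 4 n24735
theorem D50860 : act 4 n24735 = n50860 := rfl
def n50861 : Q := act 5 n24735
theorem D50861 : act 5 n24735 = n50861 := rfl
theorem F80218 : act 0 n50861 = n50522 := d17_2 D24735 D50861 F80153 F79894 (iv5 F39375) (iv0 F39627) (iv5 D25189) (iv0 D11953) (iv4 F19028)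
theorem F80219 : act 1 n50861 = n50522 := d17_8 F38713 (iv5 D24740) (iv1 F19033) F8254 (iv4 F19030) F19031 F38710 D50861 F79894
theorem F80220 : act 6 n30933 = n50861 := d21_5 (iv5 F8640) (iv1 F19606) F19604 (iv6 F24324) D30933 (iv5 D50861) (iv1 F38710) (iv5 F19031) (iv6 D11702) (iv1 F8568)
theorem F80221 : act 4 n50861 = n28160 := d10_1 F80220 F45517 (iv4 F78685)
theorem E8213 : n28159 = n24736 := (c17_10 (iv1 F38711) F19031 D24735 D50861 F80221 (iv5 D28160) (iv0 D13437) F10414 F22357 D28159)
theorem F80222 : act 2 n24736 = n28081 := (sb E8213 (iv2 F78676))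
theorem F80223 : act 4 n24736 = n13437 := (sb E8213 (iv4 D28159))
theorem E8214 : n28081 = n24735 := (c17_5 F45516 (iv5 F39744) F45351 (iv5 D28082) D28081 D50861 F80219 F80153 (iv0 F80218) F80221)
theorem E8215 : n50858 = n24736 := ((D50858).symm.trans (sb E8214 (iv2 F80222)))
theorem E8216 : n50860 = n13392 := ((D50860).symm.trans (sb E8214 (iv4 D28081)))
theorem F80225 : act 2 n24736 = n24735 := (sb E8215 (iv2 D50858))
theorem F80226 : act 7 n24736 = n24735 := (sb E8215 (iv7 F80217))
theorem F80227 : act 4 n13392 = n24735 := (sb E8216 (iv4 D50860))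
def n50862 : Q := act 6 n24735
theorem D50862 : act 6 n24735 = n50862 := rfl
theorem F80228 : act 4 n50862 = n28083 := d10_1 D50862 (iv6 D28083) F80227
theorem F80230 : act 1 n50663 = n50862 := d18_6 (iv1 D25282) (iv4 F24234) (iv1 F49705) (iv4 D30736) (iv5 F38665) (iv4 F80017) F80228 (iv0 F45506) F45507
def n50863 : Q := act 3 n24736
theorem D50863 : act 3 n24736 = n50863 := rfl
theorem F80231 : act 7 n50863 = n50859 := d8_2 (iv7 F80226) D50863 (iv3 D50859)
def n50864 : Q := act 5 n24736
theorem D50864 : act 5 n24736 = n50864 := rfl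
theorem F80234 : act 4 n50864 = n28082 := d16_2 (iv4 F80223) D50864 (iv5 D28082) F80227 D50861 F80221 (iv5 D28160) F78669 (iv2 F78668)
theorem F80235 : act 6 n50864 = n31780 := d21_9 (iv5 F80137) (iv1 D50756) (iv5 D24705) (iv6 D11693) F8250 D11701 (iv5 F19031) D24736 D50864 F50074
def n50865 : Q := act 6 n24736
theorem D50865 : act 6 n24736 = n50865 := rfl
theorem F80237 : act 4 n50865 = n28161 := d10_1 D50865 (iv6 D28161) (iv4 F80223)
def n50866 : Q := act 0 n24738
theorem D50866 : act 0 n24738 = n50866 := rfl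
def n50867 : Q := act 1 n24738
theorem D50867 : act 1 n24738 = n50867 := rfl
def n50868 : Q := act 2 n24738
theorem D50868 : act 2 n24738 = n50868 := rfl
def n50869 : Q := act 4 n24738
theorem D50869 : act 4 n24738 = n50869 := rfl
def n50870 : Q := act 5 n24738
theorem D50870 : act 5 n24738 = n50870 := rfl
theorem F80238 : act 3 n50870 = n24740 := d6_1 D50870 (iv5 D24740) D24738
theorem F80239 : act 6 n30929 = n50870 := d7_0 F80238 (iv6 F38714) D30929
def n50871 : Q := act 6 n24738
theorem D50871 : act 6 n24738 = n50871 := rfl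
theorem F80240 : act 3 n50871 = n24741 := d7_1 D50871 (iv6 D24741) D24738
theorem F80241 : act 5 n30587 = n50871 := d6_0 F80240 F38715 D30587
def n50872 : Q := act 0 n24739
theorem D50872 : act 0 n24739 = n50872 := rfl
theorem F80242 : act 1 n24739 = n50872 := d15_0 (iv0 D50872) (iv7 F49024) F49030
def n50873 : Q := act 3 n24739
theorem D50873 : act 3 n24739 = n50873 := rfl
def n50874 : Q := act 5 n24739
theorem D50874 : act 5 n24739 = n50874 := rfl
def n50875 : Q := act 6 n24739
theorem D50875 : act 6 n24739 = n50875 := rfl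
theorem F80243 : act 4 n50875 = n24741 := d10_1 D50875 (iv6 D24741) D24739
def n50876 : Q := act 4 n24740
theorem D50876 : act 4 n24740 = n50876 := rfl
theorem F80244 : act 6 n50876 = n30930 := d10_2 F38714 D50876 (iv4 D30930)
theorem F80245 : act 5 n50876 = n25188 := d18_4 F80218 F79894 F38713 D50876 (iv4 D25188) (iv0 D11953) (iv4 F19028) F38710 D50861
theorem F80246 : act 4 n50874 = n25189 := d16_6 D25188 (iv5 F80245) (iv4 D50876) (iv5 D24740) D24739 D50874 (iv5 D25189) (iv7 F49022) F49021
theorem F80247 : act 2 n50876 = n50874 := d1_3 F80246 (iv2 F49026) D50876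
theorem F80248 : act 7 n50876 = n50874 := d11_0 F80246 F49025 D50876
def n50877 : Q := act 1 n24743
theorem D50877 : act 1 n24743 = n50877 := rfl
theorem F80249 : act 7 n50877 = n24859 := d15_2 (iv0 F38726) D50877 F38941
theorem F80250 : act 4 n50877 = n27958 := d17_9 (iv1 F45193) (iv5 F47047) F47050 (iv5 D24413) (iv4 F19517) D14215 D29933 (iv5 F48118) D50877
theorem F80251 : act 5 n50877 = n29917 := d18_9 (iv1 F48066) (iv4 F48143) (iv1 F48144) (iv4 D14509) F11203 (iv4 F10173) D11862 (iv4 F38723) D50877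
theorem F80252 : act 3 n28757 = n50877 := d20_3 (iv4 F23453) (iv1 F40709) (iv4 F46388) (iv1 D50877) (iv3 D24743) (iv4 D11707) (iv1 D5447) (iv4 F10018) (iv3 F18507) F19051
theorem F80253 : act 6 n24879 = n50877 := d21_3 D14596 (iv1 F40216) (iv5 F40219) (iv1 D50877) F38724 F24597 F38810 (iv5 D24798) F19337 (iv1 F19103)
theorem F80254 : act 2 n50877 = n24872 := d3_1 F80253 F38995 (iv2 F39009)
theorem F80255 : act 0 n24853 = n50877 := d21_4 (iv5 F46937) (iv1 F46938) (iv5 D24852) D24853 (iv6 F80253) F40219 (iv1 D25440) (iv5 D12093) D12094 (iv1 F40227)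
def n50878 : Q := act 2 n24743
theorem D50878 : act 2 n24743 = n50878 := rfl
theorem F80256 : act 3 n50878 = n30290 := d0_2 D24743 D50878 F48713 (iv3 D24209) (iv2 F19046)
theorem F80257 : act 4 n50878 = n24943 := d1_2 (iv4 F38723) D50878 F39105
theorem F80258 : act 5 n50878 = n49914 := d2_2 (iv5 F48118) D50878 (iv2 F78951)
theorem F80259 : act 6 n50878 = n28251 := d3_2 (iv6 F38724) D50878 (iv2 F45755)
theorem F80260 : act 7 n50878 = n24853 := d4_2 (iv7 F38725) D50878 F38919
theorem F80261 : act 1 n50878 = n24872 := d15_0 (iv0 F46509) (iv7 F38725) D50878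
theorem F80262 : act 1 n24859 = n50878 := d15_0 F80261 (iv7 D24872) (iv2 F38941)
theorem F80263 : act 6 n49914 = n50262 := d21_3 (iv5 F38994) (iv1 F80261) F80258 (iv1 D50262) (iv6 D24513) (iv5 D11597) (iv1 F19399) D13688 F22852 D14220
def n50879 : Q := act 4 n24744
theorem D50879 : act 4 n24744 = n50879 := rfl
theorem F80264 : act 2 n50879 = n29672 := d1_1 D50879 (iv4 D29672) (iv2 F38728)
theorem F80265 : act 5 n50879 = n25323 := d9_2 D24744 D50879 F39991 (iv5 F22271) F22270 F10361 D6592 D13861 D29127 F46795 (iv4 D24150) (iv5 D11342) F10018 D5448 D11708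
def n50880 : Q := act 6 n24744
theorem D50880 : act 6 n24744 = n50880 := rfl
theorem F80266 : act 2 n50880 = n29673 := d3_1 D50880 (iv6 D29673) (iv2 F38728)
def n50881 : Q := act 6 n24745
theorem D50881 : act 6 n24745 = n50881 := rfl
theorem F80267 : act 3 n50881 = n24748 := d7_1 D50881 (iv6 D24748) (iv3 F38729)
theorem F80268 : act 4 n50881 = n50674 := d10_1 D50881 (iv6 D50674) (iv4 F38732)
theorem F80269 : act 5 n50881 = n50881 := d12_1 D50881 (iv6 D50881) (iv5 D24745) F19338 D24745
def n50882 : Q := act 6 n24746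
theorem D50882 : act 6 n24746 = n50882 := rfl
theorem F80270 : act 3 n50882 = n50192 := d7_1 D50882 (iv6 D50192) (iv3 F38733)
theorem F80271 : act 5 n50882 = n50882 := d12_1 D50882 (iv6 D50882) (iv5 D24746) F19341 D24746
def n50883 : Q := act 3 n24747
theorem D50883 : act 3 n24747 = n50883 := rfl
theorem F80272 : act 4 n50883 = n50673 := d5_2 D24747 D50883 (iv3 D50673) (iv4 F38732) F38729
theorem F80273 : act 7 n50883 = n49702 := d8_2 (iv7 F38735) D50883 (iv3 D49702)
def n50884 : Q := act 5 n24747
theorem D50884 : act 5 n24747 = n50884 := rfl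
theorem F80274 : act 7 n50884 = n49703 := d13_2 (iv7 F38735) D50884 (iv5 D49703)
theorem F80275 : act 0 n50884 = n50252 := d17_2 F40118 D50884 (iv5 D50252) (iv4 D24507) (iv5 D11594) D11591 D24500 F38459 D25372
def n50885 : Q := act 6 n24747
theorem D50885 : act 6 n24747 = n50885 := rfl
theorem F80276 : act 4 n50885 = n24748 := d10_1 D50885 (iv6 D24748) D24747
def n50886 : Q := act 0 n24748
theorem D50886 : act 0 n24748 = n50886 := rfl
theorem F80277 : act 1 n24800 = n50886 := d15_0 (iv0 D50886) (iv7 F39653) F39651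
def n50887 : Q := act 1 n24748
theorem D50887 : act 1 n24748 = n50887 := rfl
def n50888 : Q := act 3 n24749
theorem D50888 : act 3 n24749 = n50888 := rfl
def n50889 : Q := act 5 n24749
theorem D50889 : act 5 n24749 = n50889 := rfl
theorem F80279 : act 2 n50889 = n24762 := d2_1 D50889 (iv5 D24762) (iv2 F38738)
theorem F80280 : act 4 n50889 = n25815 := d9_1 D50889 (iv5 D25815) (iv4 D12259) (iv5 D5814) (iv4 F10128) D5662 D11994 D25265 (iv4 F40793) (iv5 D25807) (iv4 D12253) (iv5 D5809) (iv4 F10124) D11718 D24749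
theorem F80281 : act 0 n50889 = n25854 := d17_2 (iv1 F39855) D50889 (iv5 F45317) (iv4 F45315) (iv5 D24500) F18911 D12053 F38474 (iv4 F39854)
theorem F80282 : act 1 n50889 = n25376 := d17_6 F19555 (iv5 D11400) F19386 D11718 D24749 D50889 (iv5 D25376) (iv0 F22249) (iv4 D13380)
theorem F80283 : act 4 n25852 = n50252 := d18_3 F80281 (iv4 D25854) D25852 (iv5 D50252) (iv4 D24507) D24506 (iv4 F39860) F39858 D50889
def n50890 : Q := act 6 n24749
theorem D50890 : act 6 n24749 = n50890 := rfl
theorem F80284 : act 2 n50890 = n24763 := d3_1 D50890 (iv6 D24763) (iv2 F38738)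
theorem F80285 : act 4 n50890 = n24750 := d10_1 D50890 (iv6 D24750) D24749
def n50891 : Q := act 0 n24750
theorem D50891 : act 0 n24750 = n50891 := rfl
theorem F80286 : act 5 n50891 = n28815 := d21_0 (iv1 D28815) F22981 (iv6 D13430) F19487 F18721 (iv5 D11400) F19386 D11718 D24750 D50891
def n50892 : Q := act 1 n24750
theorem D50892 : act 1 n24750 = n50892 := rfl
theorem F80287 : act 1 n50892 = n24766 := d15_1 D50892 (iv7 D24766) (iv2 F38739)
theorem F80288 : act 5 n28814 = n50892 := d21_0 (iv1 D50892) (iv5 F46558) (iv6 D28911) F23027 F18087 (iv5 D6404) F19473 D6539 D13736 D28814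
theorem F80289 : act 6 n29379 = n28814 := d21_5 (iv5 D11145) F19455 D6643 D13974 D29379 F80288 (iv1 D50892) (iv5 F46558) (iv6 D28911) F23027
def n50893 : Q := act 7 n24750
theorem D50893 : act 7 n24750 = n50893 := rfl
theorem F80290 : act 2 n50893 = n24766 := d4_1 D50893 (iv7 D24766) (iv2 F38739)
theorem F80291 : act 1 n24766 = n50891 := d15_0 (iv0 D50891) D50893 F80290
theorem F80292 : act 1 n24765 = n50893 := d15_1 D24765 (iv7 D50893) F38739
theorem F80293 : act 1 n50893 = n24764 := d15_0 (iv0 D24764) D24766 (iv2 F80290)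
def n50894 : Q := act 6 n24753
theorem D50894 : act 6 n24753 = n50894 := rfl
theorem F80294 : act 3 n50894 = n24755 := d7_1 D50894 (iv6 D24755) D24753
theorem F80295 : act 4 n50894 = n50539 := d10_1 D50894 (iv6 D50539) (iv4 F38751)
theorem F80296 : act 5 n50894 = n28253 := d12_1 D50894 (iv6 D28253) (iv5 D13488) D13489 (iv5 F38750)
def n50895 : Q := act 3 n24754
theorem D50895 : act 3 n24754 = n50895 := rfl
theorem F80297 : act 4 n50895 = n50537 := d5_2 D24754 D50895 (iv3 D50537) (iv4 F38751) (iv3 D24753)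
def n50896 : Q := act 5 n24754
theorem D50896 : act 5 n24754 = n50896 := rfl
def n50897 : Q := act 6 n24754
theorem D50897 : act 6 n24754 = n50897 := rfl
theorem F80298 : act 4 n50897 = n24755 := d10_1 D50897 (iv6 D24755) D24754
def n50898 : Q := act 0 n24755
theorem D50898 : act 0 n24755 = n50898 := rfl
def n50899 : Q := act 1 n24755
theorem D50899 : act 1 n24755 = n50899 := rfl
def n50900 : Q := act 7 n24755
theorem D50900 : act 7 n24755 = n50900 := rfl
theorem F80299 : act 5 n50900 = n31767 := d13_1 D50900 F76883 F76808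
theorem F80300 : act 6 n24816 = n50900 := d21_5 (iv5 D11749) (iv1 D5493) D5495 D11756 D24816 F80299 (iv1 F76882) (iv5 F76879) (iv6 D28026) (iv1 F22243)
theorem F80301 : act 7 n25258 = n24816 := d14_0 F80300 (iv7 D50900) (iv6 D24755) (iv7 F20278) D25258
theorem F80302 : act 5 n24816 = n49748 := d13_1 F80301 (iv7 D49748) (iv5 F39840)
def n50901 : Q := act 4 n24756
theorem D50901 : act 4 n24756 = n50901 := rfl
theorem F80303 : act 2 n50901 = n24975 := d1_1 D50901 (iv4 F45188) (iv2 F45185)
theorem F80304 : act 7 n50901 = n24974 := d11_2 F39844 D50901 (iv4 F39845)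
theorem F80305 : act 0 n50901 = n24955 := d18_2 (iv1 F39849) D50901 (iv4 D24955) (iv5 D11849) (iv4 F10144) F19355 (iv4 F10967) F19351 D24875
theorem F80306 : act 1 n50901 = n24957 := d18_6 D6985 F11493 D14655 (iv4 F39921) F39918 D50901 (iv4 D24957) F19263 (iv5 D6987)
def n50902 : Q := act 6 n24756
theorem D50902 : act 6 n24756 = n50902 := rfl
theorem F80307 : act 2 n50902 = n30844 := d3_1 D50902 (iv6 F49311) (iv2 F45185)
theorem F80308 : act 3 n50902 = n24758 := d7_1 D50902 (iv6 D24758) D24756
theorem F80309 : act 0 n50902 = n30825 := d21_4 (iv5 F39233) F39922 F39918 D50902 (iv6 D30825) (iv5 D14596) (iv1 F19397) D14214 F23741 F39166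
theorem F80310 : act 1 n50902 = n30846 := d15_1 (iv0 F80309) (iv7 D30846) (iv2 F49248)
def n50903 : Q := act 3 n24757
theorem D50903 : act 3 n24757 = n50903 := rfl
def n50904 : Q := act 5 n24757
theorem D50904 : act 5 n24757 = n50904 := rfl
def n50905 : Q := act 6 n24757
theorem D50905 : act 6 n24757 = n50905 := rfl
theorem F80311 : act 4 n50905 = n24758 := d10_1 D50905 (iv6 D24758) D24757
def n50906 : Q := act 1 n24758
theorem D50906 : act 1 n24758 = n50906 := rfl
theorem F80312 : act 1 n50906 = n24816 := d15_1 D50906 (iv7 F80301) F39839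
theorem F80313 : act 7 n50906 = n24802 := d15_2 (iv0 F38753) D50906 F38815
theorem F80314 : act 2 n24817 = n50906 := d4_3 F80313 F38815 D24817
def n50907 : Q := act 7 n24758
theorem D50907 : act 7 n24758 = n50907 := rfl
theorem F80315 : act 2 n50907 = n24816 := d4_1 D50907 (iv7 F80301) F39839
theorem F80316 : act 1 n24817 = n50907 := d15_1 F39842 (iv7 D50907) (iv2 F39839)
theorem F80317 : act 1 n50907 = n24802 := d15_1 F80316 (iv7 F80313) (iv2 F80314)
def n50908 : Q := act 3 n24759
theorem D50908 : act 3 n24759 = n50908 := rfl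
theorem F80318 : act 4 n50908 = n49513 := d5_2 (iv4 F38754) D50908 (iv3 D49513) (iv4 D24168) (iv3 F37873)
def n50909 : Q := act 5 n24759
theorem D50909 : act 5 n24759 = n50909 := rfl
theorem F80319 : act 1 n50909 = n28046 := d17_6 (iv1 F38460) F38139 (iv1 D24159) D24160 (iv4 F38754) D50909 (iv5 D28046) D28045 (iv4 F45315)
def n50910 : Q := act 6 n24759
theorem D50910 : act 6 n24759 = n50910 := rfl
theorem F80320 : act 4 n50910 = n49495 := d10_1 D50910 F78248 (iv4 F38754)
def n50911 : Q := act 3 n24760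
theorem D50911 : act 3 n24760 = n50911 := rfl
def n50912 : Q := act 5 n24760
theorem D50912 : act 5 n24760 = n50912 := rfl
theorem F80321 : act 4 n50912 = n30720 := d16_2 F39416 D50912 (iv5 D30720) (iv4 D14559) F11219 (iv4 F18527) D24160 F38476 (iv2 F39414)
theorem F80322 : act 0 n50912 = n28046 := d17_2 F39817 D50912 (iv5 D28046) (iv4 D13380) F9868 D12006 F20281 F19825 D25253
def n50913 : Q := act 6 n24760
theorem D50913 : act 6 n24760 = n50913 := rfl
def n50914 : Q := act 0 n24761
theorem D50914 : act 0 n24761 = n50914 := rfl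
def n50915 : Q := act 1 n24761
theorem D50915 : act 1 n24761 = n50915 := rfl
theorem F80323 : act 4 n50561 = n50915 := d20_6 (iv4 D6996) (iv1 F4965) D5416 D11665 D24631 D50561 (iv1 D50915) F38755 (iv3 D11733) (iv1 F11260)
def n50916 : Q := act 2 n24761
theorem D50916 : act 2 n24761 = n50916 := rfl
theorem F80324 : act 4 n50916 = n24783 := d1_2 (iv4 F38755) D50916 (iv2 D24783)
def n50917 : Q := act 5 n24761
theorem D50917 : act 5 n24761 = n50917 := rfl
theorem F80325 : act 3 n50917 = n24762 := d6_1 D50917 (iv5 D24762) D24761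
def n50918 : Q := act 6 n24761
theorem D50918 : act 6 n24761 = n50918 := rfl
def n50919 : Q := act 0 n24762
theorem D50919 : act 0 n24762 = n50919 := rfl
theorem F80328 : act 5 n50919 = n25377 := d17_3 (iv1 D24760) D24762 D50919 F40124 F19974 (iv0 F18864) D24454 F39418 F39416
theorem F80329 : act 2 n25854 = n50919 := d2_3 F80328 (iv2 F45316) F45317
theorem F80330 : act 7 n25376 = n50919 := d13_0 F80328 (iv7 D25377) D25376
theorem F80331 : act 4 n25793 = n50919 := d16_0 F80328 F40124 F19974 F8816 (iv5 F8945) (iv4 F20332) (iv5 F40842) (iv7 D25856) (iv2 F40760)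
def n50920 : Q := act 1 n24762
theorem D50920 : act 1 n24762 = n50920 := rfl
theorem F80332 : act 7 n50920 = n25854 := d15_2 (iv0 D50919) D50920 F80329
theorem F80333 : act 5 n50920 = n25363 := d17_7 (iv1 F22248) (iv5 D11404) (iv1 F19348) D5453 D11722 D24762 D50920 (iv0 F45310) (iv4 D28043)
theorem F80334 : act 2 n25376 = n50920 := d2_3 F80333 F40095 D25376
theorem F80335 : act 4 n25856 = n50920 := d9_15 F80333 (iv4 D25363) (iv5 D12047) F8811 D5804 D12247 D25793 F80331 F80328 F40124 F19974 F8816 (iv5 F8945) (iv4 F20332) (iv5 F40842)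
def n50921 : Q := act 4 n24762
theorem D50921 : act 4 n24762 = n50921 := rfl
theorem F80336 : act 2 n50921 = n25815 := d1_1 D50921 (iv4 F80280) F80279
theorem F80337 : act 7 n50921 = n25807 := d11_2 F39864 D50921 F40793
theorem F80338 : act 5 n50921 = n25786 := d16_3 D11722 D24762 D50921 (iv4 D25786) (iv5 D12244) F10134 D11990 F19824 F19063
def n50922 : Q := act 6 n24762
theorem D50922 : act 6 n24762 = n50922 := rfl
def n50923 : Q := act 0 n24763
theorem D50923 : act 0 n24763 = n50923 := rfl
def n50924 : Q := act 1 n24763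
theorem D50924 : act 1 n24763 = n50924 := rfl
def n50925 : Q := act 5 n24763
theorem D50925 : act 5 n24763 = n50925 := rfl
def n50926 : Q := act 7 n24763
theorem D50926 : act 7 n24763 = n50926 := rfl
def n50927 : Q := act 2 n24764
theorem D50927 : act 2 n24764 = n50927 := rfl
theorem F80340 : act 7 n24765 = n50927 := d15_2 (iv0 D24764) D24765 (iv2 D50927)
def n50928 : Q := act 3 n24764
theorem D50928 : act 3 n24764 = n50928 := rfl
def n50929 : Q := act 4 n24764
theorem D50929 : act 4 n24764 = n50929 := rfl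
def n50930 : Q := act 5 n24764
theorem D50930 : act 5 n24764 = n50930 := rfl
theorem F80341 : act 0 n50930 = n28186 := d21_1 D50930 F45590 (iv6 D28135) (iv1 F22340) F18725 (iv5 D11404) (iv1 F19348) D5453 D11723 D24764
theorem F80342 : act 6 n25208 = n24764 := d21_5 (iv5 D11459) F19381 D5637 D11962 D25208 D50930 F80341 F45590 (iv6 D28135) (iv1 F22340)
theorem F80343 : act 1 n50930 = n28816 := d15_1 (iv0 F80341) (iv7 D28816) (iv2 F45589)
def n50931 : Q := act 7 n24764
theorem D50931 : act 7 n24764 = n50931 := rfl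
theorem F80344 : act 2 n50931 = n24765 := d4_1 D50931 F80340 (iv2 D50927)
def n50932 : Q := act 3 n24765
theorem D50932 : act 3 n24765 = n50932 := rfl
def n50933 : Q := act 4 n24765
theorem D50933 : act 4 n24765 = n50933 := rfl
def n50934 : Q := act 5 n24765
theorem D50934 : act 5 n24765 = n50934 := rfl
theorem F80345 : act 0 n28186 = n50934 := d21_10 (iv5 D50934) (iv1 D24765) (iv5 F23029) (iv6 D13777) F19433 F18083 (iv5 D6399) D6397 D13455 D28186
def n50935 : Q := act 6 n24765
theorem D50935 : act 6 n24765 = n50935 := rfl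
def n50936 : Q := act 5 n24767
theorem D50936 : act 5 n24767 = n50936 := rfl
theorem F80346 : act 2 n50936 = n28758 := d2_1 D50936 (iv5 D28758) (iv2 F38758)
theorem F80347 : act 3 n50936 = n29796 := d6_1 D50936 F47952 (iv3 F38759)
theorem F80348 : act 7 n50936 = n49896 := d13_2 F45681 D50936 F78913
theorem F80349 : act 0 n50936 = n27926 := d17_2 (iv1 F40107) D50936 (iv5 D27926) (iv4 F22918) D14165 F46664 F46661 (iv0 F38315) (iv4 F40105)
theorem F80350 : act 1 n50936 = n27924 := d17_6 F19455 D6643 D13971 (iv5 F23894) D24767 D50936 (iv5 D27924) (iv0 D13316) F9840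
def n50937 : Q := act 3 n24770
theorem D50937 : act 3 n24770 = n50937 := rfl
theorem F80351 : act 4 n50937 = n24772 := d5_2 D24770 D50937 (iv3 D24772) (iv4 D11728) D11727
theorem F80352 : act 7 n50937 = n50476 := d8_2 F39717 D50937 F79834
def n50938 : Q := act 5 n24770
theorem D50938 : act 5 n24770 = n50938 := rfl
theorem F80353 : act 0 n50938 = n28007 := d17_2 F38771 D50938 (iv5 D28007) (iv4 F36868) (iv5 F36865) (iv0 D14401) D14403 (iv0 F24051) D24475
theorem F80354 : act 1 n50938 = n28010 := d17_6 (iv1 F22194) (iv5 F23670) (iv1 D12363) (iv5 F19069) D24770 D50938 (iv5 D28010) F45178 F45177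
def n50939 : Q := act 6 n24770
theorem D50939 : act 6 n24770 = n50939 := rfl
theorem F80355 : act 4 n50939 = n24771 := d10_1 D50939 (iv6 D24771) D24770
def n50940 : Q := act 0 n24771
theorem D50940 : act 0 n24771 = n50940 := rfl
def n50941 : Q := act 1 n24771
theorem D50941 : act 1 n24771 = n50941 := rfl
def n50942 : Q := act 7 n24771
theorem D50942 : act 7 n24771 = n50942 := rfl
theorem F80356 : act 3 n50942 = n24776 := d8_1 D50942 (iv7 D24776) (iv3 F38772)
theorem F80357 : act 5 n50942 = n26079 := d13_1 D50942 (iv7 D26079) (iv5 F38773)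
theorem F80358 : act 6 n50942 = n24828 := d14_1 D50942 F39721 (iv6 D25217) F19747 D24771
def n50943 : Q := act 0 n24772
theorem D50943 : act 0 n24772 = n50943 := rfl
theorem F80359 : act 1 n50475 = n50943 := d15_0 (iv0 D50943) F38775 D50475
def n50944 : Q := act 1 n24772
theorem D50944 : act 1 n24772 = n50944 := rfl
def n50945 : Q := act 2 n24772
theorem D50945 : act 2 n24772 = n50945 := rfl
theorem F80360 : act 3 n50945 = n31791 := d0_2 D24772 D50945 (iv2 D31791) (iv3 D14953) (iv2 F19070)
theorem F80361 : act 5 n50945 = n31791 := d2_2 (iv5 F38774) D50945 (iv2 D31791)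
theorem F80362 : act 7 n50945 = n50475 := d4_2 (iv7 F38775) D50945 (iv2 D50475)
theorem F80363 : act 1 n50945 = n50473 := d15_0 (iv0 D50473) (iv7 F38775) D50945
theorem F80364 : act 1 n50944 = n50475 := d15_1 D50944 (iv7 F80362) (iv2 D50945)
theorem F80365 : act 1 n50474 = n50945 := d15_1 D50474 F80362 (iv2 D50475)
def n50946 : Q := act 6 n24772
theorem D50946 : act 6 n24772 = n50946 := rfl
theorem F80366 : act 3 n50946 = n24773 := d7_1 D50946 (iv6 D24773) D24772
def n50947 : Q := act 0 n24773
theorem D50947 : act 0 n24773 = n50947 := rfl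
def n50948 : Q := act 1 n24773
theorem D50948 : act 1 n24773 = n50948 := rfl
theorem F80367 : act 1 n50948 = n31788 := d15_1 D50948 (iv7 D31788) (iv2 F38776)
theorem F80368 : act 4 n50948 = n25063 := d18_7 (iv1 F19018) D24672 F46772 F20548 (iv5 F19076) (iv4 F38777) D50948 F39340 F24325
theorem F80369 : act 2 n30932 = n50948 := d1_3 F80368 (iv2 F49010) D30932
theorem F80370 : act 6 n30932 = n50948 := d10_0 F80368 F39541 D30932
theorem F80371 : act 7 n30930 = n50948 := d11_0 F80368 F49029 D30930
theorem F80372 : act 2 n30930 = n50947 := d15_3 (iv0 D50947) D50948 (iv7 F80371)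
theorem F80373 : act 4 n50947 = n25062 := d1_2 D30930 F80372 F49027
theorem F80374 : act 6 n50947 = n50874 := d3_2 F80244 F80372 (iv2 F80247)
theorem F80375 : act 7 n50947 = n30932 := d4_2 (iv7 F80371) F80372 F80369
theorem E8217 : n31785 = n30930 := ((c15_4 (iv0 D31785) (iv0 F49366) (iv7 F80375) (iv2 F80372))).symm
theorem F80376 : act 1 n30930 = n14951 := (sb E8217 (iv0 D31785))
theorem E8218 : n28077 = n25188 := ((c21_7 F8560 (iv1 F19074) F19072 (iv6 F24612) (iv1 F80376) (iv6 F80244) F80245 (iv1 F45346) (iv5 F22258) (iv6 D13391) (iv1 F9876))).symm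
theorem F80377 : act 0 n25188 = n13390 := (sb E8218 (iv1 F45346))
theorem F80378 : act 1 n25188 = n13390 := (sb E8218 (iv0 D28077))
theorem E8219 : n28078 = n24739 := (c17_9 (iv1 F19033) F8254 D11703 D24740 D50876 F80245 F80378 (iv5 F22258) F45347 (iv4 D24739))
theorem E8220 : n50872 = n13391 := ((D50872).symm.trans (sb E8219 (iv1 F45347)))
theorem F80379 : act 0 n13391 = n24739 := (sb E8220 (iv1 F80242))
theorem F80380 : act 1 n13391 = n24739 := (sb E8220 (iv0 D50872))
theorem F80381 : act 1 n50502 = n50876 := d17_6 D13437 D28160 F45516 (iv5 F39744) (iv4 F79870) F80063 F80245 F80378 F22255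
theorem F80382 : act 1 n50876 = n50502 := d15_0 F80381 F80248 (iv2 F80247)
theorem F80383 : act 0 n50947 = n31788 := d21_10 F80010 (iv1 D50645) (iv5 D24662) (iv6 D11677) (iv1 F9872) D13390 (iv5 F22258) F80379 D50874 (iv6 F80374)
def n50949 : Q := act 7 n24773
theorem D50949 : act 7 n24773 = n50949 := rfl
theorem F80384 : act 2 n50949 = n31788 := d4_1 D50949 (iv7 D31788) (iv2 F38776)
theorem F80385 : act 4 n50949 = n24776 := d11_1 D50949 (iv7 D24776) (iv4 F38777)
theorem F80386 : act 6 n50949 = n24829 := d14_1 D50949 F38853 (iv6 D24598) (iv7 F19071) D24773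
theorem F80387 : act 1 n30932 = n50949 := d15_1 (iv0 F49366) (iv7 D50949) F38776
theorem F80388 : act 1 n50949 = n30930 := d15_1 F80387 F80371 (iv2 F80369)
def n50950 : Q := act 3 n24774
theorem D50950 : act 3 n24774 = n50950 := rfl
theorem F80389 : act 7 n50950 = n31783 := d8_2 (iv7 F78674) D50950 (iv3 D31783)
def n50951 : Q := act 3 n24775
theorem D50951 : act 3 n24775 = n50951 := rfl
theorem F80390 : act 6 n50951 = n31783 := d7_2 F45833 D50951 (iv3 D31783)
theorem F80391 : act 7 n50951 = n31779 := d8_2 (iv7 F78650) D50951 (iv3 D31779)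
def n50952 : Q := act 3 n24777
theorem D50952 : act 3 n24777 = n50952 := rfl
theorem F80392 : act 4 n50952 = n24779 := d5_2 D24777 D50952 (iv3 D24779) (iv4 D11731) D11730
theorem F80393 : act 7 n50952 = n31746 := d8_2 (iv7 F38785) D50952 (iv3 D31746)
def n50953 : Q := act 6 n24777
theorem D50953 : act 6 n24777 = n50953 := rfl
theorem F80394 : act 4 n50953 = n24778 := d10_1 D50953 (iv6 D24778) D24777
def n50954 : Q := act 0 n24779
theorem D50954 : act 0 n24779 = n50954 := rfl
theorem F80395 : act 1 n31791 = n50954 := d15_0 (iv0 D50954) F38791 D31791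
def n50955 : Q := act 1 n24779
theorem D50955 : act 1 n24779 = n50955 := rfl
def n50956 : Q := act 2 n24779
theorem D50956 : act 2 n24779 = n50956 := rfl
theorem F80396 : act 3 n50956 = n50475 := d0_2 D24779 D50956 (iv2 D50475) (iv3 D24597) (iv2 F19081)
theorem F80397 : act 5 n50956 = n50475 := d2_2 (iv5 F38790) D50956 (iv2 D50475)
theorem F80398 : act 7 n50956 = n31791 := d4_2 (iv7 F38791) D50956 (iv2 D31791)
theorem F80399 : act 1 n50956 = n31789 := d15_0 (iv0 D31789) (iv7 F38791) D50956
theorem F80400 : act 1 n50955 = n31791 := d15_1 D50955 (iv7 F80398) (iv2 D50956)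
theorem F80401 : act 1 n31790 = n50956 := d15_1 D31790 F80398 (iv2 D31791)
def n50957 : Q := act 6 n24779
theorem D50957 : act 6 n24779 = n50957 := rfl
theorem F80402 : act 3 n50957 = n24780 := d7_1 D50957 (iv6 D24780) D24779
theorem F80403 : act 7 n50575 = n50957 := d8_0 F80402 (iv7 F38857) D50575
def n50958 : Q := act 5 n24780
theorem D50958 : act 5 n24780 = n50958 := rfl
theorem F80404 : act 2 n50958 = n50478 := d2_1 D50958 (iv5 D50478) (iv2 F38792)
theorem F80405 : act 6 n50958 = n50478 := d12_2 D24780 D50958 (iv5 D50478) (iv6 D24598) (iv5 F19082)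
theorem F80406 : act 7 n50958 = n50576 := d13_2 F38857 D50958 (iv5 D50576)
def n50959 : Q := act 2 n24781
theorem D50959 : act 2 n24781 = n50959 := rfl
theorem F80407 : act 7 n24782 = n50959 := d15_2 (iv0 D24781) D24782 (iv2 D50959)
def n50960 : Q := act 3 n24781
theorem D50960 : act 3 n24781 = n50960 := rfl
def n50961 : Q := act 4 n24781
theorem D50961 : act 4 n24781 = n50961 := rfl
def n50962 : Q := act 5 n24781
theorem D50962 : act 5 n24781 = n50962 := rfl
def n50963 : Q := act 6 n24781
theorem D50963 : act 6 n24781 = n50963 := rfl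
def n50964 : Q := act 7 n24781
theorem D50964 : act 7 n24781 = n50964 := rfl
theorem F80408 : act 2 n50964 = n24782 := d4_1 D50964 F80407 (iv2 D50959)
def n50965 : Q := act 3 n24782
theorem D50965 : act 3 n24782 = n50965 := rfl
def n50966 : Q := act 4 n24782
theorem D50966 : act 4 n24782 = n50966 := rfl
def n50967 : Q := act 5 n24782
theorem D50967 : act 5 n24782 = n50967 := rfl
def n50968 : Q := act 6 n24782
theorem D50968 : act 6 n24782 = n50968 := rfl
def n50974 : Q := act 4 n24787
theorem D50974 : act 4 n24787 = n50974 := rfl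
def n50975 : Q := act 7 n24787
theorem D50975 : act 7 n24787 = n50975 := rfl
theorem F80414 : act 5 n50975 = n24788 := d13_1 D50975 (iv7 D24788) D24787
def n50976 : Q := act 0 n24790
theorem D50976 : act 0 n24790 = n50976 := rfl
def n50977 : Q := act 1 n24790
theorem D50977 : act 1 n24790 = n50977 := rfl
def n50978 : Q := act 2 n24790
theorem D50978 : act 2 n24790 = n50978 := rfl
def n50979 : Q := act 4 n24790
theorem D50979 : act 4 n24790 = n50979 := rfl
def n50980 : Q := act 3 n24791
theorem D50980 : act 3 n24791 = n50980 := rfl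
def n50981 : Q := act 0 n24793
theorem D50981 : act 0 n24793 = n50981 := rfl
def n50982 : Q := act 1 n24793
theorem D50982 : act 1 n24793 = n50982 := rfl
def n50983 : Q := act 2 n24793
theorem D50983 : act 2 n24793 = n50983 := rfl
def n50984 : Q := act 4 n24793
theorem D50984 : act 4 n24793 = n50984 := rfl
def n50985 : Q := act 6 n24793
theorem D50985 : act 6 n24793 = n50985 := rfl
theorem F80417 : act 3 n50985 = n24795 := d7_1 D50985 (iv6 D24795) D24793
def n50986 : Q := act 3 n24794
theorem D50986 : act 3 n24794 = n50986 := rfl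
def n50987 : Q := act 6 n24794
theorem D50987 : act 6 n24794 = n50987 := rfl
theorem F80419 : act 2 n50987 = n50502 := d3_1 D50987 (iv6 D50502) F79867
theorem F80420 : act 4 n50987 = n24795 := d10_1 D50987 (iv6 D24795) D24794
theorem F80421 : act 5 n50987 = n50987 := d12_1 D50987 (iv6 D50987) (iv5 F80060) F80061 F80060
theorem F80422 : act 7 n50987 = n50502 := d14_2 (iv7 F79866) D50987 (iv6 D50502) F79868 (iv6 F79863)
theorem F80423 : act 0 n50987 = n50874 := d21_10 (iv5 D50874) (iv1 F80380) F22258 (iv6 D13390) F9871 D11688 D24689 D50715 F80060 D50987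
theorem F80424 : act 0 n50874 = n50987 := d21_1 D50874 F80421 (iv6 D50987) F79859 (iv6 D11910) (iv5 F8560) F8562 (iv5 F9875) D13391 F80379
def n50988 : Q := act 6 n24798
theorem D50988 : act 6 n24798 = n50988 := rfl
theorem F80425 : act 2 n50988 = n30835 := d3_1 D50988 (iv6 D30835) (iv2 F38806)
theorem F80426 : act 3 n50988 = n24800 := d7_1 D50988 (iv6 D24800) (iv3 F38807)
theorem F80427 : act 4 n50988 = n50290 := d10_1 D50988 (iv6 D50290) (iv4 F38809)
theorem F80428 : act 5 n50988 = n50988 := d12_1 D50988 (iv6 D50988) (iv5 D24798) F19337 D24798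
theorem F80429 : act 7 n50988 = n30659 := d14_2 (iv7 F38808) D50988 (iv6 D30659) F24175 (iv6 F23739)
def n50989 : Q := act 3 n24799
theorem D50989 : act 3 n24799 = n50989 := rfl
theorem F80430 : act 4 n50989 = n50289 := d5_2 D24799 D50989 (iv3 D50289) (iv4 F38809) F38807
theorem F80431 : act 7 n50989 = n49885 := d8_2 (iv7 F38812) D50989 (iv3 D49885)
def n50990 : Q := act 5 n24799
theorem D50990 : act 5 n24799 = n50990 := rfl
theorem F80432 : act 4 n50990 = n50545 := d9_1 D50990 F79916 F38672 (iv5 D24324) F18720 D11455 D24325 D49884 F79918 F79917 (iv4 F38732) (iv5 D24745) F19056 D11749 D24799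
theorem F80433 : act 7 n50990 = n49886 := d13_2 (iv7 F38812) D50990 (iv5 D49886)
def n50991 : Q := act 6 n24799
theorem D50991 : act 6 n24799 = n50991 := rfl
theorem F80434 : act 4 n50991 = n24800 := d10_1 D50991 (iv6 D24800) D24799
def n50992 : Q := act 3 n24801
theorem D50992 : act 3 n24801 = n50992 := rfl
def n50993 : Q := act 5 n24801
theorem D50993 : act 5 n24801 = n50993 := rfl
theorem F80435 : act 2 n50993 = n24814 := d2_1 D50993 (iv5 D24814) (iv2 F38814)
theorem F80436 : act 4 n50993 = n25051 := d9_1 D50993 (iv5 D25051) (iv4 D11899) (iv5 D5580) (iv4 F10042) D5637 D11961 D25206 (iv4 F79902) (iv5 D50528) (iv4 D24617) (iv5 D11655) (iv4 F10109) D11751 D24801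
theorem F80437 : act 7 n50993 = n50547 := d13_2 F39655 D50993 F79920
def n50994 : Q := act 6 n24801
theorem D50994 : act 6 n24801 = n50994 := rfl
theorem F80438 : act 2 n50994 = n24815 := d3_1 D50994 (iv6 D24815) (iv2 F38814)
theorem F80439 : act 4 n50994 = n24802 := d10_1 D50994 (iv6 D24802) D24801
def n50995 : Q := act 6 n24805
theorem D50995 : act 6 n24805 = n50995 := rfl
theorem F80440 : act 3 n50995 = n24807 := d7_1 D50995 (iv6 D24807) D24805
theorem F80441 : act 4 n50995 = n50448 := d10_1 D50995 (iv6 D50448) (iv4 F38825)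
theorem F80442 : act 5 n50995 = n49923 := d12_1 D50995 (iv6 D49923) (iv5 F45686) F45687 F39758
theorem F80443 : act 0 n50995 = n25466 := d21_7 (iv5 D24510) F19116 D24832 F38869 F45692 D49923 (iv5 F80442) (iv5 F50028) (iv6 D31719) (iv1 F38488)
def n50996 : Q := act 0 n24806
theorem D50996 : act 0 n24806 = n50996 := rfl
theorem F80444 : act 4 n50996 = n24952 := d18_3 D11753 D24806 D50996 (iv5 D24952) (iv4 F36932) F36934 F18720 (iv0 F19326) D5495
theorem F80445 : act 2 n48636 = n50996 := d15_3 (iv0 D50996) (iv0 F40178) (iv7 F76492)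
theorem F80446 : act 1 n24809 = n50996 := d15_0 (iv0 D50996) (iv7 F39677) F39676
theorem F80447 : act 7 n50996 = n24987 := d15_2 F40179 F80446 (iv2 F40177)
def n50997 : Q := act 3 n24806
theorem D50997 : act 3 n24806 = n50997 := rfl
theorem F80448 : act 4 n50997 = n50446 := d5_2 D24806 D50997 (iv3 D50446) (iv4 F38825) (iv3 D24805)
def n50998 : Q := act 5 n24806
theorem D50998 : act 5 n24806 = n50998 := rfl
theorem F80449 : act 4 n50998 = n50538 := d16_2 D24806 D50998 (iv5 D50538) (iv4 F38751) F38750 F22646 (iv5 F19733) (iv7 F22582) (iv2 F22583)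
def n50999 : Q := act 6 n24806
theorem D50999 : act 6 n24806 = n50999 := rfl
theorem F80450 : act 4 n50999 = n24807 := d10_1 D50999 (iv6 D24807) D24806
theorem F80451 : act 0 n50999 = n50253 := d20_1 (iv4 F80450) F79629 F38481 D24520 F49341 D24639 (iv1 F39905) F39902 (iv3 F39868) (iv1 F39870)
def n51000 : Q := act 7 n24807
theorem D51000 : act 7 n24807 = n51000 := rfl
theorem F80452 : act 5 n51000 = n49930 := d13_1 D51000 (iv7 D49930) (iv5 F38826)
def n51001 : Q := act 6 n24808
theorem D51001 : act 6 n24808 = n51001 := rfl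
theorem F80453 : act 2 n51001 = n30840 := d3_1 D51001 (iv6 D30840) F38832
theorem F80454 : act 3 n51001 = n24810 := d7_1 D51001 (iv6 D24810) D24808
theorem F80455 : act 4 n51001 = n50212 := d10_1 D51001 (iv6 D50212) F38828
theorem F80456 : act 5 n51001 = n28250 := d12_1 D51001 (iv6 D28250) (iv5 D13486) D13487 (iv5 F38827)
theorem F80457 : act 0 n49667 = n28250 := d21_7 (iv5 D14596) (iv1 F19397) D14214 F23741 F39166 D27988 (iv5 F78457) (iv5 F80456) (iv6 D51001) (iv1 F38830)
def n51002 : Q := act 3 n24809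
theorem D51002 : act 3 n24809 = n51002 := rfl
theorem F80458 : act 4 n51002 = n50210 := d5_2 D24809 D51002 (iv3 D50210) F38828 (iv3 D24808)
def n51003 : Q := act 5 n24809
theorem D51003 : act 5 n24809 = n51003 := rfl
theorem F80459 : act 4 n51003 = n50535 := d9_1 D51003 (iv5 D50535) (iv4 F40261) F40260 (iv4 D25236) (iv5 F22592) D24806 D50998 F80449 (iv5 D50538) (iv4 F38751) F38750 F22646 (iv5 F19733) D24809
def n51004 : Q := act 6 n24809
theorem D51004 : act 6 n24809 = n51004 := rfl
theorem F80460 : act 4 n51004 = n24810 := d10_1 D51004 (iv6 D24810) D24809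
def n51005 : Q := act 0 n24810
theorem D51005 : act 0 n24810 = n51005 := rfl
def n51006 : Q := act 1 n24810
theorem D51006 : act 1 n24810 = n51006 := rfl
def n51007 : Q := act 7 n24810
theorem D51007 : act 7 n24810 = n51007 := rfl
theorem F80461 : act 5 n51007 = n28259 := d13_1 D51007 (iv7 D28259) (iv5 F38835)
def n51008 : Q := act 3 n24811
theorem D51008 : act 3 n24811 = n51008 := rfl
def n51009 : Q := act 5 n24811
theorem D51009 : act 5 n24811 = n51009 := rfl
theorem F80462 : act 2 n51009 = n32155 := d2_1 D51009 (iv5 F51122) (iv2 F39688)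
theorem F80463 : act 4 n51009 = n30376 := d16_2 (iv4 F39303) D51009 (iv5 D30376) (iv4 D14417) (iv5 D6898) (iv4 F11185) D14408 (iv7 F38622) F39207
theorem F80464 : act 1 n51009 = n28029 := d17_6 (iv1 F39155) F39279 (iv1 F45527) F45525 (iv4 F39303) D51009 (iv5 D28029) D28028 F45298
def n51010 : Q := act 6 n24811
theorem D51010 : act 6 n24811 = n51010 := rfl
def n51011 : Q := act 3 n24812
theorem D51011 : act 3 n24812 = n51011 := rfl
theorem F80465 : act 7 n51011 = n32156 := d8_2 (iv7 F39689) D51011 F51123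
theorem F80466 : act 5 n32140 = n51011 := d13_3 F80465 (iv5 D32156) (iv7 F51096)
theorem F80467 : act 2 n51011 = n32166 := d2_1 F80466 (iv5 D32166) (iv2 F51095)
def n51012 : Q := act 5 n24812
theorem D51012 : act 5 n24812 = n51012 := rfl
theorem F80468 : act 3 n51012 = n32140 := d6_1 D51012 F80466 (iv3 D51011)
theorem F80469 : act 4 n51012 = n50531 := d9_1 D51012 (iv5 D50531) (iv4 D24620) (iv5 F22591) D28162 F45525 (iv4 F39303) D51009 F80463 (iv5 D30376) (iv4 D14417) (iv5 D6898) (iv4 F11185) D14408 (iv4 F38836)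
theorem F80470 : act 7 n51012 = n32155 := d13_2 (iv7 F39689) D51012 (iv5 F51122)
theorem F80471 : act 0 n51012 = n28029 := d17_2 F39656 D51012 (iv5 D28029) (iv4 D13374) F9867 (iv0 F22595) (iv5 F19733) F19732 D25195
def n51013 : Q := act 6 n24812
theorem D51013 : act 6 n24812 = n51013 := rfl
theorem F80472 : act 4 n51013 = n30353 := d10_1 D51013 F48785 (iv4 F38836)
def n51014 : Q := act 0 n24813
theorem D51014 : act 0 n24813 = n51014 := rfl
def n51015 : Q := act 1 n24813
theorem D51015 : act 1 n24813 = n51015 := rfl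
theorem F80473 : act 4 n50480 = n51015 := d20_6 (iv4 D11636) (iv1 D5404) D5405 D11639 D24599 D50480 (iv1 D51015) F38837 (iv3 D11760) (iv1 F18979)
def n51016 : Q := act 2 n24813
theorem D51016 : act 2 n24813 = n51016 := rfl
theorem F80474 : act 4 n51016 = n24823 := d1_2 (iv4 F38837) D51016 (iv2 D24823)
def n51017 : Q := act 5 n24813
theorem D51017 : act 5 n24813 = n51017 := rfl
theorem F80475 : act 3 n51017 = n24814 := d6_1 D51017 (iv5 D24814) D24813
def n51018 : Q := act 6 n24813
theorem D51018 : act 6 n24813 = n51018 := rfl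
def n51019 : Q := act 0 n24814
theorem D51019 : act 0 n24814 = n51019 := rfl
theorem F80478 : act 5 n51019 = n25364 := d17_3 (iv1 D24812) D24814 D51019 (iv4 D25364) (iv5 D12050) (iv0 F22446) D11866 (iv0 F26049) (iv4 F38836)
theorem F80479 : act 1 n50547 = n51019 := d15_0 (iv0 D51019) (iv7 F39694) (iv2 F79919)
theorem F80480 : act 4 n50525 = n51019 := d9_15 F80478 (iv4 D25364) (iv5 D12050) F8813 D7646 D16485 D34031 F53379 (iv5 F51037) F45495 (iv5 D24614) (iv4 D11652) D11653 D24615 D50525
def n51020 : Q := act 4 n24814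
theorem D51020 : act 4 n24814 = n51020 := rfl
theorem F80481 : act 2 n51020 = n25051 := d1_1 D51020 (iv4 F80436) F80435
theorem F80482 : act 5 n51020 = n25041 := d9_2 D24814 D51020 (iv4 D25041) (iv5 D11895) F10107 D11957 D25195 (iv5 F79920) (iv4 D50547) (iv5 D24625) (iv4 D11659) (iv5 D5414) F10030 D5495 D11755
theorem F80483 : act 7 n51020 = n50528 := d11_2 F39694 D51020 F79902
theorem F80484 : act 0 n51020 = n50546 := d17_0 F79917 (iv1 D24676) D24678 D50682 F80046 F45294 (iv5 F80478) (iv0 D51019) D51020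
theorem F80485 : act 1 n51020 = n50545 := d18_8 (iv1 F39466) (iv4 D25108) (iv1 F19679) D24615 D50525 F80480 (iv0 D51019) D51020 F79916
def n51021 : Q := act 6 n24814
theorem D51021 : act 6 n24814 = n51021 := rfl
def n51022 : Q := act 0 n24815
theorem D51022 : act 0 n24815 = n51022 := rfl
def n51023 : Q := act 1 n24815
theorem D51023 : act 1 n24815 = n51023 := rfl
def n51024 : Q := act 5 n24815
theorem D51024 : act 5 n24815 = n51024 := rfl
def n51025 : Q := act 7 n24815
theorem D51025 : act 7 n24815 = n51025 := rfl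
theorem F80486 : act 4 n51025 = n24817 := d11_1 D51025 (iv7 D24817) (iv4 F38838)
def n51026 : Q := act 3 n24816
theorem D51026 : act 3 n24816 = n51026 := rfl
def n51027 : Q := act 4 n24816
theorem D51027 : act 4 n24816 = n51027 := rfl
def n51028 : Q := act 2 n24821
theorem D51028 : act 2 n24821 = n51028 := rfl
theorem F80487 : act 7 n24822 = n51028 := d15_2 (iv0 D24821) D24822 (iv2 D51028)
def n51029 : Q := act 3 n24821
theorem D51029 : act 3 n24821 = n51029 := rfl
def n51030 : Q := act 4 n24821
theorem D51030 : act 4 n24821 = n51030 := rfl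
def n51031 : Q := act 5 n24821
theorem D51031 : act 5 n24821 = n51031 := rfl
def n51032 : Q := act 6 n24821
theorem D51032 : act 6 n24821 = n51032 := rfl
def n51033 : Q := act 7 n24821
theorem D51033 : act 7 n24821 = n51033 := rfl
theorem F80488 : act 2 n51033 = n24822 := d4_1 D51033 F80487 (iv2 D51028)
def n51034 : Q := act 3 n24822
theorem D51034 : act 3 n24822 = n51034 := rfl
def n51035 : Q := act 4 n24822
theorem D51035 : act 4 n24822 = n51035 := rfl
def n51036 : Q := act 5 n24822
theorem D51036 : act 5 n24822 = n51036 := rfl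
def n51037 : Q := act 6 n24822
theorem D51037 : act 6 n24822 = n51037 := rfl
def n51038 : Q := act 6 n24823
theorem D51038 : act 6 n24823 = n51038 := rfl
def n51042 : Q := act 7 n24824
theorem D51042 : act 7 n24824 = n51042 := rfl
theorem F80492 : act 3 n51042 = n24827 := d8_1 D51042 (iv7 D24827) (iv3 F38850)
def n51044 : Q := act 1 n24826
theorem D51044 : act 1 n24826 = n51044 := rfl
def n51045 : Q := act 4 n24826
theorem D51045 : act 4 n24826 = n51045 := rfl
theorem F80493 : act 6 n51045 = n50757 := d10_2 (iv6 F38851) D51045 (iv4 D50757)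
def n51046 : Q := act 7 n24826
theorem D51046 : act 7 n24826 = n51046 := rfl
theorem F80494 : act 5 n51046 = n24827 := d13_1 D51046 (iv7 D24827) D24826
def n51047 : Q := act 4 n24828
theorem D51047 : act 4 n24828 = n51047 := rfl
theorem F80495 : act 0 n48645 = n51047 := d20_7 (iv4 F39902) (iv1 F39904) F38604 (iv3 F38447) F39152 F39151 (iv4 F76512) (iv4 D51047) (iv3 D24828) (iv1 F19852)
def n51048 : Q := act 3 n24829
theorem D51048 : act 3 n24829 = n51048 := rfl
theorem F80496 : act 7 n51048 = n50477 := d8_2 (iv7 F38853) D51048 F79835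
def n51049 : Q := act 5 n24829
theorem D51049 : act 5 n24829 = n51049 := rfl
theorem F80497 : act 2 n51049 = n50576 := d2_1 D51049 (iv5 D50576) (iv2 F38855)
theorem F80498 : act 7 n51049 = n50478 := d13_2 (iv7 F38853) D51049 (iv5 D50478)
def n51050 : Q := act 3 n24833
theorem D51050 : act 3 n24833 = n51050 := rfl
theorem F80499 : act 4 n51050 = n24834 := d5_2 D24833 D51050 (iv3 D24834) (iv4 D11769) (iv3 F19118)
theorem F80500 : act 7 n51050 = n30385 := d8_2 (iv7 F38873) D51050 (iv3 D30385)
def n51051 : Q := act 5 n24833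
theorem D51051 : act 5 n24833 = n51051 := rfl
theorem F80501 : act 2 n51051 = n30316 := d2_1 D51051 F48749 (iv2 F38872)
theorem F80502 : act 7 n51051 = n30315 := d13_2 (iv7 F38873) D51051 F48746
theorem F80503 : act 0 n51051 = n30152 := d17_2 (iv1 F38875) D51051 (iv5 D30152) (iv4 D14311) (iv5 D6834) (iv0 D3085) D3087 D6841 D14324
theorem F80504 : act 1 n51051 = n30160 := d17_6 (iv1 F45700) (iv5 D13488) F18104 D11768 D24833 D51051 (iv5 D30160) F48479 F48478
def n51052 : Q := act 0 n24834
theorem D51052 : act 0 n24834 = n51052 := rfl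
def n51053 : Q := act 1 n24834
theorem D51053 : act 1 n24834 = n51053 := rfl
def n51054 : Q := act 2 n24834
theorem D51054 : act 2 n24834 = n51054 := rfl
theorem F80505 : act 3 n51054 = n24919 := d0_2 D24834 D51054 (iv2 D24919) (iv3 D11826) (iv2 F19119)
def n51055 : Q := act 0 n24835
theorem D51055 : act 0 n24835 = n51055 := rfl
theorem F80506 : act 4 n51055 = n33131 := d20_2 (iv4 F38876) D51055 (iv3 D33131) (iv1 F54286) (iv3 F77559) F77560 F69408 (iv4 F68985) F68984 F65523
theorem F80507 : act 3 n51055 = n33129 := d20_5 F37639 (iv1 F18678) D11770 D24835 D51055 (iv4 D33129) F50586 (iv4 F37051) F37050 D24054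
theorem F80508 : act 2 n49682 = n51055 := d15_3 (iv0 D51055) (iv0 F65297) (iv7 F78489)
theorem F80509 : act 1 n26503 = n51055 := d15_0 (iv0 D51055) F38877 (iv2 F42417)
theorem F80510 : act 7 n51055 = n41565 := d15_2 (iv0 F65296) F80509 (iv2 F65293)
theorem F80511 : act 6 n33131 = n51055 := d14_5 F80510 (iv6 D41565) F31338 D22072 F55477
def n51056 : Q := act 0 n24836
theorem D51056 : act 0 n24836 = n51056 := rfl
theorem F80512 : act 4 n51056 = n26711 := d20_2 (iv4 F55492) D51056 F42816 (iv1 F27099) D16613 (iv4 F46757) F50648 F24935 (iv3 F24932) D32451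
theorem F80513 : act 2 n24840 = n51056 := d15_3 (iv0 D51056) (iv0 D24836) D24840
theorem F80514 : act 3 n51056 = n49683 := d0_2 (iv3 F38882) F80513 (iv2 F78493) F37990 (iv2 F19130)
theorem F80515 : act 6 n51056 = n28391 := d3_2 F51375 F80513 (iv2 F51372)
theorem F80516 : act 7 n51056 = n24838 := d4_2 D24840 F80513 (iv2 D24838)
theorem F80517 : act 1 n24837 = n51056 := d15_1 D24837 F80516 (iv2 D24838)
def n51057 : Q := act 3 n24836
theorem D51057 : act 3 n24836 = n51057 := rfl
theorem F80518 : act 2 n51057 = n49310 := d0_1 D51057 F77958 F78774 (iv3 F79125) F79122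
theorem F80519 : act 4 n51057 = n49308 := d5_2 (iv4 F55492) D51057 F77968 (iv4 F55489) (iv3 F55490)
theorem F80520 : act 7 n49315 = n51057 := d11_0 F80519 (iv7 F77953) D49315
def n51058 : Q := act 5 n24836
theorem D51058 : act 5 n24836 = n51058 := rfl
def n51059 : Q := act 7 n24836
theorem D51059 : act 7 n24836 = n51059 := rfl
theorem F80521 : act 2 n51059 = n24837 := d4_1 D51059 (iv7 F79123) F79122
theorem F80522 : act 3 n51059 = n49315 := d8_1 D51059 F80520 (iv3 D51057)
theorem F80523 : act 1 n24838 = n51059 := d15_1 (iv0 F79126) (iv7 D51059) (iv2 F79122)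
theorem F80524 : act 1 n51059 = n24840 := d15_1 F80523 (iv7 D24840) D24838
def n51060 : Q := act 5 n24837
theorem D51060 : act 5 n24837 = n51060 := rfl
def n51061 : Q := act 6 n24837
theorem D51061 : act 6 n24837 = n51061 := rfl
def n51062 : Q := act 5 n24838
theorem D51062 : act 5 n24838 = n51062 := rfl
theorem F80525 : act 2 n51062 = n24839 := d2_1 D51062 (iv5 D24839) D24838
theorem F80526 : act 3 n51062 = n49689 := d6_1 D51062 (iv5 D49689) (iv3 F38878)
def n51063 : Q := act 0 n24839
theorem D51063 : act 0 n24839 = n51063 := rfl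
theorem F80527 : act 5 n51063 = n33178 := d21_8 D16018 (iv1 F42109) (iv5 F41869) F50917 (iv1 D12762) (iv6 F19128) D24839 D51063 (iv6 D33178) (iv1 F25500)
def n51064 : Q := act 1 n24839
theorem D51064 : act 1 n24839 = n51064 := rfl
def n51065 : Q := act 4 n24839
theorem D51065 : act 4 n24839 = n51065 := rfl
def n51066 : Q := act 6 n24839
theorem D51066 : act 6 n24839 = n51066 := rfl
theorem F80528 : act 3 n51066 = n24842 := d7_1 D51066 (iv6 D24842) (iv3 F38881)
theorem F80529 : act 5 n51066 = n26707 := d12_1 D51066 (iv6 D26707) (iv5 D12764) (iv6 F19128) D24839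
def n51067 : Q := act 7 n24839
theorem D51067 : act 7 n24839 = n51067 := rfl
theorem F80530 : act 3 n51067 = n24843 := d8_1 D51067 (iv7 D24843) (iv3 F38881)
theorem F80531 : act 5 n51067 = n24840 := d13_1 D51067 (iv7 D24840) D24839
def n51068 : Q := act 3 n24841
theorem D51068 : act 3 n24841 = n51068 := rfl
theorem F80532 : act 5 n51068 = n49346 := d6_2 (iv5 F38885) D51068 F78015
theorem F80533 : act 7 n51068 = n49345 := d8_2 F38886 D51068 F78014
def n51069 : Q := act 6 n24841
theorem D51069 : act 6 n24841 = n51069 := rfl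
theorem F80534 : act 2 n51069 = n49695 := d3_1 D51069 (iv6 D49695) (iv2 F38884)
theorem F80535 : act 4 n51069 = n24842 := d10_1 D51069 (iv6 D24842) D24841
def n51070 : Q := act 0 n24842
theorem D51070 : act 0 n24842 = n51070 := rfl
def n51071 : Q := act 1 n24842
theorem D51071 : act 1 n24842 = n51071 := rfl
theorem F80536 : act 1 n51071 = n49698 := d15_1 D51071 (iv7 D49698) (iv2 F38887)
theorem F80537 : act 5 n48763 = n51071 := d21_6 (iv5 D7762) F5541 D5091 D11137 D23781 D48763 (iv1 D51071) F38888 (iv6 D12765) (iv1 F12067)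
def n51072 : Q := act 7 n24842
theorem D51072 : act 7 n24842 = n51072 := rfl
theorem F80538 : act 2 n51072 = n49698 := d4_1 D51072 (iv7 D49698) (iv2 F38887)
theorem F80539 : act 5 n51072 = n26710 := d13_1 D51072 (iv7 D26710) (iv5 F38888)
theorem F80540 : act 1 n49698 = n51070 := d15_0 (iv0 D51070) D51072 F80538
theorem F80541 : act 1 n49697 = n51072 := d15_1 D49697 (iv7 D51072) F38887
theorem F80542 : act 1 n51072 = n49696 := d15_0 (iv0 D49696) D49698 (iv2 F80538)
def n51073 : Q := act 6 n24843
theorem D51073 : act 6 n24843 = n51073 := rfl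
theorem F80543 : act 2 n51073 = n49699 := d3_1 D51073 (iv6 D49699) (iv2 F38889)
theorem F80544 : act 4 n51073 = n49347 := d10_1 D51073 (iv6 D49347) (iv4 F38890)
def n51074 : Q := act 0 n24844
theorem D51074 : act 0 n24844 = n51074 := rfl
theorem F80545 : act 5 n51074 = n50106 := d17_3 (iv1 F19471) D24844 D51074 F79323 F38342 (iv0 D14154) (iv5 D6734) D6733 (iv4 F18662)
theorem F80546 : act 4 n51074 = n24946 := d18_1 D51074 (iv1 F39122) F39080 F19227 F8462 F10987 D14151 (iv0 F23642) D24844
theorem F80547 : act 3 n51074 = n25317 := d20_5 D14352 (iv1 F48624) F48625 (iv3 F38895) D51074 F45716 (iv1 F53416) F53414 F26071 (iv1 F23911)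
theorem F80548 : act 2 n24863 = n51074 := d15_3 (iv0 D51074) (iv0 F38897) F38966
theorem F80549 : act 1 n24866 = n51074 := d15_0 (iv0 D51074) (iv7 F47949) F47947
theorem F80550 : act 7 n51074 = n24864 := d15_2 F38973 F80549 F38968
def n51075 : Q := act 4 n24845
theorem D51075 : act 4 n24845 = n51075 := rfl
theorem F80551 : act 2 n51075 = n29304 := d1_1 D51075 (iv4 D29304) (iv2 F38898)
theorem F80552 : act 5 n51075 = n29853 := d17_5 F37591 (iv5 D11778) D11776 D24845 D51075 (iv0 D29853) (iv5 D14183) D14181 (iv4 F37590)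
theorem F80553 : act 0 n51075 = n29801 := d18_2 (iv1 F46441) D51075 (iv4 D29801) F23679 F19498 (iv0 F24293) (iv4 F37743) F39708 (iv5 F46440)
theorem F80554 : act 1 n51075 = n29041 := d18_6 (iv1 D3031) (iv4 F3665) D5549 (iv4 F19464) D24845 D51075 (iv4 D29041) F23647 (iv5 D6744)
theorem F80555 : act 4 n34135 = n29853 := d16_2 D16528 D34135 (iv5 F80552) (iv4 D51075) (iv5 D24845) F19464 D11832 (iv7 F19238) F19237
def n51076 : Q := act 6 n24845
theorem D51076 : act 6 n24845 = n51076 := rfl
theorem F80556 : act 2 n51076 = n29305 := d3_1 D51076 (iv6 D29305) (iv2 F38898)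
def n51077 : Q := act 6 n24847
theorem D51077 : act 6 n24847 = n51077 := rfl
theorem F80557 : act 2 n51077 = n29331 := d3_1 D51077 (iv6 D29331) F38903
theorem F80558 : act 4 n51077 = n29844 := d10_1 D51077 (iv6 D29844) F46993
def n51078 : Q := act 3 n24848
theorem D51078 : act 3 n24848 = n51078 := rfl
theorem F80559 : act 4 n51078 = n28206 := d5_2 D24848 D51078 (iv3 D28206) (iv4 D13466) (iv3 F19137)
theorem F80560 : act 6 n51078 = n50064 := d7_2 (iv6 F38904) D51078 (iv3 D50064)
def n51079 : Q := act 5 n24848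
theorem D51079 : act 5 n24848 = n51079 := rfl
def n51080 : Q := act 6 n24849
theorem D51080 : act 6 n24849 = n51080 := rfl
theorem F80561 : act 3 n51080 = n28209 := d7_1 D51080 (iv6 D28209) (iv3 F38906)
theorem F80562 : act 5 n51080 = n51080 := d12_1 D51080 (iv6 D51080) F38907 F19140 (iv5 F38907)
theorem F80563 : act 7 n51080 = n50066 := d14_2 D24849 D51080 (iv6 D50066) (iv7 D24419) (iv6 F19138)
def n51081 : Q := act 7 n24850
theorem D51081 : act 7 n24850 = n51081 := rfl
theorem F80564 : act 2 n51081 = n28179 := d4_1 D51081 (iv7 D28179) (iv2 F38908)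
theorem F80565 : act 3 n51081 = n24857 := d8_1 D51081 (iv7 D24857) (iv3 F38909)
theorem F80566 : act 4 n51081 = n29861 := d11_1 D51081 F48225 F48221
theorem F80567 : act 5 n51081 = n24851 := d13_1 D51081 (iv7 D24851) D24850
theorem F80568 : act 1 n28177 = n51081 := d15_1 D28177 (iv7 D51081) F38908
theorem F80569 : act 1 n51081 = n28176 := d15_1 F80568 F45559 (iv2 F45565)
def n51082 : Q := act 4 n24852
theorem D51082 : act 4 n24852 = n51082 := rfl
theorem F80570 : act 2 n51082 = n34128 := d1_1 D51082 (iv4 D34128) (iv2 F38917)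
theorem F80571 : act 7 n51082 = n51075 := d11_2 (iv7 F38918) D51082 (iv4 D51075)
theorem F80572 : act 1 n51082 = n29547 := d18_6 (iv1 F10987) (iv4 F8462) (iv1 F8471) (iv4 F19510) D24852 D51082 (iv4 D29547) (iv0 F23646) (iv5 D14152)
def n51083 : Q := act 6 n24852
theorem D51083 : act 6 n24852 = n51083 := rfl
theorem F80573 : act 2 n51083 = n34129 := d3_1 D51083 (iv6 D34129) (iv2 F38917)
def n51084 : Q := act 6 n24855
theorem D51084 : act 6 n24855 = n51084 := rfl
theorem F80574 : act 2 n51084 = n49258 := d3_1 D51084 (iv6 D49258) (iv2 F38924)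
theorem F80575 : act 5 n51084 = n49374 := d12_1 D51084 (iv6 D49374) (iv5 D24096) D24097 F38923
def n51085 : Q := act 3 n24856
theorem D51085 : act 3 n24856 = n51085 := rfl
theorem F80576 : act 6 n51085 = n50109 := d7_2 (iv6 F38929) D51085 (iv3 D50109)
def n51086 : Q := act 5 n24856
theorem D51086 : act 5 n24856 = n51086 := rfl
theorem F80577 : act 2 n51086 = n51079 := d2_1 D51086 (iv5 D51079) (iv2 F38928)
theorem F80578 : act 0 n51086 = n29806 := d17_2 (iv1 F38931) D51086 (iv5 D29806) (iv4 D14163) (iv5 D6739) (iv0 D3030) D3032 D6747 D14178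
theorem F80579 : act 1 n51086 = n29819 := d17_6 (iv1 F46938) (iv5 D24852) (iv1 D11782) D11783 D24856 D51086 (iv5 D29819) F47966 F47965
def n51087 : Q := act 6 n24857
theorem D51087 : act 6 n24857 = n51087 := rfl
theorem F80580 : act 2 n51087 = n51080 := d3_1 D51087 (iv6 D51080) (iv2 F38932)
theorem F80581 : act 5 n51087 = n51087 := d12_1 D51087 (iv6 D51087) F38933 F19148 (iv5 F38933)
theorem F80582 : act 7 n51087 = n50112 := d14_2 D24857 D51087 (iv6 D50112) (iv7 D24441) (iv6 F19146)
def n51088 : Q := act 6 n24858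
theorem D51088 : act 6 n24858 = n51088 := rfl
theorem F80583 : act 2 n51088 = n24871 := d3_1 D51088 (iv6 D24871) (iv2 F38936)
theorem F80584 : act 5 n51088 = n29943 := d12_1 D51088 (iv6 D29943) (iv5 F38943) (iv6 D24859) D24858
def n51089 : Q := act 6 n24860
theorem D51089 : act 6 n24860 = n51089 := rfl
theorem F80585 : act 2 n51089 = n24881 := d3_1 D51089 (iv6 D24881) (iv2 F38955)
def n51090 : Q := act 3 n24861
theorem D51090 : act 3 n24861 = n51090 := rfl
theorem F80586 : act 4 n51090 = n30387 := d5_2 D24861 D51090 (iv3 D30387) (iv4 F38870) F38868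
theorem F80587 : act 7 n51090 = n30947 := d8_2 (iv7 F38963) D51090 (iv3 D30947)
def n51091 : Q := act 5 n24861
theorem D51091 : act 5 n24861 = n51091 := rfl
theorem F80588 : act 2 n51091 = n24887 := d2_1 D51091 (iv5 D24887) (iv2 F38947)
theorem F80589 : act 7 n51091 = n25032 := d13_2 (iv7 F38963) D51091 F39266
theorem F80590 : act 4 n51091 = n25034 := d16_2 D24861 D51091 F39269 F19570 F8493 (iv4 F8444) (iv5 F19180) (iv7 D11802) (iv2 F19159)
theorem F80591 : act 0 n51091 = n30666 := d17_2 (iv1 F38949) D51091 (iv5 D30666) (iv4 D14535) (iv5 D6948) F19355 D6724 (iv0 F19551) D12310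
theorem F80592 : act 1 n51091 = n25900 := d17_6 (iv1 F38939) (iv5 D13486) (iv1 F18106) D11786 D24861 D51091 (iv5 D25900) D25898 F40925
def n51092 : Q := act 6 n24862
theorem D51092 : act 6 n24862 = n51092 := rfl
theorem F80593 : act 2 n51092 = n24889 := d3_1 D51092 (iv6 D24889) (iv2 F38950)
theorem F80594 : act 4 n51092 = n30948 := d10_1 D51092 (iv6 D30948) F38962
theorem F80595 : act 5 n51092 = n51092 := d12_1 D51092 (iv6 D51092) F38951 F19162 (iv5 F38951)
def n51093 : Q := act 6 n24863
theorem D51093 : act 6 n24863 = n51093 := rfl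
theorem F80596 : act 3 n51093 = n49710 := d7_1 D51093 (iv6 D49710) F38965
theorem F80597 : act 5 n51093 = n50902 := d12_1 D51093 (iv6 D50902) (iv5 F39918) F39919 (iv5 F38964)
def n51094 : Q := act 6 n24864
theorem D51094 : act 6 n24864 = n51094 := rfl
theorem F80598 : act 2 n51094 = n49749 := d3_1 D51094 (iv6 D49749) (iv2 F38968)
theorem F80599 : act 5 n51094 = n50144 := d12_1 D51094 (iv6 D50144) (iv5 D24456) D24457 F38967
def n51095 : Q := act 3 n24865
theorem D51095 : act 3 n24865 = n51095 := rfl
theorem F80600 : act 4 n51095 = n24894 := d5_2 D24865 D51095 (iv3 D24894) (iv4 D11815) (iv3 F19165)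
theorem F80601 : act 6 n51095 = n24886 := d7_2 (iv6 F38969) D51095 (iv3 D24886)
def n51096 : Q := act 5 n24865
theorem D51096 : act 5 n24865 = n51096 := rfl
theorem F80602 : act 0 n51096 = n30522 := d17_2 F39112 D51096 (iv5 D30522) (iv4 D14482) (iv5 D6916) F10311 D5557 D11845 D24944
def n51097 : Q := act 6 n24866
theorem D51097 : act 6 n24866 = n51097 := rfl
theorem F80603 : act 3 n51097 = n24897 := d7_1 D51097 (iv6 D24897) (iv3 F38971)
theorem F80604 : act 5 n51097 = n51097 := d12_1 D51097 (iv6 D51097) F38972 F19169 (iv5 F38972)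
theorem F80605 : act 7 n51097 = n24889 := d14_2 D24866 D51097 (iv6 D24889) (iv7 D11802) (iv6 F19166)
def n51098 : Q := act 4 n24867
theorem D51098 : act 4 n24867 = n51098 := rfl
theorem F80606 : act 2 n51098 = n27956 := d1_1 D51098 (iv4 D27956) (iv2 F38974)
theorem F80607 : act 7 n51098 = n30887 := d11_2 F45735 D51098 F49345
theorem F80608 : act 5 n51098 = n25030 := d17_5 (iv1 F39260) (iv5 D14146) F19350 D24867 D51098 (iv0 D25030) (iv5 D11884) D11882 D25023
theorem F80609 : act 0 n51098 = n24970 := d18_2 (iv1 F39848) D51098 (iv4 D24970) F19286 (iv4 F24255) F24283 (iv4 F38285) (iv0 F39923) F39918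
theorem F80610 : act 1 n51098 = n24972 := d18_6 (iv1 D2311) (iv4 F3660) D5520 D11792 D24867 D51098 (iv4 D24972) F19289 (iv5 D5570)
def n51099 : Q := act 6 n24867
theorem D51099 : act 6 n24867 = n51099 := rfl
theorem F80611 : act 2 n51099 = n27957 := d3_1 D51099 (iv6 D27957) (iv2 F38974)
theorem F80612 : act 3 n51099 = n48790 := d7_1 D51099 (iv6 D48790) (iv3 F38975)
theorem F80613 : act 5 n51099 = n50108 := d12_1 D51099 (iv6 D50108) (iv5 F38980) (iv6 D24868) D24867
def n51100 : Q := act 6 n24869
theorem D51100 : act 6 n24869 = n51100 := rfl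
theorem F80614 : act 2 n51100 = n30845 := d3_1 D51100 F49303 F38989
theorem F80615 : act 4 n51100 = n30687 := d10_1 D51100 (iv6 D30687) F38991
theorem F80616 : act 5 n51100 = n30825 := d12_1 D51100 (iv6 D30825) (iv5 D14596) D14597 (iv5 F38988)
def n51101 : Q := act 3 n24870
theorem D51101 : act 3 n24870 = n51101 := rfl
def n51102 : Q := act 5 n24870
theorem D51102 : act 5 n24870 = n51102 := rfl
theorem F80617 : act 1 n51102 = n29774 := d17_6 (iv1 D11800) (iv5 D5522) D5520 D11793 D24870 D51102 (iv5 D29774) (iv0 F39012) (iv4 D24883)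
theorem F80618 : act 4 n25031 = n51102 := d18_7 F39011 (iv4 D24880) (iv1 F38958) (iv4 F38962) (iv5 F39266) (iv4 D25032) D25031 F80617 (iv5 D29774)
def n51103 : Q := act 6 n24870
theorem D51103 : act 6 n24870 = n51103 := rfl
theorem F80619 : act 4 n51103 = n24871 := d10_1 D51103 (iv6 D24871) D24870
def n51104 : Q := act 0 n24871
theorem D51104 : act 0 n24871 = n51104 := rfl
def n51105 : Q := act 1 n24871
theorem D51105 : act 1 n24871 = n51105 := rfl
def n51106 : Q := act 7 n24871
theorem D51106 : act 7 n24871 = n51106 := rfl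
def n51107 : Q := act 6 n24873
theorem D51107 : act 6 n24873 = n51107 := rfl
theorem F80620 : act 2 n51107 = n50248 := d3_1 D51107 (iv6 D50248) (iv2 F38996)
theorem F80621 : act 3 n51107 = n24878 := d7_1 D51107 (iv6 D24878) (iv3 F38997)
def n51108 : Q := act 4 n24875
theorem D51108 : act 4 n24875 = n51108 := rfl
theorem F80622 : act 2 n51108 = n30887 := d1_1 D51108 F49345 F45733
theorem F80623 : act 7 n51108 = n27956 := d11_2 (iv7 F39002) D51108 (iv4 D27956)
theorem F80624 : act 5 n51108 = n25031 := d16_1 D51108 F80618 (iv5 D51102) (iv4 D24870) (iv5 D11793) D11792 D24867 (iv7 F45735) F45733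
theorem F80625 : act 0 n51108 = n24972 := d18_2 (iv1 F39003) D51108 (iv4 D24972) (iv5 F19292) (iv4 F24281) F49255 F49250 (iv0 D24514) D24515
theorem F80626 : act 1 n51108 = n24970 := d18_6 (iv1 F8488) (iv4 F19161) (iv1 F19163) D11796 D24875 D51108 (iv4 D24970) (iv0 D11857) (iv5 D5565)
def n51109 : Q := act 6 n24875
theorem D51109 : act 6 n24875 = n51109 := rfl
theorem F80627 : act 3 n51109 = n27945 := d7_1 D51109 (iv6 D27945) (iv3 F39001)
theorem F80628 : act 5 n51109 = n31359 := d12_1 D51109 (iv6 D31359) F39006 (iv6 D24876) D24875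
def n51110 : Q := act 3 n24877
theorem D51110 : act 3 n24877 = n51110 := rfl
def n51111 : Q := act 5 n24877
theorem D51111 : act 5 n24877 = n51111 := rfl
theorem F80629 : act 4 n51111 = n25030 := d9_1 D51111 (iv5 F80608) (iv4 D51098) (iv5 D24867) (iv4 D11792) D11793 D24870 D51102 (iv4 F80618) (iv5 F80624) (iv4 D51108) (iv5 D24875) (iv4 D11796) D11797 D24877
theorem F80630 : act 0 n51111 = n29774 := d17_2 (iv1 F39008) D51111 (iv5 D29774) (iv4 D14147) (iv5 D6724) (iv0 F19356) D5835 F19426 D24524
def n51112 : Q := act 6 n24877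
theorem D51112 : act 6 n24877 = n51112 := rfl
theorem F80631 : act 4 n51112 = n24878 := d10_1 D51112 (iv6 D24878) D24877
def n51113 : Q := act 0 n24878
theorem D51113 : act 0 n24878 = n51113 := rfl
def n51114 : Q := act 1 n24878
theorem D51114 : act 1 n24878 = n51114 := rfl
theorem F80632 : act 6 n49733 = n51114 := d21_3 F38964 (iv1 F79335) F79332 (iv1 D51114) (iv6 D24878) (iv5 D11797) (iv1 D5521) D5522 (iv6 F19166) D24863
theorem F80633 : act 2 n51114 = n49667 := d3_1 F80632 F78458 F78595
def n51115 : Q := act 7 n24878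
theorem D51115 : act 7 n24878 = n51115 := rfl
theorem F80634 : act 1 n49667 = n51115 := d15_1 (iv0 F80457) (iv7 D51115) (iv2 F45751)
def n51116 : Q := act 3 n24880
theorem D51116 : act 3 n24880 = n51116 := rfl
def n51117 : Q := act 5 n24880
theorem D51117 : act 5 n24880 = n51117 := rfl
theorem F80635 : act 4 n51117 = n25024 := d16_2 D24880 D51117 (iv5 D25024) D25023 (iv5 F39253) F24275 F24274 (iv7 F38954) F38955
theorem F80636 : act 0 n51117 = n30681 := d17_2 F39011 D51117 (iv5 D30681) (iv4 D14543) (iv5 F19443) F24332 (iv5 D14649) F19552 D14147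
theorem F80637 : act 1 n51117 = n30673 := d17_6 F38938 (iv5 D14610) D14608 (iv5 F38959) D24880 D51117 (iv5 D30673) D30671 (iv4 F49130)
def n51118 : Q := act 6 n24880
theorem D51118 : act 6 n24880 = n51118 := rfl
theorem F80638 : act 4 n51118 = n24881 := d10_1 D51118 (iv6 D24881) D24880
def n51119 : Q := act 0 n24881
theorem D51119 : act 0 n24881 = n51119 := rfl
def n51120 : Q := act 1 n24881
theorem D51120 : act 1 n24881 = n51120 := rfl
def n51121 : Q := act 5 n24881
theorem D51121 : act 5 n24881 = n51121 := rfl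
theorem F80639 : act 3 n51121 = n28808 := d6_1 D51121 F46444 F45656
theorem F80640 : act 6 n51121 = n28806 := d12_2 D24881 D51121 F46440 F39706 (iv5 F38959)
theorem F80641 : act 0 n51121 = n50105 := d21_4 (iv5 F40230) (iv1 F40232) (iv5 F46440) (iv6 F80640) (iv6 D50105) (iv5 D24436) (iv1 D11534) D11535 (iv6 F19146) (iv1 F38927)
def n51122 : Q := act 7 n24881
theorem D51122 : act 7 n24881 = n51122 := rfl
def n51123 : Q := act 6 n24882
theorem D51123 : act 6 n24882 = n51123 := rfl
theorem F80642 : act 3 n51123 = n24884 := d7_1 D51123 (iv6 D24884) D24882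
def n51124 : Q := act 3 n24883
theorem D51124 : act 3 n24883 = n51124 := rfl
def n51125 : Q := act 5 n24883
theorem D51125 : act 5 n24883 = n51125 := rfl
theorem F80643 : act 4 n51125 = n25019 := d9_1 D51125 (iv5 D25019) D25018 (iv5 F49308) (iv4 D30847) (iv5 F38959) D24880 D51117 F80635 (iv5 D25024) D25023 (iv5 F39253) F24275 F24274 D24883
theorem F80644 : act 0 n51125 = n30673 := d17_2 F40905 D51125 (iv5 D30673) (iv4 D14540) F19438 F19440 (iv5 F11916) (iv0 F20385) D25892
theorem F80645 : act 1 n51125 = n30681 := d17_6 D28248 (iv5 F49258) (iv1 F49259) F24274 D24883 D51125 (iv5 D30681) (iv0 F45750) (iv4 D28249)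
def n51126 : Q := act 6 n24883
theorem D51126 : act 6 n24883 = n51126 := rfl
theorem F80646 : act 4 n51126 = n24884 := d10_1 D51126 (iv6 D24884) D24883
def n51127 : Q := act 0 n24884
theorem D51127 : act 0 n24884 = n51127 := rfl
def n51128 : Q := act 1 n24884
theorem D51128 : act 1 n24884 = n51128 := rfl
def n51129 : Q := act 5 n24884
theorem D51129 : act 5 n24884 = n51129 := rfl
theorem F80647 : act 2 n51129 = n29935 := d2_1 D51129 F48122 F45777
theorem F80648 : act 6 n51129 = n28733 := d12_2 D24884 D51129 (iv5 D28733) (iv6 F24276) F24274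
def n51130 : Q := act 7 n24884
theorem D51130 : act 7 n24884 = n51130 := rfl
def n51131 : Q := act 3 n24885
theorem D51131 : act 3 n24885 = n51131 := rfl
theorem F80649 : act 4 n51131 = n31040 := d5_2 (iv4 F39015) D51131 (iv3 D31040) (iv4 D14685) (iv3 F20429)
theorem F80650 : act 7 n51131 = n30941 := d8_2 (iv7 F39014) D51131 (iv3 D30941)
def n51132 : Q := act 5 n24885
theorem D51132 : act 5 n24885 = n51132 := rfl
theorem F80651 : act 2 n51132 = n25949 := d2_1 D51132 (iv5 D25949) F39016
theorem F80652 : act 4 n51132 = n25001 := d9_1 D51132 (iv5 D25001) (iv4 D11875) (iv5 F19279) F11493 (iv5 D7001) D7000 D14653 (iv4 F39245) (iv5 D25010) (iv4 D11878) (iv5 F24206) F24205 (iv5 F20430) (iv4 F39015)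
theorem F80653 : act 7 n51132 = n30942 := d13_2 (iv7 F39014) D51132 (iv5 D30942)
theorem F80654 : act 0 n51132 = n30955 := d17_2 (iv1 F39013) D51132 F49391 F40925 (iv5 D14610) D14609 F24274 F38953 (iv4 F38962)
theorem F80655 : act 1 n51132 = n30954 := d17_6 D12291 (iv5 F24337) (iv1 F24339) (iv5 F20430) (iv4 F39015) D51132 F49386 (iv0 D25897) (iv4 D12292)
def n51133 : Q := act 6 n24885
theorem D51133 : act 6 n24885 = n51133 := rfl
theorem F80656 : act 2 n51133 = n25950 := d3_1 D51133 (iv6 D25950) F39016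
theorem F80657 : act 4 n51133 = n25947 := d10_1 D51133 (iv6 D25947) (iv4 F39015)
def n51134 : Q := act 0 n24886
theorem D51134 : act 0 n24886 = n51134 := rfl
def n51135 : Q := act 1 n24886
theorem D51135 : act 1 n24886 = n51135 := rfl
def n51136 : Q := act 2 n24886
theorem D51136 : act 2 n24886 = n51136 := rfl
theorem F80658 : act 4 n51136 = n24919 := d1_2 (iv4 F39017) D51136 (iv2 D24919)
def n51137 : Q := act 5 n24886
theorem D51137 : act 5 n24886 = n51137 := rfl
theorem F80659 : act 3 n51137 = n24887 := d6_1 D51137 (iv5 D24887) D24886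
def n51138 : Q := act 7 n24886
theorem D51138 : act 7 n24886 = n51138 := rfl
theorem F80660 : act 3 n51138 = n24888 := d8_1 D51138 (iv7 D24888) D24886
theorem F80661 : act 4 n51138 = n24921 := d11_1 D51138 (iv7 D24921) (iv4 F39017)
def n51139 : Q := act 1 n24887
theorem D51139 : act 1 n24887 = n51139 := rfl
theorem F80662 : act 1 n51139 = n25032 := d15_1 D51139 (iv7 F80589) F80588
theorem F80663 : act 7 n51139 = n30666 := d15_2 (iv0 F39018) D51139 F49118
theorem F80664 : act 5 n51139 = n24990 := d17_7 (iv1 F38990) (iv5 D11797) (iv1 D5521) D5522 D11801 D24887 D51139 F39219 F38991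
theorem F80665 : act 2 n25900 = n51139 := d2_3 F80664 F39216 D25900
theorem F80666 : act 4 n24977 = n51139 := d9_15 F80664 (iv4 D24990) (iv5 D11868) (iv4 D5569) D5570 D11870 D24993 F39223 (iv5 D14548) (iv4 D6952) (iv5 D3135) F9978 D5565 D11859 D24977
def n51140 : Q := act 4 n24887
theorem D51140 : act 4 n24887 = n51140 := rfl
theorem F80667 : act 2 n51140 = n25034 := d1_1 D51140 (iv4 F80590) F80588
theorem F80668 : act 5 n51140 = n24968 := d9_2 D24887 D51140 F39172 F19275 (iv4 F19161) (iv5 F38951) (iv4 F38962) (iv5 F39266) (iv4 D25032) (iv5 D11884) (iv4 D5574) (iv5 D2312) (iv4 F3660) D5522 D11801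
theorem F80669 : act 0 n51140 = n25031 := d18_2 (iv1 D51139) D51140 F80618 (iv5 D51102) (iv4 D24870) F38940 F24576 (iv0 F39218) (iv5 F80664)
theorem F80670 : act 1 n51140 = n25030 := d18_8 F80609 (iv4 D24970) (iv1 F19287) D11870 D24993 F39223 (iv0 F39018) D51140 (iv5 F80608)
theorem F80671 : act 7 n51140 = n24967 := d15_2 D25031 (iv0 F80669) F39170
def n51141 : Q := act 6 n24887
theorem D51141 : act 6 n24887 = n51141 := rfl
def n51142 : Q := act 7 n24887
theorem D51142 : act 7 n24887 = n51142 := rfl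
theorem F80672 : act 2 n51142 = n25032 := d4_1 D51142 (iv7 F80589) F80588
theorem F80673 : act 4 n51142 = n24967 := d11_1 D51142 (iv7 F80671) (iv4 D51140)
theorem F80674 : act 5 n51142 = n24888 := d13_1 D51142 (iv7 D24888) D24887
theorem F80675 : act 1 n25900 = n51142 := d15_1 F80592 (iv7 D51142) (iv2 F80588)
theorem F80676 : act 1 n51142 = n30666 := d15_1 F80675 (iv7 F80663) (iv2 F80665)
def n51143 : Q := act 6 n24888
theorem D51143 : act 6 n24888 = n51143 := rfl
theorem F80677 : act 2 n51143 = n30948 := d3_1 D51143 (iv6 D30948) (iv2 F39019)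
theorem F80678 : act 4 n51143 = n24889 := d10_1 D51143 (iv6 D24889) (iv4 F39020)
def n51144 : Q := act 0 n24889
theorem D51144 : act 0 n24889 = n51144 := rfl
def n51145 : Q := act 1 n24889
theorem D51145 : act 1 n24889 = n51145 := rfl
def n51146 : Q := act 3 n24890
theorem D51146 : act 3 n24890 = n51146 := rfl
def n51147 : Q := act 5 n24890
theorem D51147 : act 5 n24890 = n51147 := rfl
theorem F80679 : act 2 n51147 = n34239 := d2_1 D51147 (iv5 D34239) (iv2 F39025)
theorem F80680 : act 7 n51147 = n49444 := d13_2 F45115 D51147 F78170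
theorem F80681 : act 4 n51147 = n49972 := d16_2 D24890 D51147 (iv5 D49972) (iv4 D24366) (iv5 D11486) F8126 D11486 F18772 (iv2 F19526)
theorem F80682 : act 0 n51147 = n49447 := d17_2 (iv1 F79036) D51147 F78176 F37813 F18501 F18289 D23988 F53442 (iv4 F79035)
theorem F80683 : act 1 n51147 = n49166 := d17_6 F19422 (iv5 D5526) D5524 D11806 D24890 D51147 (iv5 D49166) F37489 (iv4 D14807)
def n51148 : Q := act 6 n24890
theorem D51148 : act 6 n24890 = n51148 := rfl
theorem F80684 : act 2 n51148 = n34240 := d3_1 D51148 (iv6 D34240) (iv2 F39025)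
theorem F80685 : act 4 n51148 = n24891 := d10_1 D51148 (iv6 D24891) D24890
def n51149 : Q := act 0 n24891
theorem D51149 : act 0 n24891 = n51149 := rfl
theorem F80686 : act 6 n51149 = n24900 := d21_5 (iv5 D5526) D5524 D11806 D24891 D51149 F39040 (iv1 D14797) D14798 F24447 F19422
theorem F80687 : act 5 n51149 = n49960 := d21_0 (iv1 D49960) F38179 (iv6 D11825) (iv1 D5538) (iv6 F8446) (iv5 D5526) D5524 D11806 D24891 D51149
def n51150 : Q := act 1 n24891
theorem D51150 : act 1 n24891 = n51150 := rfl
theorem F80688 : act 1 n51150 = n34243 := d15_1 D51150 (iv7 D34243) (iv2 F39026)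
theorem F80689 : act 5 n31395 = n51150 := d21_0 (iv1 D51150) (iv5 F45823) (iv6 D28312) (iv1 F22662) F10582 (iv5 D5687) (iv1 F10285) D11479 D24360 F49659
def n51151 : Q := act 7 n24891
theorem D51151 : act 7 n24891 = n51151 := rfl
theorem F80690 : act 2 n51151 = n34243 := d4_1 D51151 (iv7 D34243) (iv2 F39026)
theorem F80691 : act 6 n51151 = n49628 := d14_1 D51151 F78388 (iv6 D27932) F22142 D24891
theorem F80692 : act 1 n34243 = n51149 := d15_0 (iv0 D51149) D51151 F80690
theorem F80693 : act 1 n34242 = n51151 := d15_1 D34242 (iv7 D51151) F39026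
theorem F80694 : act 1 n51151 = n34241 := d15_0 (iv0 D34241) D34243 (iv2 F80690)
def n51152 : Q := act 3 n24892
theorem D51152 : act 3 n24892 = n51152 := rfl
theorem F80695 : act 7 n51152 = n49436 := d8_2 (iv7 F39028) D51152 (iv3 D49436)
def n51153 : Q := act 5 n24892
theorem D51153 : act 5 n24892 = n51153 := rfl
theorem F80696 : act 2 n51153 = n49434 := d2_1 D51153 (iv5 D49434) (iv2 F39027)
theorem F80697 : act 7 n51153 = n49437 := d13_2 (iv7 F39028) D51153 (iv5 D49437)
theorem F80698 : act 4 n51153 = n31410 := d16_2 D24892 D51153 (iv5 D31410) (iv4 D14807) (iv5 D7055) F5176 D7055 (iv7 F18667) F19423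
def n51154 : Q := act 6 n24892
theorem D51154 : act 6 n24892 = n51154 := rfl
theorem F80699 : act 2 n51154 = n49435 := d3_1 D51154 (iv6 D49435) (iv2 F39027)
theorem F80700 : act 4 n51154 = n24893 := d10_1 D51154 (iv6 D24893) D24892
def n51155 : Q := act 0 n24893
theorem D51155 : act 0 n24893 = n51155 := rfl
def n51156 : Q := act 1 n24893
theorem D51156 : act 1 n24893 = n51156 := rfl
theorem F80701 : act 1 n51156 = n49777 := d15_1 D51156 (iv7 D49777) (iv2 F39031)
def n51157 : Q := act 7 n24893
theorem D51157 : act 7 n24893 = n51157 := rfl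
theorem F80702 : act 2 n51157 = n49777 := d4_1 D51157 (iv7 D49777) (iv2 F39031)
theorem F80703 : act 5 n51157 = n28382 := d13_1 D51157 F45883 (iv5 F40268)
theorem F80704 : act 1 n49777 = n51155 := d15_0 (iv0 D51155) D51157 F80702
theorem F80705 : act 1 n49776 = n51157 := d15_1 D49776 (iv7 D51157) F39031
theorem F80706 : act 1 n51157 = n49775 := d15_0 (iv0 D49775) D49777 (iv2 F80702)
def n51158 : Q := act 0 n24894
theorem D51158 : act 0 n24894 = n51158 := rfl
def n51159 : Q := act 1 n24894
theorem D51159 : act 1 n24894 = n51159 := rfl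
def n51160 : Q := act 2 n24894
theorem D51160 : act 2 n24894 = n51160 := rfl
theorem F80707 : act 6 n51160 = n24919 := d3_2 (iv6 F39032) D51160 (iv2 D24919)
def n51161 : Q := act 5 n24894
theorem D51161 : act 5 n24894 = n51161 := rfl
theorem F80708 : act 3 n51161 = n24895 := d6_1 D51161 (iv5 D24895) D24894
def n51162 : Q := act 7 n24894
theorem D51162 : act 7 n24894 = n51162 := rfl
theorem F80709 : act 3 n51162 = n24896 := d8_1 D51162 (iv7 D24896) D24894
def n51163 : Q := act 6 n24895
theorem D51163 : act 6 n24895 = n51163 := rfl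
theorem F80710 : act 5 n51163 = n24922 := d12_1 D51163 (iv6 D24922) (iv5 D11827) (iv6 F19183) D24895
def n51164 : Q := act 6 n24896
theorem D51164 : act 6 n24896 = n51164 := rfl
theorem F80711 : act 4 n51164 = n24897 := d10_1 D51164 (iv6 D24897) (iv4 F39033)
theorem F80712 : act 7 n51164 = n24923 := d14_2 D24896 D51164 (iv6 D24923) (iv7 D11828) (iv6 F19183)
def n51165 : Q := act 0 n24898
theorem D51165 : act 0 n24898 = n51165 := rfl
theorem F80713 : act 1 n49659 = n51165 := d15_0 (iv0 D51165) F39037 D49659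
def n51166 : Q := act 1 n24898
theorem D51166 : act 1 n24898 = n51166 := rfl
def n51167 : Q := act 2 n24898
theorem D51167 : act 2 n24898 = n51167 := rfl
theorem F80714 : act 3 n51167 = n49632 := d0_2 D24898 D51167 (iv2 D49632) (iv3 D24203) (iv2 F19185)
theorem F80715 : act 5 n51167 = n31172 := d2_2 (iv5 F39036) D51167 F49514
theorem F80716 : act 7 n51167 = n49659 := d4_2 (iv7 F39037) D51167 (iv2 D49659)
theorem F80717 : act 1 n51167 = n49657 := d15_0 (iv0 D49657) (iv7 F39037) D51167
theorem F80718 : act 1 n51166 = n49659 := d15_1 D51166 (iv7 F80716) (iv2 D51167)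
theorem F80719 : act 1 n49658 = n51167 := d15_1 D49658 F80716 (iv2 D49659)
def n51168 : Q := act 6 n24898
theorem D51168 : act 6 n24898 = n51168 := rfl
theorem F80720 : act 3 n51168 = n24899 := d7_1 D51168 (iv6 D24899) D24898
def n51169 : Q := act 0 n24899
theorem D51169 : act 0 n24899 = n51169 := rfl
def n51170 : Q := act 1 n24899
theorem D51170 : act 1 n24899 = n51170 := rfl
theorem F80721 : act 1 n51170 = n49637 := d15_1 D51170 (iv7 D49637) (iv2 F39038)
def n51171 : Q := act 5 n24899
theorem D51171 : act 5 n24899 = n51171 := rfl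
theorem F80722 : act 2 n51171 = n49636 := d2_1 D51171 (iv5 D49636) (iv2 F39038)
def n51172 : Q := act 7 n24899
theorem D51172 : act 7 n24899 = n51172 := rfl
theorem F80723 : act 2 n51172 = n49637 := d4_1 D51172 (iv7 D49637) (iv2 F39038)
theorem F80724 : act 4 n51172 = n24903 := d11_1 D51172 (iv7 D24903) (iv4 F39039)
theorem F80725 : act 6 n51172 = n49662 := d14_1 D51172 (iv7 D49662) (iv6 D24218) (iv7 F19186) D24899
theorem F80726 : act 1 n49637 = n51169 := d15_0 (iv0 D51169) D51172 F80723
theorem F80727 : act 1 n49635 = n51172 := d15_1 D49635 (iv7 D51172) F39038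
theorem F80728 : act 1 n51172 = n49634 := d15_0 (iv0 D49634) D49637 (iv2 F80723)
def n51173 : Q := act 2 n24900
theorem D51173 : act 2 n24900 = n51173 := rfl
theorem F80729 : act 5 n51173 = n31396 := d2_2 (iv5 F39040) D51173 F49660
theorem F80730 : act 7 n24901 = n51173 := d15_2 (iv0 D24900) D24901 (iv2 D51173)
def n51174 : Q := act 3 n24900
theorem D51174 : act 3 n24900 = n51174 := rfl
theorem F80731 : act 5 n51174 = n31397 := d6_2 (iv5 F39040) D51174 (iv3 D31397)
def n51175 : Q := act 4 n24900
theorem D51175 : act 4 n24900 = n51175 := rfl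
def n51176 : Q := act 7 n24900
theorem D51176 : act 7 n24900 = n51176 := rfl
theorem F80732 : act 2 n51176 = n24901 := d4_1 D51176 F80730 (iv2 D51173)
theorem F80733 : act 5 n51176 = n31392 := d13_1 D51176 (iv7 F49658) (iv5 F39040)
def n51177 : Q := act 3 n24901
theorem D51177 : act 3 n24901 = n51177 := rfl
theorem F80734 : act 5 n51177 = n31393 := d6_2 F39044 D51177 (iv3 D31393)
theorem F80735 : act 4 n51177 = n30698 := d20_6 D14588 F53790 F41159 (iv3 F37932) (iv1 F39041) D51177 (iv1 D30698) F24191 F11217 D6968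
def n51178 : Q := act 4 n24901
theorem D51178 : act 4 n24901 = n51178 := rfl
def n51179 : Q := act 6 n24901
theorem D51179 : act 6 n24901 = n51179 := rfl
def n51180 : Q := act 0 n24902
theorem D51180 : act 0 n24902 = n51180 := rfl
def n51181 : Q := act 1 n24902
theorem D51181 : act 1 n24902 = n51181 := rfl
theorem F80736 : act 1 n51181 = n49648 := d15_1 D51181 (iv7 D49648) (iv2 F39042)
def n51182 : Q := act 4 n24902
theorem D51182 : act 4 n24902 = n51182 := rfl
theorem F80737 : act 2 n51182 = n49647 := d1_1 D51182 (iv4 D49647) (iv2 F39042)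
theorem F80738 : act 6 n51182 = n24904 := d10_2 (iv6 F39043) D51182 (iv4 D24904)
def n51183 : Q := act 7 n24902
theorem D51183 : act 7 n24902 = n51183 := rfl
theorem F80739 : act 2 n51183 = n49648 := d4_1 D51183 (iv7 D49648) (iv2 F39042)
theorem F80740 : act 5 n51183 = n24903 := d13_1 D51183 (iv7 D24903) D24902
theorem F80741 : act 1 n49648 = n51180 := d15_0 (iv0 D51180) D51183 F80739
theorem F80742 : act 1 n49646 = n51183 := d15_1 D49646 (iv7 D51183) F39042
theorem F80743 : act 1 n51183 = n49645 := d15_0 (iv0 D49645) D49648 (iv2 F80739)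
theorem F80744 : act 5 n31400 = n49645 := d21_0 (iv1 F80743) F80740 F39046 (iv1 F37970) (iv6 F24592) (iv5 D14805) (iv1 D7054) D7055 (iv6 F24447) D31400
def n51184 : Q := act 3 n24904
theorem D51184 : act 3 n24904 = n51184 := rfl
theorem F80745 : act 4 n51184 = n49436 := d5_2 D24904 D51184 (iv3 D49436) F37810 F22149
def n51185 : Q := act 5 n24904
theorem D51185 : act 5 n24904 = n51185 := rfl
theorem F80746 : act 2 n51185 = n49650 := d2_1 D51185 (iv5 D49650) (iv2 F39050)
theorem F80747 : act 4 n51185 = n25331 := d9_1 D51185 (iv5 D25331) F19906 F10751 (iv4 F18565) (iv5 F18778) D24370 D49979 F79062 (iv5 D25334) F19912 (iv5 F10425) (iv4 F10140) D11819 D24904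
theorem F80748 : act 7 n51185 = n49651 := d13_2 F39944 D51185 F78418
def n51186 : Q := act 3 n24905
theorem D51186 : act 3 n24905 = n51186 := rfl
theorem F80749 : act 4 n51186 = n24907 := d5_2 D24905 D51186 (iv3 D24907) (iv4 D11822) D11821
theorem F80750 : act 7 n51186 = n49579 := d8_2 F45819 D51186 F78327
def n51187 : Q := act 5 n24905
theorem D51187 : act 5 n24905 = n51187 := rfl
theorem F80751 : act 2 n51187 = n48845 := d2_1 D51187 (iv5 D48845) (iv2 F39052)
theorem F80752 : act 4 n51187 = n28314 := d16_2 D24905 D51187 (iv5 D28314) (iv4 D13513) F11970 F11969 (iv5 F11970) (iv7 F18118) (iv2 F19195)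
theorem F80753 : act 0 n51187 = n31377 := d17_2 F40077 D51187 (iv5 D31377) (iv4 F40913) F40911 F40135 F40129 (iv0 D25354) D25355
theorem F80754 : act 1 n51187 = n31374 := d17_6 D7049 F22179 (iv1 F24654) F24652 D24905 D51187 (iv5 D31374) (iv0 D14791) (iv4 D7051)
theorem F80755 : act 0 n31378 = n34259 := d21_4 D51187 F80753 (iv5 D31377) D31378 (iv6 D34259) D34258 F53916 (iv5 D25358) (iv6 F40076) F40077
def n51188 : Q := act 6 n24905
theorem D51188 : act 6 n24905 = n51188 := rfl
theorem F80756 : act 2 n51188 = n48846 := d3_1 D51188 (iv6 D48846) (iv2 F39052)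
theorem F80757 : act 4 n51188 = n24906 := d10_1 D51188 (iv6 D24906) D24905
def n51189 : Q := act 0 n24906
theorem D51189 : act 0 n24906 = n51189 := rfl
def n51190 : Q := act 1 n24906
theorem D51190 : act 1 n24906 = n51190 := rfl
theorem F80758 : act 1 n51190 = n48849 := d15_1 D51190 (iv7 D48849) (iv2 F39053)
def n51191 : Q := act 7 n24906
theorem D51191 : act 7 n24906 = n51191 := rfl
theorem F80759 : act 2 n51191 = n48849 := d4_1 D51191 (iv7 D48849) (iv2 F39053)
theorem F80760 : act 3 n51191 = n24912 := d8_1 D51191 (iv7 D24912) (iv3 F39054)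
theorem F80761 : act 5 n51191 = n49248 := d13_1 D51191 F77799 F46982
theorem F80762 : act 1 n48849 = n51189 := d15_0 (iv0 D51189) D51191 F80759
theorem F80763 : act 1 n48848 = n51191 := d15_1 D48848 (iv7 D51191) F39053
theorem F80764 : act 1 n51191 = n48847 := d15_0 (iv0 D48847) D48849 (iv2 F80759)
def n51192 : Q := act 0 n24907
theorem D51192 : act 0 n24907 = n51192 := rfl
theorem F80765 : act 1 n49578 = n51192 := d15_0 (iv0 D51192) F39056 D49578
def n51193 : Q := act 1 n24907
theorem D51193 : act 1 n24907 = n51193 := rfl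
def n51194 : Q := act 2 n24907
theorem D51194 : act 2 n24907 = n51194 := rfl
theorem F80766 : act 3 n51194 = n49570 := d0_2 D24907 D51194 (iv2 D49570) (iv3 D24185) (iv2 F19196)
theorem F80767 : act 5 n51194 = n31731 := d2_2 (iv5 F39055) D51194 (iv2 D31731)
theorem F80768 : act 7 n51194 = n49578 := d4_2 (iv7 F39056) D51194 (iv2 D49578)
theorem F80769 : act 1 n51194 = n49576 := d15_0 (iv0 D49576) (iv7 F39056) D51194
theorem F80770 : act 1 n51193 = n49578 := d15_1 D51193 (iv7 F80768) (iv2 D51194)
theorem F80771 : act 1 n49577 = n51194 := d15_1 D49577 F80768 (iv2 D49578)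
def n51195 : Q := act 6 n24907
theorem D51195 : act 6 n24907 = n51195 := rfl
theorem F80772 : act 3 n51195 = n24908 := d7_1 D51195 (iv6 D24908) D24907
def n51196 : Q := act 0 n24908
theorem D51196 : act 0 n24908 = n51196 := rfl
def n51197 : Q := act 1 n24908
theorem D51197 : act 1 n24908 = n51197 := rfl
theorem F80773 : act 1 n51197 = n49575 := d15_1 D51197 (iv7 D49575) (iv2 F39057)
def n51198 : Q := act 5 n24908
theorem D51198 : act 5 n24908 = n51198 := rfl
theorem F80774 : act 2 n51198 = n49574 := d2_1 D51198 (iv5 D49574) (iv2 F39057)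
theorem F80775 : act 6 n51198 = n31735 := d12_2 D24908 D51198 (iv5 D31735) (iv6 D14928) (iv5 F19198)
def n51199 : Q := act 7 n24908
theorem D51199 : act 7 n24908 = n51199 := rfl
theorem F80776 : act 2 n51199 = n49575 := d4_1 D51199 (iv7 D49575) (iv2 F39057)
theorem F80777 : act 4 n51199 = n24912 := d11_1 D51199 (iv7 D24912) (iv4 F39058)
theorem F80778 : act 6 n51199 = n49584 := d14_1 D51199 (iv7 D49584) (iv6 D24188) (iv7 F19197) D24908
theorem F80779 : act 1 n49575 = n51196 := d15_0 (iv0 D51196) D51199 F80776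
theorem F80780 : act 1 n49573 = n51199 := d15_1 D49573 (iv7 D51199) F39057
theorem F80781 : act 1 n51199 = n49572 := d15_0 (iv0 D49572) D49575 (iv2 F80776)
def n51200 : Q := act 2 n24909
theorem D51200 : act 2 n24909 = n51200 := rfl
theorem F80782 : act 7 n24910 = n51200 := d15_2 (iv0 D24909) D24910 (iv2 D51200)
def n51201 : Q := act 3 n24909
theorem D51201 : act 3 n24909 = n51201 := rfl
def n51202 : Q := act 4 n24909
theorem D51202 : act 4 n24909 = n51202 := rfl
def n51203 : Q := act 5 n24909
theorem D51203 : act 5 n24909 = n51203 := rfl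
def n51204 : Q := act 6 n24909
theorem D51204 : act 6 n24909 = n51204 := rfl
theorem F80783 : act 5 n51204 = n49646 := d21_6 F18551 (iv1 F18308) F18307 D11823 D24909 D51204 (iv1 D49646) (iv5 D24207) (iv6 D11369) D11366
def n51205 : Q := act 7 n24909
theorem D51205 : act 7 n24909 = n51205 := rfl
theorem F80784 : act 2 n51205 = n24910 := d4_1 D51205 F80782 (iv2 D51200)
def n51206 : Q := act 3 n24910
theorem D51206 : act 3 n24910 = n51206 := rfl
theorem F80785 : act 4 n51206 = n30958 := d20_6 D14676 F47160 F41059 (iv3 F45809) (iv1 F45812) D51206 (iv1 D30958) F24335 F11262 D7007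
def n51207 : Q := act 4 n24910
theorem D51207 : act 4 n24910 = n51207 := rfl
def n51208 : Q := act 5 n24910
theorem D51208 : act 5 n24910 = n51208 := rfl
theorem F80786 : act 6 n29360 = n51208 := d21_5 (iv5 D11276) (iv1 F7760) (iv5 F10759) D13966 D29360 (iv5 D51208) (iv1 D24910) D24911 F39059 (iv1 D24030)
theorem E8221 : n28877 = n28765 := ((c21_11 F46516 (iv1 F45812) D51208 (iv6 F80786) (iv1 F47018) (iv6 D28732) F22864 (iv1 F10597) D6530 D13717 D28765)).symm
theorem F80787 : act 3 n28765 = n13763 := (sb E8221 (iv3 D28877))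
theorem F80788 : act 5 n28765 = n28300 := (sb E8221 F46516)
theorem F80789 : act 7 n28765 = n28299 := (sb E8221 F46517)
def n51209 : Q := act 6 n24910
theorem D51209 : act 6 n24910 = n51209 := rfl
def n51210 : Q := act 1 n24911
theorem D51210 : act 1 n24911 = n51210 := rfl
theorem F80790 : act 1 n51210 = n28765 := d15_1 D51210 F80789 F45805
theorem F80791 : act 7 n51210 = n28724 := d15_2 (iv0 F39060) D51210 F46335
theorem F80792 : act 5 n31739 = n51210 := d21_6 (iv5 D7107) (iv1 D3265) D3267 D7111 D14929 D31739 (iv1 D51210) (iv5 D24911) (iv6 D11823) (iv1 F11420)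
theorem F80793 : act 2 n51210 = n28767 := d2_1 F80792 (iv5 F78456) F78454
theorem F80794 : act 6 n28752 = n51210 := d14_5 F80791 (iv6 D28724) F22942 D13711 D28752
def n51211 : Q := act 4 n24911
theorem D51211 : act 4 n24911 = n51211 := rfl
theorem F80795 : act 6 n51211 = n49238 := d10_2 (iv6 F39059) D51211 (iv4 D49238)
def n51212 : Q := act 7 n24911
theorem D51212 : act 7 n24911 = n51212 := rfl
theorem F80796 : act 2 n51212 = n28765 := d4_1 D51212 F80789 F45805
theorem F80797 : act 3 n51212 = n49248 := d8_1 D51212 F77799 F46981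
theorem F80798 : act 5 n51212 = n24912 := d13_1 D51212 (iv7 D24912) D24911
theorem F80799 : act 1 n28767 = n51212 := d15_1 F46405 (iv7 D51212) (iv2 F45805)
theorem F80800 : act 1 n51212 = n28724 := d15_1 F80799 (iv7 F80791) F80793
theorem F80801 : act 5 n24915 = n28317 := d21_0 (iv1 D28317) (iv5 F26238) (iv6 D16567) F24454 D31406 F49671 (iv1 F80800) F80798 (iv6 F78478) (iv1 F78480)
theorem F80802 : act 6 n51155 = n24915 := d21_5 (iv5 D14802) F24436 F24433 D24893 D51155 F80801 (iv1 D28317) (iv5 F26238) (iv6 D16567) F24454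
def n51213 : Q := act 0 n24913
theorem D51213 : act 0 n24913 = n51213 := rfl
def n51214 : Q := act 1 n24913
theorem D51214 : act 1 n24913 = n51214 := rfl
theorem F80803 : act 1 n51214 = n49584 := d15_1 D51214 (iv7 D49584) (iv2 F39061)
def n51215 : Q := act 5 n24913
theorem D51215 : act 5 n24913 = n51215 := rfl
theorem F80804 : act 2 n51215 = n49583 := d2_1 D51215 (iv5 D49583) (iv2 F39061)
theorem F80805 : act 6 n51215 = n51171 := d12_2 D24913 D51215 (iv5 D51171) (iv6 D24899) (iv5 F19202)
def n51216 : Q := act 7 n24913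
theorem D51216 : act 7 n24913 = n51216 := rfl
theorem F80806 : act 2 n51216 = n49584 := d4_1 D51216 (iv7 D49584) (iv2 F39061)
theorem F80807 : act 4 n51216 = n24916 := d11_1 D51216 (iv7 D24916) (iv4 F39062)
theorem F80808 : act 6 n51216 = n49575 := d14_1 D51216 (iv7 D49575) (iv6 D24186) (iv7 F19203) D24913
theorem F80809 : act 1 n49584 = n51213 := d15_0 (iv0 D51213) D51216 F80806
theorem F80810 : act 1 n49582 = n51216 := d15_1 D49582 (iv7 D51216) F39061
theorem F80811 : act 1 n51216 = n49581 := d15_0 (iv0 D49581) D49584 (iv2 F80806)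
theorem F80812 : act 4 n31062 = n49581 := d20_6 F53663 (iv1 D14702) F11274 (iv3 F11272) D14692 D31062 (iv1 F80811) F80807 F39063 (iv1 F37150)
def n51217 : Q := act 2 n24914
theorem D51217 : act 2 n24914 = n51217 := rfl
theorem F80813 : act 7 n24915 = n51217 := d15_2 (iv0 D24914) D24915 (iv2 D51217)
def n51218 : Q := act 3 n24914
theorem D51218 : act 3 n24914 = n51218 := rfl
def n51219 : Q := act 4 n24914
theorem D51219 : act 4 n24914 = n51219 := rfl
def n51220 : Q := act 5 n24914
theorem D51220 : act 5 n24914 = n51220 := rfl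
def n51221 : Q := act 6 n24914
theorem D51221 : act 6 n24914 = n51221 := rfl
theorem F80814 : act 5 n51221 = n49670 := d21_6 (iv5 F19036) F19037 F11488 D11825 D24914 D51221 (iv1 D49670) (iv5 D24221) (iv6 D11381) (iv1 F18555)
def n51222 : Q := act 7 n24914
theorem D51222 : act 7 n24914 = n51222 := rfl
theorem F80815 : act 2 n51222 = n24915 := d4_1 D51222 F80813 (iv2 D51217)
def n51223 : Q := act 3 n24915
theorem D51223 : act 3 n24915 = n51223 := rfl
def n51224 : Q := act 4 n24915
theorem D51224 : act 4 n24915 = n51224 := rfl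
def n51225 : Q := act 0 n24917
theorem D51225 : act 0 n24917 = n51225 := rfl
theorem F80816 : act 2 n24921 = n51225 := d15_3 (iv0 D51225) (iv0 D24917) D24921
theorem F80817 : act 5 n51225 = n51054 := d2_2 (iv5 F39067) F80816 (iv2 D51054)
theorem F80818 : act 7 n51225 = n24919 := d4_2 D24921 F80816 (iv2 D24919)
theorem F80819 : act 1 n24918 = n51225 := d15_1 D24918 F80818 (iv2 D24919)
def n51226 : Q := act 2 n24917
theorem D51226 : act 2 n24917 = n51226 := rfl
theorem F80820 : act 7 n24918 = n51226 := d15_2 (iv0 D24917) D24918 (iv2 D51226)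
def n51227 : Q := act 3 n24917
theorem D51227 : act 3 n24917 = n51227 := rfl
def n51228 : Q := act 4 n24917
theorem D51228 : act 4 n24917 = n51228 := rfl
def n51229 : Q := act 5 n24917
theorem D51229 : act 5 n24917 = n51229 := rfl
def n51230 : Q := act 6 n24917
theorem D51230 : act 6 n24917 = n51230 := rfl
def n51231 : Q := act 7 n24917
theorem D51231 : act 7 n24917 = n51231 := rfl
theorem F80821 : act 2 n51231 = n24918 := d4_1 D51231 F80820 (iv2 D51226)
def n51232 : Q := act 3 n24918
theorem D51232 : act 3 n24918 = n51232 := rfl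
def n51233 : Q := act 4 n24918
theorem D51233 : act 4 n24918 = n51233 := rfl
def n51234 : Q := act 5 n24918
theorem D51234 : act 5 n24918 = n51234 := rfl
def n51235 : Q := act 6 n24918
theorem D51235 : act 6 n24918 = n51235 := rfl
def n51236 : Q := act 0 n24919
theorem D51236 : act 0 n24919 = n51236 := rfl
theorem F80822 : act 1 n24921 = n51236 := d15_0 (iv0 D51236) (iv7 F80818) (iv2 F80816)
def n51237 : Q := act 1 n24919
theorem D51237 : act 1 n24919 = n51237 := rfl
theorem F80823 : act 1 n51237 = n24921 := d15_1 D51237 (iv7 D24921) D24919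
def n51238 : Q := act 5 n24919
theorem D51238 : act 5 n24919 = n51238 := rfl
theorem F80824 : act 2 n51238 = n24920 := d2_1 D51238 (iv5 D24920) D24919
theorem F80825 : act 3 n51238 = n51225 := d6_1 D51238 F80817 F80505
theorem F80826 : act 7 n51238 = n51054 := d13_2 F80818 D51238 (iv5 F80817)
theorem F80827 : act 1 n51053 = n51238 := d15_1 D51053 F80826 (iv2 D51054)
theorem F80828 : act 1 n51238 = n51052 := d15_0 (iv0 D51052) F39065 (iv2 F80824)
def n51239 : Q := act 0 n24920
theorem D51239 : act 0 n24920 = n51239 := rfl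
theorem F80829 : act 1 n51054 = n51239 := d15_0 (iv0 D51239) (iv7 F39065) D51054
def n51240 : Q := act 1 n24920
theorem D51240 : act 1 n24920 = n51240 := rfl
theorem F80830 : act 1 n51240 = n51054 := d15_1 D51240 (iv7 F80826) F80824
theorem F80831 : act 4 n30473 = n51240 := d20_6 (iv4 D6907) (iv1 D3108) D3109 D6912 D14467 D30473 (iv1 D51240) (iv4 F48822) (iv3 D30385) (iv1 F24088)
def n51241 : Q := act 6 n24920
theorem D51241 : act 6 n24920 = n51241 := rfl
theorem F80832 : act 3 n51241 = n24922 := d7_1 D51241 (iv6 D24922) (iv3 F39064)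
def n51242 : Q := act 6 n24921
theorem D51242 : act 6 n24921 = n51242 := rfl
theorem F80833 : act 3 n51242 = n24923 := d7_1 D51242 (iv6 D24923) (iv3 F39066)
def n51243 : Q := act 0 n24922
theorem D51243 : act 0 n24922 = n51243 := rfl
def n51244 : Q := act 1 n24922
theorem D51244 : act 1 n24922 = n51244 := rfl
theorem F80834 : act 1 n51244 = n51164 := d15_1 D51244 F80712 F39069
def n51245 : Q := act 7 n24922
theorem D51245 : act 7 n24922 = n51245 := rfl
theorem F80835 : act 2 n51245 = n51164 := d4_1 D51245 F80712 F39069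
theorem F80836 : act 4 n51245 = n27939 := d11_1 D51245 F45138 (iv4 F39068)
theorem F80837 : act 6 n51245 = n27938 := d14_1 D51245 (iv7 D27938) F22154 (iv7 F19212) D24922
theorem F80838 : act 1 n51164 = n51243 := d15_0 (iv0 D51243) D51245 F80835
def n51246 : Q := act 0 n24923
theorem D51246 : act 0 n24923 = n51246 := rfl
theorem F80839 : act 1 n51245 = n51246 := d15_0 (iv0 D51246) (iv7 F80712) (iv2 F80835)
def n51247 : Q := act 1 n24923
theorem D51247 : act 1 n24923 = n51247 := rfl
theorem F80840 : act 1 n51247 = n51245 := d15_1 D51247 (iv7 D51245) (iv2 F39069)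
def n51248 : Q := act 5 n24923
theorem D51248 : act 5 n24923 = n51248 := rfl
theorem F80841 : act 2 n51248 = n51163 := d2_1 D51248 F80710 (iv2 F39069)
theorem F80842 : act 6 n51248 = n27937 := d12_2 D24923 D51248 (iv5 D27937) F22154 (iv5 F19217)
def n51249 : Q := act 2 n24924
theorem D51249 : act 2 n24924 = n51249 := rfl
theorem F80843 : act 7 n24925 = n51249 := d15_2 (iv0 D24924) D24925 (iv2 D51249)
def n51250 : Q := act 3 n24924
theorem D51250 : act 3 n24924 = n51250 := rfl
def n51251 : Q := act 4 n24924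
theorem D51251 : act 4 n24924 = n51251 := rfl
def n51252 : Q := act 5 n24924
theorem D51252 : act 5 n24924 = n51252 := rfl
theorem F80844 : act 0 n51179 = n51252 := d21_10 (iv5 D51252) (iv1 F45140) F45137 (iv6 D27939) (iv1 F22157) (iv6 F24447) (iv5 D14798) D14796 F39044 D51179
def n51253 : Q := act 6 n24924
theorem D51253 : act 6 n24924 = n51253 := rfl
theorem F80845 : act 5 n51253 = n49256 := d21_6 (iv5 D5260) (iv1 F9957) (iv5 F8450) D11829 D24924 D51253 (iv1 D49256) (iv5 F37925) (iv6 D24202) (iv1 D11367)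
def n51254 : Q := act 7 n24924
theorem D51254 : act 7 n24924 = n51254 := rfl
theorem F80846 : act 2 n51254 = n24925 := d4_1 D51254 F80843 (iv2 D51249)
def n51255 : Q := act 3 n24925
theorem D51255 : act 3 n24925 = n51255 := rfl
def n51256 : Q := act 4 n24925
theorem D51256 : act 4 n24925 = n51256 := rfl
def n51257 : Q := act 5 n24925
theorem D51257 : act 5 n24925 = n51257 := rfl
theorem F80847 : act 6 n51257 = n31722 := d21_3 F45137 (iv1 F45139) D51257 (iv1 F78379) F78372 F50025 (iv1 F77821) (iv5 F80845) (iv6 D51253) (iv1 F45140)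
def n51258 : Q := act 6 n24925
theorem D51258 : act 6 n24925 = n51258 := rfl
theorem F80848 : act 5 n51258 = n27994 := d21_6 (iv5 D11806) (iv1 F9849) (iv5 F22156) D27939 (iv1 F45139) D51258 (iv1 D27994) F37967 F38195 (iv1 F38193)
def n51259 : Q := act 3 n24926
theorem D51259 : act 3 n24926 = n51259 := rfl
theorem F80849 : act 4 n51259 = n50067 := d5_2 D24926 D51259 (iv3 D50067) (iv4 D24420) (iv3 F19549)
def n51260 : Q := act 5 n24926
theorem D51260 : act 5 n24926 = n51260 := rfl
theorem F80850 : act 2 n51260 = n30522 := d2_1 D51260 (iv5 D30522) (iv2 F39071)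
theorem F80851 : act 4 n51260 = n29854 := d9_1 D51260 F53565 (iv4 D34128) (iv5 D16525) (iv4 D7677) D7678 D16528 D34135 F80555 (iv5 F80552) (iv4 D51075) (iv5 D24845) F19464 D11832 D24926
def n51261 : Q := act 6 n24926
theorem D51261 : act 6 n24926 = n51261 := rfl
theorem F80852 : act 2 n51261 = n30523 := d3_1 D51261 (iv6 D30523) (iv2 F39071)
theorem F80853 : act 4 n51261 = n24927 := d10_1 D51261 (iv6 D24927) D24926
def n51262 : Q := act 0 n24927
theorem D51262 : act 0 n24927 = n51262 := rfl
theorem F80854 : act 6 n51262 = n30668 := d21_5 (iv5 D5551) D5549 D11832 D24927 D51262 F49121 (iv1 D25870) (iv5 F26185) (iv6 D16544) F11940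
theorem F80855 : act 5 n51262 = n34111 := d21_0 (iv1 D34111) F26113 (iv6 D12311) F19551 F10968 (iv5 D5551) D5549 D11832 D24927 D51262
def n51263 : Q := act 1 n24927
theorem D51263 : act 1 n24927 = n51263 := rfl
theorem F80856 : act 1 n51263 = n30526 := d15_1 D51263 (iv7 D30526) (iv2 F39072)
theorem F80857 : act 5 n34110 = n51263 := d21_0 (iv1 D51263) F39074 (iv6 D14686) (iv1 F19209) F11004 (iv5 D5378) F19491 D7673 D16517 D34110
def n51264 : Q := act 7 n24927
theorem D51264 : act 7 n24927 = n51264 := rfl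
theorem F80858 : act 2 n51264 = n30526 := d4_1 D51264 (iv7 D30526) (iv2 F39072)
theorem F80859 : act 3 n51264 = n50072 := d8_1 D51264 (iv7 D50072) (iv3 F39073)
theorem F80860 : act 5 n51264 = n31045 := d13_1 D51264 (iv7 D31045) (iv5 F39074)
theorem F80861 : act 6 n51264 = n30683 := d14_1 D51264 F49135 (iv6 D24941) F19238 D24927
theorem F80862 : act 1 n30526 = n51262 := d15_0 (iv0 D51262) D51264 F80858
theorem F80863 : act 1 n30525 = n51264 := d15_1 D30525 (iv7 D51264) F39072
theorem E8222 : n31064 = n25951 := ((c21_11 (iv5 D31064) (iv1 F49456) (iv5 F80860) F80861 (iv1 D30683) (iv6 D14544) (iv5 F19443) (iv1 F19441) (iv5 F11916) D12311 D25951)).symm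
theorem F80864 : act 5 n25951 = n14692 := (sb E8222 (iv5 D31064))
theorem F80865 : act 1 n51264 = n30524 := d15_0 (iv0 D30524) D30526 (iv2 F80858)
def n51265 : Q := act 3 n24928
theorem D51265 : act 3 n24928 = n51265 := rfl
theorem F80866 : act 4 n51265 = n50073 := d5_2 D24928 D51265 (iv3 D50073) (iv4 D24422) (iv3 F19559)
def n51266 : Q := act 5 n24928
theorem D51266 : act 5 n24928 = n51266 := rfl
theorem F80867 : act 2 n51266 = n30567 := d2_1 D51266 (iv5 D30567) (iv2 F39075)
theorem F80868 : act 4 n51266 = n29846 := d9_1 D51266 (iv5 D29846) (iv4 F37590) F37588 F20009 (iv5 F11938) D16543 D34173 F53735 (iv5 D29843) F46993 (iv5 F78071) F78070 F37753 D24928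
def n51267 : Q := act 6 n24928
theorem D51267 : act 6 n24928 = n51267 := rfl
theorem F80869 : act 2 n51267 = n30568 := d3_1 D51267 (iv6 D30568) (iv2 F39075)
theorem F80870 : act 4 n51267 = n24929 := d10_1 D51267 (iv6 D24929) D24928
def n51268 : Q := act 0 n24929
theorem D51268 : act 0 n24929 = n51268 := rfl
theorem F80871 : act 6 n51268 = n31069 := d21_5 F24117 (iv1 F37756) F37753 D24929 D51268 (iv5 D31069) (iv1 D14693) (iv5 F24125) (iv6 D14483) D14480
theorem F80872 : act 0 n51268 = n30571 := d21_4 F80860 (iv1 F49455) D31069 (iv6 F80871) (iv6 F53739) F53738 (iv1 F49146) (iv5 D30704) (iv6 F49145) (iv1 F80865)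
def n51269 : Q := act 1 n24929
theorem D51269 : act 1 n24929 = n51269 := rfl
theorem F80873 : act 1 n51269 = n30571 := d15_1 D51269 (iv7 D30571) (iv2 F39076)
def n51270 : Q := act 7 n24929
theorem D51270 : act 7 n24929 = n51270 := rfl
theorem F80874 : act 2 n51270 = n30571 := d4_1 D51270 (iv7 D30571) (iv2 F39076)
theorem F80875 : act 3 n51270 = n50078 := d8_1 D51270 (iv7 D50078) (iv3 F39077)
theorem F80876 : act 5 n51270 = n50155 := d13_1 D51270 F79464 (iv5 F39078)
theorem F80877 : act 1 n30570 = n51270 := d15_1 D30570 (iv7 D51270) F39076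
theorem F80878 : act 1 n51270 = n30569 := d15_0 (iv0 D30569) D30571 (iv2 F80874)
def n51271 : Q := act 3 n24930
theorem D51271 : act 3 n24930 = n51271 := rfl
def n51272 : Q := act 5 n24930
theorem D51272 : act 5 n24930 = n51272 := rfl
theorem F80879 : act 4 n51272 = n29837 := d16_2 (iv4 F39079) D51272 (iv5 D29837) (iv4 D14178) (iv5 F18865) (iv4 F38394) F38967 (iv7 F80550) (iv2 F80548)
def n51273 : Q := act 6 n24930
theorem D51273 : act 6 n24930 = n51273 := rfl
theorem F80880 : act 4 n51273 = n51093 := d10_1 D51273 (iv6 D51093) (iv4 F39079)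
def n51274 : Q := act 3 n24931
theorem D51274 : act 3 n24931 = n51274 := rfl
def n51275 : Q := act 5 n24931
theorem D51275 : act 5 n24931 = n51275 := rfl
theorem F80881 : act 4 n51275 = n29829 := d9_1 D51275 (iv5 D29829) (iv4 D14175) (iv5 F23660) (iv4 F38442) (iv5 F38964) (iv4 F39079) D51272 F80879 (iv5 D29837) (iv4 D14178) (iv5 F18865) (iv4 F38394) F38967 (iv4 F39123)
def n51276 : Q := act 6 n24931
theorem D51276 : act 6 n24931 = n51276 := rfl
theorem F80882 : act 4 n51276 = n51094 := d10_1 D51276 (iv6 D51094) (iv4 F39123)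
def n51277 : Q := act 0 n24932
theorem D51277 : act 0 n24932 = n51277 := rfl
def n51278 : Q := act 1 n24932
theorem D51278 : act 1 n24932 = n51278 := rfl
def n51279 : Q := act 2 n24932
theorem D51279 : act 2 n24932 = n51279 := rfl
def n51280 : Q := act 5 n24932
theorem D51280 : act 5 n24932 = n51280 := rfl
theorem F80883 : act 3 n51280 = n24933 := d6_1 D51280 (iv5 D24933) D24932
def n51281 : Q := act 7 n24932
theorem D51281 : act 7 n24932 = n51281 := rfl
theorem F80884 : act 3 n51281 = n24934 := d8_1 D51281 (iv7 D24934) D24932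
def n51282 : Q := act 0 n24933
theorem D51282 : act 0 n24933 = n51282 := rfl
theorem F80885 : act 5 n51282 = n29798 := d17_3 (iv1 D24931) D24933 D51282 (iv4 D29798) (iv5 D14160) F19525 D11790 D24864 (iv4 F39123)
theorem F80886 : act 4 n29819 = n51282 := d16_2 D14170 D29819 F80885 (iv4 D29798) (iv5 D14160) (iv4 D6738) D6739 (iv7 F23650) F23648
theorem F80887 : act 1 n29855 = n51282 := d17_6 (iv1 F26142) (iv5 D11832) (iv1 F8477) (iv5 F19248) (iv4 F39126) (iv5 F48006) F80885 (iv0 F53579) (iv4 D34131)
def n51283 : Q := act 1 n24933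
theorem D51283 : act 1 n24933 = n51283 := rfl
theorem F80888 : act 1 n51283 = n29855 := d15_1 D51283 (iv7 F48007) F39124
theorem F80889 : act 5 n51283 = n29815 := d17_7 F23761 (iv5 D7678) F10314 D5551 D11835 D24933 D51283 (iv0 F48175) (iv4 D29969)
theorem F80890 : act 4 n29806 = n51283 := d9_15 F80889 (iv4 D29815) (iv5 D14168) (iv4 D6743) D6744 D14170 D29819 F80886 F80885 (iv4 D29798) (iv5 D14160) (iv4 D6738) D6739 D14163 D29806
def n51284 : Q := act 4 n24933
theorem D51284 : act 4 n24933 = n51284 := rfl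
theorem F80891 : act 2 n51284 = n29857 := d1_1 D51284 F48008 F39124
theorem F80892 : act 5 n51284 = n29789 := d9_2 D24933 D51284 F47926 F23654 F10985 (iv5 F19248) (iv4 F39126) (iv5 F48006) (iv4 D29855) (iv5 D14183) (iv4 D6748) (iv5 D3032) (iv4 F3665) D5551 D11835
theorem F80893 : act 0 n51284 = n29854 := d18_2 (iv1 D51283) D51284 (iv4 F80851) (iv5 D51260) (iv4 D24926) F26142 D34131 (iv0 F53580) (iv5 F80889)
theorem F80894 : act 1 n51284 = n29853 := d18_8 F80553 (iv4 D29801) (iv1 F23681) D14170 D29819 F80886 (iv0 D51282) D51284 (iv5 F80552)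
theorem F80895 : act 7 n51284 = n29788 := d15_2 D29854 (iv0 F80893) F47924
def n51285 : Q := act 6 n24933
theorem D51285 : act 6 n24933 = n51285 := rfl
def n51286 : Q := act 7 n24933
theorem D51286 : act 7 n24933 = n51286 := rfl
theorem F80896 : act 2 n51286 = n29855 := d4_1 D51286 (iv7 F48007) F39124
theorem F80897 : act 4 n51286 = n29788 := d11_1 D51286 (iv7 F80895) (iv4 D51284)
theorem F80898 : act 5 n51286 = n24934 := d13_1 D51286 (iv7 D24934) D24933
def n51287 : Q := act 6 n24934
theorem D51287 : act 6 n24934 = n51287 := rfl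
theorem F80899 : act 4 n51287 = n24935 := d10_1 D51287 (iv6 D24935) (iv4 F39080)
theorem F80900 : act 7 n51287 = n30662 := d14_2 D24934 D51287 (iv6 D30662) F24176 F23633
def n51288 : Q := act 0 n24935
theorem D51288 : act 0 n24935 = n51288 := rfl
theorem F80901 : act 1 n25893 = n51288 := d15_0 (iv0 D51288) F39082 (iv2 F40907)
def n51289 : Q := act 1 n24935
theorem D51289 : act 1 n24935 = n51289 := rfl
theorem F80902 : act 1 n51289 = n25893 := d15_1 D51289 F40909 F39129
def n51290 : Q := act 6 n24937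
theorem D51290 : act 6 n24937 = n51290 := rfl
theorem F80903 : act 2 n51290 = n34070 := d3_1 D51290 (iv6 D34070) F39087
theorem F80904 : act 3 n51290 = n49164 := d7_1 D51290 (iv6 D49164) (iv3 F39088)
theorem F80905 : act 4 n51290 = n49940 := d10_1 D51290 (iv6 D49940) F39090
def n51291 : Q := act 3 n24938
theorem D51291 : act 3 n24938 = n51291 := rfl
theorem F80906 : act 4 n51291 = n24948 := d5_2 D24938 D51291 (iv3 D24948) (iv4 D11846) (iv3 F19232)
def n51292 : Q := act 5 n24938
theorem D51292 : act 5 n24938 = n51292 := rfl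
def n51293 : Q := act 6 n24939
theorem D51293 : act 6 n24939 = n51293 := rfl
theorem F80907 : act 3 n51293 = n24951 := d7_1 D51293 (iv6 D24951) (iv3 F39091)
theorem F80908 : act 5 n51293 = n51293 := d12_1 D51293 (iv6 D51293) F39092 F19234 (iv5 F39092)
theorem F80909 : act 7 n51293 = n49486 := d14_2 D24939 D51293 (iv6 D49486) F37856 F23635
def n51294 : Q := act 3 n24940
theorem D51294 : act 3 n24940 = n51294 := rfl
theorem F80910 : act 4 n51294 = n50113 := d5_2 D24940 D51294 (iv3 D50113) (iv4 D24442) F19547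
theorem F80911 : act 7 n51294 = n51259 := d8_2 (iv7 F39096) D51294 (iv3 D51259)
def n51295 : Q := act 5 n24940
theorem D51295 : act 5 n24940 = n51295 := rfl
theorem F80912 : act 2 n51295 = n34135 := d2_1 D51295 (iv5 D34135) (iv2 F39095)
theorem F80913 : act 7 n51295 = n51260 := d13_2 (iv7 F39096) D51295 (iv5 D51260)
theorem F80914 : act 0 n51295 = n51096 := d17_2 (iv1 F48913) D51295 (iv5 D51096) (iv4 D24865) (iv5 D11790) (iv0 F22921) D14168 F47953 (iv4 F48912)
def n51296 : Q := act 6 n24940
theorem D51296 : act 6 n24940 = n51296 := rfl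
theorem F80915 : act 2 n51296 = n34136 := d3_1 D51296 (iv6 D34136) (iv2 F39095)
theorem F80916 : act 4 n51296 = n24941 := d10_1 D51296 (iv6 D24941) D24940
def n51297 : Q := act 3 n24944
theorem D51297 : act 3 n24944 = n51297 := rfl
theorem F80917 : act 4 n51297 = n50118 := d5_2 D24944 D51297 (iv3 D50118) (iv4 D24446) F19430
theorem F80918 : act 7 n51297 = n51265 := d8_2 (iv7 F39111) D51297 (iv3 D51265)
def n51298 : Q := act 5 n24944
theorem D51298 : act 5 n24944 = n51298 := rfl
theorem F80919 : act 2 n51298 = n34173 := d2_1 D51298 (iv5 D34173) (iv2 F39110)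
theorem F80920 : act 7 n51298 = n51266 := d13_2 (iv7 F39111) D51298 (iv5 D51266)
def n51299 : Q := act 6 n24944
theorem D51299 : act 6 n24944 = n51299 := rfl
theorem F80921 : act 2 n51299 = n34174 := d3_1 D51299 (iv6 D34174) (iv2 F39110)
theorem F80922 : act 4 n51299 = n24945 := d10_1 D51299 (iv6 D24945) D24944
def n51300 : Q := act 0 n24945
theorem D51300 : act 0 n24945 = n51300 := rfl
theorem F80923 : act 5 n51300 = n50121 := d21_0 (iv1 F79388) F49040 (iv6 F40938) (iv1 F40939) F39241 F26140 F24309 F19241 D24945 D51300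
theorem F80924 : act 0 n51300 = n34177 := d21_1 (iv5 F80923) F53738 F40870 (iv1 F38528) F38526 (iv5 F24201) (iv1 D14538) F19424 D24447 D50121
def n51301 : Q := act 7 n24945
theorem D51301 : act 7 n24945 = n51301 := rfl
theorem F80925 : act 2 n51301 = n34177 := d4_1 D51301 (iv7 D34177) (iv2 F39113)
theorem F80926 : act 3 n51301 = n50123 := d8_1 D51301 (iv7 D50123) (iv3 F39114)
theorem F80927 : act 5 n51301 = n49379 := d13_1 D51301 (iv7 D49379) (iv5 F39115)
theorem F80928 : act 6 n51301 = n51270 := d14_1 D51301 (iv7 D51270) (iv6 D24929) F19243 D24945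
theorem F80929 : act 1 n34176 = n51301 := d15_1 D34176 (iv7 D51301) F39113
theorem F80930 : act 5 n34176 = n30594 := d21_0 (iv1 D30594) F24154 (iv6 D6953) D6950 D14541 (iv5 F38405) D50155 (iv5 F80876) (iv6 F80928) (iv1 F80929)
theorem F80931 : act 6 n30594 = n49383 := d21_3 (iv5 F80927) (iv1 F80929) F80930 (iv1 F78103) F40982 (iv5 F48919) (iv1 F80856) (iv5 F80857) F53526 (iv1 F78089)
theorem F80932 : act 6 n30944 = n34176 := d21_5 F19438 F24331 (iv5 D14649) D14650 D30944 F80930 (iv1 D30594) F24154 (iv6 D6953) D6950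
theorem F80933 : act 1 n51301 = n34175 := d15_0 (iv0 D34175) D34177 (iv2 F80925)
theorem F80934 : act 5 n30593 = n34175 := d21_0 (iv1 F80933) F80927 F78086 (iv1 F49266) (iv6 F24301) (iv5 D14557) (iv1 D6955) (iv5 F11203) D14510 D30593
def n51302 : Q := act 3 n24946
theorem D51302 : act 3 n24946 = n51302 := rfl
theorem F80935 : act 4 n51302 = n34086 := d5_2 F80546 D51302 (iv3 D34086) (iv4 F45716) (iv3 F80547)
theorem F80936 : act 7 n51302 = n51274 := d8_2 F39120 D51302 (iv3 D51274)
def n51303 : Q := act 5 n24946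
theorem D51303 : act 5 n24946 = n51303 := rfl
theorem F80937 : act 2 n51303 = n51272 := d2_1 D51303 (iv5 D51272) F39119
theorem F80938 : act 7 n51303 = n51275 := d13_2 F39120 D51303 (iv5 D51275)
theorem F80939 : act 4 n51303 = n50243 := d16_2 F80546 D51303 (iv5 D50243) (iv4 D24499) (iv5 D11587) (iv4 F18888) (iv5 F38031) F38966 F80548
def n51304 : Q := act 6 n24946
theorem D51304 : act 6 n24946 = n51304 := rfl
theorem F80940 : act 2 n51304 = n51273 := d3_1 D51304 (iv6 D51273) F39119
def n51305 : Q := act 3 n24947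
theorem D51305 : act 3 n24947 = n51305 := rfl
theorem F80941 : act 4 n51305 = n49750 := d5_2 (iv4 F39117) D51305 (iv3 D49750) (iv4 D24261) D24260
theorem F80942 : act 7 n51305 = n51271 := d8_2 F39118 D51305 (iv3 D51271)
def n51306 : Q := act 5 n24947
theorem D51306 : act 5 n24947 = n51306 := rfl
theorem F80943 : act 2 n51306 = n51275 := d2_1 D51306 (iv5 D51275) (iv2 F39121)
theorem F80944 : act 7 n51306 = n51272 := d13_2 F39118 D51306 (iv5 D51272)
def n51307 : Q := act 6 n24947
theorem D51307 : act 6 n24947 = n51307 := rfl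
theorem F80945 : act 2 n51307 = n51276 := d3_1 D51307 (iv6 D51276) (iv2 F39121)
theorem F80946 : act 4 n51307 = n49749 := d10_1 D51307 (iv6 D49749) (iv4 F39117)
def n51308 : Q := act 0 n24948
theorem D51308 : act 0 n24948 = n51308 := rfl
def n51309 : Q := act 1 n24948
theorem D51309 : act 1 n24948 = n51309 := rfl
def n51310 : Q := act 2 n24948
theorem D51310 : act 2 n24948 = n51310 := rfl
theorem F80947 : act 3 n51310 = n51279 := d0_2 D24948 D51310 (iv2 D51279) (iv3 D24932) (iv2 F19246)
def n51311 : Q := act 5 n24948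
theorem D51311 : act 5 n24948 = n51311 := rfl
theorem F80948 : act 3 n51311 = n24949 := d6_1 D51311 (iv5 D24949) D24948
def n51312 : Q := act 7 n24948
theorem D51312 : act 7 n24948 = n51312 := rfl
theorem F80949 : act 3 n51312 = n24950 := d8_1 D51312 (iv7 D24950) D24948
def n51313 : Q := act 0 n24949
theorem D51313 : act 0 n24949 = n51313 := rfl
theorem F80950 : act 1 n51286 = n51313 := d15_0 (iv0 D51313) F48007 (iv2 F80896)
def n51314 : Q := act 1 n24949
theorem D51314 : act 1 n24949 = n51314 := rfl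
theorem F80951 : act 1 n51314 = n51286 := d15_1 D51314 (iv7 D51286) (iv2 F39124)
theorem F80952 : act 5 n51314 = n49734 := d17_7 (iv1 F24118) (iv5 D11842) (iv1 D5556) D5557 D11846 D24949 D51314 F78601 (iv4 D30516)
theorem F80953 : act 2 n51283 = n51314 := d2_3 F80952 F78598 (iv5 F80889)
theorem F80954 : act 7 n51282 = n51314 := d13_0 F80952 F78599 (iv5 F80885)
theorem F80955 : act 2 n51282 = n51313 := d15_3 (iv0 D51313) D51314 (iv7 F80954)
theorem F80956 : act 7 n51313 = n51283 := d4_2 (iv7 F80954) F80955 F80953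
def n51315 : Q := act 6 n24949
theorem D51315 : act 6 n24949 = n51315 := rfl
def n51316 : Q := act 6 n24950
theorem D51316 : act 6 n24950 = n51316 := rfl
theorem F80958 : act 2 n51316 = n51287 := d3_1 D51316 (iv6 D51287) (iv2 F39125)
theorem F80959 : act 4 n51316 = n24951 := d10_1 D51316 (iv6 D24951) (iv4 F39126)
def n51317 : Q := act 6 n24952
theorem D51317 : act 6 n24952 = n51317 := rfl
theorem F80960 : act 2 n51317 = n48637 := d3_1 D51317 (iv6 D48637) (iv2 F39131)
theorem F80961 : act 3 n51317 = n24956 := d7_1 D51317 (iv6 D24956) (iv3 F39132)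
theorem F80962 : act 5 n51317 = n29977 := d12_1 D51317 (iv6 D29977) (iv5 F39137) (iv6 D24953) D24952
def n51318 : Q := act 4 n24954
theorem D51318 : act 4 n24954 = n51318 := rfl
theorem F80963 : act 2 n51318 = n24972 := d1_1 D51318 (iv4 D24972) F39141
theorem F80964 : act 6 n51318 = n50277 := d10_2 F39143 D51318 (iv4 D50277)
theorem F80965 : act 7 n51318 = n24970 := d11_2 (iv7 F39139) D51318 (iv4 D24970)
theorem F80966 : act 0 n51318 = n27956 := d18_2 (iv1 F39138) D51318 (iv4 D27956) (iv5 D13336) (iv4 F19152) (iv0 D11785) F8439 D5560 D11851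
theorem F80967 : act 1 n51318 = n30887 := d18_6 (iv1 F49310) (iv4 D30847) (iv1 F49260) F49257 (iv5 F39140) D51318 F49345 F45737 F39843
def n51319 : Q := act 3 n24955
theorem D51319 : act 3 n24955 = n51319 := rfl
theorem F80968 : act 7 n51319 = n24992 := d8_2 (iv7 F39145) D51319 (iv3 D24992)
def n51320 : Q := act 5 n24955
theorem D51320 : act 5 n24955 = n51320 := rfl
theorem F80969 : act 2 n51320 = n24977 := d2_1 D51320 (iv5 D24977) (iv2 F39144)
theorem F80970 : act 7 n51320 = n24993 := d13_2 (iv7 F39145) D51320 (iv5 D24993)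
theorem F80971 : act 4 n51320 = n25900 := d16_2 D24955 D51320 (iv5 D25900) (iv4 D12292) (iv5 D5835) (iv4 F9909) D11851 F19262 (iv2 F19254)
def n51321 : Q := act 6 n24955
theorem D51321 : act 6 n24955 = n51321 := rfl
theorem F80972 : act 2 n51321 = n24978 := d3_1 D51321 (iv6 D24978) (iv2 F39144)
theorem F80973 : act 4 n51321 = n24956 := d10_1 D51321 (iv6 D24956) D24955
def n51322 : Q := act 0 n24956
theorem D51322 : act 0 n24956 = n51322 := rfl
theorem F80974 : act 6 n51322 = n50149 := d21_5 (iv5 D5561) D5559 D11849 D24956 D51322 F79448 (iv1 D29956) (iv5 F39163) (iv6 D24963) (iv1 D11854)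
theorem F80975 : act 5 n51322 = n29809 := d21_0 (iv1 D29809) (iv5 F38417) (iv6 D24467) (iv1 D11560) (iv6 F8482) (iv5 D5561) D5559 D11849 D24956 D51322
def n51323 : Q := act 1 n24956
theorem D51323 : act 1 n24956 = n51323 := rfl
theorem F80976 : act 1 n51323 = n24982 := d15_1 D51323 (iv7 D24982) (iv2 F39146)
theorem F80977 : act 5 n29808 = n51323 := d21_0 (iv1 D51323) F39147 (iv6 D14237) (iv1 D6778) F4788 (iv5 D3032) D3030 D6739 D14164 D29808
def n51324 : Q := act 7 n24956
theorem D51324 : act 7 n24956 = n51324 := rfl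
theorem F80978 : act 2 n51324 = n24982 := d4_1 D51324 (iv7 D24982) (iv2 F39146)
theorem F80979 : act 5 n51324 = n29983 := d13_1 D51324 (iv7 D29983) (iv5 F39147)
theorem F80980 : act 6 n51324 = n24997 := d14_1 D51324 (iv7 D24997) (iv6 D11871) (iv7 F19255) D24956
theorem F80982 : act 1 n24980 = n51324 := d15_1 D24980 (iv7 D51324) F39146
theorem F80983 : act 1 n51324 = n24979 := d15_0 (iv0 D24979) D24982 (iv2 F80978)
def n51325 : Q := act 3 n24957
theorem D51325 : act 3 n24957 = n51325 := rfl
theorem F80984 : act 4 n51325 = n48644 := d5_2 D24957 D51325 (iv3 D48644) (iv4 D23718) (iv3 F19261)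
theorem F80985 : act 7 n51325 = n24976 := d8_2 (iv7 F39149) D51325 (iv3 D24976)
def n51326 : Q := act 5 n24957
theorem D51326 : act 5 n24957 = n51326 := rfl
theorem F80986 : act 2 n51326 = n24993 := d2_1 D51326 (iv5 D24993) (iv2 F39148)
theorem F80987 : act 4 n51326 = n30666 := d9_1 D51326 (iv5 D30666) (iv4 D14535) (iv5 D6948) F10144 D11849 D24955 D51320 F80971 (iv5 D25900) (iv4 D12292) (iv5 D5835) (iv4 F9909) D11851 D24957
theorem F80988 : act 7 n51326 = n24977 := d13_2 (iv7 F39149) D51326 (iv5 D24977)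
def n51327 : Q := act 6 n24957
theorem D51327 : act 6 n24957 = n51327 := rfl
theorem F80989 : act 2 n51327 = n24994 := d3_1 D51327 (iv6 D24994) (iv2 F39148)
theorem F80990 : act 4 n51327 = n24958 := d10_1 D51327 (iv6 D24958) D24957
def n51328 : Q := act 0 n24958
theorem D51328 : act 0 n24958 = n51328 := rfl
theorem F80991 : act 5 n51328 = n50078 := d21_8 (iv5 F80930) (iv1 D34176) F26185 (iv6 D12277) D12274 D25861 F40849 D51328 (iv6 F79387) (iv1 F79389)
theorem F80992 : act 2 n24995 = n51328 := d15_3 (iv0 D51328) (iv0 F39152) (iv7 F79383)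
theorem F80993 : act 3 n51328 = n50155 := d0_2 (iv3 F79381) F80992 (iv2 F79463) F49341 (iv2 F19671)
theorem F80994 : act 7 n51328 = n24996 := d4_2 (iv7 F79383) F80992 F39227
theorem F80995 : act 6 n50206 = n51328 := d14_5 F80994 (iv6 F39225) F38396 D24487 D50206
theorem F80996 : act 1 n24997 = n51328 := d15_1 F39229 F80994 F39227
def n51329 : Q := act 7 n24958
theorem D51329 : act 7 n24958 = n51329 := rfl
theorem F80997 : act 2 n51329 = n24997 := d4_1 D51329 (iv7 D24997) (iv2 F39150)
theorem F80998 : act 3 n51329 = n48648 := d8_1 D51329 (iv7 D48648) (iv3 F39151)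
theorem F80999 : act 6 n51329 = n24982 := d14_1 D51329 (iv7 D24982) (iv6 D11860) (iv7 F19262) D24958
theorem F81000 : act 1 n24996 = n51329 := d15_1 D24996 (iv7 D51329) F39150
theorem F81001 : act 1 n51329 = n24995 := d15_1 F81000 F79383 (iv2 F39227)
def n51330 : Q := act 6 n24959
theorem D51330 : act 6 n24959 = n51330 := rfl
theorem F81002 : act 2 n51330 = n48650 := d3_1 D51330 (iv6 D48650) (iv2 F39153)
theorem F81003 : act 3 n51330 = n24961 := d7_1 D51330 (iv6 D24961) D24959
theorem F81004 : act 5 n51330 = n49494 := d12_1 D51330 (iv6 F78245) (iv5 D30291) F39280 (iv5 F39279)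
def n51331 : Q := act 0 n24960
theorem D51331 : act 0 n24960 = n51331 := rfl
theorem F81005 : act 4 n51331 = n25891 := d18_3 D11853 D24960 D51331 (iv5 D25891) (iv4 D12289) F8978 F10144 (iv0 D5559) D5561
theorem F81006 : act 2 n24998 = n51331 := d15_3 (iv0 D51331) (iv0 F47889) F47888
theorem F81007 : act 1 n24962 = n51331 := d15_0 (iv0 D51331) F39157 (iv2 F39159)
theorem F81008 : act 7 n51331 = n24999 := d15_2 F47890 F81007 (iv2 F47887)
def n51332 : Q := act 3 n24960
theorem D51332 : act 3 n24960 = n51332 := rfl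
theorem F81009 : act 7 n51332 = n25009 := d8_2 (iv7 F39157) D51332 (iv3 D25009)
def n51333 : Q := act 5 n24960
theorem D51333 : act 5 n24960 = n51333 := rfl
theorem F81010 : act 2 n51333 = n25001 := d2_1 D51333 (iv5 D25001) (iv2 F39156)
theorem F81011 : act 7 n51333 = n25010 := d13_2 (iv7 F39157) D51333 (iv5 D25010)
theorem F81012 : act 4 n51333 = n25949 := d16_2 D24960 D51333 (iv5 D25949) (iv4 D12310) F11916 F11915 F19269 (iv7 F19281) F19284
def n51334 : Q := act 6 n24960
theorem D51334 : act 6 n24960 = n51334 := rfl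
theorem F81013 : act 2 n51334 = n25002 := d3_1 D51334 (iv6 D25002) (iv2 F39156)
theorem F81014 : act 4 n51334 = n24961 := d10_1 D51334 (iv6 D24961) D24960
def n51335 : Q := act 0 n24961
theorem D51335 : act 0 n24961 = n51335 := rfl
def n51336 : Q := act 1 n24961
theorem D51336 : act 1 n24961 = n51336 := rfl
theorem F81015 : act 1 n51336 = n25006 := d15_1 D51336 (iv7 D25006) (iv2 F39158)
def n51337 : Q := act 7 n24961
theorem D51337 : act 7 n24961 = n51337 := rfl
theorem F81016 : act 2 n51337 = n25006 := d4_1 D51337 (iv7 D25006) (iv2 F39158)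
theorem F81017 : act 6 n51337 = n25015 := d14_1 D51337 (iv7 D25015) (iv6 D11880) (iv7 F19285) D24961
theorem F81019 : act 1 n25004 = n51337 := d15_1 D25004 (iv7 D51337) F39158
theorem F81020 : act 1 n51337 = n25003 := d15_0 (iv0 D25003) D25006 (iv2 F81016)
def n51338 : Q := act 3 n24962
theorem D51338 : act 3 n24962 = n51338 := rfl
theorem F81021 : act 4 n51338 = n28106 := d5_2 D24962 D51338 (iv3 D28106) F22310 (iv3 F19270)
theorem F81022 : act 7 n51338 = n25000 := d8_2 (iv7 F39160) D51338 (iv3 D25000)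
def n51339 : Q := act 5 n24962
theorem D51339 : act 5 n24962 = n51339 := rfl
theorem F81023 : act 2 n51339 = n25010 := d2_1 D51339 (iv5 D25010) (iv2 F39159)
theorem F81024 : act 4 n51339 = n30942 := d9_1 D51339 (iv5 D30942) (iv4 D14648) D14649 F24330 F24259 D24960 D51333 F81012 (iv5 D25949) (iv4 D12310) F11916 F11915 F19269 D24962
theorem F81025 : act 7 n51339 = n25001 := d13_2 (iv7 F39160) D51339 (iv5 D25001)
def n51340 : Q := act 6 n24962
theorem D51340 : act 6 n24962 = n51340 := rfl
theorem F81026 : act 2 n51340 = n25011 := d3_1 D51340 (iv6 D25011) (iv2 F39159)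
theorem F81027 : act 4 n51340 = n24963 := d10_1 D51340 (iv6 D24963) D24962
def n51341 : Q := act 0 n24963
theorem D51341 : act 0 n24963 = n51341 := rfl
theorem F81028 : act 5 n51341 = n50237 := d21_0 (iv1 F79591) (iv5 F79453) F79454 (iv1 F39190) (iv6 D24973) (iv5 F19292) F18388 F19269 D24963 D51341
def n51342 : Q := act 1 n24963
theorem D51342 : act 1 n24963 = n51342 := rfl
theorem F81029 : act 1 n51342 = n25015 := d15_1 D51342 (iv7 D25015) (iv2 F39161)
def n51343 : Q := act 7 n24963
theorem D51343 : act 7 n24963 = n51343 := rfl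
theorem F81030 : act 2 n51343 = n25015 := d4_1 D51343 (iv7 D25015) (iv2 F39161)
theorem F81031 : act 3 n51343 = n48656 := d8_1 D51343 (iv7 D48656) (iv3 F39162)
theorem F81032 : act 5 n51343 = n29957 := d13_1 D51343 (iv7 D29957) (iv5 F39163)
theorem F81033 : act 6 n51343 = n25006 := d14_1 D51343 (iv7 D25006) (iv6 D11876) F19281 D24963
theorem F81034 : act 1 n25015 = n51341 := d15_0 (iv0 D51341) D51343 F81030
theorem F81035 : act 1 n25013 = n51343 := d15_1 D25013 (iv7 D51343) F39161
theorem F81036 : act 5 n25902 = n25006 := d21_8 (iv5 F79593) (iv1 D29840) (iv5 F38401) (iv6 D24460) F19600 D25059 F39335 D25902 (iv6 F81033) (iv1 F81035)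
theorem F81037 : act 7 n25005 = n25902 := d13_0 F81036 (iv7 D25006) D25005
theorem F81038 : act 1 n51343 = n25012 := d15_0 (iv0 D25012) D25015 (iv2 F81030)
def n51344 : Q := act 3 n24964
theorem D51344 : act 3 n24964 = n51344 := rfl
theorem F81039 : act 4 n51344 = n27990 := d5_2 (iv4 F39164) D51344 (iv3 D27990) (iv4 D13358) D13357
theorem F81040 : act 7 n51344 = n25022 := d8_2 (iv7 F39256) D51344 (iv3 D25022)
def n51345 : Q := act 5 n24964
theorem D51345 : act 5 n24964 = n51345 := rfl
theorem F81041 : act 2 n51345 = n25019 := d2_1 D51345 (iv5 D25019) (iv2 F39255)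
theorem F81042 : act 7 n51345 = n25024 := d13_2 (iv7 F39256) D51345 (iv5 D25024)
def n51346 : Q := act 6 n24964
theorem D51346 : act 6 n24964 = n51346 := rfl
theorem F81043 : act 2 n51346 = n25020 := d3_1 D51346 (iv6 D25020) (iv2 F39255)
theorem F81044 : act 4 n51346 = n27988 := d10_1 D51346 (iv6 D27988) (iv4 F39164)
def n51347 : Q := act 3 n24965
theorem D51347 : act 3 n24965 = n51347 := rfl
theorem F81045 : act 7 n51347 = n25017 := d8_2 (iv7 F39258) D51347 (iv3 D25017)
def n51348 : Q := act 5 n24965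
theorem D51348 : act 5 n24965 = n51348 := rfl
theorem F81046 : act 2 n51348 = n25024 := d2_1 D51348 (iv5 D25024) (iv2 F39257)
theorem F81047 : act 7 n51348 = n25019 := d13_2 (iv7 F39258) D51348 (iv5 D25019)
def n51349 : Q := act 6 n24965
theorem D51349 : act 6 n24965 = n51349 := rfl
theorem F81048 : act 2 n51349 = n25025 := d3_1 D51349 (iv6 D25025) (iv2 F39257)
def n51350 : Q := act 0 n24966
theorem D51350 : act 0 n24966 = n51350 := rfl
def n51351 : Q := act 1 n24966
theorem D51351 : act 1 n24966 = n51351 := rfl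
def n51352 : Q := act 2 n24966
theorem D51352 : act 2 n24966 = n51352 := rfl
theorem F81049 : act 3 n51352 = n25028 := d0_2 D24966 D51352 (iv2 D25028) (iv3 D11883) (iv2 F19271)
theorem F81050 : act 4 n51352 = n50178 := d1_2 (iv4 F39168) D51352 (iv2 D50178)
theorem F81051 : act 6 n51352 = n50178 := d3_2 (iv6 F39169) D51352 (iv2 D50178)
def n51353 : Q := act 5 n24966
theorem D51353 : act 5 n24966 = n51353 := rfl
theorem F81052 : act 3 n51353 = n24967 := d6_1 D51353 (iv5 D24967) D24966
def n51354 : Q := act 7 n24966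
theorem D51354 : act 7 n24966 = n51354 := rfl
theorem F81053 : act 3 n51354 = n24968 := d8_1 D51354 (iv7 D24968) D24966
theorem F81054 : act 4 n51354 = n50180 := d11_1 D51354 (iv7 D50180) (iv4 F39168)
def n51355 : Q := act 0 n24967
theorem D51355 : act 0 n24967 = n51355 := rfl
theorem F81055 : act 5 n51355 = n27956 := d17_1 D51355 F45189 D30889 F49389 F49386 (iv0 D25897) D25900 F80675 F80673
theorem F81056 : act 1 n25034 = n51355 := d15_0 (iv0 D51355) (iv7 F80671) F80667
theorem F81057 : act 2 n25030 = n51355 := d2_3 F81055 (iv2 F80606) F80608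
theorem F81058 : act 7 n25031 = n51355 := d13_0 F81055 (iv7 F80623) F80624
def n51356 : Q := act 1 n24967
theorem D51356 : act 1 n24967 = n51356 := rfl
theorem F81059 : act 1 n51356 = n25034 := d15_1 D51356 (iv7 D25034) (iv2 F39170)
theorem F81060 : act 7 n51356 = n25030 := d15_2 (iv0 D51355) D51356 F81057
theorem F81061 : act 5 n51356 = n30887 := d17_7 (iv1 F19263) (iv5 D11851) (iv1 D5560) D5561 D11855 D24967 D51356 (iv0 D30887) (iv4 D14627)
theorem F81062 : act 2 n25031 = n51356 := d2_3 F81061 (iv2 F80622) F80624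
def n51357 : Q := act 6 n24967
theorem D51357 : act 6 n24967 = n51357 := rfl
theorem F81063 : act 2 n51357 = n25033 := d3_1 D51357 (iv6 D25033) (iv2 F39170)
theorem F81064 : act 5 n51357 = n50183 := d12_1 D51357 (iv6 D50183) (iv5 D24471) (iv6 F19272) D24967
def n51358 : Q := act 6 n24968
theorem D51358 : act 6 n24968 = n51358 := rfl
theorem F81065 : act 2 n51358 = n25035 := d3_1 D51358 (iv6 D25035) (iv2 F39171)
theorem F81066 : act 4 n51358 = n24969 := d10_1 D51358 (iv6 D24969) (iv4 F39172)
theorem F81067 : act 7 n51358 = n50184 := d14_2 D24968 D51358 (iv6 D50184) (iv7 D24472) (iv6 F19272)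
theorem F81068 : act 1 n50400 = n51358 := d15_1 D50400 F81067 F79528
theorem F81069 : act 1 n51358 = n50399 := d15_0 (iv0 D50399) (iv7 F39271) (iv2 F81065)
def n51359 : Q := act 3 n24970
theorem D51359 : act 3 n24970 = n51359 := rfl
theorem F81070 : act 4 n51359 = n50201 := d5_2 D24970 D51359 (iv3 D50201) (iv4 D24486) (iv3 F19314)
def n51360 : Q := act 5 n24970
theorem D51360 : act 5 n24970 = n51360 := rfl
theorem F81071 : act 2 n51360 = n30889 := d2_1 D51360 (iv5 D30889) (iv2 F39181)
theorem F81072 : act 4 n51360 = n30689 := d16_2 D24970 D51360 (iv5 D30689) (iv4 F24576) F24574 F24281 F19292 F19290 F19288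
theorem F81073 : act 0 n51360 = n51345 := d17_2 F80609 D51360 (iv5 D51345) F39164 (iv5 F39233) (iv0 D24514) D24515 (iv0 F38976) D51098
theorem F81074 : act 1 n51360 = n51348 := d17_6 (iv1 F19268) (iv5 F19269) (iv1 F18390) (iv5 F19286) D24970 D51360 (iv5 D51348) F39167 F19570
def n51361 : Q := act 6 n24970
theorem D51361 : act 6 n24970 = n51361 := rfl
theorem F81075 : act 2 n51361 = n30885 := d3_1 D51361 F49337 (iv2 F39181)
theorem F81076 : act 4 n51361 = n24971 := d10_1 D51361 (iv6 D24971) D24970
def n51362 : Q := act 0 n24971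
theorem D51362 : act 0 n24971 = n51362 := rfl
def n51363 : Q := act 1 n24971
theorem D51363 : act 1 n24971 = n51363 := rfl
theorem F81077 : act 1 n51363 = n30886 := d15_1 D51363 (iv7 D30886) (iv2 F39182)
theorem F81078 : act 5 n31065 = n51363 := d21_6 (iv5 F20344) (iv1 F19564) (iv5 F11194) D7013 D14692 D31065 (iv1 D51363) F39184 (iv6 D14599) (iv1 F20341)
def n51364 : Q := act 7 n24971
theorem D51364 : act 7 n24971 = n51364 := rfl
theorem F81079 : act 2 n51364 = n30886 := d4_1 D51364 (iv7 D30886) (iv2 F39182)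
theorem F81080 : act 3 n51364 = n50206 := d8_1 D51364 (iv7 D50206) (iv3 F39183)
theorem F81081 : act 5 n51364 = n30832 := d13_1 D51364 (iv7 D30832) (iv5 F39184)
theorem F81082 : act 6 n51364 = n50155 := d14_1 D51364 F79464 F39143 F39139 D24971
theorem F81083 : act 1 n30886 = n51362 := d15_0 (iv0 D51362) D51364 F81079
theorem F81084 : act 1 n30884 = n51364 := d15_1 D30884 (iv7 D51364) F39182
theorem F81085 : act 0 n30883 = n51364 := d21_4 F18960 D24568 D50405 (iv6 F79765) F81082 (iv5 F80876) (iv1 F80877) (iv5 F79769) (iv6 D50411) (iv1 D24569)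
def n51365 : Q := act 3 n24972
theorem D51365 : act 3 n24972 = n51365 := rfl
theorem F81086 : act 4 n51365 = n25065 := d5_2 D24972 D51365 (iv3 D25065) (iv4 D11907) F19291
theorem F81087 : act 7 n51365 = n30888 := d8_2 (iv7 F39185) D51365 (iv3 D30888)
def n51366 : Q := act 5 n24972
theorem D51366 : act 5 n24972 = n51366 := rfl
theorem F81088 : act 4 n51366 = n30686 := d9_1 D51366 (iv5 D30686) F38991 F38988 F24255 (iv5 F19286) D24970 D51360 F81072 (iv5 D30689) (iv4 F24576) F24574 F24281 F19292 D24972
theorem F81089 : act 7 n51366 = n30889 := d13_2 (iv7 F39185) D51366 (iv5 D30889)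
theorem F81090 : act 0 n51366 = n51348 := d17_2 F80625 D51366 (iv5 D51348) F47898 F47895 (iv0 F39923) F39918 F39849 D51108
theorem F81091 : act 1 n51366 = n51345 := d17_6 D11853 (iv5 F24259) (iv1 F24262) F19292 D24972 D51366 (iv5 D51345) (iv0 D24964) (iv4 D11855)
def n51367 : Q := act 6 n24972
theorem D51367 : act 6 n24972 = n51367 := rfl
theorem F81092 : act 2 n51367 = n50277 := d3_1 D51367 (iv6 F80964) F80963
theorem F81093 : act 4 n51367 = n24973 := d10_1 D51367 (iv6 D24973) D24972
theorem F81094 : act 7 n50276 = n51367 := d11_0 F81093 (iv7 F49344) D50276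
def n51368 : Q := act 3 n24974
theorem D51368 : act 3 n24974 = n51368 := rfl
def n51369 : Q := act 5 n24974
theorem D51369 : act 5 n24974 = n51369 := rfl
theorem F81095 : act 4 n51369 = n30681 := d16_2 F39845 D51369 (iv5 D30681) (iv4 D14543) (iv5 F19443) (iv4 F38495) F45186 F45184 F39847
theorem F81096 : act 0 n51369 = n51333 := d17_2 D24974 D51369 (iv5 D51333) (iv4 D24960) (iv5 F24259) (iv0 D14600) (iv5 F19286) (iv0 D11857) D11859
theorem F81097 : act 1 n51369 = n51339 := d17_6 F40901 (iv5 F39253) (iv1 F39262) (iv5 F39843) F39845 D51369 (iv5 D51339) F81007 F81005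
def n51370 : Q := act 6 n24974
theorem D51370 : act 6 n24974 = n51370 := rfl
def n51371 : Q := act 3 n24975
theorem D51371 : act 3 n24975 = n51371 := rfl
theorem F81098 : act 4 n51371 = n50534 := d5_2 F45188 D51371 (iv3 D50534) (iv4 F40261) (iv3 F45187)
def n51372 : Q := act 5 n24975
theorem D51372 : act 5 n24975 = n51372 := rfl
theorem F81099 : act 4 n51372 = n30673 := d9_1 D51372 (iv5 D30673) (iv4 D14540) F19438 (iv4 F37118) (iv5 F39843) F39845 D51369 F81095 (iv5 D30681) (iv4 D14543) (iv5 F19443) (iv4 F38495) F45186 F45188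
theorem F81100 : act 0 n51372 = n51339 := d17_2 (iv1 F39193) D51372 (iv5 D51339) (iv4 D24962) (iv5 F19269) (iv0 F18388) F19292 F19289 D11870
theorem F81101 : act 1 n51372 = n51333 := d17_6 (iv1 F39250) (iv5 F49308) F49309 F45186 F45188 D51372 (iv5 D51333) (iv0 F47889) (iv4 D29772)
def n51373 : Q := act 6 n24975
theorem D51373 : act 6 n24975 = n51373 := rfl
theorem F81102 : act 4 n51373 = n30844 := d10_1 D51373 (iv6 F49311) F45188
def n51374 : Q := act 0 n24976
theorem D51374 : act 0 n24976 = n51374 := rfl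
def n51375 : Q := act 1 n24976
theorem D51375 : act 1 n24976 = n51375 := rfl
def n51376 : Q := act 2 n24976
theorem D51376 : act 2 n24976 = n51376 := rfl
def n51377 : Q := act 5 n24976
theorem D51377 : act 5 n24976 = n51377 := rfl
theorem F81103 : act 3 n51377 = n24977 := d6_1 D51377 (iv5 D24977) D24976
def n51378 : Q := act 6 n24976
theorem D51378 : act 6 n24976 = n51378 := rfl
theorem F81104 : act 3 n51378 = n24978 := d7_1 D51378 (iv6 D24978) D24976
def n51379 : Q := act 0 n24977
theorem D51379 : act 0 n24977 = n51379 := rfl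
theorem F81105 : act 5 n51379 = n24998 := d17_1 D51379 (iv1 F39231) D25010 F39245 (iv5 D14653) (iv0 F19178) D24887 D51139 (iv4 F80666)
theorem F81106 : act 4 n51379 = n29779 := d18_3 (iv1 F80662) (iv4 F80666) D51379 (iv5 D29779) (iv4 D14150) F20433 (iv4 F39015) F39013 (iv5 F39266)
theorem F81107 : act 1 n24993 = n51379 := d15_0 (iv0 D51379) (iv7 F80988) F80986
def n51380 : Q := act 1 n24977
theorem D51380 : act 1 n24977 = n51380 := rfl
theorem F81108 : act 1 n51380 = n24993 := d15_1 D51380 (iv7 F80970) F80969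
theorem F81109 : act 5 n51380 = n24999 := d17_7 (iv1 D5573) (iv5 D2312) D2310 D5565 D11859 D24977 D51380 F39237 (iv4 D11878)
theorem F81110 : act 4 n30661 = n51380 := d9_15 F81109 (iv4 F39238) (iv5 D14149) F10972 D6730 D14150 D29779 (iv4 F81106) F81105 F39230 (iv5 D14532) (iv4 D6940) D6941 D14533 D30661
def n51381 : Q := act 6 n24977
theorem D51381 : act 6 n24977 = n51381 := rfl
def n51382 : Q := act 0 n24978
theorem D51382 : act 0 n24978 = n51382 := rfl
def n51383 : Q := act 1 n24978
theorem D51383 : act 1 n24978 = n51383 := rfl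
def n51384 : Q := act 5 n24978
theorem D51384 : act 5 n24978 = n51384 := rfl
def n51385 : Q := act 7 n24978
theorem D51385 : act 7 n24978 = n51385 := rfl
theorem F81111 : act 4 n51385 = n24982 := d11_1 D51385 (iv7 D24982) (iv4 F39194)
def n51386 : Q := act 2 n24979
theorem D51386 : act 2 n24979 = n51386 := rfl
theorem F81112 : act 6 n51386 = n50228 := d3_2 (iv6 F79581) D51386 (iv2 D50228)
theorem F81113 : act 7 n24980 = n51386 := d15_2 (iv0 D24979) D24980 (iv2 D51386)
def n51387 : Q := act 3 n24979
theorem D51387 : act 3 n24979 = n51387 := rfl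
def n51388 : Q := act 4 n24979
theorem D51388 : act 4 n24979 = n51388 := rfl
theorem F81115 : act 6 n51388 = n50230 := d10_2 (iv6 F79581) D51388 (iv4 D50230)
def n51389 : Q := act 7 n24979
theorem D51389 : act 7 n24979 = n51389 := rfl
theorem F81116 : act 2 n51389 = n24980 := d4_1 D51389 F81113 (iv2 D51386)
def n51390 : Q := act 3 n24980
theorem D51390 : act 3 n24980 = n51390 := rfl
def n51391 : Q := act 4 n24980
theorem D51391 : act 4 n24980 = n51391 := rfl
def n51392 : Q := act 6 n24980
theorem D51392 : act 6 n24980 = n51392 := rfl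
theorem F81117 : act 5 n51392 = n50236 := d12_1 D51392 (iv6 D50236) D50235 (iv6 F79714) F79715
theorem F81118 : act 7 n51392 = n50236 := d14_2 (iv7 F81113) D51392 (iv6 D50236) F79579 (iv6 F81112)
theorem F81119 : act 0 n50410 = n50236 := d21_1 D50410 (iv5 F81117) (iv6 D51392) (iv1 D24980) (iv6 D11860) (iv5 D5565) (iv1 F8488) (iv5 F19275) D24969 (iv1 F39179)
def n51393 : Q := act 0 n24981
theorem D51393 : act 0 n24981 = n51393 := rfl
theorem F81120 : act 5 n51393 = n50167 := d21_0 (iv1 F79496) (iv5 F79721) F79722 (iv1 F47992) F40980 F23420 (iv1 D11862) D11863 (iv6 F39197) D51393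
theorem F81121 : act 0 n51393 = n29983 := d21_1 (iv5 F81120) (iv5 F80979) F80980 (iv1 F39229) (iv6 D24489) (iv5 F19770) F19773 F18868 D24467 D50167
def n51394 : Q := act 1 n24981
theorem D51394 : act 1 n24981 = n51394 := rfl
theorem F81122 : act 1 n51394 = n29983 := d15_1 D51394 (iv7 D29983) (iv2 F39195)
theorem F81123 : act 5 n50168 = n51394 := d21_0 (iv1 D51394) (iv5 D24981) (iv6 D11860) D11857 D24971 F39184 D30831 (iv5 F79481) F79482 (iv1 F79492)
theorem F81124 : act 6 n51335 = n50168 := d21_5 F19286 D14600 F24259 D24961 D51335 F81123 (iv1 D51394) (iv5 D24981) (iv6 D11860) D11857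
def n51395 : Q := act 4 n24981
theorem D51395 : act 4 n24981 = n51395 := rfl
theorem F81125 : act 2 n51395 = n29980 := d1_1 D51395 F48182 (iv2 F39195)
theorem F81126 : act 6 n51395 = n24983 := d10_2 (iv6 F39197) D51395 (iv4 D24983)
def n51396 : Q := act 7 n24981
theorem D51396 : act 7 n24981 = n51396 := rfl
theorem F81127 : act 2 n51396 = n29983 := d4_1 D51396 (iv7 D29983) (iv2 F39195)
theorem F81128 : act 3 n51396 = n49341 := d8_1 D51396 (iv7 D49341) (iv3 F39196)
theorem F81129 : act 5 n51396 = n24982 := d13_1 D51396 (iv7 D24982) D24981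
theorem F81130 : act 6 n51396 = n29976 := d14_1 D51396 (iv7 D29976) (iv6 D14234) F19545 (iv6 F39197)
theorem F81131 : act 1 n29982 = n51396 := d15_1 D29982 (iv7 D51396) F39195
theorem F81132 : act 0 n50336 = n51396 := d21_1 D50336 F81129 (iv6 F80999) (iv1 F81000) (iv6 F39225) (iv5 F38519) (iv1 F38521) (iv5 D11613) D11614 D24546
theorem E8223 : n50336 = n29981 := (c15_1 (iv0 F81132) (iv0 D29981) D29983 (iv2 F81127))
theorem F81133 : act 0 n29981 = n51396 := (sb E8223 F81132)
theorem F81134 : act 5 n29981 = n24546 := (sb E8223 (iv5 D50336))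
def n51397 : Q := act 3 n24983
theorem D51397 : act 3 n24983 = n51397 := rfl
theorem F81135 : act 4 n51397 = n29348 := d5_2 D24983 D51397 (iv3 D29348) F23241 (iv3 F19297)
theorem F81136 : act 7 n51397 = n29971 := d8_2 (iv7 F39199) D51397 (iv3 D29971)
def n51398 : Q := act 5 n24983
theorem D51398 : act 5 n24983 = n51398 := rfl
theorem F81137 : act 2 n51398 = n29979 := d2_1 D51398 (iv5 D29979) (iv2 F39198)
theorem F81138 : act 7 n51398 = n29972 := d13_2 (iv7 F39199) D51398 (iv5 D29972)
theorem F81139 : act 4 n51398 = n50074 := d16_2 D24983 D51398 (iv5 D50074) (iv4 D24422) (iv5 F24187) (iv4 F39102) F39100 F23729 (iv2 F19296)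
def n51399 : Q := act 6 n24984
theorem D51399 : act 6 n24984 = n51399 := rfl
theorem F81140 : act 2 n51399 = n25466 := d3_1 D51399 (iv6 D25466) (iv2 F39201)
theorem F81141 : act 3 n51399 = n30825 := d7_1 D51399 (iv6 D30825) (iv3 F39202)
def n51400 : Q := act 6 n24986
theorem D51400 : act 6 n24986 = n51400 := rfl
theorem F81142 : act 2 n51400 = n50255 := d3_1 D51400 (iv6 F79630) F39207
theorem F81143 : act 3 n51400 = n48647 := d7_1 D51400 (iv6 F76514) F39302
theorem F81144 : act 4 n51400 = n51010 := d10_1 D51400 (iv6 D51010) F39303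
theorem F81145 : act 5 n51400 = n51290 := d12_1 D51400 (iv6 D51290) F39086 (iv6 F45523) F45525
theorem F81146 : act 0 n51400 = n50246 := d21_4 F39279 (iv1 F45527) F45525 D51400 (iv6 D50246) (iv5 D24501) (iv1 F18952) D12047 (iv6 F25999) (iv1 F39155)
theorem F81147 : act 1 n51400 = n50256 := d15_1 (iv0 F81146) (iv7 D50256) (iv2 F79613)
def n51401 : Q := act 3 n24987
theorem D51401 : act 3 n24987 = n51401 := rfl
theorem F81148 : act 4 n51401 = n24992 := d5_2 D24987 D51401 (iv3 D24992) (iv4 D11870) (iv3 F19303)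
def n51402 : Q := act 5 n24987
theorem D51402 : act 5 n24987 = n51402 := rfl
theorem F81149 : act 0 n51402 = n49886 := d17_2 F39678 D51402 (iv5 D49886) (iv4 D24326) (iv5 D11459) (iv0 F19382) D11751 F19738 D25199
def n51403 : Q := act 6 n24987
theorem D51403 : act 6 n24987 = n51403 := rfl
theorem F81150 : act 4 n51403 = n24988 := d10_1 D51403 (iv6 D24988) D24987
def n51404 : Q := act 0 n24988
theorem D51404 : act 0 n24988 = n51404 := rfl
def n51405 : Q := act 1 n24988
theorem D51405 : act 1 n24988 = n51405 := rfl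
theorem F81151 : act 6 n25087 = n51405 := d21_3 (iv5 F38409) F45389 F45385 (iv1 D51405) (iv6 D24988) (iv5 D11866) F22446 D12050 F19964 D12055
theorem F81152 : act 5 n30231 = n51405 := d21_6 (iv5 D14313) F11091 D11242 (iv6 F19955) (iv1 F38594) D30231 (iv1 D51405) (iv5 F48645) (iv6 D30264) (iv1 F23978)
theorem F81153 : act 2 n51405 = n50249 := d2_1 F81152 F79622 F79309
theorem F81154 : act 3 n51405 = n25089 := d6_1 F81152 F39422 (iv3 F48620)
theorem F81155 : act 7 n50553 = n51405 := d8_0 F81154 (iv7 F79816) D50553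
theorem F81156 : act 4 n51405 = n51023 := d20_6 D24829 (iv1 F38854) F38634 (iv3 F38630) (iv1 F39424) (iv3 F81154) (iv1 D51023) F38838 F19107 D11762
theorem E8224 : n51023 = n50913 := (c10_2 F81151 F81156 (iv6 D50913) (iv4 F39416))
theorem F81157 : act 0 n50913 = n24815 := (sb E8224 (iv1 D51023))
theorem F81158 : act 4 n50913 = n51405 := (sb E8224 (iv4 F81156))
theorem F81159 : act 2 n50553 = n51404 := d15_3 (iv0 D51404) D51405 (iv7 F81155)
theorem F81160 : act 7 n51404 = n50249 := d4_2 (iv7 F81155) F81159 (iv2 F81153)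
theorem F81161 : act 1 n50553 = n25401 := d15_0 (iv0 F79623) (iv7 F81160) (iv2 F81159)
def n51406 : Q := act 7 n24988
theorem D51406 : act 7 n24988 = n51406 := rfl
theorem F81162 : act 3 n51406 = n24997 := d8_1 D51406 (iv7 D24997) (iv3 F39209)
theorem F81163 : act 1 n50249 = n51406 := d15_1 (iv0 F79623) (iv7 D51406) (iv2 F40180)
theorem F81164 : act 1 n51406 = n50553 := d15_1 F81163 F81155 F81153
def n51407 : Q := act 3 n24990
theorem D51407 : act 3 n24990 = n51407 := rfl
theorem F81165 : act 4 n51407 = n30828 := d5_2 D24990 D51407 (iv3 D30828) (iv4 D14598) (iv3 F19306)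
theorem F81166 : act 7 n51407 = n30665 := d8_2 (iv7 F39217) D51407 (iv3 D30665)
def n51408 : Q := act 6 n24990
theorem D51408 : act 6 n24990 = n51408 := rfl
theorem F81167 : act 2 n51408 = n25901 := d3_1 D51408 (iv6 D25901) (iv2 F39216)
theorem F81168 : act 4 n51408 = n24991 := d10_1 D51408 (iv6 D24991) D24990
def n51409 : Q := act 0 n24991
theorem D51409 : act 0 n24991 = n51409 := rfl
theorem F81169 : act 2 n25902 = n51409 := d15_3 (iv0 D51409) (iv0 F39242) F81037
theorem F81170 : act 5 n51409 = n51337 := d2_2 (iv5 F81036) F81169 F81016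
theorem F81171 : act 7 n51409 = n25903 := d4_2 F81037 F81169 F40936
theorem F81172 : act 1 n25904 = n51409 := d15_1 F40939 F81171 F40936
theorem F81173 : act 5 n51342 = n50238 := d21_0 (iv1 D50238) (iv5 D24497) (iv6 D11583) D11580 D24487 (iv5 F39222) D51409 F81170 F81017 (iv1 F81029)
theorem F81174 : act 6 n50161 = n51342 := d21_5 F19313 F24218 (iv5 F24217) D24465 D50161 F81173 (iv1 D50238) (iv5 D24497) (iv6 D11583) D11580
def n51410 : Q := act 7 n24991
theorem D51410 : act 7 n24991 = n51410 := rfl
theorem F81175 : act 2 n51410 = n25904 := d4_1 D51410 (iv7 D25904) (iv2 F39220)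
theorem F81176 : act 3 n51410 = n30832 := d8_1 D51410 (iv7 D30832) (iv3 F39221)
theorem F81177 : act 5 n51410 = n50206 := d13_1 D51410 (iv7 D50206) (iv5 F39222)
theorem F81178 : act 6 n51410 = n30670 := d14_1 D51410 (iv7 D30670) (iv6 D14536) (iv7 F19307) D24991
theorem F81179 : act 1 n25903 = n51410 := d15_1 D25903 (iv7 D51410) F39220
theorem F81180 : act 1 n51410 = n25902 := d15_1 F81179 (iv7 F81037) (iv2 F40936)
def n51411 : Q := act 0 n24992
theorem D51411 : act 0 n24992 = n51411 := rfl
def n51412 : Q := act 1 n24992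
theorem D51412 : act 1 n24992 = n51412 := rfl
def n51413 : Q := act 2 n24992
theorem D51413 : act 2 n24992 = n51413 := rfl
def n51414 : Q := act 5 n24992
theorem D51414 : act 5 n24992 = n51414 := rfl
theorem F81181 : act 3 n51414 = n24993 := d6_1 D51414 (iv5 D24993) D24992
def n51415 : Q := act 6 n24992
theorem D51415 : act 6 n24992 = n51415 := rfl
theorem F81182 : act 3 n51415 = n24994 := d7_1 D51415 (iv6 D24994) D24992
def n51416 : Q := act 6 n24993
theorem D51416 : act 6 n24993 = n51416 := rfl
theorem F81183 : act 4 n51416 = n30696 := d10_1 D51416 (iv6 D30696) (iv4 F39223)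
def n51417 : Q := act 0 n24994
theorem D51417 : act 0 n24994 = n51417 := rfl
def n51418 : Q := act 1 n24994
theorem D51418 : act 1 n24994 = n51418 := rfl
theorem F81184 : act 6 n30836 = n51418 := d21_3 D24531 D50297 F79673 (iv1 D51418) (iv6 D24994) D24993 (iv1 F81108) F81109 F39239 (iv1 D24529)
theorem F81185 : act 2 n51418 = n50215 := d3_1 F81184 (iv6 D50215) (iv2 F49283)
theorem F81186 : act 4 n51418 = n30837 := d10_1 F81184 (iv6 D30837) D30836
def n51419 : Q := act 5 n24994
theorem D51419 : act 5 n24994 = n51419 := rfl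
def n51420 : Q := act 7 n24994
theorem D51420 : act 7 n24994 = n51420 := rfl
theorem F81187 : act 4 n51420 = n24997 := d11_1 D51420 (iv7 D24997) (iv4 F39224)
def n51421 : Q := act 4 n24995
theorem D51421 : act 4 n24995 = n51421 := rfl
theorem F81188 : act 7 n51421 = n50209 := d11_2 (iv7 F79383) D51421 F79565
def n51422 : Q := act 6 n24995
theorem D51422 : act 6 n24995 = n51422 := rfl
theorem F81189 : act 2 n51422 = n50206 := d3_1 D51422 F80995 (iv2 F80992)
theorem F81190 : act 3 n51422 = n25064 := d7_1 D51422 F39344 (iv3 F79381)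
theorem F81191 : act 5 n51422 = n25904 := d12_1 D51422 F40938 (iv5 F49040) (iv6 F53639) (iv5 F79382)
theorem F81192 : act 7 n51422 = n25059 := d14_2 (iv7 F79383) D51422 (iv6 D25059) (iv7 F19599) D24489
theorem F81193 : act 0 n50204 = n51422 := d21_4 F39177 (iv1 F39179) D50410 (iv6 F79768) (iv6 D51422) F79382 (iv1 F79271) (iv5 F79766) (iv6 D50406) (iv1 F39180)
theorem F81194 : act 1 n50205 = n51422 := d15_1 D50205 F81192 F39333
def n51423 : Q := act 4 n24996
theorem D51423 : act 4 n24996 = n51423 := rfl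
theorem F81195 : act 2 n51423 = n50209 := d1_1 D51423 F79565 (iv2 F39227)
theorem F81196 : act 6 n51423 = n50145 := d10_2 F39225 D51423 (iv4 D50145)
def n51424 : Q := act 3 n24998
theorem D51424 : act 3 n24998 = n51424 := rfl
def n51425 : Q := act 6 n24998
theorem D51425 : act 6 n24998 = n51425 := rfl
theorem F81197 : act 4 n51425 = n30659 := d10_1 D51425 (iv6 D30659) (iv4 F39230)
theorem F81198 : act 7 n51425 = n50290 := d14_2 F47888 D51425 (iv6 D50290) (iv7 F48106) F48105
def n51426 : Q := act 3 n24999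
theorem D51426 : act 3 n24999 = n51426 := rfl
theorem F81199 : act 4 n51426 = n50672 := d5_2 F39238 D51426 (iv3 D50672) F38672 F38109
theorem F81200 : act 6 n51426 = n50291 := d7_2 (iv6 F39239) D51426 (iv3 D50291)
def n51427 : Q := act 0 n25000
theorem D51427 : act 0 n25000 = n51427 := rfl
def n51428 : Q := act 1 n25000
theorem D51428 : act 1 n25000 = n51428 := rfl
def n51429 : Q := act 2 n25000
theorem D51429 : act 2 n25000 = n51429 := rfl
def n51430 : Q := act 5 n25000
theorem D51430 : act 5 n25000 = n51430 := rfl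
theorem F81201 : act 3 n51430 = n25001 := d6_1 D51430 (iv5 D25001) D25000
def n51431 : Q := act 6 n25000
theorem D51431 : act 6 n25000 = n51431 := rfl
theorem F81202 : act 3 n51431 = n25002 := d7_1 D51431 (iv6 D25002) D25000
def n51432 : Q := act 0 n25001
theorem D51432 : act 0 n25001 = n51432 := rfl
theorem F81203 : act 5 n51432 = n50901 := d17_1 D51432 F80305 D51320 F80971 (iv5 D25900) D25898 (iv5 F49391) (iv0 F80654) F80652
theorem F81204 : act 4 n51432 = n50283 := d18_3 (iv1 F80655) F80652 D51432 (iv5 D50283) (iv4 D24524) (iv0 F19425) D14535 F40923 (iv5 F49386)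
theorem F81205 : act 6 n50901 = n50273 := d21_3 D25001 D51432 F81203 (iv1 D50273) (iv6 D24519) D24518 (iv1 F79576) F79577 (iv6 F39239) (iv1 D24999)
theorem F81206 : act 1 n25010 = n51432 := d15_0 (iv0 D51432) (iv7 F81025) F81023
theorem F81207 : act 2 n50273 = n51373 := d3_1 F81205 (iv6 D51373) (iv2 F80303)
theorem F81208 : act 4 n50273 = n50902 := d10_1 F81205 (iv6 D50902) D50901
theorem F81209 : act 2 n51372 = n51432 := d1_3 F81204 F79662 (iv4 F81099)
theorem F81210 : act 7 n51369 = n51432 := d11_0 F81204 F79663 (iv4 F81095)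
def n51433 : Q := act 1 n25001
theorem D51433 : act 1 n25001 = n51433 := rfl
theorem F81211 : act 1 n51433 = n25010 := d15_1 D51433 (iv7 F81011) F81010
theorem F81212 : act 7 n51433 = n51372 := d15_2 (iv0 D51432) D51433 F81209
theorem F81213 : act 5 n51433 = n50265 := d17_7 F19256 (iv5 D6987) D6985 F19279 D11875 D25001 D51433 F79647 (iv4 D24955)
theorem F81214 : act 2 n51369 = n51433 := d2_3 F81213 F79644 D51369
def n51434 : Q := act 6 n25001
theorem D51434 : act 6 n25001 = n51434 := rfl
def n51435 : Q := act 0 n25002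
theorem D51435 : act 0 n25002 = n51435 := rfl
def n51436 : Q := act 1 n25002
theorem D51436 : act 1 n25002 = n51436 := rfl
def n51437 : Q := act 5 n25002
theorem D51437 : act 5 n25002 = n51437 := rfl
def n51438 : Q := act 7 n25002
theorem D51438 : act 7 n25002 = n51438 := rfl
theorem F81215 : act 4 n51438 = n25006 := d11_1 D51438 (iv7 D25006) (iv4 F39240)
def n51439 : Q := act 2 n25003
theorem D51439 : act 2 n25003 = n51439 := rfl
theorem F81216 : act 6 n51439 = n50338 := d3_2 (iv6 F79499) D51439 F79713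
theorem F81217 : act 7 n25004 = n51439 := d15_2 (iv0 D25003) D25004 (iv2 D51439)
def n51440 : Q := act 3 n25003
theorem D51440 : act 3 n25003 = n51440 := rfl
def n51441 : Q := act 4 n25003
theorem D51441 : act 4 n25003 = n51441 := rfl
theorem F81219 : act 6 n51441 = n50340 := d10_2 (iv6 F79499) D51441 (iv4 D50340)
def n51442 : Q := act 5 n25003
theorem D51442 : act 5 n25003 = n51442 := rfl
def n51443 : Q := act 7 n25003
theorem D51443 : act 7 n25003 = n51443 := rfl
theorem F81220 : act 2 n51443 = n25004 := d4_1 D51443 F81217 (iv2 D51439)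
def n51444 : Q := act 3 n25004
theorem D51444 : act 3 n25004 = n51444 := rfl
def n51445 : Q := act 4 n25004
theorem D51445 : act 4 n25004 = n51445 := rfl
def n51446 : Q := act 5 n25004
theorem D51446 : act 5 n25004 = n51446 := rfl
theorem F81221 : act 6 n51446 = n30664 := d21_3 F81170 (iv1 F81019) D51446 (iv1 D30664) (iv6 D14534) (iv5 D6941) (iv1 F10146) D11868 D24991 D51409
def n51447 : Q := act 6 n25004
theorem D51447 : act 6 n25004 = n51447 := rfl
theorem F81222 : act 7 n51447 = n50337 := d14_2 (iv7 F81217) D51447 (iv6 D50337) D50338 (iv6 F81216)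
theorem F81223 : act 5 n50278 = n51447 := d21_2 D24522 D50278 (iv6 D51447) (iv1 D25004) (iv6 D11876) (iv5 F19279) (iv1 F24265) (iv5 F39140) (iv6 F39143) (iv1 D24521)
theorem F81224 : act 7 n30676 = n50278 := d13_0 F81223 F81222 F79712
theorem F81225 : act 2 n50278 = n30675 := d15_3 (iv0 D30675) D30676 F81224
theorem F81226 : act 2 n30676 = n50279 := d15_3 F79652 F79658 (iv7 F81224)
theorem F81227 : act 7 n50279 = n30675 := d4_2 (iv7 F81224) F81226 (iv2 F81225)
def n51448 : Q := act 4 n25005
theorem D51448 : act 4 n25005 = n51448 := rfl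
theorem F81228 : act 6 n51448 = n34131 := d10_2 (iv6 F39241) D51448 (iv4 D34131)
def n51449 : Q := act 3 n25007
theorem D51449 : act 3 n25007 = n51449 := rfl
theorem F81229 : act 4 n51449 = n25009 := d5_2 D25007 D51449 (iv3 D25009) (iv4 D11878) D11877
def n51450 : Q := act 5 n25007
theorem D51450 : act 5 n25007 = n51450 := rfl
theorem F81230 : act 0 n51450 = n51003 := d17_2 F39650 D51450 (iv5 D51003) (iv4 D24809) F19733 F22596 (iv5 F22335) (iv0 F22341) D25193
theorem F81231 : act 1 n51450 = n50998 := d17_6 F38623 F38621 (iv1 F24062) (iv5 F23804) D25007 D51450 (iv5 D50998) (iv0 F40178) (iv4 D25400)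
def n51451 : Q := act 6 n25007
theorem D51451 : act 6 n25007 = n51451 := rfl
theorem F81232 : act 4 n51451 = n25008 := d10_1 D51451 (iv6 D25008) D25007
def n51452 : Q := act 0 n25008
theorem D51452 : act 0 n25008 = n51452 := rfl
def n51453 : Q := act 1 n25008
theorem D51453 : act 1 n25008 = n51453 := rfl
def n51454 : Q := act 7 n25008
theorem D51454 : act 7 n25008 = n51454 := rfl
theorem F81233 : act 3 n51454 = n25015 := d8_1 D51454 (iv7 D25015) (iv3 F39244)
def n51455 : Q := act 0 n25009
theorem D51455 : act 0 n25009 = n51455 := rfl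
def n51456 : Q := act 1 n25009
theorem D51456 : act 1 n25009 = n51456 := rfl
def n51457 : Q := act 2 n25009
theorem D51457 : act 2 n25009 = n51457 := rfl
def n51458 : Q := act 5 n25009
theorem D51458 : act 5 n25009 = n51458 := rfl
theorem F81234 : act 3 n51458 = n25010 := d6_1 D51458 (iv5 D25010) D25009
def n51459 : Q := act 6 n25009
theorem D51459 : act 6 n25009 = n51459 := rfl
theorem F81235 : act 3 n51459 = n25011 := d7_1 D51459 (iv6 D25011) D25009
def n51460 : Q := act 6 n25010
theorem D51460 : act 6 n25010 = n51460 := rfl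
theorem F81236 : act 4 n51460 = n30956 := d10_1 D51460 (iv6 D30956) (iv4 F39245)
def n51461 : Q := act 0 n25011
theorem D51461 : act 0 n25011 = n51461 := rfl
def n51462 : Q := act 1 n25011
theorem D51462 : act 1 n25011 = n51462 := rfl
def n51463 : Q := act 5 n25011
theorem D51463 : act 5 n25011 = n51463 := rfl
def n51464 : Q := act 7 n25011
theorem D51464 : act 7 n25011 = n51464 := rfl
theorem F81237 : act 4 n51464 = n25015 := d11_1 D51464 (iv7 D25015) (iv4 F39246)
def n51465 : Q := act 2 n25012
theorem D51465 : act 2 n25012 = n51465 := rfl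
theorem F81238 : act 7 n25013 = n51465 := d15_2 (iv0 D25012) D25013 (iv2 D51465)
def n51466 : Q := act 3 n25012
theorem D51466 : act 3 n25012 = n51466 := rfl
def n51467 : Q := act 4 n25012
theorem D51467 : act 4 n25012 = n51467 := rfl
def n51468 : Q := act 6 n25012
theorem D51468 : act 6 n25012 = n51468 := rfl
theorem F81239 : act 0 n51468 = n50406 := d21_10 F79766 (iv1 D50077) F39226 (iv6 F39225) (iv1 D24458) D24460 F38401 D29839 (iv5 F79597) D51468
def n51469 : Q := act 7 n25012
theorem D51469 : act 7 n25012 = n51469 := rfl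
theorem F81240 : act 2 n51469 = n25013 := d4_1 D51469 F81238 (iv2 D51465)
theorem F81241 : act 6 n50305 = n51469 := d3_0 F81240 F79595 D50305
theorem F81242 : act 7 n51468 = n50313 := d14_4 F79691 F81241 (iv7 D51469) D51468 (iv6 D50313)
def n51470 : Q := act 3 n25013
theorem D51470 : act 3 n25013 = n51470 := rfl
theorem F81243 : act 6 n51470 = n50306 := d7_2 (iv6 F79595) D51470 (iv3 D50306)
def n51471 : Q := act 4 n25013
theorem D51471 : act 4 n25013 = n51471 := rfl
theorem F81244 : act 6 n51471 = n50307 := d10_2 (iv6 F79595) D51471 (iv4 D50307)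
def n51472 : Q := act 4 n25014
theorem D51472 : act 4 n25014 = n51472 := rfl
theorem F81245 : act 2 n51472 = n29954 := d1_1 D51472 F48156 (iv2 F39247)
theorem F81246 : act 6 n51472 = n29920 := d10_2 (iv6 F39248) D51472 (iv4 D29920)
def n51473 : Q := act 7 n25014
theorem D51473 : act 7 n25014 = n51473 := rfl
theorem F81247 : act 2 n51473 = n29957 := d4_1 D51473 (iv7 D29957) (iv2 F39247)
theorem F81248 : act 5 n51473 = n25015 := d13_1 D51473 (iv7 D25015) D25014
theorem F81249 : act 6 n51473 = n29968 := d14_1 D51473 (iv7 D29968) (iv6 D14230) (iv7 F23721) (iv6 F39248)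
theorem F81250 : act 1 n29957 = n50235 := d15_0 (iv0 F79584) D51473 F81247
theorem F81252 : act 0 n29955 = n51473 := d21_1 (iv5 F79450) F81248 (iv6 F81017) (iv1 F81019) D51447 (iv5 F81223) (iv1 F79658) (iv5 F79467) F79468 (iv1 F79449)
def n51474 : Q := act 0 n25017
theorem D51474 : act 0 n25017 = n51474 := rfl
def n51475 : Q := act 1 n25017
theorem D51475 : act 1 n25017 = n51475 := rfl
def n51476 : Q := act 2 n25017
theorem D51476 : act 2 n25017 = n51476 := rfl
def n51477 : Q := act 4 n25017
theorem D51477 : act 4 n25017 = n51477 := rfl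
def n51478 : Q := act 5 n25017
theorem D51478 : act 5 n25017 = n51478 := rfl
theorem F81253 : act 3 n51478 = n25019 := d6_1 D51478 (iv5 D25019) D25017
def n51479 : Q := act 6 n25017
theorem D51479 : act 6 n25017 = n51479 := rfl
theorem F81254 : act 3 n51479 = n25020 := d7_1 D51479 (iv6 D25020) D25017
def n51480 : Q := act 3 n25018
theorem D51480 : act 3 n25018 = n51480 := rfl
theorem F81255 : act 2 n51480 = n27946 := d0_1 D51480 (iv3 D27946) F22940 D13357 (iv2 F39259)
theorem F81256 : act 5 n51480 = n25271 := d6_2 F49308 D51480 (iv3 F49306)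
theorem F81257 : act 7 n51480 = n27996 := d8_2 F47894 D51480 F47897
theorem F81258 : act 0 n51480 = n25191 := d20_4 D5574 D11881 D25018 D51480 F39634 D25193 F39650 (iv4 D25007) (iv3 D11877) (iv1 D5573)
theorem F81259 : act 4 n51480 = n30201 := d20_6 D24540 F38536 (iv4 D24241) (iv3 F23632) (iv1 F39250) D51480 (iv1 F48580) (iv4 D24570) (iv3 F38457) (iv1 F38460)
theorem F81260 : act 3 n51477 = n30201 := d5_5 (iv4 F81259) (iv3 D51480) (iv4 D25018) D25017 D51477
theorem F81261 : act 0 n27923 = n51480 := d20_4 D11612 (iv1 F38514) (iv4 F38515) (iv3 F45092) (iv3 D51480) (iv4 D25018) (iv1 F39174) F39172 F19274 (iv1 F18873)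
def n51481 : Q := act 6 n25018
theorem D51481 : act 6 n25018 = n51481 := rfl
theorem F81262 : act 2 n51481 = n27988 := d3_1 D51481 (iv6 D27988) (iv2 F39259)
theorem F81263 : act 4 n51481 = n25020 := d10_1 D51481 (iv6 D25020) D25018
theorem F81264 : act 5 n51481 = n51114 := d12_1 D51481 (iv6 F80632) (iv5 F79332) F79333 F49308
def n51482 : Q := act 0 n25019
theorem D51482 : act 0 n25019 = n51482 := rfl
theorem F81265 : act 5 n51482 = n51318 := d17_3 D11881 D25019 D51482 (iv4 D51318) F39140 F24265 F19279 (iv0 D5572) D5574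
theorem F81266 : act 4 n51482 = n30955 := d18_1 D51482 (iv1 D30955) (iv4 F39245) (iv5 D25010) (iv4 D11878) F19277 (iv4 F39172) F39174 D25019
theorem F81267 : act 0 n50277 = n30842 := d21_4 D25019 D51482 F81265 F80964 (iv6 D30842) (iv5 F38551) (iv1 D24563) (iv5 D11618) (iv6 F8491) D11881
theorem F81268 : act 2 n51366 = n51482 := d15_3 (iv0 D51482) (iv0 F49347) (iv7 F81089)
theorem F81269 : act 1 n25024 = n51482 := d15_0 (iv0 D51482) (iv7 F81047) F81046
theorem F81270 : act 7 n51482 = n51360 := d15_2 F49348 F81269 F81071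
def n51483 : Q := act 6 n25019
theorem D51483 : act 6 n25019 = n51483 := rfl
def n51484 : Q := act 0 n25020
theorem D51484 : act 0 n25020 = n51484 := rfl
def n51485 : Q := act 1 n25020
theorem D51485 : act 1 n25020 = n51485 := rfl
def n51486 : Q := act 5 n25020
theorem D51486 : act 5 n25020 = n51486 := rfl
def n51487 : Q := act 7 n25020
theorem D51487 : act 7 n25020 = n51487 := rfl
def n51488 : Q := act 0 n25022
theorem D51488 : act 0 n25022 = n51488 := rfl
def n51489 : Q := act 1 n25022
theorem D51489 : act 1 n25022 = n51489 := rfl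
def n51490 : Q := act 2 n25022
theorem D51490 : act 2 n25022 = n51490 := rfl
def n51491 : Q := act 4 n25022
theorem D51491 : act 4 n25022 = n51491 := rfl
theorem F81271 : act 3 n51491 = n27949 := d5_1 D51491 (iv4 D27949) (iv3 F39252) (iv4 D25023) D25022
theorem F81272 : act 7 n51491 = n27990 := d11_2 F81040 D51491 (iv4 F81039)
def n51492 : Q := act 5 n25022
theorem D51492 : act 5 n25022 = n51492 := rfl
theorem F81273 : act 3 n51492 = n25024 := d6_1 D51492 (iv5 D25024) D25022
def n51493 : Q := act 6 n25022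
theorem D51493 : act 6 n25022 = n51493 := rfl
theorem F81274 : act 3 n51493 = n25025 := d7_1 D51493 (iv6 D25025) D25022
def n51494 : Q := act 6 n25023
theorem D51494 : act 6 n25023 = n51494 := rfl
theorem F81275 : act 3 n51494 = n27950 := d7_1 D51494 (iv6 D27950) (iv3 F39252)
theorem F81276 : act 4 n51494 = n25025 := d10_1 D51494 (iv6 D25025) D25023
theorem F81277 : act 5 n51494 = n28737 := d12_1 D51494 (iv6 D28737) (iv5 D13704) D13705 F39253
def n51495 : Q := act 6 n25024
theorem D51495 : act 6 n25024 = n51495 := rfl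
def n51496 : Q := act 0 n25025
theorem D51496 : act 0 n25025 = n51496 := rfl
def n51497 : Q := act 1 n25025
theorem D51497 : act 1 n25025 = n51497 := rfl
def n51498 : Q := act 5 n25025
theorem D51498 : act 5 n25025 = n51498 := rfl
def n51499 : Q := act 7 n25025
theorem D51499 : act 7 n25025 = n51499 := rfl
def n51500 : Q := act 2 n25026
theorem D51500 : act 2 n25026 = n51500 := rfl
theorem F81278 : act 7 n25027 = n51500 := d15_2 (iv0 D25026) D25027 (iv2 D51500)
def n51501 : Q := act 3 n25026
theorem D51501 : act 3 n25026 = n51501 := rfl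
def n51502 : Q := act 4 n25026
theorem D51502 : act 4 n25026 = n51502 := rfl
def n51503 : Q := act 5 n25026
theorem D51503 : act 5 n25026 = n51503 := rfl
def n51504 : Q := act 6 n25026
theorem D51504 : act 6 n25026 = n51504 := rfl
def n51505 : Q := act 7 n25026
theorem D51505 : act 7 n25026 = n51505 := rfl
theorem F81279 : act 2 n51505 = n25027 := d4_1 D51505 F81278 (iv2 D51500)
def n51506 : Q := act 3 n25027
theorem D51506 : act 3 n25027 = n51506 := rfl
def n51507 : Q := act 4 n25027
theorem D51507 : act 4 n25027 = n51507 := rfl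
theorem F81280 : act 3 n51507 = n28072 := d20_9 (iv4 F45418) F80172 (iv4 D50793) (iv3 D24718) D24716 (iv3 F38698) D50838 (iv1 F80196) D51507 (iv1 F45338)
def n51508 : Q := act 5 n25027
theorem D51508 : act 5 n25027 = n51508 := rfl
def n51509 : Q := act 6 n25027
theorem D51509 : act 6 n25027 = n51509 := rfl
def n51510 : Q := act 5 n25028
theorem D51510 : act 5 n25028 = n51510 := rfl
theorem F81281 : act 2 n51510 = n25029 := d2_1 D51510 (iv5 D25029) D25028
def n51511 : Q := act 0 n25029
theorem D51511 : act 0 n25029 = n51511 := rfl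
def n51512 : Q := act 1 n25029
theorem D51512 : act 1 n25029 = n51512 := rfl
def n51513 : Q := act 4 n25029
theorem D51513 : act 4 n25029 = n51513 := rfl
def n51514 : Q := act 6 n25029
theorem D51514 : act 6 n25029 = n51514 := rfl
theorem F81282 : act 3 n51514 = n25033 := d7_1 D51514 (iv6 D25033) (iv3 F39265)
theorem F81283 : act 5 n51514 = n50386 := d12_1 D51514 (iv6 D50386) (iv5 D24560) (iv6 F19569) D25029
def n51515 : Q := act 3 n25030
theorem D51515 : act 3 n25030 = n51515 := rfl
def n51516 : Q := act 6 n25030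
theorem D51516 : act 6 n25030 = n51516 := rfl
def n51517 : Q := act 3 n25031
theorem D51517 : act 3 n25031 = n51517 := rfl
def n51518 : Q := act 6 n25031
theorem D51518 : act 6 n25031 = n51518 := rfl
def n51519 : Q := act 3 n25032
theorem D51519 : act 3 n25032 = n51519 := rfl
theorem F81284 : act 5 n51519 = n30947 := d6_2 (iv5 F39266) D51519 (iv3 D30947)
def n51520 : Q := act 6 n25032
theorem D51520 : act 6 n25032 = n51520 := rfl
theorem F81285 : act 4 n51520 = n25033 := d10_1 D51520 (iv6 D25033) D25032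
def n51521 : Q := act 0 n25033
theorem D51521 : act 0 n25033 = n51521 := rfl
def n51522 : Q := act 1 n25033
theorem D51522 : act 1 n25033 = n51522 := rfl
def n51523 : Q := act 7 n25033
theorem D51523 : act 7 n25033 = n51523 := rfl
theorem F81286 : act 5 n51523 = n50397 := d13_1 D51523 (iv7 D50397) (iv5 F39268)
def n51524 : Q := act 6 n25034
theorem D51524 : act 6 n25034 = n51524 := rfl
def n51525 : Q := act 0 n25035
theorem D51525 : act 0 n25035 = n51525 := rfl
theorem F81287 : act 1 n50184 = n51525 := d15_0 (iv0 D51525) F39271 (iv2 F79528)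
def n51526 : Q := act 1 n25035
theorem D51526 : act 1 n25035 = n51526 := rfl
theorem F81288 : act 1 n51526 = n50184 := d15_1 D51526 (iv7 F81067) F81065
def n51527 : Q := act 5 n25035
theorem D51527 : act 5 n25035 = n51527 := rfl
theorem F81289 : act 7 n51527 = n50401 := d13_2 (iv7 F39271) D51527 (iv5 D50401)
def n51528 : Q := act 2 n25036
theorem D51528 : act 2 n25036 = n51528 := rfl
theorem F81290 : act 7 n25037 = n51528 := d15_2 (iv0 D25036) D25037 (iv2 D51528)
def n51529 : Q := act 3 n25036
theorem D51529 : act 3 n25036 = n51529 := rfl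
def n51530 : Q := act 4 n25036
theorem D51530 : act 4 n25036 = n51530 := rfl
def n51531 : Q := act 5 n25036
theorem D51531 : act 5 n25036 = n51531 := rfl
theorem F81291 : act 0 n51392 = n51531 := d21_10 (iv5 D51531) (iv1 F39272) F38431 (iv6 D24473) (iv1 F18873) D11614 D24548 D50341 F79715 D51392
def n51532 : Q := act 6 n25036
theorem D51532 : act 6 n25036 = n51532 := rfl
theorem F81292 : act 5 n51532 = n51269 := d21_6 (iv5 D11849) (iv1 F8486) (iv5 F8493) D11886 D25036 D51532 (iv1 D51269) F39078 F39143 (iv1 D24954)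
theorem F81293 : act 0 n50337 = n51532 := d21_10 F81292 (iv1 D51269) F39078 F39143 (iv1 D24954) D24956 F39147 D29981 F81134 D50337
def n51533 : Q := act 7 n25036
theorem D51533 : act 7 n25036 = n51533 := rfl
theorem F81294 : act 2 n51533 = n25037 := d4_1 D51533 F81290 (iv2 D51528)
def n51534 : Q := act 3 n25037
theorem D51534 : act 3 n25037 = n51534 := rfl
def n51535 : Q := act 4 n25037
theorem D51535 : act 4 n25037 = n51535 := rfl
def n51536 : Q := act 5 n25037
theorem D51536 : act 5 n25037 = n51536 := rfl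
theorem F81295 : act 0 n51536 = n51392 := d21_1 D51536 F81117 (iv6 D50236) (iv1 D24496) (iv6 D11583) (iv5 D5387) (iv1 F8212) (iv5 F18871) D24473 (iv1 F39273)
theorem F81296 : act 6 n51536 = n51362 := d21_3 F38431 (iv1 F39273) D51536 (iv1 F81083) (iv6 F49343) F49342 (iv1 F80873) (iv5 F81292) (iv6 D51532) (iv1 F39272)
def n51537 : Q := act 6 n25037
theorem D51537 : act 6 n25037 = n51537 := rfl
theorem F81297 : act 5 n51537 = n34152 := d21_6 (iv5 D5387) (iv1 F8212) (iv5 F18871) D24473 (iv1 F39273) D51537 (iv1 D34152) (iv5 F38448) (iv6 D24489) (iv1 D11581)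
def n51538 : Q := act 6 n25038
theorem D51538 : act 6 n25038 = n51538 := rfl
theorem F81298 : act 2 n51538 = n50523 := d3_1 D51538 (iv6 D50523) (iv2 F39274)
theorem F81299 : act 3 n51538 = n25389 := d7_1 D51538 (iv6 D25389) (iv3 F39275)
theorem F81300 : act 5 n51538 = n51538 := d12_1 D51538 (iv6 D51538) (iv5 D25038) F22466 D25038
theorem F81301 : act 7 n51538 = n25378 := d14_2 (iv7 F39276) D51538 (iv6 D25378) (iv7 D12058) (iv6 F19964)
def n51539 : Q := act 3 n25039
theorem D51539 : act 3 n25039 = n51539 := rfl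
theorem F81302 : act 4 n51539 = n32097 := d5_2 D25039 D51539 F51038 F45495 F38612
theorem F81303 : act 7 n51539 = n34030 := d8_2 (iv7 F39284) D51539 (iv3 D34030)
theorem F81304 : act 0 n51539 = n28462 := d19_4 D5576 D11889 D25039 D51539 (iv5 D28462) (iv4 D13569) F10526 (iv1 F9076) (iv5 D5874) (iv4 D2467) (iv3 F3845) (iv1 F5161) (iv5 F10191) F9935 F2567 F2559 (iv5 D1270) F4868 D2315
theorem F81305 : act 5 n32114 = n51539 := d13_3 F81303 F53381 (iv7 F51064)
theorem F81306 : act 0 n32189 = n51539 := d20_7 (iv4 D13429) F19487 D24325 D49883 F78877 F51137 D32189 F81302 F51038 (iv1 D28136)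
theorem F81307 : act 3 n50761 = n32188 := d20_9 D32189 F81306 F81302 F51038 (iv1 D28136) (iv3 F38686) (iv4 D24710) D24707 D50761 (iv1 D32188)
theorem E8225 : n50738 = n24707 := (c19_2 D24698 D50738 D50761 F81307 (iv1 D32188) (iv5 D15189) (iv4 D7205) F5304 D3319 F5306 (iv4 D2849) (iv3 F4422) D6432 F10474 F10206 F5049 (iv1 F5078) F5079 (iv4 F8245) D11692)
theorem E8226 : n50762 = n24698 := ((D50762).symm.trans (sb E8225 (iv5 D50738)))
theorem F81308 : act 5 n24698 = n24707 := (sb E8226 (iv5 D50762))
theorem F81310 : act 5 n50760 = n50736 := d6_2 F81308 D50760 (iv3 D50736)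
theorem F81311 : act 5 n50764 = n50740 := d13_3 (iv7 D50740) F81308 D50764
theorem E8227 : n50743 = n24708 := (c2_3 F81311 F80124 D50743 (iv2 F80141))
theorem E8228 : n50767 = n24699 := ((D50767).symm.trans (sb E8227 (iv5 D50743)))
theorem F81312 : act 5 n24699 = n24708 := (sb E8228 (iv5 D50767))
theorem F81313 : act 5 n50765 = n50741 := d6_2 F81312 D50765 (iv3 D50741)
def n51540 : Q := act 5 n25039
theorem D51540 : act 5 n25039 = n51540 := rfl
theorem F81314 : act 2 n51540 = n50525 := d2_1 D51540 (iv5 D50525) (iv2 F39283)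
theorem F81315 : act 3 n51540 = n32114 := d6_1 D51540 F81305 (iv3 D51539)
theorem F81316 : act 7 n51540 = n34031 := d13_2 (iv7 F39284) D51540 (iv5 D34031)
def n51541 : Q := act 6 n25039
theorem D51541 : act 6 n25039 = n51541 := rfl
theorem F81317 : act 2 n51541 = n50526 := d3_1 D51541 (iv6 D50526) (iv2 F39283)
theorem F81318 : act 4 n51541 = n25040 := d10_1 D51541 (iv6 D25040) D25039
theorem F81319 : act 7 n51541 = n50413 := d14_2 (iv7 F39284) D51541 (iv6 D50413) F38555 (iv6 F26001)
def n51542 : Q := act 0 n25040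
theorem D51542 : act 0 n25040 = n51542 := rfl
theorem F81320 : act 1 n25083 = n51542 := d15_0 (iv0 D51542) F39287 (iv2 F39395)
def n51543 : Q := act 1 n25040
theorem D51543 : act 1 n25040 = n51543 := rfl
theorem F81321 : act 1 n51543 = n25083 := d15_1 D51543 F39398 (iv2 F39285)
def n51544 : Q := act 3 n25041
theorem D51544 : act 3 n25041 = n51544 := rfl
theorem F81322 : act 4 n51544 = n50416 := d5_2 D25041 D51544 (iv3 D50416) (iv4 D24572) (iv3 F19582)
theorem F81323 : act 7 n51544 = n50527 := d8_2 (iv7 F39289) D51544 (iv3 D50527)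
def n51545 : Q := act 6 n25041
theorem D51545 : act 6 n25041 = n51545 := rfl
theorem F81324 : act 2 n51545 = n25052 := d3_1 D51545 (iv6 D25052) (iv2 F39288)
theorem F81325 : act 4 n51545 = n25042 := d10_1 D51545 (iv6 D25042) D25041
def n51546 : Q := act 0 n25042
theorem D51546 : act 0 n25042 = n51546 := rfl
theorem F81326 : act 6 n51546 = n50419 := d21_5 (iv5 D7646) (iv1 F22437) D11895 D25042 D51546 F79778 (iv1 D29545) F23415 (iv6 D11686) (iv1 F22442)
theorem F81327 : act 5 n51546 = n29031 := d21_0 (iv1 D29031) F23075 (iv6 D11940) F11099 (iv6 F11871) (iv5 D7646) (iv1 F22437) D11895 D25042 D51546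
theorem F81328 : act 0 n51546 = n25055 := d21_4 F80030 (iv1 F48337) (iv5 F79778) (iv6 F81326) F39317 (iv5 F79928) (iv1 F79931) (iv5 F80050) (iv6 D50691) (iv1 F80033)
def n51547 : Q := act 1 n25042
theorem D51547 : act 1 n25042 = n51547 := rfl
theorem F81329 : act 1 n51547 = n25055 := d15_1 D51547 (iv7 D25055) (iv2 F39292)
theorem F81330 : act 5 n29030 = n51547 := d21_0 (iv1 D51547) F39294 (iv6 D14297) (iv1 D6826) (iv6 F8925) (iv5 D5800) (iv1 F10277) D6569 D13815 D29030
def n51548 : Q := act 7 n25042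
theorem D51548 : act 7 n25042 = n51548 := rfl
theorem F81331 : act 2 n51548 = n25055 := d4_1 D51548 (iv7 D25055) (iv2 F39292)
theorem F81332 : act 3 n51548 = n50421 := d8_1 D51548 (iv7 D50421) (iv3 F39293)
theorem F81333 : act 5 n51548 = n30119 := d13_1 D51548 (iv7 D30119) (iv5 F39294)
theorem F81334 : act 6 n51548 = n50441 := d14_1 D51548 F79812 (iv6 D24618) (iv7 F19583) D25042
theorem F81335 : act 1 n25054 = n51548 := d15_1 D25054 (iv7 D51548) F39292
theorem F81336 : act 5 n25142 = n29876 := d21_0 (iv1 F48413) (iv5 F81333) F81334 (iv1 D50441) (iv6 D24586) (iv5 F20327) F20329 F10419 D11940 D25142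
theorem F81337 : act 1 n51548 = n25053 := d15_0 (iv0 D25053) D25055 (iv2 F81331)
def n51549 : Q := act 1 n25043
theorem D51549 : act 1 n25043 = n51549 := rfl
theorem F81338 : act 1 n51549 = n25046 := d15_1 D51549 F39307 (iv2 F39295)
theorem F81339 : act 7 n51549 = n30373 := d15_2 F40264 D51549 (iv2 F48805)
theorem F81340 : act 4 n51549 = n48671 := d18_7 F45579 F45577 (iv1 F24063) F23925 (iv5 F22574) D25043 D51549 F76565 F40260
theorem F81341 : act 2 n30374 = n51549 := d1_3 F81340 F76561 (iv4 F48808)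
def n51550 : Q := act 3 n25043
theorem D51550 : act 3 n25043 = n51550 := rfl
theorem F81342 : act 4 n51550 = n51011 := d5_2 D25043 D51550 (iv3 D51011) F38836 F24058
theorem F81343 : act 7 n51550 = n50530 := d8_2 (iv7 F39296) D51550 (iv3 D50530)
theorem F81344 : act 5 n32151 = n51550 := d13_3 F81343 (iv5 F79906) (iv7 F51114)
def n51551 : Q := act 5 n25043
theorem D51551 : act 5 n25043 = n51551 := rfl
theorem F81345 : act 2 n51551 = n30376 := d2_1 D51551 (iv5 D30376) (iv2 F39295)
theorem F81346 : act 3 n51551 = n32151 := d6_1 D51551 F81344 (iv3 D51550)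
theorem F81347 : act 7 n51551 = n50531 := d13_2 (iv7 F39296) D51551 (iv5 D50531)
theorem F81348 : act 4 n51551 = n32155 := d16_2 D25043 D51551 (iv5 F51122) F39687 F38621 F24060 (iv5 F22585) (iv7 F22586) F22575
def n51552 : Q := act 6 n25043
theorem D51552 : act 6 n25043 = n51552 := rfl
theorem F81349 : act 2 n51552 = n30371 := d3_1 D51552 F48801 (iv2 F39295)
theorem F81350 : act 4 n51552 = n25044 := d10_1 D51552 (iv6 D25044) D25043
def n51553 : Q := act 0 n25044
theorem D51553 : act 0 n25044 = n51553 := rfl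
def n51554 : Q := act 1 n25044
theorem D51554 : act 1 n25044 = n51554 := rfl
theorem F81351 : act 1 n51554 = n30372 := d15_1 D51554 (iv7 D30372) (iv2 F39297)
theorem F81352 : act 5 n30434 = n51554 := d21_6 (iv5 F24090) (iv1 F24093) (iv5 D6908) D6909 D14453 D30434 (iv1 D51554) F39298 (iv6 D14316) (iv1 F23916)
def n51555 : Q := act 7 n25044
theorem D51555 : act 7 n25044 = n51555 := rfl
theorem F81353 : act 2 n51555 = n30372 := d4_1 D51555 (iv7 D30372) (iv2 F39297)
theorem F81354 : act 5 n51555 = n30163 := d13_1 D51555 (iv7 D30163) (iv5 F39298)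
theorem F81355 : act 6 n51555 = n50533 := d14_1 D51555 (iv7 D50533) (iv6 D24621) F22589 D25044
theorem F81356 : act 1 n30372 = n51553 := d15_0 (iv0 D51553) D51555 F81353
theorem F81357 : act 1 n30370 = n51555 := d15_1 D30370 (iv7 D51555) F39297
theorem E8229 : n50533 = n25097 := ((c21_5 (iv5 D11914) (iv1 D5590) D5592 D11920 D25097 (iv6 F81355) F81354 (iv1 F48517) (iv5 F38647) (iv6 D24646) (iv1 F19631))).symm
theorem F81358 : act 5 n25097 = n34078 := (sb E8229 F79909)
theorem F81359 : act 6 n25097 = n51555 := (sb E8229 (iv6 F81355))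
theorem F81360 : act 7 n25097 = n24621 := (sb E8229 (iv7 D50533))
theorem E8230 : n30405 = n30244 := (c21_1 (iv5 F53498) (iv1 D30244) (iv5 F37825) (iv6 D24137) F18505 D14560 F24221 D25097 F81358 F53490 (iv1 F53497))
theorem F81361 : act 5 n30244 = n34084 := (sb E8230 F53498)
theorem F81362 : act 6 n30244 = n14441 := (sb E8230 (iv6 D30405))
theorem F81363 : act 6 n25827 = n34084 := d21_5 F11219 D11921 (iv5 F19655) D12265 D25827 (iv5 F81361) (iv1 D30244) (iv5 F37825) (iv6 D24137) F18505
theorem F81364 : act 1 n51555 = n30369 := d15_0 (iv0 D30369) D30372 (iv2 F81353)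
def n51556 : Q := act 4 n25045
theorem D51556 : act 4 n25045 = n51556 := rfl
theorem F81365 : act 2 n51556 = n27966 := d1_1 D51556 F45221 (iv2 F39301)
theorem F81366 : act 7 n51556 = n27965 := d11_2 (iv7 F39300) D51556 F45218
theorem F81367 : act 0 n51556 = n27942 := d18_2 (iv1 F39305) D51556 (iv4 D27942) (iv5 D13327) (iv4 F9860) F22454 (iv4 F7533) (iv0 F22459) D13351
theorem F81368 : act 1 n51556 = n27944 := d18_6 D12362 F36867 (iv1 F47941) F47943 (iv5 F39299) D51556 (iv4 D27944) F22177 F19069
def n51557 : Q := act 3 n25046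
theorem D51557 : act 3 n25046 = n51557 := rfl
theorem F81369 : act 7 n51557 = n30375 := d8_2 (iv7 F39307) D51557 (iv3 D30375)
def n51558 : Q := act 5 n25046
theorem D51558 : act 5 n25046 = n51558 := rfl
theorem F81370 : act 2 n51558 = n50531 := d2_1 D51558 (iv5 D50531) (iv2 F39306)
theorem F81371 : act 7 n51558 = n30376 := d13_2 (iv7 F39307) D51558 (iv5 D30376)
def n51559 : Q := act 6 n25046
theorem D51559 : act 6 n25046 = n51559 := rfl
theorem F81372 : act 2 n51559 = n50532 := d3_1 D51559 (iv6 D50532) (iv2 F39306)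
theorem F81373 : act 4 n51559 = n25047 := d10_1 D51559 (iv6 D25047) D25046
def n51560 : Q := act 1 n25047
theorem D51560 : act 1 n25047 = n51560 := rfl
theorem F81374 : act 1 n51560 = n25097 := d15_1 D51560 F81360 (iv2 F39308)
theorem F81375 : act 7 n51560 = n25085 := d15_2 (iv0 F39309) D51560 F39403
theorem F81376 : act 2 n25098 = n51560 := d4_3 F81375 F39403 D25098
theorem F81377 : act 3 n50441 = n51560 := d8_3 F81375 F39404 (iv7 F79812)
theorem F81378 : act 6 n50421 = n51560 := d14_5 F81375 (iv6 D25085) F19634 D24573 D50421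
def n51561 : Q := act 7 n25047
theorem D51561 : act 7 n25047 = n51561 := rfl
theorem F81379 : act 2 n51561 = n25097 := d4_1 D51561 F81360 (iv2 F39308)
theorem F81380 : act 3 n51561 = n48646 := d8_1 D51561 F76520 F40188
theorem F81381 : act 6 n51561 = n30372 := d14_1 D51561 (iv7 D30372) F24065 F22586 D25047
theorem F81382 : act 1 n25098 = n51561 := d15_1 F39437 (iv7 D51561) F39308
theorem F81383 : act 1 n51561 = n25085 := d15_1 F81382 (iv7 F81375) (iv2 F81376)
def n51562 : Q := act 3 n25048
theorem D51562 : act 3 n25048 = n51562 := rfl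
theorem F81384 : act 7 n51562 = n50534 := d8_2 F39835 D51562 (iv3 D50534)
def n51563 : Q := act 6 n25048
theorem D51563 : act 6 n25048 = n51563 := rfl
theorem F81385 : act 2 n51563 = n50539 := d3_1 D51563 (iv6 D50539) F39833
def n51564 : Q := act 3 n25049
theorem D51564 : act 3 n25049 = n51564 := rfl
theorem F81386 : act 7 n51564 = n50537 := d8_2 (iv7 F39831) D51564 (iv3 D50537)
def n51565 : Q := act 6 n25049
theorem D51565 : act 6 n25049 = n51565 := rfl
theorem F81387 : act 2 n51565 = n50536 := d3_1 D51565 (iv6 D50536) (iv2 F39834)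
def n51566 : Q := act 0 n25050
theorem D51566 : act 0 n25050 = n51566 := rfl
theorem F81388 : act 1 n50542 = n51566 := d15_0 (iv0 D51566) F39313 D50542
def n51567 : Q := act 1 n25050
theorem D51567 : act 1 n25050 = n51567 := rfl
theorem F81389 : act 4 n51029 = n51567 := d20_6 (iv4 D11728) (iv1 F8279) D5497 D11760 D24821 D51029 (iv1 D51567) F39312 (iv3 D11909) (iv1 F19074)
def n51568 : Q := act 2 n25050
theorem D51568 : act 2 n25050 = n51568 := rfl
theorem F81390 : act 4 n51568 = n25069 := d1_2 (iv4 F39312) D51568 (iv2 D25069)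
theorem F81391 : act 7 n51568 = n50542 := d4_2 (iv7 F39313) D51568 (iv2 D50542)
theorem F81392 : act 1 n51568 = n50540 := d15_0 (iv0 D50540) (iv7 F39313) D51568
theorem F81393 : act 1 n51567 = n50542 := d15_1 D51567 (iv7 F81391) (iv2 D51568)
theorem F81394 : act 1 n50541 = n51568 := d15_1 D50541 F81391 (iv2 D50542)
def n51569 : Q := act 5 n25050
theorem D51569 : act 5 n25050 = n51569 := rfl
theorem F81395 : act 3 n51569 = n25051 := d6_1 D51569 (iv5 D25051) D25050
theorem F81396 : act 7 n51569 = n50543 := d13_2 (iv7 F39313) D51569 (iv5 D50543)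
def n51570 : Q := act 6 n25050
theorem D51570 : act 6 n25050 = n51570 := rfl
def n51571 : Q := act 0 n25051
theorem D51571 : act 0 n25051 = n51571 := rfl
theorem F81399 : act 5 n51571 = n25110 := d17_3 (iv1 D25049) D25051 D51571 (iv4 F39644) (iv5 D25192) (iv0 F19726) D23730 F48793 F39830
theorem F81400 : act 1 n50528 = n51571 := d15_0 (iv0 D51571) F39314 (iv2 F79901)
theorem F81401 : act 4 n51571 = n49886 := d18_7 (iv1 F39682) (iv4 D25201) (iv1 D11960) D11961 D25206 (iv4 F79902) F81400 (iv0 F81149) (iv5 D51402)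
theorem F81402 : act 2 n50546 = n51571 := d1_3 F81401 F78879 F79918
theorem F81403 : act 7 n50545 = n51571 := d11_0 F81401 (iv7 F80433) F80432
def n51572 : Q := act 1 n25051
theorem D51572 : act 1 n25051 = n51572 := rfl
theorem F81404 : act 1 n51572 = n50528 := d15_1 D51572 (iv7 F80483) F80481
theorem F81405 : act 7 n51572 = n50546 := d15_2 (iv0 D51571) D51572 F81402
theorem F81406 : act 5 n51572 = n25111 := d17_7 (iv1 F22452) (iv5 D7650) (iv1 F22449) D5580 D11899 D25051 D51572 F39470 (iv4 D24673)
theorem F81407 : act 2 n50545 = n51572 := d2_3 F81406 F39472 (iv5 F79916)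
def n51573 : Q := act 6 n25051
theorem D51573 : act 6 n25051 = n51573 := rfl
def n51574 : Q := act 0 n25052
theorem D51574 : act 0 n25052 = n51574 := rfl
def n51575 : Q := act 1 n25052
theorem D51575 : act 1 n25052 = n51575 := rfl
def n51576 : Q := act 5 n25052
theorem D51576 : act 5 n25052 = n51576 := rfl
def n51577 : Q := act 7 n25052
theorem D51577 : act 7 n25052 = n51577 := rfl
theorem F81408 : act 4 n51577 = n25055 := d11_1 D51577 (iv7 D25055) (iv4 F39315)
theorem F81409 : act 6 n51577 = n50552 := d14_1 D51577 (iv7 D50552) (iv6 D24626) (iv7 F19590) D25052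
def n51578 : Q := act 2 n25053
theorem D51578 : act 2 n25053 = n51578 := rfl
theorem F81410 : act 6 n51578 = n50461 := d3_2 (iv6 F48334) D51578 (iv2 D50461)
theorem F81411 : act 7 n25054 = n51578 := d15_2 (iv0 D25053) D25054 (iv2 D51578)
def n51579 : Q := act 3 n25053
theorem D51579 : act 3 n25053 = n51579 := rfl
theorem F81412 : act 6 n51579 = n50462 := d7_2 (iv6 F48334) D51579 (iv3 D50462)
def n51580 : Q := act 4 n25053
theorem D51580 : act 4 n25053 = n51580 := rfl
theorem F81413 : act 6 n51580 = n50463 := d10_2 (iv6 F48334) D51580 (iv4 D50463)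
def n51581 : Q := act 5 n25053
theorem D51581 : act 5 n25053 = n51581 := rfl
theorem F81414 : act 0 n51581 = n25767 := d21_1 D51581 F40713 (iv6 D25136) (iv1 F20248) (iv6 F11875) (iv5 D7650) (iv1 F22449) D5580 D11900 D25053
theorem F81415 : act 1 n51581 = n29032 := d15_1 (iv0 F81414) (iv7 D29032) (iv2 F40711)
def n51582 : Q := act 7 n25053
theorem D51582 : act 7 n25053 = n51582 := rfl
theorem F81416 : act 2 n51582 = n25054 := d4_1 D51582 F81411 (iv2 D51578)
def n51583 : Q := act 3 n25054
theorem D51583 : act 3 n25054 = n51583 := rfl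
def n51584 : Q := act 4 n25054
theorem D51584 : act 4 n25054 = n51584 := rfl
def n51585 : Q := act 5 n25054
theorem D51585 : act 5 n25054 = n51585 := rfl
theorem F81417 : act 0 n25767 = n51585 := d21_10 (iv5 D51585) (iv1 D25054) (iv5 F23700) (iv6 D14192) F22539 (iv6 F8920) (iv5 D5796) D5794 D12233 D25767
theorem F81418 : act 6 n30075 = n51585 := d21_5 (iv5 D3077) D3075 D6800 D14277 D30075 (iv5 D51585) (iv1 D25054) (iv5 F23700) (iv6 D14192) F22539
def n51586 : Q := act 6 n25054
theorem D51586 : act 6 n25054 = n51586 := rfl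
theorem F81419 : act 5 n51586 = n50467 := d12_1 D51586 (iv6 D50467) (iv5 F48331) F81418 (iv5 D51585)
theorem F81420 : act 7 n51586 = n50467 := d14_2 (iv7 F81411) D51586 (iv6 D50467) F79831 (iv6 F81410)
def n51587 : Q := act 3 n25058
theorem D51587 : act 3 n25058 = n51587 := rfl
theorem F81421 : act 4 n51587 = n25060 := d5_2 D25058 D51587 (iv3 D25060) (iv4 D11905) D11904
theorem F81422 : act 7 n51587 = n50207 := d8_2 (iv7 F39332) D51587 (iv3 D50207)
def n51588 : Q := act 6 n25058
theorem D51588 : act 6 n25058 = n51588 := rfl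
theorem F81423 : act 2 n51588 = n50203 := d3_1 D51588 (iv6 D50203) (iv2 F39331)
theorem F81424 : act 4 n51588 = n25059 := d10_1 D51588 (iv6 D25059) D25058
def n51589 : Q := act 0 n25059
theorem D51589 : act 0 n25059 = n51589 := rfl
theorem F81425 : act 6 n51589 = n51531 := d21_5 D11613 F24219 (iv5 F19596) D25059 D51589 (iv5 D51531) (iv1 F39272) F38431 (iv6 D24473) (iv1 F18873)
theorem F81426 : act 1 n50206 = n51589 := d15_0 (iv0 D51589) (iv7 F81192) F81189
def n51590 : Q := act 1 n25059
theorem D51590 : act 1 n25059 = n51590 := rfl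
theorem F81427 : act 1 n51590 = n50206 := d15_1 D51590 (iv7 D50206) (iv2 F39333)
def n51591 : Q := act 0 n25060
theorem D51591 : act 0 n25060 = n51591 := rfl
theorem F81428 : act 1 n50470 = n51591 := d15_0 (iv0 D51591) F39337 D50470
def n51592 : Q := act 1 n25060
theorem D51592 : act 1 n25060 = n51592 := rfl
def n51593 : Q := act 2 n25060
theorem D51593 : act 2 n25060 = n51593 := rfl
theorem F81429 : act 3 n51593 = n30940 := d0_2 D25060 D51593 (iv2 D30940) (iv3 D14647) (iv2 F19602)
theorem F81430 : act 5 n51593 = n30940 := d2_2 (iv5 F39336) D51593 (iv2 D30940)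
theorem F81431 : act 7 n51593 = n50470 := d4_2 (iv7 F39337) D51593 (iv2 D50470)
theorem F81432 : act 1 n51593 = n50468 := d15_0 (iv0 D50468) (iv7 F39337) D51593
theorem F81433 : act 1 n51592 = n50470 := d15_1 D51592 (iv7 F81431) (iv2 D51593)
theorem F81434 : act 1 n50469 = n51593 := d15_1 D50469 F81431 (iv2 D50470)
def n51594 : Q := act 6 n25060
theorem D51594 : act 6 n25060 = n51594 := rfl
theorem F81435 : act 3 n51594 = n25061 := d7_1 D51594 (iv6 D25061) D25060
def n51595 : Q := act 7 n25061
theorem D51595 : act 7 n25061 = n51595 := rfl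
theorem F81436 : act 2 n51595 = n30937 := d4_1 D51595 (iv7 D30937) (iv2 F39338)
theorem F81437 : act 4 n51595 = n25064 := d11_1 D51595 (iv7 D25064) (iv4 F39339)
theorem F81439 : act 1 n30934 = n51595 := d15_1 D30934 (iv7 D51595) F39338
theorem F81440 : act 1 n51595 = n30933 := d15_1 F81439 F78686 (iv2 F78683)
def n51596 : Q := act 3 n25062
theorem D51596 : act 3 n25062 = n51596 := rfl
theorem F81441 : act 7 n51596 = n30931 := d8_2 F49028 D51596 (iv3 D30931)
def n51597 : Q := act 3 n25063
theorem D51597 : act 3 n25063 = n51597 := rfl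
theorem F81442 : act 5 n51597 = n31113 := d6_2 F39341 D51597 F49484
theorem F81443 : act 6 n51597 = n30931 := d7_2 (iv6 F39541) D51597 (iv3 D30931)
theorem F81444 : act 7 n51597 = n30929 := d8_2 (iv7 F49029) D51597 (iv3 D30929)
def n51598 : Q := act 0 n25065
theorem D51598 : act 0 n25065 = n51598 := rfl
theorem F81445 : act 1 n30940 = n51598 := d15_0 (iv0 D51598) F39349 D30940
def n51599 : Q := act 1 n25065
theorem D51599 : act 1 n25065 = n51599 := rfl
def n51600 : Q := act 2 n25065
theorem D51600 : act 2 n25065 = n51600 := rfl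
theorem F81446 : act 3 n51600 = n50470 := d0_2 D25065 D51600 (iv2 D50470) (iv3 D24595) (iv2 F19609)
theorem F81447 : act 5 n51600 = n50470 := d2_2 (iv5 F39348) D51600 (iv2 D50470)
theorem F81448 : act 7 n51600 = n30940 := d4_2 (iv7 F39349) D51600 (iv2 D30940)
theorem F81449 : act 1 n51600 = n30938 := d15_0 (iv0 D30938) (iv7 F39349) D51600
theorem F81450 : act 1 n51599 = n30940 := d15_1 D51599 (iv7 F81448) (iv2 D51600)
def n51601 : Q := act 6 n25065
theorem D51601 : act 6 n25065 = n51601 := rfl
theorem F81452 : act 3 n51601 = n25066 := d7_1 D51601 (iv6 D25066) D25065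
theorem F81453 : act 7 n50581 = n51601 := d8_0 F81452 (iv7 F39354) D50581
def n51602 : Q := act 5 n25066
theorem D51602 : act 5 n25066 = n51602 := rfl
theorem F81454 : act 2 n51602 = n50472 := d2_1 D51602 (iv5 D50472) (iv2 F39350)
theorem F81455 : act 6 n51602 = n50472 := d12_2 D25066 D51602 (iv5 D50472) (iv6 D24596) (iv5 F19610)
theorem F81456 : act 7 n51602 = n50582 := d13_2 F39354 D51602 (iv5 D50582)
def n51603 : Q := act 2 n25067
theorem D51603 : act 2 n25067 = n51603 := rfl
theorem F81457 : act 7 n25068 = n51603 := d15_2 (iv0 D25067) D25068 (iv2 D51603)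
def n51604 : Q := act 3 n25067
theorem D51604 : act 3 n25067 = n51604 := rfl
def n51605 : Q := act 4 n25067
theorem D51605 : act 4 n25067 = n51605 := rfl
def n51606 : Q := act 5 n25067
theorem D51606 : act 5 n25067 = n51606 := rfl
def n51607 : Q := act 6 n25067
theorem D51607 : act 6 n25067 = n51607 := rfl
def n51608 : Q := act 7 n25067
theorem D51608 : act 7 n25067 = n51608 := rfl
theorem F81458 : act 2 n51608 = n25068 := d4_1 D51608 F81457 (iv2 D51603)
def n51609 : Q := act 3 n25068
theorem D51609 : act 3 n25068 = n51609 := rfl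
def n51610 : Q := act 4 n25068
theorem D51610 : act 4 n25068 = n51610 := rfl
def n51611 : Q := act 5 n25068
theorem D51611 : act 5 n25068 = n51611 := rfl
def n51612 : Q := act 6 n25068
theorem D51612 : act 6 n25068 = n51612 := rfl
def n51613 : Q := act 6 n25069
theorem D51613 : act 6 n25069 = n51613 := rfl
def n51618 : Q := act 0 n25073
theorem D51618 : act 0 n25073 = n51618 := rfl
theorem F81464 : act 5 n51618 = n25149 := d17_3 F79859 D25073 D51618 F79883 (iv5 F23307) (iv0 D13781) F10617 D11736 D24794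
def n51619 : Q := act 1 n25073
theorem D51619 : act 1 n25073 = n51619 := rfl
theorem F81468 : act 1 n51619 = n50506 := d15_1 D51619 (iv7 D50506) (iv2 F39363)
theorem F81470 : act 5 n51619 = n25150 := d17_7 (iv1 F19702) F23702 (iv1 D14194) F10996 (iv4 F19620) D25073 D51619 F39569 F38679
def n51620 : Q := act 4 n25073
theorem D51620 : act 4 n25073 = n51620 := rfl
def n51622 : Q := act 0 n25076
theorem D51622 : act 0 n25076 = n51622 := rfl
theorem F81477 : act 1 n50517 = n51622 := d15_0 (iv0 D51622) (iv7 F39383) D50517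
def n51623 : Q := act 1 n25076
theorem D51623 : act 1 n25076 = n51623 := rfl
def n51624 : Q := act 2 n25076
theorem D51624 : act 2 n25076 = n51624 := rfl
theorem F81478 : act 3 n51624 = n50509 := d0_2 D25076 D51624 (iv2 D50509) (iv3 D24608) (iv2 F39381)
theorem F81479 : act 6 n51624 = n50509 := d3_2 (iv6 F39372) D51624 (iv2 D50509)
theorem F81480 : act 7 n51624 = n50517 := d4_2 F39383 D51624 (iv2 D50517)
theorem F81482 : act 1 n51623 = n50517 := d15_1 D51623 (iv7 F81480) (iv2 D51624)
def n51625 : Q := act 4 n25076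
theorem D51625 : act 4 n25076 = n51625 := rfl
theorem F81484 : act 6 n51625 = n50510 := d10_2 (iv6 F39372) D51625 (iv4 D50510)
theorem F81485 : act 7 n51625 = n50518 := d11_2 F39383 D51625 (iv4 D50518)
def n51626 : Q := act 3 n25077
theorem D51626 : act 3 n25077 = n51626 := rfl
def n51629 : Q := act 2 n25079
theorem D51629 : act 2 n25079 = n51629 := rfl
theorem F81489 : act 3 n51629 = n50517 := d0_2 D25079 D51629 (iv2 D50517) (iv3 D24611) F39379
theorem F81490 : act 7 n51629 = n50509 := d4_2 (iv7 F39390) D51629 (iv2 D50509)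
theorem F81491 : act 1 n51629 = n50507 := d15_0 (iv0 D50507) (iv7 F39390) D51629
theorem F81493 : act 1 n50508 = n51629 := d15_1 D50508 F81490 (iv2 D50509)
def n51630 : Q := act 4 n25079
theorem D51630 : act 4 n25079 = n51630 := rfl
theorem F81494 : act 7 n51630 = n50510 := d11_2 (iv7 F39390) D51630 (iv4 D50510)
def n51631 : Q := act 6 n25079
theorem D51631 : act 6 n25079 = n51631 := rfl
theorem F81495 : act 3 n51631 = n25081 := d7_1 D51631 (iv6 D25081) D25079
theorem F81496 : act 5 n51631 = n50519 := d12_1 D51631 (iv6 D50519) (iv5 F46692) (iv6 F47431) F47430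
def n51632 : Q := act 3 n25080
theorem D51632 : act 3 n25080 = n51632 := rfl
def n51633 : Q := act 6 n25080
theorem D51633 : act 6 n25080 = n51633 := rfl
theorem F81500 : act 4 n51633 = n25081 := d10_1 D51633 (iv6 D25081) D25080
theorem F81501 : act 5 n51633 = n51633 := d12_1 D51633 (iv6 D51633) (iv5 F80150) F80151 F80150
theorem F81503 : act 0 n51633 = n50864 := d21_10 (iv5 D50864) (iv1 F38711) F19031 (iv6 D11701) (iv1 F8249) D11695 D24714 D50779 F80150 D51633
theorem F81504 : act 0 n50864 = n51633 := d21_1 D50864 F81501 (iv6 D51633) F80090 (iv6 D11969) F8640 (iv1 D5605) (iv5 F8253) D11702 D24736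
def n51634 : Q := act 3 n25082
theorem D51634 : act 3 n25082 = n51634 := rfl
theorem F81505 : act 4 n51634 = n48666 := d5_2 D25082 D51634 F76553 F36925 (iv3 F19628)
theorem F81506 : act 7 n51634 = n30202 := d8_2 (iv7 F39394) D51634 (iv3 D30202)
def n51635 : Q := act 5 n25082
theorem D51635 : act 5 n25082 = n51635 := rfl
theorem F81507 : act 2 n51635 = n48839 := d2_1 D51635 F76911 (iv2 F39393)
theorem F81508 : act 4 n51635 = n48784 := d9_1 D51635 (iv5 D48784) (iv4 D23791) (iv5 D11149) F7583 D6844 D14332 D30200 (iv4 F76913) F76914 F37130 F18116 F10120 D11914 D25082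
theorem F81509 : act 7 n51635 = n30203 := d13_2 (iv7 F39394) D51635 (iv5 D30203)
def n51636 : Q := act 6 n25082
theorem D51636 : act 6 n25082 = n51636 := rfl
theorem F81510 : act 2 n51636 = n50413 := d3_1 D51636 (iv6 D50413) (iv2 F39393)
theorem F81511 : act 4 n51636 = n25083 := d10_1 D51636 (iv6 D25083) D25082
theorem F81512 : act 7 n51636 = n50526 := d14_2 (iv7 F39394) D51636 (iv6 D50526) F38616 F26003
def n51637 : Q := act 3 n25084
theorem D51637 : act 3 n25084 = n51637 := rfl
theorem F81513 : act 4 n51637 = n50527 := d5_2 D25084 D51637 (iv3 D50527) (iv4 D24617) (iv3 F19633)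
theorem F81514 : act 7 n51637 = n50416 := d8_2 (iv7 F39400) D51637 (iv3 D50416)
def n51638 : Q := act 5 n25084
theorem D51638 : act 5 n25084 = n51638 := rfl
theorem F81515 : act 2 n51638 = n25095 := d2_1 D51638 (iv5 D25095) (iv2 F39399)
theorem F81516 : act 4 n51638 = n48837 := d9_1 D51638 F76908 (iv4 D24578) (iv5 D11626) (iv4 D5401) D5402 D11630 D24590 F76910 F76909 F49724 (iv5 D24152) F18522 D11915 D25084
theorem F81517 : act 7 n51638 = n50417 := d13_2 (iv7 F39400) D51638 (iv5 D50417)
theorem F81518 : act 0 n51638 = n50455 := d17_2 (iv1 F39402) D51638 F79829 (iv4 F38648) (iv5 D24323) F22219 D27975 F49294 (iv4 F49292)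
theorem F81519 : act 1 n51638 = n50454 := d17_6 (iv1 F20250) (iv5 D11621) (iv1 F8530) D11915 D25084 D51638 F79828 (iv0 D24647) (iv4 D11674)
def n51639 : Q := act 6 n25084
theorem D51639 : act 6 n25084 = n51639 := rfl
theorem F81520 : act 2 n51639 = n25096 := d3_1 D51639 (iv6 D25096) (iv2 F39399)
theorem F81521 : act 4 n51639 = n25085 := d10_1 D51639 (iv6 D25085) D25084
theorem F81522 : act 0 n50536 = n51639 := d21_4 D25113 (iv1 F79910) (iv5 D50535) D50536 (iv6 D51639) D51638 F81518 F79829 (iv6 F39473) (iv1 D25111)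
def n51640 : Q := act 0 n25088
theorem D51640 : act 0 n25088 = n51640 := rfl
theorem F81523 : act 4 n51640 = n27940 := d18_3 D11917 D25088 D51640 (iv5 D27940) F22160 (iv0 D11147) F7583 F10117 D5592
theorem F81524 : act 1 n25090 = n51640 := d15_0 (iv0 D51640) F39420 (iv2 F39425)
theorem F81525 : act 2 n48789 = n51640 := d1_3 F81523 F45141 D48789
theorem F81526 : act 7 n27977 = n51640 := d11_0 F81523 F45143 D27977
def n51641 : Q := act 1 n25088
theorem D51641 : act 1 n25088 = n51641 := rfl
theorem F81527 : act 1 n51641 = n25090 := d15_1 D51641 F39426 (iv2 F39419)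
theorem F81528 : act 7 n51641 = n48789 := d15_2 (iv0 D51640) D51641 F81525
theorem F81529 : act 4 n51641 = n27975 := d18_7 F39881 (iv4 D25271) (iv1 F39827) F39823 F22279 D25088 D51641 F49294 F49290
theorem F81530 : act 2 n27977 = n51641 := d1_3 F81529 F45229 D27977
def n51642 : Q := act 3 n25088
theorem D51642 : act 3 n25088 = n51642 := rfl
theorem F81531 : act 4 n51642 = n50911 := d5_2 D25088 D51642 (iv3 D50911) (iv4 F39416) (iv3 D25087)
theorem F81532 : act 7 n51642 = n50432 := d8_2 (iv7 F39420) D51642 (iv3 D50432)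
def n51643 : Q := act 5 n25088
theorem D51643 : act 5 n25088 = n51643 := rfl
theorem F81533 : act 2 n51643 = n50439 := d2_1 D51643 (iv5 D50439) (iv2 F39419)
theorem F81534 : act 7 n51643 = n50433 := d13_2 (iv7 F39420) D51643 (iv5 D50433)
def n51644 : Q := act 6 n25088
theorem D51644 : act 6 n25088 = n51644 := rfl
theorem F81535 : act 2 n51644 = n50440 := d3_1 D51644 (iv6 D50440) (iv2 F39419)
theorem F81536 : act 4 n51644 = n25089 := d10_1 D51644 (iv6 D25089) D25088
theorem F81537 : act 7 n50554 = n51644 := d11_0 F81536 (iv7 F79816) D50554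
def n51645 : Q := act 3 n25090
theorem D51645 : act 3 n25090 = n51645 := rfl
theorem F81538 : act 7 n51645 = n50438 := d8_2 (iv7 F39426) D51645 (iv3 D50438)
def n51646 : Q := act 5 n25090
theorem D51646 : act 5 n25090 = n51646 := rfl
theorem F81539 : act 2 n51646 = n50433 := d2_1 D51646 (iv5 D50433) (iv2 F39425)
theorem F81540 : act 7 n51646 = n50439 := d13_2 (iv7 F39426) D51646 (iv5 D50439)
def n51647 : Q := act 6 n25090
theorem D51647 : act 6 n25090 = n51647 := rfl
theorem F81541 : act 2 n51647 = n50434 := d3_1 D51647 (iv6 D50434) (iv2 F39425)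
theorem F81542 : act 4 n51647 = n25091 := d10_1 D51647 (iv6 D25091) D25090
def n51648 : Q := act 0 n25091
theorem D51648 : act 0 n25091 = n51648 := rfl
def n51649 : Q := act 1 n25091
theorem D51649 : act 1 n25091 = n51649 := rfl
theorem F81543 : act 1 n51649 = n50437 := d15_1 D51649 (iv7 D50437) (iv2 F39427)
def n51650 : Q := act 7 n25091
theorem D51650 : act 7 n25091 = n51650 := rfl
theorem F81544 : act 2 n51650 = n50437 := d4_1 D51650 (iv7 D50437) (iv2 F39427)
theorem F81545 : act 5 n51650 = n25819 := d13_1 D51650 (iv7 D25819) (iv5 F39428)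
theorem F81546 : act 6 n51650 = n50442 := d14_1 D51650 (iv7 D50442) (iv6 D24586) F20287 D25091
theorem F81547 : act 1 n50437 = n51648 := d15_0 (iv0 D51648) D51650 F81544
theorem F81548 : act 1 n50436 = n51650 := d15_1 D50436 (iv7 D51650) F39427
theorem F81549 : act 1 n51650 = n50435 := d15_0 (iv0 D50435) D50437 (iv2 F81544)
def n51651 : Q := act 3 n25092
theorem D51651 : act 3 n25092 = n51651 := rfl
theorem F81550 : act 4 n51651 = n50213 := d5_2 F45232 D51651 (iv3 D50213) F40220 (iv3 F45233)
theorem F81551 : act 7 n51651 = n50443 := d8_2 F39674 D51651 (iv3 D50443)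
def n51652 : Q := act 6 n25092
theorem D51652 : act 6 n25092 = n51652 := rfl
theorem F81552 : act 2 n51652 = n50448 := d3_1 D51652 (iv6 D50448) F39672
theorem F81553 : act 0 n51652 = n50529 := d21_4 D24650 D50607 F79984 D51652 (iv6 D50529) D50528 (iv1 F81404) F81406 F39473 (iv1 D24648)
theorem F81554 : act 1 n51652 = n50552 := d15_1 (iv0 F81553) (iv7 D50552) (iv2 F79903)
def n51653 : Q := act 3 n25093
theorem D51653 : act 3 n25093 = n51653 := rfl
theorem F81555 : act 7 n51653 = n50446 := d8_2 (iv7 F39670) D51653 (iv3 D50446)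
def n51654 : Q := act 6 n25093
theorem D51654 : act 6 n25093 = n51654 := rfl
theorem F81556 : act 2 n51654 = n50445 := d3_1 D51654 (iv6 D50445) (iv2 F39673)
def n51655 : Q := act 0 n25094
theorem D51655 : act 0 n25094 = n51655 := rfl
theorem F81557 : act 1 n50451 = n51655 := d15_0 (iv0 D51655) F39432 D50451
def n51656 : Q := act 1 n25094
theorem D51656 : act 1 n25094 = n51656 := rfl
theorem F81558 : act 4 n50960 = n51656 := d20_6 (iv4 D11731) (iv1 D5456) D5457 D11733 D24781 D50960 (iv1 D51656) F39431 (iv3 D11924) (iv1 F19085)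
def n51657 : Q := act 2 n25094
theorem D51657 : act 2 n25094 = n51657 := rfl
theorem F81559 : act 4 n51657 = n25102 := d1_2 (iv4 F39431) D51657 (iv2 D25102)
theorem F81560 : act 7 n51657 = n50451 := d4_2 (iv7 F39432) D51657 (iv2 D50451)
theorem F81561 : act 1 n51657 = n50449 := d15_0 (iv0 D50449) (iv7 F39432) D51657
theorem F81562 : act 1 n51656 = n50451 := d15_1 D51656 (iv7 F81560) (iv2 D51657)
theorem F81563 : act 1 n50450 = n51657 := d15_1 D50450 F81560 (iv2 D50451)
def n51658 : Q := act 5 n25094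
theorem D51658 : act 5 n25094 = n51658 := rfl
theorem F81564 : act 3 n51658 = n25095 := d6_1 D51658 (iv5 D25095) D25094
theorem F81565 : act 7 n51658 = n50452 := d13_2 (iv7 F39432) D51658 (iv5 D50452)
def n51659 : Q := act 6 n25094
theorem D51659 : act 6 n25094 = n51659 := rfl
theorem F81566 : act 3 n51659 = n25096 := d7_1 D51659 (iv6 D25096) D25094
theorem F81567 : act 4 n51659 = n25103 := d10_1 D51659 (iv6 D25103) (iv4 F39431)
def n51660 : Q := act 0 n25095
theorem D51660 : act 0 n25095 = n51660 := rfl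
theorem F81568 : act 5 n51660 = n25137 := d17_3 (iv1 D25093) D25095 D51660 (iv4 F45095) (iv5 D27923) (iv0 F22129) D13349 F39675 F39669
theorem F81569 : act 1 n50417 = n51660 := d15_0 (iv0 D51660) F39433 (iv2 F79774)
theorem F81570 : act 2 n50455 = n51660 := d2_3 F81568 (iv2 F39638) (iv5 F79829)
theorem F81571 : act 7 n50454 = n51660 := d13_0 F81568 (iv7 F39640) (iv5 F79828)
def n51661 : Q := act 1 n25095
theorem D51661 : act 1 n25095 = n51661 := rfl
theorem F81572 : act 1 n51661 = n50417 := d15_1 D51661 (iv7 F81517) F81515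
theorem F81573 : act 7 n51661 = n50455 := d15_2 (iv0 D51660) D51661 F81570
theorem F81574 : act 5 n51661 = n25138 := d17_7 (iv1 F19631) (iv5 D11914) (iv1 D5590) D5592 D11919 D25095 D51661 F39554 (iv4 D24645)
theorem F81575 : act 2 n50454 = n51661 := d2_3 F81574 F39639 (iv5 F79828)
def n51662 : Q := act 4 n25095
theorem D51662 : act 4 n25095 = n51662 := rfl
theorem F81576 : act 2 n51662 = n48837 := d1_1 D51662 (iv4 F81516) F81515
theorem F81577 : act 5 n51662 = n25796 := d9_2 D25095 D51662 (iv4 D25796) (iv5 D12249) F10122 D11622 D24572 D50417 F79775 (iv5 D49491) (iv4 D24156) (iv5 D11347) F7799 D5592 D11919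
theorem F81578 : act 7 n51662 = n48838 := d11_2 (iv7 F39433) D51662 (iv4 F76910)
theorem F81579 : act 0 n51662 = n48841 := d17_0 F76914 F37897 D49545 (iv4 F79969) (iv5 D50594) F39553 (iv5 F81568) (iv0 D51660) D51662
theorem F81580 : act 0 n48784 = n51662 := d17_2 F37896 D48784 F81577 (iv4 D25796) (iv5 D12249) (iv0 F19407) D14334 (iv0 F23949) D24178
def n51663 : Q := act 6 n25095
theorem D51663 : act 6 n25095 = n51663 := rfl
def n51664 : Q := act 0 n25096
theorem D51664 : act 0 n25096 = n51664 := rfl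
def n51665 : Q := act 1 n25096
theorem D51665 : act 1 n25096 = n51665 := rfl
def n51666 : Q := act 5 n25096
theorem D51666 : act 5 n25096 = n51666 := rfl
def n51667 : Q := act 7 n25096
theorem D51667 : act 7 n25096 = n51667 := rfl
theorem F81581 : act 4 n51667 = n25098 := d11_1 D51667 (iv7 D25098) (iv4 F39434)
theorem F81582 : act 6 n51667 = n50460 := d14_1 D51667 (iv7 D50460) (iv6 D24591) (iv7 F19642) D25096
theorem F81583 : act 1 n50536 = n51667 := d15_1 (iv0 F81522) (iv7 D51667) (iv2 F81520)
def n51668 : Q := act 3 n25097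
theorem D51668 : act 3 n25097 = n51668 := rfl
theorem F81584 : act 7 n51668 = n50255 := d8_2 (iv7 F81360) D51668 F79632
theorem F81585 : act 1 n50256 = n51668 := d15_1 F81147 F81584 (iv2 F81142)
theorem F81586 : act 2 n51668 = n50254 := d15_3 (iv0 D50254) D50255 (iv7 F81584)
theorem F81587 : act 3 n50254 = n25405 := d0_2 D51668 F81586 (iv2 F76521) (iv3 F81380) F81379
theorem F81588 : act 7 n50254 = n51400 := d4_2 (iv7 F81584) F81586 F81142
theorem F81589 : act 1 n51668 = n50246 := d15_0 (iv0 F81146) (iv7 F81588) (iv2 F81586)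
def n51669 : Q := act 4 n25097
theorem D51669 : act 4 n25097 = n51669 := rfl
theorem F81590 : act 7 n51669 = n50532 := d11_2 (iv7 F81360) D51669 F79908
def n51670 : Q := act 2 n25100
theorem D51670 : act 2 n25100 = n51670 := rfl
theorem F81591 : act 7 n25101 = n51670 := d15_2 (iv0 D25100) D25101 (iv2 D51670)
def n51671 : Q := act 3 n25100
theorem D51671 : act 3 n25100 = n51671 := rfl
def n51672 : Q := act 4 n25100
theorem D51672 : act 4 n25100 = n51672 := rfl
def n51673 : Q := act 5 n25100
theorem D51673 : act 5 n25100 = n51673 := rfl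
def n51674 : Q := act 6 n25100
theorem D51674 : act 6 n25100 = n51674 := rfl
def n51675 : Q := act 7 n25100
theorem D51675 : act 7 n25100 = n51675 := rfl
theorem F81592 : act 2 n51675 = n25101 := d4_1 D51675 F81591 (iv2 D51670)
def n51676 : Q := act 3 n25101
theorem D51676 : act 3 n25101 = n51676 := rfl
def n51677 : Q := act 4 n25101
theorem D51677 : act 4 n25101 = n51677 := rfl
def n51678 : Q := act 5 n25101
theorem D51678 : act 5 n25101 = n51678 := rfl
def n51679 : Q := act 6 n25101
theorem D51679 : act 6 n25101 = n51679 := rfl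
def n51680 : Q := act 6 n25102
theorem D51680 : act 6 n25102 = n51680 := rfl
theorem F81593 : act 2 n51680 = n25103 := d3_1 D51680 (iv6 D25103) D25102
def n51681 : Q := act 0 n25103
theorem D51681 : act 0 n25103 = n51681 := rfl
def n51682 : Q := act 1 n25103
theorem D51682 : act 1 n25103 = n51682 := rfl
def n51683 : Q := act 5 n25103
theorem D51683 : act 5 n25103 = n51683 := rfl
theorem F81595 : act 3 n51683 = n25104 := d6_1 D51683 (iv5 D25104) (iv3 F39450)
def n51684 : Q := act 7 n25103
theorem D51684 : act 7 n25103 = n51684 := rfl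
theorem F81596 : act 3 n51684 = n25105 := d8_1 D51684 (iv7 D25105) (iv3 F39450)
theorem F81597 : act 6 n51684 = n50493 := d14_1 D51684 (iv7 D50493) (iv6 D24602) (iv7 F19663) D25103
def n51685 : Q := act 0 n25104
theorem D51685 : act 0 n25104 = n51685 := rfl
theorem F81598 : act 5 n51685 = n50643 := d17_3 F38794 D25104 D51685 F80005 F45307 (iv0 D14812) F11309 (iv0 F19087) (iv4 F38793)
theorem F81599 : act 0 n51685 = n50580 := d21_7 D50501 (iv1 F80072) F80070 (iv6 F39496) (iv1 F39498) D50643 (iv5 F81598) F79940 (iv6 F39366) (iv1 F39368)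
def n51686 : Q := act 1 n25104
theorem D51686 : act 1 n25104 = n51686 := rfl
theorem F81600 : act 1 n51686 = n50580 := d15_1 D51686 (iv7 D50580) (iv2 F39451)
theorem F81601 : act 5 n50713 = n51686 := d21_6 F19082 (iv1 D11638) (iv5 F8243) D11688 D24687 D50713 (iv1 D51686) (iv5 D25104) (iv6 D11925) (iv1 F19085)
def n51687 : Q := act 4 n25104
theorem D51687 : act 4 n25104 = n51687 := rfl
theorem F81602 : act 2 n51687 = n50579 := d1_1 D51687 (iv4 D50579) (iv2 F39451)
def n51688 : Q := act 7 n25104
theorem D51688 : act 7 n25104 = n51688 := rfl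
theorem F81603 : act 2 n51688 = n50580 := d4_1 D51688 (iv7 D50580) (iv2 F39451)
theorem F81604 : act 5 n51688 = n25105 := d13_1 D51688 (iv7 D25105) D25104
theorem F81605 : act 1 n50578 = n51688 := d15_1 D50578 (iv7 D51688) F39451
theorem F81606 : act 1 n51688 = n50577 := d15_0 (iv0 D50577) D50580 (iv2 F81603)
def n51689 : Q := act 3 n25107
theorem D51689 : act 3 n25107 = n51689 := rfl
theorem F81607 : act 7 n51689 = n50471 := d8_2 (iv7 F39459) D51689 F79833
def n51690 : Q := act 5 n25107
theorem D51690 : act 5 n25107 = n51690 := rfl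
theorem F81608 : act 2 n51690 = n50582 := d2_1 D51690 (iv5 D50582) (iv2 F39458)
def n51691 : Q := act 3 n25108
theorem D51691 : act 3 n25108 = n51691 := rfl
theorem F81610 : act 4 n51691 = n50593 := d5_2 D25108 D51691 (iv3 D50593) (iv4 D24645) (iv3 F19675)
theorem F81611 : act 7 n51691 = n50666 := d8_2 (iv7 F39464) D51691 (iv3 D50666)
def n51692 : Q := act 5 n25108
theorem D51692 : act 5 n25108 = n51692 := rfl
theorem F81612 : act 2 n51692 = n25113 := d2_1 D51692 (iv5 D25113) (iv2 F39463)
theorem F81613 : act 4 n51692 = n28137 := d9_1 D51692 (iv5 D28137) (iv4 D13429) F10409 (iv4 F10366) F10367 D11685 D24678 D50682 F80046 (iv4 D28025) F22241 (iv4 F22360) F22361 D25108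
theorem F81614 : act 7 n51692 = n50667 := d13_2 (iv7 F39464) D51692 (iv5 D50667)
theorem F81615 : act 0 n51692 = n50681 := d17_2 (iv1 F39466) D51692 F80043 (iv4 F39830) F39828 (iv0 F48792) (iv5 F77444) F77446 (iv4 F38672)
theorem F81616 : act 1 n51692 = n50680 := d17_6 D11897 F22574 F22470 F22361 D25108 D51692 F80039 (iv0 D25048) (iv4 D11899)
theorem E8231 : n51665 = n51565 := ((c21_4 D51692 F81615 F80043 D51565 (iv1 D51665) (iv6 D25096) D25095 D51660 F81568 F39641 (iv1 F39466))).symm
theorem F81617 : act 0 n51565 = n25096 := (sb E8231 (iv1 D51665))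
def n51693 : Q := act 6 n25108
theorem D51693 : act 6 n25108 = n51693 := rfl
theorem F81618 : act 2 n51693 = n25114 := d3_1 D51693 (iv6 D25114) (iv2 F39463)
theorem F81619 : act 4 n51693 = n25109 := d10_1 D51693 (iv6 D25109) D25108
def n51694 : Q := act 0 n25109
theorem D51694 : act 0 n25109 = n51694 := rfl
def n51695 : Q := act 1 n25109
theorem D51695 : act 1 n25109 = n51695 := rfl
theorem F81620 : act 1 n51695 = n25117 := d15_1 D51695 (iv7 D25117) (iv2 F39467)
def n51696 : Q := act 7 n25109
theorem D51696 : act 7 n25109 = n51696 := rfl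
theorem F81621 : act 2 n51696 = n25117 := d4_1 D51696 (iv7 D25117) (iv2 F39467)
theorem F81622 : act 3 n51696 = n50598 := d8_1 D51696 (iv7 D50598) (iv3 F39468)
theorem F81623 : act 6 n51696 = n50671 := d14_1 D51696 (iv7 D50671) (iv6 D24674) (iv7 F19676) D25109
theorem F81624 : act 1 n25117 = n51694 := d15_0 (iv0 D51694) D51696 F81621
theorem F81625 : act 1 n25116 = n51696 := d15_1 D25116 (iv7 D51696) F39467
theorem F81626 : act 1 n51696 = n25115 := d15_0 (iv0 D25115) D25117 (iv2 F81621)
def n51697 : Q := act 3 n25110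
theorem D51697 : act 3 n25110 = n51697 := rfl
theorem F81627 : act 7 n51697 = n50672 := d8_2 F39476 D51697 (iv3 D50672)
def n51698 : Q := act 6 n25110
theorem D51698 : act 6 n25110 = n51698 := rfl
theorem F81628 : act 2 n51698 = n50674 := d3_1 D51698 (iv6 D50674) F39475
theorem F81629 : act 7 n51698 = n50600 := d14_2 F39476 D51698 (iv6 D50600) F39640 F39641
def n51699 : Q := act 3 n25111
theorem D51699 : act 3 n25111 = n51699 := rfl
theorem F81630 : act 4 n51699 = n49702 := d5_2 F39471 D51699 (iv3 D49702) (iv4 D24240) (iv3 F37999)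
theorem F81631 : act 6 n51699 = n50601 := d7_2 (iv6 F39473) D51699 (iv3 D50601)
theorem F81632 : act 7 n51699 = n50673 := d8_2 (iv7 F39474) D51699 (iv3 D50673)
def n51700 : Q := act 0 n25112
theorem D51700 : act 0 n25112 = n51700 := rfl
theorem F81633 : act 1 n50677 = n51700 := d15_0 (iv0 D51700) F39478 D50677
def n51701 : Q := act 1 n25112
theorem D51701 : act 1 n25112 = n51701 := rfl
theorem F81634 : act 4 n50760 = n51701 := d20_6 F9874 (iv1 F4324) (iv4 F8246) D11694 D24707 D50760 (iv1 D51701) F39477 (iv3 D11933) (iv1 F9877)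
def n51702 : Q := act 2 n25112
theorem D51702 : act 2 n25112 = n51702 := rfl
theorem F81635 : act 4 n51702 = n25120 := d1_2 (iv4 F39477) D51702 (iv2 D25120)
theorem F81636 : act 7 n51702 = n50677 := d4_2 (iv7 F39478) D51702 (iv2 D50677)
theorem F81637 : act 1 n51702 = n50675 := d15_0 (iv0 D50675) (iv7 F39478) D51702
theorem F81638 : act 1 n51701 = n50677 := d15_1 D51701 (iv7 F81636) (iv2 D51702)
theorem F81639 : act 1 n50676 = n51702 := d15_1 D50676 F81636 (iv2 D50677)
def n51703 : Q := act 5 n25112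
theorem D51703 : act 5 n25112 = n51703 := rfl
theorem F81640 : act 3 n51703 = n25113 := d6_1 D51703 (iv5 D25113) D25112
theorem F81641 : act 7 n51703 = n50678 := d13_2 (iv7 F39478) D51703 (iv5 D50678)
def n51704 : Q := act 6 n25112
theorem D51704 : act 6 n25112 = n51704 := rfl
theorem F81642 : act 3 n51704 = n25114 := d7_1 D51704 (iv6 D25114) D25112
theorem F81643 : act 4 n51704 = n25121 := d10_1 D51704 (iv6 D25121) (iv4 F39477)
def n51705 : Q := act 4 n25113
theorem D51705 : act 4 n25113 = n51705 := rfl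
theorem F81644 : act 2 n51705 = n28137 := d1_1 D51705 (iv4 F81613) F81612
theorem F81645 : act 5 n51705 = n28134 := d9_2 D25113 D51705 (iv4 D28134) F22335 (iv4 F22489) F22490 D24673 D50667 F80023 (iv5 D28029) (iv4 D13374) F9867 (iv4 F10416) F10417 D11931
theorem F81646 : act 7 n51705 = n50682 := d11_2 (iv7 F39479) D51705 (iv4 D50682)
theorem F81647 : act 0 n51705 = n51012 := d17_0 (iv5 D51012) (iv1 D24812) D24814 D51020 F80482 F39291 D50535 F79910 D51705
theorem F81648 : act 1 n51705 = n51009 := d18_8 (iv1 F39657) (iv4 D25195) (iv1 F19732) D24809 D51003 F80459 F79910 D51705 (iv5 D51009)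
def n51706 : Q := act 6 n25113
theorem D51706 : act 6 n25113 = n51706 := rfl
def n51707 : Q := act 0 n25114
theorem D51707 : act 0 n25114 = n51707 := rfl
def n51708 : Q := act 1 n25114
theorem D51708 : act 1 n25114 = n51708 := rfl
def n51709 : Q := act 5 n25114
theorem D51709 : act 5 n25114 = n51709 := rfl
def n51710 : Q := act 7 n25114
theorem D51710 : act 7 n25114 = n51710 := rfl
theorem F81649 : act 4 n51710 = n25117 := d11_1 D51710 (iv7 D25117) (iv4 F39480)
theorem F81650 : act 6 n51710 = n50687 := d14_1 D51710 (iv7 D50687) (iv6 D24679) (iv7 F19680) D25114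
def n51711 : Q := act 2 n25115
theorem D51711 : act 2 n25115 = n51711 := rfl
theorem F81651 : act 7 n25116 = n51711 := d15_2 (iv0 D25115) D25116 (iv2 D51711)
def n51712 : Q := act 3 n25115
theorem D51712 : act 3 n25115 = n51712 := rfl
def n51713 : Q := act 4 n25115
theorem D51713 : act 4 n25115 = n51713 := rfl
def n51714 : Q := act 5 n25115
theorem D51714 : act 5 n25115 = n51714 := rfl
def n51715 : Q := act 6 n25115
theorem D51715 : act 6 n25115 = n51715 := rfl
theorem F81652 : act 5 n51715 = n30118 := d21_6 (iv5 D6898) F22474 F10417 D11932 D25115 D51715 (iv1 D30118) (iv5 F39294) (iv6 D25042) (iv1 F22588)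
theorem F81653 : act 0 n25144 = n51715 := d21_10 F81652 (iv1 D30118) (iv5 F39294) (iv6 D25042) (iv1 F22588) (iv6 F24065) (iv5 D14415) D14413 F48512 (iv6 F39560)
theorem F81654 : act 0 n51715 = n25136 := d21_1 (iv5 F81652) (iv5 F40713) (iv6 D25767) (iv1 F23492) D29620 F47574 D30228 F48902 F48201 (iv1 F48408)
theorem F81655 : act 6 n29864 = n30118 := d21_5 F23493 F19902 F18977 D14187 D29864 (iv5 F81652) F81654 (iv5 F40713) (iv6 D25767) (iv1 F23492)
def n51716 : Q := act 7 n25115
theorem D51716 : act 7 n25115 = n51716 := rfl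
theorem F81656 : act 2 n51716 = n25116 := d4_1 D51716 F81651 (iv2 D51711)
def n51717 : Q := act 3 n25116
theorem D51717 : act 3 n25116 = n51717 := rfl
def n51718 : Q := act 4 n25116
theorem D51718 : act 4 n25116 = n51718 := rfl
def n51719 : Q := act 5 n25116
theorem D51719 : act 5 n25116 = n51719 := rfl
theorem F81657 : act 6 n25859 = n51719 := d21_5 (iv5 D7659) (iv1 F11892) (iv5 F26072) D34045 (iv1 F53421) (iv5 D51719) (iv1 D25116) (iv5 F24321) F24322 F24033
def n51720 : Q := act 6 n25116
theorem D51720 : act 6 n25116 = n51720 := rfl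
def n51721 : Q := act 2 n25118
theorem D51721 : act 2 n25118 = n51721 := rfl
theorem F81658 : act 7 n25119 = n51721 := d15_2 (iv0 D25118) D25119 (iv2 D51721)
def n51722 : Q := act 3 n25118
theorem D51722 : act 3 n25118 = n51722 := rfl
def n51723 : Q := act 4 n25118
theorem D51723 : act 4 n25118 = n51723 := rfl
def n51724 : Q := act 5 n25118
theorem D51724 : act 5 n25118 = n51724 := rfl
def n51725 : Q := act 6 n25118
theorem D51725 : act 6 n25118 = n51725 := rfl
def n51726 : Q := act 7 n25118
theorem D51726 : act 7 n25118 = n51726 := rfl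
def n51727 : Q := act 3 n25119
theorem D51727 : act 3 n25119 = n51727 := rfl
def n51728 : Q := act 4 n25119
theorem D51728 : act 4 n25119 = n51728 := rfl
def n51729 : Q := act 5 n25119
theorem D51729 : act 5 n25119 = n51729 := rfl
def n51730 : Q := act 6 n25119
theorem D51730 : act 6 n25119 = n51730 := rfl
def n51731 : Q := act 6 n25120
theorem D51731 : act 6 n25120 = n51731 := rfl
def n51732 : Q := act 0 n25121
theorem D51732 : act 0 n25121 = n51732 := rfl
def n51733 : Q := act 1 n25121
theorem D51733 : act 1 n25121 = n51733 := rfl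
def n51734 : Q := act 5 n25121
theorem D51734 : act 5 n25121 = n51734 := rfl
theorem F81662 : act 3 n51734 = n25124 := d6_1 D51734 (iv5 D25124) (iv3 F39490)
theorem F81663 : act 6 n51734 = n51683 := d12_2 D25121 D51734 (iv5 D51683) (iv6 D25103) (iv5 F19682)
def n51735 : Q := act 7 n25121
theorem D51735 : act 7 n25121 = n51735 := rfl
theorem F81664 : act 3 n51735 = n25125 := d8_1 D51735 (iv7 D25125) (iv3 F39490)
theorem F81665 : act 6 n51735 = n50711 := d14_1 D51735 (iv7 D50711) (iv6 D24686) (iv7 F19683) D25121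
def n51736 : Q := act 3 n25122
theorem D51736 : act 3 n25122 = n51736 := rfl
theorem F81666 : act 6 n51736 = n50714 := d7_2 F79848 D51736 (iv3 D50714)
theorem F81667 : act 7 n51736 = n50641 := d8_2 (iv7 F47647) D51736 (iv3 D50641)
def n51737 : Q := act 5 n25122
theorem D51737 : act 5 n25122 = n51737 := rfl
theorem F81669 : act 7 n51737 = n50642 := d13_2 (iv7 F47647) D51737 (iv5 D50642)
def n51738 : Q := act 3 n25123
theorem D51738 : act 3 n25123 = n51738 := rfl
theorem F81670 : act 7 n51738 = n50639 := d8_2 (iv7 F47643) D51738 (iv3 D50639)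
def n51739 : Q := act 5 n25123
theorem D51739 : act 5 n25123 = n51739 := rfl
theorem F81671 : act 2 n51739 = n50642 := d2_1 D51739 (iv5 D50642) (iv2 F47641)
def n51740 : Q := act 6 n25123
theorem D51740 : act 6 n25123 = n51740 := rfl
theorem F81673 : act 2 n51740 = n50643 := d3_1 D51740 (iv6 D50643) (iv2 F47641)
theorem F81674 : act 4 n51740 = n28133 := d10_1 D51740 (iv6 D28133) (iv4 F47642)
theorem F81675 : act 7 n51740 = n50713 := d14_2 (iv7 F47643) D51740 (iv6 D50713) (iv7 F79881) F79880
theorem F81676 : act 5 n50577 = n51740 := d21_2 D24636 D50577 (iv6 D51740) (iv1 D25123) (iv6 D11934) F8555 (iv1 F19085) F19082 D24598 F38607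
theorem F81677 : act 2 n51685 = n50577 := d2_3 F81676 F81673 (iv5 F81598)
theorem F81678 : act 7 n51686 = n50577 := d13_0 F81676 F81675 F81601
theorem F81679 : act 1 n51740 = n50875 := d17_8 F39510 F39508 (iv1 F38641) F24226 (iv4 F39453) (iv5 F81604) F81606 F81676 F80243
theorem F81680 : act 2 n51686 = n50578 := d15_3 F81605 F81606 (iv7 F81678)
theorem F81681 : act 7 n50578 = n51685 := d4_2 (iv7 F81678) F81680 F81677
def n51741 : Q := act 1 n25124
theorem D51741 : act 1 n25124 = n51741 := rfl
theorem F81683 : act 7 n51741 = n50644 := d15_2 F50083 D51741 (iv2 F80007)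
theorem F81684 : act 5 n51741 = n50949 := d17_7 F39347 F39343 (iv1 F20405) F11257 (iv4 F19685) D25124 D51741 F80388 (iv4 D30930)
theorem F81685 : act 2 n50645 = n51741 := d2_3 F81684 F80384 F80010
def n51742 : Q := act 4 n25124
theorem D51742 : act 4 n25124 = n51742 := rfl
theorem F81686 : act 2 n51742 = n50646 := d1_1 D51742 (iv4 D50646) (iv2 F39492)
theorem F81687 : act 6 n51742 = n51687 := d10_2 (iv6 F39493) D51742 (iv4 D51687)
def n51743 : Q := act 7 n25124
theorem D51743 : act 7 n25124 = n51743 := rfl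
theorem F81689 : act 5 n51743 = n25125 := d13_1 D51743 (iv7 D25125) D25124
theorem F81690 : act 1 n50645 = n51743 := d15_1 D50645 (iv7 D51743) F39492
theorem F81691 : act 1 n51743 = n50644 := d15_1 F81690 (iv7 F81683) (iv2 F81685)
def n51744 : Q := act 0 n25127
theorem D51744 : act 0 n25127 = n51744 := rfl
def n51745 : Q := act 1 n25127
theorem D51745 : act 1 n25127 = n51745 := rfl
def n51746 : Q := act 2 n25127
theorem D51746 : act 2 n25127 = n51746 := rfl
theorem F81694 : act 6 n51746 = n50731 := d3_2 (iv6 F39502) D51746 (iv2 D50731)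
theorem F81695 : act 7 n51746 = n50658 := d4_2 F39536 D51746 (iv2 D50658)
def n51747 : Q := act 4 n25127
theorem D51747 : act 4 n25127 = n51747 := rfl
theorem F81699 : act 6 n51747 = n50732 := d10_2 (iv6 F39502) D51747 (iv4 D50732)
theorem F81700 : act 7 n51747 = n50659 := d11_2 F39536 D51747 (iv4 D50659)
def n51748 : Q := act 5 n25127
theorem D51748 : act 5 n25127 = n51748 := rfl
theorem F81701 : act 3 n51748 = n25129 := d6_1 D51748 (iv5 D25129) D25127
theorem F81702 : act 7 n51748 = n31340 := d13_2 F39536 D51748 (iv5 F49594)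
def n51749 : Q := act 3 n25128
theorem D51749 : act 3 n25128 = n51749 := rfl
theorem F81703 : act 6 n51749 = n50733 := d7_2 (iv6 F39503) D51749 (iv3 D50733)
theorem F81704 : act 7 n51749 = n50661 := d8_2 F39537 D51749 (iv3 D50661)
def n51751 : Q := act 4 n25129
theorem D51751 : act 4 n25129 = n51751 := rfl
theorem F81707 : act 2 n51751 = n50655 := d1_1 D51751 (iv4 D50655) (iv2 F39535)
theorem F81708 : act 7 n51751 = n31343 := d11_2 F39538 D51751 F49595
theorem F81709 : act 0 n51751 = n31099 := d18_2 F53721 D51751 F53698 F45830 D31784 F50081 F49370 F39345 (iv5 F53719)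
def n51752 : Q := act 0 n25131
theorem D51752 : act 0 n25131 = n51752 := rfl
theorem F81710 : act 1 n50650 = n51752 := d15_0 (iv0 D51752) F39531 D50650
def n51754 : Q := act 2 n25131
theorem D51754 : act 2 n25131 = n51754 := rfl
theorem F81711 : act 3 n51754 = n50658 := d0_2 D25131 D51754 (iv2 D50658) (iv3 D24669) (iv2 F39515)
theorem F81712 : act 7 n51754 = n50650 := d4_2 (iv7 F39531) D51754 (iv2 D50650)
theorem F81713 : act 1 n51754 = n50648 := d15_0 (iv0 D50648) (iv7 F39531) D51754
theorem F81715 : act 1 n50649 = n51754 := d15_1 D50649 F81712 (iv2 D50650)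
def n51755 : Q := act 4 n25131
theorem D51755 : act 4 n25131 = n51755 := rfl
theorem F81716 : act 7 n51755 = n50651 := d11_2 (iv7 F39531) D51755 (iv4 D50651)
def n51756 : Q := act 5 n25131
theorem D51756 : act 5 n25131 = n51756 := rfl
theorem F81717 : act 3 n51756 = n25133 := d6_1 D51756 (iv5 D25133) D25131
theorem F81718 : act 7 n51756 = n50652 := d13_2 (iv7 F39531) D51756 (iv5 D50652)
theorem F81719 : act 6 n26025 = n51756 := d7_0 F81717 F39505 D26025
def n51757 : Q := act 6 n25131
theorem D51757 : act 6 n25131 = n51757 := rfl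
theorem F81720 : act 3 n51757 = n25134 := d7_1 D51757 (iv6 D25134) D25131
theorem F81721 : act 7 n51757 = n50723 := d14_2 (iv7 F39531) D51757 (iv6 D50723) (iv7 F39586) F39585
theorem F81722 : act 5 n50583 = n51757 := d13_3 F81721 (iv5 F80074) (iv7 F79941)
def n51758 : Q := act 3 n25132
theorem D51758 : act 3 n25132 = n51758 := rfl
theorem F81723 : act 7 n51758 = n50653 := d8_2 (iv7 F39532) D51758 (iv3 D50653)
def n51760 : Q := act 6 n25132
theorem D51760 : act 6 n25132 = n51760 := rfl
theorem F81727 : act 4 n51760 = n25134 := d10_1 D51760 (iv6 D25134) D25132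
def n51761 : Q := act 4 n25133
theorem D51761 : act 4 n25133 = n51761 := rfl
theorem F81731 : act 2 n51761 = n31343 := d1_1 D51761 F49595 (iv2 F39539)
theorem F81732 : act 6 n51761 = n26026 := d10_2 (iv6 F39505) D51761 (iv4 D26026)
theorem F81733 : act 7 n51761 = n50655 := d11_2 (iv7 F39533) D51761 (iv4 D50655)
theorem F81734 : act 1 n51761 = n31099 := d18_6 (iv1 F22333) (iv4 F38685) (iv1 F47803) (iv4 D25132) D25133 D51761 F53698 F45832 (iv5 D28037)
def n51762 : Q := act 3 n25135
theorem D51762 : act 3 n25135 = n51762 := rfl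
theorem F81735 : act 4 n51762 = n50666 := d5_2 D25135 D51762 (iv3 D50666) (iv4 D24673) (iv3 F19692)
theorem F81736 : act 7 n51762 = n50593 := d8_2 (iv7 F39548) D51762 (iv3 D50593)
def n51763 : Q := act 5 n25135
theorem D51763 : act 5 n25135 = n51763 := rfl
theorem F81737 : act 2 n51763 = n25140 := d2_1 D51763 (iv5 D25140) (iv2 F39547)
theorem F81738 : act 4 n51763 = n48828 := d9_1 D51763 (iv5 D48828) F37502 F37500 F22275 F10365 D11674 D24650 (iv4 F76903) (iv5 D48831) (iv4 F37893) F37889 F23960 (iv5 F20246) D25135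
theorem F81739 : act 7 n51763 = n50594 := d13_2 (iv7 F39548) D51763 (iv5 D50594)
theorem F81740 : act 0 n51763 = n50608 := d17_2 (iv1 F39550) D51763 F79990 (iv4 F39669) F39667 (iv0 F38472) (iv5 F45265) (iv0 F49275) F49276
theorem F81741 : act 1 n51763 = n50607 := d17_6 D11917 (iv5 F22279) (iv1 F22278) (iv5 F20246) D25135 D51763 F79984 (iv0 D25092) (iv4 D11919)
def n51764 : Q := act 6 n25135
theorem D51764 : act 6 n25135 = n51764 := rfl
theorem F81742 : act 2 n51764 = n25141 := d3_1 D51764 (iv6 D25141) (iv2 F39547)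
theorem F81743 : act 4 n51764 = n25136 := d10_1 D51764 (iv6 D25136) D25135
def n51765 : Q := act 0 n25136
theorem D51765 : act 0 n25136 = n51765 := rfl
theorem F81744 : act 5 n51765 = n30117 := d21_0 (iv1 F48411) F48024 F39317 (iv1 F39424) (iv6 D25089) (iv5 F22279) (iv1 F22278) (iv5 F20246) D25136 D51765
theorem F81745 : act 0 n51765 = n25144 := d21_1 (iv5 F81744) (iv5 F46675) (iv6 F47590) (iv1 F47591) F24099 (iv5 F24095) F24094 (iv5 F22532) D14297 D30117
def n51766 : Q := act 7 n25136
theorem D51766 : act 7 n25136 = n51766 := rfl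
theorem F81746 : act 2 n51766 = n25144 := d4_1 D51766 (iv7 D25144) (iv2 F39551)
theorem F81747 : act 3 n51766 = n50671 := d8_1 D51766 (iv7 D50671) (iv3 F39552)
theorem F81748 : act 6 n51766 = n50598 := d14_1 D51766 (iv7 D50598) (iv6 D24646) (iv7 F19693) D25136
theorem F81749 : act 1 n25143 = n51766 := d15_1 D25143 (iv7 D51766) F39551
theorem F81750 : act 5 n25143 = n29877 := d21_0 (iv1 D29877) F23700 (iv6 D11900) D11897 D25044 F39298 D30162 (iv5 F79975) (iv6 F81748) (iv1 F81749)
theorem F81751 : act 6 n51694 = n25143 := d21_5 F22574 F22470 F22361 D25109 D51694 F81750 (iv1 D29877) F23700 (iv6 D11900) D11897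
theorem F81752 : act 1 n51766 = n25142 := d15_0 (iv0 D25142) D25144 (iv2 F81746)
def n51767 : Q := act 3 n25137
theorem D51767 : act 3 n25137 = n51767 := rfl
theorem F81753 : act 4 n51767 = n50291 := d5_2 F45095 D51767 (iv3 D50291) (iv4 F38515) (iv3 F45092)
theorem F81754 : act 6 n51767 = n50672 := d7_2 (iv6 F39641) D51767 (iv3 D50672)
theorem F81755 : act 7 n51767 = n50599 := d8_2 F39640 D51767 (iv3 D50599)
def n51768 : Q := act 3 n25138
theorem D51768 : act 3 n25138 = n51768 := rfl
theorem F81756 : act 7 n51768 = n50601 := d8_2 (iv7 F39637) D51768 (iv3 D50601)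
def n51769 : Q := act 6 n25138
theorem D51769 : act 6 n25138 = n51769 := rfl
theorem F81757 : act 2 n51769 = n50600 := d3_1 D51769 (iv6 D50600) (iv2 F39639)
theorem F81758 : act 7 n51769 = n50674 := d14_2 (iv7 F39637) D51769 (iv6 D50674) (iv7 F39474) F39473
def n51770 : Q := act 0 n25139
theorem D51770 : act 0 n25139 = n51770 := rfl
theorem F81759 : act 1 n50604 = n51770 := d15_0 (iv0 D51770) F39556 D50604
theorem F81760 : act 4 n50813 = n51770 := d20_0 (iv1 F81759) F79980 (iv3 F39484) (iv1 F39489) D50703 (iv4 F80176) (iv1 F80181) (iv4 D24724) D24723 D50813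
def n51771 : Q := act 1 n25139
theorem D51771 : act 1 n25139 = n51771 := rfl
theorem F81761 : act 4 n50736 = n51771 := d20_6 (iv4 D2740) D2738 (iv4 F8245) D11692 D24698 D50736 (iv1 D51771) F39555 (iv3 D11941) F8562
def n51772 : Q := act 2 n25139
theorem D51772 : act 2 n25139 = n51772 := rfl
theorem F81762 : act 4 n51772 = n25147 := d1_2 (iv4 F39555) D51772 (iv2 D25147)
theorem F81763 : act 7 n51772 = n50604 := d4_2 (iv7 F39556) D51772 (iv2 D50604)
theorem F81764 : act 1 n51772 = n50602 := d15_0 (iv0 D50602) (iv7 F39556) D51772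
theorem F81765 : act 1 n51771 = n50604 := d15_1 D51771 (iv7 F81763) (iv2 D51772)
theorem E8232 : n51724 = n25145 := ((c18_9 (iv1 F39483) (iv4 F80035) (iv1 F81638) (iv4 F81634) F81310 F81761 F81765 F79980 F39561 (iv5 D51724))).symm
theorem F81766 : act 5 n25145 = n25118 := (sb E8232 (iv5 D51724))
theorem F81767 : act 1 n50603 = n51772 := d15_1 D50603 F81763 (iv2 D50604)
def n51773 : Q := act 5 n25139
theorem D51773 : act 5 n25139 = n51773 := rfl
theorem F81768 : act 3 n51773 = n25140 := d6_1 D51773 (iv5 D25140) D25139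
theorem F81769 : act 7 n51773 = n50605 := d13_2 (iv7 F39556) D51773 (iv5 D50605)
def n51774 : Q := act 6 n25139
theorem D51774 : act 6 n25139 = n51774 := rfl
theorem F81770 : act 3 n51774 = n25141 := d7_1 D51774 (iv6 D25141) D25139
def n51775 : Q := act 4 n25140
theorem D51775 : act 4 n25140 = n51775 := rfl
theorem F81772 : act 2 n51775 = n48828 := d1_1 D51775 (iv4 F81738) F81737
theorem F81773 : act 5 n51775 = n25820 := d9_2 D25140 D51775 (iv4 D25820) (iv5 F39440) F39439 F22285 D24645 D50594 F79969 (iv5 D49545) (iv4 D24178) (iv5 F19220) F19219 F10419 D11939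
theorem F81774 : act 7 n51775 = n48831 := d11_2 (iv7 F39557) D51775 F76903
theorem F81775 : act 0 n51775 = n31433 := d17_0 (iv5 D31433) (iv1 F38582) (iv5 F76908) (iv4 F81516) (iv5 D51638) F39402 D50444 F79822 D51775
def n51776 : Q := act 6 n25140
theorem D51776 : act 6 n25140 = n51776 := rfl
def n51777 : Q := act 0 n25141
theorem D51777 : act 0 n25141 = n51777 := rfl
def n51778 : Q := act 1 n25141
theorem D51778 : act 1 n25141 = n51778 := rfl
def n51779 : Q := act 5 n25141
theorem D51779 : act 5 n25141 = n51779 := rfl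
def n51780 : Q := act 7 n25141
theorem D51780 : act 7 n25141 = n51780 := rfl
theorem F81776 : act 4 n51780 = n25144 := d11_1 D51780 (iv7 D25144) (iv4 F39558)
theorem F81777 : act 6 n51780 = n50613 := d14_1 D51780 (iv7 D50613) (iv6 D24651) (iv7 F19696) D25141
def n51781 : Q := act 2 n25142
theorem D51781 : act 2 n25142 = n51781 := rfl
theorem F81778 : act 7 n25143 = n51781 := d15_2 (iv0 D25142) D25143 (iv2 D51781)
def n51782 : Q := act 3 n25142
theorem D51782 : act 3 n25142 = n51782 := rfl
def n51783 : Q := act 4 n25142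
theorem D51783 : act 4 n25142 = n51783 := rfl
def n51784 : Q := act 6 n25142
theorem D51784 : act 6 n25142 = n51784 := rfl
def n51785 : Q := act 7 n25142
theorem D51785 : act 7 n25142 = n51785 := rfl
theorem F81779 : act 2 n51785 = n25143 := d4_1 D51785 F81778 (iv2 D51781)
def n51786 : Q := act 3 n25143
theorem D51786 : act 3 n25143 = n51786 := rfl
def n51787 : Q := act 4 n25143
theorem D51787 : act 4 n25143 = n51787 := rfl
def n51788 : Q := act 2 n25145
theorem D51788 : act 2 n25145 = n51788 := rfl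
theorem F81780 : act 5 n51788 = n51721 := d2_2 (iv5 F81766) D51788 (iv2 D51721)
theorem F81781 : act 7 n25146 = n51788 := d15_2 (iv0 D25145) D25146 (iv2 D51788)
theorem E8233 : n51729 = n25146 := (c13_4 F81781 F81780 (iv7 F81658) D51729)
theorem F81782 : act 5 n25146 = n25119 := (sb E8233 (iv5 D51729))
def n51789 : Q := act 3 n25145
theorem D51789 : act 3 n25145 = n51789 := rfl
theorem F81783 : act 5 n51789 = n51722 := d6_2 (iv5 F81766) D51789 (iv3 D51722)
def n51790 : Q := act 4 n25145
theorem D51790 : act 4 n25145 = n51790 := rfl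
def n51791 : Q := act 6 n25145
theorem D51791 : act 6 n25145 = n51791 := rfl
def n51792 : Q := act 7 n25145
theorem D51792 : act 7 n25145 = n51792 := rfl
def n51793 : Q := act 3 n25146
theorem D51793 : act 3 n25146 = n51793 := rfl
theorem F81786 : act 5 n51793 = n51727 := d6_2 (iv5 F81782) D51793 (iv3 D51727)
def n51794 : Q := act 4 n25146
theorem D51794 : act 4 n25146 = n51794 := rfl
def n51795 : Q := act 6 n25146
theorem D51795 : act 6 n25146 = n51795 := rfl
def n51796 : Q := act 6 n25147
theorem D51796 : act 6 n25147 = n51796 := rfl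
def n51800 : Q := act 7 n25148
theorem D51800 : act 7 n25148 = n51800 := rfl
theorem F81791 : act 3 n51800 = n25152 := d8_1 D51800 (iv7 D25152) (iv3 F39568)
def n51801 : Q := act 3 n25149
theorem D51801 : act 3 n25149 = n51801 := rfl
theorem F81793 : act 7 n51801 = n50714 := d8_2 (iv7 F79884) D51801 (iv3 D50714)
def n51802 : Q := act 6 n25149
theorem D51802 : act 6 n25149 = n51802 := rfl
theorem F81794 : act 2 n51802 = n50713 := d3_1 D51802 (iv6 D50713) (iv2 F79882)
theorem F81795 : act 4 n51802 = n28144 := d10_1 D51802 (iv6 D28144) (iv4 F79883)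
theorem F81796 : act 7 n51802 = n50643 := d14_2 (iv7 F79884) D51802 (iv6 D50643) (iv7 F47647) (iv6 F79848)
theorem F81797 : act 0 n51802 = n50875 := d21_4 D25073 D51618 F81464 D51802 (iv6 D50875) D50874 F80424 F80421 (iv6 D50987) F79859
theorem F81798 : act 5 n51802 = n50578 := d21_6 (iv5 F19082) F19084 (iv5 F8560) D11942 D25149 D51802 (iv1 D50578) (iv5 D24636) (iv6 D11666) (iv1 F18982)
def n51803 : Q := act 3 n25150
theorem D51803 : act 3 n25150 = n51803 := rfl
theorem F81799 : act 6 n51803 = n50639 := d7_2 (iv6 F79880) D51803 (iv3 D50639)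
theorem F81800 : act 7 n51803 = n50712 := d8_2 (iv7 F79881) D51803 (iv3 D50712)
def n51804 : Q := act 4 n25151
theorem D51804 : act 4 n25151 = n51804 := rfl
theorem F81801 : act 2 n51804 = n50717 := d1_1 D51804 (iv4 D50717) (iv2 F39570)
def n51805 : Q := act 7 n25151
theorem D51805 : act 7 n25151 = n51805 := rfl
theorem F81804 : act 5 n51805 = n25152 := d13_1 D51805 (iv7 D25152) D25151
theorem F81805 : act 1 n50716 = n51805 := d15_1 D50716 (iv7 D51805) F39570
def n51808 : Q := act 2 n25153
theorem D51808 : act 2 n25153 = n51808 := rfl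
theorem F81808 : act 3 n51808 = n50721 := d0_2 D25153 D51808 (iv2 D50721) (iv3 D24692) (iv2 F39522)
theorem F81809 : act 7 n51808 = n50731 := d4_2 (iv7 F39578) D51808 (iv2 D50731)
theorem F81810 : act 1 n51808 = n50729 := d15_0 (iv0 D50729) (iv7 F39578) D51808
theorem F81812 : act 1 n50730 = n51808 := d15_1 D50730 F81809 (iv2 D50731)
def n51809 : Q := act 4 n25153
theorem D51809 : act 4 n25153 = n51809 := rfl
theorem F81813 : act 7 n51809 = n50732 := d11_2 (iv7 F39578) D51809 (iv4 D50732)
def n51810 : Q := act 6 n25153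
theorem D51810 : act 6 n25153 = n51810 := rfl
theorem F81814 : act 3 n51810 = n25155 := d7_1 D51810 (iv6 D25155) D25153
theorem F81815 : act 7 n51810 = n50660 := d14_2 (iv7 F39578) D51810 (iv6 D50660) F39536 F39502
theorem F81816 : act 5 n50584 = n51810 := d13_3 F81815 F80016 (iv7 F79942)
def n51812 : Q := act 5 n25154
theorem D51812 : act 5 n25154 = n51812 := rfl
theorem F81821 : act 1 n51812 = n25224 := d17_6 (iv1 D11912) (iv5 F10996) D14193 F23701 D25154 D51812 (iv5 D25224) (iv0 F80090) (iv4 D25080)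
def n51813 : Q := act 6 n25154
theorem D51813 : act 6 n25154 = n51813 := rfl
theorem F81823 : act 4 n51813 = n25155 := d10_1 D51813 (iv6 D25155) D25154
theorem F81825 : act 0 n51813 = n50865 := d21_4 D25224 (iv1 F81821) (iv5 D51812) D51813 (iv6 D50865) D50864 F81504 F81501 (iv6 D51633) F80090
theorem F81826 : act 5 n51813 = n51044 := d21_6 (iv5 F19610) F19612 F8640 D11949 (iv1 F80106) D51813 (iv1 D51044) (iv5 D24826) (iv6 D11761) (iv1 F18979)
def n51814 : Q := act 0 n25156
theorem D51814 : act 0 n25156 = n51814 := rfl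
def n51815 : Q := act 1 n25156
theorem D51815 : act 1 n25156 = n51815 := rfl
def n51816 : Q := act 2 n25156
theorem D51816 : act 2 n25156 = n51816 := rfl
theorem F81828 : act 3 n51816 = n50731 := d0_2 D25156 D51816 (iv2 D50731) (iv3 D24696) (iv2 F39519)
theorem F81829 : act 6 n51816 = n50650 := d3_2 (iv6 F39585) D51816 (iv2 D50650)
theorem F81830 : act 7 n51816 = n50721 := d4_2 (iv7 F39586) D51816 (iv2 D50721)
def n51817 : Q := act 4 n25156
theorem D51817 : act 4 n25156 = n51817 := rfl
theorem F81834 : act 6 n51817 = n50651 := d10_2 (iv6 F39585) D51817 (iv4 D50651)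
theorem F81835 : act 7 n51817 = n50722 := d11_2 (iv7 F39586) D51817 (iv4 D50722)
def n51818 : Q := act 3 n25157
theorem D51818 : act 3 n25157 = n51818 := rfl
def n51819 : Q := act 5 n25157
theorem D51819 : act 5 n25157 = n51819 := rfl
theorem F81840 : act 0 n51819 = n25224 := d17_2 (iv1 F80104) D51819 (iv5 D25224) F19755 (iv5 F10814) D14014 (iv5 F23368) F22353 (iv4 F38688)
theorem F81841 : act 1 n51819 = n50975 := d17_6 (iv1 F19624) (iv5 F23787) (iv1 F23789) (iv5 F23702) D25157 D51819 F80414 (iv0 F80092) (iv4 D25077)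
def n51820 : Q := act 2 n25158
theorem D51820 : act 2 n25158 = n51820 := rfl
theorem F81842 : act 7 n25159 = n51820 := d15_2 (iv0 D25158) D25159 (iv2 D51820)
def n51821 : Q := act 3 n25158
theorem D51821 : act 3 n25158 = n51821 := rfl
theorem F81843 : act 4 n51821 = n50676 := d20_6 (iv4 D2666) D2664 (iv4 F8564) D11946 D25158 D51821 (iv1 D50676) F38673 (iv3 D11687) F8244
def n51822 : Q := act 4 n25158
theorem D51822 : act 4 n25158 = n51822 := rfl
def n51823 : Q := act 5 n25158
theorem D51823 : act 5 n25158 = n51823 := rfl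
def n51824 : Q := act 6 n25158
theorem D51824 : act 6 n25158 = n51824 := rfl
def n51825 : Q := act 7 n25158
theorem D51825 : act 7 n25158 = n51825 := rfl
theorem F81844 : act 2 n51825 = n25159 := d4_1 D51825 F81842 (iv2 D51820)
def n51826 : Q := act 3 n25159
theorem D51826 : act 3 n25159 = n51826 := rfl
def n51827 : Q := act 4 n25159
theorem D51827 : act 4 n25159 = n51827 := rfl
def n51828 : Q := act 5 n25159
theorem D51828 : act 5 n25159 = n51828 := rfl
def n51829 : Q := act 6 n25159
theorem D51829 : act 6 n25159 = n51829 := rfl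
def n51830 : Q := act 4 n25160
theorem D51830 : act 4 n25160 = n51830 := rfl
theorem F81845 : act 2 n51830 = n25161 := d1_1 D51830 (iv4 D25161) D25160
theorem F81846 : act 7 n51830 = n50769 := d11_2 (iv7 F39592) D51830 (iv4 D50769)
theorem F81847 : act 0 n51830 = n50772 := d20_1 D51830 (iv4 F80144) (iv3 D50625) (iv1 F39565) F39562 (iv4 F80035) (iv1 F81638) (iv4 F81634) (iv3 D50760) (iv1 F39593)
theorem F81848 : act 1 n51830 = n50771 := d15_0 (iv0 D50771) (iv7 F39597) (iv2 F81845)
def n51831 : Q := act 6 n25160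
theorem D51831 : act 6 n25160 = n51831 := rfl
def n51832 : Q := act 0 n25161
theorem D51832 : act 0 n25161 = n51832 := rfl
theorem F81851 : act 1 n50769 = n51832 := d15_0 (iv0 D51832) F39597 (iv2 F80142)
def n51833 : Q := act 1 n25161
theorem D51833 : act 1 n25161 = n51833 := rfl
theorem F81852 : act 1 n51833 = n50769 := d15_1 D51833 (iv7 F81846) F81845
theorem F81853 : act 4 n51789 = n51833 := d20_6 F8252 (iv1 F3676) D5602 D11941 D25145 D51789 (iv1 D51833) (iv4 D25161) (iv3 D11946) (iv1 F8565)
def n51834 : Q := act 5 n25161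
theorem D51834 : act 5 n25161 = n51834 := rfl
theorem F81854 : act 3 n51834 = n28029 := d6_1 D51834 (iv5 D28029) (iv3 F39596)
theorem F81855 : act 7 n51834 = n50773 := d13_2 (iv7 F39597) D51834 (iv5 D50773)
def n51835 : Q := act 6 n25161
theorem D51835 : act 6 n25161 = n51835 := rfl
def n51840 : Q := act 1 n25165
theorem D51840 : act 1 n25165 = n51840 := rfl
theorem F81863 : act 5 n51840 = n51595 := d17_7 (iv1 F38782) F24613 (iv1 F20549) (iv5 F20551) (iv4 F19710) D25165 D51840 F81440 F78685
def n51841 : Q := act 4 n25165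
theorem D51841 : act 4 n25165 = n51841 := rfl
def n51842 : Q := act 7 n25165
theorem D51842 : act 7 n25165 = n51842 := rfl
theorem F81867 : act 5 n51842 = n25166 := d13_1 D51842 (iv7 D25166) D25165
theorem F81868 : act 1 n50756 = n51842 := d15_1 D50756 (iv7 D51842) F39600
def n51843 : Q := act 2 n25167
theorem D51843 : act 2 n25167 = n51843 := rfl
theorem F81870 : act 7 n25168 = n51843 := d15_2 (iv0 D25167) D25168 (iv2 D51843)
def n51844 : Q := act 3 n25167
theorem D51844 : act 3 n25167 = n51844 := rfl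
theorem F81871 : act 4 n51844 = n50603 := d20_6 F9869 (iv1 F4330) (iv4 F8570) D11948 D25167 D51844 (iv1 D50603) F38649 (iv3 D11676) (iv1 F9872)
def n51845 : Q := act 4 n25167
theorem D51845 : act 4 n25167 = n51845 := rfl
def n51846 : Q := act 5 n25167
theorem D51846 : act 5 n25167 = n51846 := rfl
def n51847 : Q := act 6 n25167
theorem D51847 : act 6 n25167 = n51847 := rfl
def n51848 : Q := act 7 n25167
theorem D51848 : act 7 n25167 = n51848 := rfl
theorem F81872 : act 2 n51848 = n25168 := d4_1 D51848 F81870 (iv2 D51843)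
def n51849 : Q := act 3 n25168
theorem D51849 : act 3 n25168 = n51849 := rfl
def n51850 : Q := act 4 n25168
theorem D51850 : act 4 n25168 = n51850 := rfl
def n51851 : Q := act 5 n25168
theorem D51851 : act 5 n25168 = n51851 := rfl
def n51852 : Q := act 6 n25168
theorem D51852 : act 6 n25168 = n51852 := rfl
def n51853 : Q := act 4 n25169
theorem D51853 : act 4 n25169 = n51853 := rfl
theorem F81873 : act 2 n51853 = n25170 := d1_1 D51853 (iv4 D25170) D25169
theorem F81874 : act 7 n51853 = n50745 := d11_2 (iv7 F39609) D51853 (iv4 D50745)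
theorem F81875 : act 0 n51853 = n50748 := d20_1 D51853 (iv4 F80127) (iv3 D50698) (iv1 F39487) F39484 (iv4 F79980) (iv1 F81765) (iv4 F81761) (iv3 D50736) (iv1 F39610)
theorem F81876 : act 5 n50625 = n50698 := d18_4 (iv1 F39593) D51830 F81847 (iv4 F80144) F80127 (iv0 F81875) (iv4 D51853) F39610 F81308
theorem E8234 : n50700 = n24656 := (c6_3 F81876 (iv3 D50698) D50700 D50625)
theorem E8235 : n50627 = n24683 := ((D50627).symm.trans (sb E8234 (iv5 D50700)))
theorem F81877 : act 5 n24683 = n24656 := (sb E8235 (iv5 D50627))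
theorem F81878 : act 5 n50624 = n50697 := d2_2 F81877 D50624 (iv2 D50697)
theorem F81879 : act 5 n50629 = n50702 := d13_3 (iv7 D50702) F81877 D50629
theorem F81880 : act 5 n51844 = n51821 := d18_4 (iv1 F39565) (iv4 F81762) (iv1 F81767) (iv4 F81871) F81843 F81639 F81635 F39487 F81877
theorem E8236 : n51823 = n25167 := (c6_3 F81880 (iv3 D51821) D51823 D51844)
theorem E8237 : n51846 = n25158 := ((D51846).symm.trans (sb E8236 (iv5 D51823)))
theorem F81881 : act 5 n25158 = n25167 := (sb E8237 (iv5 D51846))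
theorem F81882 : act 5 n51843 = n51820 := d2_2 F81881 D51843 (iv2 D51820)
theorem F81883 : act 5 n51848 = n51825 := d13_3 (iv7 D51825) F81881 D51848
theorem E8238 : n51828 = n25168 := (c2_3 F81883 F81844 D51828 (iv2 F81872))
theorem E8239 : n51851 = n25159 := ((D51851).symm.trans (sb E8238 (iv5 D51828)))
theorem F81884 : act 5 n25159 = n25168 := (sb E8239 (iv5 D51851))
theorem F81885 : act 5 n51849 = n51826 := d6_2 F81884 D51849 (iv3 D51826)
theorem E8240 : n50705 = n24657 := (c2_3 F81879 F80054 D50705 (iv2 F80000))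
theorem E8241 : n50632 = n24684 := ((D50632).symm.trans (sb E8240 (iv5 D50705)))
theorem F81886 : act 5 n24684 = n24657 := (sb E8241 (iv5 D50632))
theorem F81887 : act 5 n50630 = n50703 := d6_2 F81886 D50630 (iv3 D50703)
theorem F81888 : act 1 n51853 = n50747 := d15_0 (iv0 D50747) (iv7 F39614) (iv2 F81873)
def n51854 : Q := act 6 n25169
theorem D51854 : act 6 n25169 = n51854 := rfl
def n51855 : Q := act 0 n25170
theorem D51855 : act 0 n25170 = n51855 := rfl
theorem F81891 : act 1 n50745 = n51855 := d15_0 (iv0 D51855) F39614 (iv2 F80125)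
def n51856 : Q := act 1 n25170
theorem D51856 : act 1 n25170 = n51856 := rfl
theorem F81892 : act 1 n51856 = n50745 := d15_1 D51856 (iv7 F81874) F81873
theorem F81893 : act 4 n51722 = n51856 := d20_6 (iv4 D2326) D2324 D5599 D11933 D25118 D51722 (iv1 D51856) (iv4 D25170) (iv3 D11948) (iv1 D5605)
def n51857 : Q := act 5 n25170
theorem D51857 : act 5 n25170 = n51857 := rfl
theorem F81894 : act 3 n51857 = n28046 := d6_1 D51857 (iv5 D28046) (iv3 F39613)
theorem F81895 : act 7 n51857 = n50749 := d13_2 (iv7 F39614) D51857 (iv5 D50749)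
def n51858 : Q := act 6 n25170
theorem D51858 : act 6 n25170 = n51858 := rfl
theorem F81896 : act 3 n51858 = n28047 := d7_1 D51858 (iv6 D28047) (iv3 F39613)
def n51863 : Q := act 4 n25174
theorem D51863 : act 4 n25174 = n51863 := rfl
theorem F81901 : act 2 n51863 = n50781 := d1_1 D51863 (iv4 D50781) (iv2 F39617)
def n51864 : Q := act 7 n25174
theorem D51864 : act 7 n25174 = n51864 := rfl
theorem F81903 : act 5 n51864 = n25175 := d13_1 D51864 (iv7 D25175) D25174
theorem F81904 : act 1 n50780 = n51864 := d15_1 D50780 (iv7 D51864) F39617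
theorem F81905 : act 1 n51864 = n50779 := d15_1 F81904 (iv7 F80155) F80158
def n51866 : Q := act 1 n25176
theorem D51866 : act 1 n25176 = n51866 := rfl
theorem F81907 : act 1 n51866 = n25181 := d15_1 D51866 (iv7 D25181) D25176
def n51867 : Q := act 3 n25176
theorem D51867 : act 3 n25176 = n51867 := rfl
theorem F81908 : act 7 n51867 = n25182 := d8_2 F39624 D51867 (iv3 D25182)
def n51868 : Q := act 4 n25176
theorem D51868 : act 4 n25176 = n51868 := rfl
theorem F81909 : act 2 n51868 = n25178 := d1_1 D51868 (iv4 D25178) D25176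
theorem F81910 : act 7 n51868 = n25183 := d11_2 F39624 D51868 (iv4 D25183)
def n51869 : Q := act 5 n25176
theorem D51869 : act 5 n25176 = n51869 := rfl
theorem F81911 : act 2 n51869 = n25179 := d2_1 D51869 (iv5 D25179) D25176
theorem F81912 : act 7 n51869 = n25184 := d13_2 F39624 D51869 (iv5 D25184)
def n51870 : Q := act 6 n25176
theorem D51870 : act 6 n25176 = n51870 := rfl
theorem F81913 : act 2 n51870 = n25180 := d3_1 D51870 (iv6 D25180) D25176
def n51871 : Q := act 0 n25177
theorem D51871 : act 0 n25177 = n51871 := rfl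
def n51872 : Q := act 1 n25177
theorem D51872 : act 1 n25177 = n51872 := rfl
def n51873 : Q := act 2 n25177
theorem D51873 : act 2 n25177 = n51873 := rfl
def n51874 : Q := act 4 n25177
theorem D51874 : act 4 n25177 = n51874 := rfl
theorem F81914 : act 0 n51874 = n28016 := d20_7 (iv4 D5602) (iv1 D2325) D2326 D5606 D11950 D25177 D51874 F45278 F22253 (iv1 F9876)
theorem F81915 : act 0 n28014 = n51874 := d20_1 (iv4 F45275) (iv4 D51874) (iv3 D25177) (iv1 F38701) F38698 (iv4 F79744) (iv1 F79746) D50377 (iv3 F79749) (iv1 D28070)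
theorem F81916 : act 3 n50813 = n51872 := d20_9 D51874 F81914 F45278 F22253 (iv1 F9876) D11941 (iv4 F39555) D51770 (iv4 F81760) (iv1 D51872)
def n51875 : Q := act 5 n25177
theorem D51875 : act 5 n25177 = n51875 := rfl
theorem F81917 : act 3 n51875 = n25179 := d6_1 D51875 (iv5 D25179) D25177
def n51876 : Q := act 6 n25177
theorem D51876 : act 6 n25177 = n51876 := rfl
theorem F81918 : act 3 n51876 = n25180 := d7_1 D51876 (iv6 D25180) D25177
def n51877 : Q := act 7 n25177
theorem D51877 : act 7 n25177 = n51877 := rfl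
theorem F81919 : act 3 n51877 = n25181 := d8_1 D51877 (iv7 D25181) D25177
def n51878 : Q := act 0 n25178
theorem D51878 : act 0 n25178 = n51878 := rfl
theorem F81920 : act 4 n51878 = n51793 := d20_2 D25178 D51878 (iv3 D51793) (iv1 D25146) (iv3 D11941) (iv4 D5602) (iv1 D2325) D2326 D5606 D11950
def n51879 : Q := act 1 n25178
theorem D51879 : act 1 n25178 = n51879 := rfl
theorem F81921 : act 1 n51879 = n25183 := d15_1 D51879 (iv7 F81910) F81909
def n51880 : Q := act 3 n25178
theorem D51880 : act 3 n25178 = n51880 := rfl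
def n51881 : Q := act 5 n25178
theorem D51881 : act 5 n25178 = n51881 := rfl
def n51882 : Q := act 6 n25178
theorem D51882 : act 6 n25178 = n51882 := rfl
theorem F81922 : act 4 n51882 = n25180 := d10_1 D51882 (iv6 D25180) D25178
def n51883 : Q := act 7 n25178
theorem D51883 : act 7 n25178 = n51883 := rfl
theorem F81923 : act 2 n51883 = n25183 := d4_1 D51883 (iv7 F81910) F81909
theorem F81924 : act 4 n51883 = n25181 := d11_1 D51883 (iv7 D25181) D25178
theorem F81925 : act 1 n25183 = n51878 := d15_0 (iv0 D51878) D51883 F81923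
def n51884 : Q := act 0 n25179
theorem D51884 : act 0 n25179 = n51884 := rfl
def n51885 : Q := act 1 n25179
theorem D51885 : act 1 n25179 = n51885 := rfl
theorem F81926 : act 1 n51885 = n25184 := d15_1 D51885 (iv7 F81912) F81911
def n51886 : Q := act 4 n25179
theorem D51886 : act 4 n25179 = n51886 := rfl
def n51887 : Q := act 6 n25179
theorem D51887 : act 6 n25179 = n51887 := rfl
def n51888 : Q := act 7 n25179
theorem D51888 : act 7 n25179 = n51888 := rfl
theorem F81927 : act 2 n51888 = n25184 := d4_1 D51888 (iv7 F81912) F81911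
theorem F81928 : act 5 n51888 = n25181 := d13_1 D51888 (iv7 D25181) D25179
theorem F81929 : act 1 n25184 = n51884 := d15_0 (iv0 D51884) D51888 F81927
def n51889 : Q := act 0 n25180
theorem D51889 : act 0 n25180 = n51889 := rfl
def n51890 : Q := act 1 n25180
theorem D51890 : act 1 n25180 = n51890 := rfl
def n51891 : Q := act 5 n25180
theorem D51891 : act 5 n25180 = n51891 := rfl
def n51892 : Q := act 7 n25180
theorem D51892 : act 7 n25180 = n51892 := rfl
def n51894 : Q := act 0 n25182
theorem D51894 : act 0 n25182 = n51894 := rfl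
theorem F81931 : act 4 n51894 = n50675 := d20_0 (iv1 F81637) F81635 F39484 (iv1 F39566) D51793 (iv4 F81920) (iv1 F81925) (iv4 D25183) D25182 D51894
theorem F81932 : act 3 n51894 = n50791 := d20_3 (iv4 F38673) D50675 (iv4 F81931) (iv1 D50791) (iv3 D24718) D24719 D50797 F80176 (iv3 D50703) (iv1 D24684)
def n51895 : Q := act 1 n25182
theorem D51895 : act 1 n25182 = n51895 := rfl
def n51896 : Q := act 2 n25182
theorem D51896 : act 2 n25182 = n51896 := rfl
def n51897 : Q := act 4 n25182
theorem D51897 : act 4 n25182 = n51897 := rfl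
theorem F81933 : act 0 n51723 = n51897 := d20_1 D51723 (iv4 D51897) (iv3 D25182) (iv1 D11951) (iv3 D5606) (iv4 D2326) D2324 D5599 D11933 D25118
def n51898 : Q := act 5 n25182
theorem D51898 : act 5 n25182 = n51898 := rfl
theorem F81934 : act 3 n51898 = n25184 := d6_1 D51898 (iv5 D25184) D25182
def n51899 : Q := act 6 n25182
theorem D51899 : act 6 n25182 = n51899 := rfl
def n51900 : Q := act 3 n25183
theorem D51900 : act 3 n25183 = n51900 := rfl
def n51901 : Q := act 5 n25183
theorem D51901 : act 5 n25183 = n51901 := rfl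
def n51902 : Q := act 6 n25183
theorem D51902 : act 6 n25183 = n51902 := rfl
theorem F81936 : act 4 n51902 = n25185 := d10_1 D51902 (iv6 D25185) D25183
def n51903 : Q := act 4 n25184
theorem D51903 : act 4 n25184 = n51903 := rfl
def n51904 : Q := act 6 n25184
theorem D51904 : act 6 n25184 = n51904 := rfl
def n51905 : Q := act 0 n25185
theorem D51905 : act 0 n25185 = n51905 := rfl
def n51906 : Q := act 1 n25185
theorem D51906 : act 1 n25185 = n51906 := rfl
def n51907 : Q := act 5 n25185
theorem D51907 : act 5 n25185 = n51907 := rfl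
def n51908 : Q := act 7 n25185
theorem D51908 : act 7 n25185 = n51908 := rfl
def n51909 : Q := act 0 n25187
theorem D51909 : act 0 n25187 = n51909 := rfl
theorem F81937 : act 1 n50868 = n51909 := d15_0 (iv0 D51909) F49023 D50868
def n51910 : Q := act 1 n25187
theorem D51910 : act 1 n25187 = n51910 := rfl
def n51911 : Q := act 2 n25187
theorem D51911 : act 2 n25187 = n51911 := rfl
theorem F81938 : act 3 n51911 = n50868 := d0_2 D25187 D51911 (iv2 D50868) (iv3 D24738) F49021
theorem F81939 : act 7 n51911 = n50868 := d4_2 (iv7 F49023) D51911 (iv2 D50868)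
theorem F81940 : act 1 n51911 = n50866 := d15_0 (iv0 D50866) (iv7 F49023) D51911
theorem F81941 : act 1 n51910 = n50868 := d15_1 D51910 (iv7 F81939) (iv2 D51911)
def n51912 : Q := act 4 n25187
theorem D51912 : act 4 n25187 = n51912 := rfl
theorem F81943 : act 7 n51912 = n50869 := d11_2 (iv7 F49023) D51912 (iv4 D50869)
def n51913 : Q := act 5 n25187
theorem D51913 : act 5 n25187 = n51913 := rfl
theorem F81944 : act 3 n51913 = n25189 := d6_1 D51913 (iv5 D25189) D25187
theorem F81945 : act 7 n51913 = n50870 := d13_2 (iv7 F49023) D51913 (iv5 D50870)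
theorem F81946 : act 6 n51596 = n51913 := d14_5 F81945 (iv6 F80239) (iv7 F81444) F81443 (iv7 F81441)
def n51914 : Q := act 6 n25187
theorem D51914 : act 6 n25187 = n51914 := rfl
theorem F81947 : act 3 n51914 = n25190 := d7_1 D51914 (iv6 D25190) D25187
theorem F81948 : act 5 n34167 = n51914 := d6_0 F81947 F39630 D34167
def n51915 : Q := act 3 n25188
theorem D51915 : act 3 n25188 = n51915 := rfl
theorem F81949 : act 7 n51915 = n50873 := d8_2 (iv7 F49024) D51915 (iv3 D50873)
def n51916 : Q := act 6 n25188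
theorem D51916 : act 6 n25188 = n51916 := rfl
theorem F81950 : act 2 n51916 = n50875 := d3_1 D51916 (iv6 D50875) (iv2 F49030)
theorem F81951 : act 4 n51916 = n25190 := d10_1 D51916 (iv6 D25190) D25188
theorem F81952 : act 0 n51916 = n50643 := d21_10 (iv5 F81598) F81599 F79940 (iv6 F39366) (iv1 F39368) D50502 F80063 (iv1 F80382) F80245 D51916
theorem F81953 : act 0 n50713 = n51916 := d21_4 D24605 D50503 F79871 D50713 (iv6 D51916) (iv5 F80245) (iv1 F80381) F80063 (iv6 D50502) (iv1 D24604)
def n51917 : Q := act 6 n25191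
theorem D51917 : act 6 n25191 = n51917 := rfl
theorem F81954 : act 3 n51917 = n25194 := d7_1 D51917 (iv6 D25194) (iv3 F39634)
theorem F81955 : act 4 n51917 = n51769 := d10_1 D51917 (iv6 D51769) (iv4 F39636)
theorem F81956 : act 5 n51917 = n51917 := d12_1 D51917 (iv6 D51917) (iv5 D25191) F19717 D25191
theorem F81957 : act 7 n51917 = n50881 := d14_2 (iv7 F39635) D51917 (iv6 D50881) F38730 (iv6 F38107)
def n51918 : Q := act 6 n25192
theorem D51918 : act 6 n25192 = n51918 := rfl
theorem F81958 : act 2 n51918 = n50881 := d3_1 D51918 (iv6 D50881) (iv2 F39642)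
theorem F81959 : act 4 n51918 = n51698 := d10_1 D51918 (iv6 D51698) (iv4 F39644)
theorem F81960 : act 5 n51918 = n51918 := d12_1 D51918 (iv6 D51918) (iv5 D25192) F19723 D25192
def n51919 : Q := act 3 n25193
theorem D51919 : act 3 n25193 = n51919 := rfl
theorem F81961 : act 4 n51919 = n51768 := d5_2 D25193 D51919 (iv3 D51768) (iv4 F39636) F39634
theorem F81962 : act 7 n51919 = n49883 := d8_2 (iv7 F39649) D51919 (iv3 D49883)
def n51920 : Q := act 5 n25193
theorem D51920 : act 5 n25193 = n51920 := rfl
theorem F81963 : act 2 n51920 = n50990 := d2_1 D51920 (iv5 D50990) (iv2 F39648)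
theorem F81964 : act 4 n51920 = n51572 := d9_1 D51920 F81406 (iv4 F39471) (iv5 D24238) F18639 D11459 D24326 D49886 (iv4 F81401) F81399 (iv4 F39644) (iv5 D25192) (iv4 D11955) D11956 D25193
theorem F81965 : act 7 n51920 = n49884 := d13_2 (iv7 F39649) D51920 (iv5 D49884)
theorem F81966 : act 0 n51920 = n51402 := d17_2 F76525 D51920 (iv5 D51402) (iv4 D24987) (iv5 D11866) F18996 D24614 F38615 D48649
def n51921 : Q := act 6 n25193
theorem D51921 : act 6 n25193 = n51921 := rfl
theorem F81967 : act 2 n51921 = n50991 := d3_1 D51921 (iv6 D50991) (iv2 F39648)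
theorem F81968 : act 4 n51921 = n25194 := d10_1 D51921 (iv6 D25194) D25193
theorem F81969 : act 7 n51921 = n50885 := d14_2 (iv7 F39649) D51921 (iv6 D50885) F38735 (iv6 F38111)
def n51922 : Q := act 0 n25194
theorem D51922 : act 0 n25194 = n51922 := rfl
theorem F81970 : act 1 n25252 = n51922 := d15_0 (iv0 D51922) F39653 (iv2 F39811)
def n51923 : Q := act 1 n25194
theorem D51923 : act 1 n25194 = n51923 := rfl
def n51924 : Q := act 3 n25195
theorem D51924 : act 3 n25195 = n51924 := rfl
theorem F81972 : act 4 n51924 = n50888 := d5_2 D25195 D51924 (iv3 D50888) (iv4 D24749) (iv3 F19730)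
theorem F81973 : act 7 n51924 = n50992 := d8_2 (iv7 F39655) D51924 (iv3 D50992)
def n51925 : Q := act 6 n25195
theorem D51925 : act 6 n25195 = n51925 := rfl
theorem F81974 : act 2 n51925 = n25207 := d3_1 D51925 (iv6 D25207) (iv2 F39654)
theorem F81975 : act 4 n51925 = n25196 := d10_1 D51925 (iv6 D25196) D25195
def n51926 : Q := act 0 n25196
theorem D51926 : act 0 n25196 = n51926 := rfl
theorem F81976 : act 6 n51926 = n50891 := d21_5 (iv5 D11455) (iv1 F19325) D11957 D25196 D51926 F80286 (iv1 D28815) F22981 (iv6 D13430) F19487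
theorem F81977 : act 5 n51926 = n29380 := d21_0 (iv1 D29380) F23274 (iv6 D13381) F19555 (iv6 F18721) (iv5 D11455) (iv1 F19325) D11957 D25196 D51926
def n51927 : Q := act 1 n25196
theorem D51927 : act 1 n25196 = n51927 := rfl
theorem F81978 : act 1 n51927 = n25210 := d15_1 D51927 (iv7 D25210) (iv2 F39658)
theorem F81979 : act 5 n29379 = n51927 := d21_0 (iv1 D51927) (iv5 F45627) (iv6 D28203) (iv1 D13465) (iv6 F18087) (iv5 D11145) F19455 D6643 D13974 D29379
def n51928 : Q := act 7 n25196
theorem D51928 : act 7 n25196 = n51928 := rfl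
theorem F81980 : act 2 n51928 = n25210 := d4_1 D51928 (iv7 D25210) (iv2 F39658)
theorem F81981 : act 3 n51928 = n50893 := d8_1 D51928 (iv7 D50893) (iv3 F39659)
theorem F81982 : act 6 n51928 = n50906 := d14_1 D51928 F80313 (iv6 D24802) (iv7 F19731) D25196
theorem F81983 : act 1 n25210 = n51926 := d15_0 (iv0 D51926) D51928 F81980
theorem F81984 : act 1 n25209 = n51928 := d15_1 D25209 (iv7 D51928) F39658
theorem F81985 : act 1 n51928 = n25208 := d15_0 (iv0 D25208) D25210 (iv2 F81980)
def n51929 : Q := act 6 n25198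
theorem D51929 : act 6 n25198 = n51929 := rfl
theorem F81986 : act 3 n51929 = n25200 := d7_1 D51929 (iv6 D25200) D25198
theorem F81987 : act 4 n51929 = n51654 := d10_1 D51929 (iv6 D51654) (iv4 F39669)
theorem F81988 : act 5 n51929 = n50248 := d12_1 D51929 (iv6 D50248) (iv5 D24503) D24504 (iv5 F39667)
def n51930 : Q := act 3 n25199
theorem D51930 : act 3 n25199 = n51930 := rfl
theorem F81989 : act 4 n51930 = n51653 := d5_2 D25199 D51930 (iv3 D51653) (iv4 F39669) (iv3 D25198)
theorem F81990 : act 7 n51930 = n50997 := d8_2 (iv7 F39677) D51930 (iv3 D50997)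
def n51931 : Q := act 5 n25199
theorem D51931 : act 5 n25199 = n51931 := rfl
theorem F81991 : act 2 n51931 = n51003 := d2_1 D51931 (iv5 D51003) (iv2 F39676)
theorem F81992 : act 7 n51931 = n50998 := d13_2 (iv7 F39677) D51931 (iv5 D50998)
theorem F81993 : act 4 n51931 = n50681 := d16_2 D25199 D51931 F80043 (iv4 F39830) F39828 F38803 F22584 F22582 (iv2 F22579)
theorem F81994 : act 3 n51931 = n32183 := d20_3 (iv4 F81613) F81615 (iv4 F81993) (iv1 D32183) (iv3 D15188) (iv4 D7205) D7203 D15178 D32155 F51121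
theorem F81995 : act 5 n32183 = n51930 := d6_2 D51931 F81994 (iv3 D51930)
def n51932 : Q := act 6 n25199
theorem D51932 : act 6 n25199 = n51932 := rfl
theorem F81996 : act 2 n51932 = n51004 := d3_1 D51932 (iv6 D51004) (iv2 F39676)
theorem F81997 : act 4 n51932 = n25200 := d10_1 D51932 (iv6 D25200) D25199
def n51933 : Q := act 0 n25200
theorem D51933 : act 0 n25200 = n51933 := rfl
def n51934 : Q := act 1 n25200
theorem D51934 : act 1 n25200 = n51934 := rfl
theorem F81998 : act 1 n51934 = n51007 := d15_1 D51934 (iv7 D51007) (iv2 F39679)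
def n51935 : Q := act 7 n25200
theorem D51935 : act 7 n25200 = n51935 := rfl
theorem F81999 : act 2 n51935 = n51007 := d4_1 D51935 (iv7 D51007) (iv2 F39679)
theorem F82000 : act 6 n51935 = n51000 := d14_1 D51935 (iv7 D51000) (iv6 D24807) F22581 D25200
theorem F82001 : act 1 n51007 = n51933 := d15_0 (iv0 D51933) D51935 F81999
theorem F82002 : act 1 n51006 = n51935 := d15_1 D51006 (iv7 D51935) F39679
theorem F82003 : act 1 n51935 = n51005 := d15_0 (iv0 D51005) D51007 (iv2 F81999)
def n51936 : Q := act 3 n25201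
theorem D51936 : act 3 n25201 = n51936 := rfl
theorem F82004 : act 7 n51936 = n51002 := d8_2 (iv7 F39681) D51936 (iv3 D51002)
def n51937 : Q := act 5 n25201
theorem D51937 : act 5 n25201 = n51937 := rfl
theorem F82005 : act 2 n51937 = n50998 := d2_1 D51937 (iv5 D50998) (iv2 F39680)
theorem F82006 : act 4 n51937 = n50680 := d9_1 D51937 F80039 (iv4 F76573) F76572 F38491 F22576 D25199 D51931 F81993 F80043 (iv4 F39830) F39828 F38803 F22584 D25201
theorem F82007 : act 7 n51937 = n51003 := d13_2 (iv7 F39681) D51937 (iv5 D51003)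
def n51938 : Q := act 6 n25201
theorem D51938 : act 6 n25201 = n51938 := rfl
theorem F82008 : act 2 n51938 = n50999 := d3_1 D51938 (iv6 D50999) (iv2 F39680)
theorem F82009 : act 4 n51938 = n25202 := d10_1 D51938 (iv6 D25202) D25201
def n51939 : Q := act 1 n25202
theorem D51939 : act 1 n25202 = n51939 := rfl
theorem F82010 : act 1 n51939 = n51000 := d15_1 D51939 (iv7 D51000) (iv2 F39683)
theorem F82011 : act 7 n51939 = n25254 := d15_2 (iv0 F39684) D51939 F39818
theorem F82012 : act 2 n25269 = n51939 := d4_3 F82011 F39818 D25269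
theorem F82013 : act 3 n50906 = n51939 := d8_3 F82011 F39819 (iv7 F80313)
theorem F82014 : act 6 n50893 = n51939 := d14_5 F82011 (iv6 D25254) F19824 D24750 D50893
theorem E8242 : n51000 = n25267 := (c15_1 F82010 (iv0 D25267) D25269 F82012)
theorem F82015 : act 0 n25267 = n51939 := (sb E8242 (iv1 F82010))
theorem F82016 : act 5 n25267 = n49930 := (sb E8242 F80452)
theorem F82017 : act 6 n25267 = n51935 := (sb E8242 (iv6 F82000))
theorem F82018 : act 7 n25267 = n24807 := (sb E8242 (iv7 D51000))
def n51940 : Q := act 7 n25202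
theorem D51940 : act 7 n25202 = n51940 := rfl
theorem F82019 : act 2 n51940 = n25267 := d4_1 D51940 F82018 (iv2 F39683)
theorem F82020 : act 6 n51940 = n51007 := d14_1 D51940 (iv7 D51007) (iv6 D24810) (iv7 F22582) D25202
theorem F82021 : act 1 n25269 = n51940 := d15_1 F39870 (iv7 D51940) F39683
theorem F82022 : act 1 n51940 = n25254 := d15_1 F82021 (iv7 F82011) (iv2 F82012)
def n51941 : Q := act 3 n25203
theorem D51941 : act 3 n25203 = n51941 := rfl
theorem F82023 : act 7 n51941 = n51008 := d8_2 (iv7 F39691) D51941 (iv3 D51008)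
def n51942 : Q := act 5 n25203
theorem D51942 : act 5 n25203 = n51942 := rfl
theorem F82024 : act 2 n51942 = n51012 := d2_1 D51942 (iv5 D51012) F39690
theorem F82025 : act 4 n51942 = n51558 := d9_1 D51942 (iv5 D51558) (iv4 D25046) F22585 (iv4 F24060) (iv5 F38621) (iv4 F39687) F51122 (iv4 F81348) (iv5 D51551) (iv4 D25043) F22574 (iv4 F23925) F40174 F40176
theorem F82026 : act 7 n51942 = n51009 := d13_2 (iv7 F39691) D51942 (iv5 D51009)
theorem F82027 : act 0 n51942 = n50682 := d17_2 D25203 D51942 F80046 (iv4 D28025) F22241 F19778 F22576 (iv0 D11959) D11961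
theorem F82028 : act 1 n51942 = n28137 := d17_6 F38614 F23804 (iv1 F24063) F40174 F40176 D51942 (iv5 D28137) D28136 F45495
def n51943 : Q := act 6 n25203
theorem D51943 : act 6 n25203 = n51943 := rfl
theorem F82029 : act 2 n51943 = n51013 := d3_1 D51943 (iv6 D51013) F39690
def n51944 : Q := act 6 n25204
theorem D51944 : act 6 n25204 = n51944 := rfl
theorem F82030 : act 2 n51944 = n51010 := d3_1 D51944 (iv6 D51010) F39688
theorem F82031 : act 4 n51944 = n50255 := d10_1 D51944 (iv6 F79630) (iv4 F39687)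
theorem F82032 : act 0 n51944 = n25266 := d21_4 (iv5 F80046) F80047 (iv5 F51122) D51944 (iv6 D25266) D25265 (iv1 F40123) (iv5 D25376) (iv6 F40097) (iv1 F45294)
def n51945 : Q := act 0 n25205
theorem D51945 : act 0 n25205 = n51945 := rfl
theorem F82033 : act 1 n51016 = n51945 := d15_0 (iv0 D51945) F39693 D51016
def n51946 : Q := act 1 n25205
theorem D51946 : act 1 n25205 = n51946 := rfl
theorem F82034 : act 4 n51671 = n51946 := d20_6 (iv4 D11905) (iv1 F8506) D5594 D11924 D25100 D51671 (iv1 D51946) F39692 (iv3 D11968) (iv1 F19606)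
theorem F82035 : act 0 n51016 = n51946 := d20_7 (iv4 F79824) (iv1 F81562) (iv4 F81558) (iv3 D50960) (iv1 F39895) F39892 (iv4 F80474) (iv4 F82034) (iv3 D51671) (iv1 F39444)
def n51947 : Q := act 2 n25205
theorem D51947 : act 2 n25205 = n51947 := rfl
theorem F82036 : act 4 n51947 = n25220 := d1_2 (iv4 F39692) D51947 (iv2 D25220)
theorem F82037 : act 7 n51947 = n51016 := d4_2 (iv7 F39693) D51947 (iv2 D51016)
theorem F82038 : act 1 n51947 = n51014 := d15_0 (iv0 D51014) (iv7 F39693) D51947
theorem F82039 : act 1 n51015 = n51947 := d15_1 D51015 F82037 (iv2 D51016)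
def n51948 : Q := act 5 n25205
theorem D51948 : act 5 n25205 = n51948 := rfl
theorem F82040 : act 3 n51948 = n25206 := d6_1 D51948 (iv5 D25206) D25205
theorem F82041 : act 7 n51948 = n51017 := d13_2 (iv7 F39693) D51948 (iv5 D51017)
def n51949 : Q := act 6 n25205
theorem D51949 : act 6 n25205 = n51949 := rfl
def n51950 : Q := act 0 n25206
theorem D51950 : act 0 n25206 = n51950 := rfl
theorem F82044 : act 5 n51950 = n28027 := d17_1 D51950 F45490 (iv5 F81645) (iv4 D51705) (iv5 D25113) D25111 (iv5 F81406) F81404 F79902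
theorem F82045 : act 4 n51950 = n34034 := d18_3 (iv1 F81400) F79902 D51950 (iv5 D34034) (iv4 D16486) F22452 D24673 F39469 (iv5 F81399)
theorem F82046 : act 1 n50993 = n51950 := d15_0 (iv0 D51950) F39694 (iv2 F80435)
theorem F82047 : act 2 n32096 = n51950 := d1_3 F82045 F53386 F53379
theorem F82048 : act 7 n51019 = n51950 := d11_0 F82045 (iv7 F79899) F80480
def n51951 : Q := act 1 n25206
theorem D51951 : act 1 n25206 = n51951 := rfl
theorem F82049 : act 1 n51951 = n50993 := d15_1 D51951 F80437 F79919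
theorem F82050 : act 7 n51951 = n32096 := d15_2 (iv0 D51950) D51951 F82047
theorem F82051 : act 5 n51951 = n28028 := d17_7 (iv1 F22340) (iv5 D11459) F19381 D5637 D11961 D25206 D51951 (iv0 F45489) (iv4 D28134)
theorem F82052 : act 3 n32099 = n51951 := d19_19 (iv1 D51951) (iv5 D25206) (iv4 D11961) F8631 F7713 (iv5 D3273) F2568 (iv3 F2567) (iv1 F10188) (iv5 D2717) (iv4 F9921) (iv3 D1154) (iv1 F1314) (iv5 F1512) (iv4 F2575) (iv3 F5305) (iv1 F24782) (iv5 F24762) (iv4 F51041)
theorem F82053 : act 4 n51951 = n51540 := d5_2 (iv4 F51041) F82052 F81315 (iv4 D32114) F24788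
theorem F82054 : act 2 n51019 = n51951 := d1_3 F82053 F81314 F80480
def n51952 : Q := act 6 n25206
theorem D51952 : act 6 n25206 = n51952 := rfl
def n51953 : Q := act 0 n25207
theorem D51953 : act 0 n25207 = n51953 := rfl
def n51954 : Q := act 1 n25207
theorem D51954 : act 1 n25207 = n51954 := rfl
def n51955 : Q := act 5 n25207
theorem D51955 : act 5 n25207 = n51955 := rfl
def n51956 : Q := act 7 n25207
theorem D51956 : act 7 n25207 = n51956 := rfl
theorem F82055 : act 4 n51956 = n25210 := d11_1 D51956 (iv7 D25210) (iv4 F39695)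
def n51957 : Q := act 2 n25208
theorem D51957 : act 2 n25208 = n51957 := rfl
theorem F82057 : act 6 n51957 = n50927 := d3_2 (iv6 F80342) D51957 (iv2 D50927)
theorem F82058 : act 7 n25209 = n51957 := d15_2 (iv0 D25208) D25209 (iv2 D51957)
def n51958 : Q := act 3 n25208
theorem D51958 : act 3 n25208 = n51958 := rfl
theorem F82059 : act 6 n51958 = n50928 := d7_2 (iv6 F80342) D51958 (iv3 D50928)
def n51959 : Q := act 4 n25208
theorem D51959 : act 4 n25208 = n51959 := rfl
theorem F82060 : act 6 n51959 = n50929 := d10_2 (iv6 F80342) D51959 (iv4 D50929)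
def n51960 : Q := act 5 n25208
theorem D51960 : act 5 n25208 = n51960 := rfl
theorem F82061 : act 0 n51960 = n29366 := d21_1 D51960 F47035 (iv6 D28044) (iv1 F22248) (iv6 F18725) (iv5 D11459) F19381 D5637 D11962 D25208
theorem F82062 : act 1 n51960 = n29381 := d15_1 (iv0 F82061) (iv7 D29381) (iv2 F47033)
def n51961 : Q := act 7 n25208
theorem D51961 : act 7 n25208 = n51961 := rfl
theorem F82063 : act 2 n51961 = n25209 := d4_1 D51961 F82058 (iv2 D51957)
def n51962 : Q := act 3 n25209
theorem D51962 : act 3 n25209 = n51962 := rfl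
def n51963 : Q := act 4 n25209
theorem D51963 : act 4 n25209 = n51963 := rfl
def n51964 : Q := act 5 n25209
theorem D51964 : act 5 n25209 = n51964 := rfl
theorem F82064 : act 0 n29366 = n51964 := d21_10 (iv5 D51964) (iv1 D25209) (iv5 F23358) (iv6 D14009) F19421 (iv6 F18083) (iv5 D11141) (iv1 F19481) D13969 D29366
theorem F82065 : act 6 n50934 = n51964 := d21_5 (iv5 D6399) D6397 D13455 D28186 F80345 (iv5 D51964) (iv1 D25209) (iv5 F23358) (iv6 D14009) F19421
def n51965 : Q := act 6 n25209
theorem D51965 : act 6 n25209 = n51965 := rfl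
theorem F82066 : act 5 n51965 = n50935 := d12_1 D51965 (iv6 D50935) D50934 F82065 (iv5 D51964)
theorem F82067 : act 7 n51965 = n50935 := d14_2 (iv7 F82058) D51965 (iv6 D50935) F80340 (iv6 F82057)
def n51966 : Q := act 0 n25212
theorem D51966 : act 0 n25212 = n51966 := rfl
theorem F82068 : act 5 n51966 = n28182 := d17_1 D51966 (iv1 F45619) F45617 F22414 (iv5 F22429) F22431 (iv5 F39663) F39666 D25212
theorem F82069 : act 4 n51966 = n30060 := d18_3 D11963 D25212 D51966 (iv5 D30060) (iv4 F45594) (iv0 D28189) (iv4 D13457) (iv0 F19421) F10808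
theorem F82070 : act 3 n51966 = n49375 := d20_5 F19258 (iv1 F24184) (iv4 F23690) (iv3 F39703) D51966 F78070 (iv1 F37755) (iv4 F38349) (iv3 F39106) (iv1 F39108)
theorem F82071 : act 6 n51966 = n49719 := d21_5 D29321 (iv1 F47982) (iv5 D29814) (iv6 F39704) D51966 F78573 (iv1 F48741) (iv5 D23793) D23794 F38727
theorem F82072 : act 2 n48675 = n51966 := d15_3 (iv0 D51966) (iv0 F39705) D48675
theorem F82073 : act 1 n25214 = n51966 := d15_0 (iv0 D51966) (iv7 F49175) F49172
theorem F82074 : act 7 n51966 = n48672 := d15_2 (iv0 F39710) F82073 F76566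
def n51967 : Q := act 5 n25216
theorem D51967 : act 5 n25216 = n51967 := rfl
theorem F82075 : act 7 n51967 = n50938 := d13_2 (iv7 F39717) D51967 (iv5 D50938)
theorem F82076 : act 1 n51967 = n50285 := d17_6 D13332 F24468 F24467 (iv5 F19746) D25216 D51967 (iv5 D50285) (iv0 F38504) (iv4 D13334)
def n51968 : Q := act 6 n25216
theorem D51968 : act 6 n25216 = n51968 := rfl
theorem F82077 : act 4 n51968 = n25217 := d10_1 D51968 (iv6 D25217) D25216
theorem F82078 : act 0 n51968 = n25404 := d21_4 D50285 (iv1 F82076) (iv5 D51967) D51968 (iv6 D25404) D25403 F40183 (iv5 D23945) (iv6 F22189) F38504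
theorem F82079 : act 7 n51047 = n51968 := d11_0 F82077 (iv7 F39721) D51047
def n51969 : Q := act 2 n25218
theorem D51969 : act 2 n25218 = n51969 := rfl
theorem F82080 : act 7 n25219 = n51969 := d15_2 (iv0 D25218) D25219 (iv2 D51969)
def n51970 : Q := act 3 n25218
theorem D51970 : act 3 n25218 = n51970 := rfl
theorem F82081 : act 4 n51970 = n50541 := d20_6 F18983 (iv1 D5639) D5640 D11968 D25218 D51970 (iv1 D50541) F38625 (iv3 D11665) (iv1 F18982)
def n51971 : Q := act 4 n25218
theorem D51971 : act 4 n25218 = n51971 := rfl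
def n51972 : Q := act 5 n25218
theorem D51972 : act 5 n25218 = n51972 := rfl
def n51973 : Q := act 6 n25218
theorem D51973 : act 6 n25218 = n51973 := rfl
def n51974 : Q := act 7 n25218
theorem D51974 : act 7 n25218 = n51974 := rfl
theorem F82082 : act 2 n51974 = n25219 := d4_1 D51974 F82080 (iv2 D51969)
def n51975 : Q := act 3 n25219
theorem D51975 : act 3 n25219 = n51975 := rfl
def n51976 : Q := act 4 n25219
theorem D51976 : act 4 n25219 = n51976 := rfl
def n51977 : Q := act 5 n25219
theorem D51977 : act 5 n25219 = n51977 := rfl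
def n51984 : Q := act 4 n25224
theorem D51984 : act 4 n25224 = n51984 := rfl
def n51985 : Q := act 7 n25224
theorem D51985 : act 7 n25224 = n51985 := rfl
theorem F82092 : act 5 n51985 = n25225 := d13_1 D51985 (iv7 D25225) D25224
theorem F82093 : act 1 n50734 = n51985 := d15_1 (iv0 F80078) (iv7 D51985) F39731
def n51986 : Q := act 0 n25227
theorem D51986 : act 0 n25227 = n51986 := rfl
theorem F82095 : act 1 n50983 = n51986 := d15_0 (iv0 D51986) (iv7 F45364) D50983
def n51987 : Q := act 1 n25227
theorem D51987 : act 1 n25227 = n51987 := rfl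
def n51988 : Q := act 2 n25227
theorem D51988 : act 2 n25227 = n51988 := rfl
theorem F82096 : act 3 n51988 = n50978 := d0_2 D25227 D51988 (iv2 D50978) (iv3 D24790) F45355
theorem F82098 : act 7 n51988 = n50983 := d4_2 F45364 D51988 (iv2 D50983)
theorem F82100 : act 1 n51987 = n50983 := d15_1 D51987 (iv7 F82098) (iv2 D51988)
def n51989 : Q := act 4 n25227
theorem D51989 : act 4 n25227 = n51989 := rfl
theorem F82102 : act 6 n51989 = n50979 := d10_2 (iv6 F39741) D51989 (iv4 D50979)
theorem F82103 : act 7 n51989 = n50984 := d11_2 F45364 D51989 (iv4 D50984)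
def n51990 : Q := act 0 n25230
theorem D51990 : act 0 n25230 = n51990 := rfl
def n51991 : Q := act 1 n25230
theorem D51991 : act 1 n25230 = n51991 := rfl
def n51992 : Q := act 2 n25230
theorem D51992 : act 2 n25230 = n51992 := rfl
theorem F82105 : act 3 n51992 = n50983 := d0_2 D25230 D51992 (iv2 D50983) (iv3 D24793) (iv2 F45353)
theorem F82106 : act 7 n51992 = n50978 := d4_2 (iv7 F45357) D51992 (iv2 D50978)
theorem F82107 : act 1 n51992 = n50976 := d15_0 (iv0 D50976) (iv7 F45357) D51992
theorem F82108 : act 1 n51991 = n50978 := d15_1 D51991 (iv7 F82106) (iv2 D51992)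
theorem F82109 : act 1 n50977 = n51992 := d15_1 D50977 F82106 (iv2 D50978)
def n51993 : Q := act 4 n25230
theorem D51993 : act 4 n25230 = n51993 := rfl
theorem F82110 : act 7 n51993 = n50979 := d11_2 (iv7 F45357) D51993 (iv4 D50979)
def n51994 : Q := act 6 n25230
theorem D51994 : act 6 n25230 = n51994 := rfl
theorem F82111 : act 3 n51994 = n25232 := d7_1 D51994 (iv6 D25232) D25230
theorem F82112 : act 5 n51994 = n50985 := d12_1 D51994 (iv6 D50985) (iv5 F47099) F47100 F46481
theorem F82113 : act 7 n51994 = n50985 := d14_2 (iv7 F45357) D51994 (iv6 D50985) F45364 F39741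
def n51995 : Q := act 1 n25238
theorem D51995 : act 1 n25238 = n51995 := rfl
theorem F82114 : act 1 n51995 = n49418 := d15_1 D51995 F78362 (iv2 F39771)
theorem F82115 : act 7 n51995 = n34060 := d15_2 (iv0 F39773) D51995 F53456
theorem F82116 : act 2 n49420 = n51995 := d4_3 F82115 F53456 D49420
theorem F82117 : act 3 n34068 = n51995 := d8_3 F82115 F53457 D34068
theorem F82118 : act 6 n49412 = n51995 := d14_5 F82115 (iv6 D34060) F26085 D24113 D49412
theorem F82119 : act 0 n49561 = n30419 := d21_1 D49561 (iv5 F78143) F82118 (iv1 D51995) (iv6 D25238) F19784 F18569 F10112 D11359 D24182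
def n51996 : Q := act 7 n25238
theorem D51996 : act 7 n25238 = n51996 := rfl
theorem F82120 : act 2 n51996 = n49418 := d4_1 D51996 F78362 (iv2 F39771)
theorem F82121 : act 5 n51996 = n49338 := d13_1 D51996 (iv7 D49338) (iv5 F39772)
theorem F82122 : act 6 n51996 = n49460 := d14_1 D51996 (iv7 D49460) (iv6 D24141) F19787 D25238
theorem F82123 : act 1 n49420 = n51996 := d15_1 F78153 (iv7 D51996) F39771
theorem F82124 : act 1 n51996 = n34060 := d15_1 F82123 (iv7 F82115) (iv2 F82116)
def n51997 : Q := act 0 n25239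
theorem D51997 : act 0 n25239 = n51997 := rfl
def n51998 : Q := act 1 n25239
theorem D51998 : act 1 n25239 = n51998 := rfl
theorem F82125 : act 1 n51998 = n49460 := d15_1 D51998 (iv7 D49460) (iv2 F39774)
def n51999 : Q := act 7 n25239
theorem D51999 : act 7 n25239 = n51999 := rfl
theorem F82126 : act 2 n51999 = n49460 := d4_1 D51999 (iv7 D49460) (iv2 F39774)
theorem F82127 : act 5 n51999 = n48648 := d13_1 D51999 (iv7 D48648) (iv5 F39775)
theorem F82128 : act 6 n51999 = n49418 := d14_1 D51999 F78362 (iv6 D24143) (iv7 F19789) D25239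
theorem F82129 : act 1 n49460 = n51997 := d15_0 (iv0 D51997) D51999 F82126
theorem F82130 : act 1 n49459 = n51999 := d15_1 D49459 (iv7 D51999) F39774
theorem F82131 : act 0 n49458 = n51999 := d21_4 F77642 (iv1 F77644) D49618 (iv6 F78364) F82128 F78361 (iv1 F78044) (iv5 F78359) (iv6 D49614) (iv1 F77645)
def n52000 : Q := act 0 n25240
theorem D52000 : act 0 n25240 = n52000 := rfl
theorem F82132 : act 1 n49466 = n52000 := d15_0 (iv0 D52000) F39776 D49466
def n52001 : Q := act 1 n25240
theorem D52001 : act 1 n25240 = n52001 := rfl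
def n52002 : Q := act 2 n25240
theorem D52002 : act 2 n25240 = n52002 := rfl
theorem F82133 : act 3 n52002 = n49499 := d0_2 D25240 D52002 (iv2 D49499) (iv3 D24162) (iv2 F19792)
theorem F82134 : act 7 n52002 = n49466 := d4_2 (iv7 F39776) D52002 (iv2 D49466)
theorem F82135 : act 1 n52002 = n49464 := d15_0 (iv0 D49464) (iv7 F39776) D52002
theorem F82136 : act 1 n52001 = n49466 := d15_1 D52001 (iv7 F82134) (iv2 D52002)
theorem F82137 : act 1 n49465 = n52002 := d15_1 D49465 F82134 (iv2 D49466)
def n52003 : Q := act 6 n25240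
theorem D52003 : act 6 n25240 = n52003 := rfl
theorem F82138 : act 3 n52003 = n25241 := d7_1 D52003 (iv6 D25241) D25240
def n52004 : Q := act 0 n25241
theorem D52004 : act 0 n25241 = n52004 := rfl
def n52005 : Q := act 1 n25241
theorem D52005 : act 1 n25241 = n52005 := rfl
theorem F82139 : act 1 n52005 = n49504 := d15_1 D52005 (iv7 D49504) (iv2 F39777)
def n52006 : Q := act 5 n25241
theorem D52006 : act 5 n25241 = n52006 := rfl
theorem F82140 : act 2 n52006 = n49503 := d2_1 D52006 (iv5 D49503) (iv2 F39777)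
def n52007 : Q := act 7 n25241
theorem D52007 : act 7 n25241 = n52007 := rfl
theorem F82141 : act 2 n52007 = n49504 := d4_1 D52007 (iv7 D49504) (iv2 F39777)
theorem F82142 : act 4 n52007 = n25245 := d11_1 D52007 (iv7 D25245) (iv4 F39778)
theorem F82143 : act 6 n52007 = n49471 := d14_1 D52007 (iv7 D49471) (iv6 D24145) (iv7 F19793) D25241
theorem F82144 : act 1 n49504 = n52004 := d15_0 (iv0 D52004) D52007 F82141
theorem F82145 : act 1 n49502 = n52007 := d15_1 D49502 (iv7 D52007) F39777
theorem F82146 : act 0 n31738 = n52007 := d20_1 D31738 F82142 (iv3 F40804) (iv1 F40805) (iv3 D14641) D14642 F47637 F11438 (iv3 F11425) D14929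
theorem E8243 : n49501 = n31738 := ((c15_1 (iv0 F82146) (iv0 D49501) D49504 (iv2 F82141))).symm
theorem F82147 : act 1 n31738 = n24163 := (sb E8243 (iv0 D49501))
theorem E8244 : n49502 = n31741 := ((c15_4 F82145 (iv0 F82146) (iv7 F78462) F78460)).symm
theorem F82148 : act 0 n31741 = n24163 := (sb E8244 (iv1 D49502))
theorem F82149 : act 1 n31741 = n52007 := (sb E8244 F82145)
theorem F82150 : act 0 n50260 = n30879 := d20_7 (iv4 F82142) (iv1 F82149) (iv4 D31741) D31740 F79641 F79640 (iv4 F79642) (iv4 D30879) (iv3 F53450) (iv1 F39790)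
def n52008 : Q := act 3 n25242
theorem D52008 : act 3 n25242 = n52008 := rfl
theorem F82151 : act 7 n52008 = n30352 := d8_2 (iv7 F53448) D52008 (iv3 F53447)
theorem F82152 : act 1 n30354 = n52008 := d15_1 F49335 F82151 F49333
theorem F82153 : act 2 n52008 = n30351 := d15_3 (iv0 D30351) D30352 (iv7 F82151)
theorem F82154 : act 3 n30351 = n30831 := d0_2 D52008 F82153 F49268 (iv3 F53450) F53449
theorem F82155 : act 7 n30351 = n30881 := d4_2 (iv7 F82151) F82153 (iv2 F49333)
theorem F82156 : act 1 n52008 = n30158 := d15_0 (iv0 F49334) (iv7 F82155) (iv2 F82153)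
def n52009 : Q := act 5 n25242
theorem D52009 : act 5 n25242 = n52009 := rfl
theorem F82157 : act 2 n52009 = n49506 := d2_1 D52009 (iv5 D49506) F53449
theorem F82158 : act 7 n52009 = n48631 := d13_2 (iv7 F53448) D52009 F76478
theorem F82159 : act 0 n52009 = n50288 := d21_1 D52009 (iv5 F79670) (iv6 D49619) (iv1 D24197) (iv6 D11365) F7801 F9991 D5653 D11983 D25242
theorem F82160 : act 1 n52009 = n50287 := d15_0 (iv0 D50287) (iv7 F78257) (iv2 F82157)
def n52010 : Q := act 6 n25242
theorem D52010 : act 6 n25242 = n52010 := rfl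
theorem F82161 : act 2 n52010 = n49507 := d3_1 D52010 (iv6 D49507) F53449
theorem F82162 : act 7 n52010 = n49405 := d14_2 (iv7 F53448) D52010 (iv6 D49405) (iv7 F53443) F53445
def n52011 : Q := act 0 n25244
theorem D52011 : act 0 n25244 = n52011 := rfl
def n52012 : Q := act 1 n25244
theorem D52012 : act 1 n25244 = n52012 := rfl
theorem F82163 : act 1 n52012 = n49512 := d15_1 D52012 (iv7 D49512) (iv2 F39780)
theorem F82164 : act 5 n49562 = n52012 := d21_6 F19784 F18569 F10112 D11359 D24182 D49562 (iv1 D52012) (iv5 D25244) (iv6 D11983) D11980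
def n52013 : Q := act 4 n25244
theorem D52013 : act 4 n25244 = n52013 := rfl
theorem F82165 : act 2 n52013 = n49511 := d1_1 D52013 (iv4 D49511) (iv2 F39780)
theorem F82166 : act 6 n52013 = n25247 := d10_2 (iv6 F39782) D52013 (iv4 D25247)
def n52014 : Q := act 7 n25244
theorem D52014 : act 7 n25244 = n52014 := rfl
theorem F82167 : act 2 n52014 = n49512 := d4_1 D52014 (iv7 D49512) (iv2 F39780)
theorem F82168 : act 3 n52014 = n51650 := d8_1 D52014 (iv7 D51650) (iv3 F39781)
theorem F82169 : act 5 n52014 = n25245 := d13_1 D52014 (iv7 D25245) D25244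
theorem F82170 : act 1 n49512 = n52011 := d15_0 (iv0 D52011) D52014 F82167
theorem F82171 : act 1 n49510 = n52014 := d15_1 D49510 (iv7 D52014) F39780
theorem F82172 : act 1 n52014 = n49509 := d15_0 (iv0 D49509) D49512 (iv2 F82167)
def n52015 : Q := act 3 n25247
theorem D52015 : act 3 n25247 = n52015 := rfl
theorem F82173 : act 4 n52015 = n51645 := d5_2 D25247 D52015 (iv3 D51645) (iv4 D25090) (iv3 F19801)
def n52016 : Q := act 5 n25247
theorem D52016 : act 5 n25247 = n52016 := rfl
theorem F82174 : act 2 n52016 = n49514 := d2_1 D52016 (iv5 D49514) (iv2 F39798)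
theorem F82175 : act 7 n52016 = n31518 := d13_2 F45873 D52016 F49857
theorem F82176 : act 4 n52016 = n25452 := d16_2 D25247 D52016 (iv5 D25452) (iv4 D12098) (iv5 F8830) (iv4 F18535) (iv5 F19981) F19980 (iv2 F19800)
theorem F82177 : act 0 n52016 = n28392 := d17_2 (iv1 F39800) D52016 F45914 F36913 (iv5 F18596) (iv0 D11382) D11383 F18604 D12095
theorem F82178 : act 1 n52016 = n48660 := d17_6 (iv1 F18008) (iv5 F18383) F18389 D11985 D25247 D52016 (iv5 D48660) F36917 F20004
def n52017 : Q := act 5 n25248
theorem D52017 : act 5 n25248 = n52017 := rfl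
theorem F82179 : act 3 n52017 = n25249 := d6_1 D52017 (iv5 D25249) D25248
theorem F82180 : act 7 n52017 = n31575 := d13_2 (iv7 F39802) D52017 (iv5 D31575)
theorem F82181 : act 0 n52017 = n31952 := d17_2 (iv1 F55235) D52017 (iv5 D31952) F24701 D15082 F50316 (iv5 F50315) F43640 (iv4 F55232)
theorem F82182 : act 1 n52017 = n48693 := d17_6 (iv1 F37176) D23846 F50327 F24635 (iv4 F39801) D52017 (iv5 D48693) F50295 F50291
def n52018 : Q := act 4 n25249
theorem D52018 : act 4 n25249 = n52018 := rfl
theorem F82183 : act 2 n52018 = n31518 := d1_1 D52018 (iv4 D31518) (iv2 F39803)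
theorem F82184 : act 5 n52018 = n25390 := d9_2 D25249 D52018 (iv4 D25390) F19981 F18535 F8830 D12098 D25452 (iv4 F82176) (iv5 D52016) (iv4 D25247) (iv5 D11985) F8681 D5657 D11987
theorem F82185 : act 7 n52018 = n49514 := d11_2 F40328 D52018 F78266
theorem F82186 : act 0 n52018 = n48660 := d17_0 (iv5 D48660) (iv1 D23724) D23726 F36922 F20064 F18041 D23742 (iv0 F39804) D52018
theorem F82187 : act 1 n52018 = n28392 := d18_6 (iv1 D12099) (iv4 D5733) F8692 D11987 D25249 D52018 (iv4 D28392) (iv0 F40244) (iv5 D25453)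
def n52019 : Q := act 6 n25249
theorem D52019 : act 6 n25249 = n52019 := rfl
theorem F82188 : act 2 n52019 = n31519 := d3_1 D52019 (iv6 D31519) (iv2 F39803)
def n52020 : Q := act 6 n25250
theorem D52020 : act 6 n25250 = n52020 := rfl
theorem F82189 : act 2 n52020 = n50882 := d3_1 D52020 (iv6 D50882) (iv2 F39806)
theorem F82190 : act 3 n52020 = n26066 := d7_1 D52020 (iv6 D26066) (iv3 F39807)
theorem F82191 : act 5 n52020 = n52020 := d12_1 D52020 (iv6 D52020) (iv5 D25250) F19814 D25250
def n52021 : Q := act 3 n25251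
theorem D52021 : act 3 n25251 = n52021 := rfl
theorem F82192 : act 4 n52021 = n51424 := d5_2 D25251 D52021 (iv3 D51424) F39230 F24174
theorem F82193 : act 7 n52021 = n49704 := d8_2 (iv7 F39810) D52021 (iv3 D49704)
def n52022 : Q := act 5 n25251
theorem D52022 : act 5 n25251 = n52022 := rfl
theorem F82194 : act 2 n52022 = n50884 := d2_1 D52022 (iv5 D50884) (iv2 F39809)
theorem F82195 : act 7 n52022 = n49705 := d13_2 (iv7 F39810) D52022 (iv5 D49705)
def n52023 : Q := act 6 n25251
theorem D52023 : act 6 n25251 = n52023 := rfl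
theorem F82196 : act 2 n52023 = n50885 := d3_1 D52023 (iv6 D50885) (iv2 F39809)
theorem F82197 : act 4 n52023 = n25252 := d10_1 D52023 (iv6 D25252) D25251
theorem F82198 : act 7 n52023 = n50991 := d14_2 (iv7 F39810) D52023 (iv6 D50991) F38812 F38113
def n52024 : Q := act 3 n25253
theorem D52024 : act 3 n25253 = n52024 := rfl
theorem F82199 : act 4 n52024 = n50992 := d5_2 D25253 D52024 (iv3 D50992) (iv4 D24801) (iv3 F19823)
theorem F82200 : act 7 n52024 = n50888 := d8_2 (iv7 F39815) D52024 (iv3 D50888)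
def n52025 : Q := act 5 n25253
theorem D52025 : act 5 n25253 = n52025 := rfl
theorem F82201 : act 2 n52025 = n25265 := d2_1 D52025 (iv5 D25265) (iv2 F39814)
theorem F82202 : act 4 n52025 = n49452 := d9_1 D52025 (iv5 D49452) (iv4 D24136) (iv5 D11335) F10015 D5453 D11722 D24762 D50921 F80338 (iv4 D25786) (iv5 D12244) F10134 D11990 D25253
theorem F82203 : act 7 n52025 = n50889 := d13_2 (iv7 F39815) D52025 (iv5 D50889)
theorem F82204 : act 0 n52025 = n50920 := d17_2 (iv1 F39816) D52025 F80333 (iv4 D25363) (iv5 D12047) F18952 D24501 F38464 (iv4 F38754)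
theorem F82205 : act 1 n52025 = n50919 := d17_6 (iv1 F19821) (iv5 D11712) (iv1 F8701) D11990 D25253 D52025 F80328 (iv0 F40125) (iv4 D13423)
def n52026 : Q := act 6 n25253
theorem D52026 : act 6 n25253 = n52026 := rfl
theorem F82206 : act 2 n52026 = n25266 := d3_1 D52026 (iv6 D25266) (iv2 F39814)
theorem F82207 : act 4 n52026 = n25254 := d10_1 D52026 (iv6 D25254) D25253
theorem F82208 : act 0 n51010 = n52026 := d21_4 D28029 (iv1 F80464) (iv5 D51009) D51010 (iv6 D52026) D52025 F82204 F80333 F45300 (iv1 D28028)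
def n52027 : Q := act 6 n25256
theorem D52027 : act 6 n25256 = n52027 := rfl
theorem F82209 : act 3 n52027 = n25258 := d7_1 D52027 (iv6 D25258) D25256
theorem F82210 : act 4 n52027 = n51565 := d10_1 D52027 (iv6 D51565) (iv4 F39830)
theorem F82211 : act 5 n52027 = n49741 := d12_1 D52027 (iv6 D49741) (iv5 F46502) F46503 (iv5 F39828)
theorem F82212 : act 0 n52027 = n27978 := d21_4 F77444 F48792 (iv5 F39828) D52027 (iv6 D27978) (iv5 D13349) F22129 D27923 F45093 (iv1 F77446)
theorem F82213 : act 7 n51026 = n52027 := d8_0 F82209 F80301 D51026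
def n52028 : Q := act 3 n25257
theorem D52028 : act 3 n25257 = n52028 := rfl
theorem F82214 : act 4 n52028 = n51564 := d5_2 D25257 D52028 (iv3 D51564) (iv4 F39830) (iv3 D25256)
theorem F82215 : act 7 n52028 = n50895 := d8_2 (iv7 F39837) D52028 (iv3 D50895)
def n52029 : Q := act 5 n25257
theorem D52029 : act 5 n25257 = n52029 := rfl
theorem F82216 : act 2 n52029 = n50904 := d2_1 D52029 (iv5 D50904) (iv2 F39836)
theorem F82217 : act 7 n52029 = n50896 := d13_2 (iv7 F39837) D52029 (iv5 D50896)
theorem F82218 : act 0 n52029 = n50317 := d17_2 F79611 D52029 (iv5 D50317) (iv4 D24540) F38139 (iv0 F45388) F45385 (iv0 F39417) D50245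
def n52030 : Q := act 6 n25257
theorem D52030 : act 6 n25257 = n52030 := rfl
theorem F82219 : act 2 n52030 = n50905 := d3_1 D52030 (iv6 D50905) (iv2 F39836)
theorem F82220 : act 4 n52030 = n25258 := d10_1 D52030 (iv6 D25258) D25257
theorem F82221 : act 7 n51027 = n52030 := d11_0 F82220 F80301 D51027
theorem F82222 : act 0 n52030 = n51403 := d20_1 (iv4 F82220) F81150 F39209 D24995 F79381 D25107 (iv1 F39460) F38852 (iv3 F38839) (iv1 F39842)
def n52031 : Q := act 6 n25259
theorem D52031 : act 6 n25259 = n52031 := rfl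
theorem F82223 : act 2 n52031 = n50263 := d3_1 D52031 F79643 F39847
theorem F82224 : act 3 n52031 = n25261 := d7_1 D52031 (iv6 D25261) D25259
theorem F82225 : act 4 n52031 = n51370 := d10_1 D52031 (iv6 D51370) (iv4 F39845)
theorem F82226 : act 5 n52031 = n48805 := d12_1 D52031 (iv6 D48805) (iv5 D23801) D23802 (iv5 F39843)
def n52032 : Q := act 3 n25260
theorem D52032 : act 3 n25260 = n52032 := rfl
theorem F82227 : act 4 n52032 = n51368 := d5_2 D25260 D52032 (iv3 D51368) (iv4 F39845) (iv3 D25259)
theorem F82228 : act 7 n52032 = n50903 := d8_2 (iv7 F39851) D52032 (iv3 D50903)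
def n52033 : Q := act 5 n25260
theorem D52033 : act 5 n25260 = n52033 := rfl
theorem F82229 : act 2 n52033 = n50896 := d2_1 D52033 (iv5 D50896) (iv2 F39850)
theorem F82230 : act 7 n52033 = n50904 := d13_2 (iv7 F39851) D52033 (iv5 D50904)
theorem F82231 : act 1 n52033 = n50317 := d17_6 (iv1 F22247) F22246 (iv1 F20307) (iv5 F19831) D25260 D52033 (iv5 D50317) (iv0 F38736) (iv4 D24747)
def n52034 : Q := act 6 n25260
theorem D52034 : act 6 n25260 = n52034 := rfl
theorem F82232 : act 2 n52034 = n50897 := d3_1 D52034 (iv6 D50897) (iv2 F39850)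
theorem F82233 : act 4 n52034 = n25261 := d10_1 D52034 (iv6 D25261) D25260
def n52035 : Q := act 0 n25261
theorem D52035 : act 0 n25261 = n52035 := rfl
def n52036 : Q := act 1 n25261
theorem D52036 : act 1 n25261 = n52036 := rfl
theorem F82234 : act 1 n52036 = n50900 := d15_1 D52036 (iv7 D50900) (iv2 F39852)
def n52037 : Q := act 7 n25261
theorem D52037 : act 7 n25261 = n52037 := rfl
theorem F82235 : act 2 n52037 = n50900 := d4_1 D52037 (iv7 D50900) (iv2 F39852)
theorem F82236 : act 5 n52037 = n48810 := d13_1 D52037 (iv7 D48810) (iv5 F39853)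
theorem F82237 : act 6 n52037 = n50907 := d14_1 D52037 (iv7 D50907) (iv6 D24758) F20279 D25261
theorem F82238 : act 1 n50900 = n52035 := d15_0 (iv0 D52035) D52037 F82235
theorem F82239 : act 1 n50899 = n52037 := d15_1 D50899 (iv7 D52037) F39852
theorem F82240 : act 1 n52037 = n50898 := d15_0 (iv0 D50898) D50900 (iv2 F82235)
def n52038 : Q := act 3 n25262
theorem D52038 : act 3 n25262 = n52038 := rfl
theorem F82241 : act 7 n52038 = n50908 := d8_2 F39857 D52038 (iv3 D50908)
def n52039 : Q := act 5 n25262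
theorem D52039 : act 5 n25262 = n52039 := rfl
theorem F82242 : act 2 n52039 = n50912 := d2_1 D52039 (iv5 D50912) F39856
theorem F82243 : act 7 n52039 = n50909 := d13_2 F39857 D52039 (iv5 D50909)
theorem F82244 : act 1 n52039 = n28120 := d17_6 (iv1 F38534) (iv5 F49170) F49169 (iv5 F38473) (iv4 F39854) D52039 (iv5 D28120) (iv0 F40096) (iv4 D25363)
def n52040 : Q := act 6 n25262
theorem D52040 : act 6 n25262 = n52040 := rfl
theorem F82245 : act 2 n52040 = n50913 := d3_1 D52040 (iv6 D50913) F39856
theorem F82246 : act 4 n52040 = n50249 := d10_1 D52040 (iv6 D50249) (iv4 F39854)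
theorem F82247 : act 0 n52040 = n50994 := d21_4 D28120 (iv1 F82244) (iv5 D52039) D52040 (iv6 D50994) D50993 (iv1 F82049) F82051 (iv6 F45300) F40096
theorem F82248 : act 1 n52040 = n51025 := d15_1 (iv0 F82247) (iv7 D51025) (iv2 F80438)
def n52041 : Q := act 3 n25263
theorem D52041 : act 3 n25263 = n52041 := rfl
theorem F82249 : act 4 n52041 = n50432 := d5_2 (iv4 F39860) D52041 (iv3 D50432) (iv4 D24583) (iv3 F38480)
theorem F82250 : act 7 n52041 = n50911 := d8_2 (iv7 F39859) D52041 (iv3 D50911)
def n52042 : Q := act 5 n25263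
theorem D52042 : act 5 n25263 = n52042 := rfl
theorem F82251 : act 2 n52042 = n50909 := d2_1 D52042 (iv5 D50909) F39861
theorem F82252 : act 7 n52042 = n50912 := d13_2 (iv7 F39859) D52042 (iv5 D50912)
theorem F82253 : act 0 n52042 = n28120 := d17_2 (iv1 F39858) D52042 (iv5 D28120) (iv4 D13423) F10406 (iv0 F20306) (iv5 F19831) F19830 D24749
def n52043 : Q := act 6 n25263
theorem D52043 : act 6 n25263 = n52043 := rfl
theorem F82254 : act 2 n52043 = n50910 := d3_1 D52043 (iv6 D50910) F39861
theorem F82255 : act 4 n52043 = n50250 := d10_1 D52043 (iv6 D50250) (iv4 F39860)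
def n52044 : Q := act 0 n25264
theorem D52044 : act 0 n25264 = n52044 := rfl
theorem F82256 : act 1 n50916 = n52044 := d15_0 (iv0 D52044) F39863 D50916
def n52045 : Q := act 1 n25264
theorem D52045 : act 1 n25264 = n52045 := rfl
theorem F82257 : act 4 n51604 = n52045 := d20_6 (iv4 D11907) (iv1 D5583) D5584 D11909 D25067 D51604 (iv1 D52045) F39862 (iv3 D12000) (iv1 F19613)
theorem F82258 : act 0 n50916 = n52045 := d20_7 (iv4 F79912) (iv1 F81393) (iv4 F81389) (iv3 D51029) (iv1 F39726) F39723 (iv4 F80324) (iv4 F82257) (iv3 D51604) (iv1 F39355)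
def n52046 : Q := act 2 n25264
theorem D52046 : act 2 n25264 = n52046 := rfl
theorem F82259 : act 4 n52046 = n25276 := d1_2 (iv4 F39862) D52046 (iv2 D25276)
theorem F82260 : act 7 n52046 = n50916 := d4_2 (iv7 F39863) D52046 (iv2 D50916)
theorem F82261 : act 1 n52046 = n50914 := d15_0 (iv0 D50914) (iv7 F39863) D52046
theorem F82262 : act 1 n50915 = n52046 := d15_1 D50915 F82260 (iv2 D50916)
def n52047 : Q := act 5 n25264
theorem D52047 : act 5 n25264 = n52047 := rfl
theorem F82263 : act 3 n52047 = n25265 := d6_1 D52047 (iv5 D25265) D25264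
theorem F82264 : act 7 n52047 = n50917 := d13_2 (iv7 F39863) D52047 (iv5 D50917)
def n52048 : Q := act 6 n25264
theorem D52048 : act 6 n25264 = n52048 := rfl
def n52049 : Q := act 6 n25265
theorem D52049 : act 6 n25265 = n52049 := rfl
def n52050 : Q := act 0 n25266
theorem D52050 : act 0 n25266 = n52050 := rfl
def n52051 : Q := act 5 n25266
theorem D52051 : act 5 n25266 = n52051 := rfl
def n52052 : Q := act 7 n25266
theorem D52052 : act 7 n25266 = n52052 := rfl
theorem F82267 : act 4 n52052 = n25269 := d11_1 D52052 (iv7 D25269) (iv4 F39865)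
theorem F82268 : act 6 n52052 = n50926 := d14_1 D52052 (iv7 D50926) (iv6 D24763) (iv7 F19832) D25266
theorem F82269 : act 1 n51010 = n52052 := d15_1 (iv0 F82208) (iv7 D52052) (iv2 F82206)
def n52053 : Q := act 3 n25267
theorem D52053 : act 3 n25267 = n52053 := rfl
theorem F82270 : act 7 n52053 = n50995 := d8_2 (iv7 F82018) D52053 F80440
def n52054 : Q := act 4 n25267
theorem D52054 : act 4 n25267 = n52054 := rfl
theorem F82271 : act 7 n52054 = n50999 := d11_2 (iv7 F82018) D52054 F80450
def n52055 : Q := act 0 n25268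
theorem D52055 : act 0 n25268 = n52055 := rfl
def n52056 : Q := act 1 n25268
theorem D52056 : act 1 n25268 = n52056 := rfl
def n52057 : Q := act 4 n25268
theorem D52057 : act 4 n25268 = n52057 := rfl
theorem F82272 : act 6 n52057 = n25273 := d10_2 (iv6 F39867) D52057 (iv4 D25273)
def n52058 : Q := act 7 n25268
theorem D52058 : act 7 n25268 = n52058 := rfl
theorem F82273 : act 3 n52058 = n25283 := d8_1 D52058 (iv7 D25283) (iv3 F39866)
theorem F82274 : act 5 n52058 = n25269 := d13_1 D52058 (iv7 D25269) D25268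
theorem F82275 : act 6 n52058 = n31437 := d14_1 D52058 (iv7 D31437) (iv6 D14818) F19835 (iv6 F39867)
theorem E8245 : n49922 = n31437 := (c21_5 F38128 (iv1 F18740) D11473 D24346 D49922 (iv6 F82275) F82274 (iv1 F39870) F38826 (iv6 D24349) (iv1 F38130))
theorem F82276 : act 1 n31437 = n24346 := (sb E8245 (iv0 D49922))
def n52059 : Q := act 5 n25273
theorem D52059 : act 5 n25273 = n52059 := rfl
theorem F82277 : act 7 n52059 = n31433 := d13_2 (iv7 F39889) D52059 (iv5 D31433)
theorem F82278 : act 4 n52059 = n51643 := d16_2 D25273 D52059 (iv5 D51643) (iv4 D25088) (iv5 F22279) (iv4 F39823) F39824 (iv7 F37107) (iv2 F37105)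
theorem F82279 : act 0 n52059 = n48828 := d17_2 F40771 D52059 (iv5 D48828) F37502 F37500 (iv0 F38287) (iv5 F37867) F37866 D25796
theorem F82280 : act 1 n52059 = n48831 := d17_6 (iv1 F37088) (iv5 F24295) (iv1 D11997) D11998 D25273 D52059 (iv5 D48831) F76827 F76826
def n52060 : Q := act 2 n25274
theorem D52060 : act 2 n25274 = n52060 := rfl
def n52061 : Q := act 3 n25274
theorem D52061 : act 3 n25274 = n52061 := rfl
theorem F82282 : act 4 n52061 = n50450 := d20_6 (iv4 D7122) F7596 D5664 D12000 D25274 D52061 (iv1 D50450) F38601 (iv3 D11639) (iv1 F11443)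
def n52062 : Q := act 4 n25274
theorem D52062 : act 4 n25274 = n52062 := rfl
def n52065 : Q := act 7 n25274
theorem D52065 : act 7 n25274 = n52065 := rfl
def n52066 : Q := act 3 n25275
theorem D52066 : act 3 n25275 = n52066 := rfl
def n52067 : Q := act 4 n25275
theorem D52067 : act 4 n25275 = n52067 := rfl
def n52068 : Q := act 5 n25275
theorem D52068 : act 5 n25275 = n52068 := rfl
def n52075 : Q := act 0 n25278
theorem D52075 : act 0 n25278 = n52075 := rfl
theorem F82290 : act 5 n52075 = n50663 := d17_3 F39352 D25278 D52075 F80017 F38665 (iv0 D14564) F11222 (iv0 F19616) (iv4 F39351)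
theorem F82293 : act 1 n51046 = n52075 := d17_6 F45452 F45450 (iv1 F39911) F24478 (iv4 F38852) (iv5 F80494) F82290 F80230 F80228
def n52076 : Q := act 1 n25278
theorem D52076 : act 1 n25278 = n52076 := rfl
theorem F82294 : act 1 n52076 = n51046 := d15_1 D52076 (iv7 D51046) (iv2 F39899)
theorem F82296 : act 5 n50728 = n52076 := d21_6 F19610 F18978 F8284 D11695 F80081 D50728 (iv1 D52076) (iv5 D25278) (iv6 D12001) (iv1 F19613)
def n52077 : Q := act 4 n25278
theorem D52077 : act 4 n25278 = n52077 := rfl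
theorem F82298 : act 2 n52077 = n51045 := d1_1 D52077 (iv4 D51045) (iv2 F39899)
def n52078 : Q := act 7 n25278
theorem D52078 : act 7 n25278 = n52078 := rfl
theorem F82301 : act 5 n52078 = n25279 := d13_1 D52078 (iv7 D25279) D25278
def n52079 : Q := act 0 n25280
theorem D52079 : act 0 n25280 = n52079 := rfl
theorem F82304 : act 2 n27987 = n52079 := d15_3 (iv0 D52079) F50047 D27987
theorem F82305 : act 1 n27986 = n52079 := d15_0 (iv0 D52079) F39906 (iv2 F45255)
theorem F82306 : act 7 n52079 = n27945 := d15_2 D27986 F82305 F45156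
theorem F82307 : act 5 n31365 = n52079 := d21_6 F19891 (iv1 F10289) D7706 D16585 D34260 (iv6 F53922) (iv1 F82305) (iv5 F45254) (iv6 D25293) (iv1 F19893)
theorem F82308 : act 6 n27973 = n52079 := d14_5 F82306 (iv6 D27945) F22176 D13343 D27973
def n52080 : Q := act 2 n25280
theorem D52080 : act 2 n25280 = n52080 := rfl
theorem F82309 : act 3 n52080 = n28382 := d0_2 D25280 D52080 (iv2 F45882) (iv3 D24828) (iv2 F19850)
theorem F82310 : act 6 n52080 = n49672 := d3_2 F50046 D52080 F78466
theorem F82311 : act 7 n52080 = n27986 := d4_2 (iv7 F39906) D52080 F45255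
theorem F82312 : act 1 n52080 = n27945 := d15_0 (iv0 F45158) (iv7 F39906) D52080
theorem F82313 : act 1 n27987 = n52080 := d15_0 F82312 (iv7 F82306) (iv2 F82304)
def n52081 : Q := act 4 n25280
theorem D52081 : act 4 n25280 = n52081 := rfl
theorem F82314 : act 7 n52081 = n50953 := d11_2 (iv7 F39906) D52081 F80394
def n52082 : Q := act 3 n25281
theorem D52082 : act 3 n25281 = n52082 := rfl
theorem F82315 : act 7 n52082 = n31428 := d8_2 (iv7 F45451) D52082 (iv3 D31428)
def n52083 : Q := act 3 n25282
theorem D52083 : act 3 n25282 = n52083 := rfl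
theorem F82316 : act 7 n52083 = n31425 := d8_2 F45456 D52083 (iv3 D31425)
def n52084 : Q := act 3 n25288
theorem D52084 : act 3 n25288 = n52084 := rfl
theorem F82317 : act 2 n52084 = n31590 := d0_1 D52084 (iv3 F49912) (iv2 F55531) F49888 (iv2 F55535)
theorem F82318 : act 7 n52084 = n31568 := d8_2 (iv7 F55536) D52084 (iv3 D31568)
theorem F82319 : act 4 n52084 = n32346 := d20_6 F50814 F50809 (iv4 F41185) F41184 (iv1 F39937) D52084 (iv1 F51376) (iv4 D28391) D28390 (iv1 F45909)
theorem F82320 : act 0 n26094 = n52084 := d20_10 F82319 (iv1 F51376) (iv4 D28391) D28390 (iv1 F45909) F49917 F49916 (iv1 F50410) F50411 D26094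
theorem F82321 : act 1 n31591 = n52084 := d15_0 (iv0 F82320) F50457 D31591
def n52085 : Q := act 4 n25288
theorem D52085 : act 4 n25288 = n52085 := rfl
theorem F82322 : act 2 n52085 = n31564 := d1_1 D52085 (iv4 D31564) (iv2 F55535)
theorem F82323 : act 7 n52085 = n31569 := d11_2 (iv7 F55536) D52085 (iv4 D31569)
theorem F82324 : act 0 n52085 = n34986 := d20_1 D52085 F55425 F50519 D31595 (iv3 F49917) F50814 F50809 (iv4 F41185) F41184 (iv1 F39937)
theorem F82325 : act 0 n27008 = n52085 := d20_10 (iv4 D52085) (iv1 D25288) (iv4 F39801) (iv3 D25248) F19810 D23948 F37384 D25472 (iv4 F76658) F76657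
def n52086 : Q := act 3 n25290
theorem D52086 : act 3 n25290 = n52086 := rfl
theorem F82326 : act 4 n52086 = n51146 := d5_2 D25290 D52086 (iv3 D51146) (iv4 D24890) (iv3 F19863)
def n52087 : Q := act 6 n25290
theorem D52087 : act 6 n25290 = n52087 := rfl
theorem F82327 : act 2 n52087 = n49959 := d3_1 D52087 (iv6 D49959) (iv2 F39939)
theorem F82328 : act 4 n52087 = n25291 := d10_1 D52087 (iv6 D25291) D25290
def n52088 : Q := act 0 n25291
theorem D52088 : act 0 n25291 = n52088 := rfl
theorem F82329 : act 6 n52088 = n31356 := d21_5 (iv5 D5672) D5670 D12009 D25291 D52088 F49620 (iv1 D24206) D24207 F37931 F18563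
theorem F82330 : act 5 n52088 = n34242 := d21_0 (iv1 D34242) F26238 (iv6 D13514) F19553 F10576 (iv5 D5672) D5670 D12009 D25291 D52088
def n52089 : Q := act 1 n25291
theorem D52089 : act 1 n25291 = n52089 := rfl
theorem F82331 : act 1 n52089 = n49961 := d15_1 D52089 (iv7 D49961) (iv2 F39940)
theorem F82332 : act 5 n34241 = n52089 := d21_0 (iv1 D52089) F39942 (iv6 D24225) F18614 (iv6 F9843) (iv5 D6319) F19458 D7697 D16567 D34241
def n52090 : Q := act 7 n25291
theorem D52090 : act 7 n25291 = n52090 := rfl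
theorem F82333 : act 2 n52090 = n49961 := d4_1 D52090 (iv7 D49961) (iv2 F39940)
theorem F82334 : act 3 n52090 = n51151 := d8_1 D52090 (iv7 D51151) (iv3 F39941)
theorem F82335 : act 5 n52090 = n49677 := d13_1 D52090 (iv7 D49677) (iv5 F39942)
theorem F82336 : act 6 n52090 = n31371 := d14_1 D52090 F49638 (iv6 D25322) F19885 D25291
theorem F82337 : act 1 n49961 = n52088 := d15_0 (iv0 D52088) D52090 F82333
theorem F82338 : act 1 n49960 = n52090 := d15_1 D49960 (iv7 D52090) F39940
theorem E8246 : n51220 = n28316 := ((c21_11 (iv5 D51220) (iv1 F78481) (iv5 F82335) F82336 (iv1 D31371) (iv6 D14790) (iv5 F22233) (iv1 F24471) (iv5 F11970) D13514 D28316)).symm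
theorem F82339 : act 5 n28316 = n24914 := (sb E8246 (iv5 D51220))
theorem F82340 : act 1 n52090 = n31395 := d15_0 (iv0 F49659) D49961 (iv2 F82333)
def n52091 : Q := act 3 n25292
theorem D52091 : act 3 n25292 = n52091 := rfl
theorem F82341 : act 4 n52091 = n51152 := d5_2 D25292 D52091 (iv3 D51152) (iv4 D24892) (iv3 F19866)
theorem F82342 : act 7 n52091 = n51184 := d8_2 (iv7 F39944) D52091 (iv3 D51184)
def n52092 : Q := act 6 n25292
theorem D52092 : act 6 n25292 = n52092 := rfl
theorem F82343 : act 2 n52092 = n49980 := d3_1 D52092 (iv6 D49980) (iv2 F39943)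
theorem F82344 : act 4 n52092 = n25293 := d10_1 D52092 (iv6 D25293) D25292
def n52093 : Q := act 0 n25293
theorem D52093 : act 0 n25293 = n52093 := rfl
theorem F82345 : act 6 n52093 = n28317 := d21_5 (iv5 D24035) (iv1 F19194) (iv5 F19864) D25293 D52093 (iv5 F80801) (iv1 D24915) (iv5 F38179) (iv6 D24360) (iv1 F37576)
theorem F82346 : act 0 n52093 = n49983 := d21_4 F82335 (iv1 F78480) F80801 (iv6 F82345) F79066 F78412 (iv1 F39041) (iv5 F39044) D31395 (iv1 F82340)
def n52094 : Q := act 1 n25293
theorem D52094 : act 1 n25293 = n52094 := rfl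
theorem F82347 : act 1 n52094 = n49983 := d15_1 D52094 (iv7 D49983) (iv2 F39946)
def n52095 : Q := act 7 n25293
theorem D52095 : act 7 n25293 = n52095 := rfl
theorem F82348 : act 2 n52095 = n49983 := d4_1 D52095 (iv7 D49983) (iv2 F39946)
theorem F82349 : act 3 n52095 = n51157 := d8_1 D52095 (iv7 D51157) (iv3 F39947)
theorem F82350 : act 5 n52095 = n52080 := d13_1 D52095 F82311 (iv5 F45254)
theorem F82351 : act 6 n52095 = n51183 := d14_1 D52095 (iv7 D51183) F39043 (iv7 F19867) D25293
theorem F82352 : act 1 n49982 = n52095 := d15_1 D49982 (iv7 D52095) F39946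
theorem E8247 : n51204 = n31401 := (c21_1 (iv5 F80783) (iv1 D31401) (iv5 D14798) (iv6 D7052) D7049 D14787 (iv5 F45157) (iv1 F82312) (iv5 F82350) F82351 (iv1 F80742))
theorem F82353 : act 5 n31401 = n49646 := (sb E8247 F80783)
theorem F82354 : act 6 n31401 = n24909 := (sb E8247 (iv6 D51204))
theorem F82355 : act 6 n51189 = n49646 := d21_5 F22179 (iv1 F24654) F24652 D24906 D51189 (iv5 F82353) (iv1 D31401) (iv5 D14798) (iv6 D7052) D7049
theorem F82356 : act 1 n52095 = n49981 := d15_0 (iv0 D49981) D49983 (iv2 F82348)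
def n52096 : Q := act 3 n25294
theorem D52096 : act 3 n25294 = n52096 := rfl
theorem F82357 : act 7 n52096 = n49485 := d8_2 F39949 D52096 (iv3 D49485)
def n52097 : Q := act 6 n25294
theorem D52097 : act 6 n25294 = n52097 := rfl
theorem F82358 : act 4 n52097 = n25346 := d10_1 D52097 (iv6 D25346) (iv4 F39948)
def n52098 : Q := act 3 n25295
theorem D52098 : act 3 n25295 = n52098 := rfl
def n52099 : Q := act 5 n25295
theorem D52099 : act 5 n25295 = n52099 := rfl
theorem F82359 : act 2 n52099 = n29127 := d2_1 D52099 F46795 F39951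
theorem F82360 : act 4 n52099 = n25304 := d9_1 D52099 (iv5 D25304) (iv4 D12015) F8735 (iv4 F18517) (iv5 F19922) (iv4 F39948) (iv5 F47691) (iv4 D29672) (iv5 D14094) (iv4 D6700) F4727 (iv4 F9891) F19924 (iv4 F39950)
theorem F82361 : act 7 n52099 = n50879 := d13_2 F39993 D52099 F80265
def n52100 : Q := act 6 n25295
theorem D52100 : act 6 n25295 = n52100 := rfl
theorem F82362 : act 2 n52100 = n49483 := d3_1 D52100 F78225 F39951
theorem F82363 : act 4 n52100 = n25347 := d10_1 D52100 (iv6 D25347) (iv4 F39950)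
def n52101 : Q := act 0 n25296
theorem D52101 : act 0 n25296 = n52101 := rfl
def n52102 : Q := act 1 n25296
theorem D52102 : act 1 n25296 = n52102 := rfl
def n52103 : Q := act 2 n25296
theorem D52103 : act 2 n25296 = n52103 := rfl
def n52104 : Q := act 5 n25296
theorem D52104 : act 5 n25296 = n52104 := rfl
theorem F82364 : act 3 n52104 = n25297 := d6_1 D52104 (iv5 D25297) D25296
def n52105 : Q := act 7 n25296
theorem D52105 : act 7 n25296 = n52105 := rfl
theorem F82365 : act 3 n52105 = n25298 := d8_1 D52105 (iv7 D25298) D25296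
def n52106 : Q := act 6 n25297
theorem D52106 : act 6 n25297 = n52106 := rfl
def n52107 : Q := act 6 n25298
theorem D52107 : act 6 n25298 = n52107 := rfl
theorem F82366 : act 4 n52107 = n25299 := d10_1 D52107 (iv6 D25299) (iv4 F39952)
theorem F82367 : act 7 n52107 = n31350 := d14_2 D25298 D52107 (iv6 D31350) F24419 F22853
def n52108 : Q := act 0 n25299
theorem D52108 : act 0 n25299 = n52108 := rfl
theorem F82368 : act 1 n26066 = n52108 := d15_0 (iv0 D52108) F39955 (iv2 F41222)
def n52109 : Q := act 1 n25299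
theorem D52109 : act 1 n25299 = n52109 := rfl
theorem F82369 : act 1 n52109 = n26066 := d15_1 D52109 F41224 F40003
def n52110 : Q := act 3 n25300
theorem D52110 : act 3 n25300 = n52110 := rfl
def n52111 : Q := act 6 n25300
theorem D52111 : act 6 n25300 = n52111 := rfl
theorem F82370 : act 2 n52111 = n29003 := d3_1 D52111 (iv6 D29003) (iv2 F39956)
theorem F82371 : act 4 n52111 = n25301 := d10_1 D52111 (iv6 D25301) D25300
def n52112 : Q := act 0 n25301
theorem D52112 : act 0 n25301 = n52112 := rfl
def n52113 : Q := act 1 n25301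
theorem D52113 : act 1 n25301 = n52113 := rfl
theorem F82372 : act 1 n52113 = n29006 := d15_1 D52113 (iv7 D29006) (iv2 F39957)
def n52114 : Q := act 7 n25301
theorem D52114 : act 7 n25301 = n52114 := rfl
theorem F82373 : act 2 n52114 = n29006 := d4_1 D52114 (iv7 D29006) (iv2 F39957)
theorem F82374 : act 5 n52114 = n49180 := d13_1 D52114 (iv7 D49180) (iv5 F39958)
theorem F82375 : act 1 n29006 = n52112 := d15_0 (iv0 D52112) D52114 F82373
theorem F82376 : act 1 n29005 = n52114 := d15_1 D29005 (iv7 D52114) F39957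
theorem F82377 : act 1 n52114 = n29004 := d15_0 (iv0 D29004) D29006 (iv2 F82373)
def n52115 : Q := act 5 n25302
theorem D52115 : act 5 n25302 = n52115 := rfl
theorem F82378 : act 3 n52115 = n25303 := d6_1 D52115 (iv5 D25303) D25302
theorem F82379 : act 7 n52115 = n34909 := d13_2 (iv7 F39961) D52115 (iv5 D34909)
theorem F82380 : act 0 n52115 = n49201 := d17_2 F54396 D52115 (iv5 D49201) F37539 D24289 F55586 F55585 F50541 D34286
def n52116 : Q := act 6 n25303
theorem D52116 : act 6 n25303 = n52116 := rfl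
theorem F82381 : act 2 n52116 = n29019 := d3_1 D52116 (iv6 D29019) (iv2 F39963)
theorem F82382 : act 5 n52116 = n52019 := d12_1 D52116 (iv6 D52019) (iv5 D25249) (iv6 F19873) D25303
def n52117 : Q := act 6 n25304
theorem D52117 : act 6 n25304 = n52117 := rfl
theorem F82383 : act 2 n52117 = n29128 := d3_1 D52117 (iv6 D29128) (iv2 F39965)
theorem F82384 : act 5 n52117 = n44060 := d12_1 D52117 (iv6 D44060) (iv5 F33105) F28416 D25304
def n52118 : Q := act 5 n25305
theorem D52118 : act 5 n25305 = n52118 := rfl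
theorem F82385 : act 3 n52118 = n25306 := d6_1 D52118 (iv5 D25306) D25305
def n52119 : Q := act 6 n25305
theorem D52119 : act 6 n25305 = n52119 := rfl
theorem F82386 : act 3 n52119 = n25307 := d7_1 D52119 (iv6 D25307) D25305
theorem F82387 : act 4 n52119 = n52119 := d10_1 D52119 (iv6 D52119) F39967
theorem F82388 : act 5 n42122 = n52119 := d21_8 F77980 (iv1 D49320) (iv5 D24071) F18442 D16912 D34882 (iv5 F69250) F69251 (iv6 D52119) F77577
def n52120 : Q := act 6 n25306
theorem D52120 : act 6 n25306 = n52120 := rfl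
theorem F82389 : act 5 n52120 = n42123 := d12_1 D52120 (iv6 D42123) (iv5 F39969) (iv6 D25307) D25306
def n52121 : Q := act 0 n25308
theorem D52121 : act 0 n25308 = n52121 := rfl
theorem F82390 : act 4 n52121 = n26387 := d20_2 (iv4 F50600) D52121 F42129 (iv1 F25402) D15975 D33129 (iv1 F54258) (iv4 D29690) D29689 (iv1 F54253)
theorem F82391 : act 3 n52121 = n43884 := d20_5 F52212 (iv1 F65043) (iv4 F65295) F65294 D52121 (iv4 D43884) (iv1 F68916) F68914 F33125 (iv1 F65520)
theorem F82392 : act 2 n25312 = n52121 := d15_3 (iv0 D52121) (iv0 D25308) D25312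
theorem F82393 : act 6 n52121 = n26603 := d3_2 (iv6 F39976) F82392 F42594
theorem F82394 : act 7 n52121 = n25310 := d4_2 D25312 F82392 (iv2 D25310)
theorem F82395 : act 1 n25309 = n52121 := d15_1 D25309 F82394 (iv2 D25310)
def n52122 : Q := act 5 n25308
theorem D52122 : act 5 n25308 = n52122 := rfl
def n52123 : Q := act 7 n25308
theorem D52123 : act 7 n25308 = n52123 := rfl
theorem F82396 : act 2 n52123 = n25309 := d4_1 D52123 F50598 F50599
theorem F82397 : act 3 n52123 = n49682 := d8_1 D52123 F78489 F65294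
theorem F82398 : act 6 n52123 = n26511 := d14_1 D52123 (iv7 F78717) F78714 (iv7 F65288) (iv6 F65292)
theorem F82399 : act 1 n25310 = n52123 := d15_1 (iv0 F46870) (iv7 D52123) (iv2 F50599)
theorem F82400 : act 1 n52123 = n25312 := d15_1 F82399 (iv7 D25312) D25310
def n52124 : Q := act 5 n25309
theorem D52124 : act 5 n25309 = n52124 := rfl
def n52125 : Q := act 5 n25310
theorem D52125 : act 5 n25310 = n52125 := rfl
theorem F82401 : act 2 n52125 = n25311 := d2_1 D52125 (iv5 D25311) D25310
def n52126 : Q := act 0 n25311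
theorem D52126 : act 0 n25311 = n52126 := rfl
def n52127 : Q := act 1 n25311
theorem D52127 : act 1 n25311 = n52127 := rfl
theorem F82402 : act 5 n32448 = n52127 := d21_6 (iv5 F40404) (iv1 F40403) (iv5 D17391) (iv6 F26654) F24929 D32448 (iv1 D52127) (iv5 D25311) F19879 D12165
def n52128 : Q := act 4 n25311
theorem D52128 : act 4 n25311 = n52128 := rfl
def n52129 : Q := act 6 n25311
theorem D52129 : act 6 n25311 = n52129 := rfl
theorem F82403 : act 3 n52129 = n25315 := d7_1 D52129 (iv6 D25315) (iv3 F39973)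
theorem F82404 : act 5 n52129 = n25589 := d12_1 D52129 (iv6 D25589) (iv5 D12168) (iv6 F19879) D25311
def n52130 : Q := act 7 n25311
theorem D52130 : act 7 n25311 = n52130 := rfl
theorem F82405 : act 3 n52130 = n25316 := d8_1 D52130 (iv7 D25316) (iv3 F39973)
theorem F82406 : act 5 n52130 = n25312 := d13_1 D52130 (iv7 D25312) D25311
def n52131 : Q := act 3 n25313
theorem D52131 : act 3 n25313 = n52131 := rfl
theorem F82407 : act 2 n52131 = n49323 := d0_1 D52131 F77983 F37694 F40037 (iv2 F40036)
theorem F82408 : act 5 n52131 = n49037 := d6_2 (iv5 F39977) D52131 (iv3 D49037)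
theorem F82409 : act 7 n52131 = n49318 := d8_2 F40041 D52131 F77975
theorem F82410 : act 1 n49320 = n52131 := d15_1 D49320 F82409 F77974
theorem F82411 : act 1 n49323 = n49126 := d15_0 (iv0 F77976) (iv7 F82409) F82407
theorem F82412 : act 1 n52131 = n49319 := d15_0 (iv0 D49319) D49323 (iv2 F82407)
def n52132 : Q := act 6 n25313
theorem D52132 : act 6 n25313 = n52132 := rfl
theorem F82413 : act 5 n52132 = n49681 := d12_1 D52132 (iv6 D49681) (iv5 D24227) (iv6 F37334) (iv5 F39977)
def n52133 : Q := act 3 n25314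
theorem D52133 : act 3 n25314 = n52133 := rfl
def n52134 : Q := act 6 n25314
theorem D52134 : act 6 n25314 = n52134 := rfl
theorem F82414 : act 4 n52134 = n25315 := d10_1 D52134 (iv6 D25315) D25314
def n52135 : Q := act 0 n25315
theorem D52135 : act 0 n25315 = n52135 := rfl
def n52136 : Q := act 1 n25315
theorem D52136 : act 1 n25315 = n52136 := rfl
def n52137 : Q := act 7 n25315
theorem D52137 : act 7 n25315 = n52137 := rfl
theorem F82415 : act 5 n52137 = n25592 := d13_1 D52137 (iv7 D25592) (iv5 F39978)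
def n52138 : Q := act 6 n25316
theorem D52138 : act 6 n25316 = n52138 := rfl
def n52139 : Q := act 6 n25317
theorem D52139 : act 6 n25317 = n52139 := rfl
theorem F82416 : act 2 n52139 = n49741 := d3_1 D52139 (iv6 D49741) F39984
theorem F82417 : act 4 n52139 = n34088 := d10_1 D52139 (iv6 D34088) (iv4 F45716)
def n52140 : Q := act 6 n25318
theorem D52140 : act 6 n25318 = n52140 := rfl
theorem F82418 : act 3 n52140 = n48801 := d7_1 D52140 F76867 (iv3 F39981)
theorem F82419 : act 4 n52140 = n34091 := d10_1 D52140 (iv6 D34091) (iv4 F39983)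
theorem F82420 : act 5 n52140 = n48788 := d12_1 D52140 (iv6 D48788) (iv5 D23793) D23794 F39980
def n52141 : Q := act 3 n25319
theorem D52141 : act 3 n25319 = n52141 := rfl
theorem F82421 : act 4 n52141 = n25324 := d5_2 D25319 D52141 (iv3 D25324) (iv4 D12024) (iv3 F19881)
def n52142 : Q := act 5 n25319
theorem D52142 : act 5 n25319 = n52142 := rfl
def n52143 : Q := act 6 n25320
theorem D52143 : act 6 n25320 = n52143 := rfl
theorem F82422 : act 3 n52143 = n25327 := d7_1 D52143 (iv6 D25327) (iv3 F39986)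
theorem F82423 : act 5 n52143 = n52143 := d12_1 D52143 (iv6 D52143) F39987 F19883 (iv5 F39987)
theorem F82424 : act 7 n52143 = n52020 := d14_2 D25320 D52143 (iv6 D52020) F39808 F22855
def n52144 : Q := act 3 n25321
theorem D52144 : act 3 n25321 = n52144 := rfl
theorem F82425 : act 7 n52144 = n52086 := d8_2 (iv7 F39989) D52144 (iv3 D52086)
def n52145 : Q := act 5 n25321
theorem D52145 : act 5 n25321 = n52145 := rfl
theorem F82426 : act 2 n52145 = n34258 := d2_1 D52145 (iv5 D34258) (iv2 F39988)
theorem F82427 : act 4 n52145 = n25340 := d9_1 D52145 F40035 (iv4 D13441) (iv5 D6385) (iv4 F10287) D11479 D24359 D49958 F79013 F40042 (iv4 D13442) (iv5 D6386) F10076 D12022 D25321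
theorem F82428 : act 7 n52145 = n49223 := d13_2 (iv7 F39989) D52145 F77742
theorem F82429 : act 0 n52145 = n25349 := d17_2 F47509 D52145 (iv5 D25349) (iv4 D12037) (iv5 D5700) (iv0 F7730) D6683 D14056 D29593
theorem F82430 : act 1 n52145 = n25628 := d17_6 (iv1 F19870) F19868 (iv1 F8746) D12022 D25321 D52145 F40528 F40084 (iv4 D24370)
def n52146 : Q := act 6 n25321
theorem D52146 : act 6 n25321 = n52146 := rfl
theorem F82431 : act 2 n52146 = n34259 := d3_1 D52146 (iv6 D34259) (iv2 F39988)
theorem F82432 : act 4 n52146 = n25322 := d10_1 D52146 (iv6 D25322) D25321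
def n52147 : Q := act 3 n25323
theorem D52147 : act 3 n25323 = n52147 := rfl
theorem F82433 : act 4 n52147 = n49756 := d5_2 (iv4 F39991) D52147 (iv3 D49756) (iv4 F38599) F38321
theorem F82434 : act 7 n52147 = n52098 := d8_2 (iv7 F39993) D52147 (iv3 D52098)
def n52148 : Q := act 6 n25323
theorem D52148 : act 6 n25323 = n52148 := rfl
theorem F82435 : act 2 n52148 = n52097 := d3_1 D52148 (iv6 D52097) F39992
theorem F82436 : act 4 n52148 = n25356 := d10_1 D52148 (iv6 D25356) (iv4 F39991)
def n52149 : Q := act 0 n25324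
theorem D52149 : act 0 n25324 = n52149 := rfl
def n52150 : Q := act 1 n25324
theorem D52150 : act 1 n25324 = n52150 := rfl
def n52151 : Q := act 2 n25324
theorem D52151 : act 2 n25324 = n52151 := rfl
theorem F82437 : act 3 n52151 = n52103 := d0_2 D25324 D52151 (iv2 D52103) (iv3 D25296) (iv2 F19889)
def n52152 : Q := act 5 n25324
theorem D52152 : act 5 n25324 = n52152 := rfl
theorem F82438 : act 3 n52152 = n25325 := d6_1 D52152 (iv5 D25325) D25324
theorem F82439 : act 7 n52133 = n52152 := d8_0 F82438 (iv7 F39997) D52133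
def n52153 : Q := act 7 n25324
theorem D52153 : act 7 n25324 = n52153 := rfl
theorem F82440 : act 3 n52153 = n25326 := d8_1 D52153 (iv7 D25326) D25324
theorem F82441 : act 5 n52153 = n52133 := d13_1 D52153 F82439 (iv5 D52152)
def n52154 : Q := act 6 n25325
theorem D52154 : act 6 n25325 = n52154 := rfl
theorem F82442 : act 2 n52154 = n52106 := d3_1 D52154 (iv6 D52106) (iv2 F39995)
theorem F82443 : act 4 n52154 = n52138 := d10_1 D52154 (iv6 D52138) (iv4 F39996)
def n52155 : Q := act 6 n25326
theorem D52155 : act 6 n25326 = n52155 := rfl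
theorem F82444 : act 2 n52155 = n52107 := d3_1 D52155 (iv6 D52107) (iv2 F39998)
theorem F82445 : act 4 n52155 = n25327 := d10_1 D52155 (iv6 D25327) (iv4 F39999)
def n52156 : Q := act 3 n25328
theorem D52156 : act 3 n25328 = n52156 := rfl
theorem F82446 : act 4 n52156 = n30225 := d5_2 D25328 D52156 (iv3 D30225) (iv4 D14347) (iv3 F19895)
theorem F82447 : act 7 n52156 = n52110 := d8_2 (iv7 F40006) D52156 (iv3 D52110)
def n52157 : Q := act 6 n25328
theorem D52157 : act 6 n25328 = n52157 := rfl
theorem F82448 : act 2 n52157 = n29598 := d3_1 D52157 (iv6 D29598) (iv2 F40005)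
theorem F82449 : act 4 n52157 = n25329 := d10_1 D52157 (iv6 D25329) D25328
def n52158 : Q := act 0 n25329
theorem D52158 : act 0 n25329 = n52158 := rfl
def n52159 : Q := act 1 n25329
theorem D52159 : act 1 n25329 = n52159 := rfl
theorem F82450 : act 1 n52159 = n29602 := d15_1 D52159 (iv7 D29602) (iv2 F40007)
theorem F82451 : act 6 n25894 = n52159 := d21_3 (iv5 F40129) (iv1 F40135) (iv5 F40911) (iv1 D52159) (iv6 D25329) (iv5 D12026) F10062 D5705 (iv6 F19943) D25354
theorem F82452 : act 5 n29826 = n52159 := d21_6 (iv5 D11290) F10253 D5225 (iv6 F18459) (iv1 F37717) D29826 (iv1 D52159) (iv5 F77879) (iv6 D49280) (iv1 F37616)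
theorem F82453 : act 2 n52159 = n29600 := d2_1 F82452 (iv5 F48369) F48367
theorem F82454 : act 3 n52159 = n25896 := d6_1 F82452 F40921 (iv3 F47993)
theorem F82455 : act 4 n52159 = n31378 := d20_6 (iv4 F49755) F49754 (iv4 F49745) (iv3 F53599) (iv1 F53601) (iv3 F82454) F80755 F53917 F27060 D16588
theorem F82456 : act 5 n30417 = n49178 := d21_0 (iv1 F77672) (iv5 F46638) (iv6 F47526) (iv1 F82450) (iv6 F82451) F40911 (iv1 D24115) (iv5 F19469) D14448 D30417
def n52160 : Q := act 7 n25329
theorem D52160 : act 7 n25329 = n52160 := rfl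
theorem F82457 : act 2 n52160 = n29602 := d4_1 D52160 (iv7 D29602) (iv2 F40007)
theorem F82458 : act 3 n52160 = n30229 := d8_1 D52160 (iv7 D30229) (iv3 F40008)
theorem F82459 : act 6 n52160 = n52114 := d14_1 D52160 (iv7 D52114) (iv6 D25301) (iv7 F19896) D25329
theorem F82460 : act 1 n29602 = n52158 := d15_0 (iv0 D52158) D52160 F82457
theorem F82461 : act 1 n29600 = n52160 := d15_1 D29600 (iv7 D52160) F40007
theorem F82462 : act 0 n30413 = n49561 := d21_10 (iv5 D49561) (iv1 F77674) (iv5 F82374) (iv6 F82459) (iv1 F82461) (iv6 F47524) (iv5 F40146) (iv1 F40147) (iv5 F37481) D30413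
theorem F82463 : act 7 n52158 = n29600 := d15_2 F82450 F82460 (iv2 F82453)
theorem F82464 : act 2 n52158 = n29599 := d15_3 (iv0 D29599) D29600 (iv7 F82463)
theorem F82465 : act 7 n29599 = n52159 := d4_2 (iv7 F82463) F82464 F82453
theorem F82466 : act 3 n34137 = n29599 := d8_3 F82465 F82454 (iv7 F53593)
theorem F82467 : act 1 n52160 = n29599 := d15_1 F82461 F82465 F82453
def n52161 : Q := act 6 n25330
theorem D52161 : act 6 n25330 = n52161 := rfl
theorem F82468 : act 2 n52161 = n29615 := d3_1 D52161 (iv6 D29615) (iv2 F40009)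
theorem F82469 : act 5 n52161 = n35955 := d12_1 D52161 (iv6 D35955) (iv5 D17405) (iv6 F19904) D25330
def n52162 : Q := act 6 n25331
theorem D52162 : act 6 n25331 = n52162 := rfl
theorem F82470 : act 2 n52162 = n52120 := d3_1 D52162 (iv6 D52120) (iv2 F40012)
theorem F82471 : act 5 n52162 = n43227 := d12_1 D52162 (iv6 D43227) (iv5 F40016) (iv6 D25332) D25331
def n52163 : Q := act 1 n25333
theorem D52163 : act 1 n25333 = n52163 := rfl
theorem F82472 : act 1 n52163 = n49125 := d15_1 D52163 (iv7 F77895) F77892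
theorem F82473 : act 7 n52163 = n49120 := d15_2 (iv0 F54247) D52163 F77558
theorem F82474 : act 2 n49127 = n52163 := d4_3 F82473 F77558 D49127
theorem F82475 : act 6 n49131 = n52163 := d14_5 F82473 (iv6 D49120) F37439 D23973 D49131
def n52164 : Q := act 5 n25333
theorem D52164 : act 5 n25333 = n52164 := rfl
theorem F82476 : act 3 n52164 = n25334 := d6_1 D52164 (iv5 D25334) D25333
theorem F82477 : act 7 n52164 = n52118 := d13_2 (iv7 F40028) D52164 (iv5 D52118)
theorem F82478 : act 0 n49311 = n52164 := d21_1 D49311 (iv5 D52164) (iv6 F77894) F77896 (iv6 D49120) F55177 (iv1 D34883) (iv5 D16915) (iv6 F18442) D24068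
def n52165 : Q := act 6 n25334
theorem D52165 : act 6 n25334 = n52165 := rfl
theorem F82479 : act 2 n52165 = n49652 := d3_1 D52165 (iv6 D49652) (iv2 F40029)
def n52166 : Q := act 5 n25336
theorem D52166 : act 5 n25336 = n52166 := rfl
def n52167 : Q := act 5 n25337
theorem D52167 : act 5 n25337 = n52167 := rfl
theorem F82480 : act 2 n52167 = n25338 := d2_1 D52167 (iv5 D25338) D25337
theorem F82481 : act 3 n52167 = n52125 := d6_1 D52167 (iv5 D52125) (iv3 F40031)
def n52168 : Q := act 0 n25338
theorem D52168 : act 0 n25338 = n52168 := rfl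
def n52169 : Q := act 1 n25338
theorem D52169 : act 1 n25338 = n52169 := rfl
theorem F82482 : act 5 n35911 = n52169 := d21_6 (iv5 F76675) (iv1 F76666) (iv5 D25569) D25570 (iv1 F40455) D35911 (iv1 D52169) (iv5 D25338) F19914 D23759
theorem F82483 : act 3 n52169 = n35915 := d6_1 F82482 (iv5 D35915) (iv3 F56572)
def n52170 : Q := act 4 n25338
theorem D52170 : act 4 n25338 = n52170 := rfl
def n52171 : Q := act 6 n25338
theorem D52171 : act 6 n25338 = n52171 := rfl
theorem F82484 : act 3 n52171 = n25343 := d7_1 D52171 (iv6 D25343) (iv3 F40033)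
theorem F82485 : act 5 n52171 = n48722 := d12_1 D52171 (iv6 D48722) (iv5 D23762) (iv6 F19914) D25338
def n52172 : Q := act 7 n25338
theorem D52172 : act 7 n25338 = n52172 := rfl
theorem F82486 : act 3 n52172 = n25344 := d8_1 D52172 (iv7 D25344) (iv3 F40033)
theorem F82487 : act 5 n52172 = n25339 := d13_1 D52172 (iv7 D25339) D25338
def n52173 : Q := act 6 n25340
theorem D52173 : act 6 n25340 = n52173 := rfl
theorem F82488 : act 2 n52173 = n52132 := d3_1 D52173 (iv6 D52132) F40036
theorem F82489 : act 3 n52173 = n49234 := d7_1 D52173 (iv6 D49234) F40037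
def n52174 : Q := act 6 n25341
theorem D52174 : act 6 n25341 = n52174 := rfl
theorem F82490 : act 2 n52174 = n49224 := d3_1 D52174 (iv6 D49224) F40043
theorem F82491 : act 5 n52174 = n35948 := d12_1 D52174 (iv6 D35948) (iv5 D17401) (iv6 F22368) (iv5 F40042)
def n52175 : Q := act 3 n25342
theorem D52175 : act 3 n25342 = n52175 := rfl
theorem F82492 : act 5 n52175 = n52105 := d6_2 (iv5 F40045) D52175 F82365
theorem F82493 : act 7 n52175 = n52104 := d8_2 F40046 D52175 F82364
def n52176 : Q := act 6 n25342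
theorem D52176 : act 6 n25342 = n52176 := rfl
theorem F82494 : act 2 n52176 = n52134 := d3_1 D52176 (iv6 D52134) (iv2 F40044)
theorem F82495 : act 4 n52176 = n25343 := d10_1 D52176 (iv6 D25343) D25342
def n52177 : Q := act 0 n25343
theorem D52177 : act 0 n25343 = n52177 := rfl
def n52178 : Q := act 1 n25343
theorem D52178 : act 1 n25343 = n52178 := rfl
theorem F82496 : act 1 n52178 = n52137 := d15_1 D52178 (iv7 D52137) (iv2 F40047)
def n52179 : Q := act 7 n25343
theorem D52179 : act 7 n25343 = n52179 := rfl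
theorem F82497 : act 2 n52179 = n52137 := d4_1 D52179 (iv7 D52137) (iv2 F40047)
theorem F82498 : act 5 n52179 = n48725 := d13_1 D52179 (iv7 D48725) (iv5 F40048)
theorem F82499 : act 1 n52137 = n52177 := d15_0 (iv0 D52177) D52179 F82497
theorem F82500 : act 1 n52136 = n52179 := d15_1 D52136 (iv7 D52179) F40047
theorem F82501 : act 1 n52179 = n52135 := d15_0 (iv0 D52135) D52137 (iv2 F82497)
def n52180 : Q := act 6 n25344
theorem D52180 : act 6 n25344 = n52180 := rfl
theorem F82502 : act 2 n52180 = n52138 := d3_1 D52180 (iv6 D52138) (iv2 F40049)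
theorem F82503 : act 4 n52180 = n52106 := d10_1 D52180 (iv6 D52106) (iv4 F40050)
def n52181 : Q := act 3 n25345
theorem D52181 : act 3 n25345 = n52181 := rfl
theorem F82504 : act 4 n52181 = n29773 := d5_2 D25345 D52181 (iv3 D29773) (iv4 D14147) (iv3 F19920)
theorem F82505 : act 6 n52181 = n25348 := d7_2 (iv6 F40054) D52181 (iv3 D25348)
def n52182 : Q := act 0 n25346
theorem D52182 : act 0 n25346 = n52182 := rfl
theorem F82506 : act 6 n52182 = n49566 := d21_5 F23050 F18518 (iv5 F19922) D25346 D52182 (iv5 D49566) (iv1 D24183) (iv5 F23054) (iv6 D13804) D13801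
def n52183 : Q := act 1 n25346
theorem D52183 : act 1 n25346 = n52183 := rfl
def n52184 : Q := act 7 n25346
theorem D52184 : act 7 n25346 = n52184 := rfl
theorem F82507 : act 6 n52184 = n49484 := d14_1 D52184 (iv7 D49484) F37853 F19923 D25346
def n52185 : Q := act 0 n25347
theorem D52185 : act 0 n25347 = n52185 := rfl
def n52186 : Q := act 1 n25347
theorem D52186 : act 1 n25347 = n52186 := rfl
theorem F82508 : act 1 n52186 = n49484 := d15_1 D52186 (iv7 D49484) (iv2 F40056)
theorem F82509 : act 5 n49534 = n52186 := d21_6 F19790 (iv1 F18006) F10139 D11356 D24173 D49534 (iv1 D52186) F40057 (iv6 D13394) (iv1 F19788)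
def n52187 : Q := act 7 n25347
theorem D52187 : act 7 n25347 = n52187 := rfl
theorem F82510 : act 2 n52187 = n49484 := d4_1 D52187 (iv7 D49484) (iv2 F40056)
theorem F82511 : act 5 n52187 = n28088 := d13_1 D52187 (iv7 D28088) (iv5 F40057)
theorem F82512 : act 1 n49484 = n52185 := d15_0 (iv0 D52185) D52187 F82510
theorem F82513 : act 1 n49482 = n52187 := d15_1 D49482 (iv7 D52187) F40056
theorem F82514 : act 5 n49431 = n52185 := d21_0 (iv1 F82512) F78227 (iv6 F39787) (iv1 F39789) (iv6 F53445) F53440 (iv1 D30278) F24000 D24128 D49431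
theorem F82515 : act 1 n52187 = n49481 := d15_0 (iv0 D49481) D49484 (iv2 F82510)
def n52188 : Q := act 0 n25348
theorem D52188 : act 0 n25348 = n52188 := rfl
def n52189 : Q := act 1 n25348
theorem D52189 : act 1 n25348 = n52189 := rfl
def n52190 : Q := act 2 n25348
theorem D52190 : act 2 n25348 = n52190 := rfl
theorem F82516 : act 4 n52190 = n51279 := d1_2 (iv4 F40058) D52190 (iv2 D51279)
def n52191 : Q := act 5 n25348
theorem D52191 : act 5 n25348 = n52191 := rfl
theorem F82517 : act 3 n52191 = n25349 := d6_1 D52191 (iv5 D25349) D25348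
def n52192 : Q := act 7 n25348
theorem D52192 : act 7 n25348 = n52192 := rfl
theorem F82518 : act 3 n52192 = n25350 := d8_1 D52192 (iv7 D25350) D25348
theorem F82519 : act 4 n52192 = n51281 := d11_1 D52192 (iv7 D51281) (iv4 F40058)
def n52193 : Q := act 6 n25349
theorem D52193 : act 6 n25349 = n52193 := rfl
def n52194 : Q := act 6 n25350
theorem D52194 : act 6 n25350 = n52194 := rfl
theorem F82520 : act 4 n52194 = n25351 := d10_1 D52194 (iv6 D25351) (iv4 F40059)
def n52195 : Q := act 0 n25351
theorem D52195 : act 0 n25351 = n52195 := rfl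
theorem F82521 : act 1 n31347 = n52195 := d15_0 (iv0 D52195) (iv7 F48762) (iv2 F49605)
def n52196 : Q := act 1 n25351
theorem D52196 : act 1 n25351 = n52196 := rfl
theorem F82522 : act 1 n52196 = n31347 := d15_1 D52196 F49607 F40085
def n52197 : Q := act 3 n25352
theorem D52197 : act 3 n25352 = n52197 := rfl
theorem F82523 : act 4 n52197 = n25357 := d5_2 D25352 D52197 (iv3 D25357) (iv4 D12043) (iv3 F19930)
def n52198 : Q := act 5 n25352
theorem D52198 : act 5 n25352 = n52198 := rfl
theorem F82524 : act 2 n52198 = n51292 := d2_1 D52198 (iv5 D51292) (iv2 F40064)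
theorem F82525 : act 0 n52198 = n49909 := d17_2 (iv1 F40065) D52198 (iv5 D49909) (iv4 D24339) (iv5 D11468) (iv0 D5340) D5342 D11476 D24351
theorem F82526 : act 1 n52198 = n49920 := d17_6 F48166 (iv5 D24117) F19521 D12039 D25352 D52198 (iv5 D49920) F78945 F78944
def n52199 : Q := act 7 n25352
theorem D52199 : act 7 n25352 = n52199 := rfl
theorem F82527 : act 2 n52199 = n49924 := d4_1 D52199 F78971 (iv2 F40064)
theorem F82528 : act 4 n52199 = n25353 := d11_1 D52199 (iv7 D25353) D25352
theorem F82529 : act 1 n28245 = n52199 := d15_1 (iv0 F45732) (iv7 D52199) F40064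
theorem F82530 : act 1 n52199 = n49890 := d15_1 F82529 F78891 (iv2 F45730)
def n52200 : Q := act 6 n25353
theorem D52200 : act 6 n25353 = n52200 := rfl
theorem F82531 : act 2 n52200 = n51293 := d3_1 D52200 (iv6 D51293) (iv2 F40066)
theorem F82532 : act 3 n52200 = n25360 := d7_1 D52200 (iv6 D25360) (iv3 F40067)
theorem F82533 : act 5 n52200 = n52200 := d12_1 D52200 (iv6 D52200) F40068 F19934 (iv5 F40068)
theorem F82534 : act 7 n52200 = n50423 := d14_2 D25353 D52200 (iv6 D50423) F38572 F23948
def n52201 : Q := act 6 n25354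
theorem D52201 : act 6 n25354 = n52201 := rfl
theorem F82535 : act 2 n52201 = n30164 := d3_1 D52201 (iv6 D30164) F40071
theorem F82536 : act 3 n52201 = n30377 := d7_1 D52201 (iv6 D30377) F40074
theorem F82537 : act 5 n52201 = n49199 := d12_1 D52201 (iv6 F77694) F47933 (iv6 F40133) F40129
def n52202 : Q := act 3 n25355
theorem D52202 : act 3 n25355 = n52202 := rfl
theorem F82538 : act 6 n52202 = n25357 := d7_2 (iv6 F40076) D52202 (iv3 D25357)
def n52203 : Q := act 5 n25355
theorem D52203 : act 5 n25355 = n52203 := rfl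
theorem F82539 : act 2 n52203 = n31385 := d2_1 D52203 F49650 (iv2 F40075)
theorem F82540 : act 7 n52203 = n31384 := d13_2 F49602 D52203 F49648
theorem F82541 : act 0 n52203 = n31354 := d17_2 (iv1 F40078) D52203 (iv5 D31354) (iv4 D14780) (iv5 D7047) F19400 D6511 (iv0 F19553) D13513
theorem F82542 : act 1 n52203 = n26075 := d17_6 (iv1 D14398) (iv5 D6890) (iv1 F19403) D12041 D25355 D52203 (iv5 D26075) D26073 F41245
def n52204 : Q := act 0 n25356
theorem D52204 : act 0 n25356 = n52204 := rfl
def n52205 : Q := act 1 n25356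
theorem D52205 : act 1 n25356 = n52205 := rfl
theorem F82543 : act 1 n52205 = n52184 := d15_1 D52205 (iv7 D52184) (iv2 F40079)
def n52206 : Q := act 7 n25356
theorem D52206 : act 7 n25356 = n52206 := rfl
theorem F82544 : act 2 n52206 = n52184 := d4_1 D52206 (iv7 D52184) (iv2 F40079)
theorem F82545 : act 6 n52206 = n52187 := d14_1 D52206 (iv7 D52187) (iv6 D25347) (iv7 F19946) D25356
theorem F82546 : act 1 n52184 = n52204 := d15_0 (iv0 D52204) D52206 F82544
theorem F82547 : act 1 n52183 = n52206 := d15_1 D52183 (iv7 D52206) F40079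
theorem F82548 : act 0 n52182 = n52206 := d21_4 F82374 (iv1 F77673) D49566 (iv6 F82506) F82545 F82511 (iv1 F45375) D49479 (iv6 F78224) (iv1 F82377)
def n52207 : Q := act 0 n25357
theorem D52207 : act 0 n25357 = n52207 := rfl
def n52208 : Q := act 1 n25357
theorem D52208 : act 1 n25357 = n52208 := rfl
def n52209 : Q := act 2 n25357
theorem D52209 : act 2 n25357 = n52209 := rfl
theorem F82549 : act 3 n52209 = n52190 := d0_2 D25357 D52209 (iv2 D52190) (iv3 D25348) (iv2 F19948)
def n52210 : Q := act 5 n25357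
theorem D52210 : act 5 n25357 = n52210 := rfl
theorem F82550 : act 3 n52210 = n25358 := d6_1 D52210 (iv5 D25358) D25357
def n52211 : Q := act 7 n25357
theorem D52211 : act 7 n25357 = n52211 := rfl
theorem F82551 : act 3 n52211 = n25359 := d8_1 D52211 (iv7 D25359) D25357
def n52212 : Q := act 6 n25358
theorem D52212 : act 6 n25358 = n52212 := rfl
theorem F82552 : act 2 n52212 = n52193 := d3_1 D52212 (iv6 D52193) (iv2 F40080)
def n52213 : Q := act 6 n25359
theorem D52213 : act 6 n25359 = n52213 := rfl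
theorem F82553 : act 2 n52213 = n52194 := d3_1 D52213 (iv6 D52194) (iv2 F40081)
theorem F82554 : act 4 n52213 = n25360 := d10_1 D52213 (iv6 D25360) (iv4 F40082)
def n52214 : Q := act 0 n25360
theorem D52214 : act 0 n25360 = n52214 := rfl
theorem F82555 : act 1 n30339 = n52214 := d15_0 (iv0 D52214) (iv7 F49607) F49605
def n52215 : Q := act 1 n25360
theorem D52215 : act 1 n25360 = n52215 := rfl
theorem F82556 : act 1 n52215 = n30339 := d15_1 D52215 F48762 (iv2 F40085)
def n52216 : Q := act 3 n25361
theorem D52216 : act 3 n25361 = n52216 := rfl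
theorem F82557 : act 4 n52216 = n49165 := d5_2 D25361 D52216 (iv3 D49165) (iv4 D23991) (iv3 F19954)
theorem F82558 : act 6 n52216 = n49160 := d7_2 (iv6 F40088) D52216 (iv3 D49160)
def n52217 : Q := act 5 n25361
theorem D52217 : act 5 n25361 = n52217 := rfl
theorem F82559 : act 2 n52217 = n50102 := d2_1 D52217 (iv5 D50102) (iv2 F40087)
theorem F82560 : act 0 n52217 = n49728 := d17_2 (iv1 F40089) D52217 (iv5 D49728) (iv4 D24252) (iv5 D11413) (iv0 D5304) D5306 D11420 D24261
theorem F82561 : act 1 n52217 = n49737 := d17_6 (iv1 D29587) (iv5 D14053) F19512 D12045 D25361 D52217 (iv5 D49737) F78590 F78589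
def n52218 : Q := act 7 n25361
theorem D52218 : act 7 n25361 = n52218 := rfl
theorem F82562 : act 2 n52218 = n49742 := d4_1 D52218 F78614 (iv2 F40087)
theorem F82563 : act 4 n52218 = n25362 := d11_1 D52218 (iv7 D25362) D25361
theorem F82564 : act 1 n48803 = n52218 := d15_1 (iv0 F76870) (iv7 D52218) F40087
theorem F82565 : act 1 n52218 = n49709 := d15_1 F82564 F78544 (iv2 F76868)
def n52219 : Q := act 6 n25362
theorem D52219 : act 6 n25362 = n52219 := rfl
theorem F82566 : act 2 n52219 = n50103 := d3_1 D52219 (iv6 D50103) (iv2 F40090)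
theorem F82567 : act 3 n52219 = n49168 := d7_1 D52219 (iv6 D49168) (iv3 F40091)
theorem F82568 : act 5 n52219 = n52219 := d12_1 D52219 (iv6 D52219) F40092 F19958 (iv5 F40092)
theorem F82569 : act 7 n52219 = n30275 := d14_2 D25362 D52219 (iv6 D30275) F23992 (iv6 F19955)
def n52220 : Q := act 3 n25363
theorem D52220 : act 3 n25363 = n52220 := rfl
theorem F82570 : act 4 n52220 = n30199 := d5_2 D25363 D52220 (iv3 D30199) (iv4 D14332) (iv3 F19962)
def n52221 : Q := act 3 n25364
theorem D52221 : act 3 n25364 = n52221 := rfl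
theorem F82571 : act 4 n52221 = n25386 := d5_2 D25364 D52221 (iv3 D25386) (iv4 D12071) (iv3 F19963)
theorem F82572 : act 6 n52221 = n25375 := d7_2 (iv6 F40097) D52221 (iv3 D25375)
def n52222 : Q := act 4 n25365
theorem D52222 : act 4 n25365 = n52222 := rfl
theorem F82573 : act 2 n52222 = n28224 := d1_1 D52222 (iv4 D28224) (iv2 F40099)
theorem F82574 : act 7 n52222 = n30718 := d11_2 (iv7 F40101) D52222 F49186
theorem F82575 : act 5 n52222 = n25852 := d16_1 D52222 F80283 (iv5 D50252) (iv4 D24507) (iv5 D11594) D11593 D24503 F38469 (iv2 F40099)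
theorem F82576 : act 0 n52222 = n25800 := d18_2 (iv1 F40102) D52222 (iv4 D25800) F20304 (iv4 F37863) (iv0 F37864) (iv4 F45099) (iv0 F45101) (iv5 F39931)
theorem F82577 : act 1 n52222 = n25802 := d18_6 (iv1 D2429) (iv4 F3787) D5710 D12052 D25365 D52222 (iv4 D25802) F20312 (iv5 D5814)
def n52223 : Q := act 6 n25365
theorem D52223 : act 6 n25365 = n52223 := rfl
theorem F82578 : act 2 n52223 = n28225 := d3_1 D52223 (iv6 D28225) (iv2 F40099)
theorem F82579 : act 3 n52223 = n51088 := d7_1 D52223 (iv6 D51088) (iv3 F40100)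
def n52224 : Q := act 3 n25367
theorem D52224 : act 3 n25367 = n52224 := rfl
def n52225 : Q := act 5 n25367
theorem D52225 : act 5 n25367 = n52225 := rfl
theorem F82580 : act 4 n52225 = n25853 := d9_1 D52225 F79619 (iv4 D50247) (iv5 D24503) (iv4 D11593) D11594 D24507 D50252 (iv4 F80283) (iv5 F82575) (iv4 D52222) (iv5 D25365) (iv4 D12052) D12053 D25367
theorem F82581 : act 0 n52225 = n50884 := d17_2 (iv1 F40108) D52225 (iv5 D50884) (iv4 D24747) (iv5 D11712) (iv0 D5450) D5453 D11721 D24757
theorem F82582 : act 1 n52225 = n49705 := d17_6 F38138 (iv5 D5712) D5710 D12053 D25367 D52225 (iv5 D49705) (iv0 F38536) (iv4 D24540)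
def n52226 : Q := act 6 n25367
theorem D52226 : act 6 n25367 = n52226 := rfl
theorem F82583 : act 4 n52226 = n25368 := d10_1 D52226 (iv6 D25368) D25367
def n52227 : Q := act 0 n25368
theorem D52227 : act 0 n25368 = n52227 := rfl
def n52228 : Q := act 1 n25368
theorem D52228 : act 1 n25368 = n52228 := rfl
def n52229 : Q := act 5 n25368
theorem D52229 : act 5 n25368 = n52229 := rfl
theorem F82584 : act 2 n52229 = n29835 := d2_1 D52229 (iv5 F79432) F79430
theorem F82585 : act 3 n52229 = n49353 := d6_1 D52229 F78023 F45204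
theorem F82586 : act 6 n52229 = n25370 := d12_2 D25368 D52229 (iv5 D25370) (iv6 D12054) D12053
def n52230 : Q := act 7 n25368
theorem D52230 : act 7 n25368 = n52230 := rfl
def n52231 : Q := act 3 n25372
theorem D52231 : act 3 n25372 = n52231 := rfl
theorem F82587 : act 4 n52231 = n28006 := d5_2 D25372 D52231 (iv3 D28006) (iv4 F36868) (iv3 F38408)
def n52232 : Q := act 5 n25372
theorem D52232 : act 5 n25372 = n52232 := rfl
theorem F82588 : act 4 n52232 = n25845 := d9_1 D52232 (iv5 D25845) D25844 (iv5 F40836) F38133 (iv5 F38139) D24540 D50317 F79702 (iv5 D25841) D25840 (iv5 F45239) F45240 F38409 D25372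
theorem F82589 : act 0 n52232 = n52029 := d17_2 (iv1 F40119) D52232 (iv5 D52029) (iv4 D25257) F20310 (iv0 D11739) (iv5 F10406) (iv0 F19353) D24241
theorem F82590 : act 1 n52232 = n52033 := d17_6 F38379 (iv5 D24160) D24158 F38409 D25372 D52232 (iv5 D52033) (iv0 F79428) (iv4 D50141)
def n52233 : Q := act 6 n25372
theorem D52233 : act 6 n25372 = n52233 := rfl
theorem F82591 : act 4 n52233 = n25373 := d10_1 D52233 (iv6 D25373) D25372
def n52234 : Q := act 0 n25373
theorem D52234 : act 0 n25373 = n52234 := rfl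
def n52235 : Q := act 1 n25373
theorem D52235 : act 1 n25373 = n52235 := rfl
def n52236 : Q := act 7 n25373
theorem D52236 : act 7 n25373 = n52236 := rfl
theorem F82592 : act 3 n52236 = n52009 := d8_1 D52236 F82158 F76476
theorem F82593 : act 5 n52236 = n52008 := d13_1 D52236 F82151 F48783
def n52237 : Q := act 3 n25374
theorem D52237 : act 3 n25374 = n52237 := rfl
def n52238 : Q := act 5 n25374
theorem D52238 : act 5 n25374 = n52238 := rfl
theorem F82594 : act 2 n52238 = n28120 := d2_1 D52238 (iv5 D28120) F40121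
theorem F82595 : act 4 n52238 = n25832 := d9_1 D52238 (iv5 D25832) (iv4 D12266) (iv5 F19651) (iv4 F19645) (iv5 F9868) D13380 D28046 F45319 (iv5 D25825) (iv4 D12264) F19655 F19649 (iv5 F22321) (iv4 F40120)
theorem F82596 : act 0 n52238 = n50912 := d17_2 D25374 D52238 (iv5 D50912) (iv4 F39416) (iv5 F45385) (iv0 F45389) F38409 (iv0 D12055) D12057
theorem F82597 : act 1 n52238 = n50909 := d17_6 D11720 (iv5 F20273) (iv1 F19853) (iv5 F22321) (iv4 F40120) D52238 (iv5 D50909) (iv0 D24759) (iv4 D11722)
def n52239 : Q := act 6 n25374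
theorem D52239 : act 6 n25374 = n52239 := rfl
theorem F82598 : act 2 n52239 = n28121 := d3_1 D52239 (iv6 D28121) F40121
theorem F82599 : act 4 n52239 = n28119 := d10_1 D52239 (iv6 D28119) (iv4 F40120)
def n52240 : Q := act 0 n25375
theorem D52240 : act 0 n25375 = n52240 := rfl
def n52241 : Q := act 1 n25375
theorem D52241 : act 1 n25375 = n52241 := rfl
def n52242 : Q := act 2 n25375
theorem D52242 : act 2 n25375 = n52242 := rfl
theorem F82600 : act 4 n52242 = n25431 := d1_2 (iv4 F40122) D52242 (iv2 D25431)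
def n52243 : Q := act 5 n25375
theorem D52243 : act 5 n25375 = n52243 := rfl
theorem F82601 : act 3 n52243 = n25376 := d6_1 D52243 (iv5 D25376) D25375
def n52244 : Q := act 7 n25375
theorem D52244 : act 7 n25375 = n52244 := rfl
theorem F82602 : act 3 n52244 = n25377 := d8_1 D52244 (iv7 D25377) D25375
theorem F82603 : act 4 n52244 = n25433 := d11_1 D52244 (iv7 D25433) (iv4 F40122)
def n52245 : Q := act 4 n25376
theorem D52245 : act 4 n25376 = n52245 := rfl
theorem F82604 : act 2 n52245 = n25856 := d1_1 D52245 F80335 (iv2 F80334)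
theorem F82605 : act 5 n52245 = n25794 := d9_2 D25376 D52245 F40762 F20296 F18905 D24500 F45315 F45317 (iv4 D25854) (iv5 D12271) (iv4 D5818) (iv5 D2430) (iv4 F3787) D5712 D12057
theorem F82606 : act 7 n52245 = n25793 := d11_2 (iv7 F80330) D52245 F80331
theorem F82607 : act 0 n52245 = n25853 := d18_2 (iv1 F40123) D52245 (iv4 F82580) (iv5 D52225) (iv4 D25367) F38474 (iv4 F39854) (iv0 D25262) D25265
theorem F82608 : act 1 n52245 = n25852 := d18_6 F38736 (iv4 D24540) F38138 D12057 D25376 D52245 F80283 (iv0 F80275) (iv5 D50884)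
def n52246 : Q := act 6 n25376
theorem D52246 : act 6 n25376 = n52246 := rfl
def n52247 : Q := act 6 n25377
theorem D52247 : act 6 n25377 = n52247 := rfl
theorem F82609 : act 4 n52247 = n25378 := d10_1 D52247 (iv6 D25378) (iv4 F40124)
def n52248 : Q := act 0 n25378
theorem D52248 : act 0 n25378 = n52248 := rfl
theorem F82610 : act 1 n50523 = n52248 := d15_0 (iv0 D52248) (iv7 F81301) F81298
def n52249 : Q := act 1 n25378
theorem D52249 : act 1 n25378 = n52249 := rfl
theorem F82611 : act 1 n52249 = n50523 := d15_1 D52249 F79897 F79606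
def n52250 : Q := act 3 n25379
theorem D52250 : act 3 n25379 = n52250 := rfl
def n52251 : Q := act 5 n25379
theorem D52251 : act 5 n25379 = n52251 := rfl
theorem F82612 : act 2 n52251 = n28018 := d2_1 D52251 F45281 F45244
theorem F82613 : act 7 n52251 = n28017 := d13_2 F45201 D52251 F45279
theorem F82614 : act 0 n52251 = n27952 := d17_2 (iv1 F40128) D52251 (iv5 D27952) (iv4 D13334) (iv5 D6323) D6322 D13330 F22177 D24770
theorem F82615 : act 1 n52251 = n28021 := d17_6 (iv1 F36876) F36874 (iv1 F17994) D12067 D25379 D52251 F45289 (iv0 F38503) (iv4 D24525)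
def n52252 : Q := act 6 n25379
theorem D52252 : act 6 n25379 = n52252 := rfl
theorem F82616 : act 4 n52252 = n25380 := d10_1 D52252 (iv6 D25380) D25379
theorem F82617 : act 0 n50953 = n52252 := d21_4 D25409 (iv1 F78487) F78484 D50953 (iv6 D52252) D52251 F82614 (iv5 D27952) F22189 (iv1 F19998)
def n52253 : Q := act 0 n25380
theorem D52253 : act 0 n25380 = n52253 := rfl
theorem F82618 : act 6 n52253 = n49512 := d21_5 F36874 (iv1 F17994) D12067 D25380 D52253 F78265 (iv1 F39779) (iv5 F39783) (iv6 D24527) (iv1 F36876)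
theorem F82619 : act 5 n52206 = n52253 := d12_5 F82618 F78265 (iv6 F45373) (iv5 F82511) (iv6 F82545)
theorem F82620 : act 7 n25391 = n52253 := d14_0 F82618 (iv7 D49512) F37878 (iv7 F19980) D25391
theorem F82621 : act 3 n52253 = n51404 := d8_1 F82620 F81160 F79621
def n52254 : Q := act 5 n25380
theorem D52254 : act 5 n25380 = n52254 := rfl
theorem F82622 : act 2 n52254 = n30342 := d2_1 D52254 F48771 F45248
theorem F82623 : act 3 n52254 = n50425 := d6_1 D52254 F79798 F79614
theorem F82624 : act 6 n52254 = n25382 := d12_2 D25380 D52254 (iv5 D25382) (iv6 D12068) D12067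
theorem F82625 : act 4 n31375 = n52254 := d10_3 F82624 F40141 D31375
def n52255 : Q := act 7 n25380
theorem D52255 : act 7 n25380 = n52255 := rfl
theorem F82626 : act 1 n25391 = n52255 := d15_1 (iv0 F45250) (iv7 D52255) (iv2 F45248)
def n52256 : Q := act 3 n25384
theorem D52256 : act 3 n25384 = n52256 := rfl
theorem F82627 : act 7 n52256 = n28006 := d8_2 (iv7 F40150) D52256 (iv3 D28006)
def n52257 : Q := act 5 n25384
theorem D52257 : act 5 n25384 = n52257 := rfl
theorem F82628 : act 2 n52257 = n28010 := d2_1 D52257 (iv5 D28010) (iv2 F40149)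
theorem F82629 : act 7 n52257 = n28007 := d13_2 (iv7 F40150) D52257 (iv5 D28007)
theorem F82630 : act 1 n52257 = n51967 := d17_6 (iv1 F39305) F39299 (iv1 F24055) F22954 D25384 D52257 (iv5 D51967) (iv0 F45246) (iv4 D27980)
def n52258 : Q := act 6 n25384
theorem D52258 : act 6 n25384 = n52258 := rfl
theorem F82631 : act 2 n52258 = n28011 := d3_1 D52258 (iv6 D28011) (iv2 F40149)
theorem F82632 : act 4 n52258 = n25385 := d10_1 D52258 (iv6 D25385) D25384
def n52259 : Q := act 0 n25385
theorem D52259 : act 0 n25385 = n52259 := rfl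
theorem F82633 : act 5 n52259 = n49361 := d21_0 (iv1 F78050) F78013 (iv6 F76517) (iv1 F76519) (iv6 F40186) F39299 (iv1 F24055) F22954 D25385 D52259
def n52260 : Q := act 1 n25385
theorem D52260 : act 1 n25385 = n52260 := rfl
theorem F82634 : act 5 n49362 = n52260 := d21_0 (iv1 D52260) (iv5 F46373) (iv6 D28740) F37801 (iv6 F78152) (iv5 D49419) D49418 F78361 F78042 (iv1 F78046)
theorem F82635 : act 6 n25411 = n52260 := d21_5 (iv5 D11352) D11351 F18528 D12083 D25411 (iv5 F82634) (iv1 D49362) F37729 (iv6 D23716) (iv1 F18534)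
def n52261 : Q := act 7 n25385
theorem D52261 : act 7 n25385 = n52261 := rfl
theorem F82636 : act 6 n52261 = n52009 := d14_1 D52261 F82158 (iv6 D48631) F36862 D25385
def n52262 : Q := act 0 n25386
theorem D52262 : act 0 n25386 = n52262 := rfl
def n52263 : Q := act 1 n25386
theorem D52263 : act 1 n25386 = n52263 := rfl
def n52264 : Q := act 2 n25386
theorem D52264 : act 2 n25386 = n52264 := rfl
theorem F82637 : act 6 n52264 = n25431 := d3_2 (iv6 F40153) D52264 (iv2 D25431)
def n52265 : Q := act 5 n25386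
theorem D52265 : act 5 n25386 = n52265 := rfl
theorem F82638 : act 3 n52265 = n25387 := d6_1 D52265 (iv5 D25387) D25386
def n52266 : Q := act 7 n25386
theorem D52266 : act 7 n25386 = n52266 := rfl
theorem F82639 : act 3 n52266 = n25388 := d8_1 D52266 (iv7 D25388) D25386
def n52267 : Q := act 4 n25387
theorem D52267 : act 4 n25387 = n52267 := rfl
theorem F82640 : act 5 n52267 = n25388 := d16_3 D12071 D25387 D52267 F40154 F19978 (iv4 F17991) (iv5 F36874) (iv7 D23711) F17986
theorem F82641 : act 7 n25387 = n52267 := d13_0 F82640 (iv7 D25388) D25387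
def n52268 : Q := act 6 n25387
theorem D52268 : act 6 n25387 = n52268 := rfl
theorem F82642 : act 5 n52268 = n25436 := d12_1 D52268 (iv6 D25436) (iv5 D12090) (iv6 F19977) D25387
def n52269 : Q := act 6 n25388
theorem D52269 : act 6 n25388 = n52269 := rfl
theorem F82643 : act 4 n52269 = n25389 := d10_1 D52269 (iv6 D25389) (iv4 F40154)
theorem F82644 : act 7 n52269 = n25437 := d14_2 D25388 D52269 (iv6 D25437) (iv7 D12091) (iv6 F19977)
def n52270 : Q := act 3 n25390
theorem D52270 : act 3 n25390 = n52270 := rfl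
theorem F82645 : act 4 n52270 = n52038 := d5_2 D25390 D52270 (iv3 D52038) F39854 (iv3 F38475)
theorem F82646 : act 7 n52270 = n49513 := d8_2 (iv7 F40157) D52270 (iv3 D49513)
def n52271 : Q := act 6 n25390
theorem D52271 : act 6 n25390 = n52271 := rfl
theorem F82647 : act 4 n52271 = n25391 := d10_1 D52271 (iv6 D25391) D25390
def n52272 : Q := act 3 n25392
theorem D52272 : act 3 n25392 = n52272 := rfl
theorem F82648 : act 7 n52272 = n49673 := d8_2 (iv7 F40163) D52272 (iv3 D49673)
def n52273 : Q := act 5 n25392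
theorem D52273 : act 5 n25392 = n52273 := rfl
theorem F82649 : act 2 n52273 = n49680 := d2_1 D52273 F78484 F40165
theorem F82650 : act 4 n52273 = n25483 := d9_1 D52273 F40291 (iv4 D13527) F10474 F10206 D7114 D14935 D31747 F50049 F40285 (iv4 D13528) (iv5 F10482) (iv4 F18606) (iv5 F22692) (iv4 F40164)
theorem F82651 : act 7 n52273 = n49674 := d13_2 (iv7 F40163) D52273 (iv5 D49674)
theorem F82652 : act 0 n52273 = n28107 := d17_2 (iv1 F40162) D52273 (iv5 D28107) F22310 (iv5 F18383) F18536 (iv5 F19981) F19979 D12080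
theorem F82653 : act 1 n52273 = n28104 := d17_6 D6373 F11428 (iv1 F18608) (iv5 F22692) (iv4 F40164) D52273 (iv5 D28104) (iv0 D13416) (iv4 D6375)
def n52274 : Q := act 6 n25392
theorem D52274 : act 6 n25392 = n52274 := rfl
theorem F82654 : act 2 n52274 = n50953 := d3_1 D52274 (iv6 D50953) F40165
theorem F82655 : act 4 n52274 = n27986 := d10_1 D52274 (iv6 F45253) (iv4 F40164)
def n52275 : Q := act 0 n25393
theorem D52275 : act 0 n25393 = n52275 := rfl
def n52276 : Q := act 1 n25393
theorem D52276 : act 1 n25393 = n52276 := rfl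
def n52277 : Q := act 2 n25393
theorem D52277 : act 2 n25393 = n52277 := rfl
theorem F82656 : act 4 n52277 = n51376 := d1_2 (iv4 F40166) D52277 (iv2 D51376)
def n52278 : Q := act 5 n25393
theorem D52278 : act 5 n25393 = n52278 := rfl
theorem F82657 : act 3 n52278 = n25394 := d6_1 D52278 (iv5 D25394) D25393
def n52279 : Q := act 6 n25393
theorem D52279 : act 6 n25393 = n52279 := rfl
theorem F82658 : act 3 n52279 = n25395 := d7_1 D52279 (iv6 D25395) D25393
theorem F82659 : act 4 n52279 = n51378 := d10_1 D52279 (iv6 D51378) (iv4 F40166)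
def n52280 : Q := act 6 n25394
theorem D52280 : act 6 n25394 = n52280 := rfl
theorem F82660 : act 4 n52280 = n25527 := d10_1 D52280 (iv6 D25527) (iv4 F40167)
def n52281 : Q := act 0 n25395
theorem D52281 : act 0 n25395 = n52281 := rfl
def n52282 : Q := act 1 n25395
theorem D52282 : act 1 n25395 = n52282 := rfl
def n52283 : Q := act 5 n25395
theorem D52283 : act 5 n25395 = n52283 := rfl
def n52284 : Q := act 7 n25395
theorem D52284 : act 7 n25395 = n52284 := rfl
theorem F82661 : act 4 n52284 = n25398 := d11_1 D52284 (iv7 D25398) (iv4 F40170)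
def n52285 : Q := act 2 n25396
theorem D52285 : act 2 n25396 = n52285 := rfl
theorem F82662 : act 7 n25397 = n52285 := d15_2 (iv0 D25396) D25397 (iv2 D52285)
def n52286 : Q := act 3 n25396
theorem D52286 : act 3 n25396 = n52286 := rfl
def n52287 : Q := act 4 n25396
theorem D52287 : act 4 n25396 = n52287 := rfl
def n52288 : Q := act 5 n25396
theorem D52288 : act 5 n25396 = n52288 := rfl
theorem F82663 : act 0 n52288 = n28740 := d21_1 D52288 F46373 (iv6 D25385) (iv1 D12070) F8818 (iv5 D2394) D2392 D5718 D12075 D25396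
def n52289 : Q := act 7 n25396
theorem D52289 : act 7 n25396 = n52289 := rfl
def n52290 : Q := act 3 n25397
theorem D52290 : act 3 n25397 = n52290 := rfl
def n52291 : Q := act 4 n25397
theorem D52291 : act 4 n25397 = n52291 := rfl
def n52292 : Q := act 5 n25397
theorem D52292 : act 5 n25397 = n52292 := rfl
theorem F82665 : act 0 n28740 = n52292 := d21_10 (iv5 D52292) (iv1 D25397) (iv5 F37705) (iv6 D24080) (iv1 D11304) (iv6 F11067) (iv5 D6813) (iv1 F22499) D13706 D28740
theorem F82666 : act 6 n49189 = n52292 := d21_5 (iv5 D5220) (iv1 F10228) D11257 D24002 D49189 (iv5 D52292) (iv1 D25397) (iv5 F37705) (iv6 D24080) (iv1 D11304)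
def n52293 : Q := act 6 n25397
theorem D52293 : act 6 n25397 = n52293 := rfl
def n52294 : Q := act 6 n25399
theorem D52294 : act 6 n25399 = n52294 := rfl
theorem F82667 : act 2 n52294 = n30353 := d3_1 D52294 F48785 (iv2 F40175)
theorem F82668 : act 4 n52294 = n51943 := d10_1 D52294 (iv6 D51943) (iv4 F40176)
theorem F82669 : act 5 n52294 = n30158 := d12_1 D52294 (iv6 D30158) (iv5 D14313) D14314 F40174
def n52295 : Q := act 3 n25400
theorem D52295 : act 3 n25400 = n52295 := rfl
theorem F82670 : act 4 n52295 = n25402 := d5_2 D25400 D52295 (iv3 D25402) (iv4 D12080) (iv3 F19995)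
def n52296 : Q := act 5 n25400
theorem D52296 : act 5 n25400 = n52296 := rfl
theorem F82671 : act 2 n52296 = n51402 := d2_1 D52296 (iv5 D51402) (iv2 F40177)
theorem F82672 : act 0 n52296 = n49884 := d17_2 (iv1 F40179) D52296 (iv5 D49884) (iv4 D24325) (iv5 D11455) (iv0 F19326) D5495 D11754 D24809
theorem F82673 : act 1 n52296 = n50990 := d17_6 (iv1 F39278) (iv5 D25038) F19575 D12078 D25400 D52296 (iv5 D50990) F78874 F78872
def n52297 : Q := act 6 n25400
theorem D52297 : act 6 n25400 = n52297 := rfl
theorem F82674 : act 2 n52297 = n51403 := d3_1 D52297 (iv6 D51403) (iv2 F40177)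
theorem F82675 : act 4 n52297 = n25401 := d10_1 D52297 (iv6 D25401) D25400
def n52298 : Q := act 7 n25401
theorem D52298 : act 7 n25401 = n52298 := rfl
theorem F82676 : act 2 n52298 = n51406 := d4_1 D52298 (iv7 D51406) (iv2 F40180)
theorem F82677 : act 3 n52298 = n25407 := d8_1 D52298 (iv7 D25407) (iv3 F40181)
theorem F82678 : act 1 n51405 = n52298 := d15_1 D51405 (iv7 D52298) F40180
theorem F82679 : act 1 n52298 = n51404 := d15_1 F82678 F81160 (iv2 F81153)
def n52299 : Q := act 0 n25402
theorem D52299 : act 0 n25402 = n52299 := rfl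
def n52300 : Q := act 1 n25402
theorem D52300 : act 1 n25402 = n52300 := rfl
def n52301 : Q := act 2 n25402
theorem D52301 : act 2 n25402 = n52301 := rfl
def n52302 : Q := act 5 n25402
theorem D52302 : act 5 n25402 = n52302 := rfl
theorem F82680 : act 3 n52302 = n25403 := d6_1 D52302 (iv5 D25403) D25402
def n52303 : Q := act 6 n25402
theorem D52303 : act 6 n25402 = n52303 := rfl
theorem F82681 : act 3 n52303 = n25404 := d7_1 D52303 (iv6 D25404) D25402
def n52304 : Q := act 6 n25403
theorem D52304 : act 6 n25403 = n52304 := rfl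
theorem F82682 : act 4 n52304 = n25525 := d10_1 D52304 (iv6 D25525) (iv4 F40182)
def n52305 : Q := act 0 n25404
theorem D52305 : act 0 n25404 = n52305 := rfl
theorem F82683 : act 2 n51047 = n52305 := d15_3 (iv0 D52305) (iv0 F82078) (iv7 F82079)
theorem F82684 : act 4 n52305 = n28382 := d1_2 D51047 F82683 (iv2 F45882)
def n52306 : Q := act 5 n25404
theorem D52306 : act 5 n25404 = n52306 := rfl
def n52307 : Q := act 7 n25404
theorem D52307 : act 7 n25404 = n52307 := rfl
theorem F82685 : act 4 n52307 = n25407 := d11_1 D52307 (iv7 D25407) (iv4 F40185)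
theorem F82686 : act 0 n51047 = n52307 := d20_7 (iv4 F81158) F81157 F38838 F19107 D11762 D24828 D51047 F82685 (iv3 F82677) (iv1 F82678)
def n52308 : Q := act 4 n25405
theorem D52308 : act 4 n25405 = n52308 := rfl
def n52309 : Q := act 5 n25405
theorem D52309 : act 5 n25405 = n52309 := rfl
theorem F82687 : act 2 n52309 = n49427 := d2_1 D52309 F78159 F76521
theorem F82688 : act 7 n52309 = n49164 := d13_2 (iv7 F76522) D52309 F77634
theorem F82689 : act 6 n49433 = n52309 := d14_5 F82688 (iv6 D49164) F37494 D24128 D49433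
theorem F82690 : act 1 n49426 = n52309 := d15_1 D49426 F82688 F77633
theorem F82691 : act 1 n52309 = n49425 := d15_0 (iv0 D49425) D49427 (iv2 F82687)
def n52310 : Q := act 6 n25405
theorem D52310 : act 6 n25405 = n52310 := rfl
def n52311 : Q := act 4 n25406
theorem D52311 : act 4 n25406 = n52311 := rfl
theorem F82692 : act 6 n52311 = n51556 := d10_2 F40186 D52311 (iv4 D51556)
def n52312 : Q := act 0 n25408
theorem D52312 : act 0 n25408 = n52312 := rfl
def n52313 : Q := act 1 n25408
theorem D52313 : act 1 n25408 = n52313 := rfl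
def n52314 : Q := act 2 n25408
theorem D52314 : act 2 n25408 = n52314 := rfl
theorem F82693 : act 4 n52314 = n51429 := d1_2 (iv4 F40189) D52314 (iv2 D51429)
def n52315 : Q := act 5 n25408
theorem D52315 : act 5 n25408 = n52315 := rfl
theorem F82694 : act 3 n52315 = n25409 := d6_1 D52315 (iv5 D25409) D25408
def n52316 : Q := act 6 n25408
theorem D52316 : act 6 n25408 = n52316 := rfl
theorem F82695 : act 3 n52316 = n25410 := d7_1 D52316 (iv6 D25410) D25408
theorem F82696 : act 4 n52316 = n51431 := d10_1 D52316 (iv6 D51431) (iv4 F40189)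
def n52317 : Q := act 6 n25409
theorem D52317 : act 6 n25409 = n52317 := rfl
theorem F82697 : act 4 n52317 = n25503 := d10_1 D52317 (iv6 D25503) (iv4 F40190)
def n52318 : Q := act 0 n25410
theorem D52318 : act 0 n25410 = n52318 := rfl
def n52319 : Q := act 1 n25410
theorem D52319 : act 1 n25410 = n52319 := rfl
def n52320 : Q := act 5 n25410
theorem D52320 : act 5 n25410 = n52320 := rfl
def n52321 : Q := act 7 n25410
theorem D52321 : act 7 n25410 = n52321 := rfl
theorem F82698 : act 4 n52321 = n25414 := d11_1 D52321 (iv7 D25414) (iv4 F40191)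
def n52322 : Q := act 2 n25411
theorem D52322 : act 2 n25411 = n52322 := rfl
theorem F82699 : act 7 n25412 = n52322 := d15_2 (iv0 D25411) D25412 (iv2 D52322)
def n52323 : Q := act 3 n25411
theorem D52323 : act 3 n25411 = n52323 := rfl
def n52324 : Q := act 4 n25411
theorem D52324 : act 4 n25411 = n52324 := rfl
def n52325 : Q := act 5 n25411
theorem D52325 : act 5 n25411 = n52325 := rfl
def n52326 : Q := act 7 n25411
theorem D52326 : act 7 n25411 = n52326 := rfl
theorem F82700 : act 2 n52326 = n25412 := d4_1 D52326 F82699 (iv2 D52322)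
def n52327 : Q := act 3 n25412
theorem D52327 : act 3 n25412 = n52327 := rfl
def n52328 : Q := act 4 n25412
theorem D52328 : act 4 n25412 = n52328 := rfl
def n52329 : Q := act 5 n25412
theorem D52329 : act 5 n25412 = n52329 := rfl
theorem F82701 : act 6 n52214 = n52329 := d21_5 (iv5 D12013) F10050 (iv5 F19950) D25360 D52214 (iv5 D52329) (iv1 D25412) D25413 F40193 (iv1 F23455)
theorem F82702 : act 5 n30346 = n48653 := d21_0 (iv1 F76532) D52329 (iv6 F82701) (iv1 F82555) (iv6 D30339) (iv5 D14394) (iv1 D6888) D6890 D14400 D30346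
theorem F82703 : act 7 n28998 = n30346 := d13_0 F82702 (iv7 D48653) (iv5 F46629)
def n52330 : Q := act 6 n25412
theorem D52330 : act 6 n25412 = n52330 := rfl
def n52331 : Q := act 1 n25413
theorem D52331 : act 1 n25413 = n52331 := rfl
theorem F82704 : act 1 n52331 = n30346 := d15_1 D52331 (iv7 F82703) F46628
theorem F82705 : act 7 n52331 = n30341 := d15_2 (iv0 F40194) D52331 F48767
theorem F82706 : act 5 n52310 = n52331 := d21_6 F18011 (iv1 F7546) D5721 D12081 D25405 D52310 (iv1 D52331) (iv5 D25413) (iv6 D12083) (iv1 F18014)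
theorem F82707 : act 2 n30348 = n52331 := d4_3 F82705 F48767 D30348
def n52332 : Q := act 4 n25413
theorem D52332 : act 4 n25413 = n52332 := rfl
theorem F82708 : act 6 n52332 = n29591 := d10_2 (iv6 F40193) D52332 (iv4 D29591)
theorem F82709 : act 0 n52332 = n26076 := d20_7 (iv4 F47798) (iv1 F40958) F40954 (iv3 F40937) (iv1 F40939) (iv3 F40192) D52332 F41250 F20545 D12366
def n52333 : Q := act 7 n25413
theorem D52333 : act 7 n25413 = n52333 := rfl
theorem F82710 : act 2 n52333 = n30346 := d4_1 D52333 (iv7 F82703) F46628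
theorem F82711 : act 3 n52333 = n25902 := d8_1 D52333 (iv7 F81037) (iv3 F40192)
theorem F82712 : act 5 n52333 = n25414 := d13_1 D52333 (iv7 D25414) D25413
theorem F82713 : act 1 n30348 = n52333 := d15_1 F48778 (iv7 D52333) (iv2 F46628)
theorem F82714 : act 1 n52333 = n30341 := d15_1 F82713 (iv7 F82705) (iv2 F82707)
def n52334 : Q := act 3 n25415
theorem D52334 : act 3 n25415 = n52334 := rfl
theorem F82715 : act 4 n52334 = n25417 := d5_2 D25415 D52334 (iv3 D25417) (iv4 D12085) D12084
def n52335 : Q := act 5 n25415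
theorem D52335 : act 5 n25415 = n52335 := rfl
theorem F82716 : act 2 n52335 = n51450 := d2_1 D52335 (iv5 D51450) (iv2 F40196)
theorem F82717 : act 0 n52335 = n51931 := d17_2 (iv1 F40198) D52335 (iv5 D51931) (iv4 D25199) (iv5 F22576) (iv0 D11764) (iv5 F10409) F19488 D24799
theorem F82718 : act 1 n52335 = n51937 := d17_6 D24986 (iv5 F45525) F45526 (iv5 F23820) D25415 D52335 (iv5 D51937) F39682 (iv4 D24987)
def n52336 : Q := act 6 n25415
theorem D52336 : act 6 n25415 = n52336 := rfl
theorem F82719 : act 2 n52336 = n51451 := d3_1 D52336 (iv6 D51451) (iv2 F40196)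
theorem F82720 : act 4 n52336 = n25416 := d10_1 D52336 (iv6 D25416) D25415
def n52337 : Q := act 0 n25416
theorem D52337 : act 0 n25416 = n52337 := rfl
def n52338 : Q := act 1 n25416
theorem D52338 : act 1 n25416 = n52338 := rfl
theorem F82721 : act 1 n52338 = n51454 := d15_1 D52338 (iv7 D51454) (iv2 F40199)
def n52339 : Q := act 7 n25416
theorem D52339 : act 7 n25416 = n52339 := rfl
theorem F82722 : act 2 n52339 = n51454 := d4_1 D52339 (iv7 D51454) (iv2 F40199)
theorem F82723 : act 3 n52339 = n25422 := d8_1 D52339 (iv7 D25422) (iv3 F40200)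
theorem F82724 : act 1 n51454 = n52337 := d15_0 (iv0 D52337) D52339 F82722
theorem F82725 : act 1 n51453 = n52339 := d15_1 D51453 (iv7 D52339) F40199
theorem F82726 : act 1 n52339 = n51452 := d15_0 (iv0 D51452) D51454 (iv2 F82722)
def n52340 : Q := act 0 n25417
theorem D52340 : act 0 n25417 = n52340 := rfl
def n52341 : Q := act 1 n25417
theorem D52341 : act 1 n25417 = n52341 := rfl
def n52342 : Q := act 2 n25417
theorem D52342 : act 2 n25417 = n52342 := rfl
def n52343 : Q := act 5 n25417
theorem D52343 : act 5 n25417 = n52343 := rfl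
theorem F82727 : act 3 n52343 = n25418 := d6_1 D52343 (iv5 D25418) D25417
def n52344 : Q := act 6 n25417
theorem D52344 : act 6 n25417 = n52344 := rfl
theorem F82728 : act 3 n52344 = n25419 := d7_1 D52344 (iv6 D25419) D25417
def n52345 : Q := act 6 n25418
theorem D52345 : act 6 n25418 = n52345 := rfl
theorem F82729 : act 4 n52345 = n25497 := d10_1 D52345 (iv6 D25497) (iv4 F40201)
def n52346 : Q := act 0 n25419
theorem D52346 : act 0 n25419 = n52346 := rfl
def n52347 : Q := act 1 n25419
theorem D52347 : act 1 n25419 = n52347 := rfl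
def n52348 : Q := act 5 n25419
theorem D52348 : act 5 n25419 = n52348 := rfl
def n52349 : Q := act 7 n25419
theorem D52349 : act 7 n25419 = n52349 := rfl
theorem F82730 : act 4 n52349 = n25422 := d11_1 D52349 (iv7 D25422) (iv4 F40202)
def n52350 : Q := act 2 n25420
theorem D52350 : act 2 n25420 = n52350 := rfl
theorem F82731 : act 7 n25421 = n52350 := d15_2 (iv0 D25420) D25421 (iv2 D52350)
def n52351 : Q := act 3 n25420
theorem D52351 : act 3 n25420 = n52351 := rfl
def n52352 : Q := act 4 n25420
theorem D52352 : act 4 n25420 = n52352 := rfl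
def n52353 : Q := act 5 n25420
theorem D52353 : act 5 n25420 = n52353 := rfl
theorem F82732 : act 0 n49353 = n52353 := d21_10 (iv5 D52353) (iv1 F76539) (iv5 F77887) F77888 (iv1 F77902) (iv6 F77903) F46371 (iv1 F39322) F37713 D49353
def n52354 : Q := act 6 n25420
theorem D52354 : act 6 n25420 = n52354 := rfl
theorem F82733 : act 5 n52354 = n51998 := d21_6 F36889 (iv1 F19807) F18329 D12086 D25420 D52354 (iv1 D51998) F39775 (iv6 D23719) (iv1 F36887)
def n52355 : Q := act 7 n25420
theorem D52355 : act 7 n25420 = n52355 := rfl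
theorem F82734 : act 2 n52355 = n25421 := d4_1 D52355 F82731 (iv2 D52350)
def n52356 : Q := act 3 n25421
theorem D52356 : act 3 n25421 = n52356 := rfl
def n52357 : Q := act 4 n25421
theorem D52357 : act 4 n25421 = n52357 := rfl
def n52358 : Q := act 5 n25421
theorem D52358 : act 5 n25421 = n52358 := rfl
theorem F82735 : act 6 n52358 = n49358 := d21_3 F77887 (iv1 F76538) D52358 (iv1 F78043) (iv6 F78049) F78048 (iv1 F76508) D52292 (iv6 F82666) (iv1 F77891)
def n52359 : Q := act 6 n25421
theorem D52359 : act 6 n25421 = n52359 := rfl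
def n52360 : Q := act 0 n25423
theorem D52360 : act 0 n25423 = n52360 := rfl
def n52361 : Q := act 1 n25423
theorem D52361 : act 1 n25423 = n52361 := rfl
def n52362 : Q := act 2 n25423
theorem D52362 : act 2 n25423 = n52362 := rfl
def n52363 : Q := act 5 n25423
theorem D52363 : act 5 n25423 = n52363 := rfl
theorem F82736 : act 3 n52363 = n25424 := d6_1 D52363 (iv5 D25424) D25423
def n52364 : Q := act 6 n25423
theorem D52364 : act 6 n25423 = n52364 := rfl
theorem F82737 : act 3 n52364 = n25425 := d7_1 D52364 (iv6 D25425) D25423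
def n52365 : Q := act 6 n25424
theorem D52365 : act 6 n25424 = n52365 := rfl
theorem F82738 : act 4 n52365 = n25493 := d10_1 D52365 (iv6 D25493) (iv4 F40203)
def n52366 : Q := act 0 n25425
theorem D52366 : act 0 n25425 = n52366 := rfl
def n52367 : Q := act 1 n25425
theorem D52367 : act 1 n25425 = n52367 := rfl
def n52368 : Q := act 5 n25425
theorem D52368 : act 5 n25425 = n52368 := rfl
def n52369 : Q := act 7 n25425
theorem D52369 : act 7 n25425 = n52369 := rfl
theorem F82739 : act 4 n52369 = n28096 := d11_1 D52369 (iv7 D28096) (iv4 F40204)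
def n52370 : Q := act 0 n25426
theorem D52370 : act 0 n25426 = n52370 := rfl
def n52371 : Q := act 1 n25426
theorem D52371 : act 1 n25426 = n52371 := rfl
def n52372 : Q := act 2 n25426
theorem D52372 : act 2 n25426 = n52372 := rfl
def n52373 : Q := act 4 n25426
theorem D52373 : act 4 n25426 = n52373 := rfl
theorem F82740 : act 3 n52373 = n28098 := d5_1 D52373 (iv4 D28098) (iv3 D13414) (iv4 F20003) D25426
def n52374 : Q := act 5 n25426
theorem D52374 : act 5 n25426 = n52374 := rfl
theorem F82741 : act 3 n52374 = n25427 := d6_1 D52374 (iv5 D25427) D25426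
def n52375 : Q := act 6 n25426
theorem D52375 : act 6 n25426 = n52375 := rfl
theorem F82742 : act 3 n52375 = n25428 := d7_1 D52375 (iv6 D25428) D25426
def n52376 : Q := act 6 n25427
theorem D52376 : act 6 n25427 = n52376 := rfl
theorem F82743 : act 4 n52376 = n25484 := d10_1 D52376 (iv6 D25484) (iv4 F40205)
def n52377 : Q := act 0 n25428
theorem D52377 : act 0 n25428 = n52377 := rfl
def n52378 : Q := act 1 n25428
theorem D52378 : act 1 n25428 = n52378 := rfl
def n52379 : Q := act 5 n25428
theorem D52379 : act 5 n25428 = n52379 := rfl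
def n52380 : Q := act 7 n25428
theorem D52380 : act 7 n25428 = n52380 := rfl
theorem F82744 : act 4 n52380 = n28102 := d11_1 D52380 (iv7 D28102) (iv4 F40206)
def n52381 : Q := act 0 n25429
theorem D52381 : act 0 n25429 = n52381 := rfl
theorem F82745 : act 2 n25433 = n52381 := d15_3 (iv0 D52381) (iv0 D25429) D25433
theorem F82746 : act 7 n52381 = n25431 := d4_2 D25433 F82745 (iv2 D25431)
theorem F82747 : act 1 n25430 = n52381 := d15_1 D25430 F82746 (iv2 D25431)
def n52382 : Q := act 2 n25429
theorem D52382 : act 2 n25429 = n52382 := rfl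
theorem F82748 : act 7 n25430 = n52382 := d15_2 (iv0 D25429) D25430 (iv2 D52382)
def n52383 : Q := act 3 n25429
theorem D52383 : act 3 n25429 = n52383 := rfl
theorem F82749 : act 4 n52383 = n28073 := d20_6 (iv4 D12085) (iv1 D5724) D5725 D12089 D25429 D52383 (iv1 D28073) D28074 F45340 (iv1 F22315)
def n52384 : Q := act 4 n25429
theorem D52384 : act 4 n25429 = n52384 := rfl
def n52385 : Q := act 5 n25429
theorem D52385 : act 5 n25429 = n52385 := rfl
def n52386 : Q := act 6 n25429
theorem D52386 : act 6 n25429 = n52386 := rfl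
def n52387 : Q := act 7 n25429
theorem D52387 : act 7 n25429 = n52387 := rfl
theorem F82750 : act 2 n52387 = n25430 := d4_1 D52387 F82748 (iv2 D52382)
def n52388 : Q := act 3 n25430
theorem D52388 : act 3 n25430 = n52388 := rfl
def n52389 : Q := act 4 n25430
theorem D52389 : act 4 n25430 = n52389 := rfl
def n52390 : Q := act 5 n25430
theorem D52390 : act 5 n25430 = n52390 := rfl
def n52391 : Q := act 6 n25430
theorem D52391 : act 6 n25430 = n52391 := rfl
def n52392 : Q := act 0 n25431
theorem D52392 : act 0 n25431 = n52392 := rfl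
theorem F82751 : act 1 n25433 = n52392 := d15_0 (iv0 D52392) (iv7 F82746) (iv2 F82745)
def n52393 : Q := act 1 n25431
theorem D52393 : act 1 n25431 = n52393 := rfl
theorem F82752 : act 1 n52393 = n25433 := d15_1 D52393 (iv7 D25433) D25431
theorem F82753 : act 3 n52393 = n28154 := d20_5 F22306 (iv1 F18012) (iv4 F20004) (iv3 F40208) (iv1 F82752) (iv4 D28154) (iv1 D13435) (iv4 F22312) (iv3 D13418) D13416
def n52394 : Q := act 5 n25431
theorem D52394 : act 5 n25431 = n52394 := rfl
theorem F82754 : act 2 n52394 = n25432 := d2_1 D52394 (iv5 D25432) D25431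
def n52395 : Q := act 0 n25432
theorem D52395 : act 0 n25432 = n52395 := rfl
def n52396 : Q := act 1 n25432
theorem D52396 : act 1 n25432 = n52396 := rfl
def n52397 : Q := act 4 n25432
theorem D52397 : act 4 n25432 = n52397 := rfl
def n52398 : Q := act 6 n25432
theorem D52398 : act 6 n25432 = n52398 := rfl
theorem F82755 : act 3 n52398 = n25436 := d7_1 D52398 (iv6 D25436) (iv3 F40207)
def n52399 : Q := act 6 n25433
theorem D52399 : act 6 n25433 = n52399 := rfl
theorem F82756 : act 3 n52399 = n25437 := d7_1 D52399 (iv6 D25437) (iv3 F40208)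
def n52400 : Q := act 3 n25434
theorem D52400 : act 3 n25434 = n52400 := rfl
theorem F82757 : act 5 n52400 = n25446 := d6_2 (iv5 F40209) D52400 (iv3 D25446)
def n52401 : Q := act 6 n25434
theorem D52401 : act 6 n25434 = n52401 := rfl
theorem F82758 : act 4 n52401 = n25476 := d10_1 D52401 (iv6 D25476) (iv4 F40210)
def n52402 : Q := act 3 n25435
theorem D52402 : act 3 n25435 = n52402 := rfl
theorem F82759 : act 5 n52402 = n25467 := d6_2 (iv5 F40213) D52402 (iv3 D25467)
def n52403 : Q := act 6 n25435
theorem D52403 : act 6 n25435 = n52403 := rfl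
theorem F82760 : act 4 n52403 = n25459 := d10_1 D52403 (iv6 D25459) (iv4 F40214)
def n52404 : Q := act 0 n25436
theorem D52404 : act 0 n25436 = n52404 := rfl
def n52405 : Q := act 1 n25436
theorem D52405 : act 1 n25436 = n52405 := rfl
def n52406 : Q := act 7 n25436
theorem D52406 : act 7 n25436 = n52406 := rfl
def n52407 : Q := act 0 n25437
theorem D52407 : act 0 n25437 = n52407 := rfl
def n52408 : Q := act 1 n25437
theorem D52408 : act 1 n25437 = n52408 := rfl
def n52409 : Q := act 5 n25437
theorem D52409 : act 5 n25437 = n52409 := rfl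
def n52410 : Q := act 2 n25438
theorem D52410 : act 2 n25438 = n52410 := rfl
theorem F82761 : act 7 n25439 = n52410 := d15_2 (iv0 D25438) D25439 (iv2 D52410)
def n52411 : Q := act 3 n25438
theorem D52411 : act 3 n25438 = n52411 := rfl
def n52412 : Q := act 4 n25438
theorem D52412 : act 4 n25438 = n52412 := rfl
def n52413 : Q := act 5 n25438
theorem D52413 : act 5 n25438 = n52413 := rfl
theorem F82762 : act 0 n52293 = n52413 := d21_10 (iv5 D52413) (iv1 F76491) F76488 (iv6 D48635) (iv1 F36875) D25385 (iv5 F46373) F82665 (iv5 D52292) D52293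
def n52414 : Q := act 6 n25438
theorem D52414 : act 6 n25438 = n52414 := rfl
theorem F82763 : act 5 n52414 = n52183 := d21_6 (iv5 D11104) F7537 (iv5 F8821) D12092 D25438 D52414 (iv1 D52183) (iv5 F76499) (iv6 D48638) (iv1 D23714)
def n52415 : Q := act 7 n25438
theorem D52415 : act 7 n25438 = n52415 := rfl
def n52416 : Q := act 3 n25439
theorem D52416 : act 3 n25439 = n52416 := rfl
def n52417 : Q := act 4 n25439
theorem D52417 : act 4 n25439 = n52417 := rfl
def n52418 : Q := act 5 n25439
theorem D52418 : act 5 n25439 = n52418 := rfl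
theorem F82765 : act 6 n52418 = n52011 := d21_3 F76488 (iv1 F76490) D52418 (iv1 F82170) (iv6 F82618) (iv5 F82619) (iv1 F82547) (iv5 F82763) (iv6 D52414) (iv1 F76491)
def n52419 : Q := act 6 n25439
theorem D52419 : act 6 n25439 = n52419 := rfl
def n52420 : Q := act 6 n25440
theorem D52420 : act 6 n25440 = n52420 := rfl
theorem F82766 : act 2 n52420 = n30837 := d3_1 D52420 (iv6 D30837) F40218
theorem F82767 : act 4 n52420 = n50215 := d10_1 D52420 (iv6 D50215) F40220
theorem F82768 : act 0 n52420 = n51109 := d21_4 (iv5 F45754) (iv1 F45756) F40219 D52420 (iv6 D51109) (iv5 D24875) (iv1 F19351) D14146 (iv6 F23739) (iv1 F38545)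
def n52421 : Q := act 3 n25441
theorem D52421 : act 3 n25441 = n52421 := rfl
theorem F82769 : act 4 n52421 = n25446 := d5_2 D25441 D52421 (iv3 D25446) (iv4 D12095) (iv3 F20006)
theorem F82770 : act 7 n52421 = n30841 := d8_2 (iv7 F40221) D52421 (iv3 D30841)
def n52422 : Q := act 6 n25441
theorem D52422 : act 6 n25441 = n52422 := rfl
theorem F82771 : act 4 n52422 = n25442 := d10_1 D52422 (iv6 D25442) D25441
def n52423 : Q := act 0 n25442
theorem D52423 : act 0 n25442 = n52423 := rfl
def n52424 : Q := act 1 n25442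
theorem D52424 : act 1 n25442 = n52424 := rfl
def n52425 : Q := act 7 n25442
theorem D52425 : act 7 n25442 = n52425 := rfl
theorem F82772 : act 3 n52425 = n25450 := d8_1 D52425 (iv7 D25450) (iv3 F40223)
theorem F82773 : act 6 n52425 = n30846 := d14_1 D52425 (iv7 D30846) (iv6 D14607) (iv7 F20007) D25442
def n52426 : Q := act 0 n25446
theorem D52426 : act 0 n25446 = n52426 := rfl
def n52427 : Q := act 1 n25446
theorem D52427 : act 1 n25446 = n52427 := rfl
def n52428 : Q := act 2 n25446
theorem D52428 : act 2 n25446 = n52428 := rfl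
def n52429 : Q := act 6 n25446
theorem D52429 : act 6 n25446 = n52429 := rfl
theorem F82774 : act 3 n52429 = n25447 := d7_1 D52429 (iv6 D25447) D25446
def n52430 : Q := act 0 n25447
theorem D52430 : act 0 n25447 = n52430 := rfl
def n52431 : Q := act 1 n25447
theorem D52431 : act 1 n25447 = n52431 := rfl
def n52432 : Q := act 5 n25447
theorem D52432 : act 5 n25447 = n52432 := rfl
def n52433 : Q := act 7 n25447
theorem D52433 : act 7 n25447 = n52433 := rfl
theorem F82775 : act 4 n52433 = n25450 := d11_1 D52433 (iv7 D25450) (iv4 F40235)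
def n52434 : Q := act 2 n25448
theorem D52434 : act 2 n25448 = n52434 := rfl
theorem F82776 : act 7 n25449 = n52434 := d15_2 (iv0 D25448) D25449 (iv2 D52434)
def n52435 : Q := act 3 n25448
theorem D52435 : act 3 n25448 = n52435 := rfl
def n52436 : Q := act 4 n25448
theorem D52436 : act 4 n25448 = n52436 := rfl
def n52437 : Q := act 5 n25448
theorem D52437 : act 5 n25448 = n52437 := rfl
theorem F82777 : act 0 n52437 = n28004 := d21_1 D52437 (iv5 D28004) (iv6 D13364) (iv1 D6336) (iv6 F4318) (iv5 D2726) (iv1 F9906) D5730 D12096 D25448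
theorem F82778 : act 1 n52437 = n28752 := d15_1 (iv0 F82777) (iv7 D28752) (iv2 F45271)
def n52438 : Q := act 7 n25448
theorem D52438 : act 7 n25448 = n52438 := rfl
theorem F82779 : act 2 n52438 = n25449 := d4_1 D52438 F82776 (iv2 D52434)
def n52440 : Q := act 4 n25449
theorem D52440 : act 4 n25449 = n52440 := rfl
def n52441 : Q := act 5 n25449
theorem D52441 : act 5 n25449 = n52441 := rfl
theorem F82780 : act 6 n52441 = n49242 := d21_9 (iv5 F77460) (iv1 F77463) F78434 (iv6 F78436) (iv1 F77826) F77823 (iv5 F76594) (iv1 F76597) D52441 (iv1 F77787)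
theorem F82781 : act 0 n28004 = n52441 := d21_10 (iv5 D52441) (iv1 D25449) (iv5 F37596) (iv6 D24041) (iv1 D11280) (iv6 F10591) (iv5 D6520) D6518 D13693 (iv6 F45272)
def n52442 : Q := act 6 n25449
theorem D52442 : act 6 n25449 = n52442 := rfl
def n52443 : Q := act 0 n25451
theorem D52443 : act 0 n25451 = n52443 := rfl
theorem F82782 : act 1 n31516 = n52443 := d15_0 (iv0 D52443) F40239 D31516
theorem F82783 : act 4 n31611 = n52443 := d20_0 (iv1 F82782) F49851 (iv3 F41172) (iv1 F41178) D31533 (iv4 F49916) F49919 (iv4 D14876) D14875 D31611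
theorem F82784 : act 3 n34962 = n31611 := d20_5 F50816 F50811 F27138 (iv3 F27825) D34962 F82783 (iv1 F82782) F49851 (iv3 F41172) (iv1 F41178)
theorem F82785 : act 7 n31611 = n34971 := d8_2 (iv7 F55522) F82784 (iv3 D34971)
theorem F82786 : act 7 n31514 = n52443 := d11_2 F82785 F55379 (iv4 F82783)
theorem F82787 : act 2 n52443 = n31515 := d15_3 F49854 F49850 F82786
def n52444 : Q := act 1 n25451
theorem D52444 : act 1 n25451 = n52444 := rfl
theorem F82788 : act 1 n52444 = n31516 := d15_1 D52444 F49853 (iv2 F40236)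
theorem F82789 : act 7 n52444 = n31515 := d15_2 (iv0 D52443) D52444 (iv2 F82787)
theorem F82790 : act 4 n31546 = n52444 := d20_6 (iv4 D5105) F3623 F5178 D7076 D14858 D31546 (iv1 D52444) F40237 (iv3 D12345) F9067
theorem F82791 : act 2 n52444 = n31514 := d1_1 F82790 (iv4 F55379) F55378
theorem F82792 : act 6 n52444 = n50013 := d10_2 (iv6 F50950) F82790 (iv4 D50013)
theorem F82793 : act 3 n32347 = n52444 := d20_5 (iv4 D34967) F55371 F55367 F45911 (iv1 F51370) (iv4 F82790) F49934 (iv4 F50464) (iv3 F56593) F56597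
theorem F82794 : act 6 n29015 = n32347 := d7_0 F82793 F82792 F79125
theorem F82795 : act 5 n52444 = n25519 := d21_6 D12197 D25672 F40594 (iv6 F38880) F79126 (iv6 F82792) (iv1 D25519) (iv5 D12129) F8854 D5781
def n52445 : Q := act 5 n25451
theorem D52445 : act 5 n25451 = n52445 := rfl
theorem F82796 : act 2 n52445 = n35968 := d2_1 D52445 (iv5 D35968) (iv2 F40236)
theorem F82797 : act 3 n52445 = n25452 := d6_1 D52445 (iv5 D25452) D25451
theorem F82798 : act 7 n52445 = n31517 := d13_2 (iv7 F40239) D52445 (iv5 D31517)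
theorem F82799 : act 1 n25508 = n31517 := d15_1 F56678 (iv7 F82798) F82796
def n52446 : Q := act 6 n25452
theorem D52446 : act 6 n25452 = n52446 := rfl
theorem F82800 : act 5 n52446 = n32736 := d12_1 D52446 (iv6 D32736) (iv5 D15639) (iv6 F20014) D25452
def n52447 : Q := act 6 n25453
theorem D52447 : act 6 n25453 = n52447 := rfl
theorem F82801 : act 3 n52447 = n34870 := d7_1 D52447 F55145 (iv3 F40243)
theorem F82802 : act 5 n52447 = n34867 := d12_1 D52447 (iv6 D34867) (iv5 D16904) F26352 D25453
def n52448 : Q := act 3 n25454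
theorem D52448 : act 3 n25454 = n52448 := rfl
theorem F82803 : act 7 n52448 = n25568 := d8_2 (iv7 F50628) D52448 F50630
theorem F82804 : act 0 n52448 = n32363 := d20_4 (iv4 F82319) (iv1 F82321) (iv4 F50627) D52448 (iv3 D32363) (iv4 D15251) (iv1 D7224) (iv4 F11542) (iv3 F24842) D32346
theorem F82805 : act 4 n52448 = n25473 := d20_6 (iv4 D12098) (iv1 D5732) D5733 D12100 D25454 D52448 (iv1 D25473) (iv4 F37384) (iv3 D23948) (iv1 F20017)
theorem F82806 : act 6 n49217 = n52448 := d14_5 F82803 (iv6 D25568) (iv7 F37007) D48711 (iv7 F77731)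
def n52449 : Q := act 5 n25454
theorem D52449 : act 5 n25454 = n52449 := rfl
def n52450 : Q := act 6 n25454
theorem D52450 : act 6 n25454 = n52450 := rfl
theorem F82807 : act 3 n52450 = n49217 := d7_1 D52450 F82806 (iv3 D52448)
theorem F82808 : act 7 n52450 = n35932 := d14_2 (iv7 F50628) D52450 (iv6 D35932) (iv7 F40447) (iv6 F50629)
def n52451 : Q := act 5 n25456
theorem D52451 : act 5 n25456 = n52451 := rfl
theorem F82809 : act 2 n52451 = n25457 := d2_1 D52451 (iv5 D25457) D25456
theorem F82810 : act 1 n52451 = n32022 := d17_6 D7179 D15098 (iv1 F41617) F41615 (iv4 F40246) D52451 (iv5 D32022) (iv0 D15108) (iv4 D7182)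
theorem F82811 : act 0 n52451 = n32023 := d21_1 D52451 (iv5 D32023) (iv6 F42495) (iv1 D26539) (iv6 D12677) D12676 (iv1 F42425) F42426 (iv6 F50629) (iv1 F45890)
def n52452 : Q := act 6 n25456
theorem D52452 : act 6 n25456 = n52452 := rfl
theorem F82812 : act 2 n52452 = n25458 := d3_1 D52452 (iv6 D25458) D25456
theorem F82813 : act 4 n52452 = n32367 := d10_1 D52452 (iv6 D32367) (iv4 F40246)
def n52453 : Q := act 0 n25457
theorem D52453 : act 0 n25457 = n52453 := rfl
def n52454 : Q := act 1 n25457
theorem D52454 : act 1 n25457 = n52454 := rfl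
theorem F82814 : act 5 n52454 = n25478 := d17_7 (iv1 F20655) D26141 (iv1 F41432) F20702 (iv4 F20021) D25457 D52454 F40276 (iv4 D15105)
theorem F82815 : act 2 n32022 = n52454 := d2_3 F82814 (iv2 F41367) D32022
theorem F82816 : act 7 n32023 = n52454 := d13_0 F82814 F41365 D32023
theorem F82817 : act 2 n32023 = n52453 := d15_3 (iv0 D52453) D52454 (iv7 F82816)
theorem F82818 : act 5 n52453 = n25477 := d2_2 D32023 F82817 (iv2 F41366)
theorem F82819 : act 7 n52453 = n32022 := d4_2 (iv7 F82816) F82817 F82815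
def n52455 : Q := act 4 n25457
theorem D52455 : act 4 n25457 = n52455 := rfl
def n52456 : Q := act 6 n25457
theorem D52456 : act 6 n25457 = n52456 := rfl
theorem F82820 : act 3 n52456 = n25459 := d7_1 D52456 (iv6 D25459) (iv3 F40247)
def n52457 : Q := act 0 n25458
theorem D52457 : act 0 n25458 = n52457 := rfl
theorem F82821 : act 6 n52457 = n25553 := d21_5 (iv5 F82814) (iv1 D52454) (iv5 D25457) D25458 D52457 (iv5 F40414) F30972 D19984 F31816 (iv1 F40276)
theorem F82822 : act 3 n42127 = n52457 := d7_3 F82821 F40413 D42127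
theorem F82823 : act 0 n43237 = n49220 := d20_7 (iv4 D25463) (iv1 D12103) (iv4 F20023) (iv3 F40248) D52457 (iv3 F82822) (iv4 F67747) (iv4 F77931) F77930 (iv1 F40259)
def n52458 : Q := act 1 n25458
theorem D52458 : act 1 n25458 = n52458 := rfl
def n52459 : Q := act 5 n25458
theorem D52459 : act 5 n25458 = n52459 := rfl
theorem F82824 : act 3 n52459 = n25462 := d6_1 D52459 (iv5 D25462) (iv3 F40248)
theorem F82825 : act 1 n52459 = n33241 := d17_6 F26865 D16076 (iv1 F42603) (iv5 F42604) (iv4 F40249) D52459 (iv5 D33241) F42596 (iv4 D26603)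
theorem F82826 : act 0 n52459 = n33239 := d21_7 (iv5 F42429) (iv1 F55407) (iv5 D34980) F50404 (iv1 D25455) D25458 D52459 (iv5 D33239) F50254 (iv1 F40501)
def n52460 : Q := act 0 n25459
theorem D52460 : act 0 n25459 = n52460 := rfl
def n52461 : Q := act 1 n25459
theorem D52461 : act 1 n25459 = n52461 := rfl
def n52462 : Q := act 5 n25459
theorem D52462 : act 5 n25459 = n52462 := rfl
theorem F82827 : act 6 n52462 = n25462 := d12_2 D25459 D52462 (iv5 D25462) (iv6 D12102) D12101
def n52463 : Q := act 7 n25459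
theorem D52463 : act 7 n25459 = n52463 := rfl
def n52464 : Q := act 3 n25460
theorem D52464 : act 3 n25460 = n52464 := rfl
theorem F82828 : act 2 n52464 = n34950 := d0_1 D52464 F55317 (iv2 F40433) F40434 F40253
theorem F82829 : act 4 n52464 = n52464 := d5_2 (iv4 F40250) D52464 (iv3 D52464) F40250 F27333
theorem F82830 : act 6 n52464 = n25560 := d7_2 (iv6 F40251) D52464 (iv3 D25560)
def n52465 : Q := act 3 n25461
theorem D52465 : act 3 n25461 = n52465 := rfl
theorem F82831 : act 4 n52465 = n28705 := d5_2 (iv4 F40256) D52465 F46275 F26308 (iv3 F25248)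
theorem F82832 : act 7 n52465 = n25561 := d8_2 (iv7 F40255) D52465 F40434
theorem F82833 : act 0 n52465 = n28709 := d20_10 (iv4 D28709) (iv1 F23475) (iv4 F43319) (iv3 F51640) F77711 F77708 F37547 F25251 (iv4 F40256) D52465
theorem F82834 : act 6 n25461 = n52465 := d21_9 F77617 (iv1 D49157) (iv5 D23985) (iv6 D11240) (iv1 F7694) D5772 D12178 D25616 F40515 F82833
theorem F82835 : act 1 n52465 = n29607 := d15_1 (iv0 F82833) F47542 (iv2 F46289)
theorem F82836 : act 2 n34953 = n52465 := d15_3 F82835 (iv0 F47543) D34953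
def n52466 : Q := act 4 n25462
theorem D52466 : act 4 n25462 = n52466 := rfl
theorem F82837 : act 1 n52466 = n32987 := d18_6 (iv1 F40259) (iv4 D25463) (iv1 D12103) (iv4 F20023) D25462 D52466 (iv4 D32987) D32986 F52165
def n52467 : Q := act 3 n25463
theorem D52467 : act 3 n25463 = n52467 := rfl
theorem F82838 : act 4 n52467 = n26064 := d5_2 D25463 D52467 (iv3 D26064) (iv4 D12356) (iv3 F20027)
theorem F82839 : act 7 n52467 = n31686 := d8_2 (iv7 F40257) D52467 (iv3 D31686)
def n52468 : Q := act 6 n25464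
theorem D52468 : act 6 n25464 = n52468 := rfl
theorem F82840 : act 2 n52468 = n52027 := d3_1 D52468 (iv6 D52027) F40262
theorem F82841 : act 3 n52468 = n30844 := d7_1 D52468 (iv6 F49311) F45187
theorem F82842 : act 4 n52468 = n50536 := d10_1 D52468 (iv6 D50536) (iv4 F40261)
theorem F82843 : act 5 n52468 = n52139 := d12_1 D52468 (iv6 D52139) (iv5 F45714) F45715 (iv5 F40260)
def n52469 : Q := act 3 n25465
theorem D52469 : act 3 n25465 = n52469 := rfl
theorem F82844 : act 4 n52469 = n25467 := d5_2 D25465 D52469 (iv3 D25467) (iv4 D12106) (iv3 F20028)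
def n52470 : Q := act 5 n25465
theorem D52470 : act 5 n25465 = n52470 := rfl
theorem F82845 : act 0 n52470 = n34034 := d17_2 (iv1 F40264) D52470 (iv5 D34034) (iv4 D16486) (iv5 D7650) (iv0 F22450) D11655 F19588 D25043
theorem F82846 : act 1 n52470 = n51540 := d17_6 (iv1 F77447) (iv5 D24745) F19057 D12104 D25465 D52470 (iv5 D51540) F53383 (iv4 F77443)
def n52471 : Q := act 6 n25465
theorem D52471 : act 6 n25465 = n52471 := rfl
theorem F82847 : act 4 n52471 = n25466 := d10_1 D52471 (iv6 D25466) D25465
theorem F82848 : act 0 n51644 = n52471 := d20_1 (iv4 F81536) F82847 F40265 (iv1 F45884) (iv3 D24828) D24829 (iv1 F38854) F38634 (iv3 F38630) (iv1 F39424)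
def n52472 : Q := act 0 n25466
theorem D52472 : act 0 n25466 = n52472 := rfl
theorem F82849 : act 2 n52053 = n52472 := d15_3 (iv0 D52472) (iv0 F80443) (iv7 F82270)
def n52473 : Q := act 7 n25466
theorem D52473 : act 7 n25466 = n52473 := rfl
theorem F82850 : act 3 n52473 = n25471 := d8_1 D52473 (iv7 D25471) (iv3 F40265)
def n52474 : Q := act 0 n25467
theorem D52474 : act 0 n25467 = n52474 := rfl
def n52475 : Q := act 1 n25467
theorem D52475 : act 1 n25467 = n52475 := rfl
def n52476 : Q := act 2 n25467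
theorem D52476 : act 2 n25467 = n52476 := rfl
def n52477 : Q := act 6 n25467
theorem D52477 : act 6 n25467 = n52477 := rfl
theorem F82851 : act 3 n52477 = n25468 := d7_1 D52477 (iv6 D25468) D25467
def n52478 : Q := act 0 n25468
theorem D52478 : act 0 n25468 = n52478 := rfl
def n52479 : Q := act 1 n25468
theorem D52479 : act 1 n25468 = n52479 := rfl
def n52480 : Q := act 5 n25468
theorem D52480 : act 5 n25468 = n52480 := rfl
def n52481 : Q := act 7 n25468
theorem D52481 : act 7 n25468 = n52481 := rfl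
theorem F82852 : act 4 n52481 = n25471 := d11_1 D52481 (iv7 D25471) (iv4 F40266)
def n52482 : Q := act 4 n25470
theorem D52482 : act 4 n25470 = n52482 := rfl
theorem F82853 : act 2 n52482 = n51968 := d1_1 D52482 F82077 (iv2 F40269)
theorem F82854 : act 6 n52482 = n50185 := d10_2 F40267 D52482 F79532
theorem F82855 : act 7 n52482 = n52305 := d11_2 F45883 D52482 F82684
theorem F82856 : act 1 n48645 = n52482 := d15_1 (iv0 F80495) F82855 (iv2 F82683)
theorem F82857 : act 1 n52482 = n52307 := d15_1 F82856 (iv7 D52307) (iv2 F76511)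
def n52483 : Q := act 5 n25472
theorem D52483 : act 5 n25472 = n52483 := rfl
theorem F82858 : act 0 n52483 = n42354 := d21_7 F31796 (iv1 D9673) D9675 D20398 D43238 (iv6 F67753) D52483 (iv5 D42354) (iv6 D19986) (iv1 F31794)
theorem F82859 : act 0 n48688 = n52483 := d21_1 D48688 (iv5 D52483) F67753 (iv1 F67751) (iv6 D25570) D25569 (iv1 F76667) F76668 F65411 F65413
def n52484 : Q := act 3 n25473
theorem D52484 : act 3 n25473 = n52484 := rfl
theorem F82860 : act 2 n52484 = n35922 := d0_1 D52484 F56603 (iv2 F77006) F77008 F76608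
theorem F82861 : act 7 n52484 = n25545 := d8_2 (iv7 F76607) D52484 F76600
theorem F82862 : act 0 n31522 = n52484 := d20_4 F11542 D7223 D15250 (iv3 F49864) (iv3 D52484) (iv4 F82805) F82804 F51390 (iv3 D32356) (iv1 D15247)
theorem F82863 : act 1 n31521 = n52484 := d15_0 (iv0 F82862) (iv7 F54582) F54579
theorem F82864 : act 6 n35916 = n52484 := d14_5 F82861 (iv6 D25545) F27263 D17387 D35916
def n52485 : Q := act 5 n25473
theorem D52485 : act 5 n25473 = n52485 := rfl
def n52486 : Q := act 6 n25473
theorem D52486 : act 6 n25473 = n52486 := rfl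
theorem F82865 : act 3 n52486 = n35916 := d7_1 D52486 F82864 (iv3 D52484)
theorem F82866 : act 4 n52486 = n49217 := d10_1 D52486 F82806 F82805
theorem F82867 : act 7 n52486 = n35911 := d14_2 (iv7 F76607) D52486 (iv6 D35911) (iv7 F40385) (iv6 F76602)
theorem F82868 : act 0 n52486 = n29605 := d20_1 (iv4 F82866) (iv4 F47544) (iv3 D29608) (iv1 D14064) D14065 F23485 D14079 D29641 (iv3 F77938) (iv1 F77943)
theorem F82869 : act 0 n29570 = n52450 := d20_4 (iv4 D6687) D6685 D14060 (iv3 F47455) F82807 (iv4 F82866) F82868 (iv4 F47544) (iv3 D29608) (iv1 D14064)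
def n52487 : Q := act 5 n25474
theorem D52487 : act 5 n25474 = n52487 := rfl
theorem F82870 : act 2 n52487 = n25475 := d2_1 D52487 (iv5 D25475) D25474
def n52488 : Q := act 0 n25475
theorem D52488 : act 0 n25475 = n52488 := rfl
theorem F82871 : act 5 n52488 = n25490 := d21_8 D48720 (iv1 F76710) (iv5 F46142) D48711 F76664 F37665 D25475 D52488 F41342 (iv1 F37031)
theorem F82872 : act 3 n31935 = n52488 := d6_3 F82871 F40310 D31935
def n52489 : Q := act 1 n25475
theorem D52489 : act 1 n25475 = n52489 := rfl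
def n52490 : Q := act 4 n25475
theorem D52490 : act 4 n25475 = n52490 := rfl
def n52491 : Q := act 6 n25475
theorem D52491 : act 6 n25475 = n52491 := rfl
theorem F82873 : act 3 n52491 = n25476 := d7_1 D52491 (iv6 D25476) (iv3 F40271)
def n52492 : Q := act 0 n25476
theorem D52492 : act 0 n25476 = n52492 := rfl
def n52493 : Q := act 1 n25476
theorem D52493 : act 1 n25476 = n52493 := rfl
def n52494 : Q := act 7 n25476
theorem D52494 : act 7 n25476 = n52494 := rfl
def n52495 : Q := act 6 n25477
theorem D52495 : act 6 n25477 = n52495 := rfl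
theorem F82874 : act 2 n52495 = n26539 := d3_1 D52495 F42495 F41366
theorem F82875 : act 7 n52495 = n25586 := d14_2 F41369 D52495 (iv6 D25586) (iv7 F25568) (iv6 F41368)
theorem F82876 : act 0 n52495 = n26514 := d21_4 D25457 D52453 F82818 D52495 (iv6 D26514) (iv5 F42429) (iv1 F55407) (iv5 D34980) F50404 (iv1 D25455)
theorem F82877 : act 1 n52495 = n25754 := d15_1 (iv0 F82876) F40674 (iv2 F42439)
def n52496 : Q := act 5 n25479
theorem D52496 : act 5 n25479 = n52496 := rfl
theorem F82878 : act 2 n52496 = n25480 := d2_1 D52496 (iv5 D25480) D25479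
theorem F82879 : act 7 n52496 = n32016 := d13_2 (iv7 F40274) D52496 (iv5 D32016)
theorem F82880 : act 1 n52496 = n52449 := d17_6 F26894 F41442 (iv1 F41439) (iv5 D26142) (iv4 F40273) D52496 (iv5 D52449) (iv0 D25454) F20021
theorem F82881 : act 0 n52496 = n32025 := d21_1 D52496 F50400 (iv6 F50404) F27855 (iv6 D8148) D8147 (iv1 F40401) (iv5 D16037) (iv6 F41368) (iv1 F40275)
theorem E8248 : n52449 = n32024 := (c15_1 F82880 (iv0 D32024) (iv7 F40280) (iv2 F82878))
theorem F82882 : act 0 n32024 = n52496 := (sb E8248 (iv1 F82880))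
theorem F82883 : act 5 n32024 = n25454 := (sb E8248 (iv5 D52449))
def n52497 : Q := act 0 n25480
theorem D52497 : act 0 n25480 = n52497 := rfl
theorem F82884 : act 5 n52497 = n28384 := d21_2 D25480 D52497 F50629 F40448 F26654 D17391 (iv1 F40407) F40409 (iv6 F40416) (iv1 D25478)
theorem F82885 : act 1 n32016 = n52497 := d15_0 (iv0 D52497) F40280 (iv2 F50382)
theorem F82886 : act 2 n32025 = n52497 := d2_3 F82884 (iv2 F50625) (iv5 F50400)
theorem F82887 : act 7 n32024 = n52497 := d13_0 F82884 (iv7 F50628) (iv5 F82883)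
def n52498 : Q := act 1 n25480
theorem D52498 : act 1 n25480 = n52498 := rfl
theorem F82888 : act 1 n52498 = n32016 := d15_1 D52498 (iv7 F82879) F82878
theorem F82889 : act 7 n52498 = n32025 := d15_2 (iv0 D52497) D52498 F82886
theorem F82890 : act 5 n52498 = n28385 := d17_7 (iv1 F26920) F41446 (iv1 D26143) (iv5 D12402) (iv4 F20032) D25480 D52498 (iv0 F45892) F40246
theorem F82891 : act 2 n32024 = n52498 := d2_3 F82890 F50626 (iv5 F82883)
def n52499 : Q := act 4 n25480
theorem D52499 : act 4 n25480 = n52499 := rfl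
theorem F82892 : act 7 n52499 = n32026 := d11_2 (iv7 F40280) D52499 (iv4 D32026)
def n52500 : Q := act 6 n25480
theorem D52500 : act 6 n25480 = n52500 := rfl
theorem F82893 : act 3 n52500 = n25484 := d7_1 D52500 (iv6 D25484) (iv3 F40279)
def n52501 : Q := act 0 n25481
theorem D52501 : act 0 n25481 = n52501 := rfl
theorem F82894 : act 3 n52501 = n25491 := d20_5 (iv4 D25489) (iv1 D12114) (iv4 F20034) (iv3 F40282) D52501 (iv4 F65306) (iv1 D42285) (iv4 F31846) (iv3 F55164) F55167
theorem F82895 : act 2 n26184 = n52501 := d15_3 (iv0 D52501) (iv0 F50130) F50129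
theorem F82896 : act 1 n26188 = n52501 := d15_0 (iv0 D52501) (iv7 F40284) (iv2 F41565)
theorem F82897 : act 7 n52501 = n26185 := d15_2 (iv0 F50131) F82896 (iv2 F50126)
theorem F82898 : act 6 n33203 = n52501 := d14_5 F82897 F42848 (iv7 F40500) (iv6 F50254) (iv7 F52424)
def n52502 : Q := act 5 n25481
theorem D52502 : act 5 n25481 = n52502 := rfl
theorem F82899 : act 2 n52502 = n26187 := d2_1 D52502 (iv5 D26187) (iv2 F40281)
theorem F82900 : act 3 n52502 = n25486 := d6_1 D52502 (iv5 D25486) (iv3 F40282)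
theorem F82901 : act 7 n52502 = n26193 := d13_2 F40284 D52502 (iv5 D26193)
def n52503 : Q := act 3 n25482
theorem D52503 : act 3 n25482 = n52503 := rfl
theorem F82902 : act 5 n52503 = n28358 := d6_2 (iv5 F40285) D52503 (iv3 D28358)
theorem F82903 : act 7 n52503 = n49679 := d8_2 F40288 D52503 F78483
def n52504 : Q := act 6 n25482
theorem D52504 : act 6 n25482 = n52504 := rfl
theorem F82904 : act 2 n52504 = n52447 := d3_1 D52504 (iv6 D52447) F40287
def n52505 : Q := act 6 n25483
theorem D52505 : act 6 n25483 = n52505 := rfl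
theorem F82905 : act 2 n52505 = n49681 := d3_1 D52505 (iv6 D49681) F40292
theorem F82906 : act 5 n52505 = n52173 := d12_1 D52505 (iv6 D52173) F40035 (iv6 F22670) (iv5 F40291)
def n52506 : Q := act 0 n25484
theorem D52506 : act 0 n25484 = n52506 := rfl
def n52507 : Q := act 1 n25484
theorem D52507 : act 1 n25484 = n52507 := rfl
def n52508 : Q := act 5 n25484
theorem D52508 : act 5 n25484 = n52508 := rfl
theorem F82907 : act 6 n52508 = n25486 := d12_2 D25484 D52508 (iv5 D25486) (iv6 D12112) D12111
def n52509 : Q := act 7 n25484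
theorem D52509 : act 7 n25484 = n52509 := rfl
def n52510 : Q := act 5 n25485
theorem D52510 : act 5 n25485 = n52510 := rfl
theorem F82908 : act 2 n52510 = n49047 := d2_1 D52510 F77430 F40294
theorem F82909 : act 7 n52510 = n49044 := d13_2 (iv7 F40296) D52510 (iv5 D49044)
theorem F82910 : act 0 n52510 = n32364 := d17_2 D25485 D52510 (iv5 D32364) (iv4 D15251) (iv5 F18037) (iv0 F27905) F27903 (iv0 D12113) (iv4 F20034)
theorem F82911 : act 1 n52510 = n32362 := d17_6 D7889 D16909 F27710 (iv5 F27340) (iv4 F40293) D52510 (iv5 D32362) (iv0 F24849) F12490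
def n52511 : Q := act 4 n25486
theorem D52511 : act 4 n25486 = n52511 := rfl
theorem F82912 : act 0 n52511 = n34900 := d18_2 (iv1 F55153) D52511 (iv4 D34900) (iv5 D16922) F12505 D7918 D16960 F27818 (iv5 F55152)
def n52512 : Q := act 5 n25488
theorem D52512 : act 5 n25488 = n52512 := rfl
theorem F82913 : act 2 n52512 = n31891 := d2_1 D52512 (iv5 D31891) (iv2 F40303)
theorem F82914 : act 0 n52512 = n32357 := d17_2 F40305 D52512 (iv5 D32357) (iv4 F24845) (iv5 F21459) F26923 (iv5 F26388) (iv0 D13547) (iv4 F20053)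
theorem F82915 : act 1 n52512 = n32354 := d17_6 D7223 (iv5 F20043) F27906 F27903 D25488 D52512 (iv5 D32354) (iv0 D15246) F11542
def n52513 : Q := act 5 n25489
theorem D52513 : act 5 n25489 = n52513 := rfl
theorem F82916 : act 3 n52513 = n32009 := d6_1 D52513 (iv5 D32009) (iv3 F40306)
theorem F82917 : act 7 n52513 = n31891 := d13_2 (iv7 F40308) D52513 (iv5 D31891)
theorem F82918 : act 0 n52513 = n32354 := d17_2 F55167 D52513 (iv5 D32354) F24844 (iv5 F22712) (iv0 F27342) F27340 (iv0 F27710) D34879
theorem F82919 : act 1 n52513 = n32357 := d17_6 (iv1 F12529) (iv5 F18037) F18632 F20039 D25489 D52513 (iv5 D32357) F27749 F27747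
def n52514 : Q := act 5 n25491
theorem D52514 : act 5 n25491 = n52514 := rfl
def n52515 : Q := act 6 n25491
theorem D52515 : act 6 n25491 = n52515 := rfl
theorem F82920 : act 3 n52515 = n33203 := d7_1 D52515 F82898 F82894
theorem F82921 : act 7 n52515 = n25598 := d14_2 (iv7 F65412) D52515 (iv6 D25598) F37026 F65411
theorem F82922 : act 1 n25758 = n52515 := d15_1 (iv0 F76705) F82921 (iv2 F76703)
theorem F82923 : act 4 n52515 = n25606 := d20_6 (iv4 D12180) (iv1 F10546) (iv4 F22753) (iv3 F25582) (iv1 F52423) (iv3 F82920) (iv1 D25606) (iv4 F20189) F20188 F20179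
theorem F82924 : act 6 n25606 = n42285 := d10_2 D52515 F82923 F65306
theorem F82925 : act 3 n52495 = n25606 := d20_5 F8914 D5791 D12224 D25754 (iv1 F82877) (iv4 F82923) (iv1 F82922) F40684 (iv3 D25748) (iv1 D12222)
def n52516 : Q := act 0 n25492
theorem D52516 : act 0 n25492 = n52516 := rfl
def n52517 : Q := act 1 n25492
theorem D52517 : act 1 n25492 = n52517 := rfl
theorem F82926 : act 5 n48682 = n52517 := d21_6 (iv5 D19576) F14387 D9378 D19909 F40388 (iv6 F76602) (iv1 D52517) (iv5 D25492) F27049 (iv1 F31341)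
theorem F82927 : act 2 n52517 = n52483 := d2_1 F82926 (iv5 D52483) F76605
theorem F82928 : act 7 n52517 = n52485 := d13_2 F76607 F82926 (iv5 D52485)
theorem F82929 : act 2 n52485 = n52516 := d15_3 (iv0 D52516) D52517 F82928
theorem F82930 : act 7 n52483 = n52516 := d4_2 (iv7 F82928) F82927 (iv2 F82929)
theorem F82931 : act 1 n48688 = n52485 := d15_1 (iv0 F82859) (iv7 F82928) F82927
theorem F82932 : act 5 n52516 = n48681 := d13_1 F82930 F76606 D52483
theorem F82933 : act 1 n52485 = n42354 := d15_0 (iv0 F82858) F82930 (iv2 F82929)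
theorem F82934 : act 0 n52491 = n47577 := d21_4 (iv5 D52485) (iv1 D25473) D25475 D52491 (iv6 D47577) (iv5 D22872) (iv1 F35613) D19989 (iv6 F65422) (iv1 F82933)
def n52518 : Q := act 4 n25492
theorem D52518 : act 4 n25492 = n52518 := rfl
theorem F82935 : act 6 n52518 = n43370 := d10_2 (iv6 F40312) D52518 (iv4 D43370)
def n52519 : Q := act 0 n25493
theorem D52519 : act 0 n25493 = n52519 := rfl
def n52520 : Q := act 1 n25493
theorem D52520 : act 1 n25493 = n52520 := rfl
def n52521 : Q := act 7 n25493
theorem D52521 : act 7 n25493 = n52521 := rfl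
theorem F82936 : act 3 n52521 = n41295 := d8_1 D52521 F63615 (iv3 F40313)
theorem F82937 : act 5 n52521 = n41294 := d13_1 D52521 F63614 (iv5 F40314)
def n52522 : Q := act 3 n25495
theorem D52522 : act 3 n25495 = n52522 := rfl
theorem F82938 : act 2 n52522 = n32043 := d0_1 D52522 (iv3 F52295) F52294 F50223 (iv2 F40320)
theorem F82939 : act 4 n52522 = n26137 := d5_2 D25495 D52522 (iv3 D26137) (iv4 D12398) (iv3 F20049)
theorem F82940 : act 5 n52522 = n44058 := d6_2 (iv5 F40323) D52522 (iv3 D44058)
theorem F82941 : act 6 n52522 = n26395 := d7_2 (iv6 F40321) D52522 F42146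
theorem F82942 : act 7 n52522 = n29124 := d8_2 (iv7 F40322) D52522 F46785
theorem F82943 : act 0 n25514 = n52522 := d18_0 F82939 (iv1 F41416) (iv4 F31814) (iv5 D19984) (iv4 F31806) D42342 (iv4 F65381) (iv0 F74309) F74311
theorem F82944 : act 0 n35968 = n25513 := d21_7 F82940 F69379 F68901 (iv6 F55282) (iv1 F28376) D17413 D35968 (iv5 D25513) D25514 F82943
def n52523 : Q := act 6 n25496
theorem D52523 : act 6 n25496 = n52523 := rfl
theorem F82945 : act 2 n52523 = n52446 := d3_1 D52523 (iv6 D52446) F40326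
theorem F82946 : act 5 n52523 = n35998 := d12_1 D52523 (iv6 D35998) (iv5 D17426) (iv6 F22700) (iv5 F40325)
def n52524 : Q := act 0 n25497
theorem D52524 : act 0 n25497 = n52524 := rfl
def n52525 : Q := act 1 n25497
theorem D52525 : act 1 n25497 = n52525 := rfl
def n52526 : Q := act 5 n25497
theorem D52526 : act 5 n25497 = n52526 := rfl
theorem F82947 : act 6 n52526 = n25498 := d12_2 D25497 D52526 (iv5 D25498) (iv6 D12122) D12121
def n52527 : Q := act 7 n25497
theorem D52527 : act 7 n25497 = n52527 := rfl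
def n52528 : Q := act 4 n25498
theorem D52528 : act 4 n25498 = n52528 := rfl
theorem F82948 : act 0 n52528 = n34874 := d18_2 (iv1 F51388) D52528 (iv4 D34874) (iv5 D16906) F12490 D7890 D16911 (iv0 F27721) (iv5 F51387)
def n52529 : Q := act 2 n25500
theorem D52529 : act 2 n25500 = n52529 := rfl
theorem F82949 : act 6 n52529 = n25630 := d3_2 (iv6 F55130) D52529 (iv2 D25630)
theorem F82950 : act 7 n25501 = n52529 := d15_2 (iv0 D25500) D25501 (iv2 D52529)
def n52530 : Q := act 5 n25500
theorem D52530 : act 5 n25500 = n52530 := rfl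
theorem F82951 : act 4 n52530 = n30313 := d19_2 D25500 D52530 F48744 D30315 F48746 (iv4 F24571) F24569 (iv1 F11419) (iv5 F11488) F11484 (iv3 F10094) F10189 D3263 (iv4 F10398) (iv3 F18322) (iv1 F18326) F7750 F10219 D12123
def n52531 : Q := act 7 n25500
theorem D52531 : act 7 n25500 = n52531 := rfl
theorem F82952 : act 2 n52531 = n25501 := d4_1 D52531 F82950 (iv2 D52529)
def n52532 : Q := act 3 n25501
theorem D52532 : act 3 n25501 = n52532 := rfl
theorem F82953 : act 0 n25506 = n52532 := d20_4 (iv4 D31833) F40342 (iv4 D25507) D25506 (iv3 D52532) F68246 (iv1 D43409) F32614 F41568 F50131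
def n52533 : Q := act 5 n25501
theorem D52533 : act 5 n25501 = n52533 := rfl
def n52534 : Q := act 6 n25501
theorem D52534 : act 6 n25501 = n52534 := rfl
theorem F82954 : act 7 n52534 = n25639 := d14_2 (iv7 F82950) D52534 (iv6 D25639) F40534 (iv6 F82949)
def n52535 : Q := act 0 n25502
theorem D52535 : act 0 n25502 = n52535 := rfl
def n52536 : Q := act 1 n25502
theorem D52536 : act 1 n25502 = n52536 := rfl
theorem F82955 : act 5 n52536 = n49039 := d17_7 F76604 F82926 (iv1 D52517) (iv5 D25492) (iv4 F20054) D25502 D52536 F77480 F77476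
theorem F82956 : act 5 n44072 = n49205 := d21_8 (iv5 F82955) (iv1 D52536) (iv5 D25502) (iv6 F27048) F15217 D9948 D20935 D44072 F77698 (iv1 F77480)
theorem F82957 : act 6 n34852 = n49039 := d21_5 (iv5 D4540) D4538 (iv5 F14663) D20022 F55118 (iv5 F82955) (iv1 D52536) (iv5 D25502) (iv6 F27048) F15217
theorem F82958 : act 4 n49039 = n34854 := d10_1 F82957 (iv6 D34854) D34852
theorem F82959 : act 3 n34854 = n49087 := d20_3 (iv4 F77476) (iv1 F77480) F82958 (iv1 F77474) F77410 F45855 (iv1 F37171) D48884 F77008 (iv1 F76599)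
theorem F82960 : act 0 n32356 = n34854 := d20_10 (iv4 F82958) (iv1 D49039) F37338 (iv3 D23735) (iv1 F22673) (iv3 F27701) F27702 (iv1 F21458) F24845 D32356
theorem F82961 : act 6 n49087 = n34851 := d7_2 D34854 F82959 (iv3 D34851)
theorem F82962 : act 4 n49116 = n49087 := d10_3 F82961 F55114 D49116
theorem F82963 : act 0 n49116 = n34876 := d20_1 (iv4 F82962) (iv4 F55325) (iv3 D34954) F27808 F27701 (iv4 D13527) (iv1 F10475) D11221 D23948 D49087
theorem F82964 : act 2 n49206 = n44072 := d2_3 F82956 (iv2 D49205) D49206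
theorem E8249 : n49299 = n44073 := ((c15_2 (iv0 D44072) D44073 F77929 F82964)).symm
theorem F82965 : act 3 n44073 = n24062 := (sb E8249 F77928)
theorem F82966 : act 5 n44073 = n24061 := (sb E8249 (iv5 D49299))
theorem F82967 : act 7 n44073 = n49206 := (sb E8249 F77929)
theorem E8250 : n49300 = n42206 := ((c21_5 (iv5 D9738) (iv1 F6335) D9398 D19926 D42206 (iv6 D49300) (iv5 F82966) (iv1 D44073) (iv5 D20935) (iv6 D9948) (iv1 F15211))).symm
theorem F82968 : act 3 n42206 = n24063 := (sb E8250 F77930)
theorem F82969 : act 4 n42206 = n49220 := (sb E8250 F77931)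
theorem F82970 : act 6 n42206 = n24061 := (sb E8250 (iv6 D49300))
theorem F82971 : act 7 n42206 = n49041 := (sb E8250 F77932)
theorem F82972 : act 2 n49041 = n42207 := d15_3 F65150 F65156 F82971
theorem F82973 : act 6 n42207 = n49040 := d3_2 D49041 F82972 (iv2 D49040)
theorem E8251 : n43431 = n34878 := ((c20_9 (iv4 F31753) D42206 F82969 F77735 (iv1 F40254) D52465 F82831 (iv1 F46279) (iv4 F55159) (iv3 D43431) (iv1 D20534))).symm
theorem F82974 : act 3 n34878 = n20534 := (sb E8251 (iv3 D43431))
theorem E8252 : n49041 = n20026 := (c20_4 F40256 F25250 (iv4 F37340) (iv3 F77412) (iv1 D20026) (iv3 F15229) (iv4 F31753) D42206 F82969 F77735 (iv1 F40254))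
theorem E8253 : n42412 = n42207 := (((iv2 F65501)).symm.trans (sb E8252 F82972))
theorem E8254 : n42413 = n23924 := ((D42413).symm.trans (sb E8252 F77412))
theorem E8255 : n46829 = n42414 := (((D42414).symm.trans (sb E8252 (iv4 F77713)))).symm
theorem E8256 : n42416 = n23923 := ((D42416).symm.trans (sb E8252 (iv6 D49041)))
theorem E8257 : n42407 = n42206 := ((F65500).symm.trans (sb E8252 (iv7 F82971)))
theorem F82975 : act 2 n42207 = n20026 := (sb E8253 F65501)
theorem F82976 : act 7 n42207 = n20025 := (sb E8253 (iv7 D42412))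
theorem F82977 : act 3 n23924 = n20026 := (sb E8254 (iv3 D42413))
theorem F82978 : act 0 n42414 = n22485 := (sb E8255 (iv1 D46829))
theorem F82979 : act 3 n42414 = n23737 := (sb E8255 F77712)
theorem F82980 : act 6 n42414 = n23735 := (sb E8255 F77714)
theorem F82981 : act 7 n42414 = n49220 := (sb E8255 (iv7 F77736))
theorem F82982 : act 6 n23923 = n20026 := (sb E8256 (iv6 D42416))
theorem F82983 : act 2 n42206 = n20025 := (sb E8257 (iv2 D42407))
theorem F82984 : act 7 n42206 = n20026 := (sb E8257 (iv7 F65500))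
theorem E8258 : n46828 = n42409 := ((c1_3 (iv4 F82969) F82983 D42409 (iv2 F77737))).symm
theorem F82985 : act 1 n42409 = n22485 := (sb E8258 (iv0 D46828))
theorem F82986 : act 2 n42409 = n49220 := (sb E8258 (iv2 F77737))
theorem F82987 : act 6 n42409 = n49218 := (sb E8258 F77738)
theorem E8259 : n49298 = n42411 := (c10_2 F82987 (iv4 F77923) (iv6 D42411) D42409)
theorem F82988 : act 0 n42411 = n49204 := (sb E8259 (iv1 F77927))
theorem F82989 : act 1 n42411 = n49203 := (sb E8259 F77925)
theorem F82990 : act 2 n42411 = n24061 := (sb E8259 (iv2 D49298))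
theorem F82991 : act 3 n42411 = n34908 := (sb E8259 F77922)
theorem F82992 : act 4 n42411 = n49218 := (sb E8259 F77923)
theorem F82993 : act 7 n42411 = n49205 := (sb E8259 F77924)
theorem F82994 : act 6 n34908 = n42408 := d7_2 D42411 F82991 (iv3 D42408)
theorem F82995 : act 2 n42408 = n49210 := d3_1 F82994 (iv6 D49210) (iv2 F55250)
theorem F82996 : act 4 n42408 = n35016 := d10_1 F82994 (iv6 D35016) F55249
theorem F82997 : act 1 n42408 = n34920 := d15_0 (iv0 F55285) (iv7 F77710) (iv2 F82995)
theorem F82998 : act 3 n29609 = n42403 := d20_9 (iv4 F65155) (iv1 F65157) D42414 F82979 F36958 (iv3 F40434) F40435 F27698 (iv4 F47547) (iv1 F65497)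
theorem F82999 : act 6 n42403 = n29608 := d7_2 D29609 F82998 (iv3 D29608)
theorem E8260 : n43425 = n42403 := ((c8_2 F55160 F82998 (iv7 F68288) (iv3 F82974))).symm
theorem F83000 : act 2 n42403 = n20533 := (sb E8260 (iv2 D43425))
theorem F83001 : act 7 n42403 = n20534 := (sb E8260 (iv7 F68288))
theorem F83002 : act 3 n43432 = n25760 := d20_9 F40435 F27698 (iv4 F47547) F82998 (iv1 F65497) F32639 (iv4 F65495) (iv1 F65498) D43432 F40687
theorem F83003 : act 6 n34954 = n43432 := d7_0 F83002 F40686 D34954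
theorem E8261 : n43434 = n34876 := (c10_3 F83003 (iv4 D43432) D43434 (iv4 F55325))
theorem F83004 : act 6 n34876 = n20534 := (sb E8261 (iv6 D43434))
theorem E8262 : n43430 = n42404 := (c15_4 F65491 F65497 F83001 (iv2 F68289))
theorem F83005 : act 2 n42404 = n20534 := (sb E8262 F68289)
theorem F83006 : act 7 n42404 = n20533 := (sb E8262 (iv7 D43430))
theorem E8263 : n49686 = n43429 := ((c3_3 (iv6 F82999) F83000 D43429 F78503)).symm
theorem F83007 : act 2 n43429 = n29608 := (sb E8263 F78503)
theorem F83008 : act 3 n43429 = n24231 := (sb E8263 (iv3 D49686))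
theorem E8264 : n49688 = n43426 := (c7_3 D43429 F83008 D49688 (iv3 D43426))
theorem F83009 : act 6 n43426 = n24231 := (sb E8264 (iv6 D49688))
theorem F83010 : act 5 n29608 = n43889 := d21_6 (iv5 D9435) (iv1 F6320) (iv5 F14669) D20024 D42403 F82999 (iv1 D43889) (iv5 D20790) (iv6 D9878) (iv1 F14660)
theorem F83011 : act 3 n43889 = n29126 := d6_1 F83010 F46793 D29608
theorem F83012 : act 3 n42415 = n49042 := d6_3 (iv5 D49042) F82977 D42415
theorem F83013 : act 3 n43433 = n25752 := d6_3 (iv5 F55161) F82974 D43433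
def n52537 : Q := act 4 n25502
theorem D52537 : act 4 n25502 = n52537 := rfl
theorem F83014 : act 6 n52537 = n43421 := d10_2 (iv6 F40333) D52537 (iv4 D43421)
def n52538 : Q := act 0 n25503
theorem D52538 : act 0 n25503 = n52538 := rfl
def n52539 : Q := act 1 n25503
theorem D52539 : act 1 n25503 = n52539 := rfl
def n52540 : Q := act 7 n25503
theorem D52540 : act 7 n25503 = n52540 := rfl
theorem F83015 : act 3 n52540 = n43422 := d8_1 D52540 (iv7 D43422) (iv3 F40334)
theorem F83016 : act 5 n52540 = n43418 := d13_1 D52540 (iv7 D43418) (iv5 F40335)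
def n52541 : Q := act 5 n25504
theorem D52541 : act 5 n25504 = n52541 := rfl
theorem F83017 : act 2 n52541 = n25522 := d2_1 D52541 F40352 F40336
theorem F83018 : act 7 n52541 = n25517 := d13_2 (iv7 F40338) D52541 (iv5 D25517)
theorem F83019 : act 1 n25519 = n52541 := d15_1 D25519 F83018 F40348
theorem F83020 : act 1 n52541 = n25518 := d15_0 (iv0 D25518) D25522 (iv2 F83017)
theorem F83021 : act 5 n25518 = n52443 := d17_7 D26049 F41539 (iv1 F41538) (iv5 D26178) (iv4 F40337) D52541 F83020 (iv0 D52443) F40237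
def n52542 : Q := act 3 n25505
theorem D52542 : act 3 n25505 = n52542 := rfl
theorem F83022 : act 2 n52542 = n25509 := d0_1 D52542 (iv3 F77495) F77494 (iv3 D25506) D25505
theorem F83023 : act 4 n52542 = n28407 := d5_2 (iv4 F54328) D52542 F50771 (iv4 D13556) D13555
theorem F83024 : act 7 n52542 = n25511 := d8_2 F40341 D52542 (iv3 D25511)
theorem F83025 : act 0 n52542 = n26138 := d20_4 (iv4 F50395) (iv1 D28404) (iv4 F54328) D52542 F41418 (iv4 D15014) F20044 (iv4 F40300) F40299 (iv1 F41564)
theorem F83026 : act 0 n26140 = n52542 := d20_4 (iv4 D28426) D28424 F45964 F41495 (iv3 D52542) F54328 F41376 (iv4 F41561) (iv3 F41562) F45968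
theorem F83027 : act 6 n25505 = n52542 := d10_0 F83023 (iv6 D28407) (iv4 F54328)
def n52543 : Q := act 5 n25505
theorem D52543 : act 5 n25505 = n52543 := rfl
theorem F83028 : act 2 n52543 = n25508 := d2_1 D52543 (iv5 D25508) D25505
theorem F83029 : act 7 n52543 = n25513 := d13_2 F40341 D52543 (iv5 D25513)
theorem F83030 : act 0 n52543 = n52445 := d17_2 (iv1 F54327) D52543 (iv5 D52445) F40237 (iv5 F24705) (iv0 F41452) (iv5 D26146) F26925 (iv4 F20056)
def n52544 : Q := act 1 n25506
theorem D52544 : act 1 n25506 = n52544 := rfl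
theorem F83031 : act 3 n43408 = n52544 := d20_9 (iv4 F77492) (iv1 F77491) F37405 F37404 (iv1 F18232) D12116 (iv4 F20054) D25500 (iv4 F68242) (iv1 D52544)
theorem F83032 : act 6 n52544 = n25664 := d7_2 F68243 F83031 (iv3 F40571)
def n52545 : Q := act 5 n25506
theorem D52545 : act 5 n25506 = n52545 := rfl
theorem F83033 : act 3 n52545 = n25508 := d6_1 D52545 (iv5 D25508) D25506
def n52546 : Q := act 0 n25507
theorem D52546 : act 0 n25507 = n52546 := rfl
theorem F83034 : act 4 n52546 = n52501 := d20_2 D25507 D52546 F82894 (iv1 D25491) (iv3 D12116) (iv4 D5747) (iv1 D2407) D2408 D5751 D12126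
theorem F83035 : act 3 n52546 = n31826 := d20_5 D15066 (iv1 F50247) (iv4 F77039) F77035 D52546 F50119 (iv1 F40272) (iv4 D15105) (iv3 F20669) (iv1 F20673)
theorem F83036 : act 2 n26123 = n52546 := d15_3 (iv0 D52546) (iv0 F40342) (iv7 F41375)
theorem F83037 : act 7 n52546 = n28404 := d4_2 (iv7 F41375) F83036 F50394
theorem F83038 : act 1 n25512 = n52546 := d15_1 (iv0 F45975) F83037 F50394
def n52547 : Q := act 5 n25507
theorem D52547 : act 5 n25507 = n52547 := rfl
theorem F83039 : act 2 n52547 = n28406 := d2_1 D52547 (iv5 D28406) (iv2 F54329)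
theorem F83040 : act 3 n52547 = n34974 := d6_1 D52547 (iv5 F77037) F77035
def n52548 : Q := act 7 n25507
theorem D52548 : act 7 n25507 = n52548 := rfl
theorem F83041 : act 2 n52548 = n25512 := d4_1 D52548 F54311 (iv2 F54329)
theorem F83042 : act 3 n52548 = n28425 := d8_1 D52548 (iv7 F77036) F77035
theorem F83043 : act 4 n52548 = n25510 := d11_1 D52548 (iv7 D25510) D25507
theorem F83044 : act 1 n28404 = n52548 := d15_1 D28404 (iv7 D52548) F54329
theorem F83045 : act 1 n52548 = n26123 := d15_1 F83044 F41375 (iv2 F50394)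
def n52549 : Q := act 4 n25508
theorem D52549 : act 4 n25508 = n52549 := rfl
def n52550 : Q := act 6 n25508
theorem D52550 : act 6 n25508 = n52550 := rfl
def n52551 : Q := act 7 n25508
theorem D52551 : act 7 n25508 = n52551 := rfl
theorem F83046 : act 2 n52551 = n25513 := d4_1 D52551 (iv7 F83029) F83028
theorem F83047 : act 5 n52551 = n25510 := d13_1 D52551 (iv7 D25510) D25508
theorem F83048 : act 1 n52551 = n52445 := d15_0 (iv0 F83030) F83029 (iv2 F83046)
def n52552 : Q := act 5 n25509
theorem D52552 : act 5 n25509 = n52552 := rfl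
def n52553 : Q := act 6 n25510
theorem D52553 : act 6 n25510 = n52553 := rfl
theorem F83049 : act 2 n52553 = n25514 := d3_1 D52553 (iv6 D25514) (iv2 F40343)
theorem F83050 : act 3 n52553 = n43311 := d7_1 D52553 F77508 F77504
theorem F83051 : act 5 n41069 = n52553 := d21_2 D32620 (iv1 F62303) (iv6 D52553) F54330 F20057 D12206 D25691 F40610 D32341 F54159
theorem F83052 : act 1 n52553 = n29124 := d17_8 (iv1 F41578) (iv5 F51676) (iv1 F51678) (iv5 F50671) (iv4 F55277) (iv5 F65439) F65441 F83051 F46786
theorem F83053 : act 0 n52553 = n32043 := d18_0 (iv4 D32043) (iv1 D15117) (iv4 F24726) (iv5 F31815) (iv4 F65388) F65390 (iv4 F65438) F65441 F83051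
theorem E8265 : n46049 = n45989 := (c17_3 (iv1 D22378) (iv5 F34498) D46049 (iv5 D45989) (iv4 F68961) F68960 (iv0 F83053) (iv5 F83051) F62303 F51670)
theorem F83054 : act 1 n45989 = n22000 := (sb E8265 (iv0 D46049))
def n52554 : Q := act 5 n25511
theorem D52554 : act 5 n25511 = n52554 := rfl
theorem F83055 : act 3 n52554 = n25513 := d6_1 D52554 (iv5 D25513) D25511
def n52555 : Q := act 6 n25511
theorem D52555 : act 6 n25511 = n52555 := rfl
theorem F83056 : act 3 n52555 = n25514 := d7_1 D52555 (iv6 D25514) D25511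
theorem F83057 : act 7 n52555 = n25514 := d14_2 F83024 D52555 (iv6 D25514) F40341 F83027
theorem F83058 : act 5 n41066 = n52555 := d21_2 (iv5 F65439) (iv1 F65440) (iv6 D52555) F77057 F26972 D16006 D33179 F52404 F55282 (iv1 F55280)
theorem F83059 : act 1 n52555 = n32043 := d17_6 (iv1 D41675) F31389 (iv1 F58367) F58369 D41066 F83058 (iv5 F68960) F69247 F69245
theorem F83060 : act 0 n52555 = n29124 := d18_0 F46786 (iv1 F41578) F41575 (iv5 D20499) (iv4 F17194) D22378 (iv4 F51670) F68209 F83058
def n52556 : Q := act 5 n25512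
theorem D52556 : act 5 n25512 = n52556 := rfl
theorem F83061 : act 3 n52556 = n28418 := d6_1 D52556 F45961 (iv3 F54310)
theorem F83062 : act 7 n52556 = n28406 := d13_2 (iv7 F54311) D52556 (iv5 D28406)
def n52557 : Q := act 6 n25512
theorem D52557 : act 6 n25512 = n52557 := rfl
theorem F83063 : act 3 n52557 = n28423 := d7_1 D52557 (iv6 D28423) (iv3 F54310)
theorem F83064 : act 4 n52557 = n25514 := d10_1 D52557 (iv6 D25514) D25512
theorem F83065 : act 0 n52557 = n29219 := d20_4 (iv4 F28409) D35993 (iv4 F56716) (iv3 F83063) F46872 (iv4 F46880) (iv1 F54353) F51057 F24768 F53998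
def n52558 : Q := act 4 n25513
theorem D52558 : act 4 n25513 = n52558 := rfl
def n52559 : Q := act 6 n25513
theorem D52559 : act 6 n25513 = n52559 := rfl
def n52560 : Q := act 1 n25514
theorem D52560 : act 1 n25514 = n52560 := rfl
theorem F83066 : act 7 n52560 = n32043 := d15_2 (iv0 F82943) D52560 (iv2 F82938)
theorem F83067 : act 5 n52560 = n44047 := d17_7 (iv1 D40369) (iv5 F35261) (iv1 F74317) (iv5 D47065) D47064 F74311 D52560 (iv0 F69354) F68902
theorem F83068 : act 4 n52560 = n26197 := d17_9 (iv1 D26197) D26198 F46707 (iv5 D26288) (iv4 F27786) D34938 (iv0 F74309) F74311 D52560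
theorem F83069 : act 2 n29124 = n52560 := d1_3 F83068 (iv2 F41586) (iv4 F46786)
theorem F83070 : act 3 n43403 = n52560 := d5_5 F83068 F54015 (iv4 F54184) F54183 (iv4 F68232)
theorem F83071 : act 6 n25676 = n52560 := d10_0 F83068 F41587 (iv4 F54280)
def n52561 : Q := act 0 n25517
theorem D52561 : act 0 n25517 = n52561 := rfl
theorem F83072 : act 1 n25522 = n52561 := d15_0 (iv0 D52561) (iv7 F83018) F83017
theorem F83073 : act 5 n52561 = n31515 := d17_7 (iv1 F26735) F41591 (iv1 F41590) F20699 (iv4 F20060) (iv5 F40352) F83072 F49854 F28383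
theorem F83074 : act 2 n25518 = n52561 := d2_3 F83073 (iv2 F82787) (iv5 F83021)
theorem F83075 : act 7 n25519 = n52561 := d13_0 F83073 (iv7 F82789) F82795
def n52562 : Q := act 1 n25517
theorem D52562 : act 1 n25517 = n52562 := rfl
theorem F83076 : act 1 n52562 = n25522 := d15_1 D52562 (iv7 D25522) (iv2 F40348)
theorem F83077 : act 7 n52562 = n25518 := d15_2 (iv0 D52561) D52562 F83074
theorem F83078 : act 5 n52562 = n31514 := d17_7 D14848 F41597 (iv1 D26200) (iv5 D12429) (iv4 F20056) D25517 D52562 (iv0 D31514) F24510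
theorem F83079 : act 2 n25519 = n52562 := d2_3 F83078 (iv2 F82791) F82795
def n52563 : Q := act 4 n25517
theorem D52563 : act 4 n25517 = n52563 := rfl
theorem F83080 : act 2 n52563 = n25520 := d1_1 D52563 (iv4 D25520) (iv2 F40348)
def n52564 : Q := act 6 n25517
theorem D52564 : act 6 n25517 = n52564 := rfl
theorem F83081 : act 2 n52564 = n25521 := d3_1 D52564 (iv6 D25521) (iv2 F40348)
theorem F83082 : act 5 n52564 = n25694 := d12_1 D52564 (iv6 D25694) (iv5 D12206) (iv6 F20057) D25517
def n52565 : Q := act 3 n25518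
theorem D52565 : act 3 n25518 = n52565 := rfl
def n52566 : Q := act 4 n25518
theorem D52566 : act 4 n25518 = n52566 := rfl
def n52567 : Q := act 6 n25518
theorem D52567 : act 6 n25518 = n52567 := rfl
def n52568 : Q := act 3 n25519
theorem D52568 : act 3 n25519 = n52568 := rfl
theorem F83083 : act 5 n52568 = n32347 := d6_2 F82795 D52568 F82793
theorem F83084 : act 1 n32009 = n52568 := d17_6 (iv1 D13545) (iv5 F11533) (iv1 F26973) (iv5 D15098) D15097 D32009 F83083 F51370 (iv4 D28391)
theorem F83085 : act 0 n32013 = n52568 := d21_1 D32013 F83083 (iv6 F82794) (iv1 D29015) (iv6 F24511) D31517 (iv1 F82799) (iv5 D25508) D25509 F56679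
def n52569 : Q := act 4 n25519
theorem D52569 : act 4 n25519 = n52569 := rfl
def n52570 : Q := act 6 n25519
theorem D52570 : act 6 n25519 = n52570 := rfl
def n52571 : Q := act 0 n25520
theorem D52571 : act 0 n25520 = n52571 := rfl
def n52572 : Q := act 1 n25520
theorem D52572 : act 1 n25520 = n52572 := rfl
def n52573 : Q := act 3 n25520
theorem D52573 : act 3 n25520 = n52573 := rfl
theorem F83086 : act 4 n52573 = n25528 := d5_2 D25520 D52573 (iv3 D25528) (iv4 D12133) (iv3 F20058)
def n52574 : Q := act 5 n25520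
theorem D52574 : act 5 n25520 = n52574 := rfl
def n52575 : Q := act 6 n25520
theorem D52575 : act 6 n25520 = n52575 := rfl
theorem F83087 : act 4 n52575 = n25521 := d10_1 D52575 (iv6 D25521) D25520
def n52576 : Q := act 7 n25520
theorem D52576 : act 7 n25520 = n52576 := rfl
theorem F83088 : act 4 n52576 = n25522 := d11_1 D52576 (iv7 D25522) D25520
def n52577 : Q := act 0 n25521
theorem D52577 : act 0 n25521 = n52577 := rfl
def n52578 : Q := act 1 n25521
theorem D52578 : act 1 n25521 = n52578 := rfl
def n52579 : Q := act 7 n25521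
theorem D52579 : act 7 n25521 = n52579 := rfl
theorem F83089 : act 3 n52579 = n25532 := d8_1 D52579 (iv7 D25532) (iv3 F40349)
theorem F83090 : act 5 n52579 = n25711 := d13_1 D52579 (iv7 D25711) (iv5 F40350)
def n52580 : Q := act 6 n25522
theorem D52580 : act 6 n25522 = n52580 := rfl
theorem F83091 : act 3 n52580 = n25533 := d7_1 D52580 (iv6 D25533) (iv3 F40351)
def n52581 : Q := act 1 n25523
theorem D52581 : act 1 n25523 = n52581 := rfl
theorem F83092 : act 1 n52581 = n25659 := d15_1 D52581 F40559 (iv2 F40353)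
theorem F83093 : act 7 n52581 = n25682 := d15_2 F77236 D52581 (iv2 F77233)
theorem F83094 : act 4 n28661 = n52581 := d20_0 (iv1 D52581) F40355 F20700 (iv1 F9179) (iv3 F26572) (iv4 F21085) F42432 (iv4 F51827) F52472 F52473
theorem F83095 : act 2 n52581 = n25713 := d1_1 F83094 (iv4 F77243) F77241
theorem F83096 : act 3 n52581 = n25690 := d20_3 D33238 F52473 F83094 (iv1 F50923) (iv3 D15882) (iv4 D7452) F12610 (iv4 F10538) (iv3 F11747) D16046
def n52582 : Q := act 5 n25523
theorem D52582 : act 5 n25523 = n52582 := rfl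
theorem F83097 : act 2 n52582 = n33285 := d2_1 D52582 (iv5 D33285) (iv2 F40353)
theorem F83098 : act 3 n52582 = n25534 := d6_1 D52582 (iv5 D25534) (iv3 F40354)
theorem F83099 : act 7 n52582 = n25715 := d13_2 (iv7 F40356) D52582 (iv5 D25715)
def n52583 : Q := act 2 n25524
theorem D52583 : act 2 n25524 = n52583 := rfl
theorem F83100 : act 5 n52583 = n28360 := d2_2 (iv5 F40357) D52583 (iv2 D28360)
def n52584 : Q := act 4 n25524
theorem D52584 : act 4 n25524 = n52584 := rfl
def n52585 : Q := act 6 n25524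
theorem D52585 : act 6 n25524 = n52585 := rfl
theorem F83101 : act 3 n52585 = n25525 := d7_1 D52585 (iv6 D25525) D25524
def n52586 : Q := act 0 n25525
theorem D52586 : act 0 n25525 = n52586 := rfl
def n52587 : Q := act 1 n25525
theorem D52587 : act 1 n25525 = n52587 := rfl
def n52588 : Q := act 5 n25525
theorem D52588 : act 5 n25525 = n52588 := rfl
theorem F83102 : act 6 n52588 = n28362 := d12_2 D25525 D52588 (iv5 D28362) (iv6 D13530) (iv5 F20061)
def n52589 : Q := act 7 n25525
theorem D52589 : act 7 n25525 = n52589 := rfl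
def n52590 : Q := act 0 n25526
theorem D52590 : act 0 n25526 = n52590 := rfl
def n52591 : Q := act 1 n25526
theorem D52591 : act 1 n25526 = n52591 := rfl
def n52592 : Q := act 2 n25526
theorem D52592 : act 2 n25526 = n52592 := rfl
theorem F83103 : act 5 n52592 = n49089 := d2_2 (iv5 F40358) D52592 (iv2 D49089)
def n52593 : Q := act 4 n25526
theorem D52593 : act 4 n25526 = n52593 := rfl
def n52594 : Q := act 6 n25526
theorem D52594 : act 6 n25526 = n52594 := rfl
theorem F83104 : act 3 n52594 = n25527 := d7_1 D52594 (iv6 D25527) D25526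
def n52595 : Q := act 0 n25527
theorem D52595 : act 0 n25527 = n52595 := rfl
def n52596 : Q := act 1 n25527
theorem D52596 : act 1 n25527 = n52596 := rfl
def n52597 : Q := act 7 n25527
theorem D52597 : act 7 n25527 = n52597 := rfl
def n52598 : Q := act 0 n25528
theorem D52598 : act 0 n25528 = n52598 := rfl
def n52599 : Q := act 1 n25528
theorem D52599 : act 1 n25528 = n52599 := rfl
def n52600 : Q := act 2 n25528
theorem D52600 : act 2 n25528 = n52600 := rfl
def n52601 : Q := act 6 n25528
theorem D52601 : act 6 n25528 = n52601 := rfl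
theorem F83105 : act 3 n52601 = n25529 := d7_1 D52601 (iv6 D25529) D25528
def n52602 : Q := act 0 n25529
theorem D52602 : act 0 n25529 = n52602 := rfl
def n52603 : Q := act 1 n25529
theorem D52603 : act 1 n25529 = n52603 := rfl
def n52604 : Q := act 5 n25529
theorem D52604 : act 5 n25529 = n52604 := rfl
def n52605 : Q := act 7 n25529
theorem D52605 : act 7 n25529 = n52605 := rfl
theorem F83106 : act 4 n52605 = n25532 := d11_1 D52605 (iv7 D25532) (iv4 F40359)
def n52606 : Q := act 2 n25530
theorem D52606 : act 2 n25530 = n52606 := rfl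
theorem F83107 : act 7 n25531 = n52606 := d15_2 (iv0 D25530) D25531 (iv2 D52606)
def n52607 : Q := act 3 n25530
theorem D52607 : act 3 n25530 = n52607 := rfl
def n52608 : Q := act 4 n25530
theorem D52608 : act 4 n25530 = n52608 := rfl
def n52609 : Q := act 5 n25530
theorem D52609 : act 5 n25530 = n52609 := rfl
def n52610 : Q := act 6 n25530
theorem D52610 : act 6 n25530 = n52610 := rfl
def n52611 : Q := act 7 n25530
theorem D52611 : act 7 n25530 = n52611 := rfl
theorem F83108 : act 2 n52611 = n25531 := d4_1 D52611 F83107 (iv2 D52606)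
def n52612 : Q := act 3 n25531
theorem D52612 : act 3 n25531 = n52612 := rfl
def n52613 : Q := act 4 n25531
theorem D52613 : act 4 n25531 = n52613 := rfl
def n52614 : Q := act 5 n25531
theorem D52614 : act 5 n25531 = n52614 := rfl
theorem F83109 : act 6 n52614 = n34895 := d21_3 (iv5 F76650) (iv1 F76652) D52614 (iv1 F55218) F51378 (iv5 F80539) (iv1 F80541) (iv5 F78524) (iv6 D25737) (iv1 F37060)
def n52615 : Q := act 6 n25531
theorem D52615 : act 6 n25531 = n52615 := rfl
def n52616 : Q := act 6 n25532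
theorem D52616 : act 6 n25532 = n52616 := rfl
theorem F83110 : act 7 n52616 = n25533 := d14_2 D25532 D52616 (iv6 D25533) (iv7 D12135) D12134
def n52617 : Q := act 0 n25533
theorem D52617 : act 0 n25533 = n52617 := rfl
def n52618 : Q := act 1 n25533
theorem D52618 : act 1 n25533 = n52618 := rfl
def n52619 : Q := act 5 n25533
theorem D52619 : act 5 n25533 = n52619 := rfl
theorem F83111 : act 6 n52619 = n25534 := d12_2 D25533 D52619 (iv5 D25534) (iv6 D12136) (iv5 F20064)
def n52620 : Q := act 4 n25534
theorem D52620 : act 4 n25534 = n52620 := rfl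
theorem F83112 : act 7 n52620 = n25753 := d11_2 (iv7 F40361) D52620 (iv4 D25753)
theorem F83113 : act 5 n52620 = n34817 := d16_1 D52620 (iv4 D34817) (iv5 D16870) F12409 F5591 (iv4 F12409) D16870 D34818 F55034
def n52621 : Q := act 4 n25535
theorem D52621 : act 4 n25535 = n52621 := rfl
theorem F83114 : act 2 n52621 = n32340 := d1_1 D52621 F51356 (iv2 F42935)
theorem F83115 : act 3 n52621 = n26848 := d5_1 D52621 F43254 (iv3 D15309) D15310 (iv3 F40362)
theorem F83116 : act 6 n52621 = n32340 := d10_2 (iv6 F50912) D52621 F51356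
theorem F83117 : act 7 n52621 = n34881 := d11_2 (iv7 F42930) D52621 (iv4 D34881)
theorem F83118 : act 0 n49115 = n52621 := d20_10 (iv4 D52621) (iv1 F40363) F27723 F27722 (iv1 F20158) (iv3 F32406) (iv4 F32636) F55115 F55114 D49115
def n52622 : Q := act 6 n25536
theorem D52622 : act 6 n25536 = n52622 := rfl
theorem F83119 : act 2 n52622 = n34882 := d3_1 D52622 (iv6 D34882) F42934
theorem F83120 : act 3 n52622 = n32571 := d7_1 D52622 F54156 F40364
theorem F83121 : act 4 n52622 = n42200 := d10_1 D52622 F65145 F42809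
theorem F83122 : act 7 n52622 = n34882 := d14_2 F42936 D52622 (iv6 D34882) (iv7 F42930) F50912
theorem F83123 : act 5 n43835 = n52622 := d13_3 F83122 (iv5 F69250) F69249
theorem F83124 : act 0 n52622 = n25560 := d17_2 F68905 F83123 (iv5 F68100) F68099 (iv5 D34949) (iv0 F55352) (iv5 F69250) (iv0 F69253) (iv4 F67726)
theorem F83125 : act 1 n52622 = n25560 := d17_6 (iv1 F32500) (iv5 F31861) D42401 (iv5 F68080) D43835 F83123 (iv5 F68100) F68103 (iv4 D43310)
def n52623 : Q := act 5 n25537
theorem D52623 : act 5 n25537 = n52623 := rfl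
theorem F83126 : act 2 n52623 = n25538 := d2_1 D52623 (iv5 D25538) D25537
theorem F83127 : act 3 n52623 = n25580 := d6_1 D52623 (iv5 D25580) (iv3 F40366)
theorem F83128 : act 7 n52623 = n32134 := d13_2 (iv7 F40368) D52623 F54193
theorem F83129 : act 4 n52623 = n32135 := d16_2 F40367 D52623 F51079 (iv4 F50993) D32106 F54192 (iv5 D16915) (iv7 F20068) D25537
theorem F83130 : act 1 n52623 = n32557 := d17_8 D32555 (iv5 F54317) (iv1 F56725) F56722 (iv4 F54177) F54179 F40370 D52623 (iv4 D32557)
theorem F83131 : act 0 n52623 = n34883 := d21_1 D52623 (iv5 F55177) D49120 F77561 D52119 (iv5 F82388) F69253 F69250 (iv6 D34882) (iv1 F40369)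
def n52624 : Q := act 6 n25538
theorem D52624 : act 6 n25538 = n52624 := rfl
theorem F83132 : act 3 n52624 = n25540 := d7_1 D52624 (iv6 D25540) (iv3 F40371)
def n52625 : Q := act 5 n25539
theorem D52625 : act 5 n25539 = n52625 := rfl
theorem F83133 : act 2 n52625 = n52503 := d2_1 D52625 F82902 F45851
theorem F83134 : act 3 n52625 = n25541 := d6_1 D52625 (iv5 D25541) (iv3 F40373)
theorem F83135 : act 0 n49093 = n52625 := d21_1 D49093 (iv5 D52625) (iv6 D25539) D25535 F50912 (iv5 F54179) (iv1 D23976) (iv5 D11236) (iv6 F18228) D23951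
theorem F83136 : act 1 n49093 = n49679 := d15_1 (iv0 F83135) (iv7 F82903) (iv2 F83133)
def n52626 : Q := act 0 n25540
theorem D52626 : act 0 n25540 = n52626 := rfl
def n52627 : Q := act 1 n25540
theorem D52627 : act 1 n25540 = n52627 := rfl
theorem F83137 : act 1 n52627 = n34871 := d15_1 D52627 (iv7 D34871) (iv2 F40375)
def n52628 : Q := act 5 n25540
theorem D52628 : act 5 n25540 = n52628 := rfl
theorem F83138 : act 2 n52628 = n34870 := d2_1 D52628 (iv5 D34870) (iv2 F40375)
theorem F83139 : act 6 n52628 = n25541 := d12_2 D25540 D52628 (iv5 D25541) (iv6 D12139) D12138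
def n52629 : Q := act 7 n25540
theorem D52629 : act 7 n25540 = n52629 := rfl
theorem F83140 : act 2 n52629 = n34871 := d4_1 D52629 (iv7 D34871) (iv2 F40375)
theorem F83141 : act 4 n52629 = n34887 := d11_1 D52629 (iv7 D34887) (iv4 F40376)
theorem F83142 : act 6 n52629 = n34887 := d14_1 D52629 (iv7 D34887) (iv6 D16916) (iv7 F20070) D25540
theorem F83143 : act 1 n34871 = n52626 := d15_0 (iv0 D52626) D52629 F83140
theorem F83144 : act 1 n34869 = n52629 := d15_1 D34869 (iv7 D52629) F40375
theorem F83145 : act 1 n52629 = n34868 := d15_0 (iv0 D34868) D34871 (iv2 F83140)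
def n52630 : Q := act 4 n25541
theorem D52630 : act 4 n25541 = n52630 := rfl
theorem F83146 : act 2 n52630 = n34874 := d1_1 D52630 (iv4 D34874) (iv2 F40377)
def n52631 : Q := act 6 n25542
theorem D52631 : act 6 n25542 = n52631 := rfl
theorem F83147 : act 2 n52631 = n35948 := d3_1 D52631 (iv6 D35948) (iv2 F40379)
theorem F83148 : act 3 n52631 = n25543 := d7_1 D52631 (iv6 D25543) (iv3 F40380)
theorem F83149 : act 5 n52631 = n49224 := d12_1 D52631 (iv6 D49224) (iv5 D24023) (iv6 F20077) D25542
def n52632 : Q := act 0 n25543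
theorem D52632 : act 0 n25543 = n52632 := rfl
def n52633 : Q := act 1 n25543
theorem D52633 : act 1 n25543 = n52633 := rfl
theorem F83150 : act 1 n52633 = n34887 := d15_1 D52633 (iv7 D34887) (iv2 F40382)
def n52634 : Q := act 7 n25543
theorem D52634 : act 7 n25543 = n52634 := rfl
theorem F83151 : act 2 n52634 = n34887 := d4_1 D52634 (iv7 D34887) (iv2 F40382)
theorem F83152 : act 4 n52634 = n34871 := d11_1 D52634 (iv7 D34871) (iv4 F40383)
theorem F83153 : act 5 n52634 = n49233 := d13_1 D52634 (iv7 D49233) (iv5 F40384)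
theorem F83154 : act 6 n52634 = n34871 := d14_1 D52634 (iv7 D34871) (iv6 D16905) (iv7 F20081) D25543
theorem F83155 : act 1 n34887 = n52632 := d15_0 (iv0 D52632) D52634 F83151
theorem F83156 : act 1 n34886 = n52634 := d15_1 D34886 (iv7 D52634) F40382
theorem F83157 : act 1 n52634 = n34885 := d15_0 (iv0 D34885) D34887 (iv2 F83151)
def n52635 : Q := act 0 n25545
theorem D52635 : act 0 n25545 = n52635 := rfl
theorem F83158 : act 4 n52635 = n26049 := d20_2 (iv4 F50618) D52635 F50653 (iv1 F43640) (iv3 F50552) D48884 (iv1 F77010) (iv4 D34972) D34971 (iv1 F55396)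
theorem F83159 : act 2 n31522 = n52635 := d15_3 (iv0 D52635) F56607 F54582
theorem F83160 : act 1 n35922 = n52635 := d15_0 (iv0 D52635) (iv7 F82861) F82860
theorem F83161 : act 7 n52635 = n31521 := d15_2 (iv0 F56606) F83160 (iv2 F54579)
def n52636 : Q := act 5 n25545
theorem D52636 : act 5 n25545 = n52636 := rfl
theorem F83162 : act 2 n52636 = n35921 := d2_1 D52636 (iv5 D35921) (iv2 F40389)
theorem F83163 : act 3 n52636 = n52517 := d6_1 D52636 (iv5 F82926) (iv3 F76600)
theorem F83164 : act 0 n52502 = n52636 := d21_1 D52502 (iv5 D52636) (iv6 D25545) (iv1 F20084) (iv6 F26654) D32365 (iv1 F51835) (iv5 D32747) (iv6 F50128) F50130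
def n52637 : Q := act 5 n25547
theorem D52637 : act 5 n25547 = n52637 := rfl
theorem F83165 : act 2 n52637 = n35915 := d2_1 D52637 (iv5 D35915) (iv2 F40397)
theorem F83166 : act 0 n52637 = n49225 := d17_2 F50516 D52637 F77746 F38058 D24284 (iv0 F43275) (iv5 D26853) F26731 D29064
def n52638 : Q := act 4 n25548
theorem D52638 : act 4 n25548 = n52638 := rfl
theorem F83167 : act 2 n52638 = n25551 := d1_1 D52638 (iv4 D25551) (iv2 F40398)
theorem F83168 : act 5 n52638 = n33833 := d9_2 D25548 D52638 (iv4 D33833) (iv5 D16357) (iv4 D7598) F5431 (iv4 F5696) D8147 D17393 D35925 F56610 (iv5 F52453) (iv4 D26608) F21110 (iv4 F20085)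
theorem F83169 : act 7 n52638 = n35923 := d11_2 (iv7 F40399) D52638 (iv4 D35923)
theorem F83170 : act 0 n52638 = n33190 := d17_0 F52415 F52465 (iv5 D33232) (iv4 D16044) (iv5 D7501) D7500 D16040 F40402 D52638
theorem F83171 : act 1 n52638 = n33180 := d18_6 (iv1 D17408) (iv4 D8158) (iv1 F9441) (iv4 F20085) D25548 D52638 (iv4 D33180) (iv0 F41870) (iv5 F41869)
def n52639 : Q := act 3 n25549
theorem D52639 : act 3 n25549 = n52639 := rfl
theorem F83172 : act 5 n52639 = n25585 := d6_2 (iv5 F40404) D52639 (iv3 D25585)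
theorem F83173 : act 7 n52639 = n33215 := d8_2 F40406 D52639 F52446
theorem F83174 : act 0 n42182 = n52639 := d17_2 F40442 D42182 F83172 F40484 (iv5 F76672) F67865 (iv5 D43276) (iv0 F32466) D25563
def n52640 : Q := act 4 n25549
theorem D52640 : act 4 n25549 = n52640 := rfl
theorem F83175 : act 2 n52640 = n33220 := d1_1 D52640 (iv4 D33220) F40405
theorem F83176 : act 7 n52640 = n33217 := d11_2 F40406 D52640 (iv4 D33217)
theorem F83177 : act 5 n52640 = n34503 := d16_1 D52640 F54733 F42618 (iv4 F42616) F41917 F20904 (iv5 F40409) F40408 F40405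
theorem F83178 : act 3 n52640 = n34504 := d19_3 D12165 (iv5 F40404) D52640 F54736 (iv5 D18890) (iv4 D8848) F5883 F2892 (iv5 D1202) (iv4 D719) F1086 D528 F1032 (iv4 F1362) (iv3 F2178) (iv1 F2181) (iv5 F2091) D2414 D5768
def n52641 : Q := act 6 n25549
theorem D52641 : act 6 n25549 = n52641 := rfl
theorem F83179 : act 2 n52641 = n33221 := d3_1 D52641 (iv6 D33221) F40405
def n52642 : Q := act 4 n25550
theorem D52642 : act 4 n25550 = n52642 := rfl
theorem F83180 : act 2 n52642 = n33217 := d1_1 D52642 (iv4 D33217) F40410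
theorem F83181 : act 5 n52642 = n37824 := d9_2 (iv5 F40409) D52642 F58674 (iv5 F42622) (iv4 F51559) F51560 (iv4 F25569) (iv5 F40404) D52640 F83177 F54733 F42618 (iv4 F42616) F41917 F20904
theorem F83182 : act 7 n52642 = n33220 := d11_2 (iv7 F40408) D52642 (iv4 D33220)
def n52643 : Q := act 6 n25550
theorem D52643 : act 6 n25550 = n52643 := rfl
theorem F83183 : act 2 n52643 = n33218 := d3_1 D52643 (iv6 D33218) F40410
def n52644 : Q := act 0 n25551
theorem D52644 : act 0 n25551 = n52644 := rfl
theorem F83184 : act 4 n52644 = n26377 := d18_3 (iv1 D25550) D25551 D52644 (iv5 D26377) (iv4 D12583) (iv0 D5981) (iv4 F8891) D12166 (iv5 F40409)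
theorem F83185 : act 1 n35923 = n52644 := d15_0 (iv0 D52644) F40411 (iv2 F56608)
theorem F83186 : act 2 n33190 = n52644 := d1_3 F83184 F42101 D33190
theorem F83187 : act 7 n33180 = n52644 := d11_0 F83184 F42102 D33180
def n52645 : Q := act 1 n25551
theorem D52645 : act 1 n25551 = n52645 := rfl
theorem F83188 : act 1 n52645 = n35923 := d15_1 D52645 (iv7 F83169) F83167
theorem F83189 : act 7 n52645 = n33190 := d15_2 (iv0 D52644) D52645 F83186
theorem F83190 : act 4 n26380 = n52645 := d20_6 (iv4 D11238) (iv1 F18059) F18056 (iv3 F21473) (iv1 F42274) F42271 (iv1 D52645) (iv4 D25551) F20090 (iv1 F18273)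
theorem F83191 : act 2 n52645 = n33180 := d1_1 F83190 (iv4 D33180) (iv2 F42107)
def n52646 : Q := act 5 n25551
theorem D52646 : act 5 n25551 = n52646 := rfl
theorem F83192 : act 2 n52646 = n33833 := d2_1 D52646 (iv5 F83168) F83167
theorem F83193 : act 7 n52646 = n35925 := d13_2 (iv7 F40411) D52646 (iv5 D35925)
theorem F83194 : act 4 n52646 = n33824 := d16_2 D25551 D52646 (iv5 D33824) (iv4 D16353) F11831 (iv4 F12915) D17391 (iv7 F40399) F40398
def n52647 : Q := act 6 n25551
theorem D52647 : act 6 n25551 = n52647 := rfl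
theorem F83195 : act 4 n52647 = n25552 := d10_1 D52647 (iv6 D25552) D25551
def n52648 : Q := act 0 n25552
theorem D52648 : act 0 n25552 = n52648 := rfl
def n52649 : Q := act 1 n25552
theorem D52649 : act 1 n25552 = n52649 := rfl
def n52650 : Q := act 7 n25552
theorem D52650 : act 7 n25552 = n52650 := rfl
theorem F83196 : act 3 n52650 = n25559 := d8_1 D52650 (iv7 D25559) (iv3 F40412)
theorem F83197 : act 6 n52650 = n35930 := d14_1 D52650 (iv7 D35930) (iv6 D17394) (iv7 F20091) D25552
def n52651 : Q := act 6 n25554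
theorem D52651 : act 6 n25554 = n52651 := rfl
theorem F83198 : act 3 n52651 = n35030 := d7_1 D52651 (iv6 D35030) F40420
def n52652 : Q := act 2 n25556
theorem D52652 : act 2 n25556 = n52652 := rfl
theorem F83199 : act 7 n25557 = n52652 := d15_2 (iv0 D25556) D25557 (iv2 D52652)
def n52653 : Q := act 3 n25556
theorem D52653 : act 3 n25556 = n52653 := rfl
def n52654 : Q := act 4 n25556
theorem D52654 : act 4 n25556 = n52654 := rfl
def n52655 : Q := act 5 n25556
theorem D52655 : act 5 n25556 = n52655 := rfl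
def n52656 : Q := act 6 n25556
theorem D52656 : act 6 n25556 = n52656 := rfl
theorem F83200 : act 5 n52656 = n52178 := d21_6 (iv5 D12141) (iv1 D5756) D5758 D12147 D25556 D52656 (iv1 D52178) F40048 (iv6 D23763) (iv1 F20083)
def n52657 : Q := act 7 n25556
theorem D52657 : act 7 n25556 = n52657 := rfl
theorem F83201 : act 2 n52657 = n25557 := d4_1 D52657 F83199 (iv2 D52652)
def n52658 : Q := act 3 n25557
theorem D52658 : act 3 n25557 = n52658 := rfl
def n52659 : Q := act 4 n25557
theorem D52659 : act 4 n25557 = n52659 := rfl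
def n52660 : Q := act 5 n25557
theorem D52660 : act 5 n25557 = n52660 := rfl
theorem F83202 : act 6 n42278 = n52660 := d21_5 (iv5 F45916) (iv1 F45921) (iv5 D19955) D19956 D42278 (iv5 D52660) (iv1 D25557) D25558 F40428 (iv1 F32391)
def n52661 : Q := act 6 n25557
theorem D52661 : act 6 n25557 = n52661 := rfl
def n52662 : Q := act 0 n25558
theorem D52662 : act 0 n25558 = n52662 := rfl
def n52663 : Q := act 1 n25558
theorem D52663 : act 1 n25558 = n52663 := rfl
theorem F83203 : act 1 n52663 = n42126 := d15_1 D52663 (iv7 D42126) (iv2 F40427)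
theorem F83204 : act 4 n52663 = n44642 := d20_0 (iv1 D44642) F33479 F33111 (iv1 F63210) (iv3 F31495) (iv4 D19739) (iv1 F35666) (iv4 F31719) (iv3 F65051) (iv1 F83203)
theorem E8266 : n35940 = n25557 := (c18_8 (iv1 F83203) F83204 (iv1 D44642) F33479 F33112 F27688 D17398 D35940 F76696 F76693)
theorem E8267 : n52659 = n17398 := ((D52659).symm.trans (sb E8266 (iv4 D35940)))
theorem F83205 : act 4 n17398 = n25557 := (sb E8267 (iv4 D52659))
theorem F83206 : act 4 n52657 = n35938 := d1_2 F83205 (iv2 F83201) F56624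
theorem F83207 : act 4 n52661 = n35942 := d10_3 (iv6 D35942) F83205 D52661
theorem F83208 : act 4 n52652 = n35933 := d11_3 (iv7 F56623) F83205 F83199
theorem E8268 : n35935 = n25556 := (c1_3 F83208 (iv2 D35933) D35935 D52652)
theorem E8269 : n52654 = n17397 := ((D52654).symm.trans (sb E8268 (iv4 D35935)))
theorem F83209 : act 4 n17397 = n25556 := (sb E8269 (iv4 D52654))
theorem F83210 : act 4 n52656 = n35937 := d10_3 (iv6 D35937) F83209 D52656
def n52664 : Q := act 7 n25558
theorem D52664 : act 7 n25558 = n52664 := rfl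
theorem F83211 : act 2 n52664 = n42126 := d4_1 D52664 (iv7 D42126) (iv2 F40427)
theorem F83212 : act 5 n52664 = n25559 := d13_1 D52664 (iv7 D25559) D25558
theorem F83213 : act 1 n42126 = n52662 := d15_0 (iv0 D52662) D52664 F83211
theorem F83214 : act 1 n42125 = n52664 := d15_1 D42125 (iv7 D52664) F40427
theorem F83215 : act 4 n44641 = n52662 := d20_0 (iv1 F83213) (iv4 F70334) F70333 (iv1 F35854) (iv3 D19805) (iv4 D9303) F63185 (iv4 F15998) (iv3 F33478) D44641
theorem F83216 : act 3 n45334 = n44641 := d20_5 F31576 (iv1 F63246) (iv4 F16430) (iv3 F34025) D45334 F83215 (iv1 F83213) (iv4 F70334) F70333 (iv1 F35854)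
theorem F83217 : act 1 n52664 = n42124 := d15_0 (iv0 D42124) D42126 (iv2 F83211)
def n52665 : Q := act 5 n25561
theorem D52665 : act 5 n25561 = n52665 := rfl
theorem F83218 : act 2 n52665 = n34952 := d2_1 D52665 (iv5 D34952) (iv2 F40433)
theorem F83219 : act 3 n52665 = n28497 := d6_1 D52665 F46036 (iv3 F40434)
theorem F83220 : act 0 n52665 = n28708 := d17_2 F40687 D52665 (iv5 D28708) (iv4 D13684) D13685 F25937 F25934 F23476 D25760
theorem F83221 : act 1 n52665 = n34820 := d17_6 F10566 D13682 D28705 F46276 (iv4 F40435) D52665 (iv5 D34820) F27630 F18277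
def n52666 : Q := act 5 n25563
theorem D52666 : act 5 n25563 = n52666 := rfl
theorem F83222 : act 2 n52666 = n35910 := d2_1 D52666 (iv5 D35910) (iv2 F40440)
theorem F83223 : act 3 n52666 = n34998 := d6_1 D52666 (iv5 D34998) (iv3 F40441)
def n52667 : Q := act 6 n25563
theorem D52667 : act 6 n25563 = n52667 := rfl
theorem F83224 : act 2 n52667 = n35911 := d3_1 D52667 (iv6 D35911) (iv2 F40440)
theorem F83225 : act 3 n52667 = n34999 := d7_1 D52667 (iv6 D34999) (iv3 F40441)
theorem F83226 : act 4 n52667 = n25565 := d10_1 D52667 (iv6 D25565) D25563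
theorem F83227 : act 0 n29605 = n52667 := d20_10 F83226 (iv1 F77942) F77939 F77697 F54396 (iv3 D25302) (iv4 D12014) (iv1 F10885) D14061 D29605
def n52668 : Q := act 4 n25564
theorem D52668 : act 4 n25564 = n52668 := rfl
theorem F83228 : act 3 n52668 = n27424 := d5_1 D52668 F44333 (iv3 F55470) (iv4 D35002) (iv3 F40444)
theorem F83229 : act 7 n52668 = n27530 := d11_2 (iv7 F46138) D52668 (iv4 F46135)
theorem F83230 : act 5 n27423 = n52668 := d13_3 F83229 (iv5 D27530) (iv7 F44330)
def n52669 : Q := act 6 n25564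
theorem D52669 : act 6 n25564 = n52669 := rfl
theorem F83231 : act 3 n52669 = n35003 := d7_1 D52669 (iv6 D35003) (iv3 F40444)
def n52670 : Q := act 5 n25565
theorem D52670 : act 5 n25565 = n52670 := rfl
theorem F83232 : act 3 n52670 = n35006 := d6_1 D52670 (iv5 D35006) (iv3 F40445)
theorem F83233 : act 0 n49227 = n52670 := d21_1 (iv5 F77749) (iv5 D52670) (iv6 D25565) F32466 (iv6 D20428) (iv5 D9702) (iv1 F15069) (iv5 F31796) D42283 F65297
def n52671 : Q := act 4 n25567
theorem D52671 : act 4 n25567 = n52671 := rfl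
theorem F83234 : act 2 n52671 = n27530 := d1_1 D52671 (iv4 F46135) F46139
theorem F83235 : act 5 n27528 = n52671 := d2_0 F83234 (iv5 D27530) D27528
def n52672 : Q := act 6 n25567
theorem D52672 : act 6 n25567 = n52672 := rfl
def n52673 : Q := act 1 n25568
theorem D52673 : act 1 n25568 = n52673 := rfl
theorem F83236 : act 3 n31521 = n52673 := d20_9 F76601 (iv1 D48682) (iv4 F37338) (iv3 D23923) F18186 D14846 F24510 D14848 D31521 (iv1 D52673)
theorem F83237 : act 2 n52673 = n32363 := d0_1 F83236 (iv3 D32363) (iv2 F27815) (iv3 F54580) F54579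
def n52674 : Q := act 5 n25568
theorem D52674 : act 5 n25568 = n52674 := rfl
theorem F83238 : act 3 n52674 = n52497 := d6_1 D52674 F82884 (iv3 F50630)
theorem F83239 : act 0 n52674 = n42286 := d21_7 (iv5 D10512) F7308 D9702 D20428 (iv1 F32467) D25568 D52674 (iv5 D42286) (iv6 D19958) (iv1 F16712)
def n52675 : Q := act 4 n25569
theorem D52675 : act 4 n25569 = n52675 := rfl
theorem F83240 : act 2 n52675 = n25573 := d1_1 D52675 (iv4 D25573) (iv2 F40450)
def n52676 : Q := act 6 n25569
theorem D52676 : act 6 n25569 = n52676 := rfl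
theorem F83241 : act 2 n52676 = n25574 := d3_1 D52676 (iv6 D25574) (iv2 F40450)
theorem F83242 : act 3 n52676 = n35924 := d7_1 D52676 (iv6 D35924) (iv3 F40451)
def n52677 : Q := act 5 n25570
theorem D52677 : act 5 n25570 = n52677 := rfl
theorem F83243 : act 2 n52677 = n25575 := d2_1 D52677 (iv5 D25575) (iv2 F40452)
theorem F83244 : act 3 n52677 = n32365 := d6_1 D52677 (iv5 D32365) (iv3 F40453)
theorem F83245 : act 7 n52677 = n42182 := d13_2 (iv7 F40454) D52677 (iv5 D42182)
theorem F83246 : act 0 n52677 = n33215 := d17_2 (iv1 F67751) D52677 (iv5 D33215) F37022 (iv5 F76668) F76667 (iv5 D25569) F37003 (iv4 F67749)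
theorem F83247 : act 1 n25575 = n52639 := d15_0 (iv0 F83174) (iv7 F83245) F83243
def n52678 : Q := act 4 n25571
theorem D52678 : act 4 n25571 = n52678 := rfl
theorem F83248 : act 3 n52678 = n26777 := d5_1 D52678 F43033 F52201 (iv4 D33020) (iv3 F52199)
theorem F83249 : act 7 n52678 = n27556 := d11_2 F76676 D52678 (iv4 F76678)
theorem F83250 : act 5 n26776 = n52678 := d13_3 F83249 F44463 F44264
def n52679 : Q := act 6 n25571
theorem D52679 : act 6 n25571 = n52679 := rfl
theorem F83251 : act 3 n52679 = n33021 := d7_1 D52679 (iv6 D33021) (iv3 F52199)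
def n52680 : Q := act 3 n25572
theorem D52680 : act 3 n25572 = n52680 := rfl
theorem F83252 : act 2 n52680 = n26497 := d0_1 D52680 F42406 (iv2 F42232) F76677 (iv2 F76674)
theorem F83253 : act 5 n52680 = n25596 := d6_2 (iv5 F76672) D52680 (iv3 D25596)
theorem F83254 : act 7 n52680 = n26499 := d8_2 (iv7 F76673) D52680 F76670
theorem F83255 : act 1 n32365 = n52680 := d15_1 F51835 F83254 (iv2 F51831)
theorem F83256 : act 1 n52680 = n32366 := d15_1 F83255 F51397 (iv2 F51393)
def n52681 : Q := act 4 n25572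
theorem D52681 : act 4 n25572 = n52681 := rfl
theorem F83257 : act 2 n52681 = n27556 := d1_1 D52681 (iv4 F76678) (iv2 F76674)
def n52682 : Q := act 6 n25572
theorem D52682 : act 6 n25572 = n52682 := rfl
def n52683 : Q := act 0 n25573
theorem D52683 : act 0 n25573 = n52683 := rfl
def n52684 : Q := act 6 n25573
theorem D52684 : act 6 n25573 = n52684 := rfl
theorem F83258 : act 3 n52684 = n34914 := d7_1 D52684 (iv6 D34914) (iv3 F40456)
theorem F83259 : act 4 n52684 = n25574 := d10_1 D52684 (iv6 D25574) D25573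
def n52685 : Q := act 0 n25574
theorem D52685 : act 0 n25574 = n52685 := rfl
def n52686 : Q := act 1 n25574
theorem D52686 : act 1 n25574 = n52686 := rfl
def n52687 : Q := act 5 n25574
theorem D52687 : act 5 n25574 = n52687 := rfl
theorem F83260 : act 3 n52687 = n25578 := d6_1 D52687 (iv5 D25578) (iv3 F40457)
theorem F83261 : act 6 n52687 = n25575 := d12_2 D25574 D52687 (iv5 D25575) (iv6 D12158) D12157
def n52688 : Q := act 7 n25574
theorem D52688 : act 7 n25574 = n52688 := rfl
theorem F83262 : act 3 n52688 = n25579 := d8_1 D52688 (iv7 D25579) (iv3 F40457)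
theorem F83263 : act 6 n52688 = n42136 := d14_1 D52688 (iv7 D42136) (iv6 F37013) F37014 D25574
def n52689 : Q := act 0 n25575
theorem D52689 : act 0 n25575 = n52689 := rfl
theorem F83264 : act 5 n52689 = n25593 := d17_3 F40386 D25575 D52689 (iv4 D25593) (iv5 F52200) (iv0 D25571) (iv5 D12157) D12155 (iv4 F40387)
theorem F83265 : act 2 n33215 = n52689 := d15_3 (iv0 D52689) F83247 F83173
theorem F83266 : act 1 n42182 = n52689 := d15_0 (iv0 D52689) (iv7 F67757) F67754
theorem F83267 : act 3 n52689 = n33017 := d0_2 (iv3 F52446) F83265 (iv2 F77184) F77185 (iv2 F40410)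
def n52690 : Q := act 4 n25575
theorem D52690 : act 4 n25575 = n52690 := rfl
def n52691 : Q := act 2 n25576
theorem D52691 : act 2 n25576 = n52691 := rfl
theorem F83268 : act 7 n25577 = n52691 := d15_2 (iv0 D25576) D25577 (iv2 D52691)
def n52692 : Q := act 3 n25576
theorem D52692 : act 3 n25576 = n52692 := rfl
def n52693 : Q := act 4 n25576
theorem D52693 : act 4 n25576 = n52693 := rfl
def n52694 : Q := act 5 n25576
theorem D52694 : act 5 n25576 = n52694 := rfl
def n52695 : Q := act 6 n25576
theorem D52695 : act 6 n25576 = n52695 := rfl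
def n52696 : Q := act 7 n25576
theorem D52696 : act 7 n25576 = n52696 := rfl
def n52697 : Q := act 3 n25577
theorem D52697 : act 3 n25577 = n52697 := rfl
def n52698 : Q := act 4 n25577
theorem D52698 : act 4 n25577 = n52698 := rfl
def n52699 : Q := act 5 n25577
theorem D52699 : act 5 n25577 = n52699 := rfl
def n52700 : Q := act 6 n25577
theorem D52700 : act 6 n25577 = n52700 := rfl
def n52701 : Q := act 0 n25578
theorem D52701 : act 0 n25578 = n52701 := rfl
def n52702 : Q := act 1 n25578
theorem D52702 : act 1 n25578 = n52702 := rfl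
theorem F83270 : act 1 n52702 = n35946 := d15_1 D52702 (iv7 D35946) (iv2 F40460)
def n52703 : Q := act 4 n25578
theorem D52703 : act 4 n25578 = n52703 := rfl
theorem F83271 : act 2 n52703 = n35945 := d1_1 D52703 (iv4 D35945) (iv2 F40460)
theorem F83272 : act 6 n52703 = n25582 := d10_2 (iv6 F40461) D52703 (iv4 D25582)
def n52704 : Q := act 7 n25578
theorem D52704 : act 7 n25578 = n52704 := rfl
theorem F83273 : act 2 n52704 = n35946 := d4_1 D52704 (iv7 D35946) (iv2 F40460)
theorem F83274 : act 5 n52704 = n25579 := d13_1 D52704 (iv7 D25579) D25578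
theorem F83275 : act 1 n35946 = n52701 := d15_0 (iv0 D52701) D52704 F83273
theorem F83276 : act 1 n35944 = n52704 := d15_1 D35944 (iv7 D52704) F40460
theorem F83277 : act 1 n52704 = n35943 := d15_0 (iv0 D35943) D35946 (iv2 F83273)
def n52705 : Q := act 6 n25580
theorem D52705 : act 6 n25580 = n52705 := rfl
theorem F83278 : act 2 n52705 = n34867 := d3_1 D52705 (iv6 D34867) (iv2 F40467)
theorem F83279 : act 5 n52705 = n52504 := d12_1 D52705 (iv6 D52504) F40285 F22675 D25580
def n52706 : Q := act 6 n25581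
theorem D52706 : act 6 n25581 = n52706 := rfl
theorem F83280 : act 2 n52706 = n34841 := d3_1 D52706 (iv6 D34841) F40472
def n52707 : Q := act 6 n25584
theorem D52707 : act 6 n25584 = n52707 := rfl
theorem F83281 : act 2 n52707 = n35955 := d3_1 D52707 (iv6 D35955) (iv2 F40479)
theorem F83282 : act 3 n52707 = n35959 := d7_1 D52707 (iv6 D35959) (iv3 F40480)
theorem F83283 : act 5 n52707 = n29615 := d12_1 D52707 (iv6 D29615) (iv5 D14066) (iv6 F20160) D25584
def n52708 : Q := act 6 n25585
theorem D52708 : act 6 n25585 = n52708 := rfl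
theorem F83284 : act 2 n52708 = n25605 := d3_1 D52708 (iv6 F77183) F76698
theorem F83285 : act 3 n52708 = n25586 := d7_1 D52708 (iv6 D25586) D25585
theorem F83286 : act 4 n52708 = n25598 := d10_1 D52708 (iv6 D25598) (iv4 F40484)
theorem F83287 : act 7 n52708 = n25606 := d14_2 (iv7 F40482) D52708 F82924 F65304 F50389
theorem F83288 : act 0 n25600 = n52708 := d21_4 D25564 (iv1 F55473) (iv5 D25599) D25600 (iv6 D52708) (iv5 F83172) (iv1 F83247) (iv5 D25575) (iv6 D12158) D12154
theorem F83289 : act 0 n52708 = n25608 := d20_7 (iv4 D7452) F12610 (iv4 F10538) (iv3 F11747) D16046 (iv3 F50255) (iv4 F83286) (iv4 F40546) F40545 (iv1 F20192)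
def n52709 : Q := act 0 n25586
theorem D52709 : act 0 n25586 = n52709 := rfl
theorem F83290 : act 4 n52709 = n26369 := d20_2 F51827 D52709 F42076 (iv1 F41480) F42230 D26459 F55089 (iv4 D34831) D34830 (iv1 F55085)
theorem F83291 : act 2 n25754 = n52709 := d15_3 (iv0 D52709) (iv0 F42432) (iv7 F40674)
theorem F83292 : act 1 n26539 = n52709 := d15_0 (iv0 D52709) (iv7 F82875) F82874
theorem F83293 : act 7 n52709 = n26514 := d15_2 D26539 F83292 F42439
theorem F83294 : act 6 n26513 = n52709 := d14_5 F83293 (iv6 D26514) (iv7 D12658) D12657 D26513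
def n52710 : Q := act 5 n25586
theorem D52710 : act 5 n25586 = n52710 := rfl
theorem F83295 : act 2 n52710 = n33222 := d2_1 D52710 (iv5 D33222) (iv2 F40486)
def n52711 : Q := act 4 n25587
theorem D52711 : act 4 n25587 = n52711 := rfl
theorem F83296 : act 2 n52711 = n25588 := d1_1 D52711 (iv4 D25588) (iv2 F40487)
theorem F83297 : act 5 n52711 = n33264 := d9_2 D25587 D52711 (iv4 D33264) (iv5 D16062) (iv4 D7505) (iv5 D3424) D3423 D7501 D16044 D33232 F52464 (iv5 F51499) (iv4 D26383) (iv5 D12591) (iv4 F20164)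
theorem F83298 : act 7 n52711 = n33201 := d11_2 (iv7 F40488) D52711 (iv4 D33201)
theorem F83299 : act 0 n52711 = n33230 := d18_2 (iv1 F40489) D52711 F52461 (iv5 D26851) (iv4 D12844) F9442 (iv4 F12915) F20084 (iv5 F28356)
theorem F83300 : act 1 n52711 = n33229 := d18_6 F37279 (iv4 D7488) (iv1 F9293) (iv4 F20164) D25587 D52711 F52460 F43266 (iv5 D25681)
def n52712 : Q := act 6 n25587
theorem D52712 : act 6 n25587 = n52712 := rfl
theorem F83301 : act 2 n52712 = n25589 := d3_1 D52712 (iv6 D25589) (iv2 F40487)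
def n52713 : Q := act 5 n25588
theorem D52713 : act 5 n25588 = n52713 := rfl
theorem F83302 : act 2 n52713 = n33264 := d2_1 D52713 (iv5 F83297) F83296
theorem F83303 : act 7 n52713 = n33232 := d13_2 (iv7 F40491) D52713 (iv5 D33232)
theorem F83304 : act 4 n52713 = n33206 := d16_2 D25588 D52713 (iv5 D33206) (iv4 D16028) (iv5 D7497) D7496 D16026 (iv7 F40488) F40487
def n52714 : Q := act 6 n25588
theorem D52714 : act 6 n25588 = n52714 := rfl
theorem F83305 : act 4 n52714 = n25589 := d10_1 D52714 (iv6 D25589) D25588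
def n52715 : Q := act 0 n25589
theorem D52715 : act 0 n25589 = n52715 := rfl
def n52716 : Q := act 1 n25589
theorem D52716 : act 1 n25589 = n52716 := rfl
def n52717 : Q := act 7 n25589
theorem D52717 : act 7 n25589 = n52717 := rfl
theorem F83306 : act 3 n52717 = n25592 := d8_1 D52717 (iv7 D25592) (iv3 F40492)
theorem F83307 : act 6 n52717 = n33237 := d14_1 D52717 (iv7 D33237) (iv6 D16045) (iv7 F20170) D25589
def n52718 : Q := act 2 n25590
theorem D52718 : act 2 n25590 = n52718 := rfl
theorem F83308 : act 7 n25591 = n52718 := d15_2 (iv0 D25590) D25591 (iv2 D52718)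
def n52719 : Q := act 3 n25590
theorem D52719 : act 3 n25590 = n52719 := rfl
def n52720 : Q := act 4 n25590
theorem D52720 : act 4 n25590 = n52720 := rfl
def n52721 : Q := act 5 n25590
theorem D52721 : act 5 n25590 = n52721 := rfl
def n52722 : Q := act 6 n25590
theorem D52722 : act 6 n25590 = n52722 := rfl
theorem F83309 : act 5 n52722 = n52702 := d21_6 (iv5 D5145) (iv1 F3800) D5769 D12169 D25590 D52722 (iv1 D52702) (iv5 D25578) (iv6 D12159) F8878
def n52723 : Q := act 7 n25590
theorem D52723 : act 7 n25590 = n52723 := rfl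
theorem F83310 : act 2 n52723 = n25591 := d4_1 D52723 F83308 (iv2 D52718)
def n52724 : Q := act 3 n25591
theorem D52724 : act 3 n25591 = n52724 := rfl
def n52725 : Q := act 4 n25591
theorem D52725 : act 4 n25591 = n52725 := rfl
def n52726 : Q := act 5 n25591
theorem D52726 : act 5 n25591 = n52726 := rfl
def n52727 : Q := act 6 n25591
theorem D52727 : act 6 n25591 = n52727 := rfl
def n52728 : Q := act 1 n25598
theorem D52728 : act 1 n25598 = n52728 := rfl
theorem F83311 : act 3 n26514 = n52728 := d20_3 F25355 (iv1 F26795) (iv4 F42440) (iv1 D52728) F50255 D33238 F52473 F83094 F83096 (iv1 F50923)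
theorem F83312 : act 4 n48743 = n52728 := d20_6 F83290 (iv1 F42073) (iv4 F50904) F50903 (iv1 F50279) (iv3 F76760) (iv1 D52728) (iv4 F83286) F83285 D52709
theorem F83313 : act 2 n52728 = n25758 := d1_1 F83312 F40684 (iv2 F76759)
theorem F83314 : act 6 n52728 = n26504 := d10_2 D48743 F83312 F42421
def n52729 : Q := act 5 n25598
theorem D52729 : act 5 n25598 = n52729 := rfl
theorem F83315 : act 3 n52729 = n33239 := d6_1 D52729 (iv5 D33239) (iv3 F50255)
def n52730 : Q := act 4 n25599
theorem D52730 : act 4 n25599 = n52730 := rfl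
theorem F83316 : act 2 n52730 = n25603 := d1_1 D52730 (iv4 D25603) (iv2 F40503)
theorem F83317 : act 0 n52730 = n33599 := d17_0 (iv5 D33599) D33596 F52889 (iv4 D25573) (iv5 D12157) D12155 D25567 F55474 D52730
def n52731 : Q := act 6 n25599
theorem D52731 : act 6 n25599 = n52731 := rfl
theorem F83318 : act 2 n52731 = n25604 := d3_1 D52731 (iv6 D25604) (iv2 F40503)
theorem F83319 : act 3 n52731 = n33202 := d7_1 D52731 (iv6 D33202) (iv3 F40504)
def n52732 : Q := act 1 n25600
theorem D52732 : act 1 n25600 = n52732 := rfl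
theorem F83320 : act 1 n52732 = n25608 := d15_1 D52732 (iv7 D25608) (iv2 F40505)
theorem F83321 : act 7 n52732 = n25605 := d15_2 (iv0 F83288) D52732 (iv2 F83284)
theorem F83322 : act 2 n25606 = n52732 := d4_3 F83321 (iv2 F83284) F83287
theorem F83323 : act 3 n26459 = n52732 := d8_3 F83321 F77181 F77179
theorem F83324 : act 6 n43380 = n52732 := d14_5 F83321 (iv6 F77183) F76700 F65300 (iv7 F68149)
def n52733 : Q := act 5 n25600
theorem D52733 : act 5 n25600 = n52733 := rfl
theorem F83325 : act 2 n52733 = n25607 := d2_1 D52733 (iv5 D25607) (iv2 F40505)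
theorem F83326 : act 3 n52733 = n33204 := d6_1 D52733 (iv5 D33204) (iv3 F40506)
theorem F83327 : act 1 n52733 = n46830 := d17_6 (iv1 D20026) D20027 D42417 F65502 F40541 D52733 (iv5 D46830) (iv0 F82978) (iv4 D42414)
def n52734 : Q := act 7 n25600
theorem D52734 : act 7 n25600 = n52734 := rfl
theorem F83328 : act 2 n52734 = n25608 := d4_1 D52734 (iv7 D25608) (iv2 F40505)
theorem F83329 : act 3 n52734 = n26603 := d8_1 D52734 F42595 (iv3 F40506)
theorem F83330 : act 4 n52734 = n43886 := d11_1 D52734 F69005 F40541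
theorem F83331 : act 6 n52734 = n43884 := d14_1 D52734 F69000 F40032 F37030 D25600
theorem F83332 : act 1 n25606 = n52734 := d15_1 D25606 (iv7 D52734) F40505
theorem F83333 : act 1 n52734 = n25605 := d15_1 F83332 (iv7 F83321) (iv2 F83322)
def n52735 : Q := act 6 n25601
theorem D52735 : act 6 n25601 = n52735 := rfl
theorem F83334 : act 2 n52735 = n52672 := d3_1 D52735 (iv6 D52672) (iv2 F46139)
def n52736 : Q := act 4 n25602
theorem D52736 : act 4 n25602 = n52736 := rfl
theorem F83335 : act 2 n52736 = n52668 := d1_1 D52736 (iv4 D52668) F46141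
theorem F83336 : act 7 n52736 = n52671 := d11_2 (iv7 F46140) D52736 (iv4 D52671)
def n52737 : Q := act 6 n25602
theorem D52737 : act 6 n25602 = n52737 := rfl
theorem F83337 : act 2 n52737 = n52669 := d3_1 D52737 (iv6 D52669) F46141
def n52738 : Q := act 0 n25603
theorem D52738 : act 0 n25603 = n52738 := rfl
def n52739 : Q := act 1 n25603
theorem D52739 : act 1 n25603 = n52739 := rfl
def n52740 : Q := act 6 n25603
theorem D52740 : act 6 n25603 = n52740 := rfl
theorem F83338 : act 3 n52740 = n33063 := d7_1 D52740 (iv6 D33063) (iv3 F40507)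
theorem F83339 : act 4 n52740 = n25604 := d10_1 D52740 (iv6 D25604) D25603
def n52741 : Q := act 0 n25604
theorem D52741 : act 0 n25604 = n52741 := rfl
theorem F83340 : act 6 n52741 = n43281 := d21_5 F76672 (iv1 D12171) D12173 D25604 D52741 (iv5 D43281) (iv1 D20430) D20431 (iv6 F67862) (iv1 F67865)
def n52742 : Q := act 1 n25604
theorem D52742 : act 1 n25604 = n52742 := rfl
def n52743 : Q := act 5 n25604
theorem D52743 : act 5 n25604 = n52743 := rfl
theorem F83341 : act 3 n52743 = n25611 := d6_1 D52743 (iv5 D25611) (iv3 F40508)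
theorem F83342 : act 6 n52743 = n25607 := d12_2 D25604 D52743 (iv5 D25607) (iv6 D12174) D12173
def n52744 : Q := act 7 n25604
theorem D52744 : act 7 n25604 = n52744 := rfl
theorem F83343 : act 3 n52744 = n25612 := d8_1 D52744 (iv7 D25612) (iv3 F40508)
def n52745 : Q := act 5 n25605
theorem D52745 : act 5 n25605 = n52745 := rfl
def n52746 : Q := act 5 n25606
theorem D52746 : act 5 n25606 = n52746 := rfl
def n52747 : Q := act 0 n25607
theorem D52747 : act 0 n25607 = n52747 := rfl
def n52748 : Q := act 1 n25607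
theorem D52748 : act 1 n25607 = n52748 := rfl
theorem F83344 : act 5 n43237 = n52748 := d21_6 (iv5 F52200) (iv1 F67864) (iv5 D43276) (iv6 D20428) (iv1 F32400) D43237 (iv1 D52748) (iv5 D25607) (iv6 D12174) D12170
theorem F83345 : act 2 n52748 = n46830 := d2_1 F83344 (iv5 D46830) (iv2 F67746)
theorem F83346 : act 6 n52748 = n43356 := d12_2 D43237 F83344 (iv5 D43356) (iv6 D20477) (iv5 F32402)
def n52749 : Q := act 4 n25607
theorem D52749 : act 4 n25607 = n52749 := rfl
def n52750 : Q := act 7 n25607
theorem D52750 : act 7 n25607 = n52750 := rfl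
theorem F83347 : act 3 n52750 = n25619 := d8_1 D52750 (iv7 D25619) (iv3 F40509)
theorem F83348 : act 5 n52750 = n25608 := d13_1 D52750 (iv7 D25608) D25607
theorem F83349 : act 1 n46830 = n52750 := d15_1 F83327 (iv7 D52750) (iv2 F83325)
def n52751 : Q := act 2 n25609
theorem D52751 : act 2 n25609 = n52751 := rfl
theorem F83350 : act 7 n25610 = n52751 := d15_2 (iv0 D25609) D25610 (iv2 D52751)
def n52752 : Q := act 3 n25609
theorem D52752 : act 3 n25609 = n52752 := rfl
def n52753 : Q := act 4 n25609
theorem D52753 : act 4 n25609 = n52753 := rfl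
def n52754 : Q := act 5 n25609
theorem D52754 : act 5 n25609 = n52754 := rfl
def n52755 : Q := act 6 n25609
theorem D52755 : act 6 n25609 = n52755 := rfl
theorem F83351 : act 5 n52755 = n52663 := d21_6 F18271 (iv1 F7694) D5771 D12175 D25609 D52755 (iv1 D52663) (iv5 D25558) (iv6 D12147) (iv1 F18273)
def n52756 : Q := act 7 n25609
theorem D52756 : act 7 n25609 = n52756 := rfl
theorem F83352 : act 2 n52756 = n25610 := d4_1 D52756 F83350 (iv2 D52751)
def n52757 : Q := act 3 n25610
theorem D52757 : act 3 n25610 = n52757 := rfl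
def n52758 : Q := act 4 n25610
theorem D52758 : act 4 n25610 = n52758 := rfl
def n52759 : Q := act 5 n25610
theorem D52759 : act 5 n25610 = n52759 := rfl
def n52760 : Q := act 6 n25610
theorem D52760 : act 6 n25610 = n52760 := rfl
def n52761 : Q := act 0 n25611
theorem D52761 : act 0 n25611 = n52761 := rfl
def n52762 : Q := act 1 n25611
theorem D52762 : act 1 n25611 = n52762 := rfl
theorem F83353 : act 5 n35937 = n52762 := d21_6 (iv5 D7887) F5610 D3668 D8149 D17397 D35937 (iv1 D52762) (iv5 D25611) (iv6 D12175) (iv1 F12489)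
def n52763 : Q := act 4 n25611
theorem D52763 : act 4 n25611 = n52763 := rfl
theorem F83354 : act 6 n52763 = n25618 := d10_2 (iv6 F40512) D52763 (iv4 D25618)
def n52764 : Q := act 7 n25611
theorem D52764 : act 7 n25611 = n52764 := rfl
theorem F83355 : act 5 n52764 = n25612 := d13_1 D52764 (iv7 D25612) D25611
def n52765 : Q := act 4 n25613
theorem D52765 : act 4 n25613 = n52765 := rfl
def n52766 : Q := act 6 n25613
theorem D52766 : act 6 n25613 = n52766 := rfl
theorem F83356 : act 3 n52766 = n34844 := d7_1 D52766 F55106 (iv3 F40513)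
theorem F83357 : act 5 n52766 = n34841 := d12_1 D52766 (iv6 D34841) (iv5 D16892) F27056 D25613
def n52767 : Q := act 5 n25614
theorem D52767 : act 5 n25614 = n52767 := rfl
theorem F83358 : act 3 n52767 = n25615 := d6_1 D52767 (iv5 D25615) D25614
def n52768 : Q := act 4 n25615
theorem D52768 : act 4 n25615 = n52768 := rfl
def n52769 : Q := act 6 n25615
theorem D52769 : act 6 n25615 = n52769 := rfl
def n52770 : Q := act 3 n25616
theorem D52770 : act 3 n25616 = n52770 := rfl
theorem F83359 : act 5 n52770 = n52465 := d6_2 (iv5 F40515) D52770 (iv3 D52465)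
theorem F83360 : act 7 n52770 = n52665 := d8_2 F46035 D52770 F83219
theorem F83361 : act 1 n25755 = n52770 := d15_1 F55320 F83360 F83218
theorem F83362 : act 1 n52770 = n25759 := d15_1 F83361 (iv7 F55042) F55041
def n52771 : Q := act 4 n25616
theorem D52771 : act 4 n25616 = n52771 := rfl
theorem F83363 : act 5 n52771 = n52768 := d16_1 D52771 (iv4 D52768) (iv5 D25615) (iv4 F22745) D16687 (iv4 F40250) (iv5 F40516) F46032 (iv2 F46031)
theorem F83364 : act 1 n52771 = n34417 := d18_6 F37549 F37547 F25251 (iv4 F40256) (iv5 F40515) D52771 (iv4 D34417) (iv0 F49969) (iv5 D31687)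
def n52772 : Q := act 6 n25616
theorem D52772 : act 6 n25616 = n52772 := rfl
def n52773 : Q := act 3 n25617
theorem D52773 : act 3 n25617 = n52773 := rfl
theorem F83365 : act 5 n52773 = n52464 := d6_2 (iv5 F40516) D52773 (iv3 D52464)
def n52774 : Q := act 4 n25617
theorem D52774 : act 4 n25617 = n52774 := rfl
theorem F83366 : act 5 n52774 = n52765 := d9_2 (iv5 F40516) D52774 (iv4 D52765) (iv5 D25613) F20175 D15751 (iv4 F40256) (iv5 F40515) D52771 F83363 (iv4 D52768) (iv5 D25615) (iv4 F22745) D16687 (iv4 F40250)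
theorem F83367 : act 0 n52774 = n34417 := d18_2 (iv1 F46041) D52774 (iv4 D34417) (iv5 D16685) F12069 D7765 F22745 F22755 (iv5 F46040)
def n52775 : Q := act 6 n25617
theorem D52775 : act 6 n25617 = n52775 := rfl
theorem F83368 : act 5 n52775 = n43359 := d12_1 D52775 (iv6 D43359) F32550 (iv6 F40251) (iv5 F40516)
def n52776 : Q := act 0 n25618
theorem D52776 : act 0 n25618 = n52776 := rfl
theorem F83369 : act 4 n52776 = n25654 := d18_3 (iv1 D25617) D25618 D52776 F40549 (iv4 D25463) F20024 (iv4 F37553) F40252 (iv5 F40516)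
def n52777 : Q := act 1 n25618
theorem D52777 : act 1 n25618 = n52777 := rfl
theorem F83370 : act 4 n52777 = n25655 := d18_7 (iv1 F27330) (iv4 D12181) (iv1 D5774) (iv4 F8893) D12178 D25618 D52777 F54612 F54611
def n52778 : Q := act 3 n25618
theorem D52778 : act 3 n25618 = n52778 := rfl
def n52779 : Q := act 5 n25618
theorem D52779 : act 5 n25618 = n52779 := rfl
theorem F83371 : act 4 n52779 = n28499 := d16_2 D25618 D52779 F46040 F22753 F10542 (iv4 F22753) (iv5 F46040) (iv7 D28499) F22751
theorem F83372 : act 7 n52779 = n28498 := d16_8 (iv4 D25618) (iv5 D12178) F8893 F3809 (iv4 F8893) D12178 D25618 D52779 F46038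
theorem F83373 : act 1 n52777 = n52779 := d15_1 D52777 F83372 F46038
theorem F83374 : act 0 n52776 = n52779 := d18_2 D25654 (iv4 F83369) F83371 F46040 F22753 F10546 D12180 (iv0 F20179) D12191
def n52780 : Q := act 7 n25618
theorem D52780 : act 7 n25618 = n52780 := rfl
theorem F83375 : act 2 n52780 = n52779 := d4_1 D52780 F83372 F46038
theorem F83376 : act 4 n52780 = n25619 := d11_1 D52780 (iv7 D25619) D25618
theorem F83377 : act 5 n52780 = n28498 := d13_1 D52780 (iv7 F83372) (iv5 D52779)
def n52781 : Q := act 6 n25619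
theorem D52781 : act 6 n25619 = n52781 := rfl
theorem F83378 : act 5 n52781 = n52180 := d12_1 D52781 (iv6 D52180) F40051 (iv6 F20177) (iv5 F40517)
def n52782 : Q := act 0 n25620
theorem D52782 : act 0 n25620 = n52782 := rfl
theorem F83379 : act 2 n25690 = n52782 := d15_3 (iv0 D52782) F50901 D25690
theorem F83380 : act 1 n25688 = n52782 := d15_0 (iv0 D52782) F40521 (iv2 F50902)
theorem F83381 : act 7 n52782 = n25680 := d15_2 D25688 F83380 F40600
theorem F83382 : act 4 n32742 = n52782 := d20_0 (iv1 F83380) F50904 F50795 (iv1 D7559) (iv3 F11785) (iv4 F25721) F50775 F25154 (iv3 F25149) D32742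
theorem F83383 : act 3 n34825 = n32742 := d20_5 (iv4 F11786) (iv1 F50790) (iv4 F22772) (iv3 F27649) D34825 F83382 (iv1 F83380) F50904 F50795 (iv1 D7559)
theorem F83384 : act 7 n32742 = n34830 := d8_2 (iv7 F55064) F83383 (iv3 D34830)
theorem F83385 : act 6 n25679 = n52782 := d14_5 F83381 (iv6 D25680) (iv7 D12199) D12198 D25679
def n52783 : Q := act 5 n25620
theorem D52783 : act 5 n25620 = n52783 := rfl
theorem F83386 : act 2 n52783 = n33192 := d2_1 D52783 (iv5 D33192) (iv2 F40518)
theorem F83387 : act 3 n52783 = n25621 := d6_1 D52783 (iv5 D25621) D25620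
theorem F83388 : act 7 n52783 = n32985 := d13_2 (iv7 F40521) D52783 (iv5 D32985)
def n52784 : Q := act 4 n25621
theorem D52784 : act 4 n25621 = n52784 := rfl
theorem F83389 : act 7 n52784 = n32987 := d11_2 (iv7 F40522) D52784 (iv4 D32987)
theorem F83390 : act 5 n52784 = n52777 := d16_1 D52784 F83370 F40550 F27784 F12669 D12181 D25623 (iv7 F46044) F46043
def n52785 : Q := act 6 n25621
theorem D52785 : act 6 n25621 = n52785 := rfl
def n52786 : Q := act 5 n25622
theorem D52786 : act 5 n25622 = n52786 := rfl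
theorem F83391 : act 3 n52786 = n25623 := d6_1 D52786 (iv5 D25623) D25622
theorem F83392 : act 7 n52786 = n32917 := d13_2 (iv7 F40524) D52786 (iv5 D32917)
def n52787 : Q := act 4 n25623
theorem D52787 : act 4 n25623 = n52787 := rfl
theorem F83393 : act 2 n52787 = n32987 := d1_1 D52787 (iv4 D32987) (iv2 F40525)
theorem F83394 : act 5 n52787 = n52776 := d9_2 D25623 D52787 F83369 F40549 (iv4 D25463) (iv5 F20026) D12180 D25621 D52784 F83390 F83370 F40550 F27784 F12669 D12181
def n52788 : Q := act 6 n25623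
theorem D52788 : act 6 n25623 = n52788 := rfl
theorem F83395 : act 2 n52788 = n32988 := d3_1 D52788 (iv6 D32988) (iv2 F40525)
def n52789 : Q := act 2 n25624
theorem D52789 : act 2 n25624 = n52789 := rfl
theorem F83396 : act 7 n25625 = n52789 := d15_2 (iv0 D25624) D25625 (iv2 D52789)
def n52790 : Q := act 3 n25624
theorem D52790 : act 3 n25624 = n52790 := rfl
def n52791 : Q := act 4 n25624
theorem D52791 : act 4 n25624 = n52791 := rfl
def n52792 : Q := act 5 n25624
theorem D52792 : act 5 n25624 = n52792 := rfl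
def n52793 : Q := act 6 n25624
theorem D52793 : act 6 n25624 = n52793 := rfl
def n52794 : Q := act 7 n25624
theorem D52794 : act 7 n25624 = n52794 := rfl
theorem F83397 : act 2 n52794 = n25625 := d4_1 D52794 F83396 (iv2 D52789)
def n52795 : Q := act 3 n25625
theorem D52795 : act 3 n25625 = n52795 := rfl
def n52796 : Q := act 4 n25625
theorem D52796 : act 4 n25625 = n52796 := rfl
def n52797 : Q := act 5 n25625
theorem D52797 : act 5 n25625 = n52797 := rfl
def n52798 : Q := act 6 n25625
theorem D52798 : act 6 n25625 = n52798 := rfl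
def n52799 : Q := act 0 n25626
theorem D52799 : act 0 n25626 = n52799 := rfl
def n52800 : Q := act 1 n25626
theorem D52800 : act 1 n25626 = n52800 := rfl
def n52801 : Q := act 4 n25626
theorem D52801 : act 4 n25626 = n52801 := rfl
theorem F83398 : act 6 n52801 = n25628 := d10_2 (iv6 F40526) D52801 (iv4 D25628)
def n52802 : Q := act 7 n25626
theorem D52802 : act 7 n25626 = n52802 := rfl
theorem F83399 : act 5 n52802 = n25627 := d13_1 D52802 (iv7 D25627) D25626
def n52803 : Q := act 3 n25628
theorem D52803 : act 3 n25628 = n52803 := rfl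
theorem F83400 : act 5 n52803 = n52211 := d6_2 (iv5 F40528) D52803 F82551
theorem F83401 : act 7 n52803 = n52210 := d8_2 F40529 D52803 F82550
def n52804 : Q := act 6 n25629
theorem D52804 : act 6 n25629 = n52804 := rfl
theorem F83402 : act 4 n52804 = n52212 := d10_1 D52804 (iv6 D52212) (iv4 F40530)
def n52807 : Q := act 3 n25630
theorem D52807 : act 3 n25630 = n52807 := rfl
theorem F83405 : act 7 n52807 = n25636 := d8_2 F40534 D52807 (iv3 D25636)
theorem F83406 : act 2 n52807 = n25664 := d15_3 (iv0 F77231) (iv0 F77232) (iv7 F83405)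
theorem F83407 : act 2 n25632 = n25631 := d0_3 D52807 F83406 (iv3 F40571) (iv3 D25631) D25630
theorem E8270 : n48729 = n12185 := (c1_4 D25632 F83407 F40535 (iv2 F76728))
theorem E8271 : n25630 = n23765 := ((D25630).symm.trans (sb E8270 F76728))
theorem E8272 : n25635 = n23764 := ((D25635).symm.trans (sb E8270 (iv7 D48729)))
theorem F83408 : act 2 n23765 = n12185 := (sb E8271 (iv2 D25630))
theorem E8275 : n52807 = n48730 := (((D48730).symm.trans (sb E8271 D52807))).symm
theorem E8276 : n52529 = n42371 := (((F65467).symm.trans (sb E8271 (iv6 F82949)))).symm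
theorem E8277 : n48726 = n12186 := ((F76723).symm.trans (sb E8271 (iv7 F40534)))
theorem F83409 : act 7 n23764 = n12185 := (sb E8272 (iv7 D25635))
theorem F83410 : act 2 n48730 = n25664 := (sb E8275 F83406)
theorem F83411 : act 7 n48730 = n25636 := (sb E8275 F83405)
theorem F83412 : act 2 n42371 = n25500 := (sb E8276 (iv2 D52529))
theorem F83413 : act 7 n42371 = n25501 := (sb E8276 (iv7 F82950))
theorem F83414 : act 2 n12186 = n23764 := (sb E8277 (iv2 D48726))
theorem F83415 : act 7 n12186 = n23765 := (sb E8277 (iv7 F76723))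
theorem F83416 : act 2 n42393 = n43408 := d3_3 (iv6 F68243) F83407 (iv6 F65466)
theorem F83417 : act 7 n48727 = n25632 := d15_2 F76757 F76755 F83407
theorem F83418 : act 7 n25637 = n25631 := d15_2 (iv0 F40536) (iv0 F42423) (iv2 F83407)
theorem F83419 : act 2 n48727 = n25637 := d4_3 F83418 (iv2 F83407) (iv7 F83417)
theorem F83420 : act 2 n25636 = n49121 := d0_5 F77563 F83419 F40538 (iv2 F83414) D25636
theorem F83421 : act 7 n49121 = n25664 := d4_2 F83411 F83420 (iv2 F83410)
theorem F83422 : act 7 n43409 = n42393 := d15_2 (iv0 D43408) D43409 F83416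
theorem F83423 : act 7 n42394 = n43408 := d15_2 (iv0 D42393) D42394 (iv2 F83416)
theorem F83424 : act 2 n43409 = n42394 := d4_3 F83423 (iv2 F83416) (iv7 F83422)
theorem E8278 : n52531 = n42372 := (c11_3 F83423 F68242 D52531 F65469)
theorem F83425 : act 2 n42372 = n25501 := (sb E8278 F82952)
theorem F83426 : act 7 n42372 = n25500 := (sb E8278 (iv7 D52531))
theorem F83427 : act 7 n34861 = n25638 := d13_2 F83415 F65468 (iv5 D25638)
theorem F83428 : act 2 n25638 = n34860 := d15_3 (iv0 D34860) D34861 F83427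
theorem F83429 : act 2 n34861 = n25633 := d15_3 F41850 (iv0 F76681) (iv7 F83427)
theorem F83430 : act 7 n25633 = n34860 := d4_2 (iv7 F83427) F83429 (iv2 F83428)
theorem F83431 : act 2 n48728 = n25639 := d3_3 (iv6 D25639) F83414 D48728
theorem F83432 : act 1 n25748 = n52534 := d15_1 (iv0 F76726) F82954 (iv2 F83431)
theorem F83433 : act 1 n52534 = n44069 := d15_1 F83432 (iv7 F76761) F76759
def n52808 : Q := act 5 n25631
theorem D52808 : act 5 n25631 = n52808 := rfl
theorem F83434 : act 3 n52808 = n25633 := d6_1 D52808 (iv5 D25633) D25631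
theorem F83435 : act 0 n52808 = n42400 := d17_2 (iv1 F76757) D52808 (iv5 D42400) F31858 D42182 F83266 F83264 F40496 (iv4 F76753)
theorem F83436 : act 1 n52808 = n49117 := d17_6 (iv1 F37425) (iv5 F40634) (iv1 F55132) (iv5 F65468) (iv4 F40535) D52808 (iv5 D49117) (iv0 F55117) (iv4 D34852)
def n52809 : Q := act 5 n25632
theorem D52809 : act 5 n25632 = n52809 := rfl
theorem F83437 : act 2 n52809 = n52808 := d2_1 D52809 (iv5 D52808) (iv2 F83407)
theorem F83438 : act 0 n52809 = n43424 := d17_2 F40536 D52809 (iv5 D43424) F32636 D43239 (iv0 F67758) (iv5 D33215) F42422 F42421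
theorem F83439 : act 1 n52809 = n48750 := d17_6 (iv1 D23961) (iv5 F20210) (iv1 F41850) (iv5 D25633) D25632 D52809 F76772 (iv0 F55116) F55114
theorem F83440 : act 4 n52809 = n52683 := d18_5 (iv1 D12171) (iv4 F8898) D12185 D25632 D52809 (iv0 D52683) (iv4 D25573) D25572 F76672
theorem F83441 : act 5 n43435 = n48743 := d21_8 D52809 F83438 (iv5 D43424) (iv6 D20532) (iv1 D9744) D9745 D20535 D43435 (iv6 D48743) F40536
theorem F83442 : act 3 n48746 = n43435 := d6_3 F83441 F76760 D48746
def n52810 : Q := act 4 n25633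
theorem D52810 : act 4 n25633 = n52810 := rfl
theorem F83443 : act 3 n52810 = n33384 := d19_3 D12185 D25633 D52810 F52628 F46211 F22813 F10559 (iv1 F4489) (iv5 D1488) (iv4 D809) (iv3 F1522) D1482 (iv5 F2654) F2652 F2651 (iv1 F2706) (iv5 F3467) (iv4 F3811) D5778
theorem F83444 : act 5 n33383 = n52810 := d6_0 F83443 (iv5 D33384) D33383
def n52811 : Q := act 6 n25633
theorem D52811 : act 6 n25633 = n52811 := rfl
def n52812 : Q := act 5 n25636
theorem D52812 : act 5 n25636 = n52812 := rfl
theorem F83445 : act 3 n52812 = n25638 := d6_1 D52812 (iv5 D25638) D25636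
theorem F83446 : act 4 n52812 = n34027 := d18_5 D11233 D23967 D49121 F77562 D52812 (iv0 F54172) (iv4 F54360) (iv0 D23975) (iv5 D11236)
theorem F83447 : act 0 n25696 = n52812 := d18_2 F54524 F43299 F83446 (iv5 D34027) F54125 (iv0 D15413) (iv4 F20798) (iv0 F54085) D34360
def n52813 : Q := act 6 n25636
theorem D52813 : act 6 n25636 = n52813 := rfl
theorem F83448 : act 3 n52813 = n25639 := d7_1 D52813 (iv6 D25639) D25636
def n52814 : Q := act 5 n25637
theorem D52814 : act 5 n25637 = n52814 := rfl
theorem F83449 : act 3 n52814 = n34860 := d6_1 D52814 (iv5 F76680) (iv3 F40538)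
theorem F83450 : act 7 n52814 = n52808 := d13_2 (iv7 F83418) D52814 (iv5 D52808)
theorem F83451 : act 4 n52814 = n33445 := d16_2 D25637 D52814 (iv5 D33445) (iv4 F52625) F83444 (iv4 D52810) (iv5 D25633) (iv7 F83409) (iv2 F83414)
theorem F83452 : act 1 n52814 = n43424 := d17_6 (iv1 F37421) D34859 (iv1 F76682) (iv5 D25638) D25637 D52814 (iv5 D43424) D43423 (iv4 F68284)
theorem F83453 : act 0 n52814 = n48750 := d21_7 (iv5 F46143) (iv1 D25643) (iv5 D12188) D12189 D25646 (iv6 F76685) D52814 F76772 F51466 (iv1 F37427)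
def n52815 : Q := act 4 n25638
theorem D52815 : act 4 n25638 = n52815 := rfl
def n52816 : Q := act 6 n25638
theorem D52816 : act 6 n25638 = n52816 := rfl
def n52817 : Q := act 5 n25639
theorem D52817 : act 5 n25639 = n52817 := rfl
def n52818 : Q := act 4 n25640
theorem D52818 : act 4 n25640 = n52818 := rfl
theorem F83454 : act 2 n52818 = n25644 := d1_1 D52818 (iv4 D25644) (iv2 F40539)
def n52819 : Q := act 6 n25640
theorem D52819 : act 6 n25640 = n52819 := rfl
theorem F83455 : act 2 n52819 = n25645 := d3_1 D52819 (iv6 D25645) (iv2 F40539)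
def n52820 : Q := act 0 n25641
theorem D52820 : act 0 n25641 = n52820 := rfl
theorem F83456 : act 4 n52820 = n48728 := d20_8 (iv4 F83330) (iv1 F83332) (iv4 F82923) F82920 (iv1 D33203) (iv3 F40506) (iv4 F40541) D52820 F76725 (iv1 F69007)
theorem F83457 : act 1 n25649 = n52820 := d15_0 (iv0 D52820) (iv7 F69005) F69004
theorem F83458 : act 2 n25646 = n52820 := d1_3 F83456 F83431 (iv4 F76684)
theorem F83459 : act 6 n48727 = n52820 := d10_0 F83456 (iv6 D48728) D48727
theorem F83460 : act 7 n25647 = n52820 := d15_2 (iv0 D25646) D25647 (iv2 F83458)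
theorem F83461 : act 6 n42394 = n25647 := d14_5 F83460 (iv6 F83459) F83417 F68243 (iv7 F83423)
def n52821 : Q := act 1 n25641
theorem D52821 : act 1 n25641 = n52821 := rfl
theorem F83462 : act 1 n52821 = n25649 := d15_1 D52821 (iv7 D25649) (iv2 F40540)
theorem F83463 : act 7 n52821 = n25646 := d15_2 (iv0 D52820) D52821 F83458
theorem F83464 : act 4 n52534 = n52821 := d20_0 (iv1 D52821) F40541 F40506 F42410 F42408 F25376 D15909 D33012 (iv3 F69411) (iv1 F83433)
theorem F83465 : act 6 n52821 = n43409 := d10_2 D52534 F83464 (iv4 F68246)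
theorem F83466 : act 2 n25647 = n52821 := d3_3 F83465 F83424 F83461
def n52822 : Q := act 2 n25642
theorem D52822 : act 2 n25642 = n52822 := rfl
theorem F83467 : act 5 n52822 = n34850 := d2_2 (iv5 F65521) D52822 (iv2 D34850)
theorem F83468 : act 7 n25643 = n52822 := d15_2 (iv0 D25642) D25643 (iv2 D52822)
def n52823 : Q := act 3 n25642
theorem D52823 : act 3 n25642 = n52823 := rfl
theorem F83469 : act 5 n52823 = n34851 := d6_2 (iv5 F65521) D52823 (iv3 D34851)
theorem F83470 : act 4 n52823 = n33599 := d20_6 F20080 F12488 (iv4 F8899) (iv3 F20187) D25642 D52823 F76714 (iv4 D48721) F37033 (iv1 F20083)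
def n52824 : Q := act 4 n25642
theorem D52824 : act 4 n25642 = n52824 := rfl
theorem F83471 : act 3 n52824 = n28636 := d5_1 D52824 F46200 (iv3 F52890) (iv4 F83470) (iv3 D52823)
theorem F83472 : act 5 n28635 = n52824 := d6_0 F83471 (iv5 D28636) D28635
def n52825 : Q := act 6 n25642
theorem D52825 : act 6 n25642 = n52825 := rfl
def n52826 : Q := act 7 n25642
theorem D52826 : act 7 n25642 = n52826 := rfl
theorem F83473 : act 2 n52826 = n25643 := d4_1 D52826 F83468 (iv2 D52822)
theorem F83474 : act 5 n52826 = n34855 := d13_1 D52826 (iv7 D34855) (iv5 F65521)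
def n52827 : Q := act 3 n25643
theorem D52827 : act 3 n25643 = n52827 := rfl
theorem F83475 : act 5 n52827 = n34856 := d6_2 (iv5 F46143) D52827 (iv3 D34856)
theorem F83476 : act 4 n52827 = n35095 := d20_6 D34983 F55421 (iv4 D33030) (iv3 F52206) (iv1 F52208) D52827 (iv1 F55763) F51624 F55417 (iv1 D34982)
theorem F83477 : act 0 n25665 = n52827 := d18_0 F83476 (iv1 F55763) F51624 (iv5 D23972) D23971 F77564 F77562 F42424 D25665
def n52828 : Q := act 4 n25643
theorem D52828 : act 4 n25643 = n52828 := rfl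
def n52829 : Q := act 6 n25643
theorem D52829 : act 6 n25643 = n52829 := rfl
def n52830 : Q := act 0 n25644
theorem D52830 : act 0 n25644 = n52830 := rfl
def n52831 : Q := act 1 n25644
theorem D52831 : act 1 n25644 = n52831 := rfl
theorem F83478 : act 4 n52831 = n35910 := d18_7 F40485 F40484 (iv1 D12171) (iv4 F8898) D12188 D25644 D52831 (iv0 F76711) (iv5 D26502)
theorem F83479 : act 3 n35174 = n52831 := d20_3 D35214 F55960 (iv4 F55927) (iv1 D52831) F40542 (iv4 D25588) (iv1 F28346) D35913 F56582 F29473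
theorem F83480 : act 5 n52831 = n27529 := d6_2 D35174 F83479 F44420
def n52832 : Q := act 5 n25644
theorem D52832 : act 5 n25644 = n52832 := rfl
theorem F83481 : act 3 n52832 = n52713 := d6_1 D52832 (iv5 D52713) (iv3 F40542)
theorem F83482 : act 0 n35197 = n52832 := d19_0 (iv5 D52832) (iv4 D25644) F20187 (iv1 F11541) (iv5 D7221) (iv4 D3325) (iv3 D1470) (iv1 F1514) (iv5 D465) D464 F973 F971 D572 D902 D1700 D3939 F13310 D17087 D35197
theorem F83483 : act 4 n52832 = n33443 := d20_0 (iv1 D33443) (iv4 F52625) (iv3 D33383) F25738 F25180 (iv4 D7998) D7996 D17087 D35197 F83482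
def n52833 : Q := act 6 n25644
theorem D52833 : act 6 n25644 = n52833 := rfl
theorem F83484 : act 3 n52833 = n52714 := d7_1 D52833 (iv6 D52714) (iv3 F40542)
theorem F83485 : act 4 n52833 = n25645 := d10_1 D52833 (iv6 D25645) D25644
def n52834 : Q := act 0 n25645
theorem D52834 : act 0 n25645 = n52834 := rfl
theorem F83486 : act 6 n52834 = n40438 := d21_5 (iv5 D25638) (iv1 D12186) D12188 D25645 D52834 (iv5 D40438) F63171 D20779 (iv6 F55126) (iv1 F76682)
def n52835 : Q := act 1 n25645
theorem D52835 : act 1 n25645 = n52835 := rfl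
def n52836 : Q := act 5 n25645
theorem D52836 : act 5 n25645 = n52836 := rfl
theorem F83487 : act 3 n52836 = n25652 := d6_1 D52836 (iv5 D25652) (iv3 F40543)
theorem F83488 : act 6 n52836 = n25648 := d12_2 D25645 D52836 (iv5 D25648) (iv6 D12189) D12188
def n52837 : Q := act 7 n25645
theorem D52837 : act 7 n25645 = n52837 := rfl
theorem F83489 : act 3 n52837 = n25653 := d8_1 D52837 (iv7 D25653) (iv3 F40543)
def n52838 : Q := act 5 n25646
theorem D52838 : act 5 n25646 = n52838 := rfl
def n52839 : Q := act 3 n25647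
theorem D52839 : act 3 n25647 = n52839 := rfl
def n52840 : Q := act 4 n25647
theorem D52840 : act 4 n25647 = n52840 := rfl
theorem F83490 : act 2 n52840 = n52534 := d1_1 D52840 F83464 (iv2 F83466)
theorem F83491 : act 6 n52840 = n42372 := d10_2 F83461 D52840 F65469
theorem F83492 : act 7 n52840 = n48728 := d11_2 (iv7 F83460) D52840 (iv4 F83456)
theorem F83493 : act 3 n52840 = n52821 := d20_3 F83330 (iv1 F69006) D52840 (iv1 D52821) (iv3 F42248) F42249 F42228 (iv4 F77178) (iv3 F77181) (iv1 F83333)
theorem F83494 : act 0 n34812 = n52840 := d20_10 (iv4 D52840) (iv1 D25647) F20189 F20174 D12176 F27055 F12465 D7878 (iv4 F27612) D34812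
theorem F83495 : act 1 n52749 = n43437 := d18_6 F83494 (iv4 D52840) (iv1 D25647) F20189 D25607 D52749 (iv4 D43437) D43436 (iv5 F68290)
theorem F83496 : act 1 n48743 = n52840 := d15_0 (iv0 F83494) F55020 (iv2 F76759)
def n52841 : Q := act 5 n25647
theorem D52841 : act 5 n25647 = n52841 := rfl
theorem F83497 : act 0 n42410 = n52841 := d21_1 D42410 (iv5 D52841) (iv6 F83461) (iv1 D42394) (iv6 D20016) (iv5 D9438) (iv1 D4280) D4281 D9443 D20025
def n52842 : Q := act 0 n25648
theorem D52842 : act 0 n25648 = n52842 := rfl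
def n52843 : Q := act 4 n25648
theorem D52843 : act 4 n25648 = n52843 := rfl
def n52844 : Q := act 2 n25650
theorem D52844 : act 2 n25650 = n52844 := rfl
theorem F83498 : act 7 n25651 = n52844 := d15_2 (iv0 D25650) D25651 (iv2 D52844)
def n52845 : Q := act 3 n25650
theorem D52845 : act 3 n25650 = n52845 := rfl
def n52846 : Q := act 4 n25650
theorem D52846 : act 4 n25650 = n52846 := rfl
def n52847 : Q := act 5 n25650
theorem D52847 : act 5 n25650 = n52847 := rfl
def n52848 : Q := act 6 n25650
theorem D52848 : act 6 n25650 = n52848 := rfl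
theorem F83499 : act 5 n52848 = n34933 := d21_6 F8907 F5587 D5779 D12190 D25650 D52848 (iv1 D34933) (iv5 D16941) (iv6 D7902) (iv1 F8909)
def n52849 : Q := act 7 n25650
theorem D52849 : act 7 n25650 = n52849 := rfl
theorem F83500 : act 2 n52849 = n25651 := d4_1 D52849 F83498 (iv2 D52844)
def n52850 : Q := act 3 n25651
theorem D52850 : act 3 n25651 = n52850 := rfl
def n52851 : Q := act 4 n25651
theorem D52851 : act 4 n25651 = n52851 := rfl
def n52852 : Q := act 5 n25651
theorem D52852 : act 5 n25651 = n52852 := rfl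
def n52853 : Q := act 6 n25651
theorem D52853 : act 6 n25651 = n52853 := rfl
def n52854 : Q := act 0 n25652
theorem D52854 : act 0 n25652 = n52854 := rfl
def n52855 : Q := act 1 n25652
theorem D52855 : act 1 n25652 = n52855 := rfl
def n52856 : Q := act 4 n25652
theorem D52856 : act 4 n25652 = n52856 := rfl
theorem F83501 : act 6 n52856 = n25656 := d10_2 (iv6 F40547) D52856 (iv4 D25656)
def n52857 : Q := act 7 n25652
theorem D52857 : act 7 n25652 = n52857 := rfl
theorem F83502 : act 5 n52857 = n25653 := d13_1 D52857 (iv7 D25653) D25652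
def n52858 : Q := act 3 n25654
theorem D52858 : act 3 n25654 = n52858 := rfl
theorem F83503 : act 5 n52858 = n52467 := d6_2 (iv5 F40549) D52858 (iv3 D52467)
theorem F83504 : act 0 n25689 = n52858 := d17_2 (iv1 D25688) D25689 F83503 F82838 (iv5 F42356) F51648 (iv5 D12682) D12681 (iv4 F50904)
def n52859 : Q := act 6 n25654
theorem D52859 : act 6 n25654 = n52859 := rfl
def n52860 : Q := act 3 n25655
theorem D52860 : act 3 n25655 = n52860 := rfl
theorem F83505 : act 5 n52860 = n34921 := d6_2 (iv5 F40550) D52860 F55286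
def n52861 : Q := act 6 n25655
theorem D52861 : act 6 n25655 = n52861 := rfl
theorem F83506 : act 5 n52861 = n34936 := d12_1 D52861 (iv6 D34936) (iv5 D16943) D16944 (iv5 F40550)
def n52862 : Q := act 0 n25656
theorem D52862 : act 0 n25656 = n52862 := rfl
theorem F83507 : act 4 n52862 = n28496 := d18_3 (iv1 D25655) D25656 D52862 F46030 (iv4 D28363) F22681 (iv4 F37661) (iv0 F37663) (iv5 F40550)
theorem F83508 : act 2 n52771 = n52862 := d1_3 F83507 (iv2 F46031) D52771
theorem F83509 : act 7 n52774 = n52862 := d11_0 F83507 (iv7 F46032) D52774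
def n52863 : Q := act 1 n25656
theorem D52863 : act 1 n25656 = n52863 := rfl
theorem F83510 : act 7 n52863 = n52771 := d15_2 (iv0 D52862) D52863 F83508
theorem F83511 : act 4 n52863 = n28497 := d18_7 (iv1 F22747) (iv4 F22749) (iv1 F12660) (iv4 F8900) D12191 D25656 D52863 F46034 F40517

end Cfsg.Agent.Helper17.ONTC
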