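import Cfsg.Agent.Helper17.ONTC.Facts11

set_option autoImplicit false
set_option linter.all false

noncomputable section

namespace Cfsg.Agent.Helper17.ONTC

theorem F83512 : act 2 n52774 = n52863 := d1_3 F83511 (iv2 F46037) D52774
def n52864 : Q := act 3 n25656
theorem D52864 : act 3 n25656 = n52864 := rfl
def n52865 : Q := act 5 n25656
theorem D52865 : act 5 n25656 = n52865 := rfl
theorem F83513 : act 4 n52865 = n34418 := d16_2 D25656 D52865 F54611 F27328 F12071 (iv4 F27328) (iv5 F54611) (iv7 D34418) F27326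
theorem F83514 : act 7 n52865 = n34417 := d16_8 (iv4 D25656) (iv5 D12191) F8900 F7688 (iv4 F8900) D12191 D25656 D52865 F54609
theorem F83515 : act 0 n52865 = n52863 := d18_0 F83511 (iv1 D28497) D28498 (iv5 F83377) F83376 F46033 (iv4 F83507) (iv0 D52862) D52865
theorem F83516 : act 1 n52865 = n52862 := d15_1 (iv0 F83515) (iv7 F83509) F83512
def n52866 : Q := act 7 n25656
theorem D52866 : act 7 n25656 = n52866 := rfl
theorem F83517 : act 2 n52866 = n52865 := d4_1 D52866 F83514 F54609
theorem F83518 : act 4 n52866 = n25657 := d11_1 D52866 (iv7 D25657) D25656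
theorem F83519 : act 5 n52866 = n34417 := d13_1 D52866 (iv7 F83514) (iv5 D52865)
theorem F83520 : act 1 n52774 = n52866 := d15_1 (iv0 F83367) (iv7 D52866) (iv2 F54609)
theorem F83521 : act 1 n52866 = n52771 := d15_1 F83520 (iv7 F83510) (iv2 F83512)
def n52867 : Q := act 6 n25657
theorem D52867 : act 6 n25657 = n52867 := rfl
def n52868 : Q := act 4 n25658
theorem D52868 : act 4 n25658 = n52868 := rfl
theorem F83522 : act 2 n52868 = n25708 := d1_1 D52868 F40628 (iv2 F40552)
theorem F83523 : act 5 n52868 = n26587 := d9_2 D25658 D52868 (iv4 D26587) (iv5 D12708) (iv4 D6016) (iv5 D2533) (iv4 F3812) D5784 D12209 D25706 F40624 (iv5 D18369) F13556 (iv5 F9330) (iv4 F20194)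
theorem F83524 : act 7 n52868 = n25693 := d11_2 (iv7 F40553) D52868 (iv4 D25693)
theorem F83525 : act 0 n52868 = n25704 := d17_0 F40620 D45163 F71168 (iv4 D26706) (iv5 D12764) D12762 F27035 F40554 D52868
theorem F83526 : act 1 n52868 = n25703 := d18_6 (iv1 D12654) (iv4 D6003) D6000 (iv4 F20194) D25658 D52868 (iv4 F42847) F42846 (iv5 D26499)
theorem F83527 : act 3 n46558 = n52868 := d6_3 F83523 F42584 D46558
def n52869 : Q := act 6 n25658
theorem D52869 : act 6 n25658 = n52869 := rfl
theorem F83528 : act 2 n52869 = n25712 := d3_1 D52869 (iv6 D25712) (iv2 F40552)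
def n52870 : Q := act 5 n25659
theorem D52870 : act 5 n25659 = n52870 := rfl
theorem F83529 : act 2 n52870 = n25715 := d2_1 D52870 (iv5 D25715) (iv2 F40557)
theorem F83530 : act 7 n52870 = n33285 := d13_2 (iv7 F40559) D52870 (iv5 D33285)
def n52871 : Q := act 6 n25660
theorem D52871 : act 6 n25660 = n52871 := rfl
theorem F83531 : act 2 n52871 = n33178 := d3_1 D52871 (iv6 D33178) (iv2 F40560)
theorem F83532 : act 3 n52871 = n25662 := d7_1 D52871 (iv6 D25662) D25660
theorem F83533 : act 4 n52871 = n28523 := d10_1 D52871 (iv6 D28523) (iv4 F40561)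
theorem F83534 : act 0 n52871 = n26395 := d21_4 D17412 (iv1 F56645) F56647 D52871 (iv6 F82941) F82940 F69379 F68901 (iv6 F55282) (iv1 F28376)
theorem E8279 : n29236 = n28518 := (c20_1 F50608 (iv1 D28518) (iv4 F40570) (iv3 F83532) F83534 F42146 (iv4 D14067) F10892 D11391 D24229 (iv1 F42434))
theorem F83535 : act 2 n28518 = n13901 := (sb E8279 (iv2 D29236))
theorem F83536 : act 4 n28518 = n26511 := (sb E8279 (iv4 F50608))
theorem F83537 : act 1 n52871 = n26398 := d15_1 (iv0 F83534) (iv7 F52291) F52290
def n52872 : Q := act 4 n25661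
theorem D52872 : act 4 n25661 = n52872 := rfl
theorem F83538 : act 2 n52872 = n25673 := d1_1 D52872 (iv4 D25673) (iv2 F40565)
theorem F83539 : act 5 n52872 = n38571 := d9_2 D25661 D52872 (iv4 D38571) (iv5 F42850) (iv4 F51519) F51518 F40591 (iv5 F40597) (iv4 F51712) (iv5 F59399) (iv4 D38573) (iv5 F42856) (iv4 F42857) (iv5 D13598) (iv4 F37263)
theorem F83540 : act 7 n52872 = n25685 := d11_2 (iv7 F40566) D52872 (iv4 D25685)
def n52873 : Q := act 6 n25661
theorem D52873 : act 6 n25661 = n52873 := rfl
theorem F83541 : act 2 n52873 = n25674 := d3_1 D52873 (iv6 D25674) (iv2 F40565)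
def n52874 : Q := act 5 n25662
theorem D52874 : act 5 n25662 = n52874 := rfl
theorem F83542 : act 2 n52874 = n25678 := d2_1 D52874 (iv5 D25678) (iv2 F40569)
theorem F83543 : act 0 n52874 = n29017 := d17_2 (iv1 F54060) D52874 (iv5 D29017) F23069 D13839 (iv0 F38065) (iv5 D24284) F26987 (iv4 F47679)
def n52875 : Q := act 5 n25664
theorem D52875 : act 5 n25664 = n52875 := rfl
theorem F83544 : act 3 n52875 = n52809 := d6_1 D52875 (iv5 D52809) F40571
theorem F83545 : act 0 n52875 = n25696 := d17_2 F77231 D52875 (iv5 F42810) F42809 (iv5 F77582) (iv0 D49132) (iv5 D23974) (iv0 F37297) (iv4 F77229)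
theorem F83546 : act 4 n52875 = n35092 := d18_5 (iv1 F37436) D23971 F76730 F76729 D52875 F55752 (iv4 F54177) (iv0 F77557) (iv5 D49119)
def n52876 : Q := act 1 n25665
theorem D52876 : act 1 n25665 = n52876 := rfl
theorem F83547 : act 4 n52876 = n28435 := d17_9 (iv1 F54187) (iv5 D17039) F54130 D34027 (iv4 F83446) (iv5 D52812) F42424 D25665 D52876
def n52877 : Q := act 6 n25665
theorem D52877 : act 6 n25665 = n52877 := rfl
theorem F83548 : act 3 n52877 = n25674 := d7_1 D52877 (iv6 D25674) (iv3 F40572)
def n52878 : Q := act 1 n25666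
theorem D52878 : act 1 n25666 = n52878 := rfl
theorem F83549 : act 7 n52878 = n43880 := d15_2 (iv0 F69408) D52878 F68983
theorem F83550 : act 3 n43883 = n52878 := d20_9 (iv4 F77560) F77561 F39967 (iv3 D25305) (iv1 F19919) (iv3 F40034) (iv4 F47671) (iv1 F65522) (iv4 F68995) (iv1 D52878)
def n52879 : Q := act 5 n25666
theorem D52879 : act 5 n25666 = n52879 := rfl
theorem F83551 : act 3 n52879 = n25678 := d6_1 D52879 (iv5 D25678) (iv3 F40573)
def n52880 : Q := act 7 n25666
theorem D52880 : act 7 n25666 = n52880 := rfl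
theorem F83552 : act 3 n52880 = n25679 := d8_1 D52880 (iv7 D25679) (iv3 F40573)
theorem F83553 : act 4 n52880 = n52163 := d11_1 D52880 F82473 F77560
theorem F83554 : act 0 n43880 = n52880 := d20_10 F83553 (iv1 D52163) F40027 (iv3 D25333) (iv1 D12030) D12031 (iv4 F65513) (iv1 D20789) (iv4 F32956) (iv3 F68984)
def n52881 : Q := act 6 n25669
theorem D52881 : act 6 n25669 = n52881 := rfl
theorem F83555 : act 2 n52881 = n28516 := d3_1 D52881 (iv6 D28516) (iv2 F40584)
theorem F83556 : act 4 n52881 = n34574 := d10_1 D52881 (iv6 D34574) (iv4 F40586)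
def n52882 : Q := act 0 n25670
theorem D52882 : act 0 n25670 = n52882 := rfl
theorem F83557 : act 4 n52882 = n49810 := d20_2 (iv4 F40588) D52882 F78713 (iv1 F65045) F40034 F19917 (iv1 F10001) D6700 D14093 F54282
theorem F83558 : act 3 n52882 = n29216 := d20_5 D15976 (iv1 F54286) F54287 (iv3 F54276) D52882 (iv4 F50600) D52121 F82390 F42129 (iv1 F25402)
theorem F83559 : act 2 n28517 = n52882 := d15_3 (iv0 D52882) F54275 (iv7 F54058)
theorem F83560 : act 7 n52882 = n28518 := d4_2 (iv7 F54058) F83559 F83535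
theorem F83561 : act 1 n28520 = n52882 := d15_1 (iv0 F54050) F83560 F83535
def n52883 : Q := act 5 n25670
theorem D52883 : act 5 n25670 = n52883 := rfl
theorem F83562 : act 2 n52883 = n28519 := d2_1 D52883 (iv5 D28519) (iv2 F40587)
theorem F83563 : act 3 n52883 = n49850 := d6_1 D52883 F78833 (iv3 F54276)
theorem F83564 : act 1 n52883 = n29256 := d17_6 (iv1 D29611) D29612 F50921 (iv5 D25678) (iv4 F40588) D52883 F46918 (iv0 F78820) F78819
theorem F83565 : act 7 n49856 = n52883 := d8_0 F83563 (iv7 F78836) D49856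
def n52884 : Q := act 7 n25670
theorem D52884 : act 7 n25670 = n52884 := rfl
theorem F83566 : act 2 n52884 = n28520 := d4_1 D52884 (iv7 D28520) (iv2 F40587)
theorem F83567 : act 3 n52884 = n29201 := d8_1 D52884 (iv7 F54284) (iv3 F54276)
theorem F83568 : act 4 n52884 = n25679 := d11_1 D52884 (iv7 D25679) (iv4 F40588)
theorem F83569 : act 5 n52884 = n49856 := d13_1 D52884 F83565 (iv5 D52883)
theorem F83570 : act 6 n52884 = n32742 := d14_1 D52884 F83384 F55082 (iv7 D25671) D25670
theorem F83571 : act 1 n28518 = n52884 := d15_1 D28518 (iv7 D52884) F40587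
theorem F83572 : act 1 n52884 = n28517 := d15_1 F83571 F54058 (iv2 F83535)
def n52885 : Q := act 4 n25672
theorem D52885 : act 4 n25672 = n52885 := rfl
theorem F83573 : act 2 n52885 = n26706 := d1_1 D52885 (iv4 D26706) F40595
theorem F83574 : act 5 n52885 = n34579 := d9_2 (iv5 F40594) D52885 (iv4 D34579) (iv5 D16765) F12381 F5581 (iv4 F11537) D15243 D32344 (iv5 F58219) (iv4 F59379) F59375 (iv4 D26515) F26964 (iv4 F21195)
theorem F83575 : act 0 n52885 = n26537 := d17_0 F42492 F40625 (iv5 D25706) (iv4 D12209) (iv5 D5784) D5782 D12202 F40598 D52885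
theorem F83576 : act 1 n52885 = n26507 := d18_6 F40448 (iv4 D15254) (iv1 F11547) (iv4 F21195) (iv5 F40594) D52885 (iv4 D26507) D26506 F42426
def n52886 : Q := act 6 n25672
theorem D52886 : act 6 n25672 = n52886 := rfl
theorem F83577 : act 2 n52886 = n26707 := d3_1 D52886 (iv6 D26707) F40595
def n52887 : Q := act 0 n25673
theorem D52887 : act 0 n25673 = n52887 := rfl
theorem F83578 : act 4 n52887 = n35931 := d18_3 (iv1 F40568) D25673 D52887 (iv5 D35931) F28362 F41889 F41888 (iv0 D15240) D15243
theorem F83579 : act 1 n25685 = n52887 := d15_0 (iv0 D52887) (iv7 F51713) (iv2 F51714)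
def n52888 : Q := act 1 n25673
theorem D52888 : act 1 n25673 = n52888 := rfl
theorem F83580 : act 1 n52888 = n25685 := d15_1 D52888 (iv7 F83540) F83538
theorem F83581 : act 4 n52888 = n34980 := d18_7 F26648 (iv4 D15666) F20198 (iv4 D12196) D12197 D25673 D52888 F55407 F42429
def n52889 : Q := act 6 n25673
theorem D52889 : act 6 n25673 = n52889 := rfl
theorem F83582 : act 4 n52889 = n25674 := d10_1 D52889 (iv6 D25674) D25673
def n52890 : Q := act 0 n25674
theorem D52890 : act 0 n25674 = n52890 := rfl
def n52891 : Q := act 1 n25674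
theorem D52891 : act 1 n25674 = n52891 := rfl
def n52892 : Q := act 5 n25674
theorem D52892 : act 5 n25674 = n52892 := rfl
theorem F83583 : act 6 n52892 = n25678 := d12_2 D25674 D52892 (iv5 D25678) (iv6 D12198) D12197
def n52893 : Q := act 7 n25674
theorem D52893 : act 7 n25674 = n52893 := rfl
def n52894 : Q := act 6 n25675
theorem D52894 : act 6 n25675 = n52894 := rfl
theorem F83584 : act 2 n52894 = n25686 := d3_1 D52894 (iv6 D25686) (iv2 F40596)
def n52895 : Q := act 5 n25676
theorem D52895 : act 5 n25676 = n52895 := rfl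
theorem F83585 : act 2 n52895 = n29123 := d2_1 D52895 (iv5 D29123) (iv2 F54278)
def n52896 : Q := act 0 n25678
theorem D52896 : act 0 n25678 = n52896 := rfl
theorem F83586 : act 5 n52896 = n29016 := d17_3 F54282 D25678 D52896 F46654 (iv5 F42472) (iv0 D26530) (iv5 D12666) F26674 (iv4 F23551)
theorem F83587 : act 2 n29017 = n52896 := d15_3 (iv0 D52896) (iv0 F50921) F47552
def n52897 : Q := act 4 n25678
theorem D52897 : act 4 n25678 = n52897 := rfl
def n52898 : Q := act 7 n25678
theorem D52898 : act 7 n25678 = n52898 := rfl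
theorem F83588 : act 5 n52898 = n25679 := d13_1 D52898 (iv7 D25679) D25678
theorem F83589 : act 0 n29017 = n52898 := d21_1 D29017 F83588 F83385 (iv1 F83380) F50905 D32013 F83085 F83083 (iv6 F82794) (iv1 D29015)
def n52899 : Q := act 5 n25680
theorem D52899 : act 5 n25680 = n52899 := rfl
theorem F83590 : act 2 n52899 = n25689 := d2_1 D52899 (iv5 D25689) (iv2 F40600)
def n52900 : Q := act 4 n25681
theorem D52900 : act 4 n25681 = n52900 := rfl
theorem F83591 : act 0 n52900 = n35919 := d18_2 (iv1 F43270) D52900 (iv4 D35919) (iv5 D17389) (iv4 F12914) D15332 F43260 F43258 D26851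
theorem F83592 : act 1 n52900 = n35913 := d18_6 D12165 F25569 (iv1 F37287) F37289 D25681 D52900 (iv4 D35913) F28346 (iv5 D12168)
def n52901 : Q := act 6 n25681
theorem D52901 : act 6 n25681 = n52901 := rfl
theorem F83593 : act 3 n52901 = n25686 := d7_1 D52901 (iv6 D25686) (iv3 F40601)
def n52902 : Q := act 5 n25682
theorem D52902 : act 5 n25682 = n52902 := rfl
theorem F83594 : act 3 n52902 = n25689 := d6_1 D52902 (iv5 D25689) (iv3 F40602)
def n52903 : Q := act 6 n25683
theorem D52903 : act 6 n25683 = n52903 := rfl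
theorem F83595 : act 3 n52903 = n28544 := d7_1 D52903 (iv6 D28544) (iv3 F40603)
theorem F83596 : act 4 n52903 = n34576 := d10_1 D52903 (iv6 D34576) (iv4 F40606)
def n52904 : Q := act 1 n25684
theorem D52904 : act 1 n25684 = n52904 := rfl
theorem F83597 : act 1 n52904 = n32742 := d15_1 D52904 F83384 F55081
theorem F83598 : act 7 n52904 = n32741 := d15_2 (iv0 F50888) D52904 F51826
theorem F83599 : act 4 n52495 = n52904 := d20_0 (iv1 D52904) F40608 (iv3 F40602) F50918 F20208 F8914 D5791 D12224 D25754 (iv1 F82877)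
theorem F83600 : act 2 n52904 = n26338 := d1_1 F83599 F42494 (iv2 F82874)
theorem F83601 : act 6 n52904 = n31826 := d10_2 D52495 F83599 F50119
def n52905 : Q := act 5 n25684
theorem D52905 : act 5 n25684 = n52905 := rfl
theorem F83602 : act 3 n52905 = n28562 := d6_1 D52905 (iv5 D28562) (iv3 F40607)
def n52906 : Q := act 7 n25684
theorem D52906 : act 7 n25684 = n52906 := rfl
theorem F83603 : act 2 n52906 = n32742 := d4_1 D52906 F83384 F55081
theorem F83604 : act 3 n52906 = n26349 := d8_1 D52906 F50835 (iv3 F40607)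
theorem F83605 : act 4 n52906 = n25690 := d11_1 D52906 (iv7 D25690) (iv4 F40608)
theorem F83606 : act 6 n52906 = n28520 := d14_1 D52906 (iv7 D28520) (iv6 D13599) (iv7 F37250) D25684
theorem F83607 : act 1 n26338 = n52906 := d15_1 (iv0 F55084) (iv7 D52906) (iv2 F55081)
theorem F83608 : act 1 n52906 = n32741 := d15_1 F83607 (iv7 F83598) F83600
def n52907 : Q := act 3 n25685
theorem D52907 : act 3 n25685 = n52907 := rfl
def n52908 : Q := act 5 n25685
theorem D52908 : act 5 n25685 = n52908 := rfl
theorem F83609 : act 2 n52908 = n38573 := d2_1 D52908 F59399 (iv2 F51714)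
theorem F83610 : act 4 n52908 = n26585 := d9_1 D52908 F42575 (iv4 F40586) (iv5 D25669) (iv4 D12196) D12197 D25673 (iv5 F51763) F51762 F42578 (iv4 F40606) (iv5 D25683) (iv4 D12201) D12202 D25685
theorem F83611 : act 7 n52908 = n38571 := d13_2 F83540 D52908 (iv5 F83539)
def n52909 : Q := act 6 n25685
theorem D52909 : act 6 n25685 = n52909 := rfl
theorem F83612 : act 4 n52909 = n25686 := d10_1 D52909 (iv6 D25686) D25685
def n52910 : Q := act 0 n25686
theorem D52910 : act 0 n25686 = n52910 := rfl
def n52911 : Q := act 1 n25686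
theorem D52911 : act 1 n25686 = n52911 := rfl
def n52912 : Q := act 5 n25686
theorem D52912 : act 5 n25686 = n52912 := rfl
theorem F83613 : act 6 n52912 = n25689 := d12_2 D25686 D52912 (iv5 D25689) (iv6 D12203) D12202
def n52913 : Q := act 7 n25686
theorem D52913 : act 7 n25686 = n52913 := rfl
def n52914 : Q := act 5 n25688
theorem D52914 : act 5 n25688 = n52914 := rfl
theorem F83614 : act 2 n52914 = n32985 := d2_1 D52914 (iv5 D32985) (iv2 F50902)
theorem F83615 : act 7 n52914 = n33192 := d13_2 (iv7 F50906) D52914 (iv5 D33192)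
def n52915 : Q := act 1 n25689
theorem D52915 : act 1 n25689 = n52915 := rfl
def n52916 : Q := act 4 n25689
theorem D52916 : act 4 n25689 = n52916 := rfl
def n52917 : Q := act 7 n25689
theorem D52917 : act 7 n25689 = n52917 := rfl
theorem F83616 : act 5 n52917 = n25690 := d13_1 D52917 (iv7 D25690) D25689
def n52918 : Q := act 3 n25691
theorem D52918 : act 3 n25691 = n52918 := rfl
theorem F83617 : act 5 n52918 = n26849 := d6_2 (iv5 F40610) D52918 (iv3 F43261)
theorem F83618 : act 7 n52918 = n25700 := d8_2 (iv7 F42886) D52918 (iv3 D25700)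
theorem F83619 : act 2 n52918 = n33179 := d15_3 (iv0 D33179) (iv0 F41870) (iv7 F83618)
theorem F83620 : act 0 n26380 = n52918 := d17_2 F37292 D26380 F83617 (iv4 F43260) D32434 F52452 (iv5 D33216) (iv0 F37229) D23886
theorem F83621 : act 1 n26377 = n52918 := d17_6 (iv1 D6071) (iv5 F9348) (iv1 F26949) (iv5 D12584) D12583 D26377 F83617 F43258 (iv4 D12844)
def n52919 : Q := act 4 n25691
theorem D52919 : act 4 n25691 = n52919 := rfl
theorem F83622 : act 2 n52919 = n25697 := d1_1 D52919 (iv4 D25697) (iv2 F42885)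
theorem F83623 : act 5 n52919 = n38551 := d9_2 (iv5 F40610) D52919 (iv4 D38551) (iv5 D18363) D18362 F41890 F41888 (iv5 F40612) F51661 (iv5 F52024) F52023 (iv5 D18367) (iv4 F22808) (iv5 F25981) F25982
theorem F83624 : act 7 n52919 = n25701 := d11_2 (iv7 F42886) D52919 (iv4 D25701)
def n52920 : Q := act 6 n25691
theorem D52920 : act 6 n25691 = n52920 := rfl
theorem F83625 : act 2 n52920 = n25698 := d3_1 D52920 (iv6 D25698) (iv2 F42885)
def n52921 : Q := act 6 n25692
theorem D52921 : act 6 n25692 = n52921 := rfl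
theorem F83626 : act 2 n52921 = n25702 := d3_1 D52921 (iv6 D25702) (iv2 F42879)
def n52922 : Q := act 1 n25693
theorem D52922 : act 1 n25693 = n52922 := rfl
theorem F83627 : act 1 n52922 = n25708 := d15_1 D52922 (iv7 D25708) (iv2 F40613)
theorem F83628 : act 7 n52922 = n25703 := d15_2 F58226 D52922 (iv2 F58222)
theorem F83629 : act 5 n52922 = n39294 := d17_7 (iv1 F59377) (iv5 D18367) (iv1 D8651) D8653 D18373 (iv5 F40614) D52922 F60281 (iv4 F59379)
theorem F83630 : act 4 n52922 = n32365 := d17_9 (iv1 F51835) (iv5 D32747) (iv1 F26616) D26482 (iv4 F71091) (iv5 D45117) (iv0 F33892) (iv5 F40614) D52922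
theorem F83631 : act 2 n25704 = n52922 := d1_3 F83630 F51393 F40618
def n52923 : Q := act 3 n25693
theorem D52923 : act 3 n25693 = n52923 := rfl
theorem F83632 : act 5 n52923 = n38576 := d6_2 (iv5 F40614) D52923 (iv3 D38576)
theorem F83633 : act 7 n52923 = n46558 := d8_2 F83524 D52923 F83527
def n52924 : Q := act 6 n25693
theorem D52924 : act 6 n25693 = n52924 := rfl
theorem F83634 : act 2 n52924 = n25707 := d3_1 D52924 (iv6 D25707) (iv2 F40613)
theorem F83635 : act 4 n52924 = n25694 := d10_1 D52924 (iv6 D25694) D25693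
def n52925 : Q := act 0 n25694
theorem D52925 : act 0 n25694 = n52925 := rfl
def n52926 : Q := act 1 n25694
theorem D52926 : act 1 n25694 = n52926 := rfl
theorem F83636 : act 1 n52926 = n25711 := d15_1 D52926 (iv7 D25711) (iv2 F40615)
def n52927 : Q := act 7 n25694
theorem D52927 : act 7 n25694 = n52927 := rfl
theorem F83637 : act 2 n52927 = n25711 := d4_1 D52927 (iv7 D25711) (iv2 F40615)
theorem F83638 : act 1 n25711 = n52925 := d15_0 (iv0 D52925) D52927 F83637
theorem F83639 : act 1 n25710 = n52927 := d15_1 D25710 (iv7 D52927) F40615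
theorem F83640 : act 1 n52927 = n25709 := d15_0 (iv0 D25709) D25711 (iv2 F83637)
def n52928 : Q := act 2 n25696
theorem D52928 : act 2 n25696 = n52928 := rfl
theorem F83641 : act 3 n52928 = n33179 := d0_2 D25696 D52928 (iv2 F83619) (iv3 D52918) F42885
theorem F83642 : act 4 n52928 = n34362 := d1_2 F43299 D52928 (iv2 F54534)
theorem F83643 : act 5 n52928 = n34881 := d2_2 F42810 D52928 F55172
def n52929 : Q := act 6 n25696
theorem D52929 : act 6 n25696 = n52929 := rfl
theorem F83644 : act 3 n52929 = n25698 := d7_1 D52929 (iv6 D25698) D25696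
theorem F83645 : act 5 n52929 = n44013 := d12_1 D52929 (iv6 D44013) (iv5 F68081) F65145 F42810
def n52930 : Q := act 0 n25697
theorem D52930 : act 0 n25697 = n52930 := rfl
theorem F83646 : act 4 n52930 = n52680 := d18_3 D12207 D25697 D52930 F83253 (iv4 F40574) (iv0 D25667) (iv4 D12196) (iv0 D5781) D5784
theorem F83647 : act 1 n25701 = n52930 := d15_0 (iv0 D52930) (iv7 F51660) F51665
def n52931 : Q := act 1 n25697
theorem D52931 : act 1 n25697 = n52931 := rfl
theorem F83648 : act 1 n52931 = n25701 := d15_1 D52931 (iv7 F83624) F83622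
theorem F83649 : act 4 n52931 = n32747 := d18_7 F24929 (iv4 D15353) D15350 F24927 (iv5 F40556) D25697 D52931 F51835 (iv5 D32365)
def n52932 : Q := act 6 n25697
theorem D52932 : act 6 n25697 = n52932 := rfl
theorem F83650 : act 4 n52932 = n25698 := d10_1 D52932 (iv6 D25698) D25697
def n52933 : Q := act 0 n25698
theorem D52933 : act 0 n25698 = n52933 := rfl
def n52934 : Q := act 1 n25698
theorem D52934 : act 1 n25698 = n52934 := rfl
def n52935 : Q := act 5 n25698
theorem D52935 : act 5 n25698 = n52935 := rfl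
theorem F83651 : act 3 n52935 = n44013 := d6_1 D52935 (iv5 F83645) F83644
theorem F83652 : act 6 n52935 = n44011 := d12_2 D25698 D52935 F69243 (iv6 D26703) (iv5 F40556)
def n52936 : Q := act 7 n25698
theorem D52936 : act 7 n25698 = n52936 := rfl
def n52937 : Q := act 2 n25700
theorem D52937 : act 2 n25700 = n52937 := rfl
theorem F83653 : act 5 n52937 = n26848 := d2_2 F41869 D52937 (iv2 F43256)
theorem F83654 : act 7 n52937 = n33179 := d4_2 F83618 D52937 (iv2 F83619)
theorem F83655 : act 1 n52937 = n26377 := d15_0 F83621 F83618 D52937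
theorem F83656 : act 1 n26380 = n52937 := d15_0 F83655 F42102 (iv2 F42107)
def n52938 : Q := act 4 n25700
theorem D52938 : act 4 n25700 = n52938 := rfl
theorem F83657 : act 0 n52938 = n52642 := d18_2 (iv1 F42109) D52938 (iv4 D52642) F40409 (iv4 F20904) F37288 F37289 F37280 D16018
theorem F83658 : act 1 n52938 = n52640 := d18_6 D12142 F27262 (iv1 F41865) F41867 F41869 D52938 (iv4 D52640) (iv0 D25549) (iv5 D12145)
def n52939 : Q := act 6 n25700
theorem D52939 : act 6 n25700 = n52939 := rfl
theorem F83659 : act 3 n52939 = n25702 := d7_1 D52939 (iv6 D25702) D25700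
theorem F83660 : act 5 n52939 = n25702 := d12_1 D52939 (iv6 D25702) (iv5 F27035) (iv6 F50917) F41869
def n52940 : Q := act 3 n25701
theorem D52940 : act 3 n25701 = n52940 := rfl
def n52941 : Q := act 5 n25701
theorem D52941 : act 5 n25701 = n52941 := rfl
theorem F83661 : act 2 n52941 = n32851 := d2_1 D52941 F52024 F51665
theorem F83662 : act 4 n52941 = n26578 := d9_1 D52941 (iv5 D26578) D26577 F42569 F24927 (iv5 F40556) D25697 (iv5 F51823) F51822 (iv5 D26583) D26582 F42572 F24871 F27035 D25701
theorem F83663 : act 7 n52941 = n38551 := d13_2 F83624 D52941 (iv5 F83623)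
def n52942 : Q := act 6 n25701
theorem D52942 : act 6 n25701 = n52942 := rfl
theorem F83664 : act 4 n52942 = n25702 := d10_1 D52942 (iv6 D25702) D25701
def n52943 : Q := act 0 n25702
theorem D52943 : act 0 n25702 = n52943 := rfl
def n52944 : Q := act 1 n25702
theorem D52944 : act 1 n25702 = n52944 := rfl
def n52945 : Q := act 7 n25702
theorem D52945 : act 7 n25702 = n52945 := rfl
def n52946 : Q := act 3 n25703
theorem D52946 : act 3 n25703 = n52946 := rfl
theorem F83665 : act 2 n52946 = n45191 := d0_1 D52946 F71224 F33950 (iv3 F58223) F58222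
theorem F83666 : act 5 n52946 = n45190 := d6_2 (iv5 F58221) D52946 F71220
def n52947 : Q := act 6 n25703
theorem D52947 : act 6 n25703 = n52947 := rfl
theorem F83667 : act 4 n52947 = n42180 := d10_1 D52947 F65111 F42847
def n52948 : Q := act 6 n25704
theorem D52948 : act 6 n25704 = n52948 := rfl
theorem F83668 : act 3 n52948 = n45166 := d7_1 D52948 (iv6 D45166) (iv3 F40619)
theorem F83669 : act 4 n52948 = n35929 := d10_1 D52948 F56614 F40618
def n52949 : Q := act 0 n25705
theorem D52949 : act 0 n25705 = n52949 := rfl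
theorem F83670 : act 4 n52949 = n34957 := d18_3 (iv1 D25726) (iv4 F40621) D52949 (iv5 D34957) (iv4 D16962) (iv0 D7920) (iv4 F12499) D16917 (iv5 F40644)
theorem F83671 : act 2 n32596 = n52949 := d15_3 (iv0 D52949) (iv0 F55685) F55684
theorem F83672 : act 1 n48747 = n52949 := d15_0 (iv0 D52949) (iv7 F40622) (iv2 F76765)
theorem F83673 : act 7 n52949 = n48753 := d15_2 (iv0 F76767) F83672 (iv2 F76777)
def n52950 : Q := act 2 n25705
theorem D52950 : act 2 n25705 = n52950 := rfl
theorem F83674 : act 4 n52950 = n25727 := d1_2 (iv4 F40621) D52950 (iv2 D25727)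
theorem F83675 : act 7 n52950 = n48747 := d4_2 F40622 D52950 F76765
theorem F83676 : act 1 n52950 = n48753 := d15_0 (iv0 D48753) F40622 D52950
theorem F83677 : act 1 n32596 = n52950 := d15_0 F83676 (iv7 F83673) (iv2 F83671)
theorem F83678 : act 5 n49005 = n52950 := d17_7 (iv1 F77176) (iv5 D48940) (iv1 F37273) D23890 (iv4 F51628) (iv5 F56701) (iv0 F77352) F83676 F76776
def n52951 : Q := act 5 n25705
theorem D52951 : act 5 n25705 = n52951 := rfl
theorem F83679 : act 2 n52951 = n49005 := d2_1 D52951 F83678 (iv2 D52950)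
theorem F83680 : act 3 n52951 = n25706 := d6_1 D52951 (iv5 D25706) D25705
theorem F83681 : act 4 n52951 = n36091 := d9_1 D52951 F56835 (iv4 D23898) (iv5 D11193) (iv4 F18078) D23776 D48747 F76766 (iv4 D40142) (iv5 D18964) F13855 F5922 (iv4 F12406) (iv5 F20212) (iv4 F40621)
theorem F83682 : act 7 n52951 = n48754 := d13_2 F40622 D52951 (iv5 D48754)
theorem F83683 : act 0 n32675 = n52951 := d19_0 (iv5 D52951) F40621 (iv3 D12215) F8908 F8905 (iv4 D5164) F3460 F2177 (iv5 D1185) F1350 F1349 D713 F1352 D813 D1497 D3394 F25794 D15561 D32675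
def n52952 : Q := act 6 n25705
theorem D52952 : act 6 n25705 = n52952 := rfl
theorem F83684 : act 3 n52952 = n25707 := d7_1 D52952 (iv6 D25707) D25705
theorem F83685 : act 4 n52952 = n25728 := d10_1 D52952 (iv6 D25728) (iv4 F40621)
def n52953 : Q := act 6 n25706
theorem D52953 : act 6 n25706 = n52953 := rfl
theorem F83686 : act 2 n52953 = n38577 := d3_1 D52953 (iv6 D38577) (iv2 F40623)
theorem F83687 : act 4 n52953 = n38565 := d10_1 D52953 (iv6 D38565) (iv4 F40624)
def n52954 : Q := act 0 n25707
theorem D52954 : act 0 n25707 = n52954 := rfl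
def n52955 : Q := act 1 n25707
theorem D52955 : act 1 n25707 = n52955 := rfl
def n52956 : Q := act 5 n25707
theorem D52956 : act 5 n25707 = n52956 := rfl
def n52957 : Q := act 7 n25707
theorem D52957 : act 7 n25707 = n52957 := rfl
theorem F83688 : act 4 n52957 = n25711 := d11_1 D52957 (iv7 D25711) (iv4 F40626)
def n52958 : Q := act 6 n25708
theorem D52958 : act 6 n25708 = n52958 := rfl
theorem F83689 : act 3 n52958 = n48755 := d7_1 D52958 (iv6 D48755) (iv3 F40627)
theorem F83690 : act 4 n52958 = n25712 := d10_1 D52958 (iv6 D25712) (iv4 F40628)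
def n52959 : Q := act 2 n25709
theorem D52959 : act 2 n25709 = n52959 := rfl
theorem F83691 : act 7 n25710 = n52959 := d15_2 (iv0 D25709) D25710 (iv2 D52959)
def n52960 : Q := act 3 n25709
theorem D52960 : act 3 n25709 = n52960 := rfl
def n52961 : Q := act 4 n25709
theorem D52961 : act 4 n25709 = n52961 := rfl
def n52962 : Q := act 5 n25709
theorem D52962 : act 5 n25709 = n52962 := rfl
def n52963 : Q := act 6 n25709
theorem D52963 : act 6 n25709 = n52963 := rfl
def n52964 : Q := act 7 n25709
theorem D52964 : act 7 n25709 = n52964 := rfl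
theorem F83692 : act 2 n52964 = n25710 := d4_1 D52964 F83691 (iv2 D52959)
def n52965 : Q := act 3 n25710
theorem D52965 : act 3 n25710 = n52965 := rfl
def n52966 : Q := act 4 n25710
theorem D52966 : act 4 n25710 = n52966 := rfl
def n52967 : Q := act 5 n25710
theorem D52967 : act 5 n25710 = n52967 := rfl
def n52968 : Q := act 6 n25710
theorem D52968 : act 6 n25710 = n52968 := rfl
def n52969 : Q := act 6 n25711
theorem D52969 : act 6 n25711 = n52969 := rfl
theorem F83693 : act 3 n52969 = n25743 := d7_1 D52969 (iv6 D25743) (iv3 F40629)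
theorem F83694 : act 7 n52969 = n25712 := d14_2 D25711 D52969 (iv6 D25712) (iv7 D12211) D12210
def n52970 : Q := act 0 n25712
theorem D52970 : act 0 n25712 = n52970 := rfl
def n52971 : Q := act 1 n25712
theorem D52971 : act 1 n25712 = n52971 := rfl
def n52972 : Q := act 5 n25712
theorem D52972 : act 5 n25712 = n52972 := rfl
theorem F83695 : act 3 n52972 = n25746 := d6_1 D52972 (iv5 D25746) (iv3 F40630)
theorem F83696 : act 6 n52972 = n25715 := d12_2 D25712 D52972 (iv5 D25715) (iv6 D12212) (iv5 F20207)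
def n52973 : Q := act 3 n25713
theorem D52973 : act 3 n25713 = n52973 := rfl
def n52974 : Q := act 5 n25713
theorem D52974 : act 5 n25713 = n52974 := rfl
def n52975 : Q := act 6 n25713
theorem D52975 : act 6 n25713 = n52975 := rfl
theorem F83697 : act 4 n52975 = n29188 := d10_1 D52975 (iv6 F77244) F77243
theorem F83698 : act 7 n52975 = n33178 := d14_2 (iv7 F77238) D52975 (iv6 D33178) (iv7 F37291) D48960
theorem F83699 : act 1 n26398 = n52975 := d15_1 F83537 F83698 (iv2 F83531)
theorem F83700 : act 1 n52975 = n26395 := d15_1 F83699 F47689 F47686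
def n52976 : Q := act 0 n25715
theorem D52976 : act 0 n25715 = n52976 := rfl
theorem F83701 : act 1 n33285 = n52976 := d15_0 (iv0 D52976) (iv7 F83099) F83097
def n52977 : Q := act 1 n25715
theorem D52977 : act 1 n25715 = n52977 := rfl
theorem F83702 : act 1 n52977 = n33285 := d15_1 D52977 (iv7 F83530) F83529
def n52978 : Q := act 4 n25715
theorem D52978 : act 4 n25715 = n52978 := rfl
def n52979 : Q := act 4 n25718
theorem D52979 : act 4 n25718 = n52979 := rfl
theorem F83703 : act 2 n52979 = n25719 := d1_1 D52979 (iv4 D25719) D25718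
def n52980 : Q := act 6 n25718
theorem D52980 : act 6 n25718 = n52980 := rfl
theorem F83704 : act 2 n52980 = n25720 := d3_1 D52980 (iv6 D25720) D25718
def n52981 : Q := act 0 n25719
theorem D52981 : act 0 n25719 = n52981 := rfl
theorem F83705 : act 4 n52981 = n52689 := d18_3 F76681 D25719 D52981 F83264 (iv4 D25593) (iv0 D12170) (iv4 F8898) D12186 D25638
def n52982 : Q := act 1 n25719
theorem D52982 : act 1 n25719 = n52982 := rfl
theorem F83706 : act 4 n52982 = n52639 := d18_7 F40388 F40387 (iv1 D12155) (iv4 F18240) (iv5 F20210) D25719 D52982 (iv0 F83174) (iv5 D42182)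
theorem F83707 : act 5 n52982 = n35197 := d18_9 F83482 F83483 (iv1 D33443) (iv4 F52625) F83444 (iv4 D52810) F41850 D25719 D52982
theorem F83708 : act 3 n35198 = n52982 := d20_3 (iv4 F56273) F56274 (iv4 F55945) (iv1 D52982) F40635 (iv4 D25551) D25549 D52640 F83178 F54736
def n52983 : Q := act 5 n25719
theorem D52983 : act 5 n25719 = n52983 := rfl
theorem F83709 : act 3 n52983 = n52646 := d6_1 D52983 (iv5 D52646) (iv3 F40635)
theorem F83710 : act 0 n39938 = n52983 := d19_0 (iv5 D52983) (iv4 D25719) (iv3 D12213) (iv1 D5786) (iv5 D2421) (iv4 D1143) F1301 D705 F1326 (iv4 F902) F901 F903 D900 (iv4 F2222) D2567 D6088 F13764 D18886 D39938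
theorem F83711 : act 4 n52983 = n33597 := d20_0 (iv1 D33597) (iv4 F52877) (iv3 D33586) F25783 F22812 (iv4 D8848) D8846 D18886 D39938 F83710
def n52984 : Q := act 6 n25719
theorem D52984 : act 6 n25719 = n52984 := rfl
theorem F83712 : act 3 n52984 = n52647 := d7_1 D52984 (iv6 D52647) (iv3 F40635)
theorem F83713 : act 4 n52984 = n25720 := d10_1 D52984 (iv6 D25720) D25719
def n52985 : Q := act 0 n25720
theorem D52985 : act 0 n25720 = n52985 := rfl
def n52986 : Q := act 1 n25720
theorem D52986 : act 1 n25720 = n52986 := rfl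
def n52987 : Q := act 5 n25720
theorem D52987 : act 5 n25720 = n52987 := rfl
theorem F83714 : act 3 n52987 = n25723 := d6_1 D52987 (iv5 D25723) (iv3 F40636)
theorem F83715 : act 6 n52987 = n49117 := d12_2 D25720 D52987 (iv5 D49117) (iv6 D23963) (iv5 F20210)
def n52988 : Q := act 7 n25720
theorem D52988 : act 7 n25720 = n52988 := rfl
theorem F83716 : act 3 n52988 = n25724 := d8_1 D52988 (iv7 D25724) (iv3 F40636)
theorem F83717 : act 6 n52988 = n44066 := d14_1 D52988 (iv7 D44066) F33116 F27686 D25720
def n52989 : Q := act 2 n25721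
theorem D52989 : act 2 n25721 = n52989 := rfl
theorem F83718 : act 7 n25722 = n52989 := d15_2 (iv0 D25721) D25722 (iv2 D52989)
def n52990 : Q := act 3 n25721
theorem D52990 : act 3 n25721 = n52990 := rfl
def n52991 : Q := act 4 n25721
theorem D52991 : act 4 n25721 = n52991 := rfl
def n52992 : Q := act 5 n25721
theorem D52992 : act 5 n25721 = n52992 := rfl
def n52993 : Q := act 6 n25721
theorem D52993 : act 6 n25721 = n52993 := rfl
def n52994 : Q := act 7 n25721
theorem D52994 : act 7 n25721 = n52994 := rfl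
theorem F83719 : act 2 n52994 = n25722 := d4_1 D52994 F83718 (iv2 D52989)
def n52995 : Q := act 3 n25722
theorem D52995 : act 3 n25722 = n52995 := rfl
def n52996 : Q := act 4 n25722
theorem D52996 : act 4 n25722 = n52996 := rfl
def n52997 : Q := act 5 n25722
theorem D52997 : act 5 n25722 = n52997 := rfl
def n52998 : Q := act 6 n25722
theorem D52998 : act 6 n25722 = n52998 := rfl
def n52999 : Q := act 0 n25723
theorem D52999 : act 0 n25723 = n52999 := rfl
def n53000 : Q := act 1 n25723
theorem D53000 : act 1 n25723 = n53000 := rfl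
theorem F83720 : act 5 n52793 = n53000 := d21_6 (iv5 D2421) D2418 D5776 D12182 D25624 D52793 (iv1 D53000) (iv5 D25723) (iv6 D12214) (iv1 D5786)
def n53001 : Q := act 4 n25723
theorem D53001 : act 4 n25723 = n53001 := rfl
theorem F83721 : act 2 n53001 = n45333 := d1_1 D53001 F71431 F43577
theorem F83722 : act 6 n53001 = n45331 := d10_2 (iv6 F40637) D53001 F71423
def n53002 : Q := act 7 n25723
theorem D53002 : act 7 n25723 = n53002 := rfl
theorem F83723 : act 5 n53002 = n25724 := d13_1 D53002 (iv7 D25724) D25723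
def n53003 : Q := act 6 n25725
theorem D53003 : act 6 n25725 = n53003 := rfl
theorem F83724 : act 2 n53003 = n48752 := d3_1 D53003 (iv6 D48752) F40642
theorem F83725 : act 3 n53003 = n26992 := d7_1 D53003 F43578 (iv3 F40639)
theorem F83726 : act 5 n53003 = n26989 := d12_1 D53003 (iv6 D26989) (iv5 D12919) D12920 (iv5 F40641)
def n53004 : Q := act 4 n25726
theorem D53004 : act 4 n25726 = n53004 := rfl
theorem F83727 : act 2 n53004 = n37332 := d1_1 D53004 F58269 (iv2 F40645)
theorem F83728 : act 5 n53004 = n37331 := d9_2 (iv5 F40644) D53004 F58267 F57750 F30275 (iv5 D12938) (iv4 F21476) (iv5 F40641) (iv4 F59961) F59962 F33966 F30273 (iv4 F30271) F27028 F27726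
theorem F83729 : act 7 n53004 = n48751 := d11_2 (iv7 F40643) D53004 (iv4 D48751)
def n53005 : Q := act 6 n25727
theorem D53005 : act 6 n25727 = n53005 := rfl
theorem F83730 : act 2 n53005 = n25728 := d3_1 D53005 (iv6 D25728) D25727
theorem F83731 : act 3 n53005 = n52869 := d7_1 D53005 (iv6 D52869) (iv3 F40649)
def n53006 : Q := act 0 n25728
theorem D53006 : act 0 n25728 = n53006 := rfl
def n53007 : Q := act 1 n25728
theorem D53007 : act 1 n25728 = n53007 := rfl
def n53008 : Q := act 5 n25728
theorem D53008 : act 5 n25728 = n53008 := rfl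
theorem F83732 : act 3 n53008 = n25731 := d6_1 D53008 (iv5 D25731) (iv3 F40654)
theorem F83733 : act 6 n53008 = n34811 := d12_2 D25728 D53008 (iv5 D34811) (iv6 D16867) (iv5 F20212)
def n53009 : Q := act 7 n25728
theorem D53009 : act 7 n25728 = n53009 := rfl
theorem F83734 : act 3 n53009 = n25732 := d8_1 D53009 (iv7 D25732) (iv3 F40654)
theorem F83735 : act 6 n53009 = n48758 := d14_1 D53009 (iv7 D48758) (iv6 D23780) (iv7 F20213) D25728
def n53010 : Q := act 2 n25729
theorem D53010 : act 2 n25729 = n53010 := rfl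
def n53011 : Q := act 3 n25729
theorem D53011 : act 3 n25729 = n53011 := rfl
def n53012 : Q := act 4 n25729
theorem D53012 : act 4 n25729 = n53012 := rfl
def n53013 : Q := act 5 n25729
theorem D53013 : act 5 n25729 = n53013 := rfl
def n53014 : Q := act 6 n25729
theorem D53014 : act 6 n25729 = n53014 := rfl
def n53015 : Q := act 7 n25729
theorem D53015 : act 7 n25729 = n53015 := rfl
def n53016 : Q := act 3 n25730
theorem D53016 : act 3 n25730 = n53016 := rfl
def n53017 : Q := act 4 n25730
theorem D53017 : act 4 n25730 = n53017 := rfl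
def n53018 : Q := act 5 n25730
theorem D53018 : act 5 n25730 = n53018 := rfl
def n53019 : Q := act 6 n25730
theorem D53019 : act 6 n25730 = n53019 := rfl
def n53020 : Q := act 0 n25731
theorem D53020 : act 0 n25731 = n53020 := rfl
def n53021 : Q := act 1 n25731
theorem D53021 : act 1 n25731 = n53021 := rfl
def n53022 : Q := act 4 n25731
theorem D53022 : act 4 n25731 = n53022 := rfl
theorem F83738 : act 6 n53022 = n34817 := d10_2 (iv6 F40655) D53022 (iv4 D34817)
def n53023 : Q := act 7 n25731
theorem D53023 : act 7 n25731 = n53023 := rfl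
theorem F83739 : act 5 n53023 = n25732 := d13_1 D53023 (iv7 D25732) D25731
def n53024 : Q := act 0 n25733
theorem D53024 : act 0 n25733 = n53024 := rfl
theorem F83740 : act 1 n25738 = n53024 := d15_0 (iv0 D53024) (iv7 F40658) (iv2 F40659)
def n53026 : Q := act 3 n25733
theorem D53026 : act 3 n25733 = n53026 := rfl
theorem F83742 : act 7 n53026 = n25739 := d8_2 F40658 D53026 (iv3 D25739)
def n53027 : Q := act 4 n25733
theorem D53027 : act 4 n25733 = n53027 := rfl
theorem F83743 : act 2 n53027 = n25735 := d1_1 D53027 (iv4 D25735) D25733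
theorem F83744 : act 7 n53027 = n25740 := d11_2 F40658 D53027 (iv4 D25740)
def n53028 : Q := act 5 n25733
theorem D53028 : act 5 n25733 = n53028 := rfl
theorem F83745 : act 2 n53028 = n25736 := d2_1 D53028 (iv5 D25736) D25733
theorem F83746 : act 7 n53028 = n25741 := d13_2 F40658 D53028 (iv5 D25741)
def n53029 : Q := act 6 n25733
theorem D53029 : act 6 n25733 = n53029 := rfl
theorem F83747 : act 2 n53029 = n25737 := d3_1 D53029 (iv6 D25737) D25733
def n53030 : Q := act 0 n25734
theorem D53030 : act 0 n25734 = n53030 := rfl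
def n53031 : Q := act 1 n25734
theorem D53031 : act 1 n25734 = n53031 := rfl
def n53032 : Q := act 2 n25734
theorem D53032 : act 2 n25734 = n53032 := rfl
def n53033 : Q := act 4 n25734
theorem D53033 : act 4 n25734 = n53033 := rfl
def n53034 : Q := act 5 n25734
theorem D53034 : act 5 n25734 = n53034 := rfl
theorem F83748 : act 3 n53034 = n25736 := d6_1 D53034 (iv5 D25736) D25734
def n53035 : Q := act 6 n25734
theorem D53035 : act 6 n25734 = n53035 := rfl
theorem F83749 : act 3 n53035 = n25737 := d7_1 D53035 (iv6 D25737) D25734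
def n53036 : Q := act 7 n25734
theorem D53036 : act 7 n25734 = n53036 := rfl
theorem F83750 : act 3 n53036 = n25738 := d8_1 D53036 (iv7 D25738) D25734
def n53037 : Q := act 0 n25735
theorem D53037 : act 0 n25735 = n53037 := rfl
def n53038 : Q := act 1 n25735
theorem D53038 : act 1 n25735 = n53038 := rfl
def n53039 : Q := act 3 n25735
theorem D53039 : act 3 n25735 = n53039 := rfl
def n53040 : Q := act 5 n25735
theorem D53040 : act 5 n25735 = n53040 := rfl
def n53041 : Q := act 6 n25735
theorem D53041 : act 6 n25735 = n53041 := rfl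
theorem F83752 : act 4 n53041 = n25737 := d10_1 D53041 (iv6 D25737) D25735
def n53042 : Q := act 7 n25735
theorem D53042 : act 7 n25735 = n53042 := rfl
theorem F83753 : act 2 n53042 = n25740 := d4_1 D53042 (iv7 F83744) F83743
theorem F83754 : act 4 n53042 = n25738 := d11_1 D53042 (iv7 D25738) D25735
theorem F83755 : act 1 n25740 = n53037 := d15_0 (iv0 D53037) D53042 F83753
def n53043 : Q := act 0 n25736
theorem D53043 : act 0 n25736 = n53043 := rfl
theorem F83756 : act 5 n53043 = n52853 := d21_2 D25736 D53043 (iv6 D52853) (iv1 D25651) (iv6 D12190) (iv5 D5779) (iv1 D2419) D2421 D5788 D12217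
def n53044 : Q := act 1 n25736
theorem D53044 : act 1 n25736 = n53044 := rfl
theorem F83757 : act 1 n53044 = n25741 := d15_1 D53044 (iv7 F83746) F83745
def n53045 : Q := act 4 n25736
theorem D53045 : act 4 n25736 = n53045 := rfl
def n53046 : Q := act 6 n25736
theorem D53046 : act 6 n25736 = n53046 := rfl
def n53047 : Q := act 7 n25736
theorem D53047 : act 7 n25736 = n53047 := rfl
theorem F83758 : act 2 n53047 = n25741 := d4_1 D53047 (iv7 F83746) F83745
theorem F83759 : act 5 n53047 = n25738 := d13_1 D53047 (iv7 D25738) D25736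
theorem F83760 : act 1 n25741 = n53043 := d15_0 (iv0 D53043) D53047 F83758
def n53048 : Q := act 0 n25737
theorem D53048 : act 0 n25737 = n53048 := rfl
def n53049 : Q := act 1 n25737
theorem D53049 : act 1 n25737 = n53049 := rfl
def n53050 : Q := act 7 n25737
theorem D53050 : act 7 n25737 = n53050 := rfl
def n53051 : Q := act 6 n25738
theorem D53051 : act 6 n25738 = n53051 := rfl
theorem F83761 : act 2 n53051 = n25742 := d3_1 D53051 (iv6 D25742) (iv2 F40659)
def n53052 : Q := act 0 n25739
theorem D53052 : act 0 n25739 = n53052 := rfl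
def n53053 : Q := act 1 n25739
theorem D53053 : act 1 n25739 = n53053 := rfl
def n53054 : Q := act 2 n25739
theorem D53054 : act 2 n25739 = n53054 := rfl
def n53055 : Q := act 4 n25739
theorem D53055 : act 4 n25739 = n53055 := rfl
def n53056 : Q := act 5 n25739
theorem D53056 : act 5 n25739 = n53056 := rfl
theorem F83762 : act 3 n53056 = n25741 := d6_1 D53056 (iv5 D25741) D25739
def n53057 : Q := act 6 n25739
theorem D53057 : act 6 n25739 = n53057 := rfl
theorem F83763 : act 3 n53057 = n25742 := d7_1 D53057 (iv6 D25742) D25739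
def n53058 : Q := act 3 n25740
theorem D53058 : act 3 n25740 = n53058 := rfl
def n53059 : Q := act 5 n25740
theorem D53059 : act 5 n25740 = n53059 := rfl
def n53060 : Q := act 6 n25740
theorem D53060 : act 6 n25740 = n53060 := rfl
theorem F83764 : act 4 n53060 = n25742 := d10_1 D53060 (iv6 D25742) D25740
def n53061 : Q := act 4 n25741
theorem D53061 : act 4 n25741 = n53061 := rfl
def n53062 : Q := act 6 n25741
theorem D53062 : act 6 n25741 = n53062 := rfl
theorem F83765 : act 0 n52019 = n53062 := d21_4 F20061 (iv1 F19811) D25249 D52019 (iv6 D53062) (iv5 D25741) (iv1 D12218) (iv5 F20063) (iv6 D12134) D12131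
def n53063 : Q := act 0 n25742
theorem D53063 : act 0 n25742 = n53063 := rfl
def n53064 : Q := act 1 n25742
theorem D53064 : act 1 n25742 = n53064 := rfl
def n53065 : Q := act 5 n25742
theorem D53065 : act 5 n25742 = n53065 := rfl
theorem F83766 : act 0 n52792 = n53065 := d21_1 D52792 (iv5 D53065) (iv6 D25742) (iv1 D12218) (iv6 D5788) (iv5 D2421) D2418 D5776 D12182 D25624
def n53066 : Q := act 7 n25742
theorem D53066 : act 7 n25742 = n53066 := rfl
def n53067 : Q := act 5 n25743
theorem D53067 : act 5 n25743 = n53067 := rfl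
theorem F83767 : act 2 n53067 = n53023 := d2_1 D53067 F83739 (iv2 F40660)
theorem F83768 : act 7 n53067 = n25746 := d13_2 (iv7 F40662) D53067 (iv5 D25746)
theorem F83769 : act 1 n53021 = n53067 := d15_1 D53021 F83768 F40667
theorem F83770 : act 1 n53067 = n53020 := d15_0 (iv0 D53020) D53023 (iv2 F83767)
def n53068 : Q := act 2 n25744
theorem D53068 : act 2 n25744 = n53068 := rfl
def n53069 : Q := act 3 n25744
theorem D53069 : act 3 n25744 = n53069 := rfl
def n53070 : Q := act 4 n25744
theorem D53070 : act 4 n25744 = n53070 := rfl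
def n53071 : Q := act 5 n25744
theorem D53071 : act 5 n25744 = n53071 := rfl
def n53072 : Q := act 6 n25744
theorem D53072 : act 6 n25744 = n53072 := rfl
def n53073 : Q := act 7 n25744
theorem D53073 : act 7 n25744 = n53073 := rfl
def n53074 : Q := act 3 n25745
theorem D53074 : act 3 n25745 = n53074 := rfl
def n53075 : Q := act 4 n25745
theorem D53075 : act 4 n25745 = n53075 := rfl
def n53076 : Q := act 5 n25745
theorem D53076 : act 5 n25745 = n53076 := rfl
def n53077 : Q := act 6 n25745
theorem D53077 : act 6 n25745 = n53077 := rfl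
def n53078 : Q := act 0 n25746
theorem D53078 : act 0 n25746 = n53078 := rfl
theorem F83773 : act 1 n53023 = n53078 := d15_0 (iv0 D53078) (iv7 F83768) F83767
def n53079 : Q := act 1 n25746
theorem D53079 : act 1 n25746 = n53079 := rfl
theorem F83774 : act 1 n53079 = n53023 := d15_1 D53079 (iv7 D53023) (iv2 F40667)
def n53080 : Q := act 4 n25746
theorem D53080 : act 4 n25746 = n53080 := rfl
theorem F83775 : act 2 n53080 = n53022 := d1_1 D53080 (iv4 D53022) (iv2 F40667)
theorem F83776 : act 6 n53080 = n25753 := d10_2 (iv6 F40668) D53080 (iv4 D25753)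
def n53081 : Q := act 0 n25747
theorem D53081 : act 0 n25747 = n53081 := rfl
theorem F83777 : act 5 n53081 = n26869 := d17_3 D12221 D25747 D53081 F43319 (iv5 F40677) (iv0 D25756) (iv5 D12225) (iv0 D5791) (iv4 F8914)
theorem F83778 : act 1 n25749 = n53081 := d15_0 (iv0 D53081) (iv7 F55024) F55023
theorem F83779 : act 2 n34941 = n53081 := d2_3 F83777 F43318 D34941
def n53082 : Q := act 1 n25747
theorem D53082 : act 1 n25747 = n53082 := rfl
theorem F83780 : act 1 n53082 = n25749 := d15_1 D53082 (iv7 F55022) F55021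
theorem F83781 : act 7 n53082 = n34941 := d15_2 (iv0 D53081) D53082 F83779
theorem F83782 : act 5 n53082 = n34018 := d17_7 F27804 (iv5 D16957) F22832 (iv5 D13682) (iv4 F20217) D25747 D53082 (iv0 F53342) F47547
def n53083 : Q := act 4 n25747
theorem D53083 : act 4 n25747 = n53083 := rfl
def n53084 : Q := act 6 n25747
theorem D53084 : act 6 n25747 = n53084 := rfl
theorem F83783 : act 5 n53084 = n49202 := d12_1 D53084 (iv6 D49202) (iv5 D24012) F20218 D25747
def n53085 : Q := act 5 n25748
theorem D53085 : act 5 n25748 = n53085 := rfl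
theorem F83784 : act 2 n53085 = n43435 := d2_1 D53085 F83441 F76759
theorem F83785 : act 3 n53085 = n25749 := d6_1 D53085 (iv5 D25749) D25748
theorem F83786 : act 7 n53085 = n43436 := d13_2 F55020 D53085 (iv5 F68290)
theorem F83787 : act 0 n42405 = n53085 := d21_7 D52808 F83435 (iv5 D42400) (iv6 D20022) (iv1 F14671) D20024 D42405 (iv5 D53085) F76756 (iv1 F76757)
def n53086 : Q := act 4 n25749
theorem D53086 : act 4 n25749 = n53086 := rfl
def n53087 : Q := act 6 n25749
theorem D53087 : act 6 n25749 = n53087 := rfl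
def n53088 : Q := act 3 n25751
theorem D53088 : act 3 n25751 = n53088 := rfl
def n53089 : Q := act 4 n25751
theorem D53089 : act 4 n25751 = n53089 := rfl
theorem F83788 : act 5 n53089 = n53086 := d16_1 D53089 (iv4 D53086) (iv5 D25749) (iv4 F20219) (iv5 F27715) (iv4 F55159) F55161 F55028 (iv2 F55026)
theorem F83789 : act 1 n53089 = n49158 := d18_6 F46292 F27800 F22832 D28706 F46282 D53089 (iv4 D49158) D49157 (iv5 F77617)
def n53090 : Q := act 6 n25751
theorem D53090 : act 6 n25751 = n53090 := rfl
def n53091 : Q := act 4 n25752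
theorem D53091 : act 4 n25752 = n53091 := rfl
theorem F83790 : act 5 n53091 = n53083 := d9_2 F55161 D53091 (iv4 D53083) (iv5 D25747) F20217 D13682 D28706 F46282 D53089 F83788 (iv4 D53086) (iv5 D25749) (iv4 F20219) (iv5 F27715) (iv4 F55159)
theorem F83791 : act 0 n53091 = n49158 := d18_2 (iv1 F55036) D53091 (iv4 D49158) (iv5 D23985) F18277 D11241 F20219 F27625 (iv5 F55035)
def n53092 : Q := act 6 n25752
theorem D53092 : act 6 n25752 = n53092 := rfl
def n53093 : Q := act 0 n25753
theorem D53093 : act 0 n25753 = n53093 := rfl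
theorem F83792 : act 4 n53093 = n34846 := d18_3 (iv1 D25752) D25753 D53093 F55109 (iv4 D25757) (iv0 F20224) (iv4 F27790) F55162 F55161
def n53094 : Q := act 1 n25753
theorem D53094 : act 1 n25753 = n53094 := rfl
theorem F83793 : act 4 n53094 = n34847 := d18_7 F37419 (iv4 D12226) (iv1 D5792) (iv4 F8914) D12223 D25753 D53094 (iv0 F77538) (iv5 D49111)
def n53095 : Q := act 3 n25753
theorem D53095 : act 3 n25753 = n53095 := rfl
def n53096 : Q := act 5 n25753
theorem D53096 : act 5 n25753 = n53096 := rfl
theorem F83794 : act 2 n53096 = n52620 := d2_1 D53096 F83113 F55033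
theorem F83795 : act 7 n53096 = n34817 := d13_2 F83112 D53096 (iv5 F83113)
theorem F83796 : act 4 n53096 = n34818 := d16_2 D25753 D53096 F55035 F27623 F12427 (iv4 F27623) (iv5 F55035) (iv7 D34818) F27621
theorem F83797 : act 0 n53093 = n53096 := d18_2 D34846 (iv4 F83792) F83796 F55035 F27623 F12430 D12224 (iv0 F20221) D16894
theorem F83798 : act 1 n53094 = n53096 := d15_1 D53094 F83795 F55033
def n53097 : Q := act 5 n25754
theorem D53097 : act 5 n25754 = n53097 := rfl
theorem F83799 : act 3 n53097 = n25755 := d6_1 D53097 (iv5 D25755) D25754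
theorem F83800 : act 7 n53097 = n26540 := d13_2 (iv7 F40674) D53097 (iv5 D26540)
def n53098 : Q := act 4 n25755
theorem D53098 : act 4 n25755 = n53098 := rfl
theorem F83801 : act 5 n53098 = n53094 := d16_1 D53098 F83793 (iv5 F55110) (iv4 D25760) (iv5 D12227) D12226 D25759 (iv7 F55042) F55041
def n53099 : Q := act 6 n25755
theorem D53099 : act 6 n25755 = n53099 := rfl
theorem F83802 : act 5 n53099 = n49328 := d12_1 D53099 (iv6 D49328) F37687 (iv6 F20220) D25755
def n53100 : Q := act 4 n25756
theorem D53100 : act 4 n25756 = n53100 := rfl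
theorem F83803 : act 2 n53100 = n34018 := d1_1 D53100 (iv4 D34018) F40679
theorem F83804 : act 6 n53100 = n28501 := d10_2 (iv6 F40678) D53100 (iv4 D28501)
theorem F83805 : act 7 n53100 = n26869 := d11_2 (iv7 F40681) D53100 F43319
theorem F83806 : act 0 n53100 = n34878 := d17_0 F55161 (iv1 D25752) (iv5 D12223) F8914 F3815 D5792 D12227 F40680 D53100
theorem F83807 : act 1 n53100 = n28706 := d18_6 F27803 (iv4 F51379) (iv1 F51381) F43319 (iv5 F40677) D53100 (iv4 D28706) (iv0 F22832) D16957
def n53101 : Q := act 3 n25757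
theorem D53101 : act 3 n25757 = n53101 := rfl
theorem F83808 : act 4 n53101 = n26718 := d5_2 D25757 D53101 F42829 F23104 (iv3 F20222)
theorem F83809 : act 6 n53101 = n26716 := d7_2 (iv6 F40682) D53101 F42826
theorem F83810 : act 0 n52651 = n53101 := d20_10 F83808 F42831 (iv4 F82838) (iv3 D52467) F40258 (iv3 F45856) F45857 (iv1 F55632) (iv4 F55634) (iv3 F83198)
def n53102 : Q := act 5 n25758
theorem D53102 : act 5 n25758 = n53102 := rfl
theorem F83811 : act 3 n53102 = n25759 := d6_1 D53102 (iv5 D25759) D25758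
def n53103 : Q := act 4 n25759
theorem D53103 : act 4 n25759 = n53103 := rfl
theorem F83812 : act 5 n53103 = n53093 := d9_2 D25759 D53103 F83792 F55109 (iv4 D25757) (iv5 D12225) D12224 D25755 D53098 F83801 F83793 (iv5 F55110) (iv4 D25760) (iv5 D12227) D12226
def n53104 : Q := act 6 n25759
theorem D53104 : act 6 n25759 = n53104 := rfl
theorem F83813 : act 5 n53104 = n49056 := d12_1 D53104 (iv6 D49056) (iv5 D23934) F26999 D25759
def n53105 : Q := act 4 n25761
theorem D53105 : act 4 n25761 = n53105 := rfl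
theorem F83814 : act 2 n53105 = n30205 := d1_1 D53105 (iv4 D30205) (iv2 F40688)
theorem F83815 : act 7 n53105 = n29812 := d11_2 (iv7 F40690) D53105 (iv4 D29812)
theorem F83816 : act 0 n53105 = n28855 := d18_2 (iv1 F47568) D53105 (iv4 D28855) F23262 (iv4 F22963) (iv0 F37937) (iv4 F38382) (iv0 F78204) F78203
theorem F83817 : act 1 n53105 = n28853 := d18_6 F19482 (iv4 F18082) F20232 (iv4 F20230) D25761 D53105 (iv4 D28853) (iv0 D13753) (iv5 D6547)
def n53106 : Q := act 4 n25762
theorem D53106 : act 4 n25762 = n53106 := rfl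
theorem F83818 : act 2 n53106 = n29812 := d1_1 D53106 (iv4 D29812) (iv2 F40691)
theorem F83819 : act 7 n53106 = n30205 := d11_2 (iv7 F40693) D53106 (iv4 D30205)
theorem F83820 : act 0 n53106 = n28853 := d18_2 F47494 D53106 (iv4 D28853) (iv5 F38743) (iv4 F45682) F46390 F46388 F40709 D29590
theorem F83821 : act 1 n53106 = n28855 := d18_6 (iv1 F10765) (iv4 F22137) F23750 F23747 D25762 D53106 (iv4 D28855) F23261 (iv5 D13969)
def n53107 : Q := act 6 n25762
theorem D53107 : act 6 n25762 = n53107 := rfl
theorem F83822 : act 2 n53107 = n29813 := d3_1 D53107 (iv6 D29813) (iv2 F40691)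
theorem F83823 : act 3 n53107 = n49352 := d7_1 D53107 (iv6 D49352) (iv3 F40692)
def n53108 : Q := act 6 n25763
theorem D53108 : act 6 n25763 = n53108 := rfl
theorem F83824 : act 2 n53108 = n30208 := d3_1 D53108 (iv6 D30208) (iv2 F40704)
theorem F83825 : act 3 n53108 = n29785 := d7_1 D53108 (iv6 D29785) F40703
theorem F83826 : act 5 n53108 = n30679 := d12_1 D53108 (iv6 D30679) (iv5 F38483) (iv6 F79304) F79302
def n53109 : Q := act 3 n25764
theorem D53109 : act 3 n25764 = n53109 := rfl
theorem F83827 : act 4 n53109 = n25772 := d5_2 D25764 D53109 (iv3 D25772) (iv4 D12236) (iv3 F20236)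
theorem F83828 : act 6 n53109 = n30063 := d7_2 (iv6 F40695) D53109 (iv3 D30063)
def n53110 : Q := act 5 n25764
theorem D53110 : act 5 n25764 = n53110 := rfl
theorem F83829 : act 2 n53110 = n30210 := d2_1 D53110 (iv5 D30210) (iv2 F40694)
theorem F83830 : act 7 n53110 = n30259 := d13_2 F46559 D53110 F48636
theorem F83831 : act 4 n53110 = n30261 := d16_2 D25764 D53110 F48639 F23971 F11115 (iv4 F11108) (iv5 F23955) (iv7 D14340) (iv2 F20235)
theorem F83832 : act 0 n53110 = n29377 := d17_2 F46555 D53110 (iv5 D29377) (iv4 D13973) (iv5 D6643) (iv0 F19455) D11145 (iv0 F23027) D28910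
def n53111 : Q := act 6 n25765
theorem D53111 : act 6 n25765 = n53111 := rfl
theorem F83833 : act 2 n53111 = n30211 := d3_1 D53111 (iv6 D30211) (iv2 F40697)
theorem F83834 : act 3 n53111 = n25775 := d7_1 D53111 (iv6 D25775) (iv3 F40698)
theorem F83835 : act 5 n53111 = n53111 := d12_1 D53111 (iv6 D53111) F40699 F20241 (iv5 F40699)
theorem F83836 : act 7 n53111 = n30064 := d14_2 D25765 D53111 (iv6 D30064) (iv7 D14269) (iv6 F20237)
def n53112 : Q := act 3 n25766
theorem D53112 : act 3 n25766 = n53112 := rfl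
theorem F83837 : act 4 n53112 = n30072 := d5_2 D25766 D53112 (iv3 D30072) (iv4 D14276) (iv3 F22537)
def n53113 : Q := act 5 n25766
theorem D53113 : act 5 n25766 = n53113 := rfl
theorem F83838 : act 2 n53113 = n29028 := d2_1 D53113 (iv5 D29028) (iv2 F40710)
def n53114 : Q := act 6 n25766
theorem D53114 : act 6 n25766 = n53114 := rfl
theorem F83839 : act 2 n53114 = n29029 := d3_1 D53114 (iv6 D29029) (iv2 F40710)
theorem F83840 : act 4 n53114 = n25767 := d10_1 D53114 (iv6 D25767) D25766
def n53115 : Q := act 7 n25767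
theorem D53115 : act 7 n25767 = n53115 := rfl
theorem F83841 : act 2 n53115 = n29032 := d4_1 D53115 (iv7 D29032) (iv2 F40711)
theorem F83842 : act 3 n53115 = n30077 := d8_1 D53115 (iv7 D30077) (iv3 F40712)
theorem F83843 : act 5 n53115 = n51766 := d13_1 D53115 (iv7 D51766) (iv5 F40713)
theorem F83844 : act 1 n29032 = n51585 := d15_0 (iv0 F81417) D53115 F83841
theorem F83845 : act 1 n29031 = n53115 := d15_1 D29031 (iv7 D53115) F40711
theorem F83846 : act 0 n29030 = n53115 := d21_1 (iv5 F81330) F83843 F81748 (iv1 F79977) D50622 F79995 F79932 F79928 (iv6 F39317) (iv1 F81329)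
def n53116 : Q := act 3 n25768
theorem D53116 : act 3 n25768 = n53116 := rfl
theorem F83847 : act 4 n53116 = n30078 := d5_2 D25768 D53116 (iv3 D30078) (iv4 D14278) (iv3 F22543)
def n53117 : Q := act 5 n25768
theorem D53117 : act 5 n25768 = n53117 := rfl
theorem F83848 : act 2 n53117 = n29862 := d2_1 D53117 (iv5 D29862) (iv2 F40714)
def n53118 : Q := act 6 n25768
theorem D53118 : act 6 n25768 = n53118 := rfl
theorem F83849 : act 2 n53118 = n29863 := d3_1 D53118 (iv6 D29863) (iv2 F40714)
theorem F83850 : act 4 n53118 = n25769 := d10_1 D53118 (iv6 D25769) D25768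
def n53119 : Q := act 0 n25769
theorem D53119 : act 0 n25769 = n53119 := rfl
theorem F83851 : act 6 n53119 = n29877 := d21_5 F23070 (iv1 F38569) F38567 D25769 D53119 (iv5 F81750) (iv1 D25143) (iv5 F23075) (iv6 D13815) D13812
theorem F83852 : act 0 n53119 = n29866 := d21_4 F83843 (iv1 F81749) F81750 (iv6 F83851) (iv6 F48234) F48233 (iv1 F79779) (iv5 F79780) (iv6 F79781) F83846
def n53120 : Q := act 1 n25769
theorem D53120 : act 1 n25769 = n53120 := rfl
theorem F83853 : act 1 n53120 = n29866 := d15_1 D53120 (iv7 D29866) (iv2 F40715)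
def n53121 : Q := act 7 n25769
theorem D53121 : act 7 n25769 = n53121 := rfl
theorem F83854 : act 2 n53121 = n29866 := d4_1 D53121 (iv7 D29866) (iv2 F40715)
theorem F83855 : act 3 n53121 = n30084 := d8_1 D53121 (iv7 D30084) (iv3 F40716)
theorem F83856 : act 1 n29865 = n53121 := d15_1 D29865 (iv7 D53121) F40715
theorem F83857 : act 1 n53121 = n29864 := d15_0 (iv0 D29864) D29866 (iv2 F83854)
def n53122 : Q := act 3 n25770
theorem D53122 : act 3 n25770 = n53122 := rfl
def n53123 : Q := act 5 n25770
theorem D53123 : act 5 n25770 = n53123 := rfl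
def n53124 : Q := act 6 n25770
theorem D53124 : act 6 n25770 = n53124 := rfl
def n53125 : Q := act 3 n25771
theorem D53125 : act 3 n25771 = n53125 := rfl
def n53126 : Q := act 5 n25771
theorem D53126 : act 5 n25771 = n53126 := rfl
def n53127 : Q := act 6 n25771
theorem D53127 : act 6 n25771 = n53127 := rfl
def n53128 : Q := act 0 n25772
theorem D53128 : act 0 n25772 = n53128 := rfl
def n53129 : Q := act 1 n25772
theorem D53129 : act 1 n25772 = n53129 := rfl
def n53130 : Q := act 2 n25772
theorem D53130 : act 2 n25772 = n53130 := rfl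
theorem F83858 : act 6 n53130 = n30093 := d3_2 (iv6 F40717) D53130 (iv2 D30093)
def n53131 : Q := act 5 n25772
theorem D53131 : act 5 n25772 = n53131 := rfl
theorem F83859 : act 3 n53131 = n25773 := d6_1 D53131 (iv5 D25773) D25772
def n53132 : Q := act 7 n25772
theorem D53132 : act 7 n25772 = n53132 := rfl
theorem F83860 : act 3 n53132 = n25774 := d8_1 D53132 (iv7 D25774) D25772
def n53133 : Q := act 0 n25773
theorem D53133 : act 0 n25773 = n53133 := rfl
def n53134 : Q := act 1 n25773
theorem D53134 : act 1 n25773 = n53134 := rfl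
def n53135 : Q := act 6 n25773
theorem D53135 : act 6 n25773 = n53135 := rfl
theorem F83861 : act 5 n53135 = n30097 := d12_1 D53135 (iv6 D30097) (iv5 D14284) (iv6 F20252) D25773
def n53136 : Q := act 6 n25774
theorem D53136 : act 6 n25774 = n53136 := rfl
theorem F83862 : act 4 n53136 = n25775 := d10_1 D53136 (iv6 D25775) (iv4 F40718)
theorem F83863 : act 7 n53136 = n30098 := d14_2 D25774 D53136 (iv6 D30098) (iv7 D14285) (iv6 F20252)
def n53137 : Q := act 3 n25776
theorem D53137 : act 3 n25776 = n53137 := rfl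
theorem F83864 : act 4 n53137 = n30106 := d5_2 D25776 D53137 (iv3 D30106) (iv4 D14291) F22535
theorem F83865 : act 7 n53137 = n53112 := d8_2 (iv7 F40722) D53137 (iv3 D53112)
def n53138 : Q := act 5 n25776
theorem D53138 : act 5 n25776 = n53138 := rfl
theorem F83866 : act 2 n53138 = n29624 := d2_1 D53138 (iv5 D29624) (iv2 F40721)
theorem F83867 : act 4 n53138 = n49767 := d9_1 D53138 F78625 (iv4 D28992) (iv5 D13800) F10622 D6569 D13814 D29028 F79298 F79297 (iv4 D50096) (iv5 D24430) (iv4 F19543) D12238 D25776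
theorem F83868 : act 7 n53138 = n53113 := d13_2 (iv7 F40722) D53138 (iv5 D53113)
def n53139 : Q := act 6 n25776
theorem D53139 : act 6 n25776 = n53139 := rfl
theorem F83869 : act 2 n53139 = n29625 := d3_1 D53139 (iv6 D29625) (iv2 F40721)
theorem F83870 : act 4 n53139 = n25777 := d10_1 D53139 (iv6 D25777) D25776
def n53140 : Q := act 0 n25777
theorem D53140 : act 0 n25777 = n53140 := rfl
theorem F83871 : act 5 n53140 = n30171 := d21_0 (iv1 F48533) D30409 (iv6 F48843) (iv1 F48440) (iv6 D25775) F20253 (iv1 F8922) D12238 D25777 D53140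
theorem F83872 : act 2 n30412 = n53140 := d15_3 (iv0 D53140) (iv0 F40725) D30412
theorem F83873 : act 7 n53140 = n29538 := d4_2 D30412 F83872 F47380
theorem E8280 : n30412 = n29626 := (c15_4 (iv0 D29626) (iv0 F47382) (iv7 F83873) (iv2 F83872))
theorem F83874 : act 2 n29626 = n53140 := (sb E8280 F83872)
theorem F83875 : act 5 n29626 = n14444 := (sb E8280 F48845)
theorem F83876 : act 7 n29626 = n14443 := (sb E8280 (iv7 D30412))
theorem E8281 : n30438 = n25835 := (c21_1 D30438 (iv1 D25835) D25836 F40821 F23502 (iv6 F47588) (iv5 D29627) D29626 F83875 (iv6 F48545) (iv1 F48547))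
theorem F83877 : act 5 n25835 = n14454 := (sb E8281 (iv5 D30438))
theorem F83878 : act 6 n25835 = n34076 := (sb E8281 (iv6 F53489))
theorem E8282 : n30439 = n30237 := ((c21_5 (iv5 D14072) F23496 (iv5 F22283) D14351 D30237 (iv6 D30439) (iv5 F83877) (iv1 D25835) D25836 F40821 F23502)).symm
theorem F83879 : act 6 n30237 = n14454 := (sb E8282 (iv6 D30439))
theorem F83880 : act 3 n49198 = n53140 := d8_3 F83873 (iv3 F77905) (iv7 F77913)
theorem F83881 : act 1 n29628 = n53140 := d15_1 F47591 F83873 F47380
def n53141 : Q := act 7 n25777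
theorem D53141 : act 7 n25777 = n53141 := rfl
theorem F83882 : act 2 n53141 = n29628 := d4_1 D53141 (iv7 D29628) (iv2 F40723)
theorem F83883 : act 3 n53141 = n30111 := d8_1 D53141 (iv7 D30111) (iv3 F40724)
theorem F83884 : act 6 n53141 = n53115 := d14_1 D53141 (iv7 D53115) (iv6 D25767) (iv7 F20255) D25777
theorem F83885 : act 1 n29538 = n53141 := d15_1 (iv0 F47382) (iv7 D53141) F40723
theorem F83886 : act 1 n53141 = n29626 := d15_1 F83885 F83876 (iv2 F47380)
def n53142 : Q := act 3 n25778
theorem D53142 : act 3 n25778 = n53142 := rfl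
theorem F83887 : act 4 n53142 = n30114 := d5_2 D25778 D53142 (iv3 D30114) (iv4 D14296) F22531
theorem F83888 : act 7 n53142 = n53116 := d8_2 (iv7 F40727) D53142 (iv3 D53116)
def n53143 : Q := act 5 n25778
theorem D53143 : act 5 n25778 = n53143 := rfl
theorem F83889 : act 2 n53143 = n30017 := d2_1 D53143 (iv5 D30017) (iv2 F40726)
theorem F83890 : act 4 n53143 = n49757 := d9_1 D53143 (iv5 D49757) (iv4 F38599) (iv5 F38597) F38596 F18977 D14186 D29862 (iv4 F78619) (iv5 D49760) (iv4 F38319) (iv5 F38316) F20303 F20258 D25778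
theorem F83891 : act 7 n53143 = n53117 := d13_2 (iv7 F40727) D53143 (iv5 D53117)
def n53144 : Q := act 6 n25778
theorem D53144 : act 6 n25778 = n53144 := rfl
theorem F83892 : act 2 n53144 = n30018 := d3_1 D53144 (iv6 D30018) (iv2 F40726)
theorem F83893 : act 4 n53144 = n25779 := d10_1 D53144 (iv6 D25779) D25778
def n53145 : Q := act 0 n25779
theorem D53145 : act 0 n25779 = n53145 := rfl
theorem F83894 : act 5 n53145 = n50669 := d21_0 (iv1 F80031) (iv5 F47395) F47396 (iv1 F46727) F40816 (iv5 F38564) (iv1 D24574) F20258 D25779 D53145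
theorem F83895 : act 0 n53145 = n30021 := d21_1 (iv5 F83894) F48233 (iv6 F39436) (iv1 F39437) (iv6 D24621) (iv5 F22591) (iv1 F22486) F22490 D24674 D50669
def n53146 : Q := act 1 n25779
theorem D53146 : act 1 n25779 = n53146 := rfl
theorem F83896 : act 1 n53146 = n30021 := d15_1 D53146 (iv7 D30021) (iv2 F40728)
theorem F83897 : act 5 n50618 = n53146 := d21_6 F19641 F11437 F10365 D11675 D24652 D50618 (iv1 D53146) F40730 (iv6 D24573) (iv1 F19640)
theorem E8283 : n50670 = n50618 := ((c21_1 (iv5 F83897) (iv1 D50670) F38671 (iv6 D14277) (iv1 F23117) D29076 F46719 D34066 (iv5 F53464) (iv6 F48234) (iv1 F83896))).symm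
theorem F83898 : act 0 n50618 = n24674 := (sb E8283 (iv1 D50670))
theorem F83899 : act 1 n50618 = n24682 := (sb E8283 F80028)
theorem F83900 : act 6 n30006 = n53146 := d21_5 F23118 (iv1 F23857) F19593 D14245 D30006 (iv5 F83897) F83898 F38671 (iv6 D14277) (iv1 F23117)
theorem E8284 : n25915 = n25817 := ((c21_8 F83897 (iv1 D53146) F40730 (iv6 D24573) (iv1 F19640) D25091 F39428 D25817 F40959 F39482 (iv1 F83899))).symm
theorem F83901 : act 3 n25817 = n12298 := (sb E8284 (iv3 D25915))
theorem F83902 : act 5 n25817 = n25117 := (sb E8284 F40959)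
theorem F83903 : act 7 n25817 = n14641 := (sb E8284 F40960)
theorem E8285 : n52005 = n49668 := ((c20_1 D49668 (iv1 D52005) F39778 (iv3 F20324) D25817 F83901 D25916 F46774 F24606 (iv3 F24595) (iv1 F37964))).symm
theorem F83904 : act 0 n49668 = n25241 := (sb E8285 (iv1 D52005))
theorem F83905 : act 1 n49668 = n49504 := (sb E8285 F82139)
theorem E8286 : n52004 = n49664 := (c15_2 F83905 F82144 F78448 (iv2 F78460))
theorem F83906 : act 0 n49664 = n49504 := (sb E8286 (iv1 F82144))
theorem F83907 : act 1 n49664 = n25241 := (sb E8286 (iv0 D52004))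
def n53147 : Q := act 7 n25779
theorem D53147 : act 7 n25779 = n53147 := rfl
theorem F83908 : act 2 n53147 = n30021 := d4_1 D53147 (iv7 D30021) (iv2 F40728)
theorem F83909 : act 3 n53147 = n30119 := d8_1 D53147 (iv7 D30119) (iv3 F40729)
theorem F83910 : act 5 n53147 = n50421 := d13_1 D53147 (iv7 D50421) (iv5 F40730)
theorem F83911 : act 6 n53147 = n53121 := d14_1 D53147 (iv7 D53121) (iv6 D25769) F20260 D25779
theorem F83912 : act 1 n30020 = n53147 := d15_1 D30020 (iv7 D53147) F40728
theorem F83913 : act 0 n30019 = n53147 := d21_1 (iv5 F80034) F83910 F81378 (iv1 D51560) (iv6 D25047) F22585 F22472 F10367 D11686 D24680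
def n53148 : Q := act 3 n25780
theorem D53148 : act 3 n25780 = n53148 := rfl
theorem F83914 : act 4 n53148 = n29984 := d5_2 F79247 D53148 (iv3 D29984) F46412 D50061
theorem F83915 : act 7 n53148 = n53125 := d8_2 F45563 D53148 (iv3 D53125)
def n53149 : Q := act 5 n25780
theorem D53149 : act 5 n25780 = n53149 := rfl
theorem F83916 : act 2 n53149 = n53123 := d2_1 D53149 (iv5 D53123) F45561
theorem F83917 : act 7 n53149 = n53126 := d13_2 F45563 D53149 (iv5 D53126)
theorem F83918 : act 4 n53149 = n49751 := d16_2 F79247 D53149 (iv5 D49751) (iv4 D24261) (iv5 F24314) (iv4 F45147) (iv5 F45148) (iv7 F45559) (iv2 F79243)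
def n53150 : Q := act 6 n25780
theorem D53150 : act 6 n25780 = n53150 := rfl
theorem F83919 : act 2 n53150 = n53124 := d3_1 D53150 (iv6 D53124) F45561
def n53151 : Q := act 3 n25781
theorem D53151 : act 3 n25781 = n53151 := rfl
theorem F83920 : act 4 n53151 = n28779 := d5_2 F40732 D53151 (iv3 D28779) (iv4 D13725) D13724
theorem F83921 : act 7 n53151 = n53122 := d8_2 (iv7 F45560) D53151 (iv3 D53122)
def n53152 : Q := act 5 n25781
theorem D53152 : act 5 n25781 = n53152 := rfl
theorem F83922 : act 2 n53152 = n53126 := d2_1 D53152 (iv5 D53126) (iv2 F45562)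
theorem F83923 : act 4 n53152 = n49744 := d9_1 D53152 (iv5 D49744) (iv4 D24258) F23265 D28866 (iv5 F79244) F79247 D53149 F83918 (iv5 D49751) (iv4 D24261) (iv5 F24314) (iv4 F45147) (iv5 F45148) F40732
theorem F83924 : act 7 n53152 = n53123 := d13_2 (iv7 F45560) D53152 (iv5 D53123)
def n53153 : Q := act 6 n25781
theorem D53153 : act 6 n25781 = n53153 := rfl
theorem F83925 : act 2 n53153 = n53127 := d3_1 D53153 (iv6 D53127) (iv2 F45562)
theorem F83926 : act 4 n53153 = n28778 := d10_1 D53153 (iv6 D28778) F40732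
def n53154 : Q := act 0 n25782
theorem D53154 : act 0 n25782 = n53154 := rfl
def n53155 : Q := act 1 n25782
theorem D53155 : act 1 n25782 = n53155 := rfl
def n53156 : Q := act 2 n25782
theorem D53156 : act 2 n25782 = n53156 := rfl
theorem F83927 : act 3 n53156 = n53130 := d0_2 D25782 D53156 (iv2 D53130) (iv3 D25772) (iv2 F20263)
theorem F83928 : act 4 n53156 = n49344 := d1_2 (iv4 F40734) D53156 (iv2 D49344)
theorem F83929 : act 6 n53156 = n30128 := d3_2 (iv6 F40735) D53156 (iv2 D30128)
def n53157 : Q := act 5 n25782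
theorem D53157 : act 5 n25782 = n53157 := rfl
theorem F83930 : act 3 n53157 = n25783 := d6_1 D53157 (iv5 D25783) D25782
def n53158 : Q := act 7 n25782
theorem D53158 : act 7 n25782 = n53158 := rfl
theorem F83931 : act 3 n53158 = n25784 := d8_1 D53158 (iv7 D25784) D25782
theorem F83932 : act 4 n53158 = n49346 := d11_1 D53158 (iv7 D49346) (iv4 F40734)
def n53159 : Q := act 0 n25783
theorem D53159 : act 0 n25783 = n53159 := rfl
theorem F83933 : act 5 n53159 = n49720 := d17_3 (iv1 D25781) D25783 D53159 (iv4 D49720) (iv5 D24249) (iv0 F19941) D24850 (iv0 F45149) F40732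
theorem F83934 : act 4 n49737 = n53159 := d16_2 D24255 D49737 F83933 (iv4 D49720) (iv5 D24249) (iv4 D11412) D11413 (iv7 F38007) F38006
theorem F83935 : act 1 n49769 = n53159 := d17_6 (iv1 D13813) (iv5 D6569) F10276 (iv5 F20253) (iv4 F40718) (iv5 F78626) F83933 F78577 (iv4 D29023)
def n53160 : Q := act 1 n25783
theorem D53160 : act 1 n25783 = n53160 := rfl
theorem F83936 : act 1 n53160 = n49769 := d15_1 D53160 (iv7 F78627) (iv2 F40736)
theorem F83937 : act 5 n53160 = n28755 := d17_7 (iv1 F23071) (iv5 D12238) (iv1 D5799) D5800 D12242 D25783 D53160 (iv0 F46665) (iv4 D29021)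
theorem F83938 : act 4 n49728 = n53160 := d9_15 F83937 (iv4 D28755) (iv5 D13712) F10601 D11417 D24255 D49737 F83934 F83933 (iv4 D49720) (iv5 D24249) (iv4 D11412) D11413 D24252 D49728
def n53161 : Q := act 4 n25783
theorem D53161 : act 4 n25783 = n53161 := rfl
theorem F83939 : act 2 n53161 = n49771 := d1_1 D53161 F78629 (iv2 F40736)
theorem F83940 : act 5 n53161 = n49714 := d9_2 D25783 D53161 F78555 F38016 F18654 (iv5 F20253) (iv4 F40718) (iv5 F78626) (iv4 D49769) (iv5 D24266) (iv4 D11421) (iv5 D5306) (iv4 F3822) D5800 D12242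
theorem F83941 : act 0 n53161 = n49768 := d18_2 (iv1 D53160) D53161 (iv4 F79298) (iv5 D29028) (iv4 D13814) D13813 D29023 (iv0 F46948) (iv5 F83937)
theorem F83942 : act 1 n53161 = n49767 := d18_8 (iv1 F78586) (iv4 D49723) (iv1 F38027) D24255 D49737 F83934 (iv0 D53159) D53161 F78625
theorem F83943 : act 7 n53161 = n49713 := d15_2 D49768 (iv0 F83941) F78553
def n53162 : Q := act 6 n25783
theorem D53162 : act 6 n25783 = n53162 := rfl
theorem F83944 : act 2 n53162 = n53135 := d3_1 D53162 (iv6 D53135) (iv2 F40736)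
theorem F83945 : act 5 n53162 = n30132 := d12_1 D53162 (iv6 D30132) (iv5 D14301) (iv6 F20264) D25783
def n53163 : Q := act 7 n25783
theorem D53163 : act 7 n25783 = n53163 := rfl
theorem F83946 : act 2 n53163 = n49769 := d4_1 D53163 (iv7 F78627) (iv2 F40736)
theorem F83947 : act 4 n53163 = n49713 := d11_1 D53163 (iv7 F83943) (iv4 D53161)
theorem F83948 : act 5 n53163 = n25784 := d13_1 D53163 (iv7 D25784) D25783
theorem F83949 : act 1 n53134 = n53163 := d15_1 D53134 (iv7 D53163) F40736
theorem F83950 : act 1 n53163 = n53133 := d15_0 (iv0 D53133) F78627 (iv2 F83946)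
def n53164 : Q := act 6 n25784
theorem D53164 : act 6 n25784 = n53164 := rfl
theorem F83951 : act 2 n53164 = n53136 := d3_1 D53164 (iv6 D53136) (iv2 F40737)
theorem F83952 : act 4 n53164 = n25785 := d10_1 D53164 (iv6 D25785) (iv4 F40738)
theorem F83953 : act 7 n53164 = n30133 := d14_2 D25784 D53164 (iv6 D30133) (iv7 D14302) (iv6 F20264)
def n53165 : Q := act 3 n25786
theorem D53165 : act 3 n25786 = n53165 := rfl
theorem F83954 : act 7 n53165 = n25806 := d8_2 (iv7 F40747) D53165 (iv3 D25806)
def n53166 : Q := act 6 n25786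
theorem D53166 : act 6 n25786 = n53166 := rfl
theorem F83955 : act 2 n53166 = n25816 := d3_1 D53166 (iv6 D25816) (iv2 F40746)
theorem F83956 : act 4 n53166 = n25787 := d10_1 D53166 (iv6 D25787) D25786
def n53167 : Q := act 0 n25787
theorem D53167 : act 0 n25787 = n53167 := rfl
theorem F83957 : act 5 n53167 = n51696 := d21_0 (iv1 F81625) D51719 (iv6 F81657) (iv1 D25859) (iv6 D12273) F8945 (iv1 F8933) D12244 D25787 D53167
theorem F83958 : act 2 n25817 = n53167 := d15_3 (iv0 D53167) (iv0 F40750) (iv7 F83903)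
theorem F83959 : act 3 n53167 = n30162 := d0_2 (iv3 F83901) F83958 (iv2 F48510) F48511 (iv2 F20408)
theorem F83960 : act 7 n53167 = n25818 := d4_2 (iv7 F83903) F83958 F40802
theorem F83961 : act 1 n25819 = n53167 := d15_1 F40805 F83960 F40802
theorem E8287 : n50695 = n30020 := (c21_1 D50695 (iv1 D30020) F23779 (iv6 D11631) D11628 D24584 (iv5 F40749) D53167 F83957 F81623 (iv1 F80032))
theorem F83962 : act 5 n30020 = n24681 := (sb E8287 (iv5 D50695))
theorem F83963 : act 6 n30020 = n30081 := (sb E8287 (iv6 F80052))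
theorem E8288 : n50696 = n50596 := (c21_4 (iv5 F83910) (iv1 F83912) F83962 D50696 (iv1 F79976) (iv6 F39560) (iv5 F46675) (iv1 F81415) (iv5 D51581) F48334 (iv1 F79785))
theorem F83964 : act 6 n50596 = n24681 := (sb E8288 (iv6 D50696))
def n53168 : Q := act 7 n25787
theorem D53168 : act 7 n25787 = n53168 := rfl
theorem F83965 : act 2 n53168 = n25819 := d4_1 D53168 (iv7 D25819) (iv2 F40748)
theorem F83966 : act 5 n53168 = n50437 := d13_1 D53168 (iv7 D50437) (iv5 F40749)
theorem F83967 : act 6 n53168 = n25812 := d14_1 D53168 (iv7 D25812) (iv6 D12254) (iv7 F20271) D25787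
theorem F83968 : act 1 n25818 = n53168 := d15_1 D25818 (iv7 D53168) F40748
theorem F83969 : act 1 n53168 = n25817 := d15_1 F83968 F83903 (iv2 F40802)
def n53169 : Q := act 3 n25788
theorem D53169 : act 3 n25788 = n53169 := rfl
theorem F83970 : act 4 n53169 = n48830 := d5_2 D25788 D53169 (iv3 D48830) (iv4 F37893) F37888
theorem F83971 : act 7 n53169 = n25824 := d8_2 (iv7 F40752) D53169 (iv3 D25824)
def n53170 : Q := act 5 n25788
theorem D53170 : act 5 n25788 = n53170 := rfl
theorem F83972 : act 2 n53170 = n25832 := d2_1 D53170 (iv5 D25832) (iv2 F40751)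
theorem F83973 : act 7 n53170 = n25825 := d13_2 (iv7 F40752) D53170 (iv5 D25825)
theorem F83974 : act 4 n53170 = n28120 := d16_2 D25788 D53170 (iv5 D28120) (iv4 D13423) F10406 (iv4 F19039) F19040 (iv7 F19653) (iv2 F20292)
def n53171 : Q := act 6 n25788
theorem D53171 : act 6 n25788 = n53171 := rfl
theorem F83975 : act 2 n53171 = n25833 := d3_1 D53171 (iv6 D25833) (iv2 F40751)
theorem F83976 : act 4 n53171 = n25789 := d10_1 D53171 (iv6 D25789) D25788
def n53172 : Q := act 0 n25789
theorem D53172 : act 0 n25789 = n53172 := rfl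
theorem F83977 : act 5 n53172 = n30176 := d21_0 (iv1 F48546) (iv5 F48858) (iv6 F53470) (iv1 F53471) (iv6 D25803) F20314 (iv1 F19660) F20291 D25789 D53172
def n53173 : Q := act 1 n25789
theorem D53173 : act 1 n25789 = n53173 := rfl
theorem F83978 : act 1 n53173 = n25837 := d15_1 D53173 (iv7 D25837) (iv2 F40753)
theorem F83979 : act 5 n30177 = n53173 := d21_0 (iv1 D53173) F40754 (iv6 D14346) D14343 D30215 F48607 D53140 F83871 F48531 (iv1 F48543)
def n53174 : Q := act 7 n25789
theorem D53174 : act 7 n25789 = n53174 := rfl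
theorem F83980 : act 2 n53174 = n25837 := d4_1 D53174 (iv7 D25837) (iv2 F40753)
theorem F83981 : act 5 n53174 = n30224 := d13_1 D53174 (iv7 D30224) (iv5 F40754)
theorem F83982 : act 6 n53174 = n25830 := d14_1 D53174 (iv7 D25830) (iv6 D12265) (iv7 F20290) D25789
theorem F83983 : act 1 n25837 = n53172 := d15_0 (iv0 D53172) D53174 F83980
theorem F83984 : act 1 n25835 = n53174 := d15_1 D25835 (iv7 D53174) F40753
theorem F83985 : act 1 n53174 = n25834 := d15_0 (iv0 D25834) D25837 (iv2 F83980)
def n53175 : Q := act 3 n25790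
theorem D53175 : act 3 n25790 = n53175 := rfl
theorem F83986 : act 4 n53175 = n28262 := d5_2 (iv4 F40765) D53175 (iv3 D28262) (iv4 D13494) D13493
theorem F83987 : act 7 n53175 = n25843 := d8_2 (iv7 F40830) D53175 (iv3 D25843)
def n53176 : Q := act 5 n25790
theorem D53176 : act 5 n25790 = n53176 := rfl
theorem F83988 : act 2 n53176 = n25841 := d2_1 D53176 (iv5 D25841) (iv2 F40829)
theorem F83989 : act 7 n53176 = n25845 := d13_2 (iv7 F40830) D53176 (iv5 D25845)
def n53177 : Q := act 6 n25790
theorem D53177 : act 6 n25790 = n53177 := rfl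
theorem F83990 : act 2 n53177 = n25842 := d3_1 D53177 (iv6 D25842) (iv2 F40829)
theorem F83991 : act 4 n53177 = n28260 := d10_1 D53177 (iv6 D28260) (iv4 F40765)
def n53178 : Q := act 3 n25791
theorem D53178 : act 3 n25791 = n53178 := rfl
theorem F83992 : act 4 n53178 = n51124 := d5_2 (iv4 F40756) D53178 (iv3 D51124) (iv4 D24883) D24882
theorem F83993 : act 7 n53178 = n25839 := d8_2 F40827 D53178 (iv3 D25839)
def n53179 : Q := act 5 n25791
theorem D53179 : act 5 n25791 = n53179 := rfl
theorem F83994 : act 2 n53179 = n25845 := d2_1 D53179 (iv5 D25845) (iv2 F40828)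
theorem F83995 : act 7 n53179 = n25841 := d13_2 F40827 D53179 (iv5 D25841)
def n53180 : Q := act 6 n25791
theorem D53180 : act 6 n25791 = n53180 := rfl
theorem F83996 : act 2 n53180 = n25846 := d3_1 D53180 (iv6 D25846) (iv2 F40828)
theorem F83997 : act 4 n53180 = n51123 := d10_1 D53180 (iv6 D51123) (iv4 F40756)
def n53181 : Q := act 0 n25792
theorem D53181 : act 0 n25792 = n53181 := rfl
def n53182 : Q := act 1 n25792
theorem D53182 : act 1 n25792 = n53182 := rfl
def n53183 : Q := act 2 n25792
theorem D53183 : act 2 n25792 = n53183 := rfl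
theorem F83998 : act 3 n53183 = n25849 := d0_2 D25792 D53183 (iv2 D25849) (iv3 D12270) (iv2 F20293)
theorem F83999 : act 4 n53183 = n30188 := d1_2 (iv4 F40759) D53183 (iv2 D30188)
def n53184 : Q := act 5 n25792
theorem D53184 : act 5 n25792 = n53184 := rfl
theorem F84000 : act 3 n53184 = n25793 := d6_1 D53184 (iv5 D25793) D25792
def n53185 : Q := act 7 n25792
theorem D53185 : act 7 n25792 = n53185 := rfl
theorem F84001 : act 3 n53185 = n25794 := d8_1 D53185 (iv7 D25794) D25792
theorem F84002 : act 4 n53185 = n30190 := d11_1 D53185 (iv7 D30190) (iv4 F40759)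
def n53186 : Q := act 0 n25793
theorem D53186 : act 0 n25793 = n53186 := rfl
theorem F84003 : act 5 n53186 = n28224 := d17_1 D53186 F45679 D30720 (iv4 F80321) (iv5 D50912) (iv0 F39817) D52025 F82205 (iv4 F80331)
theorem F84004 : act 1 n25856 = n53186 := d15_0 (iv0 D53186) (iv7 F82606) F82604
theorem F84005 : act 2 n25852 = n53186 := d2_3 F84003 (iv2 F82573) F82575
theorem F84006 : act 7 n25853 = n53186 := d13_0 F84003 (iv7 F79616) (iv5 F79619)
def n53187 : Q := act 1 n25793
theorem D53187 : act 1 n25793 = n53187 := rfl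
theorem F84007 : act 1 n53187 = n25856 := d15_1 D53187 (iv7 D25856) (iv2 F40760)
theorem F84008 : act 7 n53187 = n25852 := d15_2 (iv0 D53186) D53187 F84005
theorem F84009 : act 5 n53187 = n30718 := d17_7 (iv1 F20272) (iv5 D12244) (iv1 D5803) D5804 D12247 D25793 D53187 (iv0 D30718) (iv4 D14559)
theorem F84010 : act 2 n25853 = n53187 := d2_3 F84009 (iv2 F79615) (iv5 F79619)
def n53188 : Q := act 6 n25793
theorem D53188 : act 6 n25793 = n53188 := rfl
theorem F84011 : act 2 n53188 = n25855 := d3_1 D53188 (iv6 D25855) (iv2 F40760)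
def n53189 : Q := act 6 n25794
theorem D53189 : act 6 n25794 = n53189 := rfl
theorem F84012 : act 2 n53189 = n25857 := d3_1 D53189 (iv6 D25857) (iv2 F40761)
theorem F84013 : act 4 n53189 = n25795 := d10_1 D53189 (iv6 D25795) (iv4 F40762)
def n53190 : Q := act 3 n25796
theorem D53190 : act 3 n25796 = n53190 := rfl
theorem F84014 : act 4 n53190 = n25806 := d5_2 D25796 D53190 (iv3 D25806) (iv4 D12253) (iv3 F20300)
def n53191 : Q := act 6 n25796
theorem D53191 : act 6 n25796 = n53191 := rfl
theorem F84015 : act 2 n53191 = n50427 := d3_1 D53191 (iv6 D50427) (iv2 F40770)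
theorem F84016 : act 4 n53191 = n25797 := d10_1 D53191 (iv6 D25797) D25796
def n53192 : Q := act 0 n25797
theorem D53192 : act 0 n25797 = n53192 := rfl
theorem F84017 : act 5 n53192 = n30287 := d21_0 (iv1 D30287) D30288 F48708 F24020 (iv6 F23948) (iv5 D14334) F19407 D12249 D25797 D53192
def n53193 : Q := act 1 n25797
theorem D53193 : act 1 n25797 = n53193 := rfl
theorem F84018 : act 1 n53193 = n50431 := d15_1 D53193 (iv7 D50431) (iv2 F40772)
theorem F84019 : act 5 n30286 = n53193 := d21_0 (iv1 D53193) (iv5 F79314) (iv6 D50100) (iv1 D24433) (iv6 F23711) (iv5 D14204) F11148 D6874 D14375 D30286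
def n53194 : Q := act 7 n25797
theorem D53194 : act 7 n25797 = n53194 := rfl
theorem F84020 : act 2 n53194 = n50431 := d4_1 D53194 (iv7 D50431) (iv2 F40772)
theorem F84021 : act 3 n53194 = n25812 := d8_1 D53194 (iv7 D25812) (iv3 F40773)
theorem F84022 : act 1 n50431 = n53192 := d15_0 (iv0 D53192) D53194 F84020
theorem F84023 : act 1 n50429 = n53194 := d15_1 D50429 (iv7 D53194) F40772
theorem F84024 : act 1 n53194 = n50428 := d15_0 (iv0 D50428) D50431 (iv2 F84020)
def n53195 : Q := act 3 n25800
theorem D53195 : act 3 n25800 = n53195 := rfl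
theorem F84025 : act 4 n53195 = n30293 := d5_2 D25800 D53195 (iv3 D30293) (iv4 D14379) F22551
def n53196 : Q := act 5 n25800
theorem D53196 : act 5 n25800 = n53196 := rfl
theorem F84026 : act 2 n53196 = n30720 := d2_1 D53196 (iv5 D30720) (iv2 F40784)
theorem F84027 : act 4 n53196 = n52039 := d16_2 D25800 D53196 (iv5 D52039) F39854 F38473 F37875 (iv5 F20314) F20313 F20311
theorem F84028 : act 0 n53196 = n53176 := d17_2 F82576 D53196 (iv5 D53176) F40765 (iv5 F38840) F39928 (iv5 F79547) (iv0 F79551) D52222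
theorem F84029 : act 1 n53196 = n53179 := d17_6 (iv1 F20289) (iv5 F20291) (iv1 F19661) (iv5 F20304) D25800 D53196 (iv5 D53179) F40755 F20332
def n53197 : Q := act 6 n25800
theorem D53197 : act 6 n25800 = n53197 := rfl
theorem F84030 : act 2 n53197 = n30721 := d3_1 D53197 (iv6 D30721) (iv2 F40784)
theorem F84031 : act 4 n53197 = n25801 := d10_1 D53197 (iv6 D25801) D25800
def n53198 : Q := act 0 n25801
theorem D53198 : act 0 n25801 = n53198 := rfl
theorem F84032 : act 5 n53198 = n51720 := d21_2 (iv5 F40787) D53198 (iv6 D51720) (iv1 D25116) (iv6 D11932) (iv5 F10417) D13438 F22591 D24621 F39405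
theorem F84033 : act 0 n53198 = n30724 := d21_7 (iv5 F79780) (iv1 F48338) (iv5 F80030) (iv6 F81623) (iv1 F81625) D51720 (iv5 F84032) F49192 F39436 (iv1 F79779)
def n53199 : Q := act 1 n25801
theorem D53199 : act 1 n25801 = n53199 := rfl
theorem F84034 : act 1 n53199 = n30724 := d15_1 D53199 (iv7 D30724) (iv2 F40785)
theorem F84035 : act 5 n51784 = n53199 := d21_6 (iv5 F20327) F20329 F10419 D11940 D25142 D51784 (iv1 D53199) F40787 (iv6 D25085) (iv1 F19635)
def n53200 : Q := act 7 n25801
theorem D53200 : act 7 n25801 = n53200 := rfl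
theorem F84036 : act 2 n53200 = n30724 := d4_1 D53200 (iv7 D30724) (iv2 F40785)
theorem F84037 : act 3 n53200 = n30298 := d8_1 D53200 (iv7 D30298) (iv3 F40786)
theorem F84038 : act 5 n53200 = n51560 := d13_1 D53200 F81375 (iv5 F40787)
theorem F84039 : act 1 n30723 = n53200 := d15_1 D30723 (iv7 D53200) F40785
theorem F84040 : act 1 n53200 = n30722 := d15_0 (iv0 D30722) D30724 (iv2 F84036)
def n53201 : Q := act 3 n25802
theorem D53201 : act 3 n25802 = n53201 := rfl
theorem F84041 : act 4 n53201 = n25872 := d5_2 D25802 D53201 (iv3 D25872) (iv4 D12281) F20315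
theorem F84042 : act 7 n53201 = n30719 := d8_2 (iv7 F40788) D53201 (iv3 D30719)
def n53202 : Q := act 5 n25802
theorem D53202 : act 5 n25802 = n53202 := rfl
theorem F84043 : act 4 n53202 = n52042 := d9_1 D53202 (iv5 D52042) F39860 (iv5 F38479) F37863 (iv5 F20304) D25800 D53196 F84027 (iv5 D52039) F39854 F38473 F37875 (iv5 F20314) D25802
theorem F84044 : act 7 n53202 = n30720 := d13_2 (iv7 F40788) D53202 (iv5 D30720)
theorem F84045 : act 0 n53202 = n53179 := d17_2 F79617 D53202 (iv5 D53179) F40756 (iv5 F45100) (iv0 F45101) (iv5 F39931) (iv0 F39932) D50247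
theorem F84046 : act 1 n53202 = n53176 := d17_6 F19042 (iv5 F19040) F19659 (iv5 F20314) D25802 D53202 (iv5 D53176) (iv0 D25790) (iv4 D12247)
def n53203 : Q := act 6 n25802
theorem D53203 : act 6 n25802 = n53203 := rfl
theorem F84047 : act 4 n53203 = n25803 := d10_1 D53203 (iv6 D25803) D25802
def n53204 : Q := act 3 n25804
theorem D53204 : act 3 n25804 = n53204 := rfl
def n53205 : Q := act 5 n25804
theorem D53205 : act 5 n25804 = n53205 := rfl
theorem F84048 : act 4 n53205 = n52029 := d16_2 F41232 D53205 (iv5 D52029) (iv4 D25257) F20310 D24797 (iv5 F45676) (iv7 F79548) F79546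
theorem F84049 : act 0 n53205 = n49517 := d17_2 D25804 D53205 (iv5 D49517) (iv4 D24169) (iv5 F19040) F19662 (iv5 F20304) (iv0 D12251) D12253
theorem F84050 : act 1 n53205 = n53170 := d17_6 (iv1 F40834) (iv5 F40836) F38720 (iv5 F41230) F41232 D53205 (iv5 D53170) F78271 F78269
def n53206 : Q := act 6 n25804
theorem D53206 : act 6 n25804 = n53206 := rfl
def n53207 : Q := act 3 n25805
theorem D53207 : act 3 n25805 = n53207 := rfl
theorem F84051 : act 4 n53207 = n30858 := d5_2 (iv4 F45678) D53207 (iv3 D30858) D30859 F49319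
def n53208 : Q := act 5 n25805
theorem D53208 : act 5 n25805 = n53208 := rfl
theorem F84052 : act 4 n53208 = n52033 := d9_1 D53208 (iv5 D52033) (iv4 D25260) F19831 (iv4 F22222) (iv5 F41230) F41232 D53205 F84048 (iv5 D52029) (iv4 D25257) F20310 D24797 (iv5 F45676) (iv4 F45678)
theorem F84053 : act 0 n53208 = n53170 := d17_2 (iv1 F40792) D53208 (iv5 D53170) (iv4 D25788) (iv5 F20291) F19660 (iv5 F20314) F20312 D12259
theorem F84054 : act 1 n53208 = n49517 := d17_6 (iv1 F40823) (iv5 F45239) (iv1 F45242) (iv5 F45676) (iv4 F45678) D53208 (iv5 D49517) (iv0 F46318) (iv4 D28717)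
def n53209 : Q := act 6 n25805
theorem D53209 : act 6 n25805 = n53209 := rfl
def n53210 : Q := act 0 n25806
theorem D53210 : act 0 n25806 = n53210 := rfl
def n53211 : Q := act 1 n25806
theorem D53211 : act 1 n25806 = n53211 := rfl
def n53212 : Q := act 2 n25806
theorem D53212 : act 2 n25806 = n53212 := rfl
def n53213 : Q := act 5 n25806
theorem D53213 : act 5 n25806 = n53213 := rfl
theorem F84055 : act 3 n53213 = n25807 := d6_1 D53213 (iv5 D25807) D25806
def n53214 : Q := act 6 n25806
theorem D53214 : act 6 n25806 = n53214 := rfl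
theorem F84056 : act 3 n53214 = n25808 := d7_1 D53214 (iv6 D25808) D25806
def n53215 : Q := act 0 n25807
theorem D53215 : act 0 n25807 = n53215 := rfl
theorem F84057 : act 5 n53215 = n25822 := d17_1 D53215 (iv1 F40812) D25832 (iv4 F82595) (iv5 D52238) (iv0 D25374) D25376 F40123 (iv4 F40793)
theorem F84058 : act 4 n53215 = n49703 := d18_3 F45318 (iv4 F40793) D53215 (iv5 D49703) (iv4 D24240) (iv0 F19555) D13380 D28045 F45317
theorem F84059 : act 1 n25815 = n53215 := d15_0 (iv0 D53215) (iv7 F80337) F80336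
def n53216 : Q := act 1 n25807
theorem D53216 : act 1 n25807 = n53216 := rfl
theorem F84060 : act 1 n53216 = n25815 := d15_1 D53216 (iv7 F78189) F78188
theorem F84061 : act 5 n53216 = n25823 := d17_7 (iv1 D5817) (iv5 D2430) D2428 D5809 D12253 D25807 D53216 F40813 (iv4 D12266)
theorem F84062 : act 4 n52022 = n53216 := d9_15 F84061 (iv4 F40814) (iv5 D24239) F18641 D11400 D24240 D49703 (iv4 F84058) F84057 F40811 (iv5 D25250) (iv4 D11988) D11989 D25251 D52022
def n53217 : Q := act 6 n25807
theorem D53217 : act 6 n25807 = n53217 := rfl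
theorem F84063 : act 4 n53217 = n52049 := d10_1 D53217 (iv6 D52049) (iv4 F40793)
def n53218 : Q := act 0 n25808
theorem D53218 : act 0 n25808 = n53218 := rfl
def n53219 : Q := act 1 n25808
theorem D53219 : act 1 n25808 = n53219 := rfl
def n53220 : Q := act 5 n25808
theorem D53220 : act 5 n25808 = n53220 := rfl
def n53221 : Q := act 7 n25808
theorem D53221 : act 7 n25808 = n53221 := rfl
theorem F84064 : act 4 n53221 = n25812 := d11_1 D53221 (iv7 D25812) (iv4 F40794)
def n53222 : Q := act 2 n25809
theorem D53222 : act 2 n25809 = n53222 := rfl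
theorem F84065 : act 7 n25810 = n53222 := d15_2 (iv0 D25809) D25810 (iv2 D53222)
def n53223 : Q := act 3 n25809
theorem D53223 : act 3 n25809 = n53223 := rfl
def n53224 : Q := act 4 n25809
theorem D53224 : act 4 n25809 = n53224 := rfl
def n53225 : Q := act 7 n25809
theorem D53225 : act 7 n25809 = n53225 := rfl
theorem F84066 : act 2 n53225 = n25810 := d4_1 D53225 F84065 (iv2 D53222)
def n53226 : Q := act 3 n25810
theorem D53226 : act 3 n25810 = n53226 := rfl
def n53227 : Q := act 4 n25810
theorem D53227 : act 4 n25810 = n53227 := rfl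
def n53228 : Q := act 6 n25810
theorem D53228 : act 6 n25810 = n53228 := rfl
def n53229 : Q := act 0 n25811
theorem D53229 : act 0 n25811 = n53229 := rfl
theorem F84067 : act 5 n53229 = n30331 := d21_0 (iv1 F53504) F53500 F48495 (iv1 F38655) F38653 (iv5 F23967) (iv1 D12256) D12257 (iv6 F40796) D53229
theorem F84068 : act 0 n53229 = n30245 := d21_1 (iv5 F84067) (iv5 F78194) F78195 (iv1 F40805) F24322 (iv5 D14392) (iv1 D6883) D6884 (iv6 F24030) D30331
def n53230 : Q := act 1 n25811
theorem D53230 : act 1 n25811 = n53230 := rfl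
theorem F84069 : act 1 n53230 = n30245 := d15_1 D53230 (iv7 D30245) (iv2 F40795)
def n53231 : Q := act 4 n25811
theorem D53231 : act 4 n25811 = n53231 := rfl
theorem F84070 : act 2 n53231 = n30242 := d1_1 D53231 F48630 (iv2 F40795)
theorem F84071 : act 6 n53231 = n25813 := d10_2 (iv6 F40796) D53231 (iv4 D25813)
def n53232 : Q := act 7 n25811
theorem D53232 : act 7 n25811 = n53232 := rfl
theorem F84072 : act 2 n53232 = n30245 := d4_1 D53232 (iv7 D30245) (iv2 F40795)
theorem F84073 : act 5 n53232 = n25812 := d13_1 D53232 (iv7 D25812) D25811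
theorem F84074 : act 6 n53232 = n30239 := d14_1 D53232 (iv7 D30239) (iv6 D14351) (iv7 F22284) (iv6 F40796)
theorem F84075 : act 1 n30244 = n53232 := d15_1 D30244 (iv7 D53232) F40795
theorem F84076 : act 0 n30243 = n53232 := d21_1 (iv5 F53503) F84073 (iv6 F83967) (iv1 F83968) F48401 F48398 (iv1 F23876) F11899 D16509 D34083
def n53233 : Q := act 1 n25813
theorem D53233 : act 1 n25813 = n53233 := rfl
theorem F84077 : act 1 n53233 = n30138 := d15_1 D53233 F48448 (iv2 F40797)
theorem F84078 : act 7 n53233 = n30233 := d15_2 F45111 D53233 (iv2 F48626)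
theorem F84079 : act 4 n53233 = n29362 := d18_7 (iv1 F46390) F45682 (iv1 D24751) F19065 D12257 D25813 D53233 F47023 (iv5 F46392)
theorem F84080 : act 2 n30232 = n53233 := d1_3 F84079 F47020 (iv4 F48621)
def n53234 : Q := act 3 n25813
theorem D53234 : act 3 n25813 = n53234 := rfl
theorem F84081 : act 4 n53234 = n49759 := d5_2 D25813 D53234 (iv3 D49759) (iv4 F38319) F38317
theorem F84082 : act 7 n53234 = n30234 := d8_2 (iv7 F40798) D53234 (iv3 D30234)
def n53235 : Q := act 5 n25813
theorem D53235 : act 5 n25813 = n53235 := rfl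
theorem F84083 : act 2 n53235 = n30241 := d2_1 D53235 (iv5 D30241) (iv2 F40797)
theorem F84084 : act 7 n53235 = n30235 := d13_2 (iv7 F40798) D53235 (iv5 D30235)
theorem F84085 : act 4 n53235 = n29436 := d16_2 D25813 D53235 (iv5 D29436) (iv4 D14000) (iv5 F19068) (iv4 F37833) F37834 F23904 (iv2 F20321)
def n53236 : Q := act 0 n25814
theorem D53236 : act 0 n25814 = n53236 := rfl
def n53237 : Q := act 1 n25814
theorem D53237 : act 1 n25814 = n53237 := rfl
def n53238 : Q := act 2 n25814
theorem D53238 : act 2 n25814 = n53238 := rfl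
theorem F84086 : act 4 n53238 = n52002 := d1_2 (iv4 F40799) D53238 (iv2 D52002)
def n53239 : Q := act 5 n25814
theorem D53239 : act 5 n25814 = n53239 := rfl
theorem F84087 : act 3 n53239 = n25815 := d6_1 D53239 (iv5 D25815) D25814
def n53240 : Q := act 6 n25814
theorem D53240 : act 6 n25814 = n53240 := rfl
theorem F84088 : act 3 n53240 = n25816 := d7_1 D53240 (iv6 D25816) D25814
theorem F84089 : act 4 n53240 = n52003 := d10_1 D53240 (iv6 D52003) (iv4 F40799)
def n53241 : Q := act 6 n25815
theorem D53241 : act 6 n25815 = n53241 := rfl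
def n53242 : Q := act 0 n25816
theorem D53242 : act 0 n25816 = n53242 := rfl
def n53243 : Q := act 1 n25816
theorem D53243 : act 1 n25816 = n53243 := rfl
def n53244 : Q := act 5 n25816
theorem D53244 : act 5 n25816 = n53244 := rfl
def n53245 : Q := act 7 n25816
theorem D53245 : act 7 n25816 = n53245 := rfl
theorem F84090 : act 4 n53245 = n25819 := d11_1 D53245 (iv7 D25819) (iv4 F40800)
def n53246 : Q := act 4 n25817
theorem D53246 : act 4 n25817 = n53246 := rfl
theorem F84091 : act 7 n53246 = n30926 := d11_2 (iv7 F83903) D53246 (iv4 D30926)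
def n53247 : Q := act 6 n25817
theorem D53247 : act 6 n25817 = n53247 := rfl
theorem F84092 : act 3 n53247 = n25917 := d7_1 D53247 (iv6 D25917) (iv3 F83901)
theorem F84093 : act 5 n53247 = n29084 := d12_1 D53247 (iv6 F47396) F47395 (iv6 F39482) (iv5 F83902)
theorem F84094 : act 7 n53247 = n29083 := d14_2 (iv7 F83903) D53247 F46725 (iv7 F24032) (iv6 F24322)
def n53248 : Q := act 4 n25818
theorem D53248 : act 4 n25818 = n53248 := rfl
theorem F84095 : act 2 n53248 = n30926 := d1_1 D53248 (iv4 D30926) (iv2 F40802)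
def n53249 : Q := act 3 n25820
theorem D53249 : act 3 n25820 = n53249 := rfl
theorem F84096 : act 4 n53249 = n25824 := d5_2 D25820 D53249 (iv3 D25824) (iv4 D12264) D12263
theorem F84097 : act 7 n53249 = n48830 := d8_2 (iv7 F40807) D53249 (iv3 D48830)
def n53250 : Q := act 6 n25820
theorem D53250 : act 6 n25820 = n53250 := rfl
theorem F84098 : act 2 n53250 = n48829 := d3_1 D53250 (iv6 D48829) (iv2 F40806)
theorem F84099 : act 4 n53250 = n25821 := d10_1 D53250 (iv6 D25821) D25820
def n53251 : Q := act 0 n25821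
theorem D53251 : act 0 n25821 = n53251 := rfl
def n53252 : Q := act 1 n25821
theorem D53252 : act 1 n25821 = n53252 := rfl
def n53253 : Q := act 5 n25821
theorem D53253 : act 5 n25821 = n53253 := rfl
theorem F84100 : act 3 n53253 = n25829 := d6_1 D53253 (iv5 D25829) (iv3 F40810)
theorem F84101 : act 6 n53253 = n29617 := d12_2 D25821 D53253 (iv5 F78203) F78201 F39440
theorem F84102 : act 0 n53253 = n29960 := d21_4 (iv5 F40707) (iv1 F78205) F78203 (iv6 F84101) (iv6 D29960) (iv5 D14227) F22508 D6795 (iv6 F11106) D14337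
def n53254 : Q := act 7 n25821
theorem D53254 : act 7 n25821 = n53254 := rfl
theorem F84103 : act 3 n53254 = n25830 := d8_1 D53254 (iv7 D25830) (iv3 F40810)
def n53255 : Q := act 3 n25822
theorem D53255 : act 3 n25822 = n53255 := rfl
def n53256 : Q := act 6 n25822
theorem D53256 : act 6 n25822 = n53256 := rfl
theorem F84104 : act 4 n53256 = n52020 := d10_1 D53256 (iv6 D52020) (iv4 F40811)
def n53257 : Q := act 3 n25823
theorem D53257 : act 3 n25823 = n53257 := rfl
theorem F84105 : act 4 n53257 = n31046 := d5_2 F40814 D53257 (iv3 D31046) (iv4 F38279) F38277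
def n53258 : Q := act 0 n25824
theorem D53258 : act 0 n25824 = n53258 := rfl
def n53259 : Q := act 1 n25824
theorem D53259 : act 1 n25824 = n53259 := rfl
def n53260 : Q := act 2 n25824
theorem D53260 : act 2 n25824 = n53260 := rfl
def n53261 : Q := act 5 n25824
theorem D53261 : act 5 n25824 = n53261 := rfl
theorem F84106 : act 3 n53261 = n25825 := d6_1 D53261 (iv5 D25825) D25824
def n53262 : Q := act 6 n25824
theorem D53262 : act 6 n25824 = n53262 := rfl
theorem F84107 : act 3 n53262 = n25826 := d7_1 D53262 (iv6 D25826) D25824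
def n53263 : Q := act 0 n25825
theorem D53263 : act 0 n25825 = n53263 := rfl
theorem F84108 : act 5 n53263 = n31366 := d17_1 D53263 F49634 D49452 (iv4 F82202) (iv5 D52025) F39816 D50909 F80319 F45319
theorem F84109 : act 4 n53263 = n50896 := d18_3 F80322 F45319 D53263 (iv5 D50896) (iv4 D24754) (iv0 D11720) D11722 D24760 D50912
theorem F84110 : act 1 n25832 = n53263 := d15_0 (iv0 D53263) (iv7 F83973) F83972
theorem F84111 : act 2 n53208 = n53263 := d1_3 F84109 (iv2 F82229) (iv4 F84052)
theorem F84112 : act 7 n53205 = n53263 := d11_0 F84109 (iv7 F82217) (iv4 F84048)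
def n53264 : Q := act 1 n25825
theorem D53264 : act 1 n25825 = n53264 := rfl
theorem F84113 : act 1 n53264 = n25832 := d15_1 D53264 (iv7 F78276) F78275
theorem F84114 : act 7 n53264 = n53208 := d15_2 (iv0 D53263) D53264 F84111
theorem F84115 : act 5 n53264 = n49450 := d17_7 F18505 F11219 D11921 (iv5 F19655) D12264 D25825 D53264 (iv0 D49450) (iv4 D24136)
theorem F84116 : act 2 n53205 = n53264 := d2_3 F84115 (iv2 F78183) D53205
theorem F84117 : act 4 n50904 = n53264 := d9_15 F84115 (iv4 F79550) F79547 (iv4 D25284) F20273 D24754 D50896 (iv4 F84109) F84108 (iv4 D31366) F39931 (iv4 D25286) F20281 D24757 D50904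
def n53265 : Q := act 6 n25825
theorem D53265 : act 6 n25825 = n53265 := rfl
def n53266 : Q := act 0 n25826
theorem D53266 : act 0 n25826 = n53266 := rfl
def n53267 : Q := act 1 n25826
theorem D53267 : act 1 n25826 = n53267 := rfl
def n53268 : Q := act 5 n25826
theorem D53268 : act 5 n25826 = n53268 := rfl
def n53269 : Q := act 7 n25826
theorem D53269 : act 7 n25826 = n53269 := rfl
theorem F84118 : act 4 n53269 = n25830 := d11_1 D53269 (iv7 D25830) (iv4 F40815)
def n53270 : Q := act 2 n25827
theorem D53270 : act 2 n25827 = n53270 := rfl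
theorem F84119 : act 7 n25828 = n53270 := d15_2 (iv0 D25827) D25828 (iv2 D53270)
def n53271 : Q := act 3 n25827
theorem D53271 : act 3 n25827 = n53271 := rfl
def n53272 : Q := act 4 n25827
theorem D53272 : act 4 n25827 = n53272 := rfl
def n53273 : Q := act 5 n25827
theorem D53273 : act 5 n25827 = n53273 := rfl
theorem F84120 : act 6 n53273 = n30404 := d12_2 (iv6 F81363) D53273 (iv5 D30404) (iv6 F81362) F81361
def n53274 : Q := act 7 n25827
theorem D53274 : act 7 n25827 = n53274 := rfl
theorem F84121 : act 2 n53274 = n25828 := d4_1 D53274 F84119 (iv2 D53270)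
def n53275 : Q := act 3 n25828
theorem D53275 : act 3 n25828 = n53275 := rfl
def n53276 : Q := act 4 n25828
theorem D53276 : act 4 n25828 = n53276 := rfl
def n53277 : Q := act 5 n25828
theorem D53277 : act 5 n25828 = n53277 := rfl
theorem F84122 : act 6 n53277 = n30100 := d21_3 (iv5 F78282) (iv1 F78285) D53277 (iv1 D30100) (iv6 D14286) F11065 (iv1 F4809) D6823 D14292 D30109
def n53278 : Q := act 6 n25828
theorem D53278 : act 6 n25828 = n53278 := rfl
def n53279 : Q := act 4 n25829
theorem D53279 : act 4 n25829 = n53279 := rfl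
theorem F84123 : act 6 n53279 = n29618 := d10_2 (iv6 F40816) D53279 (iv4 D29618)
def n53280 : Q := act 0 n25831
theorem D53280 : act 0 n25831 = n53280 := rfl
def n53281 : Q := act 1 n25831
theorem D53281 : act 1 n25831 = n53281 := rfl
def n53282 : Q := act 2 n25831
theorem D53282 : act 2 n25831 = n53282 := rfl
def n53283 : Q := act 5 n25831
theorem D53283 : act 5 n25831 = n53283 := rfl
theorem F84124 : act 3 n53283 = n25832 := d6_1 D53283 (iv5 D25832) D25831
def n53284 : Q := act 6 n25831
theorem D53284 : act 6 n25831 = n53284 := rfl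
theorem F84125 : act 3 n53284 = n25833 := d7_1 D53284 (iv6 D25833) D25831
def n53285 : Q := act 6 n25832
theorem D53285 : act 6 n25832 = n53285 := rfl
def n53286 : Q := act 0 n25833
theorem D53286 : act 0 n25833 = n53286 := rfl
def n53287 : Q := act 1 n25833
theorem D53287 : act 1 n25833 = n53287 := rfl
def n53288 : Q := act 5 n25833
theorem D53288 : act 5 n25833 = n53288 := rfl
def n53289 : Q := act 7 n25833
theorem D53289 : act 7 n25833 = n53289 := rfl
theorem F84126 : act 4 n53289 = n25837 := d11_1 D53289 (iv7 D25837) (iv4 F40818)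
def n53290 : Q := act 2 n25834
theorem D53290 : act 2 n25834 = n53290 := rfl
theorem F84127 : act 7 n25835 = n53290 := d15_2 (iv0 D25834) D25835 (iv2 D53290)
theorem F84128 : act 5 n53290 = n30430 := d13_1 F84127 (iv7 F48853) (iv5 F83877)
theorem E8289 : n30433 = n25834 := (c2_3 F84128 (iv2 D30430) D30433 D53290)
theorem F84129 : act 5 n25834 = n14453 := (sb E8289 (iv5 D30433))
def n53291 : Q := act 3 n25834
theorem D53291 : act 3 n25834 = n53291 := rfl
theorem F84130 : act 5 n53291 = n30431 := d6_2 (iv5 F84129) D53291 (iv3 D30431)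
def n53292 : Q := act 4 n25834
theorem D53292 : act 4 n25834 = n53292 := rfl
def n53293 : Q := act 6 n25834
theorem D53293 : act 6 n25834 = n53293 := rfl
theorem F84131 : act 5 n53293 = n50436 := d21_6 (iv5 F39408) (iv1 F39410) F19651 D12267 D25834 D53293 (iv1 D50436) (iv5 F40749) (iv6 D25787) (iv1 F37817)
theorem F84132 : act 6 n51554 = n50436 := d12_4 (iv6 D53293) F84129 D30434 F81352 (iv5 F84131)
def n53294 : Q := act 7 n25834
theorem D53294 : act 7 n25834 = n53294 := rfl
theorem F84133 : act 2 n53294 = n25835 := d4_1 D53294 F84127 (iv2 D53290)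
theorem F84134 : act 5 n53294 = n30435 := d13_1 D53294 (iv7 D30435) (iv5 F84129)
def n53295 : Q := act 3 n25835
theorem D53295 : act 3 n25835 = n53295 := rfl
def n53296 : Q := act 4 n25835
theorem D53296 : act 4 n25835 = n53296 := rfl
def n53297 : Q := act 0 n25836
theorem D53297 : act 0 n25836 = n53297 := rfl
theorem F84136 : act 6 n53297 = n30154 := d21_5 (iv5 D6830) F10768 D13970 (iv6 F40821) D53297 F48491 (iv1 D25810) D25811 F40796 F20322
theorem F84137 : act 5 n53297 = n34056 := d21_0 (iv1 D34056) F26082 (iv6 D14325) (iv1 D6841) (iv6 F11084) (iv5 D6830) F10768 D13970 (iv6 F40821) D53297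
def n53298 : Q := act 1 n25836
theorem D53298 : act 1 n25836 = n53298 := rfl
theorem F84138 : act 1 n53298 = n30224 := d15_1 D53298 (iv7 D30224) (iv2 F40819)
theorem F84139 : act 5 n34055 = n53298 := d21_0 (iv1 D53298) (iv5 D25836) (iv6 D12267) (iv1 D5817) (iv6 F5452) (iv5 D3473) D3471 D7659 D16497 D34055
def n53299 : Q := act 4 n25836
theorem D53299 : act 4 n25836 = n53299 := rfl
theorem F84140 : act 2 n53299 = n30221 := d1_1 D53299 F48613 (iv2 F40819)
theorem F84141 : act 6 n53299 = n29368 := d10_2 (iv6 F40821) D53299 (iv4 D29368)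
def n53300 : Q := act 7 n25836
theorem D53300 : act 7 n25836 = n53300 := rfl
theorem F84142 : act 2 n53300 = n30224 := d4_1 D53300 (iv7 D30224) (iv2 F40819)
theorem F84143 : act 3 n53300 = n52114 := d8_1 D53300 (iv7 D52114) (iv3 F40820)
theorem F84144 : act 5 n53300 = n25837 := d13_1 D53300 (iv7 D25837) D25836
theorem F84145 : act 6 n53300 = n30229 := d14_1 D53300 (iv7 D30229) (iv6 D14348) (iv7 F23269) (iv6 F40821)
theorem F84146 : act 1 n30224 = n53297 := d15_0 (iv0 D53297) D53300 F84142
theorem F84147 : act 1 n30223 = n53300 := d15_1 D30223 (iv7 D53300) F40819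
theorem F84148 : act 1 n53300 = n30222 := d15_0 (iv0 D30222) D30224 (iv2 F84142)
def n53301 : Q := act 0 n25839
theorem D53301 : act 0 n25839 = n53301 := rfl
def n53302 : Q := act 1 n25839
theorem D53302 : act 1 n25839 = n53302 := rfl
def n53303 : Q := act 2 n25839
theorem D53303 : act 2 n25839 = n53303 := rfl
def n53304 : Q := act 4 n25839
theorem D53304 : act 4 n25839 = n53304 := rfl
theorem F84149 : act 3 n53304 = n29777 := d5_1 D53304 F47899 (iv3 F40824) (iv4 D25840) D25839
theorem F84150 : act 7 n53304 = n51124 := d11_2 F83993 D53304 (iv4 F83992)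
def n53305 : Q := act 5 n25839
theorem D53305 : act 5 n25839 = n53305 := rfl
theorem F84151 : act 3 n53305 = n25841 := d6_1 D53305 (iv5 D25841) D25839
def n53306 : Q := act 6 n25839
theorem D53306 : act 6 n25839 = n53306 := rfl
theorem F84152 : act 3 n53306 = n25842 := d7_1 D53306 (iv6 D25842) D25839
def n53307 : Q := act 6 n25840
theorem D53307 : act 6 n25840 = n53307 := rfl
theorem F84153 : act 2 n53307 = n28260 := d3_1 D53307 (iv6 D28260) F40825
theorem F84154 : act 3 n53307 = n51089 := d7_1 D53307 (iv6 D51089) (iv3 F40824)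
theorem F84155 : act 4 n53307 = n25842 := d10_1 D53307 (iv6 D25842) D25840
def n53308 : Q := act 0 n25841
theorem D53308 : act 0 n25841 = n53308 := rfl
theorem F84156 : act 5 n53308 = n49449 := d17_3 D12268 D25841 D53308 (iv4 D49449) (iv5 F39408) F39411 (iv5 F19655) (iv0 D5816) D5818
theorem F84157 : act 4 n53308 = n50909 := d18_1 D53308 (iv1 F82597) F82595 (iv5 D25832) (iv4 D12266) F20297 (iv4 F40762) F40766 D25841
theorem F84158 : act 2 n53202 = n53308 := d15_3 (iv0 D53308) (iv0 F49188) (iv7 F84044)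
theorem F84159 : act 1 n25845 = n53308 := d15_0 (iv0 D53308) (iv7 F83995) F83994
theorem F84160 : act 7 n53308 = n53196 := d15_2 F49189 F84159 F84026
def n53309 : Q := act 6 n25841
theorem D53309 : act 6 n25841 = n53309 := rfl
def n53310 : Q := act 0 n25842
theorem D53310 : act 0 n25842 = n53310 := rfl
def n53311 : Q := act 1 n25842
theorem D53311 : act 1 n25842 = n53311 := rfl
def n53312 : Q := act 5 n25842
theorem D53312 : act 5 n25842 = n53312 := rfl
def n53313 : Q := act 7 n25842
theorem D53313 : act 7 n25842 = n53313 := rfl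
def n53314 : Q := act 0 n25843
theorem D53314 : act 0 n25843 = n53314 := rfl
def n53315 : Q := act 1 n25843
theorem D53315 : act 1 n25843 = n53315 := rfl
def n53316 : Q := act 2 n25843
theorem D53316 : act 2 n25843 = n53316 := rfl
def n53317 : Q := act 4 n25843
theorem D53317 : act 4 n25843 = n53317 := rfl
theorem F84161 : act 3 n53317 = n28216 := d5_1 D53317 (iv4 D28216) (iv3 F40835) (iv4 D25844) D25843
theorem F84162 : act 7 n53317 = n28262 := d11_2 F83987 D53317 (iv4 F83986)
def n53318 : Q := act 5 n25843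
theorem D53318 : act 5 n25843 = n53318 := rfl
theorem F84163 : act 3 n53318 = n25845 := d6_1 D53318 (iv5 D25845) D25843
def n53319 : Q := act 6 n25843
theorem D53319 : act 6 n25843 = n53319 := rfl
theorem F84164 : act 3 n53319 = n25846 := d7_1 D53319 (iv6 D25846) D25843
def n53320 : Q := act 6 n25844
theorem D53320 : act 6 n25844 = n53320 := rfl
theorem F84165 : act 2 n53320 = n51123 := d3_1 D53320 (iv6 D51123) (iv2 F40832)
theorem F84166 : act 3 n53320 = n28217 := d7_1 D53320 (iv6 D28217) (iv3 F40835)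
theorem F84167 : act 4 n53320 = n25846 := d10_1 D53320 (iv6 D25846) D25844
theorem F84168 : act 5 n53320 = n49898 := d12_1 D53320 (iv6 D49898) (iv5 D24332) D24333 F40836
def n53321 : Q := act 6 n25845
theorem D53321 : act 6 n25845 = n53321 := rfl
def n53322 : Q := act 0 n25846
theorem D53322 : act 0 n25846 = n53322 := rfl
def n53323 : Q := act 1 n25846
theorem D53323 : act 1 n25846 = n53323 := rfl
def n53324 : Q := act 5 n25846
theorem D53324 : act 5 n25846 = n53324 := rfl
def n53325 : Q := act 7 n25846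
theorem D53325 : act 7 n25846 = n53325 := rfl
def n53326 : Q := act 0 n25847
theorem D53326 : act 0 n25847 = n53326 := rfl
theorem F84169 : act 2 n25851 = n53326 := d15_3 (iv0 D53326) (iv0 D25847) D25851
theorem F84170 : act 4 n53326 = n25992 := d1_2 (iv4 F40841) F84169 (iv2 F41085)
theorem F84171 : act 7 n53326 = n25849 := d4_2 D25851 F84169 (iv2 D25849)
theorem F84172 : act 1 n25848 = n53326 := d15_1 D25848 F84171 (iv2 D25849)
def n53327 : Q := act 2 n25847
theorem D53327 : act 2 n25847 = n53327 := rfl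
theorem F84173 : act 7 n25848 = n53327 := d15_2 (iv0 D25847) D25848 (iv2 D53327)
def n53328 : Q := act 3 n25847
theorem D53328 : act 3 n25847 = n53328 := rfl
def n53329 : Q := act 4 n25847
theorem D53329 : act 4 n25847 = n53329 := rfl
def n53330 : Q := act 5 n25847
theorem D53330 : act 5 n25847 = n53330 := rfl
def n53331 : Q := act 6 n25847
theorem D53331 : act 6 n25847 = n53331 := rfl
def n53332 : Q := act 7 n25847
theorem D53332 : act 7 n25847 = n53332 := rfl
theorem F84174 : act 2 n53332 = n25848 := d4_1 D53332 F84173 (iv2 D53327)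
def n53333 : Q := act 3 n25848
theorem D53333 : act 3 n25848 = n53333 := rfl
def n53334 : Q := act 4 n25848
theorem D53334 : act 4 n25848 = n53334 := rfl
theorem F84175 : act 3 n53334 = n30972 := d20_9 (iv4 F76905) F76906 (iv4 D31214) (iv3 D14739) D14737 (iv3 F41086) (iv4 F84170) (iv1 F84172) D53334 (iv1 F49398)
def n53335 : Q := act 5 n25848
theorem D53335 : act 5 n25848 = n53335 := rfl
def n53336 : Q := act 6 n25848
theorem D53336 : act 6 n25848 = n53336 := rfl
def n53337 : Q := act 0 n25849
theorem D53337 : act 0 n25849 = n53337 := rfl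
theorem F84176 : act 1 n25851 = n53337 := d15_0 (iv0 D53337) (iv7 F84171) (iv2 F84169)
theorem F84177 : act 4 n48862 = n53337 := d20_6 F7601 (iv1 D5101) D5102 D11167 D23825 D48862 (iv1 F84176) F40841 F20463 (iv1 F9012)
def n53338 : Q := act 1 n25849
theorem D53338 : act 1 n25849 = n53338 := rfl
theorem F84178 : act 1 n53338 = n25851 := d15_1 D53338 (iv7 D25851) D25849
def n53339 : Q := act 5 n25849
theorem D53339 : act 5 n25849 = n53339 := rfl
theorem F84179 : act 2 n53339 = n25850 := d2_1 D53339 (iv5 D25850) D25849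
def n53340 : Q := act 0 n25850
theorem D53340 : act 0 n25850 = n53340 := rfl
def n53341 : Q := act 1 n25850
theorem D53341 : act 1 n25850 = n53341 := rfl
def n53342 : Q := act 4 n25850
theorem D53342 : act 4 n25850 = n53342 := rfl
def n53343 : Q := act 6 n25850
theorem D53343 : act 6 n25850 = n53343 := rfl
theorem F84180 : act 3 n53343 = n25855 := d7_1 D53343 (iv6 D25855) (iv3 F40839)
def n53344 : Q := act 7 n25850
theorem D53344 : act 7 n25850 = n53344 := rfl
theorem F84181 : act 3 n53344 = n25856 := d8_1 D53344 (iv7 D25856) (iv3 F40839)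
theorem F84182 : act 5 n53344 = n25851 := d13_1 D53344 (iv7 D25851) D25850
def n53345 : Q := act 6 n25851
theorem D53345 : act 6 n25851 = n53345 := rfl
theorem F84183 : act 3 n53345 = n25857 := d7_1 D53345 (iv6 D25857) (iv3 F40840)
theorem F84184 : act 4 n53345 = n26010 := d10_1 D53345 (iv6 D26010) (iv4 F40841)
def n53346 : Q := act 3 n25852
theorem D53346 : act 3 n25852 = n53346 := rfl
def n53347 : Q := act 6 n25852
theorem D53347 : act 6 n25852 = n53347 := rfl
def n53348 : Q := act 3 n25853
theorem D53348 : act 3 n25853 = n53348 := rfl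
def n53349 : Q := act 6 n25853
theorem D53349 : act 6 n25853 = n53349 := rfl
def n53350 : Q := act 3 n25854
theorem D53350 : act 3 n25854 = n53350 := rfl
def n53351 : Q := act 6 n25854
theorem D53351 : act 6 n25854 = n53351 := rfl
theorem F84185 : act 4 n53351 = n25855 := d10_1 D53351 (iv6 D25855) D25854
def n53352 : Q := act 0 n25855
theorem D53352 : act 0 n25855 = n53352 := rfl
def n53353 : Q := act 1 n25855
theorem D53353 : act 1 n25855 = n53353 := rfl
def n53354 : Q := act 7 n25855
theorem D53354 : act 7 n25855 = n53354 := rfl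
def n53355 : Q := act 6 n25856
theorem D53355 : act 6 n25856 = n53355 := rfl
def n53356 : Q := act 0 n25857
theorem D53356 : act 0 n25857 = n53356 := rfl
def n53357 : Q := act 1 n25857
theorem D53357 : act 1 n25857 = n53357 := rfl
def n53358 : Q := act 5 n25857
theorem D53358 : act 5 n25857 = n53358 := rfl
def n53359 : Q := act 2 n25858
theorem D53359 : act 2 n25858 = n53359 := rfl
theorem F84186 : act 7 n25859 = n53359 := d15_2 (iv0 D25858) D25859 (iv2 D53359)
def n53360 : Q := act 3 n25858
theorem D53360 : act 3 n25858 = n53360 := rfl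
def n53361 : Q := act 4 n25858
theorem D53361 : act 4 n25858 = n53361 := rfl
def n53362 : Q := act 5 n25858
theorem D53362 : act 5 n25858 = n53362 := rfl
theorem F84187 : act 0 n53228 = n53362 := d21_10 (iv5 D53362) (iv1 F53422) F53419 (iv6 D34045) (iv1 F26073) D16509 F26104 D30154 F48491 D53228
def n53363 : Q := act 6 n25858
theorem D53363 : act 6 n25858 = n53363 := rfl
theorem F84188 : act 5 n53363 = n53120 := d21_6 (iv5 D11335) F10114 (iv5 F8945) D12273 D25858 D53363 (iv1 D53120) F53467 (iv6 F53466) (iv1 D24135)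
def n53364 : Q := act 7 n25858
theorem D53364 : act 7 n25858 = n53364 := rfl
theorem F84189 : act 2 n53364 = n25859 := d4_1 D53364 F84186 (iv2 D53359)
def n53365 : Q := act 3 n25859
theorem D53365 : act 3 n25859 = n53365 := rfl
def n53366 : Q := act 4 n25859
theorem D53366 : act 4 n25859 = n53366 := rfl
def n53367 : Q := act 5 n25859
theorem D53367 : act 5 n25859 = n53367 := rfl
theorem F84190 : act 6 n53367 = n53198 := d12_2 (iv6 F81657) D53367 F84032 (iv6 D51720) D51719
def n53368 : Q := act 3 n25860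
theorem D53368 : act 3 n25860 = n53368 := rfl
theorem F84191 : act 4 n53368 = n31727 := d5_2 D25860 D53368 (iv3 D31727) F24589 F20338
theorem F84192 : act 7 n53368 = n30848 := d8_2 (iv7 F40845) D53368 (iv3 D30848)
def n53369 : Q := act 5 n25860
theorem D53369 : act 5 n25860 = n53369 := rfl
theorem F84193 : act 2 n53369 = n30853 := d2_1 D53369 (iv5 D30853) (iv2 F40844)
theorem F84194 : act 7 n53369 = n30849 := d13_2 (iv7 F40845) D53369 (iv5 D30849)
theorem F84195 : act 4 n53369 = n50352 := d16_2 D25860 D53369 F79732 (iv4 D50145) (iv5 F38519) F38517 F20344 F20342 F20337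
theorem F84196 : act 0 n53369 = n49387 := d17_2 F79436 D53369 (iv5 D49387) (iv4 F46300) F46299 (iv0 F39215) (iv5 F39006) (iv0 F38390) D50143
theorem F84197 : act 1 n53369 = n49390 := d17_6 (iv1 F11242) F11194 F19267 (iv5 F20335) D25860 D53369 (iv5 D49390) F37768 (iv4 D14594)
def n53370 : Q := act 6 n25860
theorem D53370 : act 6 n25860 = n53370 := rfl
theorem F84198 : act 2 n53370 = n30854 := d3_1 D53370 (iv6 D30854) (iv2 F40844)
theorem F84199 : act 4 n53370 = n25861 := d10_1 D53370 (iv6 D25861) D25860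
def n53371 : Q := act 0 n25861
theorem D53371 : act 0 n25861 = n53371 := rfl
def n53372 : Q := act 1 n25861
theorem D53372 : act 1 n25861 = n53372 := rfl
theorem F84200 : act 1 n53372 = n30857 := d15_1 D53372 (iv7 D30857) (iv2 F40847)
theorem F84201 : act 5 n51468 = n53372 := d21_6 F39140 (iv1 F24264) F24206 D11880 D25012 D51468 (iv1 D53372) F40849 (iv6 D24958) (iv1 F39138)
theorem F84202 : act 7 n53372 = n30855 := d13_2 (iv7 F81242) F84201 F79694
theorem F84203 : act 2 n30855 = n53371 := d15_3 (iv0 D53371) D53372 F84202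
theorem F84204 : act 7 n30856 = n53371 := d15_2 (iv0 D30855) D30856 (iv2 F84203)
theorem F84205 : act 2 n53372 = n30856 := d4_3 F84204 (iv2 F84203) (iv7 F84202)
theorem F84206 : act 1 n30857 = n53371 := d15_1 F84200 (iv7 F84204) (iv2 F84205)
def n53373 : Q := act 7 n25861
theorem D53373 : act 7 n25861 = n53373 := rfl
theorem F84207 : act 2 n53373 = n30857 := d4_1 D53373 (iv7 D30857) (iv2 F40847)
theorem F84208 : act 3 n53373 = n51999 := d8_1 D53373 (iv7 D51999) (iv3 F40848)
theorem F84209 : act 5 n53373 = n51329 := d13_1 D53373 (iv7 D51329) (iv5 F40849)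
theorem F84210 : act 6 n53373 = n30553 := d14_1 D53373 F79364 (iv6 D14614) F20339 D25861
theorem F84211 : act 1 n30856 = n53373 := d15_1 D30856 (iv7 D53373) F40847
theorem F84212 : act 1 n53373 = n30855 := d15_1 F84211 (iv7 F84202) F84205
def n53374 : Q := act 3 n25862
theorem D53374 : act 3 n25862 = n53374 := rfl
theorem F84213 : act 7 n53374 = n30852 := d8_2 (iv7 F40851) D53374 (iv3 D30852)
def n53375 : Q := act 5 n25862
theorem D53375 : act 5 n25862 = n53375 := rfl
theorem F84214 : act 2 n53375 = n30849 := d2_1 D53375 (iv5 D30849) (iv2 F40850)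
theorem F84215 : act 4 n53375 = n50353 := d9_1 D53375 F79738 (iv4 D25058) F19596 (iv4 F19266) (iv5 F20335) D25860 D53369 F84195 F79732 (iv4 D50145) (iv5 F38519) F38517 F20344 D25862
theorem F84216 : act 7 n53375 = n30853 := d13_2 (iv7 F40851) D53375 (iv5 D30853)
theorem F84217 : act 0 n53375 = n49390 := d17_2 F76873 D53375 (iv5 D49390) F46307 F46305 F79689 F79684 F49318 D48804
theorem F84218 : act 1 n53375 = n49387 := d17_6 D11318 D24102 (iv1 F37765) F20344 D25862 D53375 (iv5 D49387) (iv0 D24104) (iv4 D11319)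
def n53376 : Q := act 6 n25862
theorem D53376 : act 6 n25862 = n53376 := rfl
theorem F84219 : act 2 n53376 = n30850 := d3_1 D53376 (iv6 D30850) (iv2 F40850)
theorem F84220 : act 4 n53376 = n25863 := d10_1 D53376 (iv6 D25863) D25862
def n53377 : Q := act 3 n25864
theorem D53377 : act 3 n25864 = n53377 := rfl
theorem F84221 : act 7 n53377 = n30858 := d8_2 F40863 D53377 (iv3 D30858)
def n53378 : Q := act 6 n25864
theorem D53378 : act 6 n25864 = n53378 := rfl
theorem F84222 : act 2 n53378 = n30864 := d3_1 D53378 (iv6 D30864) (iv2 F40862)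
theorem F84223 : act 4 n53378 = n50194 := d10_1 D53378 (iv6 D50194) (iv4 F40855)
def n53379 : Q := act 3 n25865
theorem D53379 : act 3 n25865 = n53379 := rfl
theorem F84224 : act 7 n53379 = n30862 := d8_2 F40860 D53379 (iv3 D30862)
def n53380 : Q := act 6 n25865
theorem D53380 : act 6 n25865 = n53380 := rfl
theorem F84225 : act 2 n53380 = n30861 := d3_1 D53380 (iv6 D30861) F40864
theorem F84226 : act 4 n53380 = n50195 := d10_1 D53380 (iv6 D50195) (iv4 F40857)
theorem F84227 : act 0 n53380 = n30552 := d20_7 D30564 (iv1 F53932) F53930 (iv3 F53925) (iv1 F53926) (iv3 F79553) (iv4 F84226) F48970 F24140 D14499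
def n53381 : Q := act 0 n25866
theorem D53381 : act 0 n25866 = n53381 := rfl
theorem F84228 : act 1 n30867 = n53381 := d15_0 (iv0 D53381) F40866 D30867
def n53382 : Q := act 1 n25866
theorem D53382 : act 1 n25866 = n53382 := rfl
theorem F84229 : act 4 n31749 = n53382 := d20_6 (iv4 D7058) (iv1 F5018) D3269 D7116 D14936 D31749 (iv1 D53382) F40865 (iv3 D12283) (iv1 F11308)
theorem F84230 : act 0 n30867 = n53382 := d20_7 (iv4 F78397) (iv1 F78402) (iv4 F50034) (iv3 D30767) (iv1 F40943) F40941 (iv4 F49322) (iv4 F84229) (iv3 D31749) (iv1 F41152)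
def n53383 : Q := act 2 n25866
theorem D53383 : act 2 n25866 = n53383 := rfl
theorem F84231 : act 4 n53383 = n25876 := d1_2 (iv4 F40865) D53383 (iv2 D25876)
theorem F84232 : act 7 n53383 = n30867 := d4_2 (iv7 F40866) D53383 (iv2 D30867)
theorem F84233 : act 1 n53383 = n30865 := d15_0 (iv0 D30865) (iv7 F40866) D53383
theorem F84234 : act 1 n30866 = n53383 := d15_1 D30866 F84232 (iv2 D30867)
def n53384 : Q := act 5 n25866
theorem D53384 : act 5 n25866 = n53384 := rfl
theorem F84235 : act 3 n53384 = n25867 := d6_1 D53384 (iv5 D25867) D25866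
theorem F84236 : act 7 n53384 = n30868 := d13_2 (iv7 F40866) D53384 (iv5 D30868)
def n53385 : Q := act 6 n25866
theorem D53385 : act 6 n25866 = n53385 := rfl
theorem F84237 : act 3 n53385 = n25868 := d7_1 D53385 (iv6 D25868) D25866
theorem F84238 : act 4 n53385 = n25878 := d10_1 D53385 (iv6 D25878) (iv4 F40865)
def n53386 : Q := act 0 n25867
theorem D53386 : act 0 n25867 = n53386 := rfl
theorem F84239 : act 5 n53386 = n25918 := d17_1 D53386 (iv1 F40967) D31041 (iv4 F79506) (iv5 D50171) (iv0 D24468) D24471 D50182 (iv4 F79526)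
theorem F84240 : act 4 n53386 = n50222 := d18_1 D53386 (iv1 D50222) F78119 F78118 (iv4 D24512) F38436 (iv4 F40855) (iv0 D25864) D25867
theorem F84241 : act 1 n30829 = n53386 := d15_0 (iv0 D53386) F40867 (iv2 F49261)
theorem F84242 : act 2 n30871 = n53386 := d2_3 F84239 (iv2 F40968) (iv5 F49327)
theorem F84243 : act 7 n30870 = n53386 := d13_0 F84239 (iv7 F40969) (iv5 F49326)
def n53387 : Q := act 1 n25867
theorem D53387 : act 1 n25867 = n53387 := rfl
theorem F84244 : act 1 n53387 = n30829 := d15_1 D53387 (iv7 F78079) F78077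
theorem F84245 : act 7 n53387 = n30871 := d15_2 (iv0 D53386) D53387 F84242
theorem F84246 : act 5 n53387 = n25919 := d17_7 (iv1 F19209) (iv5 D6759) F10170 D5823 D12276 D25867 D53387 F40970 (iv4 D14685)
theorem F84247 : act 4 n53387 = n50221 := d17_9 (iv1 F79575) (iv5 D24518) (iv1 F38450) D50214 F79569 F49461 (iv0 D25864) D25867 D53387
theorem F84248 : act 2 n30870 = n53387 := d16_9 F84247 F79574 (iv4 F38809) (iv5 D24798) F19101 D24479 (iv4 F40966) (iv5 F84239) (iv7 F84243)
def n53388 : Q := act 6 n25867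
theorem D53388 : act 6 n25867 = n53388 := rfl
def n53389 : Q := act 0 n25868
theorem D53389 : act 0 n25868 = n53389 := rfl
def n53390 : Q := act 1 n25868
theorem D53390 : act 1 n25868 = n53390 := rfl
def n53391 : Q := act 5 n25868
theorem D53391 : act 5 n25868 = n53391 := rfl
def n53392 : Q := act 7 n25868
theorem D53392 : act 7 n25868 = n53392 := rfl
theorem F84249 : act 4 n53392 = n25871 := d11_1 D53392 (iv7 D25871) (iv4 F40868)
theorem F84250 : act 6 n53392 = n30877 := d14_1 D53392 (iv7 D30877) (iv6 D14621) (iv7 F20345) D25868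
def n53393 : Q := act 2 n25869
theorem D53393 : act 2 n25869 = n53393 := rfl
theorem F84251 : act 7 n25870 = n53393 := d15_2 (iv0 D25869) D25870 (iv2 D53393)
def n53394 : Q := act 3 n25869
theorem D53394 : act 3 n25869 = n53394 := rfl
theorem F84252 : act 4 n53394 = n51169 := d20_6 D14837 F49833 F20369 (iv3 F20346) D25869 D53394 (iv1 F80726) F78406 F37932 (iv1 F20499)
def n53395 : Q := act 4 n25869
theorem D53395 : act 4 n25869 = n53395 := rfl
def n53396 : Q := act 7 n25869
theorem D53396 : act 7 n25869 = n53396 := rfl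
def n53397 : Q := act 3 n25870
theorem D53397 : act 3 n25870 = n53397 := rfl
def n53398 : Q := act 4 n25870
theorem D53398 : act 4 n25870 = n53398 := rfl
def n53399 : Q := act 6 n25870
theorem D53399 : act 6 n25870 = n53399 := rfl
def n53400 : Q := act 0 n25872
theorem D53400 : act 0 n25872 = n53400 := rfl
theorem F84254 : act 1 n30727 = n53400 := d15_0 (iv0 D53400) F40871 D30727
def n53401 : Q := act 1 n25872
theorem D53401 : act 1 n25872 = n53401 := rfl
def n53402 : Q := act 2 n25872
theorem D53402 : act 2 n25872 = n53402 := rfl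
theorem F84255 : act 3 n53402 = n30741 := d0_2 D25872 D53402 (iv2 D30741) (iv3 D14567) (iv2 F20355)
theorem F84256 : act 7 n53402 = n30727 := d4_2 (iv7 F40871) D53402 (iv2 D30727)
theorem F84257 : act 1 n53402 = n30725 := d15_0 (iv0 D30725) (iv7 F40871) D53402
theorem F84258 : act 1 n53401 = n30727 := d15_1 D53401 (iv7 F84256) (iv2 D53402)
theorem F84259 : act 1 n30726 = n53402 := d15_1 D30726 F84256 (iv2 D30727)
def n53403 : Q := act 6 n25872
theorem D53403 : act 6 n25872 = n53403 := rfl
theorem F84260 : act 3 n53403 = n25873 := d7_1 D53403 (iv6 D25873) D25872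
def n53404 : Q := act 5 n25873
theorem D53404 : act 5 n25873 = n53404 := rfl
theorem F84261 : act 2 n53404 = n30746 := d2_1 D53404 (iv5 D30746) (iv2 F40872)
def n53405 : Q := act 2 n25874
theorem D53405 : act 2 n25874 = n53405 := rfl
theorem F84262 : act 7 n25875 = n53405 := d15_2 (iv0 D25874) D25875 (iv2 D53405)
def n53406 : Q := act 3 n25874
theorem D53406 : act 3 n25874 = n53406 := rfl
def n53407 : Q := act 4 n25874
theorem D53407 : act 4 n25874 = n53407 := rfl
def n53408 : Q := act 5 n25874
theorem D53408 : act 5 n25874 = n53408 := rfl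
def n53409 : Q := act 6 n25874
theorem D53409 : act 6 n25874 = n53409 := rfl
def n53410 : Q := act 7 n25874
theorem D53410 : act 7 n25874 = n53410 := rfl
theorem F84263 : act 2 n53410 = n25875 := d4_1 D53410 F84262 (iv2 D53405)
def n53411 : Q := act 3 n25875
theorem D53411 : act 3 n25875 = n53411 := rfl
def n53412 : Q := act 4 n25875
theorem D53412 : act 4 n25875 = n53412 := rfl
def n53413 : Q := act 5 n25875
theorem D53413 : act 5 n25875 = n53413 := rfl
def n53414 : Q := act 6 n25875
theorem D53414 : act 6 n25875 = n53414 := rfl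
def n53415 : Q := act 5 n25876
theorem D53415 : act 5 n25876 = n53415 := rfl
theorem F84264 : act 2 n53415 = n25877 := d2_1 D53415 (iv5 D25877) D25876
theorem F84265 : act 3 n53415 = n30776 := d6_1 D53415 (iv5 D30776) (iv3 F40876)
theorem F84266 : act 7 n53415 = n30900 := d13_2 (iv7 F40877) D53415 (iv5 D30900)
theorem F84267 : act 1 n30903 = n53415 := d15_1 D30903 F84266 F49351
theorem F84268 : act 1 n53415 = n30902 := d15_0 (iv0 D30902) (iv7 F40882) (iv2 F84264)
def n53416 : Q := act 6 n25876
theorem D53416 : act 6 n25876 = n53416 := rfl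
theorem F84269 : act 2 n53416 = n25878 := d3_1 D53416 (iv6 D25878) D25876
theorem F84270 : act 3 n53416 = n30777 := d7_1 D53416 (iv6 D30777) (iv3 F40876)
def n53417 : Q := act 0 n25877
theorem D53417 : act 0 n25877 = n53417 := rfl
theorem F84271 : act 1 n30900 = n53417 := d15_0 (iv0 D53417) F40882 (iv2 F49351)
def n53418 : Q := act 1 n25877
theorem D53418 : act 1 n25877 = n53418 := rfl
theorem F84272 : act 1 n53418 = n30900 := d15_1 D53418 (iv7 F84266) F84264
def n53419 : Q := act 4 n25877
theorem D53419 : act 4 n25877 = n53419 := rfl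
theorem F84273 : act 3 n53419 = n26229 := d5_1 D53419 (iv4 D26229) (iv3 D12438) (iv4 F20365) (iv3 F40881)
theorem F84274 : act 7 n53419 = n30904 := d11_2 (iv7 F40882) D53419 (iv4 D30904)
def n53420 : Q := act 6 n25877
theorem D53420 : act 6 n25877 = n53420 := rfl
theorem F84275 : act 3 n53420 = n25879 := d7_1 D53420 (iv6 D25879) (iv3 F40881)
def n53421 : Q := act 0 n25878
theorem D53421 : act 0 n25878 = n53421 := rfl
def n53423 : Q := act 5 n25878
theorem D53423 : act 5 n25878 = n53423 := rfl
def n53424 : Q := act 7 n25878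
theorem D53424 : act 7 n25878 = n53424 := rfl
theorem F84278 : act 6 n53424 = n30909 := d14_1 D53424 (iv7 D30909) (iv6 D14632) (iv7 F20362) D25878
def n53425 : Q := act 0 n25879
theorem D53425 : act 0 n25879 = n53425 := rfl
def n53426 : Q := act 1 n25879
theorem D53426 : act 1 n25879 = n53426 := rfl
theorem F84279 : act 1 n53426 = n30789 := d15_1 D53426 (iv7 D30789) (iv2 F40884)
def n53427 : Q := act 5 n25879
theorem D53427 : act 5 n25879 = n53427 := rfl
theorem F84281 : act 6 n53427 = n25882 := d12_2 D25879 D53427 (iv5 D25882) (iv6 D12285) D12284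
def n53428 : Q := act 7 n25879
theorem D53428 : act 7 n25879 = n53428 := rfl
theorem F84282 : act 2 n53428 = n30789 := d4_1 D53428 (iv7 D30789) (iv2 F40884)
theorem F84283 : act 4 n53428 = n26233 := d11_1 D53428 (iv7 D26233) (iv4 F40885)
theorem F84284 : act 6 n53428 = n30913 := d14_1 D53428 (iv7 D30913) (iv6 D14633) (iv7 F20364) D25879
theorem F84285 : act 1 n30789 = n53425 := d15_0 (iv0 D53425) D53428 F84282
theorem F84286 : act 1 n30787 = n53428 := d15_1 D30787 (iv7 D53428) F40884
def n53433 : Q := act 0 n25885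
theorem D53433 : act 0 n25885 = n53433 := rfl
theorem F84301 : act 1 n30813 = n53433 := d15_0 (iv0 D53433) (iv7 F48959) D30813
def n53434 : Q := act 1 n25885
theorem D53434 : act 1 n25885 = n53434 := rfl
def n53435 : Q := act 2 n25885
theorem D53435 : act 2 n25885 = n53435 := rfl
theorem F84303 : act 7 n53435 = n30813 := d4_2 F48959 D53435 (iv2 D30813)
theorem F84305 : act 1 n53434 = n30813 := d15_1 D53434 (iv7 F84303) (iv2 D53435)
def n53436 : Q := act 4 n25885
theorem D53436 : act 4 n25885 = n53436 := rfl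
theorem F84307 : act 7 n53436 = n30814 := d11_2 F48959 D53436 (iv4 D30814)
def n53438 : Q := act 5 n25886
theorem D53438 : act 5 n25886 = n53438 := rfl
theorem F84309 : act 2 n53438 = n30810 := d2_1 D53438 (iv5 D30810) F48962
theorem F84310 : act 7 n53438 = n30817 := d13_2 F48960 D53438 (iv5 D30817)
def n53441 : Q := act 2 n25888
theorem D53441 : act 2 n25888 = n53441 := rfl
theorem F84313 : act 3 n53441 = n30813 := d0_2 D25888 D53441 (iv2 D30813) (iv3 D14590) (iv2 F48951)
theorem F84314 : act 5 n53441 = n53435 := d2_2 (iv5 F40897) D53441 (iv2 D53435)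
theorem F84315 : act 7 n53441 = n30805 := d4_2 (iv7 F48961) D53441 (iv2 D30805)
def n53443 : Q := act 6 n25888
theorem D53443 : act 6 n25888 = n53443 := rfl
theorem F84320 : act 3 n53443 = n25890 := d7_1 D53443 (iv6 D25890) D25888
def n53446 : Q := act 6 n25889
theorem D53446 : act 6 n25889 = n53446 := rfl
theorem F84325 : act 2 n53446 = n30818 := d3_1 D53446 (iv6 D30818) F48964
theorem F84326 : act 4 n53446 = n25890 := d10_1 D53446 (iv6 D25890) D25889
def n53447 : Q := act 6 n25891
theorem D53447 : act 6 n25891 = n53447 := rfl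
theorem F84327 : act 2 n53447 = n30659 := d3_1 D53447 (iv6 D30659) (iv2 F40898)
theorem F84328 : act 3 n53447 = n51918 := d7_1 D53447 (iv6 D51918) (iv3 F40899)
theorem F84329 : act 5 n53447 = n53447 := d12_1 D53447 (iv6 D53447) (iv5 D25891) F20379 D25891
theorem F84330 : act 7 n53447 = n30835 := d14_2 (iv7 F40900) D53447 (iv6 D30835) F24272 F23741
def n53448 : Q := act 3 n25892
theorem D53448 : act 3 n25892 = n53448 := rfl
theorem F84331 : act 7 n53448 = n29778 := d8_2 (iv7 F40904) D53448 (iv3 D29778)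
def n53449 : Q := act 5 n25892
theorem D53449 : act 5 n25892 = n53449 := rfl
theorem F84332 : act 2 n53449 = n30661 := d2_1 D53449 (iv5 D30661) (iv2 F40903)
theorem F84333 : act 7 n53449 = n29779 := d13_2 (iv7 F40904) D53449 (iv5 D29779)
theorem F84334 : act 0 n53449 = n51111 := d17_2 (iv1 F40906) D53449 (iv5 D51111) (iv4 D24877) (iv5 D11797) F19163 (iv5 F38951) F38958 D24880
theorem F84335 : act 1 n53449 = n51102 := d17_6 (iv1 F20390) (iv5 D6948) (iv1 F8978) D12290 D25892 D53449 (iv5 D51102) (iv0 F40918) (iv4 D25895)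
def n53450 : Q := act 6 n25892
theorem D53450 : act 6 n25892 = n53450 := rfl
theorem F84336 : act 2 n53450 = n30662 := d3_1 D53450 (iv6 D30662) (iv2 F40903)
theorem F84337 : act 4 n53450 = n25893 := d10_1 D53450 (iv6 D25893) D25892
theorem F84338 : act 7 n53450 = n51316 := d14_2 (iv7 F40904) D53450 (iv6 D51316) (iv7 D24950) (iv6 F23638)
def n53451 : Q := act 3 n25895
theorem D53451 : act 3 n25895 = n53451 := rfl
theorem F84339 : act 4 n53451 = n31376 := d5_2 D25895 D53451 (iv3 D31376) (iv4 F40913) (iv3 D25894)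
theorem F84340 : act 7 n53451 = n30672 := d8_2 (iv7 F40917) D53451 (iv3 D30672)
def n53452 : Q := act 5 n25895
theorem D53452 : act 5 n25895 = n53452 := rfl
theorem F84341 : act 2 n53452 = n30681 := d2_1 D53452 (iv5 D30681) (iv2 F40916)
theorem F84342 : act 4 n53452 = n51433 := d9_1 D53452 F81213 (iv4 D50265) (iv5 D24515) F18953 D11603 D24524 D50283 (iv4 F81204) F81203 (iv4 D50901) (iv5 F39918) F39921 F24337 D25895
theorem F84343 : act 7 n53452 = n30673 := d13_2 (iv7 F40917) D53452 (iv5 D30673)
def n53453 : Q := act 6 n25895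
theorem D53453 : act 6 n25895 = n53453 := rfl
theorem F84344 : act 2 n53453 = n30682 := d3_1 D53453 (iv6 D30682) (iv2 F40916)
theorem F84345 : act 4 n53453 = n25896 := d10_1 D53453 (iv6 D25896) D25895
def n53454 : Q := act 3 n25897
theorem D53454 : act 3 n25897 = n53454 := rfl
theorem F84346 : act 4 n53454 = n30306 := d5_2 F45743 D53454 (iv3 D30306) D30307 (iv3 F48740)
theorem F84347 : act 7 n53454 = n30685 := d8_2 (iv7 F40929) D53454 (iv3 D30685)
def n53455 : Q := act 6 n25897
theorem D53455 : act 6 n25897 = n53455 := rfl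
theorem F84348 : act 2 n53455 = n30690 := d3_1 D53455 (iv6 D30690) F40928
theorem F84349 : act 0 n53455 = n51296 := d21_4 D14653 D30954 F49386 D53455 (iv6 D51296) D51295 F80914 (iv5 D51096) F38969 F19178
def n53456 : Q := act 3 n25898
theorem D53456 : act 3 n25898 = n53456 := rfl
theorem F84350 : act 4 n53456 = n49620 := d5_2 (iv4 F40925) D53456 (iv3 D49620) (iv4 D24198) (iv3 F24279)
theorem F84351 : act 7 n53456 = n30688 := d8_2 F40927 D53456 (iv3 D30688)
def n53457 : Q := act 6 n25898
theorem D53457 : act 6 n25898 = n53457 := rfl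
theorem F84352 : act 2 n53457 = n30687 := d3_1 D53457 (iv6 D30687) F40926
theorem F84353 : act 4 n53457 = n30845 := d10_1 D53457 F49303 (iv4 F40925)
def n53458 : Q := act 0 n25899
theorem D53458 : act 0 n25899 = n53458 := rfl
theorem F84354 : act 1 n30693 = n53458 := d15_0 (iv0 D53458) F40931 D30693
def n53459 : Q := act 1 n25899
theorem D53459 : act 1 n25899 = n53459 := rfl
theorem F84355 : act 4 n31447 = n53459 := d20_6 (iv4 D7061) (iv1 D3218) D3219 D7063 D14823 D31447 (iv1 D53459) F40930 (iv3 D12295) (iv1 F11313)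
def n53460 : Q := act 2 n25899
theorem D53460 : act 2 n25899 = n53460 := rfl
theorem F84356 : act 4 n53460 = n25907 := d1_2 (iv4 F40930) D53460 (iv2 D25907)
theorem F84357 : act 7 n53460 = n30693 := d4_2 (iv7 F40931) D53460 (iv2 D30693)
theorem F84358 : act 1 n53460 = n30691 := d15_0 (iv0 D30691) (iv7 F40931) D53460
theorem F84359 : act 1 n53459 = n30693 := d15_1 D53459 (iv7 F84357) (iv2 D53460)
theorem F84360 : act 1 n30692 = n53460 := d15_1 D30692 F84357 (iv2 D30693)
def n53461 : Q := act 5 n25899
theorem D53461 : act 5 n25899 = n53461 := rfl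
theorem F84361 : act 3 n53461 = n25900 := d6_1 D53461 (iv5 D25900) D25899
theorem F84362 : act 7 n53461 = n30694 := d13_2 (iv7 F40931) D53461 (iv5 D30694)
def n53462 : Q := act 6 n25899
theorem D53462 : act 6 n25899 = n53462 := rfl
theorem F84363 : act 3 n53462 = n25901 := d7_1 D53462 (iv6 D25901) D25899
theorem F84364 : act 4 n53462 = n25909 := d10_1 D53462 (iv6 D25909) (iv4 F40930)
def n53463 : Q := act 6 n25900
theorem D53463 : act 6 n25900 = n53463 := rfl
def n53464 : Q := act 0 n25901
theorem D53464 : act 0 n25901 = n53464 := rfl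
def n53465 : Q := act 1 n25901
theorem D53465 : act 1 n25901 = n53465 := rfl
theorem F84365 : act 4 n49667 = n53465 := d20_6 D25916 F46774 F24606 (iv3 F24595) (iv1 F37964) D49667 (iv1 D53465) F40933 F20393 D12298
theorem F84366 : act 6 n53465 = n30520 := d10_2 (iv6 F78458) F84365 F48915
def n53466 : Q := act 5 n25901
theorem D53466 : act 5 n25901 = n53466 := rfl
def n53467 : Q := act 7 n25901
theorem D53467 : act 7 n25901 = n53467 := rfl
theorem F84367 : act 4 n53467 = n25904 := d11_1 D53467 (iv7 D25904) (iv4 F40933)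
theorem F84368 : act 6 n53467 = n30700 := d14_1 D53467 (iv7 D30700) (iv6 D14549) (iv7 F20392) D25901
def n53468 : Q := act 4 n25902
theorem D53468 : act 4 n25902 = n53468 := rfl
theorem F84369 : act 7 n53468 = n51448 := d11_2 F81037 D53468 (iv4 D51448)
def n53469 : Q := act 6 n25902
theorem D53469 : act 6 n25902 = n53469 := rfl
theorem F84370 : act 7 n53469 = n30517 := d14_2 F81037 D53469 (iv6 D30517) (iv7 F26143) (iv6 F39241)
def n53470 : Q := act 4 n25903
theorem D53470 : act 4 n25903 = n53470 := rfl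
theorem F84371 : act 2 n53470 = n51448 := d1_1 D53470 (iv4 D51448) (iv2 F40936)
theorem F84372 : act 6 n53470 = n30518 := d10_2 F40934 D53470 (iv4 D30518)
def n53471 : Q := act 2 n25905
theorem D53471 : act 2 n25905 = n53471 := rfl
theorem F84373 : act 7 n25906 = n53471 := d15_2 (iv0 D25905) D25906 (iv2 D53471)
def n53472 : Q := act 3 n25905
theorem D53472 : act 3 n25905 = n53472 := rfl
theorem F84374 : act 4 n53472 = n49631 := d20_6 (iv4 D11670) F8234 D5837 D12295 D25905 D53472 (iv1 D49631) F37926 (iv3 D12339) (iv1 F19010)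
def n53473 : Q := act 4 n25905
theorem D53473 : act 4 n25905 = n53473 := rfl
def n53474 : Q := act 5 n25905
theorem D53474 : act 5 n25905 = n53474 := rfl
def n53475 : Q := act 6 n25905
theorem D53475 : act 6 n25905 = n53475 := rfl
def n53476 : Q := act 7 n25905
theorem D53476 : act 7 n25905 = n53476 := rfl
theorem F84375 : act 2 n53476 = n25906 := d4_1 D53476 F84373 (iv2 D53471)
def n53477 : Q := act 3 n25906
theorem D53477 : act 3 n25906 = n53477 := rfl
def n53478 : Q := act 4 n25906
theorem D53478 : act 4 n25906 = n53478 := rfl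
def n53479 : Q := act 5 n25906
theorem D53479 : act 5 n25906 = n53479 := rfl
def n53480 : Q := act 6 n25906
theorem D53480 : act 6 n25906 = n53480 := rfl
def n53481 : Q := act 5 n25907
theorem D53481 : act 5 n25907 = n53481 := rfl
theorem F84376 : act 2 n53481 = n25908 := d2_1 D53481 (iv5 D25908) D25907
theorem F84377 : act 3 n53481 = n30900 := d6_1 D53481 (iv5 D30900) (iv3 F40941)
theorem F84378 : act 7 n53481 = n30776 := d13_2 (iv7 F40942) D53481 (iv5 D30776)
theorem F84379 : act 1 n30779 = n53481 := d15_1 D30779 F84378 F49222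
theorem F84380 : act 1 n53481 = n30778 := d15_0 (iv0 D30778) (iv7 F40947) (iv2 F84376)
def n53482 : Q := act 6 n25907
theorem D53482 : act 6 n25907 = n53482 := rfl
theorem F84381 : act 2 n53482 = n25909 := d3_1 D53482 (iv6 D25909) D25907
theorem F84382 : act 3 n53482 = n30901 := d7_1 D53482 (iv6 D30901) (iv3 F40941)
def n53483 : Q := act 0 n25908
theorem D53483 : act 0 n25908 = n53483 := rfl
theorem F84383 : act 1 n30776 = n53483 := d15_0 (iv0 D53483) F40947 (iv2 F49222)
def n53484 : Q := act 1 n25908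
theorem D53484 : act 1 n25908 = n53484 := rfl
theorem F84384 : act 1 n53484 = n30776 := d15_1 D53484 (iv7 F84378) F84376
def n53485 : Q := act 4 n25908
theorem D53485 : act 4 n25908 = n53485 := rfl
theorem F84385 : act 3 n53485 = n26220 := d5_1 D53485 (iv4 D26220) (iv3 D12436) (iv4 F20396) (iv3 F40946)
theorem F84386 : act 7 n53485 = n30780 := d11_2 (iv7 F40947) D53485 (iv4 D30780)
def n53486 : Q := act 6 n25908
theorem D53486 : act 6 n25908 = n53486 := rfl
theorem F84387 : act 3 n53486 = n25910 := d7_1 D53486 (iv6 D25910) (iv3 F40946)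
def n53487 : Q := act 0 n25909
theorem D53487 : act 0 n25909 = n53487 := rfl
def n53488 : Q := act 1 n25909
theorem D53488 : act 1 n25909 = n53488 := rfl
def n53489 : Q := act 5 n25909
theorem D53489 : act 5 n25909 = n53489 := rfl
theorem F84388 : act 3 n53489 = n25913 := d6_1 D53489 (iv5 D25913) (iv3 F40948)
def n53490 : Q := act 7 n25909
theorem D53490 : act 7 n25909 = n53490 := rfl
theorem F84389 : act 3 n53490 = n25914 := d8_1 D53490 (iv7 D25914) (iv3 F40948)
theorem F84390 : act 6 n53490 = n30785 := d14_1 D53490 (iv7 D30785) (iv6 D14580) (iv7 F20394) D25909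
def n53491 : Q := act 0 n25910
theorem D53491 : act 0 n25910 = n53491 := rfl
def n53493 : Q := act 5 n25910
theorem D53493 : act 5 n25910 = n53493 := rfl
theorem F84392 : act 2 n53493 = n30912 := d2_1 D53493 (iv5 D30912) (iv2 F40949)
theorem F84393 : act 6 n53493 = n25913 := d12_2 D25910 D53493 (iv5 D25913) (iv6 D12297) D12296
def n53494 : Q := act 7 n25910
theorem D53494 : act 7 n25910 = n53494 := rfl
theorem F84394 : act 2 n53494 = n30913 := d4_1 D53494 (iv7 D30913) (iv2 F40949)
theorem F84395 : act 4 n53494 = n26225 := d11_1 D53494 (iv7 D26225) (iv4 F40950)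
theorem F84396 : act 6 n53494 = n30789 := d14_1 D53494 (iv7 D30789) (iv6 D14581) (iv7 F20397) D25910
theorem F84397 : act 1 n30913 = n53491 := d15_0 (iv0 D53491) D53494 F84394
theorem F84398 : act 1 n30911 = n53494 := d15_1 D30911 (iv7 D53494) F40949
theorem F84399 : act 1 n53494 = n30910 := d15_0 (iv0 D30910) D30913 (iv2 F84394)
def n53495 : Q := act 0 n25913
theorem D53495 : act 0 n25913 = n53495 := rfl
def n53496 : Q := act 1 n25913
theorem D53496 : act 1 n25913 = n53496 := rfl
theorem F84400 : act 1 n53496 = n30922 := d15_1 D53496 (iv7 D30922) (iv2 F40952)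
theorem F84401 : act 5 n53496 = n31099 := d17_7 (iv1 F39540) F39341 (iv1 D25063) F19608 (iv4 F20401) D25913 D53496 (iv0 F81709) (iv4 D51751)
def n53497 : Q := act 4 n25913
theorem D53497 : act 4 n25913 = n53497 := rfl
theorem F84402 : act 2 n53497 = n30921 := d1_1 D53497 (iv4 D30921) (iv2 F40952)
def n53498 : Q := act 7 n25913
theorem D53498 : act 7 n25913 = n53498 := rfl
theorem F84403 : act 2 n53498 = n30922 := d4_1 D53498 (iv7 D30922) (iv2 F40952)
theorem F84404 : act 5 n53498 = n25914 := d13_1 D53498 (iv7 D25914) D25913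
theorem F84405 : act 1 n30922 = n53495 := d15_0 (iv0 D53495) D53498 F84403
theorem F84406 : act 1 n30920 = n53498 := d15_1 D30920 (iv7 D53498) F40952
theorem F84407 : act 1 n53498 = n30919 := d15_0 (iv0 D30919) D30922 (iv2 F84403)
def n53499 : Q := act 3 n25916
theorem D53499 : act 3 n25916 = n53499 := rfl
theorem F84408 : act 7 n53499 = n30927 := d8_2 (iv7 F40962) D53499 (iv3 D30927)
def n53500 : Q := act 5 n25916
theorem D53500 : act 5 n25916 = n53500 := rfl
theorem F84409 : act 2 n53500 = n30924 := d2_1 D53500 (iv5 D30924) (iv2 F40961)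
theorem F84410 : act 7 n53500 = n30928 := d13_2 (iv7 F40962) D53500 (iv5 D30928)
def n53501 : Q := act 6 n25916
theorem D53501 : act 6 n25916 = n53501 := rfl
theorem F84411 : act 2 n53501 = n30925 := d3_1 D53501 (iv6 D30925) (iv2 F40961)
theorem F84412 : act 4 n53501 = n25917 := d10_1 D53501 (iv6 D25917) D25916
theorem F84413 : act 7 n53501 = n29097 := d14_2 (iv7 F40962) D53501 F46746 (iv7 F24248) (iv6 F24323)
def n53502 : Q := act 3 n25918
theorem D53502 : act 3 n25918 = n53502 := rfl
theorem F84414 : act 7 n53502 = n31046 := d8_2 F40969 D53502 (iv3 D31046)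
def n53503 : Q := act 6 n25918
theorem D53503 : act 6 n25918 = n53503 := rfl
theorem F84415 : act 2 n53503 = n31048 := d3_1 D53503 (iv6 D31048) F40968
theorem F84416 : act 4 n53503 = n50192 := d10_1 D53503 (iv6 D50192) (iv4 F40966)
def n53504 : Q := act 3 n25919
theorem D53504 : act 3 n25919 = n53504 := rfl
theorem F84417 : act 4 n53504 = n28715 := d5_2 F40972 D53504 (iv3 D28715) (iv4 D13689) (iv3 F22851)
theorem F84418 : act 6 n53504 = n29944 := d7_2 (iv6 F40974) D53504 (iv3 D29944)
theorem F84419 : act 7 n53504 = n31047 := d8_2 (iv7 F40971) D53504 (iv3 D31047)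
def n53505 : Q := act 0 n25920
theorem D53505 : act 0 n25920 = n53505 := rfl
theorem F84420 : act 1 n31051 = n53505 := d15_0 (iv0 D53505) F40976 D31051
def n53506 : Q := act 1 n25920
theorem D53506 : act 1 n25920 = n53506 := rfl
theorem F84421 : act 4 n31163 = n53506 := d20_6 F10470 (iv1 F7590) (iv4 F7601) D7023 D14726 D31163 (iv1 D53506) F40975 (iv3 D12302) (iv1 F10472)
theorem F84422 : act 0 n31051 = n53506 := d20_7 (iv4 F78318) (iv1 F78322) (iv4 F49517) (iv3 D30981) (iv1 F41020) F41018 (iv4 F49457) (iv4 F84421) (iv3 D31163) (iv1 F41048)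
def n53507 : Q := act 2 n25920
theorem D53507 : act 2 n25920 = n53507 := rfl
theorem F84423 : act 4 n53507 = n25929 := d1_2 (iv4 F40975) D53507 (iv2 D25929)
theorem F84424 : act 7 n53507 = n31051 := d4_2 (iv7 F40976) D53507 (iv2 D31051)
theorem F84425 : act 1 n53507 = n31049 := d15_0 (iv0 D31049) (iv7 F40976) D53507
theorem F84426 : act 1 n31050 = n53507 := d15_1 D31050 F84424 (iv2 D31051)
def n53508 : Q := act 5 n25920
theorem D53508 : act 5 n25920 = n53508 := rfl
theorem F84427 : act 3 n53508 = n25921 := d6_1 D53508 (iv5 D25921) D25920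
theorem F84428 : act 7 n53508 = n31052 := d13_2 (iv7 F40976) D53508 (iv5 D31052)
def n53509 : Q := act 6 n25920
theorem D53509 : act 6 n25920 = n53509 := rfl
theorem F84429 : act 3 n53509 = n25922 := d7_1 D53509 (iv6 D25922) D25920
theorem F84430 : act 4 n53509 = n25931 := d10_1 D53509 (iv6 D25931) (iv4 F40975)
def n53510 : Q := act 6 n25921
theorem D53510 : act 6 n25921 = n53510 := rfl
def n53511 : Q := act 0 n25922
theorem D53511 : act 0 n25922 = n53511 := rfl
def n53512 : Q := act 1 n25922
theorem D53512 : act 1 n25922 = n53512 := rfl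
def n53513 : Q := act 5 n25922
theorem D53513 : act 5 n25922 = n53513 := rfl
def n53514 : Q := act 7 n25922
theorem D53514 : act 7 n25922 = n53514 := rfl
theorem F84431 : act 4 n53514 = n25926 := d11_1 D53514 (iv7 D25926) (iv4 F40978)
theorem F84432 : act 6 n53514 = n31060 := d14_1 D53514 (iv7 D31060) (iv6 D14691) (iv7 F20412) D25922
def n53515 : Q := act 2 n25923
theorem D53515 : act 2 n25923 = n53515 := rfl
theorem F84433 : act 7 n25924 = n53515 := d15_2 (iv0 D25923) D25924 (iv2 D53515)
def n53516 : Q := act 3 n25923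
theorem D53516 : act 3 n25923 = n53516 := rfl
theorem F84434 : act 4 n53516 = n51196 := d20_6 F47154 (iv1 D25934) F20419 (iv3 F20413) D25923 D53516 (iv1 F80779) F78325 F45809 (iv1 F37136)
def n53517 : Q := act 4 n25923
theorem D53517 : act 4 n25923 = n53517 := rfl
def n53518 : Q := act 5 n25923
theorem D53518 : act 5 n25923 = n53518 := rfl
theorem F84435 : act 6 n53518 = n30964 := d12_2 (iv6 F79384) D53518 (iv5 D30964) D30965 F79378
def n53519 : Q := act 7 n25923
theorem D53519 : act 7 n25923 = n53519 := rfl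
theorem F84436 : act 2 n53519 = n25924 := d4_1 D53519 F84433 (iv2 D53515)
def n53520 : Q := act 3 n25924
theorem D53520 : act 3 n25924 = n53520 := rfl
def n53521 : Q := act 4 n25924
theorem D53521 : act 4 n25924 = n53521 := rfl
def n53522 : Q := act 5 n25924
theorem D53522 : act 5 n25924 = n53522 := rfl
theorem F84437 : act 6 n29860 = n53522 := d21_5 (iv5 D6771) (iv1 F11022) (iv5 F23735) D29929 (iv1 F48102) (iv5 D53522) (iv1 D25924) D25925 F40980 F23422
def n53523 : Q := act 6 n25924
theorem D53523 : act 6 n25924 = n53523 := rfl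
def n53524 : Q := act 4 n25925
theorem D53524 : act 4 n25925 = n53524 := rfl
theorem F84438 : act 6 n53524 = n29553 := d10_2 (iv6 F40980) D53524 (iv4 D29553)
def n53525 : Q := act 2 n25927
theorem D53525 : act 2 n25927 = n53525 := rfl
def n53526 : Q := act 3 n25927
theorem D53526 : act 3 n25927 = n53526 := rfl
def n53527 : Q := act 4 n25927
theorem D53527 : act 4 n25927 = n53527 := rfl
def n53528 : Q := act 5 n25927
theorem D53528 : act 5 n25927 = n53528 := rfl
def n53529 : Q := act 6 n25927
theorem D53529 : act 6 n25927 = n53529 := rfl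
def n53530 : Q := act 7 n25927
theorem D53530 : act 7 n25927 = n53530 := rfl
def n53531 : Q := act 3 n25928
theorem D53531 : act 3 n25928 = n53531 := rfl
def n53532 : Q := act 4 n25928
theorem D53532 : act 4 n25928 = n53532 := rfl
def n53533 : Q := act 5 n25928
theorem D53533 : act 5 n25928 = n53533 := rfl
def n53534 : Q := act 6 n25928
theorem D53534 : act 6 n25928 = n53534 := rfl
def n53535 : Q := act 5 n25929
theorem D53535 : act 5 n25929 = n53535 := rfl
theorem F84441 : act 2 n53535 = n25930 := d2_1 D53535 (iv5 D25930) D25929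
theorem F84442 : act 3 n53535 = n30990 := d6_1 D53535 (iv5 D30990) (iv3 F40984)
theorem F84443 : act 7 n53535 = n31081 := d13_2 (iv7 F40985) D53535 (iv5 D31081)
theorem F84444 : act 1 n31084 = n53535 := d15_1 D31084 F84443 F49472
theorem F84445 : act 1 n53535 = n31083 := d15_0 (iv0 D31083) (iv7 F40990) (iv2 F84441)
def n53536 : Q := act 6 n25929
theorem D53536 : act 6 n25929 = n53536 := rfl
theorem F84446 : act 2 n53536 = n25931 := d3_1 D53536 (iv6 D25931) D25929
theorem F84447 : act 3 n53536 = n30991 := d7_1 D53536 (iv6 D30991) (iv3 F40984)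
def n53537 : Q := act 0 n25930
theorem D53537 : act 0 n25930 = n53537 := rfl
theorem F84448 : act 1 n31081 = n53537 := d15_0 (iv0 D53537) F40990 (iv2 F49472)
def n53538 : Q := act 1 n25930
theorem D53538 : act 1 n25930 = n53538 := rfl
theorem F84449 : act 1 n53538 = n31081 := d15_1 D53538 (iv7 F84443) F84441
def n53539 : Q := act 4 n25930
theorem D53539 : act 4 n25930 = n53539 := rfl
theorem F84450 : act 3 n53539 = n26167 := d5_1 D53539 (iv4 D26167) F20676 (iv4 F20417) (iv3 F40989)
theorem F84451 : act 7 n53539 = n31085 := d11_2 (iv7 F40990) D53539 (iv4 D31085)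
def n53540 : Q := act 6 n25930
theorem D53540 : act 6 n25930 = n53540 := rfl
theorem F84452 : act 3 n53540 = n25932 := d7_1 D53540 (iv6 D25932) (iv3 F40989)
def n53541 : Q := act 0 n25931
theorem D53541 : act 0 n25931 = n53541 := rfl
def n53542 : Q := act 1 n25931
theorem D53542 : act 1 n25931 = n53542 := rfl
def n53543 : Q := act 5 n25931
theorem D53543 : act 5 n25931 = n53543 := rfl
theorem F84453 : act 3 n53543 = n25935 := d6_1 D53543 (iv5 D25935) (iv3 F40991)
def n53544 : Q := act 7 n25931
theorem D53544 : act 7 n25931 = n53544 := rfl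
theorem F84454 : act 3 n53544 = n25936 := d8_1 D53544 (iv7 D25936) (iv3 F40991)
theorem F84455 : act 6 n53544 = n31090 := d14_1 D53544 (iv7 D31090) (iv6 D14699) (iv7 F20414) D25931
def n53545 : Q := act 0 n25932
theorem D53545 : act 0 n25932 = n53545 := rfl
def n53546 : Q := act 1 n25932
theorem D53546 : act 1 n25932 = n53546 := rfl
def n53547 : Q := act 5 n25932
theorem D53547 : act 5 n25932 = n53547 := rfl
theorem F84457 : act 2 n53547 = n31006 := d2_1 D53547 (iv5 D31006) (iv2 F40992)
theorem F84458 : act 6 n53547 = n25935 := d12_2 D25932 D53547 (iv5 D25935) (iv6 D12304) D12303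
def n53548 : Q := act 7 n25932
theorem D53548 : act 7 n25932 = n53548 := rfl
theorem F84459 : act 2 n53548 = n31007 := d4_1 D53548 (iv7 D31007) (iv2 F40992)
theorem F84460 : act 4 n53548 = n26176 := d11_1 D53548 (iv7 D26176) (iv4 F40993)
theorem F84462 : act 1 n31007 = n53545 := d15_0 (iv0 D53545) D53548 F84459
theorem F84463 : act 1 n31005 = n53548 := d15_1 D31005 (iv7 D53548) F40992
theorem F84464 : act 1 n53548 = n31004 := d15_0 (iv0 D31004) D31007 (iv2 F84459)
def n53549 : Q := act 3 n25933
theorem D53549 : act 3 n25933 = n53549 := rfl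
theorem F84465 : act 7 n53549 = n31013 := d8_2 (iv7 F76946) D53549 (iv3 D31013)
def n53550 : Q := act 5 n25933
theorem D53550 : act 5 n25933 = n53550 := rfl
theorem F84466 : act 2 n53550 = n31010 := d2_1 D53550 (iv5 D31010) (iv2 F76945)
theorem F84467 : act 7 n53550 = n31014 := d13_2 (iv7 F76946) D53550 (iv5 D31014)
def n53551 : Q := act 3 n25934
theorem D53551 : act 3 n25934 = n53551 := rfl
theorem F84468 : act 7 n53551 = n31009 := d8_2 (iv7 F76939) D53551 (iv3 D31009)
def n53552 : Q := act 5 n25934
theorem D53552 : act 5 n25934 = n53552 := rfl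
theorem F84469 : act 2 n53552 = n31014 := d2_1 D53552 (iv5 D31014) (iv2 F76938)
theorem F84470 : act 7 n53552 = n31010 := d13_2 (iv7 F76939) D53552 (iv5 D31010)
def n53553 : Q := act 6 n25934
theorem D53553 : act 6 n25934 = n53553 := rfl
theorem F84471 : act 2 n53553 = n31015 := d3_1 D53553 (iv6 D31015) (iv2 F76938)
theorem F84472 : act 4 n53553 = n48855 := d10_1 D53553 (iv6 D48855) F47154
def n53554 : Q := act 0 n25935
theorem D53554 : act 0 n25935 = n53554 := rfl
theorem F84473 : act 5 n53554 = n28881 := d17_3 (iv1 D25934) D25935 D53554 (iv4 D28881) (iv5 D13764) (iv0 F22992) F22991 D23820 F47154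
theorem F84474 : act 2 n31016 = n53554 := d2_3 F84473 (iv2 F47170) (iv5 F49436)
theorem F84475 : act 7 n31017 = n53554 := d13_0 F84473 (iv7 F49360) F49437
theorem F84476 : act 0 n53554 = n31019 := d21_7 D31103 (iv1 F53545) (iv5 D34122) (iv6 D16521) (iv1 F23021) (iv6 F46522) (iv5 F84473) F49438 (iv6 F41032) (iv1 F41034)
def n53555 : Q := act 1 n25935
theorem D53555 : act 1 n25935 = n53555 := rfl
theorem F84477 : act 1 n53555 = n31019 := d15_1 D53555 (iv7 D31019) (iv2 F40995)
theorem F84478 : act 7 n53555 = n31016 := d15_2 (iv0 D53554) D53555 F84474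
theorem F84479 : act 5 n31774 = n53555 := d21_6 (iv5 F18143) (iv1 F20399) (iv5 D12296) D12297 (iv1 F48930) D31774 (iv1 D53555) (iv5 D25935) (iv6 D12304) (iv1 F10472)
theorem F84480 : act 2 n53555 = n31017 := d2_1 F84479 (iv5 F49437) (iv2 F50065)
def n53556 : Q := act 4 n25935
theorem D53556 : act 4 n25935 = n53556 := rfl
theorem F84481 : act 2 n53556 = n31018 := d1_1 D53556 (iv4 D31018) (iv2 F40995)
def n53557 : Q := act 7 n25935
theorem D53557 : act 7 n25935 = n53557 := rfl
theorem F84482 : act 2 n53557 = n31019 := d4_1 D53557 (iv7 D31019) (iv2 F40995)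
theorem F84483 : act 5 n53557 = n25936 := d13_1 D53557 (iv7 D25936) D25935
theorem F84484 : act 1 n31017 = n53557 := d15_1 D31017 (iv7 D53557) F40995
theorem F84485 : act 1 n53557 = n31016 := d15_1 F84484 (iv7 F84478) F84480
def n53558 : Q := act 0 n25938
theorem D53558 : act 0 n25938 = n53558 := rfl
theorem F84486 : act 1 n31030 = n53558 := d15_0 (iv0 D53558) (iv7 F49082) D31030
def n53559 : Q := act 1 n25938
theorem D53559 : act 1 n25938 = n53559 := rfl
def n53560 : Q := act 2 n25938
theorem D53560 : act 2 n25938 = n53560 := rfl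
theorem F84488 : act 7 n53560 = n31030 := d4_2 F49082 D53560 (iv2 D31030)
theorem F84490 : act 1 n53559 = n31030 := d15_1 D53559 (iv7 F84488) (iv2 D53560)
def n53561 : Q := act 4 n25938
theorem D53561 : act 4 n25938 = n53561 := rfl
theorem F84492 : act 7 n53561 = n31031 := d11_2 F49082 D53561 (iv4 D31031)
def n53562 : Q := act 5 n25938
theorem D53562 : act 5 n25938 = n53562 := rfl
theorem F84493 : act 3 n53562 = n25940 := d6_1 D53562 (iv5 D25940) D25938
theorem F84494 : act 6 n53562 = n31024 := d12_2 F53771 D53562 (iv5 D31024) (iv6 F49083) (iv5 F53770)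
theorem F84495 : act 7 n53562 = n31032 := d13_2 F49082 D53562 (iv5 D31032)
def n53563 : Q := act 3 n25939
theorem D53563 : act 3 n25939 = n53563 := rfl
theorem F84496 : act 7 n53563 = n31034 := d8_2 F49081 D53563 (iv3 D31034)
def n53564 : Q := act 5 n25939
theorem D53564 : act 5 n25939 = n53564 := rfl
theorem F84497 : act 2 n53564 = n31026 := d2_1 D53564 (iv5 D31026) F49079
def n53565 : Q := act 4 n25940
theorem D53565 : act 4 n25940 = n53565 := rfl
theorem F84499 : act 2 n53565 = n31027 := d1_1 D53565 (iv4 D31027) F49067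
theorem F84500 : act 6 n53565 = n31027 := d10_2 (iv6 F41003) D53565 (iv4 D31027)
theorem F84501 : act 7 n53565 = n31037 := d11_2 F49071 D53565 (iv4 D31037)
def n53568 : Q := act 2 n25942
theorem D53568 : act 2 n25942 = n53568 := rfl
theorem F84503 : act 3 n53568 = n31030 := d0_2 D25942 D53568 (iv2 D31030) (iv3 D14680) (iv2 F49056)
theorem F84504 : act 7 n53568 = n31022 := d4_2 (iv7 F49064) D53568 (iv2 D31022)
def n53569 : Q := act 4 n25942
theorem D53569 : act 4 n25942 = n53569 := rfl
theorem F84508 : act 7 n53569 = n31023 := d11_2 (iv7 F49064) D53569 (iv4 D31023)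
def n53570 : Q := act 5 n25942
theorem D53570 : act 5 n25942 = n53570 := rfl
theorem F84509 : act 3 n53570 = n25944 := d6_1 D53570 (iv5 D25944) D25942
theorem F84510 : act 7 n53570 = n31024 := d13_2 (iv7 F49064) D53570 (iv5 D31024)
theorem F84511 : act 6 n29909 = n53570 := d14_5 F84510 (iv6 F84494) F84495 (iv6 F49441) (iv7 F49072)
def n53571 : Q := act 6 n25942
theorem D53571 : act 6 n25942 = n53571 := rfl
theorem F84512 : act 3 n53571 = n25945 := d7_1 D53571 (iv6 D25945) D25942
def n53572 : Q := act 3 n25943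
theorem D53572 : act 3 n25943 = n53572 := rfl
theorem F84513 : act 7 n53572 = n31025 := d8_2 (iv7 F49065) D53572 (iv3 D31025)
def n53573 : Q := act 5 n25943
theorem D53573 : act 5 n25943 = n53573 := rfl
theorem F84515 : act 7 n53573 = n31026 := d13_2 (iv7 F49065) D53573 (iv5 D31026)
def n53574 : Q := act 6 n25943
theorem D53574 : act 6 n25943 = n53574 := rfl
theorem F84516 : act 2 n53574 = n31036 := d3_1 D53574 (iv6 D31036) (iv2 F49080)
theorem F84517 : act 4 n53574 = n25945 := d10_1 D53574 (iv6 D25945) D25943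
def n53575 : Q := act 4 n25944
theorem D53575 : act 4 n25944 = n53575 := rfl
theorem F84518 : act 2 n53575 = n31037 := d1_1 D53575 (iv4 D31037) (iv2 F49068)
theorem F84519 : act 6 n53575 = n29910 := d10_2 (iv6 F41005) D53575 (iv4 D29910)
theorem F84520 : act 7 n53575 = n31027 := d11_2 (iv7 F49066) D53575 (iv4 D31027)
def n53576 : Q := act 3 n25946
theorem D53576 : act 3 n25946 = n53576 := rfl
theorem F84521 : act 6 n53576 = n28831 := d7_2 (iv6 F41007) D53576 (iv3 D28831)
def n53577 : Q := act 5 n25946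
theorem D53577 : act 5 n25946 = n53577 := rfl
theorem F84522 : act 2 n53577 = n31039 := d2_1 D53577 (iv5 D31039) (iv2 F41006)
def n53578 : Q := act 0 n25947
theorem D53578 : act 0 n25947 = n53578 := rfl
theorem F84523 : act 5 n53578 = n31043 := d21_0 (iv1 F49454) (iv5 F48919) (iv6 F53600) (iv1 F53601) (iv6 D25896) (iv5 F24337) (iv1 F24339) (iv5 F20430) D25947 D53578
theorem F84524 : act 0 n53578 = n25953 := d21_1 (iv5 F84523) (iv5 F53528) F53529 (iv1 F48972) (iv6 D14614) D14613 (iv1 F24289) F19225 D14686 D31043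
def n53579 : Q := act 1 n25947
theorem D53579 : act 1 n25947 = n53579 := rfl
theorem F84525 : act 1 n53579 = n25953 := d15_1 D53579 (iv7 D25953) (iv2 F41008)
def n53580 : Q := act 7 n25947
theorem D53580 : act 7 n25947 = n53580 := rfl
theorem F84526 : act 2 n53580 = n25953 := d4_1 D53580 (iv7 D25953) (iv2 F41008)
theorem F84527 : act 3 n53580 = n31045 := d8_1 D53580 (iv7 D31045) (iv3 F41009)
theorem F84528 : act 5 n53580 = n50072 := d13_1 D53580 (iv7 D50072) (iv5 F41010)
theorem F84529 : act 6 n53580 = n30946 := d14_1 D53580 (iv7 D30946) (iv6 D14650) (iv7 F20431) D25947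
theorem F84530 : act 1 n25952 = n53580 := d15_1 D25952 (iv7 D53580) F41008
theorem F84531 : act 0 n25951 = n53580 := d21_1 (iv5 F80864) F84528 (iv6 F79368) (iv1 F79369) (iv6 D25863) (iv5 F20344) (iv1 F19564) (iv5 F11194) D7013 D14692
def n53581 : Q := act 0 n25948
theorem D53581 : act 0 n25948 = n53581 := rfl
theorem F84532 : act 1 n30951 = n53581 := d15_0 (iv0 D53581) F41012 D30951
theorem F84533 : act 4 n31234 = n53581 := d20_0 (iv1 F84532) F49382 (iv3 F40984) (iv1 F40988) D31077 (iv4 F49542) (iv1 F49547) (iv4 D14745) D14744 D31234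
def n53582 : Q := act 1 n25948
theorem D53582 : act 1 n25948 = n53582 := rfl
theorem F84534 : act 4 n31126 = n53582 := d20_6 (iv4 D5102) D5100 F8236 D7020 D14713 D31126 (iv1 D53582) F41011 (iv3 D12312) F8996
def n53583 : Q := act 2 n25948
theorem D53583 : act 2 n25948 = n53583 := rfl
theorem F84535 : act 4 n53583 = n25956 := d1_2 (iv4 F41011) D53583 (iv2 D25956)
theorem F84536 : act 7 n53583 = n30951 := d4_2 (iv7 F41012) D53583 (iv2 D30951)
theorem F84537 : act 1 n53583 = n30949 := d15_0 (iv0 D30949) (iv7 F41012) D53583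
theorem F84538 : act 1 n53582 = n30951 := d15_1 D53582 (iv7 F84536) (iv2 D53583)
theorem F84539 : act 1 n30950 = n53583 := d15_1 D30950 F84536 (iv2 D30951)
def n53584 : Q := act 5 n25948
theorem D53584 : act 5 n25948 = n53584 := rfl
theorem F84540 : act 3 n53584 = n25949 := d6_1 D53584 (iv5 D25949) D25948
theorem F84541 : act 7 n53584 = n30952 := d13_2 (iv7 F41012) D53584 (iv5 D30952)
def n53585 : Q := act 6 n25948
theorem D53585 : act 6 n25948 = n53585 := rfl
theorem F84542 : act 3 n53585 = n25950 := d7_1 D53585 (iv6 D25950) D25948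
theorem F84543 : act 4 n53585 = n25958 := d10_1 D53585 (iv6 D25958) (iv4 F41011)
def n53586 : Q := act 6 n25949
theorem D53586 : act 6 n25949 = n53586 := rfl
def n53587 : Q := act 0 n25950
theorem D53587 : act 0 n25950 = n53587 := rfl
def n53588 : Q := act 1 n25950
theorem D53588 : act 1 n25950 = n53588 := rfl
def n53589 : Q := act 5 n25950
theorem D53589 : act 5 n25950 = n53589 := rfl
def n53590 : Q := act 7 n25950
theorem D53590 : act 7 n25950 = n53590 := rfl
theorem F84544 : act 4 n53590 = n25953 := d11_1 D53590 (iv7 D25953) (iv4 F41014)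
theorem F84545 : act 6 n53590 = n30960 := d14_1 D53590 (iv7 D30960) (iv6 D14654) (iv7 F20434) D25950
def n53591 : Q := act 2 n25951
theorem D53591 : act 2 n25951 = n53591 := rfl
theorem F84546 : act 5 n53591 = n31061 := d2_2 (iv5 F80864) D53591 (iv2 D31061)
theorem F84547 : act 7 n25952 = n53591 := d15_2 (iv0 D25951) D25952 (iv2 D53591)
theorem E8290 : n31069 = n25952 := (c13_4 F84547 F84546 (iv7 F49468) D31069)
theorem F84548 : act 5 n25952 = n14693 := (sb E8290 (iv5 D31069))
theorem F84549 : act 6 n25952 = n51268 := (sb E8290 (iv6 F80871))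
theorem E8291 : n50076 = n31070 := ((c21_4 (iv5 F84528) (iv1 F84530) F84548 D31070 (iv1 F79273) F53639 F49040 (iv1 F49122) (iv5 F49123) (iv6 F53526) (iv1 F79267))).symm
theorem F84550 : act 0 n31070 = n34153 := (sb E8291 (iv1 F79273))
theorem F84551 : act 1 n31070 = n24423 := (sb E8291 (iv0 D50076))
def n53592 : Q := act 3 n25951
theorem D53592 : act 3 n25951 = n53592 := rfl
theorem F84552 : act 5 n53592 = n31062 := d6_2 (iv5 F80864) D53592 (iv3 D31062)
def n53593 : Q := act 4 n25951
theorem D53593 : act 4 n25951 = n53593 := rfl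
def n53594 : Q := act 6 n25951
theorem D53594 : act 6 n25951 = n53594 := rfl
theorem F84553 : act 5 n53594 = n50205 := d21_6 (iv5 F19443) (iv1 F19441) (iv5 F11916) D12311 D25951 D53594 (iv1 D50205) (iv5 F39222) (iv6 D24991) (iv1 F19308)
theorem F84554 : act 6 n51363 = n50205 := d12_4 (iv6 D53594) F80864 D31065 F81078 (iv5 F84553)
def n53595 : Q := act 7 n25951
theorem D53595 : act 7 n25951 = n53595 := rfl
theorem F84555 : act 2 n53595 = n25952 := d4_1 D53595 F84547 (iv2 D53591)
theorem F84556 : act 5 n53595 = n31066 := d13_1 D53595 (iv7 D31066) (iv5 F80864)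
def n53596 : Q := act 3 n25952
theorem D53596 : act 3 n25952 = n53596 := rfl
theorem F84557 : act 5 n53596 = n31067 := d6_2 (iv5 F84548) D53596 (iv3 D31067)
def n53597 : Q := act 4 n25952
theorem D53597 : act 4 n25952 = n53597 := rfl
def n53598 : Q := act 2 n25954
theorem D53598 : act 2 n25954 = n53598 := rfl
theorem F84558 : act 7 n25955 = n53598 := d15_2 (iv0 D25954) D25955 (iv2 D53598)
def n53599 : Q := act 3 n25954
theorem D53599 : act 3 n25954 = n53599 := rfl
theorem F84559 : act 4 n53599 = n49569 := d20_6 F5000 (iv1 F3830) D5843 D12312 D25954 D53599 (iv1 D49569) F37901 (iv3 D12318) (iv1 F9001)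
def n53600 : Q := act 4 n25954
theorem D53600 : act 4 n25954 = n53600 := rfl
def n53601 : Q := act 5 n25954
theorem D53601 : act 5 n25954 = n53601 := rfl
def n53602 : Q := act 6 n25954
theorem D53602 : act 6 n25954 = n53602 := rfl
def n53603 : Q := act 7 n25954
theorem D53603 : act 7 n25954 = n53603 := rfl
theorem F84560 : act 2 n53603 = n25955 := d4_1 D53603 F84558 (iv2 D53598)
def n53604 : Q := act 3 n25955
theorem D53604 : act 3 n25955 = n53604 := rfl
def n53605 : Q := act 4 n25955
theorem D53605 : act 4 n25955 = n53605 := rfl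
def n53606 : Q := act 5 n25955
theorem D53606 : act 5 n25955 = n53606 := rfl
def n53607 : Q := act 6 n25955
theorem D53607 : act 6 n25955 = n53607 := rfl
def n53608 : Q := act 5 n25956
theorem D53608 : act 5 n25956 = n53608 := rfl
theorem F84561 : act 2 n53608 = n25957 := d2_1 D53608 (iv5 D25957) D25956
theorem F84562 : act 3 n53608 = n31081 := d6_1 D53608 (iv5 D31081) (iv3 F41018)
theorem F84563 : act 7 n53608 = n30990 := d13_2 (iv7 F41019) D53608 (iv5 D30990)
theorem F84564 : act 1 n30993 = n53608 := d15_1 D30993 F84563 F49414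
theorem F84565 : act 1 n53608 = n30992 := d15_0 (iv0 D30992) (iv7 F41024) (iv2 F84561)
def n53609 : Q := act 6 n25956
theorem D53609 : act 6 n25956 = n53609 := rfl
theorem F84566 : act 2 n53609 = n25958 := d3_1 D53609 (iv6 D25958) D25956
theorem F84567 : act 3 n53609 = n31082 := d7_1 D53609 (iv6 D31082) (iv3 F41018)
def n53610 : Q := act 0 n25957
theorem D53610 : act 0 n25957 = n53610 := rfl
theorem F84568 : act 1 n30990 = n53610 := d15_0 (iv0 D53610) F41024 (iv2 F49414)
def n53611 : Q := act 1 n25957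
theorem D53611 : act 1 n25957 = n53611 := rfl
theorem F84569 : act 1 n53611 = n30990 := d15_1 D53611 (iv7 F84563) F84561
def n53612 : Q := act 4 n25957
theorem D53612 : act 4 n25957 = n53612 := rfl
theorem F84570 : act 3 n53612 = n26144 := d5_1 D53612 (iv4 D26144) F20657 (iv4 F20438) (iv3 F41023)
theorem F84571 : act 7 n53612 = n30994 := d11_2 (iv7 F41024) D53612 (iv4 D30994)
def n53613 : Q := act 6 n25957
theorem D53613 : act 6 n25957 = n53613 := rfl
theorem F84572 : act 3 n53613 = n25959 := d7_1 D53613 (iv6 D25959) (iv3 F41023)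
def n53614 : Q := act 0 n25958
theorem D53614 : act 0 n25958 = n53614 := rfl
def n53615 : Q := act 1 n25958
theorem D53615 : act 1 n25958 = n53615 := rfl
def n53616 : Q := act 5 n25958
theorem D53616 : act 5 n25958 = n53616 := rfl
def n53617 : Q := act 7 n25958
theorem D53617 : act 7 n25958 = n53617 := rfl
theorem F84575 : act 6 n53617 = n30999 := d14_1 D53617 (iv7 D30999) (iv6 D14666) (iv7 F20436) D25958
def n53618 : Q := act 0 n25959
theorem D53618 : act 0 n25959 = n53618 := rfl
def n53619 : Q := act 1 n25959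
theorem D53619 : act 1 n25959 = n53619 := rfl
theorem F84576 : act 1 n53619 = n31094 := d15_1 D53619 (iv7 D31094) (iv2 F41026)
def n53620 : Q := act 5 n25959
theorem D53620 : act 5 n25959 = n53620 := rfl
theorem F84577 : act 2 n53620 = n31093 := d2_1 D53620 (iv5 D31093) (iv2 F41026)
def n53621 : Q := act 7 n25959
theorem D53621 : act 7 n25959 = n53621 := rfl
theorem F84579 : act 2 n53621 = n31094 := d4_1 D53621 (iv7 D31094) (iv2 F41026)
theorem F84580 : act 4 n53621 = n26150 := d11_1 D53621 (iv7 D26150) (iv4 F41027)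
theorem F84581 : act 6 n53621 = n31007 := d14_1 D53621 (iv7 D31007) (iv6 D14669) (iv7 F20439) D25959
theorem F84582 : act 1 n31094 = n53618 := d15_0 (iv0 D53618) D53621 F84579
theorem F84583 : act 1 n31092 = n53621 := d15_1 D31092 (iv7 D53621) F41026
def n53622 : Q := act 3 n25960
theorem D53622 : act 3 n25960 = n53622 := rfl
theorem F84585 : act 7 n53622 = n31101 := d8_2 (iv7 F78654) D53622 (iv3 D31101)
def n53623 : Q := act 5 n25960
theorem D53623 : act 5 n25960 = n53623 := rfl
theorem F84588 : act 1 n53623 = n30538 := d17_6 (iv1 D16571) F11972 D13515 F37151 (iv4 F53674) D53623 (iv5 D30538) D30537 F53666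
def n53624 : Q := act 6 n25960
theorem D53624 : act 6 n25960 = n53624 := rfl
theorem F84589 : act 2 n53624 = n31099 := d3_1 D53624 (iv6 D31099) (iv2 F78653)
theorem F84590 : act 4 n53624 = n48858 := d10_1 D53624 (iv6 D48858) (iv4 F53674)
theorem F84591 : act 5 n53624 = n30920 := d21_6 D14574 F24236 (iv5 D12313) D12314 D25960 D53624 (iv1 D30920) (iv5 D14636) (iv6 D6991) (iv1 F11228)
theorem F84592 : act 2 n30920 = n53496 := d2_1 F84591 F84401 (iv2 F84589)
theorem F84593 : act 0 n50655 = n53624 := d17_0 F84591 (iv1 D30920) (iv5 D14636) F11255 D6994 D14644 (iv5 F41039) F41041 D50655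
theorem F84594 : act 1 n31343 = n53624 := d15_0 (iv0 F84593) (iv7 F81733) F81731
theorem F84595 : act 7 n53495 = n30920 := d15_2 F84400 F84405 F84592
theorem F84596 : act 7 n30919 = n53496 := d15_2 F84406 F84407 (iv2 F84592)
theorem F84597 : act 2 n53495 = n30919 := d4_3 F84596 (iv2 F84592) (iv7 F84595)
def n53625 : Q := act 3 n25961
theorem D53625 : act 3 n25961 = n53625 := rfl
theorem F84598 : act 7 n53625 = n31096 := d8_2 (iv7 F78658) D53625 (iv3 D31096)
def n53627 : Q := act 0 n25962
theorem D53627 : act 0 n25962 = n53627 := rfl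
theorem F84602 : act 5 n53627 = n34121 := d17_3 (iv1 D25961) D25962 D53627 (iv4 F53670) (iv5 F38184) (iv0 F24491) F18763 D23823 (iv4 F53667)
theorem F84605 : act 1 n31108 = n53627 := d17_6 (iv1 F26127) (iv5 F26128) (iv1 F26132) F24138 (iv4 F24374) (iv5 F49483) F84602 F53543 F48938
def n53630 : Q := act 7 n25962
theorem D53630 : act 7 n25962 = n53630 := rfl
theorem F84611 : act 2 n53630 = n31108 := d4_1 D53630 (iv7 D31108) (iv2 F41029)
theorem F84612 : act 5 n53630 = n25963 := d13_1 D53630 (iv7 D25963) D25962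
def n53633 : Q := act 2 n25965
theorem D53633 : act 2 n25965 = n53633 := rfl
theorem F84616 : act 3 n53633 = n31111 := d0_2 D25965 D53633 (iv2 D31111) (iv3 D14706) (iv2 F49011)
theorem F84618 : act 7 n53633 = n31121 := d4_2 (iv7 F49031) D53633 (iv2 D31121)
def n53634 : Q := act 4 n25965
theorem D53634 : act 4 n25965 = n53634 := rfl
theorem F84622 : act 7 n53634 = n31122 := d11_2 (iv7 F49031) D53634 (iv4 D31122)
def n53635 : Q := act 6 n25965
theorem D53635 : act 6 n25965 = n53635 := rfl
theorem F84623 : act 3 n53635 = n25967 := d7_1 D53635 (iv6 D25967) D25965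
def n53636 : Q := act 3 n25966
theorem D53636 : act 3 n25966 = n53636 := rfl
theorem F84625 : act 7 n53636 = n31123 := d8_2 (iv7 F49032) D53636 (iv3 D31123)
def n53637 : Q := act 5 n25966
theorem D53637 : act 5 n25966 = n53637 := rfl
theorem F84628 : act 1 n53637 = n49966 := d17_6 (iv1 D14490) F11199 D7017 (iv5 F26134) D25966 D53637 (iv5 D49966) F53795 (iv4 D30545)
def n53638 : Q := act 6 n25966
theorem D53638 : act 6 n25966 = n53638 := rfl
theorem F84629 : act 2 n53638 = n31118 := d3_1 D53638 (iv6 D31118) (iv2 F49036)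
theorem F84630 : act 4 n53638 = n25967 := d10_1 D53638 (iv6 D25967) D25966
theorem F84631 : act 5 n53638 = n31764 := d21_6 D14568 F24228 (iv5 D12322) D12323 (iv1 F53803) D53638 (iv1 D31764) (iv5 D14942) (iv6 D7117) (iv1 F11224)
def n53639 : Q := act 0 n25969
theorem D53639 : act 0 n25969 = n53639 := rfl
def n53640 : Q := act 1 n25969
theorem D53640 : act 1 n25969 = n53640 := rfl
def n53641 : Q := act 2 n25969
theorem D53641 : act 2 n25969 = n53641 := rfl
theorem F84634 : act 5 n53641 = n31121 := d2_2 (iv5 F41044) D53641 (iv2 D31121)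
theorem F84635 : act 7 n53641 = n31111 := d4_2 (iv7 F49033) D53641 (iv2 D31111)
def n53642 : Q := act 4 n25969
theorem D53642 : act 4 n25969 = n53642 := rfl
theorem F84639 : act 7 n53642 = n31112 := d11_2 (iv7 F49033) D53642 (iv4 D31112)
def n53643 : Q := act 3 n25970
theorem D53643 : act 3 n25970 = n53643 := rfl
theorem F84640 : act 7 n53643 = n31116 := d8_2 F49035 D53643 (iv3 D31116)
def n53644 : Q := act 5 n25970
theorem D53644 : act 5 n25970 = n53644 := rfl
theorem F84643 : act 0 n53644 = n49966 := d17_2 (iv1 F53801) D53644 (iv5 D49966) F38182 F18763 D23823 F37145 F37150 F37147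
def n53645 : Q := act 2 n25971
theorem D53645 : act 2 n25971 = n53645 := rfl
def n53646 : Q := act 3 n25971
theorem D53646 : act 3 n25971 = n53646 := rfl
theorem F84645 : act 4 n53646 = n31050 := d20_6 (iv4 D2827) D2825 (iv4 F8998) D12318 D25971 D53646 (iv1 D31050) F24368 (iv3 D7014) F4999
def n53647 : Q := act 4 n25971
theorem D53647 : act 4 n25971 = n53647 := rfl
def n53648 : Q := act 5 n25971
theorem D53648 : act 5 n25971 = n53648 := rfl
def n53649 : Q := act 6 n25971
theorem D53649 : act 6 n25971 = n53649 := rfl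
def n53650 : Q := act 7 n25971
theorem D53650 : act 7 n25971 = n53650 := rfl
def n53651 : Q := act 3 n25972
theorem D53651 : act 3 n25972 = n53651 := rfl
def n53652 : Q := act 4 n25972
theorem D53652 : act 4 n25972 = n53652 := rfl
theorem F84647 : act 3 n49550 = n53652 := d20_5 F18543 (iv1 F18303) D11358 D24180 D49550 (iv4 D53652) (iv1 D25972) (iv4 F37901) (iv3 D24185) F18546
def n53653 : Q := act 5 n25972
theorem D53653 : act 5 n25972 = n53653 := rfl
def n53654 : Q := act 6 n25972
theorem D53654 : act 6 n25972 = n53654 := rfl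
def n53655 : Q := act 5 n25973
theorem D53655 : act 5 n25973 = n53655 := rfl
theorem F84648 : act 2 n53655 = n25974 := d2_1 D53655 (iv5 D25974) D25973
theorem F84649 : act 3 n53655 = n31136 := d6_1 D53655 (iv5 D31136) (iv3 F41046)
theorem F84650 : act 7 n53655 = n31173 := d13_2 (iv7 F41047) D53655 (iv5 D31173)
theorem F84651 : act 1 n31179 = n53655 := d15_1 D31179 F84650 F49515
theorem F84652 : act 1 n53655 = n31178 := d15_0 (iv0 D31178) (iv7 F41052) (iv2 F84648)
def n53656 : Q := act 6 n25973
theorem D53656 : act 6 n25973 = n53656 := rfl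
theorem F84653 : act 2 n53656 = n25975 := d3_1 D53656 (iv6 D25975) D25973
theorem F84654 : act 3 n53656 = n31137 := d7_1 D53656 (iv6 D31137) (iv3 F41046)
def n53657 : Q := act 0 n25974
theorem D53657 : act 0 n25974 = n53657 := rfl
theorem F84655 : act 1 n31173 = n53657 := d15_0 (iv0 D53657) F41052 (iv2 F49515)
def n53658 : Q := act 1 n25974
theorem D53658 : act 1 n25974 = n53658 := rfl
theorem F84656 : act 1 n53658 = n31173 := d15_1 D53658 (iv7 F84650) F84648
def n53659 : Q := act 4 n25974
theorem D53659 : act 4 n25974 = n53659 := rfl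
theorem F84657 : act 3 n53659 = n26129 := d5_1 D53659 (iv4 D26129) F20629 (iv4 F20451) (iv3 F41051)
theorem F84658 : act 7 n53659 = n31180 := d11_2 (iv7 F41052) D53659 (iv4 D31180)
def n53660 : Q := act 6 n25974
theorem D53660 : act 6 n25974 = n53660 := rfl
theorem F84659 : act 3 n53660 = n25976 := d7_1 D53660 (iv6 D25976) (iv3 F41051)
def n53661 : Q := act 0 n25975
theorem D53661 : act 0 n25975 = n53661 := rfl
def n53662 : Q := act 1 n25975
theorem D53662 : act 1 n25975 = n53662 := rfl
def n53663 : Q := act 5 n25975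
theorem D53663 : act 5 n25975 = n53663 := rfl
theorem F84660 : act 3 n53663 = n25979 := d6_1 D53663 (iv5 D25979) (iv3 F41053)
def n53664 : Q := act 7 n25975
theorem D53664 : act 7 n25975 = n53664 := rfl
theorem F84661 : act 3 n53664 = n25980 := d8_1 D53664 (iv7 D25980) (iv3 F41053)
theorem F84662 : act 6 n53664 = n31185 := d14_1 D53664 (iv7 D31185) (iv6 D14731) (iv7 F20448) D25975
def n53665 : Q := act 0 n25976
theorem D53665 : act 0 n25976 = n53665 := rfl
def n53666 : Q := act 1 n25976
theorem D53666 : act 1 n25976 = n53666 := rfl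
theorem F84663 : act 1 n53666 = n31157 := d15_1 D53666 (iv7 D31157) (iv2 F41054)
def n53667 : Q := act 5 n25976
theorem D53667 : act 5 n25976 = n53667 := rfl
theorem F84664 : act 2 n53667 = n31156 := d2_1 D53667 (iv5 D31156) (iv2 F41054)
theorem F84665 : act 6 n53667 = n25979 := d12_2 D25976 D53667 (iv5 D25979) (iv6 D12320) D12319
def n53668 : Q := act 7 n25976
theorem D53668 : act 7 n25976 = n53668 := rfl
theorem F84666 : act 2 n53668 = n31157 := d4_1 D53668 (iv7 D31157) (iv2 F41054)
theorem F84667 : act 4 n53668 = n26136 := d11_1 D53668 (iv7 D26136) (iv4 F41055)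
theorem F84668 : act 6 n53668 = n31189 := d14_1 D53668 (iv7 D31189) (iv6 D14732) (iv7 F20450) D25976
theorem F84669 : act 1 n31157 = n53665 := d15_0 (iv0 D53665) D53668 F84666
theorem F84670 : act 1 n31155 = n53668 := d15_1 D31155 (iv7 D53668) F41054
theorem F84671 : act 1 n53668 = n31154 := d15_0 (iv0 D31154) D31157 (iv2 F84666)
def n53669 : Q := act 0 n25979
theorem D53669 : act 0 n25979 = n53669 := rfl
theorem F84672 : act 5 n53669 = n29639 := d17_3 F46731 D25979 D53669 (iv4 D29639) (iv5 D14076) (iv0 F20423) (iv5 D12307) D12306 D25943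
theorem F84673 : act 2 n31158 = n53669 := d2_3 F84672 F47618 (iv5 F49509)
theorem F84674 : act 7 n31159 = n53669 := d13_0 F84672 (iv7 F49363) F49510
theorem F84675 : act 0 n53669 = n31161 := d21_7 D31124 (iv1 F53890) (iv5 D34248) (iv6 D16569) (iv1 F23521) (iv6 F47619) (iv5 F84672) F49511 (iv6 F41081) F53798
def n53670 : Q := act 1 n25979
theorem D53670 : act 1 n25979 = n53670 := rfl
theorem F84676 : act 1 n53670 = n31161 := d15_1 D53670 (iv7 D31161) (iv2 F41057)
theorem F84677 : act 7 n53670 = n31158 := d15_2 (iv0 D53669) D53670 F84673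
theorem F84678 : act 5 n53501 = n53670 := d21_6 (iv5 F9167) (iv1 F20470) F20472 D12365 (iv1 F46775) D53501 (iv1 D53670) (iv5 D25979) (iv6 D12320) (iv1 F9001)
theorem F84679 : act 2 n53670 = n31159 := d2_1 F84678 (iv5 F49510) (iv2 F84411)
def n53671 : Q := act 4 n25979
theorem D53671 : act 4 n25979 = n53671 := rfl
theorem F84680 : act 2 n53671 = n31160 := d1_1 D53671 (iv4 D31160) (iv2 F41057)
def n53672 : Q := act 7 n25979
theorem D53672 : act 7 n25979 = n53672 := rfl
theorem F84681 : act 2 n53672 = n31161 := d4_1 D53672 (iv7 D31161) (iv2 F41057)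
theorem F84682 : act 5 n53672 = n25980 := d13_1 D53672 (iv7 D25980) D25979
theorem F84683 : act 1 n31159 = n53672 := d15_1 D31159 (iv7 D53672) F41057
theorem F84684 : act 1 n53672 = n31158 := d15_1 F84683 (iv7 F84677) F84679
def n53673 : Q := act 2 n25981
theorem D53673 : act 2 n25981 = n53673 := rfl
theorem F84685 : act 7 n25982 = n53673 := d15_2 (iv0 D25981) D25982 (iv2 D53673)
def n53674 : Q := act 3 n25981
theorem D53674 : act 3 n25981 = n53674 := rfl
theorem F84686 : act 4 n53674 = n30950 := d20_6 F11264 (iv1 F7605) (iv4 F9004) D12321 D25981 D53674 (iv1 D30950) F24334 (iv3 D7004) D7003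
def n53675 : Q := act 4 n25981
theorem D53675 : act 4 n25981 = n53675 := rfl
def n53676 : Q := act 5 n25981
theorem D53676 : act 5 n25981 = n53676 := rfl
def n53677 : Q := act 6 n25981
theorem D53677 : act 6 n25981 = n53677 := rfl
def n53678 : Q := act 7 n25981
theorem D53678 : act 7 n25981 = n53678 := rfl
theorem F84687 : act 2 n53678 = n25982 := d4_1 D53678 F84685 (iv2 D53673)
def n53679 : Q := act 3 n25982
theorem D53679 : act 3 n25982 = n53679 := rfl
def n53680 : Q := act 4 n25982
theorem D53680 : act 4 n25982 = n53680 := rfl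
def n53681 : Q := act 5 n25982
theorem D53681 : act 5 n25982 = n53681 := rfl
def n53682 : Q := act 6 n25982
theorem D53682 : act 6 n25982 = n53682 := rfl
def n53683 : Q := act 4 n25983
theorem D53683 : act 4 n25983 = n53683 := rfl
theorem F84688 : act 2 n53683 = n25984 := d1_1 D53683 (iv4 D25984) D25983
theorem F84689 : act 7 n53683 = n31135 := d11_2 (iv7 F41066) D53683 (iv4 D31135)
theorem F84690 : act 0 n53683 = n31139 := d20_1 D53683 (iv4 F49493) (iv3 D31072) (iv1 F40986) F40984 (iv4 F49382) (iv1 F84538) (iv4 F84534) (iv3 D31126) (iv1 F41067)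
theorem F84691 : act 1 n53683 = n31138 := d15_0 (iv0 D31138) (iv7 F41071) (iv2 F84688)
def n53684 : Q := act 5 n25983
theorem D53684 : act 5 n25983 = n53684 := rfl
theorem F84692 : act 2 n53684 = n25985 := d2_1 D53684 (iv5 D25985) D25983
theorem F84693 : act 3 n53684 = n31173 := d6_1 D53684 (iv5 D31173) (iv3 F41065)
theorem F84694 : act 7 n53684 = n31136 := d13_2 (iv7 F41066) D53684 (iv5 D31136)
theorem F84695 : act 1 n31143 = n53684 := d15_1 D31143 F84694 F49491
theorem F84696 : act 1 n53684 = n31142 := d15_0 (iv0 D31142) (iv7 F41073) (iv2 F84692)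
def n53685 : Q := act 6 n25983
theorem D53685 : act 6 n25983 = n53685 := rfl
theorem F84697 : act 2 n53685 = n25986 := d3_1 D53685 (iv6 D25986) D25983
theorem F84698 : act 3 n53685 = n31174 := d7_1 D53685 (iv6 D31174) (iv3 F41065)
def n53686 : Q := act 0 n25984
theorem D53686 : act 0 n25984 = n53686 := rfl
theorem F84699 : act 1 n31135 = n53686 := d15_0 (iv0 D53686) F41071 (iv2 F49490)
def n53687 : Q := act 1 n25984
theorem D53687 : act 1 n25984 = n53687 := rfl
theorem F84700 : act 1 n53687 = n31135 := d15_1 D53687 (iv7 F84689) F84688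
theorem F84701 : act 4 n53526 = n53687 := d20_6 (iv4 D2444) D2442 D5840 D12302 D25927 D53526 (iv1 D53687) (iv4 D25984) (iv3 D12321) (iv1 D5846)
def n53688 : Q := act 5 n25984
theorem D53688 : act 5 n25984 = n53688 := rfl
theorem F84702 : act 3 n53688 = n28314 := d6_1 D53688 (iv5 D28314) (iv3 F41070)
theorem F84703 : act 7 n53688 = n31140 := d13_2 (iv7 F41071) D53688 (iv5 D31140)
def n53689 : Q := act 6 n25984
theorem D53689 : act 6 n25984 = n53689 := rfl
theorem F84704 : act 3 n53689 = n28315 := d7_1 D53689 (iv6 D28315) (iv3 F41070)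
theorem F84705 : act 4 n53689 = n25986 := d10_1 D53689 (iv6 D25986) D25984
def n53690 : Q := act 0 n25985
theorem D53690 : act 0 n25985 = n53690 := rfl
theorem F84706 : act 1 n31136 = n53690 := d15_0 (iv0 D53690) F41073 (iv2 F49491)
def n53691 : Q := act 1 n25985
theorem D53691 : act 1 n25985 = n53691 := rfl
theorem F84707 : act 1 n53691 = n31136 := d15_1 D53691 (iv7 F84694) F84692
def n53692 : Q := act 4 n25985
theorem D53692 : act 4 n25985 = n53692 := rfl
theorem F84708 : act 3 n53692 = n26113 := d5_1 D53692 (iv4 D26113) F20591 (iv4 F20456) (iv3 F41072)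
theorem F84709 : act 7 n53692 = n31144 := d11_2 (iv7 F41073) D53692 (iv4 D31144)
def n53693 : Q := act 6 n25985
theorem D53693 : act 6 n25985 = n53693 := rfl
theorem F84710 : act 3 n53693 = n25987 := d7_1 D53693 (iv6 D25987) (iv3 F41072)
def n53694 : Q := act 0 n25986
theorem D53694 : act 0 n25986 = n53694 := rfl
def n53695 : Q := act 1 n25986
theorem D53695 : act 1 n25986 = n53695 := rfl
def n53696 : Q := act 5 n25986
theorem D53696 : act 5 n25986 = n53696 := rfl
theorem F84711 : act 3 n53696 = n25990 := d6_1 D53696 (iv5 D25990) (iv3 F41074)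
def n53697 : Q := act 7 n25986
theorem D53697 : act 7 n25986 = n53697 := rfl
theorem F84712 : act 3 n53697 = n25991 := d8_1 D53697 (iv7 D25991) (iv3 F41074)
theorem F84713 : act 6 n53697 = n31149 := d14_1 D53697 (iv7 D31149) (iv6 D14718) (iv7 F20454) D25986
def n53698 : Q := act 0 n25987
theorem D53698 : act 0 n25987 = n53698 := rfl
def n53699 : Q := act 1 n25987
theorem D53699 : act 1 n25987 = n53699 := rfl
theorem F84714 : act 1 n53699 = n31189 := d15_1 D53699 (iv7 D31189) (iv2 F41075)
def n53700 : Q := act 5 n25987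
theorem D53700 : act 5 n25987 = n53700 := rfl
theorem F84715 : act 2 n53700 = n31188 := d2_1 D53700 (iv5 D31188) (iv2 F41075)
def n53701 : Q := act 7 n25987
theorem D53701 : act 7 n25987 = n53701 := rfl
theorem F84717 : act 2 n53701 = n31189 := d4_1 D53701 (iv7 D31189) (iv2 F41075)
theorem F84718 : act 4 n53701 = n26117 := d11_1 D53701 (iv7 D26117) (iv4 F41076)
theorem F84719 : act 6 n53701 = n31157 := d14_1 D53701 (iv7 D31157) (iv6 D14721) (iv7 F20457) D25987
theorem F84720 : act 1 n31189 = n53698 := d15_0 (iv0 D53698) D53701 F84717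
theorem F84721 : act 1 n31187 = n53701 := d15_1 D31187 (iv7 D53701) F41075
theorem F84722 : act 1 n53701 = n31186 := d15_0 (iv0 D31186) D31189 (iv2 F84717)
def n53703 : Q := act 1 n25990
theorem D53703 : act 1 n25990 = n53703 := rfl
theorem F84727 : act 1 n53703 = n31203 := d15_1 D53703 (iv7 D31203) (iv2 F41078)
theorem F84729 : act 5 n53703 = n34125 := d17_7 D16570 F26241 (iv1 D16571) F11972 (iv4 F20459) D25990 D53703 F53805 F26239
def n53706 : Q := act 6 n25992
theorem D53706 : act 6 n25992 = n53706 := rfl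
theorem F84736 : act 2 n53706 = n26010 := d3_1 D53706 (iv6 D26010) F41085
theorem F84737 : act 3 n53706 = n31204 := d7_1 D53706 (iv6 D31204) (iv3 F41086)
def n53707 : Q := act 0 n25993
theorem D53707 : act 0 n25993 = n53707 := rfl
theorem F84738 : act 1 n25998 = n53707 := d15_0 (iv0 D53707) (iv7 F41090) (iv2 F41091)
def n53708 : Q := act 1 n25993
theorem D53708 : act 1 n25993 = n53708 := rfl
theorem F84739 : act 1 n53708 = n25998 := d15_1 D53708 (iv7 D25998) D25993
def n53709 : Q := act 3 n25993
theorem D53709 : act 3 n25993 = n53709 := rfl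
theorem F84740 : act 7 n53709 = n25999 := d8_2 F41090 D53709 (iv3 D25999)
def n53710 : Q := act 4 n25993
theorem D53710 : act 4 n25993 = n53710 := rfl
theorem F84741 : act 2 n53710 = n25995 := d1_1 D53710 (iv4 D25995) D25993
theorem F84742 : act 7 n53710 = n26000 := d11_2 F41090 D53710 (iv4 D26000)
def n53711 : Q := act 5 n25993
theorem D53711 : act 5 n25993 = n53711 := rfl
theorem F84743 : act 2 n53711 = n25996 := d2_1 D53711 (iv5 D25996) D25993
theorem F84744 : act 7 n53711 = n26001 := d13_2 F41090 D53711 (iv5 D26001)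
def n53712 : Q := act 6 n25993
theorem D53712 : act 6 n25993 = n53712 := rfl
theorem F84745 : act 2 n53712 = n25997 := d3_1 D53712 (iv6 D25997) D25993
def n53713 : Q := act 0 n25994
theorem D53713 : act 0 n25994 = n53713 := rfl
def n53714 : Q := act 1 n25994
theorem D53714 : act 1 n25994 = n53714 := rfl
def n53715 : Q := act 2 n25994
theorem D53715 : act 2 n25994 = n53715 := rfl
def n53716 : Q := act 4 n25994
theorem D53716 : act 4 n25994 = n53716 := rfl
theorem F84746 : act 0 n53716 = n28288 := d20_7 (iv4 D5843) (iv1 D2443) D2444 D5847 D12324 D25994 D53716 F45788 F22665 (iv1 F10471)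
theorem F84747 : act 0 n28286 = n53716 := d20_1 (iv4 F45785) (iv4 D53716) (iv3 D25994) D25992 F41086 (iv4 F48880) (iv1 F48882) D30479 (iv3 F48885) (iv1 D28338)
theorem F84748 : act 3 n31234 = n53714 := d20_9 D53716 F84746 F45788 F22665 (iv1 F10471) D12312 (iv4 F41011) D53581 (iv4 F84533) (iv1 D53714)
def n53717 : Q := act 5 n25994
theorem D53717 : act 5 n25994 = n53717 := rfl
theorem F84749 : act 3 n53717 = n25996 := d6_1 D53717 (iv5 D25996) D25994
def n53718 : Q := act 6 n25994
theorem D53718 : act 6 n25994 = n53718 := rfl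
theorem F84750 : act 3 n53718 = n25997 := d7_1 D53718 (iv6 D25997) D25994
def n53719 : Q := act 7 n25994
theorem D53719 : act 7 n25994 = n53719 := rfl
theorem F84751 : act 3 n53719 = n25998 := d8_1 D53719 (iv7 D25998) D25994
def n53720 : Q := act 0 n25995
theorem D53720 : act 0 n25995 = n53720 := rfl
theorem F84752 : act 4 n53720 = n53604 := d20_2 D25995 D53720 (iv3 D53604) (iv1 D25955) (iv3 D12312) (iv4 D5843) (iv1 D2443) D2444 D5847 D12324
def n53721 : Q := act 1 n25995
theorem D53721 : act 1 n25995 = n53721 := rfl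
theorem F84753 : act 1 n53721 = n26000 := d15_1 D53721 (iv7 F84742) F84741
def n53722 : Q := act 3 n25995
theorem D53722 : act 3 n25995 = n53722 := rfl
def n53723 : Q := act 5 n25995
theorem D53723 : act 5 n25995 = n53723 := rfl
def n53724 : Q := act 6 n25995
theorem D53724 : act 6 n25995 = n53724 := rfl
theorem F84754 : act 4 n53724 = n25997 := d10_1 D53724 (iv6 D25997) D25995
def n53725 : Q := act 7 n25995
theorem D53725 : act 7 n25995 = n53725 := rfl
theorem F84755 : act 2 n53725 = n26000 := d4_1 D53725 (iv7 F84742) F84741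
theorem F84756 : act 4 n53725 = n25998 := d11_1 D53725 (iv7 D25998) D25995
theorem F84757 : act 1 n26000 = n53720 := d15_0 (iv0 D53720) D53725 F84755
def n53726 : Q := act 0 n25996
theorem D53726 : act 0 n25996 = n53726 := rfl
def n53727 : Q := act 1 n25996
theorem D53727 : act 1 n25996 = n53727 := rfl
def n53728 : Q := act 4 n25996
theorem D53728 : act 4 n25996 = n53728 := rfl
def n53729 : Q := act 6 n25996
theorem D53729 : act 6 n25996 = n53729 := rfl
def n53730 : Q := act 7 n25996
theorem D53730 : act 7 n25996 = n53730 := rfl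
theorem F84759 : act 2 n53730 = n26001 := d4_1 D53730 (iv7 F84744) F84743
theorem F84760 : act 5 n53730 = n25998 := d13_1 D53730 (iv7 D25998) D25996
theorem F84761 : act 1 n26001 = n53726 := d15_0 (iv0 D53726) D53730 F84759
def n53731 : Q := act 0 n25997
theorem D53731 : act 0 n25997 = n53731 := rfl
def n53732 : Q := act 1 n25997
theorem D53732 : act 1 n25997 = n53732 := rfl
def n53733 : Q := act 5 n25997
theorem D53733 : act 5 n25997 = n53733 := rfl
def n53734 : Q := act 7 n25997
theorem D53734 : act 7 n25997 = n53734 := rfl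
def n53735 : Q := act 6 n25998
theorem D53735 : act 6 n25998 = n53735 := rfl
theorem F84762 : act 2 n53735 = n26002 := d3_1 D53735 (iv6 D26002) (iv2 F41091)
def n53736 : Q := act 0 n25999
theorem D53736 : act 0 n25999 = n53736 := rfl
theorem F84763 : act 4 n53736 = n31049 := d20_0 (iv1 F84425) F84423 F40984 (iv1 F41021) D53604 (iv4 F84752) (iv1 F84757) (iv4 D26000) D25999 D53736
theorem F84764 : act 3 n53736 = n31212 := d20_3 (iv4 F24368) D31049 (iv4 F84763) (iv1 D31212) (iv3 D14739) D14740 D31218 F49542 (iv3 D31077) (iv1 D14696)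
def n53737 : Q := act 1 n25999
theorem D53737 : act 1 n25999 = n53737 := rfl
def n53738 : Q := act 2 n25999
theorem D53738 : act 2 n25999 = n53738 := rfl
def n53739 : Q := act 4 n25999
theorem D53739 : act 4 n25999 = n53739 := rfl
theorem F84765 : act 0 n53527 = n53739 := d20_1 D53527 (iv4 D53739) (iv3 D25999) (iv1 D12325) (iv3 D5847) (iv4 D2444) D2442 D5840 D12302 D25927
def n53740 : Q := act 5 n25999
theorem D53740 : act 5 n25999 = n53740 := rfl
theorem F84766 : act 3 n53740 = n26001 := d6_1 D53740 (iv5 D26001) D25999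
def n53741 : Q := act 6 n25999
theorem D53741 : act 6 n25999 = n53741 := rfl
theorem F84767 : act 3 n53741 = n26002 := d7_1 D53741 (iv6 D26002) D25999
def n53742 : Q := act 3 n26000
theorem D53742 : act 3 n26000 = n53742 := rfl
def n53743 : Q := act 5 n26000
theorem D53743 : act 5 n26000 = n53743 := rfl
def n53744 : Q := act 6 n26000
theorem D53744 : act 6 n26000 = n53744 := rfl
theorem F84768 : act 4 n53744 = n26002 := d10_1 D53744 (iv6 D26002) D26000
def n53745 : Q := act 4 n26001
theorem D53745 : act 4 n26001 = n53745 := rfl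
def n53746 : Q := act 6 n26001
theorem D53746 : act 6 n26001 = n53746 := rfl
def n53747 : Q := act 0 n26002
theorem D53747 : act 0 n26002 = n53747 := rfl
def n53748 : Q := act 1 n26002
theorem D53748 : act 1 n26002 = n53748 := rfl
def n53749 : Q := act 5 n26002
theorem D53749 : act 5 n26002 = n53749 := rfl
def n53750 : Q := act 7 n26002
theorem D53750 : act 7 n26002 = n53750 := rfl
def n53752 : Q := act 3 n26003
theorem D53752 : act 3 n26003 = n53752 := rfl
def n53753 : Q := act 4 n26003
theorem D53753 : act 4 n26003 = n53753 := rfl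
def n53757 : Q := act 3 n26004
theorem D53757 : act 3 n26004 = n53757 := rfl
theorem F84771 : act 4 n53757 = n28285 := d20_6 (iv4 D3165) (iv1 F3836) (iv4 F9010) (iv3 F20463) (iv1 F41093) D53757 (iv1 D28285) F22650 (iv3 D6428) F5486
def n53758 : Q := act 4 n26004
theorem D53758 : act 4 n26004 = n53758 := rfl
def n53761 : Q := act 4 n26005
theorem D53761 : act 4 n26005 = n53761 := rfl
theorem F84772 : act 2 n53761 = n26008 := d1_1 D53761 (iv4 D26008) (iv2 F41094)
theorem F84773 : act 7 n53761 = n32184 := d11_2 (iv7 F41096) D53761 F51136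
theorem F84774 : act 1 n32183 = n53761 := d15_1 D32183 F84773 (iv2 D32184)
theorem F84775 : act 1 n53761 = n32182 := d15_0 (iv0 D32182) (iv7 F41102) (iv2 F84772)
def n53762 : Q := act 6 n26005
theorem D53762 : act 6 n26005 = n53762 := rfl
theorem F84776 : act 2 n53762 = n26009 := d3_1 D53762 (iv6 D26009) (iv2 F41094)
theorem F84777 : act 3 n53762 = n31260 := d7_1 D53762 (iv6 D31260) (iv3 F41095)
def n53763 : Q := act 2 n26006
theorem D53763 : act 2 n26006 = n53763 := rfl
def n53764 : Q := act 3 n26006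
theorem D53764 : act 3 n26006 = n53764 := rfl
def n53765 : Q := act 4 n26006
theorem D53765 : act 4 n26006 = n53765 := rfl
def n53766 : Q := act 5 n26006
theorem D53766 : act 5 n26006 = n53766 := rfl
def n53767 : Q := act 6 n26006
theorem D53767 : act 6 n26006 = n53767 := rfl
def n53768 : Q := act 7 n26006
theorem D53768 : act 7 n26006 = n53768 := rfl
def n53769 : Q := act 3 n26007
theorem D53769 : act 3 n26007 = n53769 := rfl
def n53770 : Q := act 4 n26007
theorem D53770 : act 4 n26007 = n53770 := rfl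
def n53771 : Q := act 5 n26007
theorem D53771 : act 5 n26007 = n53771 := rfl
def n53772 : Q := act 6 n26007
theorem D53772 : act 6 n26007 = n53772 := rfl
def n53773 : Q := act 0 n26008
theorem D53773 : act 0 n26008 = n53773 := rfl
theorem F84780 : act 1 n32184 = n53773 := d15_0 (iv0 D53773) F41102 D32184
def n53774 : Q := act 1 n26008
theorem D53774 : act 1 n26008 = n53774 := rfl
theorem F84781 : act 1 n53774 = n32184 := d15_1 D53774 (iv7 F84773) F84772
theorem F84782 : act 3 n50998 = n53774 := d20_3 (iv4 F80023) F80024 (iv4 F80449) (iv1 D53774) F41101 F24811 (iv1 F24803) D32140 (iv3 F80468) F80471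
theorem F84783 : act 5 n53774 = n50997 := d6_2 D50998 F84782 (iv3 D50997)
theorem F84784 : act 7 n53774 = n32183 := d8_2 F81992 F84782 (iv3 F81994)
theorem F84785 : act 2 n32183 = n53773 := d15_3 (iv0 D53773) D53774 F84784
theorem F84786 : act 2 n53774 = n32182 := d15_3 (iv0 D32182) D32183 (iv7 F84784)
theorem F84787 : act 7 n32182 = n53773 := d4_2 (iv7 F84784) F84786 (iv2 F84785)
def n53775 : Q := act 5 n26008
theorem D53775 : act 5 n26008 = n53775 := rfl
theorem F84788 : act 3 n53775 = n32191 := d6_1 D53775 F51140 (iv3 F41101)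
theorem F84789 : act 7 n53775 = n32185 := d13_2 (iv7 F41102) D53775 (iv5 D32185)
theorem F84790 : act 0 n51919 = n53775 := d19_0 (iv5 D53775) (iv4 D26008) F20461 D12329 F20465 (iv4 D5865) (iv3 F9953) D11366 F18551 F10504 F4464 F4371 (iv5 D1118) D1117 D2343 D5634 D11956 D25193 D51919
def n53776 : Q := act 6 n26008
theorem D53776 : act 6 n26008 = n53776 := rfl
theorem F84791 : act 3 n53776 = n32196 := d7_1 D53776 (iv6 D32196) (iv3 F41101)
theorem F84792 : act 4 n53776 = n26009 := d10_1 D53776 (iv6 D26009) D26008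
def n53777 : Q := act 0 n26009
theorem D53777 : act 0 n26009 = n53777 := rfl
def n53778 : Q := act 1 n26009
theorem D53778 : act 1 n26009 = n53778 := rfl
def n53779 : Q := act 7 n26009
theorem D53779 : act 7 n26009 = n53779 := rfl
theorem F84793 : act 3 n53779 = n26017 := d8_1 D53779 (iv7 D26017) (iv3 F41103)
theorem F84794 : act 6 n53779 = n32277 := d14_1 D53779 (iv7 D32277) (iv6 D15220) F20462 D26009
def n53780 : Q := act 0 n26010
theorem D53780 : act 0 n26010 = n53780 := rfl
def n53781 : Q := act 1 n26010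
theorem D53781 : act 1 n26010 = n53781 := rfl
def n53782 : Q := act 5 n26010
theorem D53782 : act 5 n26010 = n53782 := rfl
theorem F84795 : act 3 n53782 = n26020 := d6_1 D53782 (iv5 D26020) (iv3 F41104)
theorem F84796 : act 6 n53782 = n32276 := d12_2 D26010 D53782 (iv5 D32276) (iv6 D15220) (iv5 F20464)
def n53783 : Q := act 0 n26011
theorem D53783 : act 0 n26011 = n53783 := rfl
theorem F84797 : act 1 n31292 = n53783 := d15_0 (iv0 D53783) F41106 D31292
def n53784 : Q := act 1 n26011
theorem D53784 : act 1 n26011 = n53784 := rfl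
def n53785 : Q := act 2 n26011
theorem D53785 : act 2 n26011 = n53785 := rfl
theorem F84798 : act 3 n53785 = n31283 := d0_2 D26011 D53785 (iv2 D31283) (iv3 D14756) F20468
theorem F84799 : act 5 n53785 = n26033 := d2_2 (iv5 F41105) D53785 (iv2 D26033)
theorem F84800 : act 7 n53785 = n31292 := d4_2 (iv7 F41106) D53785 (iv2 D31292)
theorem F84801 : act 1 n53785 = n31290 := d15_0 (iv0 D31290) (iv7 F41106) D53785
theorem F84802 : act 1 n53784 = n31292 := d15_1 D53784 (iv7 F84800) (iv2 D53785)
def n53786 : Q := act 4 n26011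
theorem D53786 : act 4 n26011 = n53786 := rfl
theorem F84804 : act 3 n53786 = n26106 := d5_1 D53786 (iv4 D26106) F20568 (iv4 F20466) D26011
theorem F84805 : act 7 n53786 = n31293 := d11_2 (iv7 F41106) D53786 (iv4 D31293)
def n53787 : Q := act 6 n26011
theorem D53787 : act 6 n26011 = n53787 := rfl
theorem F84806 : act 3 n53787 = n26012 := d7_1 D53787 (iv6 D26012) D26011
def n53788 : Q := act 0 n26012
theorem D53788 : act 0 n26012 = n53788 := rfl
def n53789 : Q := act 1 n26012
theorem D53789 : act 1 n26012 = n53789 := rfl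
theorem F84807 : act 1 n53789 = n31289 := d15_1 D53789 (iv7 D31289) (iv2 F41107)
def n53790 : Q := act 5 n26012
theorem D53790 : act 5 n26012 = n53790 := rfl
theorem F84809 : act 6 n53790 = n26037 := d12_2 D26012 D53790 (iv5 D26037) (iv6 D12340) (iv5 F20465)
def n53791 : Q := act 7 n26012
theorem D53791 : act 7 n26012 = n53791 := rfl
theorem F84810 : act 2 n53791 = n31289 := d4_1 D53791 (iv7 D31289) (iv2 F41107)
theorem F84811 : act 4 n53791 = n26110 := d11_1 D53791 (iv7 D26110) (iv4 F41108)
theorem F84812 : act 6 n53791 = n31298 := d14_1 D53791 (iv7 D31298) (iv6 D14759) F20469 D26012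
theorem F84813 : act 1 n31289 = n53788 := d15_0 (iv0 D53788) D53791 F84810
theorem F84814 : act 1 n31287 = n53791 := d15_1 D31287 (iv7 D53791) F41107
theorem F84815 : act 1 n53791 = n31286 := d15_0 (iv0 D31286) D31289 (iv2 F84810)
def n53792 : Q := act 0 n26013
theorem D53792 : act 0 n26013 = n53792 := rfl
theorem F84816 : act 1 n31283 = n53792 := d15_0 (iv0 D53792) F41110 D31283
def n53793 : Q := act 1 n26013
theorem D53793 : act 1 n26013 = n53793 := rfl
def n53794 : Q := act 2 n26013
theorem D53794 : act 2 n26013 = n53794 := rfl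
theorem F84818 : act 5 n53794 = n26082 := d2_2 (iv5 F41109) D53794 (iv2 D26082)
theorem F84819 : act 7 n53794 = n31283 := d4_2 (iv7 F41110) D53794 (iv2 D31283)
theorem F84820 : act 1 n53794 = n31281 := d15_0 (iv0 D31281) (iv7 F41110) D53794
theorem F84821 : act 1 n53793 = n31283 := d15_1 D53793 (iv7 F84819) (iv2 D53794)
theorem F84822 : act 1 n31282 = n53794 := d15_1 D31282 F84819 (iv2 D31283)
def n53795 : Q := act 4 n26013
theorem D53795 : act 4 n26013 = n53795 := rfl
theorem F84823 : act 3 n53795 = n26055 := d5_1 D53795 (iv4 D26055) F20515 (iv4 F20473) D26013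
theorem F84824 : act 7 n53795 = n31284 := d11_2 (iv7 F41110) D53795 (iv4 D31284)
theorem F84825 : act 5 n31889 = n53795 := d6_0 F84823 F41200 D31889
def n53796 : Q := act 6 n26013
theorem D53796 : act 6 n26013 = n53796 := rfl
theorem F84826 : act 3 n53796 = n26014 := d7_1 D53796 (iv6 D26014) D26013
def n53797 : Q := act 0 n26014
theorem D53797 : act 0 n26014 = n53797 := rfl
def n53798 : Q := act 1 n26014
theorem D53798 : act 1 n26014 = n53798 := rfl
theorem F84827 : act 1 n53798 = n31298 := d15_1 D53798 (iv7 D31298) (iv2 F41111)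
def n53799 : Q := act 5 n26014
theorem D53799 : act 5 n26014 = n53799 := rfl
theorem F84828 : act 2 n53799 = n31297 := d2_1 D53799 (iv5 D31297) (iv2 F41111)
theorem F84829 : act 6 n53799 = n26086 := d12_2 D26014 D53799 (iv5 D26086) (iv6 D12365) (iv5 F20472)
def n53800 : Q := act 7 n26014
theorem D53800 : act 7 n26014 = n53800 := rfl
theorem F84830 : act 2 n53800 = n31298 := d4_1 D53800 (iv7 D31298) (iv2 F41111)
theorem F84831 : act 4 n53800 = n26060 := d11_1 D53800 (iv7 D26060) (iv4 F41112)
theorem F84832 : act 6 n53800 = n31289 := d14_1 D53800 (iv7 D31289) (iv6 D14757) (iv7 F20471) D26014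
theorem F84833 : act 1 n31298 = n53797 := d15_0 (iv0 D53797) D53800 F84830
theorem F84834 : act 1 n31296 = n53800 := d15_1 D31296 (iv7 D53800) F41111
theorem F84835 : act 1 n53800 = n31295 := d15_0 (iv0 D31295) D31298 (iv2 F84830)
def n53801 : Q := act 2 n26015
theorem D53801 : act 2 n26015 = n53801 := rfl
theorem F84836 : act 7 n26016 = n53801 := d15_2 (iv0 D26015) D26016 (iv2 D53801)
def n53802 : Q := act 3 n26015
theorem D53802 : act 3 n26015 = n53802 := rfl
def n53803 : Q := act 4 n26015
theorem D53803 : act 4 n26015 = n53803 := rfl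
def n53804 : Q := act 5 n26015
theorem D53804 : act 5 n26015 = n53804 := rfl
def n53805 : Q := act 6 n26015
theorem D53805 : act 6 n26015 = n53805 := rfl
def n53806 : Q := act 7 n26015
theorem D53806 : act 7 n26015 = n53806 := rfl
def n53807 : Q := act 3 n26016
theorem D53807 : act 3 n26016 = n53807 := rfl
def n53808 : Q := act 4 n26016
theorem D53808 : act 4 n26016 = n53808 := rfl
def n53809 : Q := act 5 n26016
theorem D53809 : act 5 n26016 = n53809 := rfl
def n53810 : Q := act 6 n26016
theorem D53810 : act 6 n26016 = n53810 := rfl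
def n53811 : Q := act 2 n26018
theorem D53811 : act 2 n26018 = n53811 := rfl
def n53812 : Q := act 3 n26018
theorem D53812 : act 3 n26018 = n53812 := rfl
def n53813 : Q := act 4 n26018
theorem D53813 : act 4 n26018 = n53813 := rfl
def n53814 : Q := act 5 n26018
theorem D53814 : act 5 n26018 = n53814 := rfl
def n53815 : Q := act 6 n26018
theorem D53815 : act 6 n26018 = n53815 := rfl
def n53816 : Q := act 7 n26018
theorem D53816 : act 7 n26018 = n53816 := rfl
def n53817 : Q := act 3 n26019
theorem D53817 : act 3 n26019 = n53817 := rfl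
def n53818 : Q := act 4 n26019
theorem D53818 : act 4 n26019 = n53818 := rfl
def n53819 : Q := act 5 n26019
theorem D53819 : act 5 n26019 = n53819 := rfl
def n53820 : Q := act 6 n26019
theorem D53820 : act 6 n26019 = n53820 := rfl
def n53821 : Q := act 0 n26020
theorem D53821 : act 0 n26020 = n53821 := rfl
theorem F84840 : act 1 n30658 = n53821 := d15_0 (iv0 D53821) (iv7 F53873) F53872
def n53822 : Q := act 1 n26020
theorem D53822 : act 1 n26020 = n53822 := rfl
theorem F84841 : act 1 n53822 = n30658 := d15_1 D53822 F49110 (iv2 F41122)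
def n53823 : Q := act 4 n26020
theorem D53823 : act 4 n26020 = n53823 := rfl
theorem F84842 : act 2 n53823 = n31321 := d1_1 D53823 (iv4 D31321) (iv2 F41122)
theorem F84843 : act 6 n53823 = n32286 := d10_2 (iv6 F41123) D53823 (iv4 D32286)
def n53824 : Q := act 0 n26021
theorem D53824 : act 0 n26021 = n53824 := rfl
theorem F84844 : act 1 n31337 = n53824 := d15_0 (iv0 D53824) F41124 D31337
def n53825 : Q := act 1 n26021
theorem D53825 : act 1 n26021 = n53825 := rfl
def n53826 : Q := act 2 n26021
theorem D53826 : act 2 n26021 = n53826 := rfl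
theorem F84845 : act 3 n53826 = n31324 := d0_2 D26021 D53826 (iv2 D31324) (iv3 D14767) (iv2 F39544)
theorem F84846 : act 7 n53826 = n31337 := d4_2 (iv7 F41124) D53826 (iv2 D31337)
theorem F84848 : act 1 n53825 = n31337 := d15_1 D53825 (iv7 F84846) (iv2 D53826)
def n53827 : Q := act 4 n26021
theorem D53827 : act 4 n26021 = n53827 := rfl
theorem F84850 : act 7 n53827 = n31338 := d11_2 (iv7 F41124) D53827 (iv4 D31338)
def n53828 : Q := act 5 n26021
theorem D53828 : act 5 n26021 = n53828 := rfl
theorem F84851 : act 3 n53828 = n26023 := d6_1 D53828 (iv5 D26023) D26021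
theorem F84852 : act 7 n53828 = n31339 := d13_2 (iv7 F41124) D53828 (iv5 D31339)
def n53829 : Q := act 6 n26021
theorem D53829 : act 6 n26021 = n53829 := rfl
theorem F84853 : act 3 n53829 = n26024 := d7_1 D53829 (iv6 D26024) D26021
theorem F84854 : act 5 n30012 = n53829 := d6_0 F84853 F41131 D30012
def n53830 : Q := act 0 n26022
theorem D53830 : act 0 n26022 = n53830 := rfl
theorem F84855 : act 1 n26026 = n53830 := d15_0 (iv0 D53830) F41126 (iv2 F41133)
def n53831 : Q := act 1 n26022
theorem D53831 : act 1 n26022 = n53831 := rfl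
theorem F84856 : act 1 n53831 = n26026 := d15_1 D53831 F41134 (iv2 F41125)
def n53832 : Q := act 3 n26022
theorem D53832 : act 3 n26022 = n53832 := rfl
theorem F84857 : act 7 n53832 = n31341 := d8_2 (iv7 F41126) D53832 (iv3 D31341)
def n53833 : Q := act 5 n26022
theorem D53833 : act 5 n26022 = n53833 := rfl
def n53834 : Q := act 6 n26022
theorem D53834 : act 6 n26022 = n53834 := rfl
theorem F84860 : act 2 n53834 = n31332 := d3_1 D53834 (iv6 D31332) (iv2 F41125)
theorem F84861 : act 4 n53834 = n26024 := d10_1 D53834 (iv6 D26024) D26022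
def n53835 : Q := act 4 n26023
theorem D53835 : act 4 n26023 = n53835 := rfl
theorem F84862 : act 2 n53835 = n31334 := d1_1 D53835 (iv4 D31334) (iv2 F41127)
theorem F84863 : act 7 n53835 = n31344 := d11_2 (iv7 F41128) D53835 (iv4 D31344)
def n53836 : Q := act 0 n26025
theorem D53836 : act 0 n26025 = n53836 := rfl
theorem F84864 : act 1 n31324 = n53836 := d15_0 (iv0 D53836) F41132 D31324
def n53837 : Q := act 1 n26025
theorem D53837 : act 1 n26025 = n53837 := rfl
def n53838 : Q := act 2 n26025
theorem D53838 : act 2 n26025 = n53838 := rfl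
theorem F84865 : act 3 n53838 = n31337 := d0_2 D26025 D53838 (iv2 D31337) (iv3 D14772) (iv2 F39542)
theorem F84866 : act 7 n53838 = n31324 := d4_2 (iv7 F41132) D53838 (iv2 D31324)
theorem F84868 : act 1 n53837 = n31324 := d15_1 D53837 (iv7 F84866) (iv2 D53838)
def n53839 : Q := act 4 n26025
theorem D53839 : act 4 n26025 = n53839 := rfl
theorem F84870 : act 7 n53839 = n31325 := d11_2 (iv7 F41132) D53839 (iv4 D31325)
def n53840 : Q := act 5 n26025
theorem D53840 : act 5 n26025 = n53840 := rfl
theorem F84871 : act 3 n53840 = n26027 := d6_1 D53840 (iv5 D26027) D26025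
theorem F84872 : act 6 n53840 = n50583 := d12_2 (iv6 F81719) D53840 F81722 (iv6 D51757) D51756
theorem F84873 : act 7 n53840 = n31326 := d13_2 (iv7 F41132) D53840 (iv5 D31326)
def n53841 : Q := act 3 n26026
theorem D53841 : act 3 n26026 = n53841 := rfl
theorem F84874 : act 7 n53841 = n31330 := d8_2 (iv7 F41134) D53841 (iv3 D31330)
def n53842 : Q := act 5 n26026
theorem D53842 : act 5 n26026 = n53842 := rfl
theorem F84875 : act 2 n53842 = n31342 := d2_1 D53842 (iv5 D31342) (iv2 F41133)
theorem F84876 : act 7 n53842 = n31331 := d13_2 (iv7 F41134) D53842 (iv5 D31331)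
def n53843 : Q := act 4 n26027
theorem D53843 : act 4 n26027 = n53843 := rfl
theorem F84877 : act 2 n53843 = n31344 := d1_1 D53843 (iv4 D31344) (iv2 F41135)
theorem F84878 : act 6 n53843 = n31421 := d10_2 (iv6 F41136) D53843 F49703
theorem F84879 : act 7 n53843 = n31334 := d11_2 (iv7 F41137) D53843 (iv4 D31334)
def n53844 : Q := act 5 n26029
theorem D53844 : act 5 n26029 = n53844 := rfl
theorem F84880 : act 7 n53844 = n31412 := d13_2 (iv7 F41144) D53844 (iv5 D31412)
theorem F84881 : act 4 n53844 = n30294 := d16_2 D26029 D53844 (iv5 D30294) (iv4 D14379) (iv5 F22549) (iv4 F19106) (iv5 F22624) (iv7 F41141) (iv2 D26028)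
theorem F84882 : act 1 n53844 = n30379 := d17_6 D13471 (iv5 F38816) (iv1 F38820) (iv5 F20486) D26029 D53844 (iv5 D30379) (iv0 F24080) (iv4 D13473)
def n53845 : Q := act 6 n26029
theorem D53845 : act 6 n26029 = n53845 := rfl
theorem F84883 : act 4 n53845 = n26030 := d10_1 D53845 (iv6 D26030) D26029
def n53846 : Q := act 2 n26031
theorem D53846 : act 2 n26031 = n53846 := rfl
theorem F84884 : act 7 n26032 = n53846 := d15_2 (iv0 D26031) D26032 (iv2 D53846)
def n53847 : Q := act 3 n26031
theorem D53847 : act 3 n26031 = n53847 := rfl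
theorem F84885 : act 4 n53847 = n30866 := d20_6 F11229 (iv1 D5864) D5865 D12339 D26031 D53847 (iv1 D30866) F24299 (iv3 D6989) (iv1 F11228)
def n53848 : Q := act 4 n26031
theorem D53848 : act 4 n26031 = n53848 := rfl
def n53849 : Q := act 5 n26031
theorem D53849 : act 5 n26031 = n53849 := rfl
def n53850 : Q := act 6 n26031
theorem D53850 : act 6 n26031 = n53850 := rfl
def n53851 : Q := act 7 n26031
theorem D53851 : act 7 n26031 = n53851 := rfl
theorem F84886 : act 2 n53851 = n26032 := d4_1 D53851 F84884 (iv2 D53846)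
def n53852 : Q := act 3 n26032
theorem D53852 : act 3 n26032 = n53852 := rfl
def n53853 : Q := act 4 n26032
theorem D53853 : act 4 n26032 = n53853 := rfl
theorem F84887 : act 3 n49497 = n53853 := d20_5 (iv4 D24140) (iv1 F18511) D11349 D24162 D49497 (iv4 D53853) (iv1 D26032) (iv4 F37926) (iv3 D24203) (iv1 F37842)
def n53854 : Q := act 5 n26032
theorem D53854 : act 5 n26032 = n53854 := rfl
def n53855 : Q := act 6 n26032
theorem D53855 : act 6 n26032 = n53855 := rfl
def n53856 : Q := act 6 n26033
theorem D53856 : act 6 n26033 = n53856 := rfl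
theorem F84888 : act 2 n53856 = n26034 := d3_1 D53856 (iv6 D26034) D26033
def n53857 : Q := act 0 n26034
theorem D53857 : act 0 n26034 = n53857 := rfl
def n53858 : Q := act 1 n26034
theorem D53858 : act 1 n26034 = n53858 := rfl
def n53859 : Q := act 5 n26034
theorem D53859 : act 5 n26034 = n53859 := rfl
def n53860 : Q := act 7 n26034
theorem D53860 : act 7 n26034 = n53860 := rfl
theorem F84892 : act 6 n53860 = n31762 := d14_1 D53860 (iv7 D31762) (iv6 D14939) (iv7 F20491) D26034
def n53865 : Q := act 0 n26040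
theorem D53865 : act 0 n26040 = n53865 := rfl
theorem F84906 : act 1 n31496 = n53865 := d15_0 (iv0 D53865) F49815 D31496
def n53866 : Q := act 1 n26040
theorem D53866 : act 1 n26040 = n53866 := rfl
def n53867 : Q := act 2 n26040
theorem D53867 : act 2 n26040 = n53867 := rfl
theorem F84907 : act 3 n53867 = n31482 := d0_2 D26040 D53867 (iv2 D31482) (iv3 D14832) F49813
theorem F84908 : act 7 n53867 = n31496 := d4_2 (iv7 F49815) D53867 (iv2 D31496)
theorem F84909 : act 1 n53867 = n31494 := d15_0 (iv0 D31494) (iv7 F49815) D53867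
theorem F84910 : act 1 n53866 = n31496 := d15_1 D53866 (iv7 F84908) (iv2 D53867)
theorem F84911 : act 1 n31495 = n53867 := d15_1 D31495 F84908 (iv2 D31496)
def n53868 : Q := act 4 n26040
theorem D53868 : act 4 n26040 = n53868 := rfl
theorem F84912 : act 7 n53868 = n31497 := d11_2 (iv7 F49815) D53868 (iv4 D31497)
def n53869 : Q := act 0 n26043
theorem D53869 : act 0 n26043 = n53869 := rfl
def n53870 : Q := act 1 n26043
theorem D53870 : act 1 n26043 = n53870 := rfl
def n53871 : Q := act 2 n26043
theorem D53871 : act 2 n26043 = n53871 := rfl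
theorem F84914 : act 3 n53871 = n31496 := d0_2 D26043 D53871 (iv2 D31496) (iv3 D14836) F49808
theorem F84915 : act 5 n53871 = n53867 := d2_2 (iv5 F41167) D53871 (iv2 D53867)
theorem F84916 : act 7 n53871 = n31482 := d4_2 (iv7 F49809) D53871 (iv2 D31482)
theorem F84917 : act 1 n53871 = n31480 := d15_0 (iv0 D31480) (iv7 F49809) D53871
theorem F84918 : act 1 n53870 = n31482 := d15_1 D53870 (iv7 F84916) (iv2 D53871)
theorem F84919 : act 1 n31481 = n53871 := d15_1 D31481 F84916 (iv2 D31482)
def n53872 : Q := act 4 n26043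
theorem D53872 : act 4 n26043 = n53872 := rfl
theorem F84920 : act 7 n53872 = n31483 := d11_2 (iv7 F49809) D53872 (iv4 D31483)
def n53873 : Q := act 6 n26043
theorem D53873 : act 6 n26043 = n53873 := rfl
theorem F84921 : act 3 n53873 = n26045 := d7_1 D53873 (iv6 D26045) D26043
def n53874 : Q := act 6 n26049
theorem D53874 : act 6 n26049 = n53874 := rfl
theorem F84922 : act 2 n53874 = n28710 := d3_1 D53874 F46294 F41179
theorem F84923 : act 3 n53874 = n34994 := d7_1 D53874 (iv6 D34994) (iv3 F50653)
theorem F84924 : act 7 n53874 = n31688 := d14_2 (iv7 F41181) D53874 F49972 (iv7 D26715) (iv6 F27314)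
theorem F84925 : act 0 n53874 = n26857 := d21_4 D5911 D12430 (iv5 F41539) D53874 (iv6 D26857) D26856 F43283 (iv5 D26198) (iv6 D12426) (iv1 D5909)
theorem F84926 : act 5 n53874 = n32989 := d21_6 D3424 D7503 (iv5 F26854) (iv6 F26473) D26049 D53874 (iv1 F52167) (iv5 D16024) (iv6 D7495) (iv1 D3421)
theorem F84927 : act 0 n26064 = n53874 := d21_4 D7509 D16078 D33291 (iv6 F52520) (iv6 D53874) F41539 (iv1 F41538) (iv5 D26178) F26873 (iv1 D7508)
def n53875 : Q := act 3 n26050
theorem D53875 : act 3 n26050 = n53875 := rfl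
theorem F84928 : act 2 n53875 = n31611 := d0_1 D53875 (iv3 F82784) F55521 F50152 (iv2 F55527)
theorem F84929 : act 5 n53875 = n28450 := d6_2 (iv5 F50824) D53875 (iv3 D28450)
theorem F84930 : act 7 n53875 = n31546 := d8_2 (iv7 F55528) D53875 (iv3 D31546)
theorem F84931 : act 0 n53875 = n26099 := d20_4 F12056 D15293 F41183 D53875 (iv3 D26099) D26100 F49918 (iv4 F49916) (iv3 F49917) (iv1 D16665)
theorem F84932 : act 4 n53875 = n31515 := d20_6 (iv4 D2864) (iv1 F4430) (iv4 F9071) D12346 D26050 D53875 (iv1 D31515) F24510 (iv3 D7072) F5024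
theorem F84933 : act 1 n52547 = n31843 := d17_6 (iv1 D31515) D31517 (iv1 F82799) (iv5 D25508) D25507 D52547 F50613 (iv0 F84931) F84932
theorem F84934 : act 1 n31843 = n52556 := d15_1 F84933 F83062 (iv2 F83039)
theorem F84935 : act 1 n53875 = n31613 := d15_0 F55396 (iv7 F82785) (iv2 F84928)
def n53876 : Q := act 6 n26050
theorem D53876 : act 6 n26050 = n53876 := rfl
theorem F84936 : act 2 n53876 = n31554 := d3_1 D53876 (iv6 D31554) (iv2 F55527)
theorem F84937 : act 4 n53876 = n32394 := d10_1 D53876 (iv6 D32394) F41183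
theorem F84938 : act 7 n53876 = n31675 := d14_2 (iv7 F55528) D53876 F54150 (iv7 D24391) F50948
theorem F84939 : act 0 n53876 = n31677 := d21_4 D6457 D13567 (iv5 F50824) D53876 F49957 D32554 F54162 (iv5 D28435) (iv6 D13563) (iv1 D6455)
theorem F84940 : act 5 n32928 = n53876 := d21_2 D15859 D32928 (iv6 D53876) (iv1 F41182) (iv6 F45535) (iv5 F50876) (iv1 F54040) (iv5 D29714) (iv6 F54043) (iv1 F50863)
theorem F84941 : act 1 n53876 = n26061 := d15_1 (iv0 F84939) F41211 D31677
def n53877 : Q := act 3 n26053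
theorem D53877 : act 3 n26053 = n53877 := rfl
theorem F84942 : act 5 n53877 = n26111 := d6_2 (iv5 F41191) D53877 (iv3 D26111)
theorem F84943 : act 7 n53877 = n31799 := d8_2 F41194 D53877 (iv3 D31799)
theorem F84944 : act 0 n53877 = n28455 := d21_1 (iv5 F84942) (iv5 F55361) (iv6 F55360) (iv1 F45540) F45528 (iv5 F50164) (iv1 F50168) (iv5 F54336) D48888 (iv1 F77040)
def n53878 : Q := act 4 n26053
theorem D53878 : act 4 n26053 = n53878 := rfl
theorem F84945 : act 2 n53878 = n31803 := d1_1 D53878 (iv4 D31803) F41193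
theorem F84946 : act 7 n53878 = n31800 := d11_2 F41194 D53878 (iv4 D31800)
theorem F84947 : act 5 n53878 = n31803 := d16_1 D53878 (iv4 D31803) F26893 F20526 F12089 (iv4 F26562) (iv5 F41197) F41196 F41193
theorem F84948 : act 0 n53878 = n34407 := d17_0 F54584 (iv1 F50375) F50190 (iv4 D15302) (iv5 D7244) (iv0 F26603) D14964 F41192 D53878
theorem F84949 : act 1 n53878 = n34404 := d18_6 F11554 F5299 D6448 (iv4 F26557) (iv5 F41191) D53878 (iv4 D34404) F27302 (iv5 D15018)
def n53879 : Q := act 6 n26053
theorem D53879 : act 6 n26053 = n53879 := rfl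
theorem F84950 : act 2 n53879 = n31804 := d3_1 D53879 (iv6 D31804) F41193
theorem F84951 : act 5 n53879 = n26360 := d12_1 D53879 (iv6 D26360) (iv5 D12572) (iv6 F26558) (iv5 F41191)
def n53880 : Q := act 3 n26054
theorem D53880 : act 3 n26054 = n53880 := rfl
theorem F84952 : act 5 n53880 = n26112 := d6_2 (iv5 F41197) D53880 (iv3 D26112)
theorem F84953 : act 7 n53880 = n31802 := d8_2 (iv7 F41196) D53880 (iv3 D31802)
theorem F84954 : act 0 n32179 = n53880 := d17_2 (iv1 F50091) (iv5 F54266) F84952 F41303 D31893 (iv0 F54556) (iv5 D34384) F45909 (iv4 F50086)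
theorem F84955 : act 1 n32174 = n53880 := d17_6 (iv1 D6455) D6457 D13567 (iv5 F50824) (iv4 F41183) (iv5 F51134) F84952 F45943 (iv4 D13561)
def n53881 : Q := act 4 n26054
theorem D53881 : act 4 n26054 = n53881 := rfl
theorem F84956 : act 2 n53881 = n31800 := d1_1 D53881 (iv4 D31800) F41198
theorem F84957 : act 5 n53881 = n31800 := d9_2 (iv5 F41197) D53881 (iv4 D31800) F26681 (iv4 F12696) F12697 (iv4 F26557) (iv5 F41191) D53878 F84947 (iv4 D31803) F26893 F20526 F12089 (iv4 F26562)
theorem F84958 : act 7 n53881 = n31803 := d11_2 (iv7 F41196) D53881 (iv4 D31803)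
theorem F84959 : act 0 n53881 = n34404 := d17_0 F54576 F41463 (iv5 F50190) (iv4 D31886) F24642 F26590 D12350 D26054 D53881
theorem F84960 : act 1 n53881 = n34407 := d18_6 (iv1 F20667) F20664 F12568 (iv4 F26562) (iv5 F41197) D53881 (iv4 D34407) F27318 (iv5 D15016)
def n53882 : Q := act 6 n26054
theorem D53882 : act 6 n26054 = n53882 := rfl
theorem F84961 : act 2 n53882 = n31801 := d3_1 D53882 (iv6 D31801) F41198
theorem F84962 : act 5 n53882 = n26261 := d12_1 D53882 (iv6 D26261) F26445 (iv6 F26563) (iv5 F41197)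
def n53883 : Q := act 0 n26055
theorem D53883 : act 0 n26055 = n53883 := rfl
theorem F84963 : act 5 n53883 = n31806 := d17_1 D53883 (iv1 D31806) D31807 F50111 F24643 (iv0 F26555) (iv5 F41191) (iv0 D26053) D26055
theorem F84964 : act 4 n53883 = n26118 := d18_1 D53883 F41321 D32372 (iv5 F51415) (iv4 D32374) (iv0 D15271) D15272 F24863 (iv5 F41200)
theorem F84965 : act 1 n31797 = n53883 := d15_0 (iv0 D53883) F41199 (iv2 F50099)
theorem F84966 : act 2 n31806 = n53883 := d1_3 F84964 F41319 (iv4 F50108)
theorem F84967 : act 7 n31805 = n53883 := d11_0 F84964 F41320 (iv4 F50107)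
def n53884 : Q := act 1 n26055
theorem D53884 : act 1 n26055 = n53884 := rfl
theorem F84968 : act 1 n53884 = n31797 := d15_1 D53884 (iv7 F54591) F54589
theorem F84969 : act 7 n53884 = n31806 := d15_2 (iv0 D53883) D53884 F84966
theorem F84970 : act 5 n53884 = n31805 := d17_7 D14966 F26681 (iv1 D7139) D7140 D15010 (iv5 F41200) D53884 (iv0 D31805) (iv4 D14968)
theorem F84971 : act 4 n53884 = n26119 := d17_9 F41326 (iv5 D15268) (iv1 F12041) (iv5 F24714) (iv4 F50197) F50196 F24863 (iv5 F41200) D53884
theorem F84972 : act 2 n31805 = n53884 := d1_3 F84971 F41323 (iv4 F50107)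
def n53885 : Q := act 6 n26055
theorem D53885 : act 6 n26055 = n53885 := rfl
theorem F84973 : act 4 n53885 = n26056 := d10_1 D53885 (iv6 D26056) D26055
def n53886 : Q := act 0 n26056
theorem D53886 : act 0 n26056 = n53886 := rfl
theorem F84974 : act 6 n53886 = n31876 := d21_5 (iv5 D7244) F26591 D12350 D26056 D53886 (iv5 D31876) (iv1 D15002) D15003 F24639 F11561
def n53887 : Q := act 1 n26056
theorem D53887 : act 1 n26056 = n53887 := rfl
def n53888 : Q := act 7 n26056
theorem D53888 : act 7 n26056 = n53888 := rfl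
theorem F84975 : act 3 n53888 = n26060 := d8_1 D53888 (iv7 D26060) (iv3 F41201)
theorem F84976 : act 6 n53888 = n31811 := d14_1 D53888 (iv7 D31811) (iv6 D14969) (iv7 F20516) D26056
def n53889 : Q := act 2 n26057
theorem D53889 : act 2 n26057 = n53889 := rfl
theorem F84977 : act 7 n26058 = n53889 := d15_2 (iv0 D26057) D26058 (iv2 D53889)
def n53890 : Q := act 3 n26057
theorem D53890 : act 3 n26057 = n53890 := rfl
def n53891 : Q := act 4 n26057
theorem D53891 : act 4 n26057 = n53891 := rfl
def n53892 : Q := act 5 n26057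
theorem D53892 : act 5 n26057 = n53892 := rfl
def n53893 : Q := act 6 n26057
theorem D53893 : act 6 n26057 = n53893 := rfl
theorem F84978 : act 5 n53893 = n31879 := d21_6 F11450 (iv1 D5872) D5874 D12352 D26057 D53893 (iv1 D31879) (iv5 D15003) (iv6 D7137) D7135
def n53894 : Q := act 7 n26057
theorem D53894 : act 7 n26057 = n53894 := rfl
def n53895 : Q := act 3 n26058
theorem D53895 : act 3 n26058 = n53895 := rfl
def n53896 : Q := act 4 n26058
theorem D53896 : act 4 n26058 = n53896 := rfl
def n53897 : Q := act 5 n26058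
theorem D53897 : act 5 n26058 = n53897 := rfl
def n53898 : Q := act 6 n26058
theorem D53898 : act 6 n26058 = n53898 := rfl
def n53899 : Q := act 1 n26059
theorem D53899 : act 1 n26059 = n53899 := rfl
theorem F84980 : act 1 n53899 = n31674 := d15_1 D53899 (iv7 D31674) (iv2 F41203)
theorem F84981 : act 7 n53899 = n31671 := d15_2 (iv0 F57681) D53899 (iv2 F57680)
theorem F84982 : act 2 n31672 = n53899 := d4_3 F84981 (iv2 F57680) (iv7 F57682)
theorem F84983 : act 1 n31674 = n36782 := d15_1 F84980 (iv7 F57682) F84982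
def n53900 : Q := act 4 n26059
theorem D53900 : act 4 n26059 = n53900 := rfl
theorem F84984 : act 2 n53900 = n31673 := d1_1 D53900 (iv4 D31673) (iv2 F41203)
theorem F84985 : act 6 n53900 = n26062 := d10_2 (iv6 F41204) D53900 (iv4 D26062)
def n53901 : Q := act 7 n26059
theorem D53901 : act 7 n26059 = n53901 := rfl
theorem F84987 : act 5 n53901 = n26060 := d13_1 D53901 (iv7 D26060) D26059
theorem F84988 : act 1 n31672 = n53901 := d15_1 D31672 (iv7 D53901) F41203
theorem F84989 : act 1 n53901 = n31671 := d15_1 F84988 (iv7 F84981) (iv2 F84982)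
def n53902 : Q := act 2 n26061
theorem D53902 : act 2 n26061 = n53902 := rfl
theorem F84990 : act 3 n53902 = n31680 := d0_2 D26061 D53902 (iv2 D31680) (iv3 D14894) F20522
theorem F84991 : act 4 n53902 = n31691 := d1_2 (iv4 F41210) D53902 (iv2 D31691)
theorem F84992 : act 7 n53902 = n31677 := d4_2 (iv7 F41211) D53902 (iv2 D31677)
theorem F84993 : act 1 n53902 = n31675 := d15_0 (iv0 D31675) (iv7 F41211) D53902
theorem F84994 : act 1 n31554 = n53902 := d15_0 F84993 (iv7 F84938) F84936
def n53903 : Q := act 3 n26062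
theorem D53903 : act 3 n26062 = n53903 := rfl
theorem F84995 : act 4 n53903 = n34004 := d5_2 D26062 D53903 (iv3 D34004) (iv4 F25977) F26697
def n53904 : Q := act 2 n26064
theorem D53904 : act 2 n26064 = n53904 := rfl
theorem F84997 : act 3 n53904 = n31691 := d0_2 D26064 D53904 (iv2 D31691) (iv3 D14900) (iv2 F20533)
theorem F84998 : act 6 n53904 = n48883 := d3_2 (iv6 F52520) D53904 (iv2 F77004)
theorem F84999 : act 7 n53904 = n26857 := d4_2 (iv7 F41219) D53904 F43284
theorem F85000 : act 1 n53904 = n31688 := d15_0 (iv0 D31688) (iv7 F41219) D53904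
theorem F85001 : act 1 n28710 = n53904 := d15_0 F85000 (iv7 F84924) F84922
def n53905 : Q := act 3 n26065
theorem D53905 : act 3 n26065 = n53905 := rfl
theorem F85002 : act 4 n53905 = n53255 := d5_2 D26065 D53905 (iv3 D53255) F40811 F39807
theorem F85003 : act 7 n53905 = n28719 := d8_2 (iv7 F41221) D53905 (iv3 D28719)
def n53906 : Q := act 5 n26065
theorem D53906 : act 5 n26065 = n53906 := rfl
theorem F85004 : act 2 n53906 = n31349 := d2_1 D53906 (iv5 D31349) (iv2 F41220)
theorem F85005 : act 7 n53906 = n28720 := d13_2 (iv7 F41221) D53906 (iv5 D28720)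
theorem F85006 : act 4 n53906 = n52203 := d16_2 D26065 D53906 (iv5 D52203) (iv4 D25355) (iv5 D12041) F8796 D6511 F19373 (iv2 F20537)
def n53907 : Q := act 6 n26065
theorem D53907 : act 6 n26065 = n53907 := rfl
theorem F85007 : act 2 n53907 = n31350 := d3_1 D53907 (iv6 D31350) (iv2 F41220)
theorem F85008 : act 4 n53907 = n26066 := d10_1 D53907 (iv6 D26066) D26065
theorem F85009 : act 7 n53907 = n52155 := d14_2 (iv7 F41221) D53907 (iv6 D52155) (iv7 D25326) (iv6 F22857)
def n53908 : Q := act 3 n26067
theorem D53908 : act 3 n26067 = n53908 := rfl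
theorem F85010 : act 4 n53908 = n53379 := d5_2 D26067 D53908 (iv3 D53379) F40857 (iv3 F40858)
theorem F85011 : act 7 n53908 = n31360 := d8_2 (iv7 F41226) D53908 (iv3 D31360)
def n53909 : Q := act 5 n26067
theorem D53909 : act 5 n26067 = n53909 := rfl
theorem F85012 : act 2 n53909 = n31369 := d2_1 D53909 (iv5 D31369) (iv2 F41225)
theorem F85013 : act 7 n53909 = n31361 := d13_2 (iv7 F41226) D53909 (iv5 D31361)
theorem F85014 : act 0 n53909 = n30415 := d17_2 F48765 D53909 (iv5 D30415) (iv4 D14447) F19469 D24115 (iv5 F40911) (iv0 F40914) D30340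
def n53910 : Q := act 6 n26067
theorem D53910 : act 6 n26067 = n53910 := rfl
theorem F85015 : act 2 n53910 = n31370 := d3_1 D53910 (iv6 D31370) (iv2 F41225)
theorem F85016 : act 4 n53910 = n26068 := d10_1 D53910 (iv6 D26068) D26067
theorem F85017 : act 0 n53910 = n52157 := d20_1 (iv4 F85016) F82449 F40008 D30228 F48901 D30564 (iv1 F53932) F53930 (iv3 F53925) (iv1 F53926)
def n53911 : Q := act 6 n26069
theorem D53911 : act 6 n26069 = n53911 := rfl
theorem F85018 : act 3 n53911 = n26071 := d7_1 D53911 (iv6 D26071) D26069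
theorem F85019 : act 4 n53911 = n53206 := d10_1 D53911 (iv6 D53206) (iv4 F41232)
theorem F85020 : act 5 n53911 = n27978 := d12_1 D53911 (iv6 D27978) (iv5 D13349) D13350 (iv5 F41230)
def n53912 : Q := act 3 n26070
theorem D53912 : act 3 n26070 = n53912 := rfl
theorem F85021 : act 4 n53912 = n53204 := d5_2 D26070 D53912 (iv3 D53204) (iv4 F41232) (iv3 D26069)
theorem F85022 : act 7 n53912 = n31368 := d8_2 (iv7 F41236) D53912 (iv3 D31368)
def n53913 : Q := act 5 n26070
theorem D53913 : act 5 n26070 = n53913 := rfl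
theorem F85023 : act 2 n53913 = n31361 := d2_1 D53913 (iv5 D31361) (iv2 F41235)
theorem F85024 : act 7 n53913 = n31369 := d13_2 (iv7 F41236) D53913 (iv5 D31369)
theorem F85025 : act 1 n53913 = n30415 := d17_6 (iv1 F22661) F22659 F22223 (iv5 F20543) D26070 D53913 (iv5 D30415) (iv0 F24420) (iv4 D14778)
def n53914 : Q := act 6 n26070
theorem D53914 : act 6 n26070 = n53914 := rfl
theorem F85026 : act 2 n53914 = n31362 := d3_1 D53914 (iv6 D31362) (iv2 F41235)
theorem F85027 : act 4 n53914 = n26071 := d10_1 D53914 (iv6 D26071) D26070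
def n53915 : Q := act 0 n26071
theorem D53915 : act 0 n26071 = n53915 := rfl
def n53916 : Q := act 1 n26071
theorem D53916 : act 1 n26071 = n53916 := rfl
theorem F85028 : act 1 n53916 = n31365 := d15_1 D53916 (iv7 D31365) (iv2 F41237)
def n53917 : Q := act 7 n26071
theorem D53917 : act 7 n26071 = n53917 := rfl
theorem F85029 : act 2 n53917 = n31365 := d4_1 D53917 (iv7 D31365) (iv2 F41237)
theorem F85030 : act 5 n53917 = n27987 := d13_1 D53917 (iv7 D27987) (iv5 F41238)
theorem F85031 : act 6 n53917 = n31372 := d14_1 D53917 (iv7 D31372) (iv6 D14790) F22181 D26071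
theorem F85032 : act 1 n31365 = n53915 := d15_0 (iv0 D53915) D53917 F85029
theorem F85033 : act 1 n31364 = n53917 := d15_1 D31364 (iv7 D53917) F41237
theorem F85034 : act 1 n53917 = n31363 := d15_0 (iv0 D31363) D31365 (iv2 F85029)
def n53918 : Q := act 3 n26072
theorem D53918 : act 3 n26072 = n53918 := rfl
theorem F85035 : act 7 n53918 = n31373 := d8_2 F41242 D53918 (iv3 D31373)
def n53919 : Q := act 5 n26072
theorem D53919 : act 5 n26072 = n53919 := rfl
theorem F85036 : act 2 n53919 = n31377 := d2_1 D53919 (iv5 D31377) F41241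
theorem F85037 : act 7 n53919 = n31374 := d13_2 F41242 D53919 (iv5 D31374)
theorem F85038 : act 4 n53919 = n53913 := d16_2 (iv4 F41239) D53919 (iv5 D53913) (iv4 D26070) F20543 (iv4 F22232) F24047 (iv7 F40912) F40910
theorem F85039 : act 1 n53919 = n48845 := d17_6 (iv1 F37486) (iv5 F37788) (iv1 F40148) F40146 (iv4 F41239) D53919 (iv5 D48845) (iv0 F40055) (iv4 D25345)
def n53920 : Q := act 6 n26072
theorem D53920 : act 6 n26072 = n53920 := rfl
theorem F85040 : act 2 n53920 = n31378 := d3_1 D53920 (iv6 D31378) F41241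
theorem F85041 : act 4 n53920 = n29600 := d10_1 D53920 (iv6 F47524) (iv4 F41239)
theorem F85042 : act 0 n53920 = n52146 := d21_4 D48845 (iv1 F85039) (iv5 D53919) D53920 (iv6 D52146) D52145 F82429 (iv5 D25349) (iv6 F40054) F40055
def n53921 : Q := act 3 n26073
theorem D53921 : act 3 n26073 = n53921 := rfl
theorem F85043 : act 4 n53921 = n30672 := d5_2 (iv4 F41245) D53921 (iv3 D30672) (iv4 D14540) (iv3 F24048)
theorem F85044 : act 7 n53921 = n31376 := d8_2 (iv7 F41244) D53921 (iv3 D31376)
def n53922 : Q := act 5 n26073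
theorem D53922 : act 5 n26073 = n53922 := rfl
theorem F85045 : act 2 n53922 = n31374 := d2_1 D53922 (iv5 D31374) F41246
theorem F85046 : act 4 n53922 = n53909 := d9_1 D53922 (iv5 D53909) (iv4 D26067) (iv5 F24646) (iv4 F40145) F40146 (iv4 F41239) D53919 F85038 (iv5 D53913) (iv4 D26070) F20543 (iv4 F22232) F24047 (iv4 F41245)
theorem F85047 : act 7 n53922 = n31377 := d13_2 (iv7 F41244) D53922 (iv5 D31377)
theorem F85048 : act 0 n53922 = n48845 := d17_2 (iv1 F41243) D53922 (iv5 D48845) (iv4 D23817) F18117 (iv0 F22224) (iv5 F20543) F20542 D14780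
def n53923 : Q := act 6 n26073
theorem D53923 : act 6 n26073 = n53923 := rfl
theorem F85049 : act 2 n53923 = n31375 := d3_1 D53923 (iv6 D31375) F41246
theorem F85050 : act 4 n53923 = n30342 := d10_1 D53923 (iv6 D30342) (iv4 F41245)
def n53924 : Q := act 0 n26074
theorem D53924 : act 0 n26074 = n53924 := rfl
theorem F85051 : act 1 n31381 = n53924 := d15_0 (iv0 D53924) F41248 D31381
def n53925 : Q := act 1 n26074
theorem D53925 : act 1 n26074 = n53925 := rfl
theorem F85052 : act 4 n53406 = n53925 := d20_6 (iv4 D12281) (iv1 D5825) D5826 D12283 D25874 D53406 (iv1 D53925) F41247 (iv3 D12364) (iv1 F20358)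
theorem F85053 : act 0 n31381 = n53925 := d20_7 (iv4 F49322) F84230 (iv4 F84229) (iv3 D31749) (iv1 F41152) F41150 (iv4 F49644) (iv4 F85052) (iv3 D53406) (iv1 F40875)
def n53926 : Q := act 2 n26074
theorem D53926 : act 2 n26074 = n53926 := rfl
theorem F85054 : act 4 n53926 = n26082 := d1_2 (iv4 F41247) D53926 (iv2 D26082)
theorem F85055 : act 7 n53926 = n31381 := d4_2 (iv7 F41248) D53926 (iv2 D31381)
theorem F85056 : act 1 n53926 = n31379 := d15_0 (iv0 D31379) (iv7 F41248) D53926
theorem F85057 : act 1 n31380 = n53926 := d15_1 D31380 F85055 (iv2 D31381)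
def n53927 : Q := act 5 n26074
theorem D53927 : act 5 n26074 = n53927 := rfl
theorem F85058 : act 3 n53927 = n26075 := d6_1 D53927 (iv5 D26075) D26074
theorem F85059 : act 7 n53927 = n31382 := d13_2 (iv7 F41248) D53927 (iv5 D31382)
def n53928 : Q := act 6 n26074
theorem D53928 : act 6 n26074 = n53928 := rfl
theorem F85060 : act 3 n53928 = n26076 := d7_1 D53928 (iv6 D26076) D26074
theorem F85061 : act 4 n53928 = n26083 := d10_1 D53928 (iv6 D26083) (iv4 F41247)
def n53929 : Q := act 1 n26075
theorem D53929 : act 1 n26075 = n53929 := rfl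
theorem F85062 : act 1 n53929 = n31354 := d15_1 D53929 (iv7 F49653) F49652
theorem F85063 : act 7 n53929 = n31385 := d15_2 F82542 D53929 (iv2 F82539)
theorem F85064 : act 5 n53929 = n28313 := d17_7 (iv1 F20540) (iv5 D12357) (iv1 D5880) D5882 D12360 D26075 D53929 F45824 (iv4 D24905)
theorem F85065 : act 4 n28716 = n53929 := d18_5 (iv1 D28313) (iv4 D13513) F19553 D13689 D28716 F85062 F49617 D53929 F85064
theorem F85066 : act 2 n53929 = n31384 := d1_1 F85065 (iv4 F49649) F46325
def n53930 : Q := act 6 n26075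
theorem D53930 : act 6 n26075 = n53930 := rfl
def n53931 : Q := act 0 n26076
theorem D53931 : act 0 n26076 = n53931 := rfl
def n53932 : Q := act 5 n26076
theorem D53932 : act 5 n26076 = n53932 := rfl
def n53933 : Q := act 7 n26076
theorem D53933 : act 7 n26076 = n53933 := rfl
theorem F85067 : act 4 n53933 = n26079 := d11_1 D53933 (iv7 D26079) (iv4 F41250)
theorem F85068 : act 6 n53933 = n31391 := d14_1 D53933 (iv7 D31391) (iv6 D14795) (iv7 F20544) D26076
def n53934 : Q := act 3 n26077
theorem D53934 : act 3 n26077 = n53934 := rfl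
def n53935 : Q := act 4 n26077
theorem D53935 : act 4 n26077 = n53935 := rfl
def n53936 : Q := act 6 n26077
theorem D53936 : act 6 n26077 = n53936 := rfl
theorem F85069 : act 5 n53936 = n49250 := d12_1 D53936 F77808 (iv5 F77460) F77461 (iv5 F78431)
theorem F85070 : act 7 n53936 = n49249 := d14_2 (iv7 F78432) D53936 F77806 F37574 (iv6 F45398)
def n53937 : Q := act 3 n26078
theorem D53937 : act 3 n26078 = n53937 := rfl
theorem F85071 : act 5 n53937 = n49072 := d6_2 F41252 D53937 F77448
theorem F85072 : act 6 n53937 = n49649 := d7_2 F41251 D53937 F78413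
theorem F85073 : act 4 n53937 = n53243 := d20_6 (iv4 F78255) (iv1 F78445) F78443 (iv3 F78424) (iv1 F78427) D53937 (iv1 D53243) F40800 F20324 D25242
theorem F85074 : act 0 n53937 = n51107 := d21_4 (iv5 F46502) F46508 D49649 (iv6 F85072) (iv6 D51107) (iv5 D24873) F19389 D24239 (iv6 F39085) (iv1 F45712)
def n53938 : Q := act 4 n26078
theorem D53938 : act 4 n26078 = n53938 := rfl
theorem F85075 : act 6 n53938 = n29000 := d10_2 F41251 D53938 F46633
def n53939 : Q := act 2 n26080
theorem D53939 : act 2 n26080 = n53939 := rfl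
theorem F85076 : act 7 n26081 = n53939 := d15_2 (iv0 D26080) D26081 (iv2 D53939)
def n53940 : Q := act 3 n26080
theorem D53940 : act 3 n26080 = n53940 := rfl
theorem F85077 : act 4 n53940 = n30692 := d20_6 F11226 F8712 D5884 D12364 D26080 D53940 (iv1 D30692) F24190 (iv3 D6965) D6963
def n53941 : Q := act 4 n26080
theorem D53941 : act 4 n26080 = n53941 := rfl
def n53942 : Q := act 5 n26080
theorem D53942 : act 5 n26080 = n53942 := rfl
def n53943 : Q := act 6 n26080
theorem D53943 : act 6 n26080 = n53943 := rfl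
def n53944 : Q := act 7 n26080
theorem D53944 : act 7 n26080 = n53944 := rfl
theorem F85078 : act 2 n53944 = n26081 := d4_1 D53944 F85076 (iv2 D53939)
def n53945 : Q := act 3 n26081
theorem D53945 : act 3 n26081 = n53945 := rfl
def n53946 : Q := act 4 n26081
theorem D53946 : act 4 n26081 = n53946 := rfl
def n53947 : Q := act 5 n26081
theorem D53947 : act 5 n26081 = n53947 := rfl
def n53948 : Q := act 6 n26081
theorem D53948 : act 6 n26081 = n53948 := rfl
def n53949 : Q := act 6 n26082
theorem D53949 : act 6 n26082 = n53949 := rfl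
theorem F85079 : act 2 n53949 = n26083 := d3_1 D53949 (iv6 D26083) D26082
theorem F85080 : act 3 n53949 = n31758 := d7_1 D53949 (iv6 D31758) (iv3 F41256)
def n53950 : Q := act 0 n26083
theorem D53950 : act 0 n26083 = n53950 := rfl
def n53951 : Q := act 1 n26083
theorem D53951 : act 1 n26083 = n53951 := rfl
def n53952 : Q := act 5 n26083
theorem D53952 : act 5 n26083 = n53952 := rfl
theorem F85081 : act 3 n53952 = n26086 := d6_1 D53952 (iv5 D26086) (iv3 F41261)
def n53953 : Q := act 7 n26083
theorem D53953 : act 7 n26083 = n53953 := rfl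
theorem F85082 : act 3 n53953 = n26087 := d8_1 D53953 (iv7 D26087) (iv3 F41261)
theorem F85083 : act 6 n53953 = n31460 := d14_1 D53953 (iv7 D31460) (iv6 D14826) (iv7 F20546) D26083
def n53954 : Q := act 0 n26086
theorem D53954 : act 0 n26086 = n53954 := rfl
def n53955 : Q := act 1 n26086
theorem D53955 : act 1 n26086 = n53955 := rfl
theorem F85084 : act 1 n53955 = n31766 := d15_1 D53955 (iv7 D31766) (iv2 F41263)
theorem F85085 : act 5 n31118 = n53955 := d21_6 (iv5 F24379) (iv1 F24381) (iv5 D7024) D7025 (iv1 F53796) D31118 (iv1 D53955) (iv5 D26086) (iv6 D12365) (iv1 F20358)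
theorem F85086 : act 2 n53955 = n31764 := d2_1 F85085 (iv5 F84631) F84629
def n53956 : Q := act 4 n26086
theorem D53956 : act 4 n26086 = n53956 := rfl
theorem F85087 : act 2 n53956 = n31765 := d1_1 D53956 (iv4 D31765) (iv2 F41263)
def n53957 : Q := act 7 n26086
theorem D53957 : act 7 n26086 = n53957 := rfl
theorem F85088 : act 2 n53957 = n31766 := d4_1 D53957 (iv7 D31766) (iv2 F41263)
theorem F85089 : act 5 n53957 = n26087 := d13_1 D53957 (iv7 D26087) D26086
theorem F85090 : act 1 n31766 = n53954 := d15_0 (iv0 D53954) D53957 F85088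
theorem F85091 : act 1 n31764 = n53957 := d15_1 D31764 (iv7 D53957) F41263
theorem F85092 : act 7 n53954 = n31764 := d15_2 F85084 F85090 (iv2 F85086)
theorem F85093 : act 2 n53954 = n31763 := d15_3 (iv0 D31763) D31764 (iv7 F85092)
theorem F85094 : act 7 n31763 = n53955 := d4_2 (iv7 F85092) F85093 F85086
theorem F85095 : act 1 n53957 = n31763 := d15_1 F85091 F85094 F85086
def n53958 : Q := act 0 n26088
theorem D53958 : act 0 n26088 = n53958 := rfl
theorem F85096 : act 1 n28258 = n53958 := d15_0 (iv0 D53958) F41270 (iv2 F45765)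
theorem F85097 : act 7 n53958 = n28213 := d15_2 D28258 F85096 F45650
theorem F85098 : act 5 n51935 = n53958 := d21_6 (iv5 D11989) (iv1 D5660) D5662 D11995 D25267 F82017 (iv1 F85096) (iv5 F45764) (iv6 D28119) (iv1 F22324)
theorem F85099 : act 2 n53958 = n28259 := d2_1 F85098 (iv5 F80461) (iv2 F81999)
theorem E8292 : n28257 = n26088 := ((c15_1 (iv0 D53958) (iv0 D28257) D28259 (iv2 F85099))).symm
theorem F85100 : act 1 n26088 = n13491 := (sb E8292 (iv0 D28257))
theorem F85101 : act 6 n28244 = n53958 := d14_5 F85097 (iv6 D28213) F22602 D13482 D28244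
def n53959 : Q := act 2 n26088
theorem D53959 : act 2 n26088 = n53959 := rfl
theorem F85102 : act 3 n53959 = n31769 := d0_2 D26088 D53959 (iv2 D31769) (iv3 D14944) (iv2 F20558)
theorem F85103 : act 7 n53959 = n28258 := d4_2 (iv7 F41270) D53959 F45765
theorem F85104 : act 1 n53959 = n28213 := d15_0 (iv0 F45652) (iv7 F41270) D53959
theorem F85105 : act 1 n28259 = n53959 := d15_0 F85104 (iv7 F85097) F85099
def n53960 : Q := act 4 n26088
theorem D53960 : act 4 n26088 = n53960 := rfl
theorem F85106 : act 7 n53960 = n31775 := d11_2 (iv7 F41270) D53960 (iv4 D31775)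
theorem F85107 : act 0 n30350 = n53960 := d20_1 (iv4 F48781) (iv4 D53960) (iv3 D26088) (iv1 F20555) (iv3 F24595) (iv4 F50039) (iv1 F78261) (iv4 D49508) F53447 (iv1 D30352)
def n53961 : Q := act 6 n26088
theorem D53961 : act 6 n26088 = n53961 := rfl
theorem F85108 : act 3 n53961 = n26090 := d7_1 D53961 (iv6 D26090) D26088
theorem F85109 : act 5 n53961 = n28864 := d12_1 D53961 (iv6 F47063) F47062 (iv6 F45442) F45441
theorem F85110 : act 7 n53961 = n28863 := d14_2 (iv7 F41270) D53961 F46499 (iv7 F24508) (iv6 F24610)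
def n53962 : Q := act 4 n26091
theorem D53962 : act 4 n26091 = n53962 := rfl
theorem F85111 : act 6 n53962 = n49905 := d10_2 (iv6 F41277) D53962 (iv4 D49905)
theorem F85112 : act 7 n53962 = n31770 := d11_2 (iv7 F41278) D53962 (iv4 D31770)
theorem F85113 : act 0 n53962 = n49492 := d20_7 D49505 F78253 F50039 F24595 (iv1 F20549) D26091 D53962 F78244 F37872 D24164
def n53963 : Q := act 1 n26094
theorem D53963 : act 1 n26094 = n53963 := rfl
theorem F85114 : act 7 n53963 = n31590 := d15_2 (iv0 F82320) D53963 (iv2 F82317)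
theorem F85115 : act 4 n32347 = n53963 := d20_0 (iv1 D53963) F41283 F50406 F50655 (iv3 F55373) (iv4 D34967) F55371 F55367 F45911 (iv1 F51370)
theorem F85116 : act 3 n31547 = n53963 := d20_3 F20501 D14858 D31547 (iv1 D53963) (iv3 D26094) (iv4 F50411) D34978 F55388 (iv3 F49921) (iv1 D26047)
theorem F85117 : act 2 n53963 = n31568 := d0_1 F85116 (iv3 D31568) (iv2 F55533) F54263 (iv2 F55529)
theorem F85118 : act 6 n53963 = n50015 := d7_2 (iv6 F50951) F85116 (iv3 D50015)
theorem F85119 : act 1 n53963 = n31591 := d15_0 F82321 F82318 (iv2 F85117)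
def n53964 : Q := act 2 n26094
theorem D53964 : act 2 n26094 = n53964 := rfl
theorem F85120 : act 3 n53964 = n31613 := d0_2 D26094 D53964 (iv2 D31613) (iv3 D14875) (iv2 F50451)
theorem F85121 : act 4 n53964 = n28384 := d1_2 (iv4 F41283) D53964 (iv2 F50625)
theorem F85122 : act 6 n53964 = n26300 := d3_2 (iv6 F50408) D53964 (iv2 D26300)
theorem F85123 : act 7 n53964 = n31591 := d4_2 (iv7 F50457) D53964 (iv2 D31591)
theorem F85124 : act 1 n53964 = n31568 := d15_0 F55395 (iv7 F50457) D53964
theorem F85125 : act 1 n31590 = n53964 := d15_0 F85124 (iv7 F82318) F82317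
def n53965 : Q := act 2 n26099
theorem D53965 : act 2 n26099 = n53965 := rfl
theorem F85126 : act 3 n53965 = n31591 := d0_2 D26099 D53965 (iv2 D31591) (iv3 D14870) (iv2 F50454)
theorem F85127 : act 4 n53965 = n52484 := d1_2 F56604 D53965 F82860
theorem F85128 : act 7 n53965 = n31613 := d4_2 (iv7 F50477) D53965 (iv2 D31613)
theorem F85129 : act 1 n53965 = n31611 := d15_0 (iv0 D31611) (iv7 F50477) D53965
theorem F85130 : act 1 n31546 = n53965 := d15_0 F85129 F82785 F55378
def n53966 : Q := act 5 n26100
theorem D53966 : act 5 n26100 = n53966 := rfl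
theorem F85131 : act 2 n53966 = n31598 := d2_1 D53966 (iv5 D31598) (iv2 F50478)
theorem F85132 : act 3 n53966 = n26165 := d6_1 D53966 F50546 F41285
theorem F85133 : act 7 n53966 = n31617 := d13_2 (iv7 F50479) D53966 (iv5 D31617)
theorem F85134 : act 0 n53966 = n32067 := d17_2 (iv1 F55390) D53966 (iv5 D32067) F24777 D32087 F51017 (iv5 D31598) D31596 (iv4 F55388)
theorem F85135 : act 1 n53966 = n32108 := d17_6 (iv1 F20626) D26126 (iv1 F41386) F50419 D26100 D53966 (iv5 D32108) F24790 (iv4 D14979)
theorem F85136 : act 4 n31847 = n53966 := d18_7 F24796 (iv4 D14984) (iv1 D7131) F5224 D7133 D14991 D31847 F85135 (iv5 D32108)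
def n53967 : Q := act 4 n26103
theorem D53967 : act 4 n26103 = n53967 := rfl
theorem F85137 : act 2 n53967 = n26106 := d1_1 D53967 (iv4 D26106) (iv2 F41286)
theorem F85138 : act 7 n53967 = n31625 := d11_2 (iv7 F41288) D53967 (iv4 D31625)
theorem F85139 : act 0 n53967 = n31640 := d18_2 (iv1 F41290) D53967 (iv4 F50515) (iv5 D31835) (iv4 D14984) F20628 F20624 F20626 (iv5 F50442)
theorem F85140 : act 1 n53967 = n31639 := d18_6 (iv1 D31596) (iv4 D14871) (iv1 F20565) F20563 D26103 D53967 F50631 F51084 F51082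
def n53968 : Q := act 6 n26103
theorem D53968 : act 6 n26103 = n53968 := rfl
theorem F85141 : act 2 n53968 = n26107 := d3_1 D53968 (iv6 D26107) (iv2 F41286)
theorem F85142 : act 3 n53968 = n31798 := d7_1 D53968 (iv6 D31798) (iv3 F41287)
def n53969 : Q := act 3 n26104
theorem D53969 : act 3 n26104 = n53969 := rfl
theorem F85143 : act 5 n53969 = n26121 := d6_2 (iv5 F50426) D53969 (iv3 D26121)
theorem F85144 : act 7 n53969 = n31630 := d8_2 (iv7 F50445) D53969 (iv3 D31630)
def n53970 : Q := act 4 n26104
theorem D53970 : act 4 n26104 = n53970 := rfl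
theorem F85145 : act 2 n53970 = n31636 := d1_1 D53970 (iv4 D31636) F50446
theorem F85146 : act 7 n53970 = n31631 := d11_2 (iv7 F50445) D53970 (iv4 D31631)
def n53971 : Q := act 6 n26104
theorem D53971 : act 6 n26104 = n53971 := rfl
theorem F85147 : act 2 n53971 = n31638 := d3_1 D53971 (iv6 D31638) F50446
theorem F85148 : act 5 n53971 = n26308 := d12_1 D53971 (iv6 D26308) F27194 (iv6 F41331) (iv5 F50426)
def n53972 : Q := act 3 n26105
theorem D53972 : act 3 n26105 = n53972 := rfl
theorem F85149 : act 5 n53972 = n26123 := d6_2 (iv5 F50429) D53972 (iv3 D26123)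
theorem F85150 : act 7 n53972 = n31635 := d8_2 F50447 D53972 (iv3 D31635)
theorem F85151 : act 0 n28450 = n53972 := d21_1 F84929 F85149 (iv6 F52475) F52478 (iv6 D23888) D23887 (iv1 F51494) (iv5 D32436) (iv6 F50617) (iv1 F84935)
def n53973 : Q := act 4 n26105
theorem D53973 : act 4 n26105 = n53973 := rfl
theorem F85152 : act 2 n53973 = n31631 := d1_1 D53973 (iv4 D31631) (iv2 F50443)
theorem F85153 : act 7 n53973 = n31636 := d11_2 F50447 D53973 (iv4 D31636)
def n53974 : Q := act 6 n26105
theorem D53974 : act 6 n26105 = n53974 := rfl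
theorem F85154 : act 2 n53974 = n31633 := d3_1 D53974 (iv6 D31633) (iv2 F50443)
def n53975 : Q := act 0 n26106
theorem D53975 : act 0 n26106 = n53975 := rfl
theorem F85155 : act 4 n53975 = n32107 := d18_3 (iv1 D26105) D26106 D53975 (iv5 D32107) F24765 (iv0 D12390) F9128 D12391 (iv5 F50429)
theorem F85156 : act 1 n31625 = n53975 := d15_0 (iv0 D53975) F41293 (iv2 F49938)
theorem F85157 : act 2 n31640 = n53975 := d1_3 F85155 F51047 F50515
theorem F85158 : act 7 n31639 = n53975 := d11_0 F85155 F51048 (iv4 F50631)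
def n53976 : Q := act 1 n26106
theorem D53976 : act 1 n26106 = n53976 := rfl
theorem F85159 : act 1 n53976 = n31625 := d15_1 D53976 (iv7 F85138) F85137
theorem F85160 : act 7 n53976 = n31640 := d15_2 (iv0 D53975) D53976 F85157
theorem F85161 : act 4 n31923 = n53976 := d20_6 D6459 F11254 F11252 D7209 F50537 (iv3 F50240) (iv1 D53976) (iv4 D26106) F20568 F9104
theorem F85162 : act 2 n53976 = n31639 := d1_1 F85161 F50631 (iv2 F50239)
def n53977 : Q := act 5 n26106
theorem D53977 : act 5 n26106 = n53977 := rfl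
theorem F85163 : act 7 n53977 = n31641 := d13_2 (iv7 F41293) D53977 (iv5 D31641)
def n53978 : Q := act 6 n26106
theorem D53978 : act 6 n26106 = n53978 := rfl
theorem F85164 : act 4 n53978 = n26107 := d10_1 D53978 (iv6 D26107) D26106
def n53979 : Q := act 0 n26107
theorem D53979 : act 0 n26107 = n53979 := rfl
def n53980 : Q := act 1 n26107
theorem D53980 : act 1 n26107 = n53980 := rfl
def n53981 : Q := act 7 n26107
theorem D53981 : act 7 n26107 = n53981 := rfl
theorem F85165 : act 3 n53981 = n26110 := d8_1 D53981 (iv7 D26110) (iv3 F41294)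
theorem F85166 : act 6 n53981 = n31646 := d14_1 D53981 (iv7 D31646) (iv6 D14884) (iv7 F20569) D26107
def n53982 : Q := act 2 n26108
theorem D53982 : act 2 n26108 = n53982 := rfl
theorem F85167 : act 7 n26109 = n53982 := d15_2 (iv0 D26108) D26109 (iv2 D53982)
def n53983 : Q := act 3 n26108
theorem D53983 : act 3 n26108 = n53983 := rfl
def n53984 : Q := act 4 n26108
theorem D53984 : act 4 n26108 = n53984 := rfl
def n53985 : Q := act 5 n26108
theorem D53985 : act 5 n26108 = n53985 := rfl
def n53986 : Q := act 6 n26108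
theorem D53986 : act 6 n26108 = n53986 := rfl
theorem F85168 : act 5 n53986 = n31912 := d21_6 F11456 F8725 D5887 D12373 D26108 D53986 (iv1 D31912) (iv5 D15051) (iv6 D7158) (iv1 F11454)
def n53987 : Q := act 7 n26108
theorem D53987 : act 7 n26108 = n53987 := rfl
theorem F85169 : act 2 n53987 = n26109 := d4_1 D53987 F85167 (iv2 D53982)
def n53988 : Q := act 3 n26109
theorem D53988 : act 3 n26109 = n53988 := rfl
def n53989 : Q := act 4 n26109
theorem D53989 : act 4 n26109 = n53989 := rfl
def n53990 : Q := act 5 n26109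
theorem D53990 : act 5 n26109 = n53990 := rfl
theorem F85170 : act 6 n29735 = n53990 := d21_5 (iv5 D14116) F26448 D6714 D14134 D29735 (iv5 D53990) (iv1 D26109) (iv5 F27078) (iv6 D16594) (iv1 F23599)
def n53991 : Q := act 6 n26109
theorem D53991 : act 6 n26109 = n53991 := rfl
def n53992 : Q := act 6 n26113
theorem D53992 : act 6 n26113 = n53992 := rfl
theorem F85171 : act 2 n53992 = n31880 := d3_1 D53992 F50184 (iv2 F41307)
theorem F85172 : act 4 n53992 = n26114 := d10_1 D53992 (iv6 D26114) D26113
def n53993 : Q := act 0 n26114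
theorem D53993 : act 0 n26114 = n53993 := rfl
def n53994 : Q := act 1 n26114
theorem D53994 : act 1 n26114 = n53994 := rfl
theorem F85173 : act 1 n53994 = n31881 := d15_1 D53994 (iv7 D31881) (iv2 F41310)
theorem F85174 : act 5 n31665 = n53994 := d21_6 (iv5 D7079) (iv1 D3230) D3232 D7085 D14889 D31665 (iv1 D53994) F41312 (iv6 D12383) (iv1 F11332)
def n53995 : Q := act 7 n26114
theorem D53995 : act 7 n26114 = n53995 := rfl
theorem F85175 : act 2 n53995 = n31881 := d4_1 D53995 (iv7 D31881) (iv2 F41310)
theorem F85176 : act 3 n53995 = n26117 := d8_1 D53995 (iv7 D26117) (iv3 F41311)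
theorem F85177 : act 5 n53995 = n26117 := d13_1 D53995 (iv7 D26117) (iv5 F41312)
theorem F85178 : act 6 n53995 = n31899 := d14_1 D53995 (iv7 D31899) (iv6 D15044) (iv7 F20592) D26114
theorem F85179 : act 1 n31881 = n53993 := d15_0 (iv0 D53993) D53995 F85175
theorem F85180 : act 1 n31879 = n53995 := d15_1 D31879 (iv7 D53995) F41310
theorem F85181 : act 1 n53995 = n31878 := d15_0 (iv0 D31878) D31881 (iv2 F85175)
def n53996 : Q := act 2 n26115
theorem D53996 : act 2 n26115 = n53996 := rfl
theorem F85182 : act 7 n26116 = n53996 := d15_2 (iv0 D26115) D26116 (iv2 D53996)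
def n53997 : Q := act 3 n26115
theorem D53997 : act 3 n26115 = n53997 := rfl
def n53998 : Q := act 4 n26115
theorem D53998 : act 4 n26115 = n53998 := rfl
def n53999 : Q := act 5 n26115
theorem D53999 : act 5 n26115 = n53999 := rfl
def n54000 : Q := act 6 n26115
theorem D54000 : act 6 n26115 = n54000 := rfl
theorem F85183 : act 5 n54000 = n34277 := d21_6 (iv5 D2876) (iv1 F5276) D5892 D12383 D26115 D54000 (iv1 D34277) F27078 (iv6 D12373) F9104
theorem F85184 : act 0 n28681 = n54000 := d21_10 F85183 (iv1 D34277) F27078 (iv6 D12373) F9104 D6460 F10529 D6494 D13668 D28681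
def n54001 : Q := act 7 n26115
theorem D54001 : act 7 n26115 = n54001 := rfl
theorem F85185 : act 2 n54001 = n26116 := d4_1 D54001 F85182 (iv2 D53996)
def n54002 : Q := act 3 n26116
theorem D54002 : act 3 n26116 = n54002 := rfl
def n54003 : Q := act 4 n26116
theorem D54003 : act 4 n26116 = n54003 := rfl
def n54004 : Q := act 5 n26116
theorem D54004 : act 5 n26116 = n54004 := rfl
def n54005 : Q := act 6 n26116
theorem D54005 : act 6 n26116 = n54005 := rfl
def n54006 : Q := act 6 n26118
theorem D54006 : act 6 n26118 = n54006 := rfl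
theorem F85186 : act 2 n54006 = n31892 := d3_1 D54006 (iv6 D31892) (iv2 F41319)
theorem F85187 : act 5 n54006 = n26376 := d12_1 D54006 (iv6 D26376) (iv5 D12580) (iv6 F20612) D26118
def n54007 : Q := act 6 n26119
theorem D54007 : act 6 n26119 = n54007 := rfl
theorem F85188 : act 2 n54007 = n31894 := d3_1 D54007 (iv6 D31894) (iv2 F41323)
theorem F85189 : act 3 n54007 = n32011 := d7_1 D54007 (iv6 D32011) (iv3 F41324)
theorem F85190 : act 5 n54007 = n27015 := d12_1 D54007 (iv6 D27015) F21495 (iv6 F20617) D26119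
def n54008 : Q := act 5 n26125
theorem D54008 : act 5 n26125 = n54008 := rfl
theorem F85191 : act 2 n54008 = n26340 := d2_1 D54008 (iv5 D26340) (iv2 F41379)
theorem F85192 : act 7 n54008 = n26328 := d13_2 (iv7 F41380) D54008 (iv5 D26328)
theorem F85193 : act 0 n54008 = n28701 := d21_1 D54008 F46269 (iv6 D14880) (iv1 F20566) (iv6 F50433) F50432 (iv1 F46910) F23174 (iv6 F20924) (iv1 F41382)
theorem F85194 : act 0 n31660 = n54008 := d21_1 (iv5 F49951) (iv5 D54008) (iv6 D26125) (iv1 D12391) D12394 D26132 F51558 (iv5 D32470) (iv6 F50642) (iv1 F49940)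
def n54009 : Q := act 4 n26126
theorem D54009 : act 4 n26126 = n54009 := rfl
theorem F85195 : act 2 n54009 = n26129 := d1_1 D54009 (iv4 D26129) (iv2 F41383)
theorem F85196 : act 7 n54009 = n31838 := d11_2 (iv7 F41385) D54009 (iv4 D31838)
theorem F85197 : act 0 n54009 = n31847 := d18_2 (iv1 F41389) D54009 F85136 (iv5 D53966) (iv4 D26100) F20566 F11333 F20561 (iv5 F50412)
theorem F85198 : act 1 n54009 = n31846 := d18_6 (iv1 F24795) (iv4 D14979) (iv1 F20626) F20624 D26126 D54009 (iv4 F55402) F55401 (iv5 D32067)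
def n54010 : Q := act 6 n26126
theorem D54010 : act 6 n26126 = n54010 := rfl
theorem F85199 : act 2 n54010 = n26130 := d3_1 D54010 (iv6 D26130) (iv2 F41383)
theorem F85200 : act 3 n54010 = n31890 := d7_1 D54010 (iv6 D31890) (iv3 F41384)
def n54011 : Q := act 0 n26129
theorem D54011 : act 0 n26129 = n54011 := rfl
theorem F85201 : act 4 n54011 = n31598 := d18_3 (iv1 F50472) D26129 D54011 (iv5 D31598) (iv4 D14871) (iv0 D7080) F5177 D7081 D14877
theorem F85202 : act 1 n31838 = n54011 := d15_0 (iv0 D54011) F41397 (iv2 F50135)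
theorem F85203 : act 2 n31847 = n54011 := d1_3 F85201 (iv2 F85131) (iv4 F85136)
theorem F85204 : act 7 n31846 = n54011 := d11_0 F85201 (iv7 F55399) F55402
def n54012 : Q := act 1 n26129
theorem D54012 : act 1 n26129 = n54012 := rfl
theorem F85205 : act 1 n54012 = n31838 := d15_1 D54012 (iv7 F85196) F85195
theorem F85206 : act 7 n54012 = n31847 := d15_2 (iv0 D54011) D54012 F85203
theorem F85207 : act 4 n54012 = n31617 := d18_7 F24755 F24693 (iv1 D12391) F9128 D12393 D26129 D54012 (iv0 F50729) (iv5 D32087)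
theorem F85208 : act 2 n31846 = n54012 := d1_3 F85207 (iv2 F55397) F55402
def n54013 : Q := act 5 n26129
theorem D54013 : act 5 n26129 = n54013 := rfl
theorem F85209 : act 7 n54013 = n31848 := d13_2 (iv7 F41397) D54013 (iv5 D31848)
def n54014 : Q := act 6 n26129
theorem D54014 : act 6 n26129 = n54014 := rfl
theorem F85210 : act 4 n54014 = n26130 := d10_1 D54014 (iv6 D26130) D26129
def n54015 : Q := act 0 n26130
theorem D54015 : act 0 n26130 = n54015 := rfl
def n54016 : Q := act 1 n26130
theorem D54016 : act 1 n26130 = n54016 := rfl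
def n54017 : Q := act 5 n26130
theorem D54017 : act 5 n26130 = n54017 := rfl
theorem F85211 : act 3 n54017 = n26135 := d6_1 D54017 (iv5 D26135) (iv3 F41398)
theorem F85212 : act 6 n54017 = n26132 := d12_2 D26130 D54017 (iv5 D26132) (iv6 D12394) D12393
theorem F85213 : act 4 n45077 = n54017 := d10_3 F85212 (iv4 F41403) D45077
def n54018 : Q := act 7 n26130
theorem D54018 : act 7 n26130 = n54018 := rfl
theorem F85214 : act 3 n54018 = n26136 := d8_1 D54018 (iv7 D26136) (iv3 F41398)
theorem F85215 : act 6 n54018 = n31852 := d14_1 D54018 (iv7 D31852) (iv6 D14992) (iv7 F20630) D26130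
def n54019 : Q := act 3 n26131
theorem D54019 : act 3 n26131 = n54019 := rfl
theorem F85216 : act 4 n54019 = n42348 := d5_2 F54356 D54019 F65400 F52353 (iv3 F54355)
theorem F85217 : act 5 n54019 = n32514 := d6_2 (iv5 F41399) D54019 (iv3 D32514)
theorem F85218 : act 6 n54019 = n28517 := d7_2 F50567 D54019 F54056
theorem F85219 : act 7 n54019 = n29219 := d8_2 (iv7 F50566) D54019 F46872
def n54020 : Q := act 3 n26133
theorem D54020 : act 3 n26133 = n54020 := rfl
theorem F85220 : act 7 n54020 = n31907 := d8_2 (iv7 F77380) D54020 (iv3 D31907)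
def n54021 : Q := act 4 n26133
theorem D54021 : act 4 n26133 = n54021 := rfl
theorem F85221 : act 2 n54021 = n31903 := d1_1 D54021 (iv4 D31903) (iv2 F77379)
theorem F85222 : act 7 n54021 = n31908 := d11_2 (iv7 F77380) D54021 (iv4 D31908)
def n54022 : Q := act 5 n26133
theorem D54022 : act 5 n26133 = n54022 := rfl
theorem F85223 : act 2 n54022 = n31904 := d2_1 D54022 (iv5 D31904) (iv2 F77379)
theorem F85224 : act 7 n54022 = n31909 := d13_2 (iv7 F77380) D54022 (iv5 D31909)
def n54023 : Q := act 6 n26133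
theorem D54023 : act 6 n26133 = n54023 := rfl
theorem F85225 : act 2 n54023 = n31905 := d3_1 D54023 (iv6 D31905) (iv2 F77379)
theorem F85226 : act 5 n54023 = n53899 := d21_6 F18149 (iv1 F7638) D5898 D12395 D26133 D54023 (iv1 D53899) (iv5 D26059) (iv6 D12352) (iv1 F18151)
def n54024 : Q := act 3 n26134
theorem D54024 : act 3 n26134 = n54024 := rfl
theorem F85227 : act 7 n54024 = n31902 := d8_2 (iv7 F77378) D54024 (iv3 D31902)
def n54025 : Q := act 4 n26134
theorem D54025 : act 4 n26134 = n54025 := rfl
theorem F85228 : act 2 n54025 = n31908 := d1_1 D54025 (iv4 D31908) (iv2 F77377)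
theorem F85229 : act 7 n54025 = n31903 := d11_2 (iv7 F77378) D54025 (iv4 D31903)
def n54026 : Q := act 5 n26134
theorem D54026 : act 5 n26134 = n54026 := rfl
theorem F85230 : act 2 n54026 = n31909 := d2_1 D54026 (iv5 D31909) (iv2 F77377)
theorem F85231 : act 6 n54026 = n26270 := d12_2 F77376 D54026 (iv5 F52077) (iv6 F57691) (iv5 F77374)
theorem F85232 : act 7 n54026 = n31904 := d13_2 (iv7 F77378) D54026 (iv5 D31904)
def n54027 : Q := act 0 n26135
theorem D54027 : act 0 n26135 = n54027 := rfl
def n54028 : Q := act 1 n26135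
theorem D54028 : act 1 n26135 = n54028 := rfl
theorem F85233 : act 1 n54028 = n31914 := d15_1 D54028 (iv7 D31914) (iv2 F41405)
theorem F85234 : act 5 n31816 = n54028 := d21_6 (iv5 D7077) (iv1 F5026) D3276 D7128 D14973 D31816 (iv1 D54028) (iv5 D26135) (iv6 D12395) (iv1 F11330)
def n54029 : Q := act 7 n26135
theorem D54029 : act 7 n26135 = n54029 := rfl
theorem F85235 : act 2 n54029 = n31914 := d4_1 D54029 (iv7 D31914) (iv2 F41405)
theorem F85236 : act 5 n54029 = n26136 := d13_1 D54029 (iv7 D26136) D26135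
theorem F85237 : act 1 n31914 = n54027 := d15_0 (iv0 D54027) D54029 F85235
theorem F85238 : act 1 n31912 = n54029 := d15_1 D31912 (iv7 D54029) F41405
theorem F85239 : act 1 n54029 = n31911 := d15_0 (iv0 D31911) D31914 (iv2 F85235)
def n54030 : Q := act 5 n26138
theorem D54030 : act 5 n26138 = n54030 := rfl
theorem F85240 : act 2 n54030 = n32013 := d2_1 D54030 (iv5 D32013) (iv2 F41417)
theorem F85241 : act 3 n54030 = n31891 := d6_1 D54030 (iv5 D31891) (iv3 F41418)
theorem F85242 : act 7 n54030 = n32009 := d13_2 (iv7 F41420) D54030 (iv5 D32009)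
def n54031 : Q := act 4 n26139
theorem D54031 : act 4 n26139 = n54031 := rfl
theorem F85243 : act 2 n54031 = n32014 := d1_1 D54031 (iv4 D32014) (iv2 F41421)
theorem F85244 : act 7 n54031 = n32010 := d11_2 (iv7 F41423) D54031 (iv4 D32010)
def n54032 : Q := act 6 n26139
theorem D54032 : act 6 n26139 = n54032 := rfl
theorem F85245 : act 2 n54032 = n32015 := d3_1 D54032 (iv6 D32015) (iv2 F41421)
theorem F85246 : act 3 n54032 = n31892 := d7_1 D54032 (iv6 D31892) (iv3 F41422)
theorem F85247 : act 5 n54032 = n32991 := d12_1 D54032 (iv6 D32991) (iv5 D15887) (iv6 F26959) D26139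
def n54033 : Q := act 5 n26140
theorem D54033 : act 5 n26140 = n54033 := rfl
theorem F85248 : act 2 n54033 = n32009 := d2_1 D54033 (iv5 D32009) (iv2 F41426)
theorem F85249 : act 7 n54033 = n32013 := d13_2 (iv7 F41428) D54033 (iv5 D32013)
def n54034 : Q := act 4 n26141
theorem D54034 : act 4 n26141 = n54034 := rfl
theorem F85250 : act 2 n54034 = n32010 := d1_1 D54034 (iv4 D32010) (iv2 F41429)
theorem F85251 : act 7 n54034 = n32014 := d11_2 (iv7 F41430) D54034 (iv4 D32014)
def n54035 : Q := act 6 n26141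
theorem D54035 : act 6 n26141 = n54035 := rfl
theorem F85252 : act 2 n54035 = n32011 := d3_1 D54035 (iv6 D32011) (iv2 F41429)
theorem F85253 : act 5 n54035 = n26382 := d12_1 D54035 (iv6 D26382) (iv5 D12589) (iv6 F26957) D26141
def n54036 : Q := act 4 n26142
theorem D54036 : act 4 n26142 = n54036 := rfl
theorem F85254 : act 2 n54036 = n26144 := d1_1 D54036 (iv4 D26144) (iv2 F41433)
theorem F85255 : act 7 n54036 = n32017 := d11_2 (iv7 F41435) D54036 (iv4 D32017)
theorem F85256 : act 0 n54036 = n32036 := d18_2 (iv1 F41439) D54036 (iv4 F50665) (iv5 F50407) F41283 F45897 F45894 F26895 F41442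
theorem F85257 : act 1 n54036 = n32035 := d15_0 (iv0 D32035) (iv7 F41447) (iv2 F85254)
def n54037 : Q := act 6 n26142
theorem D54037 : act 6 n26142 = n54037 := rfl
theorem F85258 : act 2 n54037 = n26145 := d3_1 D54037 (iv6 D26145) (iv2 F41433)
theorem F85259 : act 3 n54037 = n31941 := d7_1 D54037 (iv6 D31941) (iv3 F41434)
theorem F85260 : act 5 n54037 = n26190 := d12_1 D54037 (iv6 D26190) (iv5 D12420) (iv6 F26905) D26142
def n54038 : Q := act 4 n26143
theorem D54038 : act 4 n26143 = n54038 := rfl
theorem F85261 : act 2 n54038 = n32030 := d1_1 D54038 (iv4 D32030) F41445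
theorem F85262 : act 7 n54038 = n32033 := d11_2 (iv7 F41444) D54038 (iv4 D32033)
def n54039 : Q := act 6 n26143
theorem D54039 : act 6 n26143 = n54039 := rfl
theorem F85263 : act 2 n54039 = n32031 := d3_1 D54039 (iv6 D32031) F41445
def n54040 : Q := act 0 n26144
theorem D54040 : act 0 n26144 = n54040 := rfl
theorem F85264 : act 1 n32017 = n54040 := d15_0 (iv0 D54040) F41447 (iv2 F50383)
def n54041 : Q := act 1 n26144
theorem D54041 : act 1 n26144 = n54041 := rfl
theorem F85265 : act 1 n54041 = n32017 := d15_1 D54041 (iv7 F85255) F85254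
theorem F85266 : act 4 n31592 = n54041 := d20_6 (iv4 F24222) F24223 F20451 (iv3 F20629) F50471 (iv3 F49913) (iv1 D54041) (iv4 D26144) F20657 (iv1 F11328)
theorem F85267 : act 7 n54041 = n32036 := d11_2 (iv7 F50619) F85266 (iv4 F50665)
theorem F85268 : act 2 n32036 = n54040 := d15_3 (iv0 D54040) D54041 F85267
theorem F85269 : act 2 n54041 = n32035 := d15_3 (iv0 D32035) D32036 (iv7 F85267)
theorem F85270 : act 7 n32035 = n54040 := d4_2 (iv7 F85267) F85269 (iv2 F85268)
def n54042 : Q := act 5 n26144
theorem D54042 : act 5 n26144 = n54042 := rfl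
theorem F85271 : act 7 n54042 = n32037 := d13_2 (iv7 F41447) D54042 (iv5 D32037)
def n54043 : Q := act 6 n26144
theorem D54043 : act 6 n26144 = n54043 := rfl
theorem F85272 : act 4 n54043 = n26145 := d10_1 D54043 (iv6 D26145) D26144
def n54044 : Q := act 0 n26145
theorem D54044 : act 0 n26145 = n54044 := rfl
def n54045 : Q := act 1 n26145
theorem D54045 : act 1 n26145 = n54045 := rfl
def n54046 : Q := act 5 n26145
theorem D54046 : act 5 n26145 = n54046 := rfl
theorem F85273 : act 2 n54046 = n26190 := d2_1 D54046 (iv5 F85260) F85258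
theorem F85274 : act 3 n54046 = n26149 := d6_1 D54046 (iv5 D26149) (iv3 F41448)
theorem F85275 : act 6 n54046 = n26146 := d12_2 D26145 D54046 (iv5 D26146) (iv6 D12403) D12402
def n54047 : Q := act 7 n26145
theorem D54047 : act 7 n26145 = n54047 := rfl
theorem F85276 : act 3 n54047 = n26150 := d8_1 D54047 (iv7 D26150) (iv3 F41448)
theorem F85277 : act 6 n54047 = n32042 := d14_1 D54047 (iv7 D32042) (iv6 D15115) (iv7 F20658) D26145
def n54048 : Q := act 4 n26146
theorem D54048 : act 4 n26146 = n54048 := rfl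
theorem F85278 : act 2 n54048 = n26189 := d1_1 D54048 (iv4 D26189) (iv2 F41449)
theorem F85279 : act 7 n54048 = n26195 := d11_2 (iv7 F41451) D54048 (iv4 D26195)
def n54049 : Q := act 2 n26147
theorem D54049 : act 2 n26147 = n54049 := rfl
theorem F85280 : act 7 n26148 = n54049 := d15_2 (iv0 D26147) D26148 (iv2 D54049)
def n54050 : Q := act 3 n26147
theorem D54050 : act 3 n26147 = n54050 := rfl
def n54051 : Q := act 4 n26147
theorem D54051 : act 4 n26147 = n54051 := rfl
def n54052 : Q := act 5 n26147
theorem D54052 : act 5 n26147 = n54052 := rfl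
def n54053 : Q := act 6 n26147
theorem D54053 : act 6 n26147 = n54053 := rfl
theorem F85281 : act 5 n54053 = n34295 := d21_6 (iv5 D2498) D2495 D5903 D12404 D26147 D54053 (iv1 D34295) F27089 (iv6 D12439) (iv1 D5914)
theorem F85282 : act 0 n26663 = n54053 := d21_10 F85281 (iv1 D34295) F27089 (iv6 D12439) (iv1 D5914) D5916 F9170 D6023 D12737 D26663
def n54054 : Q := act 7 n26147
theorem D54054 : act 7 n26147 = n54054 := rfl
theorem F85283 : act 2 n54054 = n26148 := d4_1 D54054 F85280 (iv2 D54049)
def n54055 : Q := act 3 n26148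
theorem D54055 : act 3 n26148 = n54055 := rfl
def n54056 : Q := act 4 n26148
theorem D54056 : act 4 n26148 = n54056 := rfl
def n54057 : Q := act 5 n26148
theorem D54057 : act 5 n26148 = n54057 := rfl
def n54058 : Q := act 6 n26148
theorem D54058 : act 6 n26148 = n54058 := rfl
def n54059 : Q := act 0 n26149
theorem D54059 : act 0 n26149 = n54059 := rfl
def n54060 : Q := act 1 n26149
theorem D54060 : act 1 n26149 = n54060 := rfl
theorem F85284 : act 1 n54060 = n32000 := d15_1 D54060 (iv7 D32000) (iv2 F41455)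
theorem F85285 : act 5 n32230 = n54060 := d21_6 (iv5 D7075) F5025 (iv5 F5306) D7210 D15204 D32230 (iv1 D54060) (iv5 D26149) (iv6 D12404) (iv1 F11328)
def n54061 : Q := act 4 n26149
theorem D54061 : act 4 n26149 = n54061 := rfl
theorem F85286 : act 2 n54061 = n31999 := d1_1 D54061 (iv4 D31999) (iv2 F41455)
theorem F85287 : act 6 n54061 = n26151 := d10_2 (iv6 F41456) D54061 (iv4 D26151)
def n54062 : Q := act 7 n26149
theorem D54062 : act 7 n26149 = n54062 := rfl
theorem F85288 : act 2 n54062 = n32000 := d4_1 D54062 (iv7 D32000) (iv2 F41455)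
theorem F85289 : act 5 n54062 = n26150 := d13_1 D54062 (iv7 D26150) D26149
theorem F85290 : act 1 n32000 = n54059 := d15_0 (iv0 D54059) D54062 F85288
theorem F85291 : act 1 n31998 = n54062 := d15_1 D31998 (iv7 D54062) F41455
theorem F85292 : act 5 n32322 = n54059 := d21_0 (iv1 F85290) F50366 (iv6 F41524) (iv1 F41526) (iv6 F51223) F51222 (iv1 F51225) (iv5 D15233) D15234 D32322
theorem F85293 : act 1 n54062 = n31997 := d15_0 (iv0 D31997) D32000 (iv2 F85288)
def n54063 : Q := act 3 n26151
theorem D54063 : act 3 n26151 = n54063 := rfl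
def n54064 : Q := act 5 n26152
theorem D54064 : act 5 n26152 = n54064 := rfl
theorem F85294 : act 2 n54064 = n31935 := d2_1 D54064 (iv5 D31935) (iv2 F41464)
theorem F85295 : act 7 n54064 = n31926 := d13_2 (iv7 F41466) D54064 (iv5 D31926)
def n54065 : Q := act 4 n26153
theorem D54065 : act 4 n26153 = n54065 := rfl
theorem F85296 : act 2 n54065 = n31936 := d1_1 D54065 (iv4 D31936) (iv2 F41467)
theorem F85297 : act 7 n54065 = n31930 := d11_2 (iv7 F41468) D54065 (iv4 D31930)
def n54066 : Q := act 6 n26153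
theorem D54066 : act 6 n26153 = n54066 := rfl
theorem F85298 : act 2 n54066 = n31937 := d3_1 D54066 (iv6 D31937) (iv2 F41467)
theorem F85299 : act 5 n54066 = n26422 := d12_1 D54066 (iv6 D26422) (iv5 D12609) (iv6 F41357) D26153
def n54067 : Q := act 5 n26154
theorem D54067 : act 5 n26154 = n54067 := rfl
theorem F85300 : act 2 n54067 = n31972 := d2_1 D54067 (iv5 D31972) (iv2 F41469)
theorem F85301 : act 3 n54067 = n26156 := d6_1 D54067 (iv5 D26156) D26154
theorem F85302 : act 7 n54067 = n31934 := d13_2 (iv7 F41470) D54067 (iv5 D31934)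
theorem F85303 : act 0 n54067 = n32371 := d21_1 D54067 (iv5 D32371) F24858 (iv1 F50548) (iv6 D28367) (iv5 F50546) (iv1 F41512) (iv5 D15070) (iv6 F26904) (iv1 F41545)
theorem F85304 : act 0 n26203 = n54067 := d21_1 F50654 (iv5 D54067) F42231 (iv1 D12628) (iv6 D5994) D5993 (iv1 F27839) (iv5 D7932) D7933 D16984
theorem F85305 : act 1 n34402 = n31934 := d15_1 (iv0 F54567) (iv7 F85302) F85300
theorem F85306 : act 5 n48695 = n31573 := d17_3 (iv1 D23746) D23748 D48695 F49900 D34402 F85305 (iv5 D31934) F41559 F41558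
theorem F85307 : act 3 n32354 = n48695 := d6_3 F85306 F49899 D32354
def n54068 : Q := act 5 n26155
theorem D54068 : act 5 n26155 = n54068 := rfl
theorem F85308 : act 2 n54068 = n31926 := d2_1 D54068 (iv5 D31926) (iv2 F41473)
theorem F85309 : act 7 n54068 = n31935 := d13_2 (iv7 F41474) D54068 (iv5 D31935)
def n54069 : Q := act 4 n26156
theorem D54069 : act 4 n26156 = n54069 := rfl
theorem F85310 : act 2 n54069 = n31930 := d1_1 D54069 (iv4 D31930) (iv2 F41475)
theorem F85311 : act 7 n54069 = n31936 := d11_2 (iv7 F41476) D54069 (iv4 D31936)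
def n54070 : Q := act 6 n26156
theorem D54070 : act 6 n26156 = n54070 := rfl
theorem F85312 : act 2 n54070 = n31931 := d3_1 D54070 (iv6 D31931) (iv2 F41475)
def n54071 : Q := act 5 n26157
theorem D54071 : act 5 n26157 = n54071 := rfl
theorem F85313 : act 2 n54071 = n31932 := d2_1 D54071 (iv5 D31932) (iv2 F41477)
theorem F85314 : act 3 n54071 = n26460 := d6_1 D54071 (iv5 D26460) (iv3 F42230)
theorem F85315 : act 7 n54071 = n26432 := d13_2 (iv7 F41478) D54071 (iv5 D26432)
theorem F85316 : act 0 n54071 = n26690 := d21_1 D54071 F54572 (iv6 D34403) F50524 (iv6 F50503) D34285 (iv1 F55576) (iv5 F55578) F38069 (iv1 F41480)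
theorem F85317 : act 1 n54071 = n33014 := d15_0 (iv0 D33014) (iv7 F50258) (iv2 F85313)
def n54072 : Q := act 5 n26158
theorem D54072 : act 5 n26158 = n54072 := rfl
theorem F85318 : act 2 n54072 = n26163 := d2_1 D54072 (iv5 D26163) (iv2 F41481)
theorem F85319 : act 3 n54072 = n42373 := d6_1 D54072 (iv5 D42373) (iv3 F41482)
theorem F85320 : act 6 n54072 = n42369 := d12_2 F41485 D54072 (iv5 D42369) (iv6 D20006) D20005
theorem F85321 : act 7 n54072 = n31939 := d13_2 (iv7 F41483) D54072 (iv5 D31939)
theorem F85322 : act 1 n54072 = n31947 := d17_6 D23834 F50467 (iv1 F41491) (iv5 D26159) D26158 D54072 F55188 (iv0 F55189) F37162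
theorem F85323 : act 1 n31948 = n54072 := d15_1 D31948 F85321 F50266
def n54073 : Q := act 4 n26159
theorem D54073 : act 4 n26159 = n54073 := rfl
theorem F85324 : act 2 n54073 = n26167 := d1_1 D54073 (iv4 D26167) (iv2 F41487)
theorem F85325 : act 7 n54073 = n31940 := d11_2 (iv7 F41489) D54073 (iv4 D31940)
theorem F85326 : act 0 n54073 = n31964 := d18_2 (iv1 F41491) D54073 (iv4 F50319) F50186 (iv4 F55208) F55212 F45855 F37166 F50467
theorem F85327 : act 1 n54073 = n31963 := d18_6 F50927 (iv4 D31942) (iv1 F41486) (iv4 D26158) D26159 D54073 (iv4 F55364) (iv0 F77071) (iv5 D48896)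
def n54074 : Q := act 6 n26159
theorem D54074 : act 6 n26159 = n54074 := rfl
theorem F85328 : act 2 n54074 = n26168 := d3_1 D54074 (iv6 D26168) (iv2 F41487)
theorem F85329 : act 3 n54074 = n32018 := d7_1 D54074 (iv6 D32018) (iv3 F41488)
def n54075 : Q := act 5 n26161
theorem D54075 : act 5 n26161 = n54075 := rfl
theorem F85330 : act 2 n54075 = n31946 := d2_1 D54075 (iv5 D31946) (iv2 F41499)
theorem F85331 : act 3 n54075 = n54033 := d6_1 D54075 (iv5 D54033) (iv3 F41495)
theorem F85332 : act 7 n54075 = n31943 := d13_2 F41498 D54075 (iv5 D31943)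
theorem F85333 : act 0 n54075 = n52583 := d17_2 D26161 D54075 F83100 F45855 (iv5 F24819) (iv0 F50511) (iv5 D26153) (iv0 D12407) D12410
theorem F85334 : act 0 n48702 = n54075 := d21_1 (iv5 F76641) (iv5 D54075) (iv6 F41497) (iv1 F21013) D15929 D33033 (iv1 F78520) F78518 (iv6 F55210) (iv1 F55211)
def n54076 : Q := act 5 n26162
theorem D54076 : act 5 n26162 = n54076 := rfl
theorem F85335 : act 2 n54076 = n31943 := d2_1 D54076 (iv5 D31943) (iv2 F41505)
theorem F85336 : act 3 n54076 = n52512 := d6_1 D54076 (iv5 D52512) F41502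
theorem F85337 : act 7 n54076 = n31946 := d13_2 (iv7 F41501) D54076 (iv5 D31946)
theorem F85338 : act 0 n54076 = n48702 := d17_2 (iv1 F41500) D54076 F76641 F37162 (iv5 F20705) (iv0 F50513) (iv5 D26156) F20672 D15069
theorem F85339 : act 0 n52583 = n54076 := d21_1 (iv5 F83100) (iv5 D54076) F41504 F42762 F42760 (iv5 F51468) (iv1 F55184) (iv5 D34888) D34889 (iv1 F55190)
def n54077 : Q := act 0 n26163
theorem D54077 : act 0 n26163 = n54077 := rfl
theorem F85340 : act 2 n31948 = n54077 := d15_3 (iv0 D54077) (iv0 F55203) (iv7 F55205)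
theorem F85341 : act 1 n31939 = n54077 := d15_0 (iv0 D54077) F41507 (iv2 F50266)
theorem F85342 : act 7 n54077 = n31947 := d15_2 (iv0 F55204) F85341 (iv2 F55201)
theorem F85343 : act 5 n54077 = n28359 := d17_7 D13533 (iv5 F50546) (iv1 F41512) (iv5 D15070) D15069 D31939 F85341 (iv0 D28359) F22679
def n54078 : Q := act 4 n26163
theorem D54078 : act 4 n26163 = n54078 := rfl
theorem F85344 : act 7 n54078 = n31949 := d11_2 (iv7 F41507) D54078 (iv4 D31949)
def n54079 : Q := act 6 n26163
theorem D54079 : act 6 n26163 = n54079 := rfl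
theorem F85345 : act 2 n54079 = n42369 := d3_1 D54079 (iv6 F85320) F85318
theorem F85346 : act 3 n54079 = n48692 := d7_1 D54079 (iv6 D48692) (iv3 F41506)
theorem F85347 : act 5 n54079 = n42365 := d12_1 D54079 (iv6 D42365) F41511 (iv6 D26164) D26163
def n54080 : Q := act 4 n26165
theorem D54080 : act 4 n26165 = n54080 := rfl
theorem F85348 : act 2 n54080 = n31960 := d1_1 D54080 (iv4 D31960) F50312
theorem F85349 : act 7 n54080 = n31956 := d11_2 F50313 D54080 (iv4 D31956)
def n54081 : Q := act 6 n26165
theorem D54081 : act 6 n26165 = n54081 := rfl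
theorem F85350 : act 2 n54081 = n31962 := d3_1 D54081 (iv6 D31962) F50312
theorem F85351 : act 5 n54081 = n33137 := d12_1 D54081 (iv6 D33137) F50540 (iv6 D28367) (iv5 F50546)
def n54082 : Q := act 4 n26166
theorem D54082 : act 4 n26166 = n54082 := rfl
theorem F85352 : act 2 n54082 = n31956 := d1_1 D54082 (iv4 D31956) (iv2 F50310)
theorem F85353 : act 7 n54082 = n31960 := d11_2 (iv7 F50311) D54082 (iv4 D31960)
def n54083 : Q := act 6 n26166
theorem D54083 : act 6 n26166 = n54083 := rfl
theorem F85354 : act 2 n54083 = n31958 := d3_1 D54083 (iv6 D31958) (iv2 F50310)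
theorem F85355 : act 3 n54083 = n33088 := d7_1 D54083 F52310 F43634
theorem F85356 : act 5 n54083 = n33082 := d12_1 D54083 (iv6 D33082) F35190 F50533 (iv5 F50532)
def n54084 : Q := act 0 n26167
theorem D54084 : act 0 n26167 = n54084 := rfl
theorem F85357 : act 2 n31964 = n54084 := d15_3 (iv0 D54084) (iv0 F55384) F55382
theorem F85358 : act 1 n31940 = n54084 := d15_0 (iv0 D54084) F41514 (iv2 F50267)
theorem F85359 : act 7 n54084 = n31963 := d15_2 F55383 F85358 (iv2 F55381)
def n54085 : Q := act 5 n26167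
theorem D54085 : act 5 n26167 = n54085 := rfl
theorem F85360 : act 7 n54085 = n31965 := d13_2 (iv7 F41514) D54085 (iv5 D31965)
def n54086 : Q := act 6 n26167
theorem D54086 : act 6 n26167 = n54086 := rfl
theorem F85361 : act 4 n54086 = n26168 := d10_1 D54086 (iv6 D26168) D26167
def n54087 : Q := act 0 n26168
theorem D54087 : act 0 n26168 = n54087 := rfl
def n54088 : Q := act 1 n26168
theorem D54088 : act 1 n26168 = n54088 := rfl
def n54089 : Q := act 5 n26168
theorem D54089 : act 5 n26168 = n54089 := rfl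
theorem F85362 : act 3 n54089 = n26175 := d6_1 D54089 (iv5 D26175) (iv3 F41515)
theorem F85363 : act 6 n54089 = n26171 := d12_2 D26168 D54089 (iv5 D26171) (iv6 D12412) D12411
def n54090 : Q := act 7 n26168
theorem D54090 : act 7 n26168 = n54090 := rfl
theorem F85364 : act 3 n54090 = n26176 := d8_1 D54090 (iv7 D26176) (iv3 F41515)
theorem F85365 : act 6 n54090 = n31970 := d14_1 D54090 (iv7 D31970) (iv6 D15079) (iv7 F20677) D26168
def n54091 : Q := act 4 n26169
theorem D54091 : act 4 n26169 = n54091 := rfl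
theorem F85366 : act 2 n54091 = n41563 := d1_1 D54091 (iv4 F78731) F78729
theorem F85367 : act 3 n54091 = n32029 := d5_1 D54091 (iv4 F50657) F46872 (iv4 F46880) (iv3 F46893)
theorem F85368 : act 6 n54091 = n50010 := d10_2 F46895 D54091 (iv4 D50010)
theorem F85369 : act 7 n54091 = n33124 := d11_2 F50593 D54091 F52353
theorem F85370 : act 5 n54091 = n41562 := d16_5 D22133 (iv5 F55661) (iv4 D35043) F55581 D54091 F64156 (iv5 F44590) F44591 F29809
theorem F85371 : act 1 n54091 = n46135 := d18_8 (iv1 F68078) F68075 (iv1 F34696) (iv4 F17230) D20519 D43404 (iv0 F68240) D54091 F72750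
theorem F85372 : act 0 n54091 = n46136 := d20_1 D54091 (iv4 F72753) F54168 F54171 F23148 F10699 F9560 (iv4 F9153) (iv3 F20678) D26169
def n54092 : Q := act 4 n26171
theorem D54092 : act 4 n26171 = n54092 := rfl
theorem F85373 : act 5 n54092 = n46276 := d16_3 F41510 D26171 D54092 (iv4 D46276) F44595 (iv4 F17230) D20519 F32611 (iv2 F41508)
theorem F85374 : act 1 n54092 = n32579 := d18_6 F54290 D31918 F50226 F41510 D26171 D54092 (iv4 D32579) D32578 F55710
def n54093 : Q := act 3 n26173
theorem D54093 : act 3 n26173 = n54093 := rfl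
theorem F85375 : act 7 n54093 = n32052 := d8_2 (iv7 F53270) D54093 (iv3 D32052)
def n54094 : Q := act 4 n26173
theorem D54094 : act 4 n26173 = n54094 := rfl
theorem F85376 : act 2 n54094 = n32048 := d1_1 D54094 (iv4 D32048) (iv2 F53269)
theorem F85377 : act 7 n54094 = n32053 := d11_2 (iv7 F53270) D54094 (iv4 D32053)
def n54095 : Q := act 5 n26173
theorem D54095 : act 5 n26173 = n54095 := rfl
theorem F85378 : act 2 n54095 = n32049 := d2_1 D54095 (iv5 D32049) (iv2 F53269)
theorem F85379 : act 7 n54095 = n32054 := d13_2 (iv7 F53270) D54095 (iv5 D32054)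
def n54096 : Q := act 6 n26173
theorem D54096 : act 6 n26173 = n54096 := rfl
theorem F85380 : act 2 n54096 = n32050 := d3_1 D54096 (iv6 D32050) (iv2 F53269)
theorem F85381 : act 7 n54096 = n33915 := d14_2 (iv7 F53270) D54096 (iv6 D33915) (iv7 F42727) F51223
def n54097 : Q := act 3 n26174
theorem D54097 : act 3 n26174 = n54097 := rfl
theorem F85382 : act 6 n54097 = n33916 := d7_2 (iv6 F53265) D54097 (iv3 D33916)
theorem F85383 : act 7 n54097 = n32047 := d8_2 (iv7 F53266) D54097 (iv3 D32047)
def n54098 : Q := act 4 n26174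
theorem D54098 : act 4 n26174 = n54098 := rfl
theorem F85385 : act 6 n54098 = n33917 := d10_2 (iv6 F53265) D54098 (iv4 D33917)
theorem F85386 : act 7 n54098 = n32048 := d11_2 (iv7 F53266) D54098 (iv4 D32048)
def n54099 : Q := act 5 n26174
theorem D54099 : act 5 n26174 = n54099 := rfl
theorem F85387 : act 2 n54099 = n32054 := d2_1 D54099 (iv5 D32054) (iv2 F53264)
theorem F85388 : act 6 n54099 = n26625 := d12_2 (iv6 F53265) D54099 (iv5 F52550) F53267 (iv5 D33918)
theorem F85389 : act 7 n54099 = n32049 := d13_2 (iv7 F53266) D54099 (iv5 D32049)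
def n54100 : Q := act 0 n26175
theorem D54100 : act 0 n26175 = n54100 := rfl
def n54101 : Q := act 1 n26175
theorem D54101 : act 1 n26175 = n54101 := rfl
theorem F85390 : act 1 n54101 = n32059 := d15_1 D54101 (iv7 D32059) (iv2 F41521)
theorem F85391 : act 5 n32254 = n54101 := d21_6 (iv5 D7073) F5024 (iv5 F5307) D7212 D15213 D32254 (iv1 D54101) (iv5 D26175) (iv6 D12413) (iv1 F11326)
def n54102 : Q := act 4 n26175
theorem D54102 : act 4 n26175 = n54102 := rfl
theorem F85392 : act 2 n54102 = n32058 := d1_1 D54102 (iv4 D32058) (iv2 F41521)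
theorem F85393 : act 6 n54102 = n26177 := d10_2 (iv6 F41522) D54102 (iv4 D26177)
def n54103 : Q := act 7 n26175
theorem D54103 : act 7 n26175 = n54103 := rfl
theorem F85394 : act 2 n54103 = n32059 := d4_1 D54103 (iv7 D32059) (iv2 F41521)
theorem F85395 : act 5 n54103 = n26176 := d13_1 D54103 (iv7 D26176) D26175
theorem F85396 : act 1 n32059 = n54100 := d15_0 (iv0 D54100) D54103 F85394
theorem F85397 : act 1 n32057 = n54103 := d15_1 D32057 (iv7 D54103) F41521
theorem F85398 : act 1 n54103 = n32056 := d15_0 (iv0 D32056) D32059 (iv2 F85394)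
def n54104 : Q := act 3 n26177
theorem D54104 : act 3 n26177 = n54104 := rfl
def n54105 : Q := act 4 n26178
theorem D54105 : act 4 n26178 = n54105 := rfl
theorem F85399 : act 2 n54105 = n26213 := d1_1 D54105 F41607 (iv2 F41531)
theorem F85400 : act 7 n54105 = n26201 := d11_2 (iv7 F41533) D54105 (iv4 D26201)
theorem F85401 : act 1 n26209 = n54105 := d15_1 D26209 F85400 F41599
theorem F85402 : act 1 n54105 = n26208 := d15_0 (iv0 D26208) D26213 (iv2 F85399)
def n54106 : Q := act 6 n26178
theorem D54106 : act 6 n26178 = n54106 := rfl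
theorem F85403 : act 2 n54106 = n26217 := d3_1 D54106 (iv6 D26217) (iv2 F41531)
theorem F85404 : act 3 n54106 = n32065 := d7_1 D54106 (iv6 D32065) (iv3 F41532)
theorem F85405 : act 5 n54106 = n33287 := d12_1 D54106 (iv6 D33287) (iv5 D16076) (iv6 F26873) D26178
def n54107 : Q := act 5 n26180
theorem D54107 : act 5 n26180 = n54107 := rfl
theorem F85406 : act 2 n54107 = n31934 := d2_1 D54107 (iv5 D31934) F41542
theorem F85407 : act 3 n54107 = n32107 := d6_1 D54107 (iv5 D32107) (iv3 F41541)
theorem F85408 : act 7 n54107 = n31972 := d13_2 F41544 D54107 (iv5 D31972)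
theorem F85409 : act 0 n32371 = n54107 := d21_1 D32371 (iv5 D54107) (iv6 F41543) (iv1 D12647) D12651 D26495 (iv1 F55587) F55585 (iv6 F43637) (iv1 F50650)
theorem F85410 : act 1 n26203 = n54107 := d15_0 (iv0 F85409) (iv7 F54566) F54564
theorem E8293 : n35039 = n34994 := ((c21_4 D54107 (iv1 F85410) (iv5 F50654) D34994 (iv1 D35039) (iv6 D17012) D17011 F51683 F51681 F41519 (iv1 F41540))).symm
theorem F85411 : act 0 n34994 = n17012 := (sb E8293 (iv1 D35039))
def n54108 : Q := act 5 n26181
theorem D54108 : act 5 n26181 = n54108 := rfl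
theorem F85412 : act 2 n54108 = n31952 := d2_1 D54108 (iv5 D31952) (iv2 F41547)
theorem F85413 : act 7 n54108 = n48693 := d13_2 F41551 D54108 (iv5 D48693)
theorem F85414 : act 0 n54108 = n31575 := d17_2 F41550 D54108 (iv5 D31575) (iv4 D14866) D14867 D31577 (iv5 F54336) F54335 (iv4 F36979)
def n54109 : Q := act 4 n26182
theorem D54109 : act 4 n26182 = n54109 := rfl
theorem F85415 : act 2 n54109 = n31973 := d1_1 D54109 (iv4 D31973) (iv2 F41554)
theorem F85416 : act 0 n54109 = n31578 := d18_2 (iv1 F55454) D54109 (iv4 D31578) (iv5 D14867) D14866 D31574 (iv4 F50522) F43632 (iv5 F55453)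
def n54110 : Q := act 6 n26182
theorem D54110 : act 6 n26182 = n54110 := rfl
theorem F85417 : act 2 n54110 = n31969 := d3_1 D54110 F50322 (iv2 F41554)
theorem F85418 : act 3 n54110 = n26190 := d7_1 D54110 (iv6 D26190) (iv3 F41555)
theorem F85419 : act 5 n54110 = n31941 := d12_1 D54110 (iv6 D31941) (iv5 D15070) (iv6 F26904) D26182
def n54111 : Q := act 5 n26184
theorem D54111 : act 5 n26184 = n54111 := rfl
theorem F85420 : act 3 n54111 = n31926 := d6_1 D54111 (iv5 D31926) F41562
def n54112 : Q := act 5 n26185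
theorem D54112 : act 5 n26185 = n54112 := rfl
def n54113 : Q := act 5 n26186
theorem D54113 : act 5 n26186 = n54113 := rfl
theorem F85421 : act 3 n54113 = n26187 := d6_1 D54113 (iv5 D26187) D26186
theorem F85422 : act 7 n54113 = n43381 := d13_2 (iv7 F41569) D54113 (iv5 D43381)
theorem F85423 : act 0 n54113 = n52674 := d21_1 D54113 (iv5 D52674) (iv6 D25568) (iv1 D12155) D12158 D25575 D52689 F83264 F65300 F65301
def n54114 : Q := act 1 n26187
theorem D54114 : act 1 n26187 = n54114 := rfl
theorem F85424 : act 1 n54114 = n26193 := d15_1 D54114 (iv7 F82901) F82899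
theorem F85425 : act 7 n54114 = n52636 := d15_2 F56602 D54114 F83162
theorem F85426 : act 5 n54114 = n52484 := d17_7 (iv1 D14849) D14851 (iv1 F28389) (iv5 D12420) D12419 D26187 D54114 (iv0 F82862) (iv4 D31522)
theorem F85427 : act 3 n52485 = n54114 := d6_3 F85426 (iv3 D52484) D52485
def n54115 : Q := act 4 n26187
theorem D54115 : act 4 n26187 = n54115 := rfl
def n54116 : Q := act 6 n26187
theorem D54116 : act 6 n26187 = n54116 := rfl
def n54117 : Q := act 7 n26187
theorem D54117 : act 7 n26187 = n54117 := rfl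
theorem F85428 : act 2 n54117 = n26193 := d4_1 D54117 (iv7 F82901) F82899
theorem F85429 : act 3 n54117 = n43381 := d8_1 D54117 (iv7 F85422) F85421
theorem F85430 : act 5 n54117 = n26188 := d13_1 D54117 (iv7 D26188) D26187
theorem F85431 : act 6 n43378 = n54117 := d12_0 F85430 F41567 (iv5 D20499) D20500 D43378
theorem F85432 : act 0 n52636 = n54117 := d17_2 (iv1 F56607) D52636 F85430 F41566 (iv5 F41571) F41573 F24705 (iv0 F27311) D34406
def n54118 : Q := act 0 n26189
theorem D54118 : act 0 n26189 = n54118 := rfl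
theorem F85433 : act 4 n54118 = n31615 := d18_3 (iv1 F28389) D26189 D54118 (iv5 D31615) (iv4 F50464) F50463 (iv4 D31521) (iv0 D14848) D14851
theorem F85434 : act 1 n26195 = n54118 := d18_6 F41376 (iv4 F41561) F41563 (iv4 D12424) D12425 D26195 F85433 (iv0 F50916) (iv5 D28406)
def n54119 : Q := act 1 n26189
theorem D54119 : act 1 n26189 = n54119 := rfl
theorem F85435 : act 1 n54119 = n26195 := d15_1 D54119 (iv7 F85279) F85278
def n54120 : Q := act 3 n26189
theorem D54120 : act 3 n26189 = n54120 := rfl
def n54121 : Q := act 5 n26189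
theorem D54121 : act 5 n26189 = n54121 := rfl
def n54122 : Q := act 6 n26189
theorem D54122 : act 6 n26189 = n54122 := rfl
theorem F85436 : act 4 n54122 = n26190 := d10_1 D54122 (iv6 D26190) D26189
def n54123 : Q := act 7 n26189
theorem D54123 : act 7 n26189 = n54123 := rfl
theorem F85437 : act 2 n54123 = n26195 := d4_1 D54123 (iv7 F85279) F85278
theorem F85438 : act 4 n54123 = n26191 := d11_1 D54123 (iv7 D26191) D26189
def n54124 : Q := act 0 n26190
theorem D54124 : act 0 n26190 = n54124 := rfl
def n54125 : Q := act 1 n26190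
theorem D54125 : act 1 n26190 = n54125 := rfl
def n54126 : Q := act 7 n26190
theorem D54126 : act 7 n26190 = n54126 := rfl
def n54127 : Q := act 6 n26191
theorem D54127 : act 6 n26191 = n54127 := rfl
theorem F85439 : act 2 n54127 = n26196 := d3_1 D54127 (iv6 D26196) (iv2 F41570)
def n54128 : Q := act 4 n26193
theorem D54128 : act 4 n26193 = n54128 := rfl
def n54129 : Q := act 6 n26193
theorem D54129 : act 6 n26193 = n54129 := rfl
theorem F85440 : act 2 n54129 = n43378 := d3_1 D54129 F85431 F85428
theorem F85441 : act 5 n54129 = n43376 := d12_1 D54129 (iv6 D43376) F41583 (iv6 D26194) D26193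
def n54130 : Q := act 3 n26195
theorem D54130 : act 3 n26195 = n54130 := rfl
def n54131 : Q := act 5 n26195
theorem D54131 : act 5 n26195 = n54131 := rfl
def n54132 : Q := act 6 n26195
theorem D54132 : act 6 n26195 = n54132 := rfl
theorem F85442 : act 4 n54132 = n26196 := d10_1 D54132 (iv6 D26196) D26195
def n54133 : Q := act 0 n26196
theorem D54133 : act 0 n26196 = n54133 := rfl
def n54134 : Q := act 1 n26196
theorem D54134 : act 1 n26196 = n54134 := rfl
def n54135 : Q := act 5 n26196
theorem D54135 : act 5 n26196 = n54135 := rfl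
theorem F85443 : act 3 n54135 = n32063 := d6_1 D54135 (iv5 F51421) F51420
theorem F85444 : act 6 n54135 = n26198 := d12_2 D26196 D54135 (iv5 D26198) (iv6 D12426) D12425
def n54136 : Q := act 7 n26196
theorem D54136 : act 7 n26196 = n54136 := rfl
def n54137 : Q := act 5 n26197
theorem D54137 : act 5 n26197 = n54137 := rfl
theorem F85445 : act 2 n54137 = n26858 := d2_1 D54137 F43288 F41586
theorem F85446 : act 3 n54137 = n32131 := d6_1 D54137 (iv5 D32131) (iv3 F54015)
theorem F85447 : act 7 n54137 = n26859 := d13_2 (iv7 F41585) D54137 (iv5 F43292)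
theorem F85448 : act 0 n54137 = n26861 := d17_2 (iv1 F41584) D54137 F43296 (iv4 F40424) F40425 F32448 (iv5 F65399) (iv0 D42348) F31814
theorem F85449 : act 1 n54137 = n26854 := d17_6 D32618 (iv5 F68901) F69354 (iv5 F83067) F83068 D54137 (iv5 D26854) F27054 (iv4 F24988)
def n54138 : Q := act 4 n26198
theorem D54138 : act 4 n26198 = n54138 := rfl
theorem F85450 : act 7 n54138 = n32045 := d11_2 (iv7 F41589) D54138 (iv4 D32045)
def n54139 : Q := act 4 n26199
theorem D54139 : act 4 n26199 = n54139 := rfl
theorem F85451 : act 2 n54139 = n26204 := d1_1 D54139 (iv4 D26204) (iv2 F41592)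
theorem F85452 : act 7 n54139 = n26206 := d11_2 (iv7 F41594) D54139 (iv4 D26206)
def n54140 : Q := act 6 n26199
theorem D54140 : act 6 n26199 = n54140 := rfl
theorem F85453 : act 2 n54140 = n26205 := d3_1 D54140 (iv6 D26205) (iv2 F41592)
theorem F85454 : act 3 n54140 = n32369 := d7_1 D54140 (iv6 D32369) (iv3 F41593)
theorem F85455 : act 5 n54140 = n33996 := d12_1 D54140 (iv6 D33996) (iv5 F46293) F46294 F41591
def n54141 : Q := act 3 n26200
theorem D54141 : act 3 n26200 = n54141 := rfl
theorem F85456 : act 2 n54141 = n32371 := d0_1 D54141 F51410 (iv2 F27315) F41536 (iv2 F41598)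
theorem F85457 : act 5 n54141 = n27010 := d6_2 F41597 D54141 F50521
theorem F85458 : act 7 n54141 = n26203 := d8_2 (iv7 F41596) D54141 (iv3 D26203)
theorem F85459 : act 4 n54141 = n48917 := d20_6 (iv4 F11284) (iv1 D7032) (iv4 F9172) (iv3 F20698) (iv1 F41595) D54141 (iv1 D48917) (iv4 D23853) F18140 F7634
theorem F85460 : act 0 n31972 = n54141 := d18_0 F85459 (iv1 D48917) (iv4 D23853) (iv5 D11178) (iv4 F18046) D23746 (iv4 F41558) F41560 D31972
theorem F85461 : act 1 n31934 = n54141 := d15_0 (iv0 F85460) (iv7 F85408) F85406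
def n54142 : Q := act 4 n26200
theorem D54142 : act 4 n26200 = n54142 := rfl
theorem F85462 : act 2 n54142 = n26206 := d1_1 D54142 (iv4 D26206) (iv2 F41598)
theorem F85463 : act 7 n54142 = n26204 := d11_2 (iv7 F41596) D54142 (iv4 D26204)
def n54143 : Q := act 6 n26200
theorem D54143 : act 6 n26200 = n54143 := rfl
theorem F85464 : act 2 n54143 = n26207 := d3_1 D54143 (iv6 D26207) (iv2 F41598)
def n54144 : Q := act 0 n26201
theorem D54144 : act 0 n26201 = n54144 := rfl
theorem F85465 : act 4 n54144 = n28450 := d18_3 (iv1 D26200) D26201 D54144 (iv5 F84929) F84932 F49854 F28383 F26729 F41597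
theorem F85466 : act 1 n26213 = n54144 := d15_0 (iv0 D54144) (iv7 F85400) F85399
def n54145 : Q := act 1 n26201
theorem D54145 : act 1 n26201 = n54145 := rfl
theorem F85467 : act 1 n54145 = n26213 := d15_1 D54145 (iv7 D26213) (iv2 F41599)
def n54146 : Q := act 3 n26201
theorem D54146 : act 3 n26201 = n54146 := rfl
theorem F85468 : act 4 n54146 = n32144 := d5_2 D26201 D54146 (iv3 D32144) (iv4 D15174) (iv3 F20695)
def n54147 : Q := act 5 n26201
theorem D54147 : act 5 n26201 = n54147 := rfl
theorem F85469 : act 2 n54147 = n26211 := d2_1 D54147 (iv5 D26211) (iv2 F41599)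
def n54148 : Q := act 6 n26201
theorem D54148 : act 6 n26201 = n54148 := rfl
theorem F85470 : act 2 n54148 = n26212 := d3_1 D54148 (iv6 D26212) (iv2 F41599)
theorem F85471 : act 4 n54148 = n26202 := d10_1 D54148 (iv6 D26202) D26201
def n54149 : Q := act 0 n26202
theorem D54149 : act 0 n26202 = n54149 := rfl
def n54150 : Q := act 1 n26202
theorem D54150 : act 1 n26202 = n54150 := rfl
theorem F85472 : act 1 n54150 = n26216 := d15_1 D54150 (iv7 D26216) (iv2 F41600)
theorem F85473 : act 5 n34678 = n54150 := d21_6 (iv5 F25987) (iv1 D7227) (iv5 F5581) D7841 D16792 D34678 (iv1 D54150) F41602 (iv6 D12695) (iv1 F9340)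
def n54151 : Q := act 7 n26202
theorem D54151 : act 7 n26202 = n54151 := rfl
theorem F85474 : act 2 n54151 = n26216 := d4_1 D54151 (iv7 D26216) (iv2 F41600)
theorem F85475 : act 3 n54151 = n32149 := d8_1 D54151 (iv7 D32149) (iv3 F41601)
theorem F85476 : act 5 n54151 = n26559 := d13_1 D54151 (iv7 D26559) (iv5 F41602)
theorem F85477 : act 1 n26216 = n54149 := d15_0 (iv0 D54149) D54151 F85474
theorem F85478 : act 1 n26215 = n54151 := d15_1 D26215 (iv7 D54151) F41600
theorem F85479 : act 1 n54151 = n26214 := d15_0 (iv0 D26214) D26216 (iv2 F85474)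
def n54152 : Q := act 4 n26203
theorem D54152 : act 4 n26203 = n54152 := rfl
theorem F85480 : act 2 n54152 = n48916 := d1_1 D54152 F77128 F54564
theorem F85481 : act 7 n54152 = n48917 := d11_2 F85458 D54152 (iv4 F85459)
theorem F85482 : act 0 n54152 = n48921 := d18_2 (iv1 F85410) D54152 F77133 F37188 (iv4 F36983) (iv0 F41549) (iv4 D26181) D26180 D54107
theorem F85483 : act 1 n54152 = n48908 := d18_6 F54267 (iv4 F27758) D34903 F55232 F50654 D54152 (iv4 D48908) D48907 (iv5 F77112)
def n54153 : Q := act 6 n26203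
theorem D54153 : act 6 n26203 = n54153 := rfl
theorem F85484 : act 3 n54153 = n26205 := d7_1 D54153 (iv6 D26205) D26203
def n54154 : Q := act 0 n26204
theorem D54154 : act 0 n26204 = n54154 := rfl
theorem F85485 : act 4 n54154 = n53972 := d18_3 D12430 D26204 D54154 F85149 (iv4 F41561) (iv0 D26184) (iv4 D12419) (iv0 D5908) D5911
theorem F85486 : act 1 n26206 = n54154 := d15_0 (iv0 D54154) (iv7 F85463) F85462
def n54155 : Q := act 1 n26204
theorem D54155 : act 1 n26204 = n54155 := rfl
theorem F85487 : act 1 n54155 = n26206 := d15_1 D54155 (iv7 F85452) F85451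
def n54156 : Q := act 3 n26204
theorem D54156 : act 3 n26204 = n54156 := rfl
def n54157 : Q := act 5 n26204
theorem D54157 : act 5 n26204 = n54157 := rfl
def n54158 : Q := act 6 n26204
theorem D54158 : act 6 n26204 = n54158 := rfl
theorem F85488 : act 4 n54158 = n26205 := d10_1 D54158 (iv6 D26205) D26204
def n54159 : Q := act 0 n26205
theorem D54159 : act 0 n26205 = n54159 := rfl
def n54160 : Q := act 1 n26205
theorem D54160 : act 1 n26205 = n54160 := rfl
def n54161 : Q := act 5 n26205
theorem D54161 : act 5 n26205 = n54161 := rfl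
theorem F85489 : act 2 n54161 = n33996 := d2_1 D54161 (iv5 F85455) F85453
theorem F85490 : act 6 n54161 = n32989 := d12_2 D26205 D54161 (iv5 F84926) (iv6 D53874) F41539
def n54162 : Q := act 7 n26205
theorem D54162 : act 7 n26205 = n54162 := rfl
def n54163 : Q := act 3 n26206
theorem D54163 : act 3 n26206 = n54163 := rfl
def n54164 : Q := act 5 n26206
theorem D54164 : act 5 n26206 = n54164 := rfl
def n54165 : Q := act 6 n26206
theorem D54165 : act 6 n26206 = n54165 := rfl
theorem F85491 : act 4 n54165 = n26207 := d10_1 D54165 (iv6 D26207) D26206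
def n54166 : Q := act 0 n26207
theorem D54166 : act 0 n26207 = n54166 := rfl
def n54167 : Q := act 1 n26207
theorem D54167 : act 1 n26207 = n54167 := rfl
def n54168 : Q := act 5 n26207
theorem D54168 : act 5 n26207 = n54168 := rfl
theorem F85492 : act 3 n54168 = n29133 := d6_1 D54168 (iv5 F54588) F54587
theorem F85493 : act 6 n54168 = n29132 := d12_2 D26207 D54168 F46801 (iv6 F27309) (iv5 F41535)
def n54169 : Q := act 7 n26207
theorem D54169 : act 7 n26207 = n54169 := rfl
def n54170 : Q := act 2 n26208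
theorem D54170 : act 2 n26208 = n54170 := rfl
theorem F85494 : act 7 n26209 = n54170 := d15_2 (iv0 D26208) D26209 (iv2 D54170)
def n54171 : Q := act 3 n26208
theorem D54171 : act 3 n26208 = n54171 := rfl
def n54172 : Q := act 4 n26208
theorem D54172 : act 4 n26208 = n54172 := rfl
theorem F85495 : act 5 n54172 = n31611 := d18_4 (iv1 D12431) D12432 D26208 D54172 F82783 (iv0 D52443) F40237 (iv0 F27311) (iv5 F41535)
theorem F85496 : act 1 n54172 = n31635 := d18_8 F40342 (iv4 D25507) D25504 F40337 D26178 D54105 F85402 D54172 F50448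
theorem F85497 : act 2 n28450 = n54172 := d2_3 F85495 (iv2 F84928) F84929
theorem E8294 : n54170 = n54144 := (c1_4 F85465 F85497 (iv4 D54172) D54170)
theorem F85498 : act 2 n54144 = n26208 := (sb E8294 (iv2 D54170))
theorem F85499 : act 7 n54144 = n26209 := (sb E8294 (iv7 F85494))
theorem F85500 : act 2 n26209 = n54145 := d15_3 F85467 F85466 F85499
theorem F85501 : act 7 n26208 = n54145 := d4_2 (iv7 F85499) F85498 (iv2 F85500)
def n54173 : Q := act 5 n26208
theorem D54173 : act 5 n26208 = n54173 := rfl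
def n54174 : Q := act 6 n26208
theorem D54174 : act 6 n26208 = n54174 := rfl
def n54175 : Q := act 3 n26209
theorem D54175 : act 3 n26209 = n54175 := rfl
def n54176 : Q := act 4 n26209
theorem D54176 : act 4 n26209 = n54176 := rfl
theorem F85502 : act 7 n54176 = n28450 := d11_2 F85499 D54176 (iv4 F85465)
theorem F85503 : act 5 n54176 = n31546 := d18_4 (iv1 F41538) D54105 (iv1 F85401) D54176 F82790 F82788 F49851 F41180 F41539
theorem F85504 : act 3 n54176 = n28446 := d20_3 D54105 (iv1 F85401) D54176 (iv1 D28446) (iv3 F37184) D48908 (iv1 F85483) (iv4 D54152) (iv3 D26203) (iv1 F41538)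
theorem F85505 : act 0 n54176 = n31635 := d21_7 D25669 (iv1 F51513) (iv5 D32446) D32447 F56576 (iv6 F50950) (iv5 F85503) F50448 F41349 F20198
def n54177 : Q := act 5 n26209
theorem D54177 : act 5 n26209 = n54177 := rfl
def n54178 : Q := act 6 n26209
theorem D54178 : act 6 n26209 = n54178 := rfl
def n54179 : Q := act 0 n26210
theorem D54179 : act 0 n26210 = n54179 := rfl
theorem F85506 : act 1 n31259 = n54179 := d15_0 (iv0 D54179) (iv7 F41604) (iv2 F49559)
def n54180 : Q := act 1 n26210
theorem D54180 : act 1 n26210 = n54180 := rfl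
def n54181 : Q := act 2 n26210
theorem D54181 : act 2 n26210 = n54181 := rfl
theorem F85507 : act 4 n54181 = n26236 := d1_2 (iv4 F41603) D54181 (iv2 D26236)
theorem F85508 : act 7 n54181 = n31259 := d4_2 F41604 D54181 F49559
theorem F85509 : act 1 n54181 = n31271 := d15_0 (iv0 D31271) F41604 D54181
theorem F85510 : act 1 n54180 = n31259 := d15_1 D54180 (iv7 F85508) (iv2 D54181)
theorem F85511 : act 1 n31272 = n54181 := d15_1 D31272 F85508 F49559
def n54182 : Q := act 5 n26210
theorem D54182 : act 5 n26210 = n54182 := rfl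
theorem F85512 : act 3 n54182 = n26211 := d6_1 D54182 (iv5 D26211) D26210
theorem F85513 : act 7 n54182 = n31273 := d13_2 F41604 D54182 (iv5 D31273)
def n54183 : Q := act 6 n26210
theorem D54183 : act 6 n26210 = n54183 := rfl
theorem F85514 : act 3 n54183 = n26212 := d7_1 D54183 (iv6 D26212) D26210
theorem F85515 : act 4 n54183 = n26237 := d10_1 D54183 (iv6 D26237) (iv4 F41603)
def n54184 : Q := act 0 n26211
theorem D54184 : act 0 n26211 = n54184 := rfl
def n54185 : Q := act 1 n26211
theorem D54185 : act 1 n26211 = n54185 := rfl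
def n54186 : Q := act 4 n26211
theorem D54186 : act 4 n26211 = n54186 := rfl
def n54187 : Q := act 6 n26211
theorem D54187 : act 6 n26211 = n54187 := rfl
def n54188 : Q := act 7 n26211
theorem D54188 : act 7 n26211 = n54188 := rfl
def n54189 : Q := act 0 n26212
theorem D54189 : act 0 n26212 = n54189 := rfl
def n54190 : Q := act 1 n26212
theorem D54190 : act 1 n26212 = n54190 := rfl
def n54191 : Q := act 5 n26212
theorem D54191 : act 5 n26212 = n54191 := rfl
def n54192 : Q := act 7 n26212
theorem D54192 : act 7 n26212 = n54192 := rfl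
theorem F85518 : act 4 n54192 = n26216 := d11_1 D54192 (iv7 D26216) (iv4 F41605)
def n54193 : Q := act 6 n26213
theorem D54193 : act 6 n26213 = n54193 := rfl
theorem F85519 : act 3 n54193 = n31274 := d7_1 D54193 (iv6 D31274) (iv3 F41606)
theorem F85520 : act 4 n54193 = n26217 := d10_1 D54193 (iv6 D26217) (iv4 F41607)
def n54194 : Q := act 2 n26214
theorem D54194 : act 2 n26214 = n54194 := rfl
theorem F85521 : act 7 n26215 = n54194 := d15_2 (iv0 D26214) D26215 (iv2 D54194)
def n54195 : Q := act 3 n26214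
theorem D54195 : act 3 n26214 = n54195 := rfl
def n54196 : Q := act 4 n26214
theorem D54196 : act 4 n26214 = n54196 := rfl
def n54197 : Q := act 5 n26214
theorem D54197 : act 5 n26214 = n54197 := rfl
def n54198 : Q := act 6 n26214
theorem D54198 : act 6 n26214 = n54198 := rfl
theorem F85522 : act 5 n54198 = n35973 := d21_6 (iv5 D12425) (iv1 D5909) D5911 D12433 D26214 D54198 (iv1 D35973) D35974 F56689 (iv1 F41572)
def n54199 : Q := act 7 n26214
theorem D54199 : act 7 n26214 = n54199 := rfl
theorem F85523 : act 2 n54199 = n26215 := d4_1 D54199 F85521 (iv2 D54194)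
def n54200 : Q := act 3 n26215
theorem D54200 : act 3 n26215 = n54200 := rfl
def n54201 : Q := act 4 n26215
theorem D54201 : act 4 n26215 = n54201 := rfl
def n54202 : Q := act 5 n26215
theorem D54202 : act 5 n26215 = n54202 := rfl
theorem F85524 : act 6 n54202 = n34671 := d21_9 (iv5 F54935) (iv1 F60319) (iv5 D39354) (iv6 D18657) (iv1 F29923) (iv6 F42525) (iv5 F85476) (iv1 F85478) D54202 (iv1 F54928)
def n54203 : Q := act 6 n26215
theorem D54203 : act 6 n26215 = n54203 := rfl
def n54204 : Q := act 6 n26216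
theorem D54204 : act 6 n26216 = n54204 := rfl
theorem F85525 : act 3 n54204 = n26252 := d7_1 D54204 (iv6 D26252) (iv3 F41608)
theorem F85526 : act 5 n54204 = n39387 := d12_1 D54204 (iv6 D39387) F29927 (iv6 F21105) (iv5 F41609)
theorem F85527 : act 7 n54204 = n26217 := d14_2 D26216 D54204 (iv6 D26217) (iv7 D12434) D12433
def n54205 : Q := act 0 n26217
theorem D54205 : act 0 n26217 = n54205 := rfl
def n54206 : Q := act 1 n26217
theorem D54206 : act 1 n26217 = n54206 := rfl
def n54207 : Q := act 5 n26217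
theorem D54207 : act 5 n26217 = n54207 := rfl
theorem F85528 : act 2 n54207 = n33287 := d2_1 D54207 (iv5 F85405) F85403
theorem F85529 : act 3 n54207 = n26255 := d6_1 D54207 (iv5 D26255) (iv3 F41610)
theorem F85530 : act 6 n54207 = n26218 := d12_2 D26217 D54207 (iv5 D26218) (iv6 D12435) (iv5 F20699)
theorem F85531 : act 7 n54207 = n39387 := d13_2 F85527 D54207 (iv5 F85526)
def n54208 : Q := act 0 n26218
theorem D54208 : act 0 n26218 = n54208 := rfl
theorem F85532 : act 5 n54208 = n32367 := d21_8 F41446 (iv1 D26143) (iv5 D12402) D12403 F26924 D12435 D26218 D54208 (iv6 D32367) (iv1 F26920)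
theorem F85533 : act 2 n26606 = n54208 := d15_3 (iv0 D54208) (iv0 F54435) F54434
theorem F85534 : act 1 n26481 = n54208 := d15_0 (iv0 D54208) F41613 (iv2 F42365)
theorem F85535 : act 7 n54208 = n26605 := d15_2 (iv0 F54436) F85534 (iv2 F54432)
def n54209 : Q := act 4 n26218
theorem D54209 : act 4 n26218 = n54209 := rfl
theorem F85536 : act 2 n54209 = n33286 := d1_1 D54209 (iv4 D33286) (iv2 F41611)
theorem F85537 : act 7 n54209 = n26607 := d11_2 (iv7 F41613) D54209 (iv4 D26607)
def n54210 : Q := act 4 n26219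
theorem D54210 : act 4 n26219 = n54210 := rfl
theorem F85538 : act 2 n54210 = n26220 := d1_1 D54210 (iv4 D26220) D26219
theorem F85539 : act 7 n54210 = n32240 := d11_2 (iv7 F41616) D54210 (iv4 D32240)
theorem F85540 : act 0 n54210 = n32243 := d18_2 (iv1 F41617) D54210 (iv4 F51180) F50444 F24723 F40277 F40273 F20654 D15098
theorem F85541 : act 1 n54210 = n32242 := d15_0 (iv0 D32242) (iv7 F41619) (iv2 F85538)
def n54211 : Q := act 6 n26219
theorem D54211 : act 6 n26219 = n54211 := rfl
theorem F85542 : act 2 n54211 = n26221 := d3_1 D54211 (iv6 D26221) D26219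
theorem F85543 : act 3 n54211 = n32217 := d7_1 D54211 (iv6 D32217) (iv3 F41614)
def n54212 : Q := act 0 n26220
theorem D54212 : act 0 n26220 = n54212 := rfl
theorem F85544 : act 1 n32240 = n54212 := d15_0 (iv0 D54212) F41619 (iv2 F51178)
def n54213 : Q := act 1 n26220
theorem D54213 : act 1 n26220 = n54213 := rfl
theorem F85545 : act 1 n54213 = n32240 := d15_1 D54213 (iv7 F85539) F85538
theorem F85546 : act 4 n53969 = n54213 := d20_6 (iv4 F9007) D12329 F20466 (iv3 F20568) D26104 D53969 (iv1 D54213) (iv4 D26220) (iv3 D12436) (iv1 F9161)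
theorem F85547 : act 7 n54213 = n32243 := d11_2 (iv7 F85144) F85546 (iv4 F51180)
theorem F85548 : act 2 n32243 = n54212 := d15_3 (iv0 D54212) D54213 F85547
theorem F85549 : act 2 n54213 = n32242 := d15_3 (iv0 D32242) D32243 (iv7 F85547)
theorem F85550 : act 7 n32242 = n54212 := d4_2 (iv7 F85547) F85549 (iv2 F85548)
def n54214 : Q := act 5 n26220
theorem D54214 : act 5 n26220 = n54214 := rfl
theorem F85551 : act 7 n54214 = n32244 := d13_2 (iv7 F41619) D54214 (iv5 D32244)
def n54215 : Q := act 6 n26220
theorem D54215 : act 6 n26220 = n54215 := rfl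
theorem F85552 : act 4 n54215 = n26221 := d10_1 D54215 (iv6 D26221) D26220
def n54216 : Q := act 0 n26221
theorem D54216 : act 0 n26221 = n54216 := rfl
def n54217 : Q := act 1 n26221
theorem D54217 : act 1 n26221 = n54217 := rfl
def n54218 : Q := act 5 n26221
theorem D54218 : act 5 n26221 = n54218 := rfl
theorem F85553 : act 3 n54218 = n26224 := d6_1 D54218 (iv5 D26224) (iv3 F41620)
theorem F85554 : act 6 n54218 = n26606 := d12_2 D26221 D54218 (iv5 F42604) (iv6 D23832) (iv5 F20702)
def n54219 : Q := act 7 n26221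
theorem D54219 : act 7 n26221 = n54219 := rfl
theorem F85555 : act 3 n54219 = n26225 := d8_1 D54219 (iv7 D26225) (iv3 F41620)
theorem F85556 : act 6 n54219 = n32249 := d14_1 D54219 (iv7 D32249) (iv6 D15212) (iv7 F20703) D26221
def n54220 : Q := act 2 n26222
theorem D54220 : act 2 n26222 = n54220 := rfl
theorem F85557 : act 7 n26223 = n54220 := d15_2 (iv0 D26222) D26223 (iv2 D54220)
def n54221 : Q := act 3 n26222
theorem D54221 : act 3 n26222 = n54221 := rfl
def n54222 : Q := act 4 n26222
theorem D54222 : act 4 n26222 = n54222 := rfl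
def n54223 : Q := act 5 n26222
theorem D54223 : act 5 n26222 = n54223 := rfl
def n54224 : Q := act 6 n26222
theorem D54224 : act 6 n26222 = n54224 := rfl
theorem F85558 : act 5 n54224 = n31998 := d21_6 F11501 F9067 (iv5 F9158) D12437 D26222 D54224 (iv1 D31998) (iv5 D15090) (iv6 D7174) D7172
def n54225 : Q := act 7 n26222
theorem D54225 : act 7 n26222 = n54225 := rfl
theorem F85559 : act 2 n54225 = n26223 := d4_1 D54225 F85557 (iv2 D54220)
def n54226 : Q := act 3 n26223
theorem D54226 : act 3 n26223 = n54226 := rfl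
def n54227 : Q := act 4 n26223
theorem D54227 : act 4 n26223 = n54227 := rfl
def n54228 : Q := act 5 n26223
theorem D54228 : act 5 n26223 = n54228 := rfl
def n54229 : Q := act 6 n26223
theorem D54229 : act 6 n26223 = n54229 := rfl
def n54230 : Q := act 0 n26224
theorem D54230 : act 0 n26224 = n54230 := rfl
theorem F85560 : act 6 n54230 = n26469 := d21_5 F21037 F20535 (iv5 F25352) (iv6 F41623) D54230 (iv5 D26469) (iv1 D12632) D12633 F21030 D12635
theorem F85561 : act 2 n32236 = n54230 := d3_3 F85560 F42326 (iv6 F51174)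
theorem F85562 : act 7 n32237 = n54230 := d15_2 (iv0 D32236) D32237 (iv2 F85561)
def n54231 : Q := act 1 n26224
theorem D54231 : act 1 n26224 = n54231 := rfl
theorem F85563 : act 1 n54231 = n32239 := d15_1 D54231 (iv7 D32239) (iv2 F41622)
theorem F85564 : act 7 n54231 = n32236 := d15_2 (iv0 D54230) D54231 F85561
theorem F85565 : act 5 n54096 = n54231 := d21_6 F5309 (iv1 F3940) D5906 D12413 D26173 D54096 (iv1 D54231) (iv5 D26224) (iv6 D12437) (iv1 F9161)
theorem F85566 : act 2 n54231 = n32237 := d2_1 F85565 (iv5 F51175) (iv2 F85380)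
theorem F85567 : act 1 n32239 = n54230 := d15_1 F85563 (iv7 F85562) (iv2 F85566)
def n54232 : Q := act 4 n26224
theorem D54232 : act 4 n26224 = n54232 := rfl
theorem F85568 : act 2 n54232 = n32238 := d1_1 D54232 (iv4 D32238) (iv2 F41622)
theorem F85569 : act 6 n54232 = n32979 := d10_2 (iv6 F41623) D54232 (iv4 D32979)
def n54233 : Q := act 7 n26224
theorem D54233 : act 7 n26224 = n54233 := rfl
theorem F85571 : act 5 n54233 = n26225 := d13_1 D54233 (iv7 D26225) D26224
theorem F85572 : act 1 n32237 = n54233 := d15_1 D32237 (iv7 D54233) F41622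
theorem F85573 : act 1 n54233 = n32236 := d15_1 F85572 (iv7 F85564) F85566
def n54234 : Q := act 4 n26228
theorem D54234 : act 4 n26228 = n54234 := rfl
theorem F85574 : act 2 n54234 = n26229 := d1_1 D54234 (iv4 D26229) D26228
theorem F85575 : act 7 n54234 = n32216 := d11_2 (iv7 F41632) D54234 (iv4 D32216)
theorem F85576 : act 0 n54234 = n32219 := d18_2 (iv1 F50536) D54234 (iv4 F51167) F50103 (iv4 F26624) (iv0 F41484) (iv4 D26158) F20671 D15062
theorem F85577 : act 1 n54234 = n32218 := d15_0 (iv0 D32218) (iv7 F41636) (iv2 F85574)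
def n54235 : Q := act 6 n26228
theorem D54235 : act 6 n26228 = n54235 := rfl
theorem F85578 : act 2 n54235 = n26230 := d3_1 D54235 (iv6 D26230) D26228
theorem F85579 : act 3 n54235 = n32241 := d7_1 D54235 (iv6 D32241) (iv3 F41630)
def n54236 : Q := act 0 n26229
theorem D54236 : act 0 n26229 = n54236 := rfl
theorem F85580 : act 1 n32216 = n54236 := d15_0 (iv0 D54236) F41636 (iv2 F51165)
def n54237 : Q := act 1 n26229
theorem D54237 : act 1 n26229 = n54237 := rfl
theorem F85581 : act 1 n54237 = n32216 := d15_1 D54237 (iv7 F85575) F85574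
theorem F85582 : act 4 n53877 = n54237 := d20_6 D5915 (iv1 F20470) F20473 (iv3 F20515) D26053 D53877 (iv1 D54237) (iv4 D26229) (iv3 D12438) (iv1 D5914)
theorem F85583 : act 7 n54237 = n32219 := d11_2 (iv7 F84943) F85582 (iv4 F51167)
theorem F85584 : act 2 n32219 = n54236 := d15_3 (iv0 D54236) D54237 F85583
theorem F85585 : act 2 n54237 = n32218 := d15_3 (iv0 D32218) D32219 (iv7 F85583)
theorem F85586 : act 7 n32218 = n54236 := d4_2 (iv7 F85583) F85585 (iv2 F85584)
def n54238 : Q := act 5 n26229
theorem D54238 : act 5 n26229 = n54238 := rfl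
theorem F85587 : act 7 n54238 = n32220 := d13_2 (iv7 F41636) D54238 (iv5 D32220)
def n54239 : Q := act 6 n26229
theorem D54239 : act 6 n26229 = n54239 := rfl
theorem F85588 : act 4 n54239 = n26230 := d10_1 D54239 (iv6 D26230) D26229
def n54240 : Q := act 0 n26230
theorem D54240 : act 0 n26230 = n54240 := rfl
def n54241 : Q := act 1 n26230
theorem D54241 : act 1 n26230 = n54241 := rfl
def n54242 : Q := act 7 n26230
theorem D54242 : act 7 n26230 = n54242 := rfl
theorem F85589 : act 3 n54242 = n26233 := d8_1 D54242 (iv7 D26233) (iv3 F41637)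
theorem F85590 : act 6 n54242 = n32225 := d14_1 D54242 (iv7 D32225) (iv6 D15203) (iv7 F20706) D26230
def n54243 : Q := act 2 n26231
theorem D54243 : act 2 n26231 = n54243 := rfl
def n54244 : Q := act 3 n26231
theorem D54244 : act 3 n26231 = n54244 := rfl
def n54245 : Q := act 4 n26231
theorem D54245 : act 4 n26231 = n54245 := rfl
def n54246 : Q := act 5 n26231
theorem D54246 : act 5 n26231 = n54246 := rfl
theorem F85592 : act 0 n33925 = n54246 := d21_10 (iv5 D54246) (iv1 F41641) (iv5 F51189) (iv6 F54439) (iv1 F78757) (iv6 F78758) (iv5 D33928) (iv1 D16402) D16403 (iv6 F53278)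
def n54247 : Q := act 6 n26231
theorem D54247 : act 6 n26231 = n54247 := rfl
theorem F85593 : act 5 n54247 = n32057 := d21_6 F11507 F9060 (iv5 F9164) D12439 D26231 D54247 (iv1 D32057) (iv5 D15122) (iv6 D7185) (iv1 F11505)
def n54248 : Q := act 7 n26231
theorem D54248 : act 7 n26231 = n54248 := rfl
def n54249 : Q := act 3 n26232
theorem D54249 : act 3 n26232 = n54249 := rfl
def n54250 : Q := act 4 n26232
theorem D54250 : act 4 n26232 = n54250 := rfl
def n54251 : Q := act 5 n26232
theorem D54251 : act 5 n26232 = n54251 := rfl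
theorem F85595 : act 0 n54251 = n33925 := d21_1 D54251 (iv5 D33925) (iv6 D16399) D16396 D33915 F53259 (iv1 F85573) F85571 F41625 (iv1 F41638)
theorem F85596 : act 6 n49813 = n54251 := d21_5 (iv5 D14102) (iv1 F10930) D11434 D24285 D49813 (iv5 D54251) (iv1 D26232) (iv5 F27089) (iv6 D16602) (iv1 F23572)
def n54252 : Q := act 6 n26232
theorem D54252 : act 6 n26232 = n54252 := rfl
theorem F85597 : act 0 n26246 = n54252 := d21_4 F25890 (iv1 F41663) (iv5 D26245) D26246 (iv6 D54252) D54251 F85595 (iv5 D33925) (iv6 D16399) D16396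
def n54253 : Q := act 2 n26234
theorem D54253 : act 2 n26234 = n54253 := rfl
theorem F85598 : act 7 n26235 = n54253 := d15_2 (iv0 D26234) D26235 (iv2 D54253)
def n54254 : Q := act 3 n26234
theorem D54254 : act 3 n26234 = n54254 := rfl
def n54255 : Q := act 4 n26234
theorem D54255 : act 4 n26234 = n54255 := rfl
def n54256 : Q := act 5 n26234
theorem D54256 : act 5 n26234 = n54256 := rfl
def n54257 : Q := act 6 n26234
theorem D54257 : act 6 n26234 = n54257 := rfl
def n54258 : Q := act 7 n26234
theorem D54258 : act 7 n26234 = n54258 := rfl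
theorem F85599 : act 2 n54258 = n26235 := d4_1 D54258 F85598 (iv2 D54253)
def n54259 : Q := act 3 n26235
theorem D54259 : act 3 n26235 = n54259 := rfl
def n54260 : Q := act 4 n26235
theorem D54260 : act 4 n26235 = n54260 := rfl
def n54261 : Q := act 5 n26235
theorem D54261 : act 5 n26235 = n54261 := rfl
def n54262 : Q := act 6 n26235
theorem D54262 : act 6 n26235 = n54262 := rfl
def n54263 : Q := act 6 n26236
theorem D54263 : act 6 n26236 = n54263 := rfl
theorem F85600 : act 2 n54263 = n26237 := d3_1 D54263 (iv6 D26237) D26236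
theorem F85601 : act 3 n54263 = n32273 := d7_1 D54263 (iv6 D32273) (iv3 F41645)
def n54264 : Q := act 0 n26237
theorem D54264 : act 0 n26237 = n54264 := rfl
def n54265 : Q := act 1 n26237
theorem D54265 : act 1 n26237 = n54265 := rfl
def n54266 : Q := act 5 n26237
theorem D54266 : act 5 n26237 = n54266 := rfl
theorem F85602 : act 3 n54266 = n26240 := d6_1 D54266 (iv5 D26240) (iv3 F41651)
theorem F85603 : act 6 n54266 = n31280 := d12_2 D26237 D54266 (iv5 D31280) (iv6 D14755) (iv5 F20708)
def n54267 : Q := act 7 n26237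
theorem D54267 : act 7 n26237 = n54267 := rfl
theorem F85604 : act 3 n54267 = n26241 := d8_1 D54267 (iv7 D26241) (iv3 F41651)
theorem F85605 : act 6 n54267 = n31277 := d14_1 D54267 (iv7 D31277) (iv6 D14754) (iv7 F20709) D26237
def n54268 : Q := act 3 n26238
theorem D54268 : act 3 n26238 = n54268 := rfl
theorem F85606 : act 7 n54268 = n32281 := d8_2 F43202 D54268 (iv3 D32281)
def n54269 : Q := act 5 n26238
theorem D54269 : act 5 n26238 = n54269 := rfl
theorem F85607 : act 2 n54269 = n32279 := d2_1 D54269 (iv5 D32279) (iv2 F43203)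
theorem F85608 : act 7 n54269 = n32282 := d13_2 F43202 D54269 (iv5 D32282)
theorem F85609 : act 4 n54269 = n39852 := d16_2 (iv4 F43130) D54269 (iv5 D39852) (iv4 D18857) (iv5 F21290) (iv4 F43118) F43119 (iv7 F43199) F43201
def n54270 : Q := act 6 n26238
theorem D54270 : act 6 n26238 = n54270 := rfl
theorem F85610 : act 2 n54270 = n32280 := d3_1 D54270 (iv6 D32280) (iv2 F43203)
theorem F85611 : act 4 n54270 = n28481 := d10_1 D54270 (iv6 D28481) (iv4 F43130)
def n54271 : Q := act 3 n26239
theorem D54271 : act 3 n26239 = n54271 := rfl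
theorem F85612 : act 7 n54271 = n32278 := d8_2 (iv7 F43204) D54271 (iv3 D32278)
def n54272 : Q := act 5 n26239
theorem D54272 : act 5 n26239 = n54272 := rfl
theorem F85613 : act 2 n54272 = n32282 := d2_1 D54272 (iv5 D32282) F43198
theorem F85614 : act 4 n54272 = n39843 := d9_1 D54272 (iv5 D39843) (iv4 D18853) (iv5 F43156) (iv4 F46004) (iv5 D28480) (iv4 F43130) D54269 F85609 (iv5 D39852) (iv4 D18857) (iv5 F21290) (iv4 F43118) F43119 F43127
theorem F85615 : act 7 n54272 = n32279 := d13_2 (iv7 F43204) D54272 (iv5 D32279)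
def n54273 : Q := act 6 n26239
theorem D54273 : act 6 n26239 = n54273 := rfl
theorem F85616 : act 2 n54273 = n32283 := d3_1 D54273 (iv6 D32283) F43198
theorem F85617 : act 4 n54273 = n28483 := d10_1 D54273 (iv6 D28483) F43127
def n54274 : Q := act 0 n26240
theorem D54274 : act 0 n26240 = n54274 := rfl
theorem F85618 : act 5 n54274 = n28680 := d17_3 (iv1 D26239) D26240 D54274 (iv4 D28680) (iv5 D13668) (iv0 D6494) (iv5 F10529) D13576 F43127
theorem F85619 : act 2 n32284 = n54274 := d2_3 F85618 (iv2 F77381) F77383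
theorem F85620 : act 7 n32285 = n54274 := d13_0 F85618 (iv7 F77400) (iv5 F77403)
theorem F85621 : act 4 n39836 = n54274 := d16_2 D18848 D39836 F85618 (iv4 D28680) (iv5 D13668) F43120 D8820 (iv7 F44654) F44653
theorem F85622 : act 0 n54274 = n32287 := d17_0 F51198 (iv1 F41652) D54272 F85614 (iv5 D39843) F45056 D35632 (iv0 F60647) F85621
def n54275 : Q := act 1 n26240
theorem D54275 : act 1 n26240 = n54275 := rfl
theorem F85624 : act 7 n54275 = n32284 := d15_2 (iv0 D54274) D54275 F85619
theorem F85625 : act 2 n32285 = n54275 := d4_3 F85624 F85619 (iv7 F85620)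
theorem F85626 : act 5 n28691 = n54275 := d13_3 F85624 (iv5 F77383) F77382
def n54276 : Q := act 4 n26240
theorem D54276 : act 4 n26240 = n54276 := rfl
theorem F85628 : act 2 n54276 = n32286 := d1_1 D54276 (iv4 D32286) (iv2 F41653)
theorem F85629 : act 5 n54276 = n27885 := d9_2 D26240 D54276 (iv4 D27885) (iv5 D13295) F9815 (iv5 F11535) (iv4 F24826) (iv5 F51198) F51197 (iv5 D18862) (iv4 D8829) (iv5 D3932) (iv4 F4044) (iv5 F9170) (iv4 F20711)
theorem F85630 : act 6 n54276 = n31321 := d10_2 (iv6 F41654) D54276 (iv4 D31321)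
theorem F85631 : act 1 n54276 = n39862 := d18_8 F61313 F60037 F29708 D18848 D39836 F85621 (iv0 D54274) D54276 (iv5 F61312)
theorem F85632 : act 7 n27910 = n54276 := d13_0 F85629 F45019 D27910
def n54277 : Q := act 7 n26240
theorem D54277 : act 7 n26240 = n54277 := rfl
theorem F85635 : act 4 n54277 = n27910 := d11_1 D54277 F85632 (iv4 D54276)
theorem F85636 : act 5 n54277 = n26241 := d13_1 D54277 (iv7 D26241) D26240
theorem F85637 : act 1 n32285 = n54277 := d15_1 D32285 (iv7 D54277) F41653
theorem F85638 : act 1 n54277 = n32284 := d15_1 F85637 (iv7 F85624) (iv2 F85625)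
def n54278 : Q := act 0 n26243
theorem D54278 : act 0 n26243 = n54278 := rfl
theorem F85639 : act 1 n32315 = n54278 := d15_0 (iv0 D54278) F51256 D32315
def n54279 : Q := act 1 n26243
theorem D54279 : act 1 n26243 = n54279 := rfl
def n54280 : Q := act 2 n26243
theorem D54280 : act 2 n26243 = n54280 := rfl
theorem F85640 : act 3 n54280 = n32296 := d0_2 D26243 D54280 (iv2 D32296) (iv3 D15226) (iv2 F51254)
theorem F85641 : act 7 n54280 = n32315 := d4_2 (iv7 F51256) D54280 (iv2 D32315)
theorem F85642 : act 1 n54280 = n32313 := d15_0 (iv0 D32313) (iv7 F51256) D54280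
theorem F85643 : act 1 n54279 = n32315 := d15_1 D54279 (iv7 F85641) (iv2 D54280)
theorem F85644 : act 1 n32314 = n54280 := d15_1 D32314 F85641 (iv2 D32315)
def n54281 : Q := act 4 n26243
theorem D54281 : act 4 n26243 = n54281 := rfl
theorem F85645 : act 7 n54281 = n32316 := d11_2 (iv7 F51256) D54281 (iv4 D32316)
def n54282 : Q := act 5 n26243
theorem D54282 : act 5 n26243 = n54282 := rfl
theorem F85646 : act 3 n54282 = n26245 := d6_1 D54282 (iv5 D26245) D26243
theorem F85647 : act 7 n54282 = n32317 := d13_2 (iv7 F51256) D54282 (iv5 D32317)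
def n54283 : Q := act 6 n26243
theorem D54283 : act 6 n26243 = n54283 := rfl
theorem F85648 : act 3 n54283 = n26246 := d7_1 D54283 (iv6 D26246) D26243
def n54284 : Q := act 3 n26244
theorem D54284 : act 3 n26244 = n54284 := rfl
theorem F85649 : act 7 n54284 = n32319 := d8_2 (iv7 F51258) D54284 (iv3 D32319)
def n54285 : Q := act 5 n26244
theorem D54285 : act 5 n26244 = n54285 := rfl
theorem F85650 : act 2 n54285 = n32303 := d2_1 D54285 (iv5 D32303) (iv2 F51257)
theorem F85651 : act 7 n54285 = n32320 := d13_2 (iv7 F51258) D54285 (iv5 D32320)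
theorem F85652 : act 4 n54285 = n39857 := d16_2 D26244 D54285 (iv5 D39857) (iv4 F41676) (iv5 F28744) F41666 (iv5 D26250) (iv7 F51253) (iv2 F51254)
def n54286 : Q := act 6 n26244
theorem D54286 : act 6 n26244 = n54286 := rfl
theorem F85653 : act 2 n54286 = n32304 := d3_1 D54286 (iv6 D32304) (iv2 F51257)
theorem F85654 : act 4 n54286 = n26246 := d10_1 D54286 (iv6 D26246) D26244
def n54287 : Q := act 6 n26245
theorem D54287 : act 6 n26245 = n54287 := rfl
theorem F85655 : act 2 n54287 = n32307 := d3_1 D54287 (iv6 D32307) (iv2 F51259)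
theorem F85656 : act 4 n54287 = n27206 := d10_1 D54287 (iv6 F43987) F41674
theorem F85657 : act 7 n54287 = n26811 := d14_2 (iv7 F51260) D54287 (iv6 D26811) (iv7 F51246) F24829
theorem F85658 : act 0 n54287 = n26408 := d21_4 (iv5 F9170) D12442 D26245 D54287 (iv6 D26408) D26407 F42749 (iv5 D26678) (iv6 D12743) (iv1 D6024)
theorem F85659 : act 5 n54287 = n33856 := d21_6 D18699 F30361 (iv5 D16090) D16091 (iv1 F41663) D54287 (iv1 D33856) (iv5 D16366) D16367 F42337
theorem F85660 : act 0 n33154 = n54287 := d21_4 D8769 (iv1 F29948) D39418 (iv6 F60351) (iv6 D54287) (iv5 D26245) (iv1 F20715) F11535 (iv6 F9808) (iv1 F9810)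
def n54288 : Q := act 1 n26246
theorem D54288 : act 1 n26246 = n54288 := rfl
theorem F85661 : act 1 n54288 = n32312 := d15_1 D54288 (iv7 D32312) (iv2 F51261)
def n54289 : Q := act 5 n26246
theorem D54289 : act 5 n26246 = n54289 := rfl
theorem F85662 : act 2 n54289 = n32311 := d2_1 D54289 (iv5 D32311) (iv2 F51261)
theorem F85663 : act 6 n54289 = n33856 := d12_2 D26246 D54289 (iv5 F85659) (iv6 D54287) (iv5 D26245)
theorem F85664 : act 0 n54289 = n26322 := d21_7 (iv5 D5906) (iv1 D2496) D2498 D5916 D12442 D26246 D54289 F41975 (iv6 D14857) F11327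
theorem F85665 : act 0 n32740 = n54289 := d21_7 F11535 (iv1 F9356) D12742 D26676 (iv1 F50360) (iv6 F50336) (iv5 F51825) (iv5 D54289) (iv6 D26246) (iv1 F20715)
def n54290 : Q := act 7 n26246
theorem D54290 : act 7 n26246 = n54290 := rfl
theorem F85666 : act 2 n54290 = n32312 := d4_1 D54290 (iv7 D32312) (iv2 F51261)
theorem F85667 : act 6 n54290 = n32325 := d14_1 D54290 (iv7 D32325) (iv6 D15234) (iv7 F51255) D26246
theorem F85668 : act 1 n32312 = n54252 := d15_0 (iv0 F85597) D54290 F85666
theorem F85669 : act 1 n32310 = n54290 := d15_1 D32310 (iv7 D54290) F51261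
theorem F85670 : act 1 n54290 = n32309 := d15_0 (iv0 D32309) D32312 (iv2 F85666)
def n54291 : Q := act 0 n26248
theorem D54291 : act 0 n26248 = n54291 := rfl
theorem F85671 : act 1 n32296 = n54291 := d15_0 (iv0 D54291) F51250 D32296
def n54292 : Q := act 1 n26248
theorem D54292 : act 1 n26248 = n54292 := rfl
def n54293 : Q := act 2 n26248
theorem D54293 : act 2 n26248 = n54293 := rfl
theorem F85672 : act 3 n54293 = n32315 := d0_2 D26248 D54293 (iv2 D32315) (iv3 D15231) F51249
theorem F85673 : act 7 n54293 = n32296 := d4_2 (iv7 F51250) D54293 (iv2 D32296)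
theorem F85674 : act 1 n54293 = n32294 := d15_0 (iv0 D32294) (iv7 F51250) D54293
theorem F85675 : act 1 n54292 = n32296 := d15_1 D54292 (iv7 F85673) (iv2 D54293)
theorem F85676 : act 1 n32295 = n54293 := d15_1 D32295 F85673 (iv2 D32296)
def n54294 : Q := act 4 n26248
theorem D54294 : act 4 n26248 = n54294 := rfl
theorem F85677 : act 7 n54294 = n32297 := d11_2 (iv7 F51250) D54294 (iv4 D32297)
def n54295 : Q := act 5 n26248
theorem D54295 : act 5 n26248 = n54295 := rfl
theorem F85678 : act 3 n54295 = n26250 := d6_1 D54295 (iv5 D26250) D26248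
theorem F85679 : act 7 n54295 = n32298 := d13_2 (iv7 F51250) D54295 (iv5 D32298)
theorem F85680 : act 6 n26806 = n54295 := d7_0 F85678 F41665 D26806
def n54296 : Q := act 6 n26248
theorem D54296 : act 6 n26248 = n54296 := rfl
theorem F85681 : act 3 n54296 = n26251 := d7_1 D54296 (iv6 D26251) D26248
def n54297 : Q := act 3 n26249
theorem D54297 : act 3 n26249 = n54297 := rfl
theorem F85682 : act 7 n54297 = n32302 := d8_2 (iv7 F51252) D54297 (iv3 D32302)
def n54298 : Q := act 5 n26249
theorem D54298 : act 5 n26249 = n54298 := rfl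
theorem F85684 : act 4 n54298 = n39854 := d9_1 D54298 (iv5 D39854) F41677 (iv5 F28838) F41674 (iv5 D26245) D26244 D54285 F85652 (iv5 D39857) (iv4 F41676) (iv5 F28744) F41666 (iv5 D26250) D26249
theorem F85685 : act 7 n54298 = n32303 := d13_2 (iv7 F51252) D54298 (iv5 D32303)
def n54299 : Q := act 6 n26249
theorem D54299 : act 6 n26249 = n54299 := rfl
theorem F85686 : act 2 n54299 = n32321 := d3_1 D54299 (iv6 D32321) (iv2 F51251)
theorem F85687 : act 4 n54299 = n26251 := d10_1 D54299 (iv6 D26251) D26249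
def n54300 : Q := act 0 n26251
theorem D54300 : act 0 n26251 = n54300 := rfl
theorem F85688 : act 5 n54300 = n31997 := d21_0 (iv1 F85293) F85289 F41458 (iv1 F41520) F53265 D33918 F53268 (iv5 D26250) D26251 D54300
def n54301 : Q := act 1 n26251
theorem D54301 : act 1 n26251 = n54301 := rfl
theorem F85689 : act 1 n54301 = n32325 := d15_1 D54301 (iv7 D32325) (iv2 F51330)
def n54302 : Q := act 5 n26251
theorem D54302 : act 5 n26251 = n54302 := rfl
theorem F85690 : act 2 n54302 = n32324 := d2_1 D54302 (iv5 D32324) (iv2 F51330)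
theorem F85691 : act 6 n54302 = n26807 := d12_2 D26251 D54302 (iv5 D26807) (iv6 F41665) (iv5 D26250)
theorem F85692 : act 0 n54052 = n54302 := d21_1 D54052 (iv5 D54302) (iv6 D26251) (iv1 D12443) (iv6 D5916) (iv5 D2498) D2495 D5903 D12404 D26147
theorem F85693 : act 0 n54302 = n54057 := d21_10 (iv5 D54057) (iv1 D26148) D26149 F41456 F20662 (iv6 F21282) (iv5 D12824) D12822 D26807 (iv6 F85691)
def n54303 : Q := act 7 n26251
theorem D54303 : act 7 n26251 = n54303 := rfl
theorem F85694 : act 2 n54303 = n32325 := d4_1 D54303 (iv7 D32325) (iv2 F51330)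
theorem F85695 : act 6 n54303 = n32312 := d14_1 D54303 (iv7 D32312) (iv6 D15229) F51253 D26251
theorem F85696 : act 1 n32325 = n54300 := d15_0 (iv0 D54300) D54303 F85694
theorem F85697 : act 1 n32323 = n54303 := d15_1 D32323 (iv7 D54303) F51330
theorem F85698 : act 1 n54303 = n32322 := d15_0 (iv0 D32322) D32325 (iv2 F85694)
def n54304 : Q := act 2 n26253
theorem D54304 : act 2 n26253 = n54304 := rfl
theorem F85699 : act 7 n26254 = n54304 := d15_2 (iv0 D26253) D26254 (iv2 D54304)
def n54305 : Q := act 3 n26253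
theorem D54305 : act 3 n26253 = n54305 := rfl
def n54306 : Q := act 4 n26253
theorem D54306 : act 4 n26253 = n54306 := rfl
def n54307 : Q := act 5 n26253
theorem D54307 : act 5 n26253 = n54307 := rfl
def n54308 : Q := act 6 n26253
theorem D54308 : act 6 n26253 = n54308 := rfl
theorem F85700 : act 5 n54308 = n29584 := d21_6 (iv5 D3308) (iv1 F3947) (iv5 F9173) D12445 D26253 D54308 (iv1 D29584) (iv5 F24711) (iv6 D15087) (iv1 D7173)
def n54309 : Q := act 7 n26253
theorem D54309 : act 7 n26253 = n54309 := rfl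
theorem F85701 : act 2 n54309 = n26254 := d4_1 D54309 F85699 (iv2 D54304)
def n54310 : Q := act 3 n26254
theorem D54310 : act 3 n26254 = n54310 := rfl
def n54311 : Q := act 4 n26254
theorem D54311 : act 4 n26254 = n54311 := rfl
def n54312 : Q := act 5 n26254
theorem D54312 : act 5 n26254 = n54312 := rfl
def n54313 : Q := act 6 n26254
theorem D54313 : act 6 n26254 = n54313 := rfl
def n54314 : Q := act 0 n26255
theorem D54314 : act 0 n26255 = n54314 := rfl
theorem F85702 : act 1 n27826 = n54314 := d15_0 (iv0 D54314) F41688 (iv2 F44938)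
def n54315 : Q := act 1 n26255
theorem D54315 : act 1 n26255 = n54315 := rfl
theorem F85703 : act 1 n54315 = n27826 := d15_1 D54315 F44940 (iv2 F41686)
def n54316 : Q := act 3 n26256
theorem D54316 : act 3 n26256 = n54316 := rfl
theorem F85704 : act 2 n54316 = n27702 := d0_1 D54316 (iv3 D27702) F22024 (iv3 F20770) (iv2 F41689)
theorem F85705 : act 4 n54316 = n32463 := d5_2 D26256 D54316 (iv3 D32463) (iv4 D15364) (iv3 F20762)
theorem F85706 : act 5 n54316 = n26280 := d6_2 (iv5 F41690) D54316 (iv3 D26280)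
theorem F85707 : act 7 n54316 = n26320 := d8_2 (iv7 F41691) D54316 (iv3 D26320)
theorem F85708 : act 0 n54316 = n38889 := d20_10 (iv4 F59922) (iv1 F59423) D46540 F73534 F61044 (iv3 D32675) (iv4 D15561) (iv1 F20765) D26256 D54316
theorem F85709 : act 1 n54316 = n38888 := d15_1 (iv0 F85708) (iv7 F74234) F74241
def n54317 : Q := act 6 n26256
theorem D54317 : act 6 n26256 = n54317 := rfl
theorem F85710 : act 2 n54317 = n26264 := d3_1 D54317 (iv6 D26264) (iv2 F41689)
theorem F85711 : act 4 n54317 = n26257 := d10_1 D54317 (iv6 D26257) D26256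
def n54318 : Q := act 0 n26257
theorem D54318 : act 0 n26257 = n54318 := rfl
def n54319 : Q := act 1 n26257
theorem D54319 : act 1 n26257 = n54319 := rfl
theorem F85712 : act 1 n54319 = n26268 := d15_1 D54319 (iv7 D26268) (iv2 F41694)
def n54320 : Q := act 7 n26257
theorem D54320 : act 7 n26257 = n54320 := rfl
theorem F85713 : act 2 n54320 = n26268 := d4_1 D54320 (iv7 D26268) (iv2 F41694)
theorem F85714 : act 3 n54320 = n32468 := d8_1 D54320 (iv7 D32468) (iv3 F41695)
theorem F85715 : act 5 n54320 = n32547 := d13_1 D54320 F51616 (iv5 F41696)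
theorem F85716 : act 6 n54320 = n26319 := d14_1 D54320 (iv7 D26319) F20843 (iv7 F26414) D26257
theorem F85717 : act 1 n26268 = n54318 := d15_0 (iv0 D54318) D54320 F85713
theorem F85718 : act 1 n26266 = n54320 := d15_1 D26266 (iv7 D54320) F41694
theorem F85719 : act 1 n54320 = n26265 := d15_0 (iv0 D26265) D26268 (iv2 F85713)
def n54321 : Q := act 6 n26258
theorem D54321 : act 6 n26258 = n54321 := rfl
theorem F85720 : act 3 n54321 = n26259 := d7_1 D54321 (iv6 D26259) D26258
theorem F85721 : act 5 n54321 = n32921 := d12_1 D54321 (iv6 D32921) (iv5 D15852) (iv6 F26439) (iv5 F41697)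
def n54322 : Q := act 0 n26259
theorem D54322 : act 0 n26259 = n54322 := rfl
def n54323 : Q := act 1 n26259
theorem D54323 : act 1 n26259 = n54323 := rfl
theorem F85722 : act 1 n54323 = n32685 := d15_1 D54323 (iv7 D32685) (iv2 F41699)
def n54324 : Q := act 7 n26259
theorem D54324 : act 7 n26259 = n54324 := rfl
theorem F85723 : act 2 n54324 = n32685 := d4_1 D54324 (iv7 D32685) (iv2 F41699)
theorem F85724 : act 5 n54324 = n32927 := d13_1 D54324 (iv7 D32927) (iv5 F41700)
theorem F85725 : act 6 n54324 = n32679 := d14_1 D54324 (iv7 D32679) (iv6 D15563) (iv7 F26442) D26259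
theorem F85726 : act 1 n32685 = n54322 := d15_0 (iv0 D54322) D54324 F85723
theorem F85727 : act 1 n32684 = n54324 := d15_1 D32684 (iv7 D54324) F41699
theorem F85728 : act 1 n54324 = n32683 := d15_0 (iv0 D32683) D32685 (iv2 F85723)
def n54325 : Q := act 6 n26260
theorem D54325 : act 6 n26260 = n54325 := rfl
theorem F85729 : act 3 n54325 = n26261 := d7_1 D54325 (iv6 D26261) D26260
def n54326 : Q := act 0 n26261
theorem D54326 : act 0 n26261 = n54326 := rfl
def n54327 : Q := act 1 n26261
theorem D54327 : act 1 n26261 = n54327 := rfl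
theorem F85730 : act 1 n54327 = n32679 := d15_1 D54327 (iv7 D32679) (iv2 F41704)
def n54328 : Q := act 7 n26261
theorem D54328 : act 7 n26261 = n54328 := rfl
theorem F85731 : act 2 n54328 = n32679 := d4_1 D54328 (iv7 D32679) (iv2 F41704)
theorem F85732 : act 6 n54328 = n32685 := d14_1 D54328 (iv7 D32685) (iv6 D15568) (iv7 F26446) D26261
theorem F85733 : act 1 n32679 = n54326 := d15_0 (iv0 D54326) D54328 F85731
theorem F85734 : act 1 n32678 = n54328 := d15_1 D32678 (iv7 D54328) F41704
theorem F85735 : act 1 n54328 = n32677 := d15_0 (iv0 D32677) D32679 (iv2 F85731)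
def n54329 : Q := act 3 n26262
theorem D54329 : act 3 n26262 = n54329 := rfl
theorem F85736 : act 5 n54329 = n32629 := d6_2 (iv5 F41705) D54329 (iv3 D32629)
theorem F85737 : act 7 n54329 = n32686 := d8_2 F41709 D54329 (iv3 D32686)
def n54330 : Q := act 6 n26262
theorem D54330 : act 6 n26262 = n54330 := rfl
theorem F85738 : act 2 n54330 = n32689 := d3_1 D54330 (iv6 D32689) F41708
theorem F85739 : act 4 n54330 = n27016 := d10_1 D54330 (iv6 D27016) (iv4 F41706)
def n54331 : Q := act 6 n26263
theorem D54331 : act 6 n26263 = n54331 := rfl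
theorem F85740 : act 2 n54331 = n32687 := d3_1 D54331 (iv6 D32687) F41714
theorem F85741 : act 4 n54331 = n27015 := d10_1 D54331 (iv6 D27015) (iv4 F41713)
def n54332 : Q := act 0 n26264
theorem D54332 : act 0 n26264 = n54332 := rfl
def n54333 : Q := act 1 n26264
theorem D54333 : act 1 n26264 = n54333 := rfl
def n54334 : Q := act 5 n26264
theorem D54334 : act 5 n26264 = n54334 := rfl
theorem F85742 : act 3 n54334 = n27711 := d6_1 D54334 (iv5 D27711) (iv3 F41715)
theorem F85743 : act 6 n54334 = n32545 := d12_2 D26264 D54334 (iv5 D32545) F24966 (iv5 F26418)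
def n54335 : Q := act 7 n26264
theorem D54335 : act 7 n26264 = n54335 := rfl
theorem F85744 : act 3 n54335 = n27712 := d8_1 D54335 (iv7 D27712) (iv3 F41715)
theorem F85745 : act 4 n54335 = n26268 := d11_1 D54335 (iv7 D26268) (iv4 F41716)
theorem F85746 : act 6 n54335 = n32693 := d14_1 D54335 (iv7 D32693) (iv6 D15572) (iv7 F20771) D26264
def n54336 : Q := act 2 n26265
theorem D54336 : act 2 n26265 = n54336 := rfl
theorem F85747 : act 7 n26266 = n54336 := d15_2 (iv0 D26265) D26266 (iv2 D54336)
def n54337 : Q := act 3 n26265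
theorem D54337 : act 3 n26265 = n54337 := rfl
def n54338 : Q := act 4 n26265
theorem D54338 : act 4 n26265 = n54338 := rfl
def n54339 : Q := act 5 n26265
theorem D54339 : act 5 n26265 = n54339 := rfl
def n54340 : Q := act 6 n26265
theorem D54340 : act 6 n26265 = n54340 := rfl
theorem F85748 : act 5 n54340 = n34255 := d21_6 (iv5 F26514) F26363 D5928 D12474 D26265 D54340 (iv1 D34255) (iv5 F41978) (iv6 D26323) (iv1 F20891)
theorem F85749 : act 0 n32718 = n26326 := d21_10 (iv5 F47810) (iv1 F53909) (iv5 F85748) (iv6 D54340) (iv1 F85719) F85716 F41938 (iv1 F20848) D15599 D32718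
def n54341 : Q := act 7 n26265
theorem D54341 : act 7 n26265 = n54341 := rfl
theorem F85750 : act 2 n54341 = n26266 := d4_1 D54341 F85747 (iv2 D54336)
def n54342 : Q := act 3 n26266
theorem D54342 : act 3 n26266 = n54342 := rfl
def n54343 : Q := act 4 n26266
theorem D54343 : act 4 n26266 = n54343 := rfl
def n54344 : Q := act 5 n26266
theorem D54344 : act 5 n26266 = n54344 := rfl
theorem F85751 : act 6 n54344 = n54027 := d21_9 F50216 (iv1 F41404) D54026 F85231 (iv1 F41769) D32547 (iv5 F85715) (iv1 F85718) D54344 (iv1 F85237)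
def n54345 : Q := act 6 n26266
theorem D54345 : act 6 n26266 = n54345 := rfl
def n54346 : Q := act 0 n26267
theorem D54346 : act 0 n26267 = n54346 := rfl
def n54347 : Q := act 1 n26267
theorem D54347 : act 1 n26267 = n54347 := rfl
theorem F85752 : act 1 n54347 = n32547 := d15_1 D54347 F51616 (iv2 F41717)
def n54348 : Q := act 4 n26267
theorem D54348 : act 4 n26267 = n54348 := rfl
theorem F85753 : act 2 n54348 = n32615 := d1_1 D54348 F51668 (iv2 F41717)
theorem F85754 : act 6 n54348 = n26269 := d10_2 (iv6 F41719) D54348 (iv4 D26269)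
def n54349 : Q := act 7 n26267
theorem D54349 : act 7 n26267 = n54349 := rfl
theorem F85755 : act 2 n54349 = n32547 := d4_1 D54349 F51616 (iv2 F41717)
theorem F85756 : act 3 n54349 = n26273 := d8_1 D54349 (iv7 D26273) (iv3 F41718)
theorem F85757 : act 5 n54349 = n26268 := d13_1 D54349 (iv7 D26268) D26267
theorem F85758 : act 6 n54349 = n26273 := d14_1 D54349 (iv7 D26273) F20778 (iv7 F26340) (iv6 F41719)
theorem F85759 : act 1 n32547 = n54346 := d15_0 (iv0 D54346) D54349 F85755
theorem F85760 : act 1 n32617 = n54349 := d15_1 D32617 (iv7 D54349) F41717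
theorem F85761 : act 1 n54349 = n32616 := d15_0 (iv0 D32616) (iv7 F51616) (iv2 F85755)
def n54350 : Q := act 3 n26270
theorem D54350 : act 3 n26270 = n54350 := rfl
theorem F85762 : act 7 n54350 = n32540 := d8_2 (iv7 F41809) D54350 (iv3 D32540)
def n54351 : Q := act 3 n26271
theorem D54351 : act 3 n26271 = n54351 := rfl
theorem F85763 : act 5 n54351 = n36742 := d6_2 F41728 D54351 F57623
theorem F85764 : act 7 n54351 = n32537 := d8_2 F41811 D54351 (iv3 D32537)
def n54352 : Q := act 6 n26271
theorem D54352 : act 6 n26271 = n54352 := rfl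
theorem F85766 : act 5 n54352 = n36745 := d12_1 D54352 (iv6 D36745) (iv5 D17712) D17713 F41728
def n54353 : Q := act 0 n26272
theorem D54353 : act 0 n26272 = n54353 := rfl
theorem F85767 : act 4 n54353 = n26625 := d18_3 (iv1 D26271) D26272 D54353 (iv5 F52550) F52549 F29887 (iv4 F51488) F51602 F41728
theorem F85768 : act 2 n32543 = n54353 := d1_3 F85767 F42665 (iv4 F53149)
theorem F85769 : act 7 n32544 = n54353 := d11_0 F85767 F42664 (iv4 F51614)
theorem F85770 : act 1 n32546 = n54353 := d18_6 D12721 F42637 (iv1 F9792) (iv4 F11579) (iv5 F24967) (iv4 F51615) F85767 (iv0 D26625) (iv5 D12723)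
def n54354 : Q := act 1 n26272
theorem D54354 : act 1 n26272 = n54354 := rfl
theorem F85771 : act 1 n54354 = n32546 := d15_1 D54354 (iv7 D32546) (iv2 F41765)
theorem F85772 : act 7 n54354 = n32543 := d15_2 (iv0 D54353) D54354 F85768
theorem F85773 : act 4 n54354 = n26626 := d18_7 (iv1 F21118) F42641 (iv1 D6289) (iv4 F9204) D12481 D26272 D54354 F42655 F25854
theorem F85774 : act 2 n32544 = n54354 := d1_3 F85773 F42657 (iv4 F51614)
def n54355 : Q := act 3 n26272
theorem D54355 : act 3 n26272 = n54355 := rfl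
theorem F85775 : act 2 n54355 = n47810 := d0_1 D54355 F75107 (iv2 F44722) F44723 (iv2 F41765)
theorem F85776 : act 6 n54355 = n26280 := d7_2 (iv6 F41766) D54355 (iv3 D26280)
def n54356 : Q := act 5 n26272
theorem D54356 : act 5 n26272 = n54356 := rfl
theorem F85777 : act 2 n54356 = n32545 := d2_1 D54356 (iv5 D32545) (iv2 F41765)
theorem F85778 : act 4 n54356 = n39270 := d16_2 D26272 D54356 F60234 F29900 F13641 (iv4 F11579) (iv5 F24967) (iv7 D15412) (iv2 F20777)
theorem F85779 : act 7 n39268 = n54356 := d11_0 F85778 (iv7 D39270) D39268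
def n54357 : Q := act 7 n26272
theorem D54357 : act 7 n26272 = n54357 := rfl
theorem F85781 : act 4 n54357 = n26273 := d11_1 D54357 (iv7 D26273) D26272
theorem F85782 : act 5 n54357 = n39268 := d13_1 D54357 F85779 (iv5 D54356)
theorem F85783 : act 1 n32544 = n54357 := d15_1 D32544 (iv7 D54357) F41765
theorem F85784 : act 1 n54357 = n32543 := d15_1 F85783 (iv7 F85772) (iv2 F85774)
def n54358 : Q := act 2 n26274
theorem D54358 : act 2 n26274 = n54358 := rfl
theorem F85785 : act 3 n54358 = n32593 := d0_2 D26274 D54358 (iv2 D32593) (iv3 D15429) F20786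
theorem F85786 : act 5 n54358 = n31917 := d2_2 (iv5 F41813) D54358 (iv2 D31917)
theorem F85787 : act 7 n54358 = n32603 := d4_2 (iv7 F41814) D54358 (iv2 D32603)
theorem F85788 : act 1 n54358 = n32409 := d15_0 F54244 (iv7 F41814) D54358
theorem F85789 : act 1 n32572 = n54358 := d15_0 F85788 (iv7 F55703) F55701
def n54359 : Q := act 6 n26274
theorem D54359 : act 6 n26274 = n54359 := rfl
theorem F85790 : act 3 n54359 = n26275 := d7_1 D54359 (iv6 D26275) D26274
def n54360 : Q := act 0 n26275
theorem D54360 : act 0 n26275 = n54360 := rfl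
def n54361 : Q := act 1 n26275
theorem D54361 : act 1 n26275 = n54361 := rfl
theorem F85791 : act 1 n54361 = n32600 := d15_1 D54361 (iv7 D32600) (iv2 F41815)
def n54362 : Q := act 7 n26275
theorem D54362 : act 7 n26275 = n54362 := rfl
theorem F85792 : act 2 n54362 = n32600 := d4_1 D54362 (iv7 D32600) (iv2 F41815)
theorem F85793 : act 6 n54362 = n32610 := d14_1 D54362 (iv7 D32610) (iv6 D15434) F20787 D26275
theorem F85794 : act 1 n32600 = n54360 := d15_0 (iv0 D54360) D54362 F85792
theorem F85795 : act 1 n32599 = n54362 := d15_1 D32599 (iv7 D54362) F41815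
theorem F85796 : act 1 n54362 = n32598 := d15_0 (iv0 D32598) D32600 (iv2 F85792)
def n54363 : Q := act 2 n26276
theorem D54363 : act 2 n26276 = n54363 := rfl
theorem F85797 : act 3 n54363 = n32603 := d0_2 D26276 D54363 (iv2 D32603) (iv3 D15432) F20792
theorem F85798 : act 4 n54363 = n49132 := d1_2 F54360 D54363 (iv2 F77583)
theorem F85799 : act 5 n54363 = n28434 := d2_2 (iv5 F41816) D54363 F54182
theorem F85800 : act 7 n54363 = n32593 := d4_2 (iv7 F41817) D54363 (iv2 D32593)
theorem F85801 : act 1 n54363 = n32549 := d15_0 F54165 (iv7 F41817) D54363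
theorem F85802 : act 1 n32383 = n54363 := d15_0 F85801 F54163 F53370
def n54364 : Q := act 6 n26276
theorem D54364 : act 6 n26276 = n54364 := rfl
theorem F85803 : act 3 n54364 = n26277 := d7_1 D54364 (iv6 D26277) D26276
theorem F85804 : act 4 n54364 = n49134 := d10_1 D54364 (iv6 D49134) F54360
theorem F85805 : act 5 n54364 = n29174 := d12_1 D54364 (iv6 D29174) (iv5 D13881) D13882 (iv5 F41816)
def n54365 : Q := act 0 n26277
theorem D54365 : act 0 n26277 = n54365 := rfl
def n54366 : Q := act 1 n26277
theorem D54366 : act 1 n26277 = n54366 := rfl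
theorem F85806 : act 1 n54366 = n32610 := d15_1 D54366 (iv7 D32610) (iv2 F41818)
def n54367 : Q := act 7 n26277
theorem D54367 : act 7 n26277 = n54367 := rfl
theorem F85807 : act 2 n54367 = n32610 := d4_1 D54367 (iv7 D32610) (iv2 F41818)
theorem F85808 : act 5 n54367 = n29182 := d13_1 D54367 (iv7 D29182) (iv5 F41819)
theorem F85809 : act 6 n54367 = n32600 := d14_1 D54367 (iv7 D32600) (iv6 D15431) (iv7 F20790) D26277
theorem F85810 : act 1 n32610 = n54365 := d15_0 (iv0 D54365) D54367 F85807
theorem F85812 : act 1 n54367 = n32608 := d15_0 (iv0 D32608) D32610 (iv2 F85807)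
def n54368 : Q := act 6 n26278
theorem D54368 : act 6 n26278 = n54368 := rfl
theorem F85813 : act 2 n54368 = n32612 := d3_1 D54368 (iv6 D32612) F41824
theorem F85814 : act 3 n54368 = n52932 := d7_1 D54368 (iv6 D52932) F41823
theorem F85815 : act 4 n54368 = n26863 := d10_1 D54368 (iv6 D26863) (iv4 F41821)
def n54369 : Q := act 3 n26279
theorem D54369 : act 3 n26279 = n54369 := rfl
theorem F85816 : act 2 n54369 = n52940 := d0_1 D54369 (iv3 D52940) (iv2 F51665) (iv3 D32613) F41830
theorem F85817 : act 5 n54369 = n32727 := d6_2 (iv5 F41828) D54369 (iv3 D32727)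
theorem F85818 : act 7 n54369 = n32611 := d8_2 (iv7 F41827) D54369 (iv3 D32611)
def n54370 : Q := act 6 n26279
theorem D54370 : act 6 n26279 = n54370 := rfl
theorem F85819 : act 2 n54370 = n32614 := d3_1 D54370 (iv6 D32614) F41830
theorem F85820 : act 4 n54370 = n26864 := d10_1 D54370 (iv6 D26864) (iv4 F41829)
def n54371 : Q := act 6 n26284
theorem D54371 : act 6 n26284 = n54371 := rfl
theorem F85821 : act 3 n54371 = n26286 := d7_1 D54371 (iv6 D26286) (iv3 F41842)
theorem F85822 : act 4 n54371 = n52877 := d10_1 D54371 (iv6 D52877) (iv4 F41849)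
def n54372 : Q := act 6 n26285
theorem D54372 : act 6 n26285 = n54372 := rfl
theorem F85823 : act 2 n54372 = n32630 := d3_1 D54372 (iv6 D32630) (iv2 F41844)
theorem F85824 : act 3 n54372 = n52889 := d7_1 D54372 (iv6 D52889) F41848
theorem F85825 : act 4 n54372 = n26286 := d10_1 D54372 (iv6 D26286) D26285
def n54373 : Q := act 0 n26286
theorem D54373 : act 0 n26286 = n54373 := rfl
def n54374 : Q := act 1 n26286
theorem D54374 : act 1 n26286 = n54374 := rfl
theorem F85826 : act 1 n54374 = n32633 := d15_1 D54374 (iv7 D32633) (iv2 F41851)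
def n54375 : Q := act 7 n26286
theorem D54375 : act 7 n26286 = n54375 := rfl
theorem F85827 : act 2 n54375 = n32633 := d4_1 D54375 (iv7 D32633) (iv2 F41851)
theorem F85828 : act 6 n54375 = n32654 := d14_1 D54375 (iv7 D32654) (iv6 D15458) (iv7 F20801) D26286
theorem F85829 : act 1 n32633 = n54373 := d15_0 (iv0 D54373) D54375 F85827
theorem F85830 : act 1 n32632 = n54375 := d15_1 D32632 (iv7 D54375) F41851
theorem F85831 : act 1 n54375 = n32631 := d15_0 (iv0 D32631) D32633 (iv2 F85827)
def n54376 : Q := act 4 n26288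
theorem D54376 : act 4 n26288 = n54376 := rfl
theorem F85832 : act 7 n54376 = n32624 := d11_2 (iv7 F41857) D54376 (iv4 D32624)
def n54377 : Q := act 6 n26288
theorem D54377 : act 6 n26288 = n54377 := rfl
theorem F85833 : act 3 n54377 = n26291 := d7_1 D54377 (iv6 D26291) (iv3 F41856)
def n54378 : Q := act 3 n26290
theorem D54378 : act 3 n26290 = n54378 := rfl
theorem F85834 : act 2 n54378 = n52907 := d0_1 D54378 (iv3 D52907) F51714 (iv3 D32649) (iv2 F41860)
theorem F85835 : act 5 n54378 = n32686 := d6_2 (iv5 F41861) D54378 (iv3 D32686)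
theorem F85836 : act 7 n54378 = n32629 := d8_2 (iv7 F41862) D54378 (iv3 D32629)
def n54379 : Q := act 6 n26290
theorem D54379 : act 6 n26290 = n54379 := rfl
theorem F85837 : act 2 n54379 = n32650 := d3_1 D54379 (iv6 D32650) (iv2 F41860)
theorem F85838 : act 4 n54379 = n26291 := d10_1 D54379 (iv6 D26291) D26290
def n54380 : Q := act 0 n26291
theorem D54380 : act 0 n26291 = n54380 := rfl
def n54381 : Q := act 1 n26291
theorem D54381 : act 1 n26291 = n54381 := rfl
theorem F85839 : act 1 n54381 = n32654 := d15_1 D54381 (iv7 D32654) (iv2 F41864)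
theorem F85840 : act 5 n27816 = n54381 := d21_6 (iv5 D7622) (iv1 D3458) D3459 (iv6 F9805) D13273 D27816 (iv1 D54381) (iv5 F53314) (iv6 D33974) (iv1 F25905)
theorem F85841 : act 2 n54381 = n32652 := d2_1 F85840 (iv5 F51717) F51313
def n54382 : Q := act 7 n26291
theorem D54382 : act 7 n26291 = n54382 := rfl
theorem F85842 : act 2 n54382 = n32654 := d4_1 D54382 (iv7 D32654) (iv2 F41864)
theorem F85843 : act 6 n54382 = n32633 := d14_1 D54382 (iv7 D32633) (iv6 D15450) (iv7 F20811) D26291
theorem F85844 : act 1 n32654 = n54380 := d15_0 (iv0 D54380) D54382 F85842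
theorem F85845 : act 1 n32652 = n54382 := d15_1 D32652 (iv7 D54382) F41864
theorem F85846 : act 7 n54380 = n32652 := d15_2 F85839 F85844 (iv2 F85841)
theorem F85847 : act 5 n39473 = n54380 := d13_3 F85846 (iv5 F51717) D39473
theorem F85848 : act 2 n54380 = n32651 := d15_3 (iv0 D32651) D32652 (iv7 F85846)
theorem F85849 : act 7 n32651 = n54381 := d4_2 (iv7 F85846) F85848 F85841
theorem F85850 : act 1 n54382 = n32651 := d15_1 F85845 F85849 F85841
def n54383 : Q := act 6 n26294
theorem D54383 : act 6 n26294 = n54383 := rfl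
theorem F85851 : act 2 n54383 = n32454 := d3_1 D54383 (iv6 D32454) (iv2 F41873)
theorem F85852 : act 4 n54383 = n32769 := d10_1 D54383 (iv6 D32769) (iv4 F41874)
def n54384 : Q := act 5 n26295
theorem D54384 : act 5 n26295 = n54384 := rfl
theorem F85853 : act 2 n54384 = n32456 := d2_1 D54384 (iv5 D32456) (iv2 F41878)
theorem F85854 : act 3 n54384 = n33048 := d6_1 D54384 (iv5 F52260) F43648
theorem F85855 : act 7 n54384 = n33135 := d13_2 F53943 D54384 F53948
theorem F85856 : act 0 n54384 = n33363 := d17_2 (iv1 F50490) D54384 (iv5 D33363) (iv4 F25674) D33411 (iv0 F52671) (iv5 D32456) (iv0 F50648) F46757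
theorem F85857 : act 1 n54384 = n34320 := d17_6 (iv1 F26599) (iv5 F38254) (iv1 F38256) (iv5 F26968) (iv4 F41879) D54384 F54474 (iv0 D29221) (iv4 D13897)
theorem F85858 : act 4 n54384 = n29260 := d18_5 (iv1 F50481) F11385 F50484 (iv4 F41879) D54384 F79183 (iv4 D50037) F38257 F50482
def n54385 : Q := act 3 n26305
theorem D54385 : act 3 n26305 = n54385 := rfl
theorem F85859 : act 2 n54385 = n27651 := d0_1 D54385 (iv3 D27651) F21986 (iv3 F20834) (iv2 F41909)
theorem F85860 : act 4 n54385 = n26320 := d5_2 D26305 D54385 (iv3 D26320) (iv4 D12519) (iv3 F26468)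
theorem F85861 : act 5 n54385 = n46686 := d6_2 (iv5 F41911) D54385 F73790
theorem F85862 : act 7 n54385 = n32463 := d8_2 (iv7 F41910) D54385 (iv3 D32463)
theorem F85863 : act 0 n39082 = n54385 := d20_4 F64248 (iv1 F57403) D38492 (iv3 F60086) (iv3 D54385) (iv4 D26305) (iv1 F20827) D15375 (iv3 F35287) (iv1 F64246)
theorem F85864 : act 1 n39083 = n54385 := d15_1 D39083 F85862 F51542
def n54386 : Q := act 6 n26305
theorem D54386 : act 6 n26305 = n54386 := rfl
theorem F85865 : act 2 n54386 = n26312 := d3_1 D54386 (iv6 D26312) (iv2 F41909)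
theorem F85866 : act 4 n54386 = n26306 := d10_1 D54386 (iv6 D26306) D26305
def n54387 : Q := act 0 n26306
theorem D54387 : act 0 n26306 = n54387 := rfl
def n54388 : Q := act 1 n26306
theorem D54388 : act 1 n26306 = n54388 := rfl
theorem F85867 : act 1 n54388 = n26315 := d15_1 D54388 (iv7 D26315) (iv2 F41914)
def n54389 : Q := act 7 n26306
theorem D54389 : act 7 n26306 = n54389 := rfl
theorem F85868 : act 2 n54389 = n26315 := d4_1 D54389 (iv7 D26315) (iv2 F41914)
theorem F85869 : act 3 n54389 = n26319 := d8_1 D54389 (iv7 D26319) (iv3 F41915)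
theorem F85870 : act 5 n54389 = n26315 := d13_1 D54389 (iv7 D26315) (iv5 F41916)
theorem F85871 : act 6 n54389 = n32468 := d14_1 D54389 (iv7 D32468) (iv6 D15365) (iv7 F20826) D26306
theorem F85872 : act 1 n26315 = n54387 := d15_0 (iv0 D54387) D54389 F85868
theorem F85873 : act 1 n26314 = n54389 := d15_1 D26314 (iv7 D54389) F41914
theorem F85874 : act 1 n54389 = n26313 := d15_0 (iv0 D26313) D26315 (iv2 F85868)
def n54390 : Q := act 6 n26307
theorem D54390 : act 6 n26307 = n54390 := rfl
theorem F85875 : act 3 n54390 = n26308 := d7_1 D54390 (iv6 D26308) D26307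
def n54391 : Q := act 0 n26308
theorem D54391 : act 0 n26308 = n54391 := rfl
def n54392 : Q := act 1 n26308
theorem D54392 : act 1 n26308 = n54392 := rfl
def n54393 : Q := act 7 n26308
theorem D54393 : act 7 n26308 = n54393 := rfl
theorem F85877 : act 2 n54393 = n32481 := d4_1 D54393 (iv7 D32481) (iv2 F41919)
theorem F85878 : act 6 n54393 = n32476 := d14_1 D54393 (iv7 D32476) (iv6 D15372) (iv7 F27195) D26308
theorem F85879 : act 1 n32481 = n54391 := d15_0 (iv0 D54391) D54393 F85877
theorem F85880 : act 1 n32480 = n54393 := d15_1 D32480 (iv7 D54393) F41919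
theorem F85881 : act 1 n54393 = n32479 := d15_0 (iv0 D32479) D32481 (iv2 F85877)
def n54394 : Q := act 6 n26309
theorem D54394 : act 6 n26309 = n54394 := rfl
theorem F85882 : act 3 n54394 = n26310 := d7_1 D54394 (iv6 D26310) D26309
def n54395 : Q := act 0 n26310
theorem D54395 : act 0 n26310 = n54395 := rfl
def n54396 : Q := act 1 n26310
theorem D54396 : act 1 n26310 = n54396 := rfl
def n54397 : Q := act 5 n26310
theorem D54397 : act 5 n26310 = n54397 := rfl
theorem F85884 : act 2 n54397 = n32475 := d2_1 D54397 (iv5 D32475) (iv2 F41923)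
theorem F85885 : act 6 n54397 = n26328 := d12_2 D26310 D54397 (iv5 D26328) (iv6 D12554) (iv5 F27197)
def n54398 : Q := act 7 n26310
theorem D54398 : act 7 n26310 = n54398 := rfl
theorem F85887 : act 6 n54398 = n32481 := d14_1 D54398 (iv7 D32481) (iv6 D15376) (iv7 F27198) D26310
def n54399 : Q := act 6 n26311
theorem D54399 : act 6 n26311 = n54399 := rfl
theorem F85891 : act 2 n54399 = n32484 := d3_1 D54399 (iv6 D32484) F41925
theorem F85892 : act 4 n54399 = n33504 := d10_1 D54399 (iv6 D33504) (iv4 F41924)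
def n54400 : Q := act 0 n26312
theorem D54400 : act 0 n26312 = n54400 := rfl
def n54401 : Q := act 1 n26312
theorem D54401 : act 1 n26312 = n54401 := rfl
def n54402 : Q := act 5 n26312
theorem D54402 : act 5 n26312 = n54402 := rfl
theorem F85893 : act 3 n54402 = n27663 := d6_1 D54402 (iv5 D27663) (iv3 F41928)
def n54403 : Q := act 7 n26312
theorem D54403 : act 7 n26312 = n54403 := rfl
theorem F85894 : act 3 n54403 = n27664 := d8_1 D54403 (iv7 D27664) (iv3 F41928)
theorem F85895 : act 4 n54403 = n26315 := d11_1 D54403 (iv7 D26315) (iv4 F41929)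
theorem F85896 : act 6 n54403 = n32489 := d14_1 D54403 (iv7 D32489) (iv6 D15380) (iv7 F20835) D26312
def n54404 : Q := act 2 n26313
theorem D54404 : act 2 n26313 = n54404 := rfl
theorem F85897 : act 7 n26314 = n54404 := d15_2 (iv0 D26313) D26314 (iv2 D54404)
def n54405 : Q := act 3 n26313
theorem D54405 : act 3 n26313 = n54405 := rfl
def n54406 : Q := act 4 n26313
theorem D54406 : act 4 n26313 = n54406 := rfl
def n54407 : Q := act 5 n26313
theorem D54407 : act 5 n26313 = n54407 := rfl
def n54408 : Q := act 6 n26313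
theorem D54408 : act 6 n26313 = n54408 := rfl
def n54409 : Q := act 7 n26313
theorem D54409 : act 7 n26313 = n54409 := rfl
theorem F85898 : act 2 n54409 = n26314 := d4_1 D54409 F85897 (iv2 D54404)
def n54410 : Q := act 3 n26314
theorem D54410 : act 3 n26314 = n54410 := rfl
def n54411 : Q := act 4 n26314
theorem D54411 : act 4 n26314 = n54411 := rfl
def n54412 : Q := act 6 n26314
theorem D54412 : act 6 n26314 = n54412 := rfl
def n54413 : Q := act 3 n26316
theorem D54413 : act 3 n26316 = n54413 := rfl
theorem F85899 : act 7 n54413 = n32698 := d8_2 (iv7 F41966) D54413 (iv3 D32698)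
def n54414 : Q := act 6 n26316
theorem D54414 : act 6 n26316 = n54414 := rfl
theorem F85900 : act 2 n54414 = n32697 := d3_1 D54414 (iv6 D32697) (iv2 F41967)
theorem F85901 : act 5 n54414 = n32869 := d12_1 D54414 (iv6 F57135) (iv5 F57132) F57130 F51972
def n54415 : Q := act 3 n26317
theorem D54415 : act 3 n26317 = n54415 := rfl
theorem F85902 : act 5 n54415 = n37012 := d6_2 F41933 D54415 F57931
theorem F85903 : act 7 n54415 = n32694 := d8_2 F41968 D54415 (iv3 D32694)
def n54416 : Q := act 6 n26317
theorem D54416 : act 6 n26317 = n54416 := rfl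
theorem F85904 : act 2 n54416 = n32700 := d3_1 D54416 (iv6 D32700) (iv2 F41934)
theorem F85905 : act 5 n54416 = n37015 := d12_1 D54416 (iv6 D37015) (iv5 D17812) D17813 F41933
def n54417 : Q := act 0 n26318
theorem D54417 : act 0 n26318 = n54417 := rfl
theorem F85906 : act 4 n54417 = n26644 := d18_3 (iv1 D26317) D26318 D54417 (iv5 F52378) F52377 (iv0 D16847) (iv4 F27591) F51778 F41933
theorem F85907 : act 2 n32690 = n54417 := d1_3 F85906 F42711 (iv4 F53215)
theorem F85908 : act 7 n32691 = n54417 := d11_0 F85906 F42710 (iv4 F51765)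
theorem F85909 : act 1 n32693 = n54417 := d18_6 D12730 F30354 (iv1 F9777) (iv4 F11664) (iv5 F26499) (iv4 F51768) F85906 (iv0 D26644) (iv5 D12732)
theorem F85910 : act 0 n35692 = n40137 := d20_7 (iv4 F85906) (iv1 F85909) F51768 F25108 (iv1 F41761) D17302 (iv4 F56369) F61030 F42687 D26644
theorem E8295 : n33840 = n26644 := (c20_6 (iv4 D8104) (iv1 D3651) (iv4 F5432) (iv3 F11833) D16359 D33840 (iv4 F85906) (iv1 F85909) F51768 F25108 (iv1 F41761))
theorem F85911 : act 3 n26644 = n16359 := (sb E8295 (iv3 D33840))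
theorem F85912 : act 3 n33842 = n33154 := d6_3 F52378 F85911 D33842
theorem E8296 : n33844 = n33827 := (c8_3 (iv7 F42710) F85911 D33844 F53172)
theorem F85913 : act 2 n33827 = n16360 := (sb E8296 F53196)
theorem F85914 : act 7 n33827 = n16359 := (sb E8296 (iv7 D33844))
theorem F85915 : act 7 n33842 = n33150 := d13_2 F85914 D33842 F53173
theorem E8297 : n33839 = n33826 := (c15_4 (iv0 D33826) D33827 F85914 D33839)
theorem F85916 : act 2 n33826 = n16359 := (sb E8297 (iv2 D33839))
theorem F85917 : act 7 n33826 = n16360 := (sb E8297 (iv7 F53195))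
theorem F85918 : act 2 n33847 = n33150 := d2_3 F53173 F85913 D33847
theorem E8298 : n33147 = n26523 := (c3_4 F53197 F85918 (iv6 D33150) D33147)
theorem F85919 : act 2 n26523 = n15984 := (sb E8298 (iv2 D33147))
theorem E8299 : n26524 = n26410 := (c15_2 (iv0 D26523) D26524 F42195 (iv2 F85919))
theorem F85920 : act 0 n26410 = n12662 := (sb E8299 (iv1 D26524))
def n54418 : Q := act 1 n26318
theorem D54418 : act 1 n26318 = n54418 := rfl
theorem F85921 : act 1 n54418 = n32693 := d15_1 D54418 (iv7 D32693) (iv2 F41935)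
theorem F85922 : act 7 n54418 = n32690 := d15_2 (iv0 D54417) D54418 F85907
theorem F85923 : act 4 n54418 = n26645 := d18_7 (iv1 F21137) F30358 (iv1 D6282) (iv4 F9233) D12515 D26318 D54418 F42701 F25873
theorem F85924 : act 2 n32691 = n54418 := d1_3 F85923 F42703 (iv4 F51765)
def n54419 : Q := act 3 n26318
theorem D54419 : act 3 n26318 = n54419 := rfl
theorem F85925 : act 2 n54419 = n38890 := d0_1 D54419 F59923 F29657 (iv3 F25104) (iv2 F41935)
theorem F85926 : act 6 n54419 = n26320 := d7_2 (iv6 F41936) D54419 (iv3 D26320)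
def n54420 : Q := act 5 n26318
theorem D54420 : act 5 n26318 = n54420 := rfl
theorem F85927 : act 2 n54420 = n32692 := d2_1 D54420 (iv5 D32692) (iv2 F41935)
theorem F85928 : act 4 n54420 = n39080 := d16_2 D26318 D54420 F60081 F29793 F13623 (iv4 F11664) (iv5 F26499) (iv7 D15576) (iv2 F26470)
theorem F85929 : act 7 n39078 = n54420 := d11_0 F85928 (iv7 D39080) D39078
def n54421 : Q := act 7 n26318
theorem D54421 : act 7 n26318 = n54421 := rfl
theorem F85930 : act 2 n54421 = n32693 := d4_1 D54421 (iv7 D32693) (iv2 F41935)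
theorem F85931 : act 4 n54421 = n26319 := d11_1 D54421 (iv7 D26319) D26318
theorem F85932 : act 5 n54421 = n39078 := d13_1 D54421 F85929 (iv5 D54420)
theorem F85933 : act 1 n32691 = n54421 := d15_1 D32691 (iv7 D54421) F41935
theorem F85934 : act 1 n54421 = n32690 := d15_1 F85933 (iv7 F85922) (iv2 F85924)
def n54422 : Q := act 0 n26321
theorem D54422 : act 0 n26321 = n54422 := rfl
def n54423 : Q := act 1 n26321
theorem D54423 : act 1 n26321 = n54423 := rfl
theorem F85935 : act 1 n54423 = n32731 := d15_1 D54423 (iv7 D32731) (iv2 F41971)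
def n54424 : Q := act 7 n26321
theorem D54424 : act 7 n26321 = n54424 := rfl
theorem F85936 : act 2 n54424 = n32731 := d4_1 D54424 (iv7 D32731) (iv2 F41971)
theorem F85937 : act 3 n54424 = n35965 := d8_1 D54424 (iv7 D35965) (iv3 F41972)
theorem F85938 : act 5 n54424 = n29646 := d13_1 D54424 (iv7 D29646) (iv5 F41973)
theorem F85939 : act 6 n54424 = n32740 := d14_1 D54424 (iv7 D32740) (iv6 D15645) (iv7 F20865) D26321
theorem F85940 : act 1 n32731 = n54422 := d15_0 (iv0 D54422) D54424 F85936
theorem F85941 : act 1 n32730 = n54424 := d15_1 D32730 (iv7 D54424) F41971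
theorem F85942 : act 1 n54424 = n32729 := d15_0 (iv0 D32729) D32731 (iv2 F85936)
def n54425 : Q := act 0 n26322
theorem D54425 : act 0 n26322 = n54425 := rfl
def n54426 : Q := act 7 n26322
theorem D54426 : act 7 n26322 = n54426 := rfl
theorem F85943 : act 2 n54426 = n32740 := d4_1 D54426 (iv7 D32740) (iv2 F41974)
theorem F85944 : act 5 n54426 = n31544 := d13_1 D54426 (iv7 D31544) (iv5 F41975)
theorem F85945 : act 6 n54426 = n32731 := d14_1 D54426 (iv7 D32731) (iv6 D15636) (iv7 F20870) D26322
theorem F85946 : act 1 n32740 = n54425 := d15_0 (iv0 D54425) D54426 F85943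
theorem F85947 : act 1 n32311 = n54426 := d15_1 (iv0 F51340) (iv7 D54426) F41974
theorem F85948 : act 7 n54425 = n32311 := d15_2 (iv0 F85665) F85946 (iv2 F85662)
theorem F85949 : act 5 n32312 = n54425 := d13_3 F85948 (iv5 D32311) D32312
theorem F85950 : act 2 n54425 = n32739 := d15_3 (iv0 D32739) (iv0 F51340) (iv7 F85948)
theorem F85951 : act 5 n32739 = n54290 := d2_2 F85949 F85950 F85666
theorem F85952 : act 7 n32739 = n54289 := d4_2 (iv7 F85948) F85950 F85662
theorem F85953 : act 1 n54426 = n32739 := d15_1 F85947 F85952 F85662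
theorem E8300 : n54301 = n54224 := (c21_11 F85558 (iv1 D31998) (iv5 D15090) (iv6 D7174) D7172 D15085 (iv5 F25141) D32739 F85951 F85667 (iv1 F85689))
theorem F85954 : act 0 n54224 = n26251 := (sb E8300 (iv1 D54301))
theorem F85955 : act 1 n54224 = n32325 := (sb E8300 F85689)
theorem E8301 : n32323 = n32230 := (c21_11 F85285 (iv1 D54060) (iv5 D26149) (iv6 D12404) (iv1 F11328) D14857 (iv5 F41975) D54425 (iv5 F85949) (iv6 F85695) (iv1 F85697))
theorem F85956 : act 0 n32230 = n15234 := (sb E8301 (iv1 D32323))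
theorem F85957 : act 1 n32230 = n54303 := (sb E8301 F85697)
def n54427 : Q := act 1 n26323
theorem D54427 : act 1 n26323 = n54427 := rfl
theorem F85958 : act 1 n54427 = n26326 := d15_1 D54427 (iv7 D26326) (iv2 F41976)
theorem F85959 : act 7 n54427 = n26324 := d15_2 (iv0 F51784) D54427 (iv2 F51783)
theorem F85960 : act 2 n26325 = n54427 := d4_3 F85959 (iv2 F51783) (iv7 F51785)
def n54428 : Q := act 7 n26323
theorem D54428 : act 7 n26323 = n54428 := rfl
theorem F85961 : act 2 n54428 = n26326 := d4_1 D54428 (iv7 D26326) (iv2 F41976)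
theorem F85962 : act 3 n54428 = n32753 := d8_1 D54428 (iv7 D32753) (iv3 F41977)
theorem F85963 : act 5 n54428 = n34256 := d13_1 D54428 (iv7 D34256) (iv5 F41978)
theorem F85964 : act 6 n54428 = n32836 := d14_1 D54428 (iv7 D32836) (iv6 D15797) (iv7 F20890) D26323
theorem F85965 : act 1 n26325 = n54428 := d15_1 D26325 (iv7 D54428) F41976
theorem F85966 : act 1 n54428 = n26324 := d15_1 F85965 (iv7 F85959) (iv2 F85960)
def n54429 : Q := act 3 n26324
theorem D54429 : act 3 n26324 = n54429 := rfl
theorem F85967 : act 6 n54429 = n35706 := d7_2 (iv6 F41979) D54429 F56382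
def n54430 : Q := act 4 n26324
theorem D54430 : act 4 n26324 = n54430 := rfl
theorem F85968 : act 6 n54430 = n35708 := d10_2 (iv6 F41979) D54430 (iv4 D35708)
def n54431 : Q := act 5 n26324
theorem D54431 : act 5 n26324 = n54431 := rfl
theorem F85969 : act 6 n54431 = n35710 := d12_2 (iv6 F41979) D54431 (iv5 D35710) (iv6 D17304) D17303
def n54432 : Q := act 3 n26325
theorem D54432 : act 3 n26325 = n54432 := rfl
def n54433 : Q := act 4 n26325
theorem D54433 : act 4 n26325 = n54433 := rfl
def n54434 : Q := act 5 n26325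
theorem D54434 : act 5 n26325 = n54434 := rfl
theorem F85970 : act 6 n54434 = n31709 := d21_3 (iv5 F85963) (iv1 F85965) D54434 (iv1 F54386) F54383 F50118 (iv1 F41295) D53990 (iv6 F85170) (iv1 F53913)
def n54435 : Q := act 6 n26325
theorem D54435 : act 6 n26325 = n54435 := rfl
theorem F85971 : act 7 n54435 = n35666 := d14_2 (iv7 F51785) D54435 (iv6 D35666) F41961 D32718
def n54436 : Q := act 5 n26327
theorem D54436 : act 5 n26327 = n54436 := rfl
theorem F85972 : act 3 n54436 = n26328 := d6_1 D54436 (iv5 D26328) (iv3 F41982)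
def n54437 : Q := act 4 n26328
theorem D54437 : act 4 n26328 = n54437 := rfl
theorem F85973 : act 2 n54437 = n32746 := d1_1 D54437 (iv4 D32746) (iv2 F41983)
def n54438 : Q := act 3 n26329
theorem D54438 : act 3 n26329 = n54438 := rfl
theorem F85974 : act 2 n54438 = n27240 := d0_1 D54438 (iv3 D27240) F21754 (iv3 F20916) (iv2 F41984)
theorem F85975 : act 4 n54438 = n32832 := d5_2 D26329 D54438 (iv3 D32832) (iv4 D15796) (iv3 F20907)
theorem F85976 : act 5 n54438 = n46025 := d6_2 F51890 D54438 F72607
theorem F85977 : act 7 n54438 = n32749 := d8_2 (iv7 F41985) D54438 (iv3 D32749)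
theorem F85978 : act 0 n37511 = n54438 := d20_4 F54814 (iv1 F54810) D45910 (iv3 F72502) (iv3 D54438) (iv4 D26329) (iv1 F20909) D15683 D32763 (iv1 F51875)
theorem F85979 : act 1 n37512 = n54438 := d15_1 D37512 F85977 F51838
def n54439 : Q := act 6 n26329
theorem D54439 : act 6 n26329 = n54439 := rfl
theorem F85980 : act 2 n54439 = n26333 := d3_1 D54439 (iv6 D26333) (iv2 F41984)
theorem F85981 : act 4 n54439 = n26330 := d10_1 D54439 (iv6 D26330) D26329
def n54440 : Q := act 0 n26330
theorem D54440 : act 0 n26330 = n54440 := rfl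
def n54441 : Q := act 1 n26330
theorem D54441 : act 1 n26330 = n54441 := rfl
theorem F85982 : act 1 n54441 = n26337 := d15_1 D54441 (iv7 D26337) (iv2 F41988)
def n54442 : Q := act 5 n26330
theorem D54442 : act 5 n26330 = n54442 := rfl
theorem F85983 : act 2 n54442 = n26336 := d2_1 D54442 (iv5 D26336) (iv2 F41988)
theorem F85984 : act 3 n54442 = n26700 := d6_1 D54442 F42806 (iv3 F41989)
theorem F85985 : act 6 n54442 = n26331 := d12_2 D26330 D54442 (iv5 D26331) (iv6 D12556) D12555
def n54443 : Q := act 7 n26330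
theorem D54443 : act 7 n26330 = n54443 := rfl
theorem F85986 : act 2 n54443 = n26337 := d4_1 D54443 (iv7 D26337) (iv2 F41988)
theorem F85987 : act 3 n54443 = n32836 := d8_1 D54443 (iv7 D32836) (iv3 F41989)
theorem F85988 : act 6 n54443 = n32753 := d14_1 D54443 (iv7 D32753) (iv6 D15675) (iv7 F20908) D26330
theorem F85989 : act 1 n26337 = n54440 := d15_0 (iv0 D54440) D54443 F85986
theorem F85990 : act 1 n26335 = n54443 := d15_1 D26335 (iv7 D54443) F41988
theorem F85991 : act 1 n54443 = n26334 := d15_0 (iv0 D26334) D26337 (iv2 F85986)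
def n54444 : Q := act 4 n26331
theorem D54444 : act 4 n26331 = n54444 := rfl
theorem F85992 : act 2 n54444 = n26343 := d1_1 D54444 (iv4 D26343) (iv2 F41990)
theorem F85993 : act 7 n54444 = n34011 := d11_2 (iv7 F41992) D54444 (iv4 D34011)
def n54445 : Q := act 6 n26332
theorem D54445 : act 6 n26332 = n54445 := rfl
theorem F85994 : act 2 n54445 = n32770 := d3_1 D54445 (iv6 D32770) F41995
theorem F85995 : act 4 n54445 = n32441 := d10_1 D54445 (iv6 D32441) (iv4 F41994)
def n54446 : Q := act 0 n26333
theorem D54446 : act 0 n26333 = n54446 := rfl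
def n54447 : Q := act 1 n26333
theorem D54447 : act 1 n26333 = n54447 := rfl
def n54448 : Q := act 5 n26333
theorem D54448 : act 5 n26333 = n54448 := rfl
theorem F85996 : act 3 n54448 = n27261 := d6_1 D54448 (iv5 D27261) (iv3 F41998)
def n54449 : Q := act 7 n26333
theorem D54449 : act 7 n26333 = n54449 := rfl
theorem F85997 : act 3 n54449 = n27262 := d8_1 D54449 (iv7 D27262) (iv3 F41998)
theorem F85998 : act 4 n54449 = n26337 := d11_1 D54449 (iv7 D26337) (iv4 F41999)
theorem F85999 : act 6 n54449 = n32776 := d14_1 D54449 (iv7 D32776) (iv6 D15689) (iv7 F20917) D26333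
def n54450 : Q := act 2 n26334
theorem D54450 : act 2 n26334 = n54450 := rfl
theorem F86000 : act 7 n26335 = n54450 := d15_2 (iv0 D26334) D26335 (iv2 D54450)
def n54451 : Q := act 3 n26334
theorem D54451 : act 3 n26334 = n54451 := rfl
def n54452 : Q := act 4 n26334
theorem D54452 : act 4 n26334 = n54452 := rfl
def n54453 : Q := act 5 n26334
theorem D54453 : act 5 n26334 = n54453 := rfl
def n54454 : Q := act 6 n26334
theorem D54454 : act 6 n26334 = n54454 := rfl
def n54455 : Q := act 7 n26334
theorem D54455 : act 7 n26334 = n54455 := rfl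
theorem F86001 : act 2 n54455 = n26335 := d4_1 D54455 F86000 (iv2 D54450)
def n54456 : Q := act 3 n26335
theorem D54456 : act 3 n26335 = n54456 := rfl
def n54457 : Q := act 4 n26335
theorem D54457 : act 4 n26335 = n54457 := rfl
def n54458 : Q := act 5 n26335
theorem D54458 : act 5 n26335 = n54458 := rfl
def n54459 : Q := act 6 n26335
theorem D54459 : act 6 n26335 = n54459 := rfl
def n54460 : Q := act 0 n26336
theorem D54460 : act 0 n26336 = n54460 := rfl
def n54461 : Q := act 1 n26336
theorem D54461 : act 1 n26336 = n54461 := rfl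
def n54462 : Q := act 4 n26336
theorem D54462 : act 4 n26336 = n54462 := rfl
theorem F86002 : act 6 n54462 = n26343 := d10_2 (iv6 F42001) D54462 (iv4 D26343)
def n54463 : Q := act 7 n26336
theorem D54463 : act 7 n26336 = n54463 := rfl
theorem F86003 : act 3 n54463 = n26348 := d8_1 D54463 (iv7 D26348) (iv3 F42000)
theorem F86004 : act 5 n54463 = n26337 := d13_1 D54463 (iv7 D26337) D26336
def n54464 : Q := act 5 n26338
theorem D54464 : act 5 n26338 = n54464 := rfl
theorem F86005 : act 3 n54464 = n26340 := d6_1 D54464 (iv5 D26340) D26338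
theorem F86006 : act 7 n54464 = n32743 := d13_2 (iv7 F42005) D54464 (iv5 D32743)
def n54465 : Q := act 4 n26340
theorem D54465 : act 4 n26340 = n54465 := rfl
theorem F86007 : act 7 n54465 = n32746 := d11_2 (iv7 F42008) D54465 (iv4 D32746)
def n54466 : Q := act 6 n26340
theorem D54466 : act 6 n26340 = n54466 := rfl
theorem F86008 : act 5 n54466 = n31633 := d12_1 D54466 (iv6 D31633) F50442 (iv6 F41364) D26340
def n54467 : Q := act 3 n26341
theorem D54467 : act 3 n26341 = n54467 := rfl
def n54468 : Q := act 4 n26341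
theorem D54468 : act 4 n26341 = n54468 := rfl
def n54469 : Q := act 6 n26341
theorem D54469 : act 6 n26341 = n54469 := rfl
def n54470 : Q := act 3 n26342
theorem D54470 : act 3 n26342 = n54470 := rfl
def n54471 : Q := act 4 n26342
theorem D54471 : act 4 n26342 = n54471 := rfl
def n54472 : Q := act 6 n26342
theorem D54472 : act 6 n26342 = n54472 := rfl
def n54473 : Q := act 0 n26343
theorem D54473 : act 0 n26343 = n54473 := rfl
def n54474 : Q := act 1 n26343
theorem D54474 : act 1 n26343 = n54474 := rfl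
theorem F86009 : act 1 n54474 = n34011 := d15_1 D54474 (iv7 F85993) F85992
theorem F86010 : act 4 n33516 = n54474 := d20_6 (iv4 F25605) (iv1 F25614) F25611 (iv3 F42318) F55643 F55641 (iv1 D54474) (iv4 D26343) F20921 D12573
def n54475 : Q := act 3 n26343
theorem D54475 : act 3 n26343 = n54475 := rfl
def n54476 : Q := act 5 n26343
theorem D54476 : act 5 n26343 = n54476 := rfl
def n54477 : Q := act 7 n26343
theorem D54477 : act 7 n26343 = n54477 := rfl
theorem F86012 : act 2 n54477 = n34011 := d4_1 D54477 (iv7 F85993) F85992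
theorem F86013 : act 4 n54477 = n26344 := d11_1 D54477 (iv7 D26344) D26343
theorem F86014 : act 1 n34011 = n54473 := d15_0 (iv0 D54473) D54477 F86012
theorem F86015 : act 4 n54473 = n33515 := d18_7 (iv1 F50997) F25370 F27200 F11842 D16452 D34011 F86014 (iv0 D33515) (iv5 D16192)
theorem F86016 : act 4 n32875 = n33563 := d20_6 (iv4 F86015) (iv1 F86014) (iv4 D34011) F25927 (iv1 F26518) D32875 (iv1 D33563) (iv4 D16219) (iv3 F25741) D33515
def n54478 : Q := act 6 n26344
theorem D54478 : act 6 n26344 = n54478 := rfl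
theorem F86017 : act 2 n54478 = n34012 := d3_1 D54478 (iv6 D34012) (iv2 F42010)
theorem F86018 : act 3 n54478 = n26368 := d7_1 D54478 (iv6 D26368) (iv3 F42011)
theorem F86019 : act 5 n54478 = n29268 := d12_1 D54478 (iv6 D29268) F23174 (iv6 F20924) (iv5 F42012)
def n54479 : Q := act 3 n26345
theorem D54479 : act 3 n26345 = n54479 := rfl
theorem F86020 : act 5 n54479 = n36749 := d6_2 (iv5 F42014) D54479 (iv3 D36749)
theorem F86021 : act 7 n54479 = n32905 := d8_2 F42015 D54479 (iv3 D32905)
def n54480 : Q := act 6 n26345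
theorem D54480 : act 6 n26345 = n54480 := rfl
theorem F86022 : act 2 n54480 = n32904 := d3_1 D54480 (iv6 D32904) (iv2 F42017)
theorem F86023 : act 5 n54480 = n34280 := d21_6 (iv5 D12572) (iv1 D5972) D5973 (iv6 F20927) D26345 D54480 (iv1 D34280) D34281 F54381 F27083
theorem F86024 : act 2 n34280 = n31710 := d2_1 F86023 (iv5 F52093) (iv2 F86022)
theorem F86025 : act 7 n31709 = n34280 := d15_2 F54385 F54386 F86024
theorem F86026 : act 7 n34279 = n31710 := d15_2 F54378 F54384 (iv2 F86024)
theorem F86027 : act 2 n31709 = n34279 := d4_3 F86026 (iv2 F86024) (iv7 F86025)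
def n54481 : Q := act 3 n26346
theorem D54481 : act 3 n26346 = n54481 := rfl
theorem F86028 : act 5 n54481 = n32706 := d6_2 (iv5 F42020) D54481 F51775
theorem F86029 : act 7 n54481 = n32902 := d8_2 (iv7 F42019) D54481 (iv3 D32902)
def n54482 : Q := act 6 n26346
theorem D54482 : act 6 n26346 = n54482 := rfl
theorem F86031 : act 5 n54482 = n32710 := d12_1 D54482 (iv6 D32710) (iv5 D15594) D15595 (iv5 F42020)
def n54483 : Q := act 0 n26347
theorem D54483 : act 0 n26347 = n54483 := rfl
theorem F86032 : act 4 n54483 = n26471 := d18_3 (iv1 D26346) D26347 D54483 F42330 F30363 (iv0 D8813) (iv4 F13686) (iv0 F41943) (iv5 F42020)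
theorem F86033 : act 1 n32912 = n54483 := d15_0 (iv0 D54483) (iv7 F52100) (iv2 F52103)
def n54484 : Q := act 1 n26347
theorem D54484 : act 1 n26347 = n54484 := rfl
theorem F86036 : act 1 n54484 = n32912 := d15_1 D54484 (iv7 D32912) (iv2 F42022)
theorem F86038 : act 4 n54484 = n26472 := d18_7 (iv1 F21028) F30387 (iv1 D6218) (iv4 F9279) D12567 D26347 D54484 F42334 F25601
theorem F86039 : act 2 n32909 = n54484 := d1_3 F86038 (iv2 F42348) (iv4 F52097)
def n54485 : Q := act 3 n26347
theorem D54485 : act 3 n26347 = n54485 := rfl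
def n54486 : Q := act 6 n26348
theorem D54486 : act 6 n26348 = n54486 := rfl
theorem F86041 : act 2 n54486 = n32913 := d3_1 D54486 (iv6 D32913) (iv2 F42024)
theorem F86042 : act 5 n54486 = n29299 := d12_1 D54486 (iv6 D29299) F23178 (iv6 F20930) (iv5 F42025)
theorem F86043 : act 7 n54486 = n26368 := d14_2 D26348 D54486 (iv6 D26368) (iv7 D12576) (iv6 F20927)
theorem F86044 : act 0 n32968 = n54486 := d21_4 F84987 (iv1 F41208) D31669 (iv6 F52136) (iv6 D54486) F42025 (iv1 F20932) D15842 (iv6 F49954) (iv1 F84989)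
theorem F86045 : act 1 n32969 = n54486 := d15_1 D32969 F86043 F42070
def n54487 : Q := act 5 n26349
theorem D54487 : act 5 n26349 = n54487 := rfl
theorem F86046 : act 2 n54487 = n28600 := d2_1 D54487 F46161 (iv2 F50833)
theorem F86047 : act 7 n54487 = n28562 := d13_2 (iv7 F50835) D54487 (iv5 D28562)
theorem F86048 : act 0 n54487 = n28598 := d17_2 D26349 D54487 F54161 F54113 (iv5 D33560) F52140 (iv5 D32970) (iv0 D15874) (iv4 F20934)
theorem F86049 : act 0 n26361 = n54487 := d21_1 (iv5 F42055) (iv5 D54487) F50834 F54032 D29717 (iv5 F79133) (iv1 F79136) (iv5 D24394) D24395 F79145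
def n54488 : Q := act 5 n26351
theorem D54488 : act 5 n26351 = n54488 := rfl
theorem F86050 : act 2 n54488 = n26352 := d2_1 D54488 (iv5 D26352) D26351
theorem F86051 : act 3 n54488 = n32916 := d6_1 D54488 (iv5 D32916) (iv3 F42029)
theorem F86052 : act 7 n54488 = n28595 := d13_2 (iv7 F50836) D54488 (iv5 D28595)
theorem F86053 : act 0 n54488 = n32929 := d21_1 D54488 (iv5 F56718) (iv6 D24395) (iv1 D11501) F8172 (iv5 F11674) (iv1 F37252) F22793 D13616 F50861
theorem F86054 : act 0 n32928 = n54488 := d21_7 D13623 F25750 (iv5 D15543) (iv6 F26489) D26050 D53876 (iv5 F84940) (iv5 D54488) F42031 (iv1 F22790)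
def n54489 : Q := act 0 n26352
theorem D54489 : act 0 n26352 = n54489 := rfl
theorem F86055 : act 5 n54489 = n31675 := d17_3 (iv1 F50831) D26352 D54489 F55767 (iv5 F55769) (iv0 D28669) (iv5 D13664) F50825 F22800
theorem F86056 : act 1 n28595 = n54489 := d15_0 (iv0 D54489) F42037 (iv2 F50841)
theorem F86057 : act 2 n32929 = n54489 := d2_3 F86055 (iv2 F54149) F56718
theorem F86058 : act 7 n32928 = n54489 := d13_0 F86055 (iv7 F84938) (iv5 F84940)
theorem F86059 : act 4 n33756 = n54489 := d18_3 (iv1 D16307) D16308 D33756 F86055 F55767 (iv0 D35097) F27936 D32647 F54100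
def n54490 : Q := act 1 n26352
theorem D54490 : act 1 n26352 = n54490 := rfl
theorem F86060 : act 1 n54490 = n28595 := d15_1 D54490 (iv7 F86052) F86050
theorem F86061 : act 7 n54490 = n32929 := d15_2 (iv0 D54489) D54490 F86057
theorem F86062 : act 5 n54490 = n31554 := d17_7 (iv1 F54472) F54469 (iv1 D32973) (iv5 D15877) (iv4 F20934) D26352 D54490 F84994 F84991
theorem F86063 : act 2 n32928 = n54490 := d2_3 F86062 (iv2 F84936) (iv5 F84940)
theorem F86064 : act 4 n33757 = n54490 := d18_7 (iv1 D13628) (iv4 F22800) (iv1 F50825) F10562 D7585 D16308 D33757 F86060 (iv5 D28595)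
def n54491 : Q := act 4 n26352
theorem D54491 : act 4 n26352 = n54491 := rfl
theorem F86065 : act 7 n54491 = n32930 := d11_2 (iv7 F42037) D54491 (iv4 D32930)
def n54492 : Q := act 6 n26352
theorem D54492 : act 6 n26352 = n54492 := rfl
theorem F86066 : act 3 n54492 = n26354 := d7_1 D54492 (iv6 D26354) (iv3 F42036)
theorem F86067 : act 5 n54492 = n32680 := d12_1 D54492 (iv6 D32680) F25798 (iv6 F26512) D26352
def n54493 : Q := act 3 n26353
theorem D54493 : act 3 n26353 = n54493 := rfl
def n54494 : Q := act 6 n26353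
theorem D54494 : act 6 n26353 = n54494 := rfl
theorem F86070 : act 2 n54494 = n32924 := d3_1 D54494 (iv6 D32924) (iv2 F42038)
theorem F86071 : act 4 n54494 = n26354 := d10_1 D54494 (iv6 D26354) D26353
def n54495 : Q := act 0 n26354
theorem D54495 : act 0 n26354 = n54495 := rfl
def n54496 : Q := act 1 n26354
theorem D54496 : act 1 n26354 = n54496 := rfl
theorem F86072 : act 1 n54496 = n32927 := d15_1 D54496 (iv7 D32927) (iv2 F42041)
def n54497 : Q := act 7 n26354
theorem D54497 : act 7 n26354 = n54497 := rfl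
theorem F86073 : act 2 n54497 = n32927 := d4_1 D54497 (iv7 D32927) (iv2 F42041)
theorem F86074 : act 5 n54497 = n32685 := d13_1 D54497 (iv7 D32685) (iv5 F42042)
theorem F86075 : act 6 n54497 = n32936 := d14_1 D54497 (iv7 D32936) (iv6 D15861) (iv7 F20937) D26354
theorem F86076 : act 1 n32927 = n54495 := d15_0 (iv0 D54495) D54497 F86073
theorem F86077 : act 1 n32926 = n54497 := d15_1 D32926 (iv7 D54497) F42041
theorem F86078 : act 1 n54497 = n32925 := d15_0 (iv0 D32925) D32927 (iv2 F86073)
def n54498 : Q := act 0 n26358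
theorem D54498 : act 0 n26358 = n54498 := rfl
theorem F86079 : act 5 n54498 = n31566 := d21_2 D26358 D54498 (iv6 D31566) (iv1 F39936) (iv6 F45528) (iv5 F47813) (iv1 F54217) (iv5 D29190) (iv6 F54220) F50892
theorem F86080 : act 2 n32919 = n54498 := d15_3 (iv0 D54498) (iv0 F78831) F78830
theorem F86081 : act 1 n32916 = n54498 := d15_0 (iv0 D54498) F42050 (iv2 F52109)
theorem F86082 : act 7 n54498 = n32918 := d15_2 (iv0 F78832) F86081 (iv2 F78829)
theorem F86083 : act 3 n28670 = n54498 := d6_3 F86079 (iv3 F79153) F79155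
def n54499 : Q := act 4 n26358
theorem D54499 : act 4 n26358 = n54499 := rfl
theorem F86084 : act 7 n54499 = n32920 := d11_2 (iv7 F42050) D54499 (iv4 D32920)
def n54500 : Q := act 6 n26358
theorem D54500 : act 6 n26358 = n54500 := rfl
theorem F86085 : act 3 n54500 = n26360 := d7_1 D54500 (iv6 D26360) (iv3 F42049)
def n54502 : Q := act 6 n26359
theorem D54502 : act 6 n26359 = n54502 := rfl
theorem F86088 : act 2 n54502 = n32933 := d3_1 D54502 (iv6 D32933) (iv2 F42051)
theorem F86089 : act 4 n54502 = n26360 := d10_1 D54502 (iv6 D26360) D26359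
def n54503 : Q := act 0 n26360
theorem D54503 : act 0 n26360 = n54503 := rfl
def n54504 : Q := act 1 n26360
theorem D54504 : act 1 n26360 = n54504 := rfl
theorem F86090 : act 1 n54504 = n32936 := d15_1 D54504 (iv7 D32936) (iv2 F42054)
theorem F86091 : act 6 n32887 = n54504 := d21_3 F42014 F41733 (iv5 F52068) (iv1 D54504) (iv6 D26360) (iv5 D12572) (iv1 D5972) D5973 (iv6 F20927) D26345
theorem F86092 : act 5 n39644 = n54504 := d21_6 (iv5 D14964) F26603 D7244 (iv6 F24881) (iv1 F30056) D39644 (iv1 D54504) (iv5 F84951) (iv6 D53879) (iv1 F41192)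
theorem F86093 : act 2 n54504 = n32935 := d3_1 F86091 (iv6 F57628) (iv2 F57627)
def n54505 : Q := act 7 n26360
theorem D54505 : act 7 n26360 = n54505 := rfl
theorem F86094 : act 2 n54505 = n32936 := d4_1 D54505 (iv7 D32936) (iv2 F42054)
theorem F86095 : act 6 n54505 = n32927 := d14_1 D54505 (iv7 D32927) (iv6 D15855) (iv7 F20941) D26360
theorem F86096 : act 1 n32936 = n54503 := d15_0 (iv0 D54503) D54505 F86094
theorem F86097 : act 1 n32935 = n54505 := d15_1 D32935 (iv7 D54505) F42054
theorem F86098 : act 7 n54503 = n32935 := d15_2 F86090 F86096 (iv2 F86093)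
theorem F86099 : act 2 n54503 = n32934 := d15_3 (iv0 D32934) D32935 (iv7 F86098)
theorem F86100 : act 7 n32934 = n54504 := d4_2 (iv7 F86098) F86099 F86093
theorem F86101 : act 1 n54505 = n32934 := d15_1 F86097 F86100 F86093
def n54506 : Q := act 2 n26361
theorem D54506 : act 2 n26361 = n54506 := rfl
theorem F86102 : act 3 n54506 = n32939 := d0_2 D26361 D54506 (iv2 D32939) (iv3 D15862) F20944
theorem F86103 : act 5 n54506 = n53902 := d2_2 (iv5 F42055) D54506 (iv2 D53902)
theorem F86104 : act 7 n54506 = n28598 := d4_2 (iv7 F42056) D54506 F54160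
theorem F86105 : act 1 n54506 = n28562 := d15_0 F54146 (iv7 F42056) D54506
theorem F86106 : act 1 n28600 = n54506 := d15_0 F86105 (iv7 F86047) F86046
def n54507 : Q := act 4 n26361
theorem D54507 : act 4 n26361 = n54507 := rfl
theorem F86107 : act 7 n54507 = n32950 := d11_2 (iv7 F42056) D54507 (iv4 D32950)
theorem F86108 : act 1 n54507 = n33527 := d18_6 (iv1 F54105) F47459 F54104 (iv4 F41210) (iv5 F42055) D54507 (iv4 D33527) (iv0 F54206) (iv5 D32648)
def n54508 : Q := act 6 n26361
theorem D54508 : act 6 n26361 = n54508 := rfl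
theorem F86109 : act 3 n54508 = n26362 := d7_1 D54508 (iv6 D26362) D26361
def n54509 : Q := act 0 n26362
theorem D54509 : act 0 n26362 = n54509 := rfl
def n54510 : Q := act 1 n26362
theorem D54510 : act 1 n26362 = n54510 := rfl
theorem F86110 : act 1 n54510 = n32946 := d15_1 D54510 (iv7 D32946) (iv2 F42057)
def n54511 : Q := act 5 n26362
theorem D54511 : act 5 n26362 = n54511 := rfl
theorem F86111 : act 2 n54511 = n32874 := d2_1 D54511 F52045 (iv2 F42057)
theorem F86112 : act 6 n54511 = n26696 := d12_2 D26362 D54511 F42794 F25945 (iv5 F20943)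
theorem F86113 : act 0 n54511 = n27883 := d21_4 (iv5 D16461) D16459 (iv5 F42794) (iv6 F86112) (iv6 D27883) (iv5 D13293) (iv1 F30437) D8903 F13870 (iv1 F25954)
theorem F86114 : act 1 n54511 = n39771 := d15_1 (iv0 F86113) (iv7 D39771) (iv2 F45014)
def n54512 : Q := act 7 n26362
theorem D54512 : act 7 n26362 = n54512 := rfl
theorem F86115 : act 2 n54512 = n32946 := d4_1 D54512 (iv7 D32946) (iv2 F42057)
theorem F86116 : act 6 n54512 = n32956 := d14_1 D54512 (iv7 D32956) (iv6 D15867) F20945 D26362
theorem F86117 : act 1 n32946 = n54509 := d15_0 (iv0 D54509) D54512 F86115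
theorem F86118 : act 1 n32945 = n54512 := d15_1 D32945 (iv7 D54512) F42057
theorem F86119 : act 1 n54512 = n32944 := d15_0 (iv0 D32944) D32946 (iv2 F86115)
def n54513 : Q := act 4 n26363
theorem D54513 : act 4 n26363 = n54513 := rfl
def n54514 : Q := act 6 n26363
theorem D54514 : act 6 n26363 = n54514 := rfl
theorem F86122 : act 5 n54514 = n35084 := d12_1 D54514 (iv6 D35084) (iv5 D17032) D17033 (iv5 F42058)
def n54515 : Q := act 0 n26364
theorem D54515 : act 0 n26364 = n54515 := rfl
def n54516 : Q := act 1 n26364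
theorem D54516 : act 1 n26364 = n54516 := rfl
theorem F86123 : act 1 n54516 = n32956 := d15_1 D54516 (iv7 D32956) (iv2 F42060)
def n54517 : Q := act 7 n26364
theorem D54517 : act 7 n26364 = n54517 := rfl
theorem F86124 : act 2 n54517 = n32956 := d4_1 D54517 (iv7 D32956) (iv2 F42060)
theorem F86125 : act 5 n54517 = n35091 := d13_1 D54517 (iv7 D35091) (iv5 F42061)
theorem F86126 : act 6 n54517 = n32946 := d14_1 D54517 (iv7 D32946) (iv6 D15864) (iv7 F20948) D26364
theorem F86127 : act 1 n32956 = n54515 := d15_0 (iv0 D54515) D54517 F86124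
theorem F86128 : act 1 n32955 = n54517 := d15_1 D32955 (iv7 D54517) F42060
theorem F86129 : act 1 n54517 = n32954 := d15_0 (iv0 D32954) D32956 (iv2 F86124)
def n54518 : Q := act 3 n26365
theorem D54518 : act 3 n26365 = n54518 := rfl
theorem F86130 : act 7 n54518 = n32959 := d8_2 F42065 D54518 (iv3 D32959)
def n54519 : Q := act 6 n26365
theorem D54519 : act 6 n26365 = n54519 := rfl
theorem F86131 : act 2 n54519 = n32958 := d3_1 D54519 (iv6 D32958) F42064
theorem F86132 : act 4 n54519 = n26476 := d10_1 D54519 (iv6 D26476) (iv4 F42062)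
def n54521 : Q := act 6 n26366
theorem D54521 : act 6 n26366 = n54521 := rfl
theorem F86134 : act 2 n54521 = n32960 := d3_1 D54521 (iv6 D32960) F42069
theorem F86135 : act 4 n54521 = n26478 := d10_1 D54521 (iv6 D26478) (iv4 F42068)
def n54525 : Q := act 0 n26368
theorem D54525 : act 0 n26368 = n54525 := rfl
theorem F86137 : act 6 n54525 = n53897 := d21_5 (iv5 D7433) (iv1 F9287) (iv5 F20953) D26368 D54525 (iv5 D53897) (iv1 D26058) D26059 F41204 F20524
theorem F86138 : act 1 n32913 = n54525 := d15_0 (iv0 D54525) (iv7 F86043) F86041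
def n54526 : Q := act 1 n26368
theorem D54526 : act 1 n26368 = n54526 := rfl
theorem F86139 : act 1 n54526 = n32913 := d15_1 D54526 F52107 (iv2 F42070)
def n54527 : Q := act 5 n26369
theorem D54527 : act 5 n26369 = n54527 := rfl
theorem F86140 : act 2 n54527 = n26553 := d2_1 D54527 F42507 F42072
theorem F86141 : act 3 n54527 = n33013 := d6_1 D54527 (iv5 D33013) (iv3 F42076)
theorem F86142 : act 7 n54527 = n26533 := d13_2 (iv7 F42074) D54527 (iv5 D26533)
theorem F86143 : act 0 n54527 = n26551 := d21_1 D54527 (iv5 F43285) (iv6 D26857) (iv1 D12849) (iv6 D6073) (iv5 F9348) (iv1 F26949) (iv5 D12584) (iv6 F26802) D26369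
theorem F86144 : act 0 n26475 = n54527 := d21_1 (iv5 F42356) (iv5 D54527) (iv6 F42075) F26990 F42123 D26399 F52522 (iv5 D26717) D26718 F42831
def n54528 : Q := act 0 n26370
theorem D54528 : act 0 n26370 = n54528 := rfl
theorem F86145 : act 5 n54528 = n31688 := d21_2 D26370 D54528 F49972 (iv1 F42824) F21204 (iv5 F26964) (iv1 F21076) (iv5 D6009) D6010 (iv1 F26890)
theorem F86146 : act 2 n26687 = n54528 := d15_3 (iv0 D54528) (iv0 F46298) (iv7 F42769)
theorem F86147 : act 1 n26549 = n54528 := d15_0 (iv0 D54528) F42079 (iv2 F42504)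
theorem F86148 : act 7 n54528 = n32989 := d15_2 (iv0 F46297) F86147 (iv2 F52166)
theorem F86149 : act 3 n54528 = n33014 := d0_2 D26687 F86146 F54573 (iv3 D16439) (iv2 F23108)
def n54529 : Q := act 4 n26370
theorem D54529 : act 4 n26370 = n54529 := rfl
theorem F86150 : act 2 n54529 = n33200 := d1_1 D54529 (iv4 D33200) (iv2 F42077)
theorem F86151 : act 7 n54529 = n32990 := d11_2 (iv7 F42079) D54529 (iv4 D32990)
def n54530 : Q := act 6 n26370
theorem D54530 : act 6 n26370 = n54530 := rfl
theorem F86152 : act 2 n54530 = n33198 := d3_1 D54530 F52420 (iv2 F42077)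
theorem F86153 : act 3 n54530 = n26372 := d7_1 D54530 (iv6 D26372) (iv3 F42078)
theorem F86154 : act 5 n54530 = n26379 := d12_1 D54530 (iv6 D26379) (iv5 D12584) (iv6 F26802) D26370
def n54531 : Q := act 3 n26371
theorem D54531 : act 3 n26371 = n54531 := rfl
def n54532 : Q := act 6 n26371
theorem D54532 : act 6 n26371 = n54532 := rfl
theorem F86157 : act 2 n54532 = n32981 := d3_1 D54532 (iv6 D32981) (iv2 F42080)
theorem F86158 : act 4 n54532 = n26372 := d10_1 D54532 (iv6 D26372) D26371
def n54533 : Q := act 0 n26372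
theorem D54533 : act 0 n26372 = n54533 := rfl
def n54534 : Q := act 1 n26372
theorem D54534 : act 1 n26372 = n54534 := rfl
theorem F86159 : act 1 n54534 = n32984 := d15_1 D54534 (iv7 D32984) (iv2 F42084)
def n54535 : Q := act 7 n26372
theorem D54535 : act 7 n26372 = n54535 := rfl
theorem F86160 : act 2 n54535 = n32984 := d4_1 D54535 (iv7 D32984) (iv2 F42084)
theorem F86161 : act 5 n54535 = n35982 := d13_1 D54535 (iv7 D35982) (iv5 F42085)
theorem F86162 : act 6 n54535 = n32996 := d14_1 D54535 (iv7 D32996) (iv6 D15889) (iv7 F20958) D26372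
theorem F86163 : act 1 n32984 = n54533 := d15_0 (iv0 D54533) D54535 F86160
theorem F86164 : act 1 n32983 = n54535 := d15_1 D32983 (iv7 D54535) F42084
theorem F86165 : act 1 n54535 = n32982 := d15_0 (iv0 D32982) D32984 (iv2 F86160)
def n54536 : Q := act 0 n26374
theorem D54536 : act 0 n26374 = n54536 := rfl
theorem F86166 : act 5 n54536 = n31531 := d17_3 F50786 D26374 D54536 (iv4 F54099) F54100 F50693 (iv5 D32066) F24741 (iv4 F50788)
theorem F86167 : act 2 n32973 = n54536 := d15_3 (iv0 D54536) (iv0 F54466) (iv7 F54467)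
theorem F86168 : act 1 n32971 = n54536 := d15_0 (iv0 D54536) F42095 (iv2 F52142)
theorem F86169 : act 7 n54536 = n32972 := d15_2 F54465 F86168 (iv2 F54464)
theorem F86170 : act 3 n32213 = n54536 := d8_3 F86169 F52990 (iv7 F51162)
theorem F86171 : act 6 n32160 = n54536 := d12_0 F86166 (iv6 D31531) (iv5 F50821) D15180 D32160
def n54537 : Q := act 4 n26374
theorem D54537 : act 4 n26374 = n54537 := rfl
theorem F86172 : act 2 n54537 = n33550 := d1_1 D54537 (iv4 D33550) (iv2 F50996)
theorem F86173 : act 7 n54537 = n32974 := d11_2 (iv7 F42095) D54537 (iv4 D32974)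
def n54538 : Q := act 6 n26374
theorem D54538 : act 6 n26374 = n54538 := rfl
theorem F86174 : act 2 n54538 = n33551 := d3_1 D54538 (iv6 D33551) (iv2 F50996)
theorem F86175 : act 3 n54538 = n26376 := d7_1 D54538 (iv6 D26376) (iv3 F42094)
def n54540 : Q := act 6 n26375
theorem D54540 : act 6 n26375 = n54540 := rfl
theorem F86178 : act 2 n54540 = n32993 := d3_1 D54540 (iv6 D32993) (iv2 F42096)
theorem F86179 : act 4 n54540 = n26376 := d10_1 D54540 (iv6 D26376) D26375
def n54541 : Q := act 0 n26376
theorem D54541 : act 0 n26376 = n54541 := rfl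
def n54542 : Q := act 1 n26376
theorem D54542 : act 1 n26376 = n54542 := rfl
theorem F86180 : act 1 n54542 = n32996 := d15_1 D54542 (iv7 D32996) (iv2 F42100)
theorem F86181 : act 6 n33309 = n54542 := d21_3 F42330 (iv1 F44921) (iv5 F52543) (iv1 D54542) (iv6 D26376) (iv5 D12580) F12679 D5998 (iv6 F21030) D26471
theorem F86182 : act 5 n34705 = n54542 := d21_6 (iv5 D15270) (iv1 D7231) D7232 (iv6 F12397) D16805 D34705 (iv1 D54542) (iv5 F85187) (iv6 D54006) F41321
theorem F86183 : act 2 n54542 = n32995 := d3_1 F86181 (iv6 F60382) F60378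
def n54543 : Q := act 7 n26376
theorem D54543 : act 7 n26376 = n54543 := rfl
theorem F86184 : act 2 n54543 = n32996 := d4_1 D54543 (iv7 D32996) (iv2 F42100)
theorem F86185 : act 6 n54543 = n32984 := d14_1 D54543 (iv7 D32984) (iv6 D15881) (iv7 F20962) D26376
theorem F86186 : act 1 n32996 = n54541 := d15_0 (iv0 D54541) D54543 F86184
theorem F86187 : act 1 n32995 = n54543 := d15_1 D32995 (iv7 D54543) F42100
theorem F86188 : act 7 n54541 = n32995 := d15_2 F86180 F86186 (iv2 F86183)
theorem F86189 : act 2 n54541 = n32994 := d15_3 (iv0 D32994) D32995 (iv7 F86188)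
theorem F86190 : act 7 n32994 = n54542 := d4_2 (iv7 F86188) F86189 F86183
theorem F86191 : act 1 n54543 = n32994 := d15_1 F86187 F86190 F86183
def n54544 : Q := act 6 n26377
theorem D54544 : act 6 n26377 = n54544 := rfl
theorem F86192 : act 2 n54544 = n33191 := d3_1 D54544 (iv6 D33191) (iv2 F42101)
def n54545 : Q := act 1 n26378
theorem D54545 : act 1 n26378 = n54545 := rfl
theorem F86193 : act 1 n54545 = n26381 := d15_1 D54545 F42111 (iv2 F42103)
theorem F86194 : act 7 n54545 = n33183 := d15_2 F77327 D54545 (iv2 F77324)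
theorem F86195 : act 4 n54545 = n32434 := d18_7 (iv1 F25529) (iv4 F40561) F40563 (iv4 D12583) D12584 D26378 D54545 F52452 (iv5 D33216)
theorem F86196 : act 2 n33182 = n54545 := d1_3 F86195 F51489 (iv4 F52407)
theorem F86197 : act 3 n33655 = n54545 := d5_5 F86195 F51490 (iv4 D16270) D16269 D33655
def n54546 : Q := act 6 n26378
theorem D54546 : act 6 n26378 = n54546 := rfl
theorem F86198 : act 2 n54546 = n33195 := d3_1 D54546 (iv6 D33195) (iv2 F42103)
theorem F86199 : act 4 n54546 = n26379 := d10_1 D54546 (iv6 D26379) D26378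
def n54547 : Q := act 0 n26379
theorem D54547 : act 0 n26379 = n54547 := rfl
def n54548 : Q := act 1 n26379
theorem D54548 : act 1 n26379 = n54548 := rfl
theorem F86200 : act 1 n54548 = n33199 := d15_1 D54548 (iv7 D33199) (iv2 F42105)
def n54549 : Q := act 7 n26379
theorem D54549 : act 7 n26379 = n54549 := rfl
theorem F86201 : act 2 n54549 = n33199 := d4_1 D54549 (iv7 D33199) (iv2 F42105)
theorem F86202 : act 3 n54549 = n35982 := d8_1 D54549 (iv7 D35982) (iv3 F42106)
theorem F86203 : act 6 n54549 = n33188 := d14_1 D54549 (iv7 D33188) (iv6 D16011) (iv7 F25459) D26379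
theorem F86204 : act 1 n33199 = n54547 := d15_0 (iv0 D54547) D54549 F86201
theorem F86205 : act 1 n33197 = n54549 := d15_1 D33197 (iv7 D54549) F42105
theorem F86206 : act 1 n54549 = n33196 := d15_0 (iv0 D33196) D33199 (iv2 F86201)
def n54550 : Q := act 6 n26380
theorem D54550 : act 6 n26380 = n54550 := rfl
theorem F86207 : act 2 n54550 = n33181 := d3_1 D54550 (iv6 D33181) (iv2 F42107)
def n54551 : Q := act 3 n26381
theorem D54551 : act 3 n26381 = n54551 := rfl
theorem F86208 : act 7 n54551 = n33193 := d8_2 (iv7 F42111) D54551 (iv3 D33193)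
theorem F86209 : act 0 n35402 = n54551 := d20_4 F21547 (iv1 F28428) F28429 D35402 (iv3 D54551) (iv4 D26381) F26953 D12719 F21115 D12957
def n54552 : Q := act 5 n26381
theorem D54552 : act 5 n26381 = n54552 := rfl
theorem F86210 : act 2 n54552 = n33184 := d2_1 D54552 (iv5 D33184) (iv2 F42110)
theorem F86211 : act 7 n54552 = n33194 := d13_2 (iv7 F42111) D54552 (iv5 D33194)
def n54553 : Q := act 6 n26381
theorem D54553 : act 6 n26381 = n54553 := rfl
theorem F86212 : act 2 n54553 = n33185 := d3_1 D54553 (iv6 D33185) (iv2 F42110)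
theorem F86213 : act 4 n54553 = n26382 := d10_1 D54553 (iv6 D26382) D26381
def n54554 : Q := act 0 n26382
theorem D54554 : act 0 n26382 = n54554 := rfl
def n54555 : Q := act 1 n26382
theorem D54555 : act 1 n26382 = n54555 := rfl
def n54556 : Q := act 7 n26382
theorem D54556 : act 7 n26382 = n54556 := rfl
theorem F86215 : act 2 n54556 = n33188 := d4_1 D54556 (iv7 D33188) (iv2 F42112)
theorem F86216 : act 6 n54556 = n33199 := d14_1 D54556 (iv7 D33199) (iv6 D16021) F25446 D26382
theorem F86217 : act 1 n33188 = n54554 := d15_0 (iv0 D54554) D54556 F86215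
theorem F86218 : act 1 n33187 = n54556 := d15_1 D33187 (iv7 D54556) F42112
theorem F86219 : act 1 n54556 = n33186 := d15_0 (iv0 D33186) D33188 (iv2 F86215)
def n54557 : Q := act 3 n26383
theorem D54557 : act 3 n26383 = n54557 := rfl
theorem F86220 : act 2 n54557 = n27157 := d0_1 D54557 (iv3 D27157) F21643 (iv3 F20975) (iv2 F42113)
theorem F86221 : act 4 n54557 = n33035 := d5_2 D26383 D54557 (iv3 D33035) (iv4 D15930) (iv3 F20967)
theorem F86222 : act 5 n54557 = n37889 := d6_2 (iv5 F51499) D54557 (iv3 D37889)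
theorem F86223 : act 7 n54557 = n33205 := d8_2 (iv7 F42114) D54557 (iv3 D33205)
theorem F86224 : act 1 n36492 = n54557 := d15_1 D36492 F86223 F52427
theorem F86225 : act 1 n54557 = n36491 := d15_0 (iv0 D36491) (iv7 F43912) (iv2 F86220)
def n54558 : Q := act 6 n26383
theorem D54558 : act 6 n26383 = n54558 := rfl
theorem F86226 : act 2 n54558 = n26390 := d3_1 D54558 (iv6 D26390) (iv2 F42113)
theorem F86227 : act 4 n54558 = n26384 := d10_1 D54558 (iv6 D26384) D26383
def n54559 : Q := act 0 n26384
theorem D54559 : act 0 n26384 = n54559 := rfl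
def n54560 : Q := act 1 n26384
theorem D54560 : act 1 n26384 = n54560 := rfl
theorem F86228 : act 1 n54560 = n26394 := d15_1 D54560 (iv7 D26394) (iv2 F42117)
def n54561 : Q := act 5 n26384
theorem D54561 : act 5 n26384 = n54561 := rfl
theorem F86229 : act 2 n54561 = n26393 := d2_1 D54561 (iv5 D26393) (iv2 F42117)
theorem F86230 : act 3 n54561 = n33040 := d6_1 D54561 (iv5 D33040) (iv3 F42118)
theorem F86231 : act 6 n54561 = n26386 := d12_2 D26384 D54561 (iv5 D26386) (iv6 D12592) D12591
def n54562 : Q := act 7 n26384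
theorem D54562 : act 7 n26384 = n54562 := rfl
theorem F86232 : act 2 n54562 = n26394 := d4_1 D54562 (iv7 D26394) (iv2 F42117)
theorem F86233 : act 3 n54562 = n33041 := d8_1 D54562 (iv7 D33041) (iv3 F42118)
theorem F86234 : act 6 n54562 = n33211 := d14_1 D54562 (iv7 D33211) (iv6 D16029) (iv7 F20968) D26384
theorem F86235 : act 1 n26394 = n54559 := d15_0 (iv0 D54559) D54562 F86232
theorem F86236 : act 1 n26392 = n54562 := d15_1 D26392 (iv7 D54562) F42117
theorem F86237 : act 1 n54562 = n26391 := d15_0 (iv0 D26391) D26394 (iv2 F86232)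
def n54563 : Q := act 5 n26385
theorem D54563 : act 5 n26385 = n54563 := rfl
theorem F86238 : act 2 n54563 = n26396 := d2_1 D54563 (iv5 D26396) F42119
theorem F86239 : act 3 n54563 = n33393 := d6_1 D54563 (iv5 D33393) (iv3 F53988)
theorem F86240 : act 7 n54563 = n26399 := d13_2 F42121 D54563 (iv5 D26399)
theorem F86241 : act 0 n54563 = n29132 := d21_1 D54563 F46801 (iv6 F27309) F27311 F26473 F26854 (iv1 F20970) (iv5 D12591) D12592 D26385
def n54564 : Q := act 0 n26386
theorem D54564 : act 0 n26386 = n54564 := rfl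
theorem F86242 : act 5 n54564 = n26711 := d21_2 D26386 D54564 F42814 (iv1 D13545) (iv6 F18700) D24291 F38078 (iv5 D14099) D14100 (iv1 F27012)
theorem F86243 : act 2 n26400 = n54564 := d15_3 (iv0 D54564) (iv0 F42127) F42152
theorem F86244 : act 3 n54564 = n33400 := d0_2 (iv3 F42150) F86243 (iv2 F52636) F27112 (iv2 F21212)
theorem F86245 : act 7 n54564 = n26401 := d4_2 F42152 F86243 F42154
theorem F86246 : act 1 n26403 = n54564 := d15_1 F42158 F86245 F42154
def n54565 : Q := act 4 n26386
theorem D54565 : act 4 n26386 = n54565 := rfl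
theorem F86247 : act 2 n54565 = n26402 := d1_1 D54565 (iv4 D26402) (iv2 F42125)
def n54566 : Q := act 7 n26386
theorem D54566 : act 7 n26386 = n54566 := rfl
theorem F86248 : act 2 n54566 = n26403 := d4_1 D54566 (iv7 D26403) (iv2 F42125)
theorem F86249 : act 3 n54566 = n33050 := d8_1 D54566 (iv7 D33050) (iv3 F42126)
theorem F86250 : act 5 n54566 = n26387 := d13_1 D54566 (iv7 D26387) D26386
theorem F86251 : act 1 n26401 = n54566 := d15_1 D26401 (iv7 D54566) F42125
theorem F86252 : act 1 n54566 = n26400 := d15_1 F86251 (iv7 F42152) (iv2 F42154)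
def n54567 : Q := act 6 n26388
theorem D54567 : act 6 n26388 = n54567 := rfl
theorem F86253 : act 2 n54567 = n33262 := d3_1 D54567 (iv6 D33262) F42133
def n54568 : Q := act 4 n26389
theorem D54568 : act 4 n26389 = n54568 := rfl
theorem F86254 : act 2 n54568 = n33232 := d1_1 D54568 F52464 F51500
theorem F86255 : act 5 n54568 = n33201 := d9_2 D26389 D54568 (iv4 D33201) (iv5 D16026) (iv4 D7496) D7497 D16028 D33206 (iv4 F83304) (iv5 D52713) (iv4 D25588) (iv5 D12168) F8891 D5984 D12595
theorem F86256 : act 7 n54568 = n33264 := d11_2 (iv7 F42137) D54568 (iv4 D33264)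
def n54569 : Q := act 6 n26389
theorem D54569 : act 6 n26389 = n54569 := rfl
theorem F86257 : act 2 n54569 = n37890 := d3_1 D54569 (iv6 D37890) F51500
theorem F86258 : act 3 n54569 = n27167 := d7_1 D54569 (iv6 D27167) (iv3 F42136)
def n54570 : Q := act 0 n26390
theorem D54570 : act 0 n26390 = n54570 := rfl
def n54571 : Q := act 1 n26390
theorem D54571 : act 1 n26390 = n54571 := rfl
def n54572 : Q := act 5 n26390
theorem D54572 : act 5 n26390 = n54572 := rfl
theorem F86259 : act 3 n54572 = n27170 := d6_1 D54572 (iv5 D27170) (iv3 F42140)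
def n54573 : Q := act 7 n26390
theorem D54573 : act 7 n26390 = n54573 := rfl
theorem F86260 : act 3 n54573 = n27171 := d8_1 D54573 (iv7 D27171) (iv3 F42140)
theorem F86261 : act 4 n54573 = n26394 := d11_1 D54573 (iv7 D26394) (iv4 F42141)
theorem F86262 : act 6 n54573 = n33269 := d14_1 D54573 (iv7 D33269) (iv6 D16063) (iv7 F20976) D26390
def n54574 : Q := act 2 n26391
theorem D54574 : act 2 n26391 = n54574 := rfl
theorem F86263 : act 7 n26392 = n54574 := d15_2 (iv0 D26391) D26392 (iv2 D54574)
def n54575 : Q := act 4 n26391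
theorem D54575 : act 4 n26391 = n54575 := rfl
def n54576 : Q := act 5 n26391
theorem D54576 : act 5 n26391 = n54576 := rfl
def n54577 : Q := act 7 n26391
theorem D54577 : act 7 n26391 = n54577 := rfl
theorem F86264 : act 2 n54577 = n26392 := d4_1 D54577 F86263 (iv2 D54574)
def n54578 : Q := act 3 n26392
theorem D54578 : act 3 n26392 = n54578 := rfl
def n54579 : Q := act 4 n26392
theorem D54579 : act 4 n26392 = n54579 := rfl
def n54580 : Q := act 5 n26392
theorem D54580 : act 5 n26392 = n54580 := rfl
def n54581 : Q := act 6 n26392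
theorem D54581 : act 6 n26392 = n54581 := rfl
def n54582 : Q := act 0 n26393
theorem D54582 : act 0 n26393 = n54582 := rfl
def n54583 : Q := act 1 n26393
theorem D54583 : act 1 n26393 = n54583 := rfl
def n54584 : Q := act 4 n26393
theorem D54584 : act 4 n26393 = n54584 := rfl
theorem F86265 : act 6 n54584 = n26402 := d10_2 (iv6 F42143) D54584 (iv4 D26402)
def n54585 : Q := act 7 n26393
theorem D54585 : act 7 n26393 = n54585 := rfl
theorem F86266 : act 3 n54585 = n26417 := d8_1 D54585 (iv7 D26417) (iv3 F42142)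
theorem F86267 : act 5 n54585 = n26394 := d13_1 D54585 (iv7 D26394) D26393
def n54586 : Q := act 5 n26395
theorem D54586 : act 5 n26395 = n54586 := rfl
theorem F86268 : act 3 n54586 = n29616 := d6_1 D54586 (iv5 D29616) (iv3 F42146)
theorem F86269 : act 1 n54586 = n51060 := d17_6 (iv1 F42818) D26717 F42828 (iv5 D26396) D26395 D54586 (iv5 D51060) F80517 F80512
theorem F86270 : act 0 n54586 = n51058 := d21_1 D54586 (iv5 D51058) (iv6 F55493) (iv1 F49850) (iv6 D17413) D17412 (iv1 F56645) F56647 D52871 F83534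
def n54587 : Q := act 4 n26396
theorem D54587 : act 4 n26396 = n54587 := rfl
def n54588 : Q := act 6 n26396
theorem D54588 : act 6 n26396 = n54588 := rfl
theorem F86271 : act 3 n54588 = n29648 := d7_1 D54588 (iv6 D29648) (iv3 F42147)
theorem F86272 : act 5 n54588 = n35055 := d12_1 D54588 (iv6 D35055) (iv5 F41412) F41413 D26396
def n54589 : Q := act 5 n26398
theorem D54589 : act 5 n26398 = n54589 := rfl
theorem F86273 : act 1 n54589 = n51058 := d17_6 D12769 D26714 F42821 (iv5 D26399) D26398 D54589 (iv5 D51058) (iv0 D24836) F19127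
def n54590 : Q := act 4 n26399
theorem D54590 : act 4 n26399 = n54590 := rfl
def n54591 : Q := act 6 n26399
theorem D54591 : act 6 n26399 = n54591 := rfl
def n54592 : Q := act 4 n26400
theorem D54592 : act 4 n26400 = n54592 := rfl
theorem F86274 : act 3 n54592 = n34226 := d5_1 D54592 (iv4 D34226) F26218 (iv4 F21213) (iv3 F42150)
theorem F86275 : act 7 n54592 = n26719 := d11_2 F42152 D54592 (iv4 D26719)
def n54593 : Q := act 6 n26400
theorem D54593 : act 6 n26400 = n54593 := rfl
theorem F86276 : act 3 n54593 = n26725 := d7_1 D54593 (iv6 D26725) (iv3 F42150)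
theorem F86277 : act 5 n54593 = n32031 := d12_1 D54593 (iv6 D32031) (iv5 F41442) F24857 (iv5 F42151)
def n54594 : Q := act 4 n26401
theorem D54594 : act 4 n26401 = n54594 := rfl
theorem F86278 : act 2 n54594 = n26719 := d1_1 D54594 (iv4 D26719) (iv2 F42154)
def n54595 : Q := act 6 n26401
theorem D54595 : act 6 n26401 = n54595 := rfl
theorem F86279 : act 2 n54595 = n26720 := d3_1 D54595 (iv6 D26720) (iv2 F42154)
theorem F86280 : act 3 n54595 = n33435 := d7_1 D54595 F52719 (iv3 F42155)
theorem F86281 : act 5 n54595 = n26516 := d12_1 D54595 (iv6 D26516) F26964 (iv6 F21204) F42153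
def n54596 : Q := act 0 n26402
theorem D54596 : act 0 n26402 = n54596 := rfl
def n54597 : Q := act 1 n26402
theorem D54597 : act 1 n26402 = n54597 := rfl
theorem F86282 : act 4 n32453 = n54597 := d20_6 (iv4 F23402) (iv1 D14028) F10825 (iv3 F23173) (iv1 F27206) (iv3 F51528) (iv1 D54597) (iv4 D26402) F20978 (iv1 F10875)
def n54598 : Q := act 3 n26402
theorem D54598 : act 3 n26402 = n54598 := rfl
theorem F86283 : act 4 n54598 = n26418 := d5_2 D26402 D54598 (iv3 D26418) (iv4 D12605) (iv3 F20978)
theorem F86284 : act 7 n29900 = n54598 := d11_0 F86283 F42205 D29900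
def n54599 : Q := act 5 n26402
theorem D54599 : act 5 n26402 = n54599 := rfl
def n54600 : Q := act 7 n26402
theorem D54600 : act 7 n26402 = n54600 := rfl
theorem F86285 : act 3 n54600 = n29900 := d8_1 D54600 F86284 (iv3 D54598)
theorem F86286 : act 4 n54600 = n26403 := d11_1 D54600 (iv7 D26403) D26402
def n54601 : Q := act 6 n26403
theorem D54601 : act 6 n26403 = n54601 := rfl
theorem F86287 : act 3 n54601 = n26419 := d7_1 D54601 (iv6 D26419) (iv3 F42156)
theorem F86288 : act 5 n54601 = n33302 := d12_1 D54601 (iv6 D33302) F25597 (iv6 F20980) (iv5 F42157)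
def n54602 : Q := act 0 n26405
theorem D54602 : act 0 n26405 = n54602 := rfl
theorem F86289 : act 1 n33157 = n54602 := d15_0 (iv0 D54602) (iv7 F42192) D33157
def n54603 : Q := act 1 n26405
theorem D54603 : act 1 n26405 = n54603 := rfl
def n54604 : Q := act 2 n26405
theorem D54604 : act 2 n26405 = n54604 := rfl
theorem F86290 : act 3 n54604 = n26523 := d0_2 D26405 D54604 F85919 (iv3 D15984) (iv2 F42175)
theorem F86291 : act 7 n54604 = n33157 := d4_2 F42192 D54604 (iv2 D33157)
theorem F86293 : act 1 n54603 = n33157 := d15_1 D54603 (iv7 F86291) (iv2 D54604)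
theorem F86294 : act 1 n33156 = n54604 := d15_1 D33156 F86291 (iv2 D33157)
def n54605 : Q := act 4 n26405
theorem D54605 : act 4 n26405 = n54605 := rfl
theorem F86295 : act 3 n54605 = n27286 := d5_1 D54605 (iv4 D27286) (iv3 D13072) F42177 D26405
theorem F86296 : act 7 n54605 = n33158 := d11_2 F42192 D54605 (iv4 D33158)
def n54606 : Q := act 5 n26405
theorem D54606 : act 5 n26405 = n54606 := rfl
theorem F86298 : act 7 n54606 = n33159 := d13_2 F42192 D54606 (iv5 D33159)
def n54607 : Q := act 6 n26405
theorem D54607 : act 6 n26405 = n54607 := rfl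
theorem F86299 : act 3 n54607 = n26408 := d7_1 D54607 (iv6 D26408) D26405
def n54608 : Q := act 4 n26407
theorem D54608 : act 4 n26407 = n54608 := rfl
def n54609 : Q := act 6 n26407
theorem D54609 : act 6 n26407 = n54609 := rfl
theorem F86302 : act 2 n54609 = n33153 := d3_1 D54609 (iv6 D33153) F42194
def n54610 : Q := act 1 n26410
theorem D54610 : act 1 n26410 = n54610 := rfl
theorem F86303 : act 7 n54610 = n26484 := d15_2 (iv0 F85920) D54610 F42374
theorem F86304 : act 2 n26526 = n54610 := d4_3 F86303 F42374 D26526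
theorem F86305 : act 6 n26547 = n54610 := d14_5 F86303 (iv6 D26484) F21058 D12679 D26547
theorem E8302 : n33145 = n26526 := ((c15_4 (iv0 D33145) (iv0 F53174) (iv7 F86303) (iv2 F86304))).symm
theorem F86306 : act 1 n26526 = n15984 := (sb E8302 (iv0 D33145))
theorem F86307 : act 1 n54610 = n26523 := d15_0 (iv0 D26523) D26526 F86304
def n54611 : Q := act 2 n26410
theorem D54611 : act 2 n26410 = n54611 := rfl
theorem F86308 : act 3 n54611 = n33157 := d0_2 D26410 D54611 (iv2 D33157) (iv3 D15989) F42173
theorem F86309 : act 7 n54611 = n26523 := d4_2 (iv7 F42195) D54611 F85919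
theorem F86310 : act 1 n54611 = n26526 := d15_0 F86306 (iv7 F42195) D54611
theorem F86311 : act 1 n26484 = n54611 := d15_0 F86310 (iv7 D26526) (iv2 F42374)
def n54612 : Q := act 4 n26410
theorem D54612 : act 4 n26410 = n54612 := rfl
theorem F86312 : act 3 n54612 = n27295 := d5_1 D54612 (iv4 D27295) (iv3 D13077) (iv4 F42172) D26410
theorem F86313 : act 7 n54612 = n33148 := d11_2 (iv7 F42195) D54612 (iv4 D33148)
def n54613 : Q := act 5 n26410
theorem D54613 : act 5 n26410 = n54613 := rfl
theorem F86314 : act 3 n54613 = n26412 := d6_1 D54613 (iv5 D26412) D26410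
theorem F86315 : act 7 n54613 = n33149 := d13_2 (iv7 F42195) D54613 (iv5 D33149)
def n54614 : Q := act 6 n26410
theorem D54614 : act 6 n26410 = n54614 := rfl
theorem F86316 : act 3 n54614 = n26413 := d7_1 D54614 (iv6 D26413) D26410
def n54615 : Q := act 4 n26412
theorem D54615 : act 4 n26412 = n54615 := rfl
theorem F86317 : act 2 n54615 = n33161 := d1_1 D54615 (iv4 D33161) F42197
def n54616 : Q := act 6 n26412
theorem D54616 : act 6 n26412 = n54616 := rfl
theorem F86319 : act 2 n54616 = n33162 := d3_1 D54616 (iv6 D33162) F42197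
theorem F86320 : act 0 n29135 = n54616 := d21_4 (iv5 D6681) D6678 (iv5 F23139) D29135 (iv6 D54616) (iv5 D26412) (iv1 D12602) D12603 F20983 (iv1 F10875)
def n54617 : Q := act 3 n26414
theorem D54617 : act 3 n26414 = n54617 := rfl
theorem F86321 : act 5 n54617 = n33966 := d6_2 F42169 D54617 (iv3 D33966)
theorem F86322 : act 7 n54617 = n33166 := d8_2 (iv7 F42645) D54617 (iv3 D33166)
def n54618 : Q := act 6 n26414
theorem D54618 : act 6 n26414 = n54618 := rfl
theorem F86323 : act 2 n54618 = n33165 := d3_1 D54618 (iv6 D33165) (iv2 F42647)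
def n54619 : Q := act 3 n26415
theorem D54619 : act 3 n26415 = n54619 := rfl
theorem F86324 : act 5 n54619 = n33797 := d6_2 F42162 D54619 F53029
theorem F86325 : act 7 n54619 = n33164 := d8_2 F42648 D54619 (iv3 D33164)
def n54620 : Q := act 6 n26415
theorem D54620 : act 6 n26415 = n54620 := rfl
theorem F86326 : act 2 n54620 = n33167 := d3_1 D54620 (iv6 D33167) F42646
theorem F86327 : act 5 n54620 = n33801 := d12_1 D54620 (iv6 D33801) (iv5 D16332) D16333 F42162
def n54621 : Q := act 3 n26416
theorem D54621 : act 3 n26416 = n54621 := rfl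
theorem F86328 : act 6 n54621 = n26418 := d7_2 (iv6 F42164) D54621 (iv3 D26418)
def n54622 : Q := act 5 n26416
theorem D54622 : act 5 n26416 = n54622 := rfl
theorem F86330 : act 6 n54622 = n29907 := d12_2 (iv6 F42164) D54622 (iv5 D29907) (iv6 D14202) (iv5 F20991)
theorem F86331 : act 4 n54622 = n37087 := d16_2 D26416 D54622 F58006 F29000 F13193 (iv4 F11732) (iv5 F25494) (iv7 D15996) (iv2 F20982)
theorem F86332 : act 7 n37086 = n54622 := d11_0 F86331 (iv7 D37087) D37086
def n54623 : Q := act 7 n26416
theorem D54623 : act 7 n26416 = n54623 := rfl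
theorem F86334 : act 4 n54623 = n26417 := d11_1 D54623 (iv7 D26417) D26416
theorem F86335 : act 5 n54623 = n37086 := d13_1 D54623 F86332 (iv5 D54622)
theorem F86336 : act 6 n54623 = n29905 := d14_1 D54623 (iv7 D29905) (iv6 D14201) F20992 (iv6 F42164)
theorem F86337 : act 1 n29767 = n54623 := d15_1 (iv0 F47878) (iv7 D54623) F42163
theorem F86338 : act 1 n54623 = n29763 := d15_1 F86337 F47866 (iv2 F47876)
def n54624 : Q := act 6 n26417
theorem D54624 : act 6 n26417 = n54624 := rfl
theorem F86339 : act 2 n54624 = n33171 := d3_1 D54624 (iv6 D33171) (iv2 F42165)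
theorem F86340 : act 4 n54624 = n29905 := d10_1 D54624 (iv6 F86336) F86334
theorem F86341 : act 5 n54624 = n33331 := d12_1 D54624 (iv6 D33331) F25601 (iv6 F20986) (iv5 F42166)
theorem F86342 : act 7 n54624 = n26419 := d14_2 D26417 D54624 (iv6 D26419) (iv7 D12606) (iv6 F20983)
theorem F86343 : act 1 n33176 = n54624 := d15_1 D33176 F86342 F42206
theorem F86344 : act 1 n54624 = n33175 := d15_0 (iv0 D33175) (iv7 F52395) (iv2 F86339)
def n54625 : Q := act 0 n26418
theorem D54625 : act 0 n26418 = n54625 := rfl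
theorem F86345 : act 1 n29897 = n54625 := d15_0 (iv0 D54625) F42205 (iv2 F48037)
def n54626 : Q := act 1 n26418
theorem D54626 : act 1 n26418 = n54626 := rfl
def n54627 : Q := act 2 n26418
theorem D54627 : act 2 n26418 = n54627 := rfl
theorem F86346 : act 3 n54627 = n33174 := d0_2 D26418 D54627 (iv2 D33174) (iv3 D15997) (iv2 F20990)
theorem F86347 : act 5 n54627 = n29884 := d2_2 (iv5 F42204) D54627 (iv2 F48030)
theorem F86348 : act 7 n54627 = n29897 := d4_2 (iv7 F42205) D54627 F48037
theorem F86349 : act 1 n54627 = n29898 := d15_0 (iv0 D29898) (iv7 F42205) D54627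
theorem F86350 : act 1 n54626 = n29897 := d15_1 D54626 (iv7 F86348) (iv2 D54627)
theorem F86351 : act 1 n29899 = n54627 := d15_1 D29899 F86348 F48037
def n54628 : Q := act 0 n26419
theorem D54628 : act 0 n26419 = n54628 := rfl
theorem F86352 : act 1 n33171 = n54628 := d15_0 (iv0 D54628) (iv7 F86342) F86339
def n54629 : Q := act 1 n26419
theorem D54629 : act 1 n26419 = n54629 := rfl
theorem F86353 : act 1 n54629 = n33171 := d15_1 D54629 F52395 (iv2 F42206)
def n54630 : Q := act 0 n26420
theorem D54630 : act 0 n26420 = n54630 := rfl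
theorem F86354 : act 5 n54630 = n26997 := d17_3 F37449 D26420 D54630 F43591 (iv5 F46162) F52276 F25793 (iv0 F37259) F37448
theorem F86355 : act 3 n54630 = n32405 := d20_5 D25701 (iv1 F83648) F83649 F51832 D54630 (iv4 F76776) (iv1 F83676) F83674 F40649 (iv1 F40554)
theorem F86356 : act 2 n33002 = n54630 := d15_3 (iv0 D54630) F77594 F77592
theorem F86357 : act 1 n26426 = n54630 := d15_0 (iv0 D54630) F42210 (iv2 F42232)
theorem F86358 : act 7 n54630 = n33001 := d15_2 (iv0 F77593) F86357 (iv2 F77590)
def n54631 : Q := act 4 n26420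
theorem D54631 : act 4 n26420 = n54631 := rfl
theorem F86359 : act 2 n54631 = n33020 := d1_1 D54631 (iv4 D33020) (iv2 F42209)
theorem F86360 : act 7 n54631 = n33003 := d11_2 (iv7 F42210) D54631 (iv4 D33003)
theorem F86361 : act 0 n54631 = n34910 := d17_0 F55253 (iv1 D27458) D27460 F44379 (iv5 D27007) F43593 (iv5 F86354) (iv0 D54630) D54631
theorem F86362 : act 1 n54631 = n26988 := d18_6 (iv1 D12620) (iv4 D5992) D5989 D12608 D26420 D54631 (iv4 D26988) (iv0 F42283) (iv5 D26442)
def n54632 : Q := act 6 n26420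
theorem D54632 : act 6 n26420 = n54632 := rfl
theorem F86363 : act 2 n54632 = n33021 := d3_1 D54632 (iv6 D33021) (iv2 F42209)
def n54633 : Q := act 0 n26421
theorem D54633 : act 0 n26421 = n54633 := rfl
theorem F86364 : act 4 n54633 = n28601 := d18_3 (iv1 F27275) D26421 D54633 F46162 (iv4 F43591) (iv0 D26997) (iv4 D12927) (iv0 D6128) (iv5 F9352)
theorem F86365 : act 1 n26428 = n54633 := d15_0 (iv0 D54633) F42213 (iv2 F42236)
theorem F86366 : act 2 n33006 = n54633 := d1_3 F86364 (iv2 F56743) F56748
theorem F86367 : act 7 n28623 = n54633 := d11_0 F86364 F46163 D28623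
def n54634 : Q := act 1 n26421
theorem D54634 : act 1 n26421 = n54634 := rfl
theorem F86368 : act 1 n54634 = n26428 := d15_1 D54634 F42237 (iv2 F42211)
theorem F86369 : act 7 n54634 = n33006 := d15_2 (iv0 D54633) D54634 F86366
theorem F86370 : act 4 n54634 = n28622 := d18_7 (iv1 F37260) F37448 F37449 (iv4 D12608) D12609 D26421 D54634 (iv0 F52273) (iv5 D33051)
theorem F86371 : act 2 n28623 = n54634 := d1_3 F86370 (iv2 D28622) D28623
theorem F86372 : act 3 n36116 = n54634 := d5_5 F86370 F46190 (iv4 D18362) D18361 F56865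
def n54635 : Q := act 6 n26421
theorem D54635 : act 6 n26421 = n54635 := rfl
theorem F86373 : act 2 n54635 = n33024 := d3_1 D54635 (iv6 D33024) (iv2 F42211)
theorem F86374 : act 3 n54635 = n47158 := d7_1 D54635 (iv6 D47158) (iv3 F42212)
theorem F86375 : act 4 n54635 = n26422 := d10_1 D54635 (iv6 D26422) D26421
def n54636 : Q := act 0 n26422
theorem D54636 : act 0 n26422 = n54636 := rfl
def n54637 : Q := act 1 n26422
theorem D54637 : act 1 n26422 = n54637 := rfl
theorem F86376 : act 1 n54637 = n33027 := d15_1 D54637 (iv7 D33027) (iv2 F42214)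
def n54638 : Q := act 7 n26422
theorem D54638 : act 7 n26422 = n54638 := rfl
theorem F86377 : act 2 n54638 = n33027 := d4_1 D54638 (iv7 D33027) (iv2 F42214)
theorem F86378 : act 6 n54638 = n33011 := d14_1 D54638 (iv7 D33011) (iv6 D15907) (iv7 F25537) D26422
theorem F86380 : act 1 n33026 = n54638 := d15_1 D33026 (iv7 D54638) F42214
theorem F86381 : act 1 n54638 = n33025 := d15_0 (iv0 D33025) D33027 (iv2 F86377)
def n54639 : Q := act 6 n26424
theorem D54639 : act 6 n26424 = n54639 := rfl
theorem F86382 : act 2 n54639 = n39273 := d3_1 D54639 (iv6 D39273) (iv2 F42221)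
def n54640 : Q := act 5 n26425
theorem D54640 : act 5 n26425 = n54640 := rfl
theorem F86386 : act 7 n54640 = n26460 := d13_2 F42229 D54640 (iv5 D26460)
theorem F86387 : act 0 n54640 = n32976 := d21_1 D54640 F52148 (iv6 D24296) F50543 (iv6 D12929) F35185 (iv1 F21009) (iv5 D12617) D12618 F42228
def n54641 : Q := act 6 n26426
theorem D54641 : act 6 n26426 = n54641 := rfl
theorem F86388 : act 2 n54641 = n33004 := d3_1 D54641 (iv6 D33004) (iv2 F42232)
def n54642 : Q := act 5 n26427
theorem D54642 : act 5 n26427 = n54642 := rfl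
theorem F86389 : act 2 n54642 = n33005 := d2_1 D54642 (iv5 D33005) (iv2 F42234)
def n54643 : Q := act 3 n26428
theorem D54643 : act 3 n26428 = n54643 := rfl
theorem F86390 : act 2 n54643 = n47159 := d0_1 D54643 (iv3 D47159) (iv2 F35273) (iv3 F30289) (iv2 F42236)
theorem F86391 : act 7 n54643 = n33022 := d8_2 (iv7 F42237) D54643 (iv3 D33022)
theorem F86392 : act 0 n36089 = n54643 := d20_4 F21372 (iv1 F21929) (iv4 F28461) D36089 (iv3 D54643) (iv4 D26428) F27276 D12728 F21134 D12871
def n54644 : Q := act 6 n26428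
theorem D54644 : act 6 n26428 = n54644 := rfl
theorem F86393 : act 2 n54644 = n33007 := d3_1 D54644 (iv6 D33007) (iv2 F42236)
theorem F86394 : act 4 n54644 = n26429 := d10_1 D54644 (iv6 D26429) D26428
def n54645 : Q := act 0 n26429
theorem D54645 : act 0 n26429 = n54645 := rfl
def n54646 : Q := act 1 n26429
theorem D54646 : act 1 n26429 = n54646 := rfl
theorem F86395 : act 1 n54646 = n33011 := d15_1 D54646 (iv7 D33011) (iv2 F42238)
def n54647 : Q := act 5 n26429
theorem D54647 : act 5 n26429 = n54647 := rfl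
theorem F86396 : act 2 n54647 = n33010 := d2_1 D54647 (iv5 D33010) (iv2 F42238)
theorem F86397 : act 6 n54647 = n26432 := d12_2 D26429 D54647 (iv5 D26432) (iv6 D12615) D12614
def n54648 : Q := act 7 n26429
theorem D54648 : act 7 n26429 = n54648 := rfl
theorem F86398 : act 2 n54648 = n33011 := d4_1 D54648 (iv7 D33011) (iv2 F42238)
theorem F86399 : act 6 n54648 = n33027 := d14_1 D54648 (iv7 D33027) (iv6 D15922) (iv7 F25548) D26429
theorem F86400 : act 1 n33011 = n54645 := d15_0 (iv0 D54645) D54648 F86398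
theorem F86401 : act 1 n33009 = n54648 := d15_1 D33009 (iv7 D54648) F42238
theorem F86402 : act 1 n54648 = n33008 := d15_0 (iv0 D33008) D33011 (iv2 F86398)
def n54649 : Q := act 5 n26431
theorem D54649 : act 5 n26431 = n54649 := rfl
theorem F86403 : act 2 n54649 = n26684 := d2_1 D54649 (iv5 D26684) (iv2 F43612)
theorem F86404 : act 3 n54649 = n26533 := d6_1 D54649 (iv5 D26533) (iv3 F43613)
theorem F86405 : act 7 n54649 = n33013 := d13_2 (iv7 F43616) D54649 (iv5 D33013)
theorem F86406 : act 0 n54649 = n33971 := d21_1 D54649 (iv5 F55657) F55658 (iv1 D28375) (iv6 D13536) (iv5 F11532) F50537 (iv5 D15062) D15063 (iv1 F42240)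
theorem F86407 : act 0 n33970 = n54649 := d21_1 (iv5 F55608) (iv5 D54649) F43615 F26645 (iv6 F41339) D31934 (iv1 F85305) (iv5 D34402) D34403 F55609
def n54650 : Q := act 1 n26432
theorem D54650 : act 1 n26432 = n54650 := rfl
theorem F86408 : act 1 n54650 = n31932 := d15_1 D54650 F50258 (iv2 F42241)
theorem F86409 : act 7 n54650 = n33014 := d15_2 (iv0 F50496) D54650 F54573
theorem F86410 : act 5 n34994 = n54650 := d21_6 D5993 (iv1 F27839) (iv5 D7932) D7933 D16984 D34994 (iv1 D54650) (iv5 D26432) (iv6 D12615) (iv1 D5990)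
theorem F86411 : act 2 n54650 = n26690 := d2_1 F86410 F54572 (iv2 F55445)
theorem F86412 : act 3 n54650 = n32989 := d6_1 F86410 (iv5 F84926) F84923
def n54651 : Q := act 4 n26432
theorem D54651 : act 4 n26432 = n54651 := rfl
theorem F86413 : act 2 n54651 = n33016 := d1_1 D54651 (iv4 D33016) (iv2 F42241)
def n54652 : Q := act 4 n26433
theorem D54652 : act 4 n26433 = n54652 := rfl
theorem F86414 : act 2 n54652 = n26443 := d1_1 D54652 (iv4 D26443) (iv2 F42242)
theorem F86415 : act 7 n54652 = n33030 := d11_2 (iv7 F42244) D54652 (iv4 D33030)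
theorem F86416 : act 5 n54652 = n33098 := d16_1 D54652 (iv4 D33098) (iv5 D15963) (iv4 D7474) (iv5 D3415) D3414 D7470 (iv7 F21017) (iv2 F42242)
theorem F86417 : act 0 n54652 = n27460 := d17_0 (iv5 D27460) D27457 F44376 (iv4 D26988) (iv5 D12919) D12917 (iv5 F35191) F42246 D54652
theorem F86418 : act 1 n54652 = n33061 := d18_6 (iv1 D15900) (iv4 D7457) (iv1 F9310) D12616 D26433 D54652 F52281 (iv0 F52175) (iv5 D32999)
def n54653 : Q := act 6 n26433
theorem D54653 : act 6 n26433 = n54653 := rfl
theorem F86419 : act 2 n54653 = n26444 := d3_1 D54653 (iv6 D26444) (iv2 F42242)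
theorem F86420 : act 3 n54653 = n52819 := d7_1 D54653 (iv6 D52819) (iv3 F42243)
def n54654 : Q := act 5 n26434
theorem D54654 : act 5 n26434 = n54654 := rfl
theorem F86421 : act 2 n54654 = n26447 := d2_1 D54654 (iv5 D26447) (iv2 F42247)
theorem F86422 : act 3 n54654 = n42417 := d6_1 D54654 F65502 (iv3 F42248)
def n54655 : Q := act 7 n26434
theorem D54655 : act 7 n26434 = n54655 := rfl
theorem F86423 : act 2 n54655 = n26448 := d4_1 D54655 (iv7 D26448) (iv2 F42247)
theorem F86424 : act 3 n54655 = n43886 := d8_1 D54655 F69005 (iv3 F42248)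
theorem F86425 : act 4 n54655 = n26439 := d11_1 D54655 (iv7 D26439) (iv4 F42249)
theorem F86426 : act 6 n54655 = n33034 := d14_1 D54655 (iv7 D33034) (iv6 D15929) (iv7 F21002) D26434
theorem F86427 : act 1 n26446 = n54655 := d15_1 D26446 (iv7 D54655) F42247
theorem F86428 : act 1 n54655 = n26445 := d15_1 F86427 (iv7 F52513) F52511
def n54656 : Q := act 3 n26435
theorem D54656 : act 3 n26435 = n54656 := rfl
theorem F86429 : act 2 n54656 = n27115 := d0_1 D54656 (iv3 D27115) F21604 (iv3 F21022) (iv2 F42251)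
theorem F86430 : act 4 n54656 = n33205 := d5_2 D26435 D54656 (iv3 D33205) (iv4 D16028) (iv3 F21006)
theorem F86431 : act 7 n54656 = n33035 := d8_2 (iv7 F42252) D54656 (iv3 D33035)
theorem F86432 : act 1 n36795 = n54656 := d15_1 D36795 F86431 F52228
theorem F86433 : act 4 n36795 = n41703 := d20_0 (iv1 D41703) (iv4 F64333) (iv3 D41686) (iv1 F36437) F36433 (iv4 D15953) (iv1 F21009) D26435 D54656 (iv1 F86432)
theorem F86434 : act 1 n54656 = n36794 := d15_0 (iv0 D36794) (iv7 F43837) (iv2 F86429)
theorem F86435 : act 4 n41702 = n36794 := d20_0 (iv1 F86434) F86430 (iv3 D33205) (iv1 F29482) F29480 F13539 F7327 D9228 D19629 D41702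
def n54657 : Q := act 5 n26435
theorem D54657 : act 5 n26435 = n54657 := rfl
theorem F86436 : act 2 n54657 = n26451 := d2_1 D54657 (iv5 D26451) (iv2 F42251)
theorem F86437 : act 4 n54657 = n33062 := d9_1 D54657 (iv5 D33062) (iv4 D15945) (iv5 D7470) (iv4 D3414) D3415 D7474 D15963 D33098 (iv5 F86416) (iv4 D54652) (iv5 D26433) (iv4 D12616) D12617 D26435
theorem F86438 : act 7 n54657 = n33036 := d13_2 (iv7 F42252) D54657 (iv5 D33036)
theorem F86439 : act 0 n54657 = n33097 := d17_2 (iv1 F42254) D54657 F52319 (iv4 F25843) F25793 (iv0 F37259) D28564 F51726 F51724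
theorem F86440 : act 1 n54657 = n33096 := d17_6 F30291 (iv5 D7458) (iv1 F9310) D12617 D26435 D54657 F52318 (iv0 D16321) (iv4 D7589)
def n54658 : Q := act 6 n26435
theorem D54658 : act 6 n26435 = n54658 := rfl
theorem F86441 : act 2 n54658 = n26452 := d3_1 D54658 (iv6 D26452) (iv2 F42251)
theorem F86442 : act 4 n54658 = n26436 := d10_1 D54658 (iv6 D26436) D26435
def n54659 : Q := act 0 n26436
theorem D54659 : act 0 n26436 = n54659 := rfl
def n54660 : Q := act 1 n26436
theorem D54660 : act 1 n26436 = n54660 := rfl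
theorem F86443 : act 1 n54660 = n26456 := d15_1 D54660 (iv7 D26456) (iv2 F42255)
def n54661 : Q := act 5 n26436
theorem D54661 : act 5 n26436 = n54661 := rfl
theorem F86444 : act 2 n54661 = n26455 := d2_1 D54661 (iv5 D26455) (iv2 F42255)
theorem F86445 : act 3 n54661 = n33210 := d6_1 D54661 (iv5 D33210) (iv3 F42256)
theorem F86446 : act 6 n54661 = n26438 := d12_2 D26436 D54661 (iv5 D26438) (iv6 D12618) D12617
def n54662 : Q := act 7 n26436
theorem D54662 : act 7 n26436 = n54662 := rfl
theorem F86447 : act 2 n54662 = n26456 := d4_1 D54662 (iv7 D26456) (iv2 F42255)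
theorem F86448 : act 3 n54662 = n33211 := d8_1 D54662 (iv7 D33211) (iv3 F42256)
theorem F86449 : act 6 n54662 = n33041 := d14_1 D54662 (iv7 D33041) (iv6 D15931) (iv7 F21007) D26436
theorem F86450 : act 1 n26456 = n54659 := d15_0 (iv0 D54659) D54662 F86447
theorem F86451 : act 1 n26454 = n54662 := d15_1 D26454 (iv7 D54662) F42255
theorem F86452 : act 1 n54662 = n26453 := d15_0 (iv0 D26453) D26456 (iv2 F86447)
def n54663 : Q := act 4 n26437
theorem D54663 : act 4 n26437 = n54663 := rfl
theorem F86453 : act 2 n54663 = n26459 := d1_1 D54663 (iv4 D26459) F42261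
theorem F86454 : act 3 n54663 = n26539 := d5_1 D54663 (iv4 F42494) (iv3 D26338) (iv4 F51000) F50999
theorem F86455 : act 6 n54663 = n31971 := d10_2 (iv6 F42260) D54663 (iv4 D31971)
theorem F86456 : act 7 n54663 = n26457 := d11_2 (iv7 F42258) D54663 (iv4 D26457)
theorem F86457 : act 0 n54663 = n28567 := d20_1 D54663 F46146 F22799 (iv1 F50831) (iv3 D12569) F12653 (iv1 F5551) (iv4 F9323) (iv3 F21026) (iv1 F42257)
def n54664 : Q := act 5 n26437
theorem D54664 : act 5 n26437 = n54664 := rfl
theorem F86458 : act 2 n54664 = n26460 := d2_1 D54664 (iv5 D26460) F42261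
theorem F86459 : act 3 n54664 = n33514 := d6_1 D54664 (iv5 D33514) F50999
theorem F86460 : act 7 n54664 = n26458 := d13_2 (iv7 F42258) D54664 (iv5 D26458)
theorem F86461 : act 0 n32976 = n54664 := d21_7 (iv5 F55448) (iv1 F55450) (iv5 F50315) F43637 (iv1 F50544) D24296 (iv5 F52148) (iv5 D54664) F42260 (iv1 F41560)
def n54665 : Q := act 0 n26438
theorem D54665 : act 0 n26438 = n54665 := rfl
theorem F86462 : act 5 n54665 = n28375 := d21_2 D26438 D54665 (iv6 F55658) (iv1 F55659) (iv6 D34403) D34402 F54567 (iv5 D31972) (iv6 F42260) (iv1 D26437)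
theorem F86463 : act 3 n33971 = n54665 := d6_3 F86462 (iv3 F55656) F55657
theorem F86464 : act 7 n26462 = n54665 := d13_0 F86462 F55633 F55595
theorem F86465 : act 0 n54665 = n26464 := d21_1 (iv5 F86462) F42319 F21027 (iv1 F25397) (iv6 F50580) (iv5 F54406) (iv1 F55570) (iv5 D35015) D35016 (iv1 F55574)
theorem F86466 : act 2 n54665 = n26461 := d15_3 (iv0 D26461) D26462 F86464
theorem F86467 : act 7 n35034 = n26461 := d4_2 (iv7 F86464) (iv2 F55640) (iv2 F86466)
theorem F86468 : act 5 n26461 = n35035 := d13_1 F86467 (iv7 D35035) D35034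
def n54666 : Q := act 4 n26438
theorem D54666 : act 4 n26438 = n54666 := rfl
theorem F86469 : act 2 n54666 = n26463 := d1_1 D54666 (iv4 D26463) (iv2 F42263)
def n54667 : Q := act 7 n26438
theorem D54667 : act 7 n26438 = n54667 := rfl
theorem F86470 : act 2 n54667 = n26464 := d4_1 D54667 (iv7 D26464) (iv2 F42263)
theorem F86471 : act 3 n54667 = n26604 := d8_1 D54667 F42599 (iv3 F42264)
theorem F86472 : act 5 n54667 = n26439 := d13_1 D54667 (iv7 D26439) D26438
theorem F86473 : act 1 n26462 = n54667 := d15_1 D26462 (iv7 D54667) F42263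
theorem F86474 : act 1 n54667 = n26461 := d15_1 F86473 (iv7 F86467) F55640
def n54668 : Q := act 4 n26440
theorem D54668 : act 4 n26440 = n54668 := rfl
theorem F86475 : act 2 n54668 = n33055 := d1_1 D54668 (iv4 D33055) (iv2 F42270)
theorem F86476 : act 7 n54668 = n33052 := d11_2 (iv7 F42272) D54668 (iv4 D33052)
theorem F86477 : act 5 n54668 = n34365 := d16_1 D54668 (iv4 F77212) (iv5 F77215) (iv4 F42677) F41697 F21015 D26442 F42282 (iv2 F42270)
theorem F86478 : act 3 n54668 = n27547 := d19_3 D12619 D26440 D54668 (iv1 D27547) (iv5 D13170) F9755 (iv3 D2639) (iv1 F4038) F4040 (iv4 D1210) (iv3 F2251) D2579 F4124 (iv4 F2635) F2634 F2636 D1556 D3521 (iv3 F9313)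
def n54669 : Q := act 6 n26440
theorem D54669 : act 6 n26440 = n54669 := rfl
theorem F86479 : act 2 n54669 = n33056 := d3_1 D54669 (iv6 D33056) (iv2 F42270)
theorem F86480 : act 3 n54669 = n54550 := d7_1 D54669 (iv6 D54550) (iv3 F42271)
def n54670 : Q := act 4 n26442
theorem D54670 : act 4 n26442 = n54670 := rfl
theorem F86481 : act 2 n54670 = n33052 := d1_1 D54670 (iv4 D33052) (iv2 F42281)
theorem F86482 : act 7 n54670 = n33055 := d11_2 (iv7 F42282) D54670 (iv4 D33055)
def n54671 : Q := act 6 n26442
theorem D54671 : act 6 n26442 = n54671 := rfl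
theorem F86483 : act 2 n54671 = n33053 := d3_1 D54671 (iv6 D33053) (iv2 F42281)
def n54672 : Q := act 6 n26443
theorem D54672 : act 6 n26443 = n54672 := rfl
theorem F86484 : act 4 n54672 = n26444 := d10_1 D54672 (iv6 D26444) D26443
def n54673 : Q := act 0 n26444
theorem D54673 : act 0 n26444 = n54673 := rfl
def n54674 : Q := act 1 n26444
theorem D54674 : act 1 n26444 = n54674 := rfl
def n54675 : Q := act 5 n26444
theorem D54675 : act 5 n26444 = n54675 := rfl
theorem F86485 : act 3 n54675 = n34414 := d6_1 D54675 (iv5 D34414) (iv3 F42287)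
theorem F86486 : act 6 n54675 = n26447 := d12_2 D26444 D54675 (iv5 D26447) (iv6 D12622) D12621
def n54676 : Q := act 7 n26444
theorem D54676 : act 7 n26444 = n54676 := rfl
theorem F86487 : act 3 n54676 = n34415 := d8_1 D54676 (iv7 D34415) (iv3 F42287)
theorem F86488 : act 6 n54676 = n33067 := d14_1 D54676 (iv7 D33067) (iv6 D15946) (iv7 F21017) D26444
def n54677 : Q := act 5 n26445
theorem D54677 : act 5 n26445 = n54677 := rfl
theorem F86489 : act 2 n54677 = n34811 := d2_1 D54677 (iv5 D34811) F42290
theorem F86490 : act 3 n54677 = n52870 := d6_1 D54677 (iv5 D52870) (iv3 F42288)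
def n54678 : Q := act 5 n26446
theorem D54678 : act 5 n26446 = n54678 := rfl
theorem F86491 : act 3 n54678 = n34818 := d6_1 D54678 F55035 F42293
theorem F86492 : act 7 n54678 = n34811 := d13_2 (iv7 F42292) D54678 (iv5 D34811)
def n54679 : Q := act 0 n26447
theorem D54679 : act 0 n26447 = n54679 := rfl
def n54680 : Q := act 1 n26447
theorem D54680 : act 1 n26447 = n54680 := rfl
theorem F86493 : act 5 n32576 = n54680 := d21_6 D26440 F42273 (iv5 D16929) D16930 F27766 D32576 (iv1 D54680) (iv5 D26447) (iv6 D12622) D12619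
theorem F86494 : act 3 n54680 = n53081 := d6_1 F86493 F83777 (iv3 F51640)
def n54681 : Q := act 4 n26447
theorem D54681 : act 4 n26447 = n54681 := rfl
def n54682 : Q := act 7 n26447
theorem D54682 : act 7 n26447 = n54682 := rfl
theorem F86495 : act 3 n54682 = n34418 := d8_1 D54682 (iv7 D34418) (iv3 F42296)
theorem F86496 : act 5 n54682 = n26448 := d13_1 D54682 (iv7 D26448) D26447
def n54683 : Q := act 3 n26449
theorem D54683 : act 3 n26449 = n54683 := rfl
theorem F86497 : act 4 n54683 = n27379 := d5_2 F46148 D54683 (iv3 F51748) (iv4 F51747) F51743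
theorem F86498 : act 7 n54683 = n33090 := d8_2 F42307 D54683 (iv3 D33090)
def n54684 : Q := act 6 n26449
theorem D54684 : act 6 n26449 = n54684 := rfl
theorem F86499 : act 2 n54684 = n33095 := d3_1 D54684 (iv6 D33095) F42305
def n54685 : Q := act 6 n26450
theorem D54685 : act 6 n26450 = n54685 := rfl
theorem F86500 : act 2 n54685 = n33092 := d3_1 D54685 (iv6 D33092) (iv2 F42306)
theorem F86501 : act 4 n54685 = n32658 := d10_1 D54685 (iv6 D32658) F42303
def n54686 : Q := act 0 n26451
theorem D54686 : act 0 n26451 = n54686 := rfl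
theorem F86502 : act 5 n54686 = n26631 := d17_1 D54686 (iv1 F42675) D33761 F52997 F44376 (iv0 F76679) (iv5 D27342) D27340 (iv4 F44241)
theorem F86503 : act 2 n33097 = n54686 := d15_3 (iv0 D54686) (iv0 F77214) F77213
theorem F86504 : act 1 n33036 = n54686 := d15_0 (iv0 D54686) F42309 (iv2 F52229)
theorem F86505 : act 7 n54686 = n33096 := d15_2 F77217 F86504 (iv2 F77216)
def n54687 : Q := act 6 n26451
theorem D54687 : act 6 n26451 = n54687 := rfl
theorem F86506 : act 3 n54687 = n27125 := d7_1 D54687 (iv6 D27125) (iv3 F42308)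
def n54688 : Q := act 0 n26452
theorem D54688 : act 0 n26452 = n54688 := rfl
def n54689 : Q := act 1 n26452
theorem D54689 : act 1 n26452 = n54689 := rfl
def n54690 : Q := act 5 n26452
theorem D54690 : act 5 n26452 = n54690 := rfl
def n54691 : Q := act 7 n26452
theorem D54691 : act 7 n26452 = n54691 := rfl
theorem F86508 : act 3 n54691 = n27129 := d8_1 D54691 (iv7 D27129) (iv3 F42310)
theorem F86509 : act 4 n54691 = n26456 := d11_1 D54691 (iv7 D26456) (iv4 F42311)
theorem F86510 : act 6 n54691 = n33103 := d14_1 D54691 (iv7 D33103) (iv6 D15964) (iv7 F21023) D26452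
def n54692 : Q := act 2 n26453
theorem D54692 : act 2 n26453 = n54692 := rfl
theorem F86511 : act 7 n26454 = n54692 := d15_2 (iv0 D26453) D26454 (iv2 D54692)
def n54693 : Q := act 3 n26453
theorem D54693 : act 3 n26453 = n54693 := rfl
def n54694 : Q := act 4 n26453
theorem D54694 : act 4 n26453 = n54694 := rfl
def n54695 : Q := act 5 n26453
theorem D54695 : act 5 n26453 = n54695 := rfl
def n54696 : Q := act 6 n26453
theorem D54696 : act 6 n26453 = n54696 := rfl
def n54697 : Q := act 7 n26453
theorem D54697 : act 7 n26453 = n54697 := rfl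
theorem F86512 : act 2 n54697 = n26454 := d4_1 D54697 F86511 (iv2 D54692)
def n54698 : Q := act 3 n26454
theorem D54698 : act 3 n26454 = n54698 := rfl
def n54699 : Q := act 4 n26454
theorem D54699 : act 4 n26454 = n54699 := rfl
def n54700 : Q := act 5 n26454
theorem D54700 : act 5 n26454 = n54700 := rfl
def n54701 : Q := act 6 n26454
theorem D54701 : act 6 n26454 = n54701 := rfl
def n54702 : Q := act 0 n26455
theorem D54702 : act 0 n26455 = n54702 := rfl
def n54703 : Q := act 1 n26455
theorem D54703 : act 1 n26455 = n54703 := rfl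
def n54704 : Q := act 4 n26455
theorem D54704 : act 4 n26455 = n54704 := rfl
theorem F86513 : act 6 n54704 = n26463 := d10_2 (iv6 F42313) D54704 (iv4 D26463)
def n54705 : Q := act 7 n26455
theorem D54705 : act 7 n26455 = n54705 := rfl
theorem F86514 : act 3 n54705 = n26474 := d8_1 D54705 (iv7 D26474) (iv3 F42312)
theorem F86515 : act 5 n54705 = n26456 := d13_1 D54705 (iv7 D26456) D26455
def n54706 : Q := act 5 n26457
theorem D54706 : act 5 n26457 = n54706 := rfl
theorem F86516 : act 3 n54706 = n33222 := d6_1 D54706 (iv5 D33222) (iv3 F42316)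
def n54707 : Q := act 0 n26458
theorem D54707 : act 0 n26458 = n54707 := rfl
theorem F86517 : act 5 n54707 = n35016 := d21_2 D26458 D54707 (iv6 D35016) (iv1 D16996) (iv6 D7938) D7937 F27840 (iv5 D5993) D5994 D12627
theorem F86518 : act 2 n32976 = n54707 := d15_3 (iv0 D54707) (iv0 F50535) (iv7 F52149)
theorem F86519 : act 1 n26460 = n54707 := d15_0 (iv0 D54707) (iv7 F86460) F86458
theorem F86520 : act 3 n54707 = n26605 := d0_2 D32976 F86518 (iv2 F54432) F54433 F27093
def n54708 : Q := act 4 n26458
theorem D54708 : act 4 n26458 = n54708 := rfl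
def n54709 : Q := act 6 n26458
theorem D54709 : act 6 n26458 = n54709 := rfl
theorem F86521 : act 5 n54709 = n39273 := d12_1 D54709 (iv6 D39273) (iv5 F29902) F27211 D26458
def n54710 : Q := act 5 n26459
theorem D54710 : act 5 n26459 = n54710 := rfl
def n54711 : Q := act 4 n26460
theorem D54711 : act 4 n26460 = n54711 := rfl
def n54712 : Q := act 6 n26460
theorem D54712 : act 6 n26460 = n54712 := rfl
def n54713 : Q := act 3 n26461
theorem D54713 : act 3 n26461 = n54713 := rfl
theorem F86522 : act 5 n54713 = n31654 := d6_2 (iv5 F86468) D54713 (iv3 F55645)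
theorem F86523 : act 7 n54713 = n33516 := d8_2 F86467 D54713 (iv3 F55641)
theorem F86524 : act 2 n54713 = n33515 := d15_3 (iv0 D33515) D33516 (iv7 F86523)
theorem F86525 : act 0 n33506 = n54713 := d17_2 (iv1 F50776) D33506 F86522 (iv4 D31654) D31655 (iv0 F50604) (iv5 D26331) F41381 (iv4 F50244)
def n54714 : Q := act 4 n26461
theorem D54714 : act 4 n26461 = n54714 := rfl
def n54715 : Q := act 6 n26461
theorem D54715 : act 6 n26461 = n54715 := rfl
def n54716 : Q := act 4 n26462
theorem D54716 : act 4 n26462 = n54716 := rfl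
def n54717 : Q := act 6 n26462
theorem D54717 : act 6 n26462 = n54717 := rfl
def n54718 : Q := act 0 n26463
theorem D54718 : act 0 n26463 = n54718 := rfl
def n54719 : Q := act 1 n26463
theorem D54719 : act 1 n26463 = n54719 := rfl
theorem F86526 : act 4 n32583 = n54719 := d20_6 (iv4 F42062) (iv1 F42063) F25344 (iv3 F26522) (iv1 F24977) (iv3 F51643) (iv1 D54719) (iv4 D26463) F21025 D12635
def n54720 : Q := act 3 n26463
theorem D54720 : act 3 n26463 = n54720 := rfl
def n54721 : Q := act 5 n26463
theorem D54721 : act 5 n26463 = n54721 := rfl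
def n54722 : Q := act 7 n26463
theorem D54722 : act 7 n26463 = n54722 := rfl
theorem F86528 : act 4 n54722 = n26464 := d11_1 D54722 (iv7 D26464) D26463
def n54723 : Q := act 6 n26464
theorem D54723 : act 6 n26464 = n54723 := rfl
theorem F86529 : act 3 n54723 = n26480 := d7_1 D54723 (iv6 D26480) (iv3 F42318)
theorem F86530 : act 5 n54723 = n33144 := d12_1 D54723 (iv6 D33144) F25490 (iv6 F21027) (iv5 F42319)
def n54724 : Q := act 0 n26465
theorem D54724 : act 0 n26465 = n54724 := rfl
theorem F86531 : act 1 n33317 = n54724 := d15_0 (iv0 D54724) F42320 D33317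
def n54725 : Q := act 1 n26465
theorem D54725 : act 1 n26465 = n54725 := rfl
def n54726 : Q := act 2 n26465
theorem D54726 : act 2 n26465 = n54726 := rfl
theorem F86532 : act 3 n54726 = n33305 := d0_2 D26465 D54726 (iv2 D33305) (iv3 D16083) (iv2 F30383)
theorem F86533 : act 7 n54726 = n33317 := d4_2 (iv7 F42320) D54726 (iv2 D33317)
theorem F86534 : act 1 n54726 = n33315 := d15_0 (iv0 D33315) (iv7 F42320) D54726
theorem F86536 : act 1 n33316 = n54726 := d15_1 D33316 F86533 (iv2 D33317)
def n54727 : Q := act 4 n26465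
theorem D54727 : act 4 n26465 = n54727 := rfl
theorem F86537 : act 3 n54727 = n27276 := d5_1 D54727 (iv4 D27276) (iv3 D13064) (iv4 F30384) D26465
theorem F86538 : act 7 n54727 = n33318 := d11_2 (iv7 F42320) D54727 (iv4 D33318)
def n54728 : Q := act 5 n26465
theorem D54728 : act 5 n26465 = n54728 := rfl
theorem F86539 : act 3 n54728 = n26466 := d6_1 D54728 (iv5 D26466) D26465
theorem F86540 : act 7 n54728 = n33319 := d13_2 (iv7 F42320) D54728 (iv5 D33319)
def n54729 : Q := act 6 n26465
theorem D54729 : act 6 n26465 = n54729 := rfl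
theorem F86541 : act 3 n54729 = n26467 := d7_1 D54729 (iv6 D26467) D26465
def n54730 : Q := act 4 n26466
theorem D54730 : act 4 n26466 = n54730 := rfl
theorem F86544 : act 5 n54730 = n54484 := d16_1 D54730 F86038 (iv5 F42336) F42339 F13619 (iv4 F30387) D26469 F42327 (iv2 F42321)
def n54731 : Q := act 6 n26466
theorem D54731 : act 6 n26466 = n54731 := rfl
def n54732 : Q := act 1 n26467
theorem D54732 : act 1 n26467 = n54732 := rfl
theorem F86546 : act 1 n54732 = n33314 := d15_1 D54732 (iv7 D33314) (iv2 F42323)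
theorem F86547 : act 7 n54732 = n26742 := d15_2 F53032 D54732 F51284
theorem F86548 : act 4 n54732 = n27147 := d17_9 (iv1 D27147) F21625 (iv1 D12982) (iv5 D6163) (iv4 F9351) D12723 D26626 (iv5 F42656) D54732
theorem F86549 : act 6 n27815 = n54732 := d21_3 D6298 D13273 D27815 (iv1 D54732) (iv6 D26467) D26466 (iv1 F44916) (iv5 D27810) (iv6 D13272) (iv1 D6297)
theorem F86550 : act 2 n54732 = n33313 := d3_1 F86549 (iv6 F52546) (iv2 F51306)
theorem F86551 : act 5 n54732 = n33799 := d21_6 D16419 (iv1 F42198) (iv5 D15991) D15992 (iv1 F44924) F86549 (iv1 D33799) (iv5 D16332) D16333 F42199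
theorem F86552 : act 6 n54381 = n33799 := d12_4 (iv6 F86549) (iv5 D27815) D27816 F85840 (iv5 F86551)
def n54733 : Q := act 0 n26468
theorem D54733 : act 0 n26468 = n54733 := rfl
theorem F86553 : act 1 n33305 = n54733 := d15_0 (iv0 D54733) F42325 D33305
def n54734 : Q := act 1 n26468
theorem D54734 : act 1 n26468 = n54734 := rfl
def n54735 : Q := act 2 n26468
theorem D54735 : act 2 n26468 = n54735 := rfl
theorem F86554 : act 3 n54735 = n33317 := d0_2 D26468 D54735 (iv2 D33317) (iv3 D16088) (iv2 F30386)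
theorem F86555 : act 7 n54735 = n33305 := d4_2 (iv7 F42325) D54735 (iv2 D33305)
theorem F86556 : act 1 n54735 = n33303 := d15_0 (iv0 D33303) (iv7 F42325) D54735
theorem F86557 : act 1 n54734 = n33305 := d15_1 D54734 (iv7 F86555) (iv2 D54735)
def n54736 : Q := act 4 n26468
theorem D54736 : act 4 n26468 = n54736 := rfl
theorem F86559 : act 3 n54736 = n27281 := d5_1 D54736 (iv4 D27281) (iv3 D13068) (iv4 F30387) D26468
theorem F86560 : act 7 n54736 = n33306 := d11_2 (iv7 F42325) D54736 (iv4 D33306)
def n54737 : Q := act 5 n26468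
theorem D54737 : act 5 n26468 = n54737 := rfl
theorem F86561 : act 3 n54737 = n26469 := d6_1 D54737 (iv5 D26469) D26468
theorem F86562 : act 7 n54737 = n33307 := d13_2 (iv7 F42325) D54737 (iv5 D33307)
def n54738 : Q := act 6 n26468
theorem D54738 : act 6 n26468 = n54738 := rfl
theorem F86563 : act 3 n54738 = n26470 := d7_1 D54738 (iv6 D26470) D26468
def n54739 : Q := act 4 n26469
theorem D54739 : act 4 n26469 = n54739 := rfl
theorem F86564 : act 2 n54739 = n33321 := d1_1 D54739 (iv4 D33321) (iv2 F42326)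
theorem F86565 : act 5 n54739 = n54483 := d9_2 D26469 D54739 F86032 F42330 F30363 F13688 (iv4 F30384) D26466 D54730 F86544 F86038 (iv5 F42336) F42339 F13619 (iv4 F30387)
def n54740 : Q := act 3 n26471
theorem D54740 : act 3 n26471 = n54740 := rfl
theorem F86567 : act 5 n54740 = n39459 := d6_2 (iv5 F42330) D54740 (iv3 D39459)
theorem F86568 : act 7 n54740 = n33324 := d8_2 F42332 D54740 (iv3 D33324)
def n54741 : Q := act 6 n26471
theorem D54741 : act 6 n26471 = n54741 := rfl
theorem F86569 : act 2 n54741 = n33323 := d3_1 D54741 (iv6 D33323) F42331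
theorem F86570 : act 5 n54741 = n34305 := d21_6 (iv5 D12580) F12679 D5998 (iv6 F21030) D26471 D54741 (iv1 D34305) D34306 F54438 F27095
theorem F86571 : act 2 n34305 = n49827 := d2_1 F86570 (iv5 F78759) (iv2 F86569)
theorem F86572 : act 7 n49826 = n34305 := d15_2 F78757 F78762 F86571
theorem F86573 : act 7 n34304 = n49827 := d15_2 F78763 F78764 (iv2 F86571)
theorem F86574 : act 2 n49826 = n34304 := d4_3 F86573 (iv2 F86571) (iv7 F86572)
def n54742 : Q := act 3 n26472
theorem D54742 : act 3 n26472 = n54742 := rfl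
theorem F86575 : act 5 n54742 = n33854 := d6_2 F42336 D54742 F53200
theorem F86576 : act 7 n54742 = n33322 := d8_2 (iv7 F42335) D54742 (iv3 D33322)
def n54743 : Q := act 6 n26472
theorem D54743 : act 6 n26472 = n54743 := rfl
theorem F86577 : act 2 n54743 = n33325 := d3_1 D54743 (iv6 D33325) F42348
theorem F86578 : act 5 n54743 = n33858 := d12_1 D54743 (iv6 D33858) (iv5 D16366) D16367 F42336
def n54745 : Q := act 6 n26474
theorem D54745 : act 6 n26474 = n54745 := rfl
theorem F86580 : act 2 n54745 = n33331 := d3_1 D54745 (iv6 D33331) (iv2 F42352)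
theorem F86581 : act 5 n54745 = n33171 := d12_1 D54745 (iv6 D33171) F25494 (iv6 F21033) (iv5 F42353)
theorem F86582 : act 7 n54745 = n26480 := d14_2 D26474 D54745 (iv6 D26480) (iv7 D12638) (iv6 F21030)
theorem F86583 : act 0 n33357 = n54745 := d21_4 F85571 (iv1 F41627) D32234 (iv6 F52593) (iv6 D54745) F42353 (iv1 F21035) D16090 (iv6 F51174) (iv1 F85573)
theorem F86584 : act 1 n33358 = n54745 := d15_1 D33358 F86582 F42363
def n54746 : Q := act 2 n26475
theorem D54746 : act 2 n26475 = n54746 := rfl
theorem F86585 : act 3 n54746 = n33334 := d0_2 D26475 D54746 (iv2 D33334) (iv3 D16096) F21038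
theorem F86586 : act 5 n54746 = n53904 := d2_2 (iv5 F42356) D54746 (iv2 D53904)
theorem F86587 : act 7 n54746 = n26551 := d4_2 (iv7 F42357) D54746 F43286
theorem F86588 : act 1 n54746 = n26533 := d15_0 (iv0 F42479) (iv7 F42357) D54746
theorem F86589 : act 1 n26553 = n54746 := d15_0 F86588 (iv7 F86142) F86140
def n54747 : Q := act 4 n26475
theorem D54747 : act 4 n26475 = n54747 := rfl
theorem F86590 : act 7 n54747 = n33341 := d11_2 (iv7 F42357) D54747 (iv4 D33341)
def n54748 : Q := act 6 n26475
theorem D54748 : act 6 n26475 = n54748 := rfl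
theorem F86591 : act 3 n54748 = n26476 := d7_1 D54748 (iv6 D26476) D26475
theorem F86592 : act 5 n54748 = n33292 := d12_1 D54748 (iv6 D33292) D33291 (iv6 F52520) (iv5 F42356)
def n54749 : Q := act 0 n26476
theorem D54749 : act 0 n26476 = n54749 := rfl
def n54750 : Q := act 1 n26476
theorem D54750 : act 1 n26476 = n54750 := rfl
theorem F86593 : act 1 n54750 = n33340 := d15_1 D54750 (iv7 D33340) (iv2 F42358)
def n54751 : Q := act 5 n26476
theorem D54751 : act 5 n26476 = n54751 := rfl
theorem F86594 : act 2 n54751 = n33339 := d2_1 D54751 (iv5 D33339) (iv2 F42358)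
theorem F86595 : act 3 n54751 = n33292 := d6_1 D54751 (iv5 F86592) F86591
theorem F86596 : act 6 n54751 = n26680 := d12_2 D26476 D54751 F42752 F25940 (iv5 F21037)
theorem F86597 : act 0 n54751 = n27809 := d21_4 (iv5 F22834) F25943 (iv5 F42752) (iv6 F86596) (iv6 D27809) (iv5 D13271) (iv1 D6297) D6298 F9805 D7624
theorem F86598 : act 1 n54751 = n39458 := d15_1 (iv0 F86597) (iv7 D39458) (iv2 F44913)
def n54752 : Q := act 7 n26476
theorem D54752 : act 7 n26476 = n54752 := rfl
theorem F86599 : act 2 n54752 = n33340 := d4_1 D54752 (iv7 D33340) (iv2 F42358)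
theorem F86600 : act 6 n54752 = n33345 := d14_1 D54752 (iv7 D33345) (iv6 D16099) F21039 D26476
theorem F86601 : act 1 n33340 = n54749 := d15_0 (iv0 D54749) D54752 F86599
theorem F86602 : act 1 n33338 = n54752 := d15_1 D33338 (iv7 D54752) F42358
theorem F86603 : act 1 n54752 = n33337 := d15_0 (iv0 D33337) D33340 (iv2 F86599)
def n54753 : Q := act 4 n26477
theorem D54753 : act 4 n26477 = n54753 := rfl
theorem F86604 : act 2 n54753 = n33559 := d1_1 D54753 (iv4 D33559) (iv2 F54109)
theorem F86605 : act 7 n54753 = n33335 := d11_2 (iv7 F42360) D54753 (iv4 D33335)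
def n54754 : Q := act 6 n26477
theorem D54754 : act 6 n26477 = n54754 := rfl
theorem F86606 : act 2 n54754 = n33561 := d3_1 D54754 (iv6 D33561) (iv2 F54109)
theorem F86607 : act 3 n54754 = n26478 := d7_1 D54754 (iv6 D26478) D26477
theorem F86608 : act 5 n54754 = n54371 := d12_1 D54754 (iv6 D54371) (iv5 D26284) (iv6 F41217) (iv5 F42359)
def n54755 : Q := act 0 n26478
theorem D54755 : act 0 n26478 = n54755 := rfl
def n54756 : Q := act 1 n26478
theorem D54756 : act 1 n26478 = n54756 := rfl
theorem F86609 : act 1 n54756 = n33345 := d15_1 D54756 (iv7 D33345) (iv2 F42361)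
def n54757 : Q := act 7 n26478
theorem D54757 : act 7 n26478 = n54757 := rfl
theorem F86610 : act 2 n54757 = n33345 := d4_1 D54757 (iv7 D33345) (iv2 F42361)
theorem F86611 : act 5 n54757 = n54375 := d13_1 D54757 (iv7 D54375) (iv5 F42362)
theorem F86612 : act 6 n54757 = n33340 := d14_1 D54757 (iv7 D33340) (iv6 D16097) (iv7 F21042) D26478
theorem F86613 : act 1 n33345 = n54755 := d15_0 (iv0 D54755) D54757 F86610
theorem F86614 : act 1 n33344 = n54757 := d15_1 D33344 (iv7 D54757) F42361
theorem F86615 : act 1 n54757 = n33343 := d15_0 (iv0 D33343) D33345 (iv2 F86610)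
def n54761 : Q := act 0 n26480
theorem D54761 : act 0 n26480 = n54761 := rfl
theorem F86617 : act 6 n54761 = n54228 := d21_5 (iv5 D7448) F11596 (iv5 F21047) D26480 D54761 (iv5 D54228) (iv1 D26223) D26224 F41623 (iv1 D15879)
theorem F86618 : act 1 n33331 = n54761 := d15_0 (iv0 D54761) (iv7 F86582) F86580
def n54762 : Q := act 1 n26480
theorem D54762 : act 1 n26480 = n54762 := rfl
theorem F86619 : act 1 n54762 = n33331 := d15_1 D54762 F52572 (iv2 F42363)
def n54763 : Q := act 4 n26481
theorem D54763 : act 4 n26481 = n54763 := rfl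
theorem F86620 : act 2 n54763 = n26607 := d1_1 D54763 (iv4 D26607) (iv2 F42365)
theorem F86621 : act 6 n54763 = n39326 := d10_2 (iv6 F42367) D54763 (iv4 D39326)
theorem F86622 : act 7 n54763 = n33286 := d11_2 (iv7 F42368) D54763 (iv4 D33286)
def n54764 : Q := act 6 n26482
theorem D54764 : act 6 n26482 = n54764 := rfl
theorem F86623 : act 2 n54764 = n26508 := d3_1 D54764 (iv6 D26508) (iv2 F42369)
theorem F86624 : act 3 n54764 = n49054 := d7_1 D54764 (iv6 D49054) (iv3 F42370)
def n54765 : Q := act 0 n26483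
theorem D54765 : act 0 n26483 = n54765 := rfl
theorem F86625 : act 5 n54765 = n36574 := d17_1 D54765 (iv1 D36574) F28721 (iv4 D12698) (iv5 F27027) (iv0 D6044) D6047 (iv0 F27127) D26483
theorem F86626 : act 4 n54765 = n32446 := d18_3 (iv1 F27128) D26483 D54765 (iv5 D32446) (iv4 F28362) (iv0 D17395) F12918 (iv0 F26771) (iv5 F12395)
theorem F86627 : act 2 n26517 = n54765 := d15_3 (iv0 D54765) (iv0 F51868) F51867
theorem F86628 : act 1 n26522 = n54765 := d15_0 (iv0 D54765) F42373 (iv2 F42463)
theorem F86629 : act 7 n54765 = n26518 := d15_2 F51869 F86628 (iv2 F51866)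
theorem F86630 : act 3 n34538 = n54765 := d8_3 F86629 F51523 (iv7 F58969)
def n54766 : Q := act 5 n26483
theorem D54766 : act 5 n26483 = n54766 := rfl
theorem F86631 : act 2 n54766 = n26520 := d2_1 D54766 (iv5 D26520) (iv2 F42372)
theorem F86632 : act 3 n54766 = n35448 := d6_1 D54766 (iv5 F72441) F72437
theorem F86633 : act 7 n54766 = n26542 := d13_2 (iv7 F42373) D54766 (iv5 D26542)
theorem F86634 : act 0 n54766 = n35458 := d17_2 F51868 D54766 F56161 D39280 F60253 (iv0 D25667) D25669 F40585 D32761
theorem F86635 : act 1 n54766 = n35457 := d17_6 (iv1 F9341) (iv5 D6013) F26615 D12644 D26483 D54766 F56160 (iv0 D18635) (iv4 D8748)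
theorem F86636 : act 4 n54766 = n37192 := d18_5 (iv1 F42851) F27534 (iv1 F27128) D26483 D54766 F71079 F71075 F42519 (iv5 F42850)
def n54767 : Q := act 6 n26483
theorem D54767 : act 6 n26483 = n54767 := rfl
theorem F86637 : act 2 n54767 = n26521 := d3_1 D54767 (iv6 D26521) (iv2 F42372)
theorem F86638 : act 4 n54767 = n26484 := d10_1 D54767 (iv6 D26484) D26483
def n54768 : Q := act 6 n26485
theorem D54768 : act 6 n26485 = n54768 := rfl
theorem F86639 : act 2 n54768 = n33019 := d3_1 D54768 (iv6 D33019) (iv2 F42375)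
theorem F86640 : act 3 n54768 = n33504 := d7_1 D54768 (iv6 D33504) (iv3 F42376)
def n54769 : Q := act 6 n26486
theorem D54769 : act 6 n26486 = n54769 := rfl
theorem F86641 : act 2 n54769 = n26493 := d3_1 D54769 (iv6 D26493) (iv2 F42380)
theorem F86642 : act 3 n54769 = n34336 := d7_1 D54769 F54493 (iv3 F42381)
theorem F86643 : act 5 n54769 = n34333 := d12_1 D54769 (iv6 D34333) F27117 F26668 D26486
def n54770 : Q := act 5 n26487
theorem D54770 : act 5 n26487 = n54770 := rfl
theorem F86644 : act 3 n54770 = n26488 := d6_1 D54770 (iv5 D26488) D26487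
theorem F86645 : act 7 n54770 = n48742 := d13_2 (iv7 F42383) D54770 (iv5 D48742)
theorem F86646 : act 0 n52823 = n54770 := d21_1 (iv5 F83469) (iv5 D54770) (iv6 F68991) (iv1 D43881) (iv6 D20787) F15531 (iv1 F6590) (iv5 F15226) D20532 F55115
theorem F86647 : act 0 n43882 = n49206 := d21_1 D43882 (iv5 D49206) F37544 D49087 F82961 (iv5 F83469) F86646 (iv5 D54770) (iv6 F68991) (iv1 D43881)
def n54771 : Q := act 4 n26488
theorem D54771 : act 4 n26488 = n54771 := rfl
theorem F86648 : act 2 n54771 = n44937 := d1_1 D54771 F70633 (iv2 F42385)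
theorem F86649 : act 5 n54771 = n44962 := d9_2 D26488 D54771 F70696 F61039 F51797 F51794 F42216 (iv5 F51468) (iv4 F58276) F58277 F29668 (iv5 F42458) (iv4 D26492) (iv5 D12650) D12649
theorem F86650 : act 7 n54771 = n48744 := d11_2 (iv7 F42386) D54771 (iv4 D48744)
def n54772 : Q := act 6 n26488
theorem D54772 : act 6 n26488 = n54772 := rfl
theorem F86651 : act 2 n54772 = n48739 := d3_1 D54772 (iv6 D48739) (iv2 F42385)
def n54773 : Q := act 5 n26489
theorem D54773 : act 5 n26489 = n54773 := rfl
theorem F86652 : act 2 n54773 = n48740 := d2_1 D54773 (iv5 D48740) (iv2 F42387)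
theorem F86653 : act 0 n54773 = n52115 := d17_2 (iv1 F46844) D54773 (iv5 D52115) F39959 (iv5 F23614) (iv0 F54234) (iv5 D29691) F23577 D29192
def n54774 : Q := act 6 n26491
theorem D54774 : act 6 n26491 = n54774 := rfl
theorem F86654 : act 2 n54774 = n33082 := d3_1 D54774 (iv6 D33082) F42392
theorem F86655 : act 3 n54774 = n32441 := d7_1 D54774 (iv6 D32441) F42393
theorem F86656 : act 5 n54774 = n31958 := d12_1 D54774 (iv6 D31958) (iv5 F50467) F50468 (iv5 F42391)
def n54775 : Q := act 6 n26492
theorem D54775 : act 6 n26492 = n54775 := rfl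
theorem F86657 : act 3 n54775 = n36096 := d7_1 D54775 (iv6 D36096) F42457
theorem F86658 : act 4 n54775 = n26493 := d10_1 D54775 (iv6 D26493) D26492
theorem F86659 : act 0 n54775 = n36998 := d20_7 F11682 (iv1 F9689) (iv4 F42172) D26410 F85920 (iv3 F42394) (iv4 F86658) F57916 (iv3 D17811) (iv1 F41801)
def n54776 : Q := act 0 n26493
theorem D54776 : act 0 n26493 = n54776 := rfl
def n54777 : Q := act 1 n26493
theorem D54777 : act 1 n26493 = n54777 := rfl
def n54778 : Q := act 5 n26493
theorem D54778 : act 5 n26493 = n54778 := rfl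
theorem F86660 : act 2 n54778 = n34333 := d2_1 D54778 (iv5 F86643) F86641
theorem F86661 : act 3 n54778 = n26525 := d6_1 D54778 (iv5 D26525) (iv3 F42394)
theorem F86662 : act 6 n54778 = n26495 := d12_2 D26493 D54778 (iv5 D26495) (iv6 D12651) D12650
def n54779 : Q := act 7 n26493
theorem D54779 : act 7 n26493 = n54779 := rfl
theorem F86663 : act 3 n54779 = n26526 := d8_1 D54779 (iv7 D26526) (iv3 F42394)
def n54780 : Q := act 6 n26494
theorem D54780 : act 6 n26494 = n54780 := rfl
theorem F86664 : act 3 n54780 = n26527 := d7_1 D54780 (iv6 D26527) (iv3 F42395)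
def n54781 : Q := act 4 n26495
theorem D54781 : act 4 n26495 = n54781 := rfl
theorem F86665 : act 2 n54781 = n34332 := d1_1 D54781 (iv4 D34332) (iv2 F42397)
theorem F86666 : act 0 n54781 = n29741 := d18_2 F43608 D54781 (iv4 D29741) F23614 (iv4 F39959) (iv0 F54396) (iv4 D34286) (iv0 F50542) D27003
def n54782 : Q := act 4 n26497
theorem D54782 : act 4 n26497 = n54782 := rfl
theorem F86667 : act 2 n54782 = n52930 := d1_1 D54782 F83646 F83252
theorem F86668 : act 7 n54782 = n52931 := d11_2 F51833 D54782 F83649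
theorem F86669 : act 0 n54782 = n32613 := d18_2 F42845 D54782 (iv4 F51661) F40612 (iv4 F41888) (iv0 D26299) (iv4 F27853) F27856 D26726
theorem F86670 : act 1 n54782 = n52919 := d18_6 (iv1 F37262) F37263 (iv1 F25469) (iv4 F21066) D26497 D54782 (iv4 D52919) (iv0 D25691) (iv5 D12206)
def n54783 : Q := act 6 n26497
theorem D54783 : act 6 n26497 = n54783 := rfl
theorem F86671 : act 3 n54783 = n33004 := d7_1 D54783 (iv6 D33004) (iv3 F42406)
def n54784 : Q := act 5 n26498
theorem D54784 : act 5 n26498 = n54784 := rfl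
theorem F86672 : act 2 n54784 = n33239 := d2_1 D54784 (iv5 D33239) (iv2 F50253)
theorem F86673 : act 3 n54784 = n33005 := d6_1 D54784 (iv5 D33005) (iv3 F42408)
theorem F86674 : act 7 n54784 = n33241 := d13_2 F50252 D54784 (iv5 D33241)
def n54785 : Q := act 4 n26499
theorem D54785 : act 4 n26499 = n54785 := rfl
theorem F86675 : act 2 n54785 = n52931 := d1_1 D54785 F83649 F51831
theorem F86676 : act 7 n54785 = n52930 := d11_2 F83254 D54785 F83646
theorem F86677 : act 0 n54785 = n52919 := d18_2 (iv1 F46075) D54785 (iv4 D52919) F40610 (iv4 F25982) (iv0 F28343) (iv4 F28362) (iv0 D17395) D17396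
theorem F86678 : act 1 n54785 = n32613 := d18_6 (iv1 F37266) (iv4 F40591) (iv1 F40592) (iv4 F25530) D26499 D54785 (iv4 F51661) F40611 F20207
def n54786 : Q := act 6 n26499
theorem D54786 : act 6 n26499 = n54786 := rfl
def n54787 : Q := act 5 n26501
theorem D54787 : act 5 n26501 = n54787 := rfl
theorem F86679 : act 2 n54787 = n26502 := d2_1 D54787 (iv5 D26502) D26501
theorem F86680 : act 3 n54787 = n34839 := d6_1 D54787 (iv5 D34839) (iv3 F42412)
theorem F86681 : act 7 n54787 = n49055 := d13_2 F42413 D54787 (iv5 D49055)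
theorem F86682 : act 0 n54787 = n52666 := d17_2 F42415 D54787 (iv5 D52666) (iv4 D25563) D25564 (iv0 F55471) (iv5 D23762) D23760 (iv4 F37022)
theorem F86683 : act 0 n33223 = n54787 := d21_1 (iv5 F52458) (iv5 D54787) (iv6 F42414) F69002 (iv6 D41565) (iv5 D19576) F14387 D9378 D19909 F40388
def n54788 : Q := act 1 n26502
theorem D54788 : act 1 n26502 = n54788 := rfl
theorem F86684 : act 1 n54788 = n49055 := d15_1 D54788 (iv7 F86681) F86679
theorem F86685 : act 7 n54788 = n52666 := d15_2 (iv0 F76711) D54788 F83222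
theorem F86686 : act 5 n54788 = n43238 := d17_7 F55115 (iv5 F83469) F86646 (iv5 D54770) F42382 D26502 D54788 (iv0 D43238) (iv4 F32636)
theorem F86687 : act 2 n33223 = n54788 := d2_3 F86686 (iv2 F67750) (iv5 F52458)
theorem F86688 : act 4 n52830 = n54788 := d18_3 (iv1 D25643) D25644 D52830 F86686 F67749 (iv0 D23755) F18053 D16898 (iv5 F46143)
def n54789 : Q := act 4 n26502
theorem D54789 : act 4 n26502 = n54789 := rfl
def n54790 : Q := act 6 n26502
theorem D54790 : act 6 n26502 = n54790 := rfl
theorem F86689 : act 3 n54790 = n26508 := d7_1 D54790 (iv6 D26508) (iv3 F42416)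
def n54791 : Q := act 7 n26502
theorem D54791 : act 7 n26502 = n54791 := rfl
theorem F86690 : act 2 n54791 = n49055 := d4_1 D54791 (iv7 F86681) F86679
theorem F86691 : act 3 n54791 = n26509 := d8_1 D54791 (iv7 D26509) (iv3 F42416)
theorem F86692 : act 5 n54791 = n26504 := d13_1 D54791 (iv7 D26504) D26502
theorem F86693 : act 1 n33223 = n54791 := d15_1 (iv0 F86683) (iv7 D54791) (iv2 F86679)
theorem F86694 : act 1 n54791 = n52666 := d15_1 F86693 (iv7 F86685) (iv2 F86687)
def n54792 : Q := act 5 n26503
theorem D54792 : act 5 n26503 = n54792 := rfl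
theorem F86695 : act 2 n54792 = n49325 := d2_1 D54792 F77989 (iv2 F42417)
theorem F86696 : act 3 n54792 = n26512 := d6_1 D54792 (iv5 D26512) (iv3 F42418)
theorem F86697 : act 0 n52670 = n54792 := d21_7 (iv5 F83172) (iv1 F83247) (iv5 D25575) (iv6 D12158) D12154 D25565 D52670 (iv5 D54792) (iv6 D26503) F40485
def n54793 : Q := act 4 n26505
theorem D54793 : act 4 n26505 = n54793 := rfl
theorem F86698 : act 2 n54793 = n52887 := d1_1 D54793 F83578 F56616
theorem F86699 : act 7 n54793 = n52888 := d11_2 F55405 D54793 F83581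
theorem F86700 : act 0 n54793 = n32649 := d18_2 D26505 D54793 F51712 F40597 (iv4 F40591) F40593 (iv4 F21066) (iv0 D12653) D12656
theorem F86701 : act 1 n54793 = n52872 := d18_6 (iv1 F24839) (iv4 F24871) F26820 D15353 (iv5 F42431) D54793 (iv4 D52872) (iv0 F51361) (iv5 D32342)
def n54794 : Q := act 6 n26505
theorem D54794 : act 6 n26505 = n54794 := rfl
def n54795 : Q := act 4 n26506
theorem D54795 : act 4 n26506 = n54795 := rfl
theorem F86702 : act 2 n54795 = n52888 := d1_1 D54795 F83581 F55403
theorem F86703 : act 7 n54795 = n52887 := d11_2 F56618 D54795 F83578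
theorem F86704 : act 0 n54795 = n52872 := d18_2 (iv1 F42425) D54795 (iv4 D52872) (iv5 D25661) F37263 D13596 (iv4 F25530) F21069 D12676
theorem F86705 : act 1 n54795 = n32649 := d18_6 D12761 (iv4 F24927) (iv1 F41896) F41894 (iv5 F42426) D54795 F51712 F40599 (iv5 D12764)
def n54796 : Q := act 6 n26506
theorem D54796 : act 6 n26506 = n54796 := rfl
theorem F86706 : act 3 n54796 = n52672 := d7_1 D54796 (iv6 D52672) F42427
def n54797 : Q := act 3 n26507
theorem D54797 : act 3 n26507 = n54797 := rfl
theorem F86708 : act 5 n54797 = n37228 := d6_2 (iv5 F71087) D54797 (iv3 F71082)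
theorem F86709 : act 0 n54797 = n32060 := d20_4 (iv4 D54795) (iv1 D26506) D26507 D54797 (iv3 D32060) (iv4 D15124) F20643 D15457 D32649 (iv1 F86705)
def n54798 : Q := act 6 n26507
theorem D54798 : act 6 n26507 = n54798 := rfl
def n54799 : Q := act 7 n26507
theorem D54799 : act 7 n26507 = n54799 := rfl
theorem F86711 : act 2 n54799 = n26537 := d4_1 D54799 (iv7 F71090) F71088
theorem F86712 : act 4 n54799 = n26509 := d11_1 D54799 (iv7 D26509) D26507
theorem F86713 : act 5 n54799 = n37192 := d13_1 D54799 (iv7 F71084) (iv5 F71087)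
theorem F86714 : act 0 n26706 = n54799 := d17_0 F86713 F71081 (iv5 F40614) (iv4 D25693) (iv5 D12206) (iv0 F37265) (iv5 F40597) F40599 D26706
def n54800 : Q := act 0 n26508
theorem D54800 : act 0 n26508 = n54800 := rfl
def n54801 : Q := act 1 n26508
theorem D54801 : act 1 n26508 = n54801 := rfl
def n54802 : Q := act 5 n26508
theorem D54802 : act 5 n26508 = n54802 := rfl
theorem F86715 : act 6 n54802 = n26512 := d12_2 D26508 D54802 (iv5 D26512) (iv6 D12657) D12656
def n54803 : Q := act 7 n26508
theorem D54803 : act 7 n26508 = n54803 := rfl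
def n54804 : Q := act 6 n26509
theorem D54804 : act 6 n26509 = n54804 := rfl
theorem F86716 : act 2 n54804 = n26538 := d3_1 D54804 (iv6 D26538) (iv2 F42428)
def n54805 : Q := act 5 n26510
theorem D54805 : act 5 n26510 = n54805 := rfl
theorem F86717 : act 3 n54805 = n33123 := d6_1 D54805 (iv5 D33123) F42438
theorem F86718 : act 0 n54805 = n49213 := d17_2 D26510 D54805 (iv5 D49213) F37550 D24291 (iv0 F42471) (iv5 D26529) (iv0 D12664) (iv4 F21070)
def n54806 : Q := act 5 n26511
theorem D54806 : act 5 n26511 = n54806 := rfl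
theorem F86719 : act 3 n54806 = n52166 := d6_1 D54806 (iv5 D52166) (iv3 F65044)
theorem F86720 : act 0 n49213 = n54806 := d21_1 D49213 (iv5 D54806) (iv6 F82398) (iv1 F82399) F39972 D25587 (iv1 F40490) F26864 D25547 (iv1 F50517)
def n54807 : Q := act 0 n26512
theorem D54807 : act 0 n26512 = n54807 := rfl
def n54808 : Q := act 4 n26512
theorem D54808 : act 4 n26512 = n54808 := rfl
def n54809 : Q := act 7 n26512
theorem D54809 : act 7 n26512 = n54809 := rfl
theorem F86721 : act 2 n54809 = n49327 := d4_1 D54809 F77993 (iv2 F77747)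
theorem F86722 : act 5 n54809 = n26513 := d13_1 D54809 (iv7 D26513) D26512
theorem F86723 : act 1 n49327 = n54807 := d15_0 (iv0 D54807) D54809 F86721
theorem F86724 : act 1 n52637 = n54809 := d15_1 (iv0 F83166) (iv7 D54809) F77747
theorem F86725 : act 7 n54807 = n52637 := d15_2 F77994 F86723 F83165
theorem F86726 : act 5 n54807 = n34298 := d17_7 (iv1 F23522) (iv5 F42472) F42474 F27118 (iv4 F37984) (iv5 F77992) F86723 F54422 (iv4 D29641)
def n54810 : Q := act 5 n26514
theorem D54810 : act 5 n26514 = n54810 := rfl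
theorem F86727 : act 2 n54810 = n26540 := d2_1 D54810 (iv5 D26540) (iv2 F42439)
def n54811 : Q := act 3 n26515
theorem D54811 : act 3 n26515 = n54811 := rfl
theorem F86728 : act 2 n54811 = n34451 := d0_1 D54811 (iv3 D34451) F27393 (iv3 F21226) (iv2 F42442)
theorem F86729 : act 4 n54811 = n33430 := d5_2 D26515 D54811 (iv3 D33430) (iv4 D16147) (iv3 F26963)
theorem F86730 : act 5 n54811 = n41704 := d6_2 F59375 D54811 F64351
theorem F86731 : act 7 n54811 = n34484 := d8_2 (iv7 F42443) D54811 F54714
theorem F86732 : act 1 n34483 = n54811 := d15_1 D34483 F86731 (iv2 D34484)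
theorem F86733 : act 1 n54811 = n34482 := d15_0 (iv0 D34482) (iv7 F54650) (iv2 F86728)
def n54812 : Q := act 6 n26515
theorem D54812 : act 6 n26515 = n54812 := rfl
theorem F86734 : act 2 n54812 = n26731 := d3_1 D54812 (iv6 D26731) (iv2 F42442)
theorem F86735 : act 4 n54812 = n26516 := d10_1 D54812 (iv6 D26516) D26515
def n54813 : Q := act 0 n26516
theorem D54813 : act 0 n26516 = n54813 := rfl
theorem F86736 : act 6 n54813 = n39380 := d21_5 (iv5 F25983) (iv1 F11547) (iv5 F26964) D26516 D54813 (iv5 D39380) (iv1 D18664) (iv5 D8759) (iv6 D3914) D3911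
theorem F86737 : act 0 n54813 = n26734 := d21_4 (iv5 F60294) (iv1 F60296) D39380 (iv6 F86736) F42950 (iv5 F54935) (iv1 F60319) (iv5 D39354) (iv6 D18657) (iv1 F29923)
def n54814 : Q := act 1 n26516
theorem D54814 : act 1 n26516 = n54814 := rfl
theorem F86738 : act 1 n54814 = n26734 := d15_1 D54814 (iv7 D26734) (iv2 F42446)
def n54815 : Q := act 7 n26516
theorem D54815 : act 7 n26516 = n54815 := rfl
theorem F86739 : act 2 n54815 = n26734 := d4_1 D54815 (iv7 D26734) (iv2 F42446)
theorem F86740 : act 3 n54815 = n33436 := d8_1 D54815 (iv7 D33436) (iv3 F42447)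
theorem F86741 : act 6 n54815 = n34673 := d14_1 D54815 (iv7 D34673) (iv6 D16791) (iv7 F26965) D26516
theorem F86742 : act 1 n26733 = n54815 := d15_1 D26733 (iv7 D54815) F42446
theorem F86743 : act 1 n54815 = n26732 := d15_0 (iv0 D26732) D26734 (iv2 F86739)
def n54816 : Q := act 6 n26517
theorem D54816 : act 6 n26517 = n54816 := rfl
theorem F86744 : act 4 n54816 = n32450 := d10_1 D54816 (iv6 D32450) (iv4 F42448)
def n54817 : Q := act 6 n26518
theorem D54817 : act 6 n26518 = n54817 := rfl
theorem F86745 : act 3 n54817 = n38023 := d7_1 D54817 (iv6 D38023) (iv3 F51523)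
def n54818 : Q := act 6 n26519
theorem D54818 : act 6 n26519 = n54818 := rfl
theorem F86746 : act 2 n54818 = n35452 := d3_1 D54818 (iv6 D35452) (iv2 F42453)
theorem F86747 : act 3 n54818 = n26521 := d7_1 D54818 (iv6 D26521) D26519
theorem F86748 : act 4 n54818 = n36096 := d10_1 D54818 (iv6 D36096) (iv4 F42455)
def n54819 : Q := act 0 n26520
theorem D54819 : act 0 n26520 = n54819 := rfl
theorem F86749 : act 5 n54819 = n26562 := d17_1 D54819 (iv1 F42537) D26570 (iv4 F58220) (iv5 F58221) (iv0 D25703) D25706 (iv0 F40625) F42460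
theorem F86750 : act 1 n26542 = n54819 := d15_0 (iv0 D54819) (iv7 F42461) (iv2 F42497)
theorem F86751 : act 2 n35458 = n54819 := d2_3 F86749 F42540 (iv5 F56161)
theorem F86752 : act 7 n35457 = n54819 := d13_0 F86749 (iv7 F42539) (iv5 F56160)
def n54820 : Q := act 1 n26520
theorem D54820 : act 1 n26520 = n54820 := rfl
theorem F86753 : act 1 n54820 = n26542 := d15_1 D54820 (iv7 F86633) F86631
theorem F86754 : act 7 n54820 = n35458 := d15_2 (iv0 D54819) D54820 F86751
theorem F86755 : act 5 n54820 = n26563 := d17_7 (iv1 D6015) (iv5 D2533) D2530 D6004 D12661 D26520 D54820 F42541 (iv4 D12703)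
theorem F86756 : act 2 n35457 = n54820 := d2_3 F86755 (iv2 F42543) (iv5 F56160)
theorem F86757 : act 3 n38403 = n54820 := d6_3 F86755 F46076 D38403
def n54821 : Q := act 6 n26520
theorem D54821 : act 6 n26520 = n54821 := rfl
theorem F86758 : act 3 n54821 = n27044 := d7_1 D54821 (iv6 D27044) (iv3 F42459)
theorem F86759 : act 4 n54821 = n37193 := d10_1 D54821 (iv6 D37193) F42460
def n54822 : Q := act 0 n26521
theorem D54822 : act 0 n26521 = n54822 := rfl
def n54823 : Q := act 1 n26521
theorem D54823 : act 1 n26521 = n54823 := rfl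
def n54824 : Q := act 5 n26521
theorem D54824 : act 5 n26521 = n54824 := rfl
def n54825 : Q := act 7 n26521
theorem D54825 : act 7 n26521 = n54825 := rfl
theorem F86760 : act 4 n54825 = n26526 := d11_1 D54825 (iv7 D26526) (iv4 F42462)
def n54826 : Q := act 6 n26522
theorem D54826 : act 6 n26522 = n54826 := rfl
theorem F86761 : act 2 n54826 = n26543 := d3_1 D54826 (iv6 D26543) (iv2 F42463)
theorem F86762 : act 3 n54826 = n35460 := d7_1 D54826 (iv6 D35460) (iv3 F42464)
theorem F86763 : act 4 n54826 = n26527 := d10_1 D54826 (iv6 D26527) (iv4 F42465)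
def n54827 : Q := act 4 n26523
theorem D54827 : act 4 n26523 = n54827 := rfl
theorem F86764 : act 2 n54827 = n33148 := d1_1 D54827 (iv4 D33148) (iv2 F85919)
def n54828 : Q := act 5 n26523
theorem D54828 : act 5 n26523 = n54828 := rfl
theorem F86765 : act 2 n54828 = n33149 := d2_1 D54828 (iv5 D33149) (iv2 F85919)
def n54829 : Q := act 0 n26525
theorem D54829 : act 0 n26525 = n54829 := rfl
def n54830 : Q := act 1 n26525
theorem D54830 : act 1 n26525 = n54830 := rfl
theorem F86766 : act 5 n39304 = n54830 := d21_6 F26964 (iv1 F11550) F25987 D8755 D18645 D39304 (iv1 D54830) (iv5 D26525) (iv6 D12662) D12659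
def n54831 : Q := act 4 n26525
theorem D54831 : act 4 n26525 = n54831 := rfl
theorem F86767 : act 6 n54831 = n26531 := d10_2 (iv6 F42467) D54831 (iv4 D26531)
def n54832 : Q := act 7 n26525
theorem D54832 : act 7 n26525 = n54832 := rfl
theorem F86768 : act 5 n54832 = n26526 := d13_1 D54832 (iv7 D26526) D26525
def n54833 : Q := act 6 n26526
theorem D54833 : act 6 n26526 = n54833 := rfl
theorem F86769 : act 2 n54833 = n26547 := d3_1 D54833 F86305 (iv2 F86304)
theorem F86770 : act 7 n54833 = n26527 := d14_2 D26526 D54833 (iv6 D26527) (iv7 D12663) D12662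
theorem F86771 : act 1 n26545 = n54833 := d15_1 D26545 F86770 F42468
theorem F86772 : act 1 n54833 = n26544 := d15_0 (iv0 D26544) D26547 (iv2 F86769)
def n54834 : Q := act 0 n26527
theorem D54834 : act 0 n26527 = n54834 := rfl
theorem F86773 : act 1 n26547 = n54834 := d15_0 (iv0 D54834) (iv7 F86770) F86769
def n54835 : Q := act 1 n26527
theorem D54835 : act 1 n26527 = n54835 := rfl
theorem F86774 : act 1 n54835 = n26547 := d15_1 D54835 (iv7 D26547) (iv2 F42468)
def n54836 : Q := act 5 n26527
theorem D54836 : act 5 n26527 = n54836 := rfl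
theorem F86775 : act 2 n54836 = n26546 := d2_1 D54836 (iv5 D26546) (iv2 F42468)
theorem F86776 : act 6 n54836 = n26533 := d12_2 D26527 D54836 (iv5 D26533) (iv6 D12668) (iv5 F21075)
theorem F86777 : act 0 n33324 = n54836 := d21_7 F12395 F26771 (iv5 F27018) D12705 D26572 (iv6 F58348) F58347 (iv5 D54836) (iv6 D26527) F27125
def n54837 : Q := act 4 n26529
theorem D54837 : act 4 n26529 = n54837 := rfl
theorem F86778 : act 2 n54837 = n29130 := d1_1 D54837 (iv4 D29130) (iv2 F42470)
def n54838 : Q := act 6 n26529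
theorem D54838 : act 6 n26529 = n54838 := rfl
theorem F86779 : act 2 n54838 = n29131 := d3_1 D54838 (iv6 D29131) (iv2 F42470)
theorem F86780 : act 3 n54838 = n33485 := d7_1 D54838 (iv6 D33485) (iv3 F54014)
def n54839 : Q := act 4 n26530
theorem D54839 : act 4 n26530 = n54839 := rfl
theorem F86781 : act 2 n54839 = n29067 := d1_1 D54839 (iv4 D29067) F42473
def n54840 : Q := act 6 n26530
theorem D54840 : act 6 n26530 = n54840 := rfl
theorem F86782 : act 2 n54840 = n29068 := d3_1 D54840 (iv6 D29068) F42473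
theorem F86783 : act 3 n54840 = n33494 := d7_1 D54840 (iv6 D33494) F50968
def n54841 : Q := act 0 n26531
theorem D54841 : act 0 n26531 = n54841 := rfl
def n54842 : Q := act 1 n26531
theorem D54842 : act 1 n26531 = n54842 := rfl
theorem F86784 : act 1 n54842 = n34338 := d15_1 D54842 (iv7 F78719) F78718
def n54843 : Q := act 3 n26531
theorem D54843 : act 3 n26531 = n54843 := rfl
def n54844 : Q := act 5 n26531
theorem D54844 : act 5 n26531 = n54844 := rfl
def n54845 : Q := act 7 n26531
theorem D54845 : act 7 n26531 = n54845 := rfl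
theorem F86785 : act 2 n54845 = n34338 := d4_1 D54845 (iv7 F78719) F78718
theorem F86786 : act 4 n54845 = n26532 := d11_1 D54845 (iv7 D26532) D26531
theorem F86787 : act 1 n34338 = n54841 := d15_0 (iv0 D54841) D54845 F86785
def n54846 : Q := act 6 n26532
theorem D54846 : act 6 n26532 = n54846 := rfl
theorem F86788 : act 2 n54846 = n34339 := d3_1 D54846 (iv6 D34339) (iv2 F42475)
def n54847 : Q := act 4 n26533
theorem D54847 : act 4 n26533 = n54847 := rfl
theorem F86789 : act 2 n54847 = n26552 := d1_1 D54847 (iv4 D26552) (iv2 F42478)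
def n54848 : Q := act 3 n26534
theorem D54848 : act 3 n26534 = n54848 := rfl
theorem F86790 : act 4 n54848 = n26541 := d5_2 D26534 D54848 (iv3 D26541) (iv4 D12678) (iv3 F21081)
theorem F86791 : act 5 n54848 = n54104 := d6_2 (iv5 F42480) D54848 (iv3 D54104)
def n54849 : Q := act 6 n26534
theorem D54849 : act 6 n26534 = n54849 := rfl
theorem F86792 : act 4 n54849 = n26535 := d10_1 D54849 (iv6 D26535) D26534
def n54850 : Q := act 0 n26535
theorem D54850 : act 0 n26535 = n54850 := rfl
def n54851 : Q := act 1 n26535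
theorem D54851 : act 1 n26535 = n54851 := rfl
def n54852 : Q := act 7 n26535
theorem D54852 : act 7 n26535 = n54852 := rfl
theorem F86793 : act 3 n54852 = n26547 := d8_1 D54852 (iv7 D26547) (iv3 F42483)
theorem F86794 : act 5 n54852 = n33986 := d13_1 D54852 (iv7 D33986) (iv5 F42484)
def n54853 : Q := act 6 n26536
theorem D54853 : act 6 n26536 = n54853 := rfl
theorem F86795 : act 2 n54853 = n49056 := d3_1 D54853 (iv6 D49056) (iv2 F42485)
theorem F86796 : act 3 n54853 = n26538 := d7_1 D54853 (iv6 D26538) (iv3 F42486)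
theorem F86797 : act 4 n54853 = n44758 := d10_1 D54853 (iv6 D44758) (iv4 F42488)
def n54854 : Q := act 6 n26537
theorem D54854 : act 6 n26537 = n54854 := rfl
theorem F86798 : act 3 n54854 = n37196 := d7_1 D54854 (iv6 D37196) (iv3 F42491)
theorem F86799 : act 4 n54854 = n26538 := d10_1 D54854 (iv6 D26538) D26537
def n54855 : Q := act 0 n26538
theorem D54855 : act 0 n26538 = n54855 := rfl
def n54856 : Q := act 1 n26538
theorem D54856 : act 1 n26538 = n54856 := rfl
def n54857 : Q := act 5 n26538
theorem D54857 : act 5 n26538 = n54857 := rfl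
theorem F86800 : act 6 n54857 = n26540 := d12_2 D26538 D54857 (iv5 D26540) (iv6 D12677) D12676
def n54858 : Q := act 7 n26538
theorem D54858 : act 7 n26538 = n54858 := rfl
def n54859 : Q := act 5 n26539
theorem D54859 : act 5 n26539 = n54859 := rfl
theorem F86801 : act 7 n54859 = n33222 := d13_2 (iv7 F42493) D54859 (iv5 D33222)
def n54860 : Q := act 0 n26540
theorem D54860 : act 0 n26540 = n54860 := rfl
def n54861 : Q := act 1 n26540
theorem D54861 : act 1 n26540 = n54861 := rfl
theorem F86802 : act 5 n52651 = n54861 := d21_6 D26499 (iv1 F42846) (iv5 D26726) F31854 (iv1 F40419) D52651 (iv1 D54861) (iv5 D26540) (iv6 D12677) (iv1 F21069)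
def n54862 : Q := act 4 n26540
theorem D54862 : act 4 n26540 = n54862 := rfl
def n54863 : Q := act 5 n26541
theorem D54863 : act 5 n26541 = n54863 := rfl
theorem F86803 : act 2 n54863 = n27041 := d2_1 D54863 (iv5 F72445) F72444
theorem F86804 : act 3 n54863 = n26542 := d6_1 D54863 (iv5 D26542) D26541
theorem F86805 : act 7 n54863 = n35448 := d13_2 (iv7 F72440) D54863 (iv5 F72441)
theorem F86806 : act 0 n35446 = n54863 := d19_0 (iv5 D54863) (iv4 F86790) (iv3 D54848) F42481 F27881 F27878 D26274 F55705 (iv5 D35078) D35077 F55696 F54142 (iv5 F32533) F32532 (iv3 D10602) D10601 (iv5 F31306) F31307 (iv3 F56155)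
theorem F86807 : act 1 n35447 = n54863 := d15_1 D35447 F86805 (iv2 D35448)
theorem F86808 : act 2 n45819 = n35447 := d15_3 F86807 (iv0 F86806) (iv7 F72368)
theorem F86809 : act 5 n35447 = n45818 := d2_2 D45819 F86808 (iv2 D45818)
def n54864 : Q := act 6 n26541
theorem D54864 : act 6 n26541 = n54864 := rfl
theorem F86810 : act 3 n54864 = n26543 := d7_1 D54864 (iv6 D26543) D26541
def n54865 : Q := act 6 n26542
theorem D54865 : act 6 n26542 = n54865 := rfl
theorem F86811 : act 2 n54865 = n35459 := d3_1 D54865 (iv6 D35459) (iv2 F42497)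
def n54866 : Q := act 0 n26543
theorem D54866 : act 0 n26543 = n54866 := rfl
def n54867 : Q := act 1 n26543
theorem D54867 : act 1 n26543 = n54867 := rfl
def n54868 : Q := act 5 n26543
theorem D54868 : act 5 n26543 = n54868 := rfl
def n54869 : Q := act 7 n26543
theorem D54869 : act 7 n26543 = n54869 := rfl
theorem F86812 : act 4 n54869 = n26547 := d11_1 D54869 (iv7 D26547) (iv4 F42498)
def n54871 : Q := act 3 n26544
theorem D54871 : act 3 n26544 = n54871 := rfl
def n54874 : Q := act 6 n26544
theorem D54874 : act 6 n26544 = n54874 := rfl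
def n54876 : Q := act 3 n26545
theorem D54876 : act 3 n26545 = n54876 := rfl
def n54877 : Q := act 4 n26545
theorem D54877 : act 4 n26545 = n54877 := rfl
def n54878 : Q := act 5 n26545
theorem D54878 : act 5 n26545 = n54878 := rfl
def n54879 : Q := act 6 n26545
theorem D54879 : act 6 n26545 = n54879 := rfl
def n54880 : Q := act 0 n26546
theorem D54880 : act 0 n26546 = n54880 := rfl
def n54881 : Q := act 1 n26546
theorem D54881 : act 1 n26546 = n54881 := rfl
theorem F86815 : act 5 n39291 = n54881 := d21_6 F5581 D7226 F25983 D8750 D18639 D39291 (iv1 D54881) (iv5 D26546) (iv6 D12679) (iv1 F26961)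
theorem F86816 : act 2 n54881 = n33324 := d2_1 F86815 (iv5 F58347) (iv2 F60270)
def n54882 : Q := act 4 n26546
theorem D54882 : act 4 n26546 = n54882 := rfl
theorem F86817 : act 6 n54882 = n26552 := d10_2 (iv6 F42500) D54882 (iv4 D26552)
def n54883 : Q := act 7 n26546
theorem D54883 : act 7 n26546 = n54883 := rfl
theorem F86818 : act 3 n54883 = n33986 := d8_1 D54883 (iv7 D33986) (iv3 F42499)
theorem F86819 : act 5 n54883 = n26547 := d13_1 D54883 (iv7 D26547) D26546
theorem F86820 : act 1 n33324 = n54883 := d15_1 (iv0 F86777) (iv7 D54883) (iv2 F86775)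
def n54884 : Q := act 4 n26549
theorem D54884 : act 4 n26549 = n54884 := rfl
theorem F86821 : act 2 n54884 = n32990 := d1_1 D54884 (iv4 D32990) (iv2 F42504)
theorem F86822 : act 7 n54884 = n33200 := d11_2 (iv7 F42505) D54884 (iv4 D33200)
def n54885 : Q := act 6 n26549
theorem D54885 : act 6 n26549 = n54885 := rfl
theorem F86823 : act 2 n54885 = n32991 := d3_1 D54885 (iv6 D32991) (iv2 F42504)
theorem F86824 : act 3 n54885 = n33551 := d7_1 D54885 (iv6 D33551) F50995
theorem F86825 : act 5 n54885 = n32015 := d12_1 D54885 (iv6 D32015) (iv5 D15103) (iv6 F26981) D26549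
def n54886 : Q := act 4 n26551
theorem D54886 : act 4 n26551 = n54886 := rfl
theorem F86826 : act 2 n54886 = n33341 := d1_1 D54886 (iv4 D33341) (iv2 F43286)
def n54887 : Q := act 6 n26551
theorem D54887 : act 6 n26551 = n54887 := rfl
theorem F86827 : act 2 n54887 = n33342 := d3_1 D54887 (iv6 D33342) (iv2 F43286)
def n54888 : Q := act 0 n26552
theorem D54888 : act 0 n26552 = n54888 := rfl
def n54889 : Q := act 1 n26552
theorem D54889 : act 1 n26552 = n54889 := rfl
theorem F86829 : act 4 n54470 = n54889 := d20_6 (iv4 F52054) (iv1 F52055) (iv4 D16455) (iv3 F25927) (iv1 F42009) D54470 (iv1 D54889) (iv4 D26552) F26611 (iv1 F25907)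
def n54890 : Q := act 3 n26552
theorem D54890 : act 3 n26552 = n54890 := rfl
theorem F86830 : act 4 n54890 = n33982 := d5_2 D26552 D54890 (iv3 D33982) (iv4 D16436) (iv3 F26611)
def n54891 : Q := act 5 n26552
theorem D54891 : act 5 n26552 = n54891 := rfl
def n54892 : Q := act 7 n26552
theorem D54892 : act 7 n26552 = n54892 := rfl
theorem F86831 : act 4 n54892 = n26553 := d11_1 D54892 (iv7 D26553) D26552
def n54893 : Q := act 6 n26553
theorem D54893 : act 6 n26553 = n54893 := rfl
theorem F86832 : act 3 n54893 = n26682 := d7_1 D54893 (iv6 D26682) (iv3 F42506)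
theorem F86833 : act 5 n54893 = n34339 := d12_1 D54893 (iv6 D34339) F27118 (iv6 F26613) (iv5 F42507)
def n54894 : Q := act 6 n26554
theorem D54894 : act 6 n26554 = n54894 := rfl
theorem F86834 : act 2 n54894 = n37788 := d3_1 D54894 (iv6 D37788) (iv2 F42509)
theorem F86835 : act 3 n54894 = n26556 := d7_1 D54894 (iv6 D26556) D26554
theorem F86836 : act 4 n54894 = n33569 := d10_1 D54894 (iv6 D33569) (iv4 F42510)
def n54895 : Q := act 6 n26555
theorem D54895 : act 6 n26555 = n54895 := rfl
theorem F86837 : act 2 n54895 = n26588 := d3_1 D54895 (iv6 D26588) (iv2 F42515)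
theorem F86838 : act 3 n54895 = n47265 := d7_1 D54895 (iv6 D47265) (iv3 F42516)
def n54896 : Q := act 0 n26556
theorem D54896 : act 0 n26556 = n54896 := rfl
def n54897 : Q := act 1 n26556
theorem D54897 : act 1 n26556 = n54897 := rfl
theorem F86839 : act 1 n54897 = n26592 := d15_1 D54897 (iv7 D26592) (iv2 F42520)
def n54898 : Q := act 5 n26556
theorem D54898 : act 5 n26556 = n54898 := rfl
theorem F86840 : act 2 n54898 = n26591 := d2_1 D54898 (iv5 D26591) (iv2 F42520)
def n54899 : Q := act 7 n26556
theorem D54899 : act 7 n26556 = n54899 := rfl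
theorem F86841 : act 2 n54899 = n26592 := d4_1 D54899 (iv7 D26592) (iv2 F42520)
theorem F86842 : act 4 n54899 = n26559 := d11_1 D54899 (iv7 D26559) (iv4 F42521)
theorem F86843 : act 6 n54899 = n38569 := d14_1 D54899 (iv7 D38569) (iv6 D18370) (iv7 F21091) D26556
theorem F86844 : act 1 n26592 = n54896 := d15_0 (iv0 D54896) D54899 F86841
theorem F86845 : act 1 n26590 = n54899 := d15_1 D26590 (iv7 D54899) F42520
theorem F86846 : act 4 n28648 = n54896 := d20_6 D7611 F28954 F5673 (iv3 F10558) D13658 D28648 (iv1 F86844) F42590 F21104 (iv1 F9361)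
theorem F86847 : act 1 n54899 = n26589 := d15_0 (iv0 D26589) D26592 (iv2 F86841)
def n54900 : Q := act 2 n26557
theorem D54900 : act 2 n26557 = n54900 := rfl
theorem F86848 : act 7 n26558 = n54900 := d15_2 (iv0 D26557) D26558 (iv2 D54900)
def n54901 : Q := act 3 n26557
theorem D54901 : act 3 n26557 = n54901 := rfl
def n54902 : Q := act 4 n26557
theorem D54902 : act 4 n26557 = n54902 := rfl
def n54903 : Q := act 5 n26557
theorem D54903 : act 5 n26557 = n54903 := rfl
def n54904 : Q := act 6 n26557
theorem D54904 : act 6 n26557 = n54904 := rfl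
def n54905 : Q := act 7 n26557
theorem D54905 : act 7 n26557 = n54905 := rfl
theorem F86849 : act 2 n54905 = n26558 := d4_1 D54905 F86848 (iv2 D54900)
def n54906 : Q := act 3 n26558
theorem D54906 : act 3 n26558 = n54906 := rfl
theorem F86850 : act 4 n54906 = n49008 := d20_6 F37195 (iv1 F9819) (iv4 F9358) (iv3 F21104) (iv1 F42522) D54906 (iv1 D49008) F37322 F18164 D11198
def n54907 : Q := act 4 n26558
theorem D54907 : act 4 n26558 = n54907 := rfl
def n54908 : Q := act 5 n26558
theorem D54908 : act 5 n26558 = n54908 := rfl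
def n54909 : Q := act 6 n26558
theorem D54909 : act 6 n26558 = n54909 := rfl
def n54910 : Q := act 6 n26560
theorem D54910 : act 6 n26560 = n54910 := rfl
theorem F86851 : act 2 n54910 = n26561 := d3_1 D54910 (iv6 D26561) D26560
theorem F86852 : act 3 n54910 = n27018 := d7_1 D54910 (iv6 D27018) (iv3 F42529)
theorem F86853 : act 4 n54910 = n49004 := d10_1 D54910 (iv6 D49004) (iv4 F42530)
theorem F86854 : act 5 n54910 = n35053 := d12_1 D54910 (iv6 D35053) F27875 (iv6 F21494) (iv5 F42531)
def n54911 : Q := act 0 n26561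
theorem D54911 : act 0 n26561 = n54911 := rfl
def n54912 : Q := act 1 n26561
theorem D54912 : act 1 n26561 = n54912 := rfl
def n54913 : Q := act 5 n26561
theorem D54913 : act 5 n26561 = n54913 := rfl
theorem F86855 : act 2 n54913 = n35053 := d2_1 D54913 (iv5 F86854) F86851
theorem F86856 : act 3 n54913 = n26567 := d6_1 D54913 (iv5 D26567) (iv3 F42535)
theorem F86857 : act 6 n54913 = n35027 := d12_2 D26561 D54913 F55617 F27867 (iv5 F27028)
def n54914 : Q := act 7 n26561
theorem D54914 : act 7 n26561 = n54914 := rfl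
theorem F86858 : act 3 n54914 = n26568 := d8_1 D54914 (iv7 D26568) (iv3 F42535)
theorem F86859 : act 6 n54914 = n39277 := d14_1 D54914 (iv7 D39277) (iv6 D18634) F27029 D26561
def n54915 : Q := act 3 n26562
theorem D54915 : act 3 n26562 = n54915 := rfl
theorem F86860 : act 2 n54915 = n38401 := d0_1 D54915 (iv3 D38401) F58953 (iv3 F58954) (iv2 F42540)
theorem F86861 : act 4 n54915 = n41629 := d5_2 (iv4 F42536) D54915 F64237 F35290 D26309
theorem F86862 : act 7 n54915 = n39278 := d8_2 F42539 D54915 (iv3 D39278)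
theorem F86863 : act 0 n54915 = n47215 := d20_10 F74490 (iv1 F75433) (iv4 D38488) D38487 F71635 (iv3 D18366) (iv4 F22808) (iv1 F42538) (iv4 F42536) D54915
theorem F86864 : act 0 n47214 = n54915 := d18_2 (iv1 F71634) (iv4 F74488) F86861 (iv5 D41629) (iv4 F33500) (iv0 D21274) (iv4 F33492) D44662 (iv5 F71633)
def n54916 : Q := act 6 n26562
theorem D54916 : act 6 n26562 = n54916 := rfl
theorem F86865 : act 2 n54916 = n39281 := d3_1 D54916 (iv6 D39281) (iv2 F42540)
theorem F86866 : act 4 n54916 = n54394 := d10_1 D54916 (iv6 D54394) (iv4 F42536)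
def n54917 : Q := act 6 n26563
theorem D54917 : act 6 n26563 = n54917 := rfl
theorem F86867 : act 2 n54917 = n39279 := d3_1 D54917 (iv6 D39279) F42543
theorem F86868 : act 3 n54917 = n38404 := d7_1 D54917 (iv6 D38404) (iv3 F46076)
def n54918 : Q := act 0 n26564
theorem D54918 : act 0 n26564 = n54918 := rfl
def n54919 : Q := act 1 n26564
theorem D54919 : act 1 n26564 = n54919 := rfl
theorem F86869 : act 1 n54919 = n39299 := d15_1 D54919 (iv7 D39299) (iv2 F42544)
def n54920 : Q := act 5 n26564
theorem D54920 : act 5 n26564 = n54920 := rfl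
theorem F86870 : act 2 n54920 = n39298 := d2_1 D54920 (iv5 D39298) (iv2 F42544)
def n54921 : Q := act 7 n26564
theorem D54921 : act 7 n26564 = n54921 := rfl
theorem F86871 : act 2 n54921 = n39299 := d4_1 D54921 (iv7 D39299) (iv2 F42544)
theorem F86872 : act 4 n54921 = n26568 := d11_1 D54921 (iv7 D26568) (iv4 F42545)
theorem F86873 : act 6 n54921 = n39288 := d14_1 D54921 (iv7 D39288) (iv6 D18638) F27030 D26564
theorem F86874 : act 1 n39299 = n54918 := d15_0 (iv0 D54918) D54921 F86871
theorem F86875 : act 1 n39297 = n54921 := d15_1 D39297 (iv7 D54921) F42544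
theorem F86876 : act 1 n54921 = n39296 := d15_0 (iv0 D39296) D39299 (iv2 F86871)
def n54922 : Q := act 2 n26565
theorem D54922 : act 2 n26565 = n54922 := rfl
theorem F86877 : act 7 n26566 = n54922 := d15_2 (iv0 D26565) D26566 (iv2 D54922)
def n54923 : Q := act 3 n26565
theorem D54923 : act 3 n26565 = n54923 := rfl
def n54924 : Q := act 4 n26565
theorem D54924 : act 4 n26565 = n54924 := rfl
def n54925 : Q := act 5 n26565
theorem D54925 : act 5 n26565 = n54925 := rfl
def n54926 : Q := act 6 n26565
theorem D54926 : act 6 n26565 = n54926 := rfl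
def n54927 : Q := act 7 n26565
theorem D54927 : act 7 n26565 = n54927 := rfl
theorem F86878 : act 2 n54927 = n26566 := d4_1 D54927 F86877 (iv2 D54922)
def n54928 : Q := act 3 n26566
theorem D54928 : act 3 n26566 = n54928 := rfl
def n54929 : Q := act 4 n26566
theorem D54929 : act 4 n26566 = n54929 := rfl
def n54930 : Q := act 5 n26566
theorem D54930 : act 5 n26566 = n54930 := rfl
def n54931 : Q := act 6 n26566
theorem D54931 : act 6 n26566 = n54931 := rfl
def n54932 : Q := act 0 n26567
theorem D54932 : act 0 n26567 = n54932 := rfl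
def n54933 : Q := act 1 n26567
theorem D54933 : act 1 n26567 = n54933 := rfl
theorem F86879 : act 1 n54933 = n39313 := d15_1 D54933 (iv7 D39313) (iv2 F42547)
theorem F86880 : act 5 n54874 = n54933 := d21_6 (iv5 F9330) (iv1 F9332) D6009 D12679 D26544 D54874 (iv1 D54933) (iv5 D26567) (iv6 D12700) (iv1 F9342)
def n54934 : Q := act 4 n26567
theorem D54934 : act 4 n26567 = n54934 := rfl
theorem F86881 : act 2 n54934 = n39312 := d1_1 D54934 (iv4 D39312) (iv2 F42547)
def n54935 : Q := act 7 n26567
theorem D54935 : act 7 n26567 = n54935 := rfl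
theorem F86882 : act 2 n54935 = n39313 := d4_1 D54935 (iv7 D39313) (iv2 F42547)
theorem F86883 : act 5 n54935 = n26568 := d13_1 D54935 (iv7 D26568) D26567
theorem F86884 : act 1 n39313 = n54932 := d15_0 (iv0 D54932) D54935 F86882
theorem F86885 : act 1 n39311 = n54935 := d15_1 D39311 (iv7 D54935) F42547
theorem F86886 : act 1 n54935 = n39310 := d15_0 (iv0 D39310) D39313 (iv2 F86882)
def n54936 : Q := act 6 n26569
theorem D54936 : act 6 n26569 = n54936 := rfl
theorem F86887 : act 3 n54936 = n26571 := d7_1 D54936 (iv6 D26571) D26569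
theorem F86888 : act 4 n54936 = n33875 := d10_1 D54936 F53228 (iv4 F42553)
def n54937 : Q := act 6 n26570
theorem D54937 : act 6 n26570 = n54937 := rfl
theorem F86889 : act 2 n54937 = n39284 := d3_1 D54937 (iv6 D39284) (iv2 F42556)
def n54938 : Q := act 0 n26571
theorem D54938 : act 0 n26571 = n54938 := rfl
def n54939 : Q := act 1 n26571
theorem D54939 : act 1 n26571 = n54939 := rfl
theorem F86890 : act 1 n54939 = n39288 := d15_1 D54939 (iv7 D39288) (iv2 F42558)
theorem F86891 : act 4 n54410 = n54939 := d20_6 (iv4 F53215) (iv1 F85934) F85931 (iv3 F85869) (iv1 F85873) D54410 (iv1 D54939) F42559 F27022 D16373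
def n54940 : Q := act 5 n26571
theorem D54940 : act 5 n26571 = n54940 := rfl
theorem F86892 : act 2 n54940 = n39287 := d2_1 D54940 (iv5 D39287) (iv2 F42558)
def n54941 : Q := act 7 n26571
theorem D54941 : act 7 n26571 = n54941 := rfl
theorem F86893 : act 2 n54941 = n39288 := d4_1 D54941 (iv7 D39288) (iv2 F42558)
theorem F86894 : act 4 n54941 = n26574 := d11_1 D54941 (iv7 D26574) (iv4 F42559)
theorem F86895 : act 6 n54941 = n39299 := d14_1 D54941 (iv7 D39299) (iv6 D18644) (iv7 F27033) D26571
theorem F86896 : act 1 n39288 = n54938 := d15_0 (iv0 D54938) D54941 F86893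
theorem F86897 : act 1 n39286 = n54941 := d15_1 D39286 (iv7 D54941) F42558
theorem F86898 : act 1 n54941 = n39285 := d15_0 (iv0 D39285) D39288 (iv2 F86893)
def n54942 : Q := act 4 n26572
theorem D54942 : act 4 n26572 = n54942 := rfl
theorem F86899 : act 2 n54942 = n39289 := d1_1 D54942 (iv4 D39289) (iv2 F53235)
theorem F86900 : act 3 n54942 = n27682 := d5_1 D54942 (iv4 D27682) (iv3 D13214) (iv4 F30354) (iv3 F53224)
theorem F86901 : act 7 n54942 = n33862 := d11_2 (iv7 F53225) D54942 (iv4 D33862)
def n54943 : Q := act 5 n26572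
theorem D54943 : act 5 n26572 = n54943 := rfl
theorem F86902 : act 2 n54943 = n39290 := d2_1 D54943 (iv5 D39290) (iv2 F53235)
theorem F86903 : act 3 n54943 = n26640 := d6_1 D54943 (iv5 D26640) (iv3 F53224)
theorem F86904 : act 7 n54943 = n33863 := d13_2 (iv7 F53225) D54943 (iv5 D33863)
def n54944 : Q := act 3 n26573
theorem D54944 : act 3 n26573 = n54944 := rfl
theorem F86905 : act 2 n54944 = n26641 := d0_1 D54944 (iv3 D26641) (iv2 F42344) D16369 (iv2 F53226)
theorem F86906 : act 7 n54944 = n33851 := d8_2 F53234 D54944 (iv3 F53236)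
theorem F86908 : act 1 n54944 = n33849 := d15_0 (iv0 D33849) (iv7 F42694) (iv2 F86905)
def n54945 : Q := act 4 n26573
theorem D54945 : act 4 n26573 = n54945 := rfl
theorem F86909 : act 2 n54945 = n33862 := d1_1 D54945 (iv4 D33862) (iv2 F53226)
theorem F86910 : act 7 n54945 = n39289 := d11_2 F53234 D54945 (iv4 D39289)
def n54946 : Q := act 5 n26573
theorem D54946 : act 5 n26573 = n54946 := rfl
theorem F86911 : act 2 n54946 = n33863 := d2_1 D54946 (iv5 D33863) (iv2 F53226)
theorem F86912 : act 7 n54946 = n39290 := d13_2 F53234 D54946 (iv5 D39290)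
theorem F86913 : act 6 n54559 = n54946 := d21_5 (iv5 D7489) (iv1 F9293) D12591 D26384 D54559 (iv5 D54946) (iv1 D26573) F27023 (iv6 D7599) (iv1 F27123)
theorem E8303 : n54574 = n54559 := (c3_4 F86913 F86911 (iv6 F53237) D54574)
theorem F86914 : act 2 n54559 = n26391 := (sb E8303 (iv2 D54574))
theorem F86915 : act 7 n54559 = n26392 := (sb E8303 (iv7 F86263))
theorem E8304 : n54577 = n54560 := (c15_4 F86228 F86235 F86915 (iv2 F86264))
theorem F86916 : act 2 n54560 = n26392 := (sb E8304 F86264)
theorem F86917 : act 7 n54560 = n26391 := (sb E8304 (iv7 D54577))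
def n54947 : Q := act 6 n26573
theorem D54947 : act 6 n26573 = n54947 := rfl
theorem F86918 : act 2 n54947 = n33864 := d3_1 D54947 (iv6 D33864) (iv2 F53226)
def n54948 : Q := act 0 n26576
theorem D54948 : act 0 n26576 = n54948 := rfl
theorem F86919 : act 5 n54948 = n38371 := d19_1 D54948 F59231 (iv3 D35605) (iv1 F29468) (iv5 F56291) (iv4 D35608) F28200 D28638 F46202 (iv4 D16137) (iv3 F25669) F25670 (iv5 D15356) (iv4 D7259) D7258 D15350 (iv5 F42569) (iv4 D26577) D26576
theorem F86920 : act 3 n54948 = n36516 := d20_5 F29909 (iv1 F42570) (iv4 D26577) D26576 D54948 (iv4 F57758) (iv1 D36826) F28870 (iv3 F28157) D18635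
theorem F86921 : act 1 n38546 = n54948 := d15_0 (iv0 D54948) (iv7 F42873) D38546
theorem F86922 : act 7 n38521 = n54948 := d8_0 F86920 F57358 D38521
def n54949 : Q := act 1 n26576
theorem D54949 : act 1 n26576 = n54949 := rfl
def n54950 : Q := act 2 n26576
theorem D54950 : act 2 n26576 = n54950 := rfl
theorem F86923 : act 3 n54950 = n33254 := d0_2 D26576 D54950 F52490 (iv3 D18366) (iv2 F42868)
theorem F86924 : act 7 n54950 = n38546 := d4_2 F42873 D54950 (iv2 D38546)
theorem F86925 : act 1 n54950 = n38521 := d15_0 (iv0 F59358) F42873 D54950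
theorem F86926 : act 1 n54949 = n38546 := d15_1 D54949 (iv7 F86924) (iv2 D54950)
theorem F86927 : act 2 n38521 = n54949 := d15_3 F86926 F86921 (iv7 F86922)
theorem F86928 : act 7 n38545 = n54949 := d15_2 (iv0 F59358) D38545 (iv2 F86927)
theorem F86929 : act 2 n54948 = n38545 := d4_3 F86928 (iv2 F86927) F86922
theorem F86930 : act 1 n38545 = n54950 := d15_0 F86925 F86922 F86929
theorem F86931 : act 5 n33253 = n54950 := d13_3 F86924 (iv5 F59370) F56681
def n54951 : Q := act 4 n26576
theorem D54951 : act 4 n26576 = n54951 := rfl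
theorem F86932 : act 3 n54951 = n33006 := d5_1 D54951 (iv4 F56748) F56744 (iv4 D26577) D26576
theorem F86933 : act 7 n54951 = n36116 := d11_2 F42873 D54951 (iv4 F56865)
theorem F86934 : act 0 n54951 = n26887 := d20_7 (iv4 D8604) (iv1 F5840) (iv4 F5848) (iv3 F9344) D12706 D26576 D54951 F43368 (iv3 D21925) F16660
theorem F86935 : act 0 n36117 = n54951 := d20_7 F13556 (iv1 F9343) D12703 D26569 (iv1 F72365) F72362 F59145 (iv4 D54951) (iv3 D26576) (iv1 F21098)
theorem F86936 : act 2 n54951 = n36115 := d15_3 (iv0 D36115) D36116 (iv7 F86933)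
theorem F86937 : act 4 n36115 = n54950 := d1_2 D54951 F86936 (iv2 D54950)
def n54952 : Q := act 5 n26576
theorem D54952 : act 5 n26576 = n54952 := rfl
theorem F86938 : act 2 n54952 = n33253 := d2_1 D54952 F86931 (iv2 D54950)
theorem F86939 : act 3 n54952 = n26578 := d6_1 D54952 (iv5 D26578) D26576
theorem F86940 : act 7 n54952 = n38547 := d13_2 F42873 D54952 (iv5 D38547)
theorem F86941 : act 1 n36512 = n54952 := d15_1 (iv0 F57345) F86940 F59371
theorem F86942 : act 1 n35319 = n38547 := d15_1 (iv0 F56041) (iv7 F86940) F86938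
def n54953 : Q := act 6 n26576
theorem D54953 : act 6 n26576 = n54953 := rfl
theorem F86943 : act 3 n54953 = n26579 := d7_1 D54953 (iv6 D26579) D26576
def n54954 : Q := act 6 n26577
theorem D54954 : act 6 n26577 = n54954 := rfl
theorem F86944 : act 2 n54954 = n28612 := d3_1 D54954 (iv6 D28612) F42887
theorem F86945 : act 4 n54954 = n26579 := d10_1 D54954 (iv6 D26579) D26577
def n54955 : Q := act 6 n26578
theorem D54955 : act 6 n26578 = n54955 := rfl
theorem F86946 : act 2 n54955 = n38560 := d3_1 D54955 (iv6 D38560) F42870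
def n54956 : Q := act 0 n26579
theorem D54956 : act 0 n26579 = n54956 := rfl
def n54957 : Q := act 1 n26579
theorem D54957 : act 1 n26579 = n54957 := rfl
theorem F86947 : act 1 n54957 = n38564 := d15_1 D54957 (iv7 D38564) F42944
def n54958 : Q := act 5 n26579
theorem D54958 : act 5 n26579 = n54958 := rfl
theorem F86948 : act 2 n54958 = n38563 := d2_1 D54958 (iv5 D38563) F42944
def n54959 : Q := act 7 n26579
theorem D54959 : act 7 n26579 = n54959 := rfl
theorem F86949 : act 2 n54959 = n38564 := d4_1 D54959 (iv7 D38564) F42944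
theorem F86950 : act 6 n54959 = n38556 := d14_1 D54959 (iv7 D38556) (iv6 D18364) (iv7 F42869) D26579
theorem F86951 : act 1 n38564 = n54956 := d15_0 (iv0 D54956) D54959 F86949
theorem F86952 : act 1 n38562 = n54959 := d15_1 D38562 (iv7 D54959) (iv2 F42944)
theorem F86953 : act 1 n54959 = n38561 := d15_0 (iv0 D38561) D38564 (iv2 F86949)
def n54960 : Q := act 0 n26581
theorem D54960 : act 0 n26581 = n54960 := rfl
theorem F86954 : act 5 n54960 = n48994 := d17_3 (iv1 D33247) (iv5 F42864) D54960 (iv4 D48994) F37315 F40395 D15334 D32438 (iv4 F52485)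
theorem F86955 : act 1 n33254 = n54960 := d15_0 (iv0 D54960) F42945 (iv2 F52490)
theorem F86956 : act 2 n38487 = n54960 := d2_3 F86954 F77324 (iv5 F71637)
theorem F86957 : act 7 n38557 = n54960 := d13_0 F86954 F77325 (iv5 F59381)
theorem F86958 : act 4 n38250 = n54960 := d18_3 (iv1 D18284) (iv4 F29472) D38250 F86954 (iv4 D48994) (iv0 F51512) F25860 (iv0 F42609) F52453
def n54961 : Q := act 1 n26581
theorem D54961 : act 1 n26581 = n54961 := rfl
theorem F86959 : act 1 n54961 = n33254 := d15_1 D54961 (iv7 F56683) F56682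
theorem F86960 : act 7 n54961 = n38487 := d15_2 (iv0 D54960) D54961 F86956
theorem F86961 : act 5 n54961 = n54545 := d17_7 F26953 F9348 D6070 F26854 D16052 (iv5 F42864) D54961 F86193 (iv4 D26381)
theorem F86962 : act 2 n38557 = n54961 := d2_3 F86961 (iv2 F86196) (iv5 F59381)
theorem F86963 : act 3 n38180 = n54961 := d6_3 F86961 (iv3 F86197) (iv5 F59040)
theorem F86964 : act 4 n54961 = n38251 := d20_6 F13536 F14312 F14310 D18249 D38180 F86963 (iv1 D38251) F29472 (iv3 D8624) D8622
def n54962 : Q := act 4 n26581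
theorem D54962 : act 4 n26581 = n54962 := rfl
theorem F86965 : act 3 n54962 = n28604 := d5_1 D54962 (iv4 D28604) (iv3 F42573) (iv4 D26582) D26581
theorem F86966 : act 7 n54962 = n28615 := d11_2 (iv7 F42945) D54962 F46187
theorem F86967 : act 5 n54962 = n33230 := d16_1 D54962 F52461 (iv5 D26851) (iv4 D12844) F26863 D16057 D33254 (iv7 F56683) F56682
theorem F86968 : act 0 n54962 = n52646 := d18_2 (iv1 D54961) D54962 F83194 (iv5 D33824) (iv4 D16353) (iv0 F26948) D26378 D54545 (iv5 F86961)
def n54963 : Q := act 6 n26581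
theorem D54963 : act 6 n26581 = n54963 := rfl
theorem F86969 : act 3 n54963 = n26584 := d7_1 D54963 (iv6 D26584) D26581
def n54964 : Q := act 6 n26582
theorem D54964 : act 6 n26582 = n54964 := rfl
theorem F86970 : act 2 n54964 = n38549 := d3_1 D54964 (iv6 D38549) F42898
theorem F86971 : act 3 n54964 = n28605 := d7_1 D54964 (iv6 D28605) (iv3 F42573)
theorem F86972 : act 4 n54964 = n26584 := d10_1 D54964 (iv6 D26584) D26582
def n54965 : Q := act 6 n26583
theorem D54965 : act 6 n26583 = n54965 := rfl
theorem F86973 : act 2 n54965 = n38552 := d3_1 D54965 (iv6 D38552) (iv2 F42871)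
theorem F86974 : act 3 n54965 = n33248 := d7_1 D54965 (iv6 D33248) F42863
def n54966 : Q := act 0 n26584
theorem D54966 : act 0 n26584 = n54966 := rfl
def n54967 : Q := act 1 n26584
theorem D54967 : act 1 n26584 = n54967 := rfl
def n54968 : Q := act 5 n26584
theorem D54968 : act 5 n26584 = n54968 := rfl
theorem F86976 : act 2 n54968 = n38555 := d2_1 D54968 (iv5 D38555) (iv2 F42946)
def n54969 : Q := act 7 n26584
theorem D54969 : act 7 n26584 = n54969 := rfl
theorem F86977 : act 2 n54969 = n38556 := d4_1 D54969 (iv7 D38556) (iv2 F42946)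
theorem F86978 : act 6 n54969 = n38564 := d14_1 D54969 (iv7 D38564) (iv6 D18368) F42867 D26584
theorem F86979 : act 1 n38556 = n54966 := d15_0 (iv0 D54966) D54969 F86977
theorem F86980 : act 1 n38554 = n54969 := d15_1 D38554 (iv7 D54969) F42946
theorem F86981 : act 1 n54969 = n38553 := d15_0 (iv0 D38553) D38556 (iv2 F86977)
def n54970 : Q := act 3 n26585
theorem D54970 : act 3 n26585 = n54970 := rfl
theorem F86982 : act 2 n54970 = n54551 := d0_1 D54970 (iv3 D54551) F42110 F29548 F42581
theorem F86983 : act 5 n54970 = n34573 := d6_2 (iv5 F42575) D54970 (iv3 D34573)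
theorem F86984 : act 7 n54970 = n38570 := d8_2 F42583 D54970 (iv3 D38570)
theorem F86985 : act 1 n38371 = n54970 := d15_1 (iv0 F59233) F86984 F59395
theorem F86986 : act 1 n35402 = n38570 := d15_1 (iv0 F86209) (iv7 F86984) F86982
def n54971 : Q := act 6 n26585
theorem D54971 : act 6 n26585 = n54971 := rfl
theorem F86987 : act 2 n54971 = n38574 := d3_1 D54971 (iv6 D38574) F42581
def n54972 : Q := act 6 n26586
theorem D54972 : act 6 n26586 = n54972 := rfl
theorem F86988 : act 2 n54972 = n38572 := d3_1 D54972 (iv6 D38572) (iv2 F42582)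
theorem F86989 : act 3 n54972 = n54546 := d7_1 D54972 (iv6 D54546) F42579
def n54973 : Q := act 6 n26587
theorem D54973 : act 6 n26587 = n54973 := rfl
theorem F86990 : act 3 n54973 = n46559 := d7_1 D54973 (iv6 D46559) (iv3 F42584)
theorem F86991 : act 4 n54973 = n26588 := d10_1 D54973 (iv6 D26588) D26587
def n54974 : Q := act 0 n26588
theorem D54974 : act 0 n26588 = n54974 := rfl
def n54975 : Q := act 1 n26588
theorem D54975 : act 1 n26588 = n54975 := rfl
def n54976 : Q := act 5 n26588
theorem D54976 : act 5 n26588 = n54976 := rfl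
theorem F86992 : act 3 n54976 = n38630 := d6_1 D54976 (iv5 D38630) (iv3 F42587)
theorem F86993 : act 6 n54976 = n26591 := d12_2 D26588 D54976 (iv5 D26591) (iv6 D12709) D12708
def n54977 : Q := act 7 n26588
theorem D54977 : act 7 n26588 = n54977 := rfl
theorem F86994 : act 3 n54977 = n38627 := d8_1 D54977 F59441 (iv3 F42587)
theorem F86995 : act 6 n54977 = n38581 := d14_1 D54977 (iv7 D38581) (iv6 D18374) (iv7 F21101) D26588
def n54978 : Q := act 2 n26589
theorem D54978 : act 2 n26589 = n54978 := rfl
theorem F86996 : act 7 n26590 = n54978 := d15_2 (iv0 D26589) D26590 (iv2 D54978)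
def n54979 : Q := act 3 n26589
theorem D54979 : act 3 n26589 = n54979 := rfl
def n54980 : Q := act 4 n26589
theorem D54980 : act 4 n26589 = n54980 := rfl
def n54981 : Q := act 5 n26589
theorem D54981 : act 5 n26589 = n54981 := rfl
def n54982 : Q := act 6 n26589
theorem D54982 : act 6 n26589 = n54982 := rfl
def n54983 : Q := act 7 n26589
theorem D54983 : act 7 n26589 = n54983 := rfl
theorem F86997 : act 2 n54983 = n26590 := d4_1 D54983 F86996 (iv2 D54978)
def n54984 : Q := act 3 n26590
theorem D54984 : act 3 n26590 = n54984 := rfl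
def n54985 : Q := act 4 n26590
theorem D54985 : act 4 n26590 = n54985 := rfl
theorem F86998 : act 3 n54985 = n28610 := d20_9 (iv4 F46175) F77289 (iv4 D33708) (iv3 D16287) (iv1 F25774) (iv3 F42524) (iv4 F86842) (iv1 F86845) D54985 (iv1 D28610)
def n54986 : Q := act 5 n26590
theorem D54986 : act 5 n26590 = n54986 := rfl
def n54987 : Q := act 6 n26590
theorem D54987 : act 6 n26590 = n54987 := rfl
def n54988 : Q := act 0 n26591
theorem D54988 : act 0 n26591 = n54988 := rfl
def n54989 : Q := act 1 n26591
theorem D54989 : act 1 n26591 = n54989 := rfl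
def n54990 : Q := act 4 n26591
theorem D54990 : act 4 n26591 = n54990 := rfl
def n54991 : Q := act 7 n26591
theorem D54991 : act 7 n26591 = n54991 := rfl
theorem F86999 : act 3 n54991 = n38690 := d8_1 D54991 F59489 (iv3 F42588)
theorem F87000 : act 5 n54991 = n26592 := d13_1 D54991 (iv7 D26592) D26591
def n54993 : Q := act 1 n26593
theorem D54993 : act 1 n26593 = n54993 := rfl
theorem F87002 : act 1 n54993 = n26598 := d15_1 D54993 (iv7 D26598) D26593
def n54994 : Q := act 3 n26593
theorem D54994 : act 3 n26593 = n54994 := rfl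
theorem F87003 : act 7 n54994 = n26599 := d8_2 F42592 D54994 (iv3 D26599)
def n54995 : Q := act 4 n26593
theorem D54995 : act 4 n26593 = n54995 := rfl
theorem F87004 : act 2 n54995 = n26595 := d1_1 D54995 (iv4 D26595) D26593
theorem F87005 : act 7 n54995 = n26600 := d11_2 F42592 D54995 (iv4 D26600)
def n54996 : Q := act 5 n26593
theorem D54996 : act 5 n26593 = n54996 := rfl
theorem F87006 : act 2 n54996 = n26596 := d2_1 D54996 (iv5 D26596) D26593
theorem F87007 : act 7 n54996 = n26601 := d13_2 F42592 D54996 (iv5 D26601)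
def n54997 : Q := act 6 n26593
theorem D54997 : act 6 n26593 = n54997 := rfl
theorem F87008 : act 2 n54997 = n26597 := d3_1 D54997 (iv6 D26597) D26593
def n54998 : Q := act 0 n26594
theorem D54998 : act 0 n26594 = n54998 := rfl
def n54999 : Q := act 1 n26594
theorem D54999 : act 1 n26594 = n54999 := rfl
def n55000 : Q := act 2 n26594
theorem D55000 : act 2 n26594 = n55000 := rfl
def n55001 : Q := act 4 n26594
theorem D55001 : act 4 n26594 = n55001 := rfl
theorem F87009 : act 0 n55001 = n49010 := d20_7 (iv4 F43124) (iv1 D3931) (iv4 F4044) (iv3 F9346) D12710 D26594 D55001 F77356 F37323 (iv1 F18170)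
theorem F87010 : act 0 n48981 = n55001 := d20_1 (iv4 F77286) (iv4 D55001) (iv3 D26594) (iv1 F42528) F42524 (iv4 F52868) (iv1 F52870) D33692 (iv3 F77288) (iv1 D48983)
def n55002 : Q := act 5 n26594
theorem D55002 : act 5 n26594 = n55002 := rfl
theorem F87011 : act 3 n55002 = n26596 := d6_1 D55002 (iv5 D26596) D26594
def n55003 : Q := act 6 n26594
theorem D55003 : act 6 n26594 = n55003 := rfl
theorem F87012 : act 3 n55003 = n26597 := d7_1 D55003 (iv6 D26597) D26594
def n55004 : Q := act 7 n26594
theorem D55004 : act 7 n26594 = n55004 := rfl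
theorem F87013 : act 3 n55004 = n26598 := d8_1 D55004 (iv7 D26598) D26594
def n55005 : Q := act 0 n26595
theorem D55005 : act 0 n26595 = n55005 := rfl
def n55006 : Q := act 1 n26595
theorem D55006 : act 1 n26595 = n55006 := rfl
theorem F87014 : act 1 n55006 = n26600 := d15_1 D55006 (iv7 F87005) F87004
def n55007 : Q := act 3 n26595
theorem D55007 : act 3 n26595 = n55007 := rfl
def n55008 : Q := act 5 n26595
theorem D55008 : act 5 n26595 = n55008 := rfl
def n55009 : Q := act 6 n26595
theorem D55009 : act 6 n26595 = n55009 := rfl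
theorem F87015 : act 4 n55009 = n26597 := d10_1 D55009 (iv6 D26597) D26595
def n55010 : Q := act 7 n26595
theorem D55010 : act 7 n26595 = n55010 := rfl
theorem F87016 : act 2 n55010 = n26600 := d4_1 D55010 (iv7 F87005) F87004
theorem F87017 : act 4 n55010 = n26598 := d11_1 D55010 (iv7 D26598) D26595
theorem F87018 : act 1 n26600 = n55005 := d15_0 (iv0 D55005) D55010 F87016
def n55011 : Q := act 0 n26596
theorem D55011 : act 0 n26596 = n55011 := rfl
theorem F87019 : act 5 n55011 = n54879 := d21_2 D26596 D55011 (iv6 D54879) (iv1 D26545) (iv6 D12679) (iv5 D6009) (iv1 D2531) D2533 D6017 D12710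
def n55012 : Q := act 1 n26596
theorem D55012 : act 1 n26596 = n55012 := rfl
theorem F87020 : act 1 n55012 = n26601 := d15_1 D55012 (iv7 F87007) F87006
def n55013 : Q := act 4 n26596
theorem D55013 : act 4 n26596 = n55013 := rfl
def n55014 : Q := act 6 n26596
theorem D55014 : act 6 n26596 = n55014 := rfl
def n55015 : Q := act 7 n26596
theorem D55015 : act 7 n26596 = n55015 := rfl
theorem F87021 : act 2 n55015 = n26601 := d4_1 D55015 (iv7 F87007) F87006
theorem F87022 : act 5 n55015 = n26598 := d13_1 D55015 (iv7 D26598) D26596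
theorem F87023 : act 1 n26601 = n55011 := d15_0 (iv0 D55011) D55015 F87021
def n55016 : Q := act 0 n26597
theorem D55016 : act 0 n26597 = n55016 := rfl
def n55017 : Q := act 1 n26597
theorem D55017 : act 1 n26597 = n55017 := rfl
def n55018 : Q := act 5 n26597
theorem D55018 : act 5 n26597 = n55018 := rfl
theorem F87024 : act 0 n55018 = n54595 := d21_7 (iv5 D6009) (iv1 D2531) D2533 D6017 D12710 D26597 D55018 F86281 (iv6 D26516) (iv1 F21076)
def n55019 : Q := act 7 n26597
theorem D55019 : act 7 n26597 = n55019 := rfl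
def n55020 : Q := act 6 n26598
theorem D55020 : act 6 n26598 = n55020 := rfl
theorem F87025 : act 2 n55020 = n26602 := d3_1 D55020 (iv6 D26602) (iv2 F42593)
def n55021 : Q := act 0 n26599
theorem D55021 : act 0 n26599 = n55021 := rfl
def n55022 : Q := act 1 n26599
theorem D55022 : act 1 n26599 = n55022 := rfl
def n55023 : Q := act 2 n26599
theorem D55023 : act 2 n26599 = n55023 := rfl
def n55024 : Q := act 4 n26599
theorem D55024 : act 4 n26599 = n55024 := rfl
def n55025 : Q := act 5 n26599
theorem D55025 : act 5 n26599 = n55025 := rfl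
theorem F87026 : act 3 n55025 = n26601 := d6_1 D55025 (iv5 D26601) D26599
def n55026 : Q := act 6 n26599
theorem D55026 : act 6 n26599 = n55026 := rfl
theorem F87027 : act 3 n55026 = n26602 := d7_1 D55026 (iv6 D26602) D26599
def n55027 : Q := act 3 n26600
theorem D55027 : act 3 n26600 = n55027 := rfl
def n55028 : Q := act 5 n26600
theorem D55028 : act 5 n26600 = n55028 := rfl
def n55029 : Q := act 6 n26600
theorem D55029 : act 6 n26600 = n55029 := rfl
theorem F87028 : act 4 n55029 = n26602 := d10_1 D55029 (iv6 D26602) D26600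
def n55030 : Q := act 4 n26601
theorem D55030 : act 4 n26601 = n55030 := rfl
def n55031 : Q := act 6 n26601
theorem D55031 : act 6 n26601 = n55031 := rfl
def n55032 : Q := act 0 n26602
theorem D55032 : act 0 n26602 = n55032 := rfl
def n55033 : Q := act 1 n26602
theorem D55033 : act 1 n26602 = n55033 := rfl
def n55034 : Q := act 5 n26602
theorem D55034 : act 5 n26602 = n55034 := rfl
theorem F87029 : act 0 n54828 = n55034 := d21_1 D54828 (iv5 D55034) (iv6 D26602) (iv1 D12711) (iv6 D6017) (iv5 D2533) D2530 D6004 D12662 D26523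
def n55035 : Q := act 7 n26602
theorem D55035 : act 7 n26602 = n55035 := rfl
def n55036 : Q := act 5 n26603
theorem D55036 : act 5 n26603 = n55036 := rfl
theorem F87030 : act 2 n55036 = n33245 := d2_1 D55036 F52481 (iv2 F42594)
theorem F87031 : act 7 n55036 = n33204 := d13_2 (iv7 F42595) D55036 (iv5 D33204)
theorem F87032 : act 1 n33243 = n55036 := d15_1 D33243 F87031 F52426
theorem F87033 : act 1 n55036 = n33242 := d15_0 (iv0 D33242) D33245 (iv2 F87030)
def n55037 : Q := act 4 n26604
theorem D55037 : act 4 n26604 = n55037 := rfl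
theorem F87034 : act 2 n55037 = n33301 := d1_1 D55037 F52536 (iv2 F42598)
theorem F87035 : act 7 n55037 = n33214 := d11_2 (iv7 F42599) D55037 (iv4 D33214)
theorem F87036 : act 1 n33298 = n55037 := d15_1 D33298 F87035 F52445
theorem F87037 : act 1 n55037 = n33297 := d15_0 (iv0 D33297) D33301 (iv2 F87034)
def n55038 : Q := act 6 n26604
theorem D55038 : act 6 n26604 = n55038 := rfl
theorem F87038 : act 2 n55038 = n33302 := d3_1 D55038 (iv6 D33302) (iv2 F42598)
def n55039 : Q := act 4 n26605
theorem D55039 : act 4 n26605 = n55039 := rfl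
def n55040 : Q := act 6 n26605
theorem D55040 : act 6 n26605 = n55040 := rfl
def n55041 : Q := act 4 n26606
theorem D55041 : act 4 n26606 = n55041 := rfl
def n55042 : Q := act 0 n26607
theorem D55042 : act 0 n26607 = n55042 := rfl
theorem F87039 : act 1 n33286 = n55042 := d15_0 (iv0 D55042) (iv7 F85537) F85536
def n55043 : Q := act 1 n26607
theorem D55043 : act 1 n26607 = n55043 := rfl
theorem F87040 : act 1 n55043 = n33286 := d15_1 D55043 (iv7 F86622) F86620
def n55044 : Q := act 3 n26607
theorem D55044 : act 3 n26607 = n55044 := rfl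
theorem F87041 : act 4 n55044 = n26695 := d5_2 D26607 D55044 (iv3 D26695) (iv4 D12751) (iv3 F21106)
theorem F87042 : act 6 n55044 = n39384 := d7_2 (iv6 F42606) D55044 (iv3 D39384)
def n55045 : Q := act 5 n26607
theorem D55045 : act 5 n26607 = n55045 := rfl
def n55046 : Q := act 3 n26608
theorem D55046 : act 3 n26608 = n55046 := rfl
theorem F87043 : act 2 n55046 = n27023 := d0_1 D55046 (iv3 D27023) F21520 (iv3 F21115) (iv2 F42607)
theorem F87044 : act 4 n55046 = n33760 := d5_2 D26608 D55046 (iv3 D33760) (iv4 D16319) (iv3 F21109)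
theorem F87045 : act 5 n55046 = n38287 := d6_2 (iv5 F52453) D55046 (iv3 D38287)
theorem F87046 : act 7 n55046 = n33823 := d8_2 (iv7 F42608) D55046 (iv3 D33823)
theorem F87047 : act 0 n55046 = n35371 := d20_10 (iv4 F62346) (iv1 F74447) F74444 (iv3 F42516) (iv1 F42518) (iv3 F29548) (iv4 D16010) F27122 D26608 D55046
theorem F87048 : act 0 n35370 = n55046 := d20_1 (iv4 F62347) F87044 (iv3 D33760) (iv1 F42676) (iv3 F77218) F77220 F76781 F76780 (iv3 F74443) (iv1 F74449)
def n55047 : Q := act 6 n26608
theorem D55047 : act 6 n26608 = n55047 := rfl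
theorem F87049 : act 2 n55047 = n26613 := d3_1 D55047 (iv6 D26613) (iv2 F42607)
theorem F87050 : act 4 n55047 = n26609 := d10_1 D55047 (iv6 D26609) D26608
def n55048 : Q := act 0 n26609
theorem D55048 : act 0 n26609 = n55048 := rfl
def n55049 : Q := act 1 n26609
theorem D55049 : act 1 n26609 = n55049 := rfl
theorem F87051 : act 1 n55049 = n26617 := d15_1 D55049 (iv7 D26617) (iv2 F42611)
def n55050 : Q := act 5 n26609
theorem D55050 : act 5 n26609 = n55050 := rfl
theorem F87052 : act 2 n55050 = n26616 := d2_1 D55050 (iv5 D26616) (iv2 F42611)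
theorem F87053 : act 3 n55050 = n33765 := d6_1 D55050 (iv5 D33765) (iv3 F42612)
theorem F87054 : act 6 n55050 = n26854 := d12_2 D26609 D55050 (iv5 D26854) (iv6 D12847) (iv5 F21110)
def n55051 : Q := act 7 n26609
theorem D55051 : act 7 n26609 = n55051 := rfl
theorem F87055 : act 2 n55051 = n26617 := d4_1 D55051 (iv7 D26617) (iv2 F42611)
theorem F87056 : act 3 n55051 = n33766 := d8_1 D55051 (iv7 D33766) (iv3 F42612)
theorem F87057 : act 6 n55051 = n33828 := d14_1 D55051 (iv7 D33828) (iv6 D16354) (iv7 F21111) D26609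
theorem F87058 : act 1 n26617 = n55048 := d15_0 (iv0 D55048) D55051 F87055
theorem F87059 : act 1 n26615 = n55051 := d15_1 D26615 (iv7 D55051) F42611
theorem F87060 : act 1 n55051 = n26614 := d15_0 (iv0 D26614) D26617 (iv2 F87055)
def n55052 : Q := act 3 n26610
theorem D55052 : act 3 n26610 = n55052 := rfl
theorem F87061 : act 2 n55052 = n34540 := d0_1 D55052 F54788 F27504 F25859 F42619
theorem F87062 : act 4 n55052 = n38129 := d5_2 F51559 D55052 (iv3 F58954) D39280 (iv3 F60255)
theorem F87063 : act 5 n55052 = n34539 := d6_2 (iv5 F42622) D55052 F54783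
theorem F87064 : act 7 n55052 = n33829 := d8_2 F42621 D55052 (iv3 D33829)
theorem F87065 : act 1 n38026 = n55052 := d15_1 D38026 F87064 F53180
theorem E8305 : n38403 = n38026 := (c17_6 D38407 F59263 (iv1 F54782) (iv5 F53182) F53181 D38403 F87065 F87063 F54785 F29519)
theorem F87066 : act 3 n38026 = n54820 := (sb E8305 F86757)
theorem F87067 : act 5 n38026 = n18319 := (sb E8305 (iv5 D38403))
theorem F87068 : act 0 n38025 = n55052 := d20_7 (iv4 D8748) (iv1 F9341) D12694 D26554 (iv1 F42512) D38194 (iv4 F59055) F87062 (iv3 F58954) (iv1 D18636)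
def n55053 : Q := act 6 n26610
theorem D55053 : act 6 n26610 = n55053 := rfl
theorem F87069 : act 2 n55053 = n33831 := d3_1 D55053 (iv6 D33831) F42619
def n55054 : Q := act 6 n26611
theorem D55054 : act 6 n26611 = n55054 := rfl
theorem F87070 : act 2 n55054 = n33830 := d3_1 D55054 (iv6 D33830) (iv2 F42620)
theorem F87071 : act 3 n55054 = n34511 := d7_1 D55054 (iv6 D34511) F42615
theorem F87072 : act 4 n55054 = n54390 := d10_1 D55054 (iv6 D54390) F42616
def n55055 : Q := act 4 n26612
theorem D55055 : act 4 n26612 = n55055 := rfl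
theorem F87073 : act 2 n55055 = n35925 := d1_1 D55055 F56610 F52454
theorem F87074 : act 5 n55055 = n35923 := d9_2 D26612 D55055 (iv4 D35923) (iv5 D17391) F12915 (iv5 F11831) D16353 D33824 (iv4 F83194) (iv5 D52646) (iv4 D25551) (iv5 D12145) F8868 (iv5 F9348) D12719
theorem F87075 : act 7 n55055 = n33833 := d11_2 (iv7 F42624) D55055 (iv4 D33833)
theorem F87076 : act 0 n55055 = n54962 := d17_0 F86967 (iv1 D33230) D33232 F52464 (iv5 F51499) F42116 F29486 F42626 D55055
def n55056 : Q := act 6 n26612
theorem D55056 : act 6 n26612 = n55056 := rfl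
theorem F87077 : act 2 n55056 = n38288 := d3_1 D55056 (iv6 D38288) F52454
theorem F87078 : act 3 n55056 = n27045 := d7_1 D55056 (iv6 D27045) (iv3 F42623)
def n55057 : Q := act 0 n26613
theorem D55057 : act 0 n26613 = n55057 := rfl
def n55058 : Q := act 1 n26613
theorem D55058 : act 1 n26613 = n55058 := rfl
def n55059 : Q := act 5 n26613
theorem D55059 : act 5 n26613 = n55059 := rfl
theorem F87079 : act 3 n55059 = n27048 := d6_1 D55059 (iv5 D27048) (iv3 F42627)
def n55060 : Q := act 7 n26613
theorem D55060 : act 7 n26613 = n55060 := rfl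
theorem F87080 : act 3 n55060 = n27049 := d8_1 D55060 (iv7 D27049) (iv3 F42627)
theorem F87081 : act 4 n55060 = n26617 := d11_1 D55060 (iv7 D26617) (iv4 F42628)
theorem F87082 : act 6 n55060 = n33838 := d14_1 D55060 (iv7 D33838) (iv6 D16358) (iv7 F21116) D26613
def n55061 : Q := act 2 n26614
theorem D55061 : act 2 n26614 = n55061 := rfl
theorem F87083 : act 7 n26615 = n55061 := d15_2 (iv0 D26614) D26615 (iv2 D55061)
def n55062 : Q := act 3 n26614
theorem D55062 : act 3 n26614 = n55062 := rfl
def n55063 : Q := act 4 n26614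
theorem D55063 : act 4 n26614 = n55063 := rfl
def n55064 : Q := act 5 n26614
theorem D55064 : act 5 n26614 = n55064 := rfl
def n55065 : Q := act 6 n26614
theorem D55065 : act 6 n26614 = n55065 := rfl
def n55066 : Q := act 7 n26614
theorem D55066 : act 7 n26614 = n55066 := rfl
theorem F87084 : act 2 n55066 = n26615 := d4_1 D55066 F87083 (iv2 D55061)
def n55067 : Q := act 3 n26615
theorem D55067 : act 3 n26615 = n55067 := rfl
def n55068 : Q := act 4 n26615
theorem D55068 : act 4 n26615 = n55068 := rfl
def n55069 : Q := act 5 n26615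
theorem D55069 : act 5 n26615 = n55069 := rfl
def n55070 : Q := act 6 n26615
theorem D55070 : act 6 n26615 = n55070 := rfl
def n55071 : Q := act 0 n26616
theorem D55071 : act 0 n26616 = n55071 := rfl
def n55072 : Q := act 1 n26616
theorem D55072 : act 1 n26616 = n55072 := rfl
def n55073 : Q := act 4 n26616
theorem D55073 : act 4 n26616 = n55073 := rfl
theorem F87085 : act 6 n55073 = n26860 := d10_2 (iv6 F42630) D55073 (iv4 D26860)
def n55074 : Q := act 7 n26616
theorem D55074 : act 7 n26616 = n55074 := rfl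
theorem F87086 : act 3 n55074 = n26628 := d8_1 D55074 (iv7 D26628) (iv3 F42629)
theorem F87087 : act 5 n55074 = n26617 := d13_1 D55074 (iv7 D26617) D26616
theorem F87088 : act 6 n55074 = n39313 := d14_1 D55074 (iv7 D39313) F43298 (iv7 D26861) (iv6 F42630)
def n55075 : Q := act 0 n26619
theorem D55075 : act 0 n26619 = n55075 := rfl
theorem F87089 : act 1 n33805 = n55075 := d15_0 (iv0 D55075) (iv7 F42650) D33805
def n55076 : Q := act 1 n26619
theorem D55076 : act 1 n26619 = n55076 := rfl
def n55077 : Q := act 2 n26619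
theorem D55077 : act 2 n26619 = n55077 := rfl
theorem F87090 : act 3 n55077 = n33794 := d0_2 D26619 D55077 (iv2 D33794) (iv3 D16330) F42639
theorem F87091 : act 7 n55077 = n33805 := d4_2 F42650 D55077 (iv2 D33805)
theorem F87092 : act 1 n55077 = n33803 := d15_0 (iv0 D33803) F42650 D55077
theorem F87093 : act 1 n55076 = n33805 := d15_1 D55076 (iv7 F87091) (iv2 D55077)
theorem F87094 : act 1 n33804 = n55077 := d15_1 D33804 F87091 (iv2 D33805)
def n55078 : Q := act 4 n26619
theorem D55078 : act 4 n26619 = n55078 := rfl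
theorem F87095 : act 3 n55078 = n27730 := d5_1 D55078 (iv4 D27730) (iv3 D13235) (iv4 F42637) D26619
theorem F87096 : act 7 n55078 = n33806 := d11_2 F42650 D55078 (iv4 D33806)
def n55079 : Q := act 5 n26619
theorem D55079 : act 5 n26619 = n55079 := rfl
theorem F87097 : act 3 n55079 = n26621 := d6_1 D55079 (iv5 D26621) D26619
theorem F87098 : act 7 n55079 = n33807 := d13_2 F42650 D55079 (iv5 D33807)
def n55080 : Q := act 6 n26619
theorem D55080 : act 6 n26619 = n55080 := rfl
theorem F87099 : act 3 n55080 = n26622 := d7_1 D55080 (iv6 D26622) D26619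
theorem F87100 : act 7 n55080 = n33966 := d14_2 F42650 D55080 (iv6 F60503) F60504 (iv6 D33808)
theorem F87101 : act 5 n33166 = n55080 := d13_3 F87100 (iv5 F86321) F86322
def n55081 : Q := act 0 n26621
theorem D55081 : act 0 n26621 = n55081 := rfl
theorem F87102 : act 5 n55081 = n26742 := d17_3 D12721 D26621 D55081 F42958 (iv5 F43748) (iv0 D27083) (iv5 D12974) (iv0 D6161) (iv4 F9351)
theorem F87103 : act 1 n26624 = n55081 := d15_0 (iv0 D55081) (iv7 F42651) (iv2 F42653)
theorem F87104 : act 2 n33798 = n55081 := d2_3 F87102 F51284 (iv5 F53030)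
theorem F87105 : act 7 n33799 = n55081 := d13_0 F87102 (iv7 F86547) F86551
def n55082 : Q := act 1 n26621
theorem D55082 : act 1 n26621 = n55082 := rfl
theorem F87106 : act 1 n55082 = n26624 := d15_1 D55082 F42654 (iv2 F42649)
theorem F87107 : act 7 n55082 = n33798 := d15_2 (iv0 D55081) D55082 F87104
theorem F87108 : act 5 n55082 = n33313 := d17_7 (iv1 F29847) F44749 (iv1 D27734) (iv5 D13237) (iv4 F42637) D26621 D55082 F53150 F53147
theorem F87109 : act 2 n33799 = n55082 := d2_3 F87108 (iv2 F86550) F86551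
theorem F87110 : act 6 n32652 = n55082 := d12_0 F87108 (iv6 F52546) (iv5 D18704) D18705 F51717
def n55083 : Q := act 4 n26621
theorem D55083 : act 4 n26621 = n55083 := rfl
theorem F87111 : act 2 n55083 = n33800 := d1_1 D55083 (iv4 D33800) (iv2 F42649)
theorem F87112 : act 7 n55083 = n33809 := d11_2 F42651 D55083 (iv4 D33809)
def n55084 : Q := act 6 n26621
theorem D55084 : act 6 n26621 = n55084 := rfl
theorem F87113 : act 2 n55084 = n33801 := d3_1 D55084 (iv6 D33801) (iv2 F42649)
theorem F87114 : act 5 n55084 = n33167 := d12_1 D55084 (iv6 D33167) (iv5 F42634) (iv6 D26622) D26621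
def n55085 : Q := act 0 n26623
theorem D55085 : act 0 n26623 = n55085 := rfl
theorem F87115 : act 1 n33794 = n55085 := d15_0 (iv0 D55085) F42652 D33794
def n55087 : Q := act 2 n26623
theorem D55087 : act 2 n26623 = n55087 := rfl
theorem F87116 : act 3 n55087 = n33805 := d0_2 D26623 D55087 (iv2 D33805) (iv3 D16335) (iv2 F42640)
theorem F87117 : act 7 n55087 = n33794 := d4_2 (iv7 F42652) D55087 (iv2 D33794)
theorem F87118 : act 1 n55087 = n33792 := d15_0 (iv0 D33792) (iv7 F42652) D55087
def n55088 : Q := act 4 n26623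
theorem D55088 : act 4 n26623 = n55088 := rfl
theorem F87121 : act 3 n55088 = n27741 := d5_1 D55088 (iv4 D27741) (iv3 D13240) (iv4 F42641) D26623
theorem F87122 : act 7 n55088 = n33795 := d11_2 (iv7 F42652) D55088 (iv4 D33795)
def n55089 : Q := act 5 n26623
theorem D55089 : act 5 n26623 = n55089 := rfl
theorem F87123 : act 3 n55089 = n26624 := d6_1 D55089 (iv5 D26624) D26623
theorem F87124 : act 7 n55089 = n33796 := d13_2 (iv7 F42652) D55089 (iv5 D33796)
def n55090 : Q := act 4 n26624
theorem D55090 : act 4 n26624 = n55090 := rfl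
theorem F87125 : act 2 n55090 = n33809 := d1_1 D55090 (iv4 D33809) (iv2 F42653)
theorem F87126 : act 7 n55090 = n33800 := d11_2 (iv7 F42654) D55090 (iv4 D33800)
def n55091 : Q := act 6 n26624
theorem D55091 : act 6 n26624 = n55091 := rfl
theorem F87127 : act 2 n55091 = n33810 := d3_1 D55091 (iv6 D33810) (iv2 F42653)
theorem F87128 : act 0 n32628 = n55091 := d21_4 F21304 (iv1 F20685) (iv5 F24992) D32628 (iv6 D55091) (iv5 D26624) (iv1 D12722) D12723 F21120 D12852
def n55092 : Q := act 3 n26625
theorem D55092 : act 3 n26625 = n55092 := rfl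
theorem F87129 : act 7 n55092 = n33815 := d8_2 (iv7 F42664) D55092 (iv3 D33815)
def n55093 : Q := act 3 n26626
theorem D55093 : act 3 n26626 = n55093 := rfl
theorem F87130 : act 5 n55093 = n54729 := d6_2 F42656 D55093 F86541
theorem F87131 : act 7 n55093 = n33812 := d8_2 F42666 D55093 (iv3 D33812)
def n55094 : Q := act 6 n26626
theorem D55094 : act 6 n26626 = n55094 := rfl
theorem F87133 : act 5 n55094 = n54731 := d12_1 D55094 (iv6 D54731) (iv5 D26466) D26467 F42656
def n55095 : Q := act 3 n26627
theorem D55095 : act 3 n26627 = n55095 := rfl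
theorem F87134 : act 6 n55095 = n26865 := d7_2 (iv6 F42659) D55095 (iv3 D26865)
def n55096 : Q := act 5 n26627
theorem D55096 : act 5 n26627 = n55096 := rfl
theorem F87136 : act 4 n55096 = n36410 := d16_2 D26627 D55096 F57153 F28558 F13025 (iv4 F11830) (iv5 F25854) (iv7 D16342) (iv2 F21119)
theorem F87137 : act 7 n36409 = n55096 := d11_0 F87136 (iv7 D36410) D36409
def n55097 : Q := act 7 n26627
theorem D55097 : act 7 n26627 = n55097 := rfl
theorem F87139 : act 4 n55097 = n26628 := d11_1 D55097 (iv7 D26628) D26627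
theorem F87140 : act 5 n55097 = n36409 := d13_1 D55097 F87137 (iv5 D55096)
theorem F87141 : act 1 n33818 = n55097 := d15_1 D33818 (iv7 D55097) F42658
theorem F87142 : act 1 n55097 = n33817 := d15_1 F87141 (iv7 F53155) F53158
def n55098 : Q := act 6 n26628
theorem D55098 : act 6 n26628 = n55098 := rfl
theorem F87143 : act 2 n55098 = n33822 := d3_1 D55098 (iv6 D33822) (iv2 F42660)
theorem F87144 : act 3 n55098 = n39313 := d7_1 D55098 (iv6 F87088) F87086
theorem F87145 : act 5 n55098 = n33878 := d12_1 D55098 (iv6 D33878) F25873 (iv6 F21123) (iv5 F42661)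
theorem F87146 : act 7 n55098 = n26868 := d14_2 D26628 D55098 (iv6 D26868) (iv7 D12855) (iv6 F21120)
theorem F87147 : act 1 n35076 = n55098 := d15_1 D35076 F87146 F43315
theorem F87148 : act 1 n55098 = n35075 := d15_0 (iv0 D35075) (iv7 F53163) (iv2 F87143)
def n55099 : Q := act 3 n26629
theorem D55099 : act 3 n26629 = n55099 := rfl
theorem F87149 : act 2 n55099 = n26870 := d0_1 D55099 (iv3 D26870) F21341 (iv3 F21134) (iv2 F42668)
theorem F87150 : act 4 n55099 = n33823 := d5_2 D26629 D55099 (iv3 D33823) (iv4 D16353) (iv3 F21128)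
theorem F87151 : act 7 n55099 = n33760 := d8_2 (iv7 F42669) D55099 (iv3 D33760)
theorem F87152 : act 0 n55099 = n36063 := d20_10 (iv4 F71077) (iv1 D38201) (iv4 F30989) (iv3 D19353) (iv1 F30287) (iv3 F30289) (iv4 D15906) (iv1 F30290) D26629 D55099
theorem F87153 : act 0 n36062 = n55099 := d20_1 (iv4 F74450) F87150 (iv3 D33823) (iv1 F42614) (iv3 F42615) F27482 F14410 (iv4 F13524) (iv3 F29449) D38200
def n55100 : Q := act 5 n26629
theorem D55100 : act 5 n26629 = n55100 := rfl
theorem F87154 : act 2 n55100 = n26633 := d2_1 D55100 (iv5 D26633) (iv2 F42668)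
theorem F87155 : act 7 n55100 = n33761 := d13_2 (iv7 F42669) D55100 (iv5 D33761)
theorem F87156 : act 4 n55100 = n34913 := d16_2 D26629 D55100 (iv5 D34913) (iv4 D16933) (iv5 D7900) F5616 (iv5 F5429) (iv7 F9353) D12727
theorem F87157 : act 0 n55100 = n33668 := d17_2 (iv1 F42671) D55100 (iv5 F52942) (iv4 F42303) (iv5 D15521) (iv0 F50851) F50856 (iv0 F52273) F52272
theorem F87158 : act 1 n55100 = n33771 := d17_6 (iv1 F27839) (iv5 D7932) (iv1 F9535) (iv5 F21129) D26629 D55100 F53012 (iv0 D26449) (iv4 D12625)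
def n55101 : Q := act 6 n26629
theorem D55101 : act 6 n26629 = n55101 := rfl
theorem F87159 : act 2 n55101 = n26634 := d3_1 D55101 (iv6 D26634) (iv2 F42668)
theorem F87160 : act 4 n55101 = n26630 := d10_1 D55101 (iv6 D26630) D26629
def n55102 : Q := act 0 n26630
theorem D55102 : act 0 n26630 = n55102 := rfl
def n55103 : Q := act 1 n26630
theorem D55103 : act 1 n26630 = n55103 := rfl
theorem F87161 : act 1 n55103 = n26638 := d15_1 D55103 (iv7 D26638) (iv2 F42672)
def n55104 : Q := act 7 n26630
theorem D55104 : act 7 n26630 = n55104 := rfl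
theorem F87162 : act 2 n55104 = n26638 := d4_1 D55104 (iv7 D26638) (iv2 F42672)
theorem F87163 : act 3 n55104 = n33828 := d8_1 D55104 (iv7 D33828) (iv3 F42673)
theorem F87164 : act 5 n55104 = n39277 := d13_1 D55104 (iv7 D39277) (iv5 F42674)
theorem F87165 : act 6 n55104 = n33766 := d14_1 D55104 (iv7 D33766) (iv6 D16320) (iv7 F21130) D26630
theorem F87166 : act 1 n26638 = n55102 := d15_0 (iv0 D55102) D55104 F87162
theorem F87167 : act 1 n26636 = n55104 := d15_1 D26636 (iv7 D55104) F42672
theorem F87168 : act 1 n55104 = n26635 := d15_0 (iv0 D26635) D26638 (iv2 F87162)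
def n55105 : Q := act 3 n26631
theorem D55105 : act 3 n26631 = n55105 := rfl
theorem F87169 : act 4 n55105 = n27492 := d5_2 F46128 D55105 (iv3 F52659) (iv4 F52658) F52654
theorem F87170 : act 7 n55105 = n33767 := d8_2 F42681 D55105 (iv3 D33767)
def n55106 : Q := act 6 n26631
theorem D55106 : act 6 n26631 = n55106 := rfl
theorem F87171 : act 2 n55106 = n33770 := d3_1 D55106 (iv6 D33770) F42679
def n55107 : Q := act 6 n26632
theorem D55107 : act 6 n26632 = n55107 := rfl
theorem F87172 : act 2 n55107 = n33768 := d3_1 D55107 (iv6 D33768) (iv2 F42680)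
theorem F87173 : act 4 n55107 = n54321 := d10_1 D55107 (iv6 D54321) F42677
def n55108 : Q := act 6 n26633
theorem D55108 : act 6 n26633 = n55108 := rfl
theorem F87174 : act 3 n55108 = n26898 := d7_1 D55108 (iv6 D26898) (iv3 F42682)
def n55109 : Q := act 0 n26634
theorem D55109 : act 0 n26634 = n55109 := rfl
def n55110 : Q := act 1 n26634
theorem D55110 : act 1 n26634 = n55110 := rfl
theorem F87175 : act 4 n54415 = n55110 := d20_6 F30354 (iv1 F9777) (iv4 F11664) (iv3 F25108) (iv1 F41932) D54415 (iv1 D55110) F42685 F21136 D12730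
def n55111 : Q := act 5 n26634
theorem D55111 : act 5 n26634 = n55111 := rfl
def n55112 : Q := act 7 n26634
theorem D55112 : act 7 n26634 = n55112 := rfl
theorem F87177 : act 3 n55112 = n26902 := d8_1 D55112 (iv7 D26902) (iv3 F42684)
theorem F87178 : act 4 n55112 = n26638 := d11_1 D55112 (iv7 D26638) (iv4 F42685)
def n55113 : Q := act 2 n26635
theorem D55113 : act 2 n26635 = n55113 := rfl
theorem F87180 : act 7 n26636 = n55113 := d15_2 (iv0 D26635) D26636 (iv2 D55113)
def n55114 : Q := act 3 n26635
theorem D55114 : act 3 n26635 = n55114 := rfl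
def n55115 : Q := act 4 n26635
theorem D55115 : act 4 n26635 = n55115 := rfl
def n55116 : Q := act 5 n26635
theorem D55116 : act 5 n26635 = n55116 := rfl
def n55117 : Q := act 6 n26635
theorem D55117 : act 6 n26635 = n55117 := rfl
def n55118 : Q := act 7 n26635
theorem D55118 : act 7 n26635 = n55118 := rfl
theorem F87181 : act 2 n55118 = n26636 := d4_1 D55118 F87180 (iv2 D55113)
def n55119 : Q := act 3 n26636
theorem D55119 : act 3 n26636 = n55119 := rfl
def n55120 : Q := act 4 n26636
theorem D55120 : act 4 n26636 = n55120 := rfl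
def n55121 : Q := act 5 n26636
theorem D55121 : act 5 n26636 = n55121 := rfl
theorem F87182 : act 6 n54776 = n55121 := d21_5 (iv5 D26485) (iv1 D12647) D12650 D26493 D54776 (iv5 D55121) (iv1 D26636) D26637 F42688 F42379
def n55122 : Q := act 6 n26636
theorem D55122 : act 6 n26636 = n55122 := rfl
def n55123 : Q := act 0 n26637
theorem D55123 : act 0 n26637 = n55123 := rfl
def n55124 : Q := act 1 n26637
theorem D55124 : act 1 n26637 = n55124 := rfl
theorem F87183 : act 1 n55124 = n39277 := d15_1 D55124 (iv7 D39277) (iv2 F42686)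
def n55125 : Q := act 7 n26637
theorem D55125 : act 7 n26637 = n55125 := rfl
theorem F87184 : act 2 n55125 = n39277 := d4_1 D55125 (iv7 D39277) (iv2 F42686)
theorem F87185 : act 3 n55125 = n26647 := d8_1 D55125 (iv7 D26647) (iv3 F42687)
theorem F87186 : act 5 n55125 = n26638 := d13_1 D55125 (iv7 D26638) D26637
theorem F87187 : act 1 n39277 = n55123 := d15_0 (iv0 D55123) D55125 F87184
theorem F87188 : act 1 n39276 = n55125 := d15_1 D39276 (iv7 D55125) F42686
theorem F87189 : act 1 n55125 = n39275 := d15_0 (iv0 D39275) D39277 (iv2 F87184)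
def n55126 : Q := act 0 n26640
theorem D55126 : act 0 n26640 = n55126 := rfl
theorem F87190 : act 5 n55126 = n26811 := d17_3 D12730 D26640 D55126 F43091 (iv5 F43434) (iv0 D26935) (iv5 D12888) (iv0 D6110) (iv4 F9355)
theorem F87191 : act 1 n26642 = n55126 := d15_0 (iv0 D55126) F42693 (iv2 F42695)
theorem F87192 : act 2 n33855 = n55126 := d2_3 F87190 F51237 (iv5 F53201)
theorem F87193 : act 7 n33856 = n55126 := d13_0 F87190 (iv7 F85657) F85659
def n55127 : Q := act 1 n26640
theorem D55127 : act 1 n26640 = n55127 := rfl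
theorem F87194 : act 1 n55127 = n26642 := d15_1 D55127 F42696 (iv2 F42692)
theorem F87195 : act 7 n55127 = n33855 := d15_2 (iv0 D55126) D55127 F87192
theorem F87196 : act 5 n55127 = n32307 := d17_7 (iv1 F43193) F44622 (iv1 D27684) (iv5 D13216) (iv4 F30354) D26640 D55127 (iv0 F53217) F53213
theorem F87197 : act 2 n33856 = n55127 := d2_3 F87196 (iv2 F85655) F85659
theorem F87198 : act 6 n32311 = n55127 := d12_0 F87196 (iv6 D32307) (iv5 D15228) D15229 D32311
def n55128 : Q := act 4 n26640
theorem D55128 : act 4 n26640 = n55128 := rfl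
theorem F87199 : act 2 n55128 = n33857 := d1_1 D55128 (iv4 D33857) (iv2 F42692)
theorem F87200 : act 7 n55128 = n33865 := d11_2 (iv7 F42693) D55128 (iv4 D33865)
def n55129 : Q := act 6 n26640
theorem D55129 : act 6 n26640 = n55129 := rfl
theorem F87201 : act 2 n55129 = n33858 := d3_1 D55129 (iv6 D33858) (iv2 F42692)
theorem F87202 : act 5 n55129 = n33325 := d12_1 D55129 (iv6 D33325) F30352 (iv6 F30355) D26640
def n55130 : Q := act 0 n26641
theorem D55130 : act 0 n26641 = n55130 := rfl
def n55131 : Q := act 1 n26641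
theorem D55131 : act 1 n26641 = n55131 := rfl
theorem F87204 : act 1 n55131 = n33851 := d15_1 D55131 (iv7 F86906) F86905
def n55132 : Q := act 4 n26641
theorem D55132 : act 4 n26641 = n55132 := rfl
theorem F87205 : act 3 n55132 = n27689 := d5_1 D55132 (iv4 D27689) (iv3 D13218) (iv4 F30358) D26641
theorem F87206 : act 7 n55132 = n33852 := d11_2 (iv7 F42694) D55132 (iv4 D33852)
def n55133 : Q := act 5 n26641
theorem D55133 : act 5 n26641 = n55133 := rfl
theorem F87207 : act 3 n55133 = n26642 := d6_1 D55133 (iv5 D26642) D26641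
theorem F87208 : act 7 n55133 = n33853 := d13_2 (iv7 F42694) D55133 (iv5 D33853)
def n55134 : Q := act 6 n26641
theorem D55134 : act 6 n26641 = n55134 := rfl
theorem F87209 : act 3 n55134 = n26643 := d7_1 D55134 (iv6 D26643) D26641
theorem F87210 : act 7 n55134 = n33927 := d14_2 (iv7 F42694) D55134 (iv6 F58327) F58328 (iv6 D33854)
def n55135 : Q := act 4 n26642
theorem D55135 : act 4 n26642 = n55135 := rfl
theorem F87211 : act 2 n55135 = n33865 := d1_1 D55135 (iv4 D33865) (iv2 F42695)
theorem F87212 : act 7 n55135 = n33857 := d11_2 (iv7 F42696) D55135 (iv4 D33857)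
def n55136 : Q := act 6 n26642
theorem D55136 : act 6 n26642 = n55136 := rfl
theorem F87213 : act 2 n55136 = n33866 := d3_1 D55136 (iv6 D33866) (iv2 F42695)
theorem F87214 : act 0 n32726 = n55136 := d21_4 F21495 (iv1 F20644) (iv5 F25133) D32726 (iv6 D55136) (iv5 D26642) (iv1 D12731) D12732 F21139 D12940
def n55137 : Q := act 5 n26643
theorem D55137 : act 5 n26643 = n55137 := rfl
theorem F87215 : act 2 n55137 = n33867 := d2_1 D55137 (iv5 D33867) (iv2 F42697)
theorem F87216 : act 7 n55137 = n33928 := d13_2 (iv7 F42699) D55137 (iv5 D33928)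
theorem F87217 : act 0 n55137 = n26741 := d17_2 (iv1 F42737) D55137 (iv5 D26741) F42953 D17694 (iv0 F43752) (iv5 D26947) F30547 F41670
theorem F87218 : act 1 n55137 = n26737 := d17_6 D7857 D16855 F44695 (iv5 D27695) (iv4 F42698) D55137 (iv5 D26737) (iv0 D12792) F9412
def n55138 : Q := act 6 n26644
theorem D55138 : act 6 n26644 = n55138 := rfl
theorem F87219 : act 2 n55138 = n33871 := d3_1 D55138 (iv6 D33871) (iv2 F42711)
theorem F87220 : act 3 n55138 = n33843 := d7_1 D55138 (iv6 D33843) (iv3 F85911)
theorem F87221 : act 5 n55138 = n33985 := d12_1 D55138 (iv6 F60350) D39418 (iv6 F60351) F52378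
def n55139 : Q := act 3 n26645
theorem D55139 : act 3 n26645 = n55139 := rfl
theorem F87222 : act 2 n55139 = n33845 := d0_1 D55139 (iv3 D33845) (iv2 F85913) F53172 (iv2 F42703)
theorem F87223 : act 5 n55139 = n54607 := d6_2 F42702 D55139 F86299
theorem F87224 : act 7 n55139 = n33868 := d8_2 F42712 D55139 (iv3 D33868)
def n55140 : Q := act 6 n26645
theorem D55140 : act 6 n26645 = n55140 := rfl
theorem F87225 : act 2 n55140 = n33872 := d3_1 D55140 (iv6 D33872) (iv2 F42703)
theorem F87226 : act 5 n55140 = n54609 := d12_1 D55140 (iv6 D54609) (iv5 D26407) D26408 F42702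
def n55141 : Q := act 3 n26646
theorem D55141 : act 3 n26646 = n55141 := rfl
theorem F87227 : act 6 n55141 = n27017 := d7_2 (iv6 F42705) D55141 (iv3 D27017)
def n55142 : Q := act 5 n26646
theorem D55142 : act 5 n26646 = n55142 := rfl
theorem F87228 : act 2 n55142 = n33876 := d2_1 D55142 (iv5 D33876) (iv2 F42704)
theorem F87229 : act 4 n55142 = n35748 := d16_2 D26646 D55142 F56422 F28253 F12881 (iv4 F11835) (iv5 F25873) (iv7 D16376) (iv2 F21138)
theorem F87230 : act 7 n35746 = n55142 := d11_0 F87229 (iv7 D35748) D35746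
def n55143 : Q := act 7 n26646
theorem D55143 : act 7 n26646 = n55143 := rfl
theorem F87231 : act 2 n55143 = n33877 := d4_1 D55143 (iv7 D33877) (iv2 F42704)
theorem F87232 : act 4 n55143 = n26647 := d11_1 D55143 (iv7 D26647) D26646
theorem F87233 : act 5 n55143 = n35746 := d13_1 D55143 F87230 (iv5 D55142)
theorem F87234 : act 1 n33874 = n55143 := d15_1 D33874 (iv7 D55143) F42704
theorem F87235 : act 1 n55143 = n33873 := d15_1 F87234 (iv7 F53221) F53227
def n55144 : Q := act 6 n26647
theorem D55144 : act 6 n26647 = n55144 := rfl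
theorem F87236 : act 2 n55144 = n33878 := d3_1 D55144 (iv6 D33878) (iv2 F42706)
theorem F87237 : act 5 n55144 = n33822 := d12_1 D55144 (iv6 D33822) F25854 (iv6 F21142) (iv5 F42707)
theorem F87238 : act 7 n55144 = n27018 := d14_2 D26647 D55144 (iv6 D27018) (iv7 D12943) (iv6 F21139)
theorem F87239 : act 1 n35991 = n55144 := d15_1 D35991 F87238 F43654
theorem F87240 : act 1 n55144 = n35990 := d15_0 (iv0 D35990) (iv7 F53240) (iv2 F87236)
def n55146 : Q := act 3 n26653
theorem D55146 : act 3 n26653 = n55146 := rfl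
def n55147 : Q := act 4 n26653
theorem D55147 : act 4 n26653 = n55147 := rfl
def n55148 : Q := act 5 n26653
theorem D55148 : act 5 n26653 = n55148 := rfl
def n55149 : Q := act 6 n26653
theorem D55149 : act 6 n26653 = n55149 := rfl
def n55153 : Q := act 5 n26654
theorem D55153 : act 5 n26654 = n55153 := rfl
def n55155 : Q := act 4 n26655
theorem D55155 : act 4 n26655 = n55155 := rfl
theorem F87243 : act 2 n55155 = n26656 := d1_1 D55155 (iv4 D26656) D26655
theorem F87244 : act 7 n55155 = n33940 := d11_2 (iv7 F53129) D55155 (iv4 D33940)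
theorem F87245 : act 1 n33944 = n55155 := d15_1 D33944 F87244 F53286
theorem F87246 : act 1 n55155 = n33943 := d15_0 (iv0 D33943) (iv7 F53130) (iv2 F87243)
def n55156 : Q := act 5 n26655
theorem D55156 : act 5 n26655 = n55156 := rfl
theorem F87247 : act 2 n55156 = n26657 := d2_1 D55156 (iv5 D26657) D26655
theorem F87248 : act 3 n55156 = n33890 := d6_1 D55156 (iv5 D33890) F53136
theorem F87249 : act 7 n55156 = n33941 := d13_2 (iv7 F53129) D55156 (iv5 D33941)
theorem F87250 : act 1 n33949 = n55156 := d15_1 D33949 F87249 F53287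
theorem F87251 : act 1 n55156 = n33948 := d15_0 (iv0 D33948) (iv7 F53125) (iv2 F87247)
def n55157 : Q := act 6 n26655
theorem D55157 : act 6 n26655 = n55157 := rfl
theorem F87252 : act 2 n55157 = n26658 := d3_1 D55157 (iv6 D26658) D26655
theorem F87253 : act 3 n55157 = n33891 := d7_1 D55157 (iv6 D33891) F53136
def n55158 : Q := act 0 n26656
theorem D55158 : act 0 n26656 = n55158 := rfl
theorem F87254 : act 1 n33940 = n55158 := d15_0 (iv0 D55158) F53130 (iv2 F53286)
def n55159 : Q := act 1 n26656
theorem D55159 : act 1 n26656 = n55159 := rfl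
theorem F87255 : act 1 n55159 = n33940 := d15_1 D55159 (iv7 F87244) F87243
def n55160 : Q := act 5 n26656
theorem D55160 : act 5 n26656 = n55160 := rfl
theorem F87256 : act 7 n55160 = n33946 := d13_2 (iv7 F53130) D55160 (iv5 D33946)
def n55161 : Q := act 6 n26656
theorem D55161 : act 6 n26656 = n55161 := rfl
theorem F87257 : act 4 n55161 = n26658 := d10_1 D55161 (iv6 D26658) D26656
def n55162 : Q := act 0 n26657
theorem D55162 : act 0 n26657 = n55162 := rfl
theorem F87258 : act 1 n33941 = n55162 := d15_0 (iv0 D55162) F53125 (iv2 F53287)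
def n55163 : Q := act 1 n26657
theorem D55163 : act 1 n26657 = n55163 := rfl
theorem F87259 : act 1 n55163 = n33941 := d15_1 D55163 (iv7 F87249) F87247
def n55164 : Q := act 4 n26657
theorem D55164 : act 4 n26657 = n55164 := rfl
theorem F87260 : act 7 n55164 = n33950 := d11_2 (iv7 F53125) D55164 (iv4 D33950)
def n55165 : Q := act 6 n26657
theorem D55165 : act 6 n26657 = n55165 := rfl
def n55166 : Q := act 0 n26658
theorem D55166 : act 0 n26658 = n55166 := rfl
def n55167 : Q := act 1 n26658
theorem D55167 : act 1 n26658 = n55167 := rfl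
def n55168 : Q := act 7 n26658
theorem D55168 : act 7 n26658 = n55168 := rfl
theorem F87262 : act 3 n55168 = n26667 := d8_1 D55168 (iv7 D26667) (iv3 F42721)
theorem F87263 : act 6 n55168 = n33955 := d14_1 D55168 (iv7 D33955) (iv6 D16411) F53053 D26658
def n55169 : Q := act 3 n26660
theorem D55169 : act 3 n26660 = n55169 := rfl
theorem F87264 : act 5 n55169 = n54738 := d6_2 (iv5 F42723) D55169 F86563
theorem F87265 : act 7 n55169 = n33916 := d8_2 F42725 D55169 (iv3 D33916)
def n55170 : Q := act 4 n26660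
theorem D55170 : act 4 n26660 = n55170 := rfl
theorem F87266 : act 2 n55170 = n33914 := d1_1 D55170 (iv4 D33914) F42724
theorem F87267 : act 7 n55170 = n33917 := d11_2 F42725 D55170 (iv4 D33917)
theorem F87268 : act 0 n55170 = n28691 := d17_0 F85626 (iv1 D54275) (iv5 D26240) F20711 F9170 D6024 D12742 F42729 D55170
theorem F87269 : act 1 n55170 = n28680 := d18_6 (iv1 F52089) F27578 (iv1 F29709) (iv4 F42329) (iv5 F42723) D55170 (iv4 D28680) D28679 (iv5 F52087)
def n55171 : Q := act 6 n26660
theorem D55171 : act 6 n26660 = n55171 := rfl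
theorem F87270 : act 2 n55171 = n33915 := d3_1 D55171 (iv6 D33915) F42724
theorem F87271 : act 5 n55171 = n54230 := d12_1 D55171 F85560 (iv5 D26469) D26470 (iv5 F42723)
theorem F87272 : act 7 n55171 = n32050 := d14_2 F42725 D55171 (iv6 D32050) (iv7 F53266) F53265
theorem F87273 : act 0 n32258 = n34356 := d21_1 D32258 F54516 (iv6 D26663) D26660 D55171 F87271 (iv1 F85567) F51177 (iv6 F41640) (iv1 F41642)
theorem E8306 : n32309 = n32259 := (c21_5 F42723 F43221 (iv5 D15228) D15229 D32309 (iv6 D32259) D32258 F87273 F54516 (iv6 D26663) D26660)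
theorem F87274 : act 0 n32259 = n54290 := (sb E8306 (iv1 F85670))
theorem F87275 : act 1 n32259 = n15229 := (sb E8306 (iv0 D32309))
def n55172 : Q := act 3 n26661
theorem D55172 : act 3 n26661 = n55172 := rfl
theorem F87276 : act 6 n55172 = n32052 := d7_2 (iv6 F51223) D55172 (iv3 D32052)
theorem F87277 : act 7 n55172 = n33913 := d8_2 (iv7 F42727) D55172 (iv3 D33913)
def n55173 : Q := act 4 n26661
theorem D55173 : act 4 n26661 = n55173 := rfl
theorem F87278 : act 2 n55173 = n33917 := d1_1 D55173 (iv4 D33917) F42728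
theorem F87279 : act 6 n55173 = n32053 := d10_2 (iv6 F51223) D55173 (iv4 D32053)
theorem F87280 : act 7 n55173 = n33914 := d11_2 (iv7 F42727) D55173 (iv4 D33914)
theorem F87281 : act 0 n55173 = n28680 := d17_0 (iv5 F85618) F85622 F51198 F24826 F11535 F9360 D12737 D26661 D55173
theorem F87282 : act 1 n55173 = n28691 := d18_6 D36783 F57684 (iv1 F43219) (iv4 F51220) (iv5 F51222) D55173 (iv4 D28691) F46225 F46224
def n55174 : Q := act 0 n26662
theorem D55174 : act 0 n26662 = n55174 := rfl
theorem F87283 : act 4 n55174 = n32900 := d18_3 (iv1 D26661) D26662 D55174 (iv5 D32900) (iv4 F41757) (iv0 F28593) (iv4 F28963) F51225 (iv5 F51222)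
theorem F87284 : act 1 n26675 = n55174 := d15_0 (iv0 D55174) F53126 F53105
theorem F87285 : act 2 n33919 = n55174 := d1_3 F87283 F52082 (iv4 F53271)
theorem F87286 : act 7 n33920 = n55174 := d11_0 F87283 (iv7 F52085) (iv4 F53274)
def n55175 : Q := act 1 n26662
theorem D55175 : act 1 n26662 = n55175 := rfl
theorem F87287 : act 1 n55175 = n26675 := d15_1 D55175 (iv7 F53104) F53127
theorem F87288 : act 7 n55175 = n33919 := d15_2 (iv0 D55174) D55175 F87285
theorem F87289 : act 4 n55175 = n49027 := d18_7 (iv1 D11199) F7644 D8916 (iv4 F41667) D12737 D26662 D55175 F77372 (iv5 D23920)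
theorem F87290 : act 2 n33920 = n55175 := d1_3 F87289 (iv2 F77375) (iv4 F53274)
theorem F87291 : act 6 n54025 = n55175 := d10_0 F87289 F77376 D54025
def n55176 : Q := act 3 n26662
theorem D55176 : act 3 n26662 = n55176 := rfl
theorem F87292 : act 7 n55176 = n33962 := d8_2 (iv7 F53126) D55176 (iv3 D33962)
def n55177 : Q := act 5 n26662
theorem D55177 : act 5 n26662 = n55177 := rfl
theorem F87295 : act 4 n55177 = n39863 := d16_2 D26662 D55177 F61340 (iv4 D40295) (iv5 D19044) (iv4 F41672) D12742 F53060 F53050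
theorem F87296 : act 1 n55177 = n48930 := d17_6 (iv1 D12443) F9170 D6023 D12737 D26662 D55177 (iv5 D48930) F41675 (iv4 D26249)
def n55178 : Q := act 6 n26662
theorem D55178 : act 6 n26662 = n55178 := rfl
theorem F87298 : act 4 n55178 = n26663 := d10_1 D55178 (iv6 D26663) D26662
def n55179 : Q := act 1 n26663
theorem D55179 : act 1 n26663 = n55179 := rfl
theorem F87299 : act 1 n55179 = n33926 := d15_1 D55179 (iv7 D33926) (iv2 F53137)
theorem F87300 : act 5 n34294 = n55179 := d21_0 (iv1 D55179) (iv5 F54516) (iv6 D34356) (iv1 D16632) (iv6 D7732) (iv5 D3509) D3506 D7720 D16602 D34294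
def n55180 : Q := act 7 n26663
theorem D55180 : act 7 n26663 = n55180 := rfl
theorem F87301 : act 2 n55180 = n33926 := d4_1 D55180 (iv7 D33926) (iv2 F53137)
theorem F87302 : act 6 n55180 = n31985 := d14_1 D55180 F53107 (iv6 D16416) F53055 D26663
theorem F87304 : act 1 n33924 = n55180 := d15_1 D33924 (iv7 D55180) F53137
theorem F87305 : act 1 n55180 = n31991 := d15_0 (iv0 F51188) D33926 (iv2 F87301)
def n55181 : Q := act 3 n26666
theorem D55181 : act 3 n26666 = n55181 := rfl
theorem F87306 : act 6 n55181 = n39459 := d7_2 F42734 D55181 (iv3 D39459)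
theorem F87307 : act 7 n55181 = n33864 := d8_2 (iv7 F42736) D55181 F53208
def n55182 : Q := act 5 n26666
theorem D55182 : act 5 n26666 = n55182 := rfl
theorem F87308 : act 2 n55182 = n33928 := d2_1 D55182 (iv5 D33928) (iv2 F42735)
theorem F87309 : act 6 n55182 = n34305 := d12_2 F42734 D55182 (iv5 F86570) (iv6 D54741) F42330
theorem F87310 : act 7 n55182 = n33867 := d13_2 (iv7 F42736) D55182 (iv5 D33867)
theorem F87311 : act 0 n55182 = n26737 := d17_2 F53044 D55182 (iv5 D26737) F28962 D17690 (iv0 F43799) F43796 F43459 F53042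
theorem F87312 : act 1 n55182 = n26741 := d17_6 (iv1 F12760) D16859 (iv1 F44789) F44787 (iv4 F42733) D55182 (iv5 D26741) F21229 (iv4 F12758)
theorem F87313 : act 0 n34356 = n32253 := d21_10 (iv5 D32253) (iv1 F41643) (iv5 F54417) (iv6 F78761) (iv1 F78763) (iv6 F87309) (iv5 D55182) (iv1 D26666) F27132 D34356
def n55183 : Q := act 2 n26669
theorem D55183 : act 2 n26669 = n55183 := rfl
theorem F87314 : act 7 n26670 = n55183 := d15_2 (iv0 D26669) D26670 (iv2 D55183)
def n55184 : Q := act 3 n26669
theorem D55184 : act 3 n26669 = n55184 := rfl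
def n55185 : Q := act 4 n26669
theorem D55185 : act 4 n26669 = n55185 := rfl
def n55186 : Q := act 5 n26669
theorem D55186 : act 5 n26669 = n55186 := rfl
def n55188 : Q := act 7 n26669
theorem D55188 : act 7 n26669 = n55188 := rfl
theorem F87315 : act 2 n55188 = n26670 := d4_1 D55188 F87314 (iv2 D55183)
def n55189 : Q := act 3 n26670
theorem D55189 : act 3 n26670 = n55189 := rfl
def n55190 : Q := act 4 n26670
theorem D55190 : act 4 n26670 = n55190 := rfl
def n55191 : Q := act 5 n26670
theorem D55191 : act 5 n26670 = n55191 := rfl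
def n55192 : Q := act 6 n26670
theorem D55192 : act 6 n26670 = n55192 := rfl
def n55193 : Q := act 4 n26671
theorem D55193 : act 4 n26671 = n55193 := rfl
theorem F87316 : act 2 n55193 = n26672 := d1_1 D55193 (iv4 D26672) D26671
theorem F87317 : act 7 n55193 = n33889 := d11_2 F53119 D55193 (iv4 D33889)
theorem F87318 : act 1 n33893 = n55193 := d15_1 D33893 F87317 F53243
theorem F87319 : act 1 n55193 = n33892 := d15_0 (iv0 D33892) F53120 (iv2 F87316)
def n55194 : Q := act 5 n26671
theorem D55194 : act 5 n26671 = n55194 := rfl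
theorem F87320 : act 2 n55194 = n26673 := d2_1 D55194 (iv5 D26673) D26671
theorem F87321 : act 3 n55194 = n33941 := d6_1 D55194 (iv5 D33941) F53135
theorem F87322 : act 7 n55194 = n33890 := d13_2 F53119 D55194 (iv5 D33890)
theorem F87323 : act 1 n33898 = n55194 := d15_1 D33898 F87322 F53244
theorem F87324 : act 1 n55194 = n33897 := d15_0 (iv0 D33897) F53103 (iv2 F87320)
def n55195 : Q := act 6 n26671
theorem D55195 : act 6 n26671 = n55195 := rfl
theorem F87325 : act 2 n55195 = n26674 := d3_1 D55195 (iv6 D26674) D26671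
theorem F87326 : act 3 n55195 = n33942 := d7_1 D55195 (iv6 D33942) F53135
def n55196 : Q := act 0 n26672
theorem D55196 : act 0 n26672 = n55196 := rfl
theorem F87327 : act 1 n33889 = n55196 := d15_0 (iv0 D55196) (iv7 F53120) (iv2 F53243)
def n55197 : Q := act 1 n26672
theorem D55197 : act 1 n26672 = n55197 := rfl
theorem F87328 : act 1 n55197 = n33889 := d15_1 D55197 (iv7 F87317) F87316
def n55198 : Q := act 5 n26672
theorem D55198 : act 5 n26672 = n55198 := rfl
theorem F87329 : act 7 n55198 = n33895 := d13_2 F53120 D55198 (iv5 D33895)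
def n55199 : Q := act 6 n26672
theorem D55199 : act 6 n26672 = n55199 := rfl
theorem F87330 : act 4 n55199 = n26674 := d10_1 D55199 (iv6 D26674) D26672
def n55200 : Q := act 0 n26673
theorem D55200 : act 0 n26673 = n55200 := rfl
theorem F87331 : act 1 n33890 = n55200 := d15_0 (iv0 D55200) (iv7 F53103) (iv2 F53244)
def n55201 : Q := act 1 n26673
theorem D55201 : act 1 n26673 = n55201 := rfl
theorem F87332 : act 1 n55201 = n33890 := d15_1 D55201 (iv7 F87322) F87320
def n55202 : Q := act 4 n26673
theorem D55202 : act 4 n26673 = n55202 := rfl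
theorem F87333 : act 7 n55202 = n33899 := d11_2 F53103 D55202 (iv4 D33899)
def n55203 : Q := act 6 n26673
theorem D55203 : act 6 n26673 = n55203 := rfl
theorem F87334 : act 3 n55203 = n26676 := d7_1 D55203 (iv6 D26676) (iv3 F42739)
def n55204 : Q := act 0 n26674
theorem D55204 : act 0 n26674 = n55204 := rfl
def n55205 : Q := act 1 n26674
theorem D55205 : act 1 n26674 = n55205 := rfl
def n55206 : Q := act 5 n26674
theorem D55206 : act 5 n26674 = n55206 := rfl
theorem F87335 : act 3 n55206 = n26678 := d6_1 D55206 (iv5 D26678) (iv3 F42740)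
def n55207 : Q := act 7 n26674
theorem D55207 : act 7 n26674 = n55207 := rfl
theorem F87336 : act 3 n55207 = n26679 := d8_1 D55207 (iv7 D26679) (iv3 F42740)
theorem F87337 : act 6 n55207 = n33904 := d14_1 D55207 (iv7 D33904) (iv6 D16388) (iv7 F53056) D26674
def n55208 : Q := act 3 n26675
theorem D55208 : act 3 n26675 = n55208 := rfl
theorem F87338 : act 7 n55208 = n33921 := d8_2 F53104 D55208 (iv3 D33921)
def n55209 : Q := act 5 n26675
theorem D55209 : act 5 n26675 = n55209 := rfl
theorem F87339 : act 2 n55209 = n33963 := d2_1 D55209 (iv5 D33963) F53105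
theorem F87340 : act 4 n55209 = n39862 := d9_1 D55209 (iv5 F61312) (iv4 D40287) (iv5 D19039) (iv4 F41667) D12737 D26662 D55177 F87295 F61340 (iv4 D40295) (iv5 D19044) (iv4 F41672) D12742 D26675
theorem F87341 : act 7 n55209 = n33922 := d13_2 F53104 D55209 (iv5 D33922)
theorem F87342 : act 0 n55209 = n48930 := d17_2 (iv1 F87284) D55209 (iv5 D48930) F37192 F18146 D11199 D23920 (iv0 F52083) (iv4 F87283)
def n55210 : Q := act 6 n26675
theorem D55210 : act 6 n26675 = n55210 := rfl
theorem F87343 : act 2 n55210 = n33964 := d3_1 D55210 (iv6 D33964) F53105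
theorem F87344 : act 4 n55210 = n26676 := d10_1 D55210 (iv6 D26676) D26675
theorem F87345 : act 0 n31001 = n55210 := d21_4 (iv5 D12296) (iv1 F11313) (iv5 F24350) D31001 (iv6 D55210) D55209 F87342 (iv5 D48930) (iv6 D23857) (iv1 F20399)
def n55211 : Q := act 5 n26676
theorem D55211 : act 5 n26676 = n55211 := rfl
theorem F87346 : act 2 n55211 = n33965 := d2_1 D55211 (iv5 D33965) F53106
theorem F87347 : act 6 n55211 = n26678 := d12_2 D26676 D55211 (iv5 D26678) (iv6 D12743) D12742
def n55212 : Q := act 3 n26677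
theorem D55212 : act 3 n26677 = n55212 := rfl
theorem F87348 : act 5 n55212 = n33164 := d6_2 (iv5 F42742) D55212 (iv3 D33164)
theorem F87349 : act 6 n55212 = n39427 := d7_2 (iv6 F42746) D55212 (iv3 D39427)
theorem F87350 : act 7 n55212 = n33797 := d8_2 F42744 D55212 F53029
def n55213 : Q := act 4 n26678
theorem D55213 : act 4 n26678 = n55213 := rfl
theorem F87351 : act 2 n55213 = n33967 := d1_1 D55213 (iv4 D33967) (iv2 F53069)
theorem F87352 : act 0 n55213 = n32829 := d18_2 F42749 D55213 (iv4 D32829) (iv5 D15718) (iv4 F30457) F9654 (iv4 F11732) F20987 D26407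
theorem F87353 : act 1 n55213 = n32818 := d18_6 (iv1 F46248) (iv4 F41796) (iv1 F43766) F41673 D26678 D55213 (iv4 D32818) D32817 F51963
def n55214 : Q := act 4 n26680
theorem D55214 : act 4 n26680 = n55214 := rfl
theorem F87354 : act 2 n55214 = n32878 := d1_1 D55214 F52054 F42753
theorem F87355 : act 5 n55214 = n32878 := d9_2 (iv5 F42752) D55214 F52054 F25909 F24543 F11348 (iv4 F11601) D15459 D32655 (iv5 F52058) F52059 F25904 F20814 (iv5 F11843) D16458
theorem F87356 : act 7 n55214 = n32879 := d11_2 (iv7 F42751) D55214 F52059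
theorem F87357 : act 0 n55214 = n26697 := d17_0 F42798 (iv1 D26694) (iv5 F24833) (iv4 D15239) (iv5 D7219) F9363 D12745 D26680 D55214
theorem F87358 : act 1 n55214 = n26699 := d18_6 (iv1 F12455) (iv4 D7632) D7631 D16458 (iv5 F42752) D55214 (iv4 D26699) (iv0 F24976) (iv5 D15428)
def n55215 : Q := act 3 n26681
theorem D55215 : act 3 n26681 = n55215 := rfl
theorem F87359 : act 7 n55215 = n33982 := d8_2 (iv7 F42755) D55215 (iv3 D33982)
def n55216 : Q := act 6 n26681
theorem D55216 : act 6 n26681 = n55216 := rfl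
theorem F87360 : act 2 n55216 = n33978 := d3_1 D55216 (iv6 D33978) (iv2 F42754)
theorem F87361 : act 4 n55216 = n26682 := d10_1 D55216 (iv6 D26682) D26681
def n55217 : Q := act 0 n26682
theorem D55217 : act 0 n26682 = n55217 := rfl
def n55218 : Q := act 1 n26682
theorem D55218 : act 1 n26682 = n55218 := rfl
theorem F87362 : act 1 n55218 = n33981 := d15_1 D55218 (iv7 D33981) (iv2 F42756)
def n55219 : Q := act 7 n26682
theorem D55219 : act 7 n26682 = n55219 := rfl
theorem F87363 : act 2 n55219 = n33981 := d4_1 D55219 (iv7 D33981) (iv2 F42756)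
theorem F87364 : act 5 n55219 = n34342 := d13_1 D55219 (iv7 D34342) (iv5 F42757)
theorem F87365 : act 6 n55219 = n33986 := d14_1 D55219 (iv7 D33986) (iv6 D16437) (iv7 F21151) D26682
theorem F87366 : act 1 n33981 = n55217 := d15_0 (iv0 D55217) D55219 F87363
theorem F87367 : act 1 n33980 = n55219 := d15_1 D33980 (iv7 D55219) F42756
theorem F87368 : act 1 n55219 = n33979 := d15_0 (iv0 D33979) D33981 (iv2 F87363)
def n55220 : Q := act 5 n26683
theorem D55220 : act 5 n26683 = n55220 := rfl
theorem F87369 : act 2 n55220 = n48746 := d2_1 D55220 (iv5 D48746) (iv2 F42758)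
theorem F87370 : act 3 n55220 = n34814 := d6_1 D55220 (iv5 D34814) (iv3 F42759)
theorem F87371 : act 7 n55220 = n33969 := d13_2 (iv7 F42761) D55220 (iv5 D33969)
theorem F87372 : act 0 n52860 = n55220 := d21_7 D23776 (iv1 F40648) F40644 F31851 (iv1 F31852) D34921 (iv5 F83505) (iv5 D55220) F42760 (iv1 F27603)
def n55221 : Q := act 0 n26684
theorem D55221 : act 0 n26684 = n55221 := rfl
theorem F87373 : act 3 n55221 = n33515 := d20_5 D32876 F52050 (iv4 D26685) (iv3 F42764) D55221 (iv4 F86015) (iv1 F86014) (iv4 D34011) F25927 (iv1 F26518)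
theorem F87374 : act 2 n33971 = n55221 := d15_3 (iv0 D55221) (iv0 F55653) (iv7 F55655)
theorem F87375 : act 1 n33013 = n55221 := d15_0 (iv0 D55221) F42765 (iv2 F52192)
theorem F87376 : act 7 n55221 = n33970 := d15_2 (iv0 F55654) F87375 (iv2 F55651)
def n55222 : Q := act 4 n26684
theorem D55222 : act 4 n26684 = n55222 := rfl
theorem F87377 : act 7 n55222 = n33972 := d11_2 (iv7 F42765) D55222 (iv4 D33972)
theorem F87378 : act 1 n55222 = n54513 := d18_6 F50892 (iv4 F40523) F42762 (iv4 D26683) D26684 D55222 (iv4 D54513) F77277 F77276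
def n55223 : Q := act 6 n26684
theorem D55223 : act 6 n26684 = n55223 := rfl
theorem F87379 : act 3 n55223 = n26686 := d7_1 D55223 (iv6 D26686) (iv3 F42764)
def n55224 : Q := act 3 n26685
theorem D55224 : act 3 n26685 = n55224 := rfl
theorem F87380 : act 7 n55224 = n33977 := d8_2 (iv7 F42767) D55224 (iv3 D33977)
def n55225 : Q := act 6 n26685
theorem D55225 : act 6 n26685 = n55225 := rfl
theorem F87381 : act 2 n55225 = n33983 := d3_1 D55225 (iv6 D33983) (iv2 F42766)
theorem F87382 : act 4 n55225 = n26686 := d10_1 D55225 (iv6 D26686) D26685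
def n55226 : Q := act 0 n26686
theorem D55226 : act 0 n26686 = n55226 := rfl
def n55227 : Q := act 1 n26686
theorem D55227 : act 1 n26686 = n55227 := rfl
theorem F87383 : act 1 n55227 = n33986 := d15_1 D55227 (iv7 D33986) (iv2 F42768)
theorem F87384 : act 6 n27798 = n55227 := d21_3 D18704 (iv1 F52387) F52385 (iv1 D55227) (iv6 D26686) (iv5 D12747) (iv1 D6027) D6028 F9366 D8771
theorem F87385 : act 5 n33871 = n55227 := d21_6 (iv5 D7363) F10655 D3679 (iv6 F11834) D16373 D33871 (iv1 D55227) (iv5 F51800) (iv6 D32724) (iv1 F25131)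
theorem F87386 : act 2 n55227 = n33985 := d2_1 F87385 (iv5 F87221) F87219
theorem F87387 : act 5 n39481 = n49819 := d21_0 (iv1 F78745) (iv5 F87364) F87365 (iv1 F87383) (iv6 F87384) (iv5 F52385) (iv1 F52386) F27296 D18709 D39481
def n55228 : Q := act 7 n26686
theorem D55228 : act 7 n26686 = n55228 := rfl
theorem F87388 : act 2 n55228 = n33986 := d4_1 D55228 (iv7 D33986) (iv2 F42768)
theorem F87389 : act 6 n55228 = n33981 := d14_1 D55228 (iv7 D33981) (iv6 D16429) (iv7 F21154) D26686
theorem F87390 : act 1 n33986 = n55226 := d15_0 (iv0 D55226) D55228 F87388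
theorem F87391 : act 1 n33985 = n55228 := d15_1 D33985 (iv7 D55228) F42768
theorem F87392 : act 7 n55226 = n33985 := d15_2 F87383 F87390 (iv2 F87386)
theorem F87393 : act 2 n55226 = n33984 := d15_3 (iv0 D33984) D33985 (iv7 F87392)
theorem F87394 : act 7 n33984 = n55227 := d4_2 (iv7 F87392) F87393 F87386
theorem F87395 : act 1 n55228 = n33984 := d15_1 F87391 F87394 F87386
def n55229 : Q := act 4 n26687
theorem D55229 : act 4 n26687 = n55229 := rfl
theorem F87396 : act 7 n55229 = n33995 := d11_2 (iv7 F42769) D55229 (iv4 D33995)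
def n55230 : Q := act 6 n26687
theorem D55230 : act 6 n26687 = n55230 := rfl
theorem F87397 : act 3 n55230 = n26689 := d7_1 D55230 (iv6 D26689) D26687
def n55231 : Q := act 3 n26688
theorem D55231 : act 3 n26688 = n55231 := rfl
theorem F87398 : act 5 n55231 = n55224 := d6_2 (iv5 F42772) D55231 (iv3 D55224)
theorem F87399 : act 7 n55231 = n33997 := d8_2 (iv7 F42771) D55231 (iv3 D33997)
def n55232 : Q := act 6 n26688
theorem D55232 : act 6 n26688 = n55232 := rfl
theorem F87400 : act 2 n55232 = n33991 := d3_1 D55232 (iv6 D33991) (iv2 F42770)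
theorem F87401 : act 4 n55232 = n26689 := d10_1 D55232 (iv6 D26689) D26688
def n55233 : Q := act 0 n26689
theorem D55233 : act 0 n26689 = n55233 := rfl
def n55234 : Q := act 1 n26689
theorem D55234 : act 1 n26689 = n55234 := rfl
theorem F87402 : act 1 n55234 = n33994 := d15_1 D55234 (iv7 D33994) (iv2 F42776)
def n55235 : Q := act 7 n26689
theorem D55235 : act 7 n26689 = n55235 := rfl
theorem F87403 : act 2 n55235 = n33994 := d4_1 D55235 (iv7 D33994) (iv2 F42776)
theorem F87404 : act 6 n55235 = n34001 := d14_1 D55235 (iv7 D34001) (iv6 D16444) (iv7 F23109) D26689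
theorem F87405 : act 1 n33994 = n55233 := d15_0 (iv0 D55233) D55235 F87403
theorem F87406 : act 1 n33993 = n55235 := d15_1 D33993 (iv7 D55235) F42776
theorem F87407 : act 1 n55235 = n33992 := d15_0 (iv0 D33992) D33994 (iv2 F87403)
def n55236 : Q := act 4 n26690
theorem D55236 : act 4 n26690 = n55236 := rfl
theorem F87408 : act 7 n55236 = n33988 := d11_2 (iv7 F42777) D55236 (iv4 D33988)
theorem F87409 : act 0 n54499 = n55236 := d20_7 D12751 D26693 F42783 (iv3 F27081) F27083 (iv3 F42049) D54499 (iv4 D55236) (iv3 D26690) (iv1 D12750)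
def n55237 : Q := act 6 n26690
theorem D55237 : act 6 n26690 = n55237 := rfl
theorem F87410 : act 3 n55237 = n26692 := d7_1 D55237 (iv6 D26692) D26690
def n55238 : Q := act 3 n26691
theorem D55238 : act 3 n26691 = n55238 := rfl
theorem F87411 : act 5 n55238 = n55215 := d6_2 (iv5 F42779) D55238 (iv3 D55215)
theorem F87412 : act 7 n55238 = n33990 := d8_2 (iv7 F42780) D55238 (iv3 D33990)
def n55239 : Q := act 6 n26691
theorem D55239 : act 6 n26691 = n55239 := rfl
theorem F87413 : act 2 n55239 = n33998 := d3_1 D55239 (iv6 D33998) (iv2 F42778)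
theorem F87414 : act 4 n55239 = n26692 := d10_1 D55239 (iv6 D26692) D26691
def n55240 : Q := act 0 n26692
theorem D55240 : act 0 n26692 = n55240 := rfl
def n55241 : Q := act 1 n26692
theorem D55241 : act 1 n26692 = n55241 := rfl
theorem F87415 : act 1 n55241 = n34001 := d15_1 D55241 (iv7 D34001) (iv2 F42782)
def n55242 : Q := act 7 n26692
theorem D55242 : act 7 n26692 = n55242 := rfl
theorem F87416 : act 2 n55242 = n34001 := d4_1 D55242 (iv7 D34001) (iv2 F42782)
theorem F87417 : act 6 n55242 = n33994 := d14_1 D55242 (iv7 D33994) (iv6 D16441) F23111 D26692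
theorem F87418 : act 1 n34001 = n55240 := d15_0 (iv0 D55240) D55242 F87416
theorem F87419 : act 1 n34000 = n55242 := d15_1 D34000 (iv7 D55242) F42782
theorem F87420 : act 1 n55242 = n33999 := d15_0 (iv0 D33999) D34001 (iv2 F87416)
def n55243 : Q := act 3 n26693
theorem D55243 : act 3 n26693 = n55243 := rfl
theorem F87421 : act 7 n55243 = n34004 := d8_2 F42786 D55243 (iv3 D34004)
def n55244 : Q := act 6 n26693
theorem D55244 : act 6 n26693 = n55244 := rfl
theorem F87422 : act 2 n55244 = n34003 := d3_1 D55244 (iv6 D34003) F42785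
theorem F87423 : act 4 n55244 = n28700 := d10_1 D55244 (iv6 D28700) (iv4 F42783)
def n55245 : Q := act 3 n26694
theorem D55245 : act 3 n26694 = n55245 := rfl
theorem F87424 : act 7 n55245 = n34002 := d8_2 (iv7 F42788) D55245 (iv3 D34002)
def n55246 : Q := act 6 n26694
theorem D55246 : act 6 n26694 = n55246 := rfl
theorem F87425 : act 2 n55246 = n34005 := d3_1 D55246 (iv6 D34005) F42790
theorem F87426 : act 4 n55246 = n28702 := d10_1 D55246 (iv6 D28702) (iv4 F42789)
def n55247 : Q := act 0 n26695
theorem D55247 : act 0 n26695 = n55247 := rfl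
def n55248 : Q := act 1 n26695
theorem D55248 : act 1 n26695 = n55248 := rfl
def n55249 : Q := act 2 n26695
theorem D55249 : act 2 n26695 = n55249 := rfl
theorem F87427 : act 3 n55249 = n34008 := d0_2 D26695 D55249 (iv2 D34008) (iv3 D16447) (iv2 F21162)
theorem F87428 : act 6 n55249 = n39490 := d3_2 (iv6 F42791) D55249 (iv2 D39490)
def n55250 : Q := act 3 n26696
theorem D55250 : act 3 n26696 = n55250 := rfl
theorem F87429 : act 5 n55250 = n34019 := d6_2 (iv5 F42794) D55250 (iv3 D34019)
theorem F87430 : act 7 n55250 = n32875 := d8_2 (iv7 F42793) D55250 (iv3 D32875)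
theorem F87431 : act 0 n28578 = n55250 := d17_2 F50826 D28578 F87429 F53343 (iv5 F54096) F52984 (iv5 D16304) F24740 (iv4 F45934)
theorem F87432 : act 1 n28662 = n55250 := d17_6 F79145 (iv5 F42055) F86049 (iv5 D54487) (iv4 F42093) D28662 F87429 (iv0 F79149) F79143
def n55251 : Q := act 3 n26697
theorem D55251 : act 3 n26697 = n55251 := rfl
theorem F87433 : act 4 n55251 = n32965 := d5_2 D26697 D55251 F52131 F25344 (iv3 F26522)
theorem F87434 : act 5 n55251 = n55245 := d6_2 (iv5 F42798) D55251 (iv3 D55245)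
def n55252 : Q := act 6 n26697
theorem D55252 : act 6 n26697 = n55252 := rfl
theorem F87436 : act 2 n55252 = n34014 := d3_1 D55252 (iv6 D34014) (iv2 F42796)
theorem F87437 : act 4 n55252 = n26698 := d10_1 D55252 (iv6 D26698) D26697
def n55253 : Q := act 0 n26698
theorem D55253 : act 0 n26698 = n55253 := rfl
def n55254 : Q := act 1 n26698
theorem D55254 : act 1 n26698 = n55254 := rfl
theorem F87438 : act 1 n55254 = n34017 := d15_1 D55254 (iv7 D34017) (iv2 F42799)
def n55255 : Q := act 7 n26698
theorem D55255 : act 7 n26698 = n55255 := rfl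
theorem F87439 : act 2 n55255 = n34017 := d4_1 D55255 (iv7 D34017) (iv2 F42799)
theorem F87440 : act 3 n55255 = n32913 := d8_1 D55255 F52107 (iv3 F42800)
theorem F87441 : act 5 n55255 = n34271 := d13_1 D55255 (iv7 D34271) (iv5 F42801)
theorem F87442 : act 6 n55255 = n32871 := d14_1 D55255 (iv7 D32871) F25315 (iv7 F26523) D26698
theorem F87443 : act 1 n34017 = n55253 := d15_0 (iv0 D55253) D55255 F87439
theorem F87444 : act 1 n34016 = n55255 := d15_1 D34016 (iv7 D55255) F42799
theorem F87445 : act 1 n55255 = n34015 := d15_0 (iv0 D34015) D34017 (iv2 F87439)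
def n55256 : Q := act 3 n26699
theorem D55256 : act 3 n26699 = n55256 := rfl
theorem F87446 : act 5 n55256 = n55243 := d6_2 (iv5 F42803) D55256 (iv3 D55243)
theorem F87447 : act 7 n55256 = n34013 := d8_2 (iv7 F42804) D55256 (iv3 D34013)
def n55257 : Q := act 6 n26699
theorem D55257 : act 6 n26699 = n55257 := rfl
theorem F87448 : act 2 n55257 = n32870 := d3_1 D55257 F52037 (iv2 F42802)
theorem F87449 : act 4 n55257 = n26700 := d10_1 D55257 (iv6 D26700) D26699
def n55258 : Q := act 0 n26700
theorem D55258 : act 0 n26700 = n55258 := rfl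
def n55259 : Q := act 1 n26700
theorem D55259 : act 1 n26700 = n55259 := rfl
theorem F87450 : act 1 n55259 = n32871 := d15_1 D55259 (iv7 D32871) (iv2 F42805)
theorem F87451 : act 6 n27853 = n55259 := d21_3 F46250 (iv1 F51982) F51979 (iv1 D55259) (iv6 D26700) (iv5 D12758) F11987 D6500 (iv6 F22827) D28697
theorem F87452 : act 5 n32697 = n55259 := d21_6 (iv5 D7335) (iv1 D3368) D3370 D7342 D15573 D32697 (iv1 D55259) F42806 (iv6 D15797) F26482
theorem F87453 : act 2 n55259 = n32869 := d2_1 F87452 (iv5 F85901) F85900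
def n55260 : Q := act 7 n26700
theorem D55260 : act 7 n26700 = n55260 := rfl
theorem F87454 : act 2 n55260 = n32871 := d4_1 D55260 (iv7 D32871) (iv2 F42805)
theorem F87455 : act 5 n55260 = n32836 := d13_1 D55260 (iv7 D32836) (iv5 F42806)
theorem F87456 : act 6 n55260 = n34017 := d14_1 D55260 (iv7 D34017) (iv6 D16456) (iv7 F21186) D26700
theorem F87457 : act 1 n32871 = n55258 := d15_0 (iv0 D55258) D55260 F87454
theorem F87458 : act 1 n32869 = n55260 := d15_1 D32869 (iv7 D55260) F42805
theorem F87459 : act 7 n55258 = n32869 := d15_2 F87450 F87457 (iv2 F87453)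
theorem F87460 : act 2 n55258 = n32868 := d15_3 (iv0 D32868) D32869 (iv7 F87459)
theorem F87461 : act 7 n32868 = n55259 := d4_2 (iv7 F87459) F87460 F87453
theorem F87462 : act 1 n55260 = n32868 := d15_1 F87458 F87461 F87453
def n55261 : Q := act 1 n26702
theorem D55261 : act 1 n26702 = n55261 := rfl
theorem F87463 : act 1 n55261 = n52621 := d15_1 D55261 F83117 F55172
theorem F87464 : act 3 n43423 = n55261 := d19_19 (iv1 D55261) F42810 (iv4 F43299) (iv3 D26862) (iv1 F21307) F12577 F5630 (iv3 F5619) (iv1 F12482) (iv5 F26271) (iv4 F12460) (iv3 D7875) F5604 D6463 (iv4 F18070) (iv3 F37039) D48731 F76733 F68284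
theorem F87465 : act 4 n34856 = n55261 := d20_0 (iv1 D55261) F42809 (iv3 F40364) (iv1 D16978) D16979 F27853 D26299 F41888 D32340 F55122
def n55262 : Q := act 6 n26706
theorem D55262 : act 6 n26706 = n55262 := rfl
theorem F87466 : act 4 n55262 = n26707 := d10_1 D55262 (iv6 D26707) D26706
def n55263 : Q := act 0 n26707
theorem D55263 : act 0 n26707 = n55263 := rfl
def n55264 : Q := act 1 n26707
theorem D55264 : act 1 n26707 = n55264 := rfl
def n55265 : Q := act 7 n26707
theorem D55265 : act 7 n26707 = n55265 := rfl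
theorem F87467 : act 3 n55265 = n26710 := d8_1 D55265 (iv7 D26710) (iv3 F42813)
def n55266 : Q := act 2 n26708
theorem D55266 : act 2 n26708 = n55266 := rfl
theorem F87468 : act 7 n26709 = n55266 := d15_2 (iv0 D26708) D26709 (iv2 D55266)
def n55267 : Q := act 3 n26708
theorem D55267 : act 3 n26708 = n55267 := rfl
def n55268 : Q := act 4 n26708
theorem D55268 : act 4 n26708 = n55268 := rfl
def n55269 : Q := act 5 n26708
theorem D55269 : act 5 n26708 = n55269 := rfl
def n55270 : Q := act 6 n26708
theorem D55270 : act 6 n26708 = n55270 := rfl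
theorem F87469 : act 5 n55270 = n53021 := d21_6 F8905 F7681 D6036 D12765 D26708 D55270 (iv1 D53021) (iv5 D25731) (iv6 D12216) F8908
def n55271 : Q := act 7 n26708
theorem D55271 : act 7 n26708 = n55271 := rfl
def n55272 : Q := act 3 n26709
theorem D55272 : act 3 n26709 = n55272 := rfl
def n55273 : Q := act 4 n26709
theorem D55273 : act 4 n26709 = n55273 := rfl
def n55274 : Q := act 5 n26709
theorem D55274 : act 5 n26709 = n55274 := rfl
def n55275 : Q := act 6 n26709
theorem D55275 : act 6 n26709 = n55275 := rfl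
def n55276 : Q := act 0 n26713
theorem D55276 : act 0 n26713 = n55276 := rfl
theorem F87471 : act 4 n55276 = n31593 := d20_2 D26713 D55276 F49914 (iv1 F50481) (iv3 D7097) (iv4 D3238) F2564 D2551 D6041 D12769
theorem F87472 : act 2 n52450 = n55276 := d15_3 (iv0 D55276) F76665 (iv7 F82808)
theorem F87473 : act 3 n55276 = n34284 := d0_2 (iv3 F82807) F87472 (iv2 F55486) (iv3 F77934) (iv2 F77935)
theorem F87474 : act 6 n55276 = n28385 := d3_2 D52450 F87472 F50626
theorem F87475 : act 7 n55276 = n32448 := d4_2 (iv7 F82808) F87472 (iv2 F56621)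
theorem F87476 : act 1 n26716 = n55276 := d15_1 (iv0 F76663) F87475 (iv2 F56621)
def n55277 : Q := act 3 n26713
theorem D55277 : act 3 n26713 = n55277 := rfl
theorem F87477 : act 2 n55277 = n29008 := d0_1 D55277 (iv3 D29008) (iv2 F23465) (iv3 F47455) F47454
theorem F87478 : act 6 n55277 = n52673 := d7_2 F49863 D55277 (iv3 F83236)
theorem F87479 : act 0 n55277 = n52486 := d20_10 F82866 (iv1 D49217) (iv4 F37656) (iv3 D24061) F18427 D11772 F19127 D12769 D26713 D55277
theorem F87480 : act 0 n52667 = n55277 := d20_4 (iv4 F47449) (iv1 F47452) (iv4 F55459) (iv3 F83225) (iv3 D55277) (iv4 D26713) D26711 (iv4 F80512) F80514 (iv1 F78494)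
def n55278 : Q := act 5 n26713
theorem D55278 : act 5 n26713 = n55278 := rfl
theorem F87481 : act 1 n55278 = n52122 := d17_6 D12597 D26396 F42822 (iv5 D26714) D26713 D55278 (iv5 D52122) (iv0 D25308) F19878
theorem F87482 : act 0 n55278 = n52124 := d21_1 D55278 (iv5 D52124) F50597 F46899 F38059 D26482 (iv1 F56620) (iv5 D35931) D35932 (iv1 F76665)
def n55279 : Q := act 7 n26713
theorem D55279 : act 7 n26713 = n55279 := rfl
theorem F87483 : act 2 n55279 = n26716 := d4_1 D55279 (iv7 F47456) F47454
theorem F87484 : act 4 n55279 = n26715 := d11_1 D55279 (iv7 D26715) D26713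
theorem F87485 : act 1 n32448 = n55279 := d15_1 (iv0 F51517) (iv7 D55279) (iv2 F47454)
theorem F87486 : act 1 n55279 = n52450 := d15_1 F87485 F82808 F56621
def n55280 : Q := act 4 n26714
theorem D55280 : act 4 n26714 = n55280 := rfl
def n55281 : Q := act 6 n26714
theorem D55281 : act 6 n26714 = n55281 := rfl
theorem F87487 : act 2 n55281 = n54168 := d3_1 D55281 F85493 F46803
theorem F87488 : act 5 n55281 = n54143 := d12_1 D55281 (iv6 D54143) (iv5 F41597) F27314 D26714
def n55282 : Q := act 7 n26714
theorem D55282 : act 7 n26714 = n55282 := rfl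
theorem F87489 : act 2 n55282 = n26717 := d4_1 D55282 (iv7 F46802) F46803
theorem F87490 : act 5 n55282 = n26715 := d13_1 D55282 (iv7 D26715) D26714
theorem F87491 : act 1 n54563 = n55282 := d15_1 (iv0 F86241) (iv7 D55282) (iv2 F46803)
theorem F87492 : act 1 n55282 = n29678 := d15_1 F87491 F47704 (iv2 F86238)
def n55283 : Q := act 5 n26716
theorem D55283 : act 5 n26716 = n55283 := rfl
theorem F87493 : act 3 n55283 = n29007 := d6_1 D55283 (iv5 D29007) (iv3 F42826)
theorem F87494 : act 1 n55283 = n52124 := d17_6 (iv1 F42131) D26399 F52522 (iv5 D26717) D26716 D55283 (iv5 D52124) F82395 F82390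
theorem F87495 : act 0 n55283 = n52122 := d21_1 D55283 (iv5 D52122) F65292 F65289 F31816 D32016 (iv1 F82888) F82890 (iv6 F87474) (iv1 F87476)
def n55284 : Q := act 4 n26717
theorem D55284 : act 4 n26717 = n55284 := rfl
def n55285 : Q := act 6 n26717
theorem D55285 : act 6 n26717 = n55285 := rfl
theorem F87496 : act 3 n55285 = n29059 := d7_1 D55285 (iv6 D29059) (iv3 F42827)
theorem F87497 : act 5 n55285 = n55230 := d12_1 D55285 (iv6 D55230) (iv5 F42830) (iv6 D26718) D26717
def n55286 : Q := act 0 n26719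
theorem D55286 : act 0 n26719 = n55286 := rfl
def n55287 : Q := act 1 n26719
theorem D55287 : act 1 n26719 = n55287 := rfl
def n55288 : Q := act 3 n26719
theorem D55288 : act 3 n26719 = n55288 := rfl
theorem F87498 : act 4 n55288 = n26721 := d5_2 D26719 D55288 (iv3 D26721) (iv4 D12774) (iv3 F21205)
theorem F87499 : act 7 n55288 = n34226 := d8_2 F86275 D55288 (iv3 F86274)
def n55289 : Q := act 5 n26719
theorem D55289 : act 5 n26719 = n55289 := rfl
def n55290 : Q := act 6 n26719
theorem D55290 : act 6 n26719 = n55290 := rfl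
theorem F87500 : act 4 n55290 = n26720 := d10_1 D55290 (iv6 D26720) D26719
def n55291 : Q := act 0 n26720
theorem D55291 : act 0 n26720 = n55291 := rfl
def n55292 : Q := act 1 n26720
theorem D55292 : act 1 n26720 = n55292 := rfl
theorem F87501 : act 5 n54904 = n55292 := d21_6 F21075 F26640 D6013 D12695 D26557 D54904 (iv1 D55292) F42833 (iv6 D12791) (iv1 F27126)
def n55293 : Q := act 7 n26720
theorem D55293 : act 7 n26720 = n55293 := rfl
theorem F87502 : act 3 n55293 = n26724 := d8_1 D55293 (iv7 D26724) (iv3 F42832)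
theorem F87503 : act 5 n55293 = n26734 := d13_1 D55293 (iv7 D26734) (iv5 F42833)
theorem F87504 : act 1 n55018 = n55293 := d15_1 (iv0 F87024) (iv7 D55293) (iv2 F86279)
def n55294 : Q := act 0 n26721
theorem D55294 : act 0 n26721 = n55294 := rfl
theorem F87505 : act 1 n34223 = n55294 := d15_0 (iv0 D55294) F42835 (iv2 F53854)
def n55295 : Q := act 1 n26721
theorem D55295 : act 1 n26721 = n55295 := rfl
def n55296 : Q := act 2 n26721
theorem D55296 : act 2 n26721 = n55296 := rfl
theorem F87506 : act 3 n55296 = n34345 := d0_2 D26721 D55296 (iv2 D34345) (iv3 D16629) (iv2 F21207)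
theorem F87507 : act 5 n55296 = n34210 := d2_2 (iv5 F42834) D55296 (iv2 F53846)
theorem F87508 : act 7 n55296 = n34223 := d4_2 (iv7 F42835) D55296 F53854
theorem F87509 : act 1 n55296 = n34224 := d15_0 (iv0 D34224) (iv7 F42835) D55296
theorem F87510 : act 1 n55295 = n34223 := d15_1 D55295 (iv7 F87508) (iv2 D55296)
theorem F87511 : act 1 n34225 = n55296 := d15_1 D34225 F87508 F53854
def n55297 : Q := act 6 n26721
theorem D55297 : act 6 n26721 = n55297 := rfl
theorem F87512 : act 3 n55297 = n26722 := d7_1 D55297 (iv6 D26722) D26721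
def n55298 : Q := act 5 n26722
theorem D55298 : act 5 n26722 = n55298 := rfl
theorem F87513 : act 2 n55298 = n34349 := d2_1 D55298 (iv5 D34349) (iv2 F42836)
theorem F87514 : act 6 n55298 = n34235 := d12_2 D26722 D55298 (iv5 D34235) (iv6 D16565) (iv5 F21208)
def n55299 : Q := act 7 n26722
theorem D55299 : act 7 n26722 = n55299 := rfl
theorem F87516 : act 4 n55299 = n26724 := d11_1 D55299 (iv7 D26724) (iv4 F42837)
theorem F87517 : act 6 n55299 = n34234 := d14_1 D55299 (iv7 D34234) (iv6 D16564) F21209 D26722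
theorem F87518 : act 1 n34348 = n55299 := d15_1 D34348 (iv7 D55299) F42836
theorem F87519 : act 1 n55299 = n34347 := d15_1 F87518 (iv7 F79220) F79219
def n55300 : Q := act 3 n26723
theorem D55300 : act 3 n26723 = n55300 := rfl
theorem F87520 : act 5 n55300 = n55168 := d6_2 F53089 D55300 F87262
theorem F87521 : act 7 n55300 = n34354 := d8_2 (iv7 F53091) D55300 (iv3 D34354)
def n55301 : Q := act 6 n26723
theorem D55301 : act 6 n26723 = n55301 := rfl
theorem F87522 : act 2 n55301 = n34353 := d3_1 D55301 (iv6 D34353) (iv2 F53090)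
theorem F87523 : act 5 n55301 = n29155 := d12_1 D55301 (iv6 F53304) F53301 (iv6 F53088) F53089
def n55302 : Q := act 6 n26724
theorem D55302 : act 6 n26724 = n55302 := rfl
theorem F87524 : act 2 n55302 = n34357 := d3_1 D55302 (iv6 D34357) (iv2 F42838)
theorem F87525 : act 4 n55302 = n34234 := d10_1 D55302 (iv6 F87517) F87516
theorem F87526 : act 5 n55302 = n34712 := d12_1 D55302 (iv6 D34712) F27565 (iv6 F21232) (iv5 F42839)
theorem F87527 : act 7 n55302 = n26725 := d14_2 D26724 D55302 (iv6 D26725) (iv7 D12776) D12775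
theorem F87528 : act 1 n34359 = n55302 := d15_1 D34359 F87527 F42843
theorem F87529 : act 1 n55302 = n34358 := d15_0 (iv0 D34358) (iv7 F54518) (iv2 F87524)
def n55303 : Q := act 0 n26725
theorem D55303 : act 0 n26725 = n55303 := rfl
theorem F87530 : act 1 n34357 = n55303 := d15_0 (iv0 D55303) (iv7 F87527) F87524
def n55304 : Q := act 1 n26725
theorem D55304 : act 1 n26725 = n55304 := rfl
theorem F87531 : act 1 n55304 = n34357 := d15_1 D55304 F54518 (iv2 F42843)
def n55305 : Q := act 4 n26727
theorem D55305 : act 4 n26727 = n55305 := rfl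
theorem F87532 : act 6 n55305 = n54934 := d10_2 (iv6 F42849) D55305 (iv4 D54934)
def n55306 : Q := act 3 n26728
theorem D55306 : act 3 n26728 = n55306 := rfl
theorem F87533 : act 4 n55306 = n36846 := d5_2 F51519 D55306 (iv3 F57782) F55433 (iv3 F51524)
theorem F87534 : act 5 n55306 = n38570 := d6_2 (iv5 F42850) D55306 (iv3 D38570)
theorem F87535 : act 7 n55306 = n34573 := d8_2 F42853 D55306 (iv3 D34573)
theorem F87536 : act 0 n55306 = n46183 := d19_4 (iv1 F40593) (iv5 F51518) F51519 D55306 F72852 F57343 (iv3 D35210) (iv1 F28732) (iv5 F55959) (iv4 D35214) (iv3 F51904) F51906 (iv5 D28633) F27186 (iv3 F44827) (iv1 F44831) (iv5 D15897) F11718 D12552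
def n55307 : Q := act 6 n26728
theorem D55307 : act 6 n26728 = n55307 := rfl
theorem F87537 : act 2 n55307 = n34576 := d3_1 D55307 (iv6 D34576) F42852
def n55308 : Q := act 6 n26729
theorem D55308 : act 6 n26729 = n55308 := rfl
theorem F87538 : act 2 n55308 = n34574 := d3_1 D55308 (iv6 D34574) (iv2 F42858)
theorem F87539 : act 4 n55308 = n28516 := d10_1 D55308 (iv6 D28516) F42857
def n55309 : Q := act 6 n26730
theorem D55309 : act 6 n26730 = n55309 := rfl
theorem F87540 : act 3 n55309 = n34589 := d7_1 D55309 (iv6 D34589) (iv3 F42859)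
def n55310 : Q := act 0 n26731
theorem D55310 : act 0 n26731 = n55310 := rfl
def n55311 : Q := act 1 n26731
theorem D55311 : act 1 n26731 = n55311 := rfl
def n55312 : Q := act 5 n26731
theorem D55312 : act 5 n26731 = n55312 := rfl
theorem F87541 : act 3 n55312 = n34607 := d6_1 D55312 (iv5 D34607) (iv3 F42947)
def n55313 : Q := act 7 n26731
theorem D55313 : act 7 n26731 = n55313 := rfl
theorem F87542 : act 3 n55313 = n34604 := d8_1 D55313 F54867 (iv3 F42947)
theorem F87543 : act 4 n55313 = n26734 := d11_1 D55313 (iv7 D26734) (iv4 F42948)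
theorem F87544 : act 6 n55313 = n34584 := d14_1 D55313 (iv7 D34584) (iv6 D16766) (iv7 F21227) D26731
def n55314 : Q := act 2 n26732
theorem D55314 : act 2 n26732 = n55314 := rfl
theorem F87545 : act 7 n26733 = n55314 := d15_2 (iv0 D26732) D26733 (iv2 D55314)
def n55315 : Q := act 3 n26732
theorem D55315 : act 3 n26732 = n55315 := rfl
def n55316 : Q := act 4 n26732
theorem D55316 : act 4 n26732 = n55316 := rfl
def n55317 : Q := act 5 n26732
theorem D55317 : act 5 n26732 = n55317 := rfl
def n55318 : Q := act 6 n26732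
theorem D55318 : act 6 n26732 = n55318 := rfl
theorem F87546 : act 5 n55318 = n39325 := d21_6 F27018 (iv1 F26770) D6047 D12791 D26732 D55318 (iv1 D39325) (iv5 D18651) (iv6 D8756) (iv1 F9343)
def n55319 : Q := act 7 n26732
theorem D55319 : act 7 n26732 = n55319 := rfl
theorem F87547 : act 2 n55319 = n26733 := d4_1 D55319 F87545 (iv2 D55314)
def n55320 : Q := act 3 n26733
theorem D55320 : act 3 n26733 = n55320 := rfl
def n55321 : Q := act 4 n26733
theorem D55321 : act 4 n26733 = n55321 := rfl
def n55322 : Q := act 5 n26733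
theorem D55322 : act 5 n26733 = n55322 := rfl
def n55323 : Q := act 6 n26733
theorem D55323 : act 6 n26733 = n55323 := rfl
def n55324 : Q := act 0 n26736
theorem D55324 : act 0 n26736 = n55324 := rfl
theorem F87548 : act 1 n34396 = n55324 := d15_0 (iv0 D55324) (iv7 F51316) D34396
def n55325 : Q := act 1 n26736
theorem D55325 : act 1 n26736 = n55325 := rfl
def n55326 : Q := act 2 n26736
theorem D55326 : act 2 n26736 = n55326 := rfl
theorem F87549 : act 3 n55326 = n34388 := d0_2 D26736 D55326 (iv2 D34388) (iv3 D16668) F51291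
theorem F87550 : act 7 n55326 = n34396 := d4_2 F51316 D55326 (iv2 D34396)
theorem F87551 : act 1 n55326 = n34394 := d15_0 (iv0 D34394) F51316 D55326
theorem F87552 : act 1 n55325 = n34396 := d15_1 D55325 (iv7 F87550) (iv2 D55326)
theorem F87553 : act 1 n34395 = n55326 := d15_1 D34395 F87550 (iv2 D34396)
def n55327 : Q := act 4 n26736
theorem D55327 : act 4 n26736 = n55327 := rfl
theorem F87554 : act 3 n55327 = n36703 := d5_1 D55327 (iv4 D36703) (iv3 D17688) (iv4 F28962) D26736
theorem F87555 : act 7 n55327 = n34397 := d11_2 F51316 D55327 (iv4 D34397)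
def n55328 : Q := act 5 n26736
theorem D55328 : act 5 n26736 = n55328 := rfl
theorem F87556 : act 3 n55328 = n26737 := d6_1 D55328 (iv5 D26737) D26736
theorem F87557 : act 7 n55328 = n34398 := d13_2 F51316 D55328 (iv5 D34398)
def n55329 : Q := act 6 n26736
theorem D55329 : act 6 n26736 = n55329 := rfl
theorem F87558 : act 3 n55329 = n26738 := d7_1 D55329 (iv6 D26738) D26736
theorem F87559 : act 5 n27818 = n55329 := d6_0 F87558 F42955 D27818
theorem F87560 : act 7 n39466 = n55329 := d8_0 F87558 F51307 (iv3 F60383)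
def n55330 : Q := act 4 n26737
theorem D55330 : act 4 n26737 = n55330 := rfl
theorem F87561 : act 2 n55330 = n34392 := d1_1 D55330 (iv4 D34392) (iv2 F51295)
theorem F87562 : act 7 n55330 = n34400 := d11_2 F51317 D55330 (iv4 D34400)
def n55331 : Q := act 6 n26737
theorem D55331 : act 6 n26737 = n55331 := rfl
theorem F87563 : act 2 n55331 = n34393 := d3_1 D55331 (iv6 D34393) (iv2 F51295)
theorem F87564 : act 5 n55331 = n27820 := d12_1 D55331 (iv6 D27820) (iv5 F42955) (iv6 D26738) D26737
def n55332 : Q := act 0 n26740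
theorem D55332 : act 0 n26740 = n55332 := rfl
theorem F87565 : act 1 n34388 = n55332 := d15_0 (iv0 D55332) F51293 D34388
def n55333 : Q := act 1 n26740
theorem D55333 : act 1 n26740 = n55333 := rfl
def n55334 : Q := act 2 n26740
theorem D55334 : act 2 n26740 = n55334 := rfl
theorem F87566 : act 3 n55334 = n34396 := d0_2 D26740 D55334 (iv2 D34396) (iv3 D16673) (iv2 F51287)
theorem F87567 : act 7 n55334 = n34388 := d4_2 (iv7 F51293) D55334 (iv2 D34388)
theorem F87568 : act 1 n55334 = n34386 := d15_0 (iv0 D34386) (iv7 F51293) D55334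
theorem F87569 : act 1 n55333 = n34388 := d15_1 D55333 (iv7 F87567) (iv2 D55334)
theorem F87570 : act 1 n34387 = n55334 := d15_1 D34387 F87567 (iv2 D34388)
def n55335 : Q := act 4 n26740
theorem D55335 : act 4 n26740 = n55335 := rfl
theorem F87571 : act 3 n55335 = n36709 := d5_1 D55335 (iv4 D36709) (iv3 D17692) (iv4 F42953) D26740
theorem F87572 : act 7 n55335 = n34389 := d11_2 (iv7 F51293) D55335 (iv4 D34389)
def n55336 : Q := act 5 n26740
theorem D55336 : act 5 n26740 = n55336 := rfl
theorem F87573 : act 3 n55336 = n26741 := d6_1 D55336 (iv5 D26741) D26740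
theorem F87574 : act 7 n55336 = n34390 := d13_2 (iv7 F51293) D55336 (iv5 D34390)
def n55337 : Q := act 6 n26740
theorem D55337 : act 6 n26740 = n55337 := rfl
theorem F87575 : act 3 n55337 = n26742 := d7_1 D55337 (iv6 D26742) D26740
def n55338 : Q := act 4 n26741
theorem D55338 : act 4 n26741 = n55338 := rfl
theorem F87576 : act 2 n55338 = n34400 := d1_1 D55338 (iv4 D34400) (iv2 F51318)
theorem F87577 : act 7 n55338 = n34392 := d11_2 (iv7 F51294) D55338 (iv4 D34392)
def n55339 : Q := act 6 n26741
theorem D55339 : act 6 n26741 = n55339 := rfl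
theorem F87578 : act 2 n55339 = n34401 := d3_1 D55339 (iv6 D34401) (iv2 F51318)
theorem F87579 : act 0 n29120 = n55339 := d21_4 (iv5 D11434) (iv1 F10691) D13859 D29120 (iv6 D55339) (iv5 D26741) (iv1 D12793) (iv5 F21211) (iv6 D12775) (iv1 F18691)
def n55340 : Q := act 5 n26743
theorem D55340 : act 5 n26743 = n55340 := rfl
theorem F87580 : act 2 n55340 = n27020 := d2_1 D55340 (iv5 D27020) (iv2 F42959)
theorem F87581 : act 3 n55340 = n34437 := d6_1 D55340 (iv5 D34437) (iv3 F42960)
theorem F87582 : act 7 n55340 = n27324 := d13_2 (iv7 F42962) D55340 (iv5 D27324)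
theorem F87583 : act 0 n55340 = n35239 := d17_2 F42963 D55340 F55974 F28313 F21985 (iv0 F27973) (iv5 D17050) F12742 D13196
theorem F87584 : act 1 n55340 = n26746 := d17_6 F30569 D35107 F55795 (iv5 D27020) (iv4 F42961) D55340 (iv5 D26746) F28316 (iv4 F30571)
def n55341 : Q := act 0 n26744
theorem D55341 : act 0 n26744 = n55341 := rfl
def n55342 : Q := act 1 n26744
theorem D55342 : act 1 n26744 = n55342 := rfl
def n55343 : Q := act 5 n26744
theorem D55343 : act 5 n26744 = n55343 := rfl
theorem F87585 : act 3 n55343 = n44509 := d6_1 D55343 F70021 (iv3 F42965)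
theorem F87586 : act 6 n55343 = n26746 := d12_2 D26744 D55343 (iv5 D26746) (iv6 D12797) D12796
def n55344 : Q := act 7 n26744
theorem D55344 : act 7 n26744 = n55344 := rfl
theorem F87587 : act 3 n55344 = n44897 := d8_1 D55344 (iv7 D44897) (iv3 F42965)
theorem F87588 : act 4 n55344 = n27525 := d11_1 D55344 (iv7 D27525) (iv4 F42966)
def n55345 : Q := act 5 n26745
theorem D55345 : act 5 n26745 = n55345 := rfl
theorem F87589 : act 2 n55345 = n27068 := d2_1 D55345 F43728 F42969
theorem F87590 : act 3 n55345 = n35547 := d6_1 D55345 (iv5 D35547) (iv3 F42968)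
theorem F87591 : act 7 n55345 = n35560 := d13_2 (iv7 F42971) D55345 (iv5 D35560)
theorem F87592 : act 0 n55345 = n26750 := d17_2 D26745 D55345 (iv5 D26750) F21250 D12802 (iv0 F28319) (iv5 D17366) (iv0 F17554) (iv4 F21244)
theorem F87593 : act 1 n55345 = n35135 := d17_6 (iv1 F42964) D27641 F44565 F43728 (iv4 F42967) D55345 (iv5 D35135) (iv0 F27987) (iv4 F42961)
def n55346 : Q := act 0 n26747
theorem D55346 : act 0 n26747 = n55346 := rfl
theorem F87594 : act 4 n55346 = n27020 := d18_3 F21245 D26747 D55346 (iv5 D27020) (iv4 F42961) (iv0 F42963) (iv4 D13196) (iv0 D6273) D6275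
theorem F87595 : act 1 n27645 = n55346 := d15_0 (iv0 D55346) (iv7 F55838) F55837
theorem F87596 : act 7 n35571 = n55346 := d11_0 F87594 F43658 D35571
def n55347 : Q := act 1 n26747
theorem D55347 : act 1 n26747 = n55347 := rfl
theorem F87597 : act 1 n55347 = n27645 := d15_1 D55347 (iv7 F55797) F55796
theorem F87598 : act 4 n55347 = n27324 := d18_7 (iv1 F30570) F30571 (iv1 F28316) F21244 D12798 D26747 D55347 (iv0 F56518) (iv5 D35859)
theorem F87599 : act 2 n35571 = n55347 := d1_3 F87598 F44221 D35571
def n55348 : Q := act 3 n26747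
theorem D55348 : act 3 n26747 = n55348 := rfl
def n55349 : Q := act 5 n26747
theorem D55349 : act 5 n26747 = n55349 := rfl
def n55350 : Q := act 4 n26748
theorem D55350 : act 4 n26748 = n55350 := rfl
theorem F87600 : act 2 n55350 = n36263 := d1_1 D55350 F57011 F54702
theorem F87601 : act 7 n55350 = n36262 := d11_2 F44561 D55350 F57008
theorem F87602 : act 0 n55350 = n26922 := d18_2 F56101 D55350 (iv4 D26922) (iv5 D12882) D12881 F43407 (iv4 F43534) (iv0 F43538) D35392
theorem F87603 : act 1 n55350 = n26919 := d18_6 (iv1 F16794) (iv4 F21596) F27449 F27447 D26748 D55350 (iv4 D26919) (iv0 F21386) F13020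
def n55351 : Q := act 0 n26749
theorem D55351 : act 0 n26749 = n55351 := rfl
def n55352 : Q := act 1 n26749
theorem D55352 : act 1 n26749 = n55352 := rfl
def n55353 : Q := act 5 n26749
theorem D55353 : act 5 n26749 = n55353 := rfl
theorem F87604 : act 3 n55353 = n35178 := d6_1 D55353 (iv5 D35178) (iv3 F42976)
theorem F87605 : act 6 n55353 = n26750 := d12_2 D26749 D55353 (iv5 D26750) (iv6 D12801) D12800
def n55354 : Q := act 7 n26749
theorem D55354 : act 7 n26749 = n55354 := rfl
theorem F87606 : act 3 n55354 = n35179 := d8_1 D55354 (iv7 D35179) (iv3 F42976)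
theorem F87607 : act 4 n55354 = n27536 := d11_1 D55354 (iv7 D27536) (iv4 F42977)
def n55355 : Q := act 4 n26750
theorem D55355 : act 4 n26750 = n55355 := rfl
theorem F87608 : act 2 n55355 = n35862 := d1_1 D55355 F56525 F44556
theorem F87609 : act 7 n55355 = n35863 := d11_2 F44564 D55355 F56526
theorem F87610 : act 0 n55355 = n26979 := d18_2 F87592 D55355 (iv4 D26979) (iv5 D12911) F9512 D12909 (iv4 F28313) F42970 D55345
theorem F87611 : act 1 n55355 = n35860 := d18_6 (iv1 F12748) F9707 (iv1 F14032) (iv4 F21250) D26750 D55355 (iv4 D35860) (iv0 F28320) (iv5 D17058)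
def n55356 : Q := act 0 n26751
theorem D55356 : act 0 n26751 = n55356 := rfl
theorem F87612 : act 4 n55356 = n35560 := d18_3 F28319 D26751 D55356 (iv5 D35560) F30571 D17228 F28313 F21440 D17366
theorem F87613 : act 1 n35136 = n55356 := d15_0 (iv0 D55356) (iv7 F44566) (iv2 F55834)
theorem F87614 : act 2 n35561 = n55356 := d1_3 F87612 F56235 D35561
def n55357 : Q := act 1 n26751
theorem D55357 : act 1 n26751 = n55357 := rfl
theorem F87615 : act 1 n55357 = n35136 := d15_1 D55357 F55835 F44559
theorem F87616 : act 7 n55357 = n35561 := d15_2 (iv0 D55356) D55357 F87614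
theorem F87617 : act 4 n55357 = n27068 := d18_7 F27387 (iv4 F21839) F21840 F21250 D12802 D26751 D55357 (iv0 F44565) (iv5 D27641)
def n55358 : Q := act 3 n26751
theorem D55358 : act 3 n26751 = n55358 := rfl
def n55359 : Q := act 5 n26751
theorem D55359 : act 5 n26751 = n55359 := rfl
def n55360 : Q := act 0 n26752
theorem D55360 : act 0 n26752 = n55360 := rfl
theorem F87618 : act 3 n55360 = n46860 := d20_5 (iv4 D6236) F14020 D12803 D26752 D55360 (iv4 D46860) (iv1 F35069) (iv4 F44238) (iv3 D27336) (iv1 D13101)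
theorem F87619 : act 1 n33430 = n55360 := d15_0 (iv0 D55360) (iv7 F55800) F55798
def n55361 : Q := act 1 n26752
theorem D55361 : act 1 n26752 = n55361 := rfl
def n55362 : Q := act 2 n26752
theorem D55362 : act 2 n26752 = n55362 := rfl
theorem F87620 : act 3 n55362 = n26781 := d0_2 D26752 D55362 (iv2 D26781) (iv3 D12812) (iv2 F21251)
theorem F87621 : act 4 n55362 = n34484 := d1_2 (iv4 F42980) D55362 (iv2 D34484)
theorem F87622 : act 7 n55362 = n33430 := d4_2 F55800 D55362 (iv2 F55798)
theorem F87623 : act 1 n55361 = n33430 := d15_1 D55361 (iv7 F87622) (iv2 D55362)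
def n55363 : Q := act 5 n26752
theorem D55363 : act 5 n26752 = n55363 := rfl
theorem F87624 : act 3 n55363 = n26753 := d6_1 D55363 (iv5 D26753) D26752
def n55364 : Q := act 6 n26752
theorem D55364 : act 6 n26752 = n55364 := rfl
theorem F87625 : act 3 n55364 = n26754 := d7_1 D55364 (iv6 D26754) D26752
theorem F87626 : act 4 n55364 = n34486 := d10_1 D55364 (iv6 D34486) (iv4 F42980)
def n55365 : Q := act 6 n26753
theorem D55365 : act 6 n26753 = n55365 := rfl
theorem F87627 : act 2 n55365 = n26785 := d3_1 D55365 (iv6 D26785) (iv2 F42981)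
theorem F87628 : act 4 n55365 = n35116 := d10_1 D55365 (iv6 D35116) (iv4 F42982)
def n55366 : Q := act 0 n26754
theorem D55366 : act 0 n26754 = n55366 := rfl
def n55367 : Q := act 1 n26754
theorem D55367 : act 1 n26754 = n55367 := rfl
theorem F87629 : act 1 n55367 = n26789 := d15_1 D55367 (iv7 D26789) (iv2 F42983)
def n55368 : Q := act 5 n26754
theorem D55368 : act 5 n26754 = n55368 := rfl
theorem F87630 : act 2 n55368 = n26788 := d2_1 D55368 (iv5 D26788) (iv2 F42983)
def n55369 : Q := act 7 n26754
theorem D55369 : act 7 n26754 = n55369 := rfl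
theorem F87631 : act 2 n55369 = n26789 := d4_1 D55369 (iv7 D26789) (iv2 F42983)
theorem F87632 : act 4 n55369 = n26757 := d11_1 D55369 (iv7 D26757) (iv4 F42984)
theorem F87633 : act 1 n26789 = n55366 := d15_0 (iv0 D55366) D55369 F87631
theorem F87634 : act 1 n26787 = n55369 := d15_1 D26787 (iv7 D55369) F42983
theorem F87635 : act 4 n36659 = n55366 := d20_6 D7853 (iv1 F30055) F11560 (iv3 F13132) D17667 D36659 (iv1 F87633) F43078 F21270 (iv1 F9428)
theorem F87636 : act 1 n55369 = n26786 := d15_0 (iv0 D26786) D26789 (iv2 F87631)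
def n55370 : Q := act 2 n26755
theorem D55370 : act 2 n26755 = n55370 := rfl
theorem F87637 : act 7 n26756 = n55370 := d15_2 (iv0 D26755) D26756 (iv2 D55370)
def n55371 : Q := act 3 n26755
theorem D55371 : act 3 n26755 = n55371 := rfl
theorem F87638 : act 4 n55371 = n36017 := d20_6 F59780 (iv1 D34489) F27464 (iv3 F21253) D26755 D55371 (iv1 F57804) F57800 (iv3 F57775) (iv1 F57779)
theorem F87639 : act 0 n39659 = n55371 := d18_0 F87638 (iv1 F57804) F57800 (iv5 F59694) D40271 (iv0 F61258) F59782 F61259 D39659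
def n55372 : Q := act 4 n26755
theorem D55372 : act 4 n26755 = n55372 := rfl
def n55373 : Q := act 5 n26755
theorem D55373 : act 5 n26755 = n55373 := rfl
def n55374 : Q := act 6 n26755
theorem D55374 : act 6 n26755 = n55374 := rfl
theorem F87640 : act 5 n55374 = n27636 := d21_6 F14007 (iv1 F5636) D6058 D12804 D26755 D55374 (iv1 D27636) (iv5 D13195) (iv6 D6272) (iv1 F9749)
def n55375 : Q := act 7 n26755
theorem D55375 : act 7 n26755 = n55375 := rfl
theorem F87641 : act 2 n55375 = n26756 := d4_1 D55375 F87637 (iv2 D55370)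
def n55376 : Q := act 3 n26756
theorem D55376 : act 3 n26756 = n55376 := rfl
theorem F87642 : act 4 n55376 = n35281 := d20_6 F28964 (iv1 F21288) F21284 (iv3 F21270) (iv1 F42985) D55376 (iv1 D35281) F28072 F12787 D8014
def n55377 : Q := act 4 n26756
theorem D55377 : act 4 n26756 = n55377 := rfl
def n55378 : Q := act 6 n26756
theorem D55378 : act 6 n26756 = n55378 := rfl
def n55379 : Q := act 6 n26758
theorem D55379 : act 6 n26758 = n55379 := rfl
theorem F87643 : act 2 n55379 = n27335 := d3_1 D55379 (iv6 D27335) F42995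
theorem F87644 : act 4 n55379 = n27325 := d10_1 D55379 (iv6 D27325) (iv4 F42994)
def n55380 : Q := act 2 n26759
theorem D55380 : act 2 n26759 = n55380 := rfl
theorem F87645 : act 3 n55380 = n27380 := d0_2 D26759 D55380 (iv2 D27380) (iv3 D13116) (iv2 F21255)
theorem F87646 : act 4 n55380 = n40720 := d1_2 (iv4 F42996) D55380 (iv2 D40720)
theorem F87647 : act 5 n55380 = n54631 := d2_2 F52197 D55380 F86359
theorem F87648 : act 7 n55380 = n27341 := d4_2 (iv7 F42997) D55380 (iv2 D27341)
theorem F87649 : act 1 n55380 = n27339 := d15_0 (iv0 D27339) (iv7 F42997) D55380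
theorem F87650 : act 1 n27340 = n55380 := d15_0 F87649 (iv7 F52283) F52282
def n55381 : Q := act 6 n26759
theorem D55381 : act 6 n26759 = n55381 := rfl
theorem F87651 : act 3 n55381 = n26761 := d7_1 D55381 (iv6 D26761) D26759
def n55382 : Q := act 1 n26760
theorem D55382 : act 1 n26760 = n55382 := rfl
theorem F87653 : act 1 n55382 = n26768 := d15_1 D55382 F43017 (iv2 F42998)
theorem F87654 : act 7 n55382 = n27345 := d15_2 F56141 D55382 (iv2 F56137)
theorem F87655 : act 5 n55382 = n27322 := d17_7 (iv1 F9748) F4224 (iv1 F6462) (iv5 F14017) D12805 D26760 D55382 F44218 (iv4 D13126)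
theorem F87656 : act 4 n55382 = n27345 := d17_9 (iv1 D27345) (iv5 D13103) D13100 D27334 (iv4 F44382) F44381 F28693 D26760 D55382
theorem F87657 : act 3 n35046 = n55382 := d19_19 (iv1 D55382) (iv5 D26760) (iv4 D12805) F14016 (iv1 F13810) (iv5 F13805) F13804 (iv3 D4236) (iv1 F6299) (iv5 F7241) (iv4 F15180) D20476 F32540 D20499 (iv4 F41575) (iv3 F68236) F68239 F55481 D35046
theorem F87658 : act 2 n27344 = n55382 := d1_3 F87656 (iv2 F56137) F56139
def n55383 : Q := act 6 n26760
theorem D55383 : act 6 n26760 = n55383 := rfl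
theorem F87659 : act 2 n55383 = n27383 := d3_1 D55383 (iv6 D27383) (iv2 F42998)
def n55384 : Q := act 0 n26761
theorem D55384 : act 0 n26761 = n55384 := rfl
def n55385 : Q := act 1 n26761
theorem D55385 : act 1 n26761 = n55385 := rfl
def n55386 : Q := act 5 n26761
theorem D55386 : act 5 n26761 = n55386 := rfl
theorem F87661 : act 2 n55386 = n27386 := d2_1 D55386 (iv5 D27386) (iv2 F43000)
def n55387 : Q := act 7 n26761
theorem D55387 : act 7 n26761 = n55387 := rfl
theorem F87662 : act 2 n55387 = n27387 := d4_1 D55387 (iv7 D27387) (iv2 F43000)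
theorem F87663 : act 4 n55387 = n26765 := d11_1 D55387 (iv7 D26765) (iv4 F43001)
theorem F87664 : act 6 n55387 = n27350 := d14_1 D55387 (iv7 D27350) (iv6 D13104) (iv7 F21256) D26761
theorem F87665 : act 1 n27387 = n55384 := d15_0 (iv0 D55384) D55387 F87662
theorem F87666 : act 1 n27385 = n55387 := d15_1 D27385 (iv7 D55387) F43000
theorem F87667 : act 1 n55387 = n27384 := d15_0 (iv0 D27384) D27387 (iv2 F87662)
def n55388 : Q := act 2 n26762
theorem D55388 : act 2 n26762 = n55388 := rfl
theorem F87668 : act 7 n26763 = n55388 := d15_2 (iv0 D26762) D26763 (iv2 D55388)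
def n55389 : Q := act 3 n26762
theorem D55389 : act 3 n26762 = n55389 := rfl
def n55390 : Q := act 4 n26762
theorem D55390 : act 4 n26762 = n55390 := rfl
def n55391 : Q := act 5 n26762
theorem D55391 : act 5 n26762 = n55391 := rfl
def n55392 : Q := act 6 n26762
theorem D55392 : act 6 n26762 = n55392 := rfl
def n55394 : Q := act 3 n26763
theorem D55394 : act 3 n26763 = n55394 := rfl
def n55395 : Q := act 4 n26763
theorem D55395 : act 4 n26763 = n55395 := rfl
def n55396 : Q := act 5 n26763
theorem D55396 : act 5 n26763 = n55396 := rfl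
theorem F87670 : act 6 n27398 = n55396 := d21_5 (iv5 D13123) (iv1 D6247) D6248 (iv6 F21888) D27398 (iv5 D55396) (iv1 D26763) D26764 F43005 (iv1 F21893)
def n55397 : Q := act 6 n26763
theorem D55397 : act 6 n26763 = n55397 := rfl
theorem F87671 : act 5 n55397 = n27608 := d21_6 (iv5 D27354) (iv1 F43026) F43022 F43023 (iv1 F43002) D55397 (iv1 D27608) F21968 D27446 (iv1 F44550)
def n55398 : Q := act 0 n26764
theorem D55398 : act 0 n26764 = n55398 := rfl
theorem F87672 : act 6 n55398 = n27396 := d21_5 (iv5 D8433) F17470 D13108 (iv6 F43005) D55398 (iv5 D27396) (iv1 D13120) D13121 F21888 (iv1 F21871)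
def n55399 : Q := act 1 n26764
theorem D55399 : act 1 n26764 = n55399 := rfl
theorem F87673 : act 1 n55399 = n27401 := d15_1 D55399 (iv7 D27401) (iv2 F43003)
theorem F87674 : act 5 n27505 = n55399 := d21_6 (iv5 D7974) (iv1 F5642) F14030 D6262 D13155 D27505 (iv1 D55399) (iv5 D26764) (iv6 D12806) (iv1 F12736)
def n55400 : Q := act 4 n26764
theorem D55400 : act 4 n26764 = n55400 := rfl
def n55401 : Q := act 7 n26764
theorem D55401 : act 7 n26764 = n55401 := rfl
theorem F87677 : act 2 n55401 = n27401 := d4_1 D55401 (iv7 D27401) (iv2 F43003)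
theorem F87679 : act 5 n55401 = n26765 := d13_1 D55401 (iv7 D26765) D26764
theorem F87680 : act 6 n55401 = n55401 := d14_1 D55401 (iv7 D55401) F43005 F21869 (iv6 F43005)
theorem F87681 : act 1 n27401 = n55398 := d15_0 (iv0 D55398) D55401 F87677
theorem F87682 : act 1 n27399 = n55401 := d15_1 D27399 (iv7 D55401) F43003
theorem F87683 : act 0 n27398 = n55401 := d21_10 F87679 (iv1 F43010) D27396 (iv6 F87672) (iv1 F87681) F44282 F44281 (iv1 F43002) D55396 (iv6 F87670)
def n55402 : Q := act 0 n26766
theorem D55402 : act 0 n26766 = n55402 := rfl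
def n55403 : Q := act 1 n26766
theorem D55403 : act 1 n26766 = n55403 := rfl
def n55404 : Q := act 7 n26766
theorem D55404 : act 7 n26766 = n55404 := rfl
theorem F87685 : act 2 n55404 = n40563 := d4_1 D55404 (iv7 D40563) (iv2 F43012)
theorem F87686 : act 3 n55404 = n26772 := d8_1 D55404 (iv7 D26772) (iv3 F43013)
theorem F87689 : act 1 n40563 = n55402 := d15_0 (iv0 D55402) D55404 F87685
theorem F87690 : act 1 n40562 = n55404 := d15_1 D40562 (iv7 D55404) F43012
def n55405 : Q := act 0 n26767
theorem D55405 : act 0 n26767 = n55405 := rfl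
theorem F87692 : act 1 n27380 = n55405 := d15_0 (iv0 D55405) F43015 D27380
def n55406 : Q := act 1 n26767
theorem D55406 : act 1 n26767 = n55406 := rfl
theorem F87693 : act 3 n33365 = n55406 := d20_3 F43037 D28524 (iv4 F52599) (iv1 D55406) (iv3 D26767) (iv4 D12808) (iv1 D6060) D6061 D12812 D26779
theorem F87694 : act 4 n33090 = n55406 := d20_6 (iv4 D8373) (iv1 D3757) D3758 (iv3 F11727) D15961 D33090 (iv1 D55406) (iv4 F57736) (iv3 D36819) (iv1 F28860)
theorem F87695 : act 7 n55406 = n27379 := d11_2 F86498 F87694 (iv4 F86497)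
theorem F87696 : act 2 n27379 = n55405 := d15_3 (iv0 D55405) D55406 F87695
theorem F87697 : act 2 n55406 = n27378 := d15_3 (iv0 D27378) D27379 (iv7 F87695)
theorem F87698 : act 7 n27378 = n55405 := d4_2 (iv7 F87695) F87697 (iv2 F87696)
theorem F87699 : act 1 n55406 = n27380 := d15_0 F87692 (iv7 F87698) (iv2 F87697)
def n55407 : Q := act 2 n26767
theorem D55407 : act 2 n26767 = n55407 := rfl
theorem F87700 : act 3 n55407 = n27341 := d0_2 D26767 D55407 (iv2 D27341) (iv3 D13102) (iv2 F21263)
theorem F87701 : act 7 n55407 = n27380 := d4_2 (iv7 F43015) D55407 (iv2 D27380)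
theorem F87702 : act 1 n55407 = n27378 := d15_0 (iv0 D27378) (iv7 F43015) D55407
theorem F87703 : act 1 n27379 = n55407 := d15_0 F87702 F87698 (iv2 F87696)
def n55408 : Q := act 5 n26767
theorem D55408 : act 5 n26767 = n55408 := rfl
theorem F87704 : act 3 n55408 = n26768 := d6_1 D55408 (iv5 D26768) D26767
theorem F87705 : act 7 n55408 = n27381 := d13_2 (iv7 F43015) D55408 (iv5 D27381)
def n55409 : Q := act 6 n26767
theorem D55409 : act 6 n26767 = n55409 := rfl
theorem F87706 : act 3 n55409 = n26769 := d7_1 D55409 (iv6 D26769) D26767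
def n55410 : Q := act 6 n26768
theorem D55410 : act 6 n26768 = n55410 := rfl
theorem F87707 : act 2 n55410 = n27346 := d3_1 D55410 (iv6 D27346) (iv2 F43016)
def n55411 : Q := act 0 n26769
theorem D55411 : act 0 n26769 = n55411 := rfl
def n55412 : Q := act 1 n26769
theorem D55412 : act 1 n26769 = n55412 := rfl
theorem F87708 : act 1 n55412 = n27350 := d15_1 D55412 (iv7 D27350) (iv2 F43018)
def n55413 : Q := act 5 n26769
theorem D55413 : act 5 n26769 = n55413 := rfl
theorem F87709 : act 2 n55413 = n27349 := d2_1 D55413 (iv5 D27349) (iv2 F43018)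
def n55414 : Q := act 7 n26769
theorem D55414 : act 7 n26769 = n55414 := rfl
theorem F87710 : act 2 n55414 = n27350 := d4_1 D55414 (iv7 D27350) (iv2 F43018)
theorem F87711 : act 4 n55414 = n26772 := d11_1 D55414 (iv7 D26772) (iv4 F43019)
theorem F87712 : act 6 n55414 = n27387 := d14_1 D55414 (iv7 D27387) (iv6 D13118) (iv7 F21264) D26769
theorem F87713 : act 1 n27350 = n55411 := d15_0 (iv0 D55411) D55414 F87710
theorem F87714 : act 1 n27348 = n55414 := d15_1 D27348 (iv7 D55414) F43018
theorem F87715 : act 1 n55414 = n27347 := d15_0 (iv0 D27347) D27350 (iv2 F87710)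
def n55415 : Q := act 2 n26770
theorem D55415 : act 2 n26770 = n55415 := rfl
theorem F87716 : act 7 n26771 = n55415 := d15_2 (iv0 D26770) D26771 (iv2 D55415)
def n55418 : Q := act 6 n26770
theorem D55418 : act 6 n26770 = n55418 := rfl
def n55419 : Q := act 7 n26770
theorem D55419 : act 7 n26770 = n55419 := rfl
theorem F87717 : act 2 n55419 = n26771 := d4_1 D55419 F87716 (iv2 D55415)
def n55420 : Q := act 3 n26771
theorem D55420 : act 3 n26771 = n55420 := rfl
def n55421 : Q := act 4 n26771
theorem D55421 : act 4 n26771 = n55421 := rfl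
def n55422 : Q := act 6 n26771
theorem D55422 : act 6 n26771 = n55422 := rfl
def n55423 : Q := act 0 n26773
theorem D55423 : act 0 n26773 = n55423 := rfl
def n55424 : Q := act 1 n26773
theorem D55424 : act 1 n26773 = n55424 := rfl
def n55425 : Q := act 2 n26773
theorem D55425 : act 2 n26773 = n55425 := rfl
def n55426 : Q := act 5 n26773
theorem D55426 : act 5 n26773 = n55426 := rfl
theorem F87718 : act 3 n55426 = n26774 := d6_1 D55426 (iv5 D26774) D26773
theorem F87719 : act 7 n55426 = n27554 := d13_2 F44224 D55426 F44461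
def n55427 : Q := act 6 n26773
theorem D55427 : act 6 n26773 = n55427 := rfl
theorem F87720 : act 3 n55427 = n26775 := d7_1 D55427 (iv6 D26775) D26773
def n55428 : Q := act 6 n26774
theorem D55428 : act 6 n26774 = n55428 := rfl
theorem F87721 : act 2 n55428 = n27557 := d3_1 D55428 (iv6 D27557) (iv2 F43027)
theorem F87722 : act 4 n55428 = n55410 := d10_1 D55428 (iv6 D55410) (iv4 F43029)
def n55429 : Q := act 0 n26775
theorem D55429 : act 0 n26775 = n55429 := rfl
def n55430 : Q := act 1 n26775
theorem D55430 : act 1 n26775 = n55430 := rfl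
def n55432 : Q := act 7 n26775
theorem D55432 : act 7 n26775 = n55432 := rfl
def n55433 : Q := act 0 n26776
theorem D55433 : act 0 n26776 = n55433 := rfl
def n55434 : Q := act 1 n26776
theorem D55434 : act 1 n26776 = n55434 := rfl
def n55435 : Q := act 2 n26776
theorem D55435 : act 2 n26776 = n55435 := rfl
def n55436 : Q := act 6 n26776
theorem D55436 : act 6 n26776 = n55436 := rfl
theorem F87723 : act 3 n55436 = n26778 := d7_1 D55436 (iv6 D26778) D26776
def n55437 : Q := act 6 n26777
theorem D55437 : act 6 n26777 = n55437 := rfl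
theorem F87724 : act 2 n55437 = n27555 := d3_1 D55437 (iv6 D27555) (iv2 F43032)
theorem F87725 : act 4 n55437 = n55383 := d10_1 D55437 (iv6 D55383) (iv4 F43033)
def n55438 : Q := act 0 n26778
theorem D55438 : act 0 n26778 = n55438 := rfl
def n55439 : Q := act 1 n26778
theorem D55439 : act 1 n26778 = n55439 := rfl
def n55440 : Q := act 5 n26778
theorem D55440 : act 5 n26778 = n55440 := rfl
def n55441 : Q := act 7 n26778
theorem D55441 : act 7 n26778 = n55441 := rfl
def n55442 : Q := act 3 n26779
theorem D55442 : act 3 n26779 = n55442 := rfl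
theorem F87726 : act 4 n55442 = n36540 := d5_2 (iv4 F43037) D55442 (iv3 F57388) F56660 F46089
theorem F87727 : act 5 n55442 = n33676 := d6_2 F43039 D55442 (iv3 D33676)
def n55443 : Q := act 6 n26779
theorem D55443 : act 6 n26779 = n55443 := rfl
theorem F87729 : act 2 n55443 = n34366 := d3_1 D55443 (iv6 D34366) F43056
theorem F87730 : act 4 n55443 = n28525 := d10_1 D55443 (iv6 D28525) (iv4 F43037)
def n55444 : Q := act 3 n26780
theorem D55444 : act 3 n26780 = n55444 := rfl
theorem F87731 : act 4 n55444 = n33097 := d5_2 F43045 D55444 (iv3 F52320) (iv4 D32418) F43047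
theorem F87732 : act 5 n55444 = n33052 := d6_2 F43044 D55444 F52277
theorem F87733 : act 7 n55444 = n34365 := d8_2 F43057 D55444 (iv3 D34365)
def n55445 : Q := act 6 n26780
theorem D55445 : act 6 n26780 = n55445 := rfl
theorem F87734 : act 2 n55445 = n34364 := d3_1 D55445 (iv6 D34364) (iv2 F43067)
theorem F87735 : act 4 n55445 = n28575 := d10_1 D55445 (iv6 D28575) F43045
def n55446 : Q := act 6 n26781
theorem D55446 : act 6 n26781 = n55446 := rfl
theorem F87736 : act 2 n55446 = n26783 := d3_1 D55446 (iv6 D26783) D26781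
theorem F87737 : act 4 n55446 = n26800 := d10_1 D55446 (iv6 D26800) (iv4 F43040)
def n55447 : Q := act 4 n26782
theorem D55447 : act 4 n26782 = n55447 := rfl
theorem F87738 : act 2 n55447 = n32788 := d1_1 D55447 (iv4 F52933) (iv2 F52934)
theorem F87739 : act 5 n55447 = n28532 := d9_2 D26782 D55447 (iv4 D28532) F25731 F11863 F25728 D16147 D33431 F52712 (iv5 D32387) (iv4 D15291) (iv5 D7239) (iv4 F5526) (iv5 F9420) (iv4 F21267)
theorem F87740 : act 7 n55447 = n34367 := d11_2 (iv7 F43070) D55447 (iv4 D34367)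
theorem F87741 : act 0 n55447 = n33587 := d17_0 (iv5 D33587) F25783 (iv5 F46211) F46210 (iv5 D16222) F21942 D27539 F44431 D55447
theorem F87742 : act 3 n27757 = n52739 := d20_3 D55447 F87741 F52881 (iv1 D52739) F40507 (iv4 D15945) D15943 D33057 F52279 F44436
theorem F87743 : act 5 n52739 = n27756 := d6_2 D27757 F87742 (iv3 D27756)
theorem F87744 : act 7 n52739 = n33599 := d8_2 (iv7 F44817) F87742 F52890
theorem F87745 : act 2 n33599 = n52738 := d15_3 (iv0 D52738) D52739 F87744
theorem F87746 : act 5 n52738 = n33598 := d2_2 D33599 F87745 (iv2 D33598)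
def n55448 : Q := act 6 n26782
theorem D55448 : act 6 n26782 = n55448 := rfl
theorem F87747 : act 3 n55448 = n26785 := d7_1 D55448 (iv6 D26785) (iv3 F43069)
def n55449 : Q := act 0 n26783
theorem D55449 : act 0 n26783 = n55449 := rfl
def n55450 : Q := act 1 n26783
theorem D55450 : act 1 n26783 = n55450 := rfl
def n55451 : Q := act 5 n26783
theorem D55451 : act 5 n26783 = n55451 := rfl
theorem F87748 : act 3 n55451 = n26788 := d6_1 D55451 (iv5 D26788) (iv3 F43071)
def n55452 : Q := act 7 n26783
theorem D55452 : act 7 n26783 = n55452 := rfl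
theorem F87749 : act 3 n55452 = n26789 := d8_1 D55452 (iv7 D26789) (iv3 F43071)
theorem F87750 : act 4 n55452 = n26804 := d11_1 D55452 (iv7 D26804) (iv4 F43072)
theorem F87751 : act 6 n55452 = n34372 := d14_1 D55452 (iv7 D34372) (iv6 D16660) (iv7 F21268) D26783
def n55453 : Q := act 3 n26784
theorem D55453 : act 3 n26784 = n55453 := rfl
theorem F87752 : act 5 n55453 = n35109 := d6_2 (iv5 F43075) D55453 (iv3 D35109)
theorem F87753 : act 7 n55453 = n55363 := d8_2 (iv7 F43074) D55453 F87624
def n55454 : Q := act 6 n26784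
theorem D55454 : act 6 n26784 = n55454 := rfl
theorem F87754 : act 2 n55454 = n35116 := d3_1 D55454 (iv6 D35116) (iv2 F43073)
theorem F87755 : act 4 n55454 = n26785 := d10_1 D55454 (iv6 D26785) D26784
def n55455 : Q := act 0 n26785
theorem D55455 : act 0 n26785 = n55455 := rfl
def n55456 : Q := act 1 n26785
theorem D55456 : act 1 n26785 = n55456 := rfl
def n55457 : Q := act 5 n26785
theorem D55457 : act 5 n26785 = n55457 := rfl
theorem F87756 : act 6 n55457 = n26788 := d12_2 D26785 D55457 (iv5 D26788) (iv6 D12814) D12813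
def n55458 : Q := act 7 n26785
theorem D55458 : act 7 n26785 = n55458 := rfl
def n55459 : Q := act 2 n26786
theorem D55459 : act 2 n26786 = n55459 := rfl
theorem F87757 : act 7 n26787 = n55459 := d15_2 (iv0 D26786) D26787 (iv2 D55459)
def n55460 : Q := act 3 n26786
theorem D55460 : act 3 n26786 = n55460 := rfl
def n55461 : Q := act 4 n26786
theorem D55461 : act 4 n26786 = n55461 := rfl
theorem F87758 : act 3 n55461 = n40493 := d20_3 (iv4 F21269) D26786 D55461 (iv1 F61587) F56751 (iv4 F56780) (iv1 F57797) F59745 (iv3 D26796) (iv1 D12816)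
def n55462 : Q := act 5 n26786
theorem D55462 : act 5 n26786 = n55462 := rfl
def n55463 : Q := act 6 n26786
theorem D55463 : act 6 n26786 = n55463 := rfl
def n55464 : Q := act 7 n26786
theorem D55464 : act 7 n26786 = n55464 := rfl
theorem F87759 : act 2 n55464 = n26787 := d4_1 D55464 F87757 (iv2 D55459)
def n55465 : Q := act 3 n26787
theorem D55465 : act 3 n26787 = n55465 := rfl
def n55466 : Q := act 4 n26787
theorem D55466 : act 4 n26787 = n55466 := rfl
theorem F87760 : act 3 n55466 = n36647 := d20_9 (iv4 F57503) F57504 (iv4 D34617) (iv3 D16775) (iv1 F27470) (iv3 F42987) (iv4 F87632) (iv1 F87634) D55466 (iv1 D36647)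
def n55467 : Q := act 5 n26787
theorem D55467 : act 5 n26787 = n55467 := rfl
def n55468 : Q := act 6 n26787
theorem D55468 : act 6 n26787 = n55468 := rfl
def n55469 : Q := act 0 n26788
theorem D55469 : act 0 n26788 = n55469 := rfl
def n55470 : Q := act 1 n26788
theorem D55470 : act 1 n26788 = n55470 := rfl
def n55471 : Q := act 4 n26788
theorem D55471 : act 4 n26788 = n55471 := rfl
def n55472 : Q := act 7 n26788
theorem D55472 : act 7 n26788 = n55472 := rfl
theorem F87761 : act 5 n55472 = n26789 := d13_1 D55472 (iv7 D26789) D26788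
def n55475 : Q := act 3 n26790
theorem D55475 : act 3 n26790 = n55475 := rfl
theorem F87764 : act 7 n55475 = n26796 := d8_2 F43079 D55475 (iv3 D26796)
def n55476 : Q := act 4 n26790
theorem D55476 : act 4 n26790 = n55476 := rfl
theorem F87765 : act 2 n55476 = n26792 := d1_1 D55476 (iv4 D26792) D26790
theorem F87766 : act 7 n55476 = n26797 := d11_2 F43079 D55476 (iv4 D26797)
def n55477 : Q := act 5 n26790
theorem D55477 : act 5 n26790 = n55477 := rfl
theorem F87767 : act 2 n55477 = n26793 := d2_1 D55477 (iv5 D26793) D26790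
theorem F87768 : act 7 n55477 = n26798 := d13_2 F43079 D55477 (iv5 D26798)
def n55478 : Q := act 6 n26790
theorem D55478 : act 6 n26790 = n55478 := rfl
theorem F87769 : act 2 n55478 = n26794 := d3_1 D55478 (iv6 D26794) D26790
def n55479 : Q := act 0 n26791
theorem D55479 : act 0 n26791 = n55479 := rfl
def n55480 : Q := act 1 n26791
theorem D55480 : act 1 n26791 = n55480 := rfl
def n55481 : Q := act 2 n26791
theorem D55481 : act 2 n26791 = n55481 := rfl
def n55482 : Q := act 4 n26791
theorem D55482 : act 4 n26791 = n55482 := rfl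
theorem F87770 : act 0 n55482 = n35283 := d20_7 (iv4 F29959) (iv1 D12823) F9423 (iv3 F9418) D12815 D26791 D55482 F56009 F28073 (iv1 F13133)
theorem F87771 : act 5 n55480 = n27590 := d18_9 (iv1 D27590) D27592 F44489 F30301 (iv5 F28074) (iv4 F56009) (iv0 F87770) (iv4 D55482) D55480
theorem F87772 : act 0 n35273 = n55482 := d20_1 (iv4 F55998) (iv4 D55482) (iv3 D26791) (iv1 F42991) F42987 (iv4 F54723) (iv1 F54725) D34597 (iv3 F56000) (iv1 D35275)
theorem F87773 : act 2 n34719 = n55480 := d2_3 F87771 F61229 (iv5 F61599)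
theorem F87774 : act 3 n38765 = n55480 := d6_3 F87771 F61230 D38765
def n55483 : Q := act 5 n26791
theorem D55483 : act 5 n26791 = n55483 := rfl
theorem F87775 : act 3 n55483 = n26793 := d6_1 D55483 (iv5 D26793) D26791
def n55484 : Q := act 6 n26791
theorem D55484 : act 6 n26791 = n55484 := rfl
theorem F87776 : act 3 n55484 = n26794 := d7_1 D55484 (iv6 D26794) D26791
def n55485 : Q := act 7 n26791
theorem D55485 : act 7 n26791 = n55485 := rfl
theorem F87777 : act 3 n55485 = n26795 := d8_1 D55485 (iv7 D26795) D26791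
def n55486 : Q := act 0 n26792
theorem D55486 : act 0 n26792 = n55486 := rfl
def n55487 : Q := act 1 n26792
theorem D55487 : act 1 n26792 = n55487 := rfl
theorem F87778 : act 1 n55487 = n26797 := d15_1 D55487 (iv7 F87766) F87765
def n55488 : Q := act 3 n26792
theorem D55488 : act 3 n26792 = n55488 := rfl
def n55489 : Q := act 5 n26792
theorem D55489 : act 5 n26792 = n55489 := rfl
def n55490 : Q := act 6 n26792
theorem D55490 : act 6 n26792 = n55490 := rfl
theorem F87779 : act 4 n55490 = n26794 := d10_1 D55490 (iv6 D26794) D26792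
def n55491 : Q := act 7 n26792
theorem D55491 : act 7 n26792 = n55491 := rfl
theorem F87780 : act 2 n55491 = n26797 := d4_1 D55491 (iv7 F87766) F87765
theorem F87781 : act 4 n55491 = n26795 := d11_1 D55491 (iv7 D26795) D26792
theorem F87782 : act 1 n26797 = n55486 := d15_0 (iv0 D55486) D55491 F87780
def n55492 : Q := act 0 n26793
theorem D55492 : act 0 n26793 = n55492 := rfl
theorem F87783 : act 5 n55492 = n27510 := d21_2 D26793 D55492 (iv6 D27510) (iv1 D13156) (iv6 D6262) (iv5 F14030) (iv1 D2556) D2558 D6062 D12815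
def n55493 : Q := act 1 n26793
theorem D55493 : act 1 n26793 = n55493 := rfl
theorem F87784 : act 1 n55493 = n26798 := d15_1 D55493 (iv7 F87768) F87767
def n55494 : Q := act 4 n26793
theorem D55494 : act 4 n26793 = n55494 := rfl
def n55495 : Q := act 6 n26793
theorem D55495 : act 6 n26793 = n55495 := rfl
theorem F87785 : act 0 n55495 = n27355 := d21_4 (iv5 F9419) D12815 D26793 D55495 (iv6 D27355) D27354 F44522 (iv5 D27623) (iv6 D13191) (iv1 D6270)
def n55496 : Q := act 7 n26793
theorem D55496 : act 7 n26793 = n55496 := rfl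
theorem F87786 : act 2 n55496 = n26798 := d4_1 D55496 (iv7 F87768) F87767
theorem F87787 : act 5 n55496 = n26795 := d13_1 D55496 (iv7 D26795) D26793
theorem F87788 : act 1 n26798 = n55492 := d15_0 (iv0 D55492) D55496 F87786
def n55497 : Q := act 0 n26794
theorem D55497 : act 0 n26794 = n55497 := rfl
def n55498 : Q := act 1 n26794
theorem D55498 : act 1 n26794 = n55498 := rfl
def n55499 : Q := act 5 n26794
theorem D55499 : act 5 n26794 = n55499 := rfl
theorem F87789 : act 0 n55499 = n27312 := d21_7 (iv5 F14030) (iv1 D2556) D2558 D6062 D12815 D26794 D55499 (iv5 D27312) (iv6 D13087) (iv1 F9703)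
theorem F87790 : act 0 n27624 = n55499 := d21_7 F42988 (iv1 F21915) D13190 (iv6 F21970) (iv1 F21914) D13192 D27624 (iv5 D55499) (iv6 D26794) (iv1 F42991)
def n55500 : Q := act 7 n26794
theorem D55500 : act 7 n26794 = n55500 := rfl
def n55501 : Q := act 6 n26795
theorem D55501 : act 6 n26795 = n55501 := rfl
theorem F87791 : act 2 n55501 = n26799 := d3_1 D55501 (iv6 D26799) (iv2 F43080)
def n55502 : Q := act 0 n26796
theorem D55502 : act 0 n26796 = n55502 := rfl
def n55503 : Q := act 1 n26796
theorem D55503 : act 1 n26796 = n55503 := rfl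
theorem F87792 : act 5 n55503 = n27612 := d18_9 (iv1 D27612) D27614 (iv1 F59773) F43374 F21371 (iv4 F28887) D36852 F59745 D55503
def n55504 : Q := act 2 n26796
theorem D55504 : act 2 n26796 = n55504 := rfl
def n55505 : Q := act 5 n26796
theorem D55505 : act 5 n26796 = n55505 := rfl
theorem F87793 : act 3 n55505 = n26798 := d6_1 D55505 (iv5 D26798) D26796
def n55506 : Q := act 6 n26796
theorem D55506 : act 6 n26796 = n55506 := rfl
theorem F87794 : act 3 n55506 = n26799 := d7_1 D55506 (iv6 D26799) D26796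
def n55507 : Q := act 3 n26797
theorem D55507 : act 3 n26797 = n55507 := rfl
def n55508 : Q := act 5 n26797
theorem D55508 : act 5 n26797 = n55508 := rfl
def n55509 : Q := act 6 n26797
theorem D55509 : act 6 n26797 = n55509 := rfl
theorem F87795 : act 4 n55509 = n26799 := d10_1 D55509 (iv6 D26799) D26797
def n55510 : Q := act 4 n26798
theorem D55510 : act 4 n26798 = n55510 := rfl
def n55511 : Q := act 0 n26799
theorem D55511 : act 0 n26799 = n55511 := rfl
def n55512 : Q := act 1 n26799
theorem D55512 : act 1 n26799 = n55512 := rfl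
def n55513 : Q := act 5 n26799
theorem D55513 : act 5 n26799 = n55513 := rfl
theorem F87796 : act 0 n27472 = n55513 := d21_1 D27472 (iv5 D55513) (iv6 D26799) (iv1 D12816) (iv6 D6062) (iv5 D2558) D2555 F14026 D6257 D13145
def n55514 : Q := act 7 n26799
theorem D55514 : act 7 n26799 = n55514 := rfl
def n55515 : Q := act 0 n26800
theorem D55515 : act 0 n26800 = n55515 := rfl
theorem F87797 : act 6 n55515 = n32205 := d21_5 F25818 D7735 (iv5 F21274) D26800 D55515 (iv5 D32205) (iv1 D15193) F11527 (iv6 D3448) D3445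
theorem F87798 : act 0 n55515 = n26804 := d21_4 (iv5 F51105) (iv1 F51107) D32205 (iv6 F87797) F43086 (iv5 F54486) (iv1 F54487) (iv5 D33725) (iv6 D16290) (iv1 F25774)
def n55516 : Q := act 1 n26800
theorem D55516 : act 1 n26800 = n55516 := rfl
theorem F87799 : act 1 n55516 = n26804 := d15_1 D55516 (iv7 D26804) (iv2 F43081)
def n55517 : Q := act 5 n26800
theorem D55517 : act 5 n26800 = n55517 := rfl
theorem F87800 : act 2 n55517 = n26803 := d2_1 D55517 (iv5 D26803) (iv2 F43081)
theorem F87801 : act 3 n55517 = n32034 := d6_1 D55517 F50664 (iv3 F43082)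
theorem F87802 : act 6 n55517 = n32032 := d12_2 D26800 D55517 F50661 (iv6 D16635) (iv5 F21274)
def n55518 : Q := act 7 n26800
theorem D55518 : act 7 n26800 = n55518 := rfl
theorem F87803 : act 2 n55518 = n26804 := d4_1 D55518 (iv7 D26804) (iv2 F43081)
theorem F87804 : act 3 n55518 = n34673 := d8_1 D55518 (iv7 D34673) (iv3 F43082)
theorem F87805 : act 6 n55518 = n33436 := d14_1 D55518 (iv7 D33436) (iv6 D16149) F25726 D26800
theorem F87806 : act 1 n26802 = n55518 := d15_1 D26802 (iv7 D55518) F43081
theorem F87807 : act 1 n55518 = n26801 := d15_0 (iv0 D26801) D26804 (iv2 F87803)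
def n55519 : Q := act 2 n26801
theorem D55519 : act 2 n26801 = n55519 := rfl
theorem F87808 : act 7 n26802 = n55519 := d15_2 (iv0 D26801) D26802 (iv2 D55519)
def n55520 : Q := act 3 n26801
theorem D55520 : act 3 n26801 = n55520 := rfl
def n55521 : Q := act 4 n26801
theorem D55521 : act 4 n26801 = n55521 := rfl
def n55522 : Q := act 5 n26801
theorem D55522 : act 5 n26801 = n55522 := rfl
def n55523 : Q := act 6 n26801
theorem D55523 : act 6 n26801 = n55523 := rfl
theorem F87809 : act 5 n55523 = n32148 := d21_6 F27160 (iv1 F27157) (iv5 F9420) D12821 D26801 D55523 (iv1 D32148) F24806 (iv6 D7565) (iv1 F9800)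
def n55524 : Q := act 7 n26801
theorem D55524 : act 7 n26801 = n55524 := rfl
theorem F87810 : act 2 n55524 = n26802 := d4_1 D55524 F87808 (iv2 D55519)
def n55525 : Q := act 3 n26802
theorem D55525 : act 3 n26802 = n55525 := rfl
def n55526 : Q := act 4 n26802
theorem D55526 : act 4 n26802 = n55526 := rfl
def n55527 : Q := act 5 n26802
theorem D55527 : act 5 n26802 = n55527 := rfl
def n55528 : Q := act 6 n26802
theorem D55528 : act 6 n26802 = n55528 := rfl
def n55529 : Q := act 0 n26803
theorem D55529 : act 0 n26803 = n55529 := rfl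
def n55530 : Q := act 1 n26803
theorem D55530 : act 1 n26803 = n55530 := rfl
def n55531 : Q := act 4 n26803
theorem D55531 : act 4 n26803 = n55531 := rfl
theorem F87811 : act 6 n55531 = n34385 := d10_2 (iv6 F43084) D55531 (iv4 D34385)
def n55532 : Q := act 7 n26803
theorem D55532 : act 7 n26803 = n55532 := rfl
theorem F87812 : act 3 n55532 = n26814 := d8_1 D55532 (iv7 D26814) (iv3 F43083)
theorem F87813 : act 5 n55532 = n26804 := d13_1 D55532 (iv7 D26804) D26803
def n55533 : Q := act 0 n26806
theorem D55533 : act 0 n26806 = n55533 := rfl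
theorem F87814 : act 1 n34697 = n55533 := d15_0 (iv0 D55533) (iv7 F51334) D34697
def n55534 : Q := act 1 n26806
theorem D55534 : act 1 n26806 = n55534 := rfl
def n55535 : Q := act 2 n26806
theorem D55535 : act 2 n26806 = n55535 := rfl
theorem F87815 : act 3 n55535 = n34690 := d0_2 D26806 D55535 (iv2 D34690) (iv3 D16797) F51245
theorem F87816 : act 7 n55535 = n34697 := d4_2 F51334 D55535 (iv2 D34697)
theorem F87817 : act 1 n55535 = n34695 := d15_0 (iv0 D34695) F51334 D55535
theorem F87819 : act 1 n34696 = n55535 := d15_1 D34696 F87816 (iv2 D34697)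
def n55536 : Q := act 4 n26806
theorem D55536 : act 4 n26806 = n55536 := rfl
theorem F87820 : act 3 n55536 = n36671 := d5_1 D55536 (iv4 D36671) (iv3 D17671) (iv4 F29955) D26806
theorem F87821 : act 7 n55536 = n34698 := d11_2 F51334 D55536 (iv4 D34698)
def n55537 : Q := act 5 n26806
theorem D55537 : act 5 n26806 = n55537 := rfl
theorem F87822 : act 3 n55537 = n26807 := d6_1 D55537 (iv5 D26807) D26806
theorem F87823 : act 7 n55537 = n34699 := d13_2 F51334 D55537 (iv5 D34699)
def n55538 : Q := act 4 n26807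
theorem D55538 : act 4 n26807 = n55538 := rfl
theorem F87824 : act 2 n55538 = n34694 := d1_1 D55538 (iv4 D34694) (iv2 F51333)
theorem F87825 : act 7 n55538 = n34701 := d11_2 F51335 D55538 (iv4 D34701)
theorem F87826 : act 5 n55538 = n27819 := d16_1 D55538 (iv4 D27819) (iv5 F42955) F42954 (iv5 D17678) (iv4 F29959) D26810 F51332 (iv2 F51333)
def n55539 : Q := act 0 n26809
theorem D55539 : act 0 n26809 = n55539 := rfl
theorem F87827 : act 1 n34690 = n55539 := d15_0 (iv0 D55539) F51331 D34690
def n55540 : Q := act 1 n26809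
theorem D55540 : act 1 n26809 = n55540 := rfl
def n55541 : Q := act 2 n26809
theorem D55541 : act 2 n26809 = n55541 := rfl
theorem F87829 : act 7 n55541 = n34690 := d4_2 (iv7 F51331) D55541 (iv2 D34690)
theorem F87831 : act 1 n55540 = n34690 := d15_1 D55540 (iv7 F87829) (iv2 D55541)
def n55542 : Q := act 4 n26809
theorem D55542 : act 4 n26809 = n55542 := rfl
theorem F87833 : act 3 n55542 = n36677 := d5_1 D55542 (iv4 D36677) (iv3 D17676) (iv4 F29959) D26809
theorem F87834 : act 7 n55542 = n34691 := d11_2 (iv7 F51331) D55542 (iv4 D34691)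
def n55543 : Q := act 5 n26809
theorem D55543 : act 5 n26809 = n55543 := rfl
theorem F87835 : act 3 n55543 = n26810 := d6_1 D55543 (iv5 D26810) D26809
theorem F87836 : act 7 n55543 = n34692 := d13_2 (iv7 F51331) D55543 (iv5 D34692)
def n55544 : Q := act 6 n26809
theorem D55544 : act 6 n26809 = n55544 := rfl
theorem F87837 : act 3 n55544 = n26811 := d7_1 D55544 (iv6 D26811) D26809
def n55545 : Q := act 4 n26810
theorem D55545 : act 4 n26810 = n55545 := rfl
theorem F87838 : act 2 n55545 = n34701 := d1_1 D55545 (iv4 D34701) (iv2 F51336)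
theorem F87839 : act 5 n55545 = n27814 := d9_2 D26810 D55545 (iv4 D27814) D27815 F44923 (iv5 D17673) (iv4 F29955) D26807 D55538 F87826 (iv4 D27819) (iv5 F42955) F42954 (iv5 D17678) (iv4 F29959)
theorem F87840 : act 7 n55545 = n34694 := d11_2 (iv7 F51332) D55545 (iv4 D34694)
def n55546 : Q := act 6 n26810
theorem D55546 : act 6 n26810 = n55546 := rfl
theorem F87841 : act 2 n55546 = n34702 := d3_1 D55546 (iv6 D34702) (iv2 F51336)
theorem F87842 : act 0 n54007 = n55546 := d21_4 F24715 (iv1 F20620) D26119 D54007 (iv6 D55546) (iv5 D26810) (iv1 D12823) D12824 F21282 F24716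
def n55547 : Q := act 3 n26812
theorem D55547 : act 3 n26812 = n55547 := rfl
theorem F87843 : act 7 n55547 = n34706 := d8_2 (iv7 F43093) D55547 (iv3 D34706)
def n55548 : Q := act 4 n26812
theorem D55548 : act 4 n26812 = n55548 := rfl
theorem F87844 : act 2 n55548 = n34704 := d1_1 D55548 (iv4 D34704) F43092
theorem F87845 : act 5 n55548 = n27808 := d9_2 F44897 D55548 (iv4 D27808) (iv5 D13271) (iv4 F29958) (iv5 F13873) F28969 D18686 D39428 F60362 (iv4 D27799) (iv5 D13266) (iv4 F29956) (iv5 F28551) (iv4 F44896)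
theorem F87846 : act 7 n55548 = n34707 := d11_2 (iv7 F43093) D55548 (iv4 D34707)
theorem F87847 : act 1 n55548 = n32402 := d18_6 (iv1 F30421) F28549 D17562 (iv4 F44896) F44897 D55548 (iv4 D32402) (iv0 F30443) (iv5 D18810)
def n55549 : Q := act 6 n26812
theorem D55549 : act 6 n26812 = n55549 := rfl
theorem F87848 : act 2 n55549 = n34705 := d3_1 D55549 (iv6 D34705) F43092
theorem F87849 : act 5 n55549 = n32995 := d12_1 D55549 (iv6 F60382) F60379 (iv6 F44898) F44897
def n55550 : Q := act 0 n26813
theorem D55550 : act 0 n26813 = n55550 := rfl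
theorem F87850 : act 5 n55550 = n27882 := d17_3 (iv1 F44927) (iv5 F43097) D55550 (iv4 D27882) (iv5 D13293) F22079 D27847 F44965 (iv4 F44926)
theorem F87851 : act 4 n55550 = n27857 := d18_1 D55550 (iv1 F51455) (iv4 F61219) (iv5 D40249) (iv4 D19013) D19012 F44966 F44928 (iv5 F43097)
theorem F87852 : act 2 n34709 = n55550 := d15_3 (iv0 D55550) (iv0 F60491) F60489
theorem F87853 : act 1 n27824 = n55550 := d15_0 (iv0 D55550) (iv7 F43098) (iv2 F44930)
theorem F87854 : act 7 n55550 = n34710 := d15_2 F60492 F87853 (iv2 F60488)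
def n55551 : Q := act 3 n26813
theorem D55551 : act 3 n26813 = n55551 := rfl
theorem F87855 : act 5 n55551 = n39492 := d6_2 (iv5 F43097) D55551 F60393
theorem F87856 : act 6 n55551 = n34409 := d7_2 (iv6 F43096) D55551 (iv3 D34409)
theorem F87857 : act 7 n55551 = n39491 := d8_2 F43098 D55551 F60392
def n55552 : Q := act 6 n26814
theorem D55552 : act 6 n26814 = n55552 := rfl
theorem F87858 : act 2 n55552 = n34712 := d3_1 D55552 (iv6 D34712) (iv2 F43099)
theorem F87859 : act 4 n55552 = n39493 := d10_1 D55552 (iv6 D39493) (iv4 F43100)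
theorem F87860 : act 5 n55552 = n34357 := d12_1 D55552 (iv6 D34357) F27133 (iv6 F21285) (iv5 F43101)
theorem F87861 : act 7 n55552 = n32002 := d14_2 D26814 D55552 (iv6 D32002) F24713 (iv6 F21282)
def n55553 : Q := act 2 n26821
theorem D55553 : act 2 n26821 = n55553 := rfl
theorem F87862 : act 7 n26822 = n55553 := d15_2 (iv0 D26821) D26822 (iv2 D55553)
def n55554 : Q := act 3 n26821
theorem D55554 : act 3 n26821 = n55554 := rfl
def n55555 : Q := act 4 n26821
theorem D55555 : act 4 n26821 = n55555 := rfl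
def n55556 : Q := act 5 n26821
theorem D55556 : act 5 n26821 = n55556 := rfl
def n55557 : Q := act 6 n26821
theorem D55557 : act 6 n26821 = n55557 := rfl
def n55558 : Q := act 7 n26821
theorem D55558 : act 7 n26821 = n55558 := rfl
def n55559 : Q := act 3 n26822
theorem D55559 : act 3 n26822 = n55559 := rfl
def n55560 : Q := act 4 n26822
theorem D55560 : act 4 n26822 = n55560 := rfl
def n55561 : Q := act 5 n26822
theorem D55561 : act 5 n26822 = n55561 := rfl
def n55563 : Q := act 4 n26823
theorem D55563 : act 4 n26823 = n55563 := rfl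
theorem F87864 : act 2 n55563 = n26824 := d1_1 D55563 (iv4 D26824) D26823
theorem F87865 : act 7 n55563 = n34759 := d11_2 (iv7 F43182) D55563 (iv4 D34759)
theorem F87866 : act 1 n34763 = n55563 := d15_1 D34763 F87865 F54980
theorem F87867 : act 1 n55563 = n34762 := d15_0 (iv0 D34762) (iv7 F43183) (iv2 F87864)
def n55564 : Q := act 5 n26823
theorem D55564 : act 5 n26823 = n55564 := rfl
theorem F87868 : act 2 n55564 = n26825 := d2_1 D55564 (iv5 D26825) D26823
theorem F87869 : act 3 n55564 = n34724 := d6_1 D55564 (iv5 D34724) F43206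
theorem F87870 : act 7 n55564 = n34760 := d13_2 (iv7 F43182) D55564 (iv5 D34760)
theorem F87871 : act 1 n34768 = n55564 := d15_1 D34768 F87870 F54981
theorem F87872 : act 1 n55564 = n34767 := d15_0 (iv0 D34767) (iv7 F43184) (iv2 F87868)
def n55565 : Q := act 6 n26823
theorem D55565 : act 6 n26823 = n55565 := rfl
theorem F87873 : act 2 n55565 = n26826 := d3_1 D55565 (iv6 D26826) D26823
theorem F87874 : act 3 n55565 = n34725 := d7_1 D55565 (iv6 D34725) F43206
theorem F87875 : act 5 n39849 = n55565 := d2_0 F87873 (iv5 F43116) D39849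
def n55566 : Q := act 0 n26824
theorem D55566 : act 0 n26824 = n55566 := rfl
theorem F87876 : act 1 n34759 = n55566 := d15_0 (iv0 D55566) F43183 (iv2 F54980)
def n55567 : Q := act 1 n26824
theorem D55567 : act 1 n26824 = n55567 := rfl
def n55568 : Q := act 3 n26824
theorem D55568 : act 3 n26824 = n55568 := rfl
theorem F87878 : act 4 n55568 = n26828 := d5_2 D26824 D55568 (iv3 D26828) (iv4 D12828) D12827
theorem F87879 : act 7 n55568 = n34764 := d8_2 (iv7 F43183) D55568 (iv3 D34764)
def n55569 : Q := act 5 n26824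
theorem D55569 : act 5 n26824 = n55569 := rfl
theorem F87880 : act 7 n55569 = n34765 := d13_2 (iv7 F43183) D55569 (iv5 D34765)
def n55570 : Q := act 6 n26824
theorem D55570 : act 6 n26824 = n55570 := rfl
theorem F87881 : act 4 n55570 = n26826 := d10_1 D55570 (iv6 D26826) D26824
def n55571 : Q := act 0 n26825
theorem D55571 : act 0 n26825 = n55571 := rfl
theorem F87882 : act 1 n34760 = n55571 := d15_0 (iv0 D55571) F43184 (iv2 F54981)
def n55572 : Q := act 1 n26825
theorem D55572 : act 1 n26825 = n55572 := rfl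
theorem F87883 : act 1 n55572 = n34760 := d15_1 D55572 (iv7 F87870) F87868
def n55573 : Q := act 4 n26825
theorem D55573 : act 4 n26825 = n55573 := rfl
theorem F87884 : act 7 n55573 = n34769 := d11_2 (iv7 F43184) D55573 (iv4 D34769)
def n55574 : Q := act 6 n26825
theorem D55574 : act 6 n26825 = n55574 := rfl
theorem F87885 : act 3 n55574 = n26833 := d7_1 D55574 (iv6 D26833) (iv3 F43114)
theorem F87886 : act 5 n55574 = n39216 := d12_1 D55574 F60183 F43116 (iv6 D26826) D26825
theorem F87887 : act 7 n55574 = n34796 := d14_2 (iv7 F43184) D55574 (iv6 D34796) (iv7 F43169) F27998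
def n55575 : Q := act 0 n26826
theorem D55575 : act 0 n26826 = n55575 := rfl
def n55576 : Q := act 1 n26826
theorem D55576 : act 1 n26826 = n55576 := rfl
def n55577 : Q := act 7 n26826
theorem D55577 : act 7 n26826 = n55577 := rfl
theorem F87888 : act 3 n55577 = n26835 := d8_1 D55577 (iv7 D26835) (iv3 F43115)
theorem F87889 : act 5 n55577 = n27902 := d13_1 D55577 F45053 F43116
theorem F87890 : act 6 n55577 = n34773 := d14_1 D55577 (iv7 D34773) (iv6 D16842) F43160 D26826
def n55578 : Q := act 0 n26828
theorem D55578 : act 0 n26828 = n55578 := rfl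
theorem F87891 : act 1 n34776 = n55578 := d15_0 (iv0 D55578) F43180 D34776
def n55579 : Q := act 1 n26828
theorem D55579 : act 1 n26828 = n55579 := rfl
def n55580 : Q := act 2 n26828
theorem D55580 : act 2 n26828 = n55580 := rfl
theorem F87892 : act 3 n55580 = n34740 := d0_2 D26828 D55580 (iv2 D34740) (iv3 D16824) (iv2 F43147)
theorem F87893 : act 7 n55580 = n34776 := d4_2 (iv7 F43180) D55580 (iv2 D34776)
theorem F87894 : act 1 n55580 = n34774 := d15_0 (iv0 D34774) (iv7 F43180) D55580
theorem F87896 : act 1 n34775 = n55580 := d15_1 D34775 F87893 (iv2 D34776)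
def n55581 : Q := act 5 n26828
theorem D55581 : act 5 n26828 = n55581 := rfl
theorem F87897 : act 3 n55581 = n26829 := d6_1 D55581 (iv5 D26829) D26828
theorem F87898 : act 7 n55581 = n34777 := d13_2 (iv7 F43180) D55581 (iv5 D34777)
def n55582 : Q := act 6 n26828
theorem D55582 : act 6 n26828 = n55582 := rfl
theorem F87899 : act 3 n55582 = n26830 := d7_1 D55582 (iv6 D26830) D26828
theorem F87900 : act 5 n28482 = n55582 := d6_0 F87899 F43119 D28482
def n55583 : Q := act 4 n26829
theorem D55583 : act 4 n26829 = n55583 := rfl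
theorem F87901 : act 2 n55583 = n34744 := d1_1 D55583 (iv4 D34744) F43205
theorem F87902 : act 7 n55583 = n34779 := d11_2 (iv7 F43181) D55583 (iv4 D34779)
theorem F87903 : act 5 n55583 = n27822 := d16_1 D55583 (iv4 F44966) (iv5 F43242) (iv4 D26845) (iv5 D12834) D12833 D26843 F43235 F43205
def n55584 : Q := act 6 n26829
theorem D55584 : act 6 n26829 = n55584 := rfl
theorem F87904 : act 2 n55584 = n34745 := d3_1 D55584 (iv6 D34745) F43205
theorem F87905 : act 5 n55584 = n28483 := d12_1 D55584 (iv6 D28483) (iv5 F43119) (iv6 D26830) D26829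
theorem F87906 : act 0 n55584 = n54004 := d21_10 (iv5 D54004) (iv1 D26116) (iv5 F41312) (iv6 D26114) F26567 (iv6 F25202) (iv5 D15708) (iv1 F30449) D26829 D55584
theorem F87907 : act 0 n53999 = n55584 := d21_1 D53999 F87905 (iv6 D28483) (iv1 D13576) (iv6 D6460) (iv5 D2876) (iv1 F5276) D5892 D12383 D26115
def n55585 : Q := act 3 n26832
theorem D55585 : act 3 n26832 = n55585 := rfl
theorem F87908 : act 5 n55585 = n40244 := d6_2 (iv5 F43133) D55585 (iv3 D40244)
theorem F87909 : act 7 n55585 = n34781 := d8_2 F43207 D55585 (iv3 D34781)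
def n55586 : Q := act 3 n26834
theorem D55586 : act 3 n26834 = n55586 := rfl
theorem F87910 : act 6 n55586 = n37426 := d7_2 F43214 D55586 F58324
theorem F87911 : act 7 n55586 = n27282 := d8_2 (iv7 F43213) D55586 F44129
def n55587 : Q := act 3 n26836
theorem D55587 : act 3 n26836 = n55587 := rfl
theorem F87912 : act 2 n55587 = n38765 := d0_1 D55587 F87774 (iv2 F87773) (iv3 D34719) (iv2 F61597)
theorem F87913 : act 5 n55587 = n27859 := d6_2 (iv5 F61105) D55587 (iv3 D27859)
theorem F87914 : act 7 n55587 = n34714 := d8_2 (iv7 F61598) D55587 (iv3 D34714)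
def n55588 : Q := act 4 n26836
theorem D55588 : act 4 n26836 = n55588 := rfl
theorem F87915 : act 2 n55588 = n34720 := d1_1 D55588 (iv4 D34720) (iv2 F61597)
theorem F87916 : act 7 n55588 = n34715 := d11_2 (iv7 F61598) D55588 (iv4 D34715)
def n55591 : Q := act 4 n26837
theorem D55591 : act 4 n26837 = n55591 := rfl
theorem F87920 : act 2 n55591 = n34715 := d1_1 D55591 (iv4 D34715) (iv2 F61591)
theorem F87921 : act 7 n55591 = n34720 := d11_2 (iv7 F61592) D55591 (iv4 D34720)
def n55592 : Q := act 6 n26837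
theorem D55592 : act 6 n26837 = n55592 := rfl
theorem F87922 : act 2 n55592 = n34717 := d3_1 D55592 (iv6 D34717) (iv2 F61591)
theorem F87923 : act 7 n34786 = n55592 := d15_2 F61596 D34786 F87922
def n55593 : Q := act 5 n26838
theorem D55593 : act 5 n26838 = n55593 := rfl
theorem F87924 : act 2 n55593 = n26840 := d2_1 D55593 (iv5 D26840) D26838
theorem F87925 : act 3 n55593 = n34760 := d6_1 D55593 (iv5 D34760) (iv3 F43223)
theorem F87926 : act 7 n55593 = n34724 := d13_2 (iv7 F43224) D55593 (iv5 D34724)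
theorem F87927 : act 1 n34732 = n55593 := d15_1 D34732 F87926 F54961
theorem F87928 : act 6 n34787 = n55593 := d7_0 F87925 (iv6 F55853) F55852
theorem E8307 : n55592 = n35151 := ((c21_5 F61594 (iv1 F43225) D55593 (iv6 F87928) (iv1 F55870) (iv6 D55592) F59776 (iv1 D13288) F13662 (iv6 D8786) D8781)).symm
theorem F87930 : act 6 n35151 = n26837 := (sb E8307 (iv6 D55592))
theorem F87931 : act 7 n35151 = n34786 := (sb E8307 (iv7 F87923))
theorem F87934 : act 1 n55593 = n34731 := d15_0 (iv0 D34731) (iv7 F43230) (iv2 F87924)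
def n55594 : Q := act 6 n26838
theorem D55594 : act 6 n26838 = n55594 := rfl
theorem F87935 : act 2 n55594 = n26841 := d3_1 D55594 (iv6 D26841) D26838
theorem F87936 : act 3 n55594 = n34761 := d7_1 D55594 (iv6 D34761) (iv3 F43223)
def n55595 : Q := act 3 n26839
theorem D55595 : act 3 n26839 = n55595 := rfl
theorem F87937 : act 4 n55595 = n26842 := d5_2 D26839 D55595 (iv3 D26842) (iv4 D12833) D12832
theorem F87938 : act 7 n55595 = n34728 := d8_2 (iv7 F43228) D55595 (iv3 D34728)
def n55596 : Q := act 5 n26839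
theorem D55596 : act 5 n26839 = n55596 := rfl
theorem F87939 : act 7 n55596 = n34729 := d13_2 (iv7 F43228) D55596 (iv5 D34729)
def n55597 : Q := act 6 n26839
theorem D55597 : act 6 n26839 = n55597 := rfl
theorem F87940 : act 4 n55597 = n26841 := d10_1 D55597 (iv6 D26841) D26839
def n55598 : Q := act 0 n26840
theorem D55598 : act 0 n26840 = n55598 := rfl
theorem F87941 : act 1 n34724 = n55598 := d15_0 (iv0 D55598) F43230 (iv2 F54961)
def n55599 : Q := act 1 n26840
theorem D55599 : act 1 n26840 = n55599 := rfl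
theorem F87942 : act 1 n55599 = n34724 := d15_1 D55599 (iv7 F87926) F87924
def n55600 : Q := act 4 n26840
theorem D55600 : act 4 n26840 = n55600 := rfl
theorem F87943 : act 6 n55600 = n34788 := d10_2 F43231 D55600 (iv4 D34788)
theorem F87944 : act 7 n55600 = n34733 := d11_2 (iv7 F43230) D55600 (iv4 D34733)
def n55601 : Q := act 0 n26841
theorem D55601 : act 0 n26841 = n55601 := rfl
def n55602 : Q := act 1 n26841
theorem D55602 : act 1 n26841 = n55602 := rfl
def n55603 : Q := act 5 n26841
theorem D55603 : act 5 n26841 = n55603 := rfl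
theorem F87945 : act 3 n55603 = n26846 := d6_1 D55603 (iv5 D26846) (iv3 F43232)
theorem F87946 : act 6 n55603 = n34789 := d12_2 D26841 D55603 (iv5 D34789) F43231 (iv5 D26840)
theorem F87947 : act 7 n39023 = n55603 := d8_0 F87945 (iv7 F43248) D39023
def n55604 : Q := act 7 n26841
theorem D55604 : act 7 n26841 = n55604 := rfl
theorem F87948 : act 3 n55604 = n26847 := d8_1 D55604 (iv7 D26847) (iv3 F43232)
theorem F87949 : act 5 n55604 = n39023 := d13_1 D55604 F87947 (iv5 D55603)
theorem F87950 : act 6 n55604 = n34737 := d14_1 D55604 (iv7 D34737) (iv6 D16820) (iv7 F43151) D26841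
def n55605 : Q := act 0 n26842
theorem D55605 : act 0 n26842 = n55605 := rfl
theorem F87951 : act 1 n34740 = n55605 := d15_0 (iv0 D55605) F43233 D34740
def n55606 : Q := act 1 n26842
theorem D55606 : act 1 n26842 = n55606 := rfl
def n55607 : Q := act 2 n26842
theorem D55607 : act 2 n26842 = n55607 := rfl
theorem F87953 : act 7 n55607 = n34740 := d4_2 (iv7 F43233) D55607 (iv2 D34740)
theorem F87955 : act 1 n55606 = n34740 := d15_1 D55606 (iv7 F87953) (iv2 D55607)
def n55608 : Q := act 5 n26842
theorem D55608 : act 5 n26842 = n55608 := rfl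
theorem F87958 : act 7 n55608 = n34741 := d13_2 (iv7 F43233) D55608 (iv5 D34741)
def n55609 : Q := act 6 n26842
theorem D55609 : act 6 n26842 = n55609 := rfl
theorem F87959 : act 3 n55609 = n26844 := d7_1 D55609 (iv6 D26844) D26842
def n55610 : Q := act 4 n26843
theorem D55610 : act 4 n26843 = n55610 := rfl
theorem F87960 : act 2 n55610 = n34779 := d1_1 D55610 (iv4 D34779) (iv2 F43234)
theorem F87961 : act 5 n55610 = n27821 := d9_2 D26843 D55610 F44926 (iv5 F43133) (iv4 D26832) (iv5 D12829) D12828 D26829 D55583 F87903 (iv4 F44966) (iv5 F43242) (iv4 D26845) (iv5 D12834) D12833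
theorem F87962 : act 7 n55610 = n34744 := d11_2 (iv7 F43235) D55610 (iv4 D34744)
def n55611 : Q := act 6 n26843
theorem D55611 : act 6 n26843 = n55611 := rfl
theorem F87963 : act 2 n55611 = n34780 := d3_1 D55611 (iv6 D34780) (iv2 F43234)
theorem F87964 : act 0 n53882 = n55611 := d21_4 F24643 (iv1 F26560) (iv5 F41197) D53882 (iv6 D55611) (iv5 D26843) F30439 D15708 F25202 F24644
def n55612 : Q := act 3 n26845
theorem D55612 : act 3 n26845 = n55612 := rfl
theorem F87965 : act 5 n55612 = n40246 := d6_2 (iv5 F43242) D55612 (iv3 D40246)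
theorem F87966 : act 6 n55612 = n32793 := d7_2 (iv6 F43239) D55612 (iv3 D32793)
theorem F87967 : act 7 n55612 = n34747 := d8_2 (iv7 F43240) D55612 (iv3 D34747)
def n55613 : Q := act 6 n26850
theorem D55613 : act 6 n26850 = n55613 := rfl
def n55614 : Q := act 6 n26851
theorem D55614 : act 6 n26851 = n55614 := rfl
theorem F87970 : act 2 n55614 = n35959 := d3_1 D55614 (iv6 D35959) (iv2 F43267)
theorem F87971 : act 3 n55614 = n33058 := d7_1 D55614 (iv6 D33058) (iv3 F43268)
def n55615 : Q := act 5 n26852
theorem D55615 : act 5 n26852 = n55615 := rfl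
theorem F87972 : act 2 n55615 = n29612 := d2_1 D55615 (iv5 D29612) (iv2 F43271)
theorem F87973 : act 7 n55615 = n52896 := d13_2 F46655 D55615 F83586
theorem F87974 : act 1 n55615 = n52898 := d17_6 (iv1 F26991) (iv5 F42476) F43276 (iv5 D26853) (iv4 F43272) D55615 F83588 F54270 F23129
theorem F87975 : act 0 n55615 = n52874 := d21_7 (iv5 F20207) (iv1 F40611) F40612 (iv6 F50915) (iv1 F43255) D26852 D55615 (iv5 D52874) (iv6 D25662) F37261
def n55616 : Q := act 4 n26853
theorem D55616 : act 4 n26853 = n55616 := rfl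
theorem F87976 : act 2 n55616 = n29642 := d1_1 D55616 (iv4 D29642) (iv2 F43273)
theorem F87977 : act 7 n55616 = n54839 := d11_2 (iv7 F43274) D55616 (iv4 D54839)
def n55617 : Q := act 4 n26854
theorem D55617 : act 4 n26854 = n55617 := rfl
theorem F87978 : act 2 n55617 = n26860 := d1_1 D55617 (iv4 D26860) (iv2 F43277)
theorem F87979 : act 7 n55617 = n55305 := d11_2 (iv7 F43279) D55617 (iv4 D55305)
def n55618 : Q := act 6 n26855
theorem D55618 : act 6 n26855 = n55618 := rfl
theorem F87980 : act 2 n55618 = n31686 := d3_1 D55618 F49966 (iv2 F43281)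
theorem F87981 : act 4 n55618 = n26857 := d10_1 D55618 (iv6 D26857) D26855
theorem F87982 : act 5 n55618 = n52915 := d21_6 D5784 D12207 F40556 D26703 F54158 D55618 (iv1 D52915) (iv5 D25689) (iv6 D12203) (iv1 D5782)
def n55619 : Q := act 4 n26856
theorem D55619 : act 4 n26856 = n55619 := rfl
theorem F87983 : act 2 n55619 = n32624 := d1_1 D55619 (iv4 D32624) (iv2 F43282)
def n55620 : Q := act 6 n26856
theorem D55620 : act 6 n26856 = n55620 := rfl
theorem F87984 : act 2 n55620 = n32625 := d3_1 D55620 (iv6 D32625) (iv2 F43282)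
theorem F87985 : act 5 n55620 = n54887 := d12_1 D55620 (iv6 D54887) (iv5 F43285) (iv6 D26857) D26856
def n55621 : Q := act 4 n26858
theorem D55621 : act 4 n26858 = n55621 := rfl
theorem F87986 : act 7 n55621 = n35054 := d11_2 F43289 D55621 (iv4 D35054)
def n55622 : Q := act 6 n26858
theorem D55622 : act 6 n26858 = n55622 := rfl
theorem F87987 : act 3 n55622 = n26864 := d7_1 D55622 (iv6 D26864) (iv3 F43287)
theorem F87988 : act 5 n55622 = n29131 := d12_1 D55622 (iv6 D29131) (iv5 D13866) D13867 (iv5 F43288)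
def n55623 : Q := act 4 n26859
theorem D55623 : act 4 n26859 = n55623 := rfl
theorem F87989 : act 2 n55623 = n35054 := d1_1 D55623 (iv4 D35054) (iv2 F43293)
def n55624 : Q := act 6 n26859
theorem D55624 : act 6 n26859 = n55624 := rfl
theorem F87990 : act 2 n55624 = n35055 := d3_1 D55624 (iv6 D35055) (iv2 F43293)
def n55625 : Q := act 0 n26860
theorem D55625 : act 0 n26860 = n55625 := rfl
def n55626 : Q := act 1 n26860
theorem D55626 : act 1 n26860 = n55626 := rfl
theorem F87991 : act 1 n55626 = n55305 := d15_1 D55626 (iv7 F87979) F87978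
theorem F87992 : act 5 n47152 = n55626 := d17_7 (iv1 F43291) (iv5 F43292) (iv1 D15117) D15118 D32045 (iv5 F72633) (iv0 F74424) F87991 (iv4 D55305)
def n55627 : Q := act 3 n26860
theorem D55627 : act 3 n26860 = n55627 := rfl
theorem F87993 : act 4 n55627 = n26865 := d5_2 D26860 D55627 (iv3 D26865) (iv4 D12854) (iv3 F21301)
def n55628 : Q := act 7 n26860
theorem D55628 : act 7 n26860 = n55628 := rfl
theorem F87994 : act 2 n55628 = n55305 := d4_1 D55628 (iv7 F87979) F87978
theorem F87995 : act 4 n55628 = n26861 := d11_1 D55628 (iv7 D26861) D26860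
theorem F87996 : act 5 n55628 = n46715 := d13_1 D55628 F73831 F72576
theorem F87997 : act 1 n55305 = n55625 := d15_0 (iv0 D55625) D55628 F87994
theorem F87998 : act 6 n39312 = n55628 := d10_0 F87995 (iv6 F43298) D39312
def n55629 : Q := act 6 n26862
theorem D55629 : act 6 n26862 = n55629 := rfl
theorem F87999 : act 3 n55629 = n26863 := d7_1 D55629 (iv6 D26863) D26862
theorem F88000 : act 4 n55629 = n52929 := d10_1 D55629 (iv6 D52929) (iv4 F43299)
def n55630 : Q := act 0 n26863
theorem D55630 : act 0 n26863 = n55630 := rfl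
def n55631 : Q := act 1 n26863
theorem D55631 : act 1 n26863 = n55631 := rfl
theorem F88001 : act 1 n55631 = n35058 := d15_1 D55631 (iv7 D35058) (iv2 F43302)
def n55632 : Q := act 7 n26863
theorem D55632 : act 7 n26863 = n55632 := rfl
theorem F88002 : act 2 n55632 = n35058 := d4_1 D55632 (iv7 D35058) (iv2 F43302)
theorem F88003 : act 6 n55632 = n35063 := d14_1 D55632 (iv7 D35063) (iv6 D17020) F21306 D26863
theorem F88004 : act 1 n35058 = n55630 := d15_0 (iv0 D55630) D55632 F88002
theorem F88005 : act 1 n35057 = n55632 := d15_1 D35057 (iv7 D55632) F43302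
theorem F88006 : act 1 n55632 = n35056 := d15_0 (iv0 D35056) D35058 (iv2 F88002)
def n55633 : Q := act 0 n26864
theorem D55633 : act 0 n26864 = n55633 := rfl
def n55634 : Q := act 1 n26864
theorem D55634 : act 1 n26864 = n55634 := rfl
theorem F88007 : act 1 n55634 = n35063 := d15_1 D55634 (iv7 D35063) (iv2 F43303)
def n55635 : Q := act 7 n26864
theorem D55635 : act 7 n26864 = n55635 := rfl
theorem F88008 : act 2 n55635 = n35063 := d4_1 D55635 (iv7 D35063) (iv2 F43303)
theorem F88009 : act 5 n55635 = n29138 := d13_1 D55635 (iv7 D29138) (iv5 F43304)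
theorem F88010 : act 6 n55635 = n35058 := d14_1 D55635 (iv7 D35058) (iv6 D17018) (iv7 F21309) D26864
theorem F88011 : act 1 n35063 = n55633 := d15_0 (iv0 D55633) D55635 F88008
theorem F88012 : act 1 n35062 = n55635 := d15_1 D35062 (iv7 D55635) F43303
theorem F88013 : act 1 n55635 = n35061 := d15_0 (iv0 D35061) D35063 (iv2 F88008)
def n55636 : Q := act 1 n26865
theorem D55636 : act 1 n26865 = n55636 := rfl
theorem F88014 : act 7 n55636 = n52946 := d15_2 (iv0 F71226) D55636 F83665
theorem F88015 : act 3 n52922 = n55636 := d19_19 (iv1 D55636) (iv5 F58186) (iv4 F77346) (iv3 D49003) (iv1 F37317) D40139 (iv4 F76780) F76779 (iv1 F71079) (iv5 F86713) F86712 (iv3 F86691) (iv1 F86693) F52458 F40387 D25566 F40448 D32365 (iv4 F83630)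
theorem F88016 : act 2 n55636 = n37299 := d0_1 F88015 F58256 (iv2 F33933) (iv3 F40619) F83631
theorem F88017 : act 5 n55636 = n37298 := d6_2 (iv5 F83629) F88015 F60282
def n55637 : Q := act 2 n26865
theorem D55637 : act 2 n26865 = n55637 := rfl
theorem F88018 : act 3 n55637 = n35070 := d0_2 D26865 D55637 (iv2 D35070) (iv3 D17023) (iv2 F21312)
theorem F88019 : act 5 n55637 = n45137 := d2_2 F58186 D55637 (iv2 F71123)
theorem F88020 : act 0 n37299 = n55637 := d19_0 F88019 F71122 F57792 (iv1 F57755) F57757 F43348 F30557 F14143 (iv5 D9003) F5972 (iv3 D1930) (iv1 D991) D994 D1943 F3248 D4620 D10168 (iv4 F29092) (iv3 F58256)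
theorem F88021 : act 1 n52946 = n55637 := d15_0 (iv0 F88020) (iv7 F71225) (iv2 F83665)
def n55638 : Q := act 7 n26865
theorem D55638 : act 7 n26865 = n55638 := rfl
theorem F88022 : act 3 n55638 = n26867 := d8_1 D55638 (iv7 D26867) D26865
theorem F88023 : act 5 n55638 = n27017 := d13_1 D55638 (iv7 F58184) F58186
theorem F88024 : act 1 n37299 = n55638 := d15_1 (iv0 F88020) (iv7 D55638) D55637
theorem F88025 : act 1 n55638 = n52946 := d15_1 F88024 (iv7 F88014) F88016
def n55639 : Q := act 6 n26866
theorem D55639 : act 6 n26866 = n55639 := rfl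
theorem F88026 : act 2 n55639 = n35073 := d3_1 D55639 (iv6 D35073) (iv2 F43305)
theorem F88027 : act 4 n55639 = n27018 := d10_1 D55639 (iv6 D27018) (iv4 F43306)
def n55640 : Q := act 6 n26867
theorem D55640 : act 6 n26867 = n55640 := rfl
theorem F88028 : act 2 n55640 = n35074 := d3_1 D55640 (iv6 D35074) (iv2 F43310)
theorem F88029 : act 4 n55640 = n26868 := d10_1 D55640 (iv6 D26868) (iv4 F43311)
def n55641 : Q := act 0 n26868
theorem D55641 : act 0 n26868 = n55641 := rfl
theorem F88030 : act 1 n33822 = n55641 := d15_0 (iv0 D55641) (iv7 F87146) F87143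
def n55642 : Q := act 1 n26868
theorem D55642 : act 1 n26868 = n55642 := rfl
theorem F88031 : act 1 n55642 = n33822 := d15_1 D55642 F53163 (iv2 F43315)
def n55643 : Q := act 5 n26870
theorem D55643 : act 5 n26870 = n55643 := rfl
theorem F88032 : act 3 n55643 = n26871 := d6_1 D55643 (iv5 D26871) D26870
theorem F88033 : act 7 n55643 = n35468 := d13_2 (iv7 F43321) D55643 F56166
def n55644 : Q := act 6 n26870
theorem D55644 : act 6 n26870 = n55644 := rfl
theorem F88034 : act 3 n55644 = n26872 := d7_1 D55644 (iv6 D26872) D26870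
theorem F88035 : act 4 n55644 = n35373 := d10_1 D55644 (iv6 D35373) (iv4 F43320)
def n55645 : Q := act 6 n26871
theorem D55645 : act 6 n26871 = n55645 := rfl
theorem F88036 : act 2 n55645 = n26898 := d3_1 D55645 (iv6 D26898) (iv2 F43322)
def n55646 : Q := act 0 n26872
theorem D55646 : act 0 n26872 = n55646 := rfl
theorem F88038 : act 4 n55646 = n27666 := d20_2 (iv4 F43328) D55646 (iv3 D27666) (iv1 F44588) F44584 (iv4 F59929) (iv1 F59930) D38935 F59969 (iv1 D26874)
theorem F88039 : act 0 n55646 = n26902 := d20_7 D8104 F41760 F9233 (iv3 F9771) D13209 D27666 (iv4 F88038) F43398 F21380 (iv1 F9494)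
def n55647 : Q := act 1 n26872
theorem D55647 : act 1 n26872 = n55647 := rfl
theorem F88040 : act 1 n55647 = n26902 := d15_1 D55647 (iv7 D26902) (iv2 F43327)
def n55648 : Q := act 5 n26872
theorem D55648 : act 5 n26872 = n55648 := rfl
theorem F88041 : act 2 n55648 = n26901 := d2_1 D55648 (iv5 D26901) (iv2 F43327)
def n55649 : Q := act 7 n26872
theorem D55649 : act 7 n26872 = n55649 := rfl
theorem F88042 : act 2 n55649 = n26902 := d4_1 D55649 (iv7 D26902) (iv2 F43327)
theorem F88043 : act 4 n55649 = n26876 := d11_1 D55649 (iv7 D26876) (iv4 F43328)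
theorem F88045 : act 1 n26900 = n55649 := d15_1 D26900 (iv7 D55649) F43327
theorem F88046 : act 1 n55649 = n26899 := d15_0 (iv0 D26899) D26902 (iv2 F88042)
def n55650 : Q := act 2 n26873
theorem D55650 : act 2 n26873 = n55650 := rfl
theorem F88047 : act 7 n26874 = n55650 := d15_2 (iv0 D26873) D26874 (iv2 D55650)
def n55651 : Q := act 3 n26873
theorem D55651 : act 3 n26873 = n55651 := rfl
def n55652 : Q := act 4 n26873
theorem D55652 : act 4 n26873 = n55652 := rfl
def n55653 : Q := act 5 n26873
theorem D55653 : act 5 n26873 = n55653 := rfl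
theorem F88048 : act 0 n55653 = n35667 := d21_1 D55653 F56345 (iv6 D35304) (iv1 F59788) (iv6 D8193) (iv5 D3693) (iv1 F4096) D6100 D12863 D26873
def n55654 : Q := act 7 n26873
theorem D55654 : act 7 n26873 = n55654 := rfl
def n55655 : Q := act 4 n26874
theorem D55655 : act 4 n26874 = n55655 := rfl
def n55656 : Q := act 5 n26874
theorem D55656 : act 5 n26874 = n55656 := rfl
theorem F88050 : act 0 n35667 = n55656 := d21_10 (iv5 D55656) (iv1 D26874) D26875 F43332 F21356 (iv6 F28441) (iv5 D17448) F59794 D35249 (iv6 F56346)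
theorem F88051 : act 6 n36293 = n55656 := d21_5 (iv5 D8204) F12983 (iv5 F13020) D17523 D36293 (iv5 D55656) (iv1 D26874) D26875 F43332 F21356
def n55657 : Q := act 6 n26874
theorem D55657 : act 6 n26874 = n55657 := rfl
def n55658 : Q := act 4 n26875
theorem D55658 : act 4 n26875 = n55658 := rfl
theorem F88052 : act 2 n55658 = n26915 := d1_1 D55658 (iv4 D26915) (iv2 F43330)
theorem F88053 : act 6 n55658 = n26878 := d10_2 (iv6 F43332) D55658 (iv4 D26878)
def n55659 : Q := act 7 n26875
theorem D55659 : act 7 n26875 = n55659 := rfl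
theorem F88054 : act 2 n55659 = n26916 := d4_1 D55659 (iv7 D26916) (iv2 F43330)
theorem F88055 : act 3 n55659 = n35391 := d8_1 D55659 (iv7 D35391) (iv3 F43331)
theorem F88056 : act 5 n55659 = n26876 := d13_1 D55659 (iv7 D26876) D26875
theorem F88057 : act 1 n26916 = n36218 := d15_0 (iv0 F56929) D55659 F88054
theorem F88058 : act 1 n26914 = n55659 := d15_1 D26914 (iv7 D55659) F43330
theorem F88059 : act 1 n55659 = n26913 := d15_0 (iv0 D26913) D26916 (iv2 F88054)
def n55660 : Q := act 0 n26878
theorem D55660 : act 0 n26878 = n55660 := rfl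
theorem F88060 : act 4 n55660 = n27021 := d18_3 F21602 D26878 D55660 (iv5 D27021) F21515 F13433 F9572 (iv0 F16793) D12989
theorem F88061 : act 2 n26924 = n55660 := d15_3 (iv0 D55660) (iv0 F57301) F57300
theorem F88062 : act 1 n26928 = n55660 := d15_0 (iv0 D55660) (iv7 F56965) F56964
theorem F88063 : act 7 n55660 = n26925 := d15_2 F57302 F88062 (iv2 F57299)
def n55661 : Q := act 3 n26878
theorem D55661 : act 3 n26878 = n55661 := rfl
theorem F88064 : act 4 n55661 = n35396 := d5_2 D26878 D55661 (iv3 D35396) (iv4 D17173) (iv3 F21355)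
def n55662 : Q := act 5 n26878
theorem D55662 : act 5 n26878 = n55662 := rfl
theorem F88065 : act 2 n55662 = n26927 := d2_1 D55662 (iv5 D26927) (iv2 F43345)
theorem F88066 : act 7 n55662 = n35592 := d13_2 F56965 D55662 (iv5 F56966)
theorem F88067 : act 4 n55662 = n35594 := d16_2 D26878 D55662 F56269 F28195 F12871 (iv4 F9486) (iv5 F21393) (iv7 D12884) (iv2 F21354)
theorem F88069 : act 1 n55662 = n36278 := d17_6 D8238 F21352 (iv1 D12864) D12865 D26878 D55662 (iv5 D36278) (iv0 D17518) (iv4 D8240)
def n55663 : Q := act 6 n26879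
theorem D55663 : act 6 n26879 = n55663 := rfl
theorem F88071 : act 4 n55663 = n40296 := d10_1 D55663 (iv6 D40296) (iv4 F43348)
def n55664 : Q := act 6 n26880
theorem D55664 : act 6 n26880 = n55664 := rfl
def n55665 : Q := act 6 n26881
theorem D55665 : act 6 n26881 = n55665 := rfl
theorem F88074 : act 2 n55665 = n36120 := d3_1 D55665 (iv6 D36120) (iv2 F43353)
theorem F88075 : act 4 n55665 = n35460 := d10_1 D55665 (iv6 D35460) (iv4 F43355)
def n55666 : Q := act 0 n26882
theorem D55666 : act 0 n26882 = n55666 := rfl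
def n55667 : Q := act 1 n26882
theorem D55667 : act 1 n26882 = n55667 := rfl
theorem F88076 : act 1 n55667 = n36124 := d15_1 D55667 (iv7 D36124) (iv2 F43356)
def n55668 : Q := act 5 n26882
theorem D55668 : act 5 n26882 = n55668 := rfl
theorem F88077 : act 2 n55668 = n36123 := d2_1 D55668 (iv5 D36123) (iv2 F43356)
def n55669 : Q := act 7 n26882
theorem D55669 : act 7 n26882 = n55669 := rfl
theorem F88078 : act 2 n55669 = n36124 := d4_1 D55669 (iv7 D36124) (iv2 F43356)
theorem F88079 : act 4 n55669 = n26886 := d11_1 D55669 (iv7 D26886) (iv4 F43357)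
theorem F88081 : act 1 n36124 = n55666 := d15_0 (iv0 D55666) D55669 F88078
theorem F88082 : act 1 n36122 = n55669 := d15_1 D36122 (iv7 D55669) F43356
theorem F88083 : act 1 n55669 = n36121 := d15_0 (iv0 D36121) D36124 (iv2 F88078)
def n55671 : Q := act 3 n26883
theorem D55671 : act 3 n26883 = n55671 := rfl
def n55672 : Q := act 4 n26883
theorem D55672 : act 4 n26883 = n55672 := rfl
def n55673 : Q := act 5 n26883
theorem D55673 : act 5 n26883 = n55673 := rfl
def n55674 : Q := act 6 n26883
theorem D55674 : act 6 n26883 = n55674 := rfl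
theorem F88085 : act 5 n55674 = n36055 := d21_6 (iv5 D2599) D2596 (iv5 F13446) D12868 D26883 D55674 (iv1 D36055) (iv5 D17448) (iv6 D8202) (iv1 F13413)
def n55678 : Q := act 5 n26884
theorem D55678 : act 5 n26884 = n55678 := rfl
theorem F88087 : act 6 n36274 = n55678 := d21_5 (iv5 D12865) F16911 F13427 D17517 D36274 (iv5 D55678) (iv1 D26884) D26885 F43361 F21602
def n55679 : Q := act 6 n26884
theorem D55679 : act 6 n26884 = n55679 := rfl
def n55680 : Q := act 0 n26885
theorem D55680 : act 0 n26885 = n55680 := rfl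
theorem F88088 : act 2 n35628 = n55680 := d15_3 (iv0 D55680) (iv0 F59743) F56486
theorem F88089 : act 7 n55680 = n36136 := d4_2 F56486 F88088 F59813
theorem E8308 : n36135 = n35628 := ((c15_4 (iv0 D36135) D36136 (iv7 F88089) (iv2 F88088))).symm
theorem F88090 : act 1 n35628 = n17473 := (sb E8308 (iv0 D36135))
def n55681 : Q := act 4 n26885
theorem D55681 : act 4 n26885 = n55681 := rfl
theorem F88092 : act 2 n55681 = n36137 := d1_1 D55681 (iv4 D36137) (iv2 F43359)
theorem F88093 : act 6 n55681 = n27114 := d10_2 (iv6 F43361) D55681 (iv4 D27114)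
def n55682 : Q := act 7 n26885
theorem D55682 : act 7 n26885 = n55682 := rfl
theorem F88095 : act 3 n55682 = n44981 := d8_1 D55682 (iv7 D44981) (iv3 F43360)
theorem F88096 : act 5 n55682 = n26886 := d13_1 D55682 (iv7 D26886) D26885
theorem F88097 : act 6 n55682 = n36254 := d14_1 D55682 (iv7 D36254) (iv6 D17508) (iv7 F21601) (iv6 F43361)
theorem F88098 : act 1 n36136 = n55682 := d15_1 D36136 (iv7 D55682) F43359
theorem F88099 : act 1 n55682 = n35628 := d15_1 F88098 (iv7 F56486) (iv2 F59813)
def n55683 : Q := act 0 n26887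
theorem D55683 : act 0 n26887 = n55683 := rfl
theorem F88100 : act 4 n55683 = n38546 := d20_2 (iv4 F43368) D55683 F59369 (iv1 F71636) (iv3 D38487) D38488 (iv1 F71634) (iv4 F74488) F74489 (iv1 D45843)
theorem F88101 : act 2 n36116 = n55683 := d15_3 (iv0 D55683) (iv0 F86934) F86933
theorem F88102 : act 1 n36117 = n55683 := d15_0 (iv0 D55683) F43369 D36117
theorem F88103 : act 7 n55683 = n36115 := d15_2 (iv0 F86935) F88102 (iv2 F86936)
def n55684 : Q := act 2 n26887
theorem D55684 : act 2 n26887 = n55684 := rfl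
theorem F88104 : act 3 n55684 = n36092 := d0_2 D26887 D55684 (iv2 D36092) (iv3 D17461) (iv2 F21367)
theorem F88105 : act 4 n55684 = n45844 := d1_2 (iv4 F43368) D55684 (iv2 D45844)
theorem F88106 : act 7 n55684 = n36117 := d4_2 (iv7 F43369) D55684 (iv2 D36117)
theorem F88107 : act 1 n55684 = n36115 := d15_0 (iv0 D36115) (iv7 F43369) D55684
theorem F88108 : act 1 n36116 = n55684 := d15_0 F88107 (iv7 F88103) (iv2 F88101)
def n55685 : Q := act 5 n26887
theorem D55685 : act 5 n26887 = n55685 := rfl
theorem F88109 : act 3 n55685 = n26888 := d6_1 D55685 (iv5 D26888) D26887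
theorem F88110 : act 7 n55685 = n36118 := d13_2 (iv7 F43369) D55685 (iv5 D36118)
theorem F88111 : act 4 n45188 = n55685 := d11_3 F88110 (iv4 F58254) F71218
def n55686 : Q := act 6 n26887
theorem D55686 : act 6 n26887 = n55686 := rfl
theorem F88112 : act 3 n55686 = n26889 := d7_1 D55686 (iv6 D26889) D26887
theorem F88113 : act 4 n55686 = n45846 := d10_1 D55686 (iv6 D45846) (iv4 F43368)
def n55687 : Q := act 6 n26888
theorem D55687 : act 6 n26888 = n55687 := rfl
theorem F88114 : act 2 n55687 = n36096 := d3_1 D55687 (iv6 D36096) (iv2 F43370)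
theorem F88115 : act 4 n55687 = n35452 := d10_1 D55687 (iv6 D35452) (iv4 F43371)
def n55688 : Q := act 0 n26889
theorem D55688 : act 0 n26889 = n55688 := rfl
theorem F88116 : act 2 n36097 = n55688 := d15_3 (iv0 D55688) F59773 F59783
theorem F88117 : act 1 n36100 = n55688 := d15_0 (iv0 D55688) (iv7 F61257) F61255
def n55689 : Q := act 5 n26889
theorem D55689 : act 5 n26889 = n55689 := rfl
def n55690 : Q := act 0 n26893
theorem D55690 : act 0 n26893 = n55690 := rfl
theorem F88120 : act 5 n55690 = n40095 := d17_3 (iv1 F72254) (iv5 F72256) D55690 (iv4 F61858) (iv5 D40746) F34490 (iv5 F62134) (iv0 D41001) (iv4 F60876)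
theorem F88121 : act 1 n36141 = n55690 := d15_0 (iv0 D55690) F43383 D36141
theorem F88122 : act 2 n36140 = n55690 := d2_3 F88120 (iv2 F61861) F72261
theorem F88123 : act 7 n36139 = n55690 := d15_2 F72260 F72262 (iv2 F88122)
def n55691 : Q := act 1 n26893
theorem D55691 : act 1 n26893 = n55691 := rfl
theorem F88124 : act 1 n55691 = n36141 := d15_1 D55691 (iv7 F72259) F72257
theorem F88125 : act 7 n55691 = n36140 := d15_2 (iv0 D55690) D55691 F88122
theorem F88126 : act 2 n36139 = n55691 := d4_3 F88125 F88122 (iv7 F88123)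
theorem F88127 : act 5 n40094 = n55691 := d13_3 F88125 (iv5 F72261) F61862
def n55692 : Q := act 4 n26893
theorem D55692 : act 4 n26893 = n55692 := rfl
theorem F88128 : act 3 n55692 = n35173 := d5_1 D55692 F55925 F28635 (iv4 F21372) D26893
theorem F88129 : act 7 n55692 = n36142 := d11_2 (iv7 F43383) D55692 (iv4 D36142)
def n55693 : Q := act 6 n26893
theorem D55693 : act 6 n26893 = n55693 := rfl
def n55694 : Q := act 6 n26894
theorem D55694 : act 6 n26894 = n55694 := rfl
theorem F88131 : act 2 n55694 = n36153 := d3_1 D55694 (iv6 D36153) (iv2 F43384)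
theorem F88132 : act 4 n55694 = n35431 := d10_1 D55694 (iv6 D35431) (iv4 F43385)
def n55695 : Q := act 0 n26895
theorem D55695 : act 0 n26895 = n55695 := rfl
def n55696 : Q := act 1 n26895
theorem D55696 : act 1 n26895 = n55696 := rfl
theorem F88133 : act 1 n55696 = n36157 := d15_1 D55696 (iv7 D36157) (iv2 F43389)
def n55697 : Q := act 5 n26895
theorem D55697 : act 5 n26895 = n55697 := rfl
theorem F88134 : act 2 n55697 = n36156 := d2_1 D55697 (iv5 D36156) (iv2 F43389)
def n55698 : Q := act 7 n26895
theorem D55698 : act 7 n26895 = n55698 := rfl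
theorem F88135 : act 2 n55698 = n36157 := d4_1 D55698 (iv7 D36157) (iv2 F43389)
theorem F88136 : act 4 n55698 = n36481 := d11_1 D55698 (iv7 D36481) (iv4 F43390)
theorem F88137 : act 6 n55698 = n36149 := d14_1 D55698 (iv7 D36149) (iv6 D17477) F21633 D26895
theorem F88140 : act 1 n55698 = n36154 := d15_0 (iv0 D36154) D36157 (iv2 F88135)
def n55699 : Q := act 0 n26896
theorem D55699 : act 0 n26896 = n55699 := rfl
def n55700 : Q := act 1 n26896
theorem D55700 : act 1 n26896 = n55700 := rfl
theorem F88141 : act 1 n55700 = n36149 := d15_1 D55700 (iv7 D36149) (iv2 F43391)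
def n55701 : Q := act 5 n26896
theorem D55701 : act 5 n26896 = n55701 := rfl
def n55702 : Q := act 7 n26896
theorem D55702 : act 7 n26896 = n55702 := rfl
theorem F88143 : act 2 n55702 = n36149 := d4_1 D55702 (iv7 D36149) (iv2 F43391)
theorem F88144 : act 4 n55702 = n36490 := d11_1 D55702 (iv7 D36490) (iv4 F43392)
theorem F88146 : act 1 n36149 = n55699 := d15_0 (iv0 D55699) D55702 F88143
def n55703 : Q := act 3 n26897
theorem D55703 : act 3 n26897 = n55703 := rfl
theorem F88149 : act 2 n55703 = n38287 := d0_1 D55703 (iv3 D38287) F52454 F42623 (iv2 F43393)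
theorem F88150 : act 5 n55703 = n27023 := d6_2 (iv5 F43394) D55703 (iv3 D27023)
theorem F88151 : act 7 n55703 = n35372 := d8_2 (iv7 F43395) D55703 F56073
def n55704 : Q := act 6 n26897
theorem D55704 : act 6 n26897 = n55704 := rfl
theorem F88152 : act 2 n55704 = n27045 := d3_1 D55704 (iv6 D27045) (iv2 F43393)
theorem F88153 : act 4 n55704 = n26898 := d10_1 D55704 (iv6 D26898) D26897
def n55705 : Q := act 0 n26898
theorem D55705 : act 0 n26898 = n55705 := rfl
def n55706 : Q := act 1 n26898
theorem D55706 : act 1 n26898 = n55706 := rfl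
def n55707 : Q := act 5 n26898
theorem D55707 : act 5 n26898 = n55707 := rfl
def n55708 : Q := act 7 n26898
theorem D55708 : act 7 n26898 = n55708 := rfl
def n55709 : Q := act 2 n26899
theorem D55709 : act 2 n26899 = n55709 := rfl
theorem F88156 : act 7 n26900 = n55709 := d15_2 (iv0 D26899) D26900 (iv2 D55709)
def n55710 : Q := act 3 n26899
theorem D55710 : act 3 n26899 = n55710 := rfl
def n55711 : Q := act 4 n26899
theorem D55711 : act 4 n26899 = n55711 := rfl
def n55712 : Q := act 5 n26899
theorem D55712 : act 5 n26899 = n55712 := rfl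
def n55713 : Q := act 6 n26899
theorem D55713 : act 6 n26899 = n55713 := rfl
def n55714 : Q := act 7 n26899
theorem D55714 : act 7 n26899 = n55714 := rfl
theorem F88157 : act 2 n55714 = n26900 := d4_1 D55714 F88156 (iv2 D55709)
def n55716 : Q := act 4 n26900
theorem D55716 : act 4 n26900 = n55716 := rfl
theorem F88158 : act 3 n55716 = n27654 := d20_3 (iv4 F88043) (iv1 F88045) D55716 (iv1 D27654) F21992 (iv4 F29658) D38891 F59924 (iv3 D26904) (iv1 F43338)
def n55717 : Q := act 5 n26900
theorem D55717 : act 5 n26900 = n55717 := rfl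
def n55718 : Q := act 6 n26900
theorem D55718 : act 6 n26900 = n55718 := rfl
def n55719 : Q := act 0 n26901
theorem D55719 : act 0 n26901 = n55719 := rfl
def n55720 : Q := act 1 n26901
theorem D55720 : act 1 n26901 = n55720 := rfl
def n55722 : Q := act 7 n26901
theorem D55722 : act 7 n26901 = n55722 := rfl
theorem F88159 : act 5 n55722 = n26902 := d13_1 D55722 (iv7 D26902) D26901
def n55725 : Q := act 3 n26903
theorem D55725 : act 3 n26903 = n55725 := rfl
theorem F88162 : act 7 n55725 = n26909 := d8_2 F43400 D55725 (iv3 D26909)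
def n55726 : Q := act 4 n26903
theorem D55726 : act 4 n26903 = n55726 := rfl
theorem F88163 : act 2 n55726 = n26905 := d1_1 D55726 (iv4 D26905) D26903
theorem F88164 : act 7 n55726 = n26910 := d11_2 F43400 D55726 (iv4 D26910)
def n55727 : Q := act 5 n26903
theorem D55727 : act 5 n26903 = n55727 := rfl
theorem F88165 : act 2 n55727 = n26906 := d2_1 D55727 (iv5 D26906) D26903
theorem F88166 : act 7 n55727 = n26911 := d13_2 F43400 D55727 (iv5 D26911)
def n55728 : Q := act 6 n26903
theorem D55728 : act 6 n26903 = n55728 := rfl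
theorem F88167 : act 2 n55728 = n26907 := d3_1 D55728 (iv6 D26907) D26903
def n55729 : Q := act 0 n26904
theorem D55729 : act 0 n26904 = n55729 := rfl
def n55730 : Q := act 1 n26904
theorem D55730 : act 1 n26904 = n55730 := rfl
def n55731 : Q := act 2 n26904
theorem D55731 : act 2 n26904 = n55731 := rfl
def n55732 : Q := act 5 n26904
theorem D55732 : act 5 n26904 = n55732 := rfl
theorem F88168 : act 3 n55732 = n26906 := d6_1 D55732 (iv5 D26906) D26904
def n55733 : Q := act 6 n26904
theorem D55733 : act 6 n26904 = n55733 := rfl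
theorem F88169 : act 3 n55733 = n26907 := d7_1 D55733 (iv6 D26907) D26904
theorem F88170 : act 5 n37354 = n55733 := d6_0 F88169 F43846 (iv3 F58282)
def n55734 : Q := act 7 n26904
theorem D55734 : act 7 n26904 = n55734 := rfl
theorem F88171 : act 3 n55734 = n26908 := d8_1 D55734 (iv7 D26908) D26904
def n55735 : Q := act 0 n26905
theorem D55735 : act 0 n26905 = n55735 := rfl
def n55736 : Q := act 1 n26905
theorem D55736 : act 1 n26905 = n55736 := rfl
theorem F88172 : act 1 n55736 = n26910 := d15_1 D55736 (iv7 F88164) F88163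
def n55737 : Q := act 3 n26905
theorem D55737 : act 3 n26905 = n55737 := rfl
def n55738 : Q := act 5 n26905
theorem D55738 : act 5 n26905 = n55738 := rfl
def n55739 : Q := act 6 n26905
theorem D55739 : act 6 n26905 = n55739 := rfl
theorem F88173 : act 4 n55739 = n26907 := d10_1 D55739 (iv6 D26907) D26905
def n55740 : Q := act 7 n26905
theorem D55740 : act 7 n26905 = n55740 := rfl
theorem F88174 : act 2 n55740 = n26910 := d4_1 D55740 (iv7 F88164) F88163
theorem F88175 : act 4 n55740 = n26908 := d11_1 D55740 (iv7 D26908) D26905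
theorem F88176 : act 1 n26910 = n55735 := d15_0 (iv0 D55735) D55740 F88174
def n55741 : Q := act 0 n26906
theorem D55741 : act 0 n26906 = n55741 := rfl
theorem F88177 : act 5 n55741 = n36863 := d21_2 D26906 D55741 (iv6 D36863) (iv1 D17759) (iv6 D8375) (iv5 F13320) (iv1 D2569) D2571 D6105 D12875
theorem F88178 : act 2 n35667 = n55741 := d2_3 F88177 (iv2 F59734) (iv5 F56345)
theorem F88179 : act 6 n36835 = n55741 := d12_0 F88177 (iv6 D36863) (iv5 F57771) (iv6 D36836) D36835
theorem F88180 : act 0 n55741 = n26911 := d21_10 (iv5 D26911) (iv1 D12876) D12877 F21379 (iv1 F16985) D17508 F28505 D17751 D36835 F88179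
def n55742 : Q := act 1 n26906
theorem D55742 : act 1 n26906 = n55742 := rfl
theorem F88181 : act 1 n55742 = n26911 := d15_1 D55742 (iv7 F88166) F88165
theorem F88182 : act 7 n55742 = n35667 := d15_2 (iv0 D55741) D55742 F88178
theorem F88183 : act 3 n26936 = n55742 := d8_3 F88182 (iv3 D35667) (iv7 F51234)
theorem F88184 : act 5 n37027 = n55742 := d13_3 F88182 F56345 (iv7 F57973)
theorem F88185 : act 6 n55742 = n35803 := d7_2 (iv6 F43439) F88183 (iv3 D35803)
def n55743 : Q := act 4 n26906
theorem D55743 : act 4 n26906 = n55743 := rfl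
def n55744 : Q := act 6 n26906
theorem D55744 : act 6 n26906 = n55744 := rfl
theorem F88186 : act 0 n55744 = n36133 := d21_10 (iv5 D36133) (iv1 D17472) D17473 F28468 F16805 (iv6 F21379) (iv5 D12877) D12875 D26906 D55744
def n55745 : Q := act 7 n26906
theorem D55745 : act 7 n26906 = n55745 := rfl
theorem F88187 : act 2 n55745 = n26911 := d4_1 D55745 (iv7 F88166) F88165
theorem F88188 : act 5 n55745 = n26908 := d13_1 D55745 (iv7 D26908) D26906
def n55746 : Q := act 7 n26907
theorem D55746 : act 7 n26907 = n55746 := rfl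
def n55747 : Q := act 6 n26908
theorem D55747 : act 6 n26908 = n55747 := rfl
theorem F88189 : act 2 n55747 = n26912 := d3_1 D55747 (iv6 D26912) (iv2 F43401)
def n55748 : Q := act 0 n26909
theorem D55748 : act 0 n26909 = n55748 := rfl
def n55749 : Q := act 1 n26909
theorem D55749 : act 1 n26909 = n55749 := rfl
def n55750 : Q := act 2 n26909
theorem D55750 : act 2 n26909 = n55750 := rfl
def n55751 : Q := act 4 n26909
theorem D55751 : act 4 n26909 = n55751 := rfl
def n55752 : Q := act 5 n26909
theorem D55752 : act 5 n26909 = n55752 := rfl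
theorem F88190 : act 3 n55752 = n26911 := d6_1 D55752 (iv5 D26911) D26909
def n55753 : Q := act 6 n26909
theorem D55753 : act 6 n26909 = n55753 := rfl
theorem F88191 : act 3 n55753 = n26912 := d7_1 D55753 (iv6 D26912) D26909
def n55754 : Q := act 3 n26910
theorem D55754 : act 3 n26910 = n55754 := rfl
def n55755 : Q := act 5 n26910
theorem D55755 : act 5 n26910 = n55755 := rfl
def n55756 : Q := act 6 n26910
theorem D55756 : act 6 n26910 = n55756 := rfl
theorem F88192 : act 4 n55756 = n26912 := d10_1 D55756 (iv6 D26912) D26910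
def n55757 : Q := act 4 n26911
theorem D55757 : act 4 n26911 = n55757 := rfl
def n55758 : Q := act 6 n26911
theorem D55758 : act 6 n26911 = n55758 := rfl
theorem F88193 : act 0 n55758 = n36238 := d21_4 F88056 (iv1 F43337) D26911 D55758 (iv6 D36238) F28483 (iv1 F28444) D36077 (iv6 F56813) (iv1 F88059)
theorem F88194 : act 0 n36086 = n55758 := d21_4 (iv5 D8233) (iv1 F12994) (iv5 F28454) D36086 (iv6 D55758) (iv5 D26911) (iv1 D12876) D12877 F21379 (iv1 F16985)
def n55759 : Q := act 0 n26912
theorem D55759 : act 0 n26912 = n55759 := rfl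
theorem F88195 : act 5 n55759 = n36054 := d21_0 (iv1 F56989) F56986 F28875 (iv1 F28888) D36863 (iv5 F88177) F88180 (iv5 D26911) D26912 D55759
theorem F88196 : act 6 n55759 = n36204 := d21_3 D17448 D36054 (iv5 F88195) (iv1 D36204) (iv6 D17492) D17491 D36198 F56918 (iv6 D36053) (iv1 D17447)
def n55761 : Q := act 5 n26912
theorem D55761 : act 5 n26912 = n55761 := rfl
theorem F88197 : act 0 n36835 = n55761 := d21_1 D36835 (iv5 D55761) (iv6 D26912) (iv1 D12876) (iv6 D6105) (iv5 D2571) D2568 F13324 D8370 D17751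
theorem F88198 : act 1 n36710 = n55761 := d15_0 (iv0 F88197) F59799 F59800
theorem F88199 : act 0 n36711 = n36226 := d21_10 (iv5 D36226) (iv1 F56822) F56819 (iv6 F43335) (iv1 F43337) D26912 D55761 (iv1 F88198) (iv5 D36710) D36711
def n55762 : Q := act 7 n26912
theorem D55762 : act 7 n26912 = n55762 := rfl
def n55763 : Q := act 2 n26913
theorem D55763 : act 2 n26913 = n55763 := rfl
theorem F88200 : act 7 n26914 = n55763 := d15_2 (iv0 D26913) D26914 (iv2 D55763)
def n55764 : Q := act 3 n26913
theorem D55764 : act 3 n26913 = n55764 := rfl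
def n55765 : Q := act 4 n26913
theorem D55765 : act 4 n26913 = n55765 := rfl
def n55766 : Q := act 5 n26913
theorem D55766 : act 5 n26913 = n55766 := rfl
theorem F88201 : act 0 n35304 = n55766 := d21_10 (iv5 D55766) (iv1 F88059) F88056 F43335 (iv1 F28449) D17497 D36221 (iv1 F59810) (iv5 F55983) D35304
def n55767 : Q := act 7 n26913
theorem D55767 : act 7 n26913 = n55767 := rfl
theorem F88202 : act 2 n55767 = n26914 := d4_1 D55767 F88200 (iv2 D55763)
def n55768 : Q := act 3 n26914
theorem D55768 : act 3 n26914 = n55768 := rfl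
def n55769 : Q := act 4 n26914
theorem D55769 : act 4 n26914 = n55769 := rfl
def n55770 : Q := act 6 n26914
theorem D55770 : act 6 n26914 = n55770 := rfl
def n55771 : Q := act 0 n26915
theorem D55771 : act 0 n26915 = n55771 := rfl
def n55772 : Q := act 1 n26915
theorem D55772 : act 1 n26915 = n55772 := rfl
def n55773 : Q := act 3 n26915
theorem D55773 : act 3 n26915 = n55773 := rfl
theorem F88203 : act 4 n55773 = n26953 := d5_2 D26915 D55773 (iv3 D26953) (iv4 D12896) (iv3 F21378)
theorem F88204 : act 6 n55773 = n26926 := d7_2 (iv6 F43402) D55773 (iv3 D26926)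
def n55774 : Q := act 5 n26915
theorem D55774 : act 5 n26915 = n55774 := rfl
def n55775 : Q := act 7 n26915
theorem D55775 : act 7 n26915 = n55775 := rfl
theorem F88205 : act 4 n55775 = n26916 := d11_1 D55775 (iv7 D26916) D26915
def n55776 : Q := act 6 n26916
theorem D55776 : act 6 n26916 = n55776 := rfl
theorem F88206 : act 3 n55776 = n26956 := d7_1 D55776 (iv6 D26956) (iv3 F43403)
theorem F88207 : act 5 n55776 = n36238 := d12_1 D55776 (iv6 D36238) F28483 (iv6 F21381) (iv5 F43404)
def n55777 : Q := act 4 n26918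
theorem D55777 : act 4 n26918 = n55777 := rfl
theorem F88211 : act 5 n55777 = n35590 := d17_5 F54670 (iv5 D34458) F27430 D26918 D55777 (iv0 D35590) (iv5 D17242) D17240 (iv4 F28512)
theorem F88212 : act 0 n55777 = n27029 := d18_2 (iv1 F43410) D55777 (iv4 D27029) (iv5 D12950) F9572 (iv0 F16793) (iv4 F21596) (iv0 F21598) D18465
def n55778 : Q := act 6 n26918
theorem D55778 : act 6 n26918 = n55778 := rfl
theorem F88214 : act 5 n55778 = n36956 := d12_1 D55778 (iv6 D36956) (iv5 D17786) (iv6 F21382) D26918
def n55779 : Q := act 1 n26919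
theorem D55779 : act 1 n26919 = n55779 := rfl
theorem F88215 : act 1 n55779 = n26922 := d15_1 D55779 F43417 (iv2 F43411)
theorem F88216 : act 7 n55779 = n36263 := d15_2 F87603 D55779 (iv2 F87600)
theorem F88217 : act 4 n55779 = n35317 := d18_7 (iv1 F30567) F30563 F27430 (iv4 D12879) D12880 D26919 D55779 (iv0 F56107) (iv5 D35393)
theorem F88218 : act 2 n36262 = n55779 := d1_3 F88217 F56033 (iv4 F57008)
def n55780 : Q := act 3 n26919
theorem D55780 : act 3 n26919 = n55780 := rfl
theorem F88219 : act 7 n55780 = n36264 := d8_2 (iv7 F43412) D55780 (iv3 D36264)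
def n55781 : Q := act 5 n26919
theorem D55781 : act 5 n26919 = n55781 := rfl
def n55782 : Q := act 6 n26919
theorem D55782 : act 6 n26919 = n55782 := rfl
theorem F88222 : act 2 n55782 = n36273 := d3_1 D55782 (iv6 D36273) (iv2 F43411)
theorem F88223 : act 4 n55782 = n26920 := d10_1 D55782 (iv6 D26920) D26919
def n55783 : Q := act 0 n26920
theorem D55783 : act 0 n26920 = n55783 := rfl
theorem F88224 : act 6 n55783 = n36133 := d21_5 (iv5 D6108) D6106 D12880 D26920 D55783 (iv5 D36133) (iv1 D17472) D17473 F28468 F16805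
def n55784 : Q := act 1 n26920
theorem D55784 : act 1 n26920 = n55784 := rfl
theorem F88225 : act 1 n55784 = n36276 := d15_1 D55784 (iv7 D36276) (iv2 F43413)
def n55785 : Q := act 7 n26920
theorem D55785 : act 7 n26920 = n55785 := rfl
theorem F88226 : act 2 n55785 = n36276 := d4_1 D55785 (iv7 D36276) (iv2 F43413)
theorem F88227 : act 5 n55785 = n36963 := d13_1 D55785 (iv7 D36963) (iv5 F43414)
theorem F88228 : act 6 n55785 = n36269 := d14_1 D55785 (iv7 D36269) (iv6 D17514) (iv7 F21384) D26920
theorem F88229 : act 1 n36276 = n55783 := d15_0 (iv0 D55783) D55785 F88226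
theorem F88231 : act 1 n55785 = n36274 := d15_0 (iv0 D36274) D36276 (iv2 F88226)
def n55786 : Q := act 4 n26921
theorem D55786 : act 4 n26921 = n55786 := rfl
theorem F88232 : act 2 n55786 = n27071 := d1_1 D55786 F54709 (iv2 F54707)
theorem F88234 : act 0 n55786 = n27075 := d18_2 F54700 D55786 F43734 F21570 F9579 (iv0 F12983) (iv4 F12982) (iv0 F27448) D34474
theorem F88235 : act 1 n55786 = n27029 := d18_6 (iv1 F12861) (iv4 F21359) (iv1 F21361) D12881 D26921 D55786 (iv4 D27029) F21528 (iv5 D8077)
theorem F88236 : act 5 n35591 = n55786 := d17_7 (iv1 F21674) (iv5 D8082) (iv1 D3645) D3646 D8086 D17242 D35591 F88235 (iv4 D27029)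
theorem F88237 : act 4 n55781 = n35591 := d16_2 D26919 D55781 F88236 (iv4 D55786) (iv5 D26921) (iv4 D12881) D12882 F21389 (iv2 F21383)
def n55787 : Q := act 6 n26921
theorem D55787 : act 6 n26921 = n55787 := rfl
theorem F88238 : act 3 n55787 = n39865 := d7_1 D55787 (iv6 D39865) (iv3 F43415)
def n55788 : Q := act 3 n26922
theorem D55788 : act 3 n26922 = n55788 := rfl
theorem F88240 : act 7 n55788 = n36271 := d8_2 (iv7 F43417) D55788 (iv3 D36271)
def n55789 : Q := act 5 n26922
theorem D55789 : act 5 n26922 = n55789 := rfl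
def n55790 : Q := act 6 n26922
theorem D55790 : act 6 n26922 = n55790 := rfl
theorem F88244 : act 2 n55790 = n36266 := d3_1 D55790 (iv6 D36266) (iv2 F43416)
theorem F88245 : act 4 n55790 = n26923 := d10_1 D55790 (iv6 D26923) D26922
def n55791 : Q := act 0 n26923
theorem D55791 : act 0 n26923 = n55791 := rfl
theorem F88246 : act 6 n55791 = n36710 := d21_5 F28498 (iv1 F21361) D12882 D26923 D55791 (iv5 D36710) (iv1 F59737) (iv5 F28505) (iv6 D17508) D17506
theorem F88247 : act 2 n36267 = n55791 := d3_3 F88246 (iv2 F59800) (iv6 F57013)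
theorem F88248 : act 3 n26967 = n55791 := d7_3 F88246 F57590 (iv6 F43518)
theorem F88249 : act 7 n35803 = n55791 := d14_0 F88246 F57591 (iv6 F56346) (iv7 F88182) F88185
theorem E8309 : n36268 = n35803 := (c15_2 (iv0 D36267) D36268 F88249 (iv2 F88247))
theorem F88250 : act 0 n35803 = n17514 := (sb E8309 (iv1 D36268))
def n55792 : Q := act 1 n26923
theorem D55792 : act 1 n26923 = n55792 := rfl
theorem F88251 : act 1 n55792 = n36269 := d15_1 D55792 (iv7 D36269) (iv2 F43418)
theorem F88252 : act 7 n55792 = n36267 := d15_2 (iv0 D55791) D55792 F88247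
theorem F88253 : act 2 n35803 = n55792 := d4_3 F88252 F88247 (iv7 F88249)
theorem F88254 : act 1 n36269 = n55791 := d15_1 F88251 (iv7 F88249) F88253
def n55793 : Q := act 7 n26923
theorem D55793 : act 7 n26923 = n55793 := rfl
theorem F88258 : act 1 n35803 = n55793 := d15_1 (iv0 F88250) (iv7 D55793) F43418
theorem F88259 : act 1 n55793 = n36267 := d15_1 F88258 (iv7 F88252) (iv2 F88253)
def n55794 : Q := act 3 n26924
theorem D55794 : act 3 n26924 = n55794 := rfl
def n55795 : Q := act 6 n26924
theorem D55795 : act 6 n26924 = n55795 := rfl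
theorem F88260 : act 4 n55795 = n35315 := d10_1 D55795 F56032 (iv4 F43420)
def n55796 : Q := act 3 n26925
theorem D55796 : act 3 n26925 = n55796 := rfl
def n55797 : Q := act 6 n26925
theorem D55797 : act 6 n26925 = n55797 := rfl
def n55798 : Q := act 0 n26926
theorem D55798 : act 0 n26926 = n55798 := rfl
def n55799 : Q := act 1 n26926
theorem D55799 : act 1 n26926 = n55799 := rfl
def n55800 : Q := act 2 n26926
theorem D55800 : act 2 n26926 = n55800 := rfl
theorem F88261 : act 4 n55800 = n26972 := d1_2 (iv4 F43421) D55800 (iv2 D26972)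
def n55801 : Q := act 5 n26926
theorem D55801 : act 5 n26926 = n55801 := rfl
def n55802 : Q := act 0 n26927
theorem D55802 : act 0 n26927 = n55802 := rfl
theorem F88263 : act 5 n55802 = n35551 := d17_3 (iv1 D26925) D26927 D55802 (iv4 D35551) (iv5 D17224) (iv0 F28309) D35105 (iv0 F55788) F43720
theorem F88264 : act 2 n36281 = n55802 := d2_3 F88263 F56229 D36281
theorem F88266 : act 4 n35566 = n55802 := d16_2 D17234 D35566 F88263 (iv4 D35551) (iv5 D17224) (iv4 D8076) D8077 F21673 (iv2 F21672)
def n55803 : Q := act 1 n26927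
theorem D55803 : act 1 n26927 = n55803 := rfl
theorem F88269 : act 7 n55803 = n36281 := d15_2 (iv0 D55802) D55803 F88264
theorem F88270 : act 5 n55803 = n35563 := d17_7 F21390 (iv5 D12882) (iv1 D6107) D6108 D12883 D26927 D55803 F56245 (iv4 D17457)
theorem F88271 : act 2 n36278 = n55803 := d2_3 F88270 F56242 D36278
theorem F88272 : act 4 n35555 = n55803 := d9_15 F88270 (iv4 D35563) (iv5 D17233) (iv4 D8081) D8082 D17234 D35566 F88266 F88263 (iv4 D35551) (iv5 D17224) (iv4 D8076) D8077 D17225 D35555
def n55804 : Q := act 4 n26927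
theorem D55804 : act 4 n26927 = n55804 := rfl
theorem F88274 : act 5 n55804 = n35341 := d9_2 D26927 D55804 (iv4 D35341) F28101 (iv4 F21359) (iv5 F28498) D36245 F56966 (iv4 D35592) (iv5 D17242) (iv4 D8086) (iv5 D3646) (iv4 F4102) D6108 D12883
theorem F88275 : act 0 n55804 = n35591 := d18_2 (iv1 D55803) D55804 (iv4 F88237) (iv5 D55781) (iv4 D26919) (iv0 F21386) (iv4 F28520) (iv0 F56244) (iv5 F88270)
theorem F88276 : act 1 n55804 = n35590 := d18_8 F88212 (iv4 D27029) (iv1 F21674) D17234 D35566 F88266 (iv0 D55802) D55804 (iv5 F88211)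
theorem F88277 : act 7 n55804 = n35397 := d15_2 D35591 (iv0 F88275) F56118
def n55806 : Q := act 7 n26927
theorem D55806 : act 7 n26927 = n55806 := rfl
theorem F88279 : act 4 n55806 = n35397 := d11_1 D55806 (iv7 F88277) (iv4 D55804)
theorem F88280 : act 5 n55806 = n26928 := d13_1 D55806 (iv7 D26928) D26927
theorem F88281 : act 1 n36278 = n55806 := d15_1 F88069 (iv7 D55806) (iv2 F88065)
theorem F88282 : act 1 n55806 = n36281 := d15_1 F88281 (iv7 F88269) (iv2 F88271)
def n55807 : Q := act 6 n26928
theorem D55807 : act 6 n26928 = n55807 := rfl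
theorem F88283 : act 4 n55807 = n26929 := d10_1 D55807 (iv6 D26929) (iv4 F43422)
def n55808 : Q := act 0 n26929
theorem D55808 : act 0 n26929 = n55808 := rfl
def n55809 : Q := act 1 n26929
theorem D55809 : act 1 n26929 = n55809 := rfl
def n55810 : Q := act 2 n26930
theorem D55810 : act 2 n26930 = n55810 := rfl
theorem F88284 : act 7 n26931 = n55810 := d15_2 (iv0 D26930) D26931 (iv2 D55810)
def n55811 : Q := act 3 n26930
theorem D55811 : act 3 n26930 = n55811 := rfl
theorem F88285 : act 4 n55811 = n39041 := d20_6 (iv4 F5371) D7347 F41941 D12886 D26930 D55811 (iv1 D39041) (iv4 D18535) (iv3 D8704) (iv1 D3899)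
def n55812 : Q := act 4 n26930
theorem D55812 : act 4 n26930 = n55812 := rfl
theorem F88286 : act 0 n55812 = n38972 := d20_1 D55812 (iv4 D38972) (iv3 D18499) (iv1 D8695) F5853 (iv4 F5371) D7347 F41941 D12886 D26930
def n55813 : Q := act 5 n26930
theorem D55813 : act 5 n26930 = n55813 := rfl
def n55814 : Q := act 6 n26930
theorem D55814 : act 6 n26930 = n55814 := rfl
def n55815 : Q := act 7 n26930
theorem D55815 : act 7 n26930 = n55815 := rfl
def n55816 : Q := act 3 n26931
theorem D55816 : act 3 n26931 = n55816 := rfl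
def n55817 : Q := act 4 n26931
theorem D55817 : act 4 n26931 = n55817 := rfl
def n55818 : Q := act 5 n26931
theorem D55818 : act 5 n26931 = n55818 := rfl
def n55820 : Q := act 4 n26932
theorem D55820 : act 4 n26932 = n55820 := rfl
theorem F88288 : act 2 n55820 = n26933 := d1_1 D55820 (iv4 D26933) D26932
theorem F88289 : act 7 n55820 = n35687 := d11_2 (iv7 F43427) D55820 (iv4 D35687)
theorem F88290 : act 1 n35691 = n55820 := d15_1 D35691 F88289 F56366
theorem F88291 : act 1 n55820 = n35690 := d15_0 (iv0 D35690) (iv7 F43431) (iv2 F88288)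
def n55821 : Q := act 5 n26932
theorem D55821 : act 5 n26932 = n55821 := rfl
theorem F88292 : act 2 n55821 = n26934 := d2_1 D55821 (iv5 D26934) D26932
theorem F88293 : act 3 n55821 = n35645 := d6_1 D55821 (iv5 D35645) (iv3 F43426)
theorem F88294 : act 7 n55821 = n35688 := d13_2 (iv7 F43427) D55821 (iv5 D35688)
theorem F88295 : act 1 n35696 = n55821 := d15_1 D35696 F88294 F56367
theorem F88296 : act 1 n55821 = n35695 := d15_0 (iv0 D35695) (iv7 F43433) (iv2 F88292)
def n55822 : Q := act 0 n26933
theorem D55822 : act 0 n26933 = n55822 := rfl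
theorem F88297 : act 1 n35687 = n55822 := d15_0 (iv0 D55822) F43431 (iv2 F56366)
def n55823 : Q := act 1 n26933
theorem D55823 : act 1 n26933 = n55823 := rfl
theorem F88298 : act 1 n55823 = n35687 := d15_1 D55823 (iv7 F88289) F88288
def n55824 : Q := act 5 n26933
theorem D55824 : act 5 n26933 = n55824 := rfl
theorem F88299 : act 7 n55824 = n35693 := d13_2 (iv7 F43431) D55824 (iv5 D35693)
def n55825 : Q := act 0 n26934
theorem D55825 : act 0 n26934 = n55825 := rfl
theorem F88300 : act 1 n35688 = n55825 := d15_0 (iv0 D55825) F43433 (iv2 F56367)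
def n55826 : Q := act 1 n26934
theorem D55826 : act 1 n26934 = n55826 := rfl
theorem F88301 : act 1 n55826 = n35688 := d15_1 D55826 (iv7 F88294) F88292
def n55827 : Q := act 4 n26934
theorem D55827 : act 4 n26934 = n55827 := rfl
theorem F88302 : act 7 n55827 = n35697 := d11_2 (iv7 F43433) D55827 (iv4 D35697)
def n55828 : Q := act 3 n26935
theorem D55828 : act 3 n26935 = n55828 := rfl
theorem F88303 : act 5 n55828 = n36679 := d6_2 (iv5 F43434) D55828 F57554
theorem F88304 : act 6 n55828 = n36704 := d7_2 (iv6 F43435) D55828 F57579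
theorem F88305 : act 7 n55828 = n35669 := d8_2 F51263 D55828 (iv3 D35669)
def n55829 : Q := act 4 n26935
theorem D55829 : act 4 n26935 = n55829 := rfl
theorem F88306 : act 2 n55829 = n35668 := d1_1 D55829 (iv4 D35668) (iv2 F51238)
theorem F88307 : act 6 n55829 = n36705 := d10_2 (iv6 F43435) D55829 (iv4 D36705)
theorem F88308 : act 7 n55829 = n35670 := d11_2 F51263 D55829 (iv4 D35670)
theorem F88309 : act 0 n55829 = n27692 := d18_2 D26935 D55829 (iv4 D27692) (iv5 D13220) (iv4 F30358) F21137 F11835 F9493 D12888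
theorem F88310 : act 1 n55829 = n27685 := d18_6 F43192 (iv4 F29941) (iv1 F51339) F43091 (iv5 F43434) D55829 (iv4 D27685) D27684 (iv5 F44622)
def n55830 : Q := act 4 n26936
theorem D55830 : act 4 n26936 = n55830 := rfl
theorem F88311 : act 2 n55830 = n35670 := d1_1 D55830 (iv4 D35670) F51328
theorem F88312 : act 6 n55830 = n35804 := d10_2 (iv6 F43439) D55830 (iv4 D35804)
theorem F88313 : act 7 n55830 = n35668 := d11_2 (iv7 F51234) D55830 (iv4 D35668)
theorem F88314 : act 0 n55830 = n27685 := d18_2 (iv1 F43437) D55830 (iv4 D27685) (iv5 D13216) (iv4 F30354) (iv0 D12730) F9355 D6111 D12892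
theorem F88315 : act 1 n55830 = n27692 := d18_6 F30018 (iv4 F53213) F53217 F51227 F43438 D55830 (iv4 D27692) F43247 (iv5 D26846)
def n55831 : Q := act 3 n26937
theorem D55831 : act 3 n26937 = n55831 := rfl
theorem F88316 : act 7 n55831 = n35712 := d8_2 (iv7 F43441) D55831 (iv3 D35712)
def n55832 : Q := act 2 n26938
theorem D55832 : act 2 n26938 = n55832 := rfl
theorem F88317 : act 7 n26939 = n55832 := d15_2 (iv0 D26938) D26939 (iv2 D55832)
def n55833 : Q := act 3 n26938
theorem D55833 : act 3 n26938 = n55833 := rfl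
theorem F88318 : act 4 n55833 = n39014 := d20_6 (iv4 F20845) (iv1 F20848) (iv4 F41950) D12890 D26938 D55833 (iv1 D39014) (iv4 D18516) (iv3 D8699) (iv1 F9779)
def n55834 : Q := act 4 n26938
theorem D55834 : act 4 n26938 = n55834 := rfl
def n55835 : Q := act 5 n26938
theorem D55835 : act 5 n26938 = n55835 := rfl
def n55837 : Q := act 7 n26938
theorem D55837 : act 7 n26938 = n55837 := rfl
theorem F88319 : act 2 n55837 = n26939 := d4_1 D55837 F88317 (iv2 D55832)
def n55838 : Q := act 3 n26939
theorem D55838 : act 3 n26939 = n55838 := rfl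
theorem F88320 : act 4 n38954 = n55838 := d20_2 D18495 D38954 (iv3 D55838) (iv1 D26939) (iv3 D12890) F41950 (iv1 D7348) F5371 (iv3 F5853) D8694
theorem F88321 : act 4 n38969 = n35690 := d20_0 (iv1 F88291) (iv4 D55820) F43426 (iv1 F43446) D55838 (iv4 F88320) (iv1 F59989) (iv4 D18500) D18499 D38969
def n55839 : Q := act 4 n26939
theorem D55839 : act 4 n26939 = n55839 := rfl
def n55840 : Q := act 5 n26939
theorem D55840 : act 5 n26939 = n55840 := rfl
def n55841 : Q := act 6 n26939
theorem D55841 : act 6 n26939 = n55841 := rfl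
def n55842 : Q := act 4 n26940
theorem D55842 : act 4 n26940 = n55842 := rfl
theorem F88322 : act 2 n55842 = n26941 := d1_1 D55842 (iv4 D26941) D26940
theorem F88323 : act 7 n55842 = n35644 := d11_2 (iv7 F43444) D55842 (iv4 D35644)
theorem F88324 : act 1 n35648 = n55842 := d15_1 D35648 F88323 F56313
theorem F88325 : act 1 n55842 = n35647 := d15_0 (iv0 D35647) (iv7 F43448) (iv2 F88322)
def n55843 : Q := act 5 n26940
theorem D55843 : act 5 n26940 = n55843 := rfl
theorem F88326 : act 2 n55843 = n26942 := d2_1 D55843 (iv5 D26942) D26940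
theorem F88327 : act 3 n55843 = n35688 := d6_1 D55843 (iv5 D35688) (iv3 F43443)
theorem F88328 : act 7 n55843 = n35645 := d13_2 (iv7 F43444) D55843 (iv5 D35645)
theorem F88329 : act 1 n35653 = n55843 := d15_1 D35653 F88328 F56314
theorem F88330 : act 1 n55843 = n35652 := d15_0 (iv0 D35652) (iv7 F43450) (iv2 F88326)
def n55844 : Q := act 6 n26940
theorem D55844 : act 6 n26940 = n55844 := rfl
theorem F88331 : act 2 n55844 = n26943 := d3_1 D55844 (iv6 D26943) D26940
theorem F88332 : act 3 n55844 = n35689 := d7_1 D55844 (iv6 D35689) (iv3 F43443)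
def n55845 : Q := act 0 n26941
theorem D55845 : act 0 n26941 = n55845 := rfl
theorem F88333 : act 1 n35644 = n55845 := d15_0 (iv0 D55845) F43448 (iv2 F56313)
def n55846 : Q := act 1 n26941
theorem D55846 : act 1 n26941 = n55846 := rfl
theorem F88334 : act 1 n55846 = n35644 := d15_1 D55846 (iv7 F88323) F88322
def n55847 : Q := act 5 n26941
theorem D55847 : act 5 n26941 = n55847 := rfl
theorem F88335 : act 7 n55847 = n35650 := d13_2 (iv7 F43448) D55847 (iv5 D35650)
def n55848 : Q := act 6 n26941
theorem D55848 : act 6 n26941 = n55848 := rfl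
theorem F88336 : act 4 n55848 = n26943 := d10_1 D55848 (iv6 D26943) D26941
def n55849 : Q := act 0 n26942
theorem D55849 : act 0 n26942 = n55849 := rfl
theorem F88337 : act 1 n35645 = n55849 := d15_0 (iv0 D55849) F43450 (iv2 F56314)
def n55850 : Q := act 1 n26942
theorem D55850 : act 1 n26942 = n55850 := rfl
theorem F88338 : act 1 n55850 = n35645 := d15_1 D55850 (iv7 F88328) F88326
def n55851 : Q := act 4 n26942
theorem D55851 : act 4 n26942 = n55851 := rfl
theorem F88339 : act 7 n55851 = n35654 := d11_2 (iv7 F43450) D55851 (iv4 D35654)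
def n55852 : Q := act 6 n26942
theorem D55852 : act 6 n26942 = n55852 := rfl
theorem F88340 : act 3 n55852 = n26945 := d7_1 D55852 (iv6 D26945) (iv3 F43449)
theorem F88341 : act 7 n36458 = n55852 := d8_0 F88340 (iv7 F43457) D36458
def n55853 : Q := act 0 n26943
theorem D55853 : act 0 n26943 = n55853 := rfl
def n55854 : Q := act 1 n26943
theorem D55854 : act 1 n26943 = n55854 := rfl
def n55855 : Q := act 5 n26943
theorem D55855 : act 5 n26943 = n55855 := rfl
theorem F88342 : act 3 n55855 = n26947 := d6_1 D55855 (iv5 D26947) (iv3 F43451)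
theorem F88343 : act 7 n55855 = n36392 := d13_2 F57612 D55855 (iv5 F57611)
def n55856 : Q := act 3 n26944
theorem D55856 : act 3 n26944 = n55856 := rfl
theorem F88344 : act 7 n55856 = n35673 := d8_2 (iv7 F43453) D55856 (iv3 D35673)
def n55857 : Q := act 5 n26945
theorem D55857 : act 5 n26945 = n55857 := rfl
theorem F88347 : act 7 n55857 = n27099 := d13_2 F43457 D55857 F43793
theorem F88348 : act 0 n55857 = n33912 := d21_1 D55857 (iv5 F57214) (iv6 D36435) (iv1 D17591) (iv6 D8260) (iv5 D3715) (iv1 F4165) (iv5 F9591) D12986 F43456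
theorem F88349 : act 0 n35777 = n55857 := d21_10 (iv5 D55857) F43455 (iv5 F43490) (iv6 D26956) (iv1 F21403) D17318 (iv5 F28983) F56445 (iv5 D35776) D35777
def n55858 : Q := act 3 n26946
theorem D55858 : act 3 n26946 = n55858 := rfl
theorem F88350 : act 5 n55858 = n35259 := d6_2 (iv5 F43458) D55858 (iv3 D35259)
theorem F88351 : act 6 n55858 = n36341 := d7_2 (iv6 F43460) D55858 (iv3 D36341)
def n55859 : Q := act 4 n26947
theorem D55859 : act 4 n26947 = n55859 := rfl
theorem F88353 : act 2 n55859 = n35717 := d1_1 D55859 (iv4 D35717) (iv2 F43465)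
theorem F88354 : act 7 n55859 = n36395 := d11_2 (iv7 F43466) D55859 F57141
theorem F88355 : act 0 n55859 = n35156 := d18_2 F43467 D55859 (iv4 D35156) (iv5 D17068) (iv4 F43174) F25188 F25185 F13149 D17690
theorem F88356 : act 1 n55859 = n35149 := d18_6 F29127 (iv4 F37329) F51919 F41951 D26947 D55859 (iv4 D35149) (iv0 F29898) F29896
def n55860 : Q := act 0 n26948
theorem D55860 : act 0 n26948 = n55860 := rfl
theorem F88357 : act 1 n35727 = n55860 := d15_0 (iv0 D55860) F43468 D35727
def n55861 : Q := act 1 n26948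
theorem D55861 : act 1 n26948 = n55861 := rfl
def n55862 : Q := act 2 n26948
theorem D55862 : act 2 n26948 = n55862 := rfl
theorem F88358 : act 3 n55862 = n35720 := d0_2 D26948 D55862 (iv2 D35720) (iv3 D17312) (iv2 F30498)
theorem F88359 : act 7 n55862 = n35727 := d4_2 (iv7 F43468) D55862 (iv2 D35727)
theorem F88360 : act 1 n55862 = n35725 := d15_0 (iv0 D35725) (iv7 F43468) D55862
theorem F88361 : act 1 n55861 = n35727 := d15_1 D55861 (iv7 F88359) (iv2 D55862)
theorem F88362 : act 1 n35726 = n55862 := d15_1 D35726 F88359 (iv2 D35727)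
def n55863 : Q := act 4 n26948
theorem D55863 : act 4 n26948 = n55863 := rfl
theorem F88363 : act 7 n55863 = n35728 := d11_2 (iv7 F43468) D55863 (iv4 D35728)
def n55864 : Q := act 0 n26949
theorem D55864 : act 0 n26949 = n55864 := rfl
theorem F88364 : act 1 n35720 = n55864 := d15_0 (iv0 D55864) F43469 D35720
def n55865 : Q := act 1 n26949
theorem D55865 : act 1 n26949 = n55865 := rfl
def n55866 : Q := act 2 n26949
theorem D55866 : act 2 n26949 = n55866 := rfl
theorem F88365 : act 3 n55866 = n35727 := d0_2 D26949 D55866 (iv2 D35727) (iv3 D17316) (iv2 F30496)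
theorem F88366 : act 7 n55866 = n35720 := d4_2 (iv7 F43469) D55866 (iv2 D35720)
theorem F88367 : act 1 n55866 = n35718 := d15_0 (iv0 D35718) (iv7 F43469) D55866
theorem F88368 : act 1 n55865 = n35720 := d15_1 D55865 (iv7 F88366) (iv2 D55866)
theorem F88369 : act 1 n35719 = n55866 := d15_1 D35719 F88366 (iv2 D35720)
def n55867 : Q := act 4 n26949
theorem D55867 : act 4 n26949 = n55867 := rfl
theorem F88370 : act 7 n55867 = n35721 := d11_2 (iv7 F43469) D55867 (iv4 D35721)
def n55868 : Q := act 6 n26949
theorem D55868 : act 6 n26949 = n55868 := rfl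
def n55869 : Q := act 3 n26951
theorem D55869 : act 3 n26951 = n55869 := rfl
theorem F88372 : act 7 n55869 = n35736 := d8_2 (iv7 F43477) D55869 (iv3 D35736)
def n55870 : Q := act 5 n26951
theorem D55870 : act 5 n26951 = n55870 := rfl
theorem F88373 : act 2 n55870 = n35735 := d2_1 D55870 (iv5 D35735) F43478
theorem F88374 : act 7 n55870 = n35737 := d13_2 (iv7 F43477) D55870 (iv5 D35737)
def n55871 : Q := act 3 n26952
theorem D55871 : act 3 n26952 = n55871 := rfl
theorem F88375 : act 7 n55871 = n35734 := d8_2 F43481 D55871 (iv3 D35734)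
def n55872 : Q := act 5 n26952
theorem D55872 : act 5 n26952 = n55872 := rfl
theorem F88376 : act 2 n55872 = n35737 := d2_1 D55872 (iv5 D35737) F43473
theorem F88377 : act 7 n55872 = n35735 := d13_2 F43481 D55872 (iv5 D35735)
def n55874 : Q := act 0 n26953
theorem D55874 : act 0 n26953 = n55874 := rfl
def n55875 : Q := act 1 n26953
theorem D55875 : act 1 n26953 = n55875 := rfl
def n55876 : Q := act 2 n26953
theorem D55876 : act 2 n26953 = n55876 := rfl
theorem F88380 : act 3 n55876 = n35741 := d0_2 D26953 D55876 (iv2 D35741) (iv3 D17321) (iv2 F21398)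
theorem F88381 : act 6 n55876 = n26972 := d3_2 (iv6 F43483) D55876 (iv2 D26972)
def n55877 : Q := act 5 n26953
theorem D55877 : act 5 n26953 = n55877 := rfl
theorem F88382 : act 3 n55877 = n26954 := d6_1 D55877 (iv5 D26954) D26953
def n55878 : Q := act 7 n26953
theorem D55878 : act 7 n26953 = n55878 := rfl
theorem F88383 : act 3 n55878 = n26955 := d8_1 D55878 (iv7 D26955) D26953
def n55879 : Q := act 0 n26954
theorem D55879 : act 0 n26954 = n55879 := rfl
theorem F88384 : act 5 n55879 = n27685 := d17_3 (iv1 D26952) D26954 D55879 (iv4 D27685) (iv5 D13216) (iv0 D6281) D6283 D13223 (iv4 F43472)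
theorem F88385 : act 2 n35744 = n55879 := d2_3 F88384 F44625 (iv5 F56419)
theorem F88386 : act 7 n35745 = n55879 := d13_0 F88384 F44626 (iv5 F56420)
theorem F88387 : act 1 n35748 = n55879 := d17_6 (iv1 D26936) (iv5 D12888) (iv1 F9493) (iv5 F12881) (iv4 F28253) (iv5 F56422) F88384 (iv0 F88314) (iv4 D55830)
def n55880 : Q := act 1 n26954
theorem D55880 : act 1 n26954 = n55880 := rfl
theorem F88389 : act 7 n55880 = n35744 := d15_2 (iv0 D55879) D55880 F88385
theorem F88390 : act 5 n55880 = n27692 := d17_7 (iv1 F43436) (iv5 D12892) (iv1 D6111) D6112 D12896 D26954 D55880 (iv0 F88309) (iv4 D55829)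
theorem F88391 : act 2 n35745 = n55880 := d2_3 F88390 F44637 (iv5 F56420)
def n55881 : Q := act 4 n26954
theorem D55881 : act 4 n26954 = n55881 := rfl
theorem F88392 : act 2 n55881 = n35746 := d1_1 D55881 (iv4 D35746) (iv2 F43484)
theorem F88393 : act 5 n55881 = n33877 := d9_2 D26954 D55881 F53229 F25873 F11835 (iv5 F12881) (iv4 F28253) (iv5 F56422) (iv4 F87229) (iv5 D55142) (iv4 D26646) (iv5 D12732) F9355 D6112 D12896
theorem F88394 : act 7 n33876 = n55881 := d13_0 F88393 (iv7 D33877) D33876
def n55882 : Q := act 6 n26954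
theorem D55882 : act 6 n26954 = n55882 := rfl
theorem F88395 : act 2 n55882 = n35747 := d3_1 D55882 (iv6 D35747) (iv2 F43484)
theorem F88396 : act 5 n55882 = n26974 := d12_1 D55882 (iv6 D26974) (iv5 D12907) (iv6 F21399) D26954
def n55883 : Q := act 7 n26954
theorem D55883 : act 7 n26954 = n55883 := rfl
theorem F88397 : act 2 n55883 = n35748 := d4_1 D55883 (iv7 D35748) (iv2 F43484)
theorem F88398 : act 4 n55883 = n33876 := d11_1 D55883 F88394 (iv4 D55881)
theorem F88399 : act 5 n55883 = n26955 := d13_1 D55883 (iv7 D26955) D26954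
theorem F88400 : act 1 n35745 = n55883 := d15_1 D35745 (iv7 D55883) F43484
theorem F88401 : act 1 n55883 = n35744 := d15_1 F88400 (iv7 F88389) (iv2 F88391)
def n55884 : Q := act 0 n26957
theorem D55884 : act 0 n26957 = n55884 := rfl
theorem F88402 : act 1 n35794 = n55884 := d15_0 (iv0 D55884) F43495 D35794
def n55885 : Q := act 1 n26957
theorem D55885 : act 1 n26957 = n55885 := rfl
def n55886 : Q := act 2 n26957
theorem D55886 : act 2 n26957 = n55886 := rfl
theorem F88403 : act 3 n55886 = n35765 := d0_2 D26957 D55886 (iv2 D35765) (iv3 D17331) (iv2 F21405)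
theorem F88404 : act 5 n55886 = n35765 := d2_2 (iv5 F43494) D55886 (iv2 D35765)
theorem F88405 : act 7 n55886 = n35794 := d4_2 (iv7 F43495) D55886 (iv2 D35794)
theorem F88406 : act 1 n55886 = n35792 := d15_0 (iv0 D35792) (iv7 F43495) D55886
theorem F88407 : act 1 n55885 = n35794 := d15_1 D55885 (iv7 F88405) (iv2 D55886)
theorem F88408 : act 1 n35793 = n55886 := d15_1 D35793 F88405 (iv2 D35794)
def n55887 : Q := act 6 n26957
theorem D55887 : act 6 n26957 = n55887 := rfl
theorem F88409 : act 3 n55887 = n26958 := d7_1 D55887 (iv6 D26958) D26957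
def n55889 : Q := act 7 n26958
theorem D55889 : act 7 n26958 = n55889 := rfl
theorem F88412 : act 2 n55889 = n35770 := d4_1 D55889 (iv7 D35770) (iv2 F43496)
theorem F88413 : act 4 n55889 = n26961 := d11_1 D55889 (iv7 D26961) (iv4 F43497)
theorem F88414 : act 6 n55889 = n35799 := d14_1 D55889 (iv7 D35799) (iv6 D17343) (iv7 F21406) D26958
theorem F88415 : act 1 n35768 = n55889 := d15_1 D35768 (iv7 D55889) F43496
theorem F88416 : act 1 n55889 = n35767 := d15_0 (iv0 D35767) D35770 (iv2 F88412)
def n55890 : Q := act 3 n26959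
theorem D55890 : act 3 n26959 = n55890 := rfl
theorem F88417 : act 6 n55890 = n33959 := d7_2 (iv6 F43498) D55890 F53294
theorem F88418 : act 7 n55890 = n35774 := d8_2 F53116 D55890 (iv3 D35774)
def n55891 : Q := act 4 n26959
theorem D55891 : act 4 n26959 = n55891 := rfl
theorem F88420 : act 6 n55891 = n33961 := d10_2 (iv6 F43498) D55891 (iv4 D33961)
theorem F88421 : act 7 n55891 = n35775 := d11_2 F53116 D55891 (iv4 D35775)
def n55892 : Q := act 3 n26960
theorem D55892 : act 3 n26960 = n55892 := rfl
theorem F88422 : act 7 n55892 = n35771 := d8_2 (iv7 F53117) D55892 (iv3 D35771)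
def n55893 : Q := act 4 n26960
theorem D55893 : act 4 n26960 = n55893 := rfl
theorem F88423 : act 2 n55893 = n35775 := d1_1 D55893 (iv4 D35775) F53118
theorem F88424 : act 7 n55893 = n35772 := d11_2 (iv7 F53117) D55893 (iv4 D35772)
def n55894 : Q := act 6 n26960
theorem D55894 : act 6 n26960 = n55894 := rfl
theorem F88427 : act 0 n55894 = n35715 := d21_4 (iv5 F43984) F58072 F58071 D55894 F56405 (iv5 D17309) D17307 F28592 (iv6 F57084) (iv1 F57086)
def n55895 : Q := act 4 n26962
theorem D55895 : act 4 n26962 = n55895 := rfl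
theorem F88429 : act 2 n55895 = n26963 := d1_1 D55895 (iv4 D26963) (iv2 F43506)
theorem F88430 : act 7 n55895 = n35751 := d11_2 (iv7 F43508) D55895 (iv4 D35751)
theorem F88431 : act 0 n55895 = n35756 := d18_2 F43510 D55895 F56436 (iv5 D34664) F27549 F13042 F12778 (iv0 F13769) D17079
theorem F88432 : act 1 n55895 = n35755 := d18_6 (iv1 F28262) (iv4 D17326) (iv1 F21416) F21413 D26962 D55895 F56435 F55921 F54645
def n55896 : Q := act 6 n26962
theorem D55896 : act 6 n26962 = n55896 := rfl
theorem F88433 : act 2 n55896 = n26964 := d3_1 D55896 (iv6 D26964) (iv2 F43506)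
theorem F88434 : act 3 n55896 = n35781 := d7_1 D55896 (iv6 D35781) (iv3 F43507)
theorem F88435 : act 5 n55896 = n55896 := d12_1 D55896 (iv6 D55896) (iv5 D26962) F21414 D26962
def n55897 : Q := act 0 n26963
theorem D55897 : act 0 n26963 = n55897 := rfl
theorem F88436 : act 4 n55897 = n35234 := d18_3 F28048 D26963 D55897 (iv5 D35234) (iv4 D17098) (iv0 D8000) F5657 D8001 D17100
theorem F88437 : act 2 n35756 = n55897 := d15_3 (iv0 D55897) (iv0 F59870) F59869
theorem F88438 : act 1 n35751 = n55897 := d15_0 (iv0 D55897) F43511 (iv2 F56430)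
theorem F88439 : act 7 n55897 = n35755 := d15_2 F59871 F88438 (iv2 F59868)
def n55898 : Q := act 3 n26963
theorem D55898 : act 3 n26963 = n55898 := rfl
theorem F88440 : act 4 n55898 = n26965 := d5_2 D26963 D55898 (iv3 D26965) (iv4 D12904) (iv3 F21421)
theorem F88441 : act 7 n55898 = n35757 := d8_2 (iv7 F43511) D55898 (iv3 D35757)
def n55899 : Q := act 5 n26963
theorem D55899 : act 5 n26963 = n55899 := rfl
theorem F88442 : act 7 n55899 = n35758 := d13_2 (iv7 F43511) D55899 (iv5 D35758)
def n55900 : Q := act 6 n26963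
theorem D55900 : act 6 n26963 = n55900 := rfl
theorem F88443 : act 4 n55900 = n26964 := d10_1 D55900 (iv6 D26964) D26963
def n55901 : Q := act 0 n26964
theorem D55901 : act 0 n26964 = n55901 := rfl
def n55902 : Q := act 1 n26964
theorem D55902 : act 1 n26964 = n55902 := rfl
def n55903 : Q := act 7 n26964
theorem D55903 : act 7 n26964 = n55903 := rfl
theorem F88444 : act 3 n55903 = n26969 := d8_1 D55903 (iv7 D26969) (iv3 F43512)
theorem F88446 : act 6 n55903 = n35762 := d14_1 D55903 (iv7 D35762) (iv6 D17330) (iv7 F21422) D26964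
def n55904 : Q := act 0 n26965
theorem D55904 : act 0 n26965 = n55904 := rfl
theorem F88447 : act 1 n35765 = n55904 := d15_0 (iv0 D55904) F43515 D35765
def n55905 : Q := act 1 n26965
theorem D55905 : act 1 n26965 = n55905 := rfl
def n55906 : Q := act 2 n26965
theorem D55906 : act 2 n26965 = n55906 := rfl
theorem F88448 : act 3 n55906 = n35794 := d0_2 D26965 D55906 (iv2 D35794) (iv3 D17342) (iv2 F21423)
theorem F88449 : act 5 n55906 = n35794 := d2_2 (iv5 F43514) D55906 (iv2 D35794)
theorem F88450 : act 7 n55906 = n35765 := d4_2 (iv7 F43515) D55906 (iv2 D35765)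
theorem F88451 : act 1 n55906 = n35763 := d15_0 (iv0 D35763) (iv7 F43515) D55906
theorem F88452 : act 1 n55905 = n35765 := d15_1 D55905 (iv7 F88450) (iv2 D55906)
theorem F88453 : act 1 n35764 = n55906 := d15_1 D35764 F88450 (iv2 D35765)
def n55907 : Q := act 6 n26965
theorem D55907 : act 6 n26965 = n55907 := rfl
theorem F88454 : act 3 n55907 = n26966 := d7_1 D55907 (iv6 D26966) D26965
def n55908 : Q := act 0 n26966
theorem D55908 : act 0 n26966 = n55908 := rfl
def n55909 : Q := act 1 n26966
theorem D55909 : act 1 n26966 = n55909 := rfl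
theorem F88455 : act 1 n55909 = n35799 := d15_1 D55909 (iv7 D35799) (iv2 F43516)
def n55910 : Q := act 5 n26966
theorem D55910 : act 5 n26966 = n55910 := rfl
theorem F88456 : act 2 n55910 = n35798 := d2_1 D55910 (iv5 D35798) (iv2 F43516)
theorem F88457 : act 6 n55910 = n35798 := d12_2 D26966 D55910 (iv5 D35798) (iv6 D17343) (iv5 F21424)
def n55911 : Q := act 7 n26966
theorem D55911 : act 7 n26966 = n55911 := rfl
theorem F88458 : act 2 n55911 = n35799 := d4_1 D55911 (iv7 D35799) (iv2 F43516)
theorem F88459 : act 4 n55911 = n26969 := d11_1 D55911 (iv7 D26969) (iv4 F43517)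
theorem F88460 : act 6 n55911 = n35770 := d14_1 D55911 (iv7 D35770) (iv6 D17332) (iv7 F21425) D26966
theorem F88461 : act 1 n35799 = n55908 := d15_0 (iv0 D55908) D55911 F88458
theorem F88462 : act 1 n35797 = n55911 := d15_1 D35797 (iv7 D55911) F43516
theorem F88463 : act 1 n55911 = n35796 := d15_0 (iv0 D35796) D35799 (iv2 F88458)
def n55912 : Q := act 4 n26967
theorem D55912 : act 4 n26967 = n55912 := rfl
theorem F88464 : act 2 n55912 = n35801 := d1_1 D55912 (iv4 D35801) F51324
theorem F88465 : act 6 n55912 = n36712 := d10_2 (iv6 F43518) D55912 (iv4 D36712)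
theorem F88466 : act 7 n55912 = n35804 := d11_2 F51321 D55912 (iv4 D35804)
def n55913 : Q := act 5 n26967
theorem D55913 : act 5 n26967 = n55913 := rfl
theorem F88467 : act 2 n55913 = n35802 := d2_1 D55913 (iv5 D35802) F51324
theorem F88468 : act 6 n55913 = n27083 := d12_2 (iv6 F43518) D55913 F43748 (iv6 D17695) D17694
theorem F88469 : act 7 n55913 = n35629 := d13_2 F51321 D55913 F56304
theorem F88470 : act 1 n35802 = n35858 := d15_0 (iv0 F61321) (iv7 F88469) F88467
def n55914 : Q := act 3 n26968
theorem D55914 : act 3 n26968 = n55914 := rfl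
theorem F88471 : act 6 n55914 = n35669 := d7_2 F43989 D55914 (iv3 D35669)
theorem F88472 : act 7 n55914 = n35800 := d8_2 (iv7 F51326) D55914 (iv3 D35800)
def n55915 : Q := act 4 n26968
theorem D55915 : act 4 n26968 = n55915 := rfl
theorem F88473 : act 2 n55915 = n35804 := d1_1 D55915 (iv4 D35804) F51327
theorem F88474 : act 6 n55915 = n35670 := d10_2 F43989 D55915 (iv4 D35670)
theorem F88475 : act 7 n55915 = n35801 := d11_2 (iv7 F51326) D55915 (iv4 D35801)
def n55916 : Q := act 2 n26970
theorem D55916 : act 2 n26970 = n55916 := rfl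
theorem F88476 : act 7 n26971 = n55916 := d15_2 (iv0 D26970) D26971 (iv2 D55916)
def n55917 : Q := act 3 n26970
theorem D55917 : act 3 n26970 = n55917 := rfl
def n55918 : Q := act 4 n26970
theorem D55918 : act 4 n26970 = n55918 := rfl
def n55919 : Q := act 5 n26970
theorem D55919 : act 5 n26970 = n55919 := rfl
def n55920 : Q := act 6 n26970
theorem D55920 : act 6 n26970 = n55920 := rfl
def n55921 : Q := act 7 n26970
theorem D55921 : act 7 n26970 = n55921 := rfl
theorem F88477 : act 2 n55921 = n26971 := d4_1 D55921 F88476 (iv2 D55916)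
def n55922 : Q := act 3 n26971
theorem D55922 : act 3 n26971 = n55922 := rfl
def n55923 : Q := act 4 n26971
theorem D55923 : act 4 n26971 = n55923 := rfl
def n55924 : Q := act 5 n26971
theorem D55924 : act 5 n26971 = n55924 := rfl
def n55925 : Q := act 6 n26971
theorem D55925 : act 6 n26971 = n55925 := rfl
def n55926 : Q := act 5 n26972
theorem D55926 : act 5 n26972 = n55926 := rfl
theorem F88478 : act 2 n55926 = n26973 := d2_1 D55926 (iv5 D26973) D26972
theorem F88479 : act 3 n55926 = n35837 := d6_1 D55926 (iv5 D35837) (iv3 F43526)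
theorem F88480 : act 7 n55926 = n27110 := d13_2 F60733 D55926 (iv5 F60732)
theorem F88481 : act 1 n27109 = n55926 := d15_1 D27109 F88480 (iv2 D27110)
theorem F88482 : act 1 n55926 = n27108 := d15_0 (iv0 D27108) (iv7 F43528) (iv2 F88478)
def n55927 : Q := act 0 n26973
theorem D55927 : act 0 n26973 = n55927 := rfl
theorem F88483 : act 1 n27110 = n55927 := d15_0 (iv0 D55927) F43528 D27110
def n55928 : Q := act 1 n26973
theorem D55928 : act 1 n26973 = n55928 := rfl
theorem F88484 : act 1 n55928 = n27110 := d15_1 D55928 (iv7 F88480) F88478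
def n55929 : Q := act 4 n26973
theorem D55929 : act 4 n26973 = n55929 := rfl
theorem F88485 : act 3 n55929 = n27075 := d5_1 D55929 F43734 F21569 (iv4 F21430) (iv3 F43527)
theorem F88486 : act 7 n55929 = n27073 := d11_2 (iv7 F43528) D55929 F43733
def n55930 : Q := act 6 n26973
theorem D55930 : act 6 n26973 = n55930 := rfl
def n55931 : Q := act 0 n26974
theorem D55931 : act 0 n26974 = n55931 := rfl
theorem F88488 : act 6 n55931 = n27692 := d21_5 F12404 F9832 D12907 D26974 D55931 (iv5 F88390) (iv1 D55880) (iv5 D26954) F21399 (iv1 F12405)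
theorem F88489 : act 2 n35843 = n55931 := d3_3 F88488 F44637 (iv6 F56505)
theorem F88490 : act 4 n27693 = n55931 := d10_3 F88488 (iv4 D27692) D27693
theorem F88491 : act 7 n55931 = n39892 := d11_2 F44642 F88490 (iv4 D39892)
theorem E8310 : n39892 = n35844 := ((c15_2 (iv0 D35843) D35844 (iv7 F88491) (iv2 F88489))).symm
theorem F88492 : act 4 n35844 = n18872 := (sb E8310 (iv4 D39892))
theorem F88493 : act 7 n35844 = n55931 := (sb E8310 (iv7 F88491))
theorem E8311 : n39922 = n39914 := ((c18_2 (iv1 F30121) D39914 (iv1 D39922) F30129 F21435 (iv4 F28296) D35844 F88492 F44801 F44798)).symm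
theorem F88494 : act 0 n39914 = n18881 := (sb E8311 (iv1 D39922))
theorem F88495 : act 1 n39914 = n35749 := (sb E8311 F60740)
def n55932 : Q := act 1 n26974
theorem D55932 : act 1 n26974 = n55932 := rfl
theorem F88496 : act 1 n55932 = n35845 := d15_1 D55932 (iv7 D35845) (iv2 F43529)
theorem F88497 : act 7 n55932 = n35843 := d15_2 (iv0 D55931) D55932 F88489
theorem F88498 : act 2 n35844 = n55932 := d4_3 F88497 F88489 (iv7 F88493)
theorem F88499 : act 4 n27913 = n55932 := d11_3 F88497 (iv4 F56506) (iv7 F45076)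
theorem F88500 : act 6 n39807 = n55932 := d14_5 F88497 F56505 (iv7 F44626) (iv6 F58349) (iv7 F60632)
theorem F88501 : act 4 n35847 = n27919 := d18_7 (iv1 F45075) F88499 (iv1 D55932) F43530 F21586 (iv4 F28297) D35847 F45089 F30123
theorem F88502 : act 1 n35845 = n55931 := d15_1 F88496 (iv7 F88493) F88498
theorem F88503 : act 4 n27918 = n35846 := d18_1 D27918 (iv1 F60748) F60744 F43490 (iv4 F56507) F88502 (iv4 F88490) (iv0 F44641) (iv5 F22125)
def n55933 : Q := act 7 n26974
theorem D55933 : act 7 n26974 = n55933 := rfl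
theorem F88505 : act 4 n55933 = n27107 := d11_1 D55933 F43819 (iv4 F43530)
theorem F88506 : act 6 n55933 = n27106 := d14_1 D55933 (iv7 D27106) F21579 (iv7 F21431) D26974
theorem F88507 : act 1 n35844 = n55933 := d15_1 D35844 (iv7 D55933) F43529
theorem F88508 : act 1 n55933 = n35843 := d15_1 F88507 (iv7 F88497) (iv2 F88498)
theorem E8312 : n39921 = n39909 := ((c18_2 D18877 D39909 (iv1 F60746) F56423 (iv5 F43818) (iv4 F88505) F88508 (iv4 F56506) (iv0 F29722) (iv5 F13744))).symm
theorem F88509 : act 0 n39909 = n35749 := (sb E8312 (iv1 F60746))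
theorem F88510 : act 1 n39909 = n18881 := (sb E8312 (iv0 D39921))
def n55934 : Q := act 2 n26975
theorem D55934 : act 2 n26975 = n55934 := rfl
theorem F88511 : act 7 n26976 = n55934 := d15_2 (iv0 D26975) D26976 (iv2 D55934)
def n55935 : Q := act 3 n26975
theorem D55935 : act 3 n26975 = n55935 := rfl
def n55936 : Q := act 4 n26975
theorem D55936 : act 4 n26975 = n55936 := rfl
theorem F88512 : act 0 n55936 = n39906 := d18_2 D26975 D55936 F60718 F30123 (iv4 F60237) (iv0 F60239) F56403 (iv0 F28247) (iv5 F21435)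
theorem F88513 : act 1 n55936 = n27917 := d15_1 (iv0 F88512) (iv7 F60085) (iv2 F60717)
def n55937 : Q := act 5 n26975
theorem D55937 : act 5 n26975 = n55937 := rfl
theorem F88514 : act 0 n36435 = n55937 := d21_10 (iv5 D55937) (iv1 F43531) (iv5 F43818) (iv6 D27107) (iv1 F21583) D17574 (iv5 F28782) (iv1 F28959) F28960 D36435
def n55938 : Q := act 7 n26975
theorem D55938 : act 7 n26975 = n55938 := rfl
theorem F88515 : act 2 n55938 = n26976 := d4_1 D55938 F88511 (iv2 D55934)
def n55939 : Q := act 3 n26976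
theorem D55939 : act 3 n26976 = n55939 := rfl
def n55940 : Q := act 4 n26976
theorem D55940 : act 4 n26976 = n55940 := rfl
theorem F88516 : act 0 n55940 = n27917 := d18_2 (iv1 F43532) D55940 F45087 F22125 (iv4 F45074) F60699 (iv4 D36459) F43821 F43818
theorem F88517 : act 1 n55940 = n39906 := d15_1 (iv0 F88516) (iv7 D39906) (iv2 F45086)
def n55941 : Q := act 6 n26976
theorem D55941 : act 6 n26976 = n55941 := rfl
theorem F88518 : act 0 n35822 = n55941 := d21_4 (iv5 D17734) D17732 F28838 D35822 (iv6 D55941) (iv5 F56512) F57215 F57214 (iv6 D33912) F28957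
theorem F88519 : act 1 n55913 = n55941 := d15_0 (iv0 F88518) F56485 (iv2 F88467)
def n55942 : Q := act 4 n26978
theorem D55942 : act 4 n26978 = n55942 := rfl
theorem F88520 : act 2 n55942 = n26979 := d1_1 D55942 (iv4 D26979) (iv2 F43539)
theorem F88521 : act 7 n55942 = n35860 := d11_2 (iv7 F43541) D55942 (iv4 D35860)
theorem F88522 : act 0 n55942 = n35863 := d18_2 F43543 D55942 F56526 (iv5 D27641) (iv4 D13199) F12741 F12739 F12742 D13197
theorem F88523 : act 1 n55942 = n35862 := d18_6 F30566 (iv4 D17365) (iv1 F21445) F21442 D26978 D55942 F56525 F44558 F43728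
def n55943 : Q := act 6 n26978
theorem D55943 : act 6 n26978 = n55943 := rfl
theorem F88524 : act 2 n55943 = n26980 := d3_1 D55943 (iv6 D26980) (iv2 F43539)
theorem F88525 : act 3 n55943 = n35886 := d7_1 D55943 (iv6 D35886) (iv3 F43540)
theorem F88526 : act 5 n55943 = n55943 := d12_1 D55943 (iv6 D55943) (iv5 D26978) F21443 D26978
def n55944 : Q := act 0 n26979
theorem D55944 : act 0 n26979 = n55944 := rfl
theorem F88527 : act 4 n55944 = n35135 := d18_3 F21449 D26979 D55944 (iv5 D35135) (iv4 D17057) (iv0 D7980) F5646 (iv0 F14031) D12802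
theorem F88528 : act 2 n35863 = n55944 := d15_3 (iv0 D55944) (iv0 F87610) F87609
theorem F88529 : act 1 n35860 = n55944 := d15_0 (iv0 D55944) F43544 (iv2 F56521)
theorem F88530 : act 7 n55944 = n35862 := d15_2 F87611 F88529 (iv2 F87608)
def n55945 : Q := act 3 n26979
theorem D55945 : act 3 n26979 = n55945 := rfl
theorem F88531 : act 4 n55945 = n26981 := d5_2 D26979 D55945 (iv3 D26981) (iv4 D12912) (iv3 F21447)
theorem F88532 : act 7 n55945 = n35864 := d8_2 (iv7 F43544) D55945 (iv3 D35864)
def n55946 : Q := act 5 n26979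
theorem D55946 : act 5 n26979 = n55946 := rfl
theorem F88533 : act 7 n55946 = n35865 := d13_2 (iv7 F43544) D55946 (iv5 D35865)
def n55947 : Q := act 6 n26979
theorem D55947 : act 6 n26979 = n55947 := rfl
theorem F88534 : act 4 n55947 = n26980 := d10_1 D55947 (iv6 D26980) D26979
def n55948 : Q := act 0 n26980
theorem D55948 : act 0 n26980 = n55948 := rfl
def n55949 : Q := act 1 n26980
theorem D55949 : act 1 n26980 = n55949 := rfl
def n55950 : Q := act 7 n26980
theorem D55950 : act 7 n26980 = n55950 := rfl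
theorem F88535 : act 3 n55950 = n26985 := d8_1 D55950 (iv7 D26985) (iv3 F43545)
theorem F88537 : act 6 n55950 = n35869 := d14_1 D55950 (iv7 D35869) (iv6 D17368) (iv7 F21448) D26980
def n55951 : Q := act 0 n26981
theorem D55951 : act 0 n26981 = n55951 := rfl
theorem F88538 : act 1 n35872 = n55951 := d15_0 (iv0 D55951) F43548 D35872
def n55952 : Q := act 1 n26981
theorem D55952 : act 1 n26981 = n55952 := rfl
def n55953 : Q := act 2 n26981
theorem D55953 : act 2 n26981 = n55953 := rfl
theorem F88539 : act 3 n55953 = n35896 := d0_2 D26981 D55953 (iv2 D35896) (iv3 D17378) (iv2 F21450)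
theorem F88540 : act 5 n55953 = n35896 := d2_2 (iv5 F43547) D55953 (iv2 D35896)
theorem F88541 : act 7 n55953 = n35872 := d4_2 (iv7 F43548) D55953 (iv2 D35872)
theorem F88542 : act 1 n55953 = n35870 := d15_0 (iv0 D35870) (iv7 F43548) D55953
theorem F88543 : act 1 n55952 = n35872 := d15_1 D55952 (iv7 F88541) (iv2 D55953)
theorem F88544 : act 1 n35871 = n55953 := d15_1 D35871 F88541 (iv2 D35872)
def n55954 : Q := act 6 n26981
theorem D55954 : act 6 n26981 = n55954 := rfl
theorem F88545 : act 3 n55954 = n26982 := d7_1 D55954 (iv6 D26982) D26981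
def n55955 : Q := act 0 n26982
theorem D55955 : act 0 n26982 = n55955 := rfl
def n55956 : Q := act 1 n26982
theorem D55956 : act 1 n26982 = n55956 := rfl
theorem F88546 : act 1 n55956 = n35901 := d15_1 D55956 (iv7 D35901) (iv2 F43549)
def n55957 : Q := act 5 n26982
theorem D55957 : act 5 n26982 = n55957 := rfl
theorem F88547 : act 2 n55957 = n35900 := d2_1 D55957 (iv5 D35900) (iv2 F43549)
def n55958 : Q := act 7 n26982
theorem D55958 : act 7 n26982 = n55958 := rfl
theorem F88549 : act 2 n55958 = n35901 := d4_1 D55958 (iv7 D35901) (iv2 F43549)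
theorem F88550 : act 4 n55958 = n26985 := d11_1 D55958 (iv7 D26985) (iv4 F43550)
theorem F88552 : act 1 n35901 = n55955 := d15_0 (iv0 D55955) D55958 F88549
theorem F88553 : act 1 n35899 = n55958 := d15_1 D35899 (iv7 D55958) F43549
theorem F88554 : act 1 n55958 = n35898 := d15_0 (iv0 D35898) D35901 (iv2 F88549)
def n55959 : Q := act 3 n26983
theorem D55959 : act 3 n26983 = n55959 := rfl
theorem F88555 : act 6 n55959 = n34795 := d7_2 (iv6 F43551) D55959 F54999
theorem F88556 : act 7 n55959 = n35905 := d8_2 F43553 D55959 (iv3 D35905)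
def n55960 : Q := act 4 n26983
theorem D55960 : act 4 n26983 = n55960 := rfl
theorem F88557 : act 2 n55960 = n35903 := d1_1 D55960 (iv4 D35903) F43552
theorem F88558 : act 6 n55960 = n34797 := d10_2 (iv6 F43551) D55960 (iv4 D34797)
theorem F88559 : act 7 n55960 = n35906 := d11_2 F43553 D55960 (iv4 D35906)
def n55961 : Q := act 5 n26983
theorem D55961 : act 5 n26983 = n55961 := rfl
theorem F88560 : act 2 n55961 = n35904 := d2_1 D55961 (iv5 D35904) F43552
theorem F88561 : act 6 n55961 = n27733 := d12_2 (iv6 F43551) D55961 F44743 (iv6 D16860) D16859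
theorem F88562 : act 7 n55961 = n27904 := d13_2 F43553 D55961 F45058
theorem F88563 : act 1 n39846 = n55961 := d15_1 D39846 F88562 F45057
theorem F88564 : act 1 n55961 = n39845 := d15_0 (iv0 D39845) (iv7 F56561) (iv2 F88560)
def n55962 : Q := act 3 n26984
theorem D55962 : act 3 n26984 = n55962 := rfl
theorem F88565 : act 5 n55962 = n39841 := d6_2 F43557 D55962 F60649
theorem F88566 : act 6 n55962 = n39023 := d7_2 F43556 D55962 (iv3 D39023)
theorem F88567 : act 7 n55962 = n35902 := d8_2 (iv7 F43555) D55962 (iv3 D35902)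
def n55963 : Q := act 4 n26984
theorem D55963 : act 4 n26984 = n55963 := rfl
theorem F88568 : act 2 n55963 = n35906 := d1_1 D55963 (iv4 D35906) F43559
theorem F88569 : act 6 n55963 = n39024 := d10_2 F43556 D55963 (iv4 D39024)
theorem F88570 : act 7 n55963 = n35903 := d11_2 (iv7 F43555) D55963 (iv4 D35903)
def n55964 : Q := act 5 n26986
theorem D55964 : act 5 n26986 = n55964 := rfl
theorem F88571 : act 2 n55964 = n34909 := d2_1 D55964 (iv5 D34909) (iv2 F43565)
theorem F88572 : act 3 n55964 = n55615 := d6_1 D55964 (iv5 D55615) (iv3 F43566)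
theorem F88573 : act 0 n55964 = n54773 := d17_2 F43567 D55964 (iv5 D54773) F42388 D26495 (iv0 F43608) (iv5 D27003) (iv0 F50543) (iv4 F37545)
theorem F88574 : act 1 n55964 = n49201 := d17_6 D14103 D29686 F54226 F46928 F45542 D55964 (iv5 D49201) (iv0 F37542) (iv4 D14106)
def n55965 : Q := act 4 n26987
theorem D55965 : act 4 n26987 = n55965 := rfl
theorem F88575 : act 2 n55965 = n26988 := d1_1 D55965 (iv4 D26988) (iv2 F43568)
theorem F88576 : act 5 n55965 = n33772 := d9_2 D26987 D55965 (iv4 D33772) (iv5 D16323) (iv4 D7589) F5429 (iv4 F5616) D7900 D16933 D34913 (iv4 F87156) (iv5 D55100) (iv4 D26629) F21129 (iv4 F21469)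
theorem F88577 : act 7 n55965 = n34910 := d11_2 (iv7 F43570) D55965 (iv4 D34910)
theorem F88578 : act 0 n55965 = n33020 := d17_0 F52197 F52285 (iv5 D33062) (iv4 D15945) (iv5 D7470) D7469 D15941 F43573 D55965
theorem F88579 : act 1 n55965 = n33003 := d18_6 (iv1 D16978) (iv4 D7931) (iv1 F9535) (iv4 F21469) D26987 D55965 (iv4 D33003) D33002 F52180
def n55966 : Q := act 6 n26987
theorem D55966 : act 6 n26987 = n55966 := rfl
theorem F88580 : act 2 n55966 = n26989 := d3_1 D55966 (iv6 D26989) (iv2 F43568)
theorem F88581 : act 3 n55966 = n52980 := d7_1 D55966 (iv6 D52980) (iv3 F43569)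
theorem F88582 : act 5 n55966 = n48752 := d12_1 D55966 (iv6 D48752) (iv5 F37309) F26660 D26987
def n55967 : Q := act 6 n26988
theorem D55967 : act 6 n26988 = n55967 := rfl
theorem F88583 : act 3 n55967 = n42135 := d7_1 D55967 (iv6 F76687) F76686
theorem F88584 : act 4 n55967 = n26989 := d10_1 D55967 (iv6 D26989) D26988
def n55968 : Q := act 0 n26989
theorem D55968 : act 0 n26989 = n55968 := rfl
def n55969 : Q := act 1 n26989
theorem D55969 : act 1 n26989 = n55969 := rfl
def n55970 : Q := act 7 n26989
theorem D55970 : act 7 n26989 = n55970 := rfl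
theorem F88585 : act 3 n55970 = n26993 := d8_1 D55970 (iv7 D26993) (iv3 F43575)
theorem F88586 : act 6 n55970 = n34918 := d14_1 D55970 (iv7 D34918) (iv6 D16934) (iv7 F21474) D26989
def n55971 : Q := act 2 n26990
theorem D55971 : act 2 n26990 = n55971 := rfl
theorem F88587 : act 7 n26991 = n55971 := d15_2 (iv0 D26990) D26991 (iv2 D55971)
def n55972 : Q := act 3 n26990
theorem D55972 : act 3 n26990 = n55972 := rfl
def n55973 : Q := act 4 n26990
theorem D55973 : act 4 n26990 = n55973 := rfl
def n55974 : Q := act 5 n26990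
theorem D55974 : act 5 n26990 = n55974 := rfl
def n55975 : Q := act 6 n26990
theorem D55975 : act 6 n26990 = n55975 := rfl
theorem F88588 : act 5 n55975 = n52855 := d21_6 (iv5 D7221) F5313 D6123 D12921 D26990 D55975 (iv1 D52855) (iv5 D25652) (iv6 D12190) (iv1 F11541)
def n55976 : Q := act 7 n26990
theorem D55976 : act 7 n26990 = n55976 := rfl
theorem F88589 : act 2 n55976 = n26991 := d4_1 D55976 F88587 (iv2 D55971)
def n55977 : Q := act 3 n26991
theorem D55977 : act 3 n26991 = n55977 := rfl
def n55978 : Q := act 4 n26991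
theorem D55978 : act 4 n26991 = n55978 := rfl
def n55979 : Q := act 5 n26991
theorem D55979 : act 5 n26991 = n55979 := rfl
def n55980 : Q := act 6 n26991
theorem D55980 : act 6 n26991 = n55980 := rfl
def n55981 : Q := act 0 n26992
theorem D55981 : act 0 n26992 = n55981 := rfl
def n55982 : Q := act 1 n26992
theorem D55982 : act 1 n26992 = n55982 := rfl
theorem F88590 : act 1 n55982 = n53002 := d15_1 D55982 (iv7 D53002) (iv2 F43577)
def n55983 : Q := act 7 n26992
theorem D55983 : act 7 n26992 = n55983 := rfl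
theorem F88591 : act 2 n55983 = n53002 := d4_1 D55983 (iv7 D53002) (iv2 F43577)
theorem F88592 : act 5 n55983 = n26993 := d13_1 D55983 (iv7 D26993) D26992
theorem F88593 : act 1 n53002 = n55981 := d15_0 (iv0 D55981) D55983 F88591
theorem F88594 : act 1 n53000 = n55983 := d15_1 D53000 (iv7 D55983) F43577
theorem F88595 : act 1 n55983 = n52999 := d15_0 (iv0 D52999) D53002 (iv2 F88591)
def n55984 : Q := act 6 n26994
theorem D55984 : act 6 n26994 = n55984 := rfl
theorem F88596 : act 3 n55984 = n33056 := d7_1 D55984 (iv6 D33056) F43585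
def n55985 : Q := act 6 n26995
theorem D55985 : act 6 n26995 = n55985 := rfl
theorem F88597 : act 3 n55985 = n54544 := d7_1 D55985 (iv6 D54544) F43587
theorem F88598 : act 5 n55985 = n52785 := d12_1 D55985 (iv6 D52785) (iv5 D25621) (iv6 F40437) (iv5 F43586)
def n55986 : Q := act 6 n26996
theorem D55986 : act 6 n26996 = n55986 := rfl
theorem F88599 : act 2 n55986 = n43873 := d3_1 D55986 F68976 F51810
theorem F88600 : act 3 n55986 = n48749 := d7_1 D55986 (iv6 D48749) (iv3 F43588)
theorem F88601 : act 4 n55986 = n44640 := d10_1 D55986 (iv6 D44640) (iv4 F43589)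
theorem F88602 : act 5 n55986 = n34946 := d12_1 D55986 (iv6 D34946) F27795 (iv6 F21479) (iv5 F43590)
def n55987 : Q := act 6 n26999
theorem D55987 : act 6 n26999 = n55987 := rfl
theorem F88603 : act 2 n55987 = n35003 := d3_1 D55987 (iv6 D35003) (iv2 F43601)
theorem F88604 : act 3 n55987 = n54794 := d7_1 D55987 (iv6 D54794) (iv3 F43602)
def n55988 : Q := act 5 n27000
theorem D55988 : act 5 n27000 = n55988 := rfl
theorem F88605 : act 2 n55988 = n35006 := d2_1 D55988 (iv5 D35006) (iv2 F43604)
theorem F88606 : act 3 n55988 = n52127 := d6_1 D55988 (iv5 F82402) F51515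
theorem F88607 : act 0 n55988 = n48948 := d17_2 F77972 D55988 (iv5 D48948) F37282 D23883 F50932 F23176 D28172 (iv4 F77970)
def n55989 : Q := act 4 n27003
theorem D55989 : act 4 n27003 = n55989 := rfl
theorem F88608 : act 2 n55989 = n35018 := d1_1 D55989 (iv4 D35018) (iv2 F43607)
theorem F88609 : act 0 n55989 = n48957 := d18_2 (iv1 F43609) D55989 (iv4 D48957) (iv5 D23883) (iv4 F37282) D48947 (iv4 F77203) (iv0 D24286) D24289
def n55990 : Q := act 5 n27005
theorem D55990 : act 5 n27005 = n55990 := rfl
theorem F88610 : act 2 n55990 = n35917 := d2_1 D55990 (iv5 D35917) (iv2 F43622)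
theorem F88611 : act 3 n55990 = n54788 := d6_1 D55990 F86686 F67748
theorem F88612 : act 7 n55990 = n34998 := d13_2 (iv7 F43623) D55990 (iv5 D34998)
theorem F88613 : act 0 n55990 = n34824 := d17_2 F43625 D55990 (iv5 D34824) (iv4 D16879) (iv5 F43051) F25196 F25192 F12539 D15305
theorem F88614 : act 1 n55990 = n34821 := d17_6 (iv1 F26646) (iv5 F42396) (iv1 F43066) F35190 D27005 D55990 (iv5 D34821) (iv0 F27634) F25577
def n55991 : Q := act 6 n27007
theorem D55991 : act 6 n27007 = n55991 := rfl
theorem F88615 : act 2 n55991 = n34984 := d3_1 D55991 (iv6 D34984) (iv2 F43628)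
theorem F88616 : act 3 n55991 = n52735 := d7_1 D55991 (iv6 D52735) F46136
def n55992 : Q := act 5 n27008
theorem D55992 : act 5 n27008 = n55992 := rfl
theorem F88617 : act 2 n55992 = n34985 := d2_1 D55992 (iv5 D34985) (iv2 F43630)
theorem F88618 : act 0 n55992 = n48902 := d17_2 F78800 D55992 (iv5 D48902) (iv4 D23845) D23846 F50328 (iv5 D31572) (iv0 F54267) (iv4 F78799)
theorem F88619 : act 1 n55992 = n48892 := d17_6 (iv1 D26180) D26182 F43635 (iv5 D27011) (iv4 F43631) D55992 (iv5 D48892) D48890 (iv4 F77050)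
def n55993 : Q := act 7 n27008
theorem D55993 : act 7 n27008 = n55993 := rfl
theorem F88620 : act 2 n55993 = n34986 := d4_1 D55993 (iv7 D34986) (iv2 F43630)
theorem F88621 : act 4 n55993 = n27012 := d11_1 D55993 (iv7 D27012) (iv4 F43631)
theorem F88622 : act 6 n55993 = n35007 := d14_1 D55993 (iv7 D35007) (iv6 D16992) (iv7 F27241) D27008
theorem F88623 : act 1 n31569 = n55993 := d15_1 (iv0 F55394) (iv7 D55993) F43630
theorem F88624 : act 1 n55993 = n31564 := d15_1 F88623 F78802 F78798
def n55994 : Q := act 4 n27011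
theorem D55994 : act 4 n27011 = n55994 := rfl
theorem F88625 : act 2 n55994 = n34996 := d1_1 D55994 (iv4 D34996) (iv2 F43633)
theorem F88626 : act 0 n55994 = n48904 := d18_2 F43635 D55994 (iv4 D48904) (iv5 D23846) D23845 (iv0 F77047) F77042 F41545 D26182
theorem F88627 : act 1 n55994 = n48894 := d18_6 (iv1 F54268) (iv4 F78799) F78800 F43631 D27011 D55994 (iv4 D48894) F50926 F24635
def n55995 : Q := act 4 n27013
theorem D55995 : act 4 n27013 = n55995 := rfl
theorem F88628 : act 2 n55995 = n35000 := d1_1 D55995 (iv4 D35000) (iv2 F43641)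
theorem F88629 : act 3 n55995 = n45774 := d5_1 D55995 (iv4 F72246) (iv3 D32768) (iv4 F41874) (iv3 F43642)
theorem F88630 : act 7 n55995 = n48949 := d11_2 (iv7 F43643) D55995 F77209
theorem F88631 : act 0 n55995 = n32418 := d18_2 (iv1 F43646) D55995 (iv4 D32418) F43048 D16874 (iv0 F27634) F25577 (iv0 F26664) D26486
theorem F88632 : act 1 n55995 = n32421 := d18_6 (iv1 F12541) D15310 F40393 F40390 D27013 D55995 (iv4 D32421) F25196 F25192
def n55996 : Q := act 6 n27013
theorem D55996 : act 6 n27013 = n55996 := rfl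
theorem F88633 : act 2 n55996 = n35001 := d3_1 D55996 (iv6 D35001) (iv2 F43641)
theorem F88634 : act 3 n55996 = n54383 := d7_1 D55996 (iv6 D54383) (iv3 F43642)
def n55997 : Q := act 0 n27015
theorem D55997 : act 0 n27015 = n55997 := rfl
def n55998 : Q := act 1 n27015
theorem D55998 : act 1 n27015 = n55998 := rfl
theorem F88635 : act 1 n55998 = n35979 := d15_1 D55998 (iv7 D35979) (iv2 F43649)
def n55999 : Q := act 7 n27015
theorem D55999 : act 7 n27015 = n55999 := rfl
theorem F88636 : act 2 n55999 = n35979 := d4_1 D55999 (iv7 D35979) (iv2 F43649)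
theorem F88637 : act 3 n55999 = n33188 := d8_1 D55999 (iv7 D33188) (iv3 F43650)
theorem F88638 : act 6 n55999 = n35982 := d14_1 D55999 (iv7 D35982) (iv6 D17418) F21497 D27015
theorem F88639 : act 1 n35979 = n55997 := d15_0 (iv0 D55997) D55999 F88636
theorem F88640 : act 1 n35978 = n55999 := d15_1 D35978 (iv7 D55999) F43649
theorem F88641 : act 1 n55999 = n35977 := d15_0 (iv0 D35977) D35979 (iv2 F88636)
def n56000 : Q := act 0 n27016
theorem D56000 : act 0 n27016 = n56000 := rfl
def n56001 : Q := act 1 n27016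
theorem D56001 : act 1 n27016 = n56001 := rfl
theorem F88642 : act 1 n56001 = n35982 := d15_1 D56001 (iv7 D35982) (iv2 F43651)
def n56002 : Q := act 7 n27016
theorem D56002 : act 7 n27016 = n56002 := rfl
theorem F88643 : act 2 n56002 = n35982 := d4_1 D56002 (iv7 D35982) (iv2 F43651)
theorem F88644 : act 5 n56002 = n32984 := d13_1 D56002 (iv7 D32984) (iv5 F43652)
theorem F88646 : act 1 n35982 = n56000 := d15_0 (iv0 D56000) D56002 F88643
theorem F88647 : act 1 n35981 = n56002 := d15_1 D35981 (iv7 D56002) F43651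
theorem F88648 : act 1 n56002 = n35980 := d15_0 (iv0 D35980) D35982 (iv2 F88643)
def n56003 : Q := act 0 n27018
theorem D56003 : act 0 n27018 = n56003 := rfl
theorem F88649 : act 1 n33878 = n56003 := d15_0 (iv0 D56003) (iv7 F87238) F87236
def n56004 : Q := act 1 n27018
theorem D56004 : act 1 n27018 = n56004 := rfl
theorem F88650 : act 1 n56004 = n33878 := d15_1 D56004 F53240 (iv2 F43654)
def n56005 : Q := act 0 n27019
theorem D56005 : act 0 n27019 = n56005 := rfl
def n56006 : Q := act 1 n27019
theorem D56006 : act 1 n27019 = n56006 := rfl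
theorem F88651 : act 1 n56006 = n35352 := d15_1 D56006 (iv7 D35352) (iv2 F43656)
def n56007 : Q := act 7 n27019
theorem D56007 : act 7 n27019 = n56007 := rfl
theorem F88652 : act 2 n56007 = n35352 := d4_1 D56007 (iv7 D35352) (iv2 F43656)
theorem F88654 : act 1 n35352 = n56005 := d15_0 (iv0 D56005) D56007 F88652
theorem F88655 : act 1 n35351 = n56007 := d15_1 D35351 (iv7 D56007) F43656
theorem F88656 : act 1 n56007 = n35350 := d15_0 (iv0 D35350) D35352 (iv2 F88652)
def n56008 : Q := act 3 n27022
theorem D56008 : act 3 n27022 = n56008 := rfl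
theorem F88657 : act 7 n56008 = n35573 := d8_2 (iv7 F43662) D56008 (iv3 D35573)
def n56009 : Q := act 5 n27022
theorem D56009 : act 5 n27022 = n56009 := rfl
def n56010 : Q := act 0 n27023
theorem D56010 : act 0 n27023 = n56010 := rfl
theorem F88660 : act 4 n56010 = n47162 := d20_0 (iv1 D47162) F35274 (iv3 D10751) (iv1 F13560) (iv3 F13562) (iv4 D8058) (iv1 F9569) D12948 D27023 D56010
theorem F88661 : act 1 n33823 = n56010 := d15_0 (iv0 D56010) F43664 (iv2 F53164)
def n56011 : Q := act 1 n27023
theorem D56011 : act 1 n27023 = n56011 := rfl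
theorem F88662 : act 1 n56011 = n33823 := d15_1 D56011 (iv7 F87046) F87043
theorem F88663 : act 4 n47161 = n56011 := d20_0 (iv1 D56011) F43663 (iv3 D17451) (iv1 F21374) (iv3 F34394) (iv4 D21901) F16641 D10741 D22692 D47161
def n56012 : Q := act 6 n27023
theorem D56012 : act 6 n27023 = n56012 := rfl
theorem F88664 : act 3 n56012 = n27024 := d7_1 D56012 (iv6 D27024) D27023
def n56013 : Q := act 0 n27024
theorem D56013 : act 0 n27024 = n56013 := rfl
theorem F88666 : act 4 n56013 = n27714 := d20_2 (iv4 F43666) D56013 (iv3 D27714) (iv1 F44721) F44717 (iv4 F60097) (iv1 F60098) D39126 F60133 (iv1 D27026)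
theorem F88667 : act 0 n56013 = n27049 := d20_7 D8249 F30466 F9204 (iv3 F9786) D13230 D27714 (iv4 F88666) F43710 F21559 (iv1 F9587)
def n56014 : Q := act 1 n27024
theorem D56014 : act 1 n27024 = n56014 := rfl
theorem F88668 : act 1 n56014 = n27049 := d15_1 D56014 (iv7 D27049) (iv2 F43665)
def n56015 : Q := act 5 n27024
theorem D56015 : act 5 n27024 = n56015 := rfl
theorem F88669 : act 2 n56015 = n27048 := d2_1 D56015 (iv5 D27048) (iv2 F43665)
def n56016 : Q := act 7 n27024
theorem D56016 : act 7 n27024 = n56016 := rfl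
theorem F88670 : act 2 n56016 = n27049 := d4_1 D56016 (iv7 D27049) (iv2 F43665)
theorem F88671 : act 4 n56016 = n27028 := d11_1 D56016 (iv7 D27028) (iv4 F43666)
theorem F88672 : act 6 n56016 = n35378 := d14_1 D56016 (iv7 D35378) (iv6 D17164) (iv7 F21521) D27024
theorem F88673 : act 1 n27047 = n56016 := d15_1 D27047 (iv7 D56016) F43665
theorem F88674 : act 1 n56016 = n27046 := d15_0 (iv0 D27046) D27049 (iv2 F88670)
def n56017 : Q := act 2 n27025
theorem D56017 : act 2 n27025 = n56017 := rfl
theorem F88675 : act 7 n27026 = n56017 := d15_2 (iv0 D27025) D27026 (iv2 D56017)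
def n56018 : Q := act 3 n27025
theorem D56018 : act 3 n27025 = n56018 := rfl
def n56019 : Q := act 4 n27025
theorem D56019 : act 4 n27025 = n56019 := rfl
def n56020 : Q := act 5 n27025
theorem D56020 : act 5 n27025 = n56020 := rfl
def n56021 : Q := act 6 n27025
theorem D56021 : act 6 n27025 = n56021 := rfl
theorem F88676 : act 5 n56021 = n27183 := d21_6 (iv5 D3631) (iv1 F4152) D6151 D12949 D27025 D56021 (iv1 D27183) (iv5 D13019) (iv6 D6195) F13327
def n56022 : Q := act 7 n27025
theorem D56022 : act 7 n27025 = n56022 := rfl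
theorem F88677 : act 2 n56022 = n27026 := d4_1 D56022 F88675 (iv2 D56017)
def n56023 : Q := act 4 n27026
theorem D56023 : act 4 n27026 = n56023 := rfl
def n56024 : Q := act 6 n27026
theorem D56024 : act 6 n27026 = n56024 := rfl
def n56025 : Q := act 0 n27027
theorem D56025 : act 0 n27027 = n56025 := rfl
def n56027 : Q := act 7 n27027
theorem D56027 : act 7 n27027 = n56027 := rfl
theorem F88680 : act 2 n56027 = n27063 := d4_1 D56027 (iv7 D27063) (iv2 F43668)
theorem F88681 : act 3 n56027 = n36082 := d8_1 D56027 (iv7 D36082) (iv3 F43669)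
theorem F88682 : act 5 n56027 = n27028 := d13_1 D56027 (iv7 D27028) D27027
theorem F88683 : act 1 n27063 = n56025 := d15_0 (iv0 D56025) D56027 F88680
theorem F88684 : act 1 n27061 = n56027 := d15_1 D27061 (iv7 D56027) F43668
theorem F88685 : act 1 n56027 = n27060 := d15_0 (iv0 D27060) D27063 (iv2 F88680)
def n56028 : Q := act 3 n27029
theorem D56028 : act 3 n27029 = n56028 := rfl
theorem F88686 : act 4 n56028 = n36083 := d5_2 D27029 D56028 (iv3 D36083) (iv4 D17457) (iv3 F21527)
def n56029 : Q := act 5 n27029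
theorem D56029 : act 5 n27029 = n56029 := rfl
theorem F88687 : act 2 n56029 = n27074 := d2_1 D56029 (iv5 D27074) (iv2 F43677)
theorem F88689 : act 4 n56029 = n36291 := d16_2 D27029 D56029 F57027 F28520 F13020 (iv4 F9579) (iv5 F21570) (iv7 D12970) (iv2 F21526)
def n56030 : Q := act 0 n27030
theorem D56030 : act 0 n27030 = n56030 := rfl
def n56031 : Q := act 1 n27030
theorem D56031 : act 1 n27030 = n56031 := rfl
theorem F88690 : act 1 n56031 = n37454 := d15_1 D56031 (iv7 D37454) (iv2 F43678)
def n56032 : Q := act 7 n27030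
theorem D56032 : act 7 n27030 = n56032 := rfl
theorem F88691 : act 2 n56032 = n37454 := d4_1 D56032 (iv7 D37454) (iv2 F43678)
theorem F88692 : act 3 n56032 = n27034 := d8_1 D56032 (iv7 D27034) (iv3 F43679)
theorem F88693 : act 5 n56032 = n36511 := d13_1 D56032 (iv7 D36511) (iv5 F43680)
theorem F88694 : act 6 n56032 = n35401 := d14_1 D56032 (iv7 D35401) (iv6 D17174) (iv7 F21535) D27030
theorem F88695 : act 1 n37454 = n56030 := d15_0 (iv0 D56030) D56032 F88691
theorem F88697 : act 1 n56032 = n37452 := d15_0 (iv0 D37452) D37454 (iv2 F88691)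
def n56033 : Q := act 0 n27031
theorem D56033 : act 0 n27031 = n56033 := rfl
def n56034 : Q := act 1 n27031
theorem D56034 : act 1 n27031 = n56034 := rfl
theorem F88698 : act 1 n56034 = n35435 := d15_1 D56034 (iv7 D35435) (iv2 F43681)
def n56035 : Q := act 5 n27031
theorem D56035 : act 5 n27031 = n56035 := rfl
theorem F88699 : act 2 n56035 = n35434 := d2_1 D56035 (iv5 D35434) (iv2 F43681)
def n56036 : Q := act 7 n27031
theorem D56036 : act 7 n27031 = n56036 := rfl
theorem F88700 : act 2 n56036 = n35435 := d4_1 D56036 (iv7 D35435) (iv2 F43681)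
theorem F88701 : act 4 n56036 = n27034 := d11_1 D56036 (iv7 D27034) (iv4 F43682)
theorem F88702 : act 6 n56036 = n35407 := d14_1 D56036 (iv7 D35407) (iv6 D17176) (iv7 F21539) D27031
theorem F88703 : act 1 n35435 = n56033 := d15_0 (iv0 D56033) D56036 F88700
theorem F88704 : act 1 n35433 = n56036 := d15_1 D35433 (iv7 D56036) F43681
theorem F88705 : act 1 n56036 = n35432 := d15_0 (iv0 D35432) D35435 (iv2 F88700)
def n56040 : Q := act 5 n27032
theorem D56040 : act 5 n27032 = n56040 := rfl
theorem F88707 : act 6 n56040 = n36620 := d12_2 (iv6 F56153) D56040 F57479 (iv6 D35445) D35444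
def n56044 : Q := act 6 n27033
theorem D56044 : act 6 n27033 = n56044 := rfl
theorem F88709 : act 5 n56044 = n35513 := d12_1 D56044 (iv6 F56198) (iv5 D35439) D35440 F56151
def n56045 : Q := act 0 n27035
theorem D56045 : act 0 n27035 = n56045 := rfl
def n56046 : Q := act 1 n27035
theorem D56046 : act 1 n27035 = n56046 := rfl
def n56047 : Q := act 7 n27035
theorem D56047 : act 7 n27035 = n56047 := rfl
theorem F88710 : act 3 n56047 = n27040 := d8_1 D56047 (iv7 D27040) (iv3 F43690)
def n56048 : Q := act 6 n27036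
theorem D56048 : act 6 n27036 = n56048 := rfl
theorem F88712 : act 3 n56048 = n27037 := d7_1 D56048 (iv6 D27037) D27036
def n56049 : Q := act 0 n27037
theorem D56049 : act 0 n27037 = n56049 := rfl
def n56050 : Q := act 1 n27037
theorem D56050 : act 1 n27037 = n56050 := rfl
theorem F88713 : act 1 n56050 = n35407 := d15_1 D56050 (iv7 D35407) (iv2 F43692)
def n56051 : Q := act 5 n27037
theorem D56051 : act 5 n27037 = n56051 := rfl
theorem F88714 : act 2 n56051 = n35406 := d2_1 D56051 (iv5 D35406) (iv2 F43692)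
def n56052 : Q := act 7 n27037
theorem D56052 : act 7 n27037 = n56052 := rfl
theorem F88715 : act 2 n56052 = n35407 := d4_1 D56052 (iv7 D35407) (iv2 F43692)
theorem F88716 : act 4 n56052 = n27040 := d11_1 D56052 (iv7 D27040) (iv4 F43693)
theorem F88718 : act 1 n35407 = n56049 := d15_0 (iv0 D56049) D56052 F88715
theorem F88719 : act 1 n35405 = n56052 := d15_1 D35405 (iv7 D56052) F43692
theorem F88720 : act 1 n56052 = n35404 := d15_0 (iv0 D35404) D35407 (iv2 F88715)
def n56053 : Q := act 2 n27038
theorem D56053 : act 2 n27038 = n56053 := rfl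
theorem F88721 : act 7 n27039 = n56053 := d15_2 (iv0 D27038) D27039 (iv2 D56053)
def n56055 : Q := act 4 n27038
theorem D56055 : act 4 n27038 = n56055 := rfl
def n56056 : Q := act 5 n27038
theorem D56056 : act 5 n27038 = n56056 := rfl
theorem F88722 : act 0 n56056 = n35510 := d21_1 D56056 (iv5 F57340) (iv6 D36508) (iv1 D17620) (iv6 D8300) (iv5 D3733) (iv1 F4184) (iv5 F13342) D12956 D27038
def n56057 : Q := act 6 n27038
theorem D56057 : act 6 n27038 = n56057 := rfl
theorem F88723 : act 5 n56057 = n35336 := d21_6 (iv5 D3733) (iv1 F4184) (iv5 F13342) D12956 D27038 D56057 (iv1 D35336) (iv5 D17149) (iv6 D8034) (iv1 F13326)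
theorem F88724 : act 0 n35530 = n56057 := d21_4 F13117 D17619 D36503 F57333 (iv6 D56057) D56056 F88722 (iv5 F57340) (iv6 D36508) (iv1 D17620)
theorem F88725 : act 1 n35515 = n56057 := d15_0 (iv0 F88724) (iv7 D35530) (iv2 F56199)
def n56058 : Q := act 7 n27038
theorem D56058 : act 7 n27038 = n56058 := rfl
theorem F88726 : act 2 n56058 = n27039 := d4_1 D56058 F88721 (iv2 D56053)
def n56060 : Q := act 4 n27039
theorem D56060 : act 4 n27039 = n56060 := rfl
def n56061 : Q := act 5 n27039
theorem D56061 : act 5 n27039 = n56061 := rfl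
theorem F88727 : act 0 n35510 = n56061 := d21_10 (iv5 D56061) (iv1 D27039) (iv5 F28193) (iv6 D17238) (iv1 D8085) (iv6 F12866) (iv5 D8072) D8070 D17207 D35510
theorem F88728 : act 6 n35557 = n56061 := d21_5 (iv5 D3646) D3644 D8077 D17226 D35557 (iv5 D56061) (iv1 D27039) (iv5 F28193) (iv6 D17238) (iv1 D8085)
def n56062 : Q := act 6 n27039
theorem D56062 : act 6 n27039 = n56062 := rfl
def n56063 : Q := act 1 n27041
theorem D56063 : act 1 n27041 = n56063 := rfl
theorem F88729 : act 1 n56063 = n35448 := d15_1 D56063 (iv7 F86805) F86803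
theorem F88730 : act 7 n56063 = n35447 := d15_2 (iv0 F72369) D56063 (iv2 F86808)
theorem F88731 : act 2 n35446 = n56063 := d4_3 F88730 (iv2 F86808) F72368
theorem F88732 : act 5 n38281 = n56063 := d13_3 F88730 F86809 F72364
def n56064 : Q := act 6 n27041
theorem D56064 : act 6 n27041 = n56064 := rfl
theorem F88733 : act 3 n56064 = n27043 := d7_1 D56064 (iv6 D27043) D27041
def n56065 : Q := act 6 n27042
theorem D56065 : act 6 n27042 = n56065 := rfl
theorem F88734 : act 2 n56065 = n35460 := d3_1 D56065 (iv6 D35460) (iv2 F43701)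
theorem F88735 : act 4 n56065 = n36120 := d10_1 D56065 (iv6 D36120) (iv4 F43702)
def n56066 : Q := act 0 n27043
theorem D56066 : act 0 n27043 = n56066 := rfl
def n56067 : Q := act 1 n27043
theorem D56067 : act 1 n27043 = n56067 := rfl
theorem F88736 : act 1 n56067 = n35464 := d15_1 D56067 (iv7 D35464) (iv2 F43706)
def n56068 : Q := act 5 n27043
theorem D56068 : act 5 n27043 = n56068 := rfl
theorem F88737 : act 2 n56068 = n35463 := d2_1 D56068 (iv5 D35463) (iv2 F43706)
def n56069 : Q := act 7 n27043
theorem D56069 : act 7 n27043 = n56069 := rfl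
theorem F88738 : act 2 n56069 = n35464 := d4_1 D56069 (iv7 D35464) (iv2 F43706)
theorem F88739 : act 4 n56069 = n36790 := d11_1 D56069 (iv7 D36790) (iv4 F43707)
theorem F88740 : act 6 n56069 = n35456 := d14_1 D56069 (iv7 D35456) (iv6 D17192) F21550 D27043
theorem F88741 : act 1 n35464 = n56066 := d15_0 (iv0 D56066) D56069 F88738
def n56070 : Q := act 0 n27044
theorem D56070 : act 0 n27044 = n56070 := rfl
def n56071 : Q := act 1 n27044
theorem D56071 : act 1 n27044 = n56071 := rfl
theorem F88744 : act 1 n56071 = n35456 := d15_1 D56071 (iv7 D35456) (iv2 F43708)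
def n56072 : Q := act 5 n27044
theorem D56072 : act 5 n27044 = n56072 := rfl
theorem F88745 : act 2 n56072 = n35455 := d2_1 D56072 (iv5 D35455) (iv2 F43708)
def n56073 : Q := act 7 n27044
theorem D56073 : act 7 n27044 = n56073 := rfl
theorem F88746 : act 2 n56073 = n35456 := d4_1 D56073 (iv7 D35456) (iv2 F43708)
theorem F88747 : act 4 n56073 = n36793 := d11_1 D56073 (iv7 D36793) (iv4 F43709)
theorem F88748 : act 6 n56073 = n35464 := d14_1 D56073 (iv7 D35464) (iv6 D17195) (iv7 F21552) D27044
theorem F88749 : act 1 n35456 = n56070 := d15_0 (iv0 D56070) D56073 F88746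
theorem F88751 : act 1 n56073 = n35453 := d15_0 (iv0 D35453) D35456 (iv2 F88746)
def n56074 : Q := act 0 n27045
theorem D56074 : act 0 n27045 = n56074 := rfl
def n56075 : Q := act 1 n27045
theorem D56075 : act 1 n27045 = n56075 := rfl
def n56076 : Q := act 5 n27045
theorem D56076 : act 5 n27045 = n56076 := rfl
theorem F88752 : act 6 n56076 = n27048 := d12_2 D27045 D56076 (iv5 D27048) (iv6 D12960) D12959
def n56077 : Q := act 7 n27045
theorem D56077 : act 7 n27045 = n56077 := rfl
theorem F88753 : act 6 n56077 = n35473 := d14_1 D56077 (iv7 D35473) (iv6 D17199) (iv7 F21555) D27045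
def n56078 : Q := act 2 n27046
theorem D56078 : act 2 n27046 = n56078 := rfl
theorem F88754 : act 7 n27047 = n56078 := d15_2 (iv0 D27046) D27047 (iv2 D56078)
def n56079 : Q := act 3 n27046
theorem D56079 : act 3 n27046 = n56079 := rfl
def n56080 : Q := act 4 n27046
theorem D56080 : act 4 n27046 = n56080 := rfl
def n56081 : Q := act 5 n27046
theorem D56081 : act 5 n27046 = n56081 := rfl
def n56082 : Q := act 6 n27046
theorem D56082 : act 6 n27046 = n56082 := rfl
def n56083 : Q := act 7 n27046
theorem D56083 : act 7 n27046 = n56083 := rfl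
theorem F88755 : act 2 n56083 = n27047 := d4_1 D56083 F88754 (iv2 D56078)
def n56084 : Q := act 3 n27047
theorem D56084 : act 3 n27047 = n56084 := rfl
def n56085 : Q := act 4 n27047
theorem D56085 : act 4 n27047 = n56085 := rfl
theorem F88756 : act 3 n56085 = n27705 := d20_3 (iv4 F88671) (iv1 F88673) D56085 (iv1 D27705) F22030 (iv4 F29801) D39087 F60092 (iv3 D27051) (iv1 F43676)
def n56086 : Q := act 5 n27047
theorem D56086 : act 5 n27047 = n56086 := rfl
def n56087 : Q := act 6 n27047
theorem D56087 : act 6 n27047 = n56087 := rfl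
def n56088 : Q := act 0 n27048
theorem D56088 : act 0 n27048 = n56088 := rfl
def n56089 : Q := act 1 n27048
theorem D56089 : act 1 n27048 = n56089 := rfl
def n56090 : Q := act 4 n27048
theorem D56090 : act 4 n27048 = n56090 := rfl
def n56091 : Q := act 7 n27048
theorem D56091 : act 7 n27048 = n56091 := rfl
theorem F88757 : act 5 n56091 = n27049 := d13_1 D56091 (iv7 D27049) D27048
def n56093 : Q := act 1 n27050
theorem D56093 : act 1 n27050 = n56093 := rfl
theorem F88759 : act 1 n56093 = n27055 := d15_1 D56093 (iv7 D27055) D27050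
def n56094 : Q := act 3 n27050
theorem D56094 : act 3 n27050 = n56094 := rfl
theorem F88760 : act 7 n56094 = n27056 := d8_2 F43712 D56094 (iv3 D27056)
def n56095 : Q := act 4 n27050
theorem D56095 : act 4 n27050 = n56095 := rfl
theorem F88761 : act 2 n56095 = n27052 := d1_1 D56095 (iv4 D27052) D27050
theorem F88762 : act 7 n56095 = n27057 := d11_2 F43712 D56095 (iv4 D27057)
def n56096 : Q := act 5 n27050
theorem D56096 : act 5 n27050 = n56096 := rfl
theorem F88763 : act 2 n56096 = n27053 := d2_1 D56096 (iv5 D27053) D27050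
theorem F88764 : act 7 n56096 = n27058 := d13_2 F43712 D56096 (iv5 D27058)
def n56098 : Q := act 0 n27051
theorem D56098 : act 0 n27051 = n56098 := rfl
def n56099 : Q := act 1 n27051
theorem D56099 : act 1 n27051 = n56099 := rfl
def n56100 : Q := act 2 n27051
theorem D56100 : act 2 n27051 = n56100 := rfl
def n56101 : Q := act 5 n27051
theorem D56101 : act 5 n27051 = n56101 := rfl
theorem F88766 : act 3 n56101 = n27053 := d6_1 D56101 (iv5 D27053) D27051
def n56102 : Q := act 6 n27051
theorem D56102 : act 6 n27051 = n56102 := rfl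
theorem F88767 : act 3 n56102 = n27054 := d7_1 D56102 (iv6 D27054) D27051
def n56103 : Q := act 7 n27051
theorem D56103 : act 7 n27051 = n56103 := rfl
theorem F88768 : act 3 n56103 = n27055 := d8_1 D56103 (iv7 D27055) D27051
def n56104 : Q := act 0 n27052
theorem D56104 : act 0 n27052 = n56104 := rfl
def n56105 : Q := act 1 n27052
theorem D56105 : act 1 n27052 = n56105 := rfl
theorem F88769 : act 1 n56105 = n27057 := d15_1 D56105 (iv7 F88762) F88761
def n56107 : Q := act 5 n27052
theorem D56107 : act 5 n27052 = n56107 := rfl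
def n56108 : Q := act 6 n27052
theorem D56108 : act 6 n27052 = n56108 := rfl
theorem F88770 : act 4 n56108 = n27054 := d10_1 D56108 (iv6 D27054) D27052
def n56109 : Q := act 7 n27052
theorem D56109 : act 7 n27052 = n56109 := rfl
theorem F88771 : act 2 n56109 = n27057 := d4_1 D56109 (iv7 F88762) F88761
theorem F88772 : act 4 n56109 = n27055 := d11_1 D56109 (iv7 D27055) D27052
theorem F88773 : act 1 n27057 = n56104 := d15_0 (iv0 D56104) D56109 F88771
def n56110 : Q := act 0 n27053
theorem D56110 : act 0 n27053 = n56110 := rfl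
theorem F88774 : act 5 n56110 = n36557 := d21_2 D27053 D56110 (iv6 D36557) (iv1 D17637) (iv6 D8310) (iv5 F13426) (iv1 D2589) D2591 D6156 D12961
def n56111 : Q := act 1 n27053
theorem D56111 : act 1 n27053 = n56111 := rfl
theorem F88775 : act 1 n56111 = n27058 := d15_1 D56111 (iv7 F88764) F88763
def n56112 : Q := act 4 n27053
theorem D56112 : act 4 n27053 = n56112 := rfl
def n56113 : Q := act 6 n27053
theorem D56113 : act 6 n27053 = n56113 := rfl
def n56114 : Q := act 7 n27053
theorem D56114 : act 7 n27053 = n56114 := rfl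
theorem F88776 : act 2 n56114 = n27058 := d4_1 D56114 (iv7 F88764) F88763
theorem F88777 : act 5 n56114 = n27055 := d13_1 D56114 (iv7 D27055) D27053
theorem F88778 : act 1 n27058 = n56110 := d15_0 (iv0 D56110) D56114 F88776
theorem F88779 : act 0 n27059 = n35439 := d21_10 (iv5 D35439) (iv1 F43689) F43685 F28680 (iv1 F28701) D36557 (iv5 F88774) (iv1 F88778) (iv5 D27058) D27059
def n56115 : Q := act 0 n27054
theorem D56115 : act 0 n27054 = n56115 := rfl
def n56116 : Q := act 1 n27054
theorem D56116 : act 1 n27054 = n56116 := rfl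
theorem F88780 : act 6 n35527 = n56116 := d21_3 D17638 D36558 (iv5 F57427) (iv1 D56116) (iv6 D27054) D27053 D56110 F88774 (iv6 D36557) (iv1 D17637)
def n56117 : Q := act 5 n27054
theorem D56117 : act 5 n27054 = n56117 := rfl
theorem F88781 : act 0 n56117 = n27161 := d21_1 D56117 (iv5 D27161) (iv6 D13011) (iv1 F9640) D8310 D17638 D36558 (iv5 F57427) F88780 (iv1 D56116)
theorem F88782 : act 0 n27185 = n56117 := d21_1 (iv5 F43938) (iv5 D56117) (iv6 D27054) (iv1 F43676) F43673 (iv5 F56094) (iv1 F56096) D35539 F56208 (iv1 F43922)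
def n56118 : Q := act 7 n27054
theorem D56118 : act 7 n27054 = n56118 := rfl
def n56119 : Q := act 6 n27055
theorem D56119 : act 6 n27055 = n56119 := rfl
theorem F88783 : act 2 n56119 = n27059 := d3_1 D56119 (iv6 D27059) (iv2 F43713)
def n56120 : Q := act 0 n27056
theorem D56120 : act 0 n27056 = n56120 := rfl
def n56121 : Q := act 1 n27056
theorem D56121 : act 1 n27056 = n56121 := rfl
def n56122 : Q := act 2 n27056
theorem D56122 : act 2 n27056 = n56122 := rfl
def n56123 : Q := act 4 n27056
theorem D56123 : act 4 n27056 = n56123 := rfl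
def n56124 : Q := act 5 n27056
theorem D56124 : act 5 n27056 = n56124 := rfl
theorem F88784 : act 3 n56124 = n27058 := d6_1 D56124 (iv5 D27058) D27056
def n56125 : Q := act 6 n27056
theorem D56125 : act 6 n27056 = n56125 := rfl
theorem F88785 : act 3 n56125 = n27059 := d7_1 D56125 (iv6 D27059) D27056
def n56126 : Q := act 3 n27057
theorem D56126 : act 3 n27057 = n56126 := rfl
def n56127 : Q := act 5 n27057
theorem D56127 : act 5 n27057 = n56127 := rfl
def n56128 : Q := act 6 n27057
theorem D56128 : act 6 n27057 = n56128 := rfl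
theorem F88786 : act 4 n56128 = n27059 := d10_1 D56128 (iv6 D27059) D27057
def n56129 : Q := act 4 n27058
theorem D56129 : act 4 n27058 = n56129 := rfl
def n56130 : Q := act 1 n27059
theorem D56130 : act 1 n27059 = n56130 := rfl
def n56131 : Q := act 5 n27059
theorem D56131 : act 5 n27059 = n56131 := rfl
theorem F88787 : act 0 n36525 = n56131 := d21_1 D36525 (iv5 D56131) (iv6 D27059) (iv1 D12962) (iv6 D6156) (iv5 D2591) D2588 (iv5 F13421) D8305 D17627
def n56132 : Q := act 7 n27059
theorem D56132 : act 7 n27059 = n56132 := rfl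
def n56133 : Q := act 2 n27060
theorem D56133 : act 2 n27060 = n56133 := rfl
theorem F88788 : act 7 n27061 = n56133 := d15_2 (iv0 D27060) D27061 (iv2 D56133)
def n56134 : Q := act 3 n27060
theorem D56134 : act 3 n27060 = n56134 := rfl
def n56135 : Q := act 4 n27060
theorem D56135 : act 4 n27060 = n56135 := rfl
def n56136 : Q := act 5 n27060
theorem D56136 : act 5 n27060 = n56136 := rfl
def n56137 : Q := act 6 n27060
theorem D56137 : act 6 n27060 = n56137 := rfl
def n56138 : Q := act 7 n27060
theorem D56138 : act 7 n27060 = n56138 := rfl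
theorem F88789 : act 2 n56138 = n27061 := d4_1 D56138 F88788 (iv2 D56133)
def n56139 : Q := act 3 n27061
theorem D56139 : act 3 n27061 = n56139 := rfl
def n56140 : Q := act 4 n27061
theorem D56140 : act 4 n27061 = n56140 := rfl
def n56141 : Q := act 6 n27061
theorem D56141 : act 6 n27061 = n56141 := rfl
theorem F88790 : act 5 n56141 = n35530 := d12_1 D56141 (iv6 F57333) (iv5 D36503) D36504 F57335
theorem F88791 : act 7 n35529 = n56141 := d13_0 F88790 (iv7 D35530) D35529
theorem F88792 : act 0 n36556 = n56141 := d21_1 D36556 F88790 (iv6 F57333) (iv1 F57334) (iv6 F56198) (iv5 D35439) (iv1 F43689) F43685 F28680 (iv1 F28701)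
def n56142 : Q := act 0 n27062
theorem D56142 : act 0 n27062 = n56142 := rfl
def n56143 : Q := act 1 n27062
theorem D56143 : act 1 n27062 = n56143 := rfl
def n56144 : Q := act 3 n27062
theorem D56144 : act 3 n27062 = n56144 := rfl
theorem F88793 : act 4 n56144 = n27104 := d5_2 D27062 D56144 (iv3 D27104) (iv4 D12983) (iv3 F21557)
def n56145 : Q := act 5 n27062
theorem D56145 : act 5 n27062 = n56145 := rfl
def n56146 : Q := act 7 n27062
theorem D56146 : act 7 n27062 = n56146 := rfl
theorem F88795 : act 4 n56146 = n27063 := d11_1 D56146 (iv7 D27063) D27062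
def n56147 : Q := act 6 n27063
theorem D56147 : act 6 n27063 = n56147 := rfl
theorem F88796 : act 3 n56147 = n27107 := d7_1 D56147 (iv6 D27107) (iv3 F43715)
theorem F88797 : act 5 n56147 = n35546 := d12_1 D56147 (iv6 D35546) F28165 (iv6 F21560) (iv5 F43716)
theorem F88798 : act 7 n56147 = n27076 := d14_2 D27063 D56147 (iv6 D27076) (iv7 D12970) (iv6 F21558)
theorem F88799 : act 0 n35526 = n56147 := d21_4 F56094 (iv1 F28117) D17212 D35526 (iv6 D56147) F43716 (iv1 F43667) (iv5 F56206) (iv6 D35535) (iv1 F56097)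
def n56148 : Q := act 6 n27064
theorem D56148 : act 6 n27064 = n56148 := rfl
theorem F88800 : act 2 n56148 = n36480 := d3_1 D56148 F57292 (iv2 F43717)
theorem F88801 : act 3 n56148 = n27230 := d7_1 D56148 F44041 (iv3 F43718)
theorem F88802 : act 4 n56148 = n55797 := d10_1 D56148 (iv6 D55797) (iv4 F43720)
theorem F88803 : act 5 n56148 = n27156 := d12_1 D56148 (iv6 D27156) (iv5 D13009) (iv6 F21564) D27064
def n56149 : Q := act 6 n27065
theorem D56149 : act 6 n27065 = n56149 := rfl
theorem F88804 : act 3 n56149 = n27067 := d7_1 D56149 (iv6 D27067) D27065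
theorem F88805 : act 5 n56149 = n56149 := d12_1 D56149 (iv6 D56149) F43721 F28125 (iv5 F43721)
def n56150 : Q := act 1 n27066
theorem D56150 : act 1 n27066 = n56150 := rfl
theorem F88808 : act 4 n56150 = n34474 := d18_7 D26917 (iv4 F43534) F43537 (iv4 D17172) F21677 D27066 D56150 (iv0 F54701) (iv5 D26918)
def n56151 : Q := act 3 n27066
theorem D56151 : act 3 n27066 = n56151 := rfl
def n56152 : Q := act 5 n27066
theorem D56152 : act 5 n27066 = n56152 := rfl
theorem F88813 : act 4 n56152 = n36281 := d16_2 D27066 D56152 (iv5 D36281) F56103 (iv5 D35392) (iv4 D17170) (iv5 F21567) (iv7 F21699) F21672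
def n56153 : Q := act 6 n27066
theorem D56153 : act 6 n27066 = n56153 := rfl
theorem F88814 : act 2 n56153 = n35567 := d3_1 D56153 (iv6 D35567) (iv2 F43724)
theorem F88815 : act 4 n56153 = n27067 := d10_1 D56153 (iv6 D27067) D27066
def n56154 : Q := act 0 n27067
theorem D56154 : act 0 n27067 = n56154 := rfl
theorem F88816 : act 6 n56154 = n36556 := d21_5 F12871 (iv1 F12856) F21677 D27067 D56154 (iv5 D36556) (iv1 D17637) D17638 F28703 F21518
def n56155 : Q := act 1 n27067
theorem D56155 : act 1 n27067 = n56155 := rfl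
theorem F88817 : act 1 n56155 = n35570 := d15_1 D56155 (iv7 D35570) (iv2 F43726)
def n56156 : Q := act 7 n27067
theorem D56156 : act 7 n27067 = n56156 := rfl
theorem F88818 : act 2 n56156 = n35570 := d4_1 D56156 (iv7 D35570) (iv2 F43726)
theorem F88820 : act 6 n56156 = n35559 := d14_1 D56156 (iv7 D35559) (iv6 D17226) F21673 D27067
theorem F88821 : act 1 n35570 = n56154 := d15_0 (iv0 D56154) D56156 F88818
theorem F88822 : act 1 n35569 = n56156 := d15_1 D35569 (iv7 D56156) F43726
theorem F88823 : act 1 n56156 = n35568 := d15_0 (iv0 D35568) D35570 (iv2 F88818)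
def n56157 : Q := act 6 n27068
theorem D56157 : act 6 n27068 = n56157 := rfl
def n56159 : Q := act 5 n27069
theorem D56159 : act 5 n27069 = n56159 := rfl
theorem F88827 : act 4 n56159 = n36278 := d9_1 D56159 (iv5 D36278) (iv4 F56109) (iv5 D35393) (iv4 D17172) F21677 D27066 D56152 F88813 (iv5 D36281) F56103 (iv5 D35392) (iv4 D17170) (iv5 F21567) D27069
def n56160 : Q := act 6 n27069
theorem D56160 : act 6 n27069 = n56160 := rfl
theorem F88829 : act 2 n56160 = n35556 := d3_1 D56160 (iv6 D35556) (iv2 F43730)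
def n56161 : Q := act 0 n27070
theorem D56161 : act 0 n27070 = n56161 := rfl
theorem F88831 : act 6 n56161 = n35416 := d21_5 (iv5 D8054) D8052 (iv5 F21567) D27070 D56161 (iv5 D35416) (iv1 D17178) D17179 F28137 F13430
def n56162 : Q := act 1 n27070
theorem D56162 : act 1 n27070 = n56162 := rfl
def n56163 : Q := act 7 n27070
theorem D56163 : act 7 n27070 = n56163 := rfl
theorem F88833 : act 2 n56163 = n35559 := d4_1 D56163 (iv7 D35559) (iv2 F43732)
theorem F88834 : act 6 n56163 = n35570 := d14_1 D56163 (iv7 D35570) (iv6 D17235) F21699 D27070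
theorem F88835 : act 1 n35559 = n56161 := d15_0 (iv0 D56161) D56163 F88833
theorem F88836 : act 1 n35558 = n56163 := d15_1 D35558 (iv7 D56163) F43732
def n56165 : Q := act 5 n27071
theorem D56165 : act 5 n27071 = n56165 := rfl
theorem F88841 : act 0 n56165 = n35397 := d17_2 D27071 D56165 (iv5 D35397) (iv4 D17173) (iv5 D8054) D8053 F21677 (iv0 D12967) D12969
def n56166 : Q := act 6 n27071
theorem D56166 : act 6 n27071 = n56166 := rfl
def n56167 : Q := act 3 n27072
theorem D56167 : act 3 n27072 = n56167 := rfl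
def n56168 : Q := act 5 n27072
theorem D56168 : act 5 n27072 = n56168 := rfl
theorem F88846 : act 0 n56168 = n35594 := d17_2 F56052 D56168 F56269 F28195 F12871 F12859 (iv5 F21567) (iv0 F28099) D35339
def n56169 : Q := act 6 n27072
theorem D56169 : act 6 n27072 = n56169 := rfl
def n56170 : Q := act 0 n27073
theorem D56170 : act 0 n27073 = n56170 := rfl
def n56171 : Q := act 1 n27073
theorem D56171 : act 1 n27073 = n56171 := rfl
def n56172 : Q := act 2 n27073
theorem D56172 : act 2 n27073 = n56172 := rfl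
theorem F88848 : act 4 n56172 = n27110 := d1_2 (iv4 F43733) D56172 (iv2 D27110)
def n56173 : Q := act 5 n27073
theorem D56173 : act 5 n27073 = n56173 := rfl
theorem F88849 : act 3 n56173 = n27074 := d6_1 D56173 (iv5 D27074) D27073
def n56174 : Q := act 4 n27074
theorem D56174 : act 4 n27074 = n56174 := rfl
theorem F88850 : act 2 n56174 = n36291 := d1_1 D56174 (iv4 F88689) F88687
theorem F88851 : act 5 n56174 = n36085 := d9_2 D27074 D56174 F56825 F28454 (iv4 F13352) D17151 D35339 (iv5 F57024) (iv4 D36289) (iv5 D17521) (iv4 D8240) (iv5 D3708) (iv4 F4158) D6159 D12969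
theorem F88852 : act 0 n56174 = n36288 := d17_0 F57022 (iv1 D26925) D26927 D55804 F88274 F56058 D35580 F56263 D56174
theorem F88854 : act 7 n56174 = n36084 := d15_2 D36288 (iv0 F88852) F56823
def n56176 : Q := act 7 n27074
theorem D56176 : act 7 n27074 = n56176 := rfl
theorem F88856 : act 4 n56176 = n36084 := d11_1 D56176 (iv7 F88854) (iv4 D56174)
theorem F88857 : act 5 n56176 = n27075 := d13_1 D56176 (iv7 D27075) D27074
def n56177 : Q := act 6 n27075
theorem D56177 : act 6 n27075 = n56177 := rfl
theorem F88858 : act 4 n56177 = n27076 := d10_1 D56177 (iv6 D27076) (iv4 F43734)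
def n56178 : Q := act 0 n27076
theorem D56178 : act 0 n27076 = n56178 := rfl
theorem F88859 : act 6 n56178 = n35386 := d21_5 (iv5 D12947) F13432 (iv5 F21570) D27076 D56178 (iv5 D35386) (iv1 D17166) D17167 F28114 F21519
def n56179 : Q := act 1 n27076
theorem D56179 : act 1 n27076 = n56179 := rfl
def n56180 : Q := act 2 n27077
theorem D56180 : act 2 n27077 = n56180 := rfl
def n56181 : Q := act 3 n27077
theorem D56181 : act 3 n27077 = n56181 := rfl
theorem F88861 : act 4 n56181 = n39235 := d20_6 (iv4 F5331) D7272 F41771 D12972 D27077 D56181 (iv1 D39235) (iv4 D18610) (iv3 D8738) (iv1 D3908)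
def n56182 : Q := act 4 n27077
theorem D56182 : act 4 n27077 = n56182 := rfl
theorem F88862 : act 0 n56182 = n39163 := d20_1 D56182 (iv4 D39163) (iv3 D18582) (iv1 D8729) F5856 (iv4 F5331) D7272 F41771 D12972 D27077
def n56183 : Q := act 5 n27077
theorem D56183 : act 5 n27077 = n56183 := rfl
def n56184 : Q := act 6 n27077
theorem D56184 : act 6 n27077 = n56184 := rfl
def n56185 : Q := act 7 n27077
theorem D56185 : act 7 n27077 = n56185 := rfl
def n56190 : Q := act 4 n27079
theorem D56190 : act 4 n27079 = n56190 := rfl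
theorem F88864 : act 2 n56190 = n27080 := d1_1 D56190 (iv4 D27080) D27079
theorem F88865 : act 7 n56190 = n36352 := d11_2 (iv7 F43739) D56190 (iv4 D36352)
theorem F88866 : act 1 n36356 = n56190 := d15_1 D36356 F88865 F57095
theorem F88867 : act 1 n56190 = n36355 := d15_0 (iv0 D36355) (iv7 F43743) (iv2 F88864)
def n56191 : Q := act 5 n27079
theorem D56191 : act 5 n27079 = n56191 := rfl
theorem F88868 : act 2 n56191 = n27081 := d2_1 D56191 (iv5 D27081) D27079
theorem F88869 : act 3 n56191 = n36306 := d6_1 D56191 (iv5 D36306) (iv3 F43738)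
theorem F88870 : act 7 n56191 = n36353 := d13_2 (iv7 F43739) D56191 (iv5 D36353)
theorem F88871 : act 1 n36361 = n56191 := d15_1 D36361 F88870 F57096
theorem F88872 : act 1 n56191 = n36360 := d15_0 (iv0 D36360) (iv7 F43745) (iv2 F88868)
def n56192 : Q := act 6 n27079
theorem D56192 : act 6 n27079 = n56192 := rfl
theorem F88873 : act 2 n56192 = n27082 := d3_1 D56192 (iv6 D27082) D27079
theorem F88874 : act 3 n56192 = n36307 := d7_1 D56192 (iv6 D36307) (iv3 F43738)
theorem F88875 : act 5 n37068 = n56192 := d2_0 F88873 (iv5 F43747) D37068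
def n56193 : Q := act 0 n27080
theorem D56193 : act 0 n27080 = n56193 := rfl
theorem F88876 : act 1 n36352 = n56193 := d15_0 (iv0 D56193) F43743 (iv2 F57095)
def n56194 : Q := act 1 n27080
theorem D56194 : act 1 n27080 = n56194 := rfl
def n56195 : Q := act 5 n27080
theorem D56195 : act 5 n27080 = n56195 := rfl
theorem F88878 : act 7 n56195 = n36358 := d13_2 (iv7 F43743) D56195 (iv5 D36358)
def n56196 : Q := act 6 n27080
theorem D56196 : act 6 n27080 = n56196 := rfl
theorem F88879 : act 4 n56196 = n27082 := d10_1 D56196 (iv6 D27082) D27080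
def n56197 : Q := act 0 n27081
theorem D56197 : act 0 n27081 = n56197 := rfl
theorem F88880 : act 1 n36353 = n56197 := d15_0 (iv0 D56197) F43745 (iv2 F57096)
def n56198 : Q := act 1 n27081
theorem D56198 : act 1 n27081 = n56198 := rfl
theorem F88881 : act 1 n56198 = n36353 := d15_1 D56198 (iv7 F88870) F88868
def n56199 : Q := act 4 n27081
theorem D56199 : act 4 n27081 = n56199 := rfl
theorem F88882 : act 7 n56199 = n36362 := d11_2 (iv7 F43745) D56199 (iv4 D36362)
def n56200 : Q := act 6 n27081
theorem D56200 : act 6 n27081 = n56200 := rfl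
theorem F88883 : act 3 n56200 = n27086 := d7_1 D56200 (iv6 D27086) (iv3 F43744)
theorem F88884 : act 5 n56200 = n37070 := d12_1 D56200 (iv6 D37070) F43747 (iv6 D27082) D27081
def n56201 : Q := act 0 n27082
theorem D56201 : act 0 n27082 = n56201 := rfl
def n56202 : Q := act 1 n27082
theorem D56202 : act 1 n27082 = n56202 := rfl
def n56203 : Q := act 7 n27082
theorem D56203 : act 7 n27082 = n56203 := rfl
theorem F88886 : act 3 n56203 = n27089 := d8_1 D56203 (iv7 D27089) (iv3 F43746)
theorem F88887 : act 5 n56203 = n27214 := d13_1 D56203 F44005 F43747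
theorem F88888 : act 6 n56203 = n36366 := d14_1 D56203 (iv7 D36366) (iv6 D17557) (iv7 F30516) D27082
def n56204 : Q := act 3 n27083
theorem D56204 : act 3 n27083 = n56204 := rfl
theorem F88889 : act 5 n56204 = n36711 := d6_2 (iv5 F43748) D56204 F57592
theorem F88890 : act 7 n56204 = n36332 := d8_2 (iv7 F51278) D56204 (iv3 D36332)
theorem F88891 : act 2 n36198 = n56204 := d2_3 F88889 F59802 (iv5 F56918)
theorem F88892 : act 0 n36072 = n56204 := d21_1 D36072 F88889 (iv6 D36711) (iv1 F59737) (iv6 D8370) (iv5 F13324) (iv1 F4092) D3700 D8207 D17453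
theorem E8313 : n36332 = n36199 := ((c15_2 (iv0 D36198) D36199 (iv7 F88890) (iv2 F88891))).symm
theorem F88893 : act 3 n36199 = n17544 := (sb E8313 (iv3 D36332))
theorem F88894 : act 6 n36199 = n35823 := (sb E8313 F57072)
def n56205 : Q := act 4 n27083
theorem D56205 : act 4 n27083 = n56205 := rfl
theorem F88896 : act 2 n56205 = n36331 := d1_1 D56205 (iv4 D36331) (iv2 F51280)
theorem F88897 : act 7 n56205 = n36333 := d11_2 (iv7 F51278) D56205 (iv4 D36333)
theorem F88898 : act 0 n56205 = n27743 := d18_2 D27083 D56205 (iv4 D27743) (iv5 D13242) (iv4 F42641) F21118 F11830 F9586 D12974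
theorem F88899 : act 1 n56205 = n27735 := d18_6 F27584 (iv4 F29133) (iv1 F52548) F42958 (iv5 F43748) D56205 (iv4 D27735) D27734 (iv5 F44749)
def n56206 : Q := act 3 n27084
theorem D56206 : act 3 n27084 = n56206 := rfl
theorem F88900 : act 5 n56206 = n36750 := d6_2 (iv5 F43754) D56206 (iv3 D36750)
theorem F88901 : act 6 n56206 = n35630 := d7_2 (iv6 F43755) D56206 (iv3 D35630)
theorem F88902 : act 7 n56206 = n36330 := d8_2 F51279 D56206 (iv3 D36330)
def n56207 : Q := act 4 n27084
theorem D56207 : act 4 n27084 = n56207 := rfl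
theorem F88903 : act 2 n56207 = n36333 := d1_1 D56207 (iv4 D36333) F51276
theorem F88904 : act 6 n56207 = n27908 := d10_2 (iv6 F43755) D56207 F45068
theorem F88905 : act 7 n56207 = n36331 := d11_2 F51279 D56207 (iv4 D36331)
theorem F88906 : act 0 n56207 = n27735 := d18_2 (iv1 F43753) D56207 (iv4 D27735) (iv5 D13237) (iv4 F42637) (iv0 D12721) F9351 D6162 D12979
theorem F88907 : act 1 n56207 = n27743 := d18_6 F43165 (iv4 F53147) (iv1 F53150) F52545 (iv5 F43754) D56207 (iv4 D27743) F44744 F44743
def n56208 : Q := act 3 n27085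
theorem D56208 : act 3 n27085 = n56208 := rfl
theorem F88908 : act 7 n56208 = n36375 := d8_2 (iv7 F43757) D56208 (iv3 D36375)
def n56209 : Q := act 6 n27085
theorem D56209 : act 6 n27085 = n56209 := rfl
theorem F88909 : act 2 n56209 = n36338 := d3_1 D56209 (iv6 D36338) (iv2 F43756)
theorem F88910 : act 4 n56209 = n27086 := d10_1 D56209 (iv6 D27086) D27085
theorem F88911 : act 7 n56209 = n39070 := d14_2 (iv7 F43757) D56209 (iv6 D39070) (iv7 F41954) (iv6 F28550)
def n56210 : Q := act 3 n27088
theorem D56210 : act 3 n27088 = n56210 := rfl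
theorem F88913 : act 7 n56210 = n33960 := d8_2 (iv7 F53078) D56210 F53295
def n56212 : Q := act 3 n27090
theorem D56212 : act 3 n27090 = n56212 := rfl
theorem F88915 : act 4 n56212 = n39205 := d20_6 (iv4 F20780) (iv1 F20783) (iv4 F41776) D12977 D27090 D56212 (iv1 D39205) (iv4 D18593) (iv3 D8733) (iv1 F9794)
def n56217 : Q := act 3 n27091
theorem D56217 : act 3 n27091 = n56217 := rfl
theorem F88917 : act 4 n39145 = n56217 := d20_2 D18578 D39145 (iv3 D56217) (iv1 D27091) (iv3 D12977) F41776 (iv1 D7273) F5331 (iv3 F5856) D8728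
theorem F88918 : act 4 n39160 = n36355 := d20_0 (iv1 F88867) (iv4 D56190) F43738 (iv1 F43776) D56217 (iv4 F88917) (iv1 F60150) (iv4 D18583) D18582 D39160
def n56221 : Q := act 4 n27092
theorem D56221 : act 4 n27092 = n56221 := rfl
theorem F88919 : act 2 n56221 = n27093 := d1_1 D56221 (iv4 D27093) D27092
theorem F88920 : act 7 n56221 = n36305 := d11_2 (iv7 F43774) D56221 (iv4 D36305)
theorem F88921 : act 1 n36309 = n56221 := d15_1 D36309 F88920 F57031
theorem F88922 : act 1 n56221 = n36308 := d15_0 (iv0 D36308) (iv7 F43778) (iv2 F88919)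
def n56222 : Q := act 5 n27092
theorem D56222 : act 5 n27092 = n56222 := rfl
theorem F88923 : act 2 n56222 = n27094 := d2_1 D56222 (iv5 D27094) D27092
theorem F88924 : act 3 n56222 = n36353 := d6_1 D56222 (iv5 D36353) (iv3 F43773)
theorem F88925 : act 7 n56222 = n36306 := d13_2 (iv7 F43774) D56222 (iv5 D36306)
theorem F88926 : act 1 n36314 = n56222 := d15_1 D36314 F88925 F57032
theorem F88927 : act 6 n55862 = n56222 := d7_0 F88924 (iv6 F57097) (iv3 F88358)
theorem F88928 : act 1 n56222 = n36313 := d15_0 (iv0 D36313) (iv7 F43780) (iv2 F88923)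
def n56223 : Q := act 6 n27092
theorem D56223 : act 6 n27092 = n56223 := rfl
theorem F88929 : act 2 n56223 = n27095 := d3_1 D56223 (iv6 D27095) D27092
theorem F88930 : act 3 n56223 = n36354 := d7_1 D56223 (iv6 D36354) (iv3 F43773)
def n56224 : Q := act 0 n27093
theorem D56224 : act 0 n27093 = n56224 := rfl
theorem F88931 : act 1 n36305 = n56224 := d15_0 (iv0 D56224) F43778 (iv2 F57031)
def n56225 : Q := act 1 n27093
theorem D56225 : act 1 n27093 = n56225 := rfl
def n56226 : Q := act 5 n27093
theorem D56226 : act 5 n27093 = n56226 := rfl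
theorem F88933 : act 7 n56226 = n36311 := d13_2 (iv7 F43778) D56226 (iv5 D36311)
def n56227 : Q := act 6 n27093
theorem D56227 : act 6 n27093 = n56227 := rfl
theorem F88934 : act 4 n56227 = n27095 := d10_1 D56227 (iv6 D27095) D27093
def n56228 : Q := act 0 n27094
theorem D56228 : act 0 n27094 = n56228 := rfl
theorem F88935 : act 1 n36306 = n56228 := d15_0 (iv0 D56228) F43780 (iv2 F57032)
def n56229 : Q := act 1 n27094
theorem D56229 : act 1 n27094 = n56229 := rfl
theorem F88936 : act 1 n56229 = n36306 := d15_1 D56229 (iv7 F88925) F88923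
def n56230 : Q := act 4 n27094
theorem D56230 : act 4 n27094 = n56230 := rfl
theorem F88937 : act 6 n56230 = n55863 := d10_2 F43781 D56230 (iv4 D55863)
theorem F88938 : act 7 n56230 = n36315 := d11_2 (iv7 F43780) D56230 (iv4 D36315)
def n56231 : Q := act 0 n27095
theorem D56231 : act 0 n27095 = n56231 := rfl
def n56232 : Q := act 1 n27095
theorem D56232 : act 1 n27095 = n56232 := rfl
def n56233 : Q := act 5 n27095
theorem D56233 : act 5 n27095 = n56233 := rfl
theorem F88940 : act 6 n56233 = n37007 := d12_2 D27095 D56233 F57922 F43781 (iv5 D27094)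
theorem F88941 : act 7 n56233 = n27212 := d13_2 F61254 D56233 (iv5 F61252)
def n56234 : Q := act 3 n27096
theorem D56234 : act 3 n27096 = n56234 := rfl
theorem F88942 : act 6 n56234 = n39066 := d7_2 (iv6 F43784) D56234 (iv3 D39066)
theorem F88943 : act 7 n56234 = n36336 := d8_2 (iv7 F43785) D56234 (iv3 D36336)
def n56235 : Q := act 0 n27098
theorem D56235 : act 0 n27098 = n56235 := rfl
theorem F88944 : act 1 n36390 = n56235 := d15_0 (iv0 D56235) F43791 D36390
def n56236 : Q := act 1 n27098
theorem D56236 : act 1 n27098 = n56236 := rfl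
def n56237 : Q := act 2 n27098
theorem D56237 : act 2 n27098 = n56237 := rfl
theorem F88945 : act 3 n56237 = n36381 := d0_2 D27098 D56237 (iv2 D36381) (iv3 D17567) (iv2 F28823)
theorem F88946 : act 7 n56237 = n36390 := d4_2 (iv7 F43791) D56237 (iv2 D36390)
theorem F88948 : act 1 n56236 = n36390 := d15_1 D56236 (iv7 F88946) (iv2 D56237)
theorem F88949 : act 1 n36389 = n56237 := d15_1 D36389 F88946 (iv2 D36390)
def n56238 : Q := act 4 n27098
theorem D56238 : act 4 n27098 = n56238 := rfl
theorem F88950 : act 7 n56238 = n36391 := d11_2 (iv7 F43791) D56238 (iv4 D36391)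
def n56239 : Q := act 6 n27098
theorem D56239 : act 6 n27098 = n56239 := rfl
theorem F88951 : act 3 n56239 = n27099 := d7_1 D56239 (iv6 D27099) D27098
theorem F88952 : act 5 n36458 = n56239 := d6_0 F88951 F43793 D36458
def n56240 : Q := act 0 n27100
theorem D56240 : act 0 n27100 = n56240 := rfl
theorem F88953 : act 1 n36381 = n56240 := d15_0 (iv0 D56240) F43794 D36381
def n56241 : Q := act 1 n27100
theorem D56241 : act 1 n27100 = n56241 := rfl
def n56242 : Q := act 2 n27100
theorem D56242 : act 2 n27100 = n56242 := rfl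
theorem F88954 : act 3 n56242 = n36390 := d0_2 D27100 D56242 (iv2 D36390) (iv3 D17572) (iv2 F28800)
theorem F88955 : act 7 n56242 = n36381 := d4_2 (iv7 F43794) D56242 (iv2 D36381)
theorem F88956 : act 1 n56242 = n36379 := d15_0 (iv0 D36379) (iv7 F43794) D56242
theorem F88957 : act 1 n56241 = n36381 := d15_1 D56241 (iv7 F88955) (iv2 D56242)
def n56243 : Q := act 4 n27100
theorem D56243 : act 4 n27100 = n56243 := rfl
theorem F88959 : act 7 n56243 = n36382 := d11_2 (iv7 F43794) D56243 (iv4 D36382)
def n56244 : Q := act 6 n27100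
theorem D56244 : act 6 n27100 = n56244 := rfl
theorem F88961 : act 5 n56244 = n35702 := d12_1 D56244 F56375 (iv5 D27144) D27145 (iv5 F43879)
theorem F88962 : act 7 n35701 = n56244 := d13_0 F88961 (iv7 D35702) D35701
def n56245 : Q := act 3 n27102
theorem D56245 : act 3 n27102 = n56245 := rfl
theorem F88963 : act 7 n56245 = n36399 := d8_2 (iv7 F43806) D56245 (iv3 D36399)
def n56246 : Q := act 5 n27102
theorem D56246 : act 5 n27102 = n56246 := rfl
theorem F88964 : act 2 n56246 = n36397 := d2_1 D56246 (iv5 D36397) F43807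
theorem F88965 : act 7 n56246 = n36400 := d13_2 (iv7 F43806) D56246 (iv5 D36400)
def n56247 : Q := act 6 n27102
theorem D56247 : act 6 n27102 = n56247 := rfl
theorem F88966 : act 2 n56247 = n36398 := d3_1 D56247 (iv6 D36398) F43807
theorem F88967 : act 4 n56247 = n27745 := d10_1 D56247 (iv6 D27745) (iv4 F43805)
def n56248 : Q := act 3 n27103
theorem D56248 : act 3 n27103 = n56248 := rfl
theorem F88968 : act 7 n56248 = n36396 := d8_2 F43809 D56248 (iv3 D36396)
def n56249 : Q := act 5 n27103
theorem D56249 : act 5 n27103 = n56249 := rfl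
theorem F88969 : act 2 n56249 = n36400 := d2_1 D56249 (iv5 D36400) F43802
theorem F88970 : act 7 n56249 = n36397 := d13_2 F43809 D56249 (iv5 D36397)
def n56250 : Q := act 6 n27103
theorem D56250 : act 6 n27103 = n56250 := rfl
theorem F88971 : act 2 n56250 = n36401 := d3_1 D56250 (iv6 D36401) F43802
theorem F88972 : act 4 n56250 = n27747 := d10_1 D56250 (iv6 D27747) (iv4 F43801)
theorem F88973 : act 7 n39055 = n56250 := d11_0 F88972 F44790 D39055
theorem F88974 : act 0 n36712 = n56250 := d18_2 F43752 D36712 F88972 F44787 (iv4 F42733) (iv0 F53044) (iv4 F53042) (iv0 D26946) D26947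
theorem F88975 : act 1 n36705 = n56250 := d18_6 (iv1 D7858) (iv4 F9412) D12792 F28962 D17690 D36705 F88972 F44789 (iv5 D16859)
def n56251 : Q := act 0 n27104
theorem D56251 : act 0 n27104 = n56251 := rfl
def n56252 : Q := act 1 n27104
theorem D56252 : act 1 n27104 = n56252 := rfl
def n56253 : Q := act 2 n27104
theorem D56253 : act 2 n27104 = n56253 := rfl
theorem F88976 : act 3 n56253 = n36404 := d0_2 D27104 D56253 (iv2 D36404) (iv3 D17577) (iv2 F21578)
theorem F88977 : act 6 n56253 = n27110 := d3_2 (iv6 F43811) D56253 (iv2 D27110)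
def n56254 : Q := act 5 n27104
theorem D56254 : act 5 n27104 = n56254 := rfl
theorem F88978 : act 3 n56254 = n27105 := d6_1 D56254 (iv5 D27105) D27104
def n56255 : Q := act 7 n27104
theorem D56255 : act 7 n27104 = n56255 := rfl
theorem F88979 : act 3 n56255 = n27106 := d8_1 D56255 (iv7 D27106) D27104
def n56256 : Q := act 0 n27105
theorem D56256 : act 0 n27105 = n56256 := rfl
theorem F88980 : act 5 n56256 = n27735 := d17_3 (iv1 D27103) D27105 D56256 (iv4 D27735) (iv5 D13237) (iv0 D6288) D6290 D13245 (iv4 F43801)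
theorem F88981 : act 2 n36407 = n56256 := d2_3 F88980 F44752 (iv5 F57151)
theorem F88982 : act 7 n36408 = n56256 := d13_0 F88980 F44753 (iv5 F57152)
theorem F88983 : act 1 n36410 = n56256 := d17_6 (iv1 D27084) (iv5 D12974) (iv1 F9586) (iv5 F13025) (iv4 F28558) (iv5 F57153) F88980 (iv0 F88906) (iv4 D56207)
def n56257 : Q := act 1 n27105
theorem D56257 : act 1 n27105 = n56257 := rfl
theorem F88984 : act 1 n56257 = n36410 := d15_1 D56257 (iv7 D36410) (iv2 F43812)
theorem F88985 : act 7 n56257 = n36407 := d15_2 (iv0 D56256) D56257 F88981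
theorem F88986 : act 5 n56257 = n27743 := d17_7 (iv1 F43749) (iv5 D12979) (iv1 D6162) D6163 D12983 D27105 D56257 (iv0 F88898) (iv4 D56205)
theorem F88987 : act 2 n36408 = n56257 := d2_3 F88986 F44777 (iv5 F57152)
def n56258 : Q := act 4 n27105
theorem D56258 : act 4 n27105 = n56258 := rfl
theorem F88989 : act 5 n56258 = n33821 := d9_2 D27105 D56258 F53160 F25854 F11830 (iv5 F13025) (iv4 F28558) (iv5 F57153) (iv4 F87136) (iv5 D55096) (iv4 D26627) (iv5 D12723) F9351 D6163 D12983
theorem F88990 : act 7 n33820 = n56258 := d13_0 F88989 (iv7 D33821) D33820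
def n56259 : Q := act 7 n27105
theorem D56259 : act 7 n27105 = n56259 := rfl
theorem F88991 : act 2 n56259 = n36410 := d4_1 D56259 (iv7 D36410) (iv2 F43812)
theorem F88992 : act 4 n56259 = n33820 := d11_1 D56259 F88990 (iv4 D56258)
theorem F88993 : act 5 n56259 = n27106 := d13_1 D56259 (iv7 D27106) D27105
theorem F88994 : act 1 n36408 = n56259 := d15_1 D36408 (iv7 D56259) F43812
theorem F88995 : act 1 n56259 = n36407 := d15_1 F88994 (iv7 F88985) (iv2 F88987)
def n56260 : Q := act 2 n27108
theorem D56260 : act 2 n27108 = n56260 := rfl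
theorem F88996 : act 7 n27109 = n56260 := d15_2 (iv0 D27108) D27109 (iv2 D56260)
def n56261 : Q := act 3 n27108
theorem D56261 : act 3 n27108 = n56261 := rfl
def n56262 : Q := act 4 n27108
theorem D56262 : act 4 n27108 = n56262 := rfl
def n56263 : Q := act 5 n27108
theorem D56263 : act 5 n27108 = n56263 := rfl
def n56264 : Q := act 6 n27108
theorem D56264 : act 6 n27108 = n56264 := rfl
def n56266 : Q := act 3 n27109
theorem D56266 : act 3 n27109 = n56266 := rfl
def n56267 : Q := act 4 n27109
theorem D56267 : act 4 n27109 = n56267 := rfl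
def n56268 : Q := act 5 n27109
theorem D56268 : act 5 n27109 = n56268 := rfl
def n56269 : Q := act 6 n27109
theorem D56269 : act 6 n27109 = n56269 := rfl
def n56270 : Q := act 3 n27111
theorem D56270 : act 3 n27111 = n56270 := rfl
theorem F88998 : act 5 n56270 = n36384 := d6_2 F43825 D56270 F57138
theorem F88999 : act 7 n56270 = n35698 := d8_2 (iv7 F43824) D56270 F56372
def n56271 : Q := act 0 n27112
theorem D56271 : act 0 n27112 = n56271 := rfl
def n56272 : Q := act 1 n27112
theorem D56272 : act 1 n27112 = n56272 := rfl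
theorem F89000 : act 1 n56272 = n36793 := d15_1 D56272 (iv7 D36793) (iv2 F43827)
def n56273 : Q := act 5 n27112
theorem D56273 : act 5 n27112 = n56273 := rfl
theorem F89001 : act 2 n56273 = n36256 := d2_1 D56273 F56996 (iv2 F43827)
theorem F89002 : act 3 n56273 = n40558 := d6_1 D56273 (iv5 D40558) (iv3 F43828)
theorem F89003 : act 6 n56273 = n27113 := d12_2 D27112 D56273 (iv5 D27113) (iv6 D12988) D12987
def n56274 : Q := act 7 n27112
theorem D56274 : act 7 n27112 = n56274 := rfl
theorem F89004 : act 2 n56274 = n36793 := d4_1 D56274 (iv7 D36793) (iv2 F43827)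
theorem F89005 : act 3 n56274 = n40559 := d8_1 D56274 (iv7 D40559) (iv3 F43828)
theorem F89006 : act 4 n56274 = n35456 := d11_1 D56274 (iv7 D35456) (iv4 F43829)
theorem F89007 : act 6 n56274 = n36790 := d14_1 D56274 (iv7 D36790) (iv6 D17736) (iv7 F21589) D27112
theorem F89008 : act 1 n36793 = n56271 := d15_0 (iv0 D56271) D56274 F89004
theorem F89009 : act 1 n36792 = n56274 := d15_1 D36792 (iv7 D56274) F43827
theorem F89010 : act 1 n56274 = n36791 := d15_0 (iv0 D36791) D36793 (iv2 F89004)
def n56275 : Q := act 3 n27114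
theorem D56275 : act 3 n27114 = n56275 := rfl
theorem F89011 : act 4 n56275 = n44987 := d5_2 D27114 D56275 (iv3 D44987) (iv4 D21480) (iv3 F21600)
theorem F89012 : act 7 n56275 = n36249 := d8_2 (iv7 F43835) D56275 (iv3 D36249)
def n56276 : Q := act 5 n27114
theorem D56276 : act 5 n27114 = n56276 := rfl
def n56277 : Q := act 0 n27115
theorem D56277 : act 0 n27115 = n56277 := rfl
theorem F89015 : act 1 n33035 = n56277 := d15_0 (iv0 D56277) F43837 (iv2 F52228)
def n56278 : Q := act 1 n27115
theorem D56278 : act 1 n27115 = n56278 := rfl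
theorem F89016 : act 1 n56278 = n33035 := d15_1 D56278 (iv7 F86431) F86429
def n56279 : Q := act 5 n27115
theorem D56279 : act 5 n27115 = n56279 := rfl
theorem F89017 : act 3 n56279 = n27116 := d6_1 D56279 (iv5 D27116) D27115
def n56281 : Q := act 6 n27116
theorem D56281 : act 6 n27116 = n56281 := rfl
theorem F89021 : act 2 n56281 = n27125 := d3_1 D56281 (iv6 D27125) (iv2 F43838)
def n56282 : Q := act 0 n27117
theorem D56282 : act 0 n27117 = n56282 := rfl
theorem F89023 : act 4 n56282 = n27264 := d20_2 (iv4 F43844) D56282 (iv3 D27264) (iv1 F44078) F44073 (iv4 F58201) (iv1 F58202) D37354 F58282 (iv1 D27119)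
theorem F89024 : act 0 n56282 = n27129 := d20_7 D8339 (iv1 F41732) F9279 (iv3 F9680) D13060 D27264 (iv4 F89023) F43864 F21621 (iv1 F9624)
def n56283 : Q := act 1 n27117
theorem D56283 : act 1 n27117 = n56283 := rfl
theorem F89025 : act 1 n56283 = n27129 := d15_1 D56283 (iv7 D27129) (iv2 F43843)
def n56285 : Q := act 7 n27117
theorem D56285 : act 7 n27117 = n56285 := rfl
theorem F89027 : act 2 n56285 = n27129 := d4_1 D56285 (iv7 D27129) (iv2 F43843)
theorem F89028 : act 4 n56285 = n27120 := d11_1 D56285 (iv7 D27120) (iv4 F43844)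
theorem F89029 : act 6 n56285 = n36800 := d14_1 D56285 (iv7 D36800) (iv6 D17739) (iv7 F21605) D27117
theorem F89030 : act 1 n27127 = n56285 := d15_1 D27127 (iv7 D56285) F43843
theorem F89031 : act 1 n56285 = n27126 := d15_0 (iv0 D27126) D27129 (iv2 F89027)
def n56286 : Q := act 2 n27118
theorem D56286 : act 2 n27118 = n56286 := rfl
theorem F89032 : act 7 n27119 = n56286 := d15_2 (iv0 D27118) D27119 (iv2 D56286)
theorem F89033 : act 5 n56286 = n55746 := d13_1 F89032 (iv7 D55746) F43846
def n56287 : Q := act 3 n27118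
theorem D56287 : act 3 n27118 = n56287 := rfl
def n56288 : Q := act 4 n27118
theorem D56288 : act 4 n27118 = n56288 := rfl
def n56289 : Q := act 5 n27118
theorem D56289 : act 5 n27118 = n56289 := rfl
theorem F89034 : act 2 n56289 = n55746 := d2_1 D56289 (iv5 F89033) (iv2 D56286)
theorem F89035 : act 0 n56289 = n36747 := d21_1 D56289 F57644 (iv6 D19035) (iv1 F59697) (iv6 D8216) (iv5 F13334) (iv1 F4172) D6172 D12991 D27118
theorem F89036 : act 7 n56289 = n55728 := d15_2 (iv0 F59707) (iv0 F89035) F88167
theorem F89037 : act 6 n55762 = n56289 := d14_5 F89036 (iv6 D55728) (iv7 F43400) D26912 D55762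
theorem F89038 : act 5 n36232 = n55762 := d12_5 F89037 (iv5 D56289) (iv6 F56934) (iv5 D36231) D36232
theorem F89039 : act 0 n36052 = n36232 := d21_1 D36052 F89038 F89037 F89035 (iv6 F59704) F59703 F59700 F28464 (iv6 F28875) (iv1 F28877)
theorem F89040 : act 0 n55762 = n36129 := d21_10 F56984 (iv1 D36253) F28505 (iv6 D8370) (iv1 F9613) D12991 F21610 D27118 D56289 (iv6 F89037)
theorem F89041 : act 1 n55747 = n36129 := d15_0 (iv0 F89040) (iv7 D55762) (iv2 F88189)
theorem F89042 : act 1 n35249 = n36232 := d15_0 (iv0 F89039) (iv7 F59799) (iv2 F59742)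
theorem F89043 : act 7 n55761 = n36232 := d13_0 F89038 (iv7 D55762) D55761
theorem F89044 : act 1 n56289 = n40273 := d15_0 F61267 D55746 (iv2 F89034)
def n56290 : Q := act 7 n27118
theorem D56290 : act 7 n27118 = n56290 := rfl
def n56291 : Q := act 4 n27119
theorem D56291 : act 4 n27119 = n56291 := rfl
def n56292 : Q := act 6 n27119
theorem D56292 : act 6 n27119 = n56292 := rfl
theorem F89047 : act 5 n56292 = n55744 := d12_1 D56292 (iv6 D55744) (iv5 D26906) D26907 F43846
theorem F89048 : act 0 n36128 = n55744 := d21_1 D36128 (iv5 F89047) (iv6 D56292) (iv1 D27119) (iv6 D12991) (iv5 D6172) (iv1 F4174) F13340 D8221 D17471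
theorem F89049 : act 0 n36673 = n56292 := d21_1 F57543 F89047 (iv6 D55744) D55741 (iv6 F88179) (iv5 D36835) (iv1 F28876) (iv5 F56795) (iv6 F56874) (iv1 F59744)
def n56293 : Q := act 0 n27121
theorem D56293 : act 0 n27121 = n56293 := rfl
theorem F89050 : act 5 n56293 = n40007 := d17_3 (iv1 F61864) F56893 D56293 F73779 (iv5 D46679) F34941 (iv5 F64075) (iv0 D40748) D40749
theorem F89051 : act 1 n36866 = n56293 := d15_0 (iv0 D56293) F43854 D36866
theorem F89052 : act 2 n36865 = n56293 := d2_3 F89050 F72250 (iv5 F72245)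
def n56294 : Q := act 1 n27121
theorem D56294 : act 1 n27121 = n56294 := rfl
theorem F89054 : act 1 n56294 = n36866 := d15_1 D56294 (iv7 F60994) F60992
theorem F89055 : act 7 n56294 = n36865 := d15_2 (iv0 D56293) D56294 F89052
theorem F89057 : act 5 n40006 = n56294 := d13_3 F89055 F72245 (iv7 F72244)
def n56295 : Q := act 4 n27121
theorem D56295 : act 4 n27121 = n56295 := rfl
theorem F89058 : act 3 n56295 = n34460 := d5_1 D56295 (iv4 D34460) F27409 (iv4 F21611) D27121
theorem F89059 : act 7 n56295 = n36867 := d11_2 (iv7 F43854) D56295 (iv4 D36867)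
def n56298 : Q := act 1 n27122
theorem D56298 : act 1 n27122 = n56298 := rfl
theorem F89061 : act 1 n56298 = n36882 := d15_1 D56298 (iv7 D36882) (iv2 F43855)
def n56300 : Q := act 7 n27122
theorem D56300 : act 7 n27122 = n56300 := rfl
theorem F89063 : act 2 n56300 = n36882 := d4_1 D56300 (iv7 D36882) (iv2 F43855)
theorem F89064 : act 4 n56300 = n56007 := d11_1 D56300 (iv7 D56007) (iv4 F43856)
theorem F89068 : act 1 n56300 = n36879 := d15_0 (iv0 D36879) D36882 (iv2 F89063)
def n56301 : Q := act 0 n27123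
theorem D56301 : act 0 n27123 = n56301 := rfl
def n56302 : Q := act 1 n27123
theorem D56302 : act 1 n27123 = n56302 := rfl
def n56304 : Q := act 7 n27123
theorem D56304 : act 7 n27123 = n56304 := rfl
theorem F89071 : act 2 n56304 = n36874 := d4_1 D56304 (iv7 D36874) (iv2 F43857)
theorem F89072 : act 4 n56304 = n37538 := d11_1 D56304 (iv7 D37538) (iv4 F43858)
theorem F89074 : act 1 n36874 = n56301 := d15_0 (iv0 D56301) D56304 F89071
theorem F89075 : act 1 n36872 = n56304 := d15_1 D36872 (iv7 D56304) F43857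
def n56305 : Q := act 3 n27124
theorem D56305 : act 3 n27124 = n56305 := rfl
theorem F89077 : act 2 n56305 = n37889 := d0_1 D56305 (iv3 D37889) F51500 F42136 (iv2 F43859)
theorem F89078 : act 5 n56305 = n27157 := d6_2 (iv5 F43860) D56305 (iv3 D27157)
theorem F89079 : act 7 n56305 = n36493 := d8_2 (iv7 F43861) D56305 F57316
def n56306 : Q := act 6 n27124
theorem D56306 : act 6 n27124 = n56306 := rfl
theorem F89080 : act 2 n56306 = n27167 := d3_1 D56306 (iv6 D27167) (iv2 F43859)
theorem F89081 : act 4 n56306 = n27125 := d10_1 D56306 (iv6 D27125) D27124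
def n56308 : Q := act 1 n27125
theorem D56308 : act 1 n27125 = n56308 := rfl
def n56309 : Q := act 5 n27125
theorem D56309 : act 5 n27125 = n56309 := rfl
def n56310 : Q := act 7 n27125
theorem D56310 : act 7 n27125 = n56310 := rfl
def n56311 : Q := act 2 n27126
theorem D56311 : act 2 n27126 = n56311 := rfl
theorem F89084 : act 7 n27127 = n56311 := d15_2 (iv0 D27126) D27127 (iv2 D56311)
def n56313 : Q := act 4 n27126
theorem D56313 : act 4 n27126 = n56313 := rfl
def n56314 : Q := act 5 n27126
theorem D56314 : act 5 n27126 = n56314 := rfl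
def n56315 : Q := act 6 n27126
theorem D56315 : act 6 n27126 = n56315 := rfl
def n56316 : Q := act 7 n27126
theorem D56316 : act 7 n27126 = n56316 := rfl
theorem F89085 : act 2 n56316 = n27127 := d4_1 D56316 F89084 (iv2 D56311)
def n56318 : Q := act 4 n27127
theorem D56318 : act 4 n27127 = n56318 := rfl
theorem F89086 : act 3 n56318 = n27243 := d20_3 (iv4 F89028) (iv1 F89030) D56318 (iv1 D27243) F21760 (iv4 F29074) D37249 F58196 (iv3 D27131) (iv1 F43853)
def n56319 : Q := act 5 n27127
theorem D56319 : act 5 n27127 = n56319 := rfl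
def n56320 : Q := act 6 n27127
theorem D56320 : act 6 n27127 = n56320 := rfl
def n56327 : Q := act 3 n27130
theorem D56327 : act 3 n27130 = n56327 := rfl
theorem F89090 : act 7 n56327 = n27136 := d8_2 F43866 D56327 (iv3 D27136)
def n56328 : Q := act 4 n27130
theorem D56328 : act 4 n27130 = n56328 := rfl
theorem F89091 : act 2 n56328 = n27132 := d1_1 D56328 (iv4 D27132) D27130
theorem F89092 : act 7 n56328 = n27137 := d11_2 F43866 D56328 (iv4 D27137)
def n56329 : Q := act 5 n27130
theorem D56329 : act 5 n27130 = n56329 := rfl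
theorem F89093 : act 2 n56329 = n27133 := d2_1 D56329 (iv5 D27133) D27130
theorem F89094 : act 7 n56329 = n27138 := d13_2 F43866 D56329 (iv5 D27138)
theorem E8314 : n40280 = n27138 := (c15_2 (iv0 F59719) D40280 (iv7 F89094) F89093)
theorem F89095 : act 0 n27138 = n19035 := (sb E8314 (iv1 D40280))
def n56330 : Q := act 6 n27130
theorem D56330 : act 6 n27130 = n56330 := rfl
theorem F89096 : act 2 n56330 = n27134 := d3_1 D56330 (iv6 D27134) D27130
def n56331 : Q := act 0 n27131
theorem D56331 : act 0 n27131 = n56331 := rfl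
def n56332 : Q := act 1 n27131
theorem D56332 : act 1 n27131 = n56332 := rfl
def n56333 : Q := act 2 n27131
theorem D56333 : act 2 n27131 = n56333 := rfl
def n56334 : Q := act 5 n27131
theorem D56334 : act 5 n27131 = n56334 := rfl
theorem F89098 : act 3 n56334 = n27133 := d6_1 D56334 (iv5 D27133) D27131
def n56335 : Q := act 6 n27131
theorem D56335 : act 6 n27131 = n56335 := rfl
theorem F89099 : act 3 n56335 = n27134 := d7_1 D56335 (iv6 D27134) D27131
def n56336 : Q := act 7 n27131
theorem D56336 : act 7 n27131 = n56336 := rfl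
theorem F89100 : act 3 n56336 = n27135 := d8_1 D56336 (iv7 D27135) D27131
def n56337 : Q := act 0 n27132
theorem D56337 : act 0 n27132 = n56337 := rfl
def n56338 : Q := act 1 n27132
theorem D56338 : act 1 n27132 = n56338 := rfl
theorem F89101 : act 1 n56338 = n27137 := d15_1 D56338 (iv7 F89092) F89091
def n56339 : Q := act 3 n27132
theorem D56339 : act 3 n27132 = n56339 := rfl
def n56340 : Q := act 5 n27132
theorem D56340 : act 5 n27132 = n56340 := rfl
def n56341 : Q := act 6 n27132
theorem D56341 : act 6 n27132 = n56341 := rfl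
theorem F89102 : act 4 n56341 = n27134 := d10_1 D56341 (iv6 D27134) D27132
def n56342 : Q := act 7 n27132
theorem D56342 : act 7 n27132 = n56342 := rfl
theorem F89103 : act 2 n56342 = n27137 := d4_1 D56342 (iv7 F89092) F89091
theorem F89104 : act 4 n56342 = n27135 := d11_1 D56342 (iv7 D27135) D27132
theorem F89105 : act 1 n27137 = n56337 := d15_0 (iv0 D56337) D56342 F89103
def n56343 : Q := act 0 n27133
theorem D56343 : act 0 n27133 = n56343 := rfl
theorem F89106 : act 5 n56343 = n40273 := d21_2 D27133 D56343 (iv6 D40273) F59715 (iv6 D12870) F13450 (iv1 D2597) D2599 D6176 D12996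
theorem F89107 : act 2 n36747 = n56343 := d15_3 (iv0 D56343) (iv0 F59719) (iv7 F57646)
theorem F89108 : act 6 n56343 = n36104 := d3_2 F59704 F89107 F59708
theorem F89109 : act 7 n56343 = n40273 := d4_2 (iv7 F57646) F89107 F61266
theorem F89110 : act 1 n27138 = n56343 := d15_1 (iv0 F89095) F89109 F61266
def n56344 : Q := act 4 n27133
theorem D56344 : act 4 n27133 = n56344 := rfl
def n56345 : Q := act 6 n27133
theorem D56345 : act 6 n27133 = n56345 := rfl
def n56346 : Q := act 7 n27133
theorem D56346 : act 7 n27133 = n56346 := rfl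
theorem F89112 : act 2 n56346 = n27138 := d4_1 D56346 (iv7 F89094) F89093
theorem F89114 : act 6 n55650 = n56346 := d3_0 F89112 (iv6 F43868) D55650
def n56347 : Q := act 1 n27134
theorem D56347 : act 1 n27134 = n56347 := rfl
theorem F89117 : act 6 n36672 = n56347 := d21_3 F21371 F59727 D36672 (iv1 D56347) (iv6 D27134) D27133 D56343 F89106 (iv6 D40273) F59715
theorem F89118 : act 3 n56347 = n27147 := d7_1 F89117 (iv6 F43887) (iv3 F57540)
theorem F89119 : act 5 n56347 = n36199 := d12_1 F89117 F88894 F57543 (iv6 D36673) D36672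
def n56348 : Q := act 7 n27134
theorem D56348 : act 7 n27134 = n56348 := rfl
def n56349 : Q := act 6 n27135
theorem D56349 : act 6 n27135 = n56349 := rfl
theorem F89121 : act 2 n56349 = n27139 := d3_1 D56349 (iv6 D27139) (iv2 F43867)
def n56350 : Q := act 0 n27136
theorem D56350 : act 0 n27136 = n56350 := rfl
def n56351 : Q := act 1 n27136
theorem D56351 : act 1 n27136 = n56351 := rfl
def n56352 : Q := act 2 n27136
theorem D56352 : act 2 n27136 = n56352 := rfl
def n56353 : Q := act 4 n27136
theorem D56353 : act 4 n27136 = n56353 := rfl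
def n56354 : Q := act 5 n27136
theorem D56354 : act 5 n27136 = n56354 := rfl
theorem F89122 : act 3 n56354 = n27138 := d6_1 D56354 (iv5 D27138) D27136
theorem F89123 : act 6 n55651 = n56354 := d7_0 F89122 (iv6 F43868) D55651
def n56355 : Q := act 6 n27136
theorem D56355 : act 6 n27136 = n56355 := rfl
theorem F89124 : act 3 n56355 = n27139 := d7_1 D56355 (iv6 D27139) D27136
def n56356 : Q := act 3 n27137
theorem D56356 : act 3 n27137 = n56356 := rfl
def n56358 : Q := act 6 n27137
theorem D56358 : act 6 n27137 = n56358 := rfl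
theorem F89125 : act 4 n56358 = n27139 := d10_1 D56358 (iv6 D27139) D27137
def n56360 : Q := act 0 n27139
theorem D56360 : act 0 n27139 = n56360 := rfl
theorem F89127 : act 6 n56360 = n37027 := d21_5 (iv5 F89106) (iv1 F89110) (iv5 D27138) D27139 D56360 F88184 (iv1 D55742) (iv5 D26906) D26907 (iv1 F61267)
theorem F89128 : act 5 n56360 = n35628 := d21_0 (iv1 F88099) F88096 F43364 (iv1 F59716) D40273 (iv5 F89106) (iv1 F89110) (iv5 D27138) D27139 D56360
theorem F89129 : act 3 n27153 = n56360 := d6_3 F89128 (iv3 D35628) (iv5 F43897)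
theorem E8316 : n37027 = n36926 := (c21_4 D17473 (iv1 F88090) (iv5 F89128) F89127 (iv1 D36926) (iv6 D17776) D17775 D36920 F57850 (iv6 D36134) (iv1 D17472))
theorem F89131 : act 3 n36926 = n17821 := (sb E8316 (iv3 D37027))
theorem F89132 : act 5 n36926 = n55742 := (sb E8316 F88184)
theorem F89134 : act 7 n36926 = n35304 := (sb E8316 F57973)
theorem E8317 : n36925 = n36863 := ((c15_4 (iv0 D36925) D36926 F89134 F59734)).symm
theorem F89135 : act 1 n36863 = n17776 := (sb E8317 (iv0 D36925))
theorem F89136 : act 5 n36204 = n36921 := d21_6 (iv5 F88177) F88180 (iv5 D26911) D26912 D55759 F88196 (iv1 D36921) (iv5 D17775) D17776 (iv1 F89135)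
theorem F89137 : act 0 n55759 = n56345 := d21_4 D17780 (iv1 F57851) (iv5 F89136) (iv6 F88196) (iv6 D56345) (iv5 D27133) (iv1 F43853) F43849 F43850 (iv1 F28854)
theorem F89138 : act 2 n55762 = n56345 := d15_3 (iv0 F89137) (iv0 D55759) D55762
theorem E8318 : n56329 = n56289 := (c3_4 (iv6 F89037) F89138 (iv6 D56345) (iv2 F89093))
theorem E8319 : n55746 = n27133 := ((F89034).symm.trans (sb E8318 F89093))
theorem E8320 : n27130 = n27118 := ((((iv5 D56289)).symm.trans (sb E8318 (iv5 D56329)))).symm
theorem E8321 : n55728 = n27138 := ((F89036).symm.trans (sb E8318 F89094))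
theorem F89139 : act 2 n27133 = n56289 := (sb E8319 (iv2 F89034))
theorem E8322 : n56286 = n12996 := ((((iv5 D27133)).symm.trans (sb E8319 (iv5 F89033)))).symm
theorem E8323 : n56346 = n26907 := ((D56346).symm.trans (sb E8319 (iv7 D55746)))
theorem E8326 : n56327 = n56287 := (((D56287).symm.trans (sb E8320 D56327))).symm
theorem E8327 : n56328 = n56288 := (((D56288).symm.trans (sb E8320 D56328))).symm
theorem E8328 : n56330 = n36231 := ((((iv6 F56934)).symm.trans (sb E8320 D56330))).symm
theorem E8329 : n56290 = n12997 := ((D56290).symm.trans (sb E8320 (iv7 F43866)))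
theorem E8330 : n26903 = n26873 := ((((iv6 F43868)).symm.trans (sb E8321 (iv6 D55728)))).symm
theorem F89140 : act 7 n27138 = n56289 := (sb E8321 (iv7 F89036))
theorem F89141 : act 2 n12996 = n27118 := (sb E8322 (iv2 D56286))
theorem E8331 : n27135 = n27119 := ((D27135).symm.trans (sb E8322 (iv7 F89032)))
theorem E8332 : n55650 = n12875 := ((((iv6 D26907)).symm.trans (sb E8323 (iv6 F89114)))).symm
theorem F89144 : act 7 n56287 = n27136 := (sb E8326 F89090)
theorem F89145 : act 2 n56288 = n27132 := (sb E8327 F89091)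
theorem F89147 : act 2 n36231 = n27134 := (sb E8328 F89096)
theorem F89148 : act 7 n12997 = n27118 := (sb E8329 (iv7 D56290))
theorem E8335 : n55725 = n55651 := (((D55651).symm.trans (sb E8330 D55725))).symm
theorem E8336 : n55726 = n55652 := (((D55652).symm.trans (sb E8330 D55726))).symm
theorem E8337 : n55727 = n55653 := (((D55653).symm.trans (sb E8330 D55727))).symm
theorem E8338 : n55654 = n12876 := ((D55654).symm.trans (sb E8330 (iv7 F43400)))
theorem E8339 : n56336 = n37354 := ((((iv3 F58282)).symm.trans (sb E8331 (iv3 F89100)))).symm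
theorem E8340 : n56342 = n56291 := (((D56291).symm.trans (sb E8331 (iv4 F89104)))).symm
theorem E8341 : n56349 = n56292 := (((D56292).symm.trans (sb E8331 D56349))).symm
theorem F89151 : act 2 n12875 = n26873 := (sb E8332 (iv2 D55650))
theorem E8342 : n26908 = n26874 := ((D26908).symm.trans (sb E8332 (iv7 F88047)))
theorem F89152 : act 7 n55651 = n26909 := (sb E8335 F88162)
theorem F89153 : act 2 n55652 = n26905 := (sb E8336 F88163)
theorem F89155 : act 2 n55653 = n26906 := (sb E8337 F88165)
theorem F89156 : act 7 n55653 = n26911 := (sb E8337 F88166)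
theorem F89157 : act 7 n12876 = n26873 := (sb E8338 (iv7 D55654))
theorem F89158 : act 7 n37354 = n27131 := (sb E8339 (iv7 D56336))
theorem F89160 : act 7 n56291 = n27132 := (sb E8340 (iv7 D56342))
theorem F89161 : act 2 n56292 = n27139 := (sb E8341 F89121)
theorem E8343 : n55734 = n38935 := ((((iv3 F59969)).symm.trans (sb E8342 (iv3 F88171)))).symm
theorem E8344 : n55740 = n55655 := (((D55655).symm.trans (sb E8342 (iv4 F88175)))).symm
theorem E8345 : n55745 = n55656 := (((D55656).symm.trans (sb E8342 (iv5 F88188)))).symm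
theorem E8346 : n55747 = n55657 := (((D55657).symm.trans (sb E8342 D55747))).symm
theorem F89164 : act 7 n38935 = n26904 := (sb E8343 (iv7 D55734))
theorem F89165 : act 2 n55655 = n26910 := (sb E8344 F88174)
theorem F89166 : act 7 n55655 = n26905 := (sb E8344 (iv7 D55740))
theorem F89167 : act 2 n55656 = n26911 := (sb E8345 F88187)
theorem F89168 : act 7 n55656 = n26906 := (sb E8345 (iv7 D55745))
theorem F89169 : act 1 n55657 = n36129 := (sb E8346 F89041)
theorem F89172 : act 2 n55758 = n36293 := d3_3 F88051 F89167 D55758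
theorem F89173 : act 7 n36294 = n55758 := d15_2 (iv0 D36293) D36294 F89172
theorem E8348 : n38928 = n38891 := ((c11_2 F89164 (iv4 F59924) (iv7 F59967) D38935)).symm
theorem F89174 : act 2 n38891 = n18489 := (sb E8348 (iv2 D38928))
theorem F89175 : act 7 n38891 = n18490 := (sb E8348 (iv7 F59967))
theorem E8349 : n38933 = n38892 := (c15_4 F59926 (iv0 F59925) F89175 (iv2 F59968))
theorem F89176 : act 2 n38892 = n18490 := (sb E8349 F59968)
theorem F89177 : act 7 n38892 = n18489 := (sb E8349 (iv7 D38933))
theorem E8350 : n55731 = n38930 := ((c1_3 (iv4 F59924) F89174 D38930 (iv2 D55731))).symm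
theorem F89178 : act 2 n38930 = n26904 := (sb E8350 (iv2 D55731))
theorem E8351 : n37347 = n37249 := ((c11_2 F89158 (iv4 F58196) (iv7 F58280) D37354)).symm
theorem F89179 : act 2 n37249 = n17935 := (sb E8351 (iv2 D37347))
theorem F89180 : act 7 n37249 = n17936 := (sb E8351 (iv7 F58280))
theorem F89181 : act 7 n56334 = n55733 := d13_2 F89158 D56334 (iv5 F88170)
theorem E8352 : n37352 = n37250 := (c15_4 F58198 (iv0 F58197) F89180 (iv2 F58281))
theorem F89182 : act 2 n37250 = n17936 := (sb E8352 F58281)
theorem F89183 : act 7 n37250 = n17935 := (sb E8352 (iv7 D37352))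
theorem E8353 : n56333 = n37349 := ((c1_3 (iv4 F58196) F89179 D37349 (iv2 D56333))).symm
theorem F89184 : act 2 n37349 = n27131 := (sb E8353 (iv2 D56333))
theorem E8354 : n36228 = n36080 := ((c2_3 D36231 F89147 F56815 F56933)).symm
theorem F89186 : act 2 n36080 = n17499 := (sb E8354 F56933)
theorem F89187 : act 7 n36080 = n17498 := (sb E8354 (iv7 D36228))
theorem E8355 : n56348 = n36226 := ((c13_2 F89187 D36226 (iv7 D56348) F56815)).symm
theorem F89188 : act 7 n36226 = n27134 := (sb E8355 (iv7 D56348))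
theorem E8356 : n36223 = n36079 := (c15_4 (iv0 D36079) D36080 F89187 D36223)
theorem F89189 : act 2 n36079 = n17498 := (sb E8356 (iv2 D36223))
theorem F89190 : act 7 n36079 = n17499 := (sb E8356 (iv7 F56932))
def n56361 : Q := act 1 n27139
theorem D56361 : act 1 n27139 = n56361 := rfl
def n56362 : Q := act 5 n27139
theorem D56362 : act 5 n27139 = n56362 := rfl
theorem F89192 : act 2 n56362 = n55744 := d2_1 D56362 (iv5 F89047) F89161
theorem F89193 : act 6 n56362 = n55653 := d12_2 D27139 D56362 (iv5 D55653) F43868 (iv5 D27138)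
theorem E8357 : n56361 = n36025 := ((c21_1 (iv5 F56871) (iv1 D56361) D56362 F89193 F88048 F56346 (iv5 D35249) (iv1 F59793) (iv5 F56986) (iv6 F88097) (iv1 F88098))).symm
theorem F89194 : act 0 n36025 = n27139 := (sb E8357 (iv1 D56361))
theorem F89195 : act 0 n55673 = n56362 := d21_1 D55673 (iv5 D56362) (iv6 D27139) (iv1 D12997) (iv6 D6176) (iv5 D2599) D2596 (iv5 F13446) D12868 D26883
theorem F89196 : act 0 n56362 = n55678 := d21_10 (iv5 D55678) (iv1 D26884) D26885 F43361 F21602 (iv6 F43332) (iv5 D26875) D26873 D55653 (iv6 F89193)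
theorem F89197 : act 0 n55679 = n36946 := d21_10 (iv5 D36946) F57729 F57725 (iv6 F43850) (iv1 F43852) D27139 D56362 F89196 (iv5 D55678) D55679
def n56363 : Q := act 7 n27139
theorem D56363 : act 7 n27139 = n56363 := rfl
theorem F89198 : act 1 n36673 = n56363 := d15_1 (iv0 F89049) (iv7 D56363) (iv2 F89161)
def n56365 : Q := act 3 n27140
theorem D56365 : act 3 n27140 = n56365 := rfl
theorem F89200 : act 4 n56365 = n37441 := d20_6 (iv4 F5400) D7426 (iv4 F41745) D13000 D27140 D56365 (iv1 D37441) (iv4 D17977) (iv3 D8472) (iv1 D3790)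
def n56366 : Q := act 4 n27140
theorem D56366 : act 4 n27140 = n56366 := rfl
theorem F89201 : act 0 n56366 = n37392 := d20_1 D56366 (iv4 D37392) (iv3 D17945) (iv1 D8464) F5787 (iv4 F5400) D7426 (iv4 F41745) D13000 D27140
def n56367 : Q := act 5 n27140
theorem D56367 : act 5 n27140 = n56367 := rfl
def n56374 : Q := act 4 n27142
theorem D56374 : act 4 n27142 = n56374 := rfl
theorem F89203 : act 2 n56374 = n27143 := d1_1 D56374 (iv4 D27143) D27142
theorem F89204 : act 7 n56374 = n36761 := d11_2 (iv7 F43871) D56374 (iv4 D36761)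
theorem F89205 : act 1 n36765 = n56374 := d15_1 D36765 F89204 F57655
theorem F89206 : act 1 n56374 = n36764 := d15_0 (iv0 D36764) (iv7 F43875) (iv2 F89203)
def n56375 : Q := act 5 n27142
theorem D56375 : act 5 n27142 = n56375 := rfl
theorem F89207 : act 2 n56375 = n27144 := d2_1 D56375 (iv5 D27144) D27142
theorem F89208 : act 3 n56375 = n36724 := d6_1 D56375 (iv5 D36724) (iv3 F43870)
theorem F89209 : act 7 n56375 = n36762 := d13_2 (iv7 F43871) D56375 (iv5 D36762)
theorem F89210 : act 1 n36770 = n56375 := d15_1 D36770 F89209 F57656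
theorem F89211 : act 1 n56375 = n36769 := d15_0 (iv0 D36769) (iv7 F43877) (iv2 F89207)
def n56376 : Q := act 6 n27142
theorem D56376 : act 6 n27142 = n56376 := rfl
theorem F89212 : act 2 n56376 = n27145 := d3_1 D56376 (iv6 D27145) D27142
theorem F89213 : act 3 n56376 = n36725 := d7_1 D56376 (iv6 D36725) (iv3 F43870)
theorem F89214 : act 5 n56242 = n56376 := d6_0 F89213 (iv5 F57603) (iv3 F88954)
def n56377 : Q := act 0 n27143
theorem D56377 : act 0 n27143 = n56377 := rfl
theorem F89215 : act 1 n36761 = n56377 := d15_0 (iv0 D56377) F43875 (iv2 F57655)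
def n56378 : Q := act 1 n27143
theorem D56378 : act 1 n27143 = n56378 := rfl
theorem F89216 : act 1 n56378 = n36761 := d15_1 D56378 (iv7 F89204) F89203
def n56379 : Q := act 5 n27143
theorem D56379 : act 5 n27143 = n56379 := rfl
theorem F89217 : act 7 n56379 = n36767 := d13_2 (iv7 F43875) D56379 (iv5 D36767)
def n56380 : Q := act 6 n27143
theorem D56380 : act 6 n27143 = n56380 := rfl
theorem F89218 : act 4 n56380 = n27145 := d10_1 D56380 (iv6 D27145) D27143
def n56381 : Q := act 0 n27144
theorem D56381 : act 0 n27144 = n56381 := rfl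
theorem F89219 : act 1 n36762 = n56381 := d15_0 (iv0 D56381) F43877 (iv2 F57656)
def n56382 : Q := act 1 n27144
theorem D56382 : act 1 n27144 = n56382 := rfl
theorem F89220 : act 1 n56382 = n36762 := d15_1 D56382 (iv7 F89209) F89207
def n56383 : Q := act 4 n27144
theorem D56383 : act 4 n27144 = n56383 := rfl
theorem F89221 : act 7 n56383 = n36771 := d11_2 (iv7 F43877) D56383 (iv4 D36771)
def n56384 : Q := act 0 n27145
theorem D56384 : act 0 n27145 = n56384 := rfl
def n56385 : Q := act 1 n27145
theorem D56385 : act 1 n27145 = n56385 := rfl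
def n56386 : Q := act 3 n27146
theorem D56386 : act 3 n27146 = n56386 := rfl
theorem F89222 : act 5 n56386 = n32902 := d6_2 (iv5 F43882) D56386 (iv3 D32902)
theorem F89223 : act 7 n56386 = n32706 := d8_2 (iv7 F43881) D56386 F51775
def n56387 : Q := act 2 n27148
theorem D56387 : act 2 n27148 = n56387 := rfl
theorem F89224 : act 7 n27149 = n56387 := d15_2 (iv0 D27148) D27149 (iv2 D56387)
def n56388 : Q := act 3 n27148
theorem D56388 : act 3 n27148 = n56388 := rfl
theorem F89225 : act 4 n56388 = n37417 := d20_6 (iv4 F20929) (iv1 F20932) F41740 D13005 D27148 D56388 (iv1 D37417) (iv4 D17958) (iv3 D8467) (iv1 F9688)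
def n56389 : Q := act 4 n27148
theorem D56389 : act 4 n27148 = n56389 := rfl
def n56390 : Q := act 5 n27148
theorem D56390 : act 5 n27148 = n56390 := rfl
def n56393 : Q := act 3 n27149
theorem D56393 : act 3 n27149 = n56393 := rfl
theorem F89227 : act 4 n37373 = n56393 := d20_2 D17941 D37373 (iv3 D56393) (iv1 D27149) (iv3 D13005) (iv4 F41740) (iv1 D7427) F5400 (iv3 F5787) D8463
theorem F89228 : act 5 n56393 = n56393 := d18_4 D8463 D17941 D37373 F89227 (iv4 F89227) (iv0 D37373) (iv4 D17941) (iv0 D8463) F5788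
theorem F89229 : act 4 n37389 = n36764 := d20_0 (iv1 F89206) (iv4 D56374) F43870 (iv1 F43892) D56393 (iv4 F89227) (iv1 F58300) (iv4 D17946) D17945 D37389
theorem F89230 : act 5 n27149 = n27149 := d6_2 F89228 (iv3 D56393) D56393
theorem F89232 : act 5 n56387 = n56387 := d13_3 (iv7 F89224) F89230 F89224
theorem F89233 : act 5 n35638 = n56235 := d21_6 F89230 (iv1 D27149) F28224 (iv6 D17279) D17274 D35638 (iv1 F88944) F57603 (iv6 D36725) (iv1 F43892)
theorem E8358 : n56390 = n27148 := (c2_3 F89232 (iv2 D56387) D56390 D56387)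
theorem F89234 : act 5 n27148 = n27148 := (sb E8358 (iv5 D56390))
def n56394 : Q := act 4 n27149
theorem D56394 : act 4 n27149 = n56394 := rfl
def n56395 : Q := act 6 n27149
theorem D56395 : act 6 n27149 = n56395 := rfl
def n56396 : Q := act 4 n27150
theorem D56396 : act 4 n27150 = n56396 := rfl
theorem F89236 : act 2 n56396 = n27151 := d1_1 D56396 (iv4 D27151) D27150
theorem F89237 : act 7 n56396 = n36723 := d11_2 (iv7 F43890) D56396 (iv4 D36723)
theorem F89238 : act 1 n36727 = n56396 := d15_1 D36727 F89237 F57597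
theorem E8359 : n36716 = n17702 := (c18_10 (iv1 F43891) D56396 (iv1 F89238) (iv4 F58330) F58338 F58330 F89238 (iv4 D56396) F43891 D36716)
theorem F89239 : act 5 n17702 = n17702 := (sb E8359 (iv5 D36716))
theorem F89243 : act 5 n55841 = n36389 := d21_6 F89239 (iv1 F43891) F56316 (iv6 D35646) (iv1 F43446) D55841 (iv1 D36389) F28771 (iv6 D17707) D17702
def n56397 : Q := act 6 n27150
theorem D56397 : act 6 n27150 = n56397 := rfl
theorem F89247 : act 2 n56397 = n27152 := d3_1 D56397 (iv6 D27152) D27150
theorem F89248 : act 3 n56397 = n36763 := d7_1 D56397 (iv6 D36763) (iv3 F43889)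
def n56398 : Q := act 0 n27151
theorem D56398 : act 0 n27151 = n56398 := rfl
theorem F89249 : act 1 n36723 = n56398 := d15_0 (iv0 D56398) F43894 (iv2 F57597)
def n56399 : Q := act 1 n27151
theorem D56399 : act 1 n27151 = n56399 := rfl
theorem F89250 : act 1 n56399 = n36723 := d15_1 D56399 (iv7 F89237) F89236
def n56400 : Q := act 5 n27151
theorem D56400 : act 5 n27151 = n56400 := rfl
theorem F89251 : act 7 n56400 = n36729 := d13_2 (iv7 F43894) D56400 (iv5 D36729)
def n56401 : Q := act 6 n27151
theorem D56401 : act 6 n27151 = n56401 := rfl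
theorem F89252 : act 4 n56401 = n27152 := d10_1 D56401 (iv6 D27152) D27151
def n56402 : Q := act 0 n27152
theorem D56402 : act 0 n27152 = n56402 := rfl
def n56403 : Q := act 1 n27152
theorem D56403 : act 1 n27152 = n56403 := rfl
def n56404 : Q := act 7 n27152
theorem D56404 : act 7 n27152 = n56404 := rfl
theorem F89253 : act 3 n56404 = n27154 := d8_1 D56404 (iv7 D27154) (iv3 F43895)
theorem F89254 : act 6 n56404 = n36737 := d14_1 D56404 (iv7 D36737) (iv6 D17707) (iv7 F28809) D27152
def n56405 : Q := act 0 n27155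
theorem D56405 : act 0 n27155 = n56405 := rfl
def n56407 : Q := act 7 n27155
theorem D56407 : act 7 n27155 = n56407 := rfl
theorem F89256 : act 2 n56407 = n36490 := d4_1 D56407 (iv7 D36490) (iv2 F43904)
theorem F89258 : act 4 n56407 = n36149 := d11_1 D56407 (iv7 D36149) (iv4 F43906)
theorem F89259 : act 5 n56407 = n56007 := d13_1 D56407 (iv7 D56007) (iv5 F43907)
theorem F89261 : act 1 n36490 = n56405 := d15_0 (iv0 D56405) D56407 F89256
theorem F89262 : act 1 n36489 = n56407 := d15_1 D36489 (iv7 D56407) F43904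
def n56408 : Q := act 0 n27156
theorem D56408 : act 0 n27156 = n56408 := rfl
def n56409 : Q := act 1 n27156
theorem D56409 : act 1 n27156 = n56409 := rfl
theorem F89264 : act 1 n56409 = n36481 := d15_1 D56409 (iv7 D36481) (iv2 F43908)
def n56410 : Q := act 7 n27156
theorem D56410 : act 7 n27156 = n56410 := rfl
theorem F89265 : act 2 n56410 = n36481 := d4_1 D56410 (iv7 D36481) (iv2 F43908)
theorem F89266 : act 3 n56410 = n27231 := d8_1 D56410 (iv7 D27231) (iv3 F43909)
theorem F89267 : act 4 n56410 = n36157 := d11_1 D56410 (iv7 D36157) (iv4 F43910)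
theorem F89269 : act 1 n36481 = n56408 := d15_0 (iv0 D56408) D56410 F89265
theorem F89270 : act 1 n36479 = n56410 := d15_1 D36479 (iv7 D56410) F43908
theorem F89271 : act 1 n56410 = n36478 := d15_0 (iv0 D36478) D36481 (iv2 F89265)
def n56411 : Q := act 0 n27157
theorem D56411 : act 0 n27157 = n56411 := rfl
theorem F89272 : act 1 n33205 = n56411 := d15_0 (iv0 D56411) F43912 (iv2 F52427)
def n56412 : Q := act 1 n27157
theorem D56412 : act 1 n27157 = n56412 := rfl
theorem F89273 : act 1 n56412 = n33205 := d15_1 D56412 (iv7 F86223) F86220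
def n56413 : Q := act 6 n27157
theorem D56413 : act 6 n27157 = n56413 := rfl
theorem F89274 : act 3 n56413 = n27158 := d7_1 D56413 (iv6 D27158) D27157
def n56414 : Q := act 1 n27158
theorem D56414 : act 1 n27158 = n56414 := rfl
theorem F89276 : act 1 n56414 = n27171 := d15_1 D56414 (iv7 D27171) (iv2 F43913)
def n56415 : Q := act 5 n27158
theorem D56415 : act 5 n27158 = n56415 := rfl
theorem F89277 : act 2 n56415 = n27170 := d2_1 D56415 (iv5 D27170) (iv2 F43913)
def n56416 : Q := act 7 n27158
theorem D56416 : act 7 n27158 = n56416 := rfl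
theorem F89278 : act 2 n56416 = n27171 := d4_1 D56416 (iv7 D27171) (iv2 F43913)
theorem F89279 : act 4 n56416 = n27162 := d11_1 D56416 (iv7 D27162) (iv4 F43914)
theorem F89280 : act 6 n56416 = n36499 := d14_1 D56416 (iv7 D36499) (iv6 D17618) (iv7 F21644) D27158
theorem F89282 : act 1 n56416 = n27168 := d15_0 (iv0 D27168) D27171 (iv2 F89278)
def n56417 : Q := act 2 n27159
theorem D56417 : act 2 n27159 = n56417 := rfl
theorem F89283 : act 7 n27160 = n56417 := d15_2 (iv0 D27159) D27160 (iv2 D56417)
def n56418 : Q := act 3 n27159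
theorem D56418 : act 3 n27159 = n56418 := rfl
def n56419 : Q := act 4 n27159
theorem D56419 : act 4 n27159 = n56419 := rfl
def n56420 : Q := act 5 n27159
theorem D56420 : act 5 n27159 = n56420 := rfl
def n56421 : Q := act 7 n27159
theorem D56421 : act 7 n27159 = n56421 := rfl
theorem F89284 : act 2 n56421 = n27160 := d4_1 D56421 F89283 (iv2 D56417)
def n56422 : Q := act 4 n27160
theorem D56422 : act 4 n27160 = n56422 := rfl
def n56423 : Q := act 5 n27160
theorem D56423 : act 5 n27160 = n56423 := rfl
theorem F89285 : act 6 n27182 = n56423 := d21_5 (iv5 D13025) (iv1 D6197) D6198 (iv6 F21663) D27182 (iv5 D56423) (iv1 D27160) D27161 F43918 F21715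
def n56424 : Q := act 6 n27160
theorem D56424 : act 6 n27160 = n56424 := rfl
def n56425 : Q := act 0 n27161
theorem D56425 : act 0 n27161 = n56425 := rfl
theorem F89286 : act 6 n56425 = n27180 := d21_5 (iv5 D13023) (iv1 F9650) D13012 (iv6 F43918) D56425 (iv5 D27180) (iv1 D13018) D13019 F21663 (iv1 F21710)
def n56427 : Q := act 7 n27161
theorem D56427 : act 7 n27161 = n56427 := rfl
theorem F89289 : act 2 n56427 = n27185 := d4_1 D56427 (iv7 D27185) (iv2 F43916)
theorem F89290 : act 3 n56427 = n36813 := d8_1 D56427 (iv7 D36813) (iv3 F43917)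
theorem F89291 : act 5 n56427 = n27162 := d13_1 D56427 (iv7 D27162) D27161
theorem F89293 : act 1 n27185 = n56425 := d15_0 (iv0 D56425) D56427 F89289
theorem F89294 : act 1 n27183 = n56427 := d15_1 D27183 (iv7 D56427) F43916
theorem F89295 : act 0 n27182 = n56427 := d21_10 F89291 (iv1 F43923) D27180 (iv6 F89286) (iv1 F89293) F43939 F43938 (iv1 F43915) D56423 (iv6 F89285)
def n56429 : Q := act 1 n27164
theorem D56429 : act 1 n27164 = n56429 := rfl
theorem F89298 : act 1 n56429 = n36564 := d15_1 D56429 (iv7 F60273) F60271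
theorem F89299 : act 7 n56429 = n36563 := d15_2 (iv0 F59164) D56429 (iv2 F60276)
theorem F89300 : act 2 n36562 = n56429 := d4_3 F89299 (iv2 F60276) F59163
theorem F89301 : act 5 n37882 = n56429 := d13_3 F89299 (iv5 F72449) F72450
def n56430 : Q := act 6 n27164
theorem D56430 : act 6 n27164 = n56430 := rfl
theorem F89302 : act 3 n56430 = n27165 := d7_1 D56430 (iv6 D27165) D27164
def n56431 : Q := act 0 n27165
theorem D56431 : act 0 n27165 = n56431 := rfl
def n56432 : Q := act 1 n27165
theorem D56432 : act 1 n27165 = n56432 := rfl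
theorem F89303 : act 1 n56432 = n36580 := d15_1 D56432 (iv7 D36580) (iv2 F43928)
def n56433 : Q := act 5 n27165
theorem D56433 : act 5 n27165 = n56433 := rfl
theorem F89304 : act 2 n56433 = n36579 := d2_1 D56433 (iv5 D36579) (iv2 F43928)
def n56434 : Q := act 7 n27165
theorem D56434 : act 7 n27165 = n56434 := rfl
theorem F89305 : act 2 n56434 = n36580 := d4_1 D56434 (iv7 D36580) (iv2 F43928)
theorem F89306 : act 4 n56434 = n37969 := d11_1 D56434 (iv7 D37969) (iv4 F43929)
theorem F89307 : act 6 n56434 = n36572 := d14_1 D56434 (iv7 D36572) (iv6 D17642) F21655 D27165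
theorem F89308 : act 1 n36580 = n56431 := d15_0 (iv0 D56431) D56434 F89305
theorem F89309 : act 1 n36578 = n56434 := d15_1 D36578 (iv7 D56434) F43928
theorem F89310 : act 1 n56434 = n36577 := d15_0 (iv0 D36577) D36580 (iv2 F89305)
def n56435 : Q := act 0 n27166
theorem D56435 : act 0 n27166 = n56435 := rfl
def n56436 : Q := act 1 n27166
theorem D56436 : act 1 n27166 = n56436 := rfl
def n56437 : Q := act 5 n27166
theorem D56437 : act 5 n27166 = n56437 := rfl
theorem F89312 : act 2 n56437 = n36571 := d2_1 D56437 (iv5 D36571) (iv2 F43930)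
def n56438 : Q := act 7 n27166
theorem D56438 : act 7 n27166 = n56438 := rfl
theorem F89313 : act 2 n56438 = n36572 := d4_1 D56438 (iv7 D36572) (iv2 F43930)
theorem F89314 : act 4 n56438 = n37263 := d11_1 D56438 (iv7 D37263) (iv4 F43931)
theorem F89315 : act 6 n56438 = n36580 := d14_1 D56438 (iv7 D36580) (iv6 D17645) (iv7 F21657) D27166
theorem F89316 : act 1 n36572 = n56435 := d15_0 (iv0 D56435) D56438 F89313
theorem F89317 : act 1 n36570 = n56438 := d15_1 D36570 (iv7 D56438) F43930
theorem F89318 : act 1 n56438 = n36569 := d15_0 (iv0 D36569) D36572 (iv2 F89313)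
def n56439 : Q := act 0 n27167
theorem D56439 : act 0 n27167 = n56439 := rfl
def n56440 : Q := act 1 n27167
theorem D56440 : act 1 n27167 = n56440 := rfl
def n56441 : Q := act 5 n27167
theorem D56441 : act 5 n27167 = n56441 := rfl
theorem F89319 : act 6 n56441 = n27170 := d12_2 D27167 D56441 (iv5 D27170) (iv6 D13016) D13015
def n56442 : Q := act 7 n27167
theorem D56442 : act 7 n27167 = n56442 := rfl
def n56443 : Q := act 2 n27168
theorem D56443 : act 2 n27168 = n56443 := rfl
theorem F89321 : act 7 n27169 = n56443 := d15_2 (iv0 D27168) D27169 (iv2 D56443)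
def n56444 : Q := act 3 n27168
theorem D56444 : act 3 n27168 = n56444 := rfl
def n56445 : Q := act 4 n27168
theorem D56445 : act 4 n27168 = n56445 := rfl
def n56446 : Q := act 5 n27168
theorem D56446 : act 5 n27168 = n56446 := rfl
def n56447 : Q := act 6 n27168
theorem D56447 : act 6 n27168 = n56447 := rfl
def n56448 : Q := act 7 n27168
theorem D56448 : act 7 n27168 = n56448 := rfl
theorem F89322 : act 2 n56448 = n27169 := d4_1 D56448 F89321 (iv2 D56443)
def n56451 : Q := act 6 n27169
theorem D56451 : act 6 n27169 = n56451 := rfl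
def n56452 : Q := act 0 n27170
theorem D56452 : act 0 n27170 = n56452 := rfl
def n56453 : Q := act 1 n27170
theorem D56453 : act 1 n27170 = n56453 := rfl
def n56455 : Q := act 7 n27170
theorem D56455 : act 7 n27170 = n56455 := rfl
theorem F89323 : act 5 n56455 = n27171 := d13_1 D56455 (iv7 D27171) D27170
def n56457 : Q := act 1 n27172
theorem D56457 : act 1 n27172 = n56457 := rfl
theorem F89325 : act 1 n56457 = n27177 := d15_1 D56457 (iv7 D27177) D27172
def n56458 : Q := act 3 n27172
theorem D56458 : act 3 n27172 = n56458 := rfl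
theorem F89326 : act 7 n56458 = n27178 := d8_2 F43934 D56458 (iv3 D27178)
def n56459 : Q := act 4 n27172
theorem D56459 : act 4 n27172 = n56459 := rfl
theorem F89327 : act 2 n56459 = n27174 := d1_1 D56459 (iv4 D27174) D27172
theorem F89328 : act 7 n56459 = n27179 := d11_2 F43934 D56459 (iv4 D27179)
def n56460 : Q := act 5 n27172
theorem D56460 : act 5 n27172 = n56460 := rfl
theorem F89329 : act 2 n56460 = n27175 := d2_1 D56460 (iv5 D27175) D27172
theorem F89330 : act 7 n56460 = n27180 := d13_2 F43934 D56460 (iv5 D27180)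
def n56461 : Q := act 6 n27172
theorem D56461 : act 6 n27172 = n56461 := rfl
theorem F89331 : act 2 n56461 = n27176 := d3_1 D56461 (iv6 D27176) D27172
def n56462 : Q := act 0 n27173
theorem D56462 : act 0 n27173 = n56462 := rfl
def n56463 : Q := act 1 n27173
theorem D56463 : act 1 n27173 = n56463 := rfl
def n56464 : Q := act 2 n27173
theorem D56464 : act 2 n27173 = n56464 := rfl
def n56465 : Q := act 5 n27173
theorem D56465 : act 5 n27173 = n56465 := rfl
theorem F89332 : act 3 n56465 = n27175 := d6_1 D56465 (iv5 D27175) D27173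
def n56466 : Q := act 6 n27173
theorem D56466 : act 6 n27173 = n56466 := rfl
theorem F89333 : act 3 n56466 = n27176 := d7_1 D56466 (iv6 D27176) D27173
def n56467 : Q := act 7 n27173
theorem D56467 : act 7 n27173 = n56467 := rfl
theorem F89334 : act 3 n56467 = n27177 := d8_1 D56467 (iv7 D27177) D27173
def n56468 : Q := act 0 n27174
theorem D56468 : act 0 n27174 = n56468 := rfl
def n56469 : Q := act 1 n27174
theorem D56469 : act 1 n27174 = n56469 := rfl
theorem F89335 : act 1 n56469 = n27179 := d15_1 D56469 (iv7 F89328) F89327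
def n56470 : Q := act 3 n27174
theorem D56470 : act 3 n27174 = n56470 := rfl
def n56471 : Q := act 5 n27174
theorem D56471 : act 5 n27174 = n56471 := rfl
def n56472 : Q := act 6 n27174
theorem D56472 : act 6 n27174 = n56472 := rfl
theorem F89336 : act 4 n56472 = n27176 := d10_1 D56472 (iv6 D27176) D27174
def n56473 : Q := act 7 n27174
theorem D56473 : act 7 n27174 = n56473 := rfl
theorem F89337 : act 2 n56473 = n27179 := d4_1 D56473 (iv7 F89328) F89327
theorem F89338 : act 4 n56473 = n27177 := d11_1 D56473 (iv7 D27177) D27174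
theorem F89339 : act 1 n27179 = n56468 := d15_0 (iv0 D56468) D56473 F89337
def n56474 : Q := act 0 n27175
theorem D56474 : act 0 n27175 = n56474 := rfl
theorem F89340 : act 5 n56474 = n56062 := d21_2 D27175 D56474 (iv6 D56062) (iv1 D27039) (iv6 D12956) F13342 (iv1 D2602) D2604 D6195 D13017
def n56475 : Q := act 1 n27175
theorem D56475 : act 1 n27175 = n56475 := rfl
theorem F89341 : act 1 n56475 = n27180 := d15_1 D56475 (iv7 F89330) F89329
def n56476 : Q := act 4 n27175
theorem D56476 : act 4 n27175 = n56476 := rfl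
def n56478 : Q := act 7 n27175
theorem D56478 : act 7 n27175 = n56478 := rfl
theorem F89342 : act 2 n56478 = n27180 := d4_1 D56478 (iv7 F89330) F89329
theorem F89343 : act 5 n56478 = n27177 := d13_1 D56478 (iv7 D27177) D27175
theorem F89344 : act 1 n27180 = n56474 := d15_0 (iv0 D56474) D56478 F89342
theorem F89345 : act 0 n27181 = n35364 := d21_10 (iv5 D35364) (iv1 F28683) (iv5 F43685) F43686 (iv1 F43694) D56062 (iv5 F89340) (iv1 F89344) (iv5 D27180) D27181
def n56479 : Q := act 0 n27176
theorem D56479 : act 0 n27176 = n56479 := rfl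
def n56480 : Q := act 1 n27176
theorem D56480 : act 1 n27176 = n56480 := rfl
theorem F89346 : act 6 n36640 = n56480 := d21_3 (iv5 F28193) D35576 (iv5 F57496) (iv1 D56480) (iv6 D27176) D27175 D56474 F89340 (iv6 D56062) (iv1 D27039)
def n56481 : Q := act 7 n27176
theorem D56481 : act 7 n27176 = n56481 := rfl
def n56483 : Q := act 0 n27178
theorem D56483 : act 0 n27178 = n56483 := rfl
def n56484 : Q := act 1 n27178
theorem D56484 : act 1 n27178 = n56484 := rfl
def n56485 : Q := act 2 n27178
theorem D56485 : act 2 n27178 = n56485 := rfl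
def n56486 : Q := act 4 n27178
theorem D56486 : act 4 n27178 = n56486 := rfl
def n56487 : Q := act 5 n27178
theorem D56487 : act 5 n27178 = n56487 := rfl
theorem F89348 : act 3 n56487 = n27180 := d6_1 D56487 (iv5 D27180) D27178
def n56488 : Q := act 6 n27178
theorem D56488 : act 6 n27178 = n56488 := rfl
theorem F89349 : act 3 n56488 = n27181 := d7_1 D56488 (iv6 D27181) D27178
def n56489 : Q := act 3 n27179
theorem D56489 : act 3 n27179 = n56489 := rfl
def n56490 : Q := act 5 n27179
theorem D56490 : act 5 n27179 = n56490 := rfl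
def n56491 : Q := act 6 n27179
theorem D56491 : act 6 n27179 = n56491 := rfl
theorem F89350 : act 4 n56491 = n27181 := d10_1 D56491 (iv6 D27181) D27179
def n56492 : Q := act 4 n27180
theorem D56492 : act 4 n27180 = n56492 := rfl
def n56493 : Q := act 1 n27181
theorem D56493 : act 1 n27181 = n56493 := rfl
def n56494 : Q := act 5 n27181
theorem D56494 : act 5 n27181 = n56494 := rfl
theorem F89351 : act 0 n56040 = n56494 := d21_1 D56040 (iv5 D56494) (iv6 D27181) (iv1 D13018) (iv6 D6195) (iv5 D2604) D2601 (iv5 F13345) D12953 D27032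
theorem E8361 : n35512 = n35445 := (c21_8 (iv5 D56494) F89345 (iv5 D35364) D35365 F57428 (iv6 D36508) (iv5 F28655) D35512 (iv5 F57479) (iv6 F88707) F89351)
theorem F89352 : act 0 n35445 = n36503 := (sb E8361 (iv1 F57332))
theorem F89353 : act 1 n35445 = n17208 := (sb E8361 (iv0 D35512))
theorem F89354 : act 5 n56480 = n35508 := d21_6 (iv5 F57479) (iv1 F57484) (iv5 D17660) D17661 D36640 F89346 (iv1 D35508) (iv5 D17207) D17208 (iv1 F89353)
def n56496 : Q := act 2 n27182
theorem D56496 : act 2 n27182 = n56496 := rfl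
theorem F89355 : act 7 n27183 = n56496 := d15_2 (iv0 D27182) D27183 (iv2 D56496)
def n56497 : Q := act 3 n27182
theorem D56497 : act 3 n27182 = n56497 := rfl
def n56498 : Q := act 4 n27182
theorem D56498 : act 4 n27182 = n56498 := rfl
def n56499 : Q := act 5 n27182
theorem D56499 : act 5 n27182 = n56499 := rfl
def n56500 : Q := act 7 n27182
theorem D56500 : act 7 n27182 = n56500 := rfl
theorem F89357 : act 2 n56500 = n27183 := d4_1 D56500 F89355 (iv2 D56496)
def n56501 : Q := act 3 n27183
theorem D56501 : act 3 n27183 = n56501 := rfl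
def n56502 : Q := act 4 n27183
theorem D56502 : act 4 n27183 = n56502 := rfl
def n56504 : Q := act 0 n27184
theorem D56504 : act 0 n27184 = n56504 := rfl
def n56509 : Q := act 6 n27186
theorem D56509 : act 6 n27186 = n56509 := rfl
theorem F89362 : act 2 n56509 = n37666 := d3_1 D56509 (iv6 D37666) (iv2 F43940)
theorem F89363 : act 4 n56509 = n36973 := d10_1 D56509 (iv6 D36973) (iv4 F43944)
theorem F89364 : act 5 n56509 = n35552 := d12_1 D56509 (iv6 D35552) (iv5 D17224) (iv6 F21704) D27186
def n56512 : Q := act 6 n27187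
theorem D56512 : act 6 n27187 = n56512 := rfl
theorem F89370 : act 4 n56512 = n27188 := d10_1 D56512 (iv6 D27188) D27187
def n56513 : Q := act 0 n27188
theorem D56513 : act 0 n27188 = n56513 := rfl
def n56514 : Q := act 1 n27188
theorem D56514 : act 1 n27188 = n56514 := rfl
def n56515 : Q := act 7 n27188
theorem D56515 : act 7 n27188 = n56515 := rfl
theorem F89371 : act 5 n56515 = n35559 := d13_1 D56515 (iv7 D35559) (iv5 F43947)
def n56516 : Q := act 6 n27189
theorem D56516 : act 6 n27189 = n56516 := rfl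
theorem F89373 : act 3 n56516 = n27191 := d7_1 D56516 (iv6 D27191) (iv3 F43948)
theorem F89374 : act 5 n56516 = n56157 := d12_1 D56516 (iv6 D56157) F43728 F28119 D27189
def n56519 : Q := act 6 n27190
theorem D56519 : act 6 n27190 = n56519 := rfl
theorem F89380 : act 2 n56519 = n56512 := d3_1 D56519 (iv6 D56512) (iv2 F43950)
theorem F89381 : act 4 n56519 = n27191 := d10_1 D56519 (iv6 D27191) D27190
def n56520 : Q := act 0 n27191
theorem D56520 : act 0 n27191 = n56520 := rfl
def n56521 : Q := act 1 n27191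
theorem D56521 : act 1 n27191 = n56521 := rfl
theorem F89382 : act 1 n56521 = n56515 := d15_1 D56521 (iv7 D56515) (iv2 F43953)
def n56522 : Q := act 7 n27191
theorem D56522 : act 7 n27191 = n56522 := rfl
theorem F89383 : act 2 n56522 = n56515 := d4_1 D56522 (iv7 D56515) (iv2 F43953)
theorem F89384 : act 5 n56522 = n56163 := d13_1 D56522 (iv7 D56163) (iv5 F43954)
theorem F89386 : act 1 n56515 = n56520 := d15_0 (iv0 D56520) D56522 F89383
theorem F89387 : act 1 n56514 = n56522 := d15_1 D56514 (iv7 D56522) F43953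
theorem F89388 : act 1 n56522 = n56513 := d15_0 (iv0 D56513) D56515 (iv2 F89383)
def n56523 : Q := act 3 n27192
theorem D56523 : act 3 n27192 = n56523 := rfl
def n56525 : Q := act 6 n27192
theorem D56525 : act 6 n27192 = n56525 := rfl
theorem F89394 : act 4 n56525 = n36956 := d10_1 D56525 (iv6 D36956) (iv4 F43955)
def n56529 : Q := act 0 n27194
theorem D56529 : act 0 n27194 = n56529 := rfl
def n56530 : Q := act 1 n27194
theorem D56530 : act 1 n27194 = n56530 := rfl
theorem F89404 : act 4 n37777 = n56530 := d20_6 F13224 F5781 D3813 D8542 D18119 D37777 (iv1 D56530) F43962 (iv3 D13041) (iv1 F13222)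
def n56531 : Q := act 2 n27194
theorem D56531 : act 2 n27194 = n56531 := rfl
theorem F89405 : act 4 n56531 = n27224 := d1_2 (iv4 F43962) D56531 (iv2 D27224)
theorem F89406 : act 7 n56531 = n56531 := d4_2 F43963 D56531 (iv2 D56531)
theorem F89407 : act 1 n56531 = n56529 := d15_0 (iv0 D56529) F43963 D56531
def n56532 : Q := act 5 n27194
theorem D56532 : act 5 n27194 = n56532 := rfl
theorem F89410 : act 7 n56532 = n56532 := d13_2 F43963 D56532 (iv5 D56532)
def n56534 : Q := act 2 n27196
theorem D56534 : act 2 n27196 = n56534 := rfl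
def n56535 : Q := act 3 n27196
theorem D56535 : act 3 n27196 = n56535 := rfl
theorem F89412 : act 4 n56535 = n37743 := d20_6 (iv4 F5387) D7383 (iv4 F30461) D13028 D27196 D56535 (iv1 D37743) (iv4 D18097) (iv3 D8534) (iv1 D3810)
def n56536 : Q := act 4 n27196
theorem D56536 : act 4 n27196 = n56536 := rfl
theorem F89413 : act 0 n56536 = n37642 := d20_1 D56536 (iv4 D37642) (iv3 D18044) (iv1 D8512) F5796 (iv4 F5387) D7383 (iv4 F30461) D13028 D27196
def n56537 : Q := act 5 n27196
theorem D56537 : act 5 n27196 = n56537 := rfl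
def n56538 : Q := act 6 n27196
theorem D56538 : act 6 n27196 = n56538 := rfl
def n56539 : Q := act 7 n27196
theorem D56539 : act 7 n27196 = n56539 := rfl
def n56544 : Q := act 4 n27198
theorem D56544 : act 4 n27198 = n56544 := rfl
theorem F89415 : act 2 n56544 = n27199 := d1_1 D56544 (iv4 D27199) D27198
theorem F89416 : act 7 n56544 = n37038 := d11_2 (iv7 F43967) D56544 (iv4 D37038)
theorem F89418 : act 1 n56544 = n37041 := d15_0 (iv0 D37041) (iv7 F43971) (iv2 F89415)
def n56545 : Q := act 5 n27198
theorem D56545 : act 5 n27198 = n56545 := rfl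
theorem F89419 : act 2 n56545 = n27200 := d2_1 D56545 (iv5 D27200) D27198
theorem F89421 : act 7 n56545 = n37039 := d13_2 (iv7 F43967) D56545 (iv5 D37039)
theorem F89422 : act 1 n37047 = n56545 := d15_1 D37047 F89421 F57977
theorem F89423 : act 1 n56545 = n37046 := d15_0 (iv0 D37046) (iv7 F43973) (iv2 F89419)
def n56546 : Q := act 6 n27198
theorem D56546 : act 6 n27198 = n56546 := rfl
theorem F89424 : act 2 n56546 = n27201 := d3_1 D56546 (iv6 D27201) D27198
theorem F89425 : act 3 n56546 = n36995 := d7_1 D56546 (iv6 D36995) (iv3 F43966)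
theorem F89426 : act 5 n55866 = n56546 := d6_0 F89425 (iv5 F57915) (iv3 F88365)
def n56547 : Q := act 0 n27199
theorem D56547 : act 0 n27199 = n56547 := rfl
theorem F89427 : act 1 n37038 = n56547 := d15_0 (iv0 D56547) F43971 (iv2 F57976)
def n56548 : Q := act 1 n27199
theorem D56548 : act 1 n27199 = n56548 := rfl
def n56549 : Q := act 5 n27199
theorem D56549 : act 5 n27199 = n56549 := rfl
theorem F89429 : act 7 n56549 = n37044 := d13_2 (iv7 F43971) D56549 (iv5 D37044)
def n56550 : Q := act 6 n27199
theorem D56550 : act 6 n27199 = n56550 := rfl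
theorem F89430 : act 4 n56550 = n27201 := d10_1 D56550 (iv6 D27201) D27199
def n56551 : Q := act 0 n27200
theorem D56551 : act 0 n27200 = n56551 := rfl
theorem F89431 : act 1 n37039 = n56551 := d15_0 (iv0 D56551) F43973 (iv2 F57977)
def n56552 : Q := act 1 n27200
theorem D56552 : act 1 n27200 = n56552 := rfl
theorem F89432 : act 1 n56552 = n37039 := d15_1 D56552 (iv7 F89421) F89419
def n56554 : Q := act 6 n27200
theorem D56554 : act 6 n27200 = n56554 := rfl
theorem F89435 : act 5 n56554 = n55868 := d12_1 D56554 (iv6 D55868) F43975 (iv6 D27201) D27200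
theorem F89436 : act 7 n56554 = n37070 := d14_2 (iv7 F43973) D56554 (iv6 D37070) (iv7 F44005) F44004
def n56555 : Q := act 0 n27201
theorem D56555 : act 0 n27201 = n56555 := rfl
def n56556 : Q := act 1 n27201
theorem D56556 : act 1 n27201 = n56556 := rfl
def n56557 : Q := act 3 n27202
theorem D56557 : act 3 n27202 = n56557 := rfl
theorem F89437 : act 5 n56557 = n40294 := d6_2 (iv5 F43976) D56557 F61333
theorem F89438 : act 7 n56557 = n37020 := d8_2 (iv7 F53071) D56557 (iv3 D37020)
def n56558 : Q := act 4 n27202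
theorem D56558 : act 4 n27202 = n56558 := rfl
theorem F89441 : act 0 n56558 = n27298 := d18_2 D27202 D56558 (iv4 D27298) (iv5 D13079) (iv4 F42172) F20981 F11732 F9659 D13030
theorem F89442 : act 1 n56558 = n27290 := d18_6 (iv1 D27737) F42635 (iv1 F42747) (iv4 F41673) (iv5 F43976) D56558 (iv4 D27290) D27289 (iv5 F44761)
def n56559 : Q := act 3 n27203
theorem D56559 : act 3 n27203 = n56559 := rfl
theorem F89444 : act 6 n56559 = n37131 := d7_2 (iv6 F43980) D56559 (iv3 D37131)
theorem F89445 : act 7 n56559 = n37017 := d8_2 F53079 D56559 (iv3 D37017)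
def n56560 : Q := act 4 n27203
theorem D56560 : act 4 n27203 = n56560 := rfl
def n56562 : Q := act 6 n27204
theorem D56562 : act 6 n27204 = n56562 := rfl
theorem F89453 : act 4 n56562 = n27205 := d10_1 D56562 (iv6 D27205) D27204
theorem F89454 : act 7 n56562 = n37073 := d14_2 (iv7 F43982) D56562 (iv6 D37073) F30537 (iv6 F30536)
def n56563 : Q := act 3 n27206
theorem D56563 : act 3 n27206 = n56563 := rfl
theorem F89455 : act 5 n56563 = n35669 := d6_2 (iv5 F43988) D56563 (iv3 D35669)
theorem F89456 : act 6 n56563 = n36785 := d7_2 F43987 D56563 (iv3 D36785)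
theorem F89457 : act 7 n56563 = n36679 := d8_2 F51262 D56563 F57554
def n56565 : Q := act 3 n27207
theorem D56565 : act 3 n27207 = n56565 := rfl
theorem F89459 : act 4 n56565 = n37713 := d20_6 (iv4 F20898) (iv1 F20901) (iv4 F30457) D13033 D27207 D56565 (iv1 D37713) (iv4 D18075) (iv3 D8529) (iv1 F9696)
def n56570 : Q := act 3 n27208
theorem D56570 : act 3 n27208 = n56570 := rfl
theorem F89461 : act 4 n37623 = n56570 := d20_2 D18040 D37623 (iv3 D56570) (iv1 D27208) (iv3 D13033) F30457 (iv1 D7384) F5387 (iv3 F5796) D8511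
theorem F89462 : act 4 n37639 = n37041 := d20_0 (iv1 F89418) (iv4 D56544) F43966 (iv1 F43994) D56570 (iv4 F89461) (iv1 F58484) (iv4 D18045) D18044 D37639
theorem F89463 : act 3 n37639 = n45251 := d20_3 D17827 D37041 (iv4 F89462) (iv1 D45251) (iv3 D21587) D21588 D45257 F71321 (iv3 D37034) (iv1 D17825)
def n56574 : Q := act 4 n27209
theorem D56574 : act 4 n27209 = n56574 := rfl
theorem F89464 : act 2 n56574 = n27210 := d1_1 D56574 (iv4 D27210) D27209
theorem F89465 : act 7 n56574 = n36993 := d11_2 (iv7 F43992) D56574 (iv4 D36993)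
theorem F89466 : act 1 n36997 = n56574 := d15_1 D36997 F89465 F57912
theorem F89467 : act 1 n56574 = n36996 := d15_0 (iv0 D36996) (iv7 F43996) (iv2 F89464)
def n56575 : Q := act 5 n27209
theorem D56575 : act 5 n27209 = n56575 := rfl
theorem F89468 : act 2 n56575 = n27211 := d2_1 D56575 (iv5 D27211) D27209
theorem F89470 : act 7 n56575 = n36994 := d13_2 (iv7 F43992) D56575 (iv5 D36994)
theorem F89471 : act 1 n37002 = n56575 := d15_1 D37002 F89470 F57913
theorem F89472 : act 6 n37062 = n56575 := d3_0 F89468 (iv6 F43999) D37062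
theorem F89473 : act 1 n56575 = n37001 := d15_0 (iv0 D37001) (iv7 F43998) (iv2 F89468)
def n56576 : Q := act 6 n27209
theorem D56576 : act 6 n27209 = n56576 := rfl
theorem F89474 : act 2 n56576 = n27212 := d3_1 D56576 (iv6 D27212) D27209
def n56577 : Q := act 0 n27210
theorem D56577 : act 0 n27210 = n56577 := rfl
theorem F89476 : act 1 n36993 = n56577 := d15_0 (iv0 D56577) F43996 (iv2 F57912)
theorem F89477 : act 4 n45272 = n56577 := d20_0 (iv1 F89476) (iv4 D36993) (iv3 F43966) (iv1 F43970) D37034 (iv4 F71321) (iv1 F71326) (iv4 D21593) D21592 D45272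
theorem F89478 : act 3 n45272 = n37618 := d20_3 D27210 D56577 (iv4 F89477) (iv1 D37618) (iv3 D18039) D18040 D37623 F89461 (iv3 D56570) (iv1 D27208)
def n56578 : Q := act 1 n27210
theorem D56578 : act 1 n27210 = n56578 := rfl
theorem F89479 : act 1 n56578 = n36993 := d15_1 D56578 (iv7 F89465) F89464
def n56579 : Q := act 5 n27210
theorem D56579 : act 5 n27210 = n56579 := rfl
theorem F89480 : act 7 n56579 = n36999 := d13_2 (iv7 F43996) D56579 (iv5 D36999)
def n56580 : Q := act 6 n27210
theorem D56580 : act 6 n27210 = n56580 := rfl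
theorem F89481 : act 4 n56580 = n27212 := d10_1 D56580 (iv6 D27212) D27210
def n56581 : Q := act 0 n27211
theorem D56581 : act 0 n27211 = n56581 := rfl
theorem F89482 : act 1 n36994 = n56581 := d15_0 (iv0 D56581) F43998 (iv2 F57913)
def n56582 : Q := act 1 n27211
theorem D56582 : act 1 n27211 = n56582 := rfl
theorem F89483 : act 1 n56582 = n36994 := d15_1 D56582 (iv7 F89470) F89468
def n56584 : Q := act 0 n27212
theorem D56584 : act 0 n27212 = n56584 := rfl
def n56585 : Q := act 1 n27212
theorem D56585 : act 1 n27212 = n56585 := rfl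
def n56587 : Q := act 0 n27214
theorem D56587 : act 0 n27214 = n56587 := rfl
theorem F89488 : act 1 n37068 = n56587 := d15_0 (iv0 D56587) F44005 D37068
def n56588 : Q := act 1 n27214
theorem D56588 : act 1 n27214 = n56588 := rfl
def n56589 : Q := act 2 n27214
theorem D56589 : act 2 n27214 = n56589 := rfl
theorem F89489 : act 3 n56589 = n37062 := d0_2 D27214 D56589 (iv2 D37062) (iv3 D17836) (iv2 F30476)
theorem F89490 : act 6 n56589 = n37039 := d3_2 (iv6 F44004) D56589 F57977
theorem F89491 : act 7 n56589 = n37068 := d4_2 (iv7 F44005) D56589 (iv2 D37068)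
theorem F89492 : act 1 n56589 = n37066 := d15_0 (iv0 D37066) (iv7 F44005) D56589
theorem F89493 : act 1 n56588 = n37068 := d15_1 D56588 (iv7 F89491) (iv2 D56589)
def n56590 : Q := act 4 n27214
theorem D56590 : act 4 n27214 = n56590 := rfl
def n56591 : Q := act 0 n27215
theorem D56591 : act 0 n27215 = n56591 := rfl
theorem F89497 : act 1 n37062 = n56591 := d15_0 (iv0 D56591) F44007 D37062
def n56592 : Q := act 1 n27215
theorem D56592 : act 1 n27215 = n56592 := rfl
def n56593 : Q := act 2 n27215
theorem D56593 : act 2 n27215 = n56593 := rfl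
theorem F89498 : act 3 n56593 = n37068 := d0_2 D27215 D56593 (iv2 D37068) (iv3 D17840) (iv2 F30473)
theorem F89499 : act 5 n56593 = n36307 := d2_2 (iv5 F44006) D56593 F57033
theorem F89500 : act 7 n56593 = n37062 := d4_2 (iv7 F44007) D56593 (iv2 D37062)
theorem F89501 : act 1 n56593 = n37060 := d15_0 (iv0 D37060) (iv7 F44007) D56593
theorem F89502 : act 1 n56592 = n37062 := d15_1 D56592 (iv7 F89500) (iv2 D56593)
def n56594 : Q := act 4 n27215
theorem D56594 : act 4 n27215 = n56594 := rfl
theorem F89504 : act 7 n56594 = n37063 := d11_2 (iv7 F44007) D56594 (iv4 D37063)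
def n56595 : Q := act 6 n27215
theorem D56595 : act 6 n27215 = n56595 := rfl
theorem F89505 : act 3 n56595 = n27216 := d7_1 D56595 (iv6 D27216) D27215
theorem F89506 : act 5 n56595 = n36316 := d12_1 D56595 (iv6 D36316) (iv5 D17534) D17535 (iv5 F44006)
def n56597 : Q := act 5 n27217
theorem D56597 : act 5 n27217 = n56597 := rfl
theorem F89510 : act 2 n56597 = n37075 := d2_1 D56597 (iv5 D37075) F44012
theorem F89511 : act 7 n56597 = n37077 := d13_2 F44014 D56597 (iv5 D37077)
def n56599 : Q := act 5 n27218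
theorem D56599 : act 5 n27218 = n56599 := rfl
def n56606 : Q := act 0 n27220
theorem D56606 : act 0 n27220 = n56606 := rfl
theorem F89524 : act 5 n56606 = n27290 := d17_3 (iv1 D27218) D27220 D56606 (iv4 D27290) (iv5 D13074) (iv0 D6220) D6222 D13082 (iv4 F44018)
theorem F89525 : act 2 n37084 = n56606 := d2_3 F89524 F44141 (iv5 F58004)
def n56607 : Q := act 1 n27220
theorem D56607 : act 1 n27220 = n56607 := rfl
theorem F89529 : act 7 n56607 = n37084 := d15_2 (iv0 D56606) D56607 F89525
theorem F89530 : act 5 n56607 = n27298 := d17_7 (iv1 F43977) (iv5 D13035) (iv1 D6200) D6201 D13039 D27220 D56607 (iv0 F89441) (iv4 D56558)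
theorem F89531 : act 2 n37085 = n56607 := d2_3 F89530 F44157 (iv5 F58005)
def n56608 : Q := act 4 n27220
theorem D56608 : act 4 n27220 = n56608 := rfl
theorem F89533 : act 5 n56608 = n33170 := d9_2 D27220 D56608 F52390 F25494 F11732 (iv5 F13193) (iv4 F29000) (iv5 F58006) (iv4 F86331) (iv5 D54622) (iv4 D26416) (iv5 D12603) F9300 D6201 D13039
theorem F89534 : act 6 n56608 = n37086 := d10_2 (iv6 F44022) D56608 (iv4 D37086)
theorem F89535 : act 7 n33169 = n56608 := d14_0 F89534 F86332 F86330 (iv7 F48272) (iv6 F52389)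
def n56609 : Q := act 7 n27220
theorem D56609 : act 7 n27220 = n56609 := rfl
theorem F89537 : act 4 n56609 = n33169 := d11_1 D56609 F89535 (iv4 D56608)
theorem F89538 : act 5 n56609 = n27221 := d13_1 D56609 (iv7 D27221) D27220
theorem F89539 : act 1 n37085 = n56609 := d15_1 D37085 (iv7 D56609) F44021
theorem F89540 : act 1 n56609 = n37084 := d15_1 F89539 (iv7 F89529) (iv2 F89531)
def n56610 : Q := act 2 n27222
theorem D56610 : act 2 n27222 = n56610 := rfl
theorem F89541 : act 7 n27223 = n56610 := d15_2 (iv0 D27222) D27223 (iv2 D56610)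
def n56611 : Q := act 3 n27222
theorem D56611 : act 3 n27222 = n56611 := rfl
theorem F89542 : act 4 n56611 = n45318 := d20_6 (iv4 D8414) F5761 D6203 D13041 D27222 D56611 (iv1 D45318) F34002 (iv3 D13085) (iv1 F13203)
def n56612 : Q := act 4 n27222
theorem D56612 : act 4 n27222 = n56612 := rfl
def n56613 : Q := act 5 n27222
theorem D56613 : act 5 n27222 = n56613 := rfl
def n56615 : Q := act 7 n27222
theorem D56615 : act 7 n27222 = n56615 := rfl
theorem F89543 : act 2 n56615 = n27223 := d4_1 D56615 F89541 (iv2 D56610)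
def n56616 : Q := act 3 n27223
theorem D56616 : act 3 n27223 = n56616 := rfl
def n56617 : Q := act 4 n27223
theorem D56617 : act 4 n27223 = n56617 := rfl
def n56618 : Q := act 5 n27223
theorem D56618 : act 5 n27223 = n56618 := rfl
def n56620 : Q := act 0 n27225
theorem D56620 : act 0 n27225 = n56620 := rfl
def n56621 : Q := act 1 n27225
theorem D56621 : act 1 n27225 = n56621 := rfl
theorem F89544 : act 1 n56621 = n35401 := d15_1 D56621 (iv7 D35401) (iv2 F44033)
def n56622 : Q := act 5 n27225
theorem D56622 : act 5 n27225 = n56622 := rfl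
theorem F89545 : act 2 n56622 = n35400 := d2_1 D56622 (iv5 D35400) (iv2 F44033)
theorem F89546 : act 6 n56622 = n27226 := d12_2 D27225 D56622 (iv5 D27226) (iv6 D13043) D13042
def n56623 : Q := act 7 n27225
theorem D56623 : act 7 n27225 = n56623 := rfl
theorem F89547 : act 2 n56623 = n35401 := d4_1 D56623 (iv7 D35401) (iv2 F44033)
theorem F89548 : act 6 n56623 = n37454 := d14_1 D56623 (iv7 D37454) (iv6 D17985) (iv7 F21735) D27225
theorem F89549 : act 1 n35401 = n56620 := d15_0 (iv0 D56620) D56623 F89547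
theorem F89550 : act 1 n35399 = n56623 := d15_1 D35399 (iv7 D56623) F44033
theorem F89551 : act 1 n56623 = n35398 := d15_0 (iv0 D35398) D35401 (iv2 F89547)
def n56624 : Q := act 0 n27227
theorem D56624 : act 0 n27227 = n56624 := rfl
def n56625 : Q := act 1 n27227
theorem D56625 : act 1 n27227 = n56625 := rfl
theorem F89552 : act 1 n56625 = n37488 := d15_1 D56625 (iv7 D37488) (iv2 F44036)
def n56626 : Q := act 5 n27227
theorem D56626 : act 5 n27227 = n56626 := rfl
theorem F89553 : act 2 n56626 = n37487 := d2_1 D56626 (iv5 D37487) (iv2 F44036)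
theorem F89554 : act 3 n56626 = n41135 := d6_1 D56626 (iv5 D41135) (iv3 F44037)
def n56627 : Q := act 7 n27227
theorem D56627 : act 7 n27227 = n56627 := rfl
theorem F89555 : act 2 n56627 = n37488 := d4_1 D56627 (iv7 D37488) (iv2 F44036)
theorem F89556 : act 3 n56627 = n41136 := d8_1 D56627 (iv7 D41136) (iv3 F44037)
theorem F89557 : act 4 n56627 = n27231 := d11_1 D56627 (iv7 D27231) (iv4 F44038)
theorem F89559 : act 1 n37488 = n56624 := d15_0 (iv0 D56624) D56627 F89555
theorem F89560 : act 1 n37486 = n56627 := d15_1 D37486 (iv7 D56627) F44036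
theorem F89561 : act 1 n56627 = n37485 := d15_0 (iv0 D37485) D37488 (iv2 F89555)
def n56629 : Q := act 3 n27228
theorem D56629 : act 3 n27228 = n56629 := rfl
def n56630 : Q := act 4 n27228
theorem D56630 : act 4 n27228 = n56630 := rfl
def n56631 : Q := act 5 n27228
theorem D56631 : act 5 n27228 = n56631 := rfl
def n56632 : Q := act 6 n27228
theorem D56632 : act 6 n27228 = n56632 := rfl
def n56636 : Q := act 5 n27229
theorem D56636 : act 5 n27229 = n56636 := rfl
def n56637 : Q := act 6 n27229
theorem D56637 : act 6 n27229 = n56637 := rfl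
def n56638 : Q := act 0 n27230
theorem D56638 : act 0 n27230 = n56638 := rfl
def n56639 : Q := act 1 n27230
theorem D56639 : act 1 n27230 = n56639 := rfl
theorem F89564 : act 1 n56639 = n37502 := d15_1 D56639 (iv7 D37502) (iv2 F44040)
theorem F89565 : act 5 n37578 = n56639 := d21_6 F5855 (iv1 F5892) F13460 D8506 D18026 D37578 (iv1 D56639) (iv5 D27230) (iv6 D13045) F14053
def n56640 : Q := act 4 n27230
theorem D56640 : act 4 n27230 = n56640 := rfl
theorem F89566 : act 2 n56640 = n37501 := d1_1 D56640 (iv4 D37501) (iv2 F44040)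
theorem F89567 : act 6 n56640 = n27232 := d10_2 (iv6 F44041) D56640 (iv4 D27232)
def n56641 : Q := act 7 n27230
theorem D56641 : act 7 n27230 = n56641 := rfl
theorem F89568 : act 2 n56641 = n37502 := d4_1 D56641 (iv7 D37502) (iv2 F44040)
theorem F89569 : act 5 n56641 = n27231 := d13_1 D56641 (iv7 D27231) D27230
theorem F89570 : act 6 n56641 = n37559 := d14_1 D56641 (iv7 D37559) F29191 F27390 (iv6 F44041)
theorem F89571 : act 1 n37502 = n56638 := d15_0 (iv0 D56638) D56641 F89568
theorem F89572 : act 1 n37500 = n56641 := d15_1 D37500 (iv7 D56641) F44040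
theorem F89573 : act 1 n56641 = n37499 := d15_0 (iv0 D37499) D37502 (iv2 F89568)
def n56642 : Q := act 0 n27232
theorem D56642 : act 0 n27232 = n56642 := rfl
theorem F89574 : act 4 n56642 = n36416 := d18_3 F21744 D27232 D56642 F57172 F31167 D19490 (iv4 F31199) (iv0 F28186) (iv5 F13740)
theorem F89575 : act 1 n34435 = n56642 := d15_0 (iv0 D56642) (iv7 F54643) F54642
theorem F89576 : act 2 n37507 = n56642 := d1_3 F89574 F57171 (iv4 F58388)
theorem F89577 : act 7 n37508 = n56642 := d11_0 F89574 F57173 (iv4 F58391)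
def n56643 : Q := act 1 n27232
theorem D56643 : act 1 n27232 = n56643 := rfl
theorem F89578 : act 1 n56643 = n34435 := d15_1 D56643 F54638 (iv2 F44047)
theorem F89579 : act 7 n56643 = n37507 := d15_2 (iv0 D56642) D56643 F89576
theorem F89580 : act 4 n56643 = n36475 := d18_7 (iv1 F28627) (iv4 F28629) (iv1 F28079) F21738 D13046 D27232 D56643 F57283 (iv5 D34437)
theorem F89581 : act 2 n37508 = n56643 := d1_3 F89580 (iv2 F57286) (iv4 F58391)
def n56644 : Q := act 3 n27232
theorem D56644 : act 3 n27232 = n56644 := rfl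
theorem F89582 : act 4 n56644 = n55796 := d5_2 D27232 D56644 (iv3 D55796) (iv4 F43720) F43718
def n56645 : Q := act 5 n27232
theorem D56645 : act 5 n27232 = n56645 := rfl
theorem F89583 : act 2 n56645 = n37510 := d2_1 D56645 (iv5 D37510) (iv2 F44047)
def n56646 : Q := act 3 n27233
theorem D56646 : act 3 n27233 = n56646 := rfl
theorem F89584 : act 4 n56646 = n27235 := d5_2 D27233 D56646 (iv3 D27235) (iv4 D13048) (iv3 F21746)
theorem F89585 : act 7 n56646 = n37472 := d8_2 (iv7 F44049) D56646 (iv3 D37472)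
theorem F89586 : act 2 n41127 = n56646 := d4_3 F89585 (iv2 F74422) F74423
theorem F89587 : act 1 n56646 = n46051 := d15_0 (iv0 F74424) F74423 F89586
theorem F89588 : act 5 n55625 = n56646 := d17_3 (iv1 F72577) F72576 D55625 F89584 (iv5 F64297) F64299 (iv5 F62312) (iv0 D41073) D41075
def n56647 : Q := act 5 n27233
theorem D56647 : act 5 n27233 = n56647 := rfl
theorem F89589 : act 2 n56647 = n37808 := d2_1 D56647 (iv5 D37808) (iv2 F44048)
theorem F89590 : act 3 n56647 = n55625 := d6_1 D56647 F89588 (iv3 D56646)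
theorem F89591 : act 7 n56647 = n37473 := d13_2 (iv7 F44049) D56647 (iv5 D37473)
theorem F89592 : act 4 n56647 = n37473 := d16_2 D27233 D56647 (iv5 D37473) (iv4 D17992) (iv5 D8486) (iv4 F13098) D17610 F28636 (iv2 F21745)
theorem F89593 : act 0 n56647 = n36470 := d17_2 (iv1 F44051) D56647 (iv5 D36470) (iv4 D17606) (iv5 D8271) (iv0 F5882) D8845 (iv0 F13767) D17077
theorem F89594 : act 1 n56647 = n36462 := d17_6 F27411 F12364 F9671 D13047 D27233 D56647 (iv5 D36462) (iv0 F54675) (iv4 D34460)
def n56648 : Q := act 6 n27233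
theorem D56648 : act 6 n27233 = n56648 := rfl
theorem F89595 : act 2 n56648 = n37809 := d3_1 D56648 (iv6 D37809) (iv2 F44048)
theorem F89596 : act 4 n56648 = n27234 := d10_1 D56648 (iv6 D27234) D27233
def n56649 : Q := act 0 n27234
theorem D56649 : act 0 n27234 = n56649 := rfl
def n56650 : Q := act 1 n27234
theorem D56650 : act 1 n27234 = n56650 := rfl
def n56651 : Q := act 7 n27234
theorem D56651 : act 7 n27234 = n56651 := rfl
theorem F89598 : act 2 n56651 = n37812 := d4_1 D56651 (iv7 D37812) (iv2 F44052)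
theorem F89599 : act 3 n56651 = n27239 := d8_1 D56651 (iv7 D27239) (iv3 F44053)
theorem F89600 : act 5 n56651 = n37565 := d13_1 D56651 (iv7 D37565) (iv5 F44054)
theorem F89603 : act 1 n37811 = n56651 := d15_1 D37811 (iv7 D56651) F44052
theorem F89604 : act 1 n56651 = n37810 := d15_0 (iv0 D37810) D37812 (iv2 F89598)
def n56652 : Q := act 6 n27235
theorem D56652 : act 6 n27235 = n56652 := rfl
theorem F89605 : act 2 n56652 = n41128 := d3_1 D56652 (iv6 D41128) (iv2 F44055)
theorem F89606 : act 3 n56652 = n27236 := d7_1 D56652 (iv6 D27236) D27235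
def n56653 : Q := act 0 n27236
theorem D56653 : act 0 n27236 = n56653 := rfl
def n56654 : Q := act 1 n27236
theorem D56654 : act 1 n27236 = n56654 := rfl
def n56655 : Q := act 5 n27236
theorem D56655 : act 5 n27236 = n56655 := rfl
theorem F89608 : act 2 n56655 = n37460 := d2_1 D56655 (iv5 D37460) (iv2 F44057)
def n56656 : Q := act 7 n27236
theorem D56656 : act 7 n27236 = n56656 := rfl
theorem F89609 : act 2 n56656 = n37461 := d4_1 D56656 (iv7 D37461) (iv2 F44057)
theorem F89610 : act 4 n56656 = n27239 := d11_1 D56656 (iv7 D27239) (iv4 F44058)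
theorem F89611 : act 6 n56656 = n37488 := d14_1 D56656 (iv7 D37488) (iv6 D17997) (iv7 F21751) D27236
theorem F89613 : act 1 n37459 = n56656 := d15_1 D37459 (iv7 D56656) F44057
theorem F89614 : act 1 n56656 = n37458 := d15_0 (iv0 D37458) D37461 (iv2 F89609)
def n56660 : Q := act 5 n27237
theorem D56660 : act 5 n27237 = n56660 := rfl
def n56664 : Q := act 6 n27238
theorem D56664 : act 6 n27238 = n56664 := rfl
def n56665 : Q := act 0 n27240
theorem D56665 : act 0 n27240 = n56665 := rfl
theorem F89617 : act 5 n56665 = n45718 := d17_1 D56665 (iv1 F73792) (iv5 F85861) F85860 (iv5 F75477) F75479 F75106 (iv0 D37246) (iv4 F44066)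
theorem F89618 : act 1 n32749 = n56665 := d15_0 (iv0 D56665) F44068 (iv2 F51838)
theorem F89619 : act 2 n37512 = n56665 := d2_3 F89617 F72101 (iv5 F75468)
theorem F89620 : act 7 n37511 = n56665 := d13_0 F89617 F72102 (iv5 F72916)
def n56666 : Q := act 1 n27240
theorem D56666 : act 1 n27240 = n56666 := rfl
theorem F89621 : act 1 n56666 = n32749 := d15_1 D56666 (iv7 F85977) F85974
theorem F89622 : act 7 n56666 = n37512 := d15_2 (iv0 D56665) D56666 F89619
theorem F89623 : act 5 n56666 = n45721 := d17_7 F34946 (iv5 F72916) F85978 F85976 F72610 (iv5 F44067) D56666 (iv0 F73794) F73793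
theorem F89624 : act 2 n37511 = n56666 := d2_3 F89623 F72114 (iv5 F72916)
theorem F89625 : act 3 n45995 = n56666 := d6_3 F89623 F72115 (iv5 F72573)
def n56667 : Q := act 6 n27240
theorem D56667 : act 6 n27240 = n56667 := rfl
theorem F89626 : act 3 n56667 = n27241 := d7_1 D56667 (iv6 D27241) D27240
theorem F89627 : act 4 n56667 = n37248 := d10_1 D56667 (iv6 D37248) (iv4 F44066)
def n56668 : Q := act 1 n27241
theorem D56668 : act 1 n27241 = n56668 := rfl
theorem F89628 : act 1 n56668 = n27262 := d15_1 D56668 (iv7 D27262) (iv2 F44069)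
def n56669 : Q := act 5 n27241
theorem D56669 : act 5 n27241 = n56669 := rfl
theorem F89629 : act 2 n56669 = n27261 := d2_1 D56669 (iv5 D27261) (iv2 F44069)
theorem F89630 : act 6 n56669 = n46029 := d12_2 D27241 D56669 (iv5 D46029) (iv6 D21994) (iv5 F21756)
def n56670 : Q := act 7 n27241
theorem D56670 : act 7 n27241 = n56670 := rfl
theorem F89631 : act 2 n56670 = n27262 := d4_1 D56670 (iv7 D27262) (iv2 F44069)
theorem F89632 : act 4 n56670 = n27244 := d11_1 D56670 (iv7 D27244) (iv4 F44070)
theorem F89633 : act 6 n56670 = n37519 := d14_1 D56670 (iv7 D37519) (iv6 D18007) (iv7 F21755) D27241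
theorem F89634 : act 1 n27260 = n56670 := d15_1 D27260 (iv7 D56670) F44069
theorem F89635 : act 1 n56670 = n27259 := d15_0 (iv0 D27259) D27262 (iv2 F89631)
def n56671 : Q := act 2 n27242
theorem D56671 : act 2 n27242 = n56671 := rfl
theorem F89636 : act 7 n27243 = n56671 := d15_2 (iv0 D27242) D27243 (iv2 D56671)
def n56672 : Q := act 3 n27242
theorem D56672 : act 3 n27242 = n56672 := rfl
def n56673 : Q := act 4 n27242
theorem D56673 : act 4 n27242 = n56673 := rfl
def n56674 : Q := act 5 n27242
theorem D56674 : act 5 n27242 = n56674 := rfl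
def n56675 : Q := act 7 n27242
theorem D56675 : act 7 n27242 = n56675 := rfl
theorem F89637 : act 2 n56675 = n27243 := d4_1 D56675 F89636 (iv2 D56671)
def n56676 : Q := act 4 n27243
theorem D56676 : act 4 n27243 = n56676 := rfl
def n56677 : Q := act 6 n27243
theorem D56677 : act 6 n27243 = n56677 := rfl
def n56678 : Q := act 0 n27245
theorem D56678 : act 0 n27245 = n56678 := rfl
def n56679 : Q := act 1 n27245
theorem D56679 : act 1 n27245 = n56679 := rfl
theorem F89638 : act 1 n56679 = n37573 := d15_1 D56679 (iv7 D37573) (iv2 F44079)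
def n56680 : Q := act 5 n27245
theorem D56680 : act 5 n27245 = n56680 := rfl
theorem F89639 : act 2 n56680 = n37572 := d2_1 D56680 (iv5 D37572) (iv2 F44079)
theorem F89640 : act 3 n56680 = n46647 := d6_1 D56680 (iv5 D46647) (iv3 F44080)
theorem F89641 : act 6 n56680 = n46644 := d12_2 D27245 D56680 (iv5 D46644) (iv6 D22357) (iv5 F21764)
def n56681 : Q := act 7 n27245
theorem D56681 : act 7 n27245 = n56681 := rfl
theorem F89642 : act 2 n56681 = n37573 := d4_1 D56681 (iv7 D37573) (iv2 F44079)
theorem F89643 : act 3 n56681 = n46648 := d8_1 D56681 (iv7 D46648) (iv3 F44080)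
theorem F89644 : act 4 n56681 = n27248 := d11_1 D56681 (iv7 D27248) (iv4 F44081)
theorem F89645 : act 6 n56681 = n37545 := d14_1 D56681 (iv7 D37545) (iv6 D18016) (iv7 F21763) D27245
theorem F89646 : act 1 n37573 = n56678 := d15_0 (iv0 D56678) D56681 F89642
theorem F89648 : act 1 n56681 = n37570 := d15_0 (iv0 D37570) D37573 (iv2 F89642)
def n56685 : Q := act 5 n27246
theorem D56685 : act 5 n27246 = n56685 := rfl
theorem F89650 : act 0 n56685 = n39173 := d21_1 D56685 (iv5 D39173) (iv6 D18585) (iv1 D8729) (iv6 D3906) F2868 D3532 (iv5 F14048) D13053 D27246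
def n56686 : Q := act 6 n27246
theorem D56686 : act 6 n27246 = n56686 := rfl
theorem F89651 : act 5 n56686 = n37500 := d21_6 F2868 D3532 (iv5 F14048) D13053 D27246 D56686 (iv1 D37500) (iv5 D18000) (iv6 D8489) (iv1 F14291)
def n56692 : Q := act 3 n27249
theorem D56692 : act 3 n27249 = n56692 := rfl
theorem F89654 : act 4 n56692 = n27251 := d5_2 D27249 D56692 (iv3 D27251) (iv4 D13055) D13054
theorem F89655 : act 7 n56692 = n37560 := d8_2 (iv7 F44090) D56692 (iv3 D37560)
theorem F89656 : act 2 n47128 = n56692 := d4_3 F89655 (iv2 F62319) (iv7 F74373)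
theorem F89657 : act 1 n56692 = n45997 := d15_0 F72577 (iv7 F74373) F89656
def n56693 : Q := act 5 n27249
theorem D56693 : act 5 n27249 = n56693 := rfl
theorem F89659 : act 7 n56693 = n37561 := d13_2 (iv7 F44090) D56693 (iv5 D37561)
theorem F89660 : act 4 n56693 = n37561 := d16_2 D27249 D56693 (iv5 D37561) (iv4 D18021) (iv5 F13787) F13786 D16714 F27410 (iv2 F21769)
theorem F89661 : act 0 n56693 = n39945 := d17_2 (iv1 F44092) D56693 (iv5 D39945) (iv4 D18888) F13761 F9467 D7994 (iv0 F13315) D17603
theorem F89662 : act 1 n56693 = n39939 := d17_6 F13534 (iv5 F7230) (iv1 F12814) (iv5 F21770) D27249 D56693 (iv5 D39939) F30136 (iv4 D18129)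
def n56694 : Q := act 6 n27249
theorem D56694 : act 6 n27249 = n56694 := rfl
theorem F89663 : act 2 n56694 = n37817 := d3_1 D56694 (iv6 D37817) (iv2 F44089)
theorem F89664 : act 4 n56694 = n27250 := d10_1 D56694 (iv6 D27250) D27249
def n56695 : Q := act 0 n27250
theorem D56695 : act 0 n27250 = n56695 := rfl
def n56696 : Q := act 1 n27250
theorem D56696 : act 1 n27250 = n56696 := rfl
theorem F89665 : act 1 n56696 = n37821 := d15_1 D56696 (iv7 D37821) (iv2 F44093)
def n56697 : Q := act 5 n27250
theorem D56697 : act 5 n27250 = n56697 := rfl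
theorem F89666 : act 2 n56697 = n37820 := d2_1 D56697 (iv5 D37820) (iv2 F44093)
theorem F89667 : act 3 n56697 = n27255 := d6_1 D56697 (iv5 D27255) (iv3 F44094)
theorem F89668 : act 6 n56697 = n34434 := d12_2 D27250 D56697 (iv5 D34434) (iv6 D16700) (iv5 F21770)
def n56698 : Q := act 7 n27250
theorem D56698 : act 7 n27250 = n56698 := rfl
theorem F89669 : act 2 n56698 = n37821 := d4_1 D56698 (iv7 D37821) (iv2 F44093)
theorem F89670 : act 3 n56698 = n27256 := d8_1 D56698 (iv7 D27256) (iv3 F44094)
theorem F89671 : act 6 n56698 = n37565 := d14_1 D56698 (iv7 D37565) (iv6 D18022) (iv7 F21771) D27250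
theorem F89673 : act 1 n37819 = n56698 := d15_1 D37819 (iv7 D56698) F44093
theorem F89674 : act 1 n56698 = n37818 := d15_0 (iv0 D37818) D37821 (iv2 F89669)
def n56699 : Q := act 6 n27251
theorem D56699 : act 6 n27251 = n56699 := rfl
theorem F89675 : act 2 n56699 = n47129 := d3_1 D56699 (iv6 D47129) (iv2 F44095)
theorem F89676 : act 3 n56699 = n27252 := d7_1 D56699 (iv6 D27252) D27251
def n56700 : Q := act 0 n27252
theorem D56700 : act 0 n27252 = n56700 := rfl
def n56701 : Q := act 1 n27252
theorem D56701 : act 1 n27252 = n56701 := rfl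
theorem F89677 : act 1 n56701 = n37545 := d15_1 D56701 (iv7 D37545) (iv2 F44098)
def n56702 : Q := act 5 n27252
theorem D56702 : act 5 n27252 = n56702 := rfl
theorem F89678 : act 2 n56702 = n37544 := d2_1 D56702 (iv5 D37544) (iv2 F44098)
def n56703 : Q := act 7 n27252
theorem D56703 : act 7 n27252 = n56703 := rfl
theorem F89679 : act 2 n56703 = n37545 := d4_1 D56703 (iv7 D37545) (iv2 F44098)
theorem F89680 : act 4 n56703 = n27256 := d11_1 D56703 (iv7 D27256) (iv4 F44099)
theorem F89681 : act 6 n56703 = n37573 := d14_1 D56703 (iv7 D37573) (iv6 D18025) (iv7 F21775) D27252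
theorem F89682 : act 1 n37545 = n56700 := d15_0 (iv0 D56700) D56703 F89679
theorem F89683 : act 1 n37543 = n56703 := d15_1 D37543 (iv7 D56703) F44098
theorem F89684 : act 1 n56703 = n37542 := d15_0 (iv0 D37542) D37545 (iv2 F89679)
def n56704 : Q := act 2 n27253
theorem D56704 : act 2 n27253 = n56704 := rfl
theorem F89685 : act 7 n27254 = n56704 := d15_2 (iv0 D27253) D27254 (iv2 D56704)
def n56708 : Q := act 7 n27253
theorem D56708 : act 7 n27253 = n56708 := rfl
theorem F89686 : act 2 n56708 = n27254 := d4_1 D56708 F89685 (iv2 D56704)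
def n56709 : Q := act 3 n27254
theorem D56709 : act 3 n27254 = n56709 := rfl
def n56710 : Q := act 4 n27254
theorem D56710 : act 4 n27254 = n56710 := rfl
def n56711 : Q := act 5 n27254
theorem D56711 : act 5 n27254 = n56711 := rfl
def n56712 : Q := act 6 n27254
theorem D56712 : act 6 n27254 = n56712 := rfl
theorem F89687 : act 5 n39151 = n56712 := d21_2 D18579 D39151 (iv6 D56712) (iv1 D27254) (iv6 D13056) F14051 (iv1 D3533) (iv5 F2868) D3906 D8728
theorem E8362 : n56660 = n39171 := ((c21_11 (iv5 D56660) (iv1 F44063) (iv5 F44084) F44085 (iv1 F44100) D56712 (iv5 F89687) (iv1 F60154) (iv5 D18584) D18585 D39171)).symm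
theorem F89688 : act 5 n39171 = n27237 := (sb E8362 (iv5 D56660))
def n56713 : Q := act 0 n27255
theorem D56713 : act 0 n27255 = n56713 := rfl
def n56714 : Q := act 1 n27255
theorem D56714 : act 1 n27255 = n56714 := rfl
theorem F89689 : act 1 n56714 = n37559 := d15_1 D56714 (iv7 D37559) (iv2 F44101)
theorem F89690 : act 5 n56632 = n56714 := d21_6 (iv5 D2611) D2608 D6206 D13045 D27228 D56632 (iv1 D56714) (iv5 D27255) (iv6 D13056) (iv1 D6214)
def n56715 : Q := act 4 n27255
theorem D56715 : act 4 n27255 = n56715 := rfl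
theorem F89691 : act 2 n56715 = n37558 := d1_1 D56715 (iv4 D37558) (iv2 F44101)
theorem F89692 : act 6 n56715 = n34435 := d10_2 (iv6 F44102) D56715 (iv4 D34435)
def n56716 : Q := act 7 n27255
theorem D56716 : act 7 n27255 = n56716 := rfl
theorem F89693 : act 2 n56716 = n37559 := d4_1 D56716 (iv7 D37559) (iv2 F44101)
theorem F89694 : act 5 n56716 = n27256 := d13_1 D56716 (iv7 D27256) D27255
theorem F89695 : act 6 n56716 = n37502 := d14_1 D56716 (iv7 D37502) F29158 (iv7 F27380) (iv6 F44102)
theorem F89696 : act 1 n37559 = n56713 := d15_0 (iv0 D56713) D56716 F89693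
theorem F89697 : act 1 n37557 = n56716 := d15_1 D37557 (iv7 D56716) F44101
theorem F89698 : act 1 n56716 = n37556 := d15_0 (iv0 D37556) D37559 (iv2 F89693)
def n56717 : Q := act 0 n27257
theorem D56717 : act 0 n27257 = n56717 := rfl
def n56718 : Q := act 1 n27257
theorem D56718 : act 1 n27257 = n56718 := rfl
theorem F89699 : act 1 n56718 = n37591 := d15_1 D56718 (iv7 D37591) (iv2 F44108)
def n56719 : Q := act 5 n27257
theorem D56719 : act 5 n27257 = n56719 := rfl
theorem F89700 : act 2 n56719 = n37590 := d2_1 D56719 (iv5 D37590) (iv2 F44108)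
def n56720 : Q := act 7 n27257
theorem D56720 : act 7 n27257 = n56720 := rfl
theorem F89701 : act 2 n56720 = n37591 := d4_1 D56720 (iv7 D37591) (iv2 F44108)
theorem F89702 : act 6 n56720 = n37587 := d14_1 D56720 (iv7 D37587) (iv6 D18030) (iv7 F21780) D27257
theorem F89704 : act 1 n37589 = n56720 := d15_1 D37589 (iv7 D56720) F44108
theorem F89705 : act 1 n56720 = n37588 := d15_0 (iv0 D37588) D37591 (iv2 F89701)
def n56721 : Q := act 0 n27258
theorem D56721 : act 0 n27258 = n56721 := rfl
def n56722 : Q := act 1 n27258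
theorem D56722 : act 1 n27258 = n56722 := rfl
theorem F89706 : act 1 n56722 = n46030 := d15_1 D56722 (iv7 D46030) (iv2 F44109)
def n56723 : Q := act 5 n27258
theorem D56723 : act 5 n27258 = n56723 := rfl
theorem F89707 : act 2 n56723 = n46029 := d2_1 D56723 (iv5 D46029) (iv2 F44109)
theorem F89708 : act 6 n56723 = n27261 := d12_2 D27258 D56723 (iv5 D27261) (iv6 D13059) D13058
def n56724 : Q := act 7 n27258
theorem D56724 : act 7 n27258 = n56724 := rfl
theorem F89709 : act 2 n56724 = n46030 := d4_1 D56724 (iv7 D46030) (iv2 F44109)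
theorem F89710 : act 6 n56724 = n37596 := d14_1 D56724 (iv7 D37596) (iv6 D18033) (iv7 F21782) D27258
theorem F89711 : act 1 n46030 = n56721 := d15_0 (iv0 D56721) D56724 F89709
theorem F89712 : act 1 n46028 = n56724 := d15_1 D46028 (iv7 D56724) F44109
theorem F89713 : act 1 n56724 = n46027 := d15_0 (iv0 D46027) D46030 (iv2 F89709)
def n56725 : Q := act 2 n27259
theorem D56725 : act 2 n27259 = n56725 := rfl
theorem F89714 : act 7 n27260 = n56725 := d15_2 (iv0 D27259) D27260 (iv2 D56725)
def n56726 : Q := act 3 n27259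
theorem D56726 : act 3 n27259 = n56726 := rfl
def n56727 : Q := act 4 n27259
theorem D56727 : act 4 n27259 = n56727 := rfl
def n56728 : Q := act 5 n27259
theorem D56728 : act 5 n27259 = n56728 := rfl
def n56729 : Q := act 6 n27259
theorem D56729 : act 6 n27259 = n56729 := rfl
def n56730 : Q := act 7 n27259
theorem D56730 : act 7 n27259 = n56730 := rfl
theorem F89715 : act 2 n56730 = n27260 := d4_1 D56730 F89714 (iv2 D56725)
def n56731 : Q := act 3 n27260
theorem D56731 : act 3 n27260 = n56731 := rfl
def n56732 : Q := act 5 n27260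
theorem D56732 : act 5 n27260 = n56732 := rfl
def n56733 : Q := act 6 n27260
theorem D56733 : act 6 n27260 = n56733 := rfl
def n56734 : Q := act 0 n27261
theorem D56734 : act 0 n27261 = n56734 := rfl
def n56735 : Q := act 1 n27261
theorem D56735 : act 1 n27261 = n56735 := rfl
def n56736 : Q := act 4 n27261
theorem D56736 : act 4 n27261 = n56736 := rfl
def n56737 : Q := act 7 n27261
theorem D56737 : act 7 n27261 = n56737 := rfl
theorem F89716 : act 5 n56737 = n27262 := d13_1 D56737 (iv7 D27262) D27261
def n56740 : Q := act 3 n27263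
theorem D56740 : act 3 n27263 = n56740 := rfl
theorem F89719 : act 7 n56740 = n27269 := d8_2 F44112 D56740 (iv3 D27269)
def n56741 : Q := act 4 n27263
theorem D56741 : act 4 n27263 = n56741 := rfl
theorem F89720 : act 2 n56741 = n27265 := d1_1 D56741 (iv4 D27265) D27263
theorem F89721 : act 7 n56741 = n27270 := d11_2 F44112 D56741 (iv4 D27270)
def n56742 : Q := act 5 n27263
theorem D56742 : act 5 n27263 = n56742 := rfl
theorem F89722 : act 2 n56742 = n27266 := d2_1 D56742 (iv5 D27266) D27263
theorem F89723 : act 7 n56742 = n27271 := d13_2 F44112 D56742 (iv5 D27271)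
def n56743 : Q := act 6 n27263
theorem D56743 : act 6 n27263 = n56743 := rfl
theorem F89724 : act 2 n56743 = n27267 := d3_1 D56743 (iv6 D27267) D27263
def n56744 : Q := act 0 n27264
theorem D56744 : act 0 n27264 = n56744 := rfl
def n56745 : Q := act 1 n27264
theorem D56745 : act 1 n27264 = n56745 := rfl
theorem F89725 : act 5 n56745 = n56745 := d18_9 (iv1 D56745) (iv4 F89023) F89024 F43864 F21622 (iv4 F43864) (iv0 F89024) F89023 D56745
theorem F89726 : act 3 n37389 = n56745 := d20_9 (iv4 F89023) F89024 F43864 F21621 (iv1 F9624) D8338 D17725 D36764 (iv4 F89229) (iv1 D56745)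
theorem F89727 : act 5 n37389 = n37389 := d6_0 F89726 F89725 (iv3 F89726)
theorem E8363 : n36759 = n17723 := (c18_10 (iv1 D17723) D17725 D36764 (iv4 F89229) F89727 F89229 (iv0 D36764) (iv4 D17725) D17723 D36759)
theorem F89728 : act 5 n17723 = n17723 := (sb E8363 (iv5 D36759))
theorem F89730 : act 5 n36757 = n36757 := d6_2 F89728 D36757 (iv3 D36757)
theorem F89731 : act 5 n36751 = n36751 := d13_3 (iv7 F57653) F89728 F57653
theorem F89732 : act 5 n55814 = n36379 := d21_6 F89728 (iv1 D17723) D17726 (iv6 F28833) D26930 D55814 (iv1 F88956) F89214 (iv6 D56376) (iv1 F43874)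
theorem E8364 : n36754 = n17722 := (c2_3 F89731 (iv2 D36751) D36754 D36751)
theorem F89733 : act 5 n17722 = n17722 := (sb E8364 (iv5 D36754))
theorem F89735 : act 5 n37404 = n37404 := d18_4 (iv1 F43872) D56374 (iv1 F89205) (iv4 F58315) F58315 F89205 (iv4 D56374) F43872 F89733
theorem E8365 : n37406 = n17955 := (c6_3 F89735 (iv3 D37404) D37406 D37404)
theorem F89736 : act 5 n17955 = n17955 := (sb E8365 (iv5 D37406))
def n56746 : Q := act 2 n27264
theorem D56746 : act 2 n27264 = n56746 := rfl
def n56747 : Q := act 5 n27264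
theorem D56747 : act 5 n27264 = n56747 := rfl
theorem F89741 : act 3 n56747 = n27266 := d6_1 D56747 (iv5 D27266) D27264
def n56748 : Q := act 6 n27264
theorem D56748 : act 6 n27264 = n56748 := rfl
theorem F89742 : act 3 n56748 = n27267 := d7_1 D56748 (iv6 D27267) D27264
def n56749 : Q := act 7 n27264
theorem D56749 : act 7 n27264 = n56749 := rfl
theorem F89743 : act 3 n56749 = n27268 := d8_1 D56749 (iv7 D27268) D27264
def n56750 : Q := act 0 n27265
theorem D56750 : act 0 n27265 = n56750 := rfl
theorem F89744 : act 4 n56750 = n36757 := d20_2 D27265 D56750 (iv3 D36757) (iv1 D17723) (iv3 D8338) D8339 (iv1 F41732) F9279 (iv3 F9680) D13060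
def n56751 : Q := act 1 n27265
theorem D56751 : act 1 n27265 = n56751 := rfl
theorem F89745 : act 1 n56751 = n27270 := d15_1 D56751 (iv7 F89721) F89720
def n56752 : Q := act 3 n27265
theorem D56752 : act 3 n27265 = n56752 := rfl
def n56753 : Q := act 5 n27265
theorem D56753 : act 5 n27265 = n56753 := rfl
def n56754 : Q := act 6 n27265
theorem D56754 : act 6 n27265 = n56754 := rfl
theorem F89746 : act 4 n56754 = n27267 := d10_1 D56754 (iv6 D27267) D27265
def n56755 : Q := act 7 n27265
theorem D56755 : act 7 n27265 = n56755 := rfl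
theorem F89747 : act 2 n56755 = n27270 := d4_1 D56755 (iv7 F89721) F89720
theorem F89748 : act 4 n56755 = n27268 := d11_1 D56755 (iv7 D27268) D27265
theorem F89749 : act 1 n27270 = n56750 := d15_0 (iv0 D56750) D56755 F89747
def n56756 : Q := act 0 n27266
theorem D56756 : act 0 n27266 = n56756 := rfl
theorem F89750 : act 5 n56756 = n56664 := d21_2 D27266 D56756 (iv6 D56664) (iv1 D27238) (iv6 D13049) (iv5 D6210) (iv1 D2609) D2611 D6216 D13060
theorem F89751 : act 6 n37465 = n56756 := d12_0 F89750 (iv6 D56664) (iv5 F58354) (iv6 D37466) D37465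
theorem F89752 : act 0 n56756 = n27271 := d21_10 (iv5 D27271) (iv1 D13061) F9681 (iv6 D6216) D6213 D13053 F21768 D17989 D37465 F89751
def n56757 : Q := act 1 n27266
theorem D56757 : act 1 n27266 = n56757 := rfl
theorem F89753 : act 1 n56757 = n27271 := d15_1 D56757 (iv7 F89723) F89722
def n56759 : Q := act 6 n27266
theorem D56759 : act 6 n27266 = n56759 := rfl
theorem F89754 : act 0 n56759 = n56632 := d21_10 F89690 (iv1 D56714) (iv5 D27255) (iv6 D13056) (iv1 D6214) D6216 F9681 D13060 D27266 D56759
def n56760 : Q := act 7 n27266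
theorem D56760 : act 7 n27266 = n56760 := rfl
theorem F89755 : act 2 n56760 = n27271 := d4_1 D56760 (iv7 F89723) F89722
def n56761 : Q := act 0 n27267
theorem D56761 : act 0 n27267 = n56761 := rfl
def n56762 : Q := act 1 n27267
theorem D56762 : act 1 n27267 = n56762 := rfl
theorem F89757 : act 6 n37577 = n56762 := d21_3 F21753 D18026 D37577 (iv1 D56762) (iv6 D27267) D27266 D56756 F89750 (iv6 D56664) (iv1 D27238)
def n56763 : Q := act 7 n27267
theorem D56763 : act 7 n27267 = n56763 := rfl
def n56764 : Q := act 6 n27268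
theorem D56764 : act 6 n27268 = n56764 := rfl
theorem F89758 : act 2 n56764 = n27272 := d3_1 D56764 (iv6 D27272) (iv2 F44113)
def n56765 : Q := act 0 n27269
theorem D56765 : act 0 n27269 = n56765 := rfl
theorem F89759 : act 4 n56765 = n56398 := d20_0 (iv1 F89249) (iv4 D36723) (iv3 F43870) (iv1 F43874) D36757 (iv4 F89744) (iv1 F89749) (iv4 D27270) D27269 D56765
theorem F89761 : act 3 n56765 = n37368 := d20_3 D27151 D56398 (iv4 F89759) (iv1 D37368) (iv3 D17940) D17941 D37373 F89227 (iv3 D56393) (iv1 D27149)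
def n56766 : Q := act 1 n27269
theorem D56766 : act 1 n27269 = n56766 := rfl
def n56767 : Q := act 2 n27269
theorem D56767 : act 2 n27269 = n56767 := rfl
def n56768 : Q := act 4 n27269
theorem D56768 : act 4 n27269 = n56768 := rfl
theorem F89762 : act 0 n36715 = n56768 := d20_1 D36715 (iv4 D56768) (iv3 D27269) (iv1 D13061) F9680 (iv4 F9279) F41731 (iv4 D8334) D8333 D17702
def n56769 : Q := act 5 n27269
theorem D56769 : act 5 n27269 = n56769 := rfl
theorem F89763 : act 3 n56769 = n27271 := d6_1 D56769 (iv5 D27271) D27269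
def n56770 : Q := act 6 n27269
theorem D56770 : act 6 n27269 = n56770 := rfl
theorem F89764 : act 3 n56770 = n27272 := d7_1 D56770 (iv6 D27272) D27269
def n56771 : Q := act 3 n27270
theorem D56771 : act 3 n27270 = n56771 := rfl
def n56772 : Q := act 5 n27270
theorem D56772 : act 5 n27270 = n56772 := rfl
def n56773 : Q := act 6 n27270
theorem D56773 : act 6 n27270 = n56773 := rfl
theorem F89765 : act 4 n56773 = n27272 := d10_1 D56773 (iv6 D27272) D27270
def n56774 : Q := act 4 n27271
theorem D56774 : act 4 n27271 = n56774 := rfl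
def n56775 : Q := act 0 n27272
theorem D56775 : act 0 n27272 = n56775 := rfl
theorem F89766 : act 5 n56775 = n37499 := d21_0 (iv1 F89573) F89569 F44043 (iv1 F44059) D56664 (iv5 F89750) F89752 (iv5 D27271) D27272 D56775
theorem F89767 : act 6 n56775 = n37635 := d21_3 D18000 D37499 (iv5 F89766) (iv1 D37635) (iv6 D18042) D18041 D37629 F58485 (iv6 D37498) (iv1 D17999)
def n56776 : Q := act 1 n27272
theorem D56776 : act 1 n27272 = n56776 := rfl
def n56777 : Q := act 5 n27272
theorem D56777 : act 5 n27272 = n56777 := rfl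
theorem F89768 : act 0 n56631 = n56777 := d21_1 D56631 (iv5 D56777) (iv6 D27272) (iv1 D13061) (iv6 D6216) (iv5 D2611) D2608 D6206 D13045 D27228
def n56778 : Q := act 7 n27272
theorem D56778 : act 7 n27272 = n56778 := rfl
def n56780 : Q := act 3 n27273
theorem D56780 : act 3 n27273 = n56780 := rfl
theorem F89770 : act 4 n56780 = n56399 := d20_6 (iv4 F9319) D12631 F30384 D13064 D27273 D56780 (iv1 D56399) (iv4 D27151) (iv3 D13005) (iv1 D6178)
theorem F89771 : act 5 n56780 = n56780 := d18_4 (iv1 F43888) D36723 (iv1 F89250) (iv4 F89770) F89770 F89250 (iv4 D36723) F43888 F89234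
theorem F89772 : act 5 n27273 = n27273 := d6_2 F89771 (iv3 D56780) D56780
def n56781 : Q := act 4 n27273
theorem D56781 : act 4 n27273 = n56781 := rfl
theorem F89775 : act 0 n56781 = n56353 := d20_1 D56781 (iv4 D56353) (iv3 D27136) (iv1 D12997) F9617 (iv4 F9319) D12631 F30384 D13064 D27273
def n56787 : Q := act 4 n27275
theorem D56787 : act 4 n27275 = n56787 := rfl
theorem F89779 : act 2 n56787 = n27276 := d1_1 D56787 (iv4 D27276) D27275
theorem F89780 : act 7 n56787 = n37437 := d11_2 (iv7 F44116) D56787 (iv4 D37437)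
theorem F89781 : act 0 n56787 = n37441 := d20_1 D56787 (iv4 F89200) (iv3 D56365) (iv1 F43869) (iv3 F43889) D56396 (iv1 F89238) (iv4 F58330) (iv3 D37429) (iv1 F44117)
theorem F89782 : act 5 n56365 = n56365 := d18_4 (iv1 F44117) D56787 F89781 (iv4 F89200) F89200 (iv0 F89781) (iv4 D56787) F44117 F58337
theorem E8367 : n56367 = n27140 := (c6_3 F89782 (iv3 D56365) D56367 D56365)
theorem F89783 : act 5 n27140 = n27140 := (sb E8367 (iv5 D56367))
theorem F89786 : act 5 n35686 = n56241 := d21_6 F89783 (iv1 F43869) D36762 (iv6 F57658) (iv1 F43430) D35686 (iv1 D56241) F43879 (iv6 D27145) D27140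
theorem F89789 : act 1 n56787 = n37440 := d15_0 (iv0 D37440) (iv7 F44120) (iv2 F89779)
def n56788 : Q := act 6 n27275
theorem D56788 : act 6 n27275 = n56788 := rfl
theorem F89790 : act 2 n56788 = n27277 := d3_1 D56788 (iv6 D27277) D27275
def n56789 : Q := act 0 n27276
theorem D56789 : act 0 n27276 = n56789 := rfl
theorem F89792 : act 1 n37437 = n56789 := d15_0 (iv0 D56789) F44120 (iv2 F58339)
def n56790 : Q := act 1 n27276
theorem D56790 : act 1 n27276 = n56790 := rfl
theorem F89793 : act 1 n56790 = n37437 := d15_1 D56790 (iv7 F89780) F89779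
theorem F89794 : act 4 n36752 = n56790 := d20_6 (iv4 F11711) (iv1 F41729) (iv4 D8339) D8338 D17722 D36752 (iv1 D56790) (iv4 D27276) (iv3 D13064) (iv1 F9686)
def n56791 : Q := act 5 n27276
theorem D56791 : act 5 n27276 = n56791 := rfl
theorem F89795 : act 7 n56791 = n37442 := d13_2 (iv7 F44120) D56791 (iv5 D37442)
def n56792 : Q := act 6 n27276
theorem D56792 : act 6 n27276 = n56792 := rfl
theorem F89796 : act 4 n56792 = n27277 := d10_1 D56792 (iv6 D27277) D27276
def n56793 : Q := act 0 n27277
theorem D56793 : act 0 n27277 = n56793 := rfl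
def n56794 : Q := act 1 n27277
theorem D56794 : act 1 n27277 = n56794 := rfl
def n56795 : Q := act 2 n27278
theorem D56795 : act 2 n27278 = n56795 := rfl
theorem F89797 : act 7 n27279 = n56795 := d15_2 (iv0 D27278) D27279 (iv2 D56795)
def n56796 : Q := act 3 n27278
theorem D56796 : act 3 n27278 = n56796 := rfl
theorem F89798 : act 4 n56796 = n56378 := d20_6 (iv4 F11754) (iv1 F21028) F30387 D13068 D27278 D56796 (iv1 D56378) (iv4 D27143) (iv3 D13000) (iv1 F9623)
theorem F89799 : act 5 n56796 = n56796 := d18_4 (iv1 F43869) D36761 (iv1 F89216) (iv4 F89798) F89798 F89216 (iv4 D36761) F43869 F89783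
theorem F89800 : act 5 n27278 = n27278 := d6_2 F89799 (iv3 D56796) D56796
theorem F89801 : act 5 n56795 = n56795 := d2_2 F89800 D56795 (iv2 D56795)
theorem F89802 : act 5 n27279 = n27279 := d13_3 F89797 F89801 (iv7 F89797)
def n56800 : Q := act 3 n27279
theorem D56800 : act 3 n27279 = n56800 := rfl
theorem F89806 : act 4 n56337 = n56800 := d20_2 D27132 D56337 (iv3 D56800) (iv1 D27279) (iv3 D13068) (iv4 F30387) (iv1 D12632) F9319 (iv3 F9617) D12996
theorem F89807 : act 4 n56350 = n37440 := d20_0 (iv1 F89789) (iv4 D56787) F44115 (iv1 F44126) D56800 (iv4 F89806) (iv1 F89105) (iv4 D27137) D27136 D56350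
theorem F89809 : act 3 n56350 = n36608 := d20_3 D17977 D37440 (iv4 F89807) (iv1 D36608) (iv3 D17653) D17654 D36614 F58332 (iv3 D37434) (iv1 D17975)
def n56803 : Q := act 4 n27280
theorem D56803 : act 4 n27280 = n56803 := rfl
theorem F89810 : act 2 n56803 = n27281 := d1_1 D56803 (iv4 D27281) D27280
theorem F89811 : act 7 n56803 = n37413 := d11_2 (iv7 F44124) D56803 (iv4 D37413)
theorem F89812 : act 0 n56803 = n37417 := d20_1 D56803 (iv4 F89225) (iv3 D56388) (iv1 F43888) (iv3 F43870) D56374 (iv1 F89205) (iv4 F58315) (iv3 D37404) (iv1 F44125)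
theorem F89813 : act 1 n56803 = n37416 := d15_0 (iv0 D37416) (iv7 F44128) (iv2 F89810)
def n56804 : Q := act 6 n27280
theorem D56804 : act 6 n27280 = n56804 := rfl
theorem F89814 : act 2 n56804 = n27282 := d3_1 D56804 (iv6 D27282) D27280
def n56805 : Q := act 0 n27281
theorem D56805 : act 0 n27281 = n56805 := rfl
theorem F89816 : act 1 n37413 = n56805 := d15_0 (iv0 D56805) F44128 (iv2 F58318)
theorem F89817 : act 4 n36630 = n56805 := d20_0 (iv1 F89816) (iv4 D37413) (iv3 F44115) (iv1 F44119) D37434 (iv4 F58332) (iv1 F57478) (iv4 D17659) D17658 D36630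
theorem F89819 : act 3 n36630 = n56332 := d20_3 D27281 D56805 (iv4 F89817) (iv1 D56332) (iv3 D27131) D27132 D56337 F89806 (iv3 D56800) (iv1 D27279)
def n56806 : Q := act 1 n27281
theorem D56806 : act 1 n27281 = n56806 := rfl
theorem F89820 : act 1 n56806 = n37413 := d15_1 D56806 (iv7 F89811) F89810
theorem F89821 : act 4 n36714 = n56806 := d20_6 (iv4 F9279) F41731 (iv4 D8334) D8333 D17702 D36714 (iv1 D56806) (iv4 D27281) (iv3 D13068) (iv1 D6218)
def n56807 : Q := act 5 n27281
theorem D56807 : act 5 n27281 = n56807 := rfl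
theorem F89822 : act 7 n56807 = n37418 := d13_2 (iv7 F44128) D56807 (iv5 D37418)
def n56808 : Q := act 6 n27281
theorem D56808 : act 6 n27281 = n56808 := rfl
theorem F89823 : act 4 n56808 = n27282 := d10_1 D56808 (iv6 D27282) D27281
def n56809 : Q := act 0 n27282
theorem D56809 : act 0 n27282 = n56809 := rfl
def n56810 : Q := act 1 n27282
theorem D56810 : act 1 n27282 = n56810 := rfl
def n56812 : Q := act 3 n27283
theorem D56812 : act 3 n27283 = n56812 := rfl
theorem F89825 : act 4 n56812 = n56578 := d20_6 (iv4 F9300) D12601 (iv4 F42177) D13072 D27283 D56812 (iv1 D56578) (iv4 D27210) (iv3 D13033) (iv1 D6200)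
def n56813 : Q := act 4 n27283
theorem D56813 : act 4 n27283 = n56813 := rfl
theorem F89826 : act 0 n56813 = n56486 := d20_1 D56813 (iv4 D56486) (iv3 D27178) (iv1 D13018) F9649 (iv4 F9300) D12601 (iv4 F42177) D13072 D27283
def n56821 : Q := act 4 n27285
theorem D56821 : act 4 n27285 = n56821 := rfl
theorem F89828 : act 2 n56821 = n27286 := d1_1 D56821 (iv4 D27286) D27285
theorem F89829 : act 7 n56821 = n37739 := d11_2 (iv7 F44132) D56821 (iv4 D37739)
theorem F89830 : act 0 n56821 = n37743 := d20_1 D56821 (iv4 F89412) (iv3 D56535) (iv1 F43965) (iv3 F43991) D56574 (iv1 F89466) (iv4 F58594) (iv3 D37730) (iv1 F44133)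
theorem F89831 : act 1 n56821 = n37742 := d15_0 (iv0 D37742) (iv7 F44136) (iv2 F89828)
def n56822 : Q := act 5 n27285
theorem D56822 : act 5 n27285 = n56822 := rfl
theorem F89832 : act 2 n56822 = n27287 := d2_1 D56822 (iv5 D27287) D27285
theorem F89834 : act 7 n56822 = n37740 := d13_2 (iv7 F44132) D56822 (iv5 D37740)
theorem F89836 : act 1 n56822 = n37746 := d15_0 (iv0 D37746) (iv7 F44138) (iv2 F89832)
def n56823 : Q := act 6 n27285
theorem D56823 : act 6 n27285 = n56823 := rfl
theorem F89837 : act 2 n56823 = n27288 := d3_1 D56823 (iv6 D27288) D27285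
theorem F89838 : act 3 n56823 = n37711 := d7_1 D56823 (iv6 D37711) (iv3 F44131)
def n56824 : Q := act 0 n27286
theorem D56824 : act 0 n27286 = n56824 := rfl
theorem F89839 : act 1 n37739 = n56824 := d15_0 (iv0 D56824) F44136 (iv2 F58597)
def n56825 : Q := act 1 n27286
theorem D56825 : act 1 n27286 = n56825 := rfl
theorem F89840 : act 1 n56825 = n37739 := d15_1 D56825 (iv7 F89829) F89828
theorem F89841 : act 4 n37029 = n56825 := d20_6 (iv4 F11682) (iv1 F41804) (iv4 D8403) D8402 D17824 D37029 (iv1 D56825) (iv4 D27286) (iv3 D13072) (iv1 F9694)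
def n56826 : Q := act 5 n27286
theorem D56826 : act 5 n27286 = n56826 := rfl
theorem F89842 : act 7 n56826 = n37744 := d13_2 (iv7 F44136) D56826 (iv5 D37744)
def n56827 : Q := act 6 n27286
theorem D56827 : act 6 n27286 = n56827 := rfl
theorem F89843 : act 4 n56827 = n27288 := d10_1 D56827 (iv6 D27288) D27286
def n56828 : Q := act 0 n27287
theorem D56828 : act 0 n27287 = n56828 := rfl
theorem F89844 : act 1 n37740 = n56828 := d15_0 (iv0 D56828) F44138 (iv2 F58598)
def n56829 : Q := act 1 n27287
theorem D56829 : act 1 n27287 = n56829 := rfl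
theorem F89845 : act 1 n56829 = n37740 := d15_1 D56829 (iv7 F89834) F89832
def n56830 : Q := act 4 n27287
theorem D56830 : act 4 n27287 = n56830 := rfl
def n56831 : Q := act 6 n27287
theorem D56831 : act 6 n27287 = n56831 := rfl
theorem F89848 : act 7 n56831 = n37761 := d14_2 (iv7 F44138) D56831 (iv6 D37761) (iv7 F44161) F44160
def n56832 : Q := act 0 n27288
theorem D56832 : act 0 n27288 = n56832 := rfl
def n56833 : Q := act 1 n27288
theorem D56833 : act 1 n27288 = n56833 := rfl
def n56834 : Q := act 3 n27289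
theorem D56834 : act 3 n27289 = n56834 := rfl
theorem F89849 : act 6 n56834 = n37181 := d7_2 (iv6 F44762) D56834 (iv3 D37181)
theorem F89850 : act 7 n56834 = n37722 := d8_2 (iv7 F44690) D56834 (iv3 D37722)
def n56838 : Q := act 3 n27292
theorem D56838 : act 3 n27292 = n56838 := rfl
theorem F89856 : act 4 n56838 = n56548 := d20_6 (iv4 F11732) (iv1 F20981) F42172 D13077 D27292 D56838 (iv1 D56548) (iv4 D27199) (iv3 D13028) (iv1 F9659)
def n56843 : Q := act 3 n27293
theorem D56843 : act 3 n27293 = n56843 := rfl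
theorem F89858 : act 4 n56468 = n56843 := d20_2 D27174 D56468 (iv3 D56843) (iv1 D27293) (iv3 D13077) (iv4 F42172) (iv1 D12602) F9300 (iv3 F9649) D13017
theorem F89859 : act 4 n56483 = n37742 := d20_0 (iv1 F89831) (iv4 D56821) F44131 (iv1 F44149) D56843 (iv4 F89858) (iv1 F89339) (iv4 D27179) D27178 D56483
theorem F89860 : act 3 n56483 = n36908 := d20_3 D18097 D37742 (iv4 F89859) (iv1 D36908) (iv3 D17773) D17774 D36914 F58596 (iv3 D37735) (iv1 D18095)
def n56847 : Q := act 4 n27294
theorem D56847 : act 4 n27294 = n56847 := rfl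
theorem F89861 : act 2 n56847 = n27295 := d1_1 D56847 (iv4 D27295) D27294
theorem F89862 : act 7 n56847 = n37709 := d11_2 (iv7 F44147) D56847 (iv4 D37709)
def n56848 : Q := act 5 n27294
theorem D56848 : act 5 n27294 = n56848 := rfl
theorem F89865 : act 2 n56848 = n27296 := d2_1 D56848 (iv5 D27296) D27294
theorem F89867 : act 7 n56848 = n37710 := d13_2 (iv7 F44147) D56848 (iv5 D37710)
theorem F89868 : act 1 n37717 = n56848 := d15_1 D37717 F89867 F58572
theorem F89869 : act 6 n37754 = n56848 := d3_0 F89865 (iv6 F44154) D37754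
theorem F89870 : act 1 n56848 = n37716 := d15_0 (iv0 D37716) (iv7 F44153) (iv2 F89865)
def n56850 : Q := act 0 n27295
theorem D56850 : act 0 n27295 = n56850 := rfl
theorem F89874 : act 1 n37709 = n56850 := d15_0 (iv0 D56850) F44151 (iv2 F58571)
theorem F89875 : act 4 n36930 = n56850 := d20_0 (iv1 F89874) (iv4 D37709) (iv3 F44131) (iv1 F44135) D37735 (iv4 F58596) (iv1 F57849) (iv4 D17779) D17778 D36930
theorem F89876 : act 3 n36930 = n56463 := d20_3 D27295 D56850 (iv4 F89875) (iv1 D56463) (iv3 D27173) D27174 D56468 F89858 (iv3 D56843) (iv1 D27293)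
def n56851 : Q := act 1 n27295
theorem D56851 : act 1 n27295 = n56851 := rfl
theorem F89877 : act 1 n56851 = n37709 := d15_1 D56851 (iv7 F89862) F89861
theorem F89878 : act 4 n36984 = n56851 := d20_6 (iv4 F9266) F41802 (iv4 D8398) D8397 D17802 D36984 (iv1 D56851) (iv4 D27295) (iv3 D13077) (iv1 D6221)
def n56852 : Q := act 5 n27295
theorem D56852 : act 5 n27295 = n56852 := rfl
theorem F89879 : act 7 n56852 = n37714 := d13_2 (iv7 F44151) D56852 (iv5 D37714)
def n56853 : Q := act 6 n27295
theorem D56853 : act 6 n27295 = n56853 := rfl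
theorem F89880 : act 4 n56853 = n27297 := d10_1 D56853 (iv6 D27297) D27295
def n56854 : Q := act 0 n27296
theorem D56854 : act 0 n27296 = n56854 := rfl
theorem F89881 : act 1 n37710 = n56854 := d15_0 (iv0 D56854) F44153 (iv2 F58572)
def n56855 : Q := act 1 n27296
theorem D56855 : act 1 n27296 = n56855 := rfl
theorem F89882 : act 1 n56855 = n37710 := d15_1 D56855 (iv7 F89867) F89865
def n56856 : Q := act 4 n27296
theorem D56856 : act 4 n27296 = n56856 := rfl
theorem F89883 : act 6 n56856 = n37755 := d10_2 F44154 D56856 (iv4 D37755)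
def n56857 : Q := act 0 n27297
theorem D56857 : act 0 n27297 = n56857 := rfl
def n56858 : Q := act 1 n27297
theorem D56858 : act 1 n27297 = n56858 := rfl
def n56859 : Q := act 3 n27298
theorem D56859 : act 3 n27298 = n56859 := rfl
def n56860 : Q := act 0 n27299
theorem D56860 : act 0 n27299 = n56860 := rfl
theorem F89887 : act 1 n37759 = n56860 := d15_0 (iv0 D56860) F44161 D37759
def n56862 : Q := act 2 n27299
theorem D56862 : act 2 n27299 = n56862 := rfl
theorem F89889 : act 6 n56862 = n37740 := d3_2 (iv6 F44160) D56862 F58598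
theorem F89890 : act 7 n56862 = n37759 := d4_2 (iv7 F44161) D56862 (iv2 D37759)
theorem F89891 : act 1 n56862 = n37757 := d15_0 (iv0 D37757) (iv7 F44161) D56862
theorem F89893 : act 1 n37758 = n56862 := d15_1 D37758 F89890 (iv2 D37759)
def n56863 : Q := act 4 n27299
theorem D56863 : act 4 n27299 = n56863 := rfl
def n56864 : Q := act 0 n27300
theorem D56864 : act 0 n27300 = n56864 := rfl
theorem F89896 : act 1 n37754 = n56864 := d15_0 (iv0 D56864) F44163 D37754
def n56865 : Q := act 1 n27300
theorem D56865 : act 1 n27300 = n56865 := rfl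
def n56866 : Q := act 2 n27300
theorem D56866 : act 2 n27300 = n56866 := rfl
theorem F89899 : act 7 n56866 = n37754 := d4_2 (iv7 F44163) D56866 (iv2 D37754)
theorem F89901 : act 1 n56865 = n37754 := d15_1 D56865 (iv7 F89899) (iv2 D56866)
def n56867 : Q := act 4 n27300
theorem D56867 : act 4 n27300 = n56867 := rfl
def n56868 : Q := act 6 n27300
theorem D56868 : act 6 n27300 = n56868 := rfl
theorem F89904 : act 3 n56868 = n27301 := d7_1 D56868 (iv6 D27301) D27300
theorem F89905 : act 5 n56868 = n39211 := d12_1 D56868 (iv6 D39211) (iv5 D18594) D18595 (iv5 F44162)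
theorem F89906 : act 7 n56868 = n37719 := d14_2 (iv7 F44163) D56868 (iv6 D37719) (iv7 F44153) (iv6 F44154)
def n56874 : Q := act 4 n27303
theorem D56874 : act 4 n27303 = n56874 := rfl
theorem F89913 : act 2 n56874 = n37774 := d1_1 D56874 (iv4 D37774) (iv2 F44168)
theorem F89914 : act 5 n56874 = n29292 := d9_2 D27303 D56874 F46933 F23178 F11682 (iv5 F13294) (iv4 F29280) (iv5 F58628) F58627 (iv5 D29760) F23623 F10960 F9266 D6222 D13083
theorem F89915 : act 6 n56874 = n37774 := d10_2 (iv6 F44169) D56874 (iv4 D37774)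
theorem F89916 : act 7 n29291 = n56874 := d14_0 F89915 (iv7 F58626) F47858 (iv7 F47356) F47355
def n56875 : Q := act 7 n27303
theorem D56875 : act 7 n27303 = n56875 := rfl
theorem F89918 : act 4 n56875 = n29291 := d11_1 D56875 F89916 (iv4 D56874)
theorem F89919 : act 5 n56875 = n27304 := d13_1 D56875 (iv7 D27304) D27303
def n56877 : Q := act 3 n27305
theorem D56877 : act 3 n27305 = n56877 := rfl
theorem F89923 : act 4 n56877 = n36978 := d20_6 F13219 F5774 D6224 D13085 D27305 D56877 (iv1 D36978) F28927 (iv3 D8424) D8422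
def n56878 : Q := act 4 n27305
theorem D56878 : act 4 n27305 = n56878 := rfl
def n56879 : Q := act 5 n27305
theorem D56879 : act 5 n27305 = n56879 := rfl
def n56882 : Q := act 3 n27306
theorem D56882 : act 3 n27306 = n56882 := rfl
def n56883 : Q := act 4 n27306
theorem D56883 : act 4 n27306 = n56883 := rfl
def n56886 : Q := act 0 n27308
theorem D56886 : act 0 n27308 = n56886 := rfl
theorem F89925 : act 1 n27431 = n56886 := d15_0 (iv0 D56886) F44182 D27431
def n56887 : Q := act 1 n27308
theorem D56887 : act 1 n27308 = n56887 := rfl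
theorem F89926 : act 1 n56887 = n27431 := d15_1 D56887 F44347 (iv2 F44180)
def n56888 : Q := act 6 n27308
theorem D56888 : act 6 n27308 = n56888 := rfl
theorem F89927 : act 2 n56888 = n33569 := d3_1 D56888 (iv6 D33569) (iv2 F44180)
theorem F89928 : act 3 n56888 = n27309 := d7_1 D56888 (iv6 D27309) D27308
theorem F89929 : act 4 n56888 = n37788 := d10_1 D56888 (iv6 D37788) (iv4 F44181)
def n56889 : Q := act 0 n27309
theorem D56889 : act 0 n27309 = n56889 := rfl
def n56890 : Q := act 1 n27309
theorem D56890 : act 1 n27309 = n56890 := rfl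
theorem F89930 : act 1 n56890 = n27579 := d15_1 D56890 F44477 (iv2 F44183)
def n56891 : Q := act 5 n27309
theorem D56891 : act 5 n27309 = n56891 := rfl
theorem F89931 : act 2 n56891 = n27582 := d2_1 D56891 (iv5 D27582) (iv2 F44183)
def n56892 : Q := act 7 n27309
theorem D56892 : act 7 n27309 = n56892 := rfl
theorem F89932 : act 2 n56892 = n27579 := d4_1 D56892 F44477 (iv2 F44183)
theorem F89933 : act 4 n56892 = n27313 := d11_1 D56892 (iv7 D27313) (iv4 F44184)
theorem F89934 : act 6 n56892 = n27438 := d14_1 D56892 (iv7 D27438) (iv6 D13134) (iv7 F21809) D27309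
theorem F89935 : act 1 n27579 = n56889 := d15_0 (iv0 D56889) D56892 F89932
theorem F89936 : act 1 n27581 = n56892 := d15_1 D27581 (iv7 D56892) F44183
theorem F89937 : act 4 n35615 = n56889 := d20_6 F43124 (iv1 D6495) (iv4 F5673) (iv3 F12874) D17250 D35615 (iv1 F89935) F44476 F21971 (iv1 F9817)
theorem F89938 : act 1 n56892 = n27580 := d15_0 (iv0 D27580) (iv7 F44477) (iv2 F89932)
def n56894 : Q := act 3 n27310
theorem D56894 : act 3 n27310 = n56894 := rfl
def n56895 : Q := act 4 n27310
theorem D56895 : act 4 n27310 = n56895 := rfl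
def n56896 : Q := act 5 n27310
theorem D56896 : act 5 n27310 = n56896 := rfl
def n56897 : Q := act 6 n27310
theorem D56897 : act 6 n27310 = n56897 := rfl
theorem F89940 : act 5 n56897 = n35132 := d21_6 (iv5 D2619) D2615 D6225 D13087 D27310 D56897 (iv1 D35132) (iv5 D17055) (iv6 D7979) F14021
def n56899 : Q := act 3 n27311
theorem D56899 : act 3 n27311 = n56899 := rfl
theorem F89942 : act 4 n56899 = n40167 := d20_6 (iv4 F41667) (iv1 F9360) (iv4 F9815) (iv3 F21971) (iv1 F44185) D56899 (iv1 D40167) F30302 F13859 D8916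
def n56900 : Q := act 4 n27311
theorem D56900 : act 4 n27311 = n56900 := rfl
def n56901 : Q := act 5 n27311
theorem D56901 : act 5 n27311 = n56901 := rfl
theorem F89943 : act 6 n35867 = n56901 := d21_5 (iv5 D17047) F21439 D8134 D17368 D35867 (iv5 D56901) (iv1 D27311) D27312 F44188 F27963
def n56902 : Q := act 6 n27311
theorem D56902 : act 6 n27311 = n56902 := rfl
def n56903 : Q := act 0 n27312
theorem D56903 : act 0 n27312 = n56903 := rfl
def n56904 : Q := act 4 n27312
theorem D56904 : act 4 n27312 = n56904 := rfl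
theorem F89944 : act 2 n56904 = n27637 := d1_1 D56904 (iv4 D27637) (iv2 F44186)
theorem F89945 : act 6 n56904 = n27314 := d10_2 (iv6 F44188) D56904 (iv4 D27314)
def n56905 : Q := act 7 n27312
theorem D56905 : act 7 n27312 = n56905 := rfl
theorem F89946 : act 2 n56905 = n27624 := d4_1 D56905 F44552 (iv2 F44186)
theorem F89947 : act 3 n56905 = n37805 := d8_1 D56905 (iv7 D37805) (iv3 F44187)
theorem F89948 : act 5 n56905 = n27313 := d13_1 D56905 (iv7 D27313) D27312
theorem F89949 : act 1 n27624 = n56903 := d15_0 (iv0 D56903) D56905 F89946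
theorem F89950 : act 1 n27636 = n56905 := d15_1 D27636 (iv7 D56905) F44186
theorem F89951 : act 1 n56905 = n27635 := d15_0 (iv0 D27635) (iv7 F44552) (iv2 F89946)
def n56906 : Q := act 3 n27314
theorem D56906 : act 3 n27314 = n56906 := rfl
theorem F89952 : act 4 n56906 = n37806 := d5_2 D27314 D56906 (iv3 D37806) (iv4 D18128) (iv3 F21815)
def n56907 : Q := act 5 n27314
theorem D56907 : act 5 n27314 = n56907 := rfl
theorem F89953 : act 2 n56907 = n27650 := d2_1 D56907 (iv5 D27650) (iv2 F44195)
theorem F89954 : act 4 n56907 = n35143 := d16_2 D27314 D56907 (iv5 D35143) (iv4 D17060) (iv5 D7982) F5646 D7982 F12751 (iv2 F21814)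
def n56908 : Q := act 0 n27315
theorem D56908 : act 0 n27315 = n56908 := rfl
def n56909 : Q := act 1 n27315
theorem D56909 : act 1 n27315 = n56909 := rfl
theorem F89955 : act 1 n56909 = n27330 := d15_1 D56909 (iv7 D27330) (iv2 F44196)
def n56910 : Q := act 7 n27315
theorem D56910 : act 7 n27315 = n56910 := rfl
theorem F89956 : act 2 n56910 = n27330 := d4_1 D56910 (iv7 D27330) (iv2 F44196)
theorem F89957 : act 3 n56910 = n35202 := d8_1 D56910 (iv7 D35202) (iv3 F44197)
theorem F89958 : act 4 n56910 = n55441 := d11_1 D56910 (iv7 D55441) (iv4 F44198)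
theorem F89960 : act 6 n56910 = n27375 := d14_1 D56910 (iv7 D27375) (iv6 D13113) (iv7 F21818) D27315
theorem F89961 : act 1 n27330 = n56908 := d15_0 (iv0 D56908) D56910 F89956
theorem F89962 : act 1 n27329 = n56910 := d15_1 D27329 (iv7 D56910) F44196
theorem F89963 : act 1 n56910 = n27328 := d15_0 (iv0 D27328) D27330 (iv2 F89956)
def n56911 : Q := act 0 n27316
theorem D56911 : act 0 n27316 = n56911 := rfl
def n56912 : Q := act 1 n27316
theorem D56912 : act 1 n27316 = n56912 := rfl
theorem F89964 : act 1 n56912 = n37295 := d15_1 D56912 (iv7 D37295) (iv2 F44200)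
def n56913 : Q := act 5 n27316
theorem D56913 : act 5 n27316 = n56913 := rfl
theorem F89965 : act 2 n56913 = n37294 := d2_1 D56913 (iv5 D37294) (iv2 F44200)
theorem F89966 : act 3 n56913 = n36244 := d6_1 D56913 F56963 (iv3 F44201)
theorem F89967 : act 6 n56913 = n36242 := d12_2 D27316 D56913 (iv5 D36242) F28492 (iv5 F21823)
def n56914 : Q := act 7 n27316
theorem D56914 : act 7 n27316 = n56914 := rfl
theorem F89968 : act 2 n56914 = n37295 := d4_1 D56914 (iv7 D37295) (iv2 F44200)
theorem F89969 : act 3 n56914 = n37969 := d8_1 D56914 (iv7 D37969) (iv3 F44201)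
theorem F89971 : act 1 n37295 = n56911 := d15_0 (iv0 D56911) D56914 F89968
theorem F89972 : act 1 n37293 = n56914 := d15_1 D37293 (iv7 D56914) F44200
theorem F89973 : act 1 n56914 = n37292 := d15_0 (iv0 D37292) D37295 (iv2 F89968)
def n56915 : Q := act 0 n27317
theorem D56915 : act 0 n27317 = n56915 := rfl
theorem F89974 : act 5 n56915 = n34987 := d17_1 D56915 (iv1 F55428) D35009 F55552 (iv5 F55420) F55422 (iv5 F44240) (iv0 D27339) (iv4 F44202)
theorem F89975 : act 1 n40720 = n56915 := d15_0 (iv0 D56915) F44204 D40720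
theorem F89976 : act 2 n40719 = n56915 := d2_3 F89974 (iv2 F55429) (iv5 F61834)
theorem F89977 : act 7 n40718 = n56915 := d13_0 F89974 (iv7 F55430) (iv5 F61832)
def n56916 : Q := act 1 n27317
theorem D56916 : act 1 n27317 = n56916 := rfl
theorem F89978 : act 1 n56916 = n40720 := d15_1 D56916 F61837 F52202
theorem F89979 : act 7 n56916 = n40719 := d15_2 (iv0 D56915) D56916 F89976
theorem F89980 : act 5 n56916 = n34988 := d17_7 F27840 (iv5 D5993) D5989 D12609 D26421 (iv5 F44203) D56916 F55431 (iv4 D16993)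
theorem F89981 : act 2 n40718 = n56916 := d2_3 F89980 (iv2 F55434) (iv5 F61832)
def n56917 : Q := act 6 n27317
theorem D56917 : act 6 n27317 = n56917 := rfl
theorem F89982 : act 3 n56917 = n27318 := d7_1 D56917 (iv6 D27318) D27317
theorem F89983 : act 4 n56917 = n27343 := d10_1 D56917 (iv6 D27343) (iv4 F44202)
def n56918 : Q := act 0 n27318
theorem D56918 : act 0 n27318 = n56918 := rfl
def n56919 : Q := act 1 n27318
theorem D56919 : act 1 n27318 = n56919 := rfl
def n56920 : Q := act 5 n27318
theorem D56920 : act 5 n27318 = n56920 := rfl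
theorem F89985 : act 2 n56920 = n40574 := d2_1 D56920 (iv5 D40574) (iv2 F44205)
def n56921 : Q := act 7 n27318
theorem D56921 : act 7 n27318 = n56921 := rfl
theorem F89986 : act 2 n56921 = n40575 := d4_1 D56921 (iv7 D40575) (iv2 F44205)
theorem F89987 : act 4 n56921 = n27321 := d11_1 D56921 (iv7 D27321) (iv4 F44206)
theorem F89988 : act 6 n56921 = n40725 := d14_1 D56921 (iv7 D40725) (iv6 D19215) (iv7 F21827) D27318
theorem F89989 : act 1 n40575 = n56918 := d15_0 (iv0 D56918) D56921 F89986
def n56922 : Q := act 2 n27319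
theorem D56922 : act 2 n27319 = n56922 := rfl
theorem F89992 : act 7 n27320 = n56922 := d15_2 (iv0 D27319) D27320 (iv2 D56922)
def n56923 : Q := act 3 n27319
theorem D56923 : act 3 n27319 = n56923 := rfl
def n56924 : Q := act 4 n27319
theorem D56924 : act 4 n27319 = n56924 := rfl
def n56925 : Q := act 5 n27319
theorem D56925 : act 5 n27319 = n56925 := rfl
def n56926 : Q := act 6 n27319
theorem D56926 : act 6 n27319 = n56926 := rfl
def n56928 : Q := act 3 n27320
theorem D56928 : act 3 n27320 = n56928 := rfl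
def n56929 : Q := act 4 n27320
theorem D56929 : act 4 n27320 = n56929 := rfl
def n56930 : Q := act 5 n27320
theorem D56930 : act 5 n27320 = n56930 := rfl
theorem F89994 : act 6 n40297 = n56930 := d21_5 F16381 F12246 D8921 D19049 D40297 (iv5 D56930) (iv1 D27320) F21831 (iv6 D13092) F16383
def n56931 : Q := act 6 n27320
theorem D56931 : act 6 n27320 = n56931 := rfl
def n56932 : Q := act 3 n27322
theorem D56932 : act 3 n27322 = n56932 := rfl
theorem F89995 : act 4 n56932 = n27657 := d5_2 D27322 D56932 (iv3 D27657) F21993 (iv3 F21833)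
theorem F89996 : act 5 n56932 = n35046 := d6_2 F87655 D56932 F87657
theorem F89997 : act 7 n56932 = n27455 := d8_2 (iv7 F44216) D56932 (iv3 D27455)
theorem F89998 : act 0 n56932 = n27766 := d20_4 (iv4 F21243) (iv1 F21836) D27322 D56932 (iv3 D27766) (iv4 D13255) (iv1 D6293) (iv4 F9755) (iv3 D6265) D6263
theorem F89999 : act 2 n33629 = n56932 := d4_3 F89997 (iv2 F44375) F52918
theorem F90000 : act 1 n56932 = n33630 := d15_0 F59414 F52918 F89999
def n56933 : Q := act 6 n27322
theorem D56933 : act 6 n27322 = n56933 := rfl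
theorem F90001 : act 2 n56933 = n27454 := d3_1 D56933 (iv6 D27454) (iv2 F44215)
theorem F90002 : act 4 n56933 = n27323 := d10_1 D56933 (iv6 D27323) D27322
def n56934 : Q := act 0 n27323
theorem D56934 : act 0 n27323 = n56934 := rfl
def n56935 : Q := act 1 n27323
theorem D56935 : act 1 n27323 = n56935 := rfl
theorem F90003 : act 1 n56935 = n56047 := d15_1 D56935 (iv7 D56047) (iv2 F44219)
def n56936 : Q := act 5 n27323
theorem D56936 : act 5 n27323 = n56936 := rfl
theorem F90004 : act 2 n56936 = n35572 := d2_1 D56936 F56254 (iv2 F44219)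
theorem F90005 : act 3 n56936 = n56622 := d6_1 D56936 (iv5 D56622) (iv3 F44220)
theorem F90006 : act 6 n56936 = n27324 := d12_2 D27323 D56936 (iv5 D27324) (iv6 D13094) D13093
def n56937 : Q := act 7 n27323
theorem D56937 : act 7 n27323 = n56937 := rfl
theorem F90007 : act 2 n56937 = n56047 := d4_1 D56937 (iv7 D56047) (iv2 F44219)
theorem F90008 : act 3 n56937 = n56623 := d8_1 D56937 (iv7 D56623) (iv3 F44220)
theorem F90009 : act 1 n56047 = n56934 := d15_0 (iv0 D56934) D56937 F90007
theorem F90010 : act 1 n56046 = n56937 := d15_1 D56046 (iv7 D56937) F44219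
theorem F90011 : act 1 n56937 = n56045 := d15_0 (iv0 D56045) D56047 (iv2 F90007)
def n56938 : Q := act 0 n27325
theorem D56938 : act 0 n27325 = n56938 := rfl
def n56939 : Q := act 1 n27325
theorem D56939 : act 1 n27325 = n56939 := rfl
theorem F90012 : act 1 n56939 = n35349 := d15_1 D56939 (iv7 D35349) (iv2 F44223)
def n56940 : Q := act 7 n27325
theorem D56940 : act 7 n27325 = n56940 := rfl
theorem F90013 : act 2 n56940 = n35349 := d4_1 D56940 (iv7 D35349) (iv2 F44223)
theorem F90014 : act 1 n35349 = n56938 := d15_0 (iv0 D56938) D56940 F90013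
theorem F90015 : act 1 n35348 = n56940 := d15_1 D35348 (iv7 D56940) F44223
theorem F90016 : act 1 n56940 = n35347 := d15_0 (iv0 D35347) D35349 (iv2 F90013)
def n56941 : Q := act 0 n27326
theorem D56941 : act 0 n27326 = n56941 := rfl
theorem F90017 : act 1 n55425 = n56941 := d15_0 (iv0 D56941) F44224 D55425
def n56942 : Q := act 1 n27326
theorem D56942 : act 1 n27326 = n56942 := rfl
def n56943 : Q := act 2 n27326
theorem D56943 : act 2 n27326 = n56943 := rfl
theorem F90018 : act 3 n56943 = n55435 := d0_2 D27326 D56943 (iv2 D55435) (iv3 D26776) (iv2 F21846)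
theorem F90019 : act 7 n56943 = n55425 := d4_2 (iv7 F44224) D56943 (iv2 D55425)
theorem F90020 : act 1 n56943 = n55423 := d15_0 (iv0 D55423) (iv7 F44224) D56943
theorem F90021 : act 1 n56942 = n55425 := d15_1 D56942 (iv7 F90019) (iv2 D56943)
theorem F90022 : act 1 n55424 = n56943 := d15_1 D55424 F90019 (iv2 D55425)
def n56944 : Q := act 6 n27326
theorem D56944 : act 6 n27326 = n56944 := rfl
theorem F90023 : act 3 n56944 = n27327 := d7_1 D56944 (iv6 D27327) D27326
def n56945 : Q := act 0 n27327
theorem D56945 : act 0 n27327 = n56945 := rfl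
def n56946 : Q := act 1 n27327
theorem D56946 : act 1 n27327 = n56946 := rfl
def n56947 : Q := act 5 n27327
theorem D56947 : act 5 n27327 = n56947 := rfl
theorem F90025 : act 2 n56947 = n55440 := d2_1 D56947 (iv5 D55440) (iv2 F44225)
def n56948 : Q := act 7 n27327
theorem D56948 : act 7 n27327 = n56948 := rfl
theorem F90026 : act 2 n56948 = n55441 := d4_1 D56948 (iv7 D55441) (iv2 F44225)
theorem F90027 : act 4 n56948 = n27330 := d11_1 D56948 (iv7 D27330) (iv4 F44226)
theorem F90028 : act 6 n56948 = n55432 := d14_1 D56948 (iv7 D55432) (iv6 D26775) (iv7 F21855) D27327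
theorem F90029 : act 1 n55441 = n56945 := d15_0 (iv0 D56945) D56948 F90026
theorem F90031 : act 1 n56948 = n55438 := d15_0 (iv0 D55438) D55441 (iv2 F90026)
def n56949 : Q := act 2 n27328
theorem D56949 : act 2 n27328 = n56949 := rfl
theorem F90032 : act 7 n27329 = n56949 := d15_2 (iv0 D27328) D27329 (iv2 D56949)
def n56950 : Q := act 3 n27328
theorem D56950 : act 3 n27328 = n56950 := rfl
def n56951 : Q := act 4 n27328
theorem D56951 : act 4 n27328 = n56951 := rfl
def n56952 : Q := act 5 n27328
theorem D56952 : act 5 n27328 = n56952 := rfl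
def n56953 : Q := act 6 n27328
theorem D56953 : act 6 n27328 = n56953 := rfl
def n56954 : Q := act 7 n27328
theorem D56954 : act 7 n27328 = n56954 := rfl
theorem F90033 : act 2 n56954 = n27329 := d4_1 D56954 F90032 (iv2 D56949)
def n56957 : Q := act 5 n27329
theorem D56957 : act 5 n27329 = n56957 := rfl
def n56959 : Q := act 6 n27330
theorem D56959 : act 6 n27330 = n56959 := rfl
theorem F90034 : act 2 n56959 = n27375 := d3_1 D56959 (iv6 F89960) F89956
theorem F90035 : act 3 n56959 = n40684 := d7_1 D56959 (iv6 F70526) F70524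
theorem F90036 : act 4 n56959 = n55432 := d10_1 D56959 (iv6 F90028) F90027
theorem F90037 : act 7 n56959 = n27331 := d14_2 D27330 D56959 (iv6 D27331) (iv7 D13098) D13097
theorem F90038 : act 1 n27373 = n56959 := d15_1 D27373 F90037 F44228
theorem F90039 : act 1 n56959 = n27372 := d15_0 (iv0 D27372) D27375 (iv2 F90034)
def n56960 : Q := act 0 n27331
theorem D56960 : act 0 n27331 = n56960 := rfl
theorem F90040 : act 1 n27375 = n56960 := d15_0 (iv0 D56960) (iv7 F90037) F90034
def n56961 : Q := act 1 n27331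
theorem D56961 : act 1 n27331 = n56961 := rfl
theorem F90041 : act 1 n56961 = n27375 := d15_1 D56961 (iv7 D27375) (iv2 F44228)
def n56962 : Q := act 5 n27331
theorem D56962 : act 5 n27331 = n56962 := rfl
theorem F90042 : act 2 n56962 = n27374 := d2_1 D56962 (iv5 D27374) (iv2 F44228)
theorem F90044 : act 6 n56962 = n27332 := d12_2 D27331 D56962 (iv5 D27332) (iv6 D13099) (iv5 F21852)
def n56963 : Q := act 0 n27333
theorem D56963 : act 0 n27333 = n56963 := rfl
theorem F90045 : act 4 n56963 = n47005 := d18_3 (iv1 D35354) (iv4 F44236) D56963 (iv5 D47005) (iv4 D22602) D22601 F54814 F54807 (iv5 F56066)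
def n56964 : Q := act 1 n27333
theorem D56964 : act 1 n27333 = n56964 := rfl
def n56965 : Q := act 5 n27333
theorem D56965 : act 5 n27333 = n56965 := rfl
theorem F90046 : act 3 n56965 = n27334 := d6_1 D56965 (iv5 D27334) D27333
theorem F90047 : act 4 n56965 = n46973 := d16_2 (iv4 F44236) D56965 (iv5 D46973) (iv4 D22590) D22591 F35131 F57398 F57395 F29531
def n56966 : Q := act 6 n27333
theorem D56966 : act 6 n27333 = n56966 := rfl
theorem F90048 : act 3 n56966 = n27335 := d7_1 D56966 (iv6 D27335) D27333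
theorem F90049 : act 4 n56966 = n35355 := d10_1 D56966 (iv6 D35355) (iv4 F44236)
def n56967 : Q := act 6 n27334
theorem D56967 : act 6 n27334 = n56967 := rfl
def n56968 : Q := act 0 n27335
theorem D56968 : act 0 n27335 = n56968 := rfl
def n56969 : Q := act 1 n27335
theorem D56969 : act 1 n27335 = n56969 := rfl
def n56970 : Q := act 5 n27335
theorem D56970 : act 5 n27335 = n56970 := rfl
def n56971 : Q := act 7 n27335
theorem D56971 : act 7 n27335 = n56971 := rfl
theorem F90050 : act 4 n56971 = n35349 := d11_1 D56971 (iv7 D35349) (iv4 F44237)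
def n56972 : Q := act 5 n27336
theorem D56972 : act 5 n27336 = n56972 := rfl
theorem F90051 : act 2 n56972 = n35032 := d2_1 D56972 (iv5 F73273) F73271
theorem F90052 : act 3 n56972 = n27337 := d6_1 D56972 (iv5 D27337) D27336
theorem F90053 : act 4 n56972 = n35020 := d9_1 D56972 (iv5 D35020) F35040 (iv5 D22483) F17222 D10689 D22512 D46865 F74081 (iv5 D35023) D35022 (iv5 F68076) F68075 (iv5 F34697) (iv4 F44238)
theorem F90054 : act 7 n56972 = n35037 := d13_2 F74051 D56972 (iv5 F74050)
def n56973 : Q := act 6 n27336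
theorem D56973 : act 6 n27336 = n56973 := rfl
theorem F90055 : act 3 n56973 = n27338 := d7_1 D56973 (iv6 D27338) D27336
theorem F90056 : act 4 n56973 = n37583 := d10_1 D56973 (iv6 D37583) (iv4 F44238)
def n56974 : Q := act 6 n27337
theorem D56974 : act 6 n27337 = n56974 := rfl
def n56975 : Q := act 0 n27338
theorem D56975 : act 0 n27338 = n56975 := rfl
def n56976 : Q := act 1 n27338
theorem D56976 : act 1 n27338 = n56976 := rfl
def n56977 : Q := act 5 n27338
theorem D56977 : act 5 n27338 = n56977 := rfl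
def n56978 : Q := act 7 n27338
theorem D56978 : act 7 n27338 = n56978 := rfl
def n56979 : Q := act 3 n27339
theorem D56979 : act 3 n27339 = n56979 := rfl
theorem F90057 : act 5 n56979 = n48721 := d6_2 (iv5 F44240) D56979 F76712
theorem F90058 : act 7 n56979 = n33442 := d8_2 F52283 D56979 (iv3 F52731)
theorem F90059 : act 0 n33447 = n56979 := d20_4 (iv4 D7751) F25746 (iv4 F25697) (iv3 F52735) (iv3 D56979) (iv4 F52230) (iv1 F77217) F77212 (iv3 D34365) (iv1 D16658)
theorem F90060 : act 1 n33444 = n56979 := d15_0 (iv0 F90059) (iv7 D33447) D33444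
theorem F90061 : act 2 n56979 = n33443 := d16_9 (iv4 F83483) (iv5 D52832) (iv4 D25644) (iv5 D12188) F8898 D12173 D25603 (iv5 F52730) (iv7 F90058)
def n56980 : Q := act 6 n27339
theorem D56980 : act 6 n27339 = n56980 := rfl
def n56981 : Q := act 3 n27340
theorem D56981 : act 3 n27340 = n56981 := rfl
theorem F90062 : act 4 n56981 = n56305 := d5_2 F44241 D56981 (iv3 D56305) (iv4 D27124) (iv3 F42308)
def n56982 : Q := act 6 n27340
theorem D56982 : act 6 n27340 = n56982 := rfl
theorem F90063 : act 4 n56982 = n54687 := d10_1 D56982 (iv6 D54687) F44241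
def n56983 : Q := act 6 n27341
theorem D56983 : act 6 n27341 = n56983 := rfl
theorem F90064 : act 2 n56983 = n27343 := d3_1 D56983 (iv6 D27343) D27341
def n56984 : Q := act 6 n27342
theorem D56984 : act 6 n27342 = n56984 := rfl
theorem F90065 : act 3 n56984 = n27346 := d7_1 D56984 (iv6 D27346) (iv3 F44242)
theorem F90066 : act 4 n56984 = n54641 := d10_1 D56984 (iv6 D54641) (iv4 F44243)
def n56985 : Q := act 0 n27343
theorem D56985 : act 0 n27343 = n56985 := rfl
def n56986 : Q := act 1 n27343
theorem D56986 : act 1 n27343 = n56986 := rfl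
def n56987 : Q := act 5 n27343
theorem D56987 : act 5 n27343 = n56987 := rfl
theorem F90067 : act 3 n56987 = n27349 := d6_1 D56987 (iv5 D27349) (iv3 F44244)
def n56988 : Q := act 7 n27343
theorem D56988 : act 7 n27343 = n56988 := rfl
theorem F90068 : act 3 n56988 = n27350 := d8_1 D56988 (iv7 D27350) (iv3 F44244)
def n56989 : Q := act 3 n27344
theorem D56989 : act 3 n27344 = n56989 := rfl
theorem F90069 : act 5 n56989 = n27453 := d6_2 (iv5 F44245) D56989 (iv3 D27453)
def n56990 : Q := act 6 n27344
theorem D56990 : act 6 n27344 = n56990 := rfl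
def n56991 : Q := act 3 n27345
theorem D56991 : act 3 n27345 = n56991 := rfl
theorem F90070 : act 4 n56991 = n35025 := d5_2 F87656 D56991 F78736 D35046 F87657
theorem F90071 : act 5 n56991 = n27455 := d6_2 (iv5 F44248) D56991 (iv3 D27455)
theorem F90072 : act 7 n56991 = n35046 := d8_2 F87654 D56991 F87657
theorem F90073 : act 0 n56991 = n33529 := d20_4 F43029 (iv1 F87653) F87656 D56991 F52847 (iv4 F46203) (iv1 F46204) (iv4 D16280) (iv3 F21961) (iv1 F43031)
theorem F90074 : act 2 n56991 = n35043 := d16_9 (iv4 D35043) F55581 D54091 F85370 F64156 (iv5 F44590) (iv4 F89995) F89996 (iv7 F90072)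
def n56992 : Q := act 6 n27345
theorem D56992 : act 6 n27345 = n56992 := rfl
def n56993 : Q := act 0 n27346
theorem D56993 : act 0 n27346 = n56993 := rfl
def n56994 : Q := act 1 n27346
theorem D56994 : act 1 n27346 = n56994 := rfl
def n56995 : Q := act 5 n27346
theorem D56995 : act 5 n27346 = n56995 := rfl
theorem F90075 : act 6 n56995 = n27349 := d12_2 D27346 D56995 (iv5 D27349) (iv6 D13104) D13103
def n56996 : Q := act 7 n27346
theorem D56996 : act 7 n27346 = n56996 := rfl
def n56997 : Q := act 2 n27347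
theorem D56997 : act 2 n27347 = n56997 := rfl
theorem F90076 : act 7 n27348 = n56997 := d15_2 (iv0 D27347) D27348 (iv2 D56997)
def n56998 : Q := act 3 n27347
theorem D56998 : act 3 n27347 = n56998 := rfl
def n56999 : Q := act 4 n27347
theorem D56999 : act 4 n27347 = n56999 := rfl
def n57000 : Q := act 5 n27347
theorem D57000 : act 5 n27347 = n57000 := rfl
def n57001 : Q := act 6 n27347
theorem D57001 : act 6 n27347 = n57001 := rfl
def n57002 : Q := act 7 n27347
theorem D57002 : act 7 n27347 = n57002 := rfl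
theorem F90077 : act 2 n57002 = n27348 := d4_1 D57002 F90076 (iv2 D56997)
def n57003 : Q := act 3 n27348
theorem D57003 : act 3 n27348 = n57003 := rfl
def n57004 : Q := act 4 n27348
theorem D57004 : act 4 n27348 = n57004 := rfl
def n57005 : Q := act 5 n27348
theorem D57005 : act 5 n27348 = n57005 := rfl
def n57006 : Q := act 6 n27348
theorem D57006 : act 6 n27348 = n57006 := rfl
def n57007 : Q := act 0 n27349
theorem D57007 : act 0 n27349 = n57007 := rfl
def n57008 : Q := act 1 n27349
theorem D57008 : act 1 n27349 = n57008 := rfl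
def n57009 : Q := act 4 n27349
theorem D57009 : act 4 n27349 = n57009 := rfl
def n57010 : Q := act 7 n27349
theorem D57010 : act 7 n27349 = n57010 := rfl
theorem F90078 : act 5 n57010 = n27350 := d13_1 D57010 (iv7 D27350) D27349
def n57015 : Q := act 5 n27351
theorem D57015 : act 5 n27351 = n57015 := rfl
theorem F90084 : act 2 n57015 = n27354 := d2_1 D57015 (iv5 D27354) D27351
theorem F90085 : act 7 n57015 = n27359 := d13_2 F44250 D57015 (iv5 D27359)
def n57016 : Q := act 6 n27351
theorem D57016 : act 6 n27351 = n57016 := rfl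
theorem F90086 : act 2 n57016 = n27355 := d3_1 D57016 (iv6 D27355) D27351
def n57021 : Q := act 5 n27352
theorem D57021 : act 5 n27352 = n57021 := rfl
theorem F90087 : act 3 n57021 = n27354 := d6_1 D57021 (iv5 D27354) D27352
def n57022 : Q := act 6 n27352
theorem D57022 : act 6 n27352 = n57022 := rfl
theorem F90088 : act 3 n57022 = n27355 := d7_1 D57022 (iv6 D27355) D27352
def n57023 : Q := act 7 n27352
theorem D57023 : act 7 n27352 = n57023 := rfl
theorem F90089 : act 3 n57023 = n27356 := d8_1 D57023 (iv7 D27356) D27352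
def n57026 : Q := act 3 n27353
theorem D57026 : act 3 n27353 = n57026 := rfl
def n57027 : Q := act 5 n27353
theorem D57027 : act 5 n27353 = n57027 := rfl
def n57028 : Q := act 6 n27353
theorem D57028 : act 6 n27353 = n57028 := rfl
theorem F90091 : act 4 n57028 = n27355 := d10_1 D57028 (iv6 D27355) D27353
def n57029 : Q := act 7 n27353
theorem D57029 : act 7 n27353 = n57029 := rfl
theorem F90093 : act 4 n57029 = n27356 := d11_1 D57029 (iv7 D27356) D27353
def n57030 : Q := act 4 n27354
theorem D57030 : act 4 n27354 = n57030 := rfl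
def n57031 : Q := act 6 n27354
theorem D57031 : act 6 n27354 = n57031 := rfl
theorem F90095 : act 0 n57031 = n56897 := d21_10 F89940 (iv1 D35132) (iv5 D17055) (iv6 D7979) F14021 D6237 F9732 D13105 D27354 D57031
def n57032 : Q := act 7 n27354
theorem D57032 : act 7 n27354 = n57032 := rfl
theorem F90096 : act 2 n57032 = n27359 := d4_1 D57032 (iv7 F90085) F90084
theorem F90097 : act 5 n57032 = n27356 := d13_1 D57032 (iv7 D27356) D27354
def n57033 : Q := act 0 n27355
theorem D57033 : act 0 n27355 = n57033 := rfl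
def n57034 : Q := act 7 n27355
theorem D57034 : act 7 n27355 = n57034 := rfl
def n57035 : Q := act 6 n27356
theorem D57035 : act 6 n27356 = n57035 := rfl
theorem F90098 : act 2 n57035 = n27360 := d3_1 D57035 (iv6 D27360) (iv2 F44251)
def n57045 : Q := act 4 n27359
theorem D57045 : act 4 n27359 = n57045 := rfl
def n57046 : Q := act 0 n27360
theorem D57046 : act 0 n27360 = n57046 := rfl
theorem F90102 : act 5 n57046 = n27635 := d21_0 (iv1 F89951) F89948 F44191 (iv1 F21915) D13191 D27623 F44524 (iv5 D27359) D27360 D57046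
def n57047 : Q := act 1 n27360
theorem D57047 : act 1 n27360 = n57047 := rfl
def n57048 : Q := act 5 n27360
theorem D57048 : act 5 n27360 = n57048 := rfl
theorem F90103 : act 0 n56896 = n57048 := d21_1 D56896 (iv5 D57048) (iv6 D27360) (iv1 D13106) (iv6 D6237) (iv5 D2619) D2615 D6225 D13087 D27310
def n57049 : Q := act 7 n27360
theorem D57049 : act 7 n27360 = n57049 := rfl
def n57051 : Q := act 5 n27361
theorem D57051 : act 5 n27361 = n57051 := rfl
def n57052 : Q := act 0 n27362
theorem D57052 : act 0 n27362 = n57052 := rfl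
def n57053 : Q := act 1 n27362
theorem D57053 : act 1 n27362 = n57053 := rfl
def n57054 : Q := act 2 n27362
theorem D57054 : act 2 n27362 = n57054 := rfl
theorem F90108 : act 4 n57054 = n27380 := d1_2 (iv4 F44254) D57054 (iv2 D27380)
def n57055 : Q := act 5 n27362
theorem D57055 : act 5 n27362 = n57055 := rfl
theorem F90109 : act 3 n57055 = n27363 := d6_1 D57055 (iv5 D27363) D27362
def n57059 : Q := act 1 n27364
theorem D57059 : act 1 n27364 = n57059 := rfl
def n57060 : Q := act 5 n27364
theorem D57060 : act 5 n27364 = n57060 := rfl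
def n57061 : Q := act 7 n27364
theorem D57061 : act 7 n27364 = n57061 := rfl
theorem F90112 : act 4 n57061 = n27368 := d11_1 D57061 (iv7 D27368) (iv4 F44257)
def n57062 : Q := act 2 n27365
theorem D57062 : act 2 n27365 = n57062 := rfl
theorem F90113 : act 7 n27366 = n57062 := d15_2 (iv0 D27365) D27366 (iv2 D57062)
def n57063 : Q := act 3 n27365
theorem D57063 : act 3 n27365 = n57063 := rfl
def n57064 : Q := act 4 n27365
theorem D57064 : act 4 n27365 = n57064 := rfl
def n57065 : Q := act 5 n27365
theorem D57065 : act 5 n27365 = n57065 := rfl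
def n57066 : Q := act 6 n27365
theorem D57066 : act 6 n27365 = n57066 := rfl
def n57067 : Q := act 7 n27365
theorem D57067 : act 7 n27365 = n57067 := rfl
def n57068 : Q := act 3 n27366
theorem D57068 : act 3 n27366 = n57068 := rfl
def n57069 : Q := act 4 n27366
theorem D57069 : act 4 n27366 = n57069 := rfl
def n57070 : Q := act 5 n27366
theorem D57070 : act 5 n27366 = n57070 := rfl
def n57071 : Q := act 6 n27366
theorem D57071 : act 6 n27366 = n57071 := rfl
def n57072 : Q := act 0 n27367
theorem D57072 : act 0 n27367 = n57072 := rfl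
def n57073 : Q := act 1 n27367
theorem D57073 : act 1 n27367 = n57073 := rfl
def n57075 : Q := act 7 n27367
theorem D57075 : act 7 n27367 = n57075 := rfl
theorem F90117 : act 5 n57075 = n27368 := d13_1 D57075 (iv7 D27368) D27367
theorem F90118 : act 6 n57075 = n57075 := d14_1 D57075 (iv7 D57075) F44259 F21876 (iv6 F44259)
def n57078 : Q := act 0 n27370
theorem D57078 : act 0 n27370 = n57078 := rfl
theorem F90125 : act 1 n55435 = n57078 := d15_0 (iv0 D57078) F44264 D55435
def n57079 : Q := act 1 n27370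
theorem D57079 : act 1 n27370 = n57079 := rfl
def n57080 : Q := act 2 n27370
theorem D57080 : act 2 n27370 = n57080 := rfl
theorem F90126 : act 3 n57080 = n55425 := d0_2 D27370 D57080 (iv2 D55425) (iv3 D26773) (iv2 F21877)
theorem F90127 : act 5 n57080 = n52681 := d2_2 F44463 D57080 F83257
theorem F90128 : act 7 n57080 = n55435 := d4_2 (iv7 F44264) D57080 (iv2 D55435)
theorem F90129 : act 1 n57080 = n55433 := d15_0 (iv0 D55433) (iv7 F44264) D57080
theorem F90130 : act 1 n57079 = n55435 := d15_1 D57079 (iv7 F90128) (iv2 D57080)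
theorem F90131 : act 1 n55434 = n57080 := d15_1 D55434 F90128 (iv2 D55435)
def n57082 : Q := act 0 n27371
theorem D57082 : act 0 n27371 = n57082 := rfl
def n57083 : Q := act 1 n27371
theorem D57083 : act 1 n27371 = n57083 := rfl
def n57084 : Q := act 5 n27371
theorem D57084 : act 5 n27371 = n57084 := rfl
def n57085 : Q := act 7 n27371
theorem D57085 : act 7 n27371 = n57085 := rfl
theorem F90135 : act 2 n57085 = n55432 := d4_1 D57085 (iv7 D55432) (iv2 F44265)
theorem F90136 : act 4 n57085 = n27375 := d11_1 D57085 (iv7 D27375) (iv4 F44266)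
theorem F90137 : act 6 n57085 = n55441 := d14_1 D57085 (iv7 D55441) (iv6 D26778) (iv7 F21878) D27371
theorem F90138 : act 1 n55432 = n57082 := d15_0 (iv0 D57082) D57085 F90135
theorem F90140 : act 1 n57085 = n55429 := d15_0 (iv0 D55429) D55432 (iv2 F90135)
def n57086 : Q := act 2 n27372
theorem D57086 : act 2 n27372 = n57086 := rfl
theorem F90141 : act 7 n27373 = n57086 := d15_2 (iv0 D27372) D27373 (iv2 D57086)
def n57087 : Q := act 3 n27372
theorem D57087 : act 3 n27372 = n57087 := rfl
def n57088 : Q := act 4 n27372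
theorem D57088 : act 4 n27372 = n57088 := rfl
def n57089 : Q := act 5 n27372
theorem D57089 : act 5 n27372 = n57089 := rfl
def n57090 : Q := act 6 n27372
theorem D57090 : act 6 n27372 = n57090 := rfl
def n57091 : Q := act 7 n27372
theorem D57091 : act 7 n27372 = n57091 := rfl
theorem F90142 : act 2 n57091 = n27373 := d4_1 D57091 F90141 (iv2 D57086)
def n57092 : Q := act 3 n27373
theorem D57092 : act 3 n27373 = n57092 := rfl
def n57093 : Q := act 4 n27373
theorem D57093 : act 4 n27373 = n57093 := rfl
def n57094 : Q := act 5 n27373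
theorem D57094 : act 5 n27373 = n57094 := rfl
def n57095 : Q := act 6 n27373
theorem D57095 : act 6 n27373 = n57095 := rfl
def n57096 : Q := act 0 n27374
theorem D57096 : act 0 n27374 = n57096 := rfl
def n57097 : Q := act 1 n27374
theorem D57097 : act 1 n27374 = n57097 := rfl
def n57098 : Q := act 4 n27374
theorem D57098 : act 4 n27374 = n57098 := rfl
def n57099 : Q := act 7 n27374
theorem D57099 : act 7 n27374 = n57099 := rfl
theorem F90144 : act 5 n57099 = n27375 := d13_1 D57099 (iv7 D27375) D27374
def n57100 : Q := act 6 n27376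
theorem D57100 : act 6 n27376 = n57100 := rfl
theorem F90147 : act 3 n57100 = n37667 := d7_1 D57100 (iv6 D37667) (iv3 F44269)
def n57102 : Q := act 5 n27377
theorem D57102 : act 5 n27377 = n57102 := rfl
theorem F90150 : act 4 n57102 = n57051 := d16_2 D27377 D57102 (iv5 D57051) (iv4 D27361) (iv5 D13108) (iv4 F21858) D27332 F44233 F44231
def n57103 : Q := act 3 n27378
theorem D57103 : act 3 n27378 = n57103 := rfl
theorem F90152 : act 2 n57103 = n33437 := d0_1 D57103 (iv3 D33437) F52600 F87693 F87697
def n57104 : Q := act 4 n27378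
theorem D57104 : act 4 n27378 = n57104 := rfl
theorem F90153 : act 2 n57104 = n33090 := d1_1 D57104 F87694 F87697
theorem F90154 : act 3 n48997 = n57104 := d0_0 F90153 (iv3 D33090) (iv2 F42306) (iv3 F61203) (iv2 F77332)
theorem F90155 : act 5 n57104 = n48996 := d6_2 D48997 F90154 (iv3 D48996)
def n57105 : Q := act 5 n27378
theorem D57105 : act 5 n27378 = n57105 := rfl
def n57106 : Q := act 6 n27378
theorem D57106 : act 6 n27378 = n57106 := rfl
def n57107 : Q := act 5 n27379
theorem D57107 : act 5 n27379 = n57107 := rfl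
theorem F90156 : act 3 n57107 = n33440 := d6_1 D57107 (iv5 D33440) F51748
def n57108 : Q := act 6 n27379
theorem D57108 : act 6 n27379 = n57108 := rfl
theorem F90157 : act 3 n57108 = n33441 := d7_1 D57108 (iv6 D33441) F51748
def n57109 : Q := act 5 n27380
theorem D57109 : act 5 n27380 = n57109 := rfl
theorem F90158 : act 2 n57109 = n27381 := d2_1 D57109 (iv5 D27381) D27380
theorem F90159 : act 3 n57109 = n54631 := d6_1 D57109 (iv5 F87647) F87645
def n57111 : Q := act 0 n27381
theorem D57111 : act 0 n27381 = n57111 := rfl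
def n57112 : Q := act 1 n27381
theorem D57112 : act 1 n27381 = n57112 := rfl
def n57113 : Q := act 4 n27381
theorem D57113 : act 4 n27381 = n57113 := rfl
theorem F90161 : act 5 n44903 = n57113 := d19_1 (iv1 F70565) (iv4 D57113) F44275 (iv1 F44247) F44248 F28143 F28138 (iv1 F21736) (iv5 D9163) (iv4 F14267) (iv3 D9154) F6032 (iv5 F5742) D8327 (iv3 F24898) D32423 (iv5 F61039) (iv4 F70696) F70695
theorem F90162 : act 0 n57113 = n37322 := d17_2 (iv1 F70565) F90161 (iv5 D37322) (iv4 F34447) (iv5 F59162) (iv0 F59164) (iv5 F56164) F72366 F72363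
def n57114 : Q := act 6 n27381
theorem D57114 : act 6 n27381 = n57114 := rfl
theorem F90163 : act 3 n57114 = n27383 := d7_1 D57114 (iv6 D27383) (iv3 F44275)
def n57116 : Q := act 1 n27382
theorem D57116 : act 1 n27382 = n57116 := rfl
def n57118 : Q := act 7 n27382
theorem D57118 : act 7 n27382 = n57118 := rfl
theorem F90165 : act 3 n57118 = n27387 := d8_1 D57118 (iv7 D27387) (iv3 F44276)
def n57119 : Q := act 0 n27383
theorem D57119 : act 0 n27383 = n57119 := rfl
def n57120 : Q := act 1 n27383
theorem D57120 : act 1 n27383 = n57120 := rfl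
def n57121 : Q := act 5 n27383
theorem D57121 : act 5 n27383 = n57121 := rfl
theorem F90166 : act 6 n57121 = n27386 := d12_2 D27383 D57121 (iv5 D27386) (iv6 D13118) D13117
def n57122 : Q := act 7 n27383
theorem D57122 : act 7 n27383 = n57122 := rfl
def n57123 : Q := act 2 n27384
theorem D57123 : act 2 n27384 = n57123 := rfl
theorem F90167 : act 7 n27385 = n57123 := d15_2 (iv0 D27384) D27385 (iv2 D57123)
def n57124 : Q := act 3 n27384
theorem D57124 : act 3 n27384 = n57124 := rfl
def n57125 : Q := act 4 n27384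
theorem D57125 : act 4 n27384 = n57125 := rfl
def n57126 : Q := act 5 n27384
theorem D57126 : act 5 n27384 = n57126 := rfl
def n57127 : Q := act 6 n27384
theorem D57127 : act 6 n27384 = n57127 := rfl
def n57128 : Q := act 7 n27384
theorem D57128 : act 7 n27384 = n57128 := rfl
theorem F90168 : act 2 n57128 = n27385 := d4_1 D57128 F90167 (iv2 D57123)
def n57130 : Q := act 4 n27385
theorem D57130 : act 4 n27385 = n57130 := rfl
def n57131 : Q := act 5 n27385
theorem D57131 : act 5 n27385 = n57131 := rfl
def n57132 : Q := act 6 n27385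
theorem D57132 : act 6 n27385 = n57132 := rfl
def n57133 : Q := act 0 n27386
theorem D57133 : act 0 n27386 = n57133 := rfl
def n57134 : Q := act 1 n27386
theorem D57134 : act 1 n27386 = n57134 := rfl
def n57136 : Q := act 7 n27386
theorem D57136 : act 7 n27386 = n57136 := rfl
theorem F90169 : act 5 n57136 = n27387 := d13_1 D57136 (iv7 D27387) D27386
def n57138 : Q := act 1 n27388
theorem D57138 : act 1 n27388 = n57138 := rfl
theorem F90171 : act 1 n57138 = n27393 := d15_1 D57138 (iv7 D27393) D27388
def n57139 : Q := act 3 n27388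
theorem D57139 : act 3 n27388 = n57139 := rfl
theorem F90172 : act 7 n57139 = n27394 := d8_2 F44278 D57139 (iv3 D27394)
def n57140 : Q := act 4 n27388
theorem D57140 : act 4 n27388 = n57140 := rfl
theorem F90173 : act 2 n57140 = n27390 := d1_1 D57140 (iv4 D27390) D27388
theorem F90174 : act 7 n57140 = n27395 := d11_2 F44278 D57140 (iv4 D27395)
def n57141 : Q := act 5 n27388
theorem D57141 : act 5 n27388 = n57141 := rfl
theorem F90175 : act 2 n57141 = n27391 := d2_1 D57141 (iv5 D27391) D27388
theorem F90176 : act 7 n57141 = n27396 := d13_2 F44278 D57141 (iv5 D27396)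
def n57142 : Q := act 6 n27388
theorem D57142 : act 6 n27388 = n57142 := rfl
theorem F90177 : act 2 n57142 = n27392 := d3_1 D57142 (iv6 D27392) D27388
def n57148 : Q := act 6 n27389
theorem D57148 : act 6 n27389 = n57148 := rfl
theorem F90179 : act 3 n57148 = n27392 := d7_1 D57148 (iv6 D27392) D27389
def n57149 : Q := act 7 n27389
theorem D57149 : act 7 n27389 = n57149 := rfl
theorem F90180 : act 3 n57149 = n27393 := d8_1 D57149 (iv7 D27393) D27389
def n57150 : Q := act 0 n27390
theorem D57150 : act 0 n27390 = n57150 := rfl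
def n57151 : Q := act 1 n27390
theorem D57151 : act 1 n27390 = n57151 := rfl
theorem F90181 : act 1 n57151 = n27395 := d15_1 D57151 (iv7 F90174) F90173
def n57154 : Q := act 6 n27390
theorem D57154 : act 6 n27390 = n57154 := rfl
def n57155 : Q := act 7 n27390
theorem D57155 : act 7 n27390 = n57155 := rfl
theorem F90183 : act 2 n57155 = n27395 := d4_1 D57155 (iv7 F90174) F90173
theorem F90184 : act 4 n57155 = n27393 := d11_1 D57155 (iv7 D27393) D27390
theorem F90185 : act 1 n27395 = n57150 := d15_0 (iv0 D57150) D57155 F90183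
def n57156 : Q := act 0 n27391
theorem D57156 : act 0 n27391 = n57156 := rfl
theorem F90186 : act 5 n57156 = n56902 := d21_2 D27391 D57156 (iv6 D56902) (iv1 D27311) (iv6 D13087) (iv5 D6225) (iv1 F4213) D2624 D6245 D13119
def n57157 : Q := act 1 n27391
theorem D57157 : act 1 n27391 = n57157 := rfl
theorem F90187 : act 1 n57157 = n27396 := d15_1 D57157 (iv7 F90176) F90175
def n57159 : Q := act 6 n27391
theorem D57159 : act 6 n27391 = n57159 := rfl
def n57160 : Q := act 7 n27391
theorem D57160 : act 7 n27391 = n57160 := rfl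
theorem F90188 : act 2 n57160 = n27396 := d4_1 D57160 (iv7 F90176) F90175
theorem F90189 : act 5 n57160 = n27393 := d13_1 D57160 (iv7 D27393) D27391
theorem F90190 : act 1 n27396 = n57156 := d15_0 (iv0 D57156) D57160 F90188
theorem F90191 : act 0 n27397 = n55373 := d21_10 (iv5 D55373) (iv1 F42989) F21271 D13192 (iv1 F44185) D56902 (iv5 F90186) (iv1 F90190) (iv5 D27396) D27397
theorem E8369 : n57047 = n55374 := ((c21_4 F44500 F90191 (iv5 D55373) D55374 (iv1 D57047) (iv6 D27360) D27359 (iv1 F44527) (iv5 F44502) (iv6 D27605) D27602)).symm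
theorem F90192 : act 0 n55374 = n27360 := (sb E8369 (iv1 D57047))
def n57161 : Q := act 0 n27392
theorem D57161 : act 0 n27392 = n57161 := rfl
def n57162 : Q := act 1 n27392
theorem D57162 : act 1 n27392 = n57162 := rfl
def n57163 : Q := act 7 n27392
theorem D57163 : act 7 n27392 = n57163 := rfl
def n57164 : Q := act 6 n27393
theorem D57164 : act 6 n27393 = n57164 := rfl
theorem F90193 : act 2 n57164 = n27397 := d3_1 D57164 (iv6 D27397) (iv2 F44279)
def n57170 : Q := act 6 n27394
theorem D57170 : act 6 n27394 = n57170 := rfl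
theorem F90195 : act 3 n57170 = n27397 := d7_1 D57170 (iv6 D27397) D27394
def n57171 : Q := act 3 n27395
theorem D57171 : act 3 n27395 = n57171 := rfl
def n57172 : Q := act 5 n27395
theorem D57172 : act 5 n27395 = n57172 := rfl
def n57173 : Q := act 6 n27395
theorem D57173 : act 6 n27395 = n57173 := rfl
theorem F90196 : act 4 n57173 = n27397 := d10_1 D57173 (iv6 D27397) D27395
def n57174 : Q := act 4 n27396
theorem D57174 : act 4 n27396 = n57174 := rfl
def n57175 : Q := act 1 n27397
theorem D57175 : act 1 n27397 = n57175 := rfl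
def n57176 : Q := act 7 n27397
theorem D57176 : act 7 n27397 = n57176 := rfl
def n57177 : Q := act 2 n27398
theorem D57177 : act 2 n27398 = n57177 := rfl
theorem F90197 : act 7 n27399 = n57177 := d15_2 (iv0 D27398) D27399 (iv2 D57177)
def n57180 : Q := act 5 n27398
theorem D57180 : act 5 n27398 = n57180 := rfl
theorem F90198 : act 6 n57180 = n27608 := d12_2 (iv6 F87670) D57180 (iv5 F87671) (iv6 D55397) D55396
def n57181 : Q := act 7 n27398
theorem D57181 : act 7 n27398 = n57181 := rfl
theorem F90199 : act 2 n57181 = n27399 := d4_1 D57181 F90197 (iv2 D57177)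
def n57182 : Q := act 3 n27399
theorem D57182 : act 3 n27399 = n57182 := rfl
def n57184 : Q := act 5 n27399
theorem D57184 : act 5 n27399 = n57184 := rfl
theorem F90200 : act 6 n27419 = n57184 := d21_5 (iv5 D3612) D3609 (iv5 F14007) D13129 D27419 (iv5 D57184) (iv1 D27399) (iv5 D13121) (iv6 D6245) (iv1 F14022)
def n57185 : Q := act 6 n27399
theorem D57185 : act 6 n27399 = n57185 := rfl
def n57187 : Q := act 1 n27400
theorem D57187 : act 1 n27400 = n57187 := rfl
def n57194 : Q := act 0 n27403
theorem D57194 : act 0 n27403 = n57194 := rfl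
def n57195 : Q := act 1 n27403
theorem D57195 : act 1 n27403 = n57195 := rfl
theorem F90212 : act 1 n57195 = n37176 := d15_1 D57195 (iv7 D37176) (iv2 F44286)
def n57196 : Q := act 7 n27403
theorem D57196 : act 7 n27403 = n57196 := rfl
theorem F90213 : act 2 n57196 = n37176 := d4_1 D57196 (iv7 D37176) (iv2 F44286)
theorem F90214 : act 3 n57196 = n38110 := d8_1 D57196 (iv7 D38110) (iv3 F44287)
theorem F90215 : act 6 n57196 = n57196 := d14_1 D57196 (iv7 D57196) (iv6 D27403) F21891 D27403
theorem F90216 : act 1 n37176 = n57194 := d15_0 (iv0 D57194) D57196 F90213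
theorem F90217 : act 1 n37175 = n57196 := d15_1 D37175 (iv7 D57196) F44286
theorem F90218 : act 1 n57196 = n37174 := d15_0 (iv0 D37174) D37176 (iv2 F90213)
def n57199 : Q := act 6 n27404
theorem D57199 : act 6 n27404 = n57199 := rfl
theorem F90225 : act 4 n57199 = n57100 := d10_1 D57199 (iv6 D57100) (iv4 F44288)
def n57202 : Q := act 6 n27405
theorem D57202 : act 6 n27405 = n57202 := rfl
theorem F90233 : act 2 n57202 = n57199 := d3_1 D57202 (iv6 D57199) F44293
theorem F90234 : act 4 n57202 = n56516 := d10_1 D57202 (iv6 D56516) (iv4 F44292)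
def n57207 : Q := act 4 n27407
theorem D57207 : act 4 n27407 = n57207 := rfl
theorem F90241 : act 5 n57207 = n37171 := d9_2 D27407 D57207 F58113 (iv5 D27332) F21858 D13108 D27361 D57051 (iv4 F90150) (iv5 D57102) (iv4 D27377) (iv5 D13115) F9743 D6248 D13124
def n57209 : Q := act 0 n27408
theorem D57209 : act 0 n27408 = n57209 := rfl
def n57210 : Q := act 1 n27408
theorem D57210 : act 1 n27408 = n57210 := rfl
def n57211 : Q := act 5 n27408
theorem D57211 : act 5 n27408 = n57211 := rfl
theorem F90246 : act 6 n57211 = n35105 := d12_2 D27408 D57211 (iv5 D35105) (iv6 D17044) (iv5 F21895)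
def n57212 : Q := act 7 n27408
theorem D57212 : act 7 n27408 = n57212 := rfl
theorem F90247 : act 3 n57212 = n27415 := d8_1 D57212 (iv7 D27415) (iv3 F44297)
theorem F90248 : act 6 n57212 = n27490 := d14_1 D57212 (iv7 D27490) (iv6 D13151) (iv7 F21896) D27408
def n57213 : Q := act 0 n27409
theorem D57213 : act 0 n27409 = n57213 := rfl
theorem F90249 : act 1 n27493 = n57213 := d15_0 (iv0 D57213) F44298 D27493
def n57214 : Q := act 1 n27409
theorem D57214 : act 1 n27409 = n57214 := rfl
theorem F90250 : act 3 n27755 = n57214 := d20_3 D16270 (iv1 F46087) F46088 (iv1 D57214) (iv3 D27409) (iv4 D13126) (iv1 F9748) (iv4 F9759) F9758 D7576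
theorem F90251 : act 4 n33767 = n57214 := d20_6 (iv4 D8219) (iv1 D3703) D3704 (iv3 F11827) D16321 D33767 (iv1 D57214) (iv4 F56830) (iv3 D36087) (iv1 F28458)
theorem F90252 : act 7 n57214 = n27492 := d11_2 F87170 F90251 (iv4 F87169)
theorem F90253 : act 2 n27492 = n57213 := d15_3 (iv0 D57213) D57214 F90252
theorem F90254 : act 2 n57214 = n27491 := d15_3 (iv0 D27491) D27492 (iv7 F90252)
theorem F90255 : act 7 n27491 = n57213 := d4_2 (iv7 F90252) F90254 (iv2 F90253)
theorem F90256 : act 1 n57214 = n27493 := d15_0 F90249 (iv7 F90255) (iv2 F90254)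
def n57215 : Q := act 2 n27409
theorem D57215 : act 2 n27409 = n57215 := rfl
theorem F90257 : act 3 n57215 = n27459 := d0_2 D27409 D57215 (iv2 D27459) (iv3 D13142) (iv2 F21899)
theorem F90258 : act 7 n57215 = n27493 := d4_2 (iv7 F44298) D57215 (iv2 D27493)
theorem F90259 : act 1 n57215 = n27491 := d15_0 (iv0 D27491) (iv7 F44298) D57215
theorem F90260 : act 1 n27492 = n57215 := d15_0 F90259 F90255 (iv2 F90253)
def n57216 : Q := act 5 n27409
theorem D57216 : act 5 n27409 = n57216 := rfl
theorem F90261 : act 3 n57216 = n27410 := d6_1 D57216 (iv5 D27410) D27409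
theorem F90262 : act 7 n57216 = n27494 := d13_2 (iv7 F44298) D57216 (iv5 D27494)
def n57217 : Q := act 6 n27409
theorem D57217 : act 6 n27409 = n57217 := rfl
theorem F90263 : act 3 n57217 = n27411 := d7_1 D57217 (iv6 D27411) D27409
def n57218 : Q := act 6 n27410
theorem D57218 : act 6 n27410 = n57218 := rfl
theorem F90264 : act 2 n57218 = n27464 := d3_1 D57218 (iv6 D27464) (iv2 F44299)
def n57219 : Q := act 0 n27411
theorem D57219 : act 0 n27411 = n57219 := rfl
def n57220 : Q := act 1 n27411
theorem D57220 : act 1 n27411 = n57220 := rfl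
theorem F90265 : act 1 n57220 = n27468 := d15_1 D57220 (iv7 D27468) (iv2 F44303)
def n57221 : Q := act 5 n27411
theorem D57221 : act 5 n27411 = n57221 := rfl
theorem F90266 : act 2 n57221 = n27467 := d2_1 D57221 (iv5 D27467) (iv2 F44303)
def n57222 : Q := act 7 n27411
theorem D57222 : act 7 n27411 = n57222 := rfl
theorem F90267 : act 2 n57222 = n27468 := d4_1 D57222 (iv7 D27468) (iv2 F44303)
theorem F90268 : act 4 n57222 = n27415 := d11_1 D57222 (iv7 D27415) (iv4 F44304)
theorem F90269 : act 6 n57222 = n27500 := d14_1 D57222 (iv7 D27500) (iv6 D13154) (iv7 F21900) D27411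
theorem F90270 : act 1 n27468 = n57219 := d15_0 (iv0 D57219) D57222 F90267
theorem F90271 : act 1 n27466 = n57222 := d15_1 D27466 (iv7 D57222) F44303
theorem F90272 : act 1 n57222 = n27465 := d15_0 (iv0 D27465) D27468 (iv2 F90267)
def n57223 : Q := act 2 n27412
theorem D57223 : act 2 n27412 = n57223 := rfl
theorem F90273 : act 6 n57223 = n57032 := d3_2 (iv6 F44305) D57223 F90096
theorem F90274 : act 7 n27413 = n57223 := d15_2 (iv0 D27412) D27413 (iv2 D57223)
def n57225 : Q := act 4 n27412
theorem D57225 : act 4 n27412 = n57225 := rfl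
theorem F90276 : act 6 n57225 = n57045 := d10_2 (iv6 F44305) D57225 (iv4 D57045)
def n57226 : Q := act 5 n27412
theorem D57226 : act 5 n27412 = n57226 := rfl
theorem F90277 : act 6 n57226 = n57048 := d12_2 (iv6 F44305) D57226 (iv5 D57048) (iv6 D27360) D27359
theorem F90278 : act 0 n57048 = n56901 := d21_10 (iv5 D56901) (iv1 D27311) D27312 F44188 F27963 (iv6 F44308) (iv5 D27414) D27412 D57226 F90277
def n57227 : Q := act 7 n27412
theorem D57227 : act 7 n27412 = n57227 := rfl
theorem F90279 : act 2 n57227 = n27413 := d4_1 D57227 F90274 (iv2 D57223)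
def n57228 : Q := act 3 n27413
theorem D57228 : act 3 n27413 = n57228 := rfl
def n57229 : Q := act 4 n27413
theorem D57229 : act 4 n27413 = n57229 := rfl
def n57230 : Q := act 5 n27413
theorem D57230 : act 5 n27413 = n57230 := rfl
def n57231 : Q := act 6 n27413
theorem D57231 : act 6 n27413 = n57231 := rfl
theorem F90280 : act 7 n57231 = n57031 := d14_2 (iv7 F90274) D57231 (iv6 D57031) D57032 (iv6 F90273)
def n57232 : Q := act 0 n27414
theorem D57232 : act 0 n27414 = n57232 := rfl
def n57233 : Q := act 1 n27414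
theorem D57233 : act 1 n27414 = n57233 := rfl
theorem F90281 : act 1 n57233 = n27482 := d15_1 D57233 (iv7 D27482) (iv2 F44307)
theorem F90282 : act 5 n55392 = n57233 := d21_6 F4224 (iv1 F6462) (iv5 F14017) D12806 D26762 D55392 (iv1 D57233) (iv5 D27414) (iv6 D13127) (iv1 F9748)
def n57234 : Q := act 4 n27414
theorem D57234 : act 4 n27414 = n57234 := rfl
theorem F90283 : act 2 n57234 = n27481 := d1_1 D57234 (iv4 D27481) (iv2 F44307)
theorem F90284 : act 6 n57234 = n35108 := d10_2 (iv6 F44308) D57234 (iv4 D35108)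
def n57235 : Q := act 7 n27414
theorem D57235 : act 7 n27414 = n57235 := rfl
theorem F90285 : act 2 n57235 = n27482 := d4_1 D57235 (iv7 D27482) (iv2 F44307)
theorem F90286 : act 5 n57235 = n27415 := d13_1 D57235 (iv7 D27415) D27414
theorem F90287 : act 1 n27482 = n57232 := d15_0 (iv0 D57232) D57235 F90285
theorem F90288 : act 1 n27480 = n57235 := d15_1 D27480 (iv7 D57235) F44307
theorem F90289 : act 5 n55511 = n57232 := d21_0 (iv1 F90287) F44397 (iv6 F44326) (iv1 F44328) D27510 (iv5 F87783) (iv1 F87788) (iv5 D26798) D26799 D55511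
theorem F90290 : act 1 n57235 = n27479 := d15_0 (iv0 D27479) D27482 (iv2 F90285)
def n57236 : Q := act 2 n27416
theorem D57236 : act 2 n27416 = n57236 := rfl
theorem F90291 : act 3 n57236 = n27493 := d0_2 D27416 D57236 (iv2 D27493) (iv3 D13152) (iv2 F21902)
theorem F90292 : act 4 n57236 = n33084 := d1_2 (iv4 F44314) D57236 F52308
theorem F90293 : act 5 n57236 = n33061 := d2_2 F55467 D57236 (iv2 F55465)
theorem F90294 : act 7 n57236 = n27459 := d4_2 (iv7 F44315) D57236 (iv2 D27459)
theorem F90295 : act 1 n57236 = n27457 := d15_0 (iv0 D27457) (iv7 F44315) D57236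
theorem F90296 : act 1 n27458 = n57236 := d15_0 F90295 (iv7 F55266) F55264
def n57237 : Q := act 6 n27416
theorem D57237 : act 6 n27416 = n57237 := rfl
theorem F90297 : act 3 n57237 = n27418 := d7_1 D57237 (iv6 D27418) D27416
theorem F90298 : act 4 n57237 = n40130 := d10_1 D57237 (iv6 D40130) (iv4 F44314)
def n57238 : Q := act 6 n27417
theorem D57238 : act 6 n27417 = n57238 := rfl
theorem F90299 : act 2 n57238 = n27496 := d3_1 D57238 (iv6 D27496) (iv2 F44316)
def n57239 : Q := act 0 n27418
theorem D57239 : act 0 n27418 = n57239 := rfl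
def n57240 : Q := act 1 n27418
theorem D57240 : act 1 n27418 = n57240 := rfl
theorem F90300 : act 1 n57240 = n27500 := d15_1 D57240 (iv7 D27500) (iv2 F44320)
def n57241 : Q := act 5 n27418
theorem D57241 : act 5 n27418 = n57241 := rfl
theorem F90301 : act 2 n57241 = n27499 := d2_1 D57241 (iv5 D27499) (iv2 F44320)
def n57242 : Q := act 7 n27418
theorem D57242 : act 7 n27418 = n57242 := rfl
theorem F90302 : act 2 n57242 = n27500 := d4_1 D57242 (iv7 D27500) (iv2 F44320)
theorem F90303 : act 4 n57242 = n27422 := d11_1 D57242 (iv7 D27422) (iv4 F44321)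
theorem F90305 : act 1 n27500 = n57239 := d15_0 (iv0 D57239) D57242 F90302
theorem F90306 : act 1 n27498 = n57242 := d15_1 D27498 (iv7 D57242) F44320
theorem F90307 : act 1 n57242 = n27497 := d15_0 (iv0 D27497) D27500 (iv2 F90302)
def n57244 : Q := act 3 n27419
theorem D57244 : act 3 n27419 = n57244 := rfl
def n57245 : Q := act 4 n27419
theorem D57245 : act 4 n27419 = n57245 := rfl
def n57246 : Q := act 5 n27419
theorem D57246 : act 5 n27419 = n57246 := rfl
def n57247 : Q := act 7 n27419
theorem D57247 : act 7 n27419 = n57247 := rfl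
def n57248 : Q := act 3 n27420
theorem D57248 : act 3 n27420 = n57248 := rfl
def n57249 : Q := act 4 n27420
theorem D57249 : act 4 n27420 = n57249 := rfl
def n57250 : Q := act 5 n27420
theorem D57250 : act 5 n27420 = n57250 := rfl
theorem F90310 : act 6 n57232 = n57250 := d21_5 (iv5 D26978) (iv1 F21446) D17047 (iv6 F44308) D57232 (iv5 D57250) (iv1 D27420) D27421 F44324 F43543
def n57251 : Q := act 6 n27420
theorem D57251 : act 6 n27420 = n57251 := rfl
def n57252 : Q := act 0 n27421
theorem D57252 : act 0 n27421 = n57252 := rfl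
def n57253 : Q := act 1 n27421
theorem D57253 : act 1 n27421 = n57253 := rfl
theorem F90312 : act 5 n55418 = n57253 := d21_6 (iv5 D2628) (iv1 F6467) (iv5 F14013) D12809 D26770 D55418 (iv1 D57253) (iv5 D27421) (iv6 D13129) (iv1 D6250)
def n57254 : Q := act 4 n27421
theorem D57254 : act 4 n27421 = n57254 := rfl
theorem F90313 : act 2 n57254 = n27513 := d1_1 D57254 (iv4 D27513) (iv2 F44323)
theorem F90314 : act 6 n57254 = n27639 := d10_2 (iv6 F44324) D57254 (iv4 D27639)
def n57255 : Q := act 7 n27421
theorem D57255 : act 7 n27421 = n57255 := rfl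
theorem F90315 : act 2 n57255 = n27514 := d4_1 D57255 (iv7 D27514) (iv2 F44323)
theorem F90316 : act 5 n57255 = n27422 := d13_1 D57255 (iv7 D27422) D27421
theorem F90317 : act 1 n27514 = n57252 := d15_0 (iv0 D57252) D57255 F90315
theorem F90318 : act 1 n27512 = n57255 := d15_1 D27512 (iv7 D57255) F44323
theorem F90319 : act 1 n57255 = n27511 := d15_0 (iv0 D27511) D27514 (iv2 F90315)
def n57256 : Q := act 0 n27423
theorem D57256 : act 0 n27423 = n57256 := rfl
theorem F90320 : act 1 n27528 = n57256 := d15_0 (iv0 D57256) F44330 D27528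
def n57257 : Q := act 1 n27423
theorem D57257 : act 1 n27423 = n57257 := rfl
def n57258 : Q := act 2 n27423
theorem D57258 : act 2 n27423 = n57258 := rfl
theorem F90321 : act 3 n57258 = n27517 := d0_2 D27423 D57258 (iv2 D27517) (iv3 D13160) (iv2 F27949)
theorem F90322 : act 5 n57258 = n52736 := d2_2 (iv5 F83230) D57258 F83335
theorem F90323 : act 7 n57258 = n27528 := d4_2 (iv7 F44330) D57258 (iv2 D27528)
theorem F90324 : act 1 n57258 = n27526 := d15_0 (iv0 D27526) (iv7 F44330) D57258
theorem F90325 : act 1 n57257 = n27528 := d15_1 D57257 (iv7 F90323) (iv2 D57258)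
theorem F90326 : act 1 n27527 = n57258 := d15_1 D27527 F90323 (iv2 D27528)
def n57259 : Q := act 6 n27423
theorem D57259 : act 6 n27423 = n57259 := rfl
theorem F90327 : act 3 n57259 = n27425 := d7_1 D57259 (iv6 D27425) D27423
def n57260 : Q := act 6 n27424
theorem D57260 : act 6 n27424 = n57260 := rfl
theorem F90328 : act 2 n57260 = n27521 := d3_1 D57260 (iv6 D27521) (iv2 F44331)
theorem F90329 : act 4 n57260 = n57238 := d10_1 D57260 (iv6 D57238) (iv4 F44333)
def n57261 : Q := act 0 n27425
theorem D57261 : act 0 n27425 = n57261 := rfl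
def n57262 : Q := act 1 n27425
theorem D57262 : act 1 n27425 = n57262 := rfl
theorem F90330 : act 1 n57262 = n27525 := d15_1 D57262 (iv7 D27525) (iv2 F44336)
def n57263 : Q := act 5 n27425
theorem D57263 : act 5 n27425 = n57263 := rfl
theorem F90331 : act 2 n57263 = n27524 := d2_1 D57263 (iv5 D27524) (iv2 F44336)
def n57264 : Q := act 7 n27425
theorem D57264 : act 7 n27425 = n57264 := rfl
theorem F90332 : act 2 n57264 = n27525 := d4_1 D57264 (iv7 D27525) (iv2 F44336)
theorem F90333 : act 6 n57264 = n27536 := d14_1 D57264 (iv7 D27536) (iv6 D13166) (iv7 F27950) D27425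
theorem F90334 : act 1 n27525 = n57261 := d15_0 (iv0 D57261) D57264 F90332
theorem F90335 : act 1 n27523 = n57264 := d15_1 D27523 (iv7 D57264) F44336
theorem F90336 : act 1 n57264 = n27522 := d15_0 (iv0 D27522) D27525 (iv2 F90332)
def n57265 : Q := act 0 n27426
theorem D57265 : act 0 n27426 = n57265 := rfl
theorem F90337 : act 1 n27517 = n57265 := d15_0 (iv0 D57265) F44337 D27517
def n57266 : Q := act 1 n27426
theorem D57266 : act 1 n27426 = n57266 := rfl
def n57267 : Q := act 2 n27426
theorem D57267 : act 2 n27426 = n57267 := rfl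
theorem F90338 : act 3 n57267 = n27528 := d0_2 D27426 D57267 (iv2 D27528) (iv3 D13164) (iv2 F27947)
theorem F90339 : act 7 n57267 = n27517 := d4_2 (iv7 F44337) D57267 (iv2 D27517)
theorem F90340 : act 1 n57267 = n27515 := d15_0 (iv0 D27515) (iv7 F44337) D57267
theorem F90341 : act 1 n57266 = n27517 := d15_1 D57266 (iv7 F90339) (iv2 D57267)
theorem F90342 : act 1 n27516 = n57267 := d15_1 D27516 F90339 (iv2 D27517)
def n57268 : Q := act 5 n27426
theorem D57268 : act 5 n27426 = n57268 := rfl
theorem F90343 : act 3 n57268 = n27427 := d6_1 D57268 (iv5 D27427) D27426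
theorem F90344 : act 7 n57268 = n27519 := d13_2 (iv7 F44337) D57268 (iv5 D27519)
def n57269 : Q := act 6 n27426
theorem D57269 : act 6 n27426 = n57269 := rfl
theorem F90345 : act 3 n57269 = n27428 := d7_1 D57269 (iv6 D27428) D27426
def n57270 : Q := act 6 n27427
theorem D57270 : act 6 n27427 = n57270 := rfl
theorem F90346 : act 2 n57270 = n27532 := d3_1 D57270 (iv6 D27532) (iv2 F44338)
theorem F90347 : act 4 n57270 = n57218 := d10_1 D57270 (iv6 D57218) (iv4 F44339)
def n57271 : Q := act 0 n27428
theorem D57271 : act 0 n27428 = n57271 := rfl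
def n57272 : Q := act 1 n27428
theorem D57272 : act 1 n27428 = n57272 := rfl
theorem F90348 : act 1 n57272 = n27536 := d15_1 D57272 (iv7 D27536) (iv2 F44343)
def n57273 : Q := act 5 n27428
theorem D57273 : act 5 n27428 = n57273 := rfl
theorem F90349 : act 2 n57273 = n27535 := d2_1 D57273 (iv5 D27535) (iv2 F44343)
def n57274 : Q := act 7 n27428
theorem D57274 : act 7 n27428 = n57274 := rfl
theorem F90350 : act 2 n57274 = n27536 := d4_1 D57274 (iv7 D27536) (iv2 F44343)
theorem F90351 : act 6 n57274 = n27525 := d14_1 D57274 (iv7 D27525) (iv6 D13162) (iv7 F27948) D27428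
theorem F90352 : act 1 n27536 = n57271 := d15_0 (iv0 D57271) D57274 F90350
theorem F90354 : act 1 n57274 = n27533 := d15_0 (iv0 D27533) D27536 (iv2 F90350)
def n57275 : Q := act 2 n27429
theorem D57275 : act 2 n27429 = n57275 := rfl
theorem F90355 : act 7 n27430 = n57275 := d15_2 (iv0 D27429) D27430 (iv2 D57275)
def n57276 : Q := act 4 n27429
theorem D57276 : act 4 n27429 = n57276 := rfl
theorem F90356 : act 3 n57276 = n47215 := d5_1 D57276 F74490 (iv3 D46273) D46274 F72938
theorem F90357 : act 1 n57276 = n38287 := d18_8 F87047 (iv4 F62346) (iv1 F74447) F74444 F42513 F42510 F44344 D57276 (iv5 F87045)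
theorem F90358 : act 0 n57276 = n35372 := d19_4 (iv1 F70095) (iv5 F72936) (iv4 F74490) (iv3 F90356) (iv5 D35372) (iv4 F43320) (iv3 D26870) (iv1 F21343) D17479 F28473 (iv3 D16759) (iv1 D7827) D7829 (iv4 F17247) D22612 (iv1 F75473) (iv5 D45719) D45718 F72103
def n57277 : Q := act 5 n27429
theorem D57277 : act 5 n27429 = n57277 := rfl
def n57278 : Q := act 6 n27429
theorem D57278 : act 6 n27429 = n57278 := rfl
def n57279 : Q := act 7 n27429
theorem D57279 : act 7 n27429 = n57279 := rfl
theorem F90359 : act 2 n57279 = n27430 := d4_1 D57279 F90355 (iv2 D57275)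
def n57280 : Q := act 3 n27430
theorem D57280 : act 3 n27430 = n57280 := rfl
def n57281 : Q := act 4 n27430
theorem D57281 : act 4 n27430 = n57281 := rfl
theorem F90360 : act 1 n57281 = n35372 := d18_8 D35370 F62347 (iv1 D41138) F30989 (iv5 D18255) (iv4 F21907) D27430 D57281 (iv5 D35372)
theorem F90361 : act 3 n57281 = n38273 := d20_3 F42510 (iv1 F44348) D57281 (iv1 F72395) F72393 (iv4 F70562) (iv1 F70566) (iv4 F59950) (iv3 D38189) (iv1 F42514)
theorem F90362 : act 1 n38287 = n57281 := d15_0 F90360 (iv7 F88151) F88149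
def n57282 : Q := act 5 n27430
theorem D57282 : act 5 n27430 = n57282 := rfl
def n57283 : Q := act 6 n27430
theorem D57283 : act 6 n27430 = n57283 := rfl
def n57284 : Q := act 5 n27431
theorem D57284 : act 5 n27431 = n57284 := rfl
theorem F90363 : act 2 n57284 = n27432 := d2_1 D57284 (iv5 D27432) D27431
theorem F90364 : act 3 n57284 = n27544 := d6_1 D57284 (iv5 D27544) (iv3 F44345)
theorem F90365 : act 7 n57284 = n33568 := d13_2 (iv7 F44347) D57284 (iv5 D33568)
def n57285 : Q := act 6 n27431
theorem D57285 : act 6 n27431 = n57285 := rfl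
theorem F90366 : act 2 n57285 = n27433 := d3_1 D57285 (iv6 D27433) D27431
theorem F90367 : act 3 n57285 = n27545 := d7_1 D57285 (iv6 D27545) (iv3 F44345)
theorem F90368 : act 4 n57285 = n38199 := d10_1 D57285 (iv6 D38199) (iv4 F44346)
def n57286 : Q := act 0 n27432
theorem D57286 : act 0 n27432 = n57286 := rfl
theorem F90369 : act 1 n33568 = n57286 := d15_0 (iv0 D57286) (iv7 F44466) (iv2 F52861)
def n57287 : Q := act 1 n27432
theorem D57287 : act 1 n27432 = n57287 := rfl
theorem F90370 : act 1 n57287 = n33568 := d15_1 D57287 (iv7 F90365) F90363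
def n57288 : Q := act 6 n27432
theorem D57288 : act 6 n27432 = n57288 := rfl
theorem F90371 : act 3 n57288 = n27434 := d7_1 D57288 (iv6 D27434) (iv3 F44349)
def n57289 : Q := act 0 n27433
theorem D57289 : act 0 n27433 = n57289 := rfl
def n57290 : Q := act 1 n27433
theorem D57290 : act 1 n27433 = n57290 := rfl
def n57291 : Q := act 5 n27433
theorem D57291 : act 5 n27433 = n57291 := rfl
theorem F90372 : act 3 n57291 = n27437 := d6_1 D57291 (iv5 D27437) (iv3 F44350)
def n57292 : Q := act 7 n27433
theorem D57292 : act 7 n27433 = n57292 := rfl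
theorem F90373 : act 3 n57292 = n27438 := d8_1 D57292 (iv7 D27438) (iv3 F44350)
theorem F90374 : act 4 n57292 = n38206 := d11_1 D57292 (iv7 D38206) (iv4 F44351)
def n57293 : Q := act 0 n27434
theorem D57293 : act 0 n27434 = n57293 := rfl
def n57294 : Q := act 1 n27434
theorem D57294 : act 1 n27434 = n57294 := rfl
def n57295 : Q := act 5 n27434
theorem D57295 : act 5 n27434 = n57295 := rfl
theorem F90376 : act 2 n57295 = n27562 := d2_1 D57295 (iv5 D27562) (iv2 F44352)
theorem F90377 : act 6 n57295 = n27437 := d12_2 D27434 D57295 (iv5 D27437) (iv6 D13134) D13133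
def n57296 : Q := act 7 n27434
theorem D57296 : act 7 n27434 = n57296 := rfl
theorem F90378 : act 2 n57296 = n27563 := d4_1 D57296 (iv7 D27563) (iv2 F44352)
theorem F90379 : act 1 n27563 = n57293 := d15_0 (iv0 D57293) D57296 F90378
theorem F90380 : act 1 n27561 = n57296 := d15_1 D27561 (iv7 D57296) F44352
theorem F90381 : act 1 n57296 = n27560 := d15_0 (iv0 D27560) D27563 (iv2 F90378)
def n57297 : Q := act 2 n27435
theorem D57297 : act 2 n27435 = n57297 := rfl
theorem F90382 : act 7 n27436 = n57297 := d15_2 (iv0 D27435) D27436 (iv2 D57297)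
def n57298 : Q := act 3 n27435
theorem D57298 : act 3 n27435 = n57298 := rfl
def n57299 : Q := act 5 n27435
theorem D57299 : act 5 n27435 = n57299 := rfl
def n57300 : Q := act 6 n27435
theorem D57300 : act 6 n27435 = n57300 := rfl
theorem F90383 : act 5 n57300 = n55470 := d21_6 D26774 F43030 (iv5 D13133) D13134 D27435 D57300 (iv1 D55470) (iv5 D26788) (iv6 D12814) D12810
def n57301 : Q := act 7 n27435
theorem D57301 : act 7 n27435 = n57301 := rfl
theorem F90384 : act 2 n57301 = n27436 := d4_1 D57301 F90382 (iv2 D57297)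
def n57302 : Q := act 3 n27436
theorem D57302 : act 3 n27436 = n57302 := rfl
def n57303 : Q := act 5 n27436
theorem D57303 : act 5 n27436 = n57303 := rfl
def n57304 : Q := act 6 n27436
theorem D57304 : act 6 n27436 = n57304 := rfl
def n57305 : Q := act 0 n27437
theorem D57305 : act 0 n27437 = n57305 := rfl
def n57306 : Q := act 1 n27437
theorem D57306 : act 1 n27437 = n57306 := rfl
theorem F90385 : act 1 n57306 = n27578 := d15_1 D57306 (iv7 D27578) (iv2 F44354)
def n57307 : Q := act 4 n27437
theorem D57307 : act 4 n27437 = n57307 := rfl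
theorem F90386 : act 2 n57307 = n27577 := d1_1 D57307 (iv4 D27577) (iv2 F44354)
def n57308 : Q := act 7 n27437
theorem D57308 : act 7 n27437 = n57308 := rfl
theorem F90387 : act 2 n57308 = n27578 := d4_1 D57308 (iv7 D27578) (iv2 F44354)
theorem F90388 : act 5 n57308 = n27438 := d13_1 D57308 (iv7 D27438) D27437
theorem F90389 : act 1 n27578 = n57305 := d15_0 (iv0 D57305) D57308 F90387
theorem F90390 : act 1 n27576 = n57308 := d15_1 D27576 (iv7 D57308) F44354
theorem F90391 : act 1 n57308 = n27575 := d15_0 (iv0 D27575) D27578 (iv2 F90387)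
def n57309 : Q := act 0 n27440
theorem D57309 : act 0 n27440 = n57309 := rfl
theorem F90392 : act 2 n27828 = n57309 := d15_3 (iv0 D57309) F61259 (iv7 F61274)
theorem F90393 : act 1 n27613 = n57309 := d15_0 (iv0 D57309) F44538 D27613
theorem F90395 : act 7 n57309 = n38710 := d4_2 (iv7 F61274) F90392 F61128
theorem E8370 : n39656 = n27613 := (c15_1 D39656 F90393 F90395 F61128)
theorem F90396 : act 0 n27613 = n18775 := (sb E8370 (iv1 D39656))
def n57310 : Q := act 2 n27440
theorem D57310 : act 2 n27440 = n57310 := rfl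
theorem F90397 : act 3 n57310 = n27591 := d0_2 D27440 D57310 (iv2 D27591) (iv3 D13183) (iv2 F44534)
theorem F90398 : act 4 n57310 = n55688 := d1_2 F59782 D57310 (iv2 F88116)
theorem F90399 : act 7 n57310 = n27613 := d4_2 (iv7 F44538) D57310 (iv2 D27613)
theorem F90400 : act 1 n57310 = n27611 := d15_0 (iv0 D27611) (iv7 F44538) D57310
theorem F90401 : act 1 n27612 = n57310 := d15_1 D27612 F90399 (iv2 D27613)
theorem E8371 : n27828 = n27612 := ((c20_5 (iv4 F13856) D18970 F44548 (iv3 F90397) (iv1 F90401) (iv3 D27828) D27829 F61130 (iv4 D40195) (iv3 D18981) (iv1 D8892))).symm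
theorem F90403 : act 3 n27612 = n13277 := (sb E8371 (iv3 D27828))
theorem F90404 : act 4 n27612 = n40275 := (sb E8371 F61273)
theorem F90405 : act 7 n27612 = n18775 := (sb E8371 F61274)
theorem F90406 : act 7 n39659 = n55503 := d13_2 F90405 D39659 F87792
theorem E8372 : n38710 = n27611 := (c15_4 (iv0 D27611) D27612 F90405 (iv2 F61128))
theorem F90407 : act 2 n27611 = n18775 := (sb E8372 F61128)
theorem F90408 : act 3 n27611 = n18414 := (sb E8372 (iv3 D38710))
theorem F90409 : act 4 n27611 = n40274 := (sb E8372 (iv4 F61268))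
theorem F90411 : act 0 n39959 = n38711 := d20_1 D39959 (iv4 D38711) (iv3 F90408) (iv1 F90400) F90397 (iv4 F44548) (iv1 F60936) F60934 (iv3 F60754) (iv1 F60758)
theorem E8373 : n44912 = n18893 := (c20_6 F90398 (iv1 F88117) F56850 (iv3 F33448) (iv1 F33666) D44912 D39959 F90411 (iv4 D38711) (iv3 F90408) (iv1 F90400))
theorem E8374 : n39958 = n21435 := ((D39958).symm.trans (sb E8373 (iv3 D44912)))
theorem F90412 : act 3 n21435 = n18893 := (sb E8374 (iv3 D39958))
theorem E8375 : n44913 = n39508 := ((D44913).symm.trans (sb E8374 (iv4 F60791)))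
theorem F90413 : act 4 n39508 = n21435 := (sb E8375 (iv4 D44913))
theorem F90414 : act 3 n39960 = n44584 := d6_3 F70113 F90412 D39960
theorem F90415 : act 3 n39961 = n44914 := d7_3 (iv6 D44914) F90412 D39961
theorem F90416 : act 3 n39952 = n44909 := d8_3 (iv7 F70576) F90412 F60786
theorem F90417 : act 0 n38706 = n39959 := d20_1 D38706 (iv4 D39959) (iv3 F90412) (iv1 D21435) (iv3 F32908) F32909 (iv1 F59686) (iv4 D8667) D8666 D18413
theorem F90418 : act 2 n27567 = n39953 := d0_3 F90416 (iv2 D44909) (iv3 F59771) (iv3 D39953) D39952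
theorem E8376 : n57297 = n13177 := (c1_4 D27567 F90418 F60787 D57297)
theorem E8377 : n27565 = n27435 := ((D27565).symm.trans (sb E8376 (iv2 D57297)))
theorem E8378 : n27570 = n27436 := ((D27570).symm.trans (sb E8376 (iv7 F90382)))
theorem F90419 : act 2 n27435 = n13177 := (sb E8377 (iv2 D27565))
theorem E8379 : n57301 = n13178 := ((D57301).symm.trans (sb E8377 (iv7 F44472)))
theorem F90420 : act 7 n27436 = n13177 := (sb E8378 (iv7 D27570))
theorem F90421 : act 2 n13178 = n27436 := (sb E8379 F90384)
theorem F90422 : act 7 n13178 = n27435 := (sb E8379 (iv7 D57301))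
theorem F90423 : act 7 n57298 = n27571 := d8_2 F90422 D57298 (iv3 D27571)
theorem F90424 : act 7 n39953 = n27572 := d11_2 F90422 (iv4 F60787) (iv4 D27572)
theorem F90425 : act 7 n57299 = n27573 := d13_2 F90422 D57299 (iv5 D27573)
theorem E8380 : n39957 = n39936 := ((c8_2 F90424 F60752 (iv7 D39957) D39953)).symm
theorem F90426 : act 2 n39936 = n18893 := (sb E8380 F60790)
theorem F90427 : act 7 n39936 = n18892 := (sb E8380 (iv7 D39957))
theorem F90428 : act 7 n39955 = n39956 := d13_2 F90427 D39955 F60789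
theorem E8381 : n39952 = n39935 := (c15_4 (iv0 D39935) D39936 F90427 D39952)
theorem F90429 : act 2 n39935 = n18892 := (sb E8381 (iv2 D39952))
theorem F90430 : act 3 n39935 = n44909 := (sb E8381 F90416)
theorem F90431 : act 7 n39935 = n18893 := (sb E8381 (iv7 F60786))
theorem E8382 : n44909 = n21208 := (c7_2 F60798 F90430 D44584 (iv3 F90414))
theorem E8383 : n44580 = n21434 := ((D44580).symm.trans (sb E8382 (iv2 D44909)))
theorem E8384 : n44581 = n39935 := ((D44581).symm.trans (sb E8382 (iv3 F90430)))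
theorem E8385 : n44585 = n21435 := ((D44585).symm.trans (sb E8382 (iv7 F70576)))
theorem E8386 : n44911 = n21209 := ((D44911).symm.trans (sb E8383 (iv7 F70112)))
theorem F90433 : act 3 n39935 = n21208 := (sb E8384 (iv3 D44581))
theorem F90434 : act 7 n21435 = n21208 := (sb E8385 (iv7 D44585))
theorem F90435 : act 2 n21209 = n21435 := (sb E8386 F70577)
theorem F90436 : act 7 n21209 = n21434 := (sb E8386 (iv7 D44911))
theorem F90437 : act 0 n27860 = n44582 := d20_1 D27860 (iv4 D44582) (iv3 F90433) (iv1 F60757) F30145 (iv4 F30433) (iv1 F22079) (iv4 D6306) D6305 D13287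
theorem F90438 : act 1 n27865 = n44582 := d15_0 (iv0 F90437) F61100 (iv2 F61089)
theorem F90439 : act 7 n27567 = n44586 := d8_2 F90436 (iv3 F59771) (iv3 D44586)
theorem F90440 : act 7 n39509 = n44587 := d11_2 F90436 F60797 (iv4 D44587)
theorem F90441 : act 7 n44910 = n44588 := d13_2 F90436 D44910 (iv5 D44588)
theorem F90442 : act 2 n44587 = n39508 := d15_3 (iv0 D39508) D39509 F90440
theorem F90443 : act 2 n44586 = n27572 := d4_1 F90439 (iv7 F90424) (iv2 F90418)
theorem F90444 : act 2 n44584 = n44588 := d2_3 (iv5 D44588) F90435 (iv5 F70113)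
theorem F90445 : act 2 n44914 = n44589 := d3_3 (iv6 D44589) F90435 D44914
theorem F90446 : act 7 n44582 = n39508 := d11_2 F90434 D44582 F90413
theorem F90447 : act 7 n44583 = n44584 := d13_2 F90434 D44583 F70113
theorem F90448 : act 2 n44910 = n44583 := d4_3 F90447 F90444 (iv7 F90441)
theorem F90450 : act 1 n44587 = n27865 := d15_0 F90438 F90446 (iv2 F90442)
theorem F90451 : act 1 n27860 = n44587 := d15_0 F90450 F61090 (iv2 F61099)
theorem E8387 : n38225 = n27859 := ((c20_4 D44587 (iv1 F90451) (iv4 D27860) D27859 (iv1 D38225) (iv3 D18263) D18264 D38229 F59754 (iv3 F59753) (iv1 F33670))).symm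
theorem F90452 : act 0 n27859 = n18263 := (sb E8387 (iv1 D38225))
theorem F90453 : act 1 n27859 = n18437 := (sb E8387 F59091)
theorem E8388 : n38767 = n38224 := ((c15_2 F90453 F59087 (iv7 D38767) (iv2 F61097))).symm
theorem F90454 : act 2 n38224 = n18436 := (sb E8388 F59669)
theorem F90455 : act 4 n38224 = n40261 := (sb E8388 (iv4 F61243))
theorem F90458 : act 2 n57303 = n27573 := d2_3 (iv5 D27573) F90421 D57303
theorem F90459 : act 2 n57304 = n27574 := d3_3 (iv6 D27574) F90421 D57304
theorem F90460 : act 7 n27566 = n57302 := d8_2 F90420 D27566 (iv3 D57302)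
theorem F90461 : act 7 n27568 = n57303 := d13_2 F90420 D27568 (iv5 D57303)
theorem F90462 : act 2 n57299 = n27568 := d4_3 F90461 F90458 (iv7 F90425)
theorem F90463 : act 2 n27569 = n57300 := d3_3 (iv6 D57300) F90419 D27569
theorem F90464 : act 3 n55503 = n27830 := d8_1 F90406 F61279 (iv3 F60550)
theorem F90465 : act 2 n39659 = n55502 := d15_3 (iv0 D55502) D55503 (iv7 F90406)
theorem F90466 : act 5 n55502 = n27611 := d2_2 D39659 F90465 F90407
def n57311 : Q := act 5 n27440
theorem D57311 : act 5 n27440 = n57311 := rfl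
theorem F90469 : act 7 n57311 = n27615 := d13_2 (iv7 F44538) D57311 (iv5 D27615)
def n57312 : Q := act 0 n27441
theorem D57312 : act 0 n27441 = n57312 := rfl
theorem F90470 : act 1 n27445 = n57312 := d15_0 (iv0 D57312) F44540 (iv2 F44531)
def n57313 : Q := act 1 n27441
theorem D57313 : act 1 n27441 = n57313 := rfl
theorem F90471 : act 1 n57313 = n27445 := d15_1 D57313 F44532 (iv2 F44539)
theorem F90472 : act 4 n57313 = n40254 := d20_2 D27445 (iv1 F90471) (iv3 D40254) (iv1 D19020) (iv3 D8906) (iv4 F28967) (iv1 F9811) F9807 (iv3 F9760) (iv1 F21911)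
def n57314 : Q := act 3 n27441
theorem D57314 : act 3 n27441 = n57314 := rfl
theorem F90473 : act 7 n57314 = n27617 := d8_2 (iv7 F44540) D57314 (iv3 D27617)
def n57315 : Q := act 5 n27441
theorem D57315 : act 5 n27441 = n57315 := rfl
theorem F90474 : act 2 n57315 = n27599 := d2_1 D57315 (iv5 D27599) (iv2 F44539)
theorem F90475 : act 7 n57315 = n27618 := d13_2 (iv7 F44540) D57315 (iv5 D27618)
def n57316 : Q := act 4 n27442
theorem D57316 : act 4 n27442 = n57316 := rfl
theorem F90476 : act 2 n57316 = n27604 := d1_1 D57316 (iv4 D27604) (iv2 F44541)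
theorem F90477 : act 7 n57316 = n27620 := d11_2 (iv7 F44542) D57316 (iv4 D27620)
def n57317 : Q := act 1 n27444
theorem D57317 : act 1 n27444 = n57317 := rfl
theorem F90478 : act 7 n57317 = n27590 := d15_2 (iv0 F60938) D57317 F61229
theorem F90479 : act 3 n38224 = n57317 := d20_3 D19022 D40261 (iv4 F90455) (iv1 D57317) (iv3 D27444) D27445 (iv1 F90471) F90472 (iv3 D40254) (iv1 D19020)
theorem F90480 : act 2 n57317 = n27864 := d0_1 F90479 (iv3 D27864) (iv2 F61088) (iv3 F60792) (iv2 F90454)
theorem E8389 : n27864 = n27589 := (c15_4 (iv0 D27589) D27590 (iv7 F90478) F90480)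
theorem F90481 : act 2 n27589 = n57317 := (sb E8389 (iv2 F90480))
theorem F90482 : act 3 n27589 = n13288 := (sb E8389 (iv3 D27864))
theorem F90483 : act 4 n27589 = n40178 := (sb E8389 (iv4 F61076))
theorem F90485 : act 7 n27589 = n18722 := (sb E8389 F61087)
theorem F90486 : act 1 n57317 = n27591 := d15_0 F60937 (iv7 F90485) F90481
def n57318 : Q := act 2 n27444
theorem D57318 : act 2 n27444 = n57318 := rfl
theorem F90487 : act 3 n57318 = n27613 := d0_2 D27444 D57318 (iv2 D27613) (iv3 D13188) F44529
theorem F90488 : act 4 n57318 = n40049 := d1_2 (iv4 F44362) D57318 (iv2 F60931)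
theorem F90490 : act 1 n57318 = n27589 := d15_0 (iv0 D27589) (iv7 F44530) D57318
theorem F90491 : act 1 n27590 = n57318 := d15_0 F90490 F90485 (iv2 F61229)
def n57319 : Q := act 6 n27444
theorem D57319 : act 6 n27444 = n57319 := rfl
theorem F90492 : act 3 n57319 = n27446 := d7_1 D57319 (iv6 D27446) D27444
theorem F90493 : act 4 n57319 = n40160 := d10_1 D57319 (iv6 D40160) (iv4 F44362)
def n57320 : Q := act 3 n27445
theorem D57320 : act 3 n27445 = n57320 := rfl
theorem F90494 : act 4 n57320 = n40158 := d5_2 D27445 D57320 (iv3 D40158) (iv4 F44362) (iv3 D27444)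
theorem F90495 : act 7 n57320 = n27598 := d8_2 (iv7 F44532) D57320 (iv3 D27598)
def n57321 : Q := act 5 n27445
theorem D57321 : act 5 n27445 = n57321 := rfl
theorem F90496 : act 2 n57321 = n27618 := d2_1 D57321 (iv5 D27618) (iv2 F44531)
theorem F90497 : act 7 n57321 = n27599 := d13_2 (iv7 F44532) D57321 (iv5 D27599)
def n57322 : Q := act 6 n27445
theorem D57322 : act 6 n27445 = n57322 := rfl
theorem F90498 : act 2 n57322 = n27619 := d3_1 D57322 (iv6 D27619) (iv2 F44531)
theorem F90499 : act 4 n57322 = n27446 := d10_1 D57322 (iv6 D27446) D27445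
def n57323 : Q := act 0 n27447
theorem D57323 : act 0 n27447 = n57323 := rfl
theorem F90500 : act 5 n57323 = n54633 := d17_1 D57323 (iv1 F86365) (iv5 F61836) (iv4 F87646) F87647 F86362 (iv5 F44376) (iv0 D27457) (iv4 F44363)
theorem F90501 : act 1 n33084 = n57323 := d15_0 (iv0 D57323) F44365 (iv2 F52308)
theorem F90502 : act 4 n33665 = n57323 := d20_0 (iv1 F90501) (iv4 F90292) F90291 (iv1 F90256) (iv3 F90250) (iv4 F46088) F46086 (iv4 D16275) D16274 D33665
theorem F90503 : act 2 n40129 = n57323 := d2_3 F90500 (iv2 F86366) (iv5 F61022)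
theorem F90504 : act 7 n40128 = n57323 := d13_0 F90500 (iv7 F86367) (iv5 F61019)
def n57324 : Q := act 1 n27447
theorem D57324 : act 1 n27447 = n57324 := rfl
theorem F90505 : act 1 n57324 = n33084 := d15_1 D57324 (iv7 F55553) F55551
theorem F90506 : act 7 n57324 = n40129 := d15_2 (iv0 D57323) D57324 F90503
theorem F90507 : act 5 n57324 = n54634 := d17_7 F27276 F9352 D6128 F35185 D15953 (iv5 F44364) D57324 F86368 (iv4 D26428)
theorem F90508 : act 2 n40128 = n57324 := d2_3 F90507 (iv2 F86371) (iv5 F61019)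
theorem F90509 : act 4 n33666 = n57324 := d18_7 (iv1 F52301) F52302 (iv1 D32657) F42303 F52942 (iv4 D33668) D33666 F90505 (iv5 D33084)
theorem F90510 : act 3 n57265 = n33666 := d20_5 F21922 (iv1 F27945) F27946 D27426 D57265 F90509 (iv1 D57324) F44363 (iv3 D13142) D13140
def n57325 : Q := act 6 n27447
theorem D57325 : act 6 n27447 = n57325 := rfl
theorem F90511 : act 3 n57325 = n27448 := d7_1 D57325 (iv6 D27448) D27447
theorem F90512 : act 4 n57325 = n27461 := d10_1 D57325 (iv6 D27461) (iv4 F44363)
def n57326 : Q := act 0 n27448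
theorem D57326 : act 0 n27448 = n57326 := rfl
def n57327 : Q := act 1 n27448
theorem D57327 : act 1 n27448 = n57327 := rfl
def n57328 : Q := act 5 n27448
theorem D57328 : act 5 n27448 = n57328 := rfl
theorem F90514 : act 2 n57328 = n40126 := d2_1 D57328 (iv5 D40126) (iv2 F44366)
def n57329 : Q := act 7 n27448
theorem D57329 : act 7 n27448 = n57329 := rfl
theorem F90515 : act 2 n57329 = n40127 := d4_1 D57329 (iv7 D40127) (iv2 F44366)
theorem F90516 : act 4 n57329 = n27452 := d11_1 D57329 (iv7 D27452) (iv4 F44367)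
theorem F90518 : act 1 n40127 = n57326 := d15_0 (iv0 D57326) D57329 F90515
theorem F90519 : act 1 n40125 = n57329 := d15_1 D40125 (iv7 D57329) F44366
def n57330 : Q := act 2 n27449
theorem D57330 : act 2 n27449 = n57330 := rfl
theorem F90521 : act 7 n27450 = n57330 := d15_2 (iv0 D27449) D27450 (iv2 D57330)
def n57331 : Q := act 3 n27449
theorem D57331 : act 3 n27449 = n57331 := rfl
def n57332 : Q := act 4 n27449
theorem D57332 : act 4 n27449 = n57332 := rfl
def n57333 : Q := act 5 n27449
theorem D57333 : act 5 n27449 = n57333 := rfl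
def n57334 : Q := act 7 n27449
theorem D57334 : act 7 n27449 = n57334 := rfl
theorem F90522 : act 2 n57334 = n27450 := d4_1 D57334 F90521 (iv2 D57330)
def n57335 : Q := act 3 n27450
theorem D57335 : act 3 n27450 = n57335 := rfl
def n57336 : Q := act 4 n27450
theorem D57336 : act 4 n27450 = n57336 := rfl
def n57337 : Q := act 5 n27450
theorem D57337 : act 5 n27450 = n57337 := rfl
def n57338 : Q := act 6 n27450
theorem D57338 : act 6 n27450 = n57338 := rfl
def n57339 : Q := act 0 n27451
theorem D57339 : act 0 n27451 = n57339 := rfl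
def n57340 : Q := act 1 n27451
theorem D57340 : act 1 n27451 = n57340 := rfl
def n57341 : Q := act 4 n27451
theorem D57341 : act 4 n27451 = n57341 := rfl
theorem F90523 : act 6 n57341 = n36420 := d10_2 (iv6 F44369) D57341 F57186
def n57342 : Q := act 7 n27451
theorem D57342 : act 7 n27451 = n57342 := rfl
theorem F90524 : act 3 n57342 = n27482 := d8_1 D57342 (iv7 D27482) (iv3 F44368)
theorem F90525 : act 5 n57342 = n27452 := d13_1 D57342 (iv7 D27452) D27451
def n57343 : Q := act 0 n27453
theorem D57343 : act 0 n27453 = n57343 := rfl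
theorem F90526 : act 3 n57343 = n38195 := d20_5 (iv4 F27956) F27955 (iv4 F21922) D27453 D57343 (iv4 D38195) (iv1 D18253) (iv4 F21907) (iv3 D13132) D13130
theorem F90527 : act 1 n38596 = n57343 := d15_0 (iv0 D57343) (iv7 F56134) (iv2 F59411)
def n57344 : Q := act 1 n27453
theorem D57344 : act 1 n27453 = n57344 := rfl
def n57345 : Q := act 2 n27453
theorem D57345 : act 2 n27453 = n57345 := rfl
theorem F90528 : act 3 n57345 = n33629 := d0_2 D27453 D57345 F89999 (iv3 D56932) F44215
theorem F90529 : act 4 n57345 = n34559 := d1_2 (iv4 F44371) D57345 F54817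
theorem F90530 : act 7 n57345 = n38596 := d4_2 F56134 D57345 F59411
theorem F90531 : act 1 n57344 = n38596 := d15_1 D57344 (iv7 F90530) (iv2 D57345)
def n57346 : Q := act 6 n27453
theorem D57346 : act 6 n27453 = n57346 := rfl
theorem F90532 : act 3 n57346 = n27454 := d7_1 D57346 (iv6 D27454) D27453
theorem F90533 : act 4 n57346 = n56048 := d10_1 D57346 (iv6 D56048) (iv4 F44371)
def n57347 : Q := act 0 n27454
theorem D57347 : act 0 n27454 = n57347 := rfl
def n57348 : Q := act 1 n27454
theorem D57348 : act 1 n27454 = n57348 := rfl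
def n57349 : Q := act 5 n27454
theorem D57349 : act 5 n27454 = n57349 := rfl
def n57350 : Q := act 7 n27454
theorem D57350 : act 7 n27454 = n57350 := rfl
theorem F90534 : act 4 n57350 = n56047 := d11_1 D57350 (iv7 D56047) (iv4 F44372)
def n57351 : Q := act 1 n27455
theorem D57351 : act 1 n27455 = n57351 := rfl
theorem F90535 : act 1 n57351 = n33629 := d15_1 D57351 (iv7 F52918) F44375
theorem F90536 : act 7 n57351 = n33630 := d15_2 (iv0 F44374) D57351 (iv2 D33630)
theorem F90537 : act 2 n27766 = n57351 := d4_3 F90536 (iv2 D33630) (iv7 F44847)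
theorem F90538 : act 3 n57351 = n33598 := d0_2 D27766 F90537 (iv2 D33598) (iv3 D16242) (iv2 F27171)
def n57352 : Q := act 6 n27455
theorem D57352 : act 6 n27455 = n57352 := rfl
theorem F90539 : act 2 n57352 = n46278 := d3_1 D57352 (iv6 D46278) F44375
theorem F90540 : act 3 n57352 = n27456 := d7_1 D57352 (iv6 D27456) D27455
theorem F90541 : act 4 n57352 = n39105 := d10_1 D57352 (iv6 D39105) (iv4 F44373)
def n57353 : Q := act 0 n27456
theorem D57353 : act 0 n27456 = n57353 := rfl
def n57354 : Q := act 1 n27456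
theorem D57354 : act 1 n27456 = n57354 := rfl
def n57355 : Q := act 5 n27456
theorem D57355 : act 5 n27456 = n57355 := rfl
def n57356 : Q := act 7 n27456
theorem D57356 : act 7 n27456 = n57356 := rfl
def n57357 : Q := act 3 n27457
theorem D57357 : act 3 n27457 = n57357 := rfl
theorem F90542 : act 5 n57357 = n48714 := d6_2 (iv5 F44376) D57357 F76686
theorem F90543 : act 7 n57357 = n33596 := d8_2 F55266 D57357 (iv3 F55265)
theorem F90544 : act 0 n27756 = n57357 := d20_4 F9755 D6292 D13250 D27756 (iv3 D57357) (iv4 F52997) (iv1 F52999) F52315 (iv3 D27541) (iv1 D13168)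
theorem F90545 : act 1 n33598 = n57357 := d15_0 (iv0 F90544) F44815 D33598
theorem F90546 : act 2 n57357 = n33597 := d16_9 (iv4 F83711) (iv5 D52983) (iv4 D25719) F20210 F18240 D12157 D25573 (iv5 F52889) (iv7 F90543)
def n57358 : Q := act 6 n27457
theorem D57358 : act 6 n27457 = n57358 := rfl
def n57359 : Q := act 3 n27458
theorem D57359 : act 3 n27458 = n57359 := rfl
theorem F90547 : act 4 n57359 = n55703 := d5_2 F44377 D57359 (iv3 D55703) (iv4 D26897) (iv3 F42682)
theorem F90548 : act 0 n57359 = n38190 := d20_10 (iv4 D38190) (iv1 F42514) F42510 (iv3 D16221) (iv1 F21946) D27541 (iv4 F52315) F52316 F44377 D57359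
theorem F90549 : act 0 n38195 = n57359 := d18_2 (iv1 F42512) D38195 F90547 F88150 F43663 D36063 (iv4 F71077) F59064 F42513
def n57360 : Q := act 6 n27458
theorem D57360 : act 6 n27458 = n57360 := rfl
theorem F90550 : act 4 n57360 = n55108 := d10_1 D57360 (iv6 D55108) F44377
def n57361 : Q := act 6 n27459
theorem D57361 : act 6 n27459 = n57361 := rfl
theorem F90551 : act 2 n57361 = n27461 := d3_1 D57361 (iv6 D27461) D27459
def n57362 : Q := act 6 n27460
theorem D57362 : act 6 n27460 = n57362 := rfl
theorem F90552 : act 3 n57362 = n27464 := d7_1 D57362 (iv6 D27464) (iv3 F44378)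
theorem F90553 : act 4 n57362 = n55991 := d10_1 D57362 (iv6 D55991) (iv4 F44379)
def n57363 : Q := act 0 n27461
theorem D57363 : act 0 n27461 = n57363 := rfl
def n57364 : Q := act 1 n27461
theorem D57364 : act 1 n27461 = n57364 := rfl
def n57365 : Q := act 5 n27461
theorem D57365 : act 5 n27461 = n57365 := rfl
theorem F90554 : act 3 n57365 = n27467 := d6_1 D57365 (iv5 D27467) (iv3 F44380)
def n57366 : Q := act 7 n27461
theorem D57366 : act 7 n27461 = n57366 := rfl
theorem F90555 : act 3 n57366 = n27468 := d8_1 D57366 (iv7 D27468) (iv3 F44380)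
def n57367 : Q := act 3 n27462
theorem D57367 : act 3 n27462 = n57367 := rfl
theorem F90556 : act 5 n57367 = n36533 := d6_2 (iv5 F44381) D57367 (iv3 D36533)
theorem F90557 : act 7 n57367 = n56965 := d8_2 F44385 D57367 F90046
def n57368 : Q := act 6 n27462
theorem D57368 : act 6 n27462 = n57368 := rfl
theorem F90558 : act 2 n57368 = n56974 := d3_1 D57368 (iv6 D56974) F44384
theorem F90559 : act 4 n57368 = n56967 := d10_1 D57368 (iv6 D56967) (iv4 F44382)
def n57369 : Q := act 6 n27463
theorem D57369 : act 6 n27463 = n57369 := rfl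
theorem F90560 : act 2 n57369 = n56967 := d3_1 D57369 (iv6 D56967) F44390
theorem F90561 : act 4 n57369 = n56974 := d10_1 D57369 (iv6 D56974) (iv4 F44389)
def n57370 : Q := act 0 n27464
theorem D57370 : act 0 n27464 = n57370 := rfl
def n57371 : Q := act 1 n27464
theorem D57371 : act 1 n27464 = n57371 := rfl
def n57372 : Q := act 5 n27464
theorem D57372 : act 5 n27464 = n57372 := rfl
theorem F90562 : act 6 n57372 = n27467 := d12_2 D27464 D57372 (iv5 D27467) (iv6 D13144) D13143
def n57373 : Q := act 7 n27464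
theorem D57373 : act 7 n27464 = n57373 := rfl
def n57374 : Q := act 2 n27465
theorem D57374 : act 2 n27465 = n57374 := rfl
theorem F90563 : act 7 n27466 = n57374 := d15_2 (iv0 D27465) D27466 (iv2 D57374)
def n57375 : Q := act 3 n27465
theorem D57375 : act 3 n27465 = n57375 := rfl
def n57376 : Q := act 4 n27465
theorem D57376 : act 4 n27465 = n57376 := rfl
def n57377 : Q := act 5 n27465
theorem D57377 : act 5 n27465 = n57377 := rfl
def n57378 : Q := act 6 n27465
theorem D57378 : act 6 n27465 = n57378 := rfl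
def n57379 : Q := act 7 n27465
theorem D57379 : act 7 n27465 = n57379 := rfl
theorem F90564 : act 2 n57379 = n27466 := d4_1 D57379 F90563 (iv2 D57374)
def n57380 : Q := act 3 n27466
theorem D57380 : act 3 n27466 = n57380 := rfl
def n57381 : Q := act 4 n27466
theorem D57381 : act 4 n27466 = n57381 := rfl
def n57382 : Q := act 5 n27466
theorem D57382 : act 5 n27466 = n57382 := rfl
def n57383 : Q := act 6 n27466
theorem D57383 : act 6 n27466 = n57383 := rfl
def n57384 : Q := act 0 n27467
theorem D57384 : act 0 n27467 = n57384 := rfl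
def n57385 : Q := act 1 n27467
theorem D57385 : act 1 n27467 = n57385 := rfl
theorem F90565 : act 5 n57127 = n57385 := d21_6 (iv5 F44245) (iv1 F44246) (iv5 D13117) D13118 D27384 D57127 (iv1 D57385) (iv5 D27467) (iv6 D13144) D13140
def n57386 : Q := act 4 n27467
theorem D57386 : act 4 n27467 = n57386 := rfl
def n57387 : Q := act 7 n27467
theorem D57387 : act 7 n27467 = n57387 := rfl
def n57391 : Q := act 4 n27469
theorem D57391 : act 4 n27469 = n57391 := rfl
theorem F90570 : act 2 n57391 = n27471 := d1_1 D57391 (iv4 D27471) D27469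
theorem F90571 : act 7 n57391 = n27476 := d11_2 F44392 D57391 (iv4 D27476)
def n57392 : Q := act 5 n27469
theorem D57392 : act 5 n27469 = n57392 := rfl
theorem F90572 : act 2 n57392 = n27472 := d2_1 D57392 (iv5 D27472) D27469
theorem F90573 : act 7 n57392 = n27477 := d13_2 F44392 D57392 (iv5 D27477)
def n57393 : Q := act 6 n27469
theorem D57393 : act 6 n27469 = n57393 := rfl
theorem F90574 : act 2 n57393 = n27473 := d3_1 D57393 (iv6 D27473) D27469
theorem F90575 : act 5 n55419 = n57393 := d2_0 F90574 F44393 (iv2 F87717)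
theorem F90576 : act 7 n27621 = n57393 := d15_2 (iv0 F44503) (iv0 F44520) F90574
def n57398 : Q := act 5 n27470
theorem D57398 : act 5 n27470 = n57398 := rfl
theorem F90577 : act 3 n57398 = n27472 := d6_1 D57398 (iv5 D27472) D27470
def n57399 : Q := act 6 n27470
theorem D57399 : act 6 n27470 = n57399 := rfl
theorem F90578 : act 3 n57399 = n27473 := d7_1 D57399 (iv6 D27473) D27470
theorem F90579 : act 5 n55420 = n57399 := d6_0 F90578 F44393 D55420
def n57400 : Q := act 7 n27470
theorem D57400 : act 7 n27470 = n57400 := rfl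
theorem F90580 : act 3 n57400 = n27474 := d8_1 D57400 (iv7 D27474) D27470
def n57402 : Q := act 1 n27471
theorem D57402 : act 1 n27471 = n57402 := rfl
theorem F90581 : act 1 n57402 = n27476 := d15_1 D57402 (iv7 F90571) F90570
def n57403 : Q := act 3 n27471
theorem D57403 : act 3 n27471 = n57403 := rfl
def n57404 : Q := act 5 n27471
theorem D57404 : act 5 n27471 = n57404 := rfl
def n57405 : Q := act 6 n27471
theorem D57405 : act 6 n27471 = n57405 := rfl
theorem F90582 : act 4 n57405 = n27473 := d10_1 D57405 (iv6 D27473) D27471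
def n57406 : Q := act 7 n27471
theorem D57406 : act 7 n27471 = n57406 := rfl
theorem F90583 : act 2 n57406 = n27476 := d4_1 D57406 (iv7 F90571) F90570
theorem F90584 : act 4 n57406 = n27474 := d11_1 D57406 (iv7 D27474) D27471
def n57407 : Q := act 1 n27472
theorem D57407 : act 1 n27472 = n57407 := rfl
theorem F90586 : act 1 n57407 = n27477 := d15_1 D57407 (iv7 F90573) F90572
def n57408 : Q := act 4 n27472
theorem D57408 : act 4 n27472 = n57408 := rfl
def n57409 : Q := act 6 n27472
theorem D57409 : act 6 n27472 = n57409 := rfl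
theorem F90587 : act 5 n57409 = n55422 := d12_1 D57409 (iv6 D55422) (iv5 F44393) (iv6 D27473) D27472
theorem F90588 : act 0 n57409 = n27633 := d21_10 (iv5 D27633) (iv1 D13194) D13195 F21974 F21245 (iv6 F21926) (iv5 D13147) D13145 D27472 D57409
theorem F90589 : act 0 n27634 = n57180 := d21_10 (iv5 D57180) F87683 F87679 F43008 (iv1 F43020) D55422 (iv5 F90587) F90588 (iv5 D27633) D27634
theorem F90590 : act 0 n27628 = n57409 := d21_1 D27628 F90587 (iv6 D55422) (iv1 D26771) (iv6 D12809) F14013 F6466 (iv5 F4224) D6272 D13193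
def n57410 : Q := act 7 n27472
theorem D57410 : act 7 n27472 = n57410 := rfl
theorem F90591 : act 2 n57410 = n27477 := d4_1 D57410 (iv7 F90573) F90572
theorem F90592 : act 5 n57410 = n27474 := d13_1 D57410 (iv7 D27474) D27472
theorem F90593 : act 1 n27477 = n55513 := d15_0 (iv0 F87796) D57410 F90591
def n57411 : Q := act 7 n27473
theorem D57411 : act 7 n27473 = n57411 := rfl
def n57412 : Q := act 6 n27474
theorem D57412 : act 6 n27474 = n57412 := rfl
theorem F90596 : act 2 n57412 = n27478 := d3_1 D57412 (iv6 D27478) (iv2 F44394)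
def n57417 : Q := act 5 n27475
theorem D57417 : act 5 n27475 = n57417 := rfl
theorem F90597 : act 3 n57417 = n27477 := d6_1 D57417 (iv5 D27477) D27475
def n57418 : Q := act 6 n27475
theorem D57418 : act 6 n27475 = n57418 := rfl
theorem F90598 : act 3 n57418 = n27478 := d7_1 D57418 (iv6 D27478) D27475
def n57419 : Q := act 3 n27476
theorem D57419 : act 3 n27476 = n57419 := rfl
def n57420 : Q := act 5 n27476
theorem D57420 : act 5 n27476 = n57420 := rfl
def n57421 : Q := act 6 n27476
theorem D57421 : act 6 n27476 = n57421 := rfl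
theorem F90599 : act 4 n57421 = n27478 := d10_1 D57421 (iv6 D27478) D27476
def n57422 : Q := act 4 n27477
theorem D57422 : act 4 n27477 = n57422 := rfl
def n57423 : Q := act 6 n27477
theorem D57423 : act 6 n27477 = n57423 := rfl
theorem F90600 : act 0 n27643 = n57423 := d21_4 (iv5 D17050) (iv1 F12741) D13200 D27643 (iv6 D57423) (iv5 D27477) (iv1 D13146) D13147 F21926 F27974
def n57424 : Q := act 0 n27478
theorem D57424 : act 0 n27478 = n57424 := rfl
def n57425 : Q := act 1 n27478
theorem D57425 : act 1 n27478 = n57425 := rfl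
def n57426 : Q := act 5 n27478
theorem D57426 : act 5 n27478 = n57426 := rfl
def n57427 : Q := act 7 n27478
theorem D57427 : act 7 n27478 = n57427 := rfl
theorem F90601 : act 6 n57427 = n27621 := d14_1 D57427 F90576 (iv6 D57393) (iv7 F44392) D27478
theorem F90602 : act 0 n57427 = n27629 := d21_4 F21266 D26770 (iv5 F44519) (iv6 F90601) (iv6 D27629) D27628 F90590 F90587 (iv6 D55422) (iv1 D26771)
theorem F90603 : act 1 n57412 = n27629 := d15_0 (iv0 F90602) (iv7 D57427) (iv2 F90596)
def n57428 : Q := act 2 n27479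
theorem D57428 : act 2 n27479 = n57428 := rfl
theorem F90604 : act 7 n27480 = n57428 := d15_2 (iv0 D27479) D27480 (iv2 D57428)
theorem F90605 : act 5 n57428 = n57163 := d13_1 F90604 (iv7 D57163) F44395
def n57429 : Q := act 3 n27479
theorem D57429 : act 3 n27479 = n57429 := rfl
def n57430 : Q := act 4 n27479
theorem D57430 : act 4 n27479 = n57430 := rfl
def n57431 : Q := act 5 n27479
theorem D57431 : act 5 n27479 = n57431 := rfl
theorem F90606 : act 2 n57431 = n57163 := d2_1 D57431 (iv5 F90605) (iv2 D57428)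
theorem F90607 : act 6 n57431 = n55492 := d12_2 (iv6 F44412) D57431 F87783 (iv6 D27510) D27509
theorem F90608 : act 7 n57142 = n57431 := d4_0 F90606 (iv7 D57163) (iv2 F90177)
theorem F90609 : act 1 n57431 = n57161 := d15_0 (iv0 D57161) D57163 (iv2 F90606)
theorem E8390 : n57176 = n55492 := ((c14_2 F90608 F90607 (iv7 D57176) (iv6 D27397) F44278 D57142)).symm
theorem F90610 : act 7 n55492 = n27397 := (sb E8390 (iv7 D57176))
theorem F90611 : act 1 n57162 = n57431 := d15_1 D57162 (iv7 F90608) F90177
theorem F90612 : act 7 n27602 = n27510 := d13_2 F90610 (iv5 F44500) (iv5 F87783)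
theorem E8391 : n57164 = n55493 := (c15_4 F87784 F87788 F90610 (iv2 F90193))
theorem F90613 : act 2 n55493 = n27397 := (sb E8391 F90193)
theorem F90614 : act 6 n55493 = n27393 := (sb E8391 (iv6 D57164))
theorem F90615 : act 2 n27510 = n27603 := d15_3 F44501 F44506 F90612
theorem F90616 : act 6 n27603 = n27506 := d3_2 D27510 F90615 F44411
def n57432 : Q := act 7 n27479
theorem D57432 : act 7 n27479 = n57432 := rfl
theorem F90617 : act 2 n57432 = n27480 := d4_1 D57432 F90604 (iv2 D57428)
theorem F90618 : act 5 n57432 = n57142 := d13_1 D57432 F90608 (iv5 D57431)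
def n57433 : Q := act 3 n27480
theorem D57433 : act 3 n27480 = n57433 := rfl
theorem F90619 : act 5 n57433 = n57148 := d6_2 F44395 D57433 F90179
def n57434 : Q := act 4 n27480
theorem D57434 : act 4 n27480 = n57434 := rfl
def n57435 : Q := act 6 n27480
theorem D57435 : act 6 n27480 = n57435 := rfl
theorem F90620 : act 5 n57435 = n57159 := d12_1 D57435 (iv6 D57159) (iv5 D27391) D27392 F44395
def n57436 : Q := act 0 n27481
theorem D57436 : act 0 n27481 = n57436 := rfl
def n57437 : Q := act 1 n27481
theorem D57437 : act 1 n27481 = n57437 := rfl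
def n57438 : Q := act 3 n27481
theorem D57438 : act 3 n27481 = n57438 := rfl
theorem F90621 : act 6 n57438 = n55348 := d7_2 (iv6 F44396) D57438 (iv3 D55348)
def n57439 : Q := act 5 n27481
theorem D57439 : act 5 n27481 = n57439 := rfl
def n57440 : Q := act 7 n27481
theorem D57440 : act 7 n27481 = n57440 := rfl
theorem F90622 : act 4 n57440 = n27482 := d11_1 D57440 (iv7 D27482) D27481
def n57441 : Q := act 6 n27482
theorem D57441 : act 6 n27482 = n57441 := rfl
theorem F90623 : act 7 n57441 = n35139 := d14_2 D27482 D57441 (iv6 D35139) F27994 (iv6 F21926)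
def n57442 : Q := act 0 n27483
theorem D57442 : act 0 n27483 = n57442 := rfl
def n57443 : Q := act 1 n27483
theorem D57443 : act 1 n27483 = n57443 := rfl
theorem F90624 : act 1 n57443 = n27490 := d15_1 D57443 (iv7 D27490) (iv2 F44398)
def n57444 : Q := act 5 n27483
theorem D57444 : act 5 n27483 = n57444 := rfl
theorem F90627 : act 6 n57444 = n34475 := d12_2 D27483 D57444 (iv5 D34475) (iv6 D16727) (iv5 F21928)
def n57445 : Q := act 7 n27483
theorem D57445 : act 7 n27483 = n57445 := rfl
theorem F90628 : act 2 n57445 = n27490 := d4_1 D57445 (iv7 D27490) (iv2 F44398)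
theorem F90629 : act 3 n57445 = n42058 := d8_1 D57445 (iv7 D42058) (iv3 F44399)
theorem F90630 : act 1 n27490 = n57442 := d15_0 (iv0 D57442) D57445 F90628
theorem F90631 : act 1 n27488 = n57445 := d15_1 D27488 (iv7 D57445) F44398
theorem F90632 : act 1 n57445 = n27487 := d15_0 (iv0 D27487) D27490 (iv2 F90628)
def n57446 : Q := act 0 n27484
theorem D57446 : act 0 n27484 = n57446 := rfl
theorem F90633 : act 3 n57446 = n41137 := d20_5 (iv4 F21640) F21639 D13150 D27484 D57446 F62346 (iv1 D35371) (iv4 F43320) (iv3 D26870) (iv1 F21343)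
def n57447 : Q := act 1 n27484
theorem D57447 : act 1 n27484 = n57447 := rfl
def n57448 : Q := act 2 n27484
theorem D57448 : act 2 n27484 = n57448 := rfl
theorem F90634 : act 4 n57448 = n27493 := d1_2 (iv4 F44400) D57448 (iv2 D27493)
def n57449 : Q := act 5 n27484
theorem D57449 : act 5 n27484 = n57449 := rfl
theorem F90635 : act 3 n57449 = n27485 := d6_1 D57449 (iv5 D27485) D27484
def n57450 : Q := act 6 n27484
theorem D57450 : act 6 n27484 = n57450 := rfl
def n57451 : Q := act 6 n27485
theorem D57451 : act 6 n27485 = n57451 := rfl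
def n57452 : Q := act 0 n27486
theorem D57452 : act 0 n27486 = n57452 := rfl
def n57453 : Q := act 1 n27486
theorem D57453 : act 1 n27486 = n57453 := rfl
def n57454 : Q := act 5 n27486
theorem D57454 : act 5 n27486 = n57454 := rfl
def n57455 : Q := act 7 n27486
theorem D57455 : act 7 n27486 = n57455 := rfl
theorem F90638 : act 4 n57455 = n27490 := d11_1 D57455 (iv7 D27490) (iv4 F44403)
def n57456 : Q := act 2 n27487
theorem D57456 : act 2 n27487 = n57456 := rfl
theorem F90639 : act 7 n27488 = n57456 := d15_2 (iv0 D27487) D27488 (iv2 D57456)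
def n57457 : Q := act 3 n27487
theorem D57457 : act 3 n27487 = n57457 := rfl
def n57458 : Q := act 4 n27487
theorem D57458 : act 4 n27487 = n57458 := rfl
def n57459 : Q := act 5 n27487
theorem D57459 : act 5 n27487 = n57459 := rfl
def n57460 : Q := act 6 n27487
theorem D57460 : act 6 n27487 = n57460 := rfl
def n57461 : Q := act 7 n27487
theorem D57461 : act 7 n27487 = n57461 := rfl
theorem F90640 : act 2 n57461 = n27488 := d4_1 D57461 F90639 (iv2 D57456)
def n57462 : Q := act 3 n27488
theorem D57462 : act 3 n27488 = n57462 := rfl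
def n57463 : Q := act 4 n27488
theorem D57463 : act 4 n27488 = n57463 := rfl
def n57464 : Q := act 5 n27488
theorem D57464 : act 5 n27488 = n57464 := rfl
def n57466 : Q := act 0 n27489
theorem D57466 : act 0 n27489 = n57466 := rfl
def n57467 : Q := act 1 n27489
theorem D57467 : act 1 n27489 = n57467 := rfl
def n57468 : Q := act 4 n27489
theorem D57468 : act 4 n27489 = n57468 := rfl
theorem F90641 : act 6 n57468 = n55350 := d10_2 (iv6 F44405) D57468 (iv4 D55350)
def n57469 : Q := act 7 n27489
theorem D57469 : act 7 n27489 = n57469 := rfl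
theorem F90642 : act 3 n57469 = n27514 := d8_1 D57469 (iv7 D27514) (iv3 F44404)
theorem F90643 : act 5 n57469 = n27490 := d13_1 D57469 (iv7 D27490) D27489
def n57470 : Q := act 3 n27491
theorem D57470 : act 3 n27491 = n57470 := rfl
theorem F90644 : act 2 n57470 = n33593 := d0_1 D57470 (iv3 D33593) F44814 F90250 F90254
def n57471 : Q := act 4 n27491
theorem D57471 : act 4 n27491 = n57471 := rfl
theorem F90645 : act 2 n57471 = n33767 := d1_1 D57471 F90251 F90254
def n57472 : Q := act 5 n27491
theorem D57472 : act 5 n27491 = n57472 := rfl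
def n57473 : Q := act 6 n27491
theorem D57473 : act 6 n27491 = n57473 := rfl
def n57474 : Q := act 5 n27492
theorem D57474 : act 5 n27492 = n57474 := rfl
theorem F90646 : act 3 n57474 = n33449 := d6_1 D57474 F52739 F52659
theorem F90647 : act 4 n57474 = n35069 := d20_6 F55665 F55357 F56749 F52847 (iv1 F52738) (iv3 F90646) (iv1 D35069) (iv4 F55666) (iv3 D35050) D35048
def n57475 : Q := act 6 n27492
theorem D57475 : act 6 n27492 = n57475 := rfl
theorem F90648 : act 3 n57475 = n33595 := d7_1 D57475 (iv6 D33595) F52659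
def n57476 : Q := act 5 n27493
theorem D57476 : act 5 n27493 = n57476 := rfl
theorem F90649 : act 2 n57476 = n27494 := d2_1 D57476 (iv5 D27494) D27493
theorem F90650 : act 3 n57476 = n33061 := d6_1 D57476 (iv5 F90293) F90291
def n57477 : Q := act 6 n27493
theorem D57477 : act 6 n27493 = n57477 := rfl
theorem F90651 : act 2 n57477 = n27495 := d3_1 D57477 (iv6 D27495) D27493
def n57478 : Q := act 0 n27494
theorem D57478 : act 0 n27494 = n57478 := rfl
def n57479 : Q := act 1 n27494
theorem D57479 : act 1 n27494 = n57479 := rfl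
def n57480 : Q := act 4 n27494
theorem D57480 : act 4 n27494 = n57480 := rfl
theorem F90652 : act 5 n37320 = n57480 := d19_1 (iv1 F71251) (iv4 D57480) F44407 (iv1 F44386) F44388 F42994 (iv3 F27373) F27375 F16672 F6871 (iv3 D3958) (iv1 D1715) D1717 D3964 D8887 D18961 (iv5 F57750) (iv4 F58267) (iv3 F71246)
theorem F90653 : act 0 n57480 = n37339 := d17_2 (iv1 F71251) F90652 F58274 (iv4 F34402) D45819 (iv0 F72369) (iv5 F72445) F72446 (iv4 F71247)
def n57481 : Q := act 6 n27494
theorem D57481 : act 6 n27494 = n57481 := rfl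
theorem F90654 : act 3 n57481 = n27496 := d7_1 D57481 (iv6 D27496) (iv3 F44407)
def n57482 : Q := act 0 n27495
theorem D57482 : act 0 n27495 = n57482 := rfl
def n57483 : Q := act 1 n27495
theorem D57483 : act 1 n27495 = n57483 := rfl
def n57484 : Q := act 5 n27495
theorem D57484 : act 5 n27495 = n57484 := rfl
theorem F90655 : act 3 n57484 = n27499 := d6_1 D57484 (iv5 D27499) (iv3 F44408)
def n57485 : Q := act 7 n27495
theorem D57485 : act 7 n27495 = n57485 := rfl
theorem F90656 : act 3 n57485 = n27500 := d8_1 D57485 (iv7 D27500) (iv3 F44408)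
def n57486 : Q := act 0 n27496
theorem D57486 : act 0 n27496 = n57486 := rfl
def n57487 : Q := act 1 n27496
theorem D57487 : act 1 n27496 = n57487 := rfl
def n57488 : Q := act 5 n27496
theorem D57488 : act 5 n27496 = n57488 := rfl
theorem F90657 : act 6 n57488 = n27499 := d12_2 D27496 D57488 (iv5 D27499) (iv6 D13154) D13153
def n57489 : Q := act 7 n27496
theorem D57489 : act 7 n27496 = n57489 := rfl
def n57490 : Q := act 2 n27497
theorem D57490 : act 2 n27497 = n57490 := rfl
theorem F90658 : act 7 n27498 = n57490 := d15_2 (iv0 D27497) D27498 (iv2 D57490)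
def n57491 : Q := act 3 n27497
theorem D57491 : act 3 n27497 = n57491 := rfl
def n57492 : Q := act 4 n27497
theorem D57492 : act 4 n27497 = n57492 := rfl
def n57493 : Q := act 5 n27497
theorem D57493 : act 5 n27497 = n57493 := rfl
def n57494 : Q := act 6 n27497
theorem D57494 : act 6 n27497 = n57494 := rfl
def n57495 : Q := act 7 n27497
theorem D57495 : act 7 n27497 = n57495 := rfl
theorem F90659 : act 2 n57495 = n27498 := d4_1 D57495 F90658 (iv2 D57490)
def n57496 : Q := act 3 n27498
theorem D57496 : act 3 n27498 = n57496 := rfl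
def n57497 : Q := act 4 n27498
theorem D57497 : act 4 n27498 = n57497 := rfl
def n57498 : Q := act 5 n27498
theorem D57498 : act 5 n27498 = n57498 := rfl
def n57499 : Q := act 6 n27498
theorem D57499 : act 6 n27498 = n57499 := rfl
def n57500 : Q := act 0 n27499
theorem D57500 : act 0 n27499 = n57500 := rfl
def n57501 : Q := act 1 n27499
theorem D57501 : act 1 n27499 = n57501 := rfl
theorem F90660 : act 5 n57001 = n57501 := d21_6 (iv5 F44248) (iv1 D27345) (iv5 D13103) D13104 D27347 D57001 (iv1 D57501) (iv5 D27499) (iv6 D13154) (iv1 F21924)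
def n57502 : Q := act 4 n27499
theorem D57502 : act 4 n27499 = n57502 := rfl
def n57503 : Q := act 7 n27499
theorem D57503 : act 7 n27499 = n57503 := rfl
theorem F90661 : act 5 n57503 = n27500 := d13_1 D57503 (iv7 D27500) D27499
def n57505 : Q := act 1 n27501
theorem D57505 : act 1 n27501 = n57505 := rfl
theorem F90663 : act 1 n57505 = n27506 := d15_1 D57505 (iv7 D27506) D27501
def n57506 : Q := act 3 n27501
theorem D57506 : act 3 n27501 = n57506 := rfl
theorem F90664 : act 7 n57506 = n27507 := d8_2 F44410 D57506 (iv3 D27507)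
def n57507 : Q := act 4 n27501
theorem D57507 : act 4 n27501 = n57507 := rfl
theorem F90665 : act 2 n57507 = n27503 := d1_1 D57507 (iv4 D27503) D27501
theorem F90666 : act 7 n57507 = n27508 := d11_2 F44410 D57507 (iv4 D27508)
def n57508 : Q := act 5 n27501
theorem D57508 : act 5 n27501 = n57508 := rfl
theorem F90667 : act 2 n57508 = n27504 := d2_1 D57508 (iv5 D27504) D27501
theorem F90668 : act 7 n57508 = n27509 := d13_2 F44410 D57508 (iv5 D27509)
def n57509 : Q := act 6 n27501
theorem D57509 : act 6 n27501 = n57509 := rfl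
theorem F90669 : act 2 n57509 = n27505 := d3_1 D57509 (iv6 D27505) D27501
def n57514 : Q := act 5 n27502
theorem D57514 : act 5 n27502 = n57514 := rfl
theorem F90670 : act 3 n57514 = n27504 := d6_1 D57514 (iv5 D27504) D27502
def n57515 : Q := act 6 n27502
theorem D57515 : act 6 n27502 = n57515 := rfl
theorem F90671 : act 3 n57515 = n27505 := d7_1 D57515 (iv6 D27505) D27502
def n57516 : Q := act 7 n27502
theorem D57516 : act 7 n27502 = n57516 := rfl
theorem F90672 : act 3 n57516 = n27506 := d8_1 D57516 (iv7 D27506) D27502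
def n57517 : Q := act 0 n27503
theorem D57517 : act 0 n27503 = n57517 := rfl
def n57518 : Q := act 1 n27503
theorem D57518 : act 1 n27503 = n57518 := rfl
theorem F90673 : act 1 n57518 = n27508 := d15_1 D57518 (iv7 F90666) F90665
def n57519 : Q := act 3 n27503
theorem D57519 : act 3 n27503 = n57519 := rfl
def n57520 : Q := act 5 n27503
theorem D57520 : act 5 n27503 = n57520 := rfl
def n57521 : Q := act 6 n27503
theorem D57521 : act 6 n27503 = n57521 := rfl
theorem F90674 : act 4 n57521 = n27505 := d10_1 D57521 (iv6 D27505) D27503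
def n57522 : Q := act 7 n27503
theorem D57522 : act 7 n27503 = n57522 := rfl
theorem F90675 : act 2 n57522 = n27508 := d4_1 D57522 (iv7 F90666) F90665
theorem F90676 : act 4 n57522 = n27506 := d11_1 D57522 (iv7 D27506) D27503
theorem F90677 : act 1 n27508 = n57517 := d15_0 (iv0 D57517) D57522 F90675
def n57523 : Q := act 0 n27504
theorem D57523 : act 0 n27504 = n57523 := rfl
def n57524 : Q := act 1 n27504
theorem D57524 : act 1 n27504 = n57524 := rfl
theorem F90678 : act 1 n57524 = n27509 := d15_1 D57524 (iv7 F90668) F90667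
def n57525 : Q := act 4 n27504
theorem D57525 : act 4 n27504 = n57525 := rfl
def n57526 : Q := act 6 n27504
theorem D57526 : act 6 n27504 = n57526 := rfl
def n57527 : Q := act 7 n27504
theorem D57527 : act 7 n27504 = n57527 := rfl
theorem F90679 : act 2 n57527 = n27509 := d4_1 D57527 (iv7 F90668) F90667
theorem F90680 : act 5 n57527 = n27506 := d13_1 D57527 (iv7 D27506) D27504
theorem F90681 : act 1 n27509 = n57523 := d15_0 (iv0 D57523) D57527 F90679
theorem F90682 : act 6 n57428 = n57527 := d3_0 F90679 (iv6 F44412) D57428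
def n57528 : Q := act 0 n27505
theorem D57528 : act 0 n27505 = n57528 := rfl
def n57529 : Q := act 1 n27505
theorem D57529 : act 1 n27505 = n57529 := rfl
def n57530 : Q := act 7 n27505
theorem D57530 : act 7 n27505 = n57530 := rfl
def n57535 : Q := act 5 n27507
theorem D57535 : act 5 n27507 = n57535 := rfl
theorem F90684 : act 3 n57535 = n27509 := d6_1 D57535 (iv5 D27509) D27507
theorem F90685 : act 6 n57429 = n57535 := d7_0 F90684 (iv6 F44412) D57429
def n57536 : Q := act 6 n27507
theorem D57536 : act 6 n27507 = n57536 := rfl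
theorem F90686 : act 3 n57536 = n27510 := d7_1 D57536 (iv6 D27510) D27507
def n57537 : Q := act 3 n27508
theorem D57537 : act 3 n27508 = n57537 := rfl
def n57538 : Q := act 5 n27508
theorem D57538 : act 5 n27508 = n57538 := rfl
def n57539 : Q := act 6 n27508
theorem D57539 : act 6 n27508 = n57539 := rfl
theorem F90687 : act 4 n57539 = n27510 := d10_1 D57539 (iv6 D27510) D27508
def n57540 : Q := act 4 n27509
theorem D57540 : act 4 n27509 = n57540 := rfl
theorem F90688 : act 6 n57540 = n57430 := d10_2 F44412 D57540 (iv4 D57430)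
def n57541 : Q := act 0 n27510
theorem D57541 : act 0 n27510 = n57541 := rfl
def n57542 : Q := act 1 n27510
theorem D57542 : act 1 n27510 = n57542 := rfl
def n57543 : Q := act 2 n27511
theorem D57543 : act 2 n27511 = n57543 := rfl
theorem F90689 : act 7 n27512 = n57543 := d15_2 (iv0 D27511) D27512 (iv2 D57543)
theorem F90690 : act 5 n57543 = n57034 := d13_1 F90689 (iv7 D57034) F44413
def n57544 : Q := act 3 n27511
theorem D57544 : act 3 n27511 = n57544 := rfl
def n57545 : Q := act 4 n27511
theorem D57545 : act 4 n27511 = n57545 := rfl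
def n57546 : Q := act 5 n27511
theorem D57546 : act 5 n27511 = n57546 := rfl
theorem F90691 : act 2 n57546 = n57034 := d2_1 D57546 (iv5 F90690) (iv2 D57543)
theorem F90692 : act 6 n57546 = n55498 := d21_3 D13157 D27511 D57546 (iv1 D55498) (iv6 D26794) D26793 D55492 F87783 (iv6 D27510) (iv1 D13156)
theorem F90693 : act 7 n57016 = n57546 := d4_0 F90691 (iv7 D57034) (iv2 F90086)
theorem F90694 : act 1 n57546 = n57033 := d15_0 (iv0 D57033) D57034 (iv2 F90691)
theorem E8392 : n57049 = n55498 := ((c14_2 F90693 F90692 (iv7 D57049) (iv6 D27360) F44250 D57016)).symm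
theorem F90695 : act 7 n55498 = n27360 := (sb E8392 (iv7 D57049))
theorem F90696 : act 1 n55495 = n57546 := d15_1 (iv0 F87785) (iv7 F90693) F90086
theorem E8393 : n57035 = n55497 := (c15_4 (iv0 D55497) D55498 F90695 (iv2 F90098))
theorem F90698 : act 6 n55497 = n27356 := (sb E8393 (iv6 D57035))
def n57547 : Q := act 6 n27511
theorem D57547 : act 6 n27511 = n57547 := rfl
def n57548 : Q := act 7 n27511
theorem D57548 : act 7 n27511 = n57548 := rfl
theorem F90699 : act 2 n57548 = n27512 := d4_1 D57548 F90689 (iv2 D57543)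
theorem F90700 : act 5 n57548 = n57016 := d13_1 D57548 F90693 (iv5 D57546)
def n57549 : Q := act 3 n27512
theorem D57549 : act 3 n27512 = n57549 := rfl
theorem F90701 : act 5 n57549 = n57022 := d6_2 F44413 D57549 F90088
def n57550 : Q := act 4 n27512
theorem D57550 : act 4 n27512 = n57550 := rfl
def n57551 : Q := act 6 n27512
theorem D57551 : act 6 n27512 = n57551 := rfl
theorem F90702 : act 5 n57551 = n57031 := d12_1 D57551 (iv6 D57031) (iv5 D27354) D27355 F44413
def n57552 : Q := act 0 n27513
theorem D57552 : act 0 n27513 = n57552 := rfl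
def n57553 : Q := act 1 n27513
theorem D57553 : act 1 n27513 = n57553 := rfl
def n57554 : Q := act 3 n27513
theorem D57554 : act 3 n27513 = n57554 := rfl
theorem F90703 : act 6 n57554 = n55358 := d7_2 (iv6 F44414) D57554 (iv3 D55358)
def n57555 : Q := act 5 n27513
theorem D57555 : act 5 n27513 = n57555 := rfl
def n57556 : Q := act 7 n27513
theorem D57556 : act 7 n27513 = n57556 := rfl
theorem F90704 : act 4 n57556 = n27514 := d11_1 D57556 (iv7 D27514) D27513
def n57557 : Q := act 6 n27514
theorem D57557 : act 6 n27514 = n57557 := rfl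
theorem F90705 : act 7 n57557 = n27643 := d14_2 D27514 D57557 (iv6 D27643) F21983 (iv6 F21935)
def n57558 : Q := act 2 n27515
theorem D57558 : act 2 n27515 = n57558 := rfl
theorem F90706 : act 7 n27516 = n57558 := d15_2 (iv0 D27515) D27516 (iv2 D57558)
def n57559 : Q := act 3 n27515
theorem D57559 : act 3 n27515 = n57559 := rfl
theorem F90707 : act 4 n57559 = n40129 := d20_6 (iv4 D17182) (iv1 F21242) F21243 D13160 D27515 D57559 (iv1 D40129) (iv4 F44314) (iv3 D27416) (iv1 F28147)
theorem F90708 : act 2 n33665 = n57559 := d1_3 F90707 F90503 (iv4 F90502)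
theorem F90709 : act 7 n33666 = n57559 := d11_0 F90707 (iv7 F90506) (iv4 F90509)
theorem F90710 : act 0 n33667 = n57559 := d18_2 (iv1 F52311) (iv4 F52937) F90707 F61022 (iv4 F56748) F56747 F46128 (iv0 D26631) D26633
theorem F90711 : act 1 n27541 = n57559 := d18_6 (iv1 F55431) F55433 F46131 F25479 D33094 F52315 F90707 F61021 (iv5 D35009)
theorem F90712 : act 7 n27515 = n57265 := d8_2 F90709 (iv3 D57559) F90510
theorem F90713 : act 2 n57265 = n27516 := d4_1 F90712 F90706 (iv2 D57558)
theorem E8394 : n57558 = n57266 := (c15_4 F90341 F90337 (iv7 F90712) D57558)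
theorem F90714 : act 2 n57266 = n27515 := (sb E8394 (iv2 D57558))
theorem F90715 : act 7 n57266 = n27516 := (sb E8394 (iv7 F90706))
def n57560 : Q := act 4 n27515
theorem D57560 : act 4 n27515 = n57560 := rfl
def n57561 : Q := act 5 n27515
theorem D57561 : act 5 n27515 = n57561 := rfl
def n57562 : Q := act 6 n27515
theorem D57562 : act 6 n27515 = n57562 := rfl
def n57563 : Q := act 3 n27516
theorem D57563 : act 3 n27516 = n57563 := rfl
def n57564 : Q := act 4 n27516
theorem D57564 : act 4 n27516 = n57564 := rfl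
theorem F90716 : act 3 n46553 = n57564 := d20_5 (iv4 D8437) (iv1 F9783) D13226 D27702 F73553 (iv4 D57564) (iv1 D27516) D27518 F44416 (iv1 D17885)
theorem F90717 : act 4 n57563 = n46552 := d5_4 D46553 F90716 (iv4 D57564) D57563 (iv3 D46552)
theorem F90718 : act 5 n32604 = n57563 := d16_1 D32604 F90717 F74236 (iv4 D43863) (iv5 F52297) F52296 (iv5 F85786) F85787 (iv2 D32603)
def n57565 : Q := act 5 n27516
theorem D57565 : act 5 n27516 = n57565 := rfl
theorem F90719 : act 3 n57565 = n32604 := d6_1 D57565 F90718 (iv3 D57563)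
theorem F90720 : act 4 n32606 = n57565 := d5_0 F90719 (iv4 D32604) (iv3 D15432) D15433 D32606
def n57566 : Q := act 6 n27516
theorem D57566 : act 6 n27516 = n57566 := rfl
def n57567 : Q := act 4 n27517
theorem D57567 : act 4 n27517 = n57567 := rfl
theorem F90721 : act 2 n57567 = n27518 := d1_1 D57567 (iv4 D27518) D27517
theorem F90722 : act 1 n57567 = n32681 := d15_0 (iv0 F69996) F69995 (iv2 F90721)
def n57568 : Q := act 5 n27517
theorem D57568 : act 5 n27517 = n57568 := rfl
theorem F90723 : act 2 n57568 = n27519 := d2_1 D57568 (iv5 D27519) D27517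
theorem F90724 : act 3 n57568 = n52736 := d6_1 D57568 (iv5 F90322) F90321
def n57569 : Q := act 6 n27517
theorem D57569 : act 6 n27517 = n57569 := rfl
theorem F90725 : act 2 n57569 = n27520 := d3_1 D57569 (iv6 D27520) D27517
def n57570 : Q := act 1 n27518
theorem D57570 : act 1 n27518 = n57570 := rfl
theorem F90726 : act 4 n57470 = n57570 := d20_6 (iv4 D13086) (iv1 F9703) D6260 D13152 D27491 D57470 (iv1 D57570) (iv4 D27518) (iv3 D13160) (iv1 F21811)
theorem F90727 : act 2 n57570 = n32681 := d1_1 F90726 (iv4 F52887) (iv2 F90644)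
def n57571 : Q := act 5 n27518
theorem D57571 : act 5 n27518 = n57571 := rfl
theorem F90728 : act 3 n57571 = n37190 := d6_1 D57571 (iv5 D37190) (iv3 F44416)
theorem F90729 : act 0 n57571 = n32606 := d20_4 F29094 (iv1 F33484) (iv4 F58151) (iv3 F90728) (iv3 D32606) (iv4 D15433) (iv1 D7284) D7285 (iv3 F26944) (iv1 F29096)
def n57572 : Q := act 6 n27518
theorem D57572 : act 6 n27518 = n57572 := rfl
theorem F90730 : act 3 n57572 = n37191 := d7_1 D57572 (iv6 D37191) (iv3 F44416)
theorem F90731 : act 4 n57572 = n27520 := d10_1 D57572 (iv6 D27520) D27518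
def n57573 : Q := act 0 n27519
theorem D57573 : act 0 n27519 = n57573 := rfl
def n57574 : Q := act 1 n27519
theorem D57574 : act 1 n27519 = n57574 := rfl
theorem F90732 : act 3 n35083 = n57574 := d19_19 (iv1 D57574) (iv5 D27519) D27518 F44416 (iv1 D17885) D17887 F29063 D21318 (iv1 F56740) F56739 F34056 D44058 F69379 F68901 (iv4 F55338) F55337 F54154 D17032 D35083
theorem F90733 : act 4 n57574 = n35087 := d5_2 D35083 F90732 (iv3 D35087) (iv4 D17034) (iv3 F27913)
def n57575 : Q := act 4 n27519
theorem D57575 : act 4 n27519 = n57575 := rfl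
theorem F90734 : act 3 n57575 = n57480 := d5_1 D57575 (iv4 D57480) F44407 (iv4 F21937) (iv3 F44417)
def n57576 : Q := act 6 n27519
theorem D57576 : act 6 n27519 = n57576 := rfl
theorem F90735 : act 3 n57576 = n27521 := d7_1 D57576 (iv6 D27521) (iv3 F44417)
def n57577 : Q := act 0 n27520
theorem D57577 : act 0 n27520 = n57577 := rfl
def n57578 : Q := act 1 n27520
theorem D57578 : act 1 n27520 = n57578 := rfl
def n57579 : Q := act 5 n27520
theorem D57579 : act 5 n27520 = n57579 := rfl
theorem F90736 : act 3 n57579 = n27524 := d6_1 D57579 (iv5 D27524) (iv3 F44418)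
def n57580 : Q := act 7 n27520
theorem D57580 : act 7 n27520 = n57580 := rfl
theorem F90737 : act 3 n57580 = n27525 := d8_1 D57580 (iv7 D27525) (iv3 F44418)
def n57581 : Q := act 0 n27521
theorem D57581 : act 0 n27521 = n57581 := rfl
def n57582 : Q := act 1 n27521
theorem D57582 : act 1 n27521 = n57582 := rfl
def n57583 : Q := act 5 n27521
theorem D57583 : act 5 n27521 = n57583 := rfl
theorem F90738 : act 6 n57583 = n27524 := d12_2 D27521 D57583 (iv5 D27524) (iv6 D13162) D13161
def n57584 : Q := act 7 n27521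
theorem D57584 : act 7 n27521 = n57584 := rfl
theorem F90739 : act 4 n57584 = n57489 := d11_1 D57584 (iv7 D57489) (iv4 F44419)
def n57595 : Q := act 0 n27524
theorem D57595 : act 0 n27524 = n57595 := rfl
def n57596 : Q := act 1 n27524
theorem D57596 : act 1 n27524 = n57596 := rfl
def n57597 : Q := act 4 n27524
theorem D57597 : act 4 n27524 = n57597 := rfl
def n57598 : Q := act 7 n27524
theorem D57598 : act 7 n27524 = n57598 := rfl
theorem F90742 : act 5 n57598 = n27525 := d13_1 D57598 (iv7 D27525) D27524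
def n57599 : Q := act 2 n27526
theorem D57599 : act 2 n27526 = n57599 := rfl
theorem F90743 : act 7 n27527 = n57599 := d15_2 (iv0 D27526) D27527 (iv2 D57599)
def n57600 : Q := act 3 n27526
theorem D57600 : act 3 n27526 = n57600 := rfl
def n57601 : Q := act 4 n27526
theorem D57601 : act 4 n27526 = n57601 := rfl
def n57602 : Q := act 5 n27526
theorem D57602 : act 5 n27526 = n57602 := rfl
theorem F90744 : act 1 n57602 = n27556 := d17_8 (iv1 F76666) (iv5 D25569) (iv1 F37006) F46142 D52736 (iv5 F90322) F90324 D57602 (iv4 F76678)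
theorem F90745 : act 4 n57602 = n48750 := d19_2 D27526 D57602 (iv3 D48750) (iv1 D23778) (iv5 D11136) F7576 (iv3 D2109) F1939 D1494 F2610 (iv3 F2841) D3802 (iv5 F13465) F12831 (iv3 F21237) (iv1 F21239) D12800 F21248 D13164
def n57603 : Q := act 6 n27526
theorem D57603 : act 6 n27526 = n57603 := rfl
def n57604 : Q := act 7 n27526
theorem D57604 : act 7 n27526 = n57604 := rfl
theorem F90746 : act 2 n57604 = n27527 := d4_1 D57604 F90743 (iv2 D57599)
def n57605 : Q := act 3 n27527
theorem D57605 : act 3 n27527 = n57605 := rfl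
def n57606 : Q := act 4 n27527
theorem D57606 : act 4 n27527 = n57606 := rfl
theorem F90747 : act 0 n57606 = n33586 := d20_1 D57606 F52877 (iv3 D16242) D16240 D33593 F52887 (iv1 F90722) (iv4 D57567) (iv3 F90321) (iv1 F90326)
theorem F90748 : act 0 n27537 = n57605 := d20_4 (iv4 F25797) (iv1 F44428) (iv4 D27538) D27537 (iv3 D57605) D57606 F90747 F52877 (iv3 D16242) D16240
theorem F90749 : act 1 n33654 = n57605 := d15_0 (iv0 F90748) F44424 D33654
def n57607 : Q := act 5 n27527
theorem D57607 : act 5 n27527 = n57607 := rfl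
def n57608 : Q := act 6 n27527
theorem D57608 : act 6 n27527 = n57608 := rfl
def n57609 : Q := act 4 n27528
theorem D57609 : act 4 n27528 = n57609 := rfl
theorem F90750 : act 2 n57609 = n27529 := d1_1 D57609 (iv4 D27529) D27528
theorem F90751 : act 1 n57609 = n52983 := d15_0 (iv0 F83710) F60761 (iv2 F90750)
def n57610 : Q := act 6 n27528
theorem D57610 : act 6 n27528 = n57610 := rfl
theorem F90752 : act 2 n57610 = n27531 := d3_1 D57610 (iv6 D27531) D27528
def n57611 : Q := act 0 n27529
theorem D57611 : act 0 n27529 = n57611 := rfl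
theorem F90753 : act 5 n57611 = n34862 := d19_1 D57611 (iv4 D34862) F27685 F12477 F8913 F3813 F2093 (iv1 F1338) (iv5 F1352) F1355 F931 (iv1 F1674) (iv5 F1689) F1690 D1591 D3616 D7989 D17077 (iv3 F44420)
theorem F90754 : act 3 n57611 = n35925 := d20_5 (iv4 D8091) (iv1 F13768) D17077 (iv3 F44420) D57611 F56610 (iv1 D18284) (iv4 F29472) (iv3 D18273) F13533
theorem F90755 : act 7 n52983 = n57611 := d8_0 F90754 (iv7 F83193) (iv3 F83709)
def n57612 : Q := act 1 n27529
theorem D57612 : act 1 n27529 = n57612 := rfl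
theorem F90756 : act 4 n57612 = n57357 := d18_7 (iv1 D52739) (iv4 D25603) D25601 F46135 (iv5 D27530) D27529 D57612 (iv0 F90544) (iv5 F87743)
theorem F90757 : act 2 n52983 = n57612 := d1_3 F90756 F90546 (iv4 F83711)
theorem F90758 : act 5 n52979 = n57612 := d16_1 D52979 F90756 F90542 (iv4 D48714) (iv5 D23757) F18053 D16900 F27686 D25718
def n57613 : Q := act 6 n27529
theorem D57613 : act 6 n27529 = n57613 := rfl
theorem F90759 : act 3 n57613 = n35175 := d7_1 D57613 (iv6 D35175) (iv3 F44420)
theorem F90760 : act 4 n57613 = n27531 := d10_1 D57613 (iv6 D27531) D27529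
def n57614 : Q := act 0 n27530
theorem D57614 : act 0 n27530 = n57614 := rfl
theorem F90761 : act 5 n57614 = n55433 := d17_1 D57614 (iv1 F90129) F90127 (iv4 D52681) F76672 F37032 D48720 F76709 F46135
theorem F90762 : act 4 n57614 = n54770 := d18_3 D25601 F46135 D57614 (iv5 D54770) F42382 (iv0 F40495) (iv4 D25593) (iv0 D12170) D12173
theorem F90763 : act 1 n52736 = n57614 := d15_0 (iv0 D57614) (iv7 F83229) (iv2 F83335)
def n57615 : Q := act 1 n27530
theorem D57615 : act 1 n27530 = n57615 := rfl
theorem F90764 : act 1 n57615 = n52736 := d15_1 D57615 F83336 F83234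
theorem F90765 : act 5 n55434 = n57615 := d17_7 (iv1 D25602) (iv5 D12173) D12170 (iv5 F52200) D52678 (iv5 F83250) D55434 F90764 (iv4 D52736)
def n57616 : Q := act 6 n27530
theorem D57616 : act 6 n27530 = n57616 := rfl
theorem F90766 : act 3 n57616 = n27532 := d7_1 D57616 (iv6 D27532) (iv3 F44421)
theorem F90767 : act 4 n57616 = n52735 := d10_1 D57616 (iv6 D52735) F46135
def n57617 : Q := act 0 n27531
theorem D57617 : act 0 n27531 = n57617 := rfl
def n57618 : Q := act 1 n27531
theorem D57618 : act 1 n27531 = n57618 := rfl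
def n57619 : Q := act 5 n27531
theorem D57619 : act 5 n27531 = n57619 := rfl
theorem F90768 : act 3 n57619 = n27535 := d6_1 D57619 (iv5 D27535) (iv3 F44422)
def n57620 : Q := act 7 n27531
theorem D57620 : act 7 n27531 = n57620 := rfl
theorem F90769 : act 3 n57620 = n27536 := d8_1 D57620 (iv7 D27536) (iv3 F44422)
def n57621 : Q := act 0 n27532
theorem D57621 : act 0 n27532 = n57621 := rfl
def n57622 : Q := act 1 n27532
theorem D57622 : act 1 n27532 = n57622 := rfl
def n57623 : Q := act 5 n27532
theorem D57623 : act 5 n27532 = n57623 := rfl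
theorem F90770 : act 6 n57623 = n27535 := d12_2 D27532 D57623 (iv5 D27535) (iv6 D13166) D13165
def n57624 : Q := act 7 n27532
theorem D57624 : act 7 n27532 = n57624 := rfl
theorem F90771 : act 4 n57624 = n57373 := d11_1 D57624 (iv7 D57373) (iv4 F44423)
def n57635 : Q := act 0 n27535
theorem D57635 : act 0 n27535 = n57635 := rfl
def n57636 : Q := act 1 n27535
theorem D57636 : act 1 n27535 = n57636 := rfl
def n57637 : Q := act 4 n27535
theorem D57637 : act 4 n27535 = n57637 := rfl
def n57638 : Q := act 7 n27535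
theorem D57638 : act 7 n27535 = n57638 := rfl
theorem F90774 : act 5 n57638 = n27536 := d13_1 D57638 (iv7 D27536) D27535
def n57639 : Q := act 1 n27537
theorem D57639 : act 1 n27537 = n57639 := rfl
def n57640 : Q := act 2 n27537
theorem D57640 : act 2 n27537 = n57640 := rfl
theorem F90775 : act 3 n57640 = n33667 := d0_2 D27537 D57640 (iv2 D33667) (iv3 D16274) (iv2 F42922)
theorem F90776 : act 4 n57640 = n35429 := d1_2 F59327 D57640 (iv2 F59330)
theorem F90777 : act 7 n57640 = n33654 := d4_2 (iv7 F44424) D57640 (iv2 D33654)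
theorem F90778 : act 1 n57640 = n33652 := d15_0 (iv0 D33652) (iv7 F44424) D57640
theorem F90779 : act 1 n57639 = n33654 := d15_1 D57639 (iv7 F90777) (iv2 D57640)
theorem F90780 : act 1 n33653 = n57640 := d15_1 D33653 F90777 (iv2 D33654)
theorem F90781 : act 5 n33653 = n45365 := d19_1 (iv1 F90780) (iv4 D45365) F34061 (iv1 F33416) (iv5 D21170) F15949 F14543 (iv1 F13382) (iv5 D8554) F5820 (iv3 D3750) (iv1 D1640) D1642 D3758 (iv3 F11727) D15961 D33091 (iv4 F52937) (iv3 F90775)
theorem F90782 : act 0 n45365 = n33676 := d17_2 (iv1 F90780) F90781 (iv5 F87727) F87726 (iv5 F64251) (iv0 D34555) D34559 F56146 (iv4 F90776)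
def n57641 : Q := act 5 n27537
theorem D57641 : act 5 n27537 = n57641 := rfl
theorem F90783 : act 3 n57641 = n27539 := d6_1 D57641 (iv5 D27539) D27537
theorem F90784 : act 7 n57641 = n33656 := d13_2 (iv7 F44424) D57641 (iv5 D33656)
def n57642 : Q := act 6 n27537
theorem D57642 : act 6 n27537 = n57642 := rfl
theorem F90785 : act 3 n57642 = n27540 := d7_1 D57642 (iv6 D27540) D27537
def n57643 : Q := act 6 n27538
theorem D57643 : act 6 n27538 = n57643 := rfl
theorem F90786 : act 2 n57643 = n28630 := d3_1 D57643 F50858 (iv2 F44425)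
theorem F90787 : act 4 n57643 = n27540 := d10_1 D57643 (iv6 D27540) D27538
theorem F90788 : act 5 n57643 = n28605 := d12_1 D57643 (iv6 D28605) F25825 (iv6 F50848) (iv5 F44427)
def n57644 : Q := act 4 n27539
theorem D57644 : act 4 n27539 = n57644 := rfl
theorem F90789 : act 2 n57644 = n28616 := d1_1 D57644 F46188 (iv2 F44429)
theorem F90790 : act 7 n57644 = n28626 := d11_2 (iv7 F44430) D57644 F46196
theorem F90791 : act 5 n57644 = n28602 := d16_1 D57644 (iv4 D28602) F25820 D15284 (iv5 F37310) F37311 D27542 F44435 (iv2 F44429)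
def n57645 : Q := act 6 n27539
theorem D57645 : act 6 n27539 = n57645 := rfl
theorem F90792 : act 2 n57645 = n33671 := d3_1 D57645 (iv6 D33671) (iv2 F44429)
def n57646 : Q := act 0 n27540
theorem D57646 : act 0 n27540 = n57646 := rfl
def n57647 : Q := act 1 n27540
theorem D57647 : act 1 n27540 = n57647 := rfl
theorem F90793 : act 1 n57647 = n33675 := d15_1 D57647 (iv7 D33675) (iv2 F44432)
def n57648 : Q := act 5 n27540
theorem D57648 : act 5 n27540 = n57648 := rfl
theorem F90794 : act 2 n57648 = n33674 := d2_1 D57648 (iv5 D33674) (iv2 F44432)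
def n57649 : Q := act 7 n27540
theorem D57649 : act 7 n27540 = n57649 := rfl
theorem F90795 : act 2 n57649 = n33675 := d4_1 D57649 (iv7 D33675) (iv2 F44432)
theorem F90796 : act 6 n57649 = n33664 := d14_1 D57649 (iv7 D33664) (iv6 D16272) (iv7 F42923) D27540
theorem F90797 : act 1 n33675 = n57646 := d15_0 (iv0 D57646) D57649 F90795
theorem F90798 : act 1 n33673 = n57649 := d15_1 D33673 (iv7 D57649) F44432
theorem F90799 : act 1 n57649 = n33672 := d15_0 (iv0 D33672) D33675 (iv2 F90795)
def n57650 : Q := act 0 n27541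
theorem D57650 : act 0 n27541 = n57650 := rfl
theorem F90800 : act 4 n57650 = n40128 := d18_3 (iv1 F52999) F52315 D57650 F61019 (iv4 D28623) F46129 F42677 F42676 D33761
theorem F90801 : act 2 n33666 = n57650 := d15_3 (iv0 D57650) F90711 (iv7 F90709)
theorem F90802 : act 1 n33667 = n57650 := d15_0 (iv0 D57650) F44433 D33667
theorem F90803 : act 7 n57650 = n33665 := d15_2 (iv0 F90710) F90802 F90708
def n57651 : Q := act 2 n27541
theorem D57651 : act 2 n27541 = n57651 := rfl
theorem F90804 : act 3 n57651 = n33654 := d0_2 D27541 D57651 (iv2 D33654) (iv3 D16269) (iv2 F42919)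
theorem F90805 : act 4 n57651 = n33771 := d1_2 F52315 D57651 (iv2 F53013)
theorem F90806 : act 5 n57651 = n34906 := d2_2 (iv5 F52280) D57651 F55244
theorem F90807 : act 7 n57651 = n33667 := d4_2 (iv7 F44433) D57651 (iv2 D33667)
theorem F90808 : act 1 n57651 = n33665 := d15_0 (iv0 D33665) (iv7 F44433) D57651
theorem F90809 : act 1 n33666 = n57651 := d15_0 F90808 (iv7 F90803) (iv2 F90801)
theorem F90810 : act 5 n57639 = n44677 := d19_5 D26449 (iv5 F53012) (iv4 F90805) F90804 (iv1 F90779) (iv4 D44677) F33501 (iv1 F33484) F33486 F16165 (iv3 F15119) F15121 (iv5 D8999) (iv4 F6435) F6437 (iv1 D2597) D2599 D6175 (iv3 F21022)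
theorem F90811 : act 7 n33653 = n57639 := d13_0 F90810 (iv7 F71520) (iv5 F90781)
theorem F90812 : act 2 n57639 = n33652 := d15_3 (iv0 D33652) D33653 F90811
theorem F90813 : act 2 n33653 = n57605 := d15_3 (iv0 F90748) D57639 (iv7 F90811)
theorem F90814 : act 7 n57605 = n33652 := d4_2 (iv7 F90811) F90813 (iv2 F90812)
theorem F90815 : act 3 n33652 = n57599 := d8_1 F90814 (iv7 F90743) D57605
def n57652 : Q := act 6 n27541
theorem D57652 : act 6 n27541 = n57652 := rfl
theorem F90816 : act 3 n57652 = n27543 := d7_1 D57652 (iv6 D27543) D27541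
def n57653 : Q := act 4 n27542
theorem D57653 : act 4 n27542 = n57653 := rfl
theorem F90817 : act 2 n57653 = n28626 := d1_1 D57653 F46196 (iv2 F44434)
theorem F90818 : act 3 n57653 = n33230 := d5_1 D57653 F52461 F43268 D33057 F52279
theorem F90819 : act 5 n57653 = n28604 := d9_2 D27542 D57653 (iv4 D28604) F25825 D15279 (iv5 F44427) (iv4 D27538) D27539 D57644 F90791 (iv4 D28602) F25820 D15284 (iv5 F37310) F37311
theorem F90820 : act 7 n57653 = n28616 := d11_2 (iv7 F44435) D57653 F46188
def n57654 : Q := act 6 n27542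
theorem D57654 : act 6 n27542 = n57654 := rfl
theorem F90821 : act 2 n57654 = n33660 := d3_1 D57654 (iv6 D33660) (iv2 F44434)
def n57655 : Q := act 0 n27543
theorem D57655 : act 0 n27543 = n57655 := rfl
def n57656 : Q := act 1 n27543
theorem D57656 : act 1 n27543 = n57656 := rfl
theorem F90822 : act 1 n57656 = n33664 := d15_1 D57656 (iv7 D33664) (iv2 F44437)
def n57657 : Q := act 5 n27543
theorem D57657 : act 5 n27543 = n57657 := rfl
theorem F90823 : act 2 n57657 = n33663 := d2_1 D57657 (iv5 D33663) (iv2 F44437)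
def n57658 : Q := act 7 n27543
theorem D57658 : act 7 n27543 = n57658 := rfl
theorem F90824 : act 2 n57658 = n33664 := d4_1 D57658 (iv7 D33664) (iv2 F44437)
theorem F90825 : act 6 n57658 = n33675 := d14_1 D57658 (iv7 D33675) (iv6 D16277) (iv7 F42920) D27543
theorem F90826 : act 1 n33664 = n57655 := d15_0 (iv0 D57655) D57658 F90824
theorem F90827 : act 1 n33662 = n57658 := d15_1 D33662 (iv7 D57658) F44437
theorem F90828 : act 1 n57658 = n33661 := d15_0 (iv0 D33661) D33664 (iv2 F90824)
def n57659 : Q := act 6 n27544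
theorem D57659 : act 6 n27544 = n57659 := rfl
theorem F90829 : act 2 n57659 = n27549 := d3_1 D57659 (iv6 D27549) (iv2 F44438)
theorem F90830 : act 4 n57659 = n28640 := d10_1 D57659 (iv6 D28640) (iv4 F44440)
def n57660 : Q := act 0 n27545
theorem D57660 : act 0 n27545 = n57660 := rfl
def n57661 : Q := act 1 n27545
theorem D57661 : act 1 n27545 = n57661 := rfl
theorem F90831 : act 1 n57661 = n27553 := d15_1 D57661 (iv7 D27553) (iv2 F44443)
def n57662 : Q := act 5 n27545
theorem D57662 : act 5 n27545 = n57662 := rfl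
theorem F90832 : act 2 n57662 = n27552 := d2_1 D57662 (iv5 D27552) (iv2 F44443)
def n57663 : Q := act 7 n27545
theorem D57663 : act 7 n27545 = n57663 := rfl
theorem F90833 : act 2 n57663 = n27553 := d4_1 D57663 (iv7 D27553) (iv2 F44443)
theorem F90834 : act 4 n57663 = n27776 := d11_1 D57663 (iv7 D27776) (iv4 F44444)
theorem F90835 : act 6 n57663 = n33574 := d14_1 D57663 (iv7 D33574) (iv6 D16223) (iv7 F21944) D27545
theorem F90836 : act 1 n27553 = n57660 := d15_0 (iv0 D57660) D57663 F90833
theorem F90837 : act 1 n27551 = n57663 := d15_1 D27551 (iv7 D57663) F44443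
theorem F90838 : act 4 n40232 = n57660 := d20_6 F28977 (iv1 D3971) (iv4 F5923) (iv3 F13869) D18998 D40232 (iv1 F90836) F44459 F22058 (iv1 F9810)
theorem F90839 : act 1 n57663 = n27550 := d15_0 (iv0 D27550) D27553 (iv2 F90833)
def n57664 : Q := act 3 n27546
theorem D57664 : act 3 n27546 = n57664 := rfl
theorem F90840 : act 5 n57664 = n34363 := d6_2 (iv5 F44446) D57664 (iv3 D34363)
theorem F90841 : act 7 n57664 = n33676 := d8_2 F44448 D57664 (iv3 D33676)
def n57665 : Q := act 4 n27546
theorem D57665 : act 4 n27546 = n57665 := rfl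
theorem F90843 : act 2 n57665 = n28537 := d1_1 D57665 F46110 F44447
theorem F90844 : act 7 n57665 = n28581 := d11_2 F44448 D57665 F46156
theorem F90845 : act 5 n57665 = n28507 := d16_1 D57665 (iv4 D28507) (iv5 D13593) F37244 D23869 F43055 (iv5 F44451) F44450 F44447
def n57666 : Q := act 6 n27546
theorem D57666 : act 6 n27546 = n57666 := rfl
theorem F90846 : act 2 n57666 = n33678 := d3_1 D57666 (iv6 D33678) F44447
def n57667 : Q := act 4 n27547
theorem D57667 : act 4 n27547 = n57667 := rfl
theorem F90847 : act 2 n57667 = n28581 := d1_1 D57667 F46156 F44452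
theorem F90848 : act 3 n57667 = n52645 := d5_1 D57667 (iv4 F83190) (iv3 F42271) D54668 F86478
theorem F90849 : act 5 n57667 = n28539 := d9_2 (iv5 F44451) D57667 F46113 F22793 (iv4 F22789) (iv5 F46097) F46096 (iv5 F44446) D57665 F90845 (iv4 D28507) (iv5 D13593) F37244 D23869 F43055
theorem F90850 : act 7 n57667 = n28537 := d11_2 (iv7 F44450) D57667 F46110
def n57668 : Q := act 6 n27547
theorem D57668 : act 6 n27547 = n57668 := rfl
def n57669 : Q := act 1 n27548
theorem D57669 : act 1 n27548 = n57669 := rfl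
theorem F90852 : act 1 n57669 = n28641 := d15_1 D57669 (iv7 D28641) (iv2 F44453)
theorem F90853 : act 7 n57669 = n28638 := d15_2 F52629 D57669 (iv2 F52626)
theorem F90854 : act 5 n57669 = n32787 := d17_7 (iv1 F37252) F22793 (iv1 F37246) D6487 D13641 (iv5 F44455) D57669 (iv0 D32787) (iv4 D15696)
theorem F90855 : act 2 n28639 = n57669 := d2_3 F90854 (iv2 F51901) (iv5 F46206)
theorem F90856 : act 4 n33367 = n57669 := d9_15 F90854 F51900 F25679 F11775 (iv5 F11779) (iv4 F25697) (iv5 F52742) F52741 (iv5 D33384) (iv4 D16121) (iv5 D7529) F11797 D7524 D16111 D33367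
def n57670 : Q := act 3 n27548
theorem D57670 : act 3 n27548 = n57670 := rfl
theorem F90857 : act 4 n57670 = n27558 := d5_2 D27548 D57670 (iv3 D27558) (iv4 D13174) (iv3 F21948)
theorem F90858 : act 5 n57670 = n28607 := d6_2 (iv5 F44455) D57670 (iv3 D28607)
theorem F90859 : act 7 n57670 = n33679 := d8_2 (iv7 F44454) D57670 (iv3 D33679)
def n57671 : Q := act 6 n27548
theorem D57671 : act 6 n27548 = n57671 := rfl
theorem F90860 : act 2 n57671 = n28640 := d3_1 D57671 (iv6 D28640) (iv2 F44453)
theorem F90861 : act 4 n57671 = n27549 := d10_1 D57671 (iv6 D27549) D27548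
def n57672 : Q := act 0 n27549
theorem D57672 : act 0 n27549 = n57672 := rfl
def n57673 : Q := act 1 n27549
theorem D57673 : act 1 n27549 = n57673 := rfl
def n57674 : Q := act 5 n27549
theorem D57674 : act 5 n27549 = n57674 := rfl
theorem F90862 : act 3 n57674 = n27562 := d6_1 D57674 (iv5 D27562) (iv3 F44456)
theorem F90863 : act 6 n57674 = n27552 := d12_2 D27549 D57674 (iv5 D27552) (iv6 D13171) D13170
def n57675 : Q := act 7 n27549
theorem D57675 : act 7 n27549 = n57675 := rfl
theorem F90864 : act 3 n57675 = n27563 := d8_1 D57675 (iv7 D27563) (iv3 F44456)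
theorem F90865 : act 6 n57675 = n33684 := d14_1 D57675 (iv7 D33684) (iv6 D16281) (iv7 F21949) D27549
def n57676 : Q := act 2 n27550
theorem D57676 : act 2 n27550 = n57676 := rfl
theorem F90866 : act 7 n27551 = n57676 := d15_2 (iv0 D27550) D27551 (iv2 D57676)
def n57677 : Q := act 3 n27550
theorem D57677 : act 3 n27550 = n57677 := rfl
def n57678 : Q := act 4 n27550
theorem D57678 : act 4 n27550 = n57678 := rfl
def n57679 : Q := act 5 n27550
theorem D57679 : act 5 n27550 = n57679 := rfl
def n57680 : Q := act 6 n27550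
theorem D57680 : act 6 n27550 = n57680 := rfl
def n57681 : Q := act 7 n27550
theorem D57681 : act 7 n27550 = n57681 := rfl
theorem F90867 : act 2 n57681 = n27551 := d4_1 D57681 F90866 (iv2 D57676)
def n57682 : Q := act 3 n27551
theorem D57682 : act 3 n27551 = n57682 := rfl
def n57683 : Q := act 4 n27551
theorem D57683 : act 4 n27551 = n57683 := rfl
theorem F90868 : act 3 n39584 = n57683 := d20_5 (iv4 F29956) (iv1 F13780) F30050 D18741 D39584 (iv4 D57683) (iv1 D27551) F21951 F9802 D6296
theorem F90869 : act 0 n40140 = n39337 := d20_1 (iv4 F61038) (iv4 D39337) (iv3 D18654) (iv1 F29923) (iv3 F44864) (iv4 F90834) (iv1 F90837) D57683 (iv3 F90868) (iv1 F60451)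
def n57684 : Q := act 5 n27551
theorem D57684 : act 5 n27551 = n57684 := rfl
def n57685 : Q := act 6 n27551
theorem D57685 : act 6 n27551 = n57685 := rfl
def n57686 : Q := act 0 n27552
theorem D57686 : act 0 n27552 = n57686 := rfl
def n57687 : Q := act 1 n27552
theorem D57687 : act 1 n27552 = n57687 := rfl
def n57688 : Q := act 4 n27552
theorem D57688 : act 4 n27552 = n57688 := rfl
def n57689 : Q := act 7 n27552
theorem D57689 : act 7 n27552 = n57689 := rfl
theorem F90870 : act 3 n57689 = n27578 := d8_1 D57689 (iv7 D27578) (iv3 F44457)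
theorem F90871 : act 5 n57689 = n27553 := d13_1 D57689 (iv7 D27553) D27552
def n57690 : Q := act 0 n27554
theorem D57690 : act 0 n27554 = n57690 := rfl
def n57691 : Q := act 1 n27554
theorem D57691 : act 1 n27554 = n57691 := rfl
def n57692 : Q := act 2 n27554
theorem D57692 : act 2 n27554 = n57692 := rfl
theorem F90872 : act 5 n57692 = n56943 := d2_2 (iv5 F44461) D57692 (iv2 D56943)
def n57693 : Q := act 4 n27554
theorem D57693 : act 4 n27554 = n57693 := rfl
theorem F90873 : act 3 n57693 = n57113 := d5_1 D57693 (iv4 D57113) F44275 F21953 D27554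
theorem E8395 : n57691 = n57565 := ((c20_1 F90720 (iv1 D57691) D57693 F90873 F90162 F58264 F29094 (iv1 F33484) (iv4 F58151) (iv3 F90728) F90729)).symm
theorem F90874 : act 0 n57565 = n27554 := (sb E8395 (iv1 D57691))
def n57694 : Q := act 6 n27554
theorem D57694 : act 6 n27554 = n57694 := rfl
theorem F90875 : act 3 n57694 = n27555 := d7_1 D57694 (iv6 D27555) D27554
def n57695 : Q := act 0 n27555
theorem D57695 : act 0 n27555 = n57695 := rfl
def n57696 : Q := act 1 n27555
theorem D57696 : act 1 n27555 = n57696 := rfl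
def n57697 : Q := act 5 n27555
theorem D57697 : act 5 n27555 = n57697 := rfl
theorem F90876 : act 6 n57697 = n56947 := d12_2 D27555 D57697 (iv5 D56947) (iv6 D27327) (iv5 F21952)
def n57698 : Q := act 7 n27555
theorem D57698 : act 7 n27555 = n57698 := rfl
theorem F90877 : act 4 n57698 = n57122 := d11_1 D57698 (iv7 D57122) (iv4 F44462)
def n57699 : Q := act 1 n27556
theorem D57699 : act 1 n27556 = n57699 := rfl
theorem F90878 : act 4 n57699 = n43424 := d18_7 F69416 F69415 F76702 (iv4 D48718) (iv5 F76675) F76678 D57699 (iv0 F83438) (iv5 D52809)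
theorem F90879 : act 6 n43877 = n57699 := d10_0 F90878 F68287 D43877
def n57700 : Q := act 6 n27556
theorem D57700 : act 6 n27556 = n57700 := rfl
theorem F90880 : act 3 n57700 = n27557 := d7_1 D57700 (iv6 D27557) D27556
def n57701 : Q := act 0 n27557
theorem D57701 : act 0 n27557 = n57701 := rfl
def n57702 : Q := act 1 n27557
theorem D57702 : act 1 n27557 = n57702 := rfl
def n57703 : Q := act 5 n27557
theorem D57703 : act 5 n27557 = n57703 := rfl
theorem F90881 : act 6 n57703 = n57084 := d12_2 D27557 D57703 (iv5 D57084) (iv6 D27371) (iv5 F21954)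
def n57704 : Q := act 7 n27557
theorem D57704 : act 7 n27557 = n57704 := rfl
theorem F90882 : act 4 n57704 = n56996 := d11_1 D57704 (iv7 D56996) (iv4 F44464)
def n57705 : Q := act 0 n27558
theorem D57705 : act 0 n27558 = n57705 := rfl
theorem F90883 : act 3 n57705 = n35026 := d20_5 F21955 (iv1 D13173) D13174 D27558 D57705 (iv4 D35026) D35025 (iv4 F90070) (iv3 D56991) (iv1 D27345)
theorem F90884 : act 1 n57284 = n57705 := d15_0 (iv0 D57705) F44466 (iv2 F90363)
theorem F90885 : act 5 n55360 = n57705 := d6_0 F90883 (iv5 F74068) (iv3 F87618)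
theorem E8396 : n47258 = n34482 := (c17_8 D55360 F90885 (iv1 F90884) (iv5 D57284) F44346 D38198 F59060 D47258 (iv0 D34482) (iv4 F42980))
theorem F90886 : act 5 n34482 = n22726 := (sb E8396 (iv5 D47258))
def n57706 : Q := act 1 n27558
theorem D57706 : act 1 n27558 = n57706 := rfl
theorem F90887 : act 1 n57706 = n57284 := d15_1 D57706 F90365 F52861
def n57707 : Q := act 6 n27558
theorem D57707 : act 6 n27558 = n57707 := rfl
theorem F90888 : act 3 n57707 = n27559 := d7_1 D57707 (iv6 D27559) D27558
def n57708 : Q := act 0 n27559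
theorem D57708 : act 0 n27559 = n57708 := rfl
def n57709 : Q := act 1 n27559
theorem D57709 : act 1 n27559 = n57709 := rfl
def n57710 : Q := act 5 n27559
theorem D57710 : act 5 n27559 = n57710 := rfl
theorem F90889 : act 6 n57710 = n56891 := d12_2 D27559 D57710 (iv5 D56891) (iv6 D27309) (iv5 F21956)
def n57711 : Q := act 7 n27559
theorem D57711 : act 7 n27559 = n57711 := rfl
theorem F90890 : act 4 n57711 = n27563 := d11_1 D57711 (iv7 D27563) (iv4 F44467)
theorem F90891 : act 6 n57711 = n57296 := d14_1 D57711 (iv7 D57296) (iv6 D27434) (iv7 F21959) D27559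
def n57712 : Q := act 2 n27560
theorem D57712 : act 2 n27560 = n57712 := rfl
theorem F90892 : act 7 n27561 = n57712 := d15_2 (iv0 D27560) D27561 (iv2 D57712)
def n57713 : Q := act 3 n27560
theorem D57713 : act 3 n27560 = n57713 := rfl
def n57714 : Q := act 4 n27560
theorem D57714 : act 4 n27560 = n57714 := rfl
def n57715 : Q := act 5 n27560
theorem D57715 : act 5 n27560 = n57715 := rfl
def n57716 : Q := act 6 n27560
theorem D57716 : act 6 n27560 = n57716 := rfl
def n57717 : Q := act 7 n27560
theorem D57717 : act 7 n27560 = n57717 := rfl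
theorem F90893 : act 2 n57717 = n27561 := d4_1 D57717 F90892 (iv2 D57712)
def n57718 : Q := act 3 n27561
theorem D57718 : act 3 n27561 = n57718 := rfl
def n57719 : Q := act 4 n27561
theorem D57719 : act 4 n27561 = n57719 := rfl
def n57720 : Q := act 5 n27561
theorem D57720 : act 5 n27561 = n57720 := rfl
def n57721 : Q := act 6 n27561
theorem D57721 : act 6 n27561 = n57721 := rfl
def n57722 : Q := act 0 n27562
theorem D57722 : act 0 n27562 = n57722 := rfl
def n57723 : Q := act 1 n27562
theorem D57723 : act 1 n27562 = n57723 := rfl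
def n57724 : Q := act 4 n27562
theorem D57724 : act 4 n27562 = n57724 := rfl
theorem F90894 : act 6 n57724 = n27577 := d10_2 (iv6 F44468) D57724 (iv4 D27577)
def n57725 : Q := act 7 n27562
theorem D57725 : act 7 n27562 = n57725 := rfl
theorem F90895 : act 5 n57725 = n27563 := d13_1 D57725 (iv7 D27563) D27562
def n57726 : Q := act 6 n27563
theorem D57726 : act 6 n27563 = n57726 := rfl
theorem F90896 : act 2 n57726 = n57711 := d3_1 D57726 F90891 F90378
theorem F90897 : act 3 n57726 = n33684 := d7_1 D57726 (iv6 F90865) F90864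
theorem F90898 : act 4 n57726 = n57296 := d10_1 D57726 (iv6 F90891) F90890
theorem F90899 : act 7 n57726 = n27564 := d14_2 D27563 D57726 (iv6 D27564) (iv7 D13176) D13175
theorem F90900 : act 1 n57709 = n57726 := d15_1 D57709 F90899 F44469
theorem F90901 : act 1 n57726 = n57708 := d15_0 (iv0 D57708) D57711 (iv2 F90896)
def n57727 : Q := act 0 n27564
theorem D57727 : act 0 n27564 = n57727 := rfl
theorem F90902 : act 1 n57711 = n57727 := d15_0 (iv0 D57727) (iv7 F90899) F90896
def n57728 : Q := act 1 n27564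
theorem D57728 : act 1 n27564 = n57728 := rfl
theorem F90903 : act 1 n57728 = n57711 := d15_1 D57728 (iv7 D57711) (iv2 F44469)
def n57729 : Q := act 5 n27564
theorem D57729 : act 5 n27564 = n57729 := rfl
theorem F90904 : act 2 n57729 = n57710 := d2_1 D57729 (iv5 D57710) (iv2 F44469)
theorem F90905 : act 3 n57729 = n33683 := d6_1 D57729 (iv5 D33683) (iv3 F44470)
theorem F90906 : act 6 n57729 = n27582 := d12_2 D27564 D57729 (iv5 D27582) (iv6 D13181) (iv5 F21963)
def n57730 : Q := act 0 n27566
theorem D57730 : act 0 n27566 = n57730 := rfl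
def n57731 : Q := act 1 n27566
theorem D57731 : act 1 n27566 = n57731 := rfl
def n57732 : Q := act 2 n27566
theorem D57732 : act 2 n27566 = n57732 := rfl
def n57733 : Q := act 4 n27566
theorem D57733 : act 4 n27566 = n57733 := rfl
theorem F90907 : act 3 n57733 = n39509 := d5_1 D57733 (iv4 F60797) (iv3 F59771) (iv4 D27567) D27566
def n57734 : Q := act 5 n27566
theorem D57734 : act 5 n27566 = n57734 := rfl
theorem F90908 : act 3 n57734 = n27568 := d6_1 D57734 (iv5 D27568) D27566
def n57735 : Q := act 6 n27566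
theorem D57735 : act 6 n27566 = n57735 := rfl
theorem F90909 : act 3 n57735 = n27569 := d7_1 D57735 (iv6 D27569) D27566
def n57736 : Q := act 0 n27567
theorem D57736 : act 0 n27567 = n57736 := rfl
theorem F90910 : act 4 n57736 = n57312 := d20_0 (iv1 F90470) (iv4 D27445) D27444 F60938 (iv3 D18722) D18723 (iv1 F60408) (iv4 F60797) (iv3 F59771) D57736
theorem F90911 : act 1 n27572 = n57736 := d15_0 (iv0 D57736) F90439 F90443
def n57737 : Q := act 1 n27567
theorem D57737 : act 1 n27567 = n57737 := rfl
theorem F90912 : act 1 n57737 = n27572 := d15_1 D57737 (iv7 F90424) (iv2 F90418)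
def n57738 : Q := act 5 n27567
theorem D57738 : act 5 n27567 = n57738 := rfl
theorem F90913 : act 3 n57738 = n44910 := d6_1 D57738 (iv5 D44910) (iv3 F59771)
def n57739 : Q := act 6 n27567
theorem D57739 : act 6 n27567 = n57739 := rfl
theorem F90914 : act 3 n57739 = n44588 := d7_1 D57739 (iv6 F70116) (iv3 F59771)
theorem F90915 : act 4 n57739 = n27569 := d10_1 D57739 (iv6 D27569) D27567
theorem F90916 : act 5 n44586 = n57739 := d6_0 F90914 (iv5 D44588) D44586
theorem F90917 : act 7 n57738 = n57739 := d8_0 F90914 (iv7 F90441) (iv3 F90913)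
def n57740 : Q := act 0 n27568
theorem D57740 : act 0 n27568 = n57740 := rfl
theorem F90918 : act 5 n57740 = n57173 := d17_3 D13177 D27568 D57740 F90196 (iv5 F44500) (iv0 D27602) (iv5 D13185) (iv0 D6269) (iv4 F9757)
theorem E8397 : n57151 = n27371 := (c21_5 D27568 D57740 F90918 (iv6 D57173) (iv1 F90181) (iv6 D27371) (iv5 F21954) (iv1 D13173) (iv5 D6266) D6267 D13177)
theorem E8398 : n57082 = n27390 := ((D57082).symm.trans (sb E8397 (iv1 D57151)))
theorem E8399 : n57083 = n27395 := ((D57083).symm.trans (sb E8397 F90181))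
theorem E8400 : n57150 = n55432 := ((D57150).symm.trans (sb E8398 (iv1 F90138)))
theorem F90919 : act 1 n27390 = n27371 := (sb E8398 (iv0 D57082))
theorem F90920 : act 0 n27395 = n27371 := (sb E8399 (iv1 D57083))
theorem F90921 : act 0 n55432 = n27395 := (sb E8400 (iv1 F90185))
theorem F90923 : act 1 n27573 = n57740 := d15_0 (iv0 D57740) F90461 F90458
theorem F90925 : act 5 n57154 = n57596 := d21_6 (iv5 F21956) F21957 F21954 D27371 (iv1 F90919) D57154 (iv1 D57596) (iv5 D27524) (iv6 D13162) (iv1 F21811)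
def n57741 : Q := act 1 n27568
theorem D57741 : act 1 n27568 = n57741 := rfl
theorem F90926 : act 1 n57741 = n27573 := d15_1 D57741 (iv7 F90425) F90462
def n57742 : Q := act 4 n27568
theorem D57742 : act 4 n27568 = n57742 := rfl
def n57743 : Q := act 6 n27568
theorem D57743 : act 6 n27568 = n57743 := rfl
def n57744 : Q := act 0 n27569
theorem D57744 : act 0 n27569 = n57744 := rfl
def n57745 : Q := act 1 n27569
theorem D57745 : act 1 n27569 = n57745 := rfl
theorem F90927 : act 4 n57745 = n27608 := d18_7 (iv1 F21914) (iv4 F21964) (iv1 F44353) (iv4 F70115) F90916 F90915 D57745 F44509 (iv5 D27442)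
def n57746 : Q := act 5 n27569
theorem D57746 : act 5 n27569 = n57746 := rfl
theorem F90928 : act 2 n57746 = n55470 := d2_1 D57746 (iv5 F90383) (iv2 F90463)
theorem F90929 : act 0 n57746 = n55368 := d17_2 (iv1 D57745) D57746 (iv5 D55368) F42984 F21254 D13136 (iv5 F21968) D27608 (iv4 F90927)
theorem F90930 : act 1 n57746 = n55472 := d15_1 (iv0 F90929) (iv7 D55472) (iv2 F87630)
def n57747 : Q := act 7 n27569
theorem D57747 : act 7 n27569 = n57747 := rfl
theorem F90931 : act 4 n57747 = n57738 := d11_1 D57747 F90917 F90915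
def n57748 : Q := act 0 n27571
theorem D57748 : act 0 n27571 = n57748 := rfl
def n57749 : Q := act 1 n27571
theorem D57749 : act 1 n27571 = n57749 := rfl
def n57750 : Q := act 2 n27571
theorem D57750 : act 2 n27571 = n57750 := rfl
def n57751 : Q := act 4 n27571
theorem D57751 : act 4 n27571 = n57751 := rfl
def n57752 : Q := act 5 n27571
theorem D57752 : act 5 n27571 = n57752 := rfl
theorem F90932 : act 3 n57752 = n27573 := d6_1 D57752 (iv5 D27573) D27571
def n57753 : Q := act 6 n27571
theorem D57753 : act 6 n27571 = n57753 := rfl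
theorem F90933 : act 3 n57753 = n27574 := d7_1 D57753 (iv6 D27574) D27571
def n57754 : Q := act 5 n27572
theorem D57754 : act 5 n27572 = n57754 := rfl
theorem F90934 : act 2 n57754 = n57739 := d2_1 D57754 (iv5 F90916) F90443
theorem F90935 : act 3 n57754 = n39956 := d6_1 D57754 F60789 (iv3 F60752)
theorem F90936 : act 6 n39953 = n57754 := d7_0 F90935 (iv6 D39956) D39953
theorem F90937 : act 4 n57754 = n57300 := d10_1 F90936 (iv6 D57300) (iv4 F60787)
def n57755 : Q := act 6 n27572
theorem D57755 : act 6 n27572 = n57755 := rfl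
theorem F90938 : act 4 n57755 = n27574 := d10_1 D57755 (iv6 D27574) D27572
def n57756 : Q := act 4 n27573
theorem D57756 : act 4 n27573 = n57756 := rfl
def n57757 : Q := act 6 n27573
theorem D57757 : act 6 n27573 = n57757 := rfl
def n57758 : Q := act 0 n27574
theorem D57758 : act 0 n27574 = n57758 := rfl
def n57759 : Q := act 1 n27574
theorem D57759 : act 1 n27574 = n57759 := rfl
def n57760 : Q := act 5 n27574
theorem D57760 : act 5 n27574 = n57760 := rfl
def n57761 : Q := act 7 n27574
theorem D57761 : act 7 n27574 = n57761 := rfl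
def n57762 : Q := act 2 n27575
theorem D57762 : act 2 n27575 = n57762 := rfl
theorem F90939 : act 7 n27576 = n57762 := d15_2 (iv0 D27575) D27576 (iv2 D57762)
def n57763 : Q := act 3 n27575
theorem D57763 : act 3 n27575 = n57763 := rfl
def n57764 : Q := act 4 n27575
theorem D57764 : act 4 n27575 = n57764 := rfl
def n57765 : Q := act 5 n27575
theorem D57765 : act 5 n27575 = n57765 := rfl
def n57766 : Q := act 6 n27575
theorem D57766 : act 6 n27575 = n57766 := rfl
def n57767 : Q := act 7 n27575
theorem D57767 : act 7 n27575 = n57767 := rfl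
theorem F90940 : act 2 n57767 = n27576 := d4_1 D57767 F90939 (iv2 D57762)
def n57768 : Q := act 3 n27576
theorem D57768 : act 3 n27576 = n57768 := rfl
def n57769 : Q := act 4 n27576
theorem D57769 : act 4 n27576 = n57769 := rfl
def n57770 : Q := act 5 n27576
theorem D57770 : act 5 n27576 = n57770 := rfl
def n57771 : Q := act 6 n27576
theorem D57771 : act 6 n27576 = n57771 := rfl
def n57772 : Q := act 0 n27577
theorem D57772 : act 0 n27577 = n57772 := rfl
def n57773 : Q := act 1 n27577
theorem D57773 : act 1 n27577 = n57773 := rfl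
def n57774 : Q := act 3 n27577
theorem D57774 : act 3 n27577 = n57774 := rfl
def n57775 : Q := act 5 n27577
theorem D57775 : act 5 n27577 = n57775 := rfl
def n57776 : Q := act 7 n27577
theorem D57776 : act 7 n27577 = n57776 := rfl
theorem F90941 : act 4 n57776 = n27578 := d11_1 D57776 (iv7 D27578) D27577
def n57777 : Q := act 6 n27578
theorem D57777 : act 6 n27578 = n57777 := rfl
def n57778 : Q := act 5 n27579
theorem D57778 : act 5 n27579 = n57778 := rfl
theorem F90942 : act 3 n57778 = n33698 := d6_1 D57778 F52954 (iv3 F44475)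
theorem F90943 : act 7 n57778 = n27582 := d13_2 (iv7 F44477) D57778 (iv5 D27582)
def n57779 : Q := act 2 n27580
theorem D57779 : act 2 n27580 = n57779 := rfl
theorem F90944 : act 7 n27581 = n57779 := d15_2 (iv0 D27580) D27581 (iv2 D57779)
def n57780 : Q := act 3 n27580
theorem D57780 : act 3 n27580 = n57780 := rfl
def n57781 : Q := act 4 n27580
theorem D57781 : act 4 n27580 = n57781 := rfl
def n57782 : Q := act 5 n27580
theorem D57782 : act 5 n27580 = n57782 := rfl
def n57783 : Q := act 6 n27580
theorem D57783 : act 6 n27580 = n57783 := rfl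
def n57784 : Q := act 7 n27580
theorem D57784 : act 7 n27580 = n57784 := rfl
theorem F90945 : act 2 n57784 = n27581 := d4_1 D57784 F90944 (iv2 D57779)
def n57785 : Q := act 3 n27581
theorem D57785 : act 3 n27581 = n57785 := rfl
def n57786 : Q := act 4 n27581
theorem D57786 : act 4 n27581 = n57786 := rfl
theorem F90946 : act 3 n57786 = n35602 := d20_9 (iv4 F56277) F60847 (iv4 D38811) (iv3 D18450) (iv1 F29296) (iv3 F44190) (iv4 F89933) (iv1 F89936) D57786 (iv1 D35602)
def n57787 : Q := act 5 n27581
theorem D57787 : act 5 n27581 = n57787 := rfl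
def n57788 : Q := act 6 n27581
theorem D57788 : act 6 n27581 = n57788 := rfl
def n57789 : Q := act 0 n27582
theorem D57789 : act 0 n27582 = n57789 := rfl
def n57790 : Q := act 1 n27582
theorem D57790 : act 1 n27582 = n57790 := rfl
def n57791 : Q := act 4 n27582
theorem D57791 : act 4 n27582 = n57791 := rfl
def n57792 : Q := act 6 n27589
theorem D57792 : act 6 n27589 = n57792 := rfl
def n57794 : Q := act 5 n27591
theorem D57794 : act 5 n27591 = n57794 := rfl
theorem F90950 : act 2 n57794 = n27593 := d2_1 D57794 (iv5 D27593) D27591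
def n57795 : Q := act 6 n27591
theorem D57795 : act 6 n27591 = n57795 := rfl
theorem F90951 : act 2 n57795 = n27594 := d3_1 D57795 (iv6 D27594) D27591
theorem F90952 : act 4 n57795 = n40157 := d10_1 D57795 (iv6 D40157) F44548
theorem F90953 : act 5 n57318 = n57795 := d2_0 F90951 (iv5 F44493) D57318
theorem F90954 : act 7 n57794 = n57795 := d4_0 F90951 F44544 (iv2 F90950)
def n57796 : Q := act 3 n27592
theorem D57796 : act 3 n27592 = n57796 := rfl
theorem F90955 : act 4 n57796 = n27598 := d5_2 D27592 D57796 (iv3 D27598) (iv4 D13184) D13183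
theorem F90956 : act 7 n57796 = n40158 := d8_2 (iv7 F44546) D57796 (iv3 D40158)
def n57797 : Q := act 5 n27592
theorem D57797 : act 5 n27592 = n57797 := rfl
theorem F90957 : act 2 n57797 = n40156 := d2_1 D57797 (iv5 D40156) (iv2 F44547)
theorem F90958 : act 7 n57797 = n40159 := d13_2 (iv7 F44546) D57797 (iv5 D40159)
def n57798 : Q := act 6 n27592
theorem D57798 : act 6 n27592 = n57798 := rfl
theorem F90959 : act 2 n57798 = n40157 := d3_1 D57798 (iv6 D40157) (iv2 F44547)
theorem F90960 : act 4 n57798 = n27594 := d10_1 D57798 (iv6 D27594) D27592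
def n57799 : Q := act 0 n27593
theorem D57799 : act 0 n27593 = n57799 := rfl
theorem F90961 : act 1 n57795 = n57799 := d15_0 (iv0 D57799) (iv7 F44544) (iv2 F90951)
def n57800 : Q := act 1 n27593
theorem D57800 : act 1 n27593 = n57800 := rfl
theorem F90962 : act 1 n57800 = n57795 := d15_1 D57800 (iv7 F90954) F90950
def n57801 : Q := act 4 n27593
theorem D57801 : act 4 n27593 = n57801 := rfl
theorem F90963 : act 7 n57801 = n57798 := d11_2 F44544 D57801 F90960
def n57802 : Q := act 6 n27593
theorem D57802 : act 6 n27593 = n57802 := rfl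
theorem F90964 : act 3 n57802 = n27605 := d7_1 D57802 (iv6 D27605) (iv3 F44491)
theorem F90965 : act 5 n57802 = n57319 := d12_1 D57802 (iv6 D57319) F44493 (iv6 D27594) D27593
theorem F90966 : act 7 n57802 = n57319 := d14_2 F44544 D57802 (iv6 D57319) F44530 D27594
def n57803 : Q := act 0 n27594
theorem D57803 : act 0 n27594 = n57803 := rfl
theorem F90967 : act 1 n57794 = n57803 := d15_0 (iv0 D57803) F44544 (iv2 F90950)
def n57804 : Q := act 1 n27594
theorem D57804 : act 1 n27594 = n57804 := rfl
theorem F90968 : act 1 n57804 = n57794 := d15_1 D57804 F90954 F90951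
def n57805 : Q := act 2 n27596
theorem D57805 : act 2 n27596 = n57805 := rfl
theorem F90969 : act 7 n27597 = n57805 := d15_2 (iv0 D27596) D27597 (iv2 D57805)
def n57806 : Q := act 3 n27596
theorem D57806 : act 3 n27596 = n57806 := rfl
def n57807 : Q := act 4 n27596
theorem D57807 : act 4 n27596 = n57807 := rfl
theorem F90970 : act 3 n57807 = n39964 := d20_3 D13184 D27596 D57807 (iv1 D39964) (iv3 D18898) F29958 (iv1 D6297) F4236 (iv3 F4222) D6269
def n57808 : Q := act 5 n27596
theorem D57808 : act 5 n27596 = n57808 := rfl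
def n57810 : Q := act 7 n27596
theorem D57810 : act 7 n27596 = n57810 := rfl
theorem F90971 : act 2 n57810 = n27597 := d4_1 D57810 F90969 (iv2 D57805)
def n57811 : Q := act 3 n27597
theorem D57811 : act 3 n27597 = n57811 := rfl
def n57812 : Q := act 4 n27597
theorem D57812 : act 4 n27597 = n57812 := rfl
theorem F90972 : act 3 n57812 = n39702 := d20_3 D13189 (iv1 F44495) D57812 (iv1 F61178) (iv3 D38646) (iv4 D18391) (iv1 F29460) F29457 (iv3 F21913) (iv1 F21915)
theorem F90973 : act 4 n57811 = n39701 := d5_2 (iv4 D57812) D57811 (iv3 D39701) D39702 (iv3 F90972)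
theorem F90974 : act 0 n44586 = n57812 := d20_10 (iv4 D57812) (iv1 D27597) (iv4 D13184) D13183 D27589 F90482 D27865 (iv1 F90450) (iv4 D44587) D44586
theorem F90975 : act 1 n39953 = n57812 := d15_0 (iv0 F90974) (iv7 F90439) F90418
def n57814 : Q := act 6 n27597
theorem D57814 : act 6 n27597 = n57814 := rfl
def n57815 : Q := act 0 n27598
theorem D57815 : act 0 n27598 = n57815 := rfl
def n57816 : Q := act 1 n27598
theorem D57816 : act 1 n27598 = n57816 := rfl
def n57817 : Q := act 2 n27598
theorem D57817 : act 2 n27598 = n57817 := rfl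
def n57818 : Q := act 5 n27598
theorem D57818 : act 5 n27598 = n57818 := rfl
theorem F90976 : act 3 n57818 = n27599 := d6_1 D57818 (iv5 D27599) D27598
def n57819 : Q := act 6 n27598
theorem D57819 : act 6 n27598 = n57819 := rfl
theorem F90977 : act 3 n57819 = n27600 := d7_1 D57819 (iv6 D27600) D27598
def n57820 : Q := act 0 n27599
theorem D57820 : act 0 n27599 = n57820 := rfl
theorem F90978 : act 1 n27618 = n57820 := d15_0 (iv0 D57820) (iv7 F90497) F90496
def n57821 : Q := act 1 n27599
theorem D57821 : act 1 n27599 = n57821 := rfl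
theorem F90979 : act 1 n57821 = n27618 := d15_1 D57821 (iv7 F90475) F90474
def n57822 : Q := act 4 n27599
theorem D57822 : act 4 n27599 = n57822 := rfl
def n57823 : Q := act 6 n27599
theorem D57823 : act 6 n27599 = n57823 := rfl
def n57824 : Q := act 0 n27600
theorem D57824 : act 0 n27600 = n57824 := rfl
theorem F90980 : act 1 n57316 = n57824 := d15_0 (iv0 D57824) F44545 (iv2 F90476)
def n57825 : Q := act 1 n27600
theorem D57825 : act 1 n27600 = n57825 := rfl
theorem F90981 : act 1 n57825 = n57316 := d15_1 D57825 F90477 (iv2 F44543)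
def n57826 : Q := act 5 n27600
theorem D57826 : act 5 n27600 = n57826 := rfl
def n57827 : Q := act 2 n27602
theorem D57827 : act 2 n27602 = n57827 := rfl
theorem F90982 : act 5 n57827 = n55493 := d2_2 (iv5 F44500) D57827 F90613
theorem F90983 : act 7 n57827 = n27603 := d4_2 (iv7 F90612) D57827 (iv2 F90615)
theorem F90984 : act 1 n57827 = n57541 := d15_0 (iv0 D57541) (iv7 F90612) D57827
theorem F90985 : act 6 n57530 = n57827 := d14_5 F90983 F90616 (iv7 D27506) D27505 D57530
def n57828 : Q := act 3 n27602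
theorem D57828 : act 3 n27602 = n57828 := rfl
theorem F90987 : act 5 n57828 = n57170 := d6_2 (iv5 F44500) D57828 F90195
def n57829 : Q := act 4 n27602
theorem D57829 : act 4 n27602 = n57829 := rfl
theorem F90989 : act 7 n57829 = n57539 := d11_2 (iv7 F90612) D57829 F90687
theorem F90990 : act 0 n57829 = n57300 := d17_0 F90383 (iv1 D55470) (iv5 D26788) F21269 F9419 D6270 D13190 F44506 D57829
theorem F90991 : act 1 n57829 = n57747 := d15_1 (iv0 F90990) (iv7 D57747) F90463
def n57830 : Q := act 6 n27602
theorem D57830 : act 6 n27602 = n57830 := rfl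
theorem F90992 : act 2 n57830 = n57530 := d3_1 D57830 F90985 (iv2 D57827)
theorem F90993 : act 5 n57830 = n55398 := d12_1 D57830 F87672 (iv5 D27396) D27397 (iv5 F44500)
theorem F90994 : act 7 n57830 = n57509 := d14_2 (iv7 F90612) D57830 (iv6 D57509) (iv7 F44410) D27510
theorem F90995 : act 0 n56902 = n57830 := d21_4 D57048 F90278 (iv5 D56901) D56902 (iv6 D57830) F44500 F90191 (iv5 D55373) D55374 F90192
theorem E8401 : n57528 = n56902 := ((c15_1 (iv0 F90995) (iv0 D57528) D57530 (iv2 F90992))).symm
theorem F90996 : act 1 n56902 = n27505 := (sb E8401 (iv0 D57528))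
theorem F90997 : act 1 n57529 = n57830 := d15_1 D57529 F90994 F90669
def n57831 : Q := act 3 n27603
theorem D57831 : act 3 n27603 = n57831 := rfl
theorem F90998 : act 6 n57831 = n57516 := d7_2 (iv6 F90616) D57831 F90672
def n57832 : Q := act 4 n27603
theorem D57832 : act 4 n27603 = n57832 := rfl
theorem F90999 : act 2 n57832 = n57539 := d1_1 D57832 F90687 F90615
theorem F91000 : act 6 n57832 = n57522 := d10_2 (iv6 F90616) D57832 F90676
theorem F91001 : act 0 n57832 = n57747 := d18_2 (iv1 F44501) D57832 F90931 (iv5 D57738) (iv4 D27567) (iv0 D13177) F9757 D6270 D13190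
theorem F91002 : act 1 n57832 = n57300 := d15_0 (iv0 F90990) F90989 (iv2 F90999)
def n57833 : Q := act 5 n27603
theorem D57833 : act 5 n27603 = n57833 := rfl
theorem F91003 : act 2 n57833 = n55492 := d2_1 D57833 F87783 F90615
theorem F91004 : act 6 n57833 = n57163 := d12_2 (iv6 F90616) D57833 (iv5 F90605) F90682 F90680
theorem F91005 : act 7 n57833 = n55493 := d13_2 F90983 D57833 (iv5 F90982)
theorem F91006 : act 1 n57175 = n57833 := d15_1 D57175 F91005 F90613
theorem F91007 : act 1 n57833 = n55373 := d15_0 (iv0 F90191) (iv7 F90610) (iv2 F91003)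
theorem E8402 : n57505 = n13129 := (c21_5 D55373 (iv1 F91007) (iv5 D57833) F90616 (iv1 F90663) (iv6 D13129) F14007 (iv1 F5636) D6058 D12804 D26755)
theorem E8403 : n27501 = n27419 := (((D27419).symm.trans (sb E8402 (iv1 D57505)))).symm
theorem E8404 : n27506 = n27420 := (((D27420).symm.trans (sb E8402 F90663))).symm
theorem E8407 : n57506 = n57244 := (((D57244).symm.trans (sb E8403 D57506))).symm
theorem E8408 : n57507 = n57245 := (((D57245).symm.trans (sb E8403 D57507))).symm
theorem E8409 : n57508 = n57246 := (((D57246).symm.trans (sb E8403 D57508))).symm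
theorem E8410 : n57509 = n57184 := (((F90200).symm.trans (sb E8403 D57509))).symm
theorem E8411 : n57247 = n13156 := ((D57247).symm.trans (sb E8403 (iv7 F44410)))
theorem E8412 : n57516 = n57248 := (((D57248).symm.trans (sb E8404 (iv3 F90672)))).symm
theorem E8413 : n57522 = n57249 := (((D57249).symm.trans (sb E8404 (iv4 F90676)))).symm
theorem E8414 : n57527 = n57250 := (((D57250).symm.trans (sb E8404 (iv5 F90680)))).symm
theorem E8415 : n57251 = n27603 := ((D57251).symm.trans (sb E8404 (iv6 F90616)))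
theorem F91010 : act 7 n57244 = n27507 := (sb E8407 F90664)
theorem F91011 : act 2 n57245 = n27503 := (sb E8408 F90665)
theorem F91012 : act 7 n57245 = n27508 := (sb E8408 F90666)
theorem F91013 : act 2 n57246 = n27504 := (sb E8409 F90667)
theorem F91014 : act 7 n57246 = n27509 := (sb E8409 F90668)
theorem F91015 : act 2 n57184 = n27505 := (sb E8410 F90669)
theorem F91016 : act 7 n57184 = n57830 := (sb E8410 (iv7 F90994))
theorem F91018 : act 7 n13156 = n27419 := (sb E8411 (iv7 D57247))
theorem F91019 : act 6 n57248 = n57831 := (sb E8412 (iv6 F90998))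
theorem F91020 : act 7 n57248 = n27502 := (sb E8412 (iv7 D57516))
theorem F91021 : act 2 n57249 = n27508 := (sb E8413 F90675)
theorem F91022 : act 6 n57249 = n57832 := (sb E8413 (iv6 F91000))
theorem F91023 : act 7 n57249 = n27503 := (sb E8413 (iv7 D57522))
theorem E8416 : n57428 = n57232 := ((((iv6 F90310)).symm.trans (sb E8414 (iv6 F90682)))).symm
theorem F91026 : act 6 n27603 = n27420 := (sb E8415 (iv6 D57251))
theorem E8417 : n57163 = n55511 := ((((iv5 F90289)).symm.trans (sb E8416 F90605))).symm
theorem F91029 : act 2 n55511 = n57431 := (sb E8417 (iv2 F90606))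
theorem F91030 : act 6 n55511 = n57833 := (sb E8417 (iv6 F91004))
theorem E8418 : n27607 = n27510 := (c21_11 (iv5 F87783) (iv1 F87788) (iv5 D26798) D26799 D55511 F91030 (iv5 D57833) (iv1 D27603) (iv5 D13185) D13186 D27607)
theorem E8419 : n57541 = n27442 := ((D57541).symm.trans (sb E8418 (iv1 F44512)))
theorem E8420 : n57542 = n13186 := ((D57542).symm.trans (sb E8418 (iv0 D27607)))
theorem E8421 : n57827 = n27608 := ((((iv1 F44509)).symm.trans (sb E8419 (iv1 F90984)))).symm
theorem F91032 : act 1 n27442 = n27510 := (sb E8419 (iv0 D57541))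
theorem F91033 : act 0 n13186 = n27510 := (sb E8420 (iv1 D57542))
theorem F91034 : act 2 n27608 = n27602 := (sb E8421 (iv2 D57827))
theorem E8422 : n55493 = n55397 := ((((iv5 F87671)).symm.trans (sb E8421 F90982))).symm
theorem E8423 : n57530 = n57180 := ((((iv6 F90198)).symm.trans (sb E8421 (iv6 F90985)))).symm
theorem F91035 : act 7 n27608 = n27603 := (sb E8421 F90983)
theorem F91036 : act 0 n55397 = n26793 := (sb E8422 (iv1 D55493))
theorem F91037 : act 1 n55397 = n26798 := (sb E8422 F87784)
theorem E8424 : n27393 = n26763 := ((((iv6 D55397)).symm.trans (sb E8422 F90614))).symm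
theorem F91039 : act 7 n55397 = n57833 := (sb E8422 (iv7 F91005))
theorem F91040 : act 2 n57180 = n57830 := (sb E8423 (iv2 F90992))
theorem F91041 : act 7 n57180 = n27505 := (sb E8423 (iv7 D57530))
theorem E8425 : n57138 = n12806 := ((((iv1 D26763)).symm.trans (sb E8424 (iv1 F90171)))).symm
theorem E8428 : n57149 = n55394 := (((D55394).symm.trans (sb E8424 (iv3 F90180)))).symm
theorem E8429 : n57155 = n55395 := (((D55395).symm.trans (sb E8424 (iv4 F90184)))).symm
theorem E8430 : n57160 = n55396 := (((D55396).symm.trans (sb E8424 (iv5 F90189)))).symm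
theorem E8431 : n55388 = n13119 := ((F87668).symm.trans (sb E8424 (iv7 D27393)))
theorem E8432 : n27388 = n26762 := (((D26762).symm.trans (sb E8425 (iv1 D57138)))).symm
theorem F91043 : act 7 n55394 = n27389 := (sb E8428 (iv7 D57149))
theorem F91045 : act 7 n55395 = n27390 := (sb E8429 (iv7 D57155))
theorem F91046 : act 2 n55396 = n27396 := (sb E8430 F90188)
theorem F91047 : act 7 n55396 = n27391 := (sb E8430 (iv7 D57160))
theorem F91048 : act 7 n13119 = n26763 := (sb E8431 (iv7 F87668))
theorem E8433 : n57139 = n55389 := (((D55389).symm.trans (sb E8432 D57139))).symm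
theorem E8434 : n57140 = n55390 := (((D55390).symm.trans (sb E8432 D57140))).symm
theorem E8435 : n57141 = n55391 := (((D55391).symm.trans (sb E8432 D57141))).symm
theorem E8436 : n57142 = n55392 := (((D55392).symm.trans (sb E8432 D57142))).symm
theorem F91050 : act 7 n26762 = n13120 := (sb E8432 (iv7 F44278))
theorem F91051 : act 7 n55389 = n27394 := (sb E8433 F90172)
theorem F91053 : act 7 n55390 = n27395 := (sb E8434 F90174)
theorem F91055 : act 7 n55391 = n27396 := (sb E8435 F90176)
theorem E8437 : n57432 = n57233 := (((F90282).symm.trans (sb E8436 (iv5 F90618)))).symm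
theorem F91057 : act 7 n55392 = n57431 := (sb E8436 F90608)
theorem F91058 : act 2 n57233 = n27480 := (sb E8437 F90617)
theorem F91059 : act 7 n57233 = n27479 := (sb E8437 (iv7 D57432))
theorem E8438 : n57175 = n35125 := (c21_11 F55824 (iv1 D26756) F21254 (iv6 D6252) D6249 D13127 D27414 D57232 (iv5 F90289) F91030 (iv1 F91006))
theorem F91060 : act 0 n35125 = n27397 := (sb E8438 (iv1 D57175))
theorem F91061 : act 1 n35125 = n57833 := (sb E8438 F91006)
theorem E8439 : n57161 = n55378 := ((c21_4 D57833 (iv1 F91061) F55824 D55378 (iv1 F90609) F90607 F87783 (iv1 F91032) (iv5 D27442) F21970 (iv1 F44501))).symm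
theorem F91062 : act 0 n55378 = n57431 := (sb E8439 (iv1 F90609))
theorem F91063 : act 1 n55378 = n27392 := (sb E8439 (iv0 D57161))
theorem F91064 : act 5 n57529 = n57157 := d21_0 (iv1 D57157) (iv5 D27391) D27392 (iv1 F91063) (iv6 D55378) (iv5 F55824) F91060 (iv5 F44500) D57830 (iv1 F90997)
theorem F91065 : act 6 n57157 = n37175 := d21_3 (iv5 F90993) (iv1 F90997) F91064 (iv1 D37175) (iv6 D17878) (iv5 D8433) F17470 D13108 (iv6 F43005) D55398
theorem E8440 : n55512 = n55392 := (c15_2 (iv0 D55511) D55512 F91057 (iv2 F91029))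
theorem F91066 : act 0 n55392 = n26799 := (sb E8440 (iv1 D55512))
theorem E8441 : n57177 = n55398 := ((c3_3 F87670 F91046 (iv6 F87672) (iv2 D57177))).symm
theorem F91067 : act 2 n55398 = n27398 := (sb E8441 (iv2 D57177))
theorem F91068 : act 7 n55398 = n27399 := (sb E8441 (iv7 F90197))
theorem E8442 : n57181 = n55399 := (c15_4 F87673 F87681 F91068 (iv2 F90199))
theorem F91070 : act 7 n55399 = n27398 := (sb E8442 (iv7 D57181))
theorem F91071 : act 1 n27634 = n57184 := d15_1 (iv0 F90589) F91016 (iv2 F91040)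
theorem E8443 : n57032 = n27473 := (c21_7 (iv5 F87671) F91036 (iv5 D26793) D26794 D55497 F90698 (iv5 F90097) F44549 D27623 F44521 (iv1 F44509))
theorem E8444 : n57393 = n27359 := (((iv2 F90574)).symm.trans (sb E8443 F90096))
theorem E8445 : n27356 = n26771 := (((F44393).symm.trans (sb E8443 F90097))).symm
theorem E8446 : n57223 = n13145 := ((((iv6 D27473)).symm.trans (sb E8443 (iv6 F90273)))).symm
theorem E8447 : n57411 = n27354 := ((D57411).symm.trans (sb E8443 (iv7 D57032)))
theorem E8448 : n55419 = n13106 := ((((iv5 D27359)).symm.trans (sb E8444 (iv5 F90575)))).symm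
theorem E8449 : n27469 = n27412 := ((((iv6 F44305)).symm.trans (sb E8444 (iv6 D57393)))).symm
theorem E8450 : n57015 = n27621 := (((iv7 F90085)).symm.trans (sb E8444 (iv7 F90576)))
theorem E8453 : n57023 = n55420 := (((D55420).symm.trans (sb E8445 (iv3 F90089)))).symm
theorem E8454 : n57029 = n55421 := (((D55421).symm.trans (sb E8445 (iv4 F90093)))).symm
theorem E8457 : n27474 = n27413 := ((D27474).symm.trans (sb E8446 (iv7 F90274)))
theorem F91073 : act 7 n27354 = n27473 := (sb E8447 (iv7 D57411))
theorem E8458 : n27351 = n26770 := ((F44250).symm.trans (sb E8448 (iv7 D55419)))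
theorem E8462 : n57391 = n57225 := (((D57225).symm.trans (sb E8449 D57391))).symm
theorem E8463 : n57392 = n57226 := (((D57226).symm.trans (sb E8449 D57392))).symm
theorem E8464 : n57227 = n13146 := ((D57227).symm.trans (sb E8449 (iv7 F44392)))
theorem F91076 : act 2 n27621 = n27354 := (sb E8450 F90084)
theorem F91077 : act 7 n27621 = n27359 := (sb E8450 F90085)
theorem F91078 : act 7 n55420 = n27352 := (sb E8453 (iv7 D57023))
theorem F91080 : act 7 n55421 = n27353 := (sb E8454 (iv7 D57029))
theorem E8465 : n57400 = n57228 := (((D57228).symm.trans (sb E8457 (iv3 F90580)))).symm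
theorem E8466 : n57406 = n57229 := (((D57229).symm.trans (sb E8457 (iv4 F90584)))).symm
theorem E8467 : n57410 = n57230 := (((D57230).symm.trans (sb E8457 (iv5 F90592)))).symm
theorem E8468 : n57412 = n57231 := (((D57231).symm.trans (sb E8457 D57412))).symm
theorem F91084 : act 7 n27413 = n13145 := (sb E8457 (iv7 D27474))
theorem E8471 : n57016 = n55418 := (((D55418).symm.trans (sb E8458 D57016))).symm
theorem F91086 : act 7 n26770 = n13106 := (sb E8458 (iv7 F44250))
theorem F91088 : act 2 n57225 = n27471 := (sb E8462 F90570)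
theorem F91090 : act 2 n57226 = n27472 := (sb E8463 F90572)
theorem F91092 : act 2 n13146 = n27413 := (sb E8464 F90279)
theorem F91094 : act 7 n57228 = n27470 := (sb E8465 (iv7 D57400))
theorem F91095 : act 2 n57229 = n27476 := (sb E8466 F90583)
theorem F91096 : act 7 n57229 = n27471 := (sb E8466 (iv7 D57406))
theorem F91097 : act 2 n57230 = n27477 := (sb E8467 F90591)
theorem F91098 : act 7 n57230 = n27472 := (sb E8467 (iv7 D57410))
theorem F91099 : act 1 n57231 = n27629 := (sb E8468 F90603)
theorem F91100 : act 2 n57231 = n27478 := (sb E8468 F90596)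
theorem F91104 : act 2 n55418 = n27355 := (sb E8471 F90086)
theorem E8472 : n57548 = n57253 := (((F90312).symm.trans (sb E8471 (iv5 F90700)))).symm
theorem F91105 : act 7 n55418 = n57546 := (sb E8471 F90693)
theorem F91106 : act 2 n57253 = n27512 := (sb E8472 F90699)
theorem F91107 : act 7 n57253 = n27511 := (sb E8472 (iv7 D57548))
theorem E8473 : n57543 = n57252 := (c15_4 (iv0 D57252) D57253 F91107 D57543)
theorem F91108 : act 2 n57252 = n27511 := (sb E8473 (iv2 D57543))
theorem F91109 : act 5 n57252 = n57034 := (sb E8473 F90690)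
theorem F91110 : act 7 n57252 = n27512 := (sb E8473 (iv7 F90689))
theorem F91111 : act 2 n57427 = n57031 := d4_3 (iv7 F90280) F91100 D57427
theorem E8474 : n57425 = n56897 := (c15_1 D57425 (iv0 F90095) (iv7 F90280) F91100)
theorem F91112 : act 0 n56897 = n27478 := (sb E8474 (iv1 D57425))
theorem F91113 : act 1 n57031 = n57424 := d15_0 (iv0 D57424) D57427 F91111
theorem F91114 : act 5 n35131 = n57424 := d21_0 (iv1 F91113) (iv5 F90702) (iv6 D57551) (iv1 D27512) F21935 (iv5 D12802) F14031 D7982 (iv6 F27980) D35131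
theorem F91115 : act 2 n57409 = n57048 := d3_3 (iv6 F90277) F91090 D57409
theorem F91116 : act 2 n57405 = n57045 := d3_3 (iv6 F90276) F91088 D57405
theorem F91117 : act 7 n57021 = n57399 := d13_2 F91078 D57021 (iv5 F90579)
theorem F91118 : act 7 n57405 = n57030 := d11_2 F91073 (iv4 F90582) (iv4 D57030)
theorem F91119 : act 7 n57832 = n57745 := d11_2 F91035 D57832 F90927
theorem E8475 : n57744 = n57539 := ((c15_4 (iv0 D57744) D57745 (iv7 F91119) F90999)).symm
theorem F91121 : act 1 n57539 = n27569 := (sb E8475 (iv0 D57744))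
def n57834 : Q := act 0 n27604
theorem D57834 : act 0 n27604 = n57834 := rfl
theorem F91122 : act 1 n27620 = n57834 := d15_0 (iv0 D57834) (iv7 F44545) F44543
def n57835 : Q := act 1 n27604
theorem D57835 : act 1 n27604 = n57835 := rfl
theorem F91123 : act 1 n57835 = n27620 := d15_1 D57835 (iv7 F90477) F90476
def n57836 : Q := act 3 n27604
theorem D57836 : act 3 n27604 = n57836 := rfl
theorem F91124 : act 7 n57836 = n57819 := d8_2 F44545 D57836 F90977
def n57837 : Q := act 5 n27604
theorem D57837 : act 5 n27604 = n57837 := rfl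
def n57838 : Q := act 6 n27604
theorem D57838 : act 6 n27604 = n57838 := rfl
theorem F91126 : act 4 n57838 = n27605 := d10_1 D57838 (iv6 D27605) D27604
theorem F91127 : act 7 n57838 = n57322 := d14_2 F44545 D57838 (iv6 D57322) F44532 D27600
def n57839 : Q := act 3 n27608
theorem D57839 : act 3 n27608 = n57839 := rfl
theorem F91128 : act 7 n57839 = n57831 := d8_2 (iv7 F91035) D57839 (iv3 D57831)
def n57842 : Q := act 5 n27613
theorem D57842 : act 5 n27613 = n57842 := rfl
theorem F91132 : act 2 n57842 = n27615 := d2_1 D57842 (iv5 D27615) D27613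
theorem F91133 : act 3 n57842 = n57795 := d6_1 D57842 (iv5 F90953) F90487
theorem F91134 : act 6 n57310 = n57842 := d7_0 F91133 (iv6 D57795) (iv3 F90397)
def n57843 : Q := act 6 n27613
theorem D57843 : act 6 n27613 = n57843 := rfl
def n57846 : Q := act 6 n27614
theorem D57846 : act 6 n27614 = n57846 := rfl
theorem F91137 : act 4 n57846 = n27616 := d10_1 D57846 (iv6 D27616) D27614
def n57847 : Q := act 0 n27615
theorem D57847 : act 0 n27615 = n57847 := rfl
def n57848 : Q := act 1 n27615
theorem D57848 : act 1 n27615 = n57848 := rfl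
def n57849 : Q := act 4 n27615
theorem D57849 : act 4 n27615 = n57849 := rfl
theorem F91138 : act 6 n57849 = n36097 := d10_2 F44515 D57849 F59782
def n57850 : Q := act 0 n27616
theorem D57850 : act 0 n27616 = n57850 := rfl
def n57851 : Q := act 1 n27616
theorem D57851 : act 1 n27616 = n57851 := rfl
def n57852 : Q := act 5 n27616
theorem D57852 : act 5 n27616 = n57852 := rfl
theorem F91140 : act 6 n57852 = n57311 := d12_2 D27616 D57852 (iv5 D57311) F44515 (iv5 D27615)
def n57853 : Q := act 0 n27617
theorem D57853 : act 0 n27617 = n57853 := rfl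
def n57854 : Q := act 1 n27617
theorem D57854 : act 1 n27617 = n57854 := rfl
def n57855 : Q := act 2 n27617
theorem D57855 : act 2 n27617 = n57855 := rfl
def n57856 : Q := act 5 n27617
theorem D57856 : act 5 n27617 = n57856 := rfl
theorem F91142 : act 3 n57856 = n27618 := d6_1 D57856 (iv5 D27618) D27617
def n57857 : Q := act 6 n27617
theorem D57857 : act 6 n27617 = n57857 := rfl
theorem F91143 : act 3 n57857 = n27619 := d7_1 D57857 (iv6 D27619) D27617
def n57858 : Q := act 4 n27618
theorem D57858 : act 4 n27618 = n57858 := rfl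
def n57859 : Q := act 6 n27618
theorem D57859 : act 6 n27618 = n57859 := rfl
def n57860 : Q := act 0 n27619
theorem D57860 : act 0 n27619 = n57860 := rfl
def n57861 : Q := act 1 n27619
theorem D57861 : act 1 n27619 = n57861 := rfl
theorem F91144 : act 1 n57861 = n57838 := d15_1 D57861 F91127 F90498
def n57862 : Q := act 5 n27619
theorem D57862 : act 5 n27619 = n57862 := rfl
theorem F91145 : act 1 n57862 = n57000 := d17_6 D13105 D27354 F44522 (iv5 D27623) (iv4 F44517) D57862 (iv5 D57000) (iv0 D27347) F21865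
theorem E8476 : n57814 = n13141 := (c21_6 D57000 (iv1 F91145) (iv5 D57862) (iv6 D27619) (iv1 F44495) D57814 (iv5 F44248) (iv1 D27345) (iv5 D13103) D13104 D27347)
theorem E8477 : n27597 = n27456 := (((D27456).symm.trans (sb E8476 (iv6 D57814)))).symm
theorem E8478 : n57353 = n13184 := ((D57353).symm.trans (sb E8477 (iv1 D27597)))
theorem E8479 : n57354 = n13189 := ((D57354).symm.trans (sb E8477 F44495))
theorem E8480 : n57810 = n35425 := ((((iv2 F56142)).symm.trans (sb E8477 (iv2 F90971)))).symm
theorem E8481 : n57811 = n57352 := ((((iv3 F90540)).symm.trans (sb E8477 D57811))).symm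
theorem E8482 : n57812 = n35422 := ((((iv4 F56131)).symm.trans (sb E8477 D57812))).symm
theorem E8484 : n57805 = n57356 := (((D57356).symm.trans (sb E8477 F90969))).symm
theorem F91146 : act 1 n13184 = n27456 := (sb E8478 (iv0 D57353))
theorem F91147 : act 0 n13189 = n27456 := (sb E8479 (iv1 D57354))
theorem F91148 : act 7 n35425 = n27596 := (sb E8480 (iv7 D57810))
theorem E8485 : n39701 = n39105 := (((F90541).symm.trans (sb E8481 F90973))).symm
theorem F91149 : act 0 n35422 = n39953 := (sb E8482 (iv1 F90975))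
theorem F91150 : act 1 n35422 = n44586 := (sb E8482 (iv0 F90974))
theorem E8486 : n39702 = n17985 := (((F56130).symm.trans (sb E8482 F90972))).symm
theorem F91151 : act 2 n57356 = n27596 := (sb E8484 (iv2 D57805))
theorem E8487 : n18787 = n18568 := (((F60122).symm.trans (sb E8485 (iv3 D39701)))).symm
theorem E8488 : n38646 = n37452 := (((D37452).symm.trans (sb E8486 (iv1 F61178)))).symm
theorem E8489 : n37453 = n18981 := ((D37453).symm.trans (sb E8486 (iv0 F61086)))
theorem E8490 : n39106 = n27837 := ((D39106).symm.trans (sb E8487 (iv1 F44946)))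
theorem E8491 : n39107 = n8806 := ((D39107).symm.trans (sb E8487 (iv0 D18787)))
theorem E8492 : n39700 = n27659 := ((((iv2 F44599)).symm.trans (sb E8487 D39700))).symm
theorem E8495 : n39705 = n39109 := (((D39109).symm.trans (sb E8487 D39705))).symm
theorem E8496 : n56032 = n39707 := (((iv1 F88697)).symm.trans (sb E8488 F60581))
theorem F91152 : act 2 n37452 = n40053 := (sb E8488 (iv2 F60941))
theorem F91153 : act 3 n37452 = n18391 := (sb E8488 (iv3 D38646))
theorem F91154 : act 7 n37452 = n40194 := (sb E8488 F61171)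
theorem F91155 : act 0 n18981 = n17985 := (sb E8489 (iv1 D37453))
theorem F91156 : act 1 n27837 = n18568 := (sb E8490 (iv0 D39106))
theorem F91157 : act 0 n8806 = n18568 := (sb E8491 (iv1 D39107))
theorem F91158 : act 7 n27659 = n18788 := (sb E8492 (iv7 F60579))
theorem F91159 : act 2 n39109 = n18788 := (sb E8495 F60580)
theorem F91160 : act 1 n39707 = n37452 := (sb E8496 F88697)
theorem F91161 : act 2 n39707 = n37454 := (sb E8496 F88691)
theorem E8497 : n27034 = n19019 := ((((iv3 F60582)).symm.trans (sb E8496 F88692))).symm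
theorem F91162 : act 5 n39707 = n36511 := (sb E8496 F88693)
theorem F91163 : act 6 n39707 = n35401 := (sb E8496 F88694)
theorem F91164 : act 7 n39707 = n27030 := (sb E8496 (iv7 D56032))
theorem E8498 : n39965 = n17188 := (((iv1 F60806)).symm.trans (sb E8497 (iv1 F43688)))
theorem E8499 : n17187 = n8906 := ((((iv0 D19019)).symm.trans (sb E8497 F43689))).symm
theorem E8500 : n40250 = n17189 := ((D40250).symm.trans (sb E8497 F43684))
theorem E8501 : n56036 = n38776 := (((F59675).symm.trans (sb E8497 (iv4 F88701)))).symm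
theorem E8502 : n40251 = n17629 := ((D40251).symm.trans (sb E8497 F43685))
theorem E8504 : n40253 = n12953 := ((D40253).symm.trans (sb E8497 (iv7 D27034)))
theorem E8505 : n19020 = n8065 := ((((iv1 D17188)).symm.trans (sb E8498 (iv1 F60808)))).symm
theorem F91165 : act 1 n17188 = n19019 := (sb E8498 F60806)
theorem E8506 : n35441 = n18898 := (((iv2 F56152)).symm.trans (sb E8498 (iv2 D39965)))
theorem E8507 : n35442 = n19032 := ((D35442).symm.trans (sb E8498 F60804))
theorem E8508 : n40260 = n35444 := (((D35444).symm.trans (sb E8498 F61236))).symm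
theorem E8509 : n35436 = n19021 := ((F56150).symm.trans (sb E8498 F60805))
theorem E8512 : n35439 = n19023 := (((D19023).symm.trans (sb E8499 D35439))).symm
theorem F91166 : act 2 n17189 = n19019 := (sb E8500 (iv2 D40250))
theorem E8514 : n35433 = n18438 := ((((iv1 D38776)).symm.trans (sb E8501 (iv1 F88704)))).symm
theorem F91167 : act 1 n38776 = n35432 := (sb E8501 F88705)
theorem F91168 : act 2 n38776 = n35435 := (sb E8501 F88700)
theorem F91169 : act 6 n38776 = n35407 := (sb E8501 F88702)
theorem F91170 : act 7 n38776 = n27031 := (sb E8501 (iv7 D56036))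
theorem F91171 : act 5 n17629 = n19019 := (sb E8502 (iv5 D40251))
theorem F91173 : act 7 n12953 = n19019 := (sb E8504 (iv7 D40253))
theorem F91174 : act 0 n8065 = n8906 := (sb E8505 (iv1 D19020))
theorem E8515 : n40254 = n17183 := ((((iv3 F28148)).symm.trans (sb E8505 D40254))).symm
theorem F91175 : act 2 n18898 = n17188 := (sb E8506 F56152)
theorem F91176 : act 3 n19032 = n17188 := (sb E8507 (iv3 D35442))
theorem F91177 : act 0 n35444 = n40266 := (sb E8508 (iv1 F61248))
theorem F91178 : act 1 n35444 = n40265 := (sb E8508 F61247)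
theorem F91179 : act 2 n35444 = n19024 := (sb E8508 F61234)
theorem F91180 : act 3 n35444 = n36105 := (sb E8508 F61235)
theorem E8519 : n27032 = n19021 := (((iv6 F56153)).symm.trans (sb E8508 (iv6 D40260)))
theorem F91182 : act 7 n19021 = n17188 := (sb E8509 (iv7 F56150))
theorem E8520 : n40266 = n27059 := ((D40266).symm.trans (sb E8512 (iv0 F88779)))
theorem E8521 : n35676 = n35513 := (((iv6 F56363)).symm.trans (sb E8512 F56198))
theorem E8523 : n38775 = n17186 := ((D38775).symm.trans (sb E8514 (iv1 D35433)))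
theorem E8524 : n57313 = n35425 := ((((iv4 F56143)).symm.trans (sb E8515 (iv4 F90472)))).symm
theorem E8525 : n39964 = n17189 := (((iv1 F60807)).symm.trans (sb E8519 (iv1 F43687)))
theorem E8526 : n39963 = n12953 := ((F60803).symm.trans (sb E8519 (iv0 D27032)))
theorem E8530 : n56040 = n40259 := (((D40259).symm.trans (sb E8519 D56040))).symm
theorem F91183 : act 6 n19021 = n35444 := (sb E8519 F56153)
theorem F91184 : act 0 n27059 = n19023 := (sb E8520 (iv1 D40266))
theorem E8532 : n56130 = n35444 := ((D56130).symm.trans (sb E8520 (iv0 F91177)))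
theorem F91185 : act 3 n35513 = n17293 := (sb E8521 (iv3 D35676))
theorem E8533 : n56044 = n36748 := (((iv5 F88709)).symm.trans (sb E8521 (iv5 F57647)))
theorem F91186 : act 6 n35513 = n19023 := (sb E8521 F56363)
theorem F91187 : act 7 n35513 = n36748 := (sb E8521 (iv7 F57649))
theorem F91188 : act 1 n17186 = n18438 := (sb E8523 (iv0 D38775))
theorem F91189 : act 0 n35425 = n27441 := (sb E8524 (iv1 D57313))
theorem F91190 : act 1 n35425 = n27445 := (sb E8524 F90471)
theorem F91191 : act 0 n17189 = n18898 := (sb E8525 (iv1 D39964))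
theorem F91192 : act 1 n17189 = n19021 := (sb E8525 F60807)
theorem E8536 : n57807 = n35428 := ((((iv3 F56144)).symm.trans (sb E8525 (iv3 F90970)))).symm
theorem F91193 : act 0 n12953 = n19021 := (sb E8526 (iv1 F60803))
theorem F91194 : act 1 n12953 = n18898 := (sb E8526 (iv0 D39963))
theorem E8537 : n56494 = n40269 := ((((iv1 F61251)).symm.trans (sb E8530 F89351))).symm
theorem F91195 : act 6 n40259 = n36620 := (sb E8530 F88707)
theorem F91196 : act 0 n35444 = n27059 := (sb E8532 (iv1 D56130))
theorem F91197 : act 5 n36748 = n35513 := (sb E8533 F88709)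
theorem F91198 : act 4 n35428 = n27596 := (sb E8536 (iv4 D57807))
theorem F91199 : act 5 n40269 = n27181 := (sb E8537 (iv5 D56494))
theorem F91200 : act 6 n56499 = n40265 := d21_3 D13019 D27182 D56499 (iv1 F91178) (iv6 F91183) D40259 (iv1 F61251) F91199 (iv6 D27181) (iv1 D13018)
theorem E8538 : n36748 = n36621 := (c21_10 (iv5 D17655) (iv1 F28660) F28657 (iv6 F43921) (iv1 F43923) D27181 (iv5 F91199) (iv1 D40269) (iv5 F30368) (iv6 F57648) (iv1 D36621))
theorem F91201 : act 3 n36621 = n17716 := (sb E8538 (iv3 D36748))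
theorem F91202 : act 5 n36621 = n35513 := (sb E8538 F91197)
theorem F91203 : act 6 n36621 = n18898 := (sb E8538 F57648)
theorem F91204 : act 7 n36621 = n35513 := (sb E8538 (iv7 F91187))
theorem F91205 : act 2 n35513 = n36620 := d15_3 (iv0 D36620) D36621 F91204
theorem F91206 : act 2 n36621 = n35445 := d15_3 F89353 D35513 (iv7 F91204)
theorem F91207 : act 3 n35445 = n40273 := d0_2 (iv3 F91201) F91206 F61266 F30542 F30345
theorem F91208 : act 7 n35445 = n36620 := d4_2 (iv7 F91204) F91206 (iv2 F91205)
theorem F91209 : act 3 n36620 = n56343 := d8_1 F91208 F89109 (iv3 F91207)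
theorem E8539 : n36625 = n36557 := (c21_5 (iv5 F91202) (iv1 D36621) (iv5 D17655) D17656 D36625 (iv6 D36557) D36556 F88792 F88790 (iv6 F57333) (iv1 F57334))
theorem F91210 : act 1 n36557 = n17656 := (sb E8539 (iv0 D36625))
theorem F91211 : act 5 n40265 = n56424 := d12_1 F91200 (iv6 D56424) D56423 (iv6 F89285) D56499
theorem E8541 : n56971 = n55486 := ((c18_3 D12815 D26792 D55486 F90050 (iv5 F56145) F91198 (iv0 D27596) (iv4 D13184) (iv0 D6269) (iv5 F9419))).symm
theorem F91213 : act 4 n55486 = n35349 := (sb E8541 F90050)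
theorem F91214 : act 7 n55486 = n27335 := (sb E8541 (iv7 D56971))
theorem E8542 : n55487 = n55379 := ((c15_4 F87778 F87782 F91214 (iv2 F87643))).symm
theorem F91215 : act 0 n55379 = n26792 := (sb E8542 (iv1 D55487))
theorem F91216 : act 1 n55379 = n26797 := (sb E8542 F87778)
theorem E8543 : n36528 = n8324 := (c20_6 D26792 D55486 F91213 F56064 (iv1 F28678) D36528 (iv4 F29959) (iv1 D12823) F9423 (iv3 F9418) D12815)
theorem E8544 : n17676 = n17628 := ((D17676).symm.trans (sb E8543 (iv3 D36528)))
theorem E8545 : n36674 = n8305 := ((((iv1 D17628)).symm.trans (sb E8544 D36674))).symm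
theorem E8547 : n36676 = n36527 := ((((iv2 F57374)).symm.trans (sb E8544 D36676))).symm
theorem F91217 : act 3 n17628 = n8324 := (sb E8544 (iv3 D17676))
theorem E8548 : n36677 = n36529 := (((D36529).symm.trans (sb E8544 D36677))).symm
theorem E8549 : n36678 = n36530 := (((D36530).symm.trans (sb E8544 D36678))).symm
theorem E8550 : n36679 = n36531 := (((D36531).symm.trans (sb E8544 D36679))).symm
theorem E8551 : n36522 = n17130 := ((F57372).symm.trans (sb E8544 F51337))
theorem E8552 : n35296 = n17627 := (((D17627).symm.trans (sb E8545 (iv1 F57544)))).symm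
theorem F91219 : act 1 n36527 = n35294 := (sb E8547 F57547)
theorem F91220 : act 3 n36527 = n17759 := (sb E8547 F59731)
theorem F91221 : act 3 n36529 = n55542 := (sb E8548 (iv3 F87833))
theorem F91222 : act 7 n36529 = n35297 := (sb E8548 F57550)
theorem F91223 : act 3 n36530 = n17678 := (sb E8549 F57551)
theorem E8553 : n17688 = n17636 := (((F57375).symm.trans (sb E8549 (iv6 F57553)))).symm
theorem F91224 : act 7 n36530 = n35298 := (sb E8549 F57552)
theorem F91225 : act 3 n36531 = n17679 := (sb E8550 F57554)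
theorem F91226 : act 5 n36531 = n55828 := (sb E8550 (iv5 F88303))
theorem F91227 : act 7 n36531 = n56563 := (sb E8550 (iv7 F89457))
theorem F91228 : act 7 n17130 = n17628 := (sb E8551 (iv7 F57372))
theorem F91229 : act 2 n17627 = n17130 := (sb E8552 (iv2 D35296))
theorem E8554 : n36523 = n17437 := ((D36523).symm.trans (sb E8552 F59792))
theorem E8555 : n36700 = n17150 := ((((iv1 F28706)).symm.trans (sb E8553 D36700))).symm
theorem E8557 : n36702 = n36549 := (((D36549).symm.trans (sb E8553 D36702))).symm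
theorem E8558 : n36550 = n8329 := ((D36550).symm.trans (sb E8553 (iv3 D17688)))
theorem E8559 : n36703 = n36551 := (((D36551).symm.trans (sb E8553 D36703))).symm
theorem E8560 : n36704 = n36552 := (((D36552).symm.trans (sb E8553 D36704))).symm
theorem E8561 : n36553 = n17109 := ((D36553).symm.trans (sb E8553 (iv7 F51329)))
theorem F91230 : act 3 n17437 = n17627 := (sb E8554 (iv3 D36523))
theorem E8562 : n35254 = n17637 := ((((iv1 F28701)).symm.trans (sb E8555 (iv1 F57572)))).symm
theorem F91231 : act 0 n36549 = n35253 := (sb E8557 (iv1 F57577))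
theorem F91233 : act 3 n36549 = n17751 := (sb E8557 F59738)
theorem F91234 : act 3 n8329 = n17636 := (sb E8558 (iv3 D36550))
theorem F91235 : act 3 n36551 = n55327 := (sb E8559 (iv3 F87554))
theorem F91236 : act 7 n36551 = n35255 := (sb E8559 F57578)
theorem F91237 : act 3 n36552 = n17690 := (sb E8560 F57579)
theorem F91238 : act 6 n36552 = n55828 := (sb E8560 (iv6 F88304))
theorem F91239 : act 7 n36552 = n35256 := (sb E8560 F57580)
theorem F91240 : act 7 n17109 = n17636 := (sb E8561 (iv7 D36553))
theorem F91241 : act 2 n17637 = n17109 := (sb E8562 (iv2 D35254))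
theorem E8563 : n36554 = n17447 := ((D36554).symm.trans (sb E8562 F59797))
theorem F91242 : act 3 n17447 = n17637 := (sb E8563 (iv3 D36554))
theorem F91243 : act 3 n36556 = n36052 := d6_3 (iv5 D36052) F91242 D36556
theorem F91244 : act 3 n36557 = n36053 := d7_3 (iv6 D36053) F91242 D36557
theorem F91245 : act 2 n35257 = n36557 := d0_5 F91244 (iv2 F59802) F57592 (iv2 F51282) (iv3 F55986)
theorem F91246 : act 3 n36198 = n56110 := d6_3 F88774 F91244 (iv5 F56918)
theorem F91247 : act 2 n56110 = n36330 := d0_1 F91246 (iv3 D36330) (iv2 F51280) D56204 (iv2 F88891)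
theorem E8564 : n56206 = n56111 := ((c15_2 (iv0 D56110) D56111 F88902 (iv2 F91247))).symm
theorem F91248 : act 3 n56111 = n27084 := (sb E8564 (iv3 D56206))
theorem F91249 : act 5 n56111 = n36750 := (sb E8564 F88900)
theorem F91250 : act 6 n56111 = n35630 := (sb E8564 F88901)
theorem E8565 : n36750 = n36626 := ((c15_2 F91210 D36626 F57652 F91245)).symm
theorem F91252 : act 3 n36626 = n17720 := (sb E8565 (iv3 D36750))
theorem F91253 : act 5 n36626 = n56111 := (sb E8565 (iv5 F91249))
theorem E8566 : n35364 = n35298 := (((iv6 F57487)).symm.trans (sb E8565 F57651))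
theorem F91255 : act 1 n35298 = n27181 := (sb E8566 (iv0 F89345))
theorem E8567 : n17159 = n17130 := ((((iv5 D35298)).symm.trans (sb E8566 (iv5 D35364)))).symm
theorem F91256 : act 6 n35298 = n36626 := (sb E8566 F57487)
theorem E8568 : n35294 = n17629 := ((D35294).symm.trans (sb E8567 (iv1 F28683)))
theorem E8569 : n35295 = n8045 := ((D35295).symm.trans (sb E8567 (iv0 D17159)))
theorem E8573 : n35365 = n35299 := (((D35299).symm.trans (sb E8567 D35365))).symm
theorem E8575 : n36527 = n17160 := ((((iv1 F28682)).symm.trans (sb E8568 (iv1 F91219)))).symm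
theorem F91257 : act 1 n17629 = n17130 := (sb E8568 (iv0 D35294))
theorem F91258 : act 0 n8045 = n17130 := (sb E8569 (iv1 D35295))
theorem F91259 : act 0 n35299 = n36508 := (sb E8573 F57428)
theorem E8576 : n35630 = n35419 := (((iv5 F56305)).symm.trans (sb E8573 F56125))
theorem F91260 : act 2 n17160 = n17628 := (sb E8575 F57374)
theorem E8577 : n35367 = n17759 := ((D35367).symm.trans (sb E8575 F91220))
theorem F91261 : act 7 n17160 = n17627 := (sb E8575 (iv7 D36527))
theorem F91262 : act 3 n35419 = n17265 := (sb E8576 (iv3 D35630))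
theorem F91263 : act 5 n35419 = n35299 := (sb E8576 F56305)
theorem F91264 : act 6 n35419 = n56111 := (sb E8576 (iv6 F91250))
theorem F91265 : act 7 n35419 = n35821 := (sb E8576 (iv7 F56482))
theorem F91266 : act 3 n17759 = n17160 := (sb E8577 (iv3 D35367))
theorem F91268 : act 3 n35369 = n36863 := d7_3 (iv6 D36863) F91266 D35369
theorem F91269 : act 2 n36531 = n35369 := d0_5 F91268 (iv2 F59734) F56017 F51236 (iv3 F91225)
theorem F91270 : act 3 n55741 = n35507 := d6_3 F56192 F91268 (iv5 F88177)
theorem F91271 : act 2 n35507 = n55828 := d0_1 F91270 (iv3 D55828) F51238 D35667 F88178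
theorem F91272 : act 3 n35328 = n36835 := d7_3 F88179 F91270 (iv6 F56193)
theorem F91273 : act 2 n36552 = n35328 := d0_5 F91272 (iv2 F59742) F55981 F51322 (iv3 F91237)
theorem E8578 : n36549 = n17147 := (c6_4 D35328 F91272 (iv5 D36835) (iv3 F91233))
theorem E8579 : n35253 = n17639 := ((((iv1 F28708)).symm.trans (sb E8578 F91231))).symm
theorem E8581 : n35325 = n17636 := ((D35325).symm.trans (sb E8578 (iv2 D36549)))
theorem E8582 : n35326 = n17751 := ((D35326).symm.trans (sb E8578 F91233))
theorem E8583 : n35330 = n17637 := ((D35330).symm.trans (sb E8578 (iv7 F57416)))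
theorem E8584 : n17148 = n17109 := (((iv1 F28707)).symm.trans (sb E8579 (iv1 D35253)))
theorem F91274 : act 2 n17636 = n17147 := (sb E8581 (iv2 D35325))
theorem F91275 : act 3 n17751 = n17147 := (sb E8582 (iv3 D35326))
theorem F91276 : act 7 n17637 = n17147 := (sb E8583 (iv7 D35330))
theorem F91277 : act 0 n17109 = n8034 := (sb E8584 (iv1 D17148))
theorem F91278 : act 1 n17109 = n17639 := (sb E8584 F28707)
theorem E8587 : n35333 = n35256 := (((D35256).symm.trans (sb E8584 D35333))).symm
theorem E8589 : n35800 = n35568 := (((iv6 F56461)).symm.trans (sb E8587 (iv6 F56249)))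
theorem F91279 : act 3 n35568 = n17344 := (sb E8589 (iv3 D35800))
theorem F91280 : act 6 n35568 = n35256 := (sb E8589 F56461)
theorem F91281 : act 7 n35568 = n55914 := (sb E8589 (iv7 F88472))
theorem F91282 : act 7 n36556 = n35328 := d8_0 F91272 F59799 (iv3 F91243)
theorem F91283 : act 2 n35256 = n36556 := d4_3 F91282 (iv2 F91273) F91239
theorem F91284 : act 1 n36552 = n56141 := d15_0 (iv0 F88792) F91282 (iv2 F91273)
theorem F91285 : act 1 n35256 = n35529 := d15_0 (iv0 F56204) (iv7 F91282) (iv2 F91283)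
theorem F91286 : act 0 n35257 = n56136 := d21_10 (iv5 D56136) (iv1 F88685) F88682 F43673 (iv1 F28117) D17213 D35529 (iv1 F91285) (iv5 D35256) D35257
theorem F91287 : act 0 n36530 = n56424 := d21_10 (iv5 F91211) (iv1 F91178) (iv5 D35444) D35445 F89352 F57333 (iv5 F88790) (iv1 F91284) (iv5 D36552) (iv6 F57375)
theorem F91288 : act 2 n56154 = n35568 := d3_3 F91280 F91283 (iv6 F88816)
theorem F91289 : act 3 n36267 = n56154 := d0_0 F91288 F91279 F51324 F88248 (iv2 F88247)
theorem F91290 : act 7 n35569 = n56154 := d15_2 (iv0 D35568) D35569 F91288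
theorem F91291 : act 2 n35569 = n55914 := d4_3 (iv7 F91281) (iv2 F91288) (iv7 F91290)
theorem E8590 : n56155 = n55914 := (c15_2 (iv0 D56154) D56155 (iv7 F91281) (iv2 F91288))
theorem F91292 : act 0 n55914 = n27067 := (sb E8590 (iv1 D56155))
theorem F91293 : act 1 n55914 = n35570 := (sb E8590 F88817)
theorem F91294 : act 3 n55792 = n35569 := d0_0 F91291 (iv3 D55914) (iv2 F51327) D35803 F88253
theorem E8591 : n46696 = n35147 := (c20_8 (iv4 F21231) (iv1 F21234) F28975 D17109 F91277 (iv3 F28077) (iv4 F34951) D46696 (iv4 D35147) (iv3 D17062) F12753)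
theorem F91295 : act 0 n35147 = n37587 := (sb E8591 (iv1 F73815))
theorem F91296 : act 1 n35147 = n22395 := (sb E8591 (iv0 D46696))
theorem F91297 : act 0 n56020 = n36330 := d21_1 D56020 F57069 (iv6 D35257) F91277 (iv6 D8034) (iv5 D3631) (iv1 F4152) D6151 D12949 D27025
theorem F91298 : act 2 n34794 = n46697 := d15_3 F73807 (iv0 F91295) F55859
theorem F91299 : act 4 n46697 = n34793 := d1_2 D34794 F91298 (iv2 D34793)
theorem F91300 : act 7 n35327 = n36555 := d11_2 F91276 D35327 (iv4 D36555)
theorem F91301 : act 2 n35327 = n36551 := d1_3 (iv4 D36551) F91274 D35327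
theorem F91302 : act 2 n35329 = n36530 := d3_3 F57375 F91274 D35329
theorem F91303 : act 2 n35255 = n36555 := d4_3 (iv7 F91300) F91301 F91236
theorem E8592 : n35669 = n35508 := ((c15_2 (iv0 D35507) D35508 (iv7 F88305) (iv2 F91271))).symm
theorem F91304 : act 3 n35508 = n17288 := (sb E8592 (iv3 D35669))
theorem E8593 : n56563 = n56480 := ((((iv5 F89354)).symm.trans (sb E8592 (iv5 F89455)))).symm
theorem F91305 : act 6 n35508 = n55914 := (sb E8592 (iv6 F88471))
theorem F91307 : act 3 n56480 = n27206 := (sb E8593 (iv3 D56563))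
theorem E8594 : n36785 = n36640 := ((((iv6 F89346)).symm.trans (sb E8593 F89456))).symm
theorem F91308 : act 7 n56480 = n36531 := (sb E8593 (iv7 F91227))
theorem F91309 : act 3 n36640 = n17732 := (sb E8594 (iv3 D36785))
theorem E8595 : n35821 = n35576 := (((F57496).symm.trans (sb E8594 F57694))).symm
theorem F91310 : act 7 n36640 = n35299 := (sb E8594 F57695)
theorem F91311 : act 3 n35576 = n17352 := (sb E8595 (iv3 D35821))
theorem F91312 : act 7 n35576 = n35419 := (sb E8595 (iv7 F91265))
theorem F91313 : act 2 n35419 = n35577 := d15_3 F56257 F56260 F91312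
theorem F91314 : act 2 n35576 = n35418 := d15_3 (iv0 D35418) D35419 (iv7 F91312)
theorem F91315 : act 3 n35418 = n55680 := d0_2 (iv3 F91311) F91314 (iv2 F88088) (iv3 D35628) F51268
theorem F91316 : act 7 n35418 = n35577 := d4_2 (iv7 F91312) F91314 (iv2 F91313)
theorem F91317 : act 3 n35577 = n36136 := d8_1 F91316 (iv7 F88089) (iv3 F91315)
theorem F91318 : act 3 n36025 = n36526 := d6_3 F57373 F91317 (iv5 F56871)
theorem F91319 : act 2 n36526 = n35299 := d0_1 F91318 F56015 F51266 (iv3 F57542) F59812
theorem E8596 : n56479 = n35369 := ((c15_4 (iv0 D56479) D56480 F91308 F91269)).symm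
theorem F91320 : act 1 n35369 = n27176 := (sb E8596 (iv0 D56479))
theorem F91321 : act 5 n56116 = n56475 := d21_6 (iv5 F56192) F56194 (iv5 D17212) D17213 D35527 F88780 (iv1 D56475) (iv5 D27175) D27176 (iv1 F91320)
theorem F91322 : act 0 n35527 = n36623 := d21_4 D27180 (iv1 F89341) (iv5 F91321) (iv6 F88780) (iv6 D36623) (iv5 D17655) (iv1 F28660) F28657 (iv6 F43921) (iv1 F43923)
theorem F91323 : act 2 n35530 = n36623 := d15_3 (iv0 F91322) (iv0 D35527) D35530
theorem E8597 : n36605 = n36503 := (c3_4 F57333 F91323 (iv6 D36623) (iv2 F57465))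
theorem E8598 : n35514 = n17655 := ((F57330).symm.trans (sb E8597 F57465))
theorem E8599 : n17652 = n17619 := ((((iv5 D36503)).symm.trans (sb E8597 (iv5 D36605)))).symm
theorem E8600 : n35493 = n17660 := (((iv7 F57331)).symm.trans (sb E8597 F57466))
theorem F91324 : act 2 n17655 = n36503 := (sb E8598 (iv2 F57330))
theorem E8601 : n36500 = n8315 := ((((iv5 D17655)).symm.trans (sb E8598 (iv5 F57329)))).symm
theorem E8602 : n36624 = n17208 := ((D36624).symm.trans (sb E8598 (iv7 D35514)))
theorem E8605 : n36603 = n36501 := (((D36501).symm.trans (sb E8599 D36603))).symm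
theorem E8606 : n36604 = n36502 := (((D36502).symm.trans (sb E8599 D36604))).symm
theorem E8607 : n36606 = n36504 := (((D36504).symm.trans (sb E8599 D36606))).symm
theorem E8608 : n36505 = n8316 := ((D36505).symm.trans (sb E8599 (iv7 F28726)))
theorem E8609 : n17204 = n17165 := ((((iv6 F28728)).symm.trans (sb E8600 (iv6 D35493)))).symm
theorem F91325 : act 7 n17660 = n36503 := (sb E8600 F57331)
theorem F91326 : act 2 n8315 = n17619 := (sb E8601 (iv2 D36500))
theorem E8610 : n17657 = n17620 := ((D17657).symm.trans (sb E8601 (iv7 F57328)))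
theorem F91327 : act 2 n17208 = n17660 := (sb E8602 F57482)
theorem E8611 : n35379 = n8070 := ((((iv6 D17208)).symm.trans (sb E8602 (iv6 F57485)))).symm
theorem F91328 : act 7 n17208 = n17655 := (sb E8602 (iv7 D36624))
theorem F91329 : act 7 n36501 = n17658 := (sb E8605 F57462)
theorem F91330 : act 2 n36502 = n17654 := (sb E8606 F57463)
theorem F91331 : act 7 n36502 = n17659 := (sb E8606 F57464)
theorem F91332 : act 2 n36504 = n17656 := (sb E8607 F57467)
theorem F91333 : act 7 n8316 = n17619 := (sb E8608 (iv7 D36505))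
theorem E8614 : n35490 = n35380 := (((D35380).symm.trans (sb E8609 D35490))).symm
theorem E8615 : n35491 = n35381 := (((D35381).symm.trans (sb E8609 D35491))).symm
theorem E8616 : n35492 = n35382 := (((D35382).symm.trans (sb E8609 D35492))).symm
theorem E8617 : n35383 = n8071 := ((D35383).symm.trans (sb E8609 (iv7 F28161)))
theorem F91334 : act 2 n17620 = n8316 := (sb E8610 F28727)
theorem E8618 : n36613 = n36506 := (((D36506).symm.trans (sb E8610 (iv3 F57473)))).symm
theorem E8619 : n36619 = n36507 := (((D36507).symm.trans (sb E8610 (iv4 F57477)))).symm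
theorem E8620 : n36629 = n36508 := (((D36508).symm.trans (sb E8610 D36629))).symm
theorem F91336 : act 2 n8070 = n17165 := (sb E8611 (iv2 D35379))
theorem E8621 : n17209 = n17166 := ((D17209).symm.trans (sb E8611 (iv7 F56085)))
theorem F91337 : act 7 n35380 = n17210 := (sb E8614 F56176)
theorem F91338 : act 2 n35381 = n17206 := (sb E8615 F56177)
theorem F91339 : act 7 n35381 = n17211 := (sb E8615 F56178)
theorem F91340 : act 2 n35382 = n17207 := (sb E8616 F56179)
theorem F91341 : act 7 n35382 = n17212 := (sb E8616 F56180)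
theorem F91342 : act 7 n8071 = n17165 := (sb E8617 (iv7 D35383))
theorem F91343 : act 7 n36506 = n17653 := (sb E8618 (iv7 D36613))
theorem F91344 : act 2 n36507 = n17659 := (sb E8619 F57476)
theorem F91345 : act 7 n36507 = n17654 := (sb E8619 (iv7 D36619))
theorem F91346 : act 2 n36508 = n17661 := (sb E8620 F57490)
theorem F91347 : act 2 n17166 = n8071 := (sb E8621 F28162)
theorem E8622 : n35500 = n35384 := (((D35384).symm.trans (sb E8621 (iv3 F56186)))).symm
theorem E8623 : n35506 = n35385 := (((D35385).symm.trans (sb E8621 (iv4 F56190)))).symm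
theorem E8624 : n35511 = n35386 := (((D35386).symm.trans (sb E8621 (iv5 F56197)))).symm
theorem E8625 : n35515 = n35387 := (((D35387).symm.trans (sb E8621 D35515))).symm
theorem F91348 : act 7 n17166 = n8070 := (sb E8621 (iv7 D17209))
theorem F91349 : act 7 n35384 = n17205 := (sb E8622 (iv7 D35500))
theorem F91350 : act 2 n35385 = n17211 := (sb E8623 F56189)
theorem F91351 : act 7 n35385 = n17206 := (sb E8623 (iv7 D35506))
theorem F91352 : act 2 n35386 = n17212 := (sb E8624 F56196)
theorem F91353 : act 7 n35386 = n17207 := (sb E8624 (iv7 D35511))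
theorem F91354 : act 1 n35387 = n56057 := (sb E8625 F88725)
theorem F91355 : act 2 n35387 = n17213 := (sb E8625 F56199)
theorem E8626 : n35528 = n35412 := (c15_1 D35528 (iv0 F57481) F57486 F91355)
theorem F91356 : act 0 n35412 = n17213 := (sb E8626 (iv1 D35528))
theorem F91357 : act 2 n35526 = n56178 := d3_3 F88859 F91352 D35526
theorem F91358 : act 7 n56179 = n35526 := d15_2 (iv0 D56178) D56179 F91357
theorem F91359 : act 7 n35497 = n27662 := d11_2 F91349 D35497 (iv4 F56087)
theorem F91360 : act 2 n35497 = n27661 := d15_3 (iv0 D27661) D27662 (iv7 F91359)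
theorem F91361 : act 4 n27661 = n35496 := d1_2 D35497 F91360 (iv2 D35496)
theorem F91362 : act 2 n36642 = n35510 := d2_3 (iv5 F57340) F91346 D36642
theorem F91363 : act 1 n35299 = n36643 := d15_1 (iv0 F91259) (iv7 D36643) (iv2 F91346)
theorem E8627 : n56725 = n36610 := ((c11_2 F91343 D36610 (iv7 F89714) (iv4 F57339))).symm
theorem F91364 : act 2 n36610 = n27259 := (sb E8627 (iv2 D56725))
theorem F91365 : act 7 n36610 = n27260 := (sb E8627 (iv7 F89714))
theorem F91366 : act 7 n36611 = n35499 := d13_2 F91343 D36611 (iv5 F57338)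
theorem E8628 : n56730 = n56668 := (c15_4 F89628 (iv0 F57468) F91365 (iv2 F89715))
theorem F91367 : act 2 n56668 = n27260 := (sb E8628 F89715)
theorem F91368 : act 7 n56668 = n27259 := (sb E8628 (iv7 D56730))
theorem E8629 : n56727 = n36609 := (c1_3 D36610 F91364 D56727 (iv2 D36609))
theorem F91369 : act 4 n36609 = n27259 := (sb E8629 (iv4 D56727))
theorem F91370 : act 2 n35505 = n36639 := d3_3 F57495 F91338 D35505
theorem E8630 : n56138 = n36627 := ((c2_3 (iv5 F57335) F91332 D36627 F88789)).symm
theorem F91371 : act 2 n36627 = n27061 := (sb E8630 F88789)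
theorem F91372 : act 7 n36627 = n27060 := (sb E8630 (iv7 D56138))
theorem E8631 : n56136 = n36628 := (c13_2 F91372 D56136 (iv7 D36628) D36627)
theorem F91373 : act 1 n36628 = n35257 := (sb E8631 (iv0 F91286))
theorem F91374 : act 5 n36628 = n27060 := (sb E8631 (iv5 D56136))
theorem E8632 : n56133 = n56025 := (c15_4 (iv0 D56025) (iv0 F57488) F91372 D56133)
theorem F91375 : act 2 n56025 = n27060 := (sb E8632 (iv2 D56133))
theorem F91376 : act 7 n56025 = n27061 := (sb E8632 (iv7 F88788))
theorem F91377 : act 7 n36622 = n35505 := d11_2 F91328 D36622 F56188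
theorem F91378 : act 7 n36524 = n35368 := d11_2 F91261 D36524 (iv4 D35368)
theorem F91379 : act 7 n36525 = n35329 := d13_2 F91261 D36525 F56046
theorem F91380 : act 2 n35298 = n36525 := d4_3 F91379 F91302 F91224
theorem F91382 : act 1 n36530 = n56131 := d15_0 (iv0 F88787) F91379 F91302
theorem E8633 : n56493 = n35329 := (c15_2 F91255 D56493 (iv7 F91379) (iv2 F91380))
theorem F91383 : act 0 n35329 = n27181 := (sb E8633 (iv1 D56493))
theorem F91384 : act 0 n36531 = n35534 := d21_10 (iv5 D35534) (iv1 F56097) F56094 (iv6 F43673) (iv1 F43675) D27059 D56131 (iv1 F91382) (iv5 D36530) D36531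
theorem F91385 : act 1 n36525 = n56424 := d15_0 (iv0 F91287) F91224 F91380
theorem E8634 : n36641 = n36526 := ((c21_4 F91211 (iv1 F91385) (iv5 D36525) D36526 (iv1 D36641) (iv6 D17661) D17660 (iv1 F57480) F91202 F91186 D40265)).symm
theorem F91386 : act 0 n36526 = n17661 := (sb E8634 (iv1 D36641))

end Cfsg.Agent.Helper17.ONTC
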