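import Cfsg.Agent.Helper17.ONTC.Facts12

set_option autoImplicit false
set_option linter.all false

noncomputable section

namespace Cfsg.Agent.Helper17.ONTC

theorem F91387 : act 0 n35382 = n55828 := d21_4 (iv5 F57373) F91386 D36642 F57497 (iv6 F91238) (iv5 D36552) (iv1 F28706) (iv5 F56049) (iv6 F56128) (iv1 F56257)
theorem F91388 : act 1 n35386 = n55828 := d15_0 (iv0 F91387) F91341 (iv2 F91352)
theorem F91389 : act 2 n36529 = n35368 := d1_3 (iv4 D35368) F91260 D36529
theorem F91390 : act 2 n36524 = n35297 := d4_3 (iv7 F91222) F91389 (iv7 F91378)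
theorem E8635 : n56969 = n55377 := ((c20_1 D55377 (iv1 D56969) F44237 F28105 F91258 (iv3 D17130) F28964 (iv1 F21288) F21284 (iv3 F21270) (iv1 F42985))).symm
theorem F91391 : act 0 n55377 = n27335 := (sb E8635 (iv1 D56969))
theorem E8636 : n56718 = n16840 := (c20_8 (iv4 F5582) D7842 (iv4 F28964) D17130 (iv1 F91257) (iv3 F57341) (iv4 F58460) (iv1 F89699) (iv4 D16840) (iv3 D7852) (iv1 D3560))
theorem E8637 : n34762 = n27257 := ((D34762).symm.trans (sb E8636 (iv1 D56718)))
theorem E8638 : n37591 = n34763 := (((D34763).symm.trans (sb E8636 F89699))).symm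
theorem E8639 : n56717 = n55563 := ((D56717).symm.trans (sb E8637 (iv1 F87867)))
theorem F91392 : act 1 n27257 = n16840 := (sb E8637 (iv0 D34762))
theorem F91393 : act 2 n34763 = n56720 := (sb E8638 (iv2 F89701))
theorem F91394 : act 3 n34763 = n46465 := (sb E8638 (iv3 F73367))
theorem F91395 : act 4 n34763 = n36511 := (sb E8638 F58460)
theorem F91396 : act 6 n34763 = n46699 := (sb E8638 (iv6 F73814))
theorem F91397 : act 7 n34763 = n18031 := (sb E8638 (iv7 D37591))
theorem F91398 : act 1 n55563 = n27257 := (sb E8639 (iv0 D56717))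
theorem E8640 : n35358 = n34640 := (c20_2 (iv4 F57367) (iv1 F57370) (iv4 D34640) (iv3 D16780) (iv1 D7833) F5574 (iv4 F5582) D7842 (iv4 F28964) D17130 (iv1 F91257))
theorem F91399 : act 0 n34640 = n17158 := (sb E8640 (iv1 D35358))
theorem F91400 : act 1 n34640 = n36521 := (sb E8640 F57370)
theorem E8641 : n34714 = n34638 := (c18_10 (iv1 D34638) D34640 F91399 F28107 (iv5 F17008) (iv4 F28151) F91188 (iv4 D18438) D18436 (iv5 F61593))
theorem F91401 : act 3 n34638 = n16815 := (sb E8641 (iv3 D34714))
theorem F91402 : act 5 n34638 = n18436 := (sb E8641 F61593)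
theorem F91403 : act 7 n34638 = n55587 := (sb E8641 (iv7 F87914))
theorem E8642 : n55461 = n35347 := ((c20_11 (iv4 D55461) (iv1 F87636) F87632 F42987 (iv1 F27469) D16780 D34640 F91399 F28107 (iv3 F28105) D35347)).symm
theorem F91404 : act 3 n35347 = n40493 := (sb E8642 F87758)
theorem F91405 : act 4 n35347 = n26786 := (sb E8642 (iv4 D55461))
theorem E8643 : n57737 = n17183 := (c18_9 D35347 F91405 (iv1 F87636) F87632 F42988 (iv4 F44356) F44359 D27567 D57737 F28149)
theorem E8644 : n35426 = n27567 := ((D35426).symm.trans (sb E8643 (iv1 D57737)))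
theorem E8645 : n35427 = n27572 := ((D35427).symm.trans (sb E8643 F90912))
theorem F91406 : act 1 n27567 = n17183 := (sb E8644 (iv0 D35426))
theorem F91407 : act 0 n27572 = n17183 := (sb E8645 (iv1 D35427))
theorem F91408 : act 7 n57736 = n35422 := d15_2 (iv0 F91407) F90911 F56129
theorem F91409 : act 2 n35428 = n57736 := d4_3 F91408 F56129 D35428
theorem F91410 : act 3 n37454 = n57736 := d8_3 F91408 F56130 D37454
theorem E8646 : n57356 = n57312 := (c11_3 F91408 F56131 D57356 (iv4 F90910))
theorem F91411 : act 2 n57312 = n27596 := (sb E8646 F91151)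
theorem F91412 : act 7 n57312 = n27456 := (sb E8646 (iv7 D57356))
theorem F91413 : act 5 n56940 = n57736 := d13_3 F91408 F56132 D56940
theorem F91414 : act 6 n56937 = n57736 := d14_5 F91408 (iv6 D35422) F28140 D27323 D56937
theorem F91415 : act 1 n35428 = n39953 := d15_0 (iv0 F91149) (iv7 F91408) (iv2 F91409)
theorem F91416 : act 1 n44586 = n35428 := d15_0 F91415 F90424 (iv2 F90443)
theorem F91417 : act 0 n38711 = n39954 := d20_7 F91198 (iv1 F44499) (iv4 D13189) D13188 D27611 F90408 D38711 (iv4 D39954) D39953 (iv1 F91415)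
theorem E8647 : n56034 = n38772 := (c20_8 D38711 F91417 (iv4 D39954) D39953 (iv1 F91415) F56144 (iv4 F56149) (iv1 F88698) (iv4 D38772) (iv3 F59104) (iv1 F59108))
theorem F91418 : act 0 n38772 = n27031 := (sb E8647 (iv1 D56034))
theorem F91419 : act 1 n38772 = n35435 := (sb E8647 F88698)
theorem E8648 : n56033 = n38227 := (c15_2 F91419 F88703 F59093 (iv2 F59670))
theorem F91420 : act 0 n38227 = n35435 := (sb E8648 (iv1 F88703))
theorem F91421 : act 1 n38227 = n27031 := (sb E8648 (iv0 D56033))
theorem E8649 : n56031 = n40194 := ((c20_4 (iv4 F13576) (iv1 F29454) D38217 (iv3 F61121) (iv1 D56031) F43679 (iv4 F43682) (iv1 F91421) (iv4 D38227) (iv3 D18263) (iv1 F13529))).symm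
theorem F91422 : act 0 n40194 = n27030 := (sb E8649 (iv1 D56031))
theorem F91423 : act 1 n40194 = n37454 := (sb E8649 F88690)
theorem E8650 : n56030 = n40053 := (c15_2 F91423 F88695 F61132 D40194)
theorem F91424 : act 0 n40053 = n37454 := (sb E8650 (iv1 F88695))
theorem F91425 : act 1 n40053 = n27030 := (sb E8650 (iv0 D56030))
theorem E8651 : n39109 = n27839 := (c20_1 (iv4 F60123) (iv1 F44952) (iv4 D18784) (iv3 F22087) (iv1 F22091) D18722 D39526 (iv1 F61176) (iv4 D40054) D40053 F91424)
theorem F91426 : act 2 n27839 = n18788 := (sb E8651 F91159)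
theorem F91427 : act 4 n27839 = n37454 := (sb E8651 F60123)
theorem F91428 : act 7 n27839 = n18568 := (sb E8651 (iv7 D39109))
theorem E8652 : n27840 = n27659 := ((c15_4 F44953 F44952 F91428 (iv2 F44599))).symm
theorem F91429 : act 0 n27659 = n13280 := (sb E8652 (iv1 D27840))
theorem F91430 : act 1 n27659 = n18784 := (sb E8652 F44953)
theorem F91431 : act 0 n39736 = n56719 := d21_7 D18006 F29169 F22003 D27659 F91429 (iv6 F30038) D39736 (iv5 D56719) (iv6 D27257) (iv1 F21779)
theorem E8653 : n56938 = n36659 := (c17_9 (iv1 F87633) (iv5 F87761) (iv1 F90930) (iv5 D57746) (iv4 F90915) (iv5 F90916) F91416 F56145 F90014 F87635)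
theorem F91432 : act 0 n36659 = n35349 := (sb E8653 (iv1 F90014))
theorem F91433 : act 1 n36659 = n27325 := (sb E8653 (iv0 D56938))
theorem F91434 : act 4 n56939 = n55367 := d18_1 (iv1 F90012) (iv1 D55367) F42984 F21254 (iv4 F21910) D27436 (iv4 F70115) F91416 F56145
theorem F91435 : act 4 n34493 = n36518 := d20_6 F91434 (iv1 D55367) F42984 F21253 D16734 D34493 (iv1 F57369) F56070 (iv3 F56064) (iv1 F90012)
theorem F91436 : act 3 n36001 = n56939 := d20_5 D34494 F72462 F72459 (iv3 F61583) (iv1 F61588) F91434 (iv1 D55367) F42984 F21253 D16734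
theorem F91437 : act 0 n55587 = n34493 := d18_0 F91435 (iv1 F57369) F56070 (iv5 F28152) (iv4 F56149) (iv0 F91420) (iv4 D38227) (iv0 F90452) (iv5 F87913)
theorem E8654 : n45884 = n36510 := (c20_4 (iv4 F27541) (iv1 F54720) (iv4 F59780) D45884 (iv1 D36510) F28661 (iv4 F28677) D36518 (iv4 F91435) (iv3 D34493) (iv1 F27468))
theorem F91438 : act 2 n36510 = n35290 := (sb E8654 F72469)
theorem F91439 : act 3 n36510 = n21943 := (sb E8654 (iv3 D45884))
theorem E8655 : n37588 = n26824 := (c20_2 (iv4 F29198) D37588 (iv4 D26824) (iv3 D12827) (iv1 F9427) (iv3 F12386) (iv4 F27541) (iv1 F54720) (iv4 F59780) (iv3 F91439) (iv1 D36510))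
theorem E8656 : n56720 = n55566 := (((D55566).symm.trans (sb E8655 (iv1 F89705)))).symm
theorem E8657 : n55567 = n18031 := ((D55567).symm.trans (sb E8655 (iv0 D37588)))
theorem E8658 : n37589 = n34759 := ((((iv1 F87876)).symm.trans (sb E8656 (iv1 F89704)))).symm
theorem F91440 : act 2 n55566 = n34763 := (sb E8656 (iv2 F91393))
theorem F91441 : act 6 n55566 = n37587 := (sb E8656 F89702)
theorem F91442 : act 7 n55566 = n27257 := (sb E8656 (iv7 D56720))
theorem F91443 : act 0 n18031 = n26824 := (sb E8657 (iv1 D55567))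
theorem F91444 : act 0 n34759 = n18031 := (sb E8658 (iv1 D37589))
theorem E8659 : n27830 = n26821 := (c18_10 (iv1 F43186) D34759 F91444 F29198 (iv5 F43680) (iv4 F44601) F91430 (iv4 D18784) F22070 D27830)
theorem E8660 : n55553 = n18782 := ((D55553).symm.trans (sb E8659 F61278))
theorem E8661 : n55554 = n55503 := ((D55554).symm.trans (sb E8659 (iv3 F90464)))
theorem E8662 : n55556 = n13277 := ((D55556).symm.trans (sb E8659 (iv5 D27830)))
theorem E8663 : n55558 = n18777 := ((D55558).symm.trans (sb E8659 F61279))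
theorem F91445 : act 2 n18782 = n26821 := (sb E8660 (iv2 D55553))
theorem E8664 : n27835 = n26822 := (((iv7 F61289)).symm.trans (sb E8660 (iv7 F87862)))
theorem F91446 : act 3 n55503 = n26821 := (sb E8661 (iv3 D55554))
theorem F91447 : act 5 n13277 = n26821 := (sb E8662 (iv5 D55556))
theorem F91448 : act 7 n18777 = n26821 := (sb E8663 (iv7 D55558))
theorem F91449 : act 2 n26822 = n18777 := (sb E8664 F61288)
theorem E8665 : n55561 = n13278 := ((D55561).symm.trans (sb E8664 (iv5 D27835)))
theorem F91450 : act 7 n26822 = n18782 := (sb E8664 F61289)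
theorem F91451 : act 5 n13278 = n26822 := (sb E8665 (iv5 D55561))
theorem F91452 : act 5 n55559 = n27833 := d6_2 F91451 D55559 (iv3 D27833)
theorem F91453 : act 2 n34615 = n55559 := d2_3 F91452 F61284 (iv5 F59501)
theorem F91454 : act 7 n38707 = n55559 := d13_0 F91452 F61285 D38707
theorem F91455 : act 7 n39687 = n55560 := d11_2 F91450 D39687 (iv4 D55560)
theorem F91456 : act 2 n39670 = n55560 := d1_3 (iv4 D55560) F91449 D39670
theorem F91458 : act 7 n55555 = n39670 := d11_2 F91448 D55555 (iv4 D39670)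
theorem F91459 : act 2 n39687 = n55555 := d4_3 F91458 F91456 (iv7 F91455)
theorem E8666 : n39688 = n34792 := ((c21_5 F91447 (iv1 F43186) D34760 (iv6 F55853) (iv1 F55857) (iv6 D39688) (iv5 D18782) (iv1 D8804) D8807 (iv6 F13684) D13277)).symm
theorem F91460 : act 6 n34792 = n18782 := (sb E8666 (iv6 D39688))
theorem E8667 : n39848 = n39691 := ((c21_7 (iv5 F91447) (iv1 F22070) D18785 (iv6 F30034) (iv1 F22075) D18783 D39691 (iv1 D39848) F43116 (iv6 D26826) D26821)).symm
theorem F91461 : act 0 n39691 = n18856 := (sb E8667 (iv1 D39848))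
theorem F91462 : act 2 n55557 = n34792 := d3_3 F91460 F91445 D55557
theorem F91463 : act 7 n34791 = n55557 := d15_2 F55857 F55855 F91462
theorem E8668 : n55466 = n35348 := (c18_8 (iv1 F90911) (iv4 D27572) (iv1 D13178) F9757 (iv5 F9419) (iv4 F21269) D26787 D55466 F90015 F91413)
theorem F91464 : act 3 n35348 = n36647 := (sb E8668 F87760)
theorem F91465 : act 4 n35348 = n26787 := (sb E8668 (iv4 D55466))
theorem F91466 : act 5 n55469 = n57747 := d17_3 (iv1 D26787) D26788 D55469 F90931 (iv5 D57738) F91406 F28149 D35348 F91465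
theorem F91467 : act 7 n57746 = n55469 := d13_0 F91466 (iv7 D57747) D57746
theorem E8669 : n38765 = n34637 := (c15_4 (iv0 D34637) D34638 F91403 F87912)
theorem F91468 : act 2 n34637 = n55587 := (sb E8669 (iv2 F87912))
theorem F91469 : act 3 n34637 = n55480 := (sb E8669 F87774)
theorem F91470 : act 5 n34637 = n18435 := (sb E8669 (iv5 D38765))
theorem E8670 : n39668 = n26823 := (c18_1 D39668 D55563 (iv1 F87866) F91395 (iv5 F91162) (iv4 D39707) F44945 (iv4 D27837) F22073 D18777)
theorem E8671 : n18782 = n16838 := ((((iv1 F43187)).symm.trans (sb E8670 (iv1 F60561)))).symm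
theorem E8672 : n18777 = n16837 := (((F43185).symm.trans (sb E8670 (iv0 D39668)))).symm
theorem E8674 : n34754 = n26821 := (((iv2 F54979)).symm.trans (sb E8671 F91445))
theorem E8675 : n38707 = n34755 := (((D34755).symm.trans (sb E8671 (iv3 F61125)))).symm
theorem E8676 : n39687 = n34756 := (((D34756).symm.trans (sb E8671 D39687))).symm
theorem E8677 : n34757 = n8804 := ((D34757).symm.trans (sb E8671 (iv5 D18782)))
theorem E8678 : n34792 = n34758 := (((D34758).symm.trans (sb E8671 (iv6 F91460)))).symm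
theorem E8680 : n39659 = n34750 := (((D34750).symm.trans (sb E8672 (iv3 F60550)))).symm
theorem E8681 : n39670 = n34751 := (((D34751).symm.trans (sb E8672 D39670))).symm
theorem E8682 : n34752 = n8803 := ((D34752).symm.trans (sb E8672 (iv5 D18777)))
theorem F91471 : act 2 n26821 = n16838 := (sb E8674 F54979)
theorem F91472 : act 7 n26821 = n16837 := (sb E8674 (iv7 D34754))
theorem F91473 : act 5 n34755 = n18413 := (sb E8675 (iv5 D38707))
theorem F91474 : act 7 n34755 = n55559 := (sb E8675 F91454)
theorem F91475 : act 2 n34756 = n55555 := (sb E8676 F91459)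
theorem F91476 : act 7 n34756 = n55560 := (sb E8676 F91455)
theorem F91477 : act 5 n8804 = n16838 := (sb E8677 (iv5 D34757))
theorem F91478 : act 0 n34758 = n16857 := (sb E8678 (iv1 D34792))
theorem F91479 : act 1 n34758 = n35146 := (sb E8678 F55857)
theorem F91480 : act 2 n34758 = n55557 := (sb E8678 (iv2 F91462))
theorem F91483 : act 0 n34750 = n55371 := (sb E8680 F87639)
theorem F91485 : act 5 n34750 = n18775 := (sb E8680 (iv5 D39659))
theorem F91487 : act 2 n34751 = n55560 := (sb E8681 F91456)
theorem F91488 : act 7 n34751 = n55555 := (sb E8681 (iv7 F91458))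
theorem F91489 : act 5 n8803 = n16837 := (sb E8682 (iv5 D34752))
theorem E8684 : n55557 = n35144 := ((c21_5 F91477 (iv1 D16838) D16841 (iv6 F27998) D35144 (iv6 D55557) (iv5 F91447) (iv1 F22070) D18785 (iv6 F30034) (iv1 F22075))).symm
theorem F91491 : act 2 n35144 = n34758 := (sb E8684 (iv2 F91480))
theorem F91492 : act 6 n35144 = n26821 := (sb E8684 (iv6 D55557))
theorem F91493 : act 7 n35144 = n34791 := (sb E8684 (iv7 F91463))
theorem F91494 : act 2 n34791 = n35145 := d15_3 F55856 F55851 F91493
theorem F91495 : act 7 n34758 = n35145 := d4_2 (iv7 F91493) F91491 (iv2 F91494)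
theorem E8685 : n56115 = n56062 := (c21_11 (iv5 F89340) (iv1 F89344) (iv5 D27180) D27181 (iv1 F91255) F91256 F91253 (iv1 D56111) (iv5 D27053) D27054 D56115)
theorem F91496 : act 1 n56062 = n27054 := (sb E8685 (iv0 D56115))
theorem E8686 : n37585 = n34794 := (c20_8 (iv4 F9412) D12792 F28962 F91234 (iv1 F28706) (iv3 F56020) (iv4 F73813) (iv1 F73816) (iv4 D34794) (iv3 D16857) (iv1 D7858))
theorem F91497 : act 0 n34794 = n18030 := (sb E8686 (iv1 D37585))
theorem F91498 : act 1 n34794 = n46699 := (sb E8686 F73816)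
theorem F91499 : act 4 n36546 = n34657 := d20_2 (iv4 F56044) (iv1 F57408) (iv3 D34657) (iv1 D16786) F12388 (iv4 F9412) D12792 F28962 F91234 (iv1 F28706)
theorem F91500 : act 7 n37584 = n46697 := d15_2 F91498 F73817 (iv2 F91298)
theorem F91501 : act 2 n35147 = n37584 := d4_3 F91500 (iv2 F91298) (iv7 F55859)
theorem F91502 : act 4 n35146 = n37584 := d11_3 F91500 F91299 (iv7 F55854)
theorem F91503 : act 7 n40265 = n56119 := d15_2 (iv0 F91196) F91178 F88783
theorem F91504 : act 2 n56132 = n40265 := d4_3 F91503 F88783 D56132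
theorem E8687 : n56499 = n56118 := ((c14_5 F91503 (iv6 D56119) (iv7 D27055) D27054 D56118 F91200)).symm
theorem F91506 : act 5 n56118 = n27182 := (sb E8687 (iv5 D56499))
theorem F91507 : act 6 n56118 = n40265 := (sb E8687 F91200)
theorem E8688 : n56500 = n56117 := (c13_3 D56118 F91506 D56500 (iv5 D56117))
theorem F91508 : act 2 n56117 = n27183 := (sb E8688 F89357)
theorem F91509 : act 7 n56117 = n27182 := (sb E8688 (iv7 D56500))
theorem E8689 : n56496 = n56425 := (c15_4 (iv0 D56425) (iv0 F88781) F91509 D56496)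
theorem F91510 : act 2 n56425 = n27182 := (sb E8689 (iv2 D56496))
theorem E8690 : n56478 = n56423 := ((c3_3 (iv6 F89286) F91510 F89285 F89342)).symm
theorem F91512 : act 2 n56423 = n27180 := (sb E8690 F89342)
theorem E8691 : n27177 = n27160 := ((((iv5 D56423)).symm.trans (sb E8690 F89343))).symm
theorem F91513 : act 7 n56423 = n27175 := (sb E8690 (iv7 D56478))
theorem E8692 : n56457 = n13011 := ((((iv1 D27160)).symm.trans (sb E8691 (iv1 F89325)))).symm
theorem E8694 : n56421 = n13018 := (((iv2 F89284)).symm.trans (sb E8691 F43935))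
theorem E8695 : n56467 = n37604 := ((((iv3 F58467)).symm.trans (sb E8691 (iv3 F89334)))).symm
theorem E8696 : n56473 = n56422 := (((D56422).symm.trans (sb E8691 (iv4 F89338)))).symm
theorem E8699 : n27172 = n27159 := (((D27159).symm.trans (sb E8692 (iv1 D56457)))).symm
theorem F91514 : act 2 n13018 = n27160 := (sb E8694 F89284)
theorem F91515 : act 7 n37604 = n27173 := (sb E8695 (iv7 D56467))
theorem F91516 : act 2 n56422 = n27179 := (sb E8696 F89337)
theorem E8700 : n56458 = n56418 := (((D56418).symm.trans (sb E8699 D56458))).symm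
theorem E8701 : n56459 = n56419 := (((D56419).symm.trans (sb E8699 D56459))).symm
theorem E8702 : n56460 = n56420 := (((D56420).symm.trans (sb E8699 D56460))).symm
theorem E8703 : n56461 = n35539 := ((((iv6 F56208)).symm.trans (sb E8699 D56461))).symm
theorem F91522 : act 7 n56418 = n27178 := (sb E8700 F89326)
theorem F91523 : act 2 n56419 = n27174 := (sb E8701 F89327)
theorem F91524 : act 7 n56419 = n27179 := (sb E8701 F89328)
theorem F91526 : act 7 n56420 = n27180 := (sb E8702 F89330)
theorem F91527 : act 2 n35539 = n27176 := (sb E8703 F89331)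
theorem E8704 : n35536 = n35389 := ((c2_3 D35539 F91527 F56090 F56207)).symm
theorem F91528 : act 2 n35389 = n17215 := (sb E8704 F56207)
theorem F91529 : act 7 n35389 = n17214 := (sb E8704 (iv7 D35536))
theorem E8705 : n56481 = n35534 := ((c13_2 F91529 D35534 (iv7 D56481) F56090)).symm
theorem F91530 : act 7 n35534 = n27176 := (sb E8705 (iv7 D56481))
theorem E8706 : n35531 = n35388 := (c15_4 (iv0 D35388) D35389 F91529 D35531)
theorem F91531 : act 2 n35388 = n17214 := (sb E8706 (iv2 D35531))
theorem F91532 : act 7 n35388 = n17215 := (sb E8706 (iv7 F56205))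
theorem E8707 : n56114 = n35535 := ((c3_3 (iv6 F56088) F91531 D35535 F88776)).symm
theorem F91533 : act 2 n35535 = n27058 := (sb E8707 F88776)
theorem E8708 : n27055 = n27026 := (((F56206).symm.trans (sb E8707 F88777))).symm
theorem F91534 : act 7 n35535 = n27053 := (sb E8707 (iv7 D56114))
theorem E8709 : n56093 = n12949 := ((((iv1 D27026)).symm.trans (sb E8708 (iv1 F88759)))).symm
theorem E8711 : n56022 = n12962 := (((iv2 F88677)).symm.trans (sb E8708 F43713))
theorem E8712 : n56103 = n39126 := ((((iv3 F60133)).symm.trans (sb E8708 (iv3 F88768)))).symm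
theorem E8713 : n56109 = n56023 := (((D56023).symm.trans (sb E8708 (iv4 F88772)))).symm
theorem E8714 : n56119 = n56024 := (((D56024).symm.trans (sb E8708 D56119))).symm
theorem E8715 : n56017 = n12961 := ((F88675).symm.trans (sb E8708 (iv7 D27055)))
theorem E8716 : n27050 = n27025 := (((D27025).symm.trans (sb E8709 (iv1 D56093)))).symm
theorem F91535 : act 2 n12962 = n27026 := (sb E8711 F88677)
theorem F91536 : act 7 n39126 = n27051 := (sb E8712 (iv7 D56103))
theorem F91537 : act 2 n56023 = n27057 := (sb E8713 F88771)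
theorem F91538 : act 7 n56023 = n27052 := (sb E8713 (iv7 D56109))
theorem F91540 : act 7 n56024 = n40265 := (sb E8714 (iv7 F91503))
theorem F91541 : act 7 n12961 = n27026 := (sb E8715 (iv7 F88675))
theorem F91542 : act 2 n27025 = n12961 := (sb E8716 (iv2 D27050))
theorem E8717 : n56094 = n56018 := (((D56018).symm.trans (sb E8716 D56094))).symm
theorem E8718 : n56095 = n56019 := (((D56019).symm.trans (sb E8716 D56095))).symm
theorem E8719 : n56096 = n56020 := (((D56020).symm.trans (sb E8716 D56096))).symm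
theorem F91543 : act 7 n27025 = n12962 := (sb E8716 (iv7 F43712))
theorem F91544 : act 7 n56018 = n27056 := (sb E8717 F88760)
theorem F91545 : act 2 n56019 = n27052 := (sb E8718 F88761)
theorem F91546 : act 7 n56019 = n27057 := (sb E8718 F88762)
theorem F91547 : act 2 n56020 = n27053 := (sb E8719 F88763)
theorem F91548 : act 7 n56020 = n27058 := (sb E8719 F88764)
theorem F91550 : act 1 n35535 = n36330 := d15_0 (iv0 F91297) F91548 (iv2 F91533)
theorem E8721 : n56024 = n40268 := (c21_10 (iv5 D40259) (iv1 F91192) F28152 (iv6 F28705) (iv1 F91278) D35257 (iv5 F57069) (iv1 F91550) F56206 D56024 (iv1 F61250))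
theorem F91552 : act 6 n40268 = n27026 := (sb E8721 (iv6 D56024))
theorem F91553 : act 7 n40268 = n40265 := (sb E8721 F91540)
theorem E8722 : n56132 = n40269 := (c15_4 F61251 F61250 F91553 (iv2 F91504))
theorem F91555 : act 7 n40269 = n27059 := (sb E8722 (iv7 D56132))
theorem F91557 : act 0 n36504 = n35257 := d21_10 (iv5 F57069) (iv1 F91550) F56206 (iv6 F91552) (iv1 F61250) F91195 F57479 F89352 (iv5 D36503) D36504
theorem E8724 : n39119 = n39087 := ((c11_2 F91536 (iv4 F60092) (iv7 F60131) D39126)).symm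
theorem F91558 : act 2 n39087 = n18572 := (sb E8724 (iv2 D39119))
theorem F91559 : act 7 n39087 = n18573 := (sb E8724 (iv7 F60131))
theorem E8725 : n39124 = n39088 := (c15_4 F60094 (iv0 F60093) F91559 (iv2 F60132))
theorem F91560 : act 2 n39088 = n18573 := (sb E8725 F60132)
theorem F91561 : act 7 n39088 = n18572 := (sb E8725 (iv7 D39124))
theorem E8726 : n56100 = n39121 := ((c1_3 (iv4 F60092) F91558 D39121 (iv2 D56100))).symm
theorem F91562 : act 2 n39121 = n27051 := (sb E8726 (iv2 D56100))
theorem E8727 : n37597 = n37516 := ((c11_2 F91515 (iv4 F58397) (iv7 F58465) D37604)).symm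
theorem F91563 : act 2 n37516 = n18034 := (sb E8727 (iv2 D37597))
theorem F91564 : act 7 n37516 = n18035 := (sb E8727 (iv7 F58465))
theorem E8728 : n37602 = n37517 := (c15_4 F58399 (iv0 F58398) F91564 (iv2 F58466))
theorem F91565 : act 2 n37517 = n18035 := (sb E8728 F58466)
theorem F91566 : act 7 n37517 = n18034 := (sb E8728 (iv7 D37602))
theorem E8729 : n56464 = n37599 := ((c1_3 (iv4 F58397) F91563 D37599 (iv2 D56464))).symm
theorem F91567 : act 2 n37599 = n27173 := (sb E8729 (iv2 D56464))
theorem F91568 : act 2 n38227 = n35432 := d15_3 (iv0 D35432) F91188 (iv7 F59093)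
theorem F91569 : act 4 n35432 = n38226 := d1_2 D38227 F91568 (iv2 D38226)
theorem F91570 : act 7 n35432 = n38772 := d4_2 (iv7 F59093) F91568 F59670
theorem E8730 : n38234 = n27833 := ((c20_4 D40195 (iv1 F61291) (iv4 D27834) D27833 (iv1 F59103) (iv3 F59088) (iv4 F91569) (iv1 F91167) (iv4 F59675) F60582 F61172)).symm
theorem F91571 : act 0 n27833 = n18415 := (sb E8730 (iv1 F59103))
theorem F91572 : act 1 n27833 = n18267 := (sb E8730 (iv0 D38234))
theorem E8731 : n38704 = n38235 := ((c15_2 F91572 D38235 (iv7 F59492) (iv2 F61284))).symm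
theorem F91573 : act 2 n38235 = n18413 := (sb E8731 (iv2 D38704))
theorem F91575 : act 7 n38235 = n18414 := (sb E8731 (iv7 F59492))
theorem F91576 : act 4 n35499 = n39720 := d20_6 (iv4 F30363) (iv1 F44921) F44918 (iv3 F91185) (iv1 D35513) (iv3 F56185) (iv1 D39720) F30037 F13685 D8813
theorem F91577 : act 6 n39720 = n35497 := d10_2 D35499 F91576 (iv4 D35497)
theorem F91578 : act 5 n39720 = n56735 := d21_6 (iv5 F29814) (iv1 F29816) (iv5 F21988) D27652 F56183 (iv6 F91577) (iv1 D56735) (iv5 D27261) (iv6 D13059) D13057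
theorem F91579 : act 7 n35443 = n40258 := d11_2 F91182 D35443 (iv4 D40258)
theorem F91580 : act 2 n39966 = n35443 := d4_3 F91579 F61225 (iv7 F60810)
theorem F91581 : act 1 n40262 = n35443 := d15_1 D40262 F91579 F61225
theorem F91582 : act 1 n35443 = n40261 := d15_1 F91581 (iv7 F61242) (iv2 F61239)
theorem E8732 : n39709 = n39113 := ((c10_2 F91163 (iv4 F60127) (iv6 D39709) D39707)).symm
theorem F91583 : act 6 n39113 = n18788 := (sb E8732 (iv6 D39709))
theorem E8733 : n41535 = n39706 := ((c7_2 F91583 D39706 F64082 (iv3 F60126))).symm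
theorem F91584 : act 0 n39706 = n22140 := (sb E8733 (iv1 F64084))
theorem F91585 : act 1 n39706 = n22139 := (sb E8733 F64085)
theorem F91586 : act 2 n39706 = n22142 := (sb E8733 F64081)
theorem F91587 : act 6 n39706 = n22007 := (sb E8733 F64082)
theorem F91588 : act 7 n39706 = n19555 := (sb E8733 (iv7 D41535))
theorem F91589 : act 0 n57826 = n56970 := d21_7 D13117 (iv1 F44247) F44248 D27456 (iv1 F91146) D27600 D57826 (iv5 D56970) (iv6 D27335) (iv1 F21863)
theorem F91590 : act 5 n57820 = n57132 := d21_2 D27599 D57820 (iv6 D57132) (iv1 D27385) (iv6 D13118) D13117 (iv1 F44247) F44248 D27456 (iv1 F91146)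
def n57863 : Q := act 7 n27619
theorem D57863 : act 7 n27619 = n57863 := rfl
theorem F91591 : act 2 n57863 = n57838 := d4_1 D57863 F91127 F90498
theorem F91592 : act 4 n57863 = n27623 := d11_1 D57863 (iv7 F44523) (iv4 F44517)
theorem F91594 : act 1 n57838 = n57860 := d15_0 (iv0 D57860) D57863 F91591
def n57864 : Q := act 3 n27620
theorem D57864 : act 3 n27620 = n57864 := rfl
def n57865 : Q := act 5 n27620
theorem D57865 : act 5 n27620 = n57865 := rfl
def n57867 : Q := act 4 n27621
theorem D57867 : act 4 n27621 = n57867 := rfl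
theorem F91599 : act 2 n57867 = n57030 := d1_1 D57867 (iv4 D57030) (iv2 F91076)
theorem F91600 : act 7 n57867 = n57045 := d11_2 (iv7 F91077) D57867 (iv4 D57045)
def n57868 : Q := act 4 n27624
theorem D57868 : act 4 n27624 = n57868 := rfl
theorem F91601 : act 7 n57868 = n27637 := d11_2 (iv7 F44552) D57868 (iv4 D27637)
def n57870 : Q := act 1 n27625
theorem D57870 : act 1 n27625 = n57870 := rfl
theorem F91603 : act 1 n57870 = n27630 := d15_1 D57870 (iv7 D27630) D27625
def n57871 : Q := act 3 n27625
theorem D57871 : act 3 n27625 = n57871 := rfl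
theorem F91604 : act 7 n57871 = n27631 := d8_2 F44553 D57871 (iv3 D27631)
def n57872 : Q := act 4 n27625
theorem D57872 : act 4 n27625 = n57872 := rfl
theorem F91605 : act 2 n57872 = n27627 := d1_1 D57872 (iv4 D27627) D27625
theorem F91606 : act 7 n57872 = n27632 := d11_2 F44553 D57872 (iv4 D27632)
def n57873 : Q := act 5 n27625
theorem D57873 : act 5 n27625 = n57873 := rfl
theorem F91607 : act 2 n57873 = n27628 := d2_1 D57873 (iv5 D27628) D27625
theorem F91608 : act 7 n57873 = n27633 := d13_2 F44553 D57873 (iv5 D27633)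
def n57874 : Q := act 6 n27625
theorem D57874 : act 6 n27625 = n57874 := rfl
theorem F91609 : act 2 n57874 = n27629 := d3_1 D57874 (iv6 D27629) D27625
def n57875 : Q := act 0 n27626
theorem D57875 : act 0 n27626 = n57875 := rfl
def n57876 : Q := act 1 n27626
theorem D57876 : act 1 n27626 = n57876 := rfl
def n57877 : Q := act 2 n27626
theorem D57877 : act 2 n27626 = n57877 := rfl
def n57878 : Q := act 4 n27626
theorem D57878 : act 4 n27626 = n57878 := rfl
theorem F91610 : act 0 n57878 = n40165 := d20_7 (iv4 D7611) (iv1 D3455) (iv4 F4243) (iv3 F9761) D13193 D27626 D57878 F61058 F30307 F28955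
theorem F91611 : act 0 n39977 = n57878 := d20_1 (iv4 F60844) (iv4 D57878) (iv3 D27626) (iv1 F44194) F44190 (iv4 F58640) (iv1 F58643) D38698 (iv3 F60846) (iv1 D39979)
def n57879 : Q := act 5 n27626
theorem D57879 : act 5 n27626 = n57879 := rfl
theorem F91612 : act 3 n57879 = n27628 := d6_1 D57879 (iv5 D27628) D27626
def n57880 : Q := act 6 n27626
theorem D57880 : act 6 n27626 = n57880 := rfl
theorem F91613 : act 3 n57880 = n27629 := d7_1 D57880 (iv6 D27629) D27626
def n57881 : Q := act 7 n27626
theorem D57881 : act 7 n27626 = n57881 := rfl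
theorem F91614 : act 3 n57881 = n27630 := d8_1 D57881 (iv7 D27630) D27626
def n57882 : Q := act 0 n27627
theorem D57882 : act 0 n27627 = n57882 := rfl
def n57883 : Q := act 1 n27627
theorem D57883 : act 1 n27627 = n57883 := rfl
theorem F91615 : act 1 n57883 = n27632 := d15_1 D57883 (iv7 F91606) F91605
def n57884 : Q := act 3 n27627
theorem D57884 : act 3 n27627 = n57884 := rfl
def n57885 : Q := act 5 n27627
theorem D57885 : act 5 n27627 = n57885 := rfl
def n57886 : Q := act 6 n27627
theorem D57886 : act 6 n27627 = n57886 := rfl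
theorem F91616 : act 4 n57886 = n27629 := d10_1 D57886 (iv6 D27629) D27627
def n57887 : Q := act 7 n27627
theorem D57887 : act 7 n27627 = n57887 := rfl
theorem F91617 : act 2 n57887 = n27632 := d4_1 D57887 (iv7 F91606) F91605
theorem F91618 : act 4 n57887 = n27630 := d11_1 D57887 (iv7 D27630) D27627
theorem F91619 : act 1 n27632 = n57882 := d15_0 (iv0 D57882) D57887 F91617
def n57888 : Q := act 1 n27628
theorem D57888 : act 1 n27628 = n57888 := rfl
theorem F91620 : act 1 n57888 = n27633 := d15_1 D57888 (iv7 F91608) F91607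
theorem F91621 : act 7 n57888 = n57048 := d15_2 (iv0 F90590) D57888 (iv2 F91115)
theorem F91622 : act 5 n55498 = n57888 := d13_3 F91621 (iv5 D57048) (iv7 F90695)
def n57889 : Q := act 4 n27628
theorem D57889 : act 4 n27628 = n57889 := rfl
def n57890 : Q := act 6 n27628
theorem D57890 : act 6 n27628 = n57890 := rfl
def n57891 : Q := act 7 n27628
theorem D57891 : act 7 n27628 = n57891 := rfl
theorem F91623 : act 2 n57891 = n27633 := d4_1 D57891 (iv7 F91608) F91607
theorem F91624 : act 5 n57891 = n27630 := d13_1 D57891 (iv7 D27630) D27628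
def n57892 : Q := act 5 n27629
theorem D57892 : act 5 n27629 = n57892 := rfl
theorem F91625 : act 0 n57892 = n35113 := d21_1 D57892 (iv5 D35113) (iv6 D17049) (iv1 F12735) D12809 F21266 D26770 (iv5 F44519) (iv6 F90601) F90602
theorem F91626 : act 0 n35134 = n57892 := d21_1 (iv5 F55828) (iv5 D57892) (iv6 D27629) (iv1 F44194) F44191 (iv5 F42988) (iv1 F42990) D26798 (iv6 F55803) F55804
def n57893 : Q := act 7 n27629
theorem D57893 : act 7 n27629 = n57893 := rfl
def n57894 : Q := act 6 n27630
theorem D57894 : act 6 n27630 = n57894 := rfl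
theorem F91627 : act 2 n57894 = n27634 := d3_1 D57894 (iv6 D27634) (iv2 F44554)
def n57895 : Q := act 0 n27631
theorem D57895 : act 0 n27631 = n57895 := rfl
def n57896 : Q := act 1 n27631
theorem D57896 : act 1 n27631 = n57896 := rfl
def n57897 : Q := act 2 n27631
theorem D57897 : act 2 n27631 = n57897 := rfl
def n57898 : Q := act 4 n27631
theorem D57898 : act 4 n27631 = n57898 := rfl
def n57899 : Q := act 5 n27631
theorem D57899 : act 5 n27631 = n57899 := rfl
theorem F91628 : act 3 n57899 = n27633 := d6_1 D57899 (iv5 D27633) D27631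
def n57900 : Q := act 6 n27631
theorem D57900 : act 6 n27631 = n57900 := rfl
def n57901 : Q := act 3 n27632
theorem D57901 : act 3 n27632 = n57901 := rfl
def n57902 : Q := act 5 n27632
theorem D57902 : act 5 n27632 = n57902 := rfl
def n57903 : Q := act 6 n27632
theorem D57903 : act 6 n27632 = n57903 := rfl
theorem F91630 : act 4 n57903 = n27634 := d10_1 D57903 (iv6 D27634) D27632
def n57904 : Q := act 4 n27633
theorem D57904 : act 4 n27633 = n57904 := rfl
def n57905 : Q := act 6 n27633
theorem D57905 : act 6 n27633 = n57905 := rfl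
theorem F91631 : act 0 n35861 = n57905 := d21_4 (iv5 D12798) F17554 D17366 D35861 (iv6 D57905) (iv5 D27633) (iv1 D13194) D13195 F21974 F21245
def n57906 : Q := act 5 n27634
theorem D57906 : act 5 n27634 = n57906 := rfl
theorem F91632 : act 0 n57906 = n55396 := d21_7 (iv5 D26793) (iv1 F42991) F42988 (iv6 F44191) (iv1 F44193) D27634 D57906 (iv5 D55396) D55397 F91036
def n57907 : Q := act 7 n27634
theorem D57907 : act 7 n27634 = n57907 := rfl
def n57908 : Q := act 2 n27635
theorem D57908 : act 2 n27635 = n57908 := rfl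
theorem F91634 : act 7 n27636 = n57908 := d15_2 (iv0 D27635) D27636 (iv2 D57908)
def n57909 : Q := act 3 n27635
theorem D57909 : act 3 n27635 = n57909 := rfl
def n57910 : Q := act 4 n27635
theorem D57910 : act 4 n27635 = n57910 := rfl
def n57911 : Q := act 6 n27635
theorem D57911 : act 6 n27635 = n57911 := rfl
def n57912 : Q := act 7 n27635
theorem D57912 : act 7 n27635 = n57912 := rfl
theorem F91635 : act 2 n57912 = n27636 := d4_1 D57912 F91634 (iv2 D57908)
def n57913 : Q := act 3 n27636
theorem D57913 : act 3 n27636 = n57913 := rfl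
def n57914 : Q := act 4 n27636
theorem D57914 : act 4 n27636 = n57914 := rfl
def n57915 : Q := act 6 n27636
theorem D57915 : act 6 n27636 = n57915 := rfl
def n57916 : Q := act 0 n27637
theorem D57916 : act 0 n27637 = n57916 := rfl
def n57917 : Q := act 1 n27637
theorem D57917 : act 1 n27637 = n57917 := rfl
def n57918 : Q := act 3 n27637
theorem D57918 : act 3 n27637 = n57918 := rfl
theorem F91636 : act 4 n57918 = n27909 := d5_2 D27637 D57918 (iv3 D27909) (iv4 D13308) (iv3 F21973)
theorem F91637 : act 6 n57918 = n27649 := d7_2 (iv6 F44555) D57918 (iv3 D27649)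
def n57919 : Q := act 5 n27637
theorem D57919 : act 5 n27637 = n57919 := rfl
def n57920 : Q := act 6 n27638
theorem D57920 : act 6 n27638 = n57920 := rfl
theorem F91638 : act 2 n57920 = n55353 := d3_1 D57920 F87605 (iv2 F44556)
theorem F91640 : act 5 n57920 = n35104 := d12_1 D57920 (iv6 D35104) (iv5 D17043) (iv6 F21977) D27638
def n57921 : Q := act 1 n27639
theorem D57921 : act 1 n27639 = n57921 := rfl
theorem F91641 : act 1 n57921 = n27642 := d15_1 D57921 F44566 (iv2 F44559)
theorem F91642 : act 7 n57921 = n55356 := d15_2 F56239 D57921 (iv2 F87614)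
theorem F91643 : act 4 n57921 = n55345 := d18_7 F27986 F21839 (iv1 F27388) (iv4 D13196) D13197 D27639 D57921 F87593 (iv5 D35135)
theorem F91644 : act 2 n55357 = n57921 := d1_3 F91643 F87589 (iv4 F87617)
def n57922 : Q := act 3 n27639
theorem D57922 : act 3 n27639 = n57922 := rfl
def n57923 : Q := act 5 n27639
theorem D57923 : act 5 n27639 = n57923 := rfl
theorem F91645 : act 2 n57923 = n55359 := d2_1 D57923 (iv5 D55359) (iv2 F44559)
def n57924 : Q := act 6 n27640
theorem D57924 : act 6 n27640 = n57924 := rfl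
theorem F91646 : act 3 n57924 = n27643 := d7_1 D57924 (iv6 D27643) (iv3 F44560)
def n57925 : Q := act 6 n27641
theorem D57925 : act 6 n27641 = n57925 := rfl
theorem F91647 : act 3 n57925 = n35236 := d7_1 D57925 (iv6 D35236) (iv3 F44563)
def n57926 : Q := act 3 n27642
theorem D57926 : act 3 n27642 = n57926 := rfl
theorem F91648 : act 7 n57926 = n55358 := d8_2 (iv7 F44566) D57926 (iv3 D55358)
def n57927 : Q := act 5 n27642
theorem D57927 : act 5 n27642 = n57927 := rfl
theorem F91649 : act 7 n57927 = n55359 := d13_2 (iv7 F44566) D57927 (iv5 D55359)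
def n57928 : Q := act 6 n27642
theorem D57928 : act 6 n27642 = n57928 := rfl
theorem F91650 : act 4 n57928 = n27643 := d10_1 D57928 (iv6 D27643) D27642
def n57929 : Q := act 1 n27643
theorem D57929 : act 1 n27643 = n57929 := rfl
def n57930 : Q := act 6 n27644
theorem D57930 : act 6 n27644 = n57930 := rfl
theorem F91651 : act 3 n57930 = n27646 := d7_1 D57930 (iv6 D27646) D27644
theorem F91652 : act 5 n57930 = n57924 := d12_1 D57930 (iv6 D57924) (iv5 D27640) (iv6 F43535) (iv5 F44567)
def n57931 : Q := act 3 n27645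
theorem D57931 : act 3 n27645 = n57931 := rfl
def n57932 : Q := act 5 n27645
theorem D57932 : act 5 n27645 = n57932 := rfl
def n57933 : Q := act 6 n27645
theorem D57933 : act 6 n27645 = n57933 := rfl
theorem F91653 : act 4 n57933 = n27646 := d10_1 D57933 (iv6 D27646) D27645
def n57934 : Q := act 0 n27646
theorem D57934 : act 0 n27646 = n57934 := rfl
def n57935 : Q := act 1 n27646
theorem D57935 : act 1 n27646 = n57935 := rfl
theorem F91654 : act 1 n57935 = n57441 := d15_1 D57935 F90623 F55839
def n57936 : Q := act 7 n27646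
theorem D57936 : act 7 n27646 = n57936 := rfl
theorem F91655 : act 2 n57936 = n57441 := d4_1 D57936 F90623 F55839
theorem F91656 : act 5 n57936 = n57557 := d13_1 D57936 F90705 (iv5 F44570)
theorem F91657 : act 6 n57936 = n57235 := d14_1 D57936 (iv7 D57235) F44308 F27961 D27646
theorem F91658 : act 1 n57441 = n57934 := d15_0 (iv0 D57934) D57936 F91655
def n57937 : Q := act 3 n27647
theorem D57937 : act 3 n27647 = n57937 := rfl
def n57938 : Q := act 5 n27647
theorem D57938 : act 5 n27647 = n57938 := rfl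
theorem F91659 : act 4 n57938 = n57932 := d16_2 (iv4 F44571) D57938 (iv5 D57932) (iv4 D27645) (iv5 F21985) (iv4 F28313) (iv5 F55974) F55975 F55792
theorem F91660 : act 1 n57938 = n55946 := d17_6 F42979 (iv5 D17231) (iv1 F28316) D26746 (iv4 F44571) D57938 (iv5 D55946) (iv0 F87610) (iv4 D55355)
def n57939 : Q := act 6 n27647
theorem D57939 : act 6 n27647 = n57939 := rfl
theorem F91661 : act 4 n57939 = n55343 := d10_1 D57939 F87586 (iv4 F44571)
def n57940 : Q := act 3 n27648
theorem D57940 : act 3 n27648 = n57940 := rfl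
def n57941 : Q := act 5 n27648
theorem D57941 : act 5 n27648 = n57941 := rfl
theorem F91662 : act 4 n57941 = n55349 := d9_1 D57941 (iv5 D55349) (iv4 D26747) (iv5 D12798) (iv4 F21244) D26746 (iv4 F44571) D57938 F91659 (iv5 D57932) (iv4 D27645) (iv5 F21985) (iv4 F28313) (iv5 F55974) F55976
theorem F91663 : act 0 n57941 = n55946 := d17_2 (iv1 F55817) D57941 (iv5 D55946) (iv4 D26979) (iv5 D12911) D12909 F21985 (iv0 F27973) D35115
def n57942 : Q := act 6 n27648
theorem D57942 : act 6 n27648 = n57942 := rfl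
def n57943 : Q := act 0 n27649
theorem D57943 : act 0 n27649 = n57943 := rfl
def n57944 : Q := act 1 n27649
theorem D57944 : act 1 n27649 = n57944 := rfl
def n57945 : Q := act 2 n27649
theorem D57945 : act 2 n27649 = n57945 := rfl
theorem F91664 : act 4 n57945 = n27922 := d1_2 (iv4 F44572) D57945 (iv2 D27922)
def n57946 : Q := act 5 n27649
theorem D57946 : act 5 n27649 = n57946 := rfl
theorem F91665 : act 3 n57946 = n27650 := d6_1 D57946 (iv5 D27650) D27649
def n57947 : Q := act 0 n27650
theorem D57947 : act 0 n27650 = n57947 := rfl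
theorem F91666 : act 5 n57947 = n35862 := d17_3 (iv1 D27648) D27650 D57947 F56525 (iv5 D27638) F27388 (iv5 F28191) F55977 F55976
theorem F91667 : act 4 n57927 = n57947 := d16_2 D27642 D57927 F91666 F56525 (iv5 D27638) (iv4 D13196) D13197 (iv7 F27989) F27988
def n57948 : Q := act 1 n27650
theorem D57948 : act 1 n27650 = n57948 := rfl
theorem F91668 : act 5 n57948 = n35863 := d17_7 F43542 (iv5 D13200) (iv1 D6274) D6275 D13202 D27650 D57948 (iv0 F88522) (iv4 D55942)
theorem F91669 : act 4 n57923 = n57948 := d9_15 F91668 F56526 (iv5 D27641) (iv4 D13199) D13200 D27642 D57927 F91667 F91666 F56525 (iv5 D27638) (iv4 D13196) D13197 D27639 D57923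
def n57949 : Q := act 4 n27650
theorem D57949 : act 4 n27650 = n57949 := rfl
theorem F91670 : act 2 n57949 = n35143 := d1_1 D57949 (iv4 F89954) F89953
theorem F91671 : act 7 n57949 = n56907 := d11_2 F55850 D57949 F89954
theorem F91672 : act 5 n57949 = n35115 := d16_3 D13202 D27650 D57949 (iv4 D35115) (iv5 D17050) F12739 D17050 F27972 F21814
theorem F91673 : act 0 n57949 = n57948 := d18_2 (iv1 D57948) D57949 (iv4 F91669) (iv5 D57923) (iv4 D27639) (iv0 F21979) D17367 D35863 (iv5 F91668)
theorem F91674 : act 1 n57949 = n57947 := d18_8 (iv1 F88523) (iv4 D55942) F43542 D27642 D57927 F91667 (iv0 D57947) D57949 F91666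
def n57950 : Q := act 6 n27650
theorem D57950 : act 6 n27650 = n57950 := rfl
def n57951 : Q := act 0 n27651
theorem D57951 : act 0 n27651 = n57951 := rfl
theorem F91675 : act 5 n57951 = n46024 := d17_1 D57951 (iv1 F72604) F61721 (iv4 F70915) F70916 F71691 F74238 (iv0 D38888) (iv4 F44573)
theorem F91676 : act 4 n57951 = n46556 := d18_1 D57951 (iv1 F73555) (iv4 D40843) (iv5 D19253) F14129 F17162 D22301 (iv0 F34946) (iv5 F44574)
theorem F91677 : act 1 n32463 = n57951 := d15_0 (iv0 D57951) F44575 (iv2 F51542)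
theorem F91678 : act 3 n35987 = n46556 := d20_5 F26495 (iv1 D8172) D8173 D17421 D35987 (iv4 F91676) (iv1 F91677) (iv4 F85705) (iv3 D54316) F41692
theorem F91679 : act 2 n39083 = n57951 := d2_3 F91675 (iv2 F72603) (iv5 F74237)
theorem F91680 : act 7 n39082 = n57951 := d13_0 F91675 F72605 F71579
def n57952 : Q := act 1 n27651
theorem D57952 : act 1 n27651 = n57952 := rfl
theorem F91681 : act 1 n57952 = n32463 := d15_1 D57952 (iv7 F85862) F85859
theorem F91682 : act 7 n57952 = n39083 := d15_2 (iv0 D57951) D57952 F91679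
theorem F91683 : act 5 n57952 = n45988 := d17_7 F63905 F71579 F85863 F85861 F73793 (iv5 F44574) D57952 (iv0 F72565) F61720
theorem F91684 : act 4 n46557 = n57952 := d20_0 (iv1 D57952) F44573 (iv3 D18476) (iv1 F16209) D21470 (iv4 F43350) F43352 D49005 F77350 (iv1 F73556)
theorem F91685 : act 3 n45989 = n57952 := d20_5 (iv4 F27482) (iv1 F34422) F34419 D22000 (iv1 F83054) (iv4 F91684) (iv1 D46557) (iv4 D22313) F17167 (iv1 F14411)
theorem F91686 : act 2 n39082 = n57952 := d2_3 F91683 F72561 F71579
def n57953 : Q := act 6 n27651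
theorem D57953 : act 6 n27651 = n57953 := rfl
theorem F91687 : act 3 n57953 = n27652 := d7_1 D57953 (iv6 D27652) D27651
theorem F91688 : act 4 n57953 = n38890 := d10_1 D57953 (iv6 D38890) (iv4 F44573)
def n57954 : Q := act 1 n27652
theorem D57954 : act 1 n27652 = n57954 := rfl
theorem F91689 : act 1 n57954 = n27664 := d15_1 D57954 (iv7 D27664) (iv2 F44576)
theorem F91690 : act 7 n57954 = n27661 := d15_2 (iv0 F56183) D57954 (iv2 F91360)
theorem F91691 : act 2 n27662 = n57954 := d4_3 F91690 (iv2 F91360) F91359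
def n57955 : Q := act 5 n27652
theorem D57955 : act 5 n27652 = n57955 := rfl
theorem F91692 : act 2 n57955 = n27663 := d2_1 D57955 (iv5 D27663) (iv2 F44576)
theorem F91693 : act 6 n57955 = n46690 := d12_2 D27652 D57955 (iv5 D46690) (iv6 D22393) (iv5 F21988)
def n57956 : Q := act 7 n27652
theorem D57956 : act 7 n27652 = n57956 := rfl
theorem F91695 : act 4 n57956 = n27656 := d11_1 D57956 (iv7 D27656) (iv4 F44577)
theorem F91696 : act 6 n57956 = n39090 := d14_1 D57956 (iv7 D39090) (iv6 D18562) (iv7 F21987) D27652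
theorem F91697 : act 1 n27662 = n57956 := d15_1 D27662 (iv7 D57956) F44576
theorem F91698 : act 1 n57956 = n27661 := d15_1 F91697 (iv7 F91690) (iv2 F91691)
def n57957 : Q := act 2 n27653
theorem D57957 : act 2 n27653 = n57957 := rfl
theorem F91699 : act 6 n57957 = n56760 := d3_2 (iv6 F44578) D57957 F89755
theorem F91700 : act 7 n27654 = n57957 := d15_2 (iv0 D27653) D27654 (iv2 D57957)
def n57958 : Q := act 3 n27653
theorem D57958 : act 3 n27653 = n57958 := rfl
theorem F91701 : act 6 n57958 = n56769 := d7_2 (iv6 F44578) D57958 F89763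
def n57959 : Q := act 4 n27653
theorem D57959 : act 4 n27653 = n57959 := rfl
theorem F91702 : act 6 n57959 = n56774 := d10_2 (iv6 F44578) D57959 (iv4 D56774)
def n57960 : Q := act 5 n27653
theorem D57960 : act 5 n27653 = n57960 := rfl
theorem F91703 : act 6 n57960 = n56777 := d12_2 (iv6 F44578) D57960 (iv5 D56777) (iv6 D27272) D27271
theorem F91704 : act 0 n56777 = n56636 := d21_10 (iv5 D56636) (iv1 D27229) D27230 F44041 F30158 (iv6 F44582) (iv5 D27655) D27653 D57960 F91703
theorem F91705 : act 0 n56637 = n37655 := d21_10 (iv5 D37655) F58419 F58415 (iv6 F44075) (iv1 F44077) D27272 D56777 F91704 (iv5 D56636) D56637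
def n57961 : Q := act 7 n27653
theorem D57961 : act 7 n27653 = n57961 := rfl
def n57962 : Q := act 4 n27654
theorem D57962 : act 4 n27654 = n57962 := rfl
def n57963 : Q := act 5 n27654
theorem D57963 : act 5 n27654 = n57963 := rfl
theorem F91707 : act 6 n39883 = n57963 := d21_5 (iv5 D16701) F13348 D8836 D18869 D39883 (iv5 D57963) (iv1 D27654) D27655 F44582 F30157
def n57964 : Q := act 6 n27654
theorem D57964 : act 6 n27654 = n57964 := rfl
theorem F91708 : act 7 n57964 = n56759 := d14_2 (iv7 F91700) D57964 (iv6 D56759) D56760 (iv6 F91699)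
def n57965 : Q := act 4 n27655
theorem D57965 : act 4 n27655 = n57965 := rfl
theorem F91709 : act 2 n57965 = n27677 := d1_1 D57965 (iv4 D27677) (iv2 F44580)
theorem F91710 : act 6 n57965 = n39967 := d10_2 (iv6 F44582) D57965 (iv4 D39967)
def n57966 : Q := act 7 n27655
theorem D57966 : act 7 n27655 = n57966 := rfl
theorem F91711 : act 2 n57966 = n27678 := d4_1 D57966 (iv7 D27678) (iv2 F44580)
theorem F91712 : act 3 n57966 = n38906 := d8_1 D57966 (iv7 D38906) (iv3 F44581)
theorem F91713 : act 5 n57966 = n27656 := d13_1 D57966 (iv7 D27656) D27655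
theorem F91714 : act 1 n27678 = n39170 := d15_0 (iv0 F60159) D57966 F91711
theorem F91715 : act 1 n27676 = n57966 := d15_1 D27676 (iv7 D57966) F44580
theorem F91716 : act 1 n57966 = n27675 := d15_0 (iv0 D27675) D27678 (iv2 F91711)
def n57967 : Q := act 6 n27657
theorem D57967 : act 6 n27657 = n57967 := rfl
theorem F91717 : act 2 n57967 = n41583 := d3_1 D57967 (iv6 D41583) (iv2 F44589)
theorem F91718 : act 3 n57967 = n27658 := d7_1 D57967 (iv6 D27658) D27657
def n57968 : Q := act 0 n27658
theorem D57968 : act 0 n27658 = n57968 := rfl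
def n57970 : Q := act 5 n27658
theorem D57970 : act 5 n27658 = n57970 := rfl
theorem F91720 : act 2 n57970 = n39112 := d2_1 D57970 (iv5 D39112) (iv2 F44597)
theorem F91721 : act 6 n57970 = n46033 := d12_2 D27658 D57970 (iv5 D46033) (iv6 D21995) F21997
def n57971 : Q := act 7 n27658
theorem D57971 : act 7 n27658 = n57971 := rfl
theorem F91722 : act 2 n57971 = n39113 := d4_1 D57971 (iv7 D39113) (iv2 F44597)
theorem F91723 : act 4 n57971 = n56623 := d11_1 D57971 (iv7 D56623) (iv4 F44598)
theorem F91725 : act 1 n39113 = n57968 := d15_0 (iv0 D57968) D57971 F91722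
theorem F91727 : act 1 n57971 = n39110 := d15_0 (iv0 D39110) D39113 (iv2 F91722)
def n57972 : Q := act 5 n27659
theorem D57972 : act 5 n27659 = n57972 := rfl
theorem F91728 : act 2 n57972 = n39108 := d2_1 D57972 (iv5 D39108) (iv2 F44599)
theorem F91729 : act 3 n57972 = n41534 := d6_1 D57972 (iv5 D41534) (iv3 F44600)
theorem F91730 : act 6 n57972 = n41526 := d12_2 D27659 D57972 (iv5 D41526) (iv6 D19552) F22003
theorem F91731 : act 7 n57972 = n39708 := d13_2 (iv7 F91158) D57972 (iv5 D39708)
def n57973 : Q := act 0 n27660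
theorem D57973 : act 0 n27660 = n57973 := rfl
def n57974 : Q := act 1 n27660
theorem D57974 : act 1 n27660 = n57974 := rfl
def n57975 : Q := act 5 n27660
theorem D57975 : act 5 n27660 = n57975 := rfl
theorem F91733 : act 2 n57975 = n46690 := d2_1 D57975 (iv5 D46690) (iv2 F44602)
theorem F91734 : act 6 n57975 = n27663 := d12_2 D27660 D57975 (iv5 D27663) (iv6 D13208) D13207
def n57976 : Q := act 7 n27660
theorem D57976 : act 7 n27660 = n57976 := rfl
theorem F91735 : act 2 n57976 = n46691 := d4_1 D57976 (iv7 D46691) (iv2 F44602)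
theorem F91736 : act 6 n57976 = n39118 := d14_1 D57976 (iv7 D39118) (iv6 D18571) (iv7 F22005) D27660
theorem F91738 : act 1 n46689 = n57976 := d15_1 D46689 (iv7 D57976) F44602
theorem F91739 : act 1 n57976 = n46688 := d15_0 (iv0 D46688) D46691 (iv2 F91735)
def n57977 : Q := act 3 n27661
theorem D57977 : act 3 n27661 = n57977 := rfl
def n57978 : Q := act 5 n27661
theorem D57978 : act 5 n27661 = n57978 := rfl
def n57979 : Q := act 6 n27661
theorem D57979 : act 6 n27661 = n57979 := rfl
theorem F91740 : act 2 n57979 = n39720 := d3_1 D57979 F91577 F91360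
def n57980 : Q := act 3 n27662
theorem D57980 : act 3 n27662 = n57980 := rfl
def n57981 : Q := act 5 n27662
theorem D57981 : act 5 n27662 = n57981 := rfl
def n57982 : Q := act 6 n27662
theorem D57982 : act 6 n27662 = n57982 := rfl
def n57983 : Q := act 0 n27663
theorem D57983 : act 0 n27663 = n57983 := rfl
def n57984 : Q := act 1 n27663
theorem D57984 : act 1 n27663 = n57984 := rfl
def n57985 : Q := act 4 n27663
theorem D57985 : act 4 n27663 = n57985 := rfl
def n57986 : Q := act 7 n27663
theorem D57986 : act 7 n27663 = n57986 := rfl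
theorem F91741 : act 5 n57986 = n27664 := d13_1 D57986 (iv7 D27664) D27663
def n57989 : Q := act 3 n27665
theorem D57989 : act 3 n27665 = n57989 := rfl
theorem F91744 : act 7 n57989 = n27671 := d8_2 F44605 D57989 (iv3 D27671)
def n57990 : Q := act 4 n27665
theorem D57990 : act 4 n27665 = n57990 := rfl
theorem F91745 : act 2 n57990 = n27667 := d1_1 D57990 (iv4 D27667) D27665
theorem F91746 : act 7 n57990 = n27672 := d11_2 F44605 D57990 (iv4 D27672)
def n57991 : Q := act 5 n27665
theorem D57991 : act 5 n27665 = n57991 := rfl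
theorem F91747 : act 2 n57991 = n27668 := d2_1 D57991 (iv5 D27668) D27665
theorem F91748 : act 7 n57991 = n27673 := d13_2 F44605 D57991 (iv5 D27673)
def n57992 : Q := act 6 n27665
theorem D57992 : act 6 n27665 = n57992 := rfl
theorem F91749 : act 2 n57992 = n27669 := d3_1 D57992 (iv6 D27669) D27665
theorem F91750 : act 5 n56675 = n57992 := d2_0 F91749 F44606 (iv2 F89637)
theorem F91751 : act 7 n57992 = n56674 := d13_2 D56675 F91750 (iv5 D56674)
def n57993 : Q := act 0 n27666
theorem D57993 : act 0 n27666 = n57993 := rfl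
def n57994 : Q := act 1 n27666
theorem D57994 : act 1 n27666 = n57994 := rfl
theorem F91752 : act 3 n38969 = n57994 := d20_9 (iv4 F88038) F88039 F43398 F21380 (iv1 F9494) D8103 D17299 D35690 (iv4 F88321) (iv1 D57994)
def n57995 : Q := act 2 n27666
theorem D57995 : act 2 n27666 = n57995 := rfl
def n57996 : Q := act 5 n27666
theorem D57996 : act 5 n27666 = n57996 := rfl
theorem F91753 : act 3 n57996 = n27668 := d6_1 D57996 (iv5 D27668) D27666
def n57997 : Q := act 6 n27666
theorem D57997 : act 6 n27666 = n57997 := rfl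
theorem F91754 : act 3 n57997 = n27669 := d7_1 D57997 (iv6 D27669) D27666
theorem F91755 : act 5 n56318 = n57997 := d6_0 F91754 F44606 (iv3 F89086)
def n57998 : Q := act 7 n27666
theorem D57998 : act 7 n27666 = n57998 := rfl
theorem F91756 : act 3 n57998 = n27670 := d8_1 D57998 (iv7 D27670) D27666
def n57999 : Q := act 0 n27667
theorem D57999 : act 0 n27667 = n57999 := rfl
theorem F91757 : act 4 n57999 = n35683 := d20_2 D27667 D57999 (iv3 D35683) (iv1 D17297) (iv3 D8103) D8104 F41760 F9233 (iv3 F9771) D13209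
def n58000 : Q := act 1 n27667
theorem D58000 : act 1 n27667 = n58000 := rfl
theorem F91758 : act 1 n58000 = n27672 := d15_1 D58000 (iv7 F91746) F91745
def n58001 : Q := act 3 n27667
theorem D58001 : act 3 n27667 = n58001 := rfl
def n58002 : Q := act 5 n27667
theorem D58002 : act 5 n27667 = n58002 := rfl
def n58003 : Q := act 6 n27667
theorem D58003 : act 6 n27667 = n58003 := rfl
theorem F91759 : act 4 n58003 = n27669 := d10_1 D58003 (iv6 D27669) D27667
def n58004 : Q := act 7 n27667
theorem D58004 : act 7 n27667 = n58004 := rfl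
theorem F91760 : act 2 n58004 = n27672 := d4_1 D58004 (iv7 F91746) F91745
theorem F91761 : act 4 n58004 = n27670 := d11_1 D58004 (iv7 D27670) D27667
theorem F91762 : act 1 n27672 = n57999 := d15_0 (iv0 D57999) D58004 F91760
def n58005 : Q := act 0 n27668
theorem D58005 : act 0 n27668 = n58005 := rfl
theorem F91763 : act 5 n58005 = n37582 := d21_2 D27668 D58005 (iv6 D37582) (iv1 D18027) (iv6 D8506) (iv5 F13460) (iv1 D3945) (iv5 F4227) D6280 D13209
theorem F91764 : act 6 n37549 = n58005 := d12_0 F91763 (iv6 D37582) (iv5 F58440) (iv6 D37550) D37549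
theorem F91765 : act 0 n58005 = n27673 := d21_10 (iv5 D27673) (iv1 D13210) D13211 F22010 F27391 (iv6 F29191) (iv5 D18019) D18017 D37549 F91764
def n58006 : Q := act 1 n27668
theorem D58006 : act 1 n27668 = n58006 := rfl
theorem F91766 : act 1 n58006 = n27673 := d15_1 D58006 (iv7 F91748) F91747
def n58007 : Q := act 4 n27668
theorem D58007 : act 4 n27668 = n58007 := rfl
def n58008 : Q := act 6 n27668
theorem D58008 : act 6 n27668 = n58008 := rfl
theorem F91767 : act 5 n58008 = n56677 := d12_1 D58008 (iv6 D56677) (iv5 F44606) (iv6 D27669) D27668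
theorem F91768 : act 0 n58008 = n37497 := d21_10 (iv5 D37497) (iv1 D17999) D18000 F29158 F13797 (iv6 F22010) (iv5 D13211) D13209 D27668 D58008
theorem F91769 : act 0 n37578 = n56677 := d21_1 (iv5 F89565) (iv5 F91767) (iv6 D58008) D58005 (iv6 F91764) (iv5 D37549) (iv1 F44107) (iv5 F89694) F89695 (iv1 F89564)
theorem F91770 : act 0 n27669 = n56664 := d21_7 (iv5 D37650) F58490 (iv5 D37577) D37578 F91769 (iv6 D56677) (iv5 F44606) (iv5 F89750) (iv6 F89751) F58497
theorem F91771 : act 5 n37635 = n58006 := d21_6 (iv5 F89750) F89752 (iv5 D27271) D27272 D56775 F89767 (iv1 D58006) (iv5 D27668) D27669 F91770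
theorem F91772 : act 0 n37492 = n58008 := d21_1 D37492 F91767 (iv6 D56677) (iv1 D27243) (iv6 D13051) (iv5 D6212) (iv1 F4201) D3798 D8489 D17998
def n58009 : Q := act 7 n27668
theorem D58009 : act 7 n27668 = n58009 := rfl
theorem F91773 : act 2 n58009 = n27673 := d4_1 D58009 (iv7 F91748) F91747
theorem F91774 : act 5 n58009 = n27670 := d13_1 D58009 (iv7 D27670) D27668
def n58010 : Q := act 1 n27669
theorem D58010 : act 1 n27669 = n58010 := rfl
theorem F91775 : act 1 n58010 = n56674 := d15_1 D58010 (iv7 F91751) F91749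
theorem F91776 : act 6 n39171 = n58010 := d21_3 (iv5 F21753) D27237 (iv5 F89688) (iv1 D58010) (iv6 D27669) D27668 D58005 F91763 (iv6 D37582) (iv1 D18027)
def n58011 : Q := act 7 n27669
theorem D58011 : act 7 n27669 = n58011 := rfl
theorem F91778 : act 2 n58011 = n56674 := d4_1 D58011 (iv7 F91751) F91749
theorem F91779 : act 5 n58011 = n56671 := d13_1 D58011 (iv7 F89636) (iv5 F44606)
theorem F91780 : act 1 n56674 = n56664 := d15_0 (iv0 F91770) D58011 F91778
def n58012 : Q := act 6 n27670
theorem D58012 : act 6 n27670 = n58012 := rfl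
theorem F91781 : act 2 n58012 = n27674 := d3_1 D58012 (iv6 D27674) (iv2 F44607)
def n58013 : Q := act 0 n27671
theorem D58013 : act 0 n27671 = n58013 := rfl
theorem F91782 : act 4 n58013 = n55845 := d20_0 (iv1 F88333) (iv4 D35644) (iv3 F43426) (iv1 F43430) D35683 (iv4 F91757) (iv1 F91762) (iv4 D27672) D27671 D58013
theorem F91783 : act 3 n58013 = n38949 := d20_3 D26941 D55845 (iv4 F91782) (iv1 D38949) (iv3 D18494) D18495 D38954 F88320 (iv3 D55838) (iv1 D26939)
def n58014 : Q := act 1 n27671
theorem D58014 : act 1 n27671 = n58014 := rfl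
def n58015 : Q := act 2 n27671
theorem D58015 : act 2 n27671 = n58015 := rfl
def n58016 : Q := act 4 n27671
theorem D58016 : act 4 n27671 = n58016 := rfl
theorem F91784 : act 0 n35636 = n58016 := d20_1 D35636 (iv4 D58016) (iv3 D27671) (iv1 D13210) F9771 (iv4 F9233) F41759 (iv4 D8099) D8098 D17274
def n58017 : Q := act 5 n27671
theorem D58017 : act 5 n27671 = n58017 := rfl
theorem F91785 : act 3 n58017 = n27673 := d6_1 D58017 (iv5 D27673) D27671
def n58018 : Q := act 6 n27671
theorem D58018 : act 6 n27671 = n58018 := rfl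
theorem F91786 : act 3 n58018 = n27674 := d7_1 D58018 (iv6 D27674) D27671
def n58019 : Q := act 3 n27672
theorem D58019 : act 3 n27672 = n58019 := rfl
def n58020 : Q := act 5 n27672
theorem D58020 : act 5 n27672 = n58020 := rfl
def n58021 : Q := act 6 n27672
theorem D58021 : act 6 n27672 = n58021 := rfl
theorem F91787 : act 4 n58021 = n27674 := d10_1 D58021 (iv6 D27674) D27672
def n58022 : Q := act 4 n27673
theorem D58022 : act 4 n27673 = n58022 := rfl
def n58023 : Q := act 6 n27673
theorem D58023 : act 6 n27673 = n58023 := rfl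
theorem F91788 : act 0 n58023 = n39190 := d21_4 F91713 (iv1 F44587) D27673 D58023 (iv6 D39190) F29824 (iv1 F29802) D39097 (iv6 F60102) (iv1 F91716)
theorem F91789 : act 0 n37504 = n58023 := d21_4 (iv5 D16704) (iv1 F16991) D18002 D37504 (iv6 D58023) (iv5 D27673) (iv1 D13210) D13211 F22010 F27391
def n58024 : Q := act 0 n27674
theorem D58024 : act 0 n27674 = n58024 := rfl
theorem F91790 : act 5 n58024 = n56713 := d21_0 (iv1 F89696) F58444 (iv6 F44085) (iv1 F44087) D37582 (iv5 F91763) F91765 (iv5 D27673) D27674 D58024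
theorem F91791 : act 6 n58024 = n39157 := d21_3 D27255 D56713 (iv5 F91790) (iv1 D39157) (iv6 D18580) D18579 D39151 F89687 (iv6 D56712) (iv1 D27254)
def n58025 : Q := act 1 n27674
theorem D58025 : act 1 n27674 = n58025 := rfl
def n58026 : Q := act 5 n27674
theorem D58026 : act 5 n27674 = n58026 := rfl
theorem F91792 : act 0 n37549 = n58026 := d21_1 D37549 (iv5 D58026) (iv6 D27674) (iv1 D13210) (iv6 D6280) F4227 D3944 F13465 D8501 D18017
def n58027 : Q := act 7 n27674
theorem D58027 : act 7 n27674 = n58027 := rfl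
theorem F91793 : act 6 n58027 = n56674 := d14_1 D58027 (iv7 F91751) (iv6 D57992) (iv7 F44605) D27674
theorem F91794 : act 5 n39184 = n58027 := d12_5 F91793 (iv5 D56674) (iv6 F60162) (iv5 D39183) D39184
theorem F91795 : act 0 n56711 = n39184 := d21_1 D56711 F91794 F91793 (iv1 F91775) (iv6 F91776) F89688 (iv1 F44063) (iv5 F44084) F44085 (iv1 F44100)
theorem F91796 : act 0 n58027 = n37493 := d21_4 F21761 D27242 D56674 (iv6 F91793) (iv6 D37493) D37492 F91772 F91767 (iv6 D56677) (iv1 D27243)
theorem F91797 : act 1 n58012 = n37493 := d15_0 (iv0 F91796) (iv7 D58027) (iv2 F91781)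
theorem F91798 : act 7 n58026 = n39184 := d13_0 F91794 (iv7 D58027) D58026
def n58028 : Q := act 2 n27675
theorem D58028 : act 2 n27675 = n58028 := rfl
theorem F91799 : act 7 n27676 = n58028 := d15_2 (iv0 D27675) D27676 (iv2 D58028)
def n58029 : Q := act 3 n27675
theorem D58029 : act 3 n27675 = n58029 := rfl
def n58030 : Q := act 4 n27675
theorem D58030 : act 4 n27675 = n58030 := rfl
def n58031 : Q := act 5 n27675
theorem D58031 : act 5 n27675 = n58031 := rfl
def n58032 : Q := act 7 n27675
theorem D58032 : act 7 n27675 = n58032 := rfl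
theorem F91800 : act 2 n58032 = n27676 := d4_1 D58032 F91799 (iv2 D58028)
def n58033 : Q := act 3 n27676
theorem D58033 : act 3 n27676 = n58033 := rfl
def n58034 : Q := act 4 n27676
theorem D58034 : act 4 n27676 = n58034 := rfl
def n58035 : Q := act 6 n27676
theorem D58035 : act 6 n27676 = n58035 := rfl
def n58036 : Q := act 0 n27677
theorem D58036 : act 0 n27677 = n58036 := rfl
def n58037 : Q := act 1 n27677
theorem D58037 : act 1 n27677 = n58037 := rfl
def n58038 : Q := act 3 n27677
theorem D58038 : act 3 n27677 = n58038 := rfl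
theorem F91801 : act 4 n58038 = n27699 := d5_2 D27677 D58038 (iv3 D27699) (iv4 D13224) (iv3 F22009)
theorem F91802 : act 6 n58038 = n39969 := d7_2 (iv6 F44608) D58038 (iv3 D39969)
def n58039 : Q := act 5 n27677
theorem D58039 : act 5 n27677 = n58039 := rfl
def n58040 : Q := act 7 n27677
theorem D58040 : act 7 n27677 = n58040 := rfl
theorem F91803 : act 4 n58040 = n27678 := d11_1 D58040 (iv7 D27678) D27677
def n58042 : Q := act 3 n27679
theorem D58042 : act 3 n27679 = n58042 := rfl
theorem F91805 : act 4 n58042 = n55846 := d20_6 (iv4 F9355) D12730 F30354 D13214 D27679 D58042 (iv1 D55846) (iv4 D26941) (iv3 D12890) (iv1 D6111)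
def n58043 : Q := act 4 n27679
theorem D58043 : act 4 n27679 = n58043 := rfl
theorem F91806 : act 0 n58043 = n55751 := d20_1 D58043 (iv4 D55751) (iv3 D26909) (iv1 D12876) F9483 (iv4 F9355) D12730 F30354 D13214 D27679
def n58047 : Q := act 3 n27680
theorem D58047 : act 3 n27680 = n58047 := rfl
def n58051 : Q := act 4 n27681
theorem D58051 : act 4 n27681 = n58051 := rfl
theorem F91808 : act 2 n58051 = n27682 := d1_1 D58051 (iv4 D27682) D27681
theorem F91809 : act 7 n58051 = n39037 := d11_2 (iv7 F44613) D58051 (iv4 D39037)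
theorem F91811 : act 1 n58051 = n39040 := d15_0 (iv0 D39040) (iv7 F44617) (iv2 F91808)
def n58052 : Q := act 5 n27681
theorem D58052 : act 5 n27681 = n58052 := rfl
theorem F91812 : act 2 n58052 = n27683 := d2_1 D58052 (iv5 D27683) D27681
theorem F91814 : act 7 n58052 = n39038 := d13_2 (iv7 F44613) D58052 (iv5 D39038)
def n58054 : Q := act 1 n27682
theorem D58054 : act 1 n27682 = n58054 := rfl
theorem F91818 : act 1 n58054 = n39037 := d15_1 D58054 (iv7 F91809) F91808
theorem F91819 : act 4 n35678 = n58054 := d20_6 (iv4 F11664) (iv1 F41761) (iv4 D8104) D8103 D17296 D35678 (iv1 D58054) (iv4 D27682) (iv3 D13214) (iv1 F9777)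
def n58055 : Q := act 5 n27682
theorem D58055 : act 5 n27682 = n58055 := rfl
theorem F91820 : act 7 n58055 = n39042 := d13_2 (iv7 F44617) D58055 (iv5 D39042)
def n58056 : Q := act 0 n27683
theorem D58056 : act 0 n27683 = n58056 := rfl
theorem F91821 : act 1 n39038 = n58056 := d15_0 (iv0 D58056) F44619 (iv2 F60043)
def n58057 : Q := act 1 n27683
theorem D58057 : act 1 n27683 = n58057 := rfl
theorem F91822 : act 1 n58057 = n39038 := d15_1 D58057 (iv7 F91814) F91812
def n58058 : Q := act 4 n27683
theorem D58058 : act 4 n27683 = n58058 := rfl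
theorem F91823 : act 7 n58058 = n39046 := d11_2 (iv7 F44619) D58058 (iv4 D39046)
def n58059 : Q := act 3 n27684
theorem D58059 : act 3 n27684 = n58059 := rfl
theorem F91824 : act 5 n58059 = n34773 := d6_2 F44622 D58059 F54986
theorem F91825 : act 6 n58059 = n35905 := d7_2 (iv6 F44624) D58059 (iv3 D35905)
def n58060 : Q := act 3 n27685
theorem D58060 : act 3 n27685 = n58060 := rfl
theorem F91827 : act 7 n58060 = n39052 := d8_2 (iv7 F44626) D58060 (iv3 D39052)
def n58062 : Q := act 3 n27686
theorem D58062 : act 3 n27686 = n58062 := rfl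
theorem F91829 : act 4 n58062 = n55823 := d20_6 (iv4 F11835) (iv1 F21137) F30358 D13218 D27686 D58062 (iv1 D55823) (iv4 D26933) (iv3 D12886) (iv1 F9493)
def n58063 : Q := act 4 n27686
theorem D58063 : act 4 n27686 = n58063 := rfl
def n58067 : Q := act 3 n27687
theorem D58067 : act 3 n27687 = n58067 := rfl
theorem F91831 : act 4 n55735 = n58067 := d20_2 D26905 D55735 (iv3 D58067) (iv1 D27687) (iv3 D13218) (iv4 F30358) (iv1 D12731) F9355 (iv3 F9483) D12875
theorem F91832 : act 4 n55748 = n39040 := d20_0 (iv1 F91811) (iv4 D58051) F44612 (iv1 F44631) D58067 (iv4 F91831) (iv1 F88176) (iv4 D26910) D26909 D55748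
theorem F91833 : act 3 n55748 = n35495 := d20_3 D18535 D39040 (iv4 F91832) (iv1 D35495) (iv3 D17205) D17206 D35501 F60041 (iv3 D39033) (iv1 D18533)
def n58068 : Q := act 4 n27687
theorem D58068 : act 4 n27687 = n58068 := rfl
def n58070 : Q := act 6 n27687
theorem D58070 : act 6 n27687 = n58070 := rfl
theorem F91834 : act 5 n58070 = n39251 := d21_6 F89736 (iv1 F44125) F60022 (iv6 D39012) (iv1 F44631) D58070 (iv1 D39251) F29895 (iv6 D17960) D17955
def n58071 : Q := act 4 n27688
theorem D58071 : act 4 n27688 = n58071 := rfl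
theorem F91835 : act 2 n58071 = n27689 := d1_1 D58071 (iv4 D27689) D27688
theorem F91836 : act 7 n58071 = n39010 := d11_2 (iv7 F44629) D58071 (iv4 D39010)
theorem F91838 : act 1 n58071 = n39013 := d15_0 (iv0 D39013) (iv7 F44633) (iv2 F91835)
def n58072 : Q := act 5 n27688
theorem D58072 : act 5 n27688 = n58072 := rfl
theorem F91839 : act 2 n58072 = n27690 := d2_1 D58072 (iv5 D27690) D27688
theorem F91840 : act 3 n58072 = n39038 := d6_1 D58072 (iv5 D39038) (iv3 F44628)
theorem F91841 : act 7 n58072 = n39011 := d13_2 (iv7 F44629) D58072 (iv5 D39011)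
theorem F91842 : act 1 n39018 = n58072 := d15_1 D39018 F91841 F60019
theorem F91843 : act 1 n58072 = n39017 := d15_0 (iv0 D39017) (iv7 F44635) (iv2 F91839)
def n58074 : Q := act 0 n27689
theorem D58074 : act 0 n27689 = n58074 := rfl
theorem F91846 : act 1 n39010 = n58074 := d15_0 (iv0 D58074) F44633 (iv2 F60018)
theorem F91847 : act 4 n35516 = n58074 := d20_0 (iv1 F91846) (iv4 D39010) (iv3 F44612) (iv1 F44616) D39033 (iv4 F60041) (iv1 F56191) (iv4 D17211) D17210 D35516
theorem F91848 : act 3 n35516 = n55730 := d20_3 D27689 D58074 (iv4 F91847) (iv1 D55730) (iv3 D26904) D26905 D55735 F91831 (iv3 D58067) (iv1 D27687)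
def n58076 : Q := act 5 n27689
theorem D58076 : act 5 n27689 = n58076 := rfl
theorem F91851 : act 7 n58076 = n39015 := d13_2 (iv7 F44633) D58076 (iv5 D39015)
def n58080 : Q := act 4 n27690
theorem D58080 : act 4 n27690 = n58080 := rfl
theorem F91855 : act 7 n58080 = n39019 := d11_2 (iv7 F44635) D58080 (iv4 D39019)
def n58081 : Q := act 6 n27690
theorem D58081 : act 6 n27690 = n58081 := rfl
theorem F91856 : act 3 n58081 = n27693 := d7_1 D58081 (iv6 D27693) (iv3 F44634)
theorem F91857 : act 7 n39891 = n58081 := d8_0 F91856 (iv7 F44642) D39891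
def n58084 : Q := act 5 n27691
theorem D58084 : act 5 n27691 = n58084 := rfl
theorem F91858 : act 3 n58084 = n27695 := d6_1 D58084 (iv5 D27695) (iv3 F44636)
theorem F91859 : act 7 n58084 = n39254 := d13_2 F58323 D58084 F60210
def n58085 : Q := act 3 n27692
theorem D58085 : act 3 n27692 = n58085 := rfl
theorem F91860 : act 7 n58085 = n39025 := d8_2 (iv7 F44638) D58085 (iv3 D39025)
def n58086 : Q := act 5 n27693
theorem D58086 : act 5 n27693 = n58086 := rfl
theorem F91861 : act 2 n58086 = n39053 := d2_1 D58086 (iv5 D39053) (iv2 F44639)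
theorem F91862 : act 6 n58086 = n27695 := d12_2 D27693 D58086 (iv5 D27695) (iv6 D13221) D13220
theorem F91863 : act 7 n58086 = n27745 := d13_2 F44642 D58086 F44782
theorem F91864 : act 0 n58086 = n27894 := d21_1 D58086 (iv5 F55007) (iv6 D34803) (iv1 D16862) F12402 (iv5 D3563) (iv1 F4244) D6312 D13310 F44641
theorem F91865 : act 0 n35884 = n58086 := d21_10 (iv5 D58086) F44640 (iv5 F30123) F30124 (iv1 F22022) D18553 F29791 F56537 (iv5 D35883) D35884
def n58087 : Q := act 3 n27694
theorem D58087 : act 3 n27694 = n58087 := rfl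
theorem F91866 : act 5 n58087 = n35157 := d6_2 (iv5 F44644) D58087 (iv3 D35157)
theorem F91867 : act 6 n58087 = n39220 := d7_2 (iv6 F44643) D58087 (iv3 D39220)
def n58088 : Q := act 4 n27695
theorem D58088 : act 4 n27695 = n58088 := rfl
theorem F91869 : act 2 n58088 = n39055 := d1_1 D58088 (iv4 D39055) (iv2 F44692)
theorem F91870 : act 7 n58088 = n36401 := d11_2 (iv7 F44693) D58088 F57145
theorem F91871 : act 0 n58088 = n36712 := d18_2 F44695 D58088 (iv4 D36712) (iv5 D17694) (iv4 F42953) F21229 (iv4 F12758) F12761 D16855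
theorem F91872 : act 1 n58088 = n36705 := d18_6 F30546 F41670 (iv1 F42737) F42698 D27695 D58088 (iv4 D36705) (iv0 F43799) F43796
def n58089 : Q := act 0 n27696
theorem D58089 : act 0 n27696 = n58089 := rfl
def n58090 : Q := act 1 n27696
theorem D58090 : act 1 n27696 = n58090 := rfl
def n58091 : Q := act 2 n27696
theorem D58091 : act 2 n27696 = n58091 := rfl
theorem F91874 : act 3 n58091 = n39058 := d0_2 D27696 D58091 (iv2 D39058) (iv3 D18548) (iv2 F29756)
def n58092 : Q := act 4 n27696
theorem D58092 : act 4 n27696 = n58092 := rfl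
theorem F91879 : act 7 n58092 = n39064 := d11_2 (iv7 F44696) D58092 (iv4 D39064)
def n58095 : Q := act 2 n27697
theorem D58095 : act 2 n27697 = n58095 := rfl
theorem F91881 : act 3 n58095 = n39063 := d0_2 D27697 D58095 (iv2 D39063) (iv3 D18551) (iv2 F29755)
theorem F91883 : act 7 n58095 = n39058 := d4_2 (iv7 F44698) D58095 (iv2 D39058)
def n58096 : Q := act 4 n27697
theorem D58096 : act 4 n27697 = n58096 := rfl
theorem F91887 : act 7 n58096 = n39059 := d11_2 (iv7 F44698) D58096 (iv4 D39059)
def n58097 : Q := act 6 n27697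
theorem D58097 : act 6 n27697 = n58097 := rfl
theorem F91889 : act 5 n58097 = n56831 := d12_1 D58097 (iv6 D56831) (iv5 D27287) D27288 (iv5 F44697)
def n58098 : Q := act 0 n27699
theorem D58098 : act 0 n27699 = n58098 := rfl
def n58099 : Q := act 1 n27699
theorem D58099 : act 1 n27699 = n58099 := rfl
def n58100 : Q := act 2 n27699
theorem D58100 : act 2 n27699 = n58100 := rfl
theorem F91890 : act 3 n58100 = n39073 := d0_2 D27699 D58100 (iv2 D39073) (iv3 D18556) (iv2 F22017)
theorem F91891 : act 6 n58100 = n39973 := d3_2 (iv6 F44701) D58100 (iv2 D39973)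
def n58101 : Q := act 5 n27699
theorem D58101 : act 5 n27699 = n58101 := rfl
theorem F91892 : act 3 n58101 = n27700 := d6_1 D58101 (iv5 D27700) D27699
def n58102 : Q := act 7 n27699
theorem D58102 : act 7 n27699 = n58102 := rfl
theorem F91893 : act 3 n58102 = n27701 := d8_1 D58102 (iv7 D27701) D27699
def n58103 : Q := act 4 n27700
theorem D58103 : act 4 n27700 = n58103 := rfl
theorem F91894 : act 2 n58103 = n39078 := d1_1 D58103 (iv4 D39078) (iv2 F44702)
theorem F91895 : act 5 n58103 = n32693 := d9_2 D27700 D58103 F51768 F26499 F11664 (iv5 F13623) (iv4 F29793) (iv5 F60081) (iv4 F85928) (iv5 D54420) (iv4 D26318) (iv5 D12515) F9233 D6283 D13224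
theorem F91896 : act 3 n38941 = n58103 := d6_3 F91895 F51767 (iv5 F59970)
theorem F91897 : act 7 n32692 = n58103 := d13_0 F91895 (iv7 D32693) D32692
def n58104 : Q := act 6 n27700
theorem D58104 : act 6 n27700 = n58104 := rfl
theorem F91898 : act 2 n58104 = n39079 := d3_1 D58104 (iv6 D39079) (iv2 F44702)
theorem F91899 : act 5 n58104 = n27912 := d12_1 D58104 (iv6 D27912) F22112 (iv6 F22018) D27700
def n58105 : Q := act 7 n27700
theorem D58105 : act 7 n27700 = n58105 := rfl
theorem F91900 : act 2 n58105 = n39080 := d4_1 D58105 (iv7 D39080) (iv2 F44702)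
theorem F91901 : act 4 n58105 = n32692 := d11_1 D58105 F91897 (iv4 D58103)
theorem F91902 : act 5 n58105 = n27701 := d13_1 D58105 (iv7 D27701) D27700
theorem F91903 : act 1 n39077 = n58105 := d15_1 D39077 (iv7 D58105) F44702
theorem F91904 : act 1 n58105 = n39076 := d15_1 F91903 (iv7 F60076) F60079
def n58106 : Q := act 6 n27702
theorem D58106 : act 6 n27702 = n58106 := rfl
theorem F91905 : act 3 n58106 = n27703 := d7_1 D58106 (iv6 D27703) D27702
theorem F91906 : act 4 n58106 = n39085 := d10_1 D58106 (iv6 D39085) (iv4 F44707)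
def n58107 : Q := act 1 n27703
theorem D58107 : act 1 n27703 = n58107 := rfl
theorem F91907 : act 1 n58107 = n27712 := d15_1 D58107 (iv7 D27712) (iv2 F44710)
def n58108 : Q := act 5 n27703
theorem D58108 : act 5 n27703 = n58108 := rfl
theorem F91908 : act 2 n58108 = n27711 := d2_1 D58108 (iv5 D27711) (iv2 F44710)
theorem F91909 : act 6 n58108 = n47813 := d12_2 D27703 D58108 (iv5 D47813) (iv6 D23011) (iv5 F22025)
def n58109 : Q := act 7 n27703
theorem D58109 : act 7 n27703 = n58109 := rfl
theorem F91910 : act 2 n58109 = n27712 := d4_1 D58109 (iv7 D27712) (iv2 F44710)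
theorem F91911 : act 4 n58109 = n27707 := d11_1 D58109 (iv7 D27707) (iv4 F44711)
theorem F91913 : act 1 n27710 = n58109 := d15_1 D27710 (iv7 D58109) F44710
theorem F91914 : act 1 n58109 = n27709 := d15_0 (iv0 D27709) D27712 (iv2 F91910)
def n58110 : Q := act 2 n27704
theorem D58110 : act 2 n27704 = n58110 := rfl
theorem F91915 : act 7 n27705 = n58110 := d15_2 (iv0 D27704) D27705 (iv2 D58110)
def n58111 : Q := act 3 n27704
theorem D58111 : act 3 n27704 = n58111 := rfl
def n58112 : Q := act 4 n27704
theorem D58112 : act 4 n27704 = n58112 := rfl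
def n58113 : Q := act 5 n27704
theorem D58113 : act 5 n27704 = n58113 := rfl
def n58114 : Q := act 7 n27704
theorem D58114 : act 7 n27704 = n58114 := rfl
theorem F91916 : act 2 n58114 = n27705 := d4_1 D58114 F91915 (iv2 D58110)
def n58115 : Q := act 4 n27705
theorem D58115 : act 4 n27705 = n58115 := rfl
def n58116 : Q := act 6 n27705
theorem D58116 : act 6 n27705 = n58116 := rfl
def n58117 : Q := act 0 n27706
theorem D58117 : act 0 n27706 = n58117 := rfl
def n58118 : Q := act 4 n27706
theorem D58118 : act 4 n27706 = n58118 := rfl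
theorem F91917 : act 2 n58118 = n27725 := d1_1 D58118 (iv4 D27725) (iv2 F44713)
theorem F91918 : act 6 n58118 = n37215 := d10_2 (iv6 F44715) D58118 (iv4 D37215)
def n58119 : Q := act 7 n27706
theorem D58119 : act 7 n27706 = n58119 := rfl
theorem F91919 : act 2 n58119 = n27726 := d4_1 D58119 (iv7 D27726) (iv2 F44713)
theorem F91920 : act 3 n58119 = n39102 := d8_1 D58119 (iv7 D39102) (iv3 F44714)
theorem F91921 : act 5 n58119 = n27707 := d13_1 D58119 (iv7 D27707) D27706
theorem F91922 : act 1 n27726 = n58117 := d15_0 (iv0 D58117) D58119 F91919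
theorem F91923 : act 1 n27724 = n58119 := d15_1 D27724 (iv7 D58119) F44713
theorem F91924 : act 1 n58119 = n27723 := d15_0 (iv0 D27723) D27726 (iv2 F91919)
def n58120 : Q := act 0 n27708
theorem D58120 : act 0 n27708 = n58120 := rfl
def n58121 : Q := act 1 n27708
theorem D58121 : act 1 n27708 = n58121 := rfl
theorem F91925 : act 1 n58121 = n47814 := d15_1 D58121 (iv7 D47814) (iv2 F44722)
def n58122 : Q := act 5 n27708
theorem D58122 : act 5 n27708 = n58122 := rfl
theorem F91926 : act 2 n58122 = n47813 := d2_1 D58122 (iv5 D47813) (iv2 F44722)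
theorem F91927 : act 3 n58122 = n32545 := d6_1 D58122 (iv5 D32545) (iv3 F44723)
theorem F91928 : act 6 n58122 = n27711 := d12_2 D27708 D58122 (iv5 D27711) (iv6 D13229) D13228
def n58123 : Q := act 7 n27708
theorem D58123 : act 7 n27708 = n58123 := rfl
theorem F91929 : act 2 n58123 = n47814 := d4_1 D58123 (iv7 D47814) (iv2 F44722)
theorem F91930 : act 3 n58123 = n32546 := d8_1 D58123 (iv7 D32546) (iv3 F44723)
theorem F91931 : act 4 n58123 = n47771 := d11_1 D58123 (iv7 D47771) (iv4 F44724)
theorem F91932 : act 6 n58123 = n38927 := d14_1 D58123 (iv7 D38927) (iv6 D18488) (iv7 F22033) D27708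
theorem F91933 : act 1 n47814 = n58120 := d15_0 (iv0 D58120) D58123 F91929
theorem F91935 : act 1 n58123 = n47811 := d15_0 (iv0 D47811) D47814 (iv2 F91929)
def n58124 : Q := act 2 n27709
theorem D58124 : act 2 n27709 = n58124 := rfl
theorem F91936 : act 7 n27710 = n58124 := d15_2 (iv0 D27709) D27710 (iv2 D58124)
def n58125 : Q := act 3 n27709
theorem D58125 : act 3 n27709 = n58125 := rfl
def n58126 : Q := act 4 n27709
theorem D58126 : act 4 n27709 = n58126 := rfl
def n58127 : Q := act 5 n27709
theorem D58127 : act 5 n27709 = n58127 := rfl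
def n58128 : Q := act 6 n27709
theorem D58128 : act 6 n27709 = n58128 := rfl
def n58129 : Q := act 7 n27709
theorem D58129 : act 7 n27709 = n58129 := rfl
theorem F91937 : act 2 n58129 = n27710 := d4_1 D58129 F91936 (iv2 D58124)
def n58130 : Q := act 3 n27710
theorem D58130 : act 3 n27710 = n58130 := rfl
def n58131 : Q := act 5 n27710
theorem D58131 : act 5 n27710 = n58131 := rfl
def n58132 : Q := act 6 n27710
theorem D58132 : act 6 n27710 = n58132 := rfl
def n58133 : Q := act 0 n27711
theorem D58133 : act 0 n27711 = n58133 := rfl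
def n58134 : Q := act 1 n27711
theorem D58134 : act 1 n27711 = n58134 := rfl
def n58135 : Q := act 4 n27711
theorem D58135 : act 4 n27711 = n58135 := rfl
def n58136 : Q := act 7 n27711
theorem D58136 : act 7 n27711 = n58136 := rfl
theorem F91938 : act 5 n58136 = n27712 := d13_1 D58136 (iv7 D27712) D27711
def n58138 : Q := act 1 n27713
theorem D58138 : act 1 n27713 = n58138 := rfl
theorem F91940 : act 1 n58138 = n27718 := d15_1 D58138 (iv7 D27718) D27713
def n58139 : Q := act 3 n27713
theorem D58139 : act 3 n27713 = n58139 := rfl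
theorem F91941 : act 7 n58139 = n27719 := d8_2 F44727 D58139 (iv3 D27719)
def n58140 : Q := act 4 n27713
theorem D58140 : act 4 n27713 = n58140 := rfl
theorem F91942 : act 2 n58140 = n27715 := d1_1 D58140 (iv4 D27715) D27713
theorem F91943 : act 7 n58140 = n27720 := d11_2 F44727 D58140 (iv4 D27720)
def n58141 : Q := act 5 n27713
theorem D58141 : act 5 n27713 = n58141 := rfl
theorem F91944 : act 2 n58141 = n27716 := d2_1 D58141 (iv5 D27716) D27713
theorem F91945 : act 7 n58141 = n27721 := d13_2 F44727 D58141 (iv5 D27721)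
def n58142 : Q := act 6 n27713
theorem D58142 : act 6 n27713 = n58142 := rfl
theorem F91946 : act 2 n58142 = n27717 := d3_1 D58142 (iv6 D27717) D27713
def n58143 : Q := act 0 n27714
theorem D58143 : act 0 n27714 = n58143 := rfl
def n58144 : Q := act 1 n27714
theorem D58144 : act 1 n27714 = n58144 := rfl
theorem F91947 : act 3 n39160 = n58144 := d20_9 (iv4 F88666) F88667 F43710 F21559 (iv1 F9587) D8248 D17555 D36355 (iv4 F88918) (iv1 D58144)
def n58145 : Q := act 2 n27714
theorem D58145 : act 2 n27714 = n58145 := rfl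
def n58146 : Q := act 5 n27714
theorem D58146 : act 5 n27714 = n58146 := rfl
theorem F91948 : act 3 n58146 = n27716 := d6_1 D58146 (iv5 D27716) D27714
def n58147 : Q := act 6 n27714
theorem D58147 : act 6 n27714 = n58147 := rfl
theorem F91949 : act 3 n58147 = n27717 := d7_1 D58147 (iv6 D27717) D27714
def n58148 : Q := act 7 n27714
theorem D58148 : act 7 n27714 = n58148 := rfl
theorem F91950 : act 3 n58148 = n27718 := d8_1 D58148 (iv7 D27718) D27714
def n58149 : Q := act 0 n27715
theorem D58149 : act 0 n27715 = n58149 := rfl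
theorem F91951 : act 4 n58149 = n36348 := d20_2 D27715 D58149 (iv3 D36348) (iv1 D17553) (iv3 D8248) D8249 F30466 F9204 (iv3 F9786) D13230
def n58150 : Q := act 1 n27715
theorem D58150 : act 1 n27715 = n58150 := rfl
theorem F91952 : act 1 n58150 = n27720 := d15_1 D58150 (iv7 F91943) F91942
def n58151 : Q := act 3 n27715
theorem D58151 : act 3 n27715 = n58151 := rfl
def n58152 : Q := act 5 n27715
theorem D58152 : act 5 n27715 = n58152 := rfl
def n58153 : Q := act 6 n27715
theorem D58153 : act 6 n27715 = n58153 := rfl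
theorem F91953 : act 4 n58153 = n27717 := d10_1 D58153 (iv6 D27717) D27715
def n58154 : Q := act 7 n27715
theorem D58154 : act 7 n27715 = n58154 := rfl
theorem F91954 : act 2 n58154 = n27720 := d4_1 D58154 (iv7 F91943) F91942
theorem F91955 : act 4 n58154 = n27718 := d11_1 D58154 (iv7 D27718) D27715
theorem F91956 : act 1 n27720 = n58149 := d15_0 (iv0 D58149) D58154 F91954
def n58155 : Q := act 0 n27716
theorem D58155 : act 0 n27716 = n58155 := rfl
theorem F91957 : act 5 n58155 = n37314 := d21_2 D27716 D58155 (iv6 D37314) (iv1 D17923) (iv6 D8458) (iv5 F6932) (iv1 D3950) (iv5 F4230) D6287 D13230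
def n58156 : Q := act 1 n27716
theorem D58156 : act 1 n27716 = n58156 := rfl
theorem F91958 : act 1 n58156 = n27721 := d15_1 D58156 (iv7 F91945) F91944
def n58157 : Q := act 4 n27716
theorem D58157 : act 4 n27716 = n58157 := rfl
def n58158 : Q := act 6 n27716
theorem D58158 : act 6 n27716 = n58158 := rfl
def n58159 : Q := act 7 n27716
theorem D58159 : act 7 n27716 = n58159 := rfl
theorem F91959 : act 2 n58159 = n27721 := d4_1 D58159 (iv7 F91945) F91944
theorem F91960 : act 5 n58159 = n27718 := d13_1 D58159 (iv7 D27718) D27716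
theorem F91961 : act 1 n27721 = n58155 := d15_0 (iv0 D58155) D58159 F91959
theorem F91962 : act 0 n27722 = n37239 := d21_10 (iv5 D37239) (iv1 F33904) F33900 (iv6 F33942) (iv1 F33944) D37314 (iv5 F91957) (iv1 F91961) (iv5 D27721) D27722
def n58160 : Q := act 0 n27717
theorem D58160 : act 0 n27717 = n58160 := rfl
def n58161 : Q := act 1 n27717
theorem D58161 : act 1 n27717 = n58161 := rfl
theorem F91963 : act 6 n38980 = n58161 := d21_3 D17924 D37315 (iv5 F71244) (iv1 D58161) (iv6 D27717) D27716 D58155 F91957 (iv6 D37314) (iv1 D17923)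
def n58162 : Q := act 7 n27717
theorem D58162 : act 7 n27717 = n58162 := rfl
def n58163 : Q := act 6 n27718
theorem D58163 : act 6 n27718 = n58163 := rfl
theorem F91964 : act 2 n58163 = n27722 := d3_1 D58163 (iv6 D27722) (iv2 F44728)
def n58164 : Q := act 0 n27719
theorem D58164 : act 0 n27719 = n58164 := rfl
theorem F91965 : act 4 n58164 = n56224 := d20_0 (iv1 F88931) (iv4 D36305) (iv3 F43738) (iv1 F43742) D36348 (iv4 F91951) (iv1 F91956) (iv4 D27720) D27719 D58164
theorem F91966 : act 3 n58164 = n39140 := d20_3 D27093 D56224 (iv4 F91965) (iv1 D39140) (iv3 D18577) D18578 D39145 F88917 (iv3 D56217) (iv1 D27091)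
def n58165 : Q := act 1 n27719
theorem D58165 : act 1 n27719 = n58165 := rfl
def n58166 : Q := act 2 n27719
theorem D58166 : act 2 n27719 = n58166 := rfl
def n58167 : Q := act 4 n27719
theorem D58167 : act 4 n27719 = n58167 := rfl
theorem F91967 : act 0 n36297 = n58167 := d20_1 D36297 (iv4 D58167) (iv3 D27719) (iv1 D13231) F9786 (iv4 F9204) F30465 (iv4 D8244) D8243 D17530
def n58168 : Q := act 5 n27719
theorem D58168 : act 5 n27719 = n58168 := rfl
theorem F91968 : act 3 n58168 = n27721 := d6_1 D58168 (iv5 D27721) D27719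
def n58169 : Q := act 6 n27719
theorem D58169 : act 6 n27719 = n58169 := rfl
theorem F91969 : act 3 n58169 = n27722 := d7_1 D58169 (iv6 D27722) D27719
def n58170 : Q := act 3 n27720
theorem D58170 : act 3 n27720 = n58170 := rfl
def n58171 : Q := act 5 n27720
theorem D58171 : act 5 n27720 = n58171 := rfl
def n58172 : Q := act 6 n27720
theorem D58172 : act 6 n27720 = n58172 := rfl
theorem F91970 : act 4 n58172 = n27722 := d10_1 D58172 (iv6 D27722) D27720
def n58173 : Q := act 4 n27721
theorem D58173 : act 4 n27721 = n58173 := rfl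
def n58175 : Q := act 5 n27722
theorem D58175 : act 5 n27722 = n58175 := rfl
theorem F91971 : act 0 n37282 = n58175 := d21_1 D37282 (iv5 D58175) (iv6 D27722) (iv1 D13231) (iv6 D6287) F4230 D3949 F6929 D8455 D17914
def n58177 : Q := act 2 n27723
theorem D58177 : act 2 n27723 = n58177 := rfl
theorem F91972 : act 7 n27724 = n58177 := d15_2 (iv0 D27723) D27724 (iv2 D58177)
def n58178 : Q := act 3 n27723
theorem D58178 : act 3 n27723 = n58178 := rfl
def n58179 : Q := act 4 n27723
theorem D58179 : act 4 n27723 = n58179 := rfl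
def n58180 : Q := act 5 n27723
theorem D58180 : act 5 n27723 = n58180 := rfl
def n58181 : Q := act 6 n27723
theorem D58181 : act 6 n27723 = n58181 := rfl
def n58182 : Q := act 7 n27723
theorem D58182 : act 7 n27723 = n58182 := rfl
theorem F91973 : act 2 n58182 = n27724 := d4_1 D58182 F91972 (iv2 D58177)
def n58183 : Q := act 3 n27724
theorem D58183 : act 3 n27724 = n58183 := rfl
def n58184 : Q := act 4 n27724
theorem D58184 : act 4 n27724 = n58184 := rfl
def n58185 : Q := act 6 n27724
theorem D58185 : act 6 n27724 = n58185 := rfl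
theorem F91974 : act 5 n58185 = n38983 := d12_1 D58185 F60004 (iv5 D37256) D37257 F58205
theorem F91975 : act 7 n38982 = n58185 := d13_0 F91974 (iv7 D38983) D38982
theorem F91976 : act 0 n37313 = n58185 := d21_1 D37313 F91974 F60004 (iv1 F59995) (iv6 F59996) (iv5 D37239) (iv1 F33904) F33900 (iv6 F33942) (iv1 F33944)
def n58186 : Q := act 0 n27725
theorem D58186 : act 0 n27725 = n58186 := rfl
def n58187 : Q := act 1 n27725
theorem D58187 : act 1 n27725 = n58187 := rfl
def n58188 : Q := act 3 n27725
theorem D58188 : act 3 n27725 = n58188 := rfl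
theorem F91977 : act 4 n58188 = n27748 := d5_2 D27725 D58188 (iv3 D27748) (iv4 D13246) (iv3 F22035)
theorem F91978 : act 6 n58188 = n39871 := d7_2 (iv6 F44729) D58188 (iv3 D39871)
def n58189 : Q := act 5 n27725
theorem D58189 : act 5 n27725 = n58189 := rfl
def n58190 : Q := act 7 n27725
theorem D58190 : act 7 n27725 = n58190 := rfl
theorem F91979 : act 4 n58190 = n27726 := d11_1 D58190 (iv7 D27726) D27725
def n58192 : Q := act 3 n27727
theorem D58192 : act 3 n27727 = n58192 := rfl
theorem F91981 : act 4 n58192 = n56225 := d20_6 (iv4 F9351) D12721 F42637 D13235 D27727 D58192 (iv1 D56225) (iv4 D27093) (iv3 D12977) (iv1 D6162)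
def n58193 : Q := act 4 n27727
theorem D58193 : act 4 n27727 = n58193 := rfl
theorem F91982 : act 0 n58193 = n56123 := d20_1 D58193 (iv4 D56123) (iv3 D27056) (iv1 D12962) F9576 (iv4 F9351) D12721 F42637 D13235 D27727
def n58197 : Q := act 3 n27728
theorem D58197 : act 3 n27728 = n58197 := rfl
def n58201 : Q := act 4 n27729
theorem D58201 : act 4 n27729 = n58201 := rfl
theorem F91984 : act 2 n58201 = n27730 := d1_1 D58201 (iv4 D27730) D27729
theorem F91985 : act 7 n58201 = n39231 := d11_2 (iv7 F44734) D58201 (iv4 D39231)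
theorem F91986 : act 0 n58201 = n39235 := d20_1 D58201 (iv4 F88861) (iv3 D56181) (iv1 F43737) (iv3 F43773) D56221 (iv1 F88921) (iv4 F60194) (iv3 D39222) (iv1 F44735)
theorem F91987 : act 1 n58201 = n39234 := d15_0 (iv0 D39234) (iv7 F44738) (iv2 F91984)
def n58202 : Q := act 5 n27729
theorem D58202 : act 5 n27729 = n58202 := rfl
theorem F91988 : act 2 n58202 = n27731 := d2_1 D58202 (iv5 D27731) D27729
theorem F91989 : act 3 n58202 = n39202 := d6_1 D58202 (iv5 D39202) (iv3 F44733)
theorem F91990 : act 7 n58202 = n39232 := d13_2 (iv7 F44734) D58202 (iv5 D39232)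
theorem F91991 : act 1 n39239 = n58202 := d15_1 D39239 F91990 F60198
theorem F91992 : act 1 n58202 = n39238 := d15_0 (iv0 D39238) (iv7 F44740) (iv2 F91988)
def n58203 : Q := act 6 n27729
theorem D58203 : act 6 n27729 = n58203 := rfl
theorem F91993 : act 2 n58203 = n27732 := d3_1 D58203 (iv6 D27732) D27729
theorem F91994 : act 3 n58203 = n39203 := d7_1 D58203 (iv6 D39203) (iv3 F44733)
def n58205 : Q := act 1 n27730
theorem D58205 : act 1 n27730 = n58205 := rfl
theorem F91997 : act 1 n58205 = n39231 := d15_1 D58205 (iv7 F91985) F91984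
theorem F91998 : act 4 n36343 = n58205 := d20_6 (iv4 F11579) (iv1 F30467) (iv4 D8249) D8248 D17552 D36343 (iv1 D58205) (iv4 D27730) (iv3 D13235) (iv1 F9792)
def n58206 : Q := act 5 n27730
theorem D58206 : act 5 n27730 = n58206 := rfl
theorem F91999 : act 7 n58206 = n39236 := d13_2 (iv7 F44738) D58206 (iv5 D39236)
def n58210 : Q := act 4 n27731
theorem D58210 : act 4 n27731 = n58210 := rfl
theorem F92003 : act 7 n58210 = n39240 := d11_2 (iv7 F44740) D58210 (iv4 D39240)
def n58211 : Q := act 6 n27731
theorem D58211 : act 6 n27731 = n58211 := rfl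
theorem F92004 : act 3 n58211 = n27736 := d7_1 D58211 (iv6 D27736) (iv3 F44739)
theorem F92005 : act 5 n58211 = n37761 := d12_1 D58211 (iv6 D37761) F44742 (iv6 D27732) D27731
def n58214 : Q := act 3 n27733
theorem D58214 : act 3 n27733 = n58214 := rfl
theorem F92007 : act 5 n58214 = n34796 := d6_2 (iv5 F44743) D58214 F55000
theorem F92008 : act 7 n58214 = n39216 := d8_2 F44746 D58214 (iv3 D39216)
def n58215 : Q := act 3 n27734
theorem D58215 : act 3 n27734 = n58215 := rfl
theorem F92009 : act 5 n58215 = n34734 := d6_2 F44749 D58215 F54965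
theorem F92010 : act 6 n58215 = n27905 := d7_2 (iv6 F44751) D58215 (iv3 D27905)
theorem F92011 : act 7 n58215 = n39214 := d8_2 (iv7 F44748) D58215 (iv3 D39214)
def n58216 : Q := act 3 n27735
theorem D58216 : act 3 n27735 = n58216 := rfl
theorem F92012 : act 7 n58216 = n39243 := d8_2 (iv7 F44753) D58216 (iv3 D39243)
def n58217 : Q := act 6 n27735
theorem D58217 : act 6 n27735 = n58217 := rfl
theorem F92013 : act 2 n58217 = n39219 := d3_1 D58217 (iv6 D39219) (iv2 F44752)
theorem F92014 : act 4 n58217 = n27736 := d10_1 D58217 (iv6 D27736) D27735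
def n58218 : Q := act 3 n27737
theorem D58218 : act 3 n27737 = n58218 := rfl
theorem F92016 : act 5 n58218 = n56834 := d6_2 (iv5 F44761) D58218 (iv3 D56834)
theorem F92017 : act 6 n58218 = n39054 := d7_2 F44759 D58218 (iv3 D39054)
theorem F92018 : act 7 n58218 = n27900 := d8_2 (iv7 F44758) D58218 F45050
def n58220 : Q := act 3 n27738
theorem D58220 : act 3 n27738 = n58220 := rfl
theorem F92020 : act 4 n58220 = n56194 := d20_6 (iv4 F11830) (iv1 F21118) F42641 D13240 D27738 D58220 (iv1 D56194) (iv4 D27080) (iv3 D12972) (iv1 F9586)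
def n58225 : Q := act 3 n27739
theorem D58225 : act 3 n27739 = n58225 := rfl
theorem F92022 : act 4 n56104 = n58225 := d20_2 D27052 D56104 (iv3 D58225) (iv1 D27739) (iv3 D13240) (iv4 F42641) (iv1 D12722) F9351 (iv3 F9576) D12961
theorem F92023 : act 4 n56120 = n39234 := d20_0 (iv1 F91987) (iv4 D58201) F44733 (iv1 F44771) D58225 (iv4 F92022) (iv1 F88773) (iv4 D27057) D27056 D56120
theorem F92024 : act 3 n56120 = n36186 := d20_3 D18610 D39234 (iv4 F92023) (iv1 D36186) (iv3 D17489) D17490 D36192 F60196 (iv3 D39227) (iv1 D18608)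
def n58229 : Q := act 4 n27740
theorem D58229 : act 4 n27740 = n58229 := rfl
theorem F92025 : act 2 n58229 = n27741 := d1_1 D58229 (iv4 D27741) D27740
theorem F92026 : act 7 n58229 = n39201 := d11_2 (iv7 F44769) D58229 (iv4 D39201)
theorem F92027 : act 0 n58229 = n39205 := d20_1 D58229 (iv4 F88915) (iv3 D56212) (iv1 F43772) (iv3 F43738) D56190 (iv1 F88866) (iv4 F60169) (iv3 D39192) (iv1 F44770)
def n58230 : Q := act 5 n27740
theorem D58230 : act 5 n27740 = n58230 := rfl
theorem F92029 : act 2 n58230 = n27742 := d2_1 D58230 (iv5 D27742) D27740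
theorem F92030 : act 3 n58230 = n39232 := d6_1 D58230 (iv5 D39232) (iv3 F44768)
theorem F92031 : act 7 n58230 = n39202 := d13_2 (iv7 F44769) D58230 (iv5 D39202)
theorem F92033 : act 6 n58091 = n58230 := d7_0 F92030 (iv6 F60199) (iv3 F91874)
def n58231 : Q := act 0 n27741
theorem D58231 : act 0 n27741 = n58231 := rfl
theorem F92035 : act 1 n39201 = n58231 := d15_0 (iv0 D58231) F44773 (iv2 F60172)
theorem F92036 : act 4 n36208 = n58231 := d20_0 (iv1 F92035) (iv4 D39201) (iv3 F44733) (iv1 F44737) D39227 (iv4 F60196) (iv1 F56917) (iv4 D17495) D17494 D36208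
theorem F92037 : act 3 n36208 = n56099 := d20_3 D27741 D58231 (iv4 F92036) (iv1 D56099) (iv3 D27051) D27052 D56104 F92022 (iv3 D58225) (iv1 D27739)
def n58232 : Q := act 1 n27741
theorem D58232 : act 1 n27741 = n58232 := rfl
theorem F92038 : act 1 n58232 = n39201 := d15_1 D58232 (iv7 F92026) F92025
theorem F92039 : act 4 n36296 = n58232 := d20_6 (iv4 F9204) F30465 (iv4 D8244) D8243 D17530 D36296 (iv1 D58232) (iv4 D27741) (iv3 D13240) (iv1 D6289)
def n58233 : Q := act 5 n27741
theorem D58233 : act 5 n27741 = n58233 := rfl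
theorem F92040 : act 7 n58233 = n39206 := d13_2 (iv7 F44773) D58233 (iv5 D39206)
def n58234 : Q := act 0 n27742
theorem D58234 : act 0 n27742 = n58234 := rfl
theorem F92041 : act 1 n39202 = n58234 := d15_0 (iv0 D58234) F44775 (iv2 F60173)
def n58235 : Q := act 1 n27742
theorem D58235 : act 1 n27742 = n58235 := rfl
theorem F92042 : act 1 n58235 = n39202 := d15_1 D58235 (iv7 F92031) F92029
def n58236 : Q := act 4 n27742
theorem D58236 : act 4 n27742 = n58236 := rfl
theorem F92043 : act 6 n58236 = n58092 := d10_2 F44776 D58236 (iv4 D58092)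
theorem F92044 : act 7 n58236 = n39210 := d11_2 (iv7 F44775) D58236 (iv4 D39210)
def n58237 : Q := act 3 n27743
theorem D58237 : act 3 n27743 = n58237 := rfl
theorem F92045 : act 6 n58237 = n55869 := d7_2 (iv6 F44778) D58237 (iv3 D55869)
theorem F92046 : act 7 n58237 = n39218 := d8_2 (iv7 F44779) D58237 (iv3 D39218)
def n58238 : Q := act 0 n27744
theorem D58238 : act 0 n27744 = n58238 := rfl
theorem F92047 : act 1 n39252 = n58238 := d15_0 (iv0 D58238) F44780 D39252
theorem F92048 : act 5 n39004 = n58238 := d21_6 F89802 (iv1 D27279) F29699 (iv6 D18518) D18513 D39004 (iv1 F92047) F60208 (iv6 D37415) (iv1 F44126)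
def n58240 : Q := act 2 n27744
theorem D58240 : act 2 n27744 = n58240 := rfl
theorem F92049 : act 3 n58240 = n39246 := d0_2 D27744 D58240 (iv2 D39246) (iv3 D18618) (iv2 F29889)
theorem F92050 : act 7 n58240 = n39252 := d4_2 (iv7 F44780) D58240 (iv2 D39252)
def n58241 : Q := act 4 n27744
theorem D58241 : act 4 n27744 = n58241 := rfl
theorem F92054 : act 7 n58241 = n39253 := d11_2 (iv7 F44780) D58241 (iv4 D39253)
def n58242 : Q := act 6 n27744
theorem D58242 : act 6 n27744 = n58242 := rfl
theorem F92055 : act 3 n58242 = n27745 := d7_1 D58242 (iv6 D27745) D27744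
def n58243 : Q := act 0 n27746
theorem D58243 : act 0 n27746 = n58243 := rfl
def n58244 : Q := act 1 n27746
theorem D58244 : act 1 n27746 = n58244 := rfl
theorem F92058 : act 5 n39036 = n58244 := d21_6 F89772 (iv1 F44114) D37438 (iv6 F58341) (iv1 F44616) D39036 (iv1 D58244) F44784 (iv6 D27277) D27273
def n58245 : Q := act 2 n27746
theorem D58245 : act 2 n27746 = n58245 := rfl
theorem F92059 : act 3 n58245 = n39252 := d0_2 D27746 D58245 (iv2 D39252) (iv3 D18622) (iv2 F29888)
theorem F92061 : act 7 n58245 = n39246 := d4_2 (iv7 F44785) D58245 (iv2 D39246)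
theorem F92063 : act 1 n58244 = n39246 := d15_1 D58244 (iv7 F92061) (iv2 D58245)
def n58246 : Q := act 4 n27746
theorem D58246 : act 4 n27746 = n58246 := rfl
theorem F92066 : act 7 n58246 = n39247 := d11_2 (iv7 F44785) D58246 (iv4 D39247)
def n58247 : Q := act 6 n27746
theorem D58247 : act 6 n27746 = n58247 := rfl
theorem F92067 : act 3 n58247 = n27747 := d7_1 D58247 (iv6 D27747) D27746
theorem F92068 : act 5 n58247 = n39051 := d12_1 D58247 F60049 F30067 D27277 (iv5 F44784)
theorem F92069 : act 7 n39050 = n58247 := d13_0 F92068 (iv7 D39051) D39050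
def n58248 : Q := act 0 n27748
theorem D58248 : act 0 n27748 = n58248 := rfl
def n58249 : Q := act 1 n27748
theorem D58249 : act 1 n27748 = n58249 := rfl
def n58250 : Q := act 2 n27748
theorem D58250 : act 2 n27748 = n58250 := rfl
theorem F92070 : act 3 n58250 = n39263 := d0_2 D27748 D58250 (iv2 D39263) (iv3 D18627) (iv2 F22045)
theorem F92071 : act 6 n58250 = n39875 := d3_2 (iv6 F44791) D58250 (iv2 D39875)
def n58251 : Q := act 5 n27748
theorem D58251 : act 5 n27748 = n58251 := rfl
theorem F92072 : act 3 n58251 = n27749 := d6_1 D58251 (iv5 D27749) D27748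
def n58252 : Q := act 7 n27748
theorem D58252 : act 7 n27748 = n58252 := rfl
theorem F92073 : act 3 n58252 = n27750 := d8_1 D58252 (iv7 D27750) D27748
def n58253 : Q := act 4 n27749
theorem D58253 : act 4 n27749 = n58253 := rfl
theorem F92074 : act 2 n58253 = n39268 := d1_1 D58253 (iv4 D39268) (iv2 F44792)
theorem F92075 : act 5 n58253 = n32546 := d9_2 D27749 D58253 F51615 F24967 F11579 (iv5 F13641) (iv4 F29900) (iv5 F60234) (iv4 F85778) (iv5 D54356) (iv4 D26272) (iv5 D12481) F9204 D6290 D13246
theorem F92076 : act 7 n32545 = n58253 := d13_0 F92075 (iv7 D32546) D32545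
def n58254 : Q := act 7 n27749
theorem D58254 : act 7 n27749 = n58254 := rfl
theorem F92077 : act 2 n58254 = n39270 := d4_1 D58254 (iv7 D39270) (iv2 F44792)
theorem F92078 : act 4 n58254 = n32545 := d11_1 D58254 F92076 (iv4 D58253)
theorem F92079 : act 5 n58254 = n27750 := d13_1 D58254 (iv7 D27750) D27749
theorem F92080 : act 1 n39267 = n58254 := d15_1 D39267 (iv7 D58254) F44792
theorem F92081 : act 1 n58254 = n39266 := d15_1 F92080 (iv7 F60229) F60232
def n58255 : Q := act 6 n27750
theorem D58255 : act 6 n27750 = n58255 := rfl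
theorem F92082 : act 2 n58255 = n39271 := d3_1 D58255 (iv6 D39271) (iv2 F44793)
theorem F92083 : act 4 n58255 = n27751 := d10_1 D58255 (iv6 D27751) (iv4 F44794)
theorem F92084 : act 7 n58255 = n27912 := d14_2 D27750 D58255 (iv6 D27912) F22111 (iv6 F22046)
theorem F92085 : act 0 n39889 = n58255 := d21_4 (iv5 F91902) (iv1 F91903) F60078 (iv6 F60695) (iv6 D58255) (iv5 F92079) (iv1 F92080) F60231 F43784 (iv1 F44706)
theorem E8734 : n39904 = n35851 := (c18_7 F43456 F60697 F92085 F92083 F44798 (iv4 F60084) F60720 (iv4 D35851) (iv0 D17362) (iv5 F21586))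
theorem F92086 : act 0 n35851 = n39081 := (sb E8734 (iv1 F60720))
theorem F92087 : act 1 n35851 = n18876 := (sb E8734 (iv0 D39904))
theorem F92088 : act 1 n39890 = n58255 := d15_0 (iv0 F92085) (iv7 F60698) F60702
theorem F92089 : act 0 n39811 = n36387 := d18_2 F60052 (iv4 F60638) F57139 F43825 F60703 F92088 F92083 (iv0 F44800) D39053
def n58256 : Q := act 0 n27753
theorem D58256 : act 0 n27753 = n58256 := rfl
def n58257 : Q := act 1 n27753
theorem D58257 : act 1 n27753 = n58257 := rfl
def n58258 : Q := act 7 n27753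
theorem D58258 : act 7 n27753 = n58258 := rfl
theorem F92091 : act 2 n58258 = n33651 := d4_1 D58258 (iv7 D33651) (iv2 F51015)
theorem F92092 : act 3 n58258 = n27762 := d8_1 D58258 (iv7 D27762) (iv3 F44807)
theorem F92093 : act 5 n58258 = n27762 := d13_1 D58258 (iv7 D27762) (iv5 F51016)
theorem F92094 : act 6 n58258 = n33592 := d14_1 D58258 (iv7 D33592) (iv6 D16238) (iv7 F27178) D27753
theorem F92095 : act 1 n33651 = n58256 := d15_0 (iv0 D58256) D58258 F92091
theorem F92096 : act 1 n33649 = n58258 := d15_1 D33649 (iv7 D58258) F51015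
theorem F92097 : act 1 n58258 = n33648 := d15_0 (iv0 D33648) D33651 (iv2 F92091)
def n58259 : Q := act 3 n27754
theorem D58259 : act 3 n27754 = n58259 := rfl
theorem F92098 : act 4 n58259 = n35983 := d5_2 (iv4 F44808) D58259 (iv3 D35983) F28392 D26260
theorem F92099 : act 7 n58259 = n33593 := d8_2 F44810 D58259 (iv3 D33593)
def n58260 : Q := act 5 n27754
theorem D58260 : act 5 n27754 = n58260 := rfl
theorem F92100 : act 2 n58260 = n33449 := d2_1 D58260 F52739 (iv2 F44811)
theorem F92101 : act 7 n58260 = n33448 := d13_2 F44810 D58260 F52736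
theorem F92102 : act 0 n58260 = n33367 := d17_2 D27754 D58260 (iv5 D33367) (iv4 D16111) (iv5 D7524) (iv0 F11796) D3444 F9795 D13250
theorem F92103 : act 1 n58260 = n33451 := d17_6 (iv1 F46094) (iv5 D13623) (iv1 F25427) (iv5 F41701) (iv4 F44808) D58260 F52742 F52601 F52599
def n58261 : Q := act 6 n27754
theorem D58261 : act 6 n27754 = n58261 := rfl
theorem F92104 : act 2 n58261 = n33595 := d3_1 D58261 (iv6 D33595) (iv2 F44811)
theorem F92105 : act 4 n58261 = n54325 := d10_1 D58261 (iv6 D54325) (iv4 F44808)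
def n58262 : Q := act 5 n27755
theorem D58262 : act 5 n27755 = n58262 := rfl
theorem F92106 : act 2 n58262 = n33448 := d2_1 D58262 F52736 F44814
theorem F92107 : act 7 n58262 = n33449 := d13_2 (iv7 F44813) D58262 F52739
theorem F92108 : act 0 n58262 = n33451 := d17_2 (iv1 F44812) D58262 F52742 F25697 F11779 F11799 (iv5 F4233) D6293 D13255
theorem F92109 : act 1 n58262 = n33367 := d17_6 F26705 (iv5 D13604) D13601 D28521 F46088 D58262 (iv5 D33367) (iv0 F51751) (iv4 D32666)
def n58263 : Q := act 6 n27755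
theorem D58263 : act 6 n27755 = n58263 := rfl
theorem F92110 : act 2 n58263 = n33594 := d3_1 D58263 (iv6 D33594) F44814
def n58264 : Q := act 1 n27756
theorem D58264 : act 1 n27756 = n58264 := rfl
theorem F92111 : act 7 n58264 = n33597 := d15_2 (iv0 F90544) D58264 (iv2 F90546)
theorem F92112 : act 4 n58264 = n57611 := d18_7 (iv1 D52831) (iv4 D25644) D25642 D52824 (iv5 F83472) F46199 D58264 (iv0 D57611) (iv5 F83480)
theorem F92113 : act 5 n52675 = n58264 := d9_0 F92112 F90753 (iv4 D34862) (iv5 D16900) (iv4 F18053) D23757 D48714 (iv5 F90542) (iv4 F90756) (iv5 F90758) (iv4 D52979) F40634 F37423 D25569 D52675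
theorem F92114 : act 2 n33596 = n58264 := d16_9 F92112 F90753 (iv4 D34862) (iv5 D16900) (iv4 F18053) D23757 D48714 (iv5 F90542) F90543
theorem E8735 : n57699 = n57607 := ((c18_10 (iv1 D57699) (iv4 F76678) (iv1 F76666) D52675 F92113 F92112 (iv0 D57611) (iv4 D27529) D27527 D57607)).symm
theorem F92115 : act 0 n57607 = n27556 := (sb E8735 (iv1 D57699))
theorem F92116 : act 4 n57607 = n43424 := (sb E8735 F90878)
theorem F92117 : act 6 n57607 = n43877 := (sb E8735 (iv6 F90879))
theorem F92118 : act 1 n58264 = n33598 := d15_0 F90545 F90543 F92114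
def n58265 : Q := act 2 n27756
theorem D58265 : act 2 n27756 = n58265 := rfl
theorem F92119 : act 3 n58265 = n33630 := d0_2 D27756 D58265 (iv2 D33630) (iv3 D16261) (iv2 F27179)
theorem F92120 : act 7 n58265 = n33598 := d4_2 (iv7 F44815) D58265 (iv2 D33598)
theorem F92121 : act 1 n58265 = n33596 := d15_0 (iv0 D33596) (iv7 F44815) D58265
theorem F92122 : act 1 n33597 = n58265 := d15_0 F92121 (iv7 F90543) F90546
def n58266 : Q := act 6 n27756
theorem D58266 : act 6 n27756 = n58266 := rfl
theorem F92123 : act 3 n58266 = n27758 := d7_1 D58266 (iv6 D27758) D27756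
def n58267 : Q := act 6 n27757
theorem D58267 : act 6 n27757 = n58267 := rfl
theorem F92124 : act 2 n58267 = n33633 := d3_1 D58267 (iv6 D33633) (iv2 F44816)
def n58268 : Q := act 0 n27758
theorem D58268 : act 0 n27758 = n58268 := rfl
def n58269 : Q := act 1 n27758
theorem D58269 : act 1 n27758 = n58269 := rfl
theorem F92125 : act 1 n58269 = n33637 := d15_1 D58269 (iv7 D33637) (iv2 F44818)
def n58270 : Q := act 5 n27758
theorem D58270 : act 5 n27758 = n58270 := rfl
theorem F92126 : act 2 n58270 = n33636 := d2_1 D58270 (iv5 D33636) (iv2 F44818)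
def n58271 : Q := act 7 n27758
theorem D58271 : act 7 n27758 = n58271 := rfl
theorem F92127 : act 2 n58271 = n33637 := d4_1 D58271 (iv7 D33637) (iv2 F44818)
theorem F92128 : act 4 n58271 = n27762 := d11_1 D58271 (iv7 D27762) (iv4 F44819)
theorem F92129 : act 6 n58271 = n33607 := d14_1 D58271 (iv7 D33607) (iv6 D16244) (iv7 F27180) D27758
theorem F92130 : act 1 n33637 = n58268 := d15_0 (iv0 D58268) D58271 F92127
theorem F92131 : act 1 n33635 = n58271 := d15_1 D33635 (iv7 D58271) F44818
theorem F92132 : act 1 n58271 = n33634 := d15_0 (iv0 D33634) D33637 (iv2 F92127)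
def n58272 : Q := act 2 n27759
theorem D58272 : act 2 n27759 = n58272 := rfl
def n58273 : Q := act 3 n27759
theorem D58273 : act 3 n27759 = n58273 := rfl
def n58274 : Q := act 4 n27759
theorem D58274 : act 4 n27759 = n58274 := rfl
def n58275 : Q := act 5 n27759
theorem D58275 : act 5 n27759 = n58275 := rfl
def n58276 : Q := act 6 n27759
theorem D58276 : act 6 n27759 = n58276 := rfl
theorem F92134 : act 5 n58276 = n33547 := d21_6 F9420 (iv1 F27162) (iv5 F27176) D13252 D27759 D58276 (iv1 D33547) (iv5 D16205) (iv6 D7557) F25724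
def n58277 : Q := act 7 n27759
theorem D58277 : act 7 n27759 = n58277 := rfl
def n58278 : Q := act 3 n27760
theorem D58278 : act 3 n27760 = n58278 := rfl
def n58279 : Q := act 4 n27760
theorem D58279 : act 4 n27760 = n58279 := rfl
def n58280 : Q := act 5 n27760
theorem D58280 : act 5 n27760 = n58280 := rfl
theorem F92136 : act 6 n33417 = n58280 := d21_5 (iv5 D16131) (iv1 D7533) D7535 D16138 D33417 (iv5 D58280) (iv1 D27760) (iv5 F51016) (iv6 D27753) (iv1 F25665)
def n58281 : Q := act 6 n27760
theorem D58281 : act 6 n27760 = n58281 := rfl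
def n58282 : Q := act 6 n27763
theorem D58282 : act 6 n27763 = n58282 := rfl
theorem F92137 : act 2 n58282 = n27765 := d3_1 D58282 (iv6 D27765) D27763
theorem F92138 : act 3 n58282 = n33585 := d7_1 D58282 (iv6 D33585) (iv3 F44827)
theorem F92139 : act 4 n58282 = n47067 := d10_1 D58282 (iv6 D47067) F44832
def n58283 : Q := act 3 n27764
theorem D58283 : act 3 n27764 = n58283 := rfl
theorem F92140 : act 4 n58283 = n27766 := d5_2 D27764 D58283 (iv3 D27766) (iv4 D13255) D13254
theorem F92141 : act 5 n58283 = n46484 := d6_2 (iv5 F44835) D58283 (iv3 D46484)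
theorem F92142 : act 7 n58283 = n33624 := d8_2 (iv7 F44834) D58283 (iv3 D33624)
theorem F92143 : act 0 n58283 = n46552 := d20_4 F27273 (iv1 F26847) D27764 D58283 (iv3 D46552) D46553 (iv1 F73554) (iv4 F85860) (iv3 D54385) F41912
def n58284 : Q := act 6 n27764
theorem D58284 : act 6 n27764 = n58284 := rfl
theorem F92144 : act 2 n58284 = n47067 := d3_1 D58284 (iv6 D47067) (iv2 F44833)
theorem F92145 : act 4 n58284 = n27765 := d10_1 D58284 (iv6 D27765) D27764
def n58285 : Q := act 0 n27765
theorem D58285 : act 0 n27765 = n58285 := rfl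
def n58286 : Q := act 1 n27765
theorem D58286 : act 1 n27765 = n58286 := rfl
def n58287 : Q := act 5 n27765
theorem D58287 : act 5 n27765 = n58287 := rfl
theorem F92146 : act 3 n58287 = n27771 := d6_1 D58287 (iv5 D27771) (iv3 F44846)
def n58288 : Q := act 7 n27765
theorem D58288 : act 7 n27765 = n58288 := rfl
theorem F92147 : act 3 n58288 = n27772 := d8_1 D58288 (iv7 D27772) (iv3 F44846)
theorem F92148 : act 6 n58288 = n33628 := d14_1 D58288 (iv7 D33628) (iv6 D16260) (iv7 F27156) D27765
def n58289 : Q := act 5 n27766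
theorem D58289 : act 5 n27766 = n58289 := rfl
theorem F92149 : act 3 n58289 = n27767 := d6_1 D58289 (iv5 D27767) D27766
theorem F92150 : act 7 n58289 = n33631 := d13_2 (iv7 F44847) D58289 (iv5 D33631)
theorem F92151 : act 4 n58289 = n35082 := d16_4 (iv4 F73428) (iv5 F92141) F92140 D58289 F55732 (iv4 F72751) F72750 F68067 F68072
theorem F92152 : act 0 n58289 = n46865 := d17_2 F89998 D58289 (iv5 D46865) (iv4 D22512) (iv5 D10689) D10687 (iv5 F44595) F44593 (iv4 F89995)
theorem F92153 : act 1 n58289 = n56972 := d17_8 F55591 (iv5 D26171) D26169 (iv5 F55581) D35043 F55661 (iv0 F59413) D58289 F90053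
def n58290 : Q := act 6 n27766
theorem D58290 : act 6 n27766 = n58290 := rfl
theorem F92154 : act 3 n58290 = n27768 := d7_1 D58290 (iv6 D27768) D27766
def n58291 : Q := act 4 n27767
theorem D58291 : act 4 n27767 = n58291 := rfl
theorem F92155 : act 2 n58291 = n28636 := d1_1 D58291 F46200 (iv2 F44848)
theorem F92156 : act 5 n58291 = n28606 := d9_2 D27767 D58291 (iv4 F50741) (iv5 D16655) (iv4 F50735) (iv5 F27176) D13250 D27757 (iv4 F52881) (iv5 D33587) (iv4 D16236) (iv5 F25817) F27159 (iv5 F27160) D13255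
theorem F92157 : act 7 n58291 = n28633 := d11_2 (iv7 F44849) D58291 F46198
theorem F92158 : act 0 n58291 = n55447 := d17_0 F87739 F46103 (iv5 F46206) (iv4 F46207) (iv5 D16158) D16156 D33440 F52729 D58291
theorem F92159 : act 1 n58291 = n32387 := d18_6 (iv1 F21942) (iv4 D7564) (iv1 F9800) D13255 D27767 D58291 (iv4 F52712) F52714 (iv5 D27539)
def n58292 : Q := act 6 n27767
theorem D58292 : act 6 n27767 = n58292 := rfl
theorem F92160 : act 2 n58292 = n33603 := d3_1 D58292 (iv6 D33603) (iv2 F44848)
def n58293 : Q := act 0 n27768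
theorem D58293 : act 0 n27768 = n58293 := rfl
def n58294 : Q := act 1 n27768
theorem D58294 : act 1 n27768 = n58294 := rfl
theorem F92161 : act 1 n58294 = n33607 := d15_1 D58294 (iv7 D33607) (iv2 F44850)
def n58295 : Q := act 5 n27768
theorem D58295 : act 5 n27768 = n58295 := rfl
theorem F92162 : act 2 n58295 = n33606 := d2_1 D58295 (iv5 D33606) (iv2 F44850)
def n58296 : Q := act 7 n27768
theorem D58296 : act 7 n27768 = n58296 := rfl
theorem F92163 : act 2 n58296 = n33607 := d4_1 D58296 (iv7 D33607) (iv2 F44850)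
theorem F92164 : act 4 n58296 = n27772 := d11_1 D58296 (iv7 D27772) (iv4 F44851)
theorem F92165 : act 6 n58296 = n33637 := d14_1 D58296 (iv7 D33637) (iv6 D16263) (iv7 F27172) D27768
theorem F92166 : act 1 n33607 = n58293 := d15_0 (iv0 D58293) D58296 F92163
theorem F92167 : act 1 n33605 = n58296 := d15_1 D33605 (iv7 D58296) F44850
theorem F92168 : act 1 n58296 = n33604 := d15_0 (iv0 D33604) D33607 (iv2 F92163)
def n58297 : Q := act 2 n27769
theorem D58297 : act 2 n27769 = n58297 := rfl
theorem F92169 : act 7 n27770 = n58297 := d15_2 (iv0 D27769) D27770 (iv2 D58297)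
def n58301 : Q := act 6 n27769
theorem D58301 : act 6 n27769 = n58301 := rfl
theorem F92170 : act 5 n58301 = n33468 := d21_6 (iv5 F25728) F27158 (iv5 F27160) D13257 D27769 D58301 (iv1 D33468) (iv5 D16163) (iv6 D7541) D7538
def n58303 : Q := act 3 n27770
theorem D58303 : act 3 n27770 = n58303 := rfl
def n58304 : Q := act 4 n27770
theorem D58304 : act 4 n27770 = n58304 := rfl
def n58305 : Q := act 5 n27770
theorem D58305 : act 5 n27770 = n58305 := rfl
def n58306 : Q := act 6 n27770
theorem D58306 : act 6 n27770 = n58306 := rfl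
def n58307 : Q := act 0 n27771
theorem D58307 : act 0 n27771 = n58307 := rfl
def n58308 : Q := act 1 n27771
theorem D58308 : act 1 n27771 = n58308 := rfl
theorem F92172 : act 1 n58308 = n33621 := d15_1 D58308 (iv7 D33621) (iv2 F44853)
def n58309 : Q := act 7 n27771
theorem D58309 : act 7 n27771 = n58309 := rfl
theorem F92173 : act 2 n58309 = n33621 := d4_1 D58309 (iv7 D33621) (iv2 F44853)
theorem F92174 : act 5 n58309 = n27772 := d13_1 D58309 (iv7 D27772) D27771
theorem F92175 : act 1 n33621 = n58307 := d15_0 (iv0 D58307) D58309 F92173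
theorem F92176 : act 1 n33619 = n58309 := d15_1 D33619 (iv7 D58309) F44853
theorem F92177 : act 1 n58309 = n33618 := d15_0 (iv0 D33618) D33621 (iv2 F92173)
def n58310 : Q := act 2 n27773
theorem D58310 : act 2 n27773 = n58310 := rfl
theorem F92178 : act 7 n27774 = n58310 := d15_2 (iv0 D27773) D27774 (iv2 D58310)
def n58311 : Q := act 3 n27773
theorem D58311 : act 3 n27773 = n58311 := rfl
def n58312 : Q := act 4 n27773
theorem D58312 : act 4 n27773 = n58312 := rfl
def n58313 : Q := act 5 n27773
theorem D58313 : act 5 n27773 = n58313 := rfl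
def n58314 : Q := act 6 n27773
theorem D58314 : act 6 n27773 = n58314 := rfl
theorem F92179 : act 5 n58314 = n55530 := d21_6 (iv5 D3435) D3431 (iv5 F9797) D13258 D27773 D58314 (iv1 D55530) (iv5 D26803) (iv6 D12821) (iv1 F25723)
def n58315 : Q := act 7 n27773
theorem D58315 : act 7 n27773 = n58315 := rfl
theorem F92180 : act 2 n58315 = n27774 := d4_1 D58315 F92178 (iv2 D58310)
def n58316 : Q := act 3 n27774
theorem D58316 : act 3 n27774 = n58316 := rfl
def n58317 : Q := act 4 n27774
theorem D58317 : act 4 n27774 = n58317 := rfl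
def n58318 : Q := act 5 n27774
theorem D58318 : act 5 n27774 = n58318 := rfl
def n58319 : Q := act 6 n27774
theorem D58319 : act 6 n27774 = n58319 := rfl
def n58320 : Q := act 0 n27775
theorem D58320 : act 0 n27775 = n58320 := rfl
def n58321 : Q := act 1 n27775
theorem D58321 : act 1 n27775 = n58321 := rfl
theorem F92181 : act 1 n58321 = n27790 := d15_1 D58321 (iv7 D27790) (iv2 F44860)
theorem F92182 : act 5 n34377 = n58321 := d21_6 (iv5 F25814) (iv1 D3513) D3515 D7752 D16661 D34377 (iv1 D58321) (iv5 D27775) (iv6 D13258) (iv1 F9801)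
def n58322 : Q := act 4 n27775
theorem D58322 : act 4 n27775 = n58322 := rfl
theorem F92183 : act 2 n58322 = n27789 := d1_1 D58322 (iv4 D27789) (iv2 F44860)
theorem F92184 : act 6 n58322 = n33359 := d10_2 (iv6 F44862) D58322 (iv4 D33359)
def n58323 : Q := act 7 n27775
theorem D58323 : act 7 n27775 = n58323 := rfl
theorem F92185 : act 2 n58323 = n27790 := d4_1 D58323 (iv7 D27790) (iv2 F44860)
theorem F92186 : act 3 n58323 = n39327 := d8_1 D58323 (iv7 D39327) (iv3 F44861)
theorem F92187 : act 5 n58323 = n27776 := d13_1 D58323 (iv7 D27776) D27775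
theorem F92188 : act 1 n27790 = n58320 := d15_0 (iv0 D58320) D58323 F92185
theorem F92189 : act 1 n27788 = n58323 := d15_1 D27788 (iv7 D58323) F44860
theorem F92190 : act 1 n58323 = n27787 := d15_0 (iv0 D27787) D27790 (iv2 F92185)
def n58325 : Q := act 1 n27777
theorem D58325 : act 1 n27777 = n58325 := rfl
theorem F92192 : act 1 n58325 = n27782 := d15_1 D58325 (iv7 D27782) D27777
def n58326 : Q := act 3 n27777
theorem D58326 : act 3 n27777 = n58326 := rfl
theorem F92193 : act 7 n58326 = n27783 := d8_2 F44869 D58326 (iv3 D27783)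
def n58327 : Q := act 4 n27777
theorem D58327 : act 4 n27777 = n58327 := rfl
theorem F92194 : act 2 n58327 = n27779 := d1_1 D58327 (iv4 D27779) D27777
theorem F92195 : act 7 n58327 = n27784 := d11_2 F44869 D58327 (iv4 D27784)
def n58328 : Q := act 5 n27777
theorem D58328 : act 5 n27777 = n58328 := rfl
theorem F92196 : act 2 n58328 = n27780 := d2_1 D58328 (iv5 D27780) D27777
theorem F92197 : act 7 n58328 = n27785 := d13_2 F44869 D58328 (iv5 D27785)
def n58329 : Q := act 6 n27777
theorem D58329 : act 6 n27777 = n58329 := rfl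
theorem F92198 : act 2 n58329 = n27781 := d3_1 D58329 (iv6 D27781) D27777
def n58330 : Q := act 0 n27778
theorem D58330 : act 0 n27778 = n58330 := rfl
def n58331 : Q := act 1 n27778
theorem D58331 : act 1 n27778 = n58331 := rfl
def n58332 : Q := act 2 n27778
theorem D58332 : act 2 n27778 = n58332 := rfl
def n58333 : Q := act 4 n27778
theorem D58333 : act 4 n27778 = n58333 := rfl
def n58334 : Q := act 5 n27778
theorem D58334 : act 5 n27778 = n58334 := rfl
theorem F92199 : act 3 n58334 = n27780 := d6_1 D58334 (iv5 D27780) D27778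
def n58335 : Q := act 6 n27778
theorem D58335 : act 6 n27778 = n58335 := rfl
theorem F92200 : act 3 n58335 = n27781 := d7_1 D58335 (iv6 D27781) D27778
def n58336 : Q := act 7 n27778
theorem D58336 : act 7 n27778 = n58336 := rfl
theorem F92201 : act 3 n58336 = n27782 := d8_1 D58336 (iv7 D27782) D27778
def n58337 : Q := act 0 n27779
theorem D58337 : act 0 n27779 = n58337 := rfl
def n58338 : Q := act 1 n27779
theorem D58338 : act 1 n27779 = n58338 := rfl
theorem F92202 : act 1 n58338 = n27784 := d15_1 D58338 (iv7 F92195) F92194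
def n58339 : Q := act 3 n27779
theorem D58339 : act 3 n27779 = n58339 := rfl
def n58340 : Q := act 5 n27779
theorem D58340 : act 5 n27779 = n58340 := rfl
def n58341 : Q := act 6 n27779
theorem D58341 : act 6 n27779 = n58341 := rfl
theorem F92203 : act 4 n58341 = n27781 := d10_1 D58341 (iv6 D27781) D27779
def n58342 : Q := act 7 n27779
theorem D58342 : act 7 n27779 = n58342 := rfl
theorem F92204 : act 2 n58342 = n27784 := d4_1 D58342 (iv7 F92195) F92194
theorem F92205 : act 4 n58342 = n27782 := d11_1 D58342 (iv7 D27782) D27779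
theorem F92206 : act 1 n27784 = n58337 := d15_0 (iv0 D58337) D58342 F92204
def n58343 : Q := act 0 n27780
theorem D58343 : act 0 n27780 = n58343 := rfl
def n58344 : Q := act 1 n27780
theorem D58344 : act 1 n27780 = n58344 := rfl
theorem F92207 : act 1 n58344 = n27785 := d15_1 D58344 (iv7 F92197) F92196
def n58345 : Q := act 4 n27780
theorem D58345 : act 4 n27780 = n58345 := rfl
def n58346 : Q := act 6 n27780
theorem D58346 : act 6 n27780 = n58346 := rfl
def n58347 : Q := act 7 n27780
theorem D58347 : act 7 n27780 = n58347 := rfl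
theorem F92208 : act 2 n58347 = n27785 := d4_1 D58347 (iv7 F92197) F92196
theorem F92209 : act 5 n58347 = n27782 := d13_1 D58347 (iv7 D27782) D27780
theorem F92210 : act 1 n27785 = n58343 := d15_0 (iv0 D58343) D58347 F92208
def n58348 : Q := act 0 n27781
theorem D58348 : act 0 n27781 = n58348 := rfl
def n58349 : Q := act 1 n27781
theorem D58349 : act 1 n27781 = n58349 := rfl
def n58350 : Q := act 5 n27781
theorem D58350 : act 5 n27781 = n58350 := rfl
theorem F92211 : act 0 n58350 = n55517 := d21_7 (iv5 D7524) (iv1 F11795) (iv5 F4233) D6295 D13259 D27781 D58350 (iv5 D55517) (iv6 D26800) (iv1 F25748)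
theorem F92212 : act 0 n55532 = n58350 := d21_1 (iv5 F87813) (iv5 D58350) (iv6 D27781) (iv1 F44868) F44865 (iv5 F51105) (iv1 F51107) D32205 (iv6 F87797) F87798
def n58351 : Q := act 7 n27781
theorem D58351 : act 7 n27781 = n58351 := rfl
def n58352 : Q := act 6 n27782
theorem D58352 : act 6 n27782 = n58352 := rfl
theorem F92213 : act 2 n58352 = n27786 := d3_1 D58352 (iv6 D27786) (iv2 F44870)
def n58353 : Q := act 0 n27783
theorem D58353 : act 0 n27783 = n58353 := rfl
def n58354 : Q := act 1 n27783
theorem D58354 : act 1 n27783 = n58354 := rfl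
def n58355 : Q := act 2 n27783
theorem D58355 : act 2 n27783 = n58355 := rfl
def n58356 : Q := act 4 n27783
theorem D58356 : act 4 n27783 = n58356 := rfl
def n58357 : Q := act 5 n27783
theorem D58357 : act 5 n27783 = n58357 := rfl
theorem F92214 : act 3 n58357 = n27785 := d6_1 D58357 (iv5 D27785) D27783
def n58358 : Q := act 6 n27783
theorem D58358 : act 6 n27783 = n58358 := rfl
theorem F92215 : act 3 n58358 = n27786 := d7_1 D58358 (iv6 D27786) D27783
def n58359 : Q := act 3 n27784
theorem D58359 : act 3 n27784 = n58359 := rfl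
def n58360 : Q := act 5 n27784
theorem D58360 : act 5 n27784 = n58360 := rfl
def n58361 : Q := act 6 n27784
theorem D58361 : act 6 n27784 = n58361 := rfl
theorem F92216 : act 4 n58361 = n27786 := d10_1 D58361 (iv6 D27786) D27784
def n58362 : Q := act 4 n27785
theorem D58362 : act 4 n27785 = n58362 := rfl
def n58363 : Q := act 6 n27785
theorem D58363 : act 6 n27785 = n58363 := rfl
def n58364 : Q := act 0 n27786
theorem D58364 : act 0 n27786 = n58364 := rfl
def n58365 : Q := act 1 n27786
theorem D58365 : act 1 n27786 = n58365 := rfl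
def n58366 : Q := act 5 n27786
theorem D58366 : act 5 n27786 = n58366 := rfl
def n58367 : Q := act 7 n27786
theorem D58367 : act 7 n27786 = n58367 := rfl
def n58368 : Q := act 2 n27787
theorem D58368 : act 2 n27787 = n58368 := rfl
theorem F92217 : act 7 n27788 = n58368 := d15_2 (iv0 D27787) D27788 (iv2 D58368)
def n58369 : Q := act 3 n27787
theorem D58369 : act 3 n27787 = n58369 := rfl
def n58370 : Q := act 4 n27787
theorem D58370 : act 4 n27787 = n58370 := rfl
def n58371 : Q := act 5 n27787
theorem D58371 : act 5 n27787 = n58371 := rfl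
def n58372 : Q := act 6 n27787
theorem D58372 : act 6 n27787 = n58372 := rfl
def n58373 : Q := act 7 n27787
theorem D58373 : act 7 n27787 = n58373 := rfl
theorem F92218 : act 2 n58373 = n27788 := d4_1 D58373 F92217 (iv2 D58368)
def n58374 : Q := act 3 n27788
theorem D58374 : act 3 n27788 = n58374 := rfl
def n58375 : Q := act 4 n27788
theorem D58375 : act 4 n27788 = n58375 := rfl
def n58376 : Q := act 5 n27788
theorem D58376 : act 5 n27788 = n58376 := rfl
theorem F92219 : act 6 n58376 = n33433 := d21_3 (iv5 F92187) (iv1 F92189) D58376 (iv1 F52721) (iv6 F43086) (iv5 F87813) F92212 (iv5 D58350) (iv6 D27781) (iv1 F44868)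
def n58377 : Q := act 6 n27788
theorem D58377 : act 6 n27788 = n58377 := rfl
def n58378 : Q := act 0 n27789
theorem D58378 : act 0 n27789 = n58378 := rfl
def n58379 : Q := act 1 n27789
theorem D58379 : act 1 n27789 = n58379 := rfl
def n58380 : Q := act 3 n27789
theorem D58380 : act 3 n27789 = n58380 := rfl
theorem F92220 : act 4 n58380 = n27823 := d5_2 D27789 D58380 (iv3 D27823) (iv4 D13275) (iv3 F22056)
theorem F92221 : act 6 n58380 = n33758 := d7_2 (iv6 F44871) D58380 (iv3 D33758)
def n58381 : Q := act 5 n27789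
theorem D58381 : act 5 n27789 = n58381 := rfl
def n58382 : Q := act 7 n27789
theorem D58382 : act 7 n27789 = n58382 := rfl
theorem F92222 : act 4 n58382 = n27790 := d11_1 D58382 (iv7 D27790) D27789
def n58383 : Q := act 6 n27790
theorem D58383 : act 6 n27790 = n58383 := rfl
theorem F92223 : act 3 n58383 = n27826 := d7_1 D58383 (iv6 D27826) (iv3 F44872)
theorem F92224 : act 5 n58383 = n32207 := d12_1 D58383 (iv6 D32207) F24813 (iv6 F22059) (iv5 F44873)
theorem F92225 : act 7 n58383 = n32210 := d14_2 D27790 D58383 F51148 F24818 (iv6 F22057)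
def n58384 : Q := act 2 n27791
theorem D58384 : act 2 n27791 = n58384 := rfl
def n58385 : Q := act 3 n27791
theorem D58385 : act 3 n27791 = n58385 := rfl
theorem F92227 : act 4 n58385 = n39711 := d20_6 F10564 D8850 F29956 D13264 D27791 D58385 (iv1 D39711) F30036 (iv3 D8809) F30047
def n58386 : Q := act 4 n27791
theorem D58386 : act 4 n27791 = n58386 := rfl
def n58387 : Q := act 5 n27791
theorem D58387 : act 5 n27791 = n58387 := rfl
def n58388 : Q := act 6 n27791
theorem D58388 : act 6 n27791 = n58388 := rfl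
def n58389 : Q := act 7 n27791
theorem D58389 : act 7 n27791 = n58389 := rfl
def n58390 : Q := act 3 n27792
theorem D58390 : act 3 n27792 = n58390 := rfl
def n58391 : Q := act 4 n27792
theorem D58391 : act 4 n27792 = n58391 := rfl
def n58392 : Q := act 5 n27792
theorem D58392 : act 5 n27792 = n58392 := rfl
def n58393 : Q := act 6 n27792
theorem D58393 : act 6 n27792 = n58393 := rfl
def n58394 : Q := act 4 n27793
theorem D58394 : act 4 n27793 = n58394 := rfl
theorem F92229 : act 2 n58394 = n27794 := d1_1 D58394 (iv4 D27794) D27793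
theorem F92230 : act 7 n58394 = n39439 := d11_2 (iv7 F44876) D58394 (iv4 D39439)
theorem F92232 : act 1 n58394 = n39442 := d15_0 (iv0 D39442) (iv7 F44880) (iv2 F92229)
def n58395 : Q := act 5 n27793
theorem D58395 : act 5 n27793 = n58395 := rfl
theorem F92233 : act 2 n58395 = n27795 := d2_1 D58395 (iv5 D27795) D27793
theorem F92234 : act 3 n58395 = n39399 := d6_1 D58395 (iv5 D39399) (iv3 F44875)
theorem F92235 : act 7 n58395 = n39440 := d13_2 (iv7 F44876) D58395 (iv5 D39440)
theorem F92236 : act 1 n39447 = n58395 := d15_1 D39447 F92235 F60367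
theorem F92237 : act 1 n58395 = n39446 := d15_0 (iv0 D39446) (iv7 F44882) (iv2 F92233)
def n58396 : Q := act 6 n27793
theorem D58396 : act 6 n27793 = n58396 := rfl
theorem F92238 : act 2 n58396 = n27796 := d3_1 D58396 (iv6 D27796) D27793
theorem F92239 : act 3 n58396 = n39400 := d7_1 D58396 (iv6 D39400) (iv3 F44875)
def n58397 : Q := act 0 n27794
theorem D58397 : act 0 n27794 = n58397 := rfl
theorem F92240 : act 1 n39439 = n58397 := d15_0 (iv0 D58397) F44880 (iv2 F60366)
def n58398 : Q := act 1 n27794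
theorem D58398 : act 1 n27794 = n58398 := rfl
theorem F92241 : act 1 n58398 = n39439 := d15_1 D58398 (iv7 F92230) F92229
def n58399 : Q := act 5 n27794
theorem D58399 : act 5 n27794 = n58399 := rfl
theorem F92242 : act 7 n58399 = n39444 := d13_2 (iv7 F44880) D58399 (iv5 D39444)
def n58400 : Q := act 6 n27794
theorem D58400 : act 6 n27794 = n58400 := rfl
theorem F92243 : act 3 n58400 = n40279 := d7_1 D58400 F61296 F60800
theorem F92244 : act 4 n58400 = n27796 := d10_1 D58400 (iv6 D27796) D27794
def n58401 : Q := act 0 n27795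
theorem D58401 : act 0 n27795 = n58401 := rfl
theorem F92245 : act 1 n39440 = n58401 := d15_0 (iv0 D58401) F44882 (iv2 F60367)
def n58402 : Q := act 1 n27795
theorem D58402 : act 1 n27795 = n58402 := rfl
theorem F92246 : act 1 n58402 = n39440 := d15_1 D58402 (iv7 F92235) F92233
def n58403 : Q := act 4 n27795
theorem D58403 : act 4 n27795 = n58403 := rfl
theorem F92247 : act 7 n58403 = n39448 := d11_2 (iv7 F44882) D58403 (iv4 D39448)
def n58404 : Q := act 6 n27795
theorem D58404 : act 6 n27795 = n58404 := rfl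
theorem F92248 : act 3 n58404 = n27800 := d7_1 D58404 (iv6 D27800) (iv3 F44881)
def n58405 : Q := act 0 n27796
theorem D58405 : act 0 n27796 = n58405 := rfl
def n58406 : Q := act 1 n27796
theorem D58406 : act 1 n27796 = n58406 := rfl
def n58407 : Q := act 7 n27796
theorem D58407 : act 7 n27796 = n58407 := rfl
theorem F92249 : act 3 n58407 = n27801 := d8_1 D58407 (iv7 D27801) (iv3 F44883)
theorem F92250 : act 5 n58407 = n55547 := d13_1 D58407 F87843 F54946
theorem F92251 : act 6 n58407 = n39453 := d14_1 D58407 (iv7 D39453) (iv6 D18694) (iv7 F30414) D27796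
def n58408 : Q := act 3 n27797
theorem D58408 : act 3 n27797 = n58408 := rfl
theorem F92252 : act 5 n58408 = n54614 := d6_2 (iv5 F44884) D58408 F86316
theorem F92253 : act 7 n58408 = n39416 := d8_2 F44888 D58408 (iv3 D39416)
theorem F92254 : act 0 n39317 = n58408 := d21_1 D39317 F92252 (iv6 D54614) F85920 (iv6 D12662) (iv5 D6004) D6000 F9330 D8756 D18649
def n58409 : Q := act 4 n27797
theorem D58409 : act 4 n27797 = n58409 := rfl
theorem F92255 : act 2 n58409 = n39414 := d1_1 D58409 (iv4 D39414) F44887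
theorem F92256 : act 7 n58409 = n39417 := d11_2 F44888 D58409 (iv4 D39417)
theorem F92257 : act 0 n58409 = n27882 := d17_0 (iv5 F87850) (iv1 F87853) (iv5 D27824) (iv4 D13275) (iv5 D6298) D6297 D13271 F44885 D58409
theorem F92258 : act 1 n58409 = n27854 := d18_6 (iv1 F51981) (iv4 D16846) (iv1 F29711) F42201 (iv5 F44884) D58409 (iv4 D27854) D27853 (iv5 F51979)
def n58410 : Q := act 6 n27797
theorem D58410 : act 6 n27797 = n58410 := rfl
theorem F92259 : act 2 n58410 = n39415 := d3_1 D58410 (iv6 D39415) F44887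
theorem F92260 : act 5 n58410 = n54616 := d12_1 D58410 (iv6 D54616) (iv5 D26412) D26413 (iv5 F44884)
def n58411 : Q := act 3 n27798
theorem D58411 : act 3 n27798 = n58411 := rfl
theorem F92261 : act 7 n58411 = n39413 := d8_2 (iv7 F44890) D58411 (iv3 D39413)
def n58412 : Q := act 4 n27798
theorem D58412 : act 4 n27798 = n58412 := rfl
theorem F92262 : act 2 n58412 = n39417 := d1_1 D58412 (iv4 D39417) F44891
theorem F92263 : act 7 n58412 = n39414 := d11_2 (iv7 F44890) D58412 (iv4 D39414)
theorem F92264 : act 0 n58412 = n27854 := d17_0 (iv5 F60490) F60491 F43097 F29967 F13649 F9809 D13266 D27798 D58412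
theorem F92265 : act 1 n58412 = n27882 := d18_6 (iv1 F43209) (iv4 D16830) D16828 (iv4 F52384) F52385 D58412 (iv4 D27882) F44976 F44975
def n58413 : Q := act 3 n27799
theorem D58413 : act 3 n27799 = n58413 := rfl
theorem F92266 : act 7 n58413 = n39454 := d8_2 (iv7 F44893) D58413 (iv3 D39454)
def n58414 : Q := act 6 n27799
theorem D58414 : act 6 n27799 = n58414 := rfl
theorem F92267 : act 2 n58414 = n39422 := d3_1 D58414 (iv6 D39422) (iv2 F44892)
theorem F92268 : act 4 n58414 = n27800 := d10_1 D58414 (iv6 D27800) D27799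
def n58415 : Q := act 0 n27800
theorem D58415 : act 0 n27800 = n58415 := rfl
def n58416 : Q := act 1 n27800
theorem D58416 : act 1 n27800 = n58416 := rfl
theorem F92269 : act 1 n58416 = n39426 := d15_1 D58416 (iv7 D39426) (iv2 F44894)
def n58417 : Q := act 7 n27800
theorem D58417 : act 7 n27800 = n58417 := rfl
theorem F92270 : act 2 n58417 = n39426 := d4_1 D58417 (iv7 D39426) (iv2 F44894)
theorem F92271 : act 6 n58417 = n39458 := d14_1 D58417 (iv7 D39458) (iv6 D18696) (iv7 F30416) D27800
theorem F92272 : act 1 n39426 = n58415 := d15_0 (iv0 D58415) D58417 F92270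
theorem F92273 : act 1 n39424 = n58417 := d15_1 D39424 (iv7 D58417) F44894
theorem F92274 : act 1 n58417 = n39423 := d15_0 (iv0 D39423) D39426 (iv2 F92270)
def n58418 : Q := act 2 n27802
theorem D58418 : act 2 n27802 = n58418 := rfl
def n58419 : Q := act 3 n27802
theorem D58419 : act 3 n27802 = n58419 := rfl
theorem F92276 : act 4 n58419 = n39546 := d20_6 (iv4 F30050) (iv1 F13776) F29958 D13269 D27802 D58419 (iv1 D39546) F29975 (iv3 D8790) D8788
def n58424 : Q := act 3 n27803
theorem D58424 : act 3 n27803 = n58424 := rfl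
def n58425 : Q := act 4 n27803
theorem D58425 : act 4 n27803 = n58425 := rfl
def n58426 : Q := act 5 n27803
theorem D58426 : act 5 n27803 = n58426 := rfl
def n58427 : Q := act 6 n27803
theorem D58427 : act 6 n27803 = n58427 := rfl
def n58428 : Q := act 4 n27804
theorem D58428 : act 4 n27804 = n58428 := rfl
theorem F92278 : act 2 n58428 = n27805 := d1_1 D58428 (iv4 D27805) D27804
theorem F92279 : act 7 n58428 = n39398 := d11_2 (iv7 F44903) D58428 (iv4 D39398)
theorem F92280 : act 1 n39402 = n58428 := d15_1 D39402 F92279 F60331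
theorem F92281 : act 1 n58428 = n39401 := d15_0 (iv0 D39401) (iv7 F44907) (iv2 F92278)
def n58429 : Q := act 5 n27804
theorem D58429 : act 5 n27804 = n58429 := rfl
theorem F92282 : act 2 n58429 = n27806 := d2_1 D58429 (iv5 D27806) D27804
theorem F92283 : act 3 n58429 = n39440 := d6_1 D58429 (iv5 D39440) (iv3 F44902)
theorem F92284 : act 7 n58429 = n39399 := d13_2 (iv7 F44903) D58429 (iv5 D39399)
theorem F92285 : act 1 n39406 = n58429 := d15_1 D39406 F92284 F60332
theorem F92286 : act 1 n58429 = n39405 := d15_0 (iv0 D39405) (iv7 F44909) (iv2 F92282)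
def n58430 : Q := act 6 n27804
theorem D58430 : act 6 n27804 = n58430 := rfl
theorem F92287 : act 2 n58430 = n27807 := d3_1 D58430 (iv6 D27807) D27804
theorem F92288 : act 3 n58430 = n39441 := d7_1 D58430 (iv6 D39441) (iv3 F44902)
def n58431 : Q := act 0 n27805
theorem D58431 : act 0 n27805 = n58431 := rfl
theorem F92289 : act 1 n39398 = n58431 := d15_0 (iv0 D58431) F44907 (iv2 F60331)
def n58432 : Q := act 1 n27805
theorem D58432 : act 1 n27805 = n58432 := rfl
theorem F92290 : act 1 n58432 = n39398 := d15_1 D58432 (iv7 F92279) F92278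
def n58433 : Q := act 5 n27805
theorem D58433 : act 5 n27805 = n58433 := rfl
theorem F92291 : act 7 n58433 = n39403 := d13_2 (iv7 F44907) D58433 (iv5 D39403)
def n58434 : Q := act 6 n27805
theorem D58434 : act 6 n27805 = n58434 := rfl
theorem F92292 : act 4 n58434 = n27807 := d10_1 D58434 (iv6 D27807) D27805
def n58435 : Q := act 0 n27806
theorem D58435 : act 0 n27806 = n58435 := rfl
theorem F92293 : act 1 n39399 = n58435 := d15_0 (iv0 D58435) F44909 (iv2 F60332)
def n58436 : Q := act 1 n27806
theorem D58436 : act 1 n27806 = n58436 := rfl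
theorem F92294 : act 1 n58436 = n39399 := d15_1 D58436 (iv7 F92284) F92282
def n58437 : Q := act 4 n27806
theorem D58437 : act 4 n27806 = n58437 := rfl
theorem F92295 : act 7 n58437 = n39407 := d11_2 (iv7 F44909) D58437 (iv4 D39407)
def n58438 : Q := act 6 n27806
theorem D58438 : act 6 n27806 = n58438 := rfl
theorem F92296 : act 3 n58438 = n27809 := d7_1 D58438 (iv6 D27809) (iv3 F44908)
def n58439 : Q := act 0 n27807
theorem D58439 : act 0 n27807 = n58439 := rfl
def n58440 : Q := act 1 n27807
theorem D58440 : act 1 n27807 = n58440 := rfl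
def n58441 : Q := act 5 n27807
theorem D58441 : act 5 n27807 = n58441 := rfl
theorem F92297 : act 3 n58441 = n27810 := d6_1 D58441 (iv5 D27810) (iv3 F44910)
def n58442 : Q := act 7 n27807
theorem D58442 : act 7 n27807 = n58442 := rfl
theorem F92298 : act 3 n58442 = n27811 := d8_1 D58442 (iv7 D27811) (iv3 F44910)
theorem F92299 : act 6 n58442 = n39412 := d14_1 D58442 (iv7 D39412) (iv6 D18677) (iv7 F30405) D27807
def n58443 : Q := act 3 n27808
theorem D58443 : act 3 n27808 = n58443 := rfl
theorem F92300 : act 7 n58443 = n39421 := d8_2 (iv7 F44912) D58443 (iv3 D39421)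
def n58444 : Q := act 6 n27808
theorem D58444 : act 6 n27808 = n58444 := rfl
theorem F92301 : act 2 n58444 = n39455 := d3_1 D58444 (iv6 D39455) (iv2 F44911)
theorem F92302 : act 4 n58444 = n27809 := d10_1 D58444 (iv6 D27809) D27808
def n58445 : Q := act 0 n27809
theorem D58445 : act 0 n27809 = n58445 := rfl
def n58446 : Q := act 5 n27809
theorem D58446 : act 5 n27809 = n58446 := rfl
theorem F92303 : act 2 n58446 = n39457 := d2_1 D58446 (iv5 D39457) (iv2 F44913)
theorem F92304 : act 6 n58446 = n27810 := d12_2 D27809 D58446 (iv5 D27810) (iv6 D13272) D13271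
def n58447 : Q := act 7 n27809
theorem D58447 : act 7 n27809 = n58447 := rfl
theorem F92305 : act 2 n58447 = n39458 := d4_1 D58447 (iv7 D39458) (iv2 F44913)
theorem F92306 : act 6 n58447 = n39426 := d14_1 D58447 (iv7 D39426) (iv6 D18682) (iv7 F30407) D27809
theorem F92307 : act 1 n39458 = n58445 := d15_0 (iv0 D58445) D58447 F92305
theorem F92308 : act 1 n33339 = n58447 := d15_1 (iv0 F52576) (iv7 D58447) F44913
theorem F92309 : act 7 n58445 = n33339 := d15_2 F86598 F92307 (iv2 F86594)
theorem F92310 : act 5 n33340 = n58445 := d13_3 F92309 (iv5 D33339) D33340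
theorem F92311 : act 2 n58445 = n39456 := d15_3 (iv0 D39456) (iv0 F52576) (iv7 F92309)
theorem F92312 : act 5 n39456 = n54752 := d2_2 F92310 F92311 F86599
theorem F92313 : act 7 n39456 = n54751 := d4_2 (iv7 F92309) F92311 F86594
theorem F92314 : act 1 n58447 = n39456 := d15_1 F92308 F92313 F86594
def n58448 : Q := act 4 n27810
theorem D58448 : act 4 n27810 = n58448 := rfl
theorem F92316 : act 5 n58448 = n39460 := d16_1 D58448 (iv4 D39460) (iv5 D18699) (iv4 F28978) (iv5 F28778) (iv4 F30344) (iv5 F60379) (iv7 D39461) (iv2 F44914)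
def n58449 : Q := act 0 n27813
theorem D58449 : act 0 n27813 = n58449 := rfl
theorem F92319 : act 1 n39476 = n58449 := d15_0 (iv0 D58449) (iv7 F51302) D39476
def n58450 : Q := act 1 n27813
theorem D58450 : act 1 n27813 = n58450 := rfl
def n58451 : Q := act 2 n27813
theorem D58451 : act 2 n27813 = n58451 := rfl
theorem F92320 : act 3 n58451 = n39464 := d0_2 D27813 D58451 (iv2 D39464) (iv3 D18702) (iv2 F51300)
theorem F92321 : act 7 n58451 = n39476 := d4_2 F51302 D58451 (iv2 D39476)
theorem F92323 : act 1 n58450 = n39476 := d15_1 D58450 (iv7 F92321) (iv2 D58451)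
theorem F92324 : act 1 n39475 = n58451 := d15_1 D39475 F92321 (iv2 D39476)
def n58452 : Q := act 4 n27813
theorem D58452 : act 4 n27813 = n58452 := rfl
theorem F92325 : act 7 n58452 = n39477 := d11_2 F51302 D58452 (iv4 D39477)
def n58453 : Q := act 5 n27813
theorem D58453 : act 5 n27813 = n58453 := rfl
theorem F92326 : act 3 n58453 = n27815 := d6_1 D58453 (iv5 D27815) D27813
theorem F92327 : act 7 n58453 = n34391 := d13_2 F51302 D58453 (iv5 F54559)
def n58454 : Q := act 6 n27813
theorem D58454 : act 6 n27813 = n58454 := rfl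
theorem F92328 : act 3 n58454 = n27816 := d7_1 D58454 (iv6 D27816) D27813
def n58455 : Q := act 3 n27814
theorem D58455 : act 3 n27814 = n58455 := rfl
theorem F92329 : act 7 n58455 = n39479 := d8_2 F51303 D58455 (iv3 D39479)
def n58456 : Q := act 6 n27814
theorem D58456 : act 6 n27814 = n58456 := rfl
theorem F92330 : act 2 n58456 = n39470 := d3_1 D58456 (iv6 D39470) (iv2 F51310)
theorem F92331 : act 4 n58456 = n27816 := d10_1 D58456 (iv6 D27816) D27814
def n58457 : Q := act 0 n27816
theorem D58457 : act 0 n27816 = n58457 := rfl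
def n58458 : Q := act 1 n27816
theorem D58458 : act 1 n27816 = n58458 := rfl
theorem F92332 : act 1 n58458 = n39473 := d15_1 D58458 (iv7 D39473) F51313
def n58459 : Q := act 7 n27816
theorem D58459 : act 7 n27816 = n58459 := rfl
theorem F92333 : act 2 n58459 = n39473 := d4_1 D58459 (iv7 D39473) F51313
theorem F92334 : act 5 n58459 = n32651 := d13_1 D58459 F85849 (iv5 F85840)
theorem F92335 : act 6 n58459 = n39483 := d14_1 D58459 (iv7 D39483) (iv6 D18709) (iv7 F51301) D27816
theorem F92337 : act 1 n39472 = n58459 := d15_1 D39472 (iv7 D58459) (iv2 F51313)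
theorem F92338 : act 1 n58459 = n39471 := d15_0 (iv0 D39471) D39473 (iv2 F92333)
def n58460 : Q := act 0 n27818
theorem D58460 : act 0 n27818 = n58460 := rfl
theorem F92339 : act 1 n39464 = n58460 := d15_0 (iv0 D58460) F51314 D39464
def n58461 : Q := act 1 n27818
theorem D58461 : act 1 n27818 = n58461 := rfl
def n58462 : Q := act 2 n27818
theorem D58462 : act 2 n27818 = n58462 := rfl
theorem F92340 : act 3 n58462 = n39476 := d0_2 D27818 D58462 (iv2 D39476) (iv3 D18707) F51298
theorem F92341 : act 7 n58462 = n39464 := d4_2 (iv7 F51314) D58462 (iv2 D39464)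
theorem F92342 : act 1 n58462 = n39462 := d15_0 (iv0 D39462) (iv7 F51314) D58462
theorem F92343 : act 1 n58461 = n39464 := d15_1 D58461 (iv7 F92341) (iv2 D58462)
theorem F92344 : act 1 n39463 = n58462 := d15_1 D39463 F92341 (iv2 D39464)
def n58463 : Q := act 4 n27818
theorem D58463 : act 4 n27818 = n58463 := rfl
theorem F92345 : act 7 n58463 = n39465 := d11_2 (iv7 F51314) D58463 (iv4 D39465)
def n58464 : Q := act 6 n27818
theorem D58464 : act 6 n27818 = n58464 := rfl
theorem F92346 : act 3 n58464 = n27820 := d7_1 D58464 (iv6 D27820) D27818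
def n58465 : Q := act 3 n27819
theorem D58465 : act 3 n27819 = n58465 := rfl
theorem F92347 : act 7 n58465 = n39469 := d8_2 (iv7 F51311) D58465 (iv3 D39469)
def n58466 : Q := act 6 n27819
theorem D58466 : act 6 n27819 = n58466 := rfl
theorem F92348 : act 2 n58466 = n39480 := d3_1 D58466 (iv6 D39480) F51312
theorem F92349 : act 4 n58466 = n27820 := d10_1 D58466 (iv6 D27820) D27819
def n58467 : Q := act 0 n27820
theorem D58467 : act 0 n27820 = n58467 := rfl
theorem F92350 : act 5 n58467 = n34340 := d21_0 (iv1 F78747) F78743 (iv6 F87389) (iv1 F87391) (iv6 F60350) D39418 F60352 F42955 D27820 D58467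
def n58468 : Q := act 1 n27820
theorem D58468 : act 1 n27820 = n58468 := rfl
theorem F92351 : act 1 n58468 = n39483 := d15_1 D58468 (iv7 D39483) (iv2 F51315)
theorem F92352 : act 5 n58468 = n34341 := d21_0 (iv1 D34341) (iv5 F42757) (iv6 D26682) (iv1 F24999) (iv6 F51716) (iv5 D32653) D32651 (iv5 F92334) F92335 (iv1 F92351)
theorem F92353 : act 6 n33992 = n58468 := d21_5 (iv5 D15459) (iv1 F22835) F22834 D16441 D33992 F92352 (iv1 D34341) (iv5 F42757) (iv6 D26682) (iv1 F24999)
def n58469 : Q := act 7 n27820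
theorem D58469 : act 7 n27820 = n58469 := rfl
theorem F92354 : act 2 n58469 = n39483 := d4_1 D58469 (iv7 D39483) (iv2 F51315)
theorem F92355 : act 6 n58469 = n39473 := d14_1 D58469 (iv7 D39473) (iv6 D18705) F51299 D27820
theorem F92356 : act 1 n39483 = n58467 := d15_0 (iv0 D58467) D58469 F92354
theorem F92357 : act 1 n39482 = n58469 := d15_1 D39482 (iv7 D58469) F51315
theorem F92358 : act 5 n39482 = n49820 := d21_0 (iv1 D49820) F38075 (iv6 D16429) D16426 D33974 F53314 D54380 (iv5 F85847) (iv6 F92355) (iv1 F92357)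
theorem F92359 : act 6 n55233 = n39482 := d21_5 F25904 F23107 F23106 D26689 D55233 F92358 (iv1 D49820) F38075 (iv6 D16429) D16426
theorem F92360 : act 1 n58469 = n39481 := d15_0 (iv0 D39481) D39483 (iv2 F92354)
def n58470 : Q := act 3 n27821
theorem D58470 : act 3 n27821 = n58470 := rfl
theorem F92361 : act 7 n58470 = n39486 := d8_2 (iv7 F46258) D58470 (iv3 D39486)
def n58471 : Q := act 6 n27821
theorem D58471 : act 6 n27821 = n58471 := rfl
theorem F92362 : act 2 n58471 = n39485 := d3_1 D58471 (iv6 D39485) F46257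
theorem F92363 : act 4 n58471 = n40245 := d10_1 D58471 (iv6 D40245) (iv4 F44926)
def n58472 : Q := act 3 n27822
theorem D58472 : act 3 n27822 = n58472 := rfl
def n58473 : Q := act 6 n27822
theorem D58473 : act 6 n27822 = n58473 := rfl
theorem F92365 : act 2 n58473 = n39487 := d3_1 D58473 (iv6 D39487) (iv2 F46256)
theorem F92366 : act 4 n58473 = n40247 := d10_1 D58473 (iv6 D40247) F44966
def n58474 : Q := act 0 n27823
theorem D58474 : act 0 n27823 = n58474 := rfl
def n58475 : Q := act 1 n27823
theorem D58475 : act 1 n27823 = n58475 := rfl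
def n58476 : Q := act 2 n27823
theorem D58476 : act 2 n27823 = n58476 := rfl
theorem F92367 : act 3 n58476 = n39490 := d0_2 D27823 D58476 (iv2 D39490) (iv3 D18712) (iv2 F22063)
theorem F92368 : act 6 n58476 = n34008 := d3_2 (iv6 F44929) D58476 (iv2 D34008)
def n58477 : Q := act 5 n27823
theorem D58477 : act 5 n27823 = n58477 := rfl
theorem F92369 : act 3 n58477 = n27824 := d6_1 D58477 (iv5 D27824) D27823
theorem F92370 : act 7 n34711 = n58477 := d8_0 F92369 F44932 D34711
def n58478 : Q := act 7 n27823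
theorem D58478 : act 7 n27823 = n58478 := rfl
theorem F92371 : act 3 n58478 = n27825 := d8_1 D58478 (iv7 D27825) D27823
theorem F92372 : act 5 n58478 = n34711 := d13_1 D58478 F92370 (iv5 D58477)
def n58479 : Q := act 6 n27824
theorem D58479 : act 6 n27824 = n58479 := rfl
theorem F92373 : act 2 n58479 = n39493 := d3_1 D58479 (iv6 D39493) (iv2 F44930)
theorem F92374 : act 4 n58479 = n34712 := d10_1 D58479 (iv6 D34712) (iv4 F44931)
theorem F92375 : act 5 n58479 = n34010 := d12_1 D58479 (iv6 D34010) (iv5 D16448) (iv6 F22064) D27824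
def n58480 : Q := act 6 n27825
theorem D58480 : act 6 n27825 = n58480 := rfl
theorem F92376 : act 2 n58480 = n39494 := d3_1 D58480 (iv6 D39494) (iv2 F44933)
theorem F92377 : act 4 n58480 = n27826 := d10_1 D58480 (iv6 D27826) (iv4 F44934)
theorem F92378 : act 7 n58480 = n32338 := d14_2 D27825 D58480 F51353 F24832 (iv6 F22064)
def n58481 : Q := act 1 n27829
theorem D58481 : act 1 n27829 = n58481 := rfl
theorem F92379 : act 1 n58481 = n27834 := d15_1 D58481 F61287 (iv2 F61276)
theorem F92380 : act 7 n58481 = n39663 := d15_2 (iv0 F61130) D58481 (iv2 F61129)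
theorem F92381 : act 4 n37452 = n58481 := d20_0 (iv1 D58481) (iv4 D27829) (iv3 F90403) (iv1 D27612) (iv3 D13188) D13189 F91147 (iv4 F56131) F56130 D37452
theorem F92382 : act 2 n58481 = n39662 := d1_1 F92381 F60942 (iv2 F91152)
theorem F92383 : act 3 n58481 = n38640 := d5_1 F92381 (iv4 D38640) (iv3 D18390) D18391 (iv3 F91153)
def n58482 : Q := act 3 n27829
theorem D58482 : act 3 n27829 = n58482 := rfl
def n58483 : Q := act 5 n27829
theorem D58483 : act 5 n27829 = n58483 := rfl
theorem F92385 : act 2 n58483 = n39685 := d2_1 D58483 (iv5 D39685) (iv2 F61276)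
theorem F92386 : act 7 n58483 = n39665 := d13_2 (iv7 F61277) D58483 (iv5 D39665)
def n58487 : Q := act 5 n27831
theorem D58487 : act 5 n27831 = n58487 := rfl
theorem F92390 : act 2 n58487 = n39691 := d2_1 D58487 (iv5 D39691) (iv2 F61280)
theorem F92391 : act 0 n58487 = n39849 := d21_7 (iv5 F91477) (iv1 D8804) D8807 (iv6 F13684) D13277 D27831 D58487 F87875 (iv6 D55565) (iv1 F43187)
theorem F92392 : act 1 n58487 = n27902 := d15_1 (iv0 F92391) F45053 D39849
def n58489 : Q := act 4 n27833
theorem D58489 : act 4 n27833 = n58489 := rfl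
theorem F92399 : act 7 n58489 = n38706 := d11_2 (iv7 F61285) D58489 (iv4 D38706)
def n58491 : Q := act 3 n27834
theorem D58491 : act 3 n27834 = n58491 := rfl
theorem F92402 : act 7 n58491 = n39684 := d8_2 (iv7 F61287) D58491 (iv3 D39684)
def n58492 : Q := act 5 n27834
theorem D58492 : act 5 n27834 = n58492 := rfl
theorem F92404 : act 7 n58492 = n39685 := d13_2 (iv7 F61287) D58492 (iv5 D39685)
def n58498 : Q := act 3 n27837
theorem D58498 : act 3 n27837 = n58498 := rfl
theorem F92414 : act 4 n58498 = n39538 := d5_2 D27837 D58498 (iv3 D39538) (iv4 D18726) (iv3 F22071)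
theorem F92415 : act 7 n58498 = n39693 := d8_2 (iv7 F44944) D58498 (iv3 D39693)
def n58499 : Q := act 5 n27837
theorem D58499 : act 5 n27837 = n58499 := rfl
theorem F92416 : act 2 n58499 = n27842 := d2_1 D58499 (iv5 D27842) (iv2 F44943)
theorem F92417 : act 7 n58499 = n39694 := d13_2 (iv7 F44944) D58499 (iv5 D39694)
theorem F92418 : act 1 n39716 = n58499 := d15_1 D39716 F92417 F60566
theorem F92419 : act 5 n39716 = n37606 := d21_2 D58499 (iv1 F92418) (iv6 D37606) (iv1 D18035) (iv6 D8510) D8509 D18032 F29199 D18568 (iv1 F91156)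
theorem F92420 : act 1 n58499 = n39715 := d15_0 (iv0 D39715) (iv7 F44956) (iv2 F92416)
def n58500 : Q := act 4 n27838
theorem D58500 : act 4 n27838 = n58500 := rfl
theorem F92421 : act 2 n58500 = n27845 := d1_1 D58500 (iv4 D27845) (iv2 F44947)
theorem F92422 : act 7 n58500 = n39696 := d11_2 (iv7 F44949) D58500 (iv4 D39696)
theorem F92423 : act 1 n39734 = n58500 := d15_1 D39734 F92422 F60569
theorem F92424 : act 1 n58500 = n39733 := d15_0 (iv0 D39733) (iv7 F44959) (iv2 F92421)
def n58501 : Q := act 3 n27839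
theorem D58501 : act 3 n27839 = n58501 := rfl
theorem F92425 : act 2 n58501 = n46282 := d0_1 D58501 F72943 (iv2 F91586) (iv3 D39706) (iv2 F91426)
theorem F92426 : act 7 n58501 = n39105 := d8_2 (iv7 F91428) D58501 F60122
theorem F92427 : act 1 n46280 = n58501 := d15_1 D46280 F92426 F60121
theorem F92428 : act 1 n58501 = n46279 := d15_0 (iv0 D46279) D46282 (iv2 F92425)
def n58502 : Q := act 5 n27839
theorem D58502 : act 5 n27839 = n58502 := rfl
theorem F92429 : act 2 n58502 = n39708 := d2_1 D58502 (iv5 D39708) (iv2 F91426)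
theorem F92430 : act 7 n58502 = n39108 := d13_2 (iv7 F91428) D58502 (iv5 D39108)
def n58503 : Q := act 0 n27841
theorem D58503 : act 0 n27841 = n58503 := rfl
theorem F92431 : act 1 n39712 = n58503 := d15_0 (iv0 D58503) F44955 D39712
def n58504 : Q := act 1 n27841
theorem D58504 : act 1 n27841 = n58504 := rfl
theorem F92432 : act 4 n39430 = n58504 := d20_6 F30433 (iv1 F13781) (iv4 F28977) D8767 D18689 D39430 (iv1 D58504) F44954 (iv3 D13284) D13282
def n58505 : Q := act 2 n27841
theorem D58505 : act 2 n27841 = n58505 := rfl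
theorem F92434 : act 4 n58505 = n27850 := d1_2 (iv4 F44954) D58505 (iv2 D27850)
theorem F92435 : act 7 n58505 = n39712 := d4_2 (iv7 F44955) D58505 (iv2 D39712)
theorem F92436 : act 1 n58505 = n39710 := d15_0 (iv0 D39710) (iv7 F44955) D58505
theorem F92437 : act 1 n39711 = n58505 := d15_1 D39711 F92435 (iv2 D39712)
def n58506 : Q := act 5 n27841
theorem D58506 : act 5 n27841 = n58506 := rfl
theorem F92438 : act 3 n58506 = n27842 := d6_1 D58506 (iv5 D27842) D27841
theorem F92439 : act 7 n58506 = n39713 := d13_2 (iv7 F44955) D58506 (iv5 D39713)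
def n58507 : Q := act 0 n27842
theorem D58507 : act 0 n27842 = n58507 := rfl
theorem F92440 : act 1 n39694 = n58507 := d15_0 (iv0 D58507) F44956 (iv2 F60566)
def n58508 : Q := act 1 n27842
theorem D58508 : act 1 n27842 = n58508 := rfl
theorem F92441 : act 1 n58508 = n39694 := d15_1 D58508 (iv7 F92417) F92416
def n58509 : Q := act 4 n27842
theorem D58509 : act 4 n27842 = n58509 := rfl
theorem F92442 : act 7 n58509 = n39717 := d11_2 (iv7 F44956) D58509 (iv4 D39717)
def n58510 : Q := act 6 n27842
theorem D58510 : act 6 n27842 = n58510 := rfl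
def n58511 : Q := act 2 n27843
theorem D58511 : act 2 n27843 = n58511 := rfl
theorem F92443 : act 7 n27844 = n58511 := d15_2 (iv0 D27843) D27844 (iv2 D58511)
def n58512 : Q := act 3 n27843
theorem D58512 : act 3 n27843 = n58512 := rfl
def n58513 : Q := act 4 n27843
theorem D58513 : act 4 n27843 = n58513 := rfl
def n58514 : Q := act 5 n27843
theorem D58514 : act 5 n27843 = n58514 := rfl
def n58515 : Q := act 6 n27843
theorem D58515 : act 6 n27843 = n58515 := rfl
def n58516 : Q := act 7 n27843
theorem D58516 : act 7 n27843 = n58516 := rfl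
theorem F92444 : act 2 n58516 = n27844 := d4_1 D58516 F92443 (iv2 D58511)
def n58519 : Q := act 5 n27844
theorem D58519 : act 5 n27844 = n58519 := rfl
def n58521 : Q := act 0 n27845
theorem D58521 : act 0 n27845 = n58521 := rfl
theorem F92445 : act 1 n39696 = n58521 := d15_0 (iv0 D58521) F44959 (iv2 F60569)
def n58522 : Q := act 1 n27845
theorem D58522 : act 1 n27845 = n58522 := rfl
theorem F92446 : act 1 n58522 = n39696 := d15_1 D58522 (iv7 F92422) F92421
def n58523 : Q := act 3 n27845
theorem D58523 : act 3 n27845 = n58523 := rfl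
theorem F92447 : act 4 n58523 = n27856 := d5_2 D27845 D58523 (iv3 D27856) (iv4 D13286) (iv3 F22077)
theorem F92448 : act 7 n58523 = n39735 := d8_2 (iv7 F44959) D58523 (iv3 D39735)
def n58524 : Q := act 5 n27845
theorem D58524 : act 5 n27845 = n58524 := rfl
theorem F92449 : act 7 n58524 = n39736 := d13_2 (iv7 F44959) D58524 (iv5 D39736)
theorem F92450 : act 1 n58524 = n37590 := d17_6 (iv1 F43188) (iv5 F91451) (iv1 D13278) D13281 D27845 D58524 (iv5 D37590) (iv0 F91444) (iv4 D34759)
def n58525 : Q := act 0 n27846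
theorem D58525 : act 0 n27846 = n58525 := rfl
theorem F92451 : act 3 n58525 = n38589 := d20_5 F28967 (iv1 F13782) (iv4 F30433) D27846 D58525 (iv4 D38589) (iv1 D18376) F13559 F5858 D3915
theorem F92452 : act 1 n28503 = n58525 := d15_0 (iv0 D58525) F44961 (iv2 F46055)
def n58526 : Q := act 1 n27846
theorem D58526 : act 1 n27846 = n58526 := rfl
def n58527 : Q := act 2 n27846
theorem D58527 : act 2 n27846 = n58527 := rfl
theorem F92453 : act 3 n58527 = n39586 := d0_2 D27846 D58527 (iv2 D39586) (iv3 D18741) (iv2 F30432)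
theorem F92454 : act 6 n58527 = n28611 := d3_2 (iv6 F44960) D58527 F46177
theorem F92455 : act 7 n58527 = n28503 := d4_2 (iv7 F44961) D58527 F46055
theorem F92456 : act 1 n58527 = n28657 := d15_0 (iv0 D28657) (iv7 F44961) D58527
theorem F92457 : act 1 n58526 = n28503 := d15_1 D58526 (iv7 F92455) (iv2 D58527)
theorem F92458 : act 1 n28658 = n58527 := d15_1 D28658 F92455 F46055
def n58528 : Q := act 4 n27846
theorem D58528 : act 4 n27846 = n58528 := rfl
theorem F92459 : act 3 n58528 = n38717 := d5_1 D58528 F59500 F30145 (iv4 F30433) D27846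
theorem F92460 : act 6 n58528 = n28645 := d10_2 (iv6 F44960) D58528 F46212
theorem F92461 : act 7 n58528 = n28646 := d11_2 (iv7 F44961) D58528 F46214
theorem F92462 : act 0 n58333 = n58528 := d20_7 (iv4 D6306) (iv1 D2642) (iv4 F4236) (iv3 F9802) D13259 D27778 D58333 (iv4 D58528) (iv3 D27846) (iv1 F22079)
def n58529 : Q := act 5 n27846
theorem D58529 : act 5 n27846 = n58529 := rfl
theorem F92463 : act 3 n58529 = n27847 := d6_1 D58529 (iv5 D27847) D27846
theorem F92464 : act 7 n58529 = n28659 := d13_2 (iv7 F44961) D58529 (iv5 D28659)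
def n58530 : Q := act 6 n27847
theorem D58530 : act 6 n27847 = n58530 := rfl
theorem F92465 : act 2 n58530 = n39590 := d3_1 D58530 (iv6 D39590) (iv2 F44962)
theorem F92466 : act 5 n58530 = n28484 := d12_1 D58530 (iv6 D28484) F22739 (iv6 F30434) D27847
theorem F92467 : act 7 n58530 = n28487 := d14_2 (iv7 F44963) D58530 F46007 F22740 (iv6 F22827)
def n58531 : Q := act 2 n27848
theorem D58531 : act 2 n27848 = n58531 := rfl
def n58532 : Q := act 3 n27848
theorem D58532 : act 3 n27848 = n58532 := rfl
theorem F92469 : act 4 n58532 = n58432 := d20_6 F4236 D2641 D6302 D13284 D27848 D58532 (iv1 D58432) (iv4 D27805) (iv3 D13269) (iv1 D6297)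
def n58533 : Q := act 4 n27848
theorem D58533 : act 4 n27848 = n58533 := rfl
theorem F92470 : act 0 n58533 = n58356 := d20_1 D58533 (iv4 D58356) (iv3 D27783) (iv1 D13260) F9802 F4236 D2641 D6302 D13284 D27848
def n58534 : Q := act 5 n27848
theorem D58534 : act 5 n27848 = n58534 := rfl
def n58535 : Q := act 6 n27848
theorem D58535 : act 6 n27848 = n58535 := rfl
def n58536 : Q := act 7 n27848
theorem D58536 : act 7 n27848 = n58536 := rfl
def n58537 : Q := act 3 n27849
theorem D58537 : act 3 n27849 = n58537 := rfl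
def n58538 : Q := act 4 n27849
theorem D58538 : act 4 n27849 = n58538 := rfl
def n58539 : Q := act 5 n27849
theorem D58539 : act 5 n27849 = n58539 := rfl
def n58541 : Q := act 5 n27850
theorem D58541 : act 5 n27850 = n58541 := rfl
theorem F92472 : act 2 n58541 = n27851 := d2_1 D58541 (iv5 D27851) D27850
theorem F92473 : act 3 n58541 = n39601 := d6_1 D58541 (iv5 D39601) (iv3 F44968)
theorem F92474 : act 7 n58541 = n39757 := d13_2 (iv7 F44969) D58541 (iv5 D39757)
theorem F92475 : act 1 n39760 = n58541 := d15_1 D39760 F92474 F60599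
theorem F92476 : act 1 n58541 = n39759 := d15_0 (iv0 D39759) (iv7 F44974) (iv2 F92472)
def n58542 : Q := act 0 n27851
theorem D58542 : act 0 n27851 = n58542 := rfl
theorem F92477 : act 1 n39757 = n58542 := d15_0 (iv0 D58542) F44974 (iv2 F60599)
def n58543 : Q := act 1 n27851
theorem D58543 : act 1 n27851 = n58543 := rfl
theorem F92478 : act 1 n58543 = n39757 := d15_1 D58543 (iv7 F92474) F92472
def n58544 : Q := act 4 n27851
theorem D58544 : act 4 n27851 = n58544 := rfl
theorem F92479 : act 7 n58544 = n39761 := d11_2 (iv7 F44974) D58544 (iv4 D39761)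
def n58545 : Q := act 6 n27851
theorem D58545 : act 6 n27851 = n58545 := rfl
theorem F92480 : act 3 n58545 = n27855 := d7_1 D58545 (iv6 D27855) (iv3 F44973)
def n58546 : Q := act 3 n27852
theorem D58546 : act 3 n27852 = n58546 := rfl
theorem F92481 : act 5 n58546 = n37055 := d6_2 (iv5 F44975) D58546 F57990
theorem F92482 : act 7 n58546 = n39613 := d8_2 F44978 D58546 (iv3 D39613)
def n58547 : Q := act 6 n27852
theorem D58547 : act 6 n27852 = n58547 := rfl
theorem F92483 : act 2 n58547 = n39612 := d3_1 D58547 (iv6 D39612) F44977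
theorem F92484 : act 5 n58547 = n37057 := d12_1 D58547 (iv6 D37057) (iv5 D17831) D17832 (iv5 F44975)
def n58548 : Q := act 3 n27853
theorem D58548 : act 3 n27853 = n58548 := rfl
theorem F92485 : act 7 n58548 = n39610 := d8_2 (iv7 F44980) D58548 (iv3 D39610)
def n58549 : Q := act 3 n27854
theorem D58549 : act 3 n27854 = n58549 := rfl
theorem F92486 : act 7 n58549 = n39767 := d8_2 (iv7 F44983) D58549 (iv3 D39767)
def n58550 : Q := act 6 n27854
theorem D58550 : act 6 n27854 = n58550 := rfl
theorem F92487 : act 2 n58550 = n39616 := d3_1 D58550 (iv6 D39616) (iv2 F44982)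
theorem F92488 : act 4 n58550 = n27855 := d10_1 D58550 (iv6 D27855) D27854
def n58551 : Q := act 0 n27855
theorem D58551 : act 0 n27855 = n58551 := rfl
theorem F92489 : act 5 n58551 = n53887 := d21_0 (iv1 D53887) (iv5 F53357) (iv6 D34022) F25975 (iv6 F13870) (iv5 D8903) F30436 D13285 D27855 D58551
theorem F92490 : act 6 n34015 = n58551 := d21_5 (iv5 D7869) F11990 D7630 D16456 D34015 F92489 (iv1 D53887) (iv5 F53357) (iv6 D34022) F25975
def n58552 : Q := act 1 n27855
theorem D58552 : act 1 n27855 = n58552 := rfl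
theorem F92491 : act 1 n58552 = n39620 := d15_1 D58552 (iv7 D39620) (iv2 F44984)
theorem F92492 : act 5 n53886 = n58552 := d21_0 (iv1 D58552) (iv5 F60613) (iv6 D39777) F30443 F24881 (iv5 D7244) F26591 D12350 D26056 D53886
def n58553 : Q := act 7 n27855
theorem D58553 : act 7 n27855 = n58553 := rfl
theorem F92493 : act 2 n58553 = n39620 := d4_1 D58553 (iv7 D39620) (iv2 F44984)
theorem F92494 : act 6 n58553 = n39771 := d14_1 D58553 (iv7 D39771) (iv6 D18804) (iv7 F22083) D27855
theorem F92495 : act 1 n39620 = n58551 := d15_0 (iv0 D58551) D58553 F92493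
theorem F92496 : act 1 n39618 = n58553 := d15_1 D39618 (iv7 D58553) F44984
theorem F92497 : act 1 n58553 = n39617 := d15_0 (iv0 D39617) D39620 (iv2 F92493)
def n58554 : Q := act 0 n27856
theorem D58554 : act 0 n27856 = n58554 := rfl
theorem F92498 : act 1 n39775 = n58554 := d15_0 (iv0 D58554) F44985 D39775
def n58555 : Q := act 1 n27856
theorem D58555 : act 1 n27856 = n58555 := rfl
def n58556 : Q := act 2 n27856
theorem D58556 : act 2 n27856 = n58556 := rfl
theorem F92499 : act 3 n58556 = n39641 := d0_2 D27856 D58556 (iv2 D39641) (iv3 D18770) (iv2 F22084)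
theorem F92500 : act 7 n58556 = n39775 := d4_2 (iv7 F44985) D58556 (iv2 D39775)
theorem F92501 : act 1 n58556 = n39773 := d15_0 (iv0 D39773) (iv7 F44985) D58556
theorem F92502 : act 1 n58555 = n39775 := d15_1 D58555 (iv7 F92500) (iv2 D58556)
theorem F92503 : act 1 n39774 = n58556 := d15_1 D39774 F92500 (iv2 D39775)
def n58557 : Q := act 5 n27856
theorem D58557 : act 5 n27856 = n58557 := rfl
theorem F92504 : act 3 n58557 = n27857 := d6_1 D58557 (iv5 D27857) D27856
theorem F92505 : act 7 n58557 = n39776 := d13_2 (iv7 F44985) D58557 (iv5 D39776)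
def n58558 : Q := act 6 n27857
theorem D58558 : act 6 n27857 = n58558 := rfl
theorem F92506 : act 2 n58558 = n39644 := d3_1 D58558 (iv6 D39644) (iv2 F44986)
theorem F92507 : act 5 n58558 = n32935 := d12_1 D58558 (iv6 F57628) F57626 F30063 D27857
def n58560 : Q := act 3 n27860
theorem D58560 : act 3 n27860 = n58560 := rfl
theorem F92510 : act 7 n58560 = n39510 := d8_2 (iv7 F61100) D58560 (iv3 D39510)
def n58561 : Q := act 5 n27860
theorem D58561 : act 5 n27860 = n58561 := rfl
theorem F92512 : act 7 n58561 = n39511 := d13_2 (iv7 F61100) D58561 (iv5 D39511)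
def n58567 : Q := act 3 n27865
theorem D58567 : act 3 n27865 = n58567 := rfl
theorem F92522 : act 7 n58567 = n39529 := d8_2 (iv7 F61090) D58567 (iv3 D39529)
def n58568 : Q := act 5 n27865
theorem D58568 : act 5 n27865 = n58568 := rfl
theorem F92523 : act 2 n58568 = n39511 := d2_1 D58568 (iv5 D39511) (iv2 F61089)
theorem F92524 : act 7 n58568 = n39530 := d13_2 (iv7 F61090) D58568 (iv5 D39530)
def n58569 : Q := act 6 n27865
theorem D58569 : act 6 n27865 = n58569 := rfl
def n58572 : Q := act 5 n27867
theorem D58572 : act 5 n27867 = n58572 := rfl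
theorem F92528 : act 2 n58572 = n39520 := d2_1 D58572 (iv5 D39520) (iv2 F61093)
theorem F92529 : act 0 n58572 = n27905 := d21_7 (iv5 F61594) (iv1 F22089) F29973 (iv6 D18728) (iv1 F22090) D27867 D58572 F45059 (iv6 D16820) D16815
def n58574 : Q := act 3 n27868
theorem D58574 : act 3 n27868 = n58574 := rfl
theorem F92535 : act 4 n58574 = n39693 := d5_2 D27868 D58574 (iv3 D39693) (iv4 D18784) (iv3 F22087)
theorem F92536 : act 7 n58574 = n39538 := d8_2 (iv7 F44992) D58574 (iv3 D39538)
def n58575 : Q := act 5 n27868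
theorem D58575 : act 5 n27868 = n58575 := rfl
theorem F92537 : act 2 n58575 = n27873 := d2_1 D58575 (iv5 D27873) (iv2 F44991)
theorem F92538 : act 7 n58575 = n39539 := d13_2 (iv7 F44992) D58575 (iv5 D39539)
theorem F92540 : act 1 n58575 = n39550 := d15_0 (iv0 D39550) (iv7 F45001) (iv2 F92537)
def n58576 : Q := act 6 n27868
theorem D58576 : act 6 n27868 = n58576 := rfl
theorem F92541 : act 2 n58576 = n27874 := d3_1 D58576 (iv6 D27874) (iv2 F44991)
theorem F92542 : act 4 n58576 = n27869 := d10_1 D58576 (iv6 D27869) D27868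
def n58577 : Q := act 3 n27871
theorem D58577 : act 3 n27871 = n58577 := rfl
theorem F92543 : act 7 n58577 = n38918 := d8_2 (iv7 F59768) D58577 F59955
def n58578 : Q := act 5 n27871
theorem D58578 : act 5 n27871 = n58578 := rfl
theorem F92544 : act 2 n58578 = n39544 := d2_1 D58578 (iv5 D39544) F59769
theorem F92545 : act 7 n58578 = n38919 := d13_2 (iv7 F59768) D58578 (iv5 D38919)
def n58579 : Q := act 0 n27872
theorem D58579 : act 0 n27872 = n58579 := rfl
theorem F92546 : act 1 n39547 = n58579 := d15_0 (iv0 D58579) F45000 D39547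
theorem F92547 : act 4 n39357 = n58579 := d20_0 (iv1 F92546) F60431 (iv3 F44968) (iv1 F44972) D39753 (iv4 F60598) (iv1 F60313) (iv4 D18660) D18659 D39357
theorem F92548 : act 3 n39357 = n58331 := d20_9 D58333 F92462 (iv4 D58528) (iv3 D27846) (iv1 F22079) D13292 (iv4 F44999) D58579 (iv4 F92547) (iv1 D58331)
def n58580 : Q := act 1 n27872
theorem D58580 : act 1 n27872 = n58580 := rfl
theorem F92549 : act 4 n39389 = n58580 := d20_6 F5923 D3970 (iv4 F28967) D8762 D18672 D39389 (iv1 D58580) F44999 (iv3 D13292) (iv1 F30437)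
theorem F92550 : act 0 n39547 = n58580 := d20_7 D58428 (iv1 F92280) (iv4 F60596) (iv3 D39748) (iv1 F44970) F44968 (iv4 F60431) (iv4 F92549) (iv3 D39389) (iv1 F44904)
def n58581 : Q := act 2 n27872
theorem D58581 : act 2 n27872 = n58581 := rfl
theorem F92551 : act 4 n58581 = n27879 := d1_2 (iv4 F44999) D58581 (iv2 D27879)
theorem F92552 : act 7 n58581 = n39547 := d4_2 (iv7 F45000) D58581 (iv2 D39547)
theorem F92553 : act 1 n58581 = n39545 := d15_0 (iv0 D39545) (iv7 F45000) D58581
theorem F92554 : act 1 n39546 = n58581 := d15_1 D39546 F92552 (iv2 D39547)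
def n58582 : Q := act 5 n27872
theorem D58582 : act 5 n27872 = n58582 := rfl
theorem F92556 : act 7 n58582 = n39548 := d13_2 (iv7 F45000) D58582 (iv5 D39548)
def n58583 : Q := act 6 n27872
theorem D58583 : act 6 n27872 = n58583 := rfl
theorem F92557 : act 3 n58583 = n27874 := d7_1 D58583 (iv6 D27874) D27872
theorem F92558 : act 4 n58583 = n27881 := d10_1 D58583 (iv6 D27881) (iv4 F44999)
def n58584 : Q := act 0 n27873
theorem D58584 : act 0 n27873 = n58584 := rfl
theorem F92559 : act 1 n39539 = n58584 := d15_0 (iv0 D58584) F45001 (iv2 F60421)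
def n58585 : Q := act 1 n27873
theorem D58585 : act 1 n27873 = n58585 := rfl
theorem F92560 : act 1 n58585 = n39539 := d15_1 D58585 (iv7 F92538) F92537
theorem F92561 : act 5 n58585 = n45239 := d21_2 D39539 (iv1 F92560) (iv6 D45239) (iv1 D21583) (iv6 D10310) D10309 (iv1 F33663) (iv5 D21432) D21433 F59766
def n58586 : Q := act 4 n27873
theorem D58586 : act 4 n27873 = n58586 := rfl
def n58588 : Q := act 0 n27874
theorem D58588 : act 0 n27874 = n58588 := rfl
def n58589 : Q := act 1 n27874
theorem D58589 : act 1 n27874 = n58589 := rfl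
theorem F92563 : act 4 n55733 = n58589 := d20_6 D17968 (iv1 F30351) F30344 D36747 F59707 (iv3 F88169) (iv1 D58589) F45002 F22093 (iv1 F13716)
theorem F92564 : act 6 n58589 = n38891 := d10_2 D55733 F92563 F59924
theorem F92565 : act 2 n38932 = n58589 := d3_3 F92564 F89174 D38932
theorem F92566 : act 5 n58589 = n37358 := d21_6 D17927 F29095 F17730 D18477 D38891 (iv6 F92564) (iv1 D37358) (iv5 D17937) (iv6 D8462) D8459
def n58590 : Q := act 5 n27874
theorem D58590 : act 5 n27874 = n58590 := rfl
def n58595 : Q := act 6 n27875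
theorem D58595 : act 6 n27875 = n58595 := rfl
def n58599 : Q := act 5 n27876
theorem D58599 : act 5 n27876 = n58599 := rfl
def n58601 : Q := act 2 n27877
theorem D58601 : act 2 n27877 = n58601 := rfl
theorem F92569 : act 7 n27878 = n58601 := d15_2 (iv0 D27877) D27878 (iv2 D58601)
def n58602 : Q := act 3 n27877
theorem D58602 : act 3 n27877 = n58602 := rfl
theorem F92570 : act 4 n58602 = n58398 := d20_6 F5859 (iv1 F4237) D6306 D13292 D27877 D58602 (iv1 D58398) (iv4 D27794) (iv3 D13264) (iv1 F9809)
def n58603 : Q := act 4 n27877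
theorem D58603 : act 4 n27877 = n58603 := rfl
def n58604 : Q := act 5 n27877
theorem D58604 : act 5 n27877 = n58604 := rfl
def n58607 : Q := act 3 n27878
theorem D58607 : act 3 n27878 = n58607 := rfl
theorem F92572 : act 4 n58337 = n58607 := d20_2 D27779 D58337 (iv3 D58607) (iv1 D27878) (iv3 D13292) (iv4 D6306) (iv1 D2642) (iv4 F4236) (iv3 F9802) D13259
theorem F92573 : act 4 n58353 = n39710 := d20_0 (iv1 F92436) F92434 F44968 (iv1 F45007) D58607 (iv4 F92572) (iv1 F92206) (iv4 D27784) D27783 D58353
theorem F92574 : act 3 n58353 = n39335 := d20_3 (iv4 F30036) D39710 (iv4 F92573) (iv1 D39335) (iv3 D18654) D18655 D39341 F60598 (iv3 D39753) (iv1 D18799)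
def n58608 : Q := act 4 n27878
theorem D58608 : act 4 n27878 = n58608 := rfl
def n58611 : Q := act 5 n27879
theorem D58611 : act 5 n27879 = n58611 := rfl
theorem F92575 : act 2 n58611 = n27880 := d2_1 D58611 (iv5 D27880) D27879
theorem F92576 : act 3 n58611 = n39757 := d6_1 D58611 (iv5 D39757) (iv3 F45004)
theorem F92577 : act 7 n58611 = n39601 := d13_2 (iv7 F45005) D58611 (iv5 D39601)
theorem F92578 : act 1 n39604 = n58611 := d15_1 D39604 F92577 F60471
theorem F92579 : act 1 n58611 = n39603 := d15_0 (iv0 D39603) (iv7 F45010) (iv2 F92575)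
def n58612 : Q := act 6 n27879
theorem D58612 : act 6 n27879 = n58612 := rfl
theorem F92580 : act 2 n58612 = n27881 := d3_1 D58612 (iv6 D27881) D27879
theorem F92581 : act 3 n58612 = n39758 := d7_1 D58612 (iv6 D39758) (iv3 F45004)
def n58613 : Q := act 0 n27880
theorem D58613 : act 0 n27880 = n58613 := rfl
theorem F92582 : act 1 n39601 = n58613 := d15_0 (iv0 D58613) F45010 (iv2 F60471)
def n58614 : Q := act 1 n27880
theorem D58614 : act 1 n27880 = n58614 := rfl
theorem F92583 : act 1 n58614 = n39601 := d15_1 D58614 (iv7 F92577) F92575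
def n58615 : Q := act 4 n27880
theorem D58615 : act 4 n27880 = n58615 := rfl
theorem F92584 : act 7 n58615 = n39605 := d11_2 (iv7 F45010) D58615 (iv4 D39605)
def n58616 : Q := act 6 n27880
theorem D58616 : act 6 n27880 = n58616 := rfl
theorem F92585 : act 3 n58616 = n27883 := d7_1 D58616 (iv6 D27883) (iv3 F45009)
def n58617 : Q := act 0 n27881
theorem D58617 : act 0 n27881 = n58617 := rfl
def n58618 : Q := act 1 n27881
theorem D58618 : act 1 n27881 = n58618 := rfl
def n58619 : Q := act 5 n27881
theorem D58619 : act 5 n27881 = n58619 := rfl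
theorem F92586 : act 3 n58619 = n27884 := d6_1 D58619 (iv5 D27884) (iv3 F45011)
def n58620 : Q := act 3 n27882
theorem D58620 : act 3 n27882 = n58620 := rfl
def n58621 : Q := act 6 n27882
theorem D58621 : act 6 n27882 = n58621 := rfl
theorem F92588 : act 2 n58621 = n39768 := d3_1 D58621 (iv6 D39768) (iv2 F45012)
theorem F92589 : act 4 n58621 = n27883 := d10_1 D58621 (iv6 D27883) D27882
def n58622 : Q := act 0 n27883
theorem D58622 : act 0 n27883 = n58622 := rfl
def n58623 : Q := act 5 n27883
theorem D58623 : act 5 n27883 = n58623 := rfl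
theorem F92590 : act 2 n58623 = n39770 := d2_1 D58623 (iv5 D39770) (iv2 F45014)
theorem F92591 : act 6 n58623 = n27884 := d12_2 D27883 D58623 (iv5 D27884) (iv6 D13294) D13293
def n58624 : Q := act 7 n27883
theorem D58624 : act 7 n27883 = n58624 := rfl
theorem F92592 : act 2 n58624 = n39771 := d4_1 D58624 (iv7 D39771) (iv2 F45014)
theorem F92594 : act 1 n39771 = n58622 := d15_0 (iv0 D58622) D58624 F92592
theorem F92595 : act 1 n32874 = n58624 := d15_1 (iv0 F52046) (iv7 D58624) F45014
theorem F92596 : act 7 n58622 = n32874 := d15_2 F86114 F92594 (iv2 F86111)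
theorem F92597 : act 5 n32946 = n58622 := d13_3 F92596 F52045 D32946
theorem F92598 : act 2 n58622 = n39769 := d15_3 (iv0 D39769) (iv0 F52046) (iv7 F92596)
theorem F92599 : act 5 n39769 = n54512 := d2_2 F92597 F92598 F86115
theorem F92600 : act 7 n39769 = n54511 := d4_2 (iv7 F92596) F92598 F86111
theorem F92601 : act 1 n58624 = n39769 := d15_1 F92595 F92600 F86111
def n58625 : Q := act 4 n27884
theorem D58625 : act 4 n27884 = n58625 := rfl
theorem F92603 : act 5 n58625 = n39772 := d16_1 D58625 (iv4 D39772) (iv5 D18807) F13686 D8815 (iv4 F30062) (iv5 F57626) F57625 (iv2 F45015)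
theorem F92605 : act 1 n58625 = n54730 := d18_6 (iv1 F30350) (iv4 D17980) (iv1 F13696) (iv4 F22098) D27884 D58625 (iv4 D54730) F60380 F60379
def n58626 : Q := act 3 n27885
theorem D58626 : act 3 n27885 = n58626 := rfl
theorem F92606 : act 7 n58626 = n27909 := d8_2 (iv7 F45019) D58626 (iv3 D27909)
def n58637 : Q := act 4 n27888
theorem D58637 : act 4 n27888 = n58637 := rfl
theorem F92609 : act 2 n58637 = n27889 := d1_1 D58637 (iv4 D27889) D27888
theorem F92610 : act 7 n58637 = n39822 := d11_2 (iv7 F45024) D58637 (iv4 D39822)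
theorem F92611 : act 1 n39826 = n58637 := d15_1 D39826 F92610 F60641
theorem F92612 : act 1 n58637 = n39825 := d15_0 (iv0 D39825) (iv7 F45028) (iv2 F92609)
def n58638 : Q := act 5 n27888
theorem D58638 : act 5 n27888 = n58638 := rfl
theorem F92613 : act 2 n58638 = n27890 := d2_1 D58638 (iv5 D27890) D27888
theorem F92614 : act 3 n58638 = n39794 := d6_1 D58638 (iv5 D39794) (iv3 F45023)
theorem F92615 : act 7 n58638 = n39823 := d13_2 (iv7 F45024) D58638 (iv5 D39823)
theorem F92616 : act 1 n39830 = n58638 := d15_1 D39830 F92615 F60642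
theorem F92617 : act 1 n58638 = n39829 := d15_0 (iv0 D39829) (iv7 F45030) (iv2 F92613)
def n58639 : Q := act 6 n27888
theorem D58639 : act 6 n27888 = n58639 := rfl
theorem F92618 : act 2 n58639 = n27891 := d3_1 D58639 (iv6 D27891) D27888
def n58640 : Q := act 0 n27889
theorem D58640 : act 0 n27889 = n58640 := rfl
theorem F92620 : act 1 n39822 = n58640 := d15_0 (iv0 D58640) F45028 (iv2 F60641)
def n58641 : Q := act 1 n27889
theorem D58641 : act 1 n27889 = n58641 := rfl
theorem F92621 : act 1 n58641 = n39822 := d15_1 D58641 (iv7 F92610) F92609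
def n58642 : Q := act 5 n27889
theorem D58642 : act 5 n27889 = n58642 := rfl
theorem F92622 : act 7 n58642 = n39827 := d13_2 (iv7 F45028) D58642 (iv5 D39827)
def n58643 : Q := act 6 n27889
theorem D58643 : act 6 n27889 = n58643 := rfl
theorem F92623 : act 4 n58643 = n27891 := d10_1 D58643 (iv6 D27891) D27889
def n58645 : Q := act 1 n27890
theorem D58645 : act 1 n27890 = n58645 := rfl
theorem F92625 : act 1 n58645 = n39823 := d15_1 D58645 (iv7 F92615) F92613
def n58646 : Q := act 4 n27890
theorem D58646 : act 4 n27890 = n58646 := rfl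
theorem F92626 : act 7 n58646 = n39831 := d11_2 (iv7 F45030) D58646 (iv4 D39831)
def n58647 : Q := act 6 n27890
theorem D58647 : act 6 n27890 = n58647 := rfl
theorem F92627 : act 3 n58647 = n27894 := d7_1 D58647 (iv6 D27894) (iv3 F45029)
def n58648 : Q := act 0 n27891
theorem D58648 : act 0 n27891 = n58648 := rfl
def n58649 : Q := act 1 n27891
theorem D58649 : act 1 n27891 = n58649 := rfl
def n58650 : Q := act 3 n27892
theorem D58650 : act 3 n27892 = n58650 := rfl
theorem F92630 : act 7 n58650 = n39020 := d8_2 (iv7 F45033) D58650 F60028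
def n58651 : Q := act 4 n27892
theorem D58651 : act 4 n27892 = n58651 := rfl
theorem F92631 : act 2 n58651 = n39807 := d1_1 D58651 (iv4 D39807) (iv2 F45035)
theorem F92632 : act 6 n58651 = n35844 := d10_2 (iv6 F45036) D58651 F88492
theorem F92633 : act 7 n58651 = n39026 := d11_2 (iv7 F45033) D58651 F60037
theorem F92634 : act 0 n58651 = n33911 := d18_2 (iv1 F45032) D58651 (iv4 D33911) (iv5 D16393) (iv4 D7606) (iv0 D3454) (iv4 F4243) D6310 D13304
theorem F92635 : act 1 n58651 = n33961 := d18_6 D17732 F41674 (iv1 F53263) F53262 F45034 D58651 (iv4 D33961) F28961 (iv5 D17734)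
def n58652 : Q := act 1 n27893
theorem D58652 : act 1 n27893 = n58652 := rfl
theorem F92636 : act 1 n58652 = n27901 := d15_1 D58652 F45052 (iv2 F45037)
theorem F92637 : act 7 n58652 = n36786 := d15_2 (iv0 F56361) D58652 F57696
theorem F92638 : act 4 n58652 = n36787 := d18_7 (iv1 D8917) (iv4 F7644) D11198 F37195 D13299 D27893 D58652 F57704 (iv5 D19044)
theorem F92639 : act 2 n39808 = n58652 := d1_3 F92638 F57700 (iv4 F60635)
theorem F92640 : act 6 n39890 = n58652 := d10_0 F92638 F57702 F60703
def n58653 : Q := act 3 n27893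
theorem D58653 : act 3 n27893 = n58653 := rfl
theorem F92641 : act 7 n58653 = n39835 := d8_2 (iv7 F45038) D58653 (iv3 D39835)
def n58654 : Q := act 5 n27893
theorem D58654 : act 5 n27893 = n58654 := rfl
theorem F92644 : act 4 n58654 = n32285 := d16_2 D27893 D58654 F77403 (iv4 D49036) (iv5 D23920) F37327 D13304 F44654 (iv2 F44663)
theorem F92645 : act 1 n58654 = n35819 := d17_6 (iv1 D13307) (iv5 D6311) D6309 D13299 D27893 D58654 (iv5 D35819) (iv0 F45063) (iv4 D27906)
def n58655 : Q := act 6 n27893
theorem D58655 : act 6 n27893 = n58655 := rfl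
theorem F92646 : act 2 n58655 = n39811 := d3_1 D58655 (iv6 D39811) (iv2 F45037)
theorem F92647 : act 4 n58655 = n27894 := d10_1 D58655 (iv6 D27894) D27893
theorem F92648 : act 1 n39257 = n58655 := d18_6 F44640 (iv4 F60237) (iv1 F60700) (iv4 D36459) (iv5 F43793) (iv4 F60215) F92647 (iv0 F91864) (iv5 D58086)
def n58657 : Q := act 3 n27895
theorem D58657 : act 3 n27895 = n58657 := rfl
def n58658 : Q := act 4 n27895
theorem D58658 : act 4 n27895 = n58658 := rfl
def n58666 : Q := act 4 n27897
theorem D58666 : act 4 n27897 = n58666 := rfl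
theorem F92651 : act 2 n58666 = n27898 := d1_1 D58666 (iv4 D27898) D27897
theorem F92652 : act 7 n58666 = n39793 := d11_2 (iv7 F45043) D58666 (iv4 D39793)
theorem F92653 : act 1 n39797 = n58666 := d15_1 D39797 F92652 F60625
theorem F92654 : act 1 n58666 = n39796 := d15_0 (iv0 D39796) (iv7 F45047) (iv2 F92651)
def n58667 : Q := act 5 n27897
theorem D58667 : act 5 n27897 = n58667 := rfl
theorem F92655 : act 2 n58667 = n27899 := d2_1 D58667 (iv5 D27899) D27897
theorem F92657 : act 7 n58667 = n39794 := d13_2 (iv7 F45043) D58667 (iv5 D39794)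
theorem F92658 : act 1 n39801 = n58667 := d15_1 D39801 F92657 F60626
def n58668 : Q := act 6 n27897
theorem D58668 : act 6 n27897 = n58668 := rfl
theorem F92661 : act 3 n58668 = n39824 := d7_1 D58668 (iv6 D39824) (iv3 F45042)
def n58669 : Q := act 0 n27898
theorem D58669 : act 0 n27898 = n58669 := rfl
theorem F92662 : act 1 n39793 = n58669 := d15_0 (iv0 D58669) F45047 (iv2 F60625)
def n58670 : Q := act 1 n27898
theorem D58670 : act 1 n27898 = n58670 := rfl
theorem F92663 : act 1 n58670 = n39793 := d15_1 D58670 (iv7 F92652) F92651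
def n58671 : Q := act 5 n27898
theorem D58671 : act 5 n27898 = n58671 := rfl
theorem F92664 : act 7 n58671 = n39798 := d13_2 (iv7 F45047) D58671 (iv5 D39798)
def n58672 : Q := act 6 n27898
theorem D58672 : act 6 n27898 = n58672 := rfl
theorem F92665 : act 4 n58672 = n27900 := d10_1 D58672 (iv6 D27900) D27898
def n58673 : Q := act 0 n27899
theorem D58673 : act 0 n27899 = n58673 := rfl
theorem F92666 : act 1 n39794 = n58673 := d15_0 (iv0 D58673) F45049 (iv2 F60626)
def n58674 : Q := act 1 n27899
theorem D58674 : act 1 n27899 = n58674 := rfl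
theorem F92667 : act 1 n58674 = n39794 := d15_1 D58674 (iv7 F92657) F92655
def n58675 : Q := act 4 n27899
theorem D58675 : act 4 n27899 = n58675 := rfl
theorem F92668 : act 7 n58675 = n39802 := d11_2 (iv7 F45049) D58675 (iv4 D39802)
def n58676 : Q := act 0 n27900
theorem D58676 : act 0 n27900 = n58676 := rfl
def n58677 : Q := act 1 n27900
theorem D58677 : act 1 n27900 = n58677 := rfl
def n58678 : Q := act 3 n27901
theorem D58678 : act 3 n27901 = n58678 := rfl
theorem F92669 : act 7 n58678 = n39809 := d8_2 (iv7 F45052) D58678 (iv3 D39809)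
def n58679 : Q := act 5 n27901
theorem D58679 : act 5 n27901 = n58679 := rfl
theorem F92671 : act 4 n58679 = n32284 := d9_1 D58679 (iv5 F77383) (iv4 D49028) (iv5 D23916) F37195 D13299 D27893 D58654 F92644 F77403 (iv4 D49036) (iv5 D23920) F37327 D13304 D27901
theorem F92673 : act 0 n58679 = n35819 := d17_2 (iv1 F56362) D58679 (iv5 D35819) F28285 F12891 D8917 D19044 (iv0 F30549) (iv4 F56360)
theorem E8736 : n43115 = n35767 := ((c21_5 (iv5 F22112) F22113 F21407 D17332 D35767 F67509 D58679 F92673 (iv5 D35819) (iv6 D17351) (iv1 F13802))).symm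
theorem F92675 : act 4 n35767 = n20339 := (sb E8736 (iv4 D43115))
theorem F92676 : act 6 n35767 = n27901 := (sb E8736 F67509)
theorem F92677 : act 7 n35767 = n35882 := (sb E8736 F67510)
theorem E8737 : n43117 = n35768 := (c15_4 F88415 F88416 F92677 (iv2 F67522))
theorem F92678 : act 2 n35768 = n35882 := (sb E8737 F67522)
theorem F92679 : act 4 n35768 = n20340 := (sb E8737 (iv4 D43117))
theorem F92680 : act 7 n35768 = n35879 := (sb E8737 F67523)
theorem E8738 : n37170 = n37125 := (c18_2 (iv1 F29054) D37170 (iv1 D37125) F29025 F13218 (iv4 F28271) D35768 F92679 F32276 (iv5 F29051))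
theorem F92682 : act 4 n37125 = n17875 := (sb E8738 (iv4 D37170))
theorem F92684 : act 7 n37125 = n37101 := (sb E8738 (iv7 F67519))
theorem E8739 : n37167 = n37124 := (c15_4 (iv0 D37124) D37125 F92684 F67517)
theorem F92685 : act 2 n37124 = n37101 := (sb E8739 (iv2 F67517))
theorem F92686 : act 4 n37124 = n17874 := (sb E8739 (iv4 D37167))
def n58680 : Q := act 1 n27902
theorem D58680 : act 1 n27902 = n58680 := rfl
theorem F92688 : act 7 n58680 = n39691 := d15_2 F92392 D58680 (iv2 F92390)
theorem F92690 : act 2 n58680 = n39847 := d15_3 (iv0 D39847) (iv0 F91461) (iv7 F92688)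
theorem F92692 : act 7 n39847 = n58487 := d4_2 (iv7 F92688) F92690 F92390
def n58681 : Q := act 2 n27902
theorem D58681 : act 2 n27902 = n58681 := rfl
theorem F92694 : act 3 n58681 = n39839 := d0_2 D27902 D58681 (iv2 D39839) (iv3 D18852) (iv2 F43194)
theorem F92695 : act 7 n58681 = n39849 := d4_2 (iv7 F45053) D58681 (iv2 D39849)
theorem F92696 : act 1 n58681 = n39847 := d15_0 (iv0 D39847) (iv7 F45053) D58681
theorem F92697 : act 1 n39691 = n58681 := d15_0 F92696 F92692 F92390
def n58682 : Q := act 4 n27902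
theorem D58682 : act 4 n27902 = n58682 := rfl
theorem F92698 : act 7 n58682 = n39850 := d11_2 (iv7 F45053) D58682 (iv4 D39850)
def n58683 : Q := act 6 n27902
theorem D58683 : act 6 n27902 = n58683 := rfl
theorem F92699 : act 3 n58683 = n27904 := d7_1 D58683 (iv6 D27904) D27902
theorem F92700 : act 5 n58683 = n35905 := d12_1 D58683 (iv6 F91825) F91824 (iv6 F87890) F87889
def n58684 : Q := act 3 n27903
theorem D58684 : act 3 n27903 = n58684 := rfl
theorem F92701 : act 7 n58684 = n39851 := d8_2 (iv7 F45055) D58684 (iv3 D39851)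
def n58685 : Q := act 5 n27903
theorem D58685 : act 5 n27903 = n58685 := rfl
theorem F92703 : act 7 n58685 = n39852 := d13_2 (iv7 F45055) D58685 (iv5 D39852)
theorem F92704 : act 4 n58685 = n32282 := d16_2 D27903 D58685 (iv5 D32282) F37328 (iv5 F37194) F27578 F22107 F43154 (iv2 F43194)
def n58686 : Q := act 6 n27903
theorem D58686 : act 6 n27903 = n58686 := rfl
theorem F92705 : act 2 n58686 = n39844 := d3_1 D58686 (iv6 D39844) (iv2 F45054)
def n58687 : Q := act 0 n27904
theorem D58687 : act 0 n27904 = n58687 := rfl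
theorem F92707 : act 6 n58687 = n27919 := d21_5 F29707 (iv1 F43220) F43217 D27904 D58687 (iv5 F60724) F60725 F55893 (iv6 D18835) F29713
theorem F92708 : act 5 n58687 = n39846 := d21_0 (iv1 D39846) F43557 (iv6 F43556) (iv1 D18526) D18528 F29707 (iv1 F43220) F43217 D27904 D58687
theorem F92709 : act 1 n35904 = n58687 := d15_0 (iv0 D58687) (iv7 F88562) F88560
def n58688 : Q := act 1 n27904
theorem D58688 : act 1 n27904 = n58688 := rfl
theorem F92710 : act 1 n58688 = n35904 := d15_1 D58688 F56561 (iv2 F45057)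
theorem F92711 : act 5 n39845 = n58688 := d21_0 (iv1 D58688) F45058 (iv6 F44624) (iv1 D27684) (iv6 F29149) (iv5 D17983) (iv1 F43155) F43156 D18854 D39845
def n58689 : Q := act 0 n27905
theorem D58689 : act 0 n27905 = n58689 := rfl
theorem F92712 : act 1 n39839 = n58689 := d15_0 (iv0 D58689) F45060 D39839
def n58690 : Q := act 2 n27905
theorem D58690 : act 2 n27905 = n58690 := rfl
theorem F92713 : act 3 n58690 = n39849 := d0_2 D27905 D58690 (iv2 D39849) (iv3 D18856) (iv2 F43153)
theorem F92714 : act 5 n58690 = n34725 := d2_2 (iv5 F45059) D58690 F54962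
theorem F92715 : act 7 n58690 = n39839 := d4_2 (iv7 F45060) D58690 (iv2 D39839)
theorem F92716 : act 1 n58690 = n39837 := d15_0 (iv0 D39837) (iv7 F45060) D58690
theorem F92717 : act 1 n58572 = n39839 := d15_1 (iv0 F92529) (iv7 F92715) (iv2 D58690)
theorem F92718 : act 7 n58689 = n39520 := d15_2 F92717 F92712 (iv2 F92528)
theorem E8740 : n39837 = n39520 := ((c21_7 F59776 (iv1 D13288) F13662 (iv6 D8786) D8781 D18720 D39520 (iv1 F92716) F92714 (iv6 D34725) (iv1 F43226))).symm
theorem F92720 : act 0 n39520 = n58690 := (sb E8740 (iv1 F92716))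
theorem F92721 : act 1 n39520 = n18852 := (sb E8740 (iv0 D39837))
theorem F92722 : act 7 n39838 = n58572 := d15_2 F92721 D39838 F92528
theorem F92723 : act 2 n58689 = n39838 := d4_3 F92722 F92528 (iv7 F92718)
theorem F92725 : act 1 n39838 = n58690 := d15_0 (iv0 F92720) (iv7 F92718) F92723
def n58691 : Q := act 4 n27905
theorem D58691 : act 4 n27905 = n58691 := rfl
theorem F92726 : act 7 n58691 = n39840 := d11_2 (iv7 F45060) D58691 (iv4 D39840)
def n58692 : Q := act 3 n27906
theorem D58692 : act 3 n27906 = n58692 := rfl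
theorem F92727 : act 7 n58692 = n39842 := d8_2 (iv7 F45062) D58692 (iv3 D39842)
def n58693 : Q := act 5 n27906
theorem D58693 : act 5 n27906 = n58693 := rfl
theorem F92728 : act 2 n58693 = n39852 := d2_1 D58693 (iv5 D39852) (iv2 F45061)
theorem F92729 : act 4 n58693 = n32279 := d9_1 D58693 (iv5 D32279) F41661 (iv5 F57683) F57684 F43217 D27903 D58685 F92704 (iv5 D32282) F37328 (iv5 F37194) F27578 F22107 D27906
theorem F92730 : act 7 n58693 = n39843 := d13_2 (iv7 F45062) D58693 (iv5 D39843)
def n58694 : Q := act 3 n27907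
theorem D58694 : act 3 n27907 = n58694 := rfl
theorem F92731 : act 7 n58694 = n39856 := d8_2 (iv7 F51272) D58694 (iv3 D39856)
def n58695 : Q := act 5 n27907
theorem D58695 : act 5 n27907 = n58695 := rfl
theorem F92732 : act 2 n58695 = n39854 := d2_1 D58695 (iv5 D39854) (iv2 F51274)
theorem F92733 : act 7 n58695 = n39857 := d13_2 (iv7 F51272) D58695 (iv5 D39857)
theorem F92734 : act 4 n58695 = n32320 := d16_2 (iv4 F45065) D58695 (iv5 D32320) (iv4 D15232) D15233 F28963 F28208 F51265 (iv2 F51268)
def n58696 : Q := act 6 n27907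
theorem D58696 : act 6 n27907 = n58696 := rfl
theorem F92735 : act 2 n58696 = n39855 := d3_1 D58696 (iv6 D39855) (iv2 F51274)
theorem F92736 : act 4 n58696 = n35629 := d10_1 D58696 (iv6 D35629) (iv4 F45065)
def n58697 : Q := act 3 n27908
theorem D58697 : act 3 n27908 = n58697 := rfl
theorem F92737 : act 7 n58697 = n39853 := d8_2 F51275 D58697 (iv3 D39853)
def n58698 : Q := act 5 n27908
theorem D58698 : act 5 n27908 = n58698 := rfl
theorem F92738 : act 2 n58698 = n39857 := d2_1 D58698 (iv5 D39857) F51273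
theorem F92739 : act 4 n58698 = n32303 := d9_1 D58698 (iv5 D32303) (iv4 D15227) D15228 F43898 F43897 (iv4 F45065) D58695 F92734 (iv5 D32320) (iv4 D15232) D15233 F28963 F28208 (iv4 F45068)
theorem F92740 : act 7 n58698 = n39854 := d13_2 F51275 D58698 (iv5 D39854)
def n58699 : Q := act 0 n27909
theorem D58699 : act 0 n27909 = n58699 := rfl
def n58700 : Q := act 1 n27909
theorem D58700 : act 1 n27909 = n58700 := rfl
def n58701 : Q := act 2 n27909
theorem D58701 : act 2 n27909 = n58701 := rfl
theorem F92741 : act 3 n58701 = n39860 := d0_2 D27909 D58701 (iv2 D39860) (iv3 D18861) (iv2 F22108)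
theorem F92742 : act 6 n58701 = n27922 := d3_2 (iv6 F45069) D58701 (iv2 D27922)
def n58702 : Q := act 5 n27909
theorem D58702 : act 5 n27909 = n58702 := rfl
theorem F92743 : act 3 n58702 = n27910 := d6_1 D58702 (iv5 D27910) D27909
def n58703 : Q := act 0 n27910
theorem D58703 : act 0 n27910 = n58703 := rfl
theorem F92744 : act 5 n58703 = n33911 := d17_3 (iv1 D27908) D27910 D58703 (iv4 D33911) (iv5 D16393) F28953 D8095 D17265 (iv4 F45068)
theorem F92745 : act 4 n58703 = n33963 := d18_3 (iv1 F85638) F85635 D58703 (iv5 D33963) (iv4 D16415) F25894 D33914 (iv0 F77384) F77383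
theorem F92746 : act 1 n32286 = n58703 := d15_0 (iv0 D58703) F85632 F85628
theorem F92747 : act 2 n39862 = n58703 := d1_3 F92745 (iv2 F87339) F87340
def n58704 : Q := act 1 n27910
theorem D58704 : act 1 n27910 = n58704 := rfl
theorem F92749 : act 1 n58704 = n32286 := d15_1 D58704 (iv7 F51196) (iv2 F45070)
theorem F92751 : act 5 n58704 = n33961 := d17_7 F29151 (iv5 D13304) (iv1 D6310) D6311 D13308 D27910 D58704 (iv0 F58350) (iv4 D37451)
theorem F92752 : act 4 n58704 = n33922 := d18_7 (iv1 F51204) (iv4 D15227) (iv1 F20717) (iv4 F41656) (iv5 F85636) F85635 D58704 F53276 (iv5 D28477)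
theorem E8741 : n55891 = n43110 := ((c21_5 D12907 F21432 (iv5 F14990) D20338 D43110 F88420 (iv5 F92751) (iv1 D58704) (iv5 D27910) F22109 F9832)).symm
theorem F92754 : act 4 n43110 = n26959 := (sb E8741 (iv4 D55891))
theorem F92755 : act 6 n43110 = n33961 := (sb E8741 F88420)
theorem F92756 : act 7 n43110 = n35775 := (sb E8741 F88421)
theorem E8742 : n55893 = n43111 := (c15_4 F67491 F67497 F92756 (iv2 F88423))
theorem F92757 : act 2 n43111 = n35775 := (sb E8742 F88423)
theorem F92758 : act 4 n43111 = n26960 := (sb E8742 (iv4 D55893))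
theorem F92759 : act 7 n43111 = n35772 := (sb E8742 F88424)
theorem E8743 : n37139 = n37108 := ((c18_2 (iv1 F29031) D37108 (iv1 D37139) F29034 (iv5 F14994) (iv4 F32274) D43111 F92758 F43499 (iv5 F29028))).symm
theorem F92760 : act 0 n37108 = n17866 := (sb E8743 (iv1 D37139))
theorem F92761 : act 1 n37108 = n37150 := (sb E8743 F58099)
theorem E8744 : n37138 = n37106 := (c15_2 F92761 F58100 (iv7 F58075) F58074)
theorem F92762 : act 0 n37106 = n37150 := (sb E8744 (iv1 F58100))
theorem F92763 : act 1 n37106 = n17866 := (sb E8744 (iv0 D37138))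
def n58705 : Q := act 0 n27911
theorem D58705 : act 0 n27911 = n58705 := rfl
theorem F92765 : act 1 n39875 = n58705 := d15_0 (iv0 D58705) F45072 D39875
def n58706 : Q := act 1 n27911
theorem D58706 : act 1 n27911 = n58706 := rfl
def n58707 : Q := act 2 n27911
theorem D58707 : act 2 n27911 = n58707 := rfl
theorem F92766 : act 3 n58707 = n39887 := d0_2 D27911 D58707 (iv2 D39887) (iv3 D18870) (iv2 F22110)
theorem F92767 : act 5 n58707 = n39973 := d2_2 (iv5 F45071) D58707 (iv2 D39973)
theorem F92768 : act 7 n58707 = n39875 := d4_2 (iv7 F45072) D58707 (iv2 D39875)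
theorem F92769 : act 1 n58707 = n39873 := d15_0 (iv0 D39873) (iv7 F45072) D58707
theorem F92770 : act 1 n58706 = n39875 := d15_1 D58706 (iv7 F92768) (iv2 D58707)
theorem F92771 : act 1 n39874 = n58707 := d15_1 D39874 F92768 (iv2 D39875)
def n58708 : Q := act 6 n27911
theorem D58708 : act 6 n27911 = n58708 := rfl
theorem F92772 : act 3 n58708 = n27912 := d7_1 D58708 (iv6 D27912) D27911
def n58709 : Q := act 3 n27913
theorem D58709 : act 3 n27913 = n58709 := rfl
theorem F92773 : act 5 n58709 = n39249 := d6_2 F45077 D58709 F60207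
theorem F92774 : act 6 n58709 = n39806 := d7_2 F45078 D58709 (iv3 D39806)
theorem F92775 : act 7 n58709 = n39047 := d8_2 (iv7 F45076) D58709 F60046
def n58710 : Q := act 3 n27914
theorem D58710 : act 3 n27914 = n58710 := rfl
theorem F92776 : act 4 n58710 = n27916 := d5_2 D27914 D58710 (iv3 D27916) (iv4 D13312) D13311
theorem F92777 : act 7 n58710 = n34428 := d8_2 (iv7 F45080) D58710 (iv3 D34428)
def n58711 : Q := act 5 n27914
theorem D58711 : act 5 n27914 = n58711 := rfl
theorem F92778 : act 2 n58711 = n40481 := d2_1 D58711 F70736 (iv2 F70735)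
theorem F92779 : act 4 n58711 = n40449 := d9_1 D58711 (iv5 D40449) (iv4 D19117) (iv5 D8964) (iv4 F12249) D16691 D34420 (iv5 F76413) (iv4 D48550) (iv5 D23684) (iv4 D11090) F7521 (iv4 F12252) (iv5 F22116) D27914
theorem F92780 : act 7 n58711 = n34429 := d13_2 (iv7 F45080) D58711 (iv5 D34429)
def n58712 : Q := act 6 n27914
theorem D58712 : act 6 n27914 = n58712 := rfl
def n58713 : Q := act 0 n27915
theorem D58713 : act 0 n27915 = n58713 := rfl
def n58714 : Q := act 1 n27915
theorem D58714 : act 1 n27915 = n58714 := rfl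
def n58715 : Q := act 0 n27916
theorem D58715 : act 0 n27916 = n58715 := rfl
theorem F92782 : act 1 n34432 = n58715 := d15_0 (iv0 D58715) F45085 D34432
def n58716 : Q := act 1 n27916
theorem D58716 : act 1 n27916 = n58716 := rfl
def n58717 : Q := act 2 n27916
theorem D58717 : act 2 n27916 = n58717 := rfl
theorem F92783 : act 3 n58717 = n39902 := d0_2 D27916 D58717 (iv2 D39902) (iv3 D18875) (iv2 F22119)
theorem F92784 : act 5 n58717 = n34450 := d2_2 (iv5 F45084) D58717 (iv2 D34450)
theorem F92785 : act 7 n58717 = n34432 := d4_2 (iv7 F45085) D58717 (iv2 D34432)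
theorem F92786 : act 1 n58717 = n34430 := d15_0 (iv0 D34430) (iv7 F45085) D58717
theorem F92787 : act 1 n58716 = n34432 := d15_1 D58716 (iv7 F92785) (iv2 D58717)
theorem F92788 : act 1 n34431 = n58717 := d15_1 D34431 F92785 (iv2 D34432)
def n58718 : Q := act 6 n27916
theorem D58718 : act 6 n27916 = n58718 := rfl
theorem F92789 : act 3 n58718 = n27917 := d7_1 D58718 (iv6 D27917) D27916
def n58719 : Q := act 2 n27918
theorem D58719 : act 2 n27918 = n58719 := rfl
theorem F92790 : act 7 n27919 = n58719 := d15_2 (iv0 D27918) D27919 (iv2 D58719)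
def n58720 : Q := act 3 n27918
theorem D58720 : act 3 n27918 = n58720 := rfl
def n58721 : Q := act 5 n27918
theorem D58721 : act 5 n27918 = n58721 := rfl
theorem F92791 : act 6 n58721 = n58688 := d12_2 F60728 D58721 (iv5 F92711) F60729 D39915
theorem F92792 : act 0 n35162 = n58721 := d21_10 (iv5 D58721) (iv1 F45088) F30123 (iv6 D18630) (iv1 F22043) D27747 F44787 F29726 F28005 D35162
def n58722 : Q := act 7 n27918
theorem D58722 : act 7 n27918 = n58722 := rfl
theorem F92793 : act 2 n58722 = n27919 := d4_1 D58722 F92790 (iv2 D58719)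
def n58723 : Q := act 3 n27919
theorem D58723 : act 3 n27919 = n58723 := rfl
def n58724 : Q := act 2 n27920
theorem D58724 : act 2 n27920 = n58724 := rfl
theorem F92794 : act 7 n27921 = n58724 := d15_2 (iv0 D27920) D27921 (iv2 D58724)
def n58725 : Q := act 3 n27920
theorem D58725 : act 3 n27920 = n58725 := rfl
def n58726 : Q := act 4 n27920
theorem D58726 : act 4 n27920 = n58726 := rfl
def n58727 : Q := act 5 n27920
theorem D58727 : act 5 n27920 = n58727 := rfl
def n58728 : Q := act 6 n27920
theorem D58728 : act 6 n27920 = n58728 := rfl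
def n58729 : Q := act 7 n27920
theorem D58729 : act 7 n27920 = n58729 := rfl
theorem F92795 : act 2 n58729 = n27921 := d4_1 D58729 F92794 (iv2 D58724)
def n58730 : Q := act 3 n27921
theorem D58730 : act 3 n27921 = n58730 := rfl
def n58731 : Q := act 4 n27921
theorem D58731 : act 4 n27921 = n58731 := rfl
def n58732 : Q := act 5 n27921
theorem D58732 : act 5 n27921 = n58732 := rfl
def n58733 : Q := act 6 n27921
theorem D58733 : act 6 n27921 = n58733 := rfl
def n58734 : Q := act 4 n27924
theorem D58734 : act 4 n27924 = n58734 := rfl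
theorem F92796 : act 2 n58734 = n49897 := d1_1 D58734 (iv4 D49897) (iv2 F45096)
theorem F92797 : act 5 n58734 = n30257 := d17_5 (iv1 D27928) (iv5 D13318) D13316 D27924 D58734 (iv0 D30257) (iv5 D14357) D14355 (iv4 F45108)
theorem F92798 : act 0 n58734 = n30214 := d18_2 F49675 D58734 (iv4 D30214) F23961 (iv4 F38314) (iv0 F38315) (iv4 F40105) (iv0 F40106) D31407
theorem F92799 : act 1 n58734 = n30216 := d18_6 (iv1 D3094) (iv4 F4833) D6847 (iv4 F22131) D27924 D58734 (iv4 D30216) F23965 (iv5 D6854)
def n58735 : Q := act 6 n27924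
theorem D58735 : act 6 n27924 = n58735 := rfl
theorem F92800 : act 2 n58735 = n49898 := d3_1 D58735 (iv6 D49898) (iv2 F45096)
theorem F92801 : act 3 n58735 = n51129 := d7_1 D58735 F80648 F46362
theorem F92802 : act 5 n58735 = n51123 := d12_1 D58735 (iv6 D51123) (iv5 F45100) (iv6 D27925) D27924
def n58736 : Q := act 4 n27926
theorem D58736 : act 4 n27926 = n58736 := rfl
theorem F92803 : act 7 n58736 = n49897 := d11_2 (iv7 F45104) D58736 (iv4 D49897)
theorem F92804 : act 0 n58736 = n30216 := d18_2 F80349 D58736 (iv4 D30216) (iv5 F23967) F40111 F79306 F79303 F45689 D50936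
theorem F92805 : act 1 n58736 = n30214 := d18_6 (iv1 F11088) (iv4 F20240) (iv1 F22916) F22918 D27926 D58736 (iv4 D30214) (iv0 D14343) (iv5 D6852)
theorem F92806 : act 5 n30258 = n58736 := d17_7 (iv1 F23962) (iv5 D6854) (iv1 D3094) D3095 D6858 D14357 D30258 F92805 (iv4 D30214)
def n58737 : Q := act 6 n27926
theorem D58737 : act 6 n27926 = n58737 := rfl
theorem F92807 : act 3 n58737 = n31435 := d7_1 D58737 F49729 (iv3 F45103)
def n58738 : Q := act 6 n27927
theorem D58738 : act 6 n27927 = n58738 := rfl
theorem F92808 : act 2 n58738 = n49923 := d3_1 D58738 (iv6 D49923) F45109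
theorem F92809 : act 4 n58738 = n30248 := d10_1 D58738 (iv6 D30248) (iv4 F46393)
def n58739 : Q := act 6 n27928
theorem D58739 : act 6 n27928 = n58739 := rfl
theorem F92810 : act 3 n58739 = n28243 := d7_1 D58739 F45729 (iv3 F45106)
theorem F92811 : act 4 n58739 = n30251 := d10_1 D58739 (iv6 D30251) (iv4 F45108)
theorem F92812 : act 5 n58739 = n28225 := d12_1 D58739 (iv6 D28225) (iv5 D13475) D13476 F45105
def n58740 : Q := act 3 n27929
theorem D58740 : act 3 n27929 = n58740 := rfl
theorem F92813 : act 4 n58740 = n27936 := d5_2 D27929 D58740 (iv3 D27936) (iv4 D13324) (iv3 F22134)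
theorem F92814 : act 6 n58740 = n51050 := d7_2 (iv6 F45110) D58740 (iv3 D51050)
def n58741 : Q := act 5 n27929
theorem D58741 : act 5 n27929 = n58741 := rfl
def n58742 : Q := act 6 n27930
theorem D58742 : act 6 n27930 = n58742 := rfl
theorem F92815 : act 3 n58742 = n27939 := d7_1 D58742 (iv6 D27939) (iv3 F45112)
theorem F92816 : act 5 n58742 = n58742 := d12_1 D58742 (iv6 D58742) F45113 F22138 (iv5 F45113)
theorem F92817 : act 7 n58742 = n31712 := d14_2 D27930 D58742 (iv6 D31712) F24570 (iv6 F22135)
def n58743 : Q := act 3 n27931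
theorem D58743 : act 3 n27931 = n58743 := rfl
theorem F92818 : act 4 n58743 = n52144 := d5_2 D27931 D58743 (iv3 D52144) (iv4 D25321) (iv3 F22141)
theorem F92819 : act 7 n58743 = n51146 := d8_2 (iv7 F45115) D58743 (iv3 D51146)
def n58744 : Q := act 6 n27931
theorem D58744 : act 6 n27931 = n58744 := rfl
theorem F92820 : act 2 n58744 = n49973 := d3_1 D58744 (iv6 D49973) (iv2 F45114)
theorem F92821 : act 4 n58744 = n27932 := d10_1 D58744 (iv6 D27932) D27931
theorem F92822 : act 0 n31726 = n58744 := d21_4 (iv5 F18594) (iv1 F37848) F37845 D31726 (iv6 D58744) (iv5 F78170) (iv1 D49444) (iv5 D24132) F18500 D11360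
def n58745 : Q := act 0 n27933
theorem D58745 : act 0 n27933 = n58745 := rfl
theorem F92823 : act 5 n58745 = n51180 := d21_0 (iv1 F80741) F78412 F37933 (iv1 F37964) F38195 F38191 (iv1 D14783) F22147 D27933 D58745
theorem F92824 : act 0 n58745 = n31403 := d21_1 (iv5 F92823) F49663 (iv6 F41254) (iv1 F45400) F45398 F27058 F19049 D11819 (iv6 F39043) D51180
def n58746 : Q := act 1 n27933
theorem D58746 : act 1 n27933 = n58746 := rfl
theorem F92825 : act 1 n58746 = n31403 := d15_1 D58746 (iv7 D31403) (iv2 F45119)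
theorem F92826 : act 5 n51181 = n58746 := d21_0 (iv1 D58746) F45121 (iv6 D14781) (iv1 F20542) D26071 F41238 (iv1 F50047) (iv5 F79065) F79066 (iv1 F80736)
theorem F92827 : act 6 n48847 = n51181 := d21_5 F20543 F22224 (iv5 F18117) D23818 D48847 F92826 (iv1 D58746) F45121 (iv6 D14781) (iv1 F20542)
theorem F92828 : act 6 n58746 = n28297 := d21_3 (iv5 F78412) (iv1 F80736) F92826 (iv1 F45811) (iv6 F78478) (iv5 F82335) (iv1 F82338) (iv5 F80687) F80686 (iv1 F39047)
def n58747 : Q := act 7 n27933
theorem D58747 : act 7 n27933 = n58747 := rfl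
theorem F92829 : act 2 n58747 = n31403 := d4_1 D58747 (iv7 D31403) (iv2 F45119)
theorem F92830 : act 3 n58747 = n51183 := d8_1 D58747 (iv7 D51183) (iv3 F45120)
theorem F92831 : act 5 n58747 = n31358 := d13_1 D58747 (iv7 D31358) (iv5 F45121)
theorem F92832 : act 6 n58747 = n51157 := d14_1 D58747 (iv7 D51157) (iv6 D24893) F22150 D27933
theorem F92833 : act 1 n31401 = n58747 := d15_1 D31401 (iv7 D58747) F45119
theorem F92834 : act 0 n31400 = n58747 := d21_1 (iv5 F80744) F92831 (iv6 F78425) (iv1 F78427) (iv6 F41251) (iv5 D24210) (iv1 D11370) D11371 (iv6 F37931) D49645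
def n58748 : Q := act 3 n27934
theorem D58748 : act 3 n27934 = n58748 := rfl
theorem F92835 : act 4 n58748 = n49938 := d5_2 (iv4 F45122) D58748 (iv3 D49938) F39090 F39088
theorem F92836 : act 7 n58748 = n49428 := d8_2 F45124 D58748 (iv3 D49428)
def n58749 : Q := act 5 n27934
theorem D58749 : act 5 n27934 = n58749 := rfl
theorem F92837 : act 2 n58749 = n49423 := d2_1 D58749 (iv5 D49423) F45123
theorem F92838 : act 7 n58749 = n49429 := d13_2 F45124 D58749 (iv5 D49429)
theorem F92839 : act 4 n58749 = n49429 := d16_2 (iv4 F45122) D58749 (iv5 D49429) (iv4 D24127) (iv5 F24000) F23999 (iv5 F26099) (iv7 F37496) (iv2 F37495)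
def n58750 : Q := act 6 n27934
theorem D58750 : act 6 n27934 = n58750 := rfl
theorem F92840 : act 2 n58750 = n49424 := d3_1 D58750 (iv6 D49424) F45123
theorem F92841 : act 4 n58750 = n49164 := d10_1 D58750 (iv6 D49164) (iv4 F45122)
def n58751 : Q := act 3 n27935
theorem D58751 : act 3 n27935 = n58751 := rfl
theorem F92842 : act 4 n58751 = n34080 := d5_2 (iv4 F45128) D58751 (iv3 D34080) (iv4 D16508) D16507
theorem F92843 : act 7 n58751 = n49422 := d8_2 (iv7 F45127) D58751 (iv3 D49422)
def n58752 : Q := act 5 n27935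
theorem D58752 : act 5 n27935 = n58752 := rfl
theorem F92844 : act 2 n58752 = n49429 := d2_1 D58752 (iv5 D49429) F45129
theorem F92845 : act 4 n58752 = n49423 := d9_1 D58752 (iv5 D49423) (iv4 D24124) D24125 (iv4 F48683) F48684 (iv4 F45122) D58749 F92839 (iv5 D49429) (iv4 D24127) (iv5 F24000) F23999 (iv5 F26099) (iv4 F45128)
theorem F92846 : act 7 n58752 = n49423 := d13_2 (iv7 F45127) D58752 (iv5 D49423)
def n58753 : Q := act 6 n27935
theorem D58753 : act 6 n27935 = n58753 := rfl
theorem F92847 : act 2 n58753 = n49430 := d3_1 D58753 (iv6 D49430) F45129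
theorem F92848 : act 4 n58753 = n34079 := d10_1 D58753 (iv6 D34079) (iv4 F45128)
def n58754 : Q := act 0 n27936
theorem D58754 : act 0 n27936 = n58754 := rfl
def n58755 : Q := act 1 n27936
theorem D58755 : act 1 n27936 = n58755 := rfl
def n58756 : Q := act 2 n27936
theorem D58756 : act 2 n27936 = n58756 := rfl
theorem F92849 : act 3 n58756 = n51160 := d0_2 D27936 D58756 (iv2 D51160) (iv3 D24894) (iv2 F22153)
theorem F92850 : act 6 n58756 = n51054 := d3_2 (iv6 F45130) D58756 (iv2 D51054)
def n58757 : Q := act 5 n27936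
theorem D58757 : act 5 n27936 = n58757 := rfl
theorem F92851 : act 3 n58757 = n27937 := d6_1 D58757 (iv5 D27937) D27936
def n58758 : Q := act 7 n27936
theorem D58758 : act 7 n27936 = n58758 := rfl
theorem F92852 : act 3 n58758 = n27938 := d8_1 D58758 (iv7 D27938) D27936
def n58759 : Q := act 0 n27937
theorem D58759 : act 0 n27937 = n58759 := rfl
theorem F92853 : act 5 n58759 = n49162 := d17_3 (iv1 D27935) D27937 D58759 (iv4 D49162) (iv5 D23988) (iv0 D11243) D11245 F26100 (iv4 F45128)
theorem F92854 : act 4 n58759 = n49416 := d18_1 D58759 F78150 (iv4 F78175) F78176 F37813 F37492 (iv4 F45122) (iv0 D27934) D27937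
theorem F92855 : act 1 n49445 = n58759 := d17_8 F78150 (iv5 D24895) F37802 D49423 (iv4 F92845) (iv5 D58752) F45126 (iv5 F78172) F92854
theorem F92856 : act 2 n49408 = n58759 := d2_3 F92853 F77626 D49408
theorem F92857 : act 7 n49416 = n58759 := d13_0 F92853 F77627 D49416
def n58760 : Q := act 1 n27937
theorem D58760 : act 1 n27937 = n58760 := rfl
theorem F92858 : act 1 n58760 = n49445 := d15_1 D58760 (iv7 F78173) (iv2 F45131)
theorem F92859 : act 7 n58760 = n49408 := d15_2 (iv0 D58759) D58760 F92856
theorem F92860 : act 5 n58760 = n34059 := d17_7 (iv1 F24455) (iv5 D13320) (iv1 D6318) D6319 D13324 D27937 D58760 F53455 (iv4 D31405)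
theorem F92861 : act 2 n49416 = n58760 := d2_3 F92860 F53452 D49416
theorem F92862 : act 4 n49408 = n58760 := d9_15 F92860 (iv4 D34059) (iv5 D16498) F19520 D11329 D24119 D49416 (iv4 F92854) F92853 (iv4 D49162) (iv5 D23988) F19528 D11324 D24112 D49408
def n58761 : Q := act 4 n27937
theorem D58761 : act 4 n27937 = n58761 := rfl
theorem F92863 : act 2 n58761 = n49447 := d1_1 D58761 F78175 (iv2 F45131)
theorem F92864 : act 5 n58761 = n49167 := d9_2 D27937 D58761 F77638 F37491 F18287 (iv5 F19184) (iv4 F39033) (iv5 F78172) (iv4 D49445) (iv5 D24132) (iv4 D11333) (iv5 D5233) (iv4 F4253) D6319 D13324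
theorem F92865 : act 0 n58761 = n49444 := d18_2 (iv1 D58760) D58761 (iv4 F78171) (iv5 D34239) (iv4 D16566) F24463 D31409 (iv0 F53454) (iv5 F92860)
theorem F92866 : act 1 n58761 = n34239 := d18_6 (iv1 F77639) F37810 (iv1 D13323) D13324 D27937 D58761 F78171 (iv0 F92865) F92864
theorem F92867 : act 7 n58761 = n49166 := d15_2 D49444 (iv0 F92865) F77636
def n58762 : Q := act 7 n27937
theorem D58762 : act 7 n27937 = n58762 := rfl
theorem F92868 : act 2 n58762 = n49445 := d4_1 D58762 (iv7 F78173) (iv2 F45131)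
theorem F92869 : act 4 n58762 = n49166 := d11_1 D58762 (iv7 F92867) (iv4 D58761)
theorem F92870 : act 5 n58762 = n27938 := d13_1 D58762 (iv7 D27938) D27937
theorem F92871 : act 1 n49416 = n58762 := d15_1 (iv0 F78150) (iv7 D58762) F45131
theorem F92872 : act 1 n58762 = n49408 := d15_1 F92871 (iv7 F92859) (iv2 F92861)
def n58763 : Q := act 6 n27940
theorem D58763 : act 6 n27940 = n58763 := rfl
theorem F92873 : act 2 n58763 = n48790 := d3_1 D58763 (iv6 D48790) (iv2 F45141)
theorem F92874 : act 3 n58763 = n27943 := d7_1 D58763 (iv6 D27943) (iv3 F45142)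
theorem F92875 : act 5 n58763 = n28778 := d12_1 D58763 (iv6 D28778) F45148 (iv6 D27941) D27940
def n58764 : Q := act 0 n27942
theorem D58764 : act 0 n27942 = n58764 := rfl
theorem F92876 : act 4 n58764 = n27959 := d18_3 (iv1 F39716) D27942 D58764 F45195 F24043 (iv0 F24053) (iv4 F23669) F37957 (iv5 F39713)
theorem F92877 : act 2 n27965 = n58764 := d15_3 (iv0 D58764) (iv0 F81367) F81366
theorem F92878 : act 1 n27944 = n58764 := d15_0 (iv0 D58764) F45151 (iv2 F45154)
theorem F92879 : act 7 n58764 = n27966 := d15_2 F81368 F92878 (iv2 F81365)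
def n58765 : Q := act 3 n27942
theorem D58765 : act 3 n27942 = n58765 := rfl
theorem F92880 : act 7 n58765 = n27982 := d8_2 (iv7 F45151) D58765 (iv3 D27982)
def n58766 : Q := act 5 n27942
theorem D58766 : act 5 n27942 = n58766 := rfl
theorem F92881 : act 2 n58766 = n27968 := d2_1 D58766 (iv5 D27968) (iv2 F45150)
theorem F92882 : act 7 n58766 = n27983 := d13_2 (iv7 F45151) D58766 (iv5 D27983)
theorem F92883 : act 4 n58766 = n52251 := d16_2 D27942 D58766 (iv5 D52251) (iv4 D25379) (iv5 D12067) (iv4 F22464) D13330 F22176 (iv2 F22163)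
theorem F92884 : act 0 n58766 = n52267 := d17_2 F81367 D58766 F82640 F40154 F19978 (iv0 F22457) D13339 F39304 D51556
theorem F92885 : act 1 n58766 = n48634 := d17_6 (iv1 D13333) (iv5 D6323) D6321 D13327 D27942 D58766 (iv5 D48634) (iv0 F45169) (iv4 D27949)
def n58767 : Q := act 6 n27942
theorem D58767 : act 6 n27942 = n58767 := rfl
theorem F92886 : act 2 n58767 = n27969 := d3_1 D58767 (iv6 D27969) (iv2 F45150)
theorem F92887 : act 4 n58767 = n27943 := d10_1 D58767 (iv6 D27943) D27942
def n58768 : Q := act 0 n27943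
theorem D58768 : act 0 n27943 = n58768 := rfl
theorem F92888 : act 6 n58768 = n48678 := d21_5 (iv5 D6323) D6321 D13327 D27943 D58768 F76589 (iv1 D28751) (iv5 F45172) (iv6 D27950) (iv1 D13333)
theorem F92889 : act 5 n58768 = n29315 := d21_0 (iv1 D29315) (iv5 F37372) (iv6 D23943) (iv1 D11218) (iv6 F9853) (iv5 D6323) D6321 D13327 D27943 D58768
def n58769 : Q := act 1 n27943
theorem D58769 : act 1 n27943 = n58769 := rfl
theorem F92890 : act 1 n58769 = n27973 := d15_1 D58769 (iv7 D27973) (iv2 F45152)
theorem F92891 : act 5 n29314 = n58769 := d21_0 (iv1 D58769) F45153 (iv6 D13726) (iv1 D6533) (iv6 F4661) (iv5 D2974) D2972 D6630 D13949 D29314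
def n58770 : Q := act 7 n27943
theorem D58770 : act 7 n27943 = n58770 := rfl
theorem F92892 : act 2 n58770 = n27973 := d4_1 D58770 (iv7 D27973) (iv2 F45152)
theorem F92893 : act 5 n58770 = n28784 := d13_1 D58770 (iv7 D28784) (iv5 F45153)
theorem F92894 : act 6 n58770 = n27987 := d14_1 D58770 (iv7 D27987) (iv6 D13354) (iv7 F22164) D27943
theorem F92895 : act 1 n27973 = n58768 := d15_0 (iv0 D58768) D58770 F92892
theorem F92896 : act 1 n27971 = n58770 := d15_1 D27971 (iv7 D58770) F45152
theorem F92897 : act 1 n58770 = n27970 := d15_0 (iv0 D27970) D27973 (iv2 F92892)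
def n58771 : Q := act 3 n27944
theorem D58771 : act 3 n27944 = n58771 := rfl
theorem F92898 : act 7 n58771 = n27967 := d8_2 (iv7 F45155) D58771 (iv3 D27967)
def n58772 : Q := act 5 n27944
theorem D58772 : act 5 n27944 = n58772 := rfl
theorem F92899 : act 2 n58772 = n27983 := d2_1 D58772 (iv5 D27983) (iv2 F45154)
theorem F92900 : act 4 n58772 = n50187 := d9_1 D58772 (iv5 D50187) (iv4 D24475) (iv5 D11572) F9860 D13327 D27942 D58766 F92883 (iv5 D52251) (iv4 D25379) (iv5 D12067) (iv4 F22464) D13330 D27944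
theorem F92901 : act 7 n58772 = n27968 := d13_2 (iv7 F45155) D58772 (iv5 D27968)
theorem F92902 : act 0 n58772 = n48634 := d17_2 (iv1 F92878) D58772 (iv5 D48634) (iv4 D23710) (iv5 D11101) (iv0 F22459) D13351 F45198 (iv4 F92876)
theorem F92903 : act 1 n58772 = n52267 := d17_6 (iv1 F22193) F9866 (iv1 F9850) D13330 D27944 D58772 F82640 (iv0 F45162) (iv4 D27947)
def n58773 : Q := act 6 n27944
theorem D58773 : act 6 n27944 = n58773 := rfl
theorem F92904 : act 2 n58773 = n27984 := d3_1 D58773 (iv6 D27984) (iv2 F45154)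
theorem F92905 : act 4 n58773 = n27945 := d10_1 D58773 (iv6 D27945) D27944
theorem F92906 : act 0 n52271 = n58773 := d21_4 (iv5 F45914) (iv1 F82187) F82184 D52271 (iv6 D58773) D58772 F92902 (iv5 D48634) F36871 D23723
def n58774 : Q := act 6 n27946
theorem D58774 : act 6 n27946 = n58774 := rfl
theorem F92907 : act 3 n58774 = n27948 := d7_1 D58774 (iv6 D27948) D27946
theorem F92908 : act 5 n58774 = n31740 := d12_1 D58774 F50041 (iv5 D31407) D31408 F49680
def n58775 : Q := act 3 n27947
theorem D58775 : act 3 n27947 = n58775 := rfl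
theorem F92909 : act 7 n58775 = n27999 := d8_2 (iv7 F45161) D58775 (iv3 D27999)
def n58776 : Q := act 5 n27947
theorem D58776 : act 5 n27947 = n58776 := rfl
theorem F92910 : act 2 n58776 = n27991 := d2_1 D58776 (iv5 D27991) (iv2 F45160)
theorem F92911 : act 7 n58776 = n28000 := d13_2 (iv7 F45161) D58776 (iv5 D28000)
theorem F92912 : act 4 n58776 = n52257 := d16_2 D27947 D58776 (iv5 D52257) (iv4 D25384) (iv5 F22954) F22953 F22185 F22938 (iv2 F22940)
def n58777 : Q := act 6 n27947
theorem D58777 : act 6 n27947 = n58777 := rfl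
theorem F92913 : act 2 n58777 = n27992 := d3_1 D58777 (iv6 D27992) (iv2 F45160)
theorem F92914 : act 4 n58777 = n27948 := d10_1 D58777 (iv6 D27948) D27947
def n58778 : Q := act 0 n27948
theorem D58778 : act 0 n27948 = n58778 := rfl
theorem F92915 : act 1 n27995 = n58778 := d15_0 (iv0 D58778) (iv7 F78450) F78449
def n58779 : Q := act 1 n27948
theorem D58779 : act 1 n27948 = n58779 := rfl
theorem F92916 : act 1 n58779 = n27995 := d15_1 D58779 (iv7 D27995) (iv2 F45165)
def n58780 : Q := act 5 n27949
theorem D58780 : act 5 n27949 = n58780 := rfl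
theorem F92917 : act 2 n58780 = n28000 := d2_1 D58780 (iv5 D28000) (iv2 F45167)
theorem F92918 : act 4 n58780 = n50285 := d9_1 D58780 (iv5 D50285) (iv4 D24525) D24526 F38508 (iv5 F24468) D27947 D58776 F92912 (iv5 D52257) (iv4 D25384) (iv5 F22954) F22953 F22185 D27949
theorem F92919 : act 7 n58780 = n27991 := d13_2 (iv7 F45168) D58780 (iv5 D27991)
def n58781 : Q := act 6 n27949
theorem D58781 : act 6 n27949 = n58781 := rfl
theorem F92920 : act 2 n58781 = n28001 := d3_1 D58781 (iv6 D28001) (iv2 F45167)
theorem F92921 : act 4 n58781 = n27950 := d10_1 D58781 (iv6 D27950) D27949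
def n58782 : Q := act 0 n27950
theorem D58782 : act 0 n27950 = n58782 := rfl
theorem F92922 : act 5 n58782 = n49262 := d21_0 (iv1 F77841) (iv5 F76594) F76595 (iv1 F40270) (iv6 D25217) F19746 F22186 F22185 D27950 D58782
def n58783 : Q := act 1 n27950
theorem D58783 : act 1 n27950 = n58783 := rfl
theorem F92923 : act 1 n58783 = n28005 := d15_1 D58783 (iv7 D28005) (iv2 F45171)
theorem F92924 : act 5 n49263 = n58783 := d21_0 (iv1 D58783) F45172 (iv6 D13711) D13708 D28742 F46375 (iv1 F78395) F78392 F77823 (iv1 F77837)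
theorem F92925 : act 6 n58783 = n49073 := d21_3 F76594 (iv1 F77837) F92924 (iv1 F77452) (iv6 F77461) F77460 (iv1 F77781) (iv5 F77782) (iv6 F77783) (iv1 F76598)
def n58784 : Q := act 7 n27950
theorem D58784 : act 7 n27950 = n58784 := rfl
theorem F92926 : act 2 n58784 = n28005 := d4_1 D58784 (iv7 D28005) (iv2 F45171)
theorem F92927 : act 5 n58784 = n28752 := d13_1 D58784 (iv7 D28752) (iv5 F45172)
theorem F92928 : act 6 n58784 = n27995 := d14_1 D58784 (iv7 D27995) (iv6 D13359) (iv7 F22938) D27950
theorem F92929 : act 1 n28005 = n58782 := d15_0 (iv0 D58782) D58784 F92926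
theorem F92930 : act 1 n28003 = n58784 := d15_1 D28003 (iv7 D58784) F45171
theorem F92931 : act 0 n28002 = n58784 := d21_1 (iv5 F77844) F92927 F80794 (iv1 D51210) F39059 F37564 F22687 F18022 D13960 D29342
def n58785 : Q := act 0 n27951
theorem D58785 : act 0 n27951 = n58785 := rfl
def n58786 : Q := act 1 n27951
theorem D58786 : act 1 n27951 = n58786 := rfl
def n58787 : Q := act 2 n27951
theorem D58787 : act 2 n27951 = n58787 := rfl
theorem F92932 : act 3 n58787 = n28014 := d0_2 D27951 D58787 (iv2 D28014) (iv3 D13367) (iv2 F22188)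
theorem F92933 : act 4 n58787 = n49082 := d1_2 (iv4 F45173) D58787 (iv2 D49082)
theorem F92934 : act 6 n58787 = n49082 := d3_2 (iv6 F45174) D58787 (iv2 D49082)
def n58788 : Q := act 5 n27951
theorem D58788 : act 5 n27951 = n58788 := rfl
theorem F92935 : act 3 n58788 = n27952 := d6_1 D58788 (iv5 D27952) D27951
def n58789 : Q := act 7 n27951
theorem D58789 : act 7 n27951 = n58789 := rfl
theorem F92936 : act 3 n58789 = n27953 := d8_1 D58789 (iv7 D27953) D27951
theorem F92937 : act 4 n58789 = n49084 := d11_1 D58789 (iv7 D49084) (iv4 F45173)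
def n58790 : Q := act 6 n27952
theorem D58790 : act 6 n27952 = n58790 := rfl
theorem F92938 : act 2 n58790 = n28020 := d3_1 D58790 (iv6 D28020) (iv2 F45175)
theorem F92939 : act 5 n58790 = n49085 := d12_1 D58790 (iv6 D49085) (iv5 D23945) (iv6 F22189) D27952
def n58791 : Q := act 6 n27953
theorem D58791 : act 6 n27953 = n58791 := rfl
theorem F92940 : act 2 n58791 = n28022 := d3_1 D58791 (iv6 D28022) (iv2 F45176)
theorem F92941 : act 4 n58791 = n27954 := d10_1 D58791 (iv6 D27954) (iv4 F45177)
theorem F92942 : act 7 n58791 = n49086 := d14_2 D27953 D58791 (iv6 D49086) (iv7 D23946) (iv6 F22189)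
def n58792 : Q := act 3 n27956
theorem D58792 : act 3 n27956 = n58792 := rfl
theorem F92943 : act 4 n58792 = n27967 := d5_2 D27956 D58792 (iv3 D27967) (iv4 D13342) (iv3 F22197)
def n58793 : Q := act 6 n27956
theorem D58793 : act 6 n27956 = n58793 := rfl
theorem F92944 : act 4 n58793 = n27957 := d10_1 D58793 (iv6 D27957) D27956
def n58794 : Q := act 0 n27957
theorem D58794 : act 0 n27957 = n58794 := rfl
def n58795 : Q := act 1 n27957
theorem D58795 : act 1 n27957 = n58795 := rfl
def n58796 : Q := act 7 n27957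
theorem D58796 : act 7 n27957 = n58796 := rfl
theorem F92945 : act 3 n58796 = n27973 := d8_1 D58796 (iv7 D27973) (iv3 F45190)
def n58797 : Q := act 6 n27959
theorem D58797 : act 6 n27959 = n58797 := rfl
theorem F92946 : act 2 n58797 = n30347 := d3_1 D58797 F48776 F45197
theorem F92947 : act 3 n58797 = n52294 := d7_1 D58797 (iv6 D52294) (iv3 F45196)
theorem F92948 : act 5 n58797 = n30341 := d12_1 D58797 (iv6 D30341) (iv5 D14395) D14396 (iv5 F45195)
theorem F92949 : act 7 n58797 = n52310 := d14_2 (iv7 F45199) D58797 (iv6 D52310) F76522 (iv6 F76514)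
theorem F92950 : act 0 n52358 = n49353 := d21_1 D52358 F78023 (iv6 D27961) D27959 D58797 F92948 (iv1 F82714) F82712 (iv6 F76536) (iv1 F76538)
theorem E8745 : n52359 = n50287 := ((c21_5 F45195 (iv1 F38509) (iv5 D24526) D24527 D50287 (iv6 D52359) D52358 F92950 F78023 (iv6 D27961) D27959)).symm
theorem F92951 : act 6 n50287 = n25421 := (sb E8745 (iv6 D52359))
def n58798 : Q := act 3 n27960
theorem D58798 : act 3 n27960 = n58798 := rfl
theorem F92952 : act 4 n58798 = n52224 := d5_2 D27960 D58798 (iv3 D52224) (iv4 D25367) (iv3 F22203)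
theorem F92953 : act 7 n58798 = n52250 := d8_2 (iv7 F45201) D58798 (iv3 D52250)
def n58799 : Q := act 6 n27960
theorem D58799 : act 6 n27960 = n58799 := rfl
theorem F92954 : act 2 n58799 = n50188 := d3_1 D58799 (iv6 D50188) (iv2 F45200)
theorem F92955 : act 4 n58799 = n27961 := d10_1 D58799 (iv6 D27961) D27960
def n58800 : Q := act 0 n27961
theorem D58800 : act 0 n27961 = n58800 := rfl
theorem F92956 : act 5 n58800 = n49284 := d21_0 (iv1 D49284) F37628 (iv6 D23722) (iv1 D11109) (iv6 F17988) (iv5 D11101) (iv1 F22458) D13339 D27961 D58800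
theorem F92957 : act 6 n48641 = n58800 := d21_5 (iv5 D5078) D5076 D11104 D23716 D48641 F92956 (iv1 D49284) F37628 (iv6 D23722) (iv1 D11109)
def n58801 : Q := act 1 n27961
theorem D58801 : act 1 n27961 = n58801 := rfl
theorem F92958 : act 1 n58801 = n50191 := d15_1 D58801 (iv7 D50191) (iv2 F45203)
theorem F92959 : act 5 n49283 = n58801 := d21_0 (iv1 D58801) (iv5 F78023) (iv6 D49353) (iv1 D24087) F18459 (iv5 D5225) (iv1 F10262) D11283 D24051 D49283
def n58802 : Q := act 7 n27961
theorem D58802 : act 7 n27961 = n58802 := rfl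
theorem F92960 : act 2 n58802 = n50191 := d4_1 D58802 (iv7 D50191) (iv2 F45203)
theorem F92961 : act 3 n58802 = n52230 := d8_1 D58802 (iv7 D52230) (iv3 F45204)
theorem F92962 : act 6 n58802 = n52255 := d14_1 D58802 (iv7 D52255) (iv6 D25380) (iv7 F22569) D27961
theorem F92963 : act 1 n50191 = n58800 := d15_0 (iv0 D58800) D58802 F92960
theorem F92964 : act 1 n50190 = n58802 := d15_1 D50190 (iv7 D58802) F45203
theorem F92965 : act 1 n58802 = n50189 := d15_0 (iv0 D50189) D50191 (iv2 F92960)
def n58803 : Q := act 3 n27963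
theorem D58803 : act 3 n27963 = n58803 := rfl
theorem F92966 : act 4 n58803 = n49673 := d5_2 D27963 D58803 (iv3 D49673) (iv4 D24224) F22210
def n58804 : Q := act 5 n27963
theorem D58804 : act 5 n27963 = n58804 := rfl
theorem F92967 : act 2 n58804 = n50938 := d2_1 D58804 (iv5 D50938) (iv2 F45213)
theorem F92968 : act 4 n58804 = n51967 := d16_2 D27963 D58804 (iv5 D51967) (iv4 D25216) F19746 F19090 (iv5 F19746) F19747 F22209
theorem F92969 : act 0 n58804 = n50285 := d17_2 (iv1 F45214) D58804 (iv5 D50285) (iv4 D24525) D24526 F38509 (iv5 F45195) (iv0 D27959) D27960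
theorem F92970 : act 1 n58804 = n52257 := d17_6 (iv1 F22184) (iv5 F22185) (iv1 F22187) (iv5 F22207) D27963 D58804 (iv5 D52257) F40152 F22238
def n58805 : Q := act 6 n27963
theorem D58805 : act 6 n27963 = n58805 := rfl
theorem F92971 : act 2 n58805 = n50939 := d3_1 D58805 (iv6 D50939) (iv2 F45213)
theorem F92972 : act 4 n58805 = n27964 := d10_1 D58805 (iv6 D27964) D27963
def n58806 : Q := act 0 n27964
theorem D58806 : act 0 n27964 = n58806 := rfl
def n58807 : Q := act 1 n27964
theorem D58807 : act 1 n27964 = n58807 := rfl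
theorem F92973 : act 1 n58807 = n50942 := d15_1 D58807 (iv7 D50942) (iv2 F45215)
def n58808 : Q := act 7 n27964
theorem D58808 : act 7 n27964 = n58808 := rfl
theorem F92974 : act 2 n58808 = n50942 := d4_1 D58808 (iv7 D50942) (iv2 F45215)
theorem F92975 : act 3 n58808 = n49672 := d8_1 D58808 (iv7 D49672) (iv3 F45216)
theorem F92976 : act 5 n58808 = n49656 := d13_1 D58808 (iv7 D49656) (iv5 F45217)
theorem F92977 : act 6 n58808 = n28382 := d14_1 D58808 F45883 (iv6 F40267) F39714 D27964
theorem F92978 : act 1 n50942 = n58806 := d15_0 (iv0 D58806) D58808 F92974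
theorem F92979 : act 1 n50941 = n58808 := d15_1 D50941 (iv7 D58808) F45215
theorem F92980 : act 1 n58808 = n50940 := d15_0 (iv0 D50940) D50942 (iv2 F92974)
def n58809 : Q := act 3 n27965
theorem D58809 : act 3 n27965 = n58809 := rfl
theorem F92981 : act 4 n58809 = n30375 := d5_2 (iv4 F45218) D58809 (iv3 D30375) (iv4 D14417) (iv3 F24050)
def n58810 : Q := act 5 n27965
theorem D58810 : act 5 n27965 = n58810 := rfl
theorem F92982 : act 0 n58810 = n58776 := d17_2 D27965 D58810 (iv5 D58776) (iv4 D27947) F24468 (iv0 F24469) (iv5 F22207) (iv0 D13341) D13342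
theorem F92983 : act 1 n58810 = n58780 := d17_6 (iv1 F36855) (iv5 F36856) F24053 D14403 (iv4 F45218) D58810 (iv5 D58780) (iv0 F45170) F40154
def n58811 : Q := act 6 n27965
theorem D58811 : act 6 n27965 = n58811 := rfl
theorem F92984 : act 4 n58811 = n30347 := d10_1 D58811 F48776 (iv4 F45218)
def n58812 : Q := act 3 n27966
theorem D58812 : act 3 n27966 = n58812 := rfl
theorem F92985 : act 4 n58812 = n51008 := d5_2 (iv4 F45221) D58812 (iv3 D51008) F39303 (iv3 F39302)
def n58813 : Q := act 5 n27966
theorem D58813 : act 5 n27966 = n58813 := rfl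
theorem F92986 : act 0 n58813 = n58780 := d17_2 (iv1 F45220) D58813 (iv5 D58780) (iv4 D27949) (iv5 F22185) (iv0 F22186) (iv5 F19746) F22212 D13353
theorem F92987 : act 1 n58813 = n58776 := d17_6 D23708 (iv5 F36865) (iv1 F47941) F47944 (iv4 F45221) D58813 (iv5 D58776) F45163 (iv4 D23710)
def n58814 : Q := act 6 n27966
theorem D58814 : act 6 n27966 = n58814 := rfl
theorem F92988 : act 2 n58814 = n52311 := d3_1 D58814 F82692 F81365
theorem F92989 : act 4 n58814 = n48647 := d10_1 D58814 (iv6 F76514) (iv4 F45221)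
theorem F92990 : act 0 n58814 = n28381 := d21_4 D58776 (iv1 F92987) (iv5 D58813) D58814 (iv6 D28381) D28380 F45878 (iv5 D23726) (iv6 F36871) (iv1 F45163)
theorem F92991 : act 1 n58814 = n52481 := d15_1 (iv0 F92990) (iv7 D52481) (iv2 F45880)
theorem F92992 : act 7 n52308 = n58814 := d11_0 F92989 (iv7 F76522) D52308
def n58815 : Q := act 0 n27967
theorem D58815 : act 0 n27967 = n58815 := rfl
def n58816 : Q := act 1 n27967
theorem D58816 : act 1 n27967 = n58816 := rfl
def n58817 : Q := act 2 n27967
theorem D58817 : act 2 n27967 = n58817 := rfl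
def n58818 : Q := act 5 n27967
theorem D58818 : act 5 n27967 = n58818 := rfl
theorem F92993 : act 3 n58818 = n27968 := d6_1 D58818 (iv5 D27968) D27967
def n58819 : Q := act 6 n27967
theorem D58819 : act 6 n27967 = n58819 := rfl
theorem F92994 : act 3 n58819 = n27969 := d7_1 D58819 (iv6 D27969) D27967
def n58820 : Q := act 0 n27968
theorem D58820 : act 0 n27968 = n58820 := rfl
theorem F92995 : act 5 n58820 = n27989 := d17_1 D58820 (iv1 F45261) D28000 (iv4 F45273) (iv5 D28007) (iv0 D13365) D13368 D28018 (iv4 F45282)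
theorem F92996 : act 4 n58820 = n48634 := d18_1 D58820 (iv1 F92885) F92883 (iv5 D52251) (iv4 D25379) F24052 (iv4 F45218) (iv0 D27965) D27968
theorem F92997 : act 2 n52267 = n58820 := d15_3 (iv0 D58820) F45222 F82641
theorem F92998 : act 1 n27983 = n58820 := d15_0 (iv0 D58820) (iv7 F92901) F92899
theorem F92999 : act 7 n58820 = n48634 := d15_2 (iv0 F45251) F92998 F76485
def n58821 : Q := act 6 n27968
theorem D58821 : act 6 n27968 = n58821 := rfl
def n58822 : Q := act 0 n27969
theorem D58822 : act 0 n27969 = n58822 := rfl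
def n58823 : Q := act 1 n27969
theorem D58823 : act 1 n27969 = n58823 := rfl
def n58824 : Q := act 5 n27969
theorem D58824 : act 5 n27969 = n58824 := rfl
def n58825 : Q := act 7 n27969
theorem D58825 : act 7 n27969 = n58825 := rfl
theorem F93000 : act 4 n58825 = n27973 := d11_1 D58825 (iv7 D27973) (iv4 F45223)
def n58826 : Q := act 2 n27970
theorem D58826 : act 2 n27970 = n58826 := rfl
theorem F93001 : act 6 n58826 = n52434 := d3_2 F77783 D58826 (iv2 D52434)
theorem F93002 : act 7 n27971 = n58826 := d15_2 (iv0 D27970) D27971 (iv2 D58826)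
def n58827 : Q := act 3 n27970
theorem D58827 : act 3 n27970 = n58827 := rfl
def n58828 : Q := act 4 n27970
theorem D58828 : act 4 n27970 = n58828 := rfl
theorem F93004 : act 6 n58828 = n52436 := d10_2 F77783 D58828 (iv4 D52436)
def n58829 : Q := act 7 n27970
theorem D58829 : act 7 n27970 = n58829 := rfl
theorem F93005 : act 2 n58829 = n27971 := d4_1 D58829 F93002 (iv2 D58826)
def n58831 : Q := act 4 n27971
theorem D58831 : act 4 n27971 = n58831 := rfl
def n58832 : Q := act 6 n27971
theorem D58832 : act 6 n27971 = n58832 := rfl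
theorem F93006 : act 5 n58832 = n52442 := d12_1 D58832 (iv6 D52442) D52441 F82780 F77780
theorem F93007 : act 7 n58832 = n52442 := d14_2 (iv7 F93002) D58832 (iv6 D52442) F82776 (iv6 F93001)
def n58833 : Q := act 0 n27972
theorem D58833 : act 0 n27972 = n58833 := rfl
theorem F93008 : act 5 n58833 = n49077 := d21_0 (iv1 F77462) (iv5 F77785) F77786 (iv1 F46984) (iv6 D28744) (iv5 F22959) F22227 D13346 (iv6 F45225) D58833
theorem F93009 : act 0 n58833 = n28784 := d21_1 (iv5 F93008) (iv5 F92893) F92894 (iv1 F45257) (iv6 D24778) F19077 (iv1 F11436) F18212 D23943 D49077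
def n58834 : Q := act 1 n27972
theorem D58834 : act 1 n27972 = n58834 := rfl
theorem F93010 : act 1 n58834 = n28784 := d15_1 D58834 (iv7 D28784) (iv2 F45224)
theorem F93011 : act 5 n49078 = n58834 := d21_0 (iv1 D58834) (iv5 D27972) (iv6 D13343) D13341 D27964 F45217 D49655 (iv5 F78429) F77451 (iv1 F77458)
theorem F93012 : act 6 n58778 = n49078 := d21_5 F22207 F24469 (iv5 F24468) D27948 D58778 F93011 (iv1 D58834) (iv5 D27972) (iv6 D13343) D13341
theorem F93013 : act 6 n58834 = n49255 := d21_3 F77785 (iv1 F77458) F93011 (iv1 F77824) (iv6 F77840) F77839 (iv1 F76590) (iv5 F76591) (iv6 F76592) (iv1 F77789)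
def n58835 : Q := act 4 n27972
theorem D58835 : act 4 n27972 = n58835 := rfl
theorem F93014 : act 2 n58835 = n28781 := d1_1 D58835 F46419 (iv2 F45224)
theorem F93015 : act 6 n58835 = n27974 := d10_2 (iv6 F45225) D58835 (iv4 D27974)
def n58836 : Q := act 7 n27972
theorem D58836 : act 7 n27972 = n58836 := rfl
theorem F93016 : act 2 n58836 = n28784 := d4_1 D58836 (iv7 D28784) (iv2 F45224)
theorem F93017 : act 5 n58836 = n27973 := d13_1 D58836 (iv7 D27973) D27972
theorem F93018 : act 6 n58836 = n28777 := d14_1 D58836 (iv7 D28777) (iv6 D13723) F22869 (iv6 F45225)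
theorem F93019 : act 1 n28783 = n58836 := d15_1 D28783 (iv7 D58836) F45224
theorem F93020 : act 0 n28782 = n58836 := d21_1 (iv5 F77811) F93017 F82308 (iv1 F82305) (iv6 F45253) F22692 (iv1 F18607) F11432 D13415 D28100
def n58837 : Q := act 3 n27974
theorem D58837 : act 3 n27974 = n58837 := rfl
theorem F93021 : act 4 n58837 = n29987 := d5_2 D27974 D58837 (iv3 D29987) (iv4 F38295) F38291
theorem F93022 : act 7 n58837 = n28772 := d8_2 (iv7 F45227) D58837 (iv3 D28772)
def n58838 : Q := act 5 n27974
theorem D58838 : act 5 n27974 = n58838 := rfl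
theorem F93023 : act 2 n58838 = n28780 := d2_1 D58838 (iv5 D28780) (iv2 F45226)
theorem F93024 : act 7 n58838 = n28773 := d13_2 (iv7 F45227) D58838 (iv5 D28773)
def n58839 : Q := act 6 n27975
theorem D58839 : act 6 n27975 = n58839 := rfl
theorem F93025 : act 2 n58839 = n27978 := d3_1 D58839 (iv6 D27978) (iv2 F45229)
theorem F93026 : act 0 n52468 = n58839 := d21_4 (iv5 F37972) (iv1 F39764) (iv5 F40260) D52468 (iv6 D58839) (iv5 D27975) (iv1 F22219) D24323 F38107 (iv1 F39647)
def n58840 : Q := act 6 n27976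
theorem D58840 : act 6 n27976 = n58840 := rfl
theorem F93027 : act 2 n58840 = n50995 := d3_1 D58840 (iv6 D50995) F45234
theorem F93028 : act 3 n58840 = n52420 := d7_1 D58840 (iv6 D52420) (iv3 F45233)
theorem F93029 : act 4 n58840 = n51652 := d10_1 D58840 (iv6 D51652) (iv4 F45232)
theorem F93030 : act 5 n58840 = n58738 := d12_1 D58840 (iv6 D58738) (iv5 F46392) F78583 F78581
theorem F93031 : act 0 n58840 = n51399 := d21_4 (iv5 F49680) (iv1 F78578) F78581 D58840 (iv6 D51399) (iv5 D24984) F19393 D24238 (iv6 F38107) F45164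
theorem F93032 : act 1 n58840 = n52473 := d15_1 (iv0 F93031) (iv7 D52473) (iv2 F81140)
theorem F93033 : act 1 n52473 = n52053 := d15_1 F93032 F82270 (iv2 F93027)
theorem F93034 : act 7 n52472 = n58840 := d4_0 F93027 (iv7 F82270) F82849
theorem F93035 : act 1 n52053 = n51399 := d15_0 (iv0 F93031) (iv7 F93034) (iv2 F82849)
def n58841 : Q := act 3 n27977
theorem D58841 : act 3 n27977 = n58841 := rfl
theorem F93036 : act 4 n58841 = n27982 := d5_2 D27977 D58841 (iv3 D27982) (iv4 D13353) (iv3 F22220)
def n58842 : Q := act 5 n27977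
theorem D58842 : act 5 n27977 = n58842 := rfl
theorem F93037 : act 4 n58842 = n48797 := d16_2 D27977 D58842 (iv5 D48797) (iv4 D23798) (iv5 D11154) D11153 D23795 (iv7 F45230) F45229
theorem F93038 : act 0 n58842 = n30203 := d17_2 (iv1 F45236) D58842 (iv5 D30203) (iv4 D14333) (iv5 D6845) F10164 D11915 F19636 D24583
theorem F93039 : act 1 n58842 = n48839 := d17_6 F81258 (iv5 D25191) F19721 D13349 D27977 D58842 F76911 F48580 (iv4 F81259)
def n58843 : Q := act 6 n27977
theorem D58843 : act 6 n27977 = n58843 := rfl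
theorem F93040 : act 4 n58843 = n27978 := d10_1 D58843 (iv6 D27978) D27977
theorem F93041 : act 0 n50532 = n58843 := d20_1 (iv4 F79908) F93040 F45238 (iv1 F50047) (iv3 D25280) (iv4 F38856) (iv1 F39456) F39453 (iv3 F39435) (iv1 F39437)
def n58844 : Q := act 0 n27978
theorem D58844 : act 0 n27978 = n58844 := rfl
theorem F93042 : act 2 n51026 = n58844 := d15_3 (iv0 D58844) (iv0 F82212) (iv7 F82213)
theorem F93043 : act 7 n58844 = n52468 := d4_2 (iv7 F82213) F93042 F82840
theorem F93044 : act 1 n51026 = n58839 := d15_0 (iv0 F93026) (iv7 F93043) (iv2 F93042)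
def n58845 : Q := act 7 n27978
theorem D58845 : act 7 n27978 = n58845 := rfl
theorem F93045 : act 3 n58845 = n27987 := d8_1 D58845 (iv7 D27987) (iv3 F45238)
theorem F93046 : act 1 n52468 = n58845 := d15_1 (iv0 F93026) (iv7 D58845) (iv2 F93025)
theorem F93047 : act 1 n58845 = n51026 := d15_1 F93046 F82213 (iv2 F82840)
def n58846 : Q := act 3 n27980
theorem D58846 : act 3 n27980 = n58846 := rfl
theorem F93048 : act 4 n58846 = n50152 := d5_2 D27980 D58846 (iv3 D50152) (iv4 D24461) (iv3 F22229)
theorem F93049 : act 7 n58846 = n50186 := d8_2 (iv7 F45245) D58846 (iv3 D50186)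
def n58847 : Q := act 6 n27980
theorem D58847 : act 6 n27980 = n58847 := rfl
theorem F93050 : act 2 n58847 = n52252 := d3_1 D58847 (iv6 D52252) (iv2 F45244)
theorem F93051 : act 4 n58847 = n27981 := d10_1 D58847 (iv6 D27981) D27980
theorem F93052 : act 0 n52274 = n58847 := d21_4 D28104 (iv1 F82653) (iv5 D52273) D52274 (iv6 D58847) (iv5 F45281) (iv1 D28018) (iv5 D13368) (iv6 F10403) D13416
theorem F93053 : act 0 n58847 = n52081 := d20_1 (iv4 F93051) (iv4 D52081) (iv3 D25280) (iv1 F19847) (iv3 F38839) (iv4 F80486) (iv1 F82248) F82246 F79621 F45250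
def n58848 : Q := act 0 n27981
theorem D58848 : act 0 n27981 = n58848 := rfl
theorem F93054 : act 6 n58848 = n52014 := d21_5 F19978 (iv1 F22460) D13351 D27981 D58848 F82169 (iv1 F39789) (iv5 F76478) (iv6 D48631) (iv1 F36864)
theorem F93055 : act 2 n52253 = n58848 := d15_3 (iv0 D58848) (iv0 F45250) F82620
theorem F93056 : act 3 n58848 = n50442 := d0_2 (iv3 F82621) F93055 F79819 D50553 F81159
theorem F93057 : act 5 n58848 = n52184 := d2_2 F82619 F93055 (iv2 F82544)
theorem F93058 : act 7 n58848 = n48638 := d4_2 F82620 F93055 F76497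
theorem F93059 : act 1 n52255 = n58848 := d15_1 F82626 F93058 F76497
theorem E8746 : n49534 = n49432 := (c21_1 (iv5 F82509) (iv1 D49432) (iv5 F48674) (iv6 D30277) (iv1 F24046) D30342 F48771 D58848 F93057 F82507 (iv1 F82508))
theorem F93060 : act 5 n49432 = n52186 := (sb E8746 F82509)
theorem F93061 : act 6 n49432 = n24173 := (sb E8746 (iv6 D49534))
def n58849 : Q := act 7 n27981
theorem D58849 : act 7 n27981 = n58849 := rfl
theorem F93062 : act 2 n58849 = n52255 := d4_1 D58849 (iv7 D52255) (iv2 F45248)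
theorem F93063 : act 3 n58849 = n50156 := d8_1 D58849 (iv7 D50156) (iv3 F45249)
theorem F93064 : act 6 n58849 = n50191 := d14_1 D58849 (iv7 D50191) (iv6 D24476) (iv7 F22230) D27981
theorem F93065 : act 1 n48638 = n58849 := d15_1 (iv0 F76500) (iv7 D58849) F45248
theorem F93066 : act 1 n58849 = n52253 := d15_1 F93065 (iv7 F82620) (iv2 F76497)
def n58850 : Q := act 0 n27982
theorem D58850 : act 0 n27982 = n58850 := rfl
def n58851 : Q := act 1 n27982
theorem D58851 : act 1 n27982 = n58851 := rfl
def n58852 : Q := act 2 n27982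
theorem D58852 : act 2 n27982 = n58852 := rfl
def n58853 : Q := act 5 n27982
theorem D58853 : act 5 n27982 = n58853 := rfl
theorem F93067 : act 3 n58853 = n27983 := d6_1 D58853 (iv5 D27983) D27982
def n58854 : Q := act 6 n27982
theorem D58854 : act 6 n27982 = n58854 := rfl
theorem F93068 : act 3 n58854 = n27984 := d7_1 D58854 (iv6 D27984) D27982
def n58855 : Q := act 6 n27983
theorem D58855 : act 6 n27983 = n58855 := rfl
def n58856 : Q := act 0 n27984
theorem D58856 : act 0 n27984 = n58856 := rfl
theorem F93069 : act 4 n58856 = n52253 := d20_2 (iv4 F45252) D58856 F82621 (iv1 F82679) F82677 (iv4 F82685) (iv1 F82857) (iv4 D52482) (iv3 F45256) (iv1 D27986)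
theorem F93070 : act 7 n52271 = n58856 := d11_0 F93069 (iv7 F82620) (iv4 F82647)
def n58857 : Q := act 1 n27984
theorem D58857 : act 1 n27984 = n58857 := rfl
theorem F93071 : act 6 n28378 = n58857 := d21_3 D25424 (iv1 F49859) F49857 (iv1 D58857) (iv6 D27984) D27983 F45251 (iv5 D25387) F19977 D12087
theorem F93072 : act 2 n58857 = n52271 := d3_1 F93071 (iv6 D52271) F45871
theorem F93073 : act 4 n58857 = n48638 := d10_1 F93071 (iv6 D48638) (iv4 F45870)
def n58858 : Q := act 5 n27984
theorem D58858 : act 5 n27984 = n58858 := rfl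
def n58859 : Q := act 7 n27984
theorem D58859 : act 7 n27984 = n58859 := rfl
theorem F93074 : act 4 n58859 = n27987 := d11_1 D58859 (iv7 D27987) (iv4 F45252)
theorem F93075 : act 1 n52271 = n58859 := d15_1 (iv0 F92906) (iv7 D58859) (iv2 F92904)
theorem F93076 : act 0 n52297 = n51027 := d20_1 (iv4 F82675) (iv4 D51027) D51026 (iv1 F93047) F93045 (iv4 F93074) (iv1 F93075) F82647 (iv3 F79621) F79623
def n58860 : Q := act 0 n27988
theorem D58860 : act 0 n27988 = n58860 := rfl
def n58861 : Q := act 1 n27988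
theorem D58861 : act 1 n27988 = n58861 := rfl
def n58862 : Q := act 7 n27988
theorem D58862 : act 7 n27988 = n58862 := rfl
theorem F93077 : act 3 n58862 = n27995 := d8_1 D58862 (iv7 D27995) (iv3 F45258)
theorem F93078 : act 5 n58862 = n31737 := d13_1 D58862 (iv7 F78459) F78457
def n58863 : Q := act 3 n27989
theorem D58863 : act 3 n27989 = n58863 := rfl
theorem F93079 : act 4 n58863 = n50524 := d5_2 (iv4 F45259) D58863 (iv3 D50524) (iv4 D24615) (iv3 F36873)
theorem F93080 : act 7 n58863 = n48633 := d8_2 (iv7 F45262) D58863 (iv3 D48633)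
def n58864 : Q := act 6 n27989
theorem D58864 : act 6 n27989 = n58864 := rfl
theorem F93081 : act 2 n58864 = n52269 := d3_1 D58864 (iv6 D52269) F45260
theorem F93082 : act 4 n58864 = n48635 := d10_1 D58864 (iv6 D48635) (iv4 F45259)
theorem F93083 : act 7 n58864 = n48668 := d14_2 (iv7 F45262) D58864 (iv6 D48668) (iv7 D23727) (iv6 F36871)
theorem F93084 : act 1 n52408 = n58864 := d15_1 D52408 F93083 F76557
theorem F93085 : act 1 n58864 = n52407 := d15_0 (iv0 D52407) (iv7 F82644) (iv2 F93081)
def n58865 : Q := act 0 n27990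
theorem D58865 : act 0 n27990 = n58865 := rfl
def n58866 : Q := act 1 n27990
theorem D58866 : act 1 n27990 = n58866 := rfl
def n58867 : Q := act 2 n27990
theorem D58867 : act 2 n27990 = n58867 := rfl
def n58868 : Q := act 5 n27990
theorem D58868 : act 5 n27990 = n58868 := rfl
theorem F93086 : act 3 n58868 = n27991 := d6_1 D58868 (iv5 D27991) D27990
def n58869 : Q := act 6 n27990
theorem D58869 : act 6 n27990 = n58869 := rfl
theorem F93087 : act 3 n58869 = n27992 := d7_1 D58869 (iv6 D27992) D27990
def n58870 : Q := act 0 n27991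
theorem D58870 : act 0 n27991 = n58870 := rfl
theorem F93088 : act 5 n58870 = n51556 := d17_1 D58870 F81367 D58766 F92883 (iv5 D52251) F40128 D50938 F80354 F45274
theorem F93089 : act 4 n58870 = n58810 := d18_1 D58870 F92982 F92912 (iv5 D52257) (iv4 D25384) F36875 (iv4 F45259) (iv0 D27989) D27991
theorem E8747 : n52479 = n52311 := ((c21_4 D27991 D58870 F93088 (iv6 F82692) (iv1 D52479) (iv6 D25468) (iv5 F40213) (iv1 D25435) (iv5 D12090) (iv6 F19977) F36869)).symm
theorem F93090 : act 0 n52311 = n25468 := (sb E8747 (iv1 D52479))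
theorem F93091 : act 1 n28000 = n58870 := d15_0 (iv0 D58870) (iv7 F92919) F92917
theorem F93092 : act 2 n58813 = n58870 := d2_3 F93088 F81365 D58813
theorem F93093 : act 7 n58810 = n58870 := d13_0 F93088 F81366 D58810
def n58871 : Q := act 1 n27991
theorem D58871 : act 1 n27991 = n58871 := rfl
theorem F93094 : act 1 n58871 = n28000 := d15_1 D58871 (iv7 F92911) F92910
theorem F93095 : act 7 n58871 = n58813 := d15_2 (iv0 D58870) D58871 F93092
theorem F93096 : act 5 n58871 = n58764 := d17_7 F22165 F19069 D12362 F22196 D13358 D27991 D58871 (iv0 D58764) (iv4 D27942)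
theorem F93097 : act 4 n58871 = n58813 := d17_9 F92986 (iv5 D58780) F45169 D48634 (iv4 F92996) F92995 (iv0 D27989) D27991 D58871
theorem F93098 : act 2 n58810 = n58871 := d1_3 F93097 F93092 F93089
def n58872 : Q := act 6 n27991
theorem D58872 : act 6 n27991 = n58872 := rfl
def n58873 : Q := act 0 n27992
theorem D58873 : act 0 n27992 = n58873 := rfl
def n58874 : Q := act 1 n27992
theorem D58874 : act 1 n27992 = n58874 := rfl
theorem F93099 : act 4 n58874 = n50288 := d18_7 (iv1 F39788) (iv4 F78251) (iv1 F83905) (iv4 D49668) (iv5 F37967) (iv4 F45263) D58874 (iv0 F82159) (iv5 D52009)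
def n58875 : Q := act 5 n27992
theorem D58875 : act 5 n27992 = n58875 := rfl
def n58876 : Q := act 7 n27992
theorem D58876 : act 7 n27992 = n58876 := rfl
theorem F93100 : act 4 n58876 = n27995 := d11_1 D58876 (iv7 D27995) (iv4 F45263)
def n58877 : Q := act 2 n27993
theorem D58877 : act 2 n27993 = n58877 := rfl
theorem F93101 : act 7 n27994 = n58877 := d15_2 (iv0 D27993) D27994 (iv2 D58877)
def n58878 : Q := act 3 n27993
theorem D58878 : act 3 n27993 = n58878 := rfl
def n58879 : Q := act 4 n27993
theorem D58879 : act 4 n27993 = n58879 := rfl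
def n58880 : Q := act 5 n27993
theorem D58880 : act 5 n27993 = n58880 := rfl
def n58881 : Q := act 7 n27993
theorem D58881 : act 7 n27993 = n58881 := rfl
theorem F93102 : act 2 n58881 = n27994 := d4_1 D58881 F93101 (iv2 D58877)
def n58882 : Q := act 3 n27994
theorem D58882 : act 3 n27994 = n58882 := rfl
def n58883 : Q := act 4 n27994
theorem D58883 : act 4 n27994 = n58883 := rfl
theorem F93103 : act 0 n58883 = n28008 := d18_2 (iv1 F78452) D58883 (iv4 F76477) F76478 D49508 F78261 F50039 F37969 D49665
def n58884 : Q := act 6 n27994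
theorem D58884 : act 6 n27994 = n58884 := rfl
theorem F93104 : act 5 n58884 = n31722 := d12_1 D58884 (iv6 F80847) (iv5 D51257) D51258 F80848
def n58885 : Q := act 6 n27996
theorem D58885 : act 6 n27996 = n58885 := rfl
theorem F93105 : act 2 n58885 = n27998 := d3_1 D58885 (iv6 D27998) D27996
theorem F93106 : act 5 n58885 = n49721 := d12_1 D58885 (iv6 D49721) (iv5 D24249) D24250 (iv5 F45265)
def n58886 : Q := act 3 n27997
theorem D58886 : act 3 n27997 = n58886 := rfl
theorem F93107 : act 4 n58886 = n27999 := d5_2 D27997 D58886 (iv3 D27999) (iv4 D13362) D13361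
def n58887 : Q := act 5 n27997
theorem D58887 : act 5 n27997 = n58887 := rfl
theorem F93108 : act 4 n58887 = n48814 := d16_2 D27997 D58887 (iv5 D48814) (iv4 D23806) F37093 D25271 (iv5 F81256) F81257 (iv2 D27996)
theorem F93109 : act 0 n58887 = n51646 := d17_2 (iv1 F45268) D58887 (iv5 D51646) (iv4 D25090) F19641 (iv0 F22282) (iv5 F20246) (iv0 F20249) D24570
theorem F93110 : act 1 n58887 = n51643 := d17_6 F45231 (iv5 F39758) F39885 (iv5 F39887) D27997 D58887 (iv5 D51643) D51641 F81529
def n58888 : Q := act 6 n27997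
theorem D58888 : act 6 n27997 = n58888 := rfl
theorem F93111 : act 4 n58888 = n27998 := d10_1 D58888 (iv6 D27998) D27997
def n58889 : Q := act 0 n27998
theorem D58889 : act 0 n27998 = n58889 := rfl
def n58890 : Q := act 1 n27998
theorem D58890 : act 1 n27998 = n58890 := rfl
def n58891 : Q := act 5 n27998
theorem D58891 : act 5 n27998 = n58891 := rfl
theorem F93112 : act 2 n58891 = n49721 := d2_1 D58891 (iv5 F93106) F93105
theorem F93113 : act 3 n58891 = n28004 := d6_1 D58891 (iv5 D28004) (iv3 F45269)
theorem F93114 : act 6 n58891 = n28174 := d12_2 D27998 D58891 (iv5 D28174) (iv6 F39884) (iv5 F39887)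
def n58892 : Q := act 7 n27998
theorem D58892 : act 7 n27998 = n58892 := rfl
theorem F93115 : act 3 n58892 = n28005 := d8_1 D58892 (iv7 D28005) (iv3 F45269)
def n58893 : Q := act 0 n27999
theorem D58893 : act 0 n27999 = n58893 := rfl
def n58894 : Q := act 1 n27999
theorem D58894 : act 1 n27999 = n58894 := rfl
def n58895 : Q := act 2 n27999
theorem D58895 : act 2 n27999 = n58895 := rfl
def n58896 : Q := act 5 n27999
theorem D58896 : act 5 n27999 = n58896 := rfl
theorem F93116 : act 3 n58896 = n28000 := d6_1 D58896 (iv5 D28000) D27999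
def n58897 : Q := act 6 n27999
theorem D58897 : act 6 n27999 = n58897 := rfl
theorem F93117 : act 3 n58897 = n28001 := d7_1 D58897 (iv6 D28001) D27999
def n58898 : Q := act 6 n28000
theorem D58898 : act 6 n28000 = n58898 := rfl
def n58899 : Q := act 0 n28001
theorem D58899 : act 0 n28001 = n58899 := rfl
def n58900 : Q := act 1 n28001
theorem D58900 : act 1 n28001 = n58900 := rfl
def n58901 : Q := act 5 n28001
theorem D58901 : act 5 n28001 = n58901 := rfl
def n58902 : Q := act 7 n28001
theorem D58902 : act 7 n28001 = n58902 := rfl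
theorem F93118 : act 4 n58902 = n28005 := d11_1 D58902 (iv7 D28005) (iv4 F45270)
def n58903 : Q := act 2 n28002
theorem D58903 : act 2 n28002 = n58903 := rfl
theorem F93119 : act 7 n28003 = n58903 := d15_2 (iv0 D28002) D28003 (iv2 D58903)
def n58904 : Q := act 3 n28002
theorem D58904 : act 3 n28002 = n58904 := rfl
def n58905 : Q := act 4 n28002
theorem D58905 : act 4 n28002 = n58905 := rfl
def n58906 : Q := act 6 n28002
theorem D58906 : act 6 n28002 = n58906 := rfl
theorem F93120 : act 5 n58906 = n31364 := d21_6 F39713 (iv1 F37957) F23670 D13364 D28002 D58906 (iv1 D31364) (iv5 F45157) (iv6 D27945) (iv1 F39715)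
def n58907 : Q := act 7 n28002
theorem D58907 : act 7 n28002 = n58907 := rfl
theorem F93121 : act 2 n58907 = n28003 := d4_1 D58907 F93119 (iv2 D58903)
def n58908 : Q := act 3 n28003
theorem D58908 : act 3 n28003 = n58908 := rfl
def n58909 : Q := act 4 n28003
theorem D58909 : act 4 n28003 = n58909 := rfl
def n58910 : Q := act 4 n28004
theorem D58910 : act 4 n28004 = n58910 := rfl
theorem F93122 : act 2 n58910 = n28749 := d1_1 D58910 F46382 (iv2 F45271)
theorem F93123 : act 6 n58910 = n28722 := d10_2 (iv6 F45272) D58910 (iv4 D28722)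
def n58911 : Q := act 7 n28004
theorem D58911 : act 7 n28004 = n58911 := rfl
theorem F93124 : act 2 n58911 = n28752 := d4_1 D58911 (iv7 D28752) (iv2 F45271)
theorem F93125 : act 5 n58911 = n28005 := d13_1 D58911 (iv7 D28005) D28004
theorem F93126 : act 6 n58911 = n28767 := d14_1 D58911 (iv7 D28767) (iv6 D13717) F22934 (iv6 F45272)
theorem F93127 : act 1 n28752 = n52441 := d15_0 (iv0 F82781) D58911 F93124
theorem F93128 : act 1 n28751 = n58911 := d15_1 D28751 (iv7 D58911) F45271
theorem F93129 : act 0 n28750 = n58911 := d21_1 (iv5 F76591) F93125 F78451 (iv1 F78452) D58884 F93104 (iv1 F78379) F78371 F45887 (iv1 F76590)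
def n58912 : Q := act 0 n28006
theorem D58912 : act 0 n28006 = n58912 := rfl
def n58913 : Q := act 1 n28006
theorem D58913 : act 1 n28006 = n58913 := rfl
def n58914 : Q := act 2 n28006
theorem D58914 : act 2 n28006 = n58914 := rfl
def n58915 : Q := act 5 n28006
theorem D58915 : act 5 n28006 = n58915 := rfl
theorem F93130 : act 3 n58915 = n28007 := d6_1 D58915 (iv5 D28007) D28006
def n58916 : Q := act 6 n28006
theorem D58916 : act 6 n28006 = n58916 := rfl
theorem F93131 : act 3 n58916 = n28008 := d7_1 D58916 (iv6 D28008) D28006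
def n58917 : Q := act 0 n28007
theorem D58917 : act 0 n28007 = n58917 := rfl
theorem F93132 : act 5 n58917 = n50185 := d17_1 D58917 (iv1 D50185) D50187 (iv4 F92900) (iv5 D58772) F92878 (iv5 F93096) F93094 (iv4 F45273)
theorem F93133 : act 4 n58917 = n50938 := d18_1 D58917 F80353 F45273 (iv5 D28000) (iv4 D13362) F22194 (iv4 F45177) F45179 D28007
theorem F93134 : act 2 n51967 = n58917 := d15_3 (iv0 D58917) (iv0 F80353) (iv7 F82075)
theorem F93135 : act 1 n28010 = n58917 := d15_0 (iv0 D58917) (iv7 F82629) F82628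
theorem F93136 : act 7 n58917 = n58804 := d15_2 F80354 F93135 F92967
def n58918 : Q := act 6 n28007
theorem D58918 : act 6 n28007 = n58918 := rfl
theorem F93137 : act 4 n58918 = n58898 := d10_1 D58918 (iv6 D58898) (iv4 F45273)
def n58919 : Q := act 0 n28008
theorem D58919 : act 0 n28008 = n58919 := rfl
def n58920 : Q := act 5 n28008
theorem D58920 : act 5 n28008 = n58920 := rfl
def n58921 : Q := act 7 n28008
theorem D58921 : act 7 n28008 = n58921 := rfl
theorem F93138 : act 4 n58921 = n52009 := d11_1 D58921 F82158 F76477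
def n58922 : Q := act 0 n28009
theorem D58922 : act 0 n28009 = n58922 := rfl
def n58923 : Q := act 1 n28009
theorem D58923 : act 1 n28009 = n58923 := rfl
def n58924 : Q := act 2 n28009
theorem D58924 : act 2 n28009 = n58924 := rfl
def n58925 : Q := act 5 n28009
theorem D58925 : act 5 n28009 = n58925 := rfl
theorem F93139 : act 3 n58925 = n28010 := d6_1 D58925 (iv5 D28010) D28009
def n58926 : Q := act 6 n28009
theorem D58926 : act 6 n28009 = n58926 := rfl
theorem F93140 : act 3 n58926 = n28011 := d7_1 D58926 (iv6 D28011) D28009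
def n58927 : Q := act 6 n28010
theorem D58927 : act 6 n28010 = n58927 := rfl
theorem F93141 : act 4 n58927 = n58872 := d10_1 D58927 (iv6 D58872) (iv4 F45274)
def n58928 : Q := act 0 n28011
theorem D58928 : act 0 n28011 = n58928 := rfl
def n58929 : Q := act 1 n28011
theorem D58929 : act 1 n28011 = n58929 := rfl
def n58930 : Q := act 5 n28011
theorem D58930 : act 5 n28011 = n58930 := rfl
def n58931 : Q := act 7 n28011
theorem D58931 : act 7 n28011 = n58931 := rfl
def n58932 : Q := act 0 n28012
theorem D58932 : act 0 n28012 = n58932 := rfl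
theorem F93142 : act 2 n28016 = n58932 := d15_3 (iv0 D58932) (iv0 D28012) D28016
theorem F93143 : act 4 n58932 = n28058 := d1_2 (iv4 F45278) F93142 (iv2 F45325)
theorem F93144 : act 7 n58932 = n28014 := d4_2 D28016 F93142 (iv2 D28014)
theorem F93145 : act 1 n28013 = n58932 := d15_1 D28013 F93144 (iv2 D28014)
def n58933 : Q := act 2 n28012
theorem D58933 : act 2 n28012 = n58933 := rfl
theorem F93146 : act 7 n28013 = n58933 := d15_2 (iv0 D28012) D28013 (iv2 D58933)
def n58934 : Q := act 3 n28012
theorem D58934 : act 3 n28012 = n58934 := rfl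
def n58935 : Q := act 4 n28012
theorem D58935 : act 4 n28012 = n58935 := rfl
def n58936 : Q := act 5 n28012
theorem D58936 : act 5 n28012 = n58936 := rfl
def n58937 : Q := act 6 n28012
theorem D58937 : act 6 n28012 = n58937 := rfl
def n58938 : Q := act 7 n28012
theorem D58938 : act 7 n28012 = n58938 := rfl
theorem F93147 : act 2 n58938 = n28013 := d4_1 D58938 F93146 (iv2 D58933)
def n58939 : Q := act 3 n28013
theorem D58939 : act 3 n28013 = n58939 := rfl
def n58940 : Q := act 5 n28013
theorem D58940 : act 5 n28013 = n58940 := rfl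
def n58941 : Q := act 6 n28013
theorem D58941 : act 6 n28013 = n58941 := rfl
def n58942 : Q := act 1 n28014
theorem D58942 : act 1 n28014 = n58942 := rfl
theorem F93148 : act 1 n58942 = n28016 := d15_1 D58942 (iv7 D28016) D28014
def n58943 : Q := act 5 n28014
theorem D58943 : act 5 n28014 = n58943 := rfl
theorem F93149 : act 2 n58943 = n28015 := d2_1 D58943 (iv5 D28015) D28014
def n58944 : Q := act 0 n28015
theorem D58944 : act 0 n28015 = n58944 := rfl
def n58945 : Q := act 1 n28015
theorem D58945 : act 1 n28015 = n58945 := rfl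
def n58946 : Q := act 4 n28015
theorem D58946 : act 4 n28015 = n58946 := rfl
def n58947 : Q := act 6 n28015
theorem D58947 : act 6 n28015 = n58947 := rfl
theorem F93150 : act 3 n58947 = n28020 := d7_1 D58947 (iv6 D28020) (iv3 F45276)
def n58948 : Q := act 7 n28015
theorem D58948 : act 7 n28015 = n58948 := rfl
theorem F93151 : act 3 n58948 = n28021 := d8_1 D58948 (iv7 D28021) (iv3 F45276)
theorem F93152 : act 5 n58948 = n28016 := d13_1 D58948 (iv7 D28016) D28015
def n58949 : Q := act 6 n28016
theorem D58949 : act 6 n28016 = n58949 := rfl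
theorem F93153 : act 3 n58949 = n28022 := d7_1 D58949 (iv6 D28022) (iv3 F45277)
theorem F93154 : act 4 n58949 = n28076 := d10_1 D58949 (iv6 D28076) (iv4 F45278)
def n58950 : Q := act 3 n28017
theorem D58950 : act 3 n28017 = n58950 := rfl
theorem F93155 : act 5 n58950 = n58798 := d6_2 (iv5 F45279) D58950 (iv3 D58798)
def n58951 : Q := act 6 n28017
theorem D58951 : act 6 n28017 = n58951 := rfl
theorem F93156 : act 4 n58951 = n58855 := d10_1 D58951 (iv6 D58855) F45280
def n58952 : Q := act 3 n28018
theorem D58952 : act 3 n28018 = n58952 := rfl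
theorem F93157 : act 5 n58952 = n58846 := d6_2 (iv5 F45281) D58952 (iv3 D58846)
def n58953 : Q := act 6 n28018
theorem D58953 : act 6 n28018 = n58953 := rfl
theorem F93158 : act 4 n58953 = n58821 := d10_1 D58953 (iv6 D58821) F45282
def n58954 : Q := act 3 n28019
theorem D58954 : act 3 n28019 = n58954 := rfl
theorem F93159 : act 5 n58954 = n58789 := d6_2 (iv5 F45283) D58954 F92936
theorem F93160 : act 7 n58954 = n58788 := d8_2 (iv7 F45286) D58954 F92935
def n58955 : Q := act 6 n28019
theorem D58955 : act 6 n28019 = n58955 := rfl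
theorem F93161 : act 4 n58955 = n28020 := d10_1 D58955 (iv6 D28020) D28019
def n58956 : Q := act 0 n28020
theorem D58956 : act 0 n28020 = n58956 := rfl
def n58957 : Q := act 1 n28020
theorem D58957 : act 1 n28020 = n58957 := rfl
def n58958 : Q := act 7 n28020
theorem D58958 : act 7 n28020 = n58958 := rfl
def n58959 : Q := act 6 n28021
theorem D58959 : act 6 n28021 = n58959 := rfl
theorem F93162 : act 2 n58959 = n58955 := d3_1 D58959 (iv6 D58955) (iv2 F45287)
theorem F93163 : act 4 n58959 = n58790 := d10_1 D58959 (iv6 D58790) (iv4 F45288)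
def n58960 : Q := act 0 n28022
theorem D58960 : act 0 n28022 = n58960 := rfl
theorem F93164 : act 1 n49086 = n58960 := d15_0 (iv0 D58960) (iv7 F45433) (iv2 F77472)
def n58961 : Q := act 1 n28022
theorem D58961 : act 1 n28022 = n58961 := rfl
theorem F93165 : act 1 n58961 = n49086 := d15_1 D58961 (iv7 F92942) F92940
theorem F93166 : act 4 n51529 = n58961 := d20_6 F80227 (iv1 F38710) F19028 (iv3 F19571) D25036 D51529 (iv1 D58961) F45290 F22239 D13392
def n58962 : Q := act 5 n28022
theorem D58962 : act 5 n28022 = n58962 := rfl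
def n58963 : Q := act 2 n28023
theorem D58963 : act 2 n28023 = n58963 := rfl
theorem F93167 : act 7 n28024 = n58963 := d15_2 (iv0 D28023) D28024 (iv2 D58963)
def n58964 : Q := act 3 n28023
theorem D58964 : act 3 n28023 = n58964 := rfl
theorem F93168 : act 4 n58964 = n50400 := d20_6 D24739 (iv1 F80380) F22257 (iv3 F22239) D28023 D58964 (iv1 D50400) F38554 F18959 D11703
def n58965 : Q := act 4 n28023
theorem D58965 : act 4 n28023 = n58965 := rfl
def n58966 : Q := act 5 n28023
theorem D58966 : act 5 n28023 = n58966 := rfl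
theorem F93169 : act 6 n58966 = n31742 := d21_9 F78467 (iv1 F37970) (iv5 F45166) (iv6 D27948) (iv1 F22193) D13370 F22240 D28023 D58966 (iv1 F78470)
theorem F93170 : act 0 n58832 = n58966 := d21_10 (iv5 D58966) (iv1 F45291) F37383 (iv6 D23947) (iv1 F18221) D13415 (iv5 F37569) D49242 F77780 D58832
def n58967 : Q := act 6 n28023
theorem D58967 : act 6 n28023 = n58967 := rfl
theorem F93171 : act 5 n58967 = n51156 := d21_6 (iv5 D13327) (iv1 F9858) (iv5 F9866) D13370 D28023 D58967 (iv1 D51156) F40268 (iv6 F40267) (iv1 F39716)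
def n58968 : Q := act 7 n28023
theorem D58968 : act 7 n28023 = n58968 := rfl
def n58969 : Q := act 3 n28024
theorem D58969 : act 3 n28024 = n58969 := rfl
def n58970 : Q := act 4 n28024
theorem D58970 : act 4 n28024 = n58970 := rfl
def n58971 : Q := act 5 n28024
theorem D58971 : act 5 n28024 = n58971 := rfl
theorem F93173 : act 0 n58971 = n58832 := d21_1 D58971 F93006 (iv6 D52442) (iv1 D25449) (iv6 D12096) (iv5 D5730) (iv1 F9916) (iv5 F18220) D23947 (iv1 F45292)
theorem F93174 : act 6 n58971 = n58806 := d21_3 F37383 (iv1 F45292) D58971 (iv1 F92978) F80358 (iv5 F78636) (iv1 F80701) (iv5 F93171) (iv6 D58967) (iv1 F45291)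
def n58972 : Q := act 6 n28024
theorem D58972 : act 6 n28024 = n58972 := rfl
theorem F93175 : act 5 n58972 = n49982 := d21_6 (iv5 D5730) (iv1 F9916) (iv5 F18220) D23947 (iv1 F45292) D58972 (iv1 D49982) (iv5 F38789) (iv6 D24778) (iv1 F19079)
def n58973 : Q := act 3 n28025
theorem D58973 : act 3 n28025 = n58973 := rfl
theorem F93176 : act 4 n58973 = n52237 := d5_2 D28025 D58973 (iv3 D52237) F40120 F22320
def n58974 : Q := act 6 n28025
theorem D58974 : act 6 n28025 = n58974 := rfl
theorem F93177 : act 2 n58974 = n28030 := d3_1 D58974 (iv6 D28030) (iv2 F45293)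
theorem F93178 : act 4 n58974 = n28026 := d10_1 D58974 (iv6 D28026) D28025
def n58975 : Q := act 0 n28026
theorem D58975 : act 0 n28026 = n58975 := rfl
def n58976 : Q := act 1 n28026
theorem D58976 : act 1 n28026 = n58976 := rfl
theorem F93179 : act 1 n58976 = n28033 := d15_1 D58976 (iv7 D28033) (iv2 F45295)
def n58977 : Q := act 7 n28026
theorem D58977 : act 7 n28026 = n58977 := rfl
theorem F93180 : act 2 n58977 = n28033 := d4_1 D58977 (iv7 D28033) (iv2 F45295)
theorem F93181 : act 5 n58977 = n31769 := d13_1 D58977 (iv7 F76878) (iv5 F76879)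
theorem F93182 : act 1 n28033 = n58975 := d15_0 (iv0 D58975) D58977 F93180
theorem F93183 : act 1 n28032 = n58977 := d15_1 D28032 (iv7 D58977) F45295
theorem F93184 : act 1 n58977 = n28031 := d15_0 (iv0 D28031) D28033 (iv2 F93180)
def n58978 : Q := act 3 n28027
theorem D58978 : act 3 n28027 = n58978 := rfl
theorem F93185 : act 4 n58978 = n52266 := d5_2 (iv4 F45296) D58978 F82639 F40154 (iv3 F39275)
theorem F93186 : act 7 n58978 = n52221 := d8_2 F45297 D58978 (iv3 D52221)
def n58979 : Q := act 6 n28027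
theorem D58979 : act 6 n28027 = n58979 := rfl
theorem F93187 : act 4 n58979 = n51538 := d10_1 D58979 (iv6 D51538) (iv4 F45296)
theorem F93188 : act 7 n58979 = n52247 := d14_2 F45297 D58979 (iv6 D52247) (iv7 D25377) (iv6 F40097)
def n58980 : Q := act 3 n28028
theorem D58980 : act 3 n28028 = n58980 := rfl
theorem F93189 : act 4 n58980 = n34030 := d5_2 (iv4 F45298) D58980 (iv3 D34030) (iv4 D16485) (iv3 F25998)
theorem F93190 : act 5 n58980 = n32099 := d6_2 F82051 D58980 F82052
theorem F93191 : act 6 n58980 = n52220 := d7_2 F45300 D58980 (iv3 D52220)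
theorem F93192 : act 7 n58980 = n32097 := d8_2 F45494 D58980 F51038
theorem F93193 : act 2 n32118 = n58980 := d2_3 F93190 F51040 D32118
def n58981 : Q := act 6 n28029
theorem D58981 : act 6 n28029 = n58981 := rfl
def n58982 : Q := act 0 n28030
theorem D58982 : act 0 n28030 = n58982 := rfl
def n58983 : Q := act 1 n28030
theorem D58983 : act 1 n28030 = n58983 := rfl
def n58984 : Q := act 5 n28030
theorem D58984 : act 5 n28030 = n58984 := rfl
def n58985 : Q := act 7 n28030
theorem D58985 : act 7 n28030 = n58985 := rfl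
def n58986 : Q := act 2 n28031
theorem D58986 : act 2 n28031 = n58986 := rfl
theorem F93195 : act 7 n28032 = n58986 := d15_2 (iv0 D28031) D28032 (iv2 D58986)
def n58987 : Q := act 3 n28031
theorem D58987 : act 3 n28031 = n58987 := rfl
def n58988 : Q := act 4 n28031
theorem D58988 : act 4 n28031 = n58988 := rfl
def n58989 : Q := act 5 n28031
theorem D58989 : act 5 n28031 = n58989 := rfl
def n58990 : Q := act 6 n28031
theorem D58990 : act 6 n28031 = n58990 := rfl
def n58991 : Q := act 7 n28031
theorem D58991 : act 7 n28031 = n58991 := rfl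
theorem F93196 : act 2 n58991 = n28032 := d4_1 D58991 F93195 (iv2 D58986)
def n58992 : Q := act 3 n28032
theorem D58992 : act 3 n28032 = n58992 := rfl
def n58993 : Q := act 4 n28032
theorem D58993 : act 4 n28032 = n58993 := rfl
def n58994 : Q := act 5 n28032
theorem D58994 : act 5 n28032 = n58994 := rfl
theorem F93197 : act 6 n58994 = n48844 := d21_3 (iv5 F93181) (iv1 F93183) D58994 (iv1 D48844) (iv6 D23816) F18116 (iv1 F18095) D23788 D48778 (iv1 F76810)
def n58995 : Q := act 6 n28032
theorem D58995 : act 6 n28032 = n58995 := rfl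
def n58996 : Q := act 0 n28035
theorem D58996 : act 0 n28035 = n58996 := rfl
def n58997 : Q := act 1 n28035
theorem D58997 : act 1 n28035 = n58997 := rfl
def n58998 : Q := act 2 n28035
theorem D58998 : act 2 n28035 = n58998 := rfl
def n58999 : Q := act 4 n28035
theorem D58999 : act 4 n28035 = n58999 := rfl
def n59000 : Q := act 5 n28035
theorem D59000 : act 5 n28035 = n59000 := rfl
theorem F93198 : act 3 n59000 = n28037 := d6_1 D59000 (iv5 D28037) D28035
def n59001 : Q := act 4 n28037
theorem D59001 : act 4 n28037 = n59001 := rfl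
theorem F93199 : act 0 n59001 = n53638 := d17_0 F84631 (iv1 D31764) (iv5 D14942) F11438 D7120 D14950 (iv5 F45830) F45832 D59001
def n59002 : Q := act 0 n28039
theorem D59002 : act 0 n28039 = n59002 := rfl
def n59004 : Q := act 2 n28039
theorem D59004 : act 2 n28039 = n59004 := rfl
def n59005 : Q := act 4 n28039
theorem D59005 : act 4 n28039 = n59005 := rfl
def n59006 : Q := act 5 n28039
theorem D59006 : act 5 n28039 = n59006 := rfl
theorem F93200 : act 3 n59006 = n28041 := d6_1 D59006 (iv5 D28041) D28039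
theorem F93201 : act 6 n48881 = n59006 := d7_0 F93200 F45306 D48881
def n59007 : Q := act 6 n28039
theorem D59007 : act 6 n28039 = n59007 := rfl
theorem F93202 : act 3 n59007 = n28042 := d7_1 D59007 (iv6 D28042) D28039
theorem F93203 : act 5 n31425 = n59007 := d6_0 F93202 F45307 D31425
def n59008 : Q := act 4 n28041
theorem D59008 : act 4 n28041 = n59008 := rfl
theorem F93204 : act 6 n59008 = n48882 := d10_2 (iv6 F45306) D59008 (iv4 D48882)
theorem F93205 : act 1 n59008 = n53638 := d18_6 (iv1 F19691) (iv4 F39495) (iv1 F39498) F46777 D28041 D59008 F84630 F41041 (iv5 D24667)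
def n59009 : Q := act 3 n28043
theorem D59009 : act 3 n28043 = n59009 := rfl
theorem F93206 : act 7 n59009 = n52237 := d8_2 (iv7 F45309) D59009 (iv3 D52237)
def n59010 : Q := act 5 n28043
theorem D59010 : act 5 n28043 = n59010 := rfl
theorem F93207 : act 2 n59010 = n28046 := d2_1 D59010 (iv5 D28046) (iv2 F45308)
theorem F93208 : act 4 n59010 = n49517 := d9_1 D59010 (iv5 D49517) (iv4 D24169) (iv5 F19040) F19039 (iv5 F10406) D13423 D28120 (iv4 F83974) (iv5 D53170) (iv4 D25788) (iv5 F20291) (iv4 F19855) (iv5 F22246) D28043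
theorem F93209 : act 7 n59010 = n52238 := d13_2 (iv7 F45309) D59010 (iv5 D52238)
theorem F93210 : act 0 n59010 = n52042 := d17_2 (iv1 F45311) D59010 (iv5 D52042) F39860 (iv5 F38479) (iv0 F37864) (iv5 F38530) F38533 (iv4 F40124)
theorem F93211 : act 1 n59010 = n52039 := d17_6 D11992 F20310 (iv1 F19858) (iv5 F22246) D28043 D59010 (iv5 D52039) (iv0 D25262) (iv4 D11994)
def n59011 : Q := act 6 n28043
theorem D59011 : act 6 n28043 = n59011 := rfl
theorem F93212 : act 2 n59011 = n28047 := d3_1 D59011 (iv6 D28047) (iv2 F45308)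
theorem F93213 : act 4 n59011 = n28044 := d10_1 D59011 (iv6 D28044) D28043
def n59012 : Q := act 0 n28044
theorem D59012 : act 0 n28044 = n59012 := rfl
def n59013 : Q := act 1 n28044
theorem D59013 : act 1 n28044 = n59013 := rfl
theorem F93214 : act 1 n59013 = n28050 := d15_1 D59013 (iv7 D28050) (iv2 F45312)
def n59014 : Q := act 7 n28044
theorem D59014 : act 7 n28044 = n59014 := rfl
theorem F93215 : act 2 n59014 = n28050 := d4_1 D59014 (iv7 D28050) (iv2 F45312)
theorem F93216 : act 1 n28050 = n59012 := d15_0 (iv0 D59012) D59014 F93215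
theorem F93217 : act 1 n28049 = n59014 := d15_1 D28049 (iv7 D59014) F45312
theorem F93218 : act 1 n59014 = n28048 := d15_0 (iv0 D28048) D28050 (iv2 F93215)
def n59015 : Q := act 3 n28045
theorem D59015 : act 3 n28045 = n59015 := rfl
theorem F93219 : act 4 n59015 = n50412 := d5_2 F45315 D59015 (iv3 D50412) (iv4 D24570) (iv3 F38457)
theorem F93220 : act 5 n59015 = n53350 := d6_2 (iv5 F45317) D59015 (iv3 D53350)
theorem F93221 : act 7 n59015 = n52220 := d8_2 (iv7 F45314) D59015 (iv3 D52220)
def n59016 : Q := act 6 n28045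
theorem D59016 : act 6 n28045 = n59016 := rfl
theorem F93222 : act 2 n59016 = n52247 := d3_1 D59016 (iv6 D52247) (iv2 F45316)
theorem F93223 : act 4 n59016 = n50244 := d10_1 D59016 (iv6 D50244) F45315
def n59017 : Q := act 6 n28046
theorem D59017 : act 6 n28046 = n59017 := rfl
theorem F93224 : act 4 n59017 = n53265 := d10_1 D59017 (iv6 D53265) (iv4 F45319)
def n59018 : Q := act 0 n28047
theorem D59018 : act 0 n28047 = n59018 := rfl
def n59019 : Q := act 1 n28047
theorem D59019 : act 1 n28047 = n59019 := rfl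
def n59020 : Q := act 5 n28047
theorem D59020 : act 5 n28047 = n59020 := rfl
def n59021 : Q := act 7 n28047
theorem D59021 : act 7 n28047 = n59021 := rfl
theorem F93225 : act 4 n59021 = n28050 := d11_1 D59021 (iv7 D28050) (iv4 F45320)
def n59022 : Q := act 2 n28048
theorem D59022 : act 2 n28048 = n59022 := rfl
theorem F93226 : act 7 n28049 = n59022 := d15_2 (iv0 D28048) D28049 (iv2 D59022)
def n59023 : Q := act 3 n28048
theorem D59023 : act 3 n28048 = n59023 := rfl
def n59024 : Q := act 4 n28048
theorem D59024 : act 4 n28048 = n59024 := rfl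
def n59025 : Q := act 5 n28048
theorem D59025 : act 5 n28048 = n59025 := rfl
def n59026 : Q := act 6 n28048
theorem D59026 : act 6 n28048 = n59026 := rfl
def n59027 : Q := act 7 n28048
theorem D59027 : act 7 n28048 = n59027 := rfl
theorem F93227 : act 2 n59027 = n28049 := d4_1 D59027 F93226 (iv2 D59022)
def n59028 : Q := act 3 n28049
theorem D59028 : act 3 n28049 = n59028 := rfl
def n59029 : Q := act 4 n28049
theorem D59029 : act 4 n28049 = n59029 := rfl
def n59030 : Q := act 5 n28049
theorem D59030 : act 5 n28049 = n59030 := rfl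
def n59031 : Q := act 6 n28049
theorem D59031 : act 6 n28049 = n59031 := rfl
def n59033 : Q := act 1 n28052
theorem D59033 : act 1 n28052 = n59033 := rfl
def n59034 : Q := act 2 n28052
theorem D59034 : act 2 n28052 = n59034 := rfl
def n59035 : Q := act 4 n28052
theorem D59035 : act 4 n28052 = n59035 := rfl
def n59036 : Q := act 6 n28052
theorem D59036 : act 6 n28052 = n59036 := rfl
theorem F93228 : act 3 n59036 = n28054 := d7_1 D59036 (iv6 D28054) D28052
theorem F93229 : act 5 n31428 = n59036 := d6_0 F93228 F45323 D31428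
def n59037 : Q := act 0 n28056
theorem D59037 : act 0 n28056 = n59037 := rfl
def n59038 : Q := act 1 n28056
theorem D59038 : act 1 n28056 = n59038 := rfl
def n59039 : Q := act 2 n28056
theorem D59039 : act 2 n28056 = n59039 := rfl
def n59040 : Q := act 4 n28056
theorem D59040 : act 4 n28056 = n59040 := rfl
def n59041 : Q := act 6 n28058
theorem D59041 : act 6 n28058 = n59041 := rfl
theorem F93230 : act 2 n59041 = n28076 := d3_1 D59041 (iv6 D28076) F45325
def n59042 : Q := act 0 n28059
theorem D59042 : act 0 n28059 = n59042 := rfl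
theorem F93231 : act 1 n28064 = n59042 := d15_0 (iv0 D59042) (iv7 F45329) (iv2 F45330)
def n59043 : Q := act 1 n28059
theorem D59043 : act 1 n28059 = n59043 := rfl
def n59044 : Q := act 3 n28059
theorem D59044 : act 3 n28059 = n59044 := rfl
theorem F93233 : act 7 n59044 = n28065 := d8_2 F45329 D59044 (iv3 D28065)
def n59045 : Q := act 4 n28059
theorem D59045 : act 4 n28059 = n59045 := rfl
theorem F93234 : act 2 n59045 = n28061 := d1_1 D59045 (iv4 D28061) D28059
theorem F93235 : act 7 n59045 = n28066 := d11_2 F45329 D59045 (iv4 D28066)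
def n59046 : Q := act 5 n28059
theorem D59046 : act 5 n28059 = n59046 := rfl
theorem F93236 : act 2 n59046 = n28062 := d2_1 D59046 (iv5 D28062) D28059
theorem F93237 : act 7 n59046 = n28067 := d13_2 F45329 D59046 (iv5 D28067)
def n59047 : Q := act 6 n28059
theorem D59047 : act 6 n28059 = n59047 := rfl
def n59048 : Q := act 0 n28060
theorem D59048 : act 0 n28060 = n59048 := rfl
def n59049 : Q := act 1 n28060
theorem D59049 : act 1 n28060 = n59049 := rfl
def n59050 : Q := act 2 n28060
theorem D59050 : act 2 n28060 = n59050 := rfl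
def n59051 : Q := act 5 n28060
theorem D59051 : act 5 n28060 = n59051 := rfl
theorem F93239 : act 3 n59051 = n28062 := d6_1 D59051 (iv5 D28062) D28060
def n59052 : Q := act 6 n28060
theorem D59052 : act 6 n28060 = n59052 := rfl
theorem F93240 : act 3 n59052 = n28063 := d7_1 D59052 (iv6 D28063) D28060
def n59053 : Q := act 7 n28060
theorem D59053 : act 7 n28060 = n59053 := rfl
theorem F93241 : act 3 n59053 = n28064 := d8_1 D59053 (iv7 D28064) D28060
def n59054 : Q := act 0 n28061
theorem D59054 : act 0 n28061 = n59054 := rfl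
theorem F93242 : act 4 n59054 = n51849 := d20_2 D28061 D59054 (iv3 D51849) (iv1 D25168) (iv3 D11948) F8570 (iv1 D2665) D2666 D6343 D13385
def n59055 : Q := act 1 n28061
theorem D59055 : act 1 n28061 = n59055 := rfl
theorem F93243 : act 1 n59055 = n28066 := d15_1 D59055 (iv7 F93235) F93234
def n59056 : Q := act 3 n28061
theorem D59056 : act 3 n28061 = n59056 := rfl
def n59057 : Q := act 5 n28061
theorem D59057 : act 5 n28061 = n59057 := rfl
def n59058 : Q := act 6 n28061
theorem D59058 : act 6 n28061 = n59058 := rfl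
theorem F93244 : act 4 n59058 = n28063 := d10_1 D59058 (iv6 D28063) D28061
def n59059 : Q := act 7 n28061
theorem D59059 : act 7 n28061 = n59059 := rfl
theorem F93245 : act 2 n59059 = n28066 := d4_1 D59059 (iv7 F93235) F93234
theorem F93246 : act 4 n59059 = n28064 := d11_1 D59059 (iv7 D28064) D28061
theorem F93247 : act 1 n28066 = n59054 := d15_0 (iv0 D59054) D59059 F93245
def n59060 : Q := act 0 n28062
theorem D59060 : act 0 n28062 = n59060 := rfl
def n59061 : Q := act 1 n28062
theorem D59061 : act 1 n28062 = n59061 := rfl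
theorem F93248 : act 1 n59061 = n28067 := d15_1 D59061 (iv7 F93237) F93236
def n59062 : Q := act 4 n28062
theorem D59062 : act 4 n28062 = n59062 := rfl
def n59063 : Q := act 6 n28062
theorem D59063 : act 6 n28062 = n59063 := rfl
def n59064 : Q := act 7 n28062
theorem D59064 : act 7 n28062 = n59064 := rfl
theorem F93249 : act 2 n59064 = n28067 := d4_1 D59064 (iv7 F93237) F93236
theorem F93250 : act 5 n59064 = n28064 := d13_1 D59064 (iv7 D28064) D28062
theorem F93251 : act 1 n28067 = n59060 := d15_0 (iv0 D59060) D59064 F93249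
def n59065 : Q := act 0 n28063
theorem D59065 : act 0 n28063 = n59065 := rfl
def n59066 : Q := act 1 n28063
theorem D59066 : act 1 n28063 = n59066 := rfl
def n59067 : Q := act 5 n28063
theorem D59067 : act 5 n28063 = n59067 := rfl
def n59068 : Q := act 7 n28063
theorem D59068 : act 7 n28063 = n59068 := rfl
def n59069 : Q := act 6 n28064
theorem D59069 : act 6 n28064 = n59069 := rfl
def n59070 : Q := act 0 n28065
theorem D59070 : act 0 n28065 = n59070 := rfl
theorem F93253 : act 4 n59070 = n50771 := d20_0 (iv1 F81848) (iv4 D51830) F39591 (iv1 F39611) D51849 (iv4 F93242) (iv1 F93247) (iv4 D28066) D28065 D59070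
def n59071 : Q := act 1 n28065
theorem D59071 : act 1 n28065 = n59071 := rfl
def n59072 : Q := act 2 n28065
theorem D59072 : act 2 n28065 = n59072 := rfl
def n59073 : Q := act 4 n28065
theorem D59073 : act 4 n28065 = n59073 := rfl
theorem F93254 : act 0 n51822 = n59073 := d20_1 D51822 (iv4 D59073) (iv3 D28065) (iv1 D13386) (iv3 D6343) (iv4 D2666) D2664 (iv4 F8564) D11946 D25158
def n59074 : Q := act 5 n28065
theorem D59074 : act 5 n28065 = n59074 := rfl
theorem F93255 : act 3 n59074 = n28067 := d6_1 D59074 (iv5 D28067) D28065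
def n59076 : Q := act 3 n28066
theorem D59076 : act 3 n28066 = n59076 := rfl
theorem F93257 : act 0 n52266 = n59076 := d20_4 (iv4 F36868) (iv1 F36864) (iv4 F40154) (iv3 F82639) (iv3 D59076) (iv4 D28066) (iv1 D13386) (iv4 F22237) (iv3 D13367) D13365
theorem F93258 : act 1 n52264 = n59076 := d15_0 (iv0 F93257) (iv7 D52266) D52264
def n59077 : Q := act 5 n28066
theorem D59077 : act 5 n28066 = n59077 := rfl
def n59078 : Q := act 6 n28066
theorem D59078 : act 6 n28066 = n59078 := rfl
def n59079 : Q := act 4 n28067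
theorem D59079 : act 4 n28067 = n59079 := rfl
def n59085 : Q := act 2 n28069
theorem D59085 : act 2 n28069 = n59085 := rfl
theorem F93260 : act 7 n28070 = n59085 := d15_2 (iv0 D28069) D28070 (iv2 D59085)
def n59086 : Q := act 3 n28069
theorem D59086 : act 3 n28069 = n59086 := rfl
def n59087 : Q := act 4 n28069
theorem D59087 : act 4 n28069 = n59087 := rfl
theorem F93261 : act 3 n52262 = n59087 := d20_5 (iv4 D25384) (iv1 D12070) D12071 D25386 D52262 (iv4 D59087) (iv1 F45331) (iv4 F45278) F45277 (iv1 F40152)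
def n59091 : Q := act 4 n28070
theorem D59091 : act 4 n28070 = n59091 := rfl
def n59092 : Q := act 5 n28070
theorem D59092 : act 5 n28070 = n59092 := rfl
def n59094 : Q := act 4 n28071
theorem D59094 : act 4 n28071 = n59094 := rfl
theorem F93263 : act 2 n59094 = n28074 := d1_1 D59094 (iv4 D28074) (iv2 F45333)
theorem F93264 : act 7 n59094 = n28111 := d11_2 (iv7 F45335) D59094 F45418
theorem F93265 : act 0 n59094 = n28110 := d20_1 D59094 (iv4 F80193) (iv3 D50834) (iv1 D24728) (iv3 F19714) (iv4 F39263) (iv1 F80206) (iv4 F80207) (iv3 D28148) (iv1 F45337)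
theorem F93266 : act 1 n59094 = n28109 := d15_0 (iv0 D28109) (iv7 F45341) (iv2 F93263)
def n59095 : Q := act 6 n28071
theorem D59095 : act 6 n28071 = n59095 := rfl
theorem F93267 : act 2 n59095 = n28075 := d3_1 D59095 (iv6 D28075) (iv2 F45333)
theorem F93268 : act 3 n59095 = n59041 := d7_1 D59095 (iv6 D59041) (iv3 F45334)
theorem F93269 : act 5 n59095 = n59041 := d12_1 D59095 (iv6 D59041) F45326 F22356 D28071
theorem F93270 : act 7 n59095 = n59041 := d14_2 (iv7 F45335) D59095 (iv6 D59041) F45327 (iv6 F22356)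
def n59096 : Q := act 2 n28072
theorem D59096 : act 2 n28072 = n59096 := rfl
theorem F93271 : act 7 n28073 = n59096 := d15_2 (iv0 D28072) D28073 (iv2 D59096)
def n59097 : Q := act 4 n28072
theorem D59097 : act 4 n28072 = n59097 := rfl
def n59098 : Q := act 5 n28072
theorem D59098 : act 5 n28072 = n59098 := rfl
def n59099 : Q := act 6 n28072
theorem D59099 : act 6 n28072 = n59099 := rfl
def n59100 : Q := act 7 n28072
theorem D59100 : act 7 n28072 = n59100 := rfl
theorem F93272 : act 2 n59100 = n28073 := d4_1 D59100 F93271 (iv2 D59096)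
def n59101 : Q := act 3 n28073
theorem D59101 : act 3 n28073 = n59101 := rfl
def n59102 : Q := act 5 n28073
theorem D59102 : act 5 n28073 = n59102 := rfl
def n59103 : Q := act 6 n28073
theorem D59103 : act 6 n28073 = n59103 := rfl
def n59104 : Q := act 0 n28074
theorem D59104 : act 0 n28074 = n59104 := rfl
theorem F93273 : act 1 n28111 = n59104 := d15_0 (iv0 D59104) F45341 D28111
def n59105 : Q := act 6 n28074
theorem D59105 : act 6 n28074 = n59105 := rfl
theorem F93274 : act 3 n59105 = n28116 := d7_1 D59105 (iv6 D28116) (iv3 F45340)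
theorem F93275 : act 4 n59105 = n28075 := d10_1 D59105 (iv6 D28075) D28074
theorem F93276 : act 7 n59105 = n58949 := d14_2 (iv7 F45341) D59105 (iv6 D58949) (iv7 D28016) (iv6 F22313)
def n59106 : Q := act 0 n28075
theorem D59106 : act 0 n28075 = n59106 := rfl
theorem F93277 : act 1 n59041 = n59106 := d15_0 (iv0 D59106) (iv7 F45345) (iv2 F93230)
def n59107 : Q := act 1 n28075
theorem D59107 : act 1 n28075 = n59107 := rfl
theorem F93278 : act 1 n59107 = n59041 := d15_1 D59107 (iv7 F93270) F93267
def n59108 : Q := act 0 n28076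
theorem D59108 : act 0 n28076 = n59108 := rfl
theorem F93279 : act 1 n59095 = n59108 := d15_0 (iv0 D59108) F45345 (iv2 F93267)
def n59109 : Q := act 1 n28076
theorem D59109 : act 1 n28076 = n59109 := rfl
def n59110 : Q := act 0 n28080
theorem D59110 : act 0 n28080 = n59110 := rfl
def n59111 : Q := act 1 n28080
theorem D59111 : act 1 n28080 = n59111 := rfl
def n59112 : Q := act 2 n28080
theorem D59112 : act 2 n28080 = n59112 := rfl
def n59113 : Q := act 4 n28080
theorem D59113 : act 4 n28080 = n59113 := rfl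
def n59114 : Q := act 5 n28080
theorem D59114 : act 5 n28080 = n59114 := rfl
theorem F93281 : act 3 n59114 = n28082 := d6_1 D59114 (iv5 D28082) D28080
theorem F93282 : act 6 n31779 = n59114 := d7_0 F93281 F45350 D31779
def n59115 : Q := act 6 n28080
theorem D59115 : act 6 n28080 = n59115 := rfl
theorem F93283 : act 3 n59115 = n28083 := d7_1 D59115 (iv6 D28083) D28080
theorem F93284 : act 5 n49986 = n59115 := d6_0 F93283 F45367 D49986
def n59116 : Q := act 0 n28084
theorem D59116 : act 0 n28084 = n59116 := rfl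
theorem F93285 : act 3 n59116 = n31755 := d20_5 F24586 (iv1 F19785) D13393 D28084 D59116 (iv4 D31755) (iv1 D14937) (iv4 F24590) (iv3 D14927) D14925
theorem F93286 : act 1 n49499 = n59116 := d15_0 (iv0 D59116) F45368 D49499
def n59117 : Q := act 1 n28084
theorem D59117 : act 1 n28084 = n59117 := rfl
def n59118 : Q := act 2 n28084
theorem D59118 : act 2 n28084 = n59118 := rfl
theorem F93287 : act 3 n59118 = n49466 := d0_2 D28084 D59118 (iv2 D49466) (iv3 D24144) (iv2 F22261)
theorem F93288 : act 7 n59118 = n49499 := d4_2 (iv7 F45368) D59118 (iv2 D49499)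
theorem F93289 : act 1 n59118 = n49497 := d15_0 (iv0 D49497) (iv7 F45368) D59118
theorem F93290 : act 1 n59117 = n49499 := d15_1 D59117 (iv7 F93288) (iv2 D59118)
theorem F93291 : act 1 n49498 = n59118 := d15_1 D49498 F93288 (iv2 D49499)
def n59119 : Q := act 6 n28084
theorem D59119 : act 6 n28084 = n59119 := rfl
theorem F93292 : act 3 n59119 = n28085 := d7_1 D59119 (iv6 D28085) D28084
def n59120 : Q := act 0 n28085
theorem D59120 : act 0 n28085 = n59120 := rfl
def n59121 : Q := act 1 n28085
theorem D59121 : act 1 n28085 = n59121 := rfl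
theorem F93293 : act 1 n59121 = n49471 := d15_1 D59121 (iv7 D49471) (iv2 F45369)
def n59122 : Q := act 5 n28085
theorem D59122 : act 5 n28085 = n59122 := rfl
theorem F93294 : act 2 n59122 = n49470 := d2_1 D59122 (iv5 D49470) (iv2 F45369)
def n59123 : Q := act 7 n28085
theorem D59123 : act 7 n28085 = n59123 := rfl
theorem F93295 : act 2 n59123 = n49471 := d4_1 D59123 (iv7 D49471) (iv2 F45369)
theorem F93296 : act 4 n59123 = n28088 := d11_1 D59123 (iv7 D28088) (iv4 F45370)
theorem F93297 : act 6 n59123 = n49504 := d14_1 D59123 (iv7 D49504) (iv6 D24163) (iv7 F22262) D28085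
theorem F93298 : act 1 n49471 = n59120 := d15_0 (iv0 D59120) D59123 F93295
theorem F93299 : act 1 n49469 = n59123 := d15_1 D49469 (iv7 D59123) F45369
theorem F93300 : act 1 n59123 = n49468 := d15_0 (iv0 D49468) D49471 (iv2 F93295)
def n59124 : Q := act 2 n28086
theorem D59124 : act 2 n28086 = n59124 := rfl
theorem F93301 : act 7 n28087 = n59124 := d15_2 (iv0 D28086) D28087 (iv2 D59124)
def n59125 : Q := act 3 n28086
theorem D59125 : act 3 n28086 = n59125 := rfl
def n59126 : Q := act 4 n28086
theorem D59126 : act 4 n28086 = n59126 := rfl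
def n59127 : Q := act 5 n28086
theorem D59127 : act 5 n28086 = n59127 := rfl
theorem F93302 : act 0 n59127 = n30147 := d21_1 D59127 (iv5 F53493) (iv6 D34079) (iv1 F26100) F18285 (iv5 D5174) F4991 D6355 D13394 D28086
def n59128 : Q := act 6 n28086
theorem D59128 : act 6 n28086 = n59128 := rfl
theorem F93303 : act 5 n59128 = n52113 := d21_6 (iv5 D5174) F4991 D6355 D13394 D28086 D59128 (iv1 D52113) F39958 (iv6 D23997) (iv1 D11248)
theorem F93304 : act 0 n49163 = n59128 := d21_4 (iv5 D11245) D11243 D23988 D49163 (iv6 D59128) D59127 F93302 (iv5 F53493) (iv6 D34079) (iv1 F26100)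
def n59129 : Q := act 7 n28086
theorem D59129 : act 7 n28086 = n59129 := rfl
theorem F93305 : act 2 n59129 = n28087 := d4_1 D59129 F93301 (iv2 D59124)
def n59130 : Q := act 3 n28087
theorem D59130 : act 3 n28087 = n59130 := rfl
def n59131 : Q := act 4 n28087
theorem D59131 : act 4 n28087 = n59131 := rfl
def n59132 : Q := act 5 n28087
theorem D59132 : act 5 n28087 = n59132 := rfl
theorem F93306 : act 0 n30147 = n59132 := d21_10 (iv5 D59132) (iv1 D28087) (iv5 F40057) (iv6 D25347) (iv1 D12036) (iv6 F19921) (iv5 D12034) F19357 D14308 D30147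
theorem F93307 : act 6 n52112 = n59132 := d21_5 (iv5 D5700) (iv1 F10051) D12013 D25301 D52112 (iv5 D59132) (iv1 D28087) (iv5 F40057) (iv6 D25347) (iv1 D12036)
def n59133 : Q := act 6 n28087
theorem D59133 : act 6 n28087 = n59133 := rfl
def n59134 : Q := act 0 n28092
theorem D59134 : act 0 n28092 = n59134 := rfl
def n59135 : Q := act 1 n28092
theorem D59135 : act 1 n28092 = n59135 := rfl
def n59136 : Q := act 5 n28092
theorem D59136 : act 5 n28092 = n59136 := rfl
theorem F93308 : act 2 n59136 = n50262 := d2_1 D59136 (iv5 F79731) F79729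
theorem F93309 : act 3 n59136 = n28095 := d6_1 D59136 (iv5 D28095) (iv3 F45396)
theorem F93310 : act 6 n59136 = n29933 := d12_2 D28092 D59136 (iv5 F48118) F38724 F24597
theorem F93311 : act 0 n59136 = n48805 := d21_7 (iv5 D28246) F22638 D14149 (iv6 F23741) (iv1 F24599) D28092 D59136 (iv5 F82226) (iv6 D52031) (iv1 F45737)
theorem F93312 : act 1 n59136 = n50264 := d15_1 (iv0 F93311) (iv7 D50264) (iv2 F76875)
theorem F93313 : act 7 n53934 = n59136 := d8_0 F93309 (iv7 F78432) D53934
theorem F93314 : act 4 n59136 = n30875 := d20_6 D14639 F47639 F41265 (iv3 F41253) (iv1 F45400) (iv3 F93309) (iv1 D30875) F24300 F11249 D6992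
theorem F93315 : act 6 n30875 = n34106 := d10_2 (iv6 F93310) F93314 F53519
def n59137 : Q := act 7 n28092
theorem D59137 : act 7 n28092 = n59137 := rfl
theorem F93316 : act 3 n59137 = n28096 := d8_1 D59137 (iv7 D28096) (iv3 F45396)
theorem F93317 : act 5 n59137 = n53934 := d13_1 D59137 F93313 (iv5 D59136)
def n59138 : Q := act 2 n28093
theorem D59138 : act 2 n28093 = n59138 := rfl
theorem F93318 : act 6 n59138 = n58907 := d3_2 (iv6 F78378) D59138 F93121
theorem F93319 : act 7 n28094 = n59138 := d15_2 (iv0 D28093) D28094 (iv2 D59138)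
def n59139 : Q := act 3 n28093
theorem D59139 : act 3 n28093 = n59139 := rfl
theorem F93320 : act 6 n59139 = n58908 := d7_2 (iv6 F78378) D59139 (iv3 D58908)
def n59140 : Q := act 4 n28093
theorem D59140 : act 4 n28093 = n59140 := rfl
theorem F93321 : act 6 n59140 = n58909 := d10_2 (iv6 F78378) D59140 (iv4 D58909)
def n59141 : Q := act 5 n28093
theorem D59141 : act 5 n28093 = n59141 := rfl
def n59142 : Q := act 7 n28093
theorem D59142 : act 7 n28093 = n59142 := rfl
theorem F93322 : act 2 n59142 = n28094 := d4_1 D59142 F93319 (iv2 D59138)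
def n59143 : Q := act 3 n28094
theorem D59143 : act 3 n28094 = n59143 := rfl
def n59144 : Q := act 4 n28094
theorem D59144 : act 4 n28094 = n59144 := rfl
def n59145 : Q := act 5 n28094
theorem D59145 : act 5 n28094 = n59145 := rfl
theorem F93323 : act 6 n59145 = n31352 := d21_3 (iv5 F78429) (iv1 F77453) D59145 (iv1 D31352) (iv6 D14779) (iv5 D7040) (iv1 F9975) D11378 D24215 D49655
def n59146 : Q := act 6 n28094
theorem D59146 : act 6 n28094 = n59146 := rfl
theorem F93324 : act 7 n59146 = n58906 := d14_2 (iv7 F93319) D59146 (iv6 D58906) D58907 (iv6 F93318)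
theorem F93325 : act 5 n59146 = n53915 := d21_6 (iv5 F92891) (iv1 F77789) F77785 (iv6 F77451) (iv1 F77453) D59146 (iv1 F85032) F82307 (iv6 F82308) (iv1 F92890)
theorem F93326 : act 7 n53915 = n31364 := d13_2 (iv7 F93324) F93325 (iv5 F93120)
theorem F93327 : act 2 n31364 = n53916 := d15_3 F85028 F85032 F93326
theorem F93328 : act 2 n53915 = n31363 := d15_3 (iv0 D31363) D31364 (iv7 F93326)
theorem F93329 : act 7 n31363 = n53916 := d4_2 (iv7 F93326) F93328 (iv2 F93327)
def n59147 : Q := act 4 n28095
theorem D59147 : act 4 n28095 = n59147 := rfl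
theorem F93330 : act 2 n59147 = n53938 := d1_1 D59147 (iv4 D53938) (iv2 F45397)
theorem F93331 : act 6 n59147 = n29595 := d10_2 (iv6 F45398) D59147 F47513
theorem F93332 : act 7 n59147 = n53935 := d11_2 F78432 D59147 (iv4 D53935)
theorem F93333 : act 0 n59147 = n30345 := d20_1 D59147 F48774 F24049 D14413 F48511 D14639 F47639 F41265 (iv3 F41253) (iv1 F45400)
def n59148 : Q := act 6 n28097
theorem D59148 : act 6 n28097 = n59148 := rfl
theorem F93334 : act 2 n59148 = n28099 := d3_1 D59148 (iv6 D28099) D28097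
def n59149 : Q := act 5 n28098
theorem D59149 : act 5 n28098 = n59149 := rfl
theorem F93335 : act 0 n59149 = n30376 := d17_2 F45404 D59149 (iv5 D30376) (iv4 D14417) (iv5 D6898) (iv0 F22485) F22490 (iv0 F22343) D25039
theorem F93336 : act 1 n59149 = n50531 := d17_6 F39832 F39828 (iv1 F38804) F24601 D28098 D59149 (iv5 D50531) F48804 F48803
def n59150 : Q := act 6 n28098
theorem D59150 : act 6 n28098 = n59150 := rfl
theorem F93337 : act 4 n59150 = n28099 := d10_1 D59150 (iv6 D28099) D28098
def n59151 : Q := act 0 n28099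
theorem D59151 : act 0 n28099 = n59151 := rfl
def n59152 : Q := act 1 n28099
theorem D59152 : act 1 n28099 = n59152 := rfl
def n59153 : Q := act 7 n28099
theorem D59153 : act 7 n28099 = n59153 := rfl
theorem F93338 : act 3 n59153 = n28102 := d8_1 D59153 (iv7 D28102) (iv3 F45405)
def n59154 : Q := act 2 n28100
theorem D59154 : act 2 n28100 = n59154 := rfl
theorem F93339 : act 7 n28101 = n59154 := d15_2 (iv0 D28100) D28101 (iv2 D59154)
def n59155 : Q := act 3 n28100
theorem D59155 : act 3 n28100 = n59155 := rfl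
def n59156 : Q := act 4 n28100
theorem D59156 : act 4 n28100 = n59156 := rfl
def n59157 : Q := act 6 n28100
theorem D59157 : act 6 n28100 = n59157 := rfl
theorem F93340 : act 5 n59157 = n49623 := d21_6 F22692 (iv1 F18607) F11432 D13415 D28100 D59157 (iv1 D49623) F37917 (iv6 D13540) D13538
theorem F93341 : act 0 n59157 = n58967 := d21_10 F93171 (iv1 D51156) F40268 (iv6 F40267) (iv1 F39716) D27943 F45153 D28782 F77811 D59157
def n59158 : Q := act 7 n28100
theorem D59158 : act 7 n28100 = n59158 := rfl
theorem F93342 : act 2 n59158 = n28101 := d4_1 D59158 F93339 (iv2 D59154)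
theorem F93343 : act 6 n58877 = n59158 := d3_0 F93342 (iv6 F78435) D58877
theorem F93344 : act 7 n59157 = n58884 := d14_4 F93101 F93343 (iv7 D59158) D59157 (iv6 D58884)
theorem F93345 : act 7 n31722 = n49623 := d13_2 F93344 F93104 (iv5 F93340)
theorem F93346 : act 2 n49623 = n31723 := d15_3 F78374 F78379 F93345
theorem F93347 : act 2 n31722 = n49622 := d15_3 (iv0 D49622) D49623 (iv7 F93345)
theorem F93348 : act 7 n49622 = n31723 := d4_2 (iv7 F93345) F93347 (iv2 F93346)
def n59159 : Q := act 3 n28101
theorem D59159 : act 3 n28101 = n59159 := rfl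
theorem F93349 : act 6 n59159 = n58878 := d7_2 F78435 D59159 (iv3 D58878)
def n59160 : Q := act 4 n28101
theorem D59160 : act 4 n28101 = n59160 := rfl
theorem F93350 : act 6 n59160 = n58879 := d10_2 F78435 D59160 (iv4 D58879)
def n59161 : Q := act 0 n28103
theorem D59161 : act 0 n28103 = n59161 := rfl
theorem F93351 : act 1 n52342 = n59161 := d15_0 (iv0 D59161) F45406 D52342
def n59162 : Q := act 1 n28103
theorem D59162 : act 1 n28103 = n59162 := rfl
def n59163 : Q := act 2 n28103
theorem D59163 : act 2 n28103 = n59163 := rfl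
theorem F93352 : act 3 n59163 = n52314 := d0_2 D28103 D59163 (iv2 D52314) (iv3 D25408) F22307
theorem F93353 : act 7 n59163 = n52342 := d4_2 (iv7 F45406) D59163 (iv2 D52342)
theorem F93354 : act 1 n59163 = n52340 := d15_0 (iv0 D52340) (iv7 F45406) D59163
theorem F93355 : act 1 n59162 = n52342 := d15_1 D59162 (iv7 F93353) (iv2 D59163)
theorem F93356 : act 1 n52341 = n59163 := d15_1 D52341 F93353 (iv2 D52342)
def n59164 : Q := act 4 n28103
theorem D59164 : act 4 n28103 = n59164 := rfl
theorem F93357 : act 3 n59164 = n48649 := d5_1 D59164 (iv4 D48649) (iv3 D23720) (iv4 F22306) D28103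
theorem F93358 : act 7 n59164 = n52334 := d11_2 (iv7 F45406) D59164 F82715
def n59165 : Q := act 5 n28103
theorem D59165 : act 5 n28103 = n59165 := rfl
theorem F93359 : act 3 n59165 = n28104 := d6_1 D59165 (iv5 D28104) D28103
theorem F93360 : act 7 n59165 = n52343 := d13_2 (iv7 F45406) D59165 (iv5 D52343)
def n59166 : Q := act 6 n28103
theorem D59166 : act 6 n28103 = n59166 := rfl
theorem F93361 : act 3 n59166 = n28105 := d7_1 D59166 (iv6 D28105) D28103
def n59167 : Q := act 6 n28104
theorem D59167 : act 6 n28104 = n59167 := rfl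
theorem F93362 : act 2 n59167 = n52317 := d3_1 D59167 (iv6 D52317) (iv2 F45407)
theorem F93363 : act 4 n59167 = n48692 := d10_1 D59167 (iv6 D48692) (iv4 F45409)
def n59168 : Q := act 0 n28105
theorem D59168 : act 0 n28105 = n59168 := rfl
def n59169 : Q := act 1 n28105
theorem D59169 : act 1 n28105 = n59169 := rfl
theorem F93364 : act 1 n59169 = n52321 := d15_1 D59169 (iv7 D52321) (iv2 F45410)
def n59170 : Q := act 5 n28105
theorem D59170 : act 5 n28105 = n59170 := rfl
theorem F93365 : act 2 n59170 = n52320 := d2_1 D59170 (iv5 D52320) (iv2 F45410)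
def n59171 : Q := act 7 n28105
theorem D59171 : act 7 n28105 = n59171 := rfl
theorem F93366 : act 2 n59171 = n52321 := d4_1 D59171 (iv7 D52321) (iv2 F45410)
theorem F93367 : act 4 n59171 = n48653 := d11_1 D59171 (iv7 D48653) (iv4 F45411)
theorem F93368 : act 6 n59171 = n52349 := d14_1 D59171 (iv7 D52349) (iv6 D25419) F22308 D28105
theorem F93369 : act 1 n52321 = n59168 := d15_0 (iv0 D59168) D59171 F93366
theorem F93370 : act 1 n52319 = n59171 := d15_1 D52319 (iv7 D59171) F45410
theorem F93371 : act 1 n59171 = n52318 := d15_0 (iv0 D52318) D52321 (iv2 F93366)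
def n59172 : Q := act 0 n28106
theorem D59172 : act 0 n28106 = n59172 := rfl
theorem F93372 : act 1 n52314 = n59172 := d15_0 (iv0 D59172) F45412 D52314
def n59173 : Q := act 1 n28106
theorem D59173 : act 1 n28106 = n59173 := rfl
def n59174 : Q := act 2 n28106
theorem D59174 : act 2 n28106 = n59174 := rfl
theorem F93373 : act 3 n59174 = n52342 := d0_2 D28106 D59174 (iv2 D52342) (iv3 D25417) F22311
theorem F93374 : act 7 n59174 = n52314 := d4_2 (iv7 F45412) D59174 (iv2 D52314)
theorem F93375 : act 1 n59174 = n52312 := d15_0 (iv0 D52312) (iv7 F45412) D59174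
theorem F93376 : act 1 n59173 = n52314 := d15_1 D59173 (iv7 F93374) (iv2 D59174)
theorem F93377 : act 1 n52313 = n59174 := d15_1 D52313 F93374 (iv2 D52314)
def n59175 : Q := act 5 n28106
theorem D59175 : act 5 n28106 = n59175 := rfl
theorem F93378 : act 3 n59175 = n28107 := d6_1 D59175 (iv5 D28107) D28106
theorem F93379 : act 7 n59175 = n52315 := d13_2 (iv7 F45412) D59175 (iv5 D52315)
def n59176 : Q := act 6 n28106
theorem D59176 : act 6 n28106 = n59176 := rfl
theorem F93380 : act 3 n59176 = n28108 := d7_1 D59176 (iv6 D28108) D28106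
def n59177 : Q := act 6 n28107
theorem D59177 : act 6 n28107 = n59177 := rfl
theorem F93381 : act 2 n59177 = n52345 := d3_1 D59177 (iv6 D52345) (iv2 F45413)
theorem F93382 : act 4 n59177 = n48691 := d10_1 D59177 (iv6 D48691) (iv4 F45414)
def n59178 : Q := act 0 n28108
theorem D59178 : act 0 n28108 = n59178 := rfl
def n59179 : Q := act 1 n28108
theorem D59179 : act 1 n28108 = n59179 := rfl
theorem F93383 : act 1 n59179 = n52349 := d15_1 D59179 (iv7 D52349) (iv2 F45416)
def n59180 : Q := act 5 n28108
theorem D59180 : act 5 n28108 = n59180 := rfl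
theorem F93384 : act 2 n59180 = n52348 := d2_1 D59180 (iv5 D52348) (iv2 F45416)
def n59181 : Q := act 7 n28108
theorem D59181 : act 7 n28108 = n59181 := rfl
theorem F93385 : act 2 n59181 = n52349 := d4_1 D59181 (iv7 D52349) (iv2 F45416)
theorem F93386 : act 4 n59181 = n48656 := d11_1 D59181 (iv7 D48656) (iv4 F45417)
theorem F93387 : act 6 n59181 = n52321 := d14_1 D59181 (iv7 D52321) (iv6 D25410) (iv7 F22309) D28108
theorem F93388 : act 1 n52349 = n59178 := d15_0 (iv0 D59178) D59181 F93385
theorem F93389 : act 1 n52347 = n59181 := d15_1 D52347 (iv7 D59181) F45416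
theorem F93390 : act 1 n59181 = n52346 := d15_0 (iv0 D52346) D52349 (iv2 F93385)
def n59182 : Q := act 2 n28109
theorem D59182 : act 2 n28109 = n59182 := rfl
theorem F93391 : act 7 n28110 = n59182 := d15_2 (iv0 D28109) D28110 (iv2 D59182)
def n59183 : Q := act 3 n28109
theorem D59183 : act 3 n28109 = n59183 := rfl
def n59184 : Q := act 4 n28109
theorem D59184 : act 4 n28109 = n59184 := rfl
def n59185 : Q := act 5 n28109
theorem D59185 : act 5 n28109 = n59185 := rfl
def n59186 : Q := act 6 n28109
theorem D59186 : act 6 n28109 = n59186 := rfl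
def n59187 : Q := act 7 n28109
theorem D59187 : act 7 n28109 = n59187 := rfl
theorem F93392 : act 2 n59187 = n28110 := d4_1 D59187 F93391 (iv2 D59182)
def n59188 : Q := act 3 n28110
theorem D59188 : act 3 n28110 = n59188 := rfl
def n59189 : Q := act 5 n28110
theorem D59189 : act 5 n28110 = n59189 := rfl
def n59190 : Q := act 6 n28110
theorem D59190 : act 6 n28110 = n59190 := rfl
def n59191 : Q := act 5 n28111
theorem D59191 : act 5 n28111 = n59191 := rfl
theorem F93393 : act 2 n59191 = n28112 := d2_1 D59191 (iv5 D28112) D28111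
def n59192 : Q := act 0 n28112
theorem D59192 : act 0 n28112 = n59192 := rfl
def n59193 : Q := act 1 n28112
theorem D59193 : act 1 n28112 = n59193 := rfl
def n59194 : Q := act 4 n28112
theorem D59194 : act 4 n28112 = n59194 := rfl
def n59195 : Q := act 6 n28112
theorem D59195 : act 6 n28112 = n59195 := rfl
theorem F93394 : act 3 n59195 = n28115 := d7_1 D59195 (iv6 D28115) (iv3 F45420)
theorem F93395 : act 5 n59195 = n58947 := d12_1 D59195 (iv6 D58947) (iv5 D28015) (iv6 F22313) D28112
def n59196 : Q := act 3 n28113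
theorem D59196 : act 3 n28113 = n59196 := rfl
theorem F93396 : act 5 n59196 = n48639 := d6_2 (iv5 F45421) D59196 (iv3 D48639)
theorem F93397 : act 7 n59196 = n52302 := d8_2 F45425 D59196 F82680
def n59197 : Q := act 6 n28113
theorem D59197 : act 6 n28113 = n59197 := rfl
theorem F93398 : act 2 n59197 = n52280 := d3_1 D59197 (iv6 D52280) F45424
theorem F93399 : act 4 n59197 = n48703 := d10_1 D59197 (iv6 D48703) (iv4 F45422)
def n59198 : Q := act 3 n28114
theorem D59198 : act 3 n28114 = n59198 := rfl
theorem F93400 : act 5 n59198 = n48644 := d6_2 (iv5 F45428) D59198 (iv3 D48644)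
theorem F93401 : act 7 n59198 = n52278 := d8_2 (iv7 F45427) D59198 F82657
def n59199 : Q := act 6 n28114
theorem D59199 : act 6 n28114 = n59199 := rfl
theorem F93402 : act 2 n59199 = n52304 := d3_1 D59199 (iv6 D52304) F45430
theorem F93403 : act 4 n59199 = n48701 := d10_1 D59199 (iv6 D48701) (iv4 F45429)
def n59200 : Q := act 0 n28115
theorem D59200 : act 0 n28115 = n59200 := rfl
def n59201 : Q := act 1 n28115
theorem D59201 : act 1 n28115 = n59201 := rfl
def n59202 : Q := act 7 n28115
theorem D59202 : act 7 n28115 = n59202 := rfl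
theorem F93404 : act 5 n59202 = n58958 := d13_1 D59202 (iv7 D58958) (iv5 F45431)
def n59203 : Q := act 0 n28116
theorem D59203 : act 0 n28116 = n59203 := rfl
theorem F93405 : act 1 n58791 = n59203 := d15_0 (iv0 D59203) F45433 (iv2 F92940)
def n59204 : Q := act 1 n28116
theorem D59204 : act 1 n28116 = n59204 := rfl
theorem F93406 : act 1 n59204 = n58791 := d15_1 D59204 F92942 F77472
theorem F93407 : act 4 n50403 = n59204 := d20_6 (iv4 F80223) (iv1 F38711) F19030 (iv3 F18959) D24568 D50403 (iv1 D59204) F45432 F22317 D13437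
def n59205 : Q := act 5 n28116
theorem D59205 : act 5 n28116 = n59205 := rfl
theorem F93408 : act 7 n59205 = n58962 := d13_2 (iv7 F45433) D59205 (iv5 D58962)
def n59206 : Q := act 2 n28117
theorem D59206 : act 2 n28117 = n59206 := rfl
theorem F93409 : act 7 n28118 = n59206 := d15_2 (iv0 D28117) D28118 (iv2 D59206)
def n59207 : Q := act 3 n28117
theorem D59207 : act 3 n28117 = n59207 := rfl
theorem F93410 : act 4 n59207 = n51526 := d20_6 D25188 F80377 F22255 (iv3 F22317) D28117 D59207 (iv1 D51526) F39270 F19571 D11953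
def n59208 : Q := act 4 n28117
theorem D59208 : act 4 n28117 = n59208 := rfl
def n59209 : Q := act 5 n28117
theorem D59209 : act 5 n28117 = n59209 := rfl
theorem F93411 : act 6 n59209 = n50940 := d21_9 F92976 (iv1 F78427) (iv5 F41252) (iv6 D23941) (iv1 F18217) D13421 F22318 D28117 D59209 (iv1 F92980)
theorem F93412 : act 0 n52442 = n59209 := d21_10 (iv5 D59209) (iv1 F45434) F45182 (iv6 D27954) (iv1 F22194) D13364 D28004 F82781 (iv5 D52441) D52442
def n59210 : Q := act 6 n28117
theorem D59210 : act 6 n28117 = n59210 := rfl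
theorem F93413 : act 5 n59210 = n52094 := d21_6 (iv5 D11113) F10161 (iv5 F10405) D13421 D28117 D59210 (iv1 D52094) F45254 (iv6 F45253) (iv1 F22694)
theorem F93414 : act 0 n58906 = n59210 := d21_10 F93413 (iv1 D52094) F45254 (iv6 F45253) (iv1 F22694) D23733 F36945 D29342 (iv5 F77844) D58906
def n59211 : Q := act 7 n28117
theorem D59211 : act 7 n28117 = n59211 := rfl
theorem F93415 : act 2 n59211 = n28118 := d4_1 D59211 F93409 (iv2 D59206)
def n59212 : Q := act 3 n28118
theorem D59212 : act 3 n28118 = n59212 := rfl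
def n59213 : Q := act 4 n28118
theorem D59213 : act 4 n28118 = n59213 := rfl
def n59214 : Q := act 5 n28118
theorem D59214 : act 5 n28118 = n59214 := rfl
theorem F93416 : act 0 n59214 = n52442 := d21_1 D59214 (iv5 F93006) (iv6 D58832) (iv1 D27971) (iv6 D13343) (iv5 D6328) (iv1 F9861) (iv5 F22192) D27954 (iv1 F45435)
theorem F93417 : act 6 n59214 = n49669 := d21_3 F45182 (iv1 F45435) D59214 (iv1 F78468) F50046 (iv5 F79065) (iv1 F82347) (iv5 F93413) (iv6 D59210) (iv1 F45434)
def n59215 : Q := act 6 n28118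
theorem D59215 : act 6 n28118 = n59215 := rfl
theorem F93418 : act 5 n59215 = n49776 := d21_6 (iv5 D6328) (iv1 F9861) (iv5 F22192) D27954 (iv1 F45435) D59215 (iv1 D49776) (iv5 F39719) (iv6 D25217) (iv1 F22211)
def n59216 : Q := act 0 n28119
theorem D59216 : act 0 n28119 = n59216 := rfl
def n59217 : Q := act 1 n28119
theorem D59217 : act 1 n28119 = n59217 := rfl
theorem F93419 : act 1 n59217 = n28124 := d15_1 D59217 (iv7 D28124) (iv2 F45436)
def n59218 : Q := act 7 n28119
theorem D59218 : act 7 n28119 = n59218 := rfl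
theorem F93420 : act 2 n59218 = n28124 := d4_1 D59218 (iv7 D28124) (iv2 F45436)
theorem F93421 : act 3 n59218 = n58977 := d8_1 D59218 (iv7 D58977) (iv3 F45437)
theorem F93422 : act 5 n59218 = n53959 := d13_1 D59218 F85103 (iv5 F45764)
theorem F93423 : act 6 n59218 = n59014 := d14_1 D59218 (iv7 D59014) (iv6 D28044) (iv7 F22322) D28119
theorem F93424 : act 1 n28124 = n59216 := d15_0 (iv0 D59216) D59218 F93420
theorem F93425 : act 1 n28123 = n59218 := d15_1 D28123 (iv7 D59218) F45436
theorem E8748 : n59030 = n29462 := (c21_1 D59030 (iv1 D29462) F23358 (iv6 D11962) D11959 D25200 (iv5 F45651) (iv1 F85104) (iv5 F93422) F93423 (iv1 F93217))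
theorem F93426 : act 5 n29462 = n28049 := (sb E8748 (iv5 D59030))
theorem E8749 : n59031 = n58975 := ((c21_5 (iv5 F22576) (iv1 F19778) (iv5 F22241) D28026 D58975 (iv6 D59031) (iv5 F93426) (iv1 D29462) F23358 (iv6 D11962) D11959)).symm
theorem F93427 : act 6 n58975 = n28049 := (sb E8749 (iv6 D59031))
theorem F93428 : act 1 n59218 = n28122 := d15_0 (iv0 D28122) D28124 (iv2 F93420)
def n59219 : Q := act 6 n28120
theorem D59219 : act 6 n28120 = n59219 := rfl
def n59220 : Q := act 0 n28121
theorem D59220 : act 0 n28121 = n59220 := rfl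
def n59221 : Q := act 1 n28121
theorem D59221 : act 1 n28121 = n59221 := rfl
def n59222 : Q := act 5 n28121
theorem D59222 : act 5 n28121 = n59222 := rfl
def n59223 : Q := act 7 n28121
theorem D59223 : act 7 n28121 = n59223 := rfl
theorem F93429 : act 4 n59223 = n28124 := d11_1 D59223 (iv7 D28124) (iv4 F45439)
theorem F93430 : act 6 n59223 = n59021 := d14_1 D59223 (iv7 D59021) (iv6 D28047) (iv7 F22325) D28121
def n59224 : Q := act 2 n28122
theorem D59224 : act 2 n28122 = n59224 := rfl
theorem F93431 : act 7 n28123 = n59224 := d15_2 (iv0 D28122) D28123 (iv2 D59224)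
def n59225 : Q := act 3 n28122
theorem D59225 : act 3 n28122 = n59225 := rfl
def n59226 : Q := act 4 n28122
theorem D59226 : act 4 n28122 = n59226 := rfl
def n59227 : Q := act 5 n28122
theorem D59227 : act 5 n28122 = n59227 := rfl
def n59228 : Q := act 6 n28122
theorem D59228 : act 6 n28122 = n59228 := rfl
def n59229 : Q := act 7 n28122
theorem D59229 : act 7 n28122 = n59229 := rfl
theorem F93432 : act 2 n59229 = n28123 := d4_1 D59229 F93431 (iv2 D59224)
def n59230 : Q := act 3 n28123
theorem D59230 : act 3 n28123 = n59230 := rfl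
def n59231 : Q := act 4 n28123
theorem D59231 : act 4 n28123 = n59231 := rfl
def n59232 : Q := act 5 n28123
theorem D59232 : act 5 n28123 = n59232 := rfl
theorem F93433 : act 6 n59232 = n28296 := d21_3 (iv5 F93422) (iv1 F93425) D59232 (iv1 D28296) (iv6 D13506) F10466 (iv1 F10454) D13470 D28213 (iv1 F85104)
def n59233 : Q := act 6 n28123
theorem D59233 : act 6 n28123 = n59233 := rfl
def n59234 : Q := act 0 n28126
theorem D59234 : act 0 n28126 = n59234 := rfl
theorem F93434 : act 1 n59004 = n59234 := d15_0 (iv0 D59234) (iv7 F45478) D59004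
def n59235 : Q := act 1 n28126
theorem D59235 : act 1 n28126 = n59235 := rfl
def n59236 : Q := act 2 n28126
theorem D59236 : act 2 n28126 = n59236 := rfl
theorem F93435 : act 3 n59236 = n58998 := d0_2 D28126 D59236 (iv2 D58998) (iv3 D28035) F45459
theorem F93436 : act 6 n59236 = n59039 := d3_2 (iv6 F45445) D59236 (iv2 D59039)
theorem F93438 : act 1 n59236 = n59002 := d15_0 (iv0 D59002) F45478 D59236
def n59237 : Q := act 4 n28126
theorem D59237 : act 4 n28126 = n59237 := rfl
theorem F93441 : act 6 n59237 = n59040 := d10_2 (iv6 F45445) D59237 (iv4 D59040)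
theorem F93442 : act 7 n59237 = n59005 := d11_2 F45478 D59237 (iv4 D59005)
def n59238 : Q := act 5 n28126
theorem D59238 : act 5 n28126 = n59238 := rfl
theorem F93443 : act 3 n59238 = n28128 := d6_1 D59238 (iv5 D28128) D28126
theorem F93444 : act 7 n59238 = n59006 := d13_2 F45478 D59238 (iv5 D59006)
def n59239 : Q := act 4 n28128
theorem D59239 : act 4 n28128 = n59239 := rfl
theorem F93445 : act 2 n59239 = n59001 := d1_1 D59239 (iv4 D59001) (iv2 F45477)
theorem F93446 : act 7 n59239 = n59008 := d11_2 F45480 D59239 (iv4 D59008)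
theorem F93447 : act 0 n59239 = n31118 := d17_0 F85085 (iv1 D53955) (iv5 D26086) F20548 (iv5 F19076) D24775 (iv5 F76971) (iv0 F76973) D59239
def n59244 : Q := act 5 n28130
theorem D59244 : act 5 n28130 = n59244 := rfl
theorem F93455 : act 3 n59244 = n28132 := d6_1 D59244 (iv5 D28132) D28130
theorem F93456 : act 7 n59244 = n59000 := d13_2 (iv7 F45473) D59244 (iv5 D59000)
theorem F93457 : act 6 n28355 = n59244 := d7_0 F93455 F45448 D28355
def n59245 : Q := act 6 n28130
theorem D59245 : act 6 n28130 = n59245 := rfl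
theorem F93458 : act 3 n59245 = n28133 := d7_1 D59245 (iv6 D28133) D28130
theorem F93459 : act 7 n59245 = n59036 := d14_2 (iv7 F45473) D59245 (iv6 D59036) (iv7 F45509) F45508
theorem F93460 : act 5 n52082 = n59245 := d13_3 F93459 (iv5 F93229) (iv7 F82315)
def n59246 : Q := act 4 n28132
theorem D59246 : act 4 n28132 = n59246 := rfl
theorem F93461 : act 2 n59246 = n59008 := d1_1 D59246 (iv4 D59008) (iv2 F45481)
theorem F93462 : act 6 n59246 = n28356 := d10_2 (iv6 F45448) D59246 (iv4 D28356)
theorem F93463 : act 7 n59246 = n59001 := d11_2 (iv7 F45475) D59246 (iv4 D59001)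
theorem F93464 : act 1 n59246 = n31118 := d18_6 (iv1 F19689) (iv4 F38662) (iv1 F39491) F47642 D28132 D59246 F49487 F39540 (iv5 D25129)
def n59247 : Q := act 3 n28134
theorem D59247 : act 3 n28134 = n59247 := rfl
theorem F93465 : act 4 n59247 = n59009 := d5_2 D28134 D59247 (iv3 D59009) (iv4 D28043) (iv3 F22334)
theorem F93466 : act 7 n59247 = n58973 := d8_2 (iv7 F45488) D59247 (iv3 D58973)
def n59248 : Q := act 6 n28134
theorem D59248 : act 6 n28134 = n59248 := rfl
theorem F93468 : act 4 n59248 = n28135 := d10_1 D59248 (iv6 D28135) D28134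
def n59249 : Q := act 0 n28135
theorem D59249 : act 0 n28135 = n59249 := rfl
def n59250 : Q := act 1 n28135
theorem D59250 : act 1 n28135 = n59250 := rfl
theorem F93469 : act 1 n59250 = n28141 := d15_1 D59250 (iv7 D28141) (iv2 F45491)
def n59251 : Q := act 7 n28135
theorem D59251 : act 7 n28135 = n59251 := rfl
theorem F93470 : act 2 n59251 = n28141 := d4_1 D59251 (iv7 D28141) (iv2 F45491)
theorem F93471 : act 3 n59251 = n59014 := d8_1 D59251 (iv7 D59014) (iv3 F45492)
theorem F93472 : act 6 n59251 = n58977 := d14_1 D59251 (iv7 D58977) (iv6 D28026) (iv7 F22336) D28135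
theorem F93473 : act 1 n28141 = n59249 := d15_0 (iv0 D59249) D59251 F93470
theorem F93474 : act 1 n28140 = n59251 := d15_1 D28140 (iv7 D59251) F45491
theorem F93475 : act 5 n28140 = n28917 := d21_0 (iv1 D28917) F23029 (iv6 D11723) D11720 D24755 (iv5 F76808) (iv1 F76810) (iv5 F93181) (iv6 F93472) (iv1 F93474)
theorem F93476 : act 6 n59216 = n28140 := d21_5 (iv5 F20273) (iv1 F19853) (iv5 F22321) D28119 D59216 F93475 (iv1 D28917) F23029 (iv6 D11723) D11720
theorem F93477 : act 1 n59251 = n28139 := d15_0 (iv0 D28139) D28141 (iv2 F93470)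
def n59252 : Q := act 6 n28136
theorem D59252 : act 6 n28136 = n59252 := rfl
theorem F93478 : act 2 n59252 = n58979 := d3_1 D59252 (iv6 D58979) F45496
theorem F93479 : act 4 n59252 = n50523 := d10_1 D59252 (iv6 D50523) (iv4 F45495)
theorem F93480 : act 7 n59252 = n59016 := d14_2 (iv7 F45494) D59252 (iv6 D59016) F45314 F45300
def n59253 : Q := act 6 n28137
theorem D59253 : act 6 n28137 = n59253 := rfl
def n59254 : Q := act 0 n28138
theorem D59254 : act 0 n28138 = n59254 := rfl
def n59255 : Q := act 1 n28138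
theorem D59255 : act 1 n28138 = n59255 := rfl
def n59257 : Q := act 7 n28138
theorem D59257 : act 7 n28138 = n59257 := rfl
theorem F93481 : act 4 n59257 = n28141 := d11_1 D59257 (iv7 D28141) (iv4 F45498)
def n59258 : Q := act 2 n28139
theorem D59258 : act 2 n28139 = n59258 := rfl
theorem F93483 : act 7 n28140 = n59258 := d15_2 (iv0 D28139) D28140 (iv2 D59258)
def n59259 : Q := act 3 n28139
theorem D59259 : act 3 n28139 = n59259 := rfl
def n59260 : Q := act 4 n28139
theorem D59260 : act 4 n28139 = n59260 := rfl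
def n59261 : Q := act 5 n28139
theorem D59261 : act 5 n28139 = n59261 := rfl
def n59262 : Q := act 6 n28139
theorem D59262 : act 6 n28139 = n59262 := rfl
def n59263 : Q := act 7 n28139
theorem D59263 : act 7 n28139 = n59263 := rfl
theorem F93484 : act 2 n59263 = n28140 := d4_1 D59263 F93483 (iv2 D59258)
def n59264 : Q := act 3 n28140
theorem D59264 : act 3 n28140 = n59264 := rfl
def n59265 : Q := act 4 n28140
theorem D59265 : act 4 n28140 = n59265 := rfl
def n59268 : Q := act 2 n28142
theorem D59268 : act 2 n28142 = n59268 := rfl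
theorem F93486 : act 3 n59268 = n59034 := d0_2 D28142 D59268 (iv2 D59034) (iv3 D28052) (iv2 F45464)
def n59269 : Q := act 4 n28142
theorem D59269 : act 4 n28142 = n59269 := rfl
theorem F93491 : act 7 n59269 = n59040 := d11_2 (iv7 F45501) D59269 (iv4 D59040)
def n59270 : Q := act 6 n28142
theorem D59270 : act 6 n28142 = n59270 := rfl
theorem F93492 : act 3 n59270 = n28144 := d7_1 D59270 (iv6 D28144) D28142
theorem F93493 : act 7 n59270 = n59007 := d14_2 (iv7 F45501) D59270 (iv6 D59007) F45478 F45445
def n59271 : Q := act 0 n28145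
theorem D59271 : act 0 n28145 = n59271 := rfl
theorem F93495 : act 1 n59034 = n59271 := d15_0 (iv0 D59271) F45509 D59034
def n59272 : Q := act 1 n28145
theorem D59272 : act 1 n28145 = n59272 := rfl
def n59273 : Q := act 2 n28145
theorem D59273 : act 2 n28145 = n59273 := rfl
theorem F93497 : act 6 n59273 = n58998 := d3_2 (iv6 F45508) D59273 (iv2 D58998)
theorem F93498 : act 7 n59273 = n59034 := d4_2 (iv7 F45509) D59273 (iv2 D59034)
theorem F93500 : act 1 n59272 = n59034 := d15_1 D59272 (iv7 F93498) (iv2 D59273)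
theorem F93501 : act 1 n59033 = n59273 := d15_1 D59033 F93498 (iv2 D59034)
def n59274 : Q := act 4 n28145
theorem D59274 : act 4 n28145 = n59274 := rfl
theorem F93502 : act 6 n59274 = n58999 := d10_2 (iv6 F45508) D59274 (iv4 D58999)
theorem F93503 : act 7 n59274 = n59035 := d11_2 (iv7 F45509) D59274 (iv4 D59035)
def n59275 : Q := act 0 n28147
theorem D59275 : act 0 n28147 = n59275 := rfl
theorem F93504 : act 1 n28152 = n59275 := d15_0 (iv0 D59275) (iv7 F45513) (iv2 F45514)
def n59277 : Q := act 3 n28147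
theorem D59277 : act 3 n28147 = n59277 := rfl
theorem F93506 : act 7 n59277 = n28153 := d8_2 F45513 D59277 (iv3 D28153)
def n59278 : Q := act 4 n28147
theorem D59278 : act 4 n28147 = n59278 := rfl
theorem F93507 : act 2 n59278 = n28149 := d1_1 D59278 (iv4 D28149) D28147
theorem F93508 : act 7 n59278 = n28154 := d11_2 F45513 D59278 (iv4 D28154)
def n59279 : Q := act 5 n28147
theorem D59279 : act 5 n28147 = n59279 := rfl
theorem F93509 : act 2 n59279 = n28150 := d2_1 D59279 (iv5 D28150) D28147
theorem F93510 : act 7 n59279 = n28155 := d13_2 F45513 D59279 (iv5 D28155)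
def n59281 : Q := act 0 n28148
theorem D59281 : act 0 n28148 = n59281 := rfl
def n59282 : Q := act 1 n28148
theorem D59282 : act 1 n28148 = n59282 := rfl
theorem F93512 : act 3 n59070 = n59282 := d20_9 F80207 (iv1 D50851) (iv4 D24732) F19024 (iv1 F8249) D11694 D24710 D50771 (iv4 F93253) (iv1 D59282)
def n59283 : Q := act 2 n28148
theorem D59283 : act 2 n28148 = n59283 := rfl
def n59284 : Q := act 5 n28148
theorem D59284 : act 5 n28148 = n59284 := rfl
theorem F93513 : act 3 n59284 = n28150 := d6_1 D59284 (iv5 D28150) D28148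
def n59285 : Q := act 6 n28148
theorem D59285 : act 6 n28148 = n59285 := rfl
def n59286 : Q := act 7 n28148
theorem D59286 : act 7 n28148 = n59286 := rfl
theorem F93515 : act 3 n59286 = n28152 := d8_1 D59286 (iv7 D28152) D28148
def n59287 : Q := act 0 n28149
theorem D59287 : act 0 n28149 = n59287 := rfl
theorem F93516 : act 4 n59287 = n50765 := d20_2 D28149 D59287 (iv3 D50765) (iv1 D24708) (iv3 D11694) F8246 (iv1 D2739) D2740 D6381 D13434
def n59288 : Q := act 1 n28149
theorem D59288 : act 1 n28149 = n59288 := rfl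
theorem F93517 : act 1 n59288 = n28154 := d15_1 D59288 (iv7 F93508) F93507
def n59289 : Q := act 3 n28149
theorem D59289 : act 3 n28149 = n59289 := rfl
def n59290 : Q := act 5 n28149
theorem D59290 : act 5 n28149 = n59290 := rfl
def n59291 : Q := act 6 n28149
theorem D59291 : act 6 n28149 = n59291 := rfl
theorem F93518 : act 4 n59291 = n28151 := d10_1 D59291 (iv6 D28151) D28149
def n59292 : Q := act 7 n28149
theorem D59292 : act 7 n28149 = n59292 := rfl
theorem F93519 : act 2 n59292 = n28154 := d4_1 D59292 (iv7 F93508) F93507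
theorem F93520 : act 4 n59292 = n28152 := d11_1 D59292 (iv7 D28152) D28149
theorem F93521 : act 1 n28154 = n59287 := d15_0 (iv0 D59287) D59292 F93519
def n59293 : Q := act 0 n28150
theorem D59293 : act 0 n28150 = n59293 := rfl
def n59294 : Q := act 1 n28150
theorem D59294 : act 1 n28150 = n59294 := rfl
def n59295 : Q := act 4 n28150
theorem D59295 : act 4 n28150 = n59295 := rfl
def n59296 : Q := act 6 n28150
theorem D59296 : act 6 n28150 = n59296 := rfl
def n59297 : Q := act 7 n28150
theorem D59297 : act 7 n28150 = n59297 := rfl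
theorem F93523 : act 2 n59297 = n28155 := d4_1 D59297 (iv7 F93510) F93509
theorem F93524 : act 5 n59297 = n28152 := d13_1 D59297 (iv7 D28152) D28150
theorem F93525 : act 1 n28155 = n59293 := d15_0 (iv0 D59293) D59297 F93523
def n59298 : Q := act 0 n28151
theorem D59298 : act 0 n28151 = n59298 := rfl
def n59299 : Q := act 1 n28151
theorem D59299 : act 1 n28151 = n59299 := rfl
def n59300 : Q := act 5 n28151
theorem D59300 : act 5 n28151 = n59300 := rfl
def n59301 : Q := act 7 n28151
theorem D59301 : act 7 n28151 = n59301 := rfl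
def n59303 : Q := act 0 n28153
theorem D59303 : act 0 n28153 = n59303 := rfl
theorem F93527 : act 4 n59303 = n51855 := d20_0 (iv1 F81891) (iv4 D50745) (iv3 F39591) (iv1 F39595) D50765 (iv4 F93516) (iv1 F93521) (iv4 D28154) D28153 D59303
theorem F93528 : act 3 n59303 = n59049 := d20_3 D25170 D51855 (iv4 F93527) (iv1 D59049) (iv3 D28060) D28061 D59054 F93242 (iv3 D51849) (iv1 D25168)
def n59304 : Q := act 1 n28153
theorem D59304 : act 1 n28153 = n59304 := rfl
def n59305 : Q := act 2 n28153
theorem D59305 : act 2 n28153 = n59305 := rfl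
def n59306 : Q := act 4 n28153
theorem D59306 : act 4 n28153 = n59306 := rfl
theorem F93529 : act 0 n50737 = n59306 := d20_1 D50737 (iv4 D59306) (iv3 D28153) (iv1 D13435) (iv3 D6381) (iv4 D2740) D2738 (iv4 F8245) D11692 D24698
def n59307 : Q := act 5 n28153
theorem D59307 : act 5 n28153 = n59307 := rfl
theorem F93530 : act 3 n59307 = n28155 := d6_1 D59307 (iv5 D28155) D28153
def n59308 : Q := act 6 n28153
theorem D59308 : act 6 n28153 = n59308 := rfl
def n59309 : Q := act 5 n28154
theorem D59309 : act 5 n28154 = n59309 := rfl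
def n59310 : Q := act 6 n28154
theorem D59310 : act 6 n28154 = n59310 := rfl
def n59311 : Q := act 4 n28155
theorem D59311 : act 4 n28155 = n59311 := rfl
def n59312 : Q := act 6 n28155
theorem D59312 : act 6 n28155 = n59312 := rfl
def n59317 : Q := act 0 n28158
theorem D59317 : act 0 n28158 = n59317 := rfl
theorem F93533 : act 1 n59112 = n59317 := d15_0 (iv0 D59317) (iv7 F78670) D59112
def n59318 : Q := act 1 n28158
theorem D59318 : act 1 n28158 = n59318 := rfl
def n59319 : Q := act 2 n28158
theorem D59319 : act 2 n28158 = n59319 := rfl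
theorem F93534 : act 3 n59319 = n59112 := d0_2 D28158 D59319 (iv2 D59112) (iv3 D28080) (iv2 F78668)
theorem F93535 : act 7 n59319 = n59112 := d4_2 F78670 D59319 (iv2 D59112)
theorem F93536 : act 1 n59319 = n59110 := d15_0 (iv0 D59110) F78670 D59319
theorem F93537 : act 1 n59318 = n59112 := d15_1 D59318 (iv7 F93535) (iv2 D59319)
theorem F93538 : act 1 n59111 = n59319 := d15_1 D59111 F93535 (iv2 D59112)
def n59320 : Q := act 4 n28158
theorem D59320 : act 4 n28158 = n59320 := rfl
theorem F93539 : act 7 n59320 = n59113 := d11_2 F78670 D59320 (iv4 D59113)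
def n59321 : Q := act 5 n28158
theorem D59321 : act 5 n28158 = n59321 := rfl
theorem F93540 : act 3 n59321 = n28160 := d6_1 D59321 (iv5 D28160) D28158
theorem F93541 : act 7 n59321 = n59114 := d13_2 F78670 D59321 (iv5 D59114)
theorem F93542 : act 6 n50950 = n59321 := d14_5 F93541 (iv6 F93282) (iv7 F80391) F80390 (iv7 F80389)
def n59322 : Q := act 6 n28158
theorem D59322 : act 6 n28158 = n59322 := rfl
theorem F93543 : act 3 n59322 = n28161 := d7_1 D59322 (iv6 D28161) D28158
theorem F93544 : act 5 n49782 = n59322 := d6_0 F93543 F45519 D49782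
def n59323 : Q := act 3 n28172
theorem D59323 : act 3 n28172 = n59323 := rfl
theorem F93545 : act 2 n59323 = n32452 := d0_1 D59323 (iv3 F55498) F38242 D24392 (iv2 F55545)
theorem F93546 : act 4 n59323 = n51059 := d5_2 F77970 D59323 F80522 (iv4 D49315) D49314
theorem F93547 : act 7 n59323 = n32451 := d8_2 (iv7 F55543) D59323 F55490
theorem F93548 : act 0 n59323 = n32447 := d20_4 (iv4 F55487) (iv1 F77973) F77970 D59323 (iv3 F56574) F56575 F54425 (iv4 D29641) (iv3 F27085) (iv1 F50541)
theorem F93549 : act 0 n31593 = n59323 := d20_4 F51531 (iv1 F50488) F49924 (iv3 F49914) (iv3 D59323) (iv4 F77970) F77972 F43605 (iv3 F24934) D32455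
def n59324 : Q := act 6 n28172
theorem D59324 : act 6 n28172 = n59324 := rfl
theorem F93550 : act 2 n59324 = n32581 := d3_1 D59324 F55712 (iv2 F55545)
theorem F93551 : act 0 n59324 = n31682 := d21_4 D29193 (iv1 F47737) (iv5 F54343) D59324 (iv6 D31682) (iv5 F25330) (iv1 F77274) (iv5 D32915) F54230 (iv1 F23573)
theorem F93552 : act 0 n32575 = n59324 := d21_4 (iv5 F55725) (iv1 F55726) (iv5 D32574) D32575 (iv6 D59324) F54343 (iv1 D29699) (iv5 D14107) D14108 D29702
theorem F93553 : act 7 n32582 = n59324 := d15_2 (iv0 D32581) D32582 F93550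
theorem F93554 : act 2 n32582 = n34969 := d4_3 F55714 (iv2 F93550) (iv7 F93553)
theorem F93555 : act 6 n34962 = n32582 := d3_0 F93554 (iv6 D34969) (iv2 F55521)
theorem F93556 : act 5 n32582 = n34834 := d21_6 (iv5 F43048) (iv1 F25194) F25192 D16969 D34962 F93555 (iv1 D34834) (iv5 D16885) (iv6 D7868) D7865
def n59325 : Q := act 0 n28174
theorem D59325 : act 0 n28174 = n59325 := rfl
theorem F93557 : act 5 n59325 = n29937 := d17_3 D13448 D28174 D59325 F48129 (iv5 F46612) (iv0 D28990) (iv5 D13800) F19531 (iv4 F10440)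
theorem F93558 : act 4 n59325 = n29025 := d18_1 D59325 (iv1 F46670) (iv4 D25776) (iv5 D12238) F19543 F19959 (iv4 F38913) F38916 D28174
theorem F93559 : act 2 n28754 = n59325 := d15_3 (iv0 D59325) F47117 F47114
theorem F93560 : act 1 n28175 = n59325 := d15_0 (iv0 D59325) F45553 (iv2 F45554)
theorem F93561 : act 7 n59325 = n28753 := d15_2 (iv0 F47116) F93560 (iv2 F47118)
theorem F93562 : act 3 n29940 = n59325 := d8_3 F93561 F47119 (iv7 F48134)
def n59326 : Q := act 4 n28174
theorem D59326 : act 4 n28174 = n59326 := rfl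
theorem F93563 : act 2 n59326 = n49720 := d1_1 D59326 (iv4 D49720) (iv2 F45551)
theorem F93564 : act 7 n59326 = n28755 := d11_2 (iv7 F45553) D59326 (iv4 D28755)
theorem F93565 : act 5 n59326 = n53133 := d17_5 (iv1 D28177) (iv5 D13450) D13448 D28174 D59326 (iv0 D53133) (iv5 D25773) D25771 (iv4 F45567)
theorem F93566 : act 0 n59326 = n29619 := d18_2 (iv1 F47117) D59326 (iv4 D29619) F23493 F11112 D13758 (iv4 F45147) (iv0 F49161) F49160
theorem F93567 : act 1 n59326 = n29618 := d18_6 F10344 (iv4 F7918) D11406 (iv4 F22382) D28174 D59326 (iv4 D29618) (iv0 D14068) (iv5 D6689)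
theorem F93568 : act 2 n53133 = n53159 := d2_1 F93565 F83933 (iv2 F93563)
theorem F93569 : act 7 n53133 = n53160 := d13_2 (iv7 F93564) F93565 F83937
theorem F93570 : act 2 n53160 = n53134 := d15_3 F83949 F83950 F93569
theorem F93571 : act 7 n53159 = n53134 := d4_2 (iv7 F93569) F93568 (iv2 F93570)
def n59327 : Q := act 4 n28175
theorem D59327 : act 4 n28175 = n59327 := rfl
theorem F93572 : act 2 n59327 = n28755 := d1_1 D59327 (iv4 D28755) (iv2 F45554)
theorem F93573 : act 7 n59327 = n49720 := d11_2 (iv7 F45556) D59327 (iv4 D49720)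
theorem F93574 : act 5 n59327 = n53134 := d17_5 (iv1 F80569) F80567 (iv1 F38915) D28175 D59327 F83949 F83948 F40741 (iv4 F45557)
theorem F93575 : act 0 n59327 = n29618 := d18_2 (iv1 F93560) D59327 (iv4 D29618) (iv5 F38564) F38561 F24505 D28866 (iv0 F48130) (iv5 F93557)
theorem F93576 : act 1 n59327 = n29619 := d18_6 (iv1 F8932) F8928 (iv1 F18650) F22384 D28175 D59327 (iv4 D29619) F23492 (iv5 D12233)
def n59328 : Q := act 6 n28175
theorem D59328 : act 6 n28175 = n59328 := rfl
theorem F93577 : act 2 n59328 = n28756 := d3_1 D59328 (iv6 D28756) (iv2 F45554)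
theorem F93578 : act 3 n59328 = n50105 := d7_1 D59328 (iv6 D50105) (iv3 F45555)
def n59329 : Q := act 6 n28176
theorem D59329 : act 6 n28176 = n59329 := rfl
theorem F93579 : act 3 n59329 = n28726 := d7_1 D59329 (iv6 D28726) F45558
theorem F93580 : act 4 n59329 = n53124 := d10_1 D59329 (iv6 D53124) (iv4 F45557)
theorem F93581 : act 5 n59329 = n31367 := d12_1 D59329 (iv6 D31367) F39931 (iv6 F49839) F49841
def n59330 : Q := act 6 n28177
theorem D59330 : act 6 n28177 = n59330 := rfl
theorem F93582 : act 2 n59330 = n28778 := d3_1 D59330 (iv6 D28778) (iv2 F45565)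
theorem F93583 : act 3 n59330 = n50108 := d7_1 D59330 (iv6 D50108) (iv3 F45566)
theorem F93584 : act 4 n59330 = n53127 := d10_1 D59330 (iv6 D53127) (iv4 F45567)
theorem F93585 : act 5 n59330 = n48790 := d12_1 D59330 (iv6 D48790) (iv5 D23795) D23796 F45564
def n59331 : Q := act 3 n28178
theorem D59331 : act 3 n28178 = n59331 := rfl
theorem F93586 : act 4 n59331 = n28191 := d5_2 D28178 D59331 (iv3 D28191) (iv4 D13457) (iv3 F22386)
def n59332 : Q := act 5 n28178
theorem D59332 : act 5 n28178 = n59332 := rfl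
theorem F93587 : act 0 n59332 = n29028 := d17_2 (iv1 F45569) D59332 (iv5 D29028) (iv4 D13814) (iv5 D6569) F10277 D5800 D12241 D25778
theorem F93588 : act 1 n59332 = n53138 := d17_6 (iv1 F93560) (iv5 D28175) (iv1 D13449) D13450 D28178 D59332 (iv5 D53138) F46670 (iv4 F93558)
def n59333 : Q := act 6 n28179
theorem D59333 : act 6 n28179 = n59333 := rfl
theorem F93589 : act 3 n59333 = n28194 := d7_1 D59333 (iv6 D28194) (iv3 F45570)
theorem F93590 : act 5 n59333 = n59333 := d12_1 D59333 (iv6 D59333) F45571 F22389 (iv5 F45571)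
def n59334 : Q := act 4 n28180
theorem D59334 : act 4 n28180 = n59334 := rfl
theorem F93591 : act 2 n59334 = n49236 := d1_1 D59334 (iv4 D49236) (iv2 F45573)
theorem F93592 : act 5 n59334 = n30092 := d17_5 F36941 (iv5 D13453) D13452 D28180 D59334 F48356 (iv5 D14301) D14299 F23882
theorem F93593 : act 0 n59334 = n29535 := d18_2 (iv1 F46964) D59334 (iv4 D29535) (iv5 F23860) (iv4 F37795) F39330 (iv4 F76568) (iv0 F76571) F49174
theorem F93594 : act 1 n59334 = n29537 := d18_6 (iv1 D3081) (iv4 F4804) D6789 (iv4 F22510) D28180 D59334 (iv4 D29537) F23412 (iv5 D6823)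
def n59335 : Q := act 6 n28180
theorem D59335 : act 6 n28180 = n59335 := rfl
theorem F93595 : act 2 n59335 = n49237 := d3_1 D59335 (iv6 D49237) (iv2 F45573)
theorem F93596 : act 3 n59335 = n51076 := d7_1 D59335 (iv6 D51076) (iv3 F45574)
theorem F93597 : act 5 n59335 = n59148 := d12_1 D59335 (iv6 D59148) (iv5 F45578) (iv6 D28181) D28180
def n59336 : Q := act 6 n28182
theorem D59336 : act 6 n28182 = n59336 := rfl
theorem F93598 : act 2 n59336 = n49251 := d3_1 D59336 (iv6 D49251) F45582
theorem F93599 : act 3 n59336 = n51077 := d7_1 D59336 (iv6 D51077) (iv3 F45583)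
theorem F93600 : act 4 n59336 = n30122 := d10_1 D59336 (iv6 D30122) (iv4 F45581)
def n59337 : Q := act 3 n28183
theorem D59337 : act 3 n28183 = n59337 := rfl
theorem F93601 : act 4 n59337 = n50109 := d5_2 D28183 D59337 (iv3 D50109) (iv4 D24440) (iv3 F22394)
def n59338 : Q := act 5 n28183
theorem D59338 : act 5 n28183 = n59338 := rfl
theorem F93602 : act 0 n59338 = n30073 := d17_2 (iv1 F45585) D59338 (iv5 D30073) (iv4 D14276) (iv5 D6800) (iv0 D3075) D3077 (iv0 F22539) D14191
theorem F93603 : act 1 n59338 = n29080 := d17_6 (iv1 D29318) (iv5 D13950) F19540 D13453 D28183 D59338 (iv5 D29080) D29078 F46968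
def n59339 : Q := act 6 n28184
theorem D59339 : act 6 n28184 = n59339 := rfl
theorem F93604 : act 3 n59339 = n50112 := d7_1 D59339 (iv6 D50112) (iv3 F45586)
theorem F93605 : act 5 n59339 = n59339 := d12_1 D59339 (iv6 D59339) F45587 F22397 (iv5 F45587)
def n59340 : Q := act 3 n28185
theorem D59340 : act 3 n28185 = n59340 := rfl
def n59341 : Q := act 5 n28185
theorem D59341 : act 5 n28185 = n59341 := rfl
theorem F93606 : act 2 n59341 = n28812 := d2_1 D59341 (iv5 D28812) (iv2 F45588)
theorem F93607 : act 4 n59341 = n29080 := d9_1 D59341 (iv5 D29080) (iv4 D13843) (iv5 D6584) (iv4 F10105) D6651 D13987 D29412 (iv4 F48328) (iv5 D30073) (iv4 D14276) (iv5 D6800) (iv4 F22484) D13455 D28185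
theorem F93608 : act 0 n59341 = n30096 := d17_2 (iv1 F47126) D59341 F48360 (iv4 F47230) F23814 F11060 D14270 F48160 F48157
theorem F93609 : act 1 n59341 = n30070 := d17_6 F19421 (iv5 D6399) D6397 D13455 D28185 D59341 (iv5 D30070) F23824 (iv4 D14008)
def n59342 : Q := act 6 n28185
theorem D59342 : act 6 n28185 = n59342 := rfl
theorem F93610 : act 2 n59342 = n28813 := d3_1 D59342 (iv6 D28813) (iv2 F45588)
theorem F93611 : act 4 n59342 = n28186 := d10_1 D59342 (iv6 D28186) D28185
def n59343 : Q := act 7 n28186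
theorem D59343 : act 7 n28186 = n59343 := rfl
theorem F93612 : act 2 n59343 = n28816 := d4_1 D59343 (iv7 D28816) (iv2 F45589)
theorem F93613 : act 5 n59343 = n59251 := d13_1 D59343 (iv7 D59251) (iv5 F45590)
theorem F93614 : act 1 n28816 = n50934 := d15_0 (iv0 F80345) D59343 F93612
theorem F93615 : act 1 n28815 = n59343 := d15_1 D28815 (iv7 D59343) F45589
theorem F93616 : act 1 n59343 = n28814 := d15_0 (iv0 D28814) D28816 (iv2 F93612)
def n59344 : Q := act 3 n28187
theorem D59344 : act 3 n28187 = n59344 := rfl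
def n59345 : Q := act 5 n28187
theorem D59345 : act 5 n28187 = n59345 := rfl
theorem F93617 : act 2 n59345 = n28886 := d2_1 D59345 (iv5 D28886) (iv2 F45591)
theorem F93618 : act 4 n59345 = n29874 := d9_1 D59345 (iv5 D29874) (iv4 D14191) F10995 F10108 (iv5 F10808) D14008 D29459 (iv4 F48340) (iv5 D30079) (iv4 D14278) D14279 (iv4 F39662) F39663 D28187
def n59346 : Q := act 6 n28187
theorem D59346 : act 6 n28187 = n59346 := rfl
theorem F93619 : act 2 n59346 = n28887 := d3_1 D59346 (iv6 D28887) (iv2 F45591)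
theorem F93620 : act 4 n59346 = n28188 := d10_1 D59346 (iv6 D28188) D28187
def n59347 : Q := act 0 n28188
theorem D59347 : act 0 n28188 = n59347 := rfl
theorem F93621 : act 6 n59347 = n28917 := d21_5 F23861 (iv1 F39666) F39663 D28188 D59347 (iv5 F93475) (iv1 D28140) (iv5 F22981) (iv6 D13736) D13733
theorem F93622 : act 0 n59347 = n28890 := d21_4 F93613 (iv1 F93474) F93475 (iv6 F93621) (iv6 F47238) F47237 (iv1 F81978) (iv5 F81979) F80289 (iv1 F93616)
def n59348 : Q := act 1 n28188
theorem D59348 : act 1 n28188 = n59348 := rfl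
theorem F93623 : act 1 n59348 = n28890 := d15_1 D59348 (iv7 D28890) (iv2 F45593)
def n59349 : Q := act 7 n28188
theorem D59349 : act 7 n28188 = n59349 := rfl
theorem F93624 : act 2 n59349 = n28890 := d4_1 D59349 (iv7 D28890) (iv2 F45593)
theorem F93625 : act 1 n28889 = n59349 := d15_1 D28889 (iv7 D59349) F45593
theorem F93626 : act 1 n59349 = n28888 := d15_0 (iv0 D28888) D28890 (iv2 F93624)
def n59350 : Q := act 3 n28189
theorem D59350 : act 3 n28189 = n59350 := rfl
def n59351 : Q := act 5 n28189
theorem D59351 : act 5 n28189 = n59351 := rfl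
theorem F93627 : act 4 n59351 = n30124 := d16_2 (iv4 F45594) D59351 (iv5 D30124) F23882 F36940 F36939 F36881 (iv7 F36904) F36903
def n59352 : Q := act 6 n28189
theorem D59352 : act 6 n28189 = n59352 := rfl
theorem F93628 : act 4 n59352 = n30061 := d10_1 D59352 (iv6 D30061) (iv4 F45594)
def n59353 : Q := act 3 n28190
theorem D59353 : act 3 n28190 = n59353 := rfl
theorem F93629 : act 4 n59353 = n49268 := d5_2 (iv4 F45595) D59353 (iv3 D49268) F37603 (iv3 F36882)
def n59354 : Q := act 5 n28190
theorem D59354 : act 5 n28190 = n59354 := rfl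
theorem F93630 : act 4 n59354 = n30121 := d9_1 D59354 (iv5 D30121) (iv4 F45581) (iv5 F82068) F82069 (iv5 D30060) (iv4 F45594) D59351 F93627 (iv5 D30124) F23882 F36940 F36939 F36881 (iv4 F45595)
def n59355 : Q := act 6 n28190
theorem D59355 : act 6 n28190 = n59355 := rfl
theorem F93631 : act 4 n59355 = n30062 := d10_1 D59355 (iv6 D30062) (iv4 F45595)
def n59356 : Q := act 0 n28191
theorem D59356 : act 0 n28191 = n59356 := rfl
def n59357 : Q := act 1 n28191
theorem D59357 : act 1 n28191 = n59357 := rfl
def n59358 : Q := act 2 n28191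
theorem D59358 : act 2 n28191 = n59358 := rfl
def n59359 : Q := act 5 n28191
theorem D59359 : act 5 n28191 = n59359 := rfl
theorem F93632 : act 3 n59359 = n28192 := d6_1 D59359 (iv5 D28192) D28191
def n59360 : Q := act 7 n28191
theorem D59360 : act 7 n28191 = n59360 := rfl
theorem F93633 : act 3 n59360 = n28193 := d8_1 D59360 (iv7 D28193) D28191
def n59361 : Q := act 0 n28192
theorem D59361 : act 0 n28192 = n59361 := rfl
theorem F93634 : act 5 n59361 = n30056 := d17_3 (iv1 D28190) D28192 D59361 (iv4 D30056) (iv5 D14262) (iv0 D6789) D6791 D14267 (iv4 F45595)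
theorem F93635 : act 4 n59361 = n30091 := d18_1 D59361 (iv1 F48352) D30131 F48434 F46526 F23829 (iv4 F45594) (iv0 D28189) D28192
def n59362 : Q := act 1 n28192
theorem D59362 : act 1 n28192 = n59362 := rfl
theorem F93636 : act 5 n59362 = n30058 := d17_7 (iv1 D13986) (iv5 D6651) F19538 D6399 D13457 D28192 D59362 F48289 (iv4 D29407)
theorem F93637 : act 4 n59362 = n30092 := d17_9 (iv1 D30092) F48303 (iv1 F23881) D30124 (iv4 F93627) (iv5 D59351) (iv0 D28189) D28192 D59362
def n59363 : Q := act 4 n28192
theorem D59363 : act 4 n28192 = n59363 := rfl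
theorem F93638 : act 5 n59363 = n29873 := d16_3 D13457 D28192 D59363 (iv4 F48021) F45617 F22414 (iv5 F22429) (iv7 D13467) F10448
theorem F93639 : act 0 n59363 = n29080 := d18_2 (iv1 D59362) D59363 (iv4 F93607) (iv5 D59341) (iv4 D28185) F23309 D29406 F48290 (iv5 F93636)
theorem F93640 : act 1 n59363 = n30073 := d18_6 (iv1 D29457) (iv4 D14008) F19421 D13457 D28192 D59363 F48328 F48362 F48360
def n59364 : Q := act 6 n28192
theorem D59364 : act 6 n28192 = n59364 := rfl
def n59365 : Q := act 7 n28192
theorem D59365 : act 7 n28192 = n59365 := rfl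
theorem F93641 : act 5 n59365 = n28193 := d13_1 D59365 (iv7 D28193) D28192
def n59366 : Q := act 6 n28193
theorem D59366 : act 6 n28193 = n59366 := rfl
theorem F93642 : act 4 n59366 = n28194 := d10_1 D59366 (iv6 D28194) (iv4 F45596)
def n59367 : Q := act 0 n28194
theorem D59367 : act 0 n28194 = n59367 := rfl
theorem F93643 : act 1 n28849 = n59367 := d15_0 (iv0 D59367) (iv7 F47028) F47026
def n59368 : Q := act 1 n28194
theorem D59368 : act 1 n28194 = n59368 := rfl
theorem F93644 : act 1 n59368 = n28849 := d15_1 D59368 F46485 F45641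
def n59369 : Q := act 4 n28195
theorem D59369 : act 4 n28195 = n59369 := rfl
theorem F93645 : act 2 n59369 = n29319 := d1_1 D59369 (iv4 D29319) (iv2 F45598)
theorem F93646 : act 7 n59369 = n59334 := d11_2 (iv7 F45600) D59369 (iv4 D59334)
theorem F93647 : act 5 n59369 = n30095 := d17_5 (iv1 F45610) F45587 (iv1 F22404) D28195 D59369 F48358 F48354 F23888 F37578
theorem F93648 : act 0 n59369 = n29073 := d18_2 (iv1 F77755) D59369 (iv4 D29073) (iv5 F24095) (iv4 F48836) (iv0 F48840) (iv4 F82069) (iv0 D51966) (iv5 F77752)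
theorem F93649 : act 1 n59369 = n29075 := d18_6 (iv1 F4815) (iv4 F11053) (iv1 F22509) F22407 D28195 D59369 (iv4 D29075) F23117 (iv5 D6800)
def n59370 : Q := act 6 n28195
theorem D59370 : act 6 n28195 = n59370 := rfl
theorem F93650 : act 2 n59370 = n29320 := d3_1 D59370 (iv6 D29320) (iv2 F45598)
theorem F93651 : act 3 n59370 = n51083 := d7_1 D59370 (iv6 D51083) (iv3 F45599)
def n59371 : Q := act 6 n28197
theorem D59371 : act 6 n28197 = n59371 := rfl
theorem F93652 : act 2 n59371 = n29338 := d3_1 D59371 (iv6 D29338) F45607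
theorem F93653 : act 3 n59371 = n51084 := d7_1 D59371 (iv6 D51084) F45608
theorem F93654 : act 4 n59371 = n30090 := d10_1 D59371 (iv6 D30090) F45609
def n59372 : Q := act 3 n28198
theorem D59372 : act 3 n28198 = n59372 := rfl
theorem F93655 : act 4 n59372 = n48771 := d5_2 D28198 D59372 (iv3 D48771) (iv4 D23785) (iv3 F22410)
theorem F93656 : act 6 n59372 = n59331 := d7_2 (iv6 F45612) D59372 (iv3 D59331)
def n59373 : Q := act 5 n28198
theorem D59373 : act 5 n28198 = n59373 := rfl
theorem F93657 : act 2 n59373 = n59338 := d2_1 D59373 (iv5 D59338) (iv2 F45611)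
theorem F93658 : act 7 n59373 = n59363 := d13_2 F48020 D59373 F93638
theorem F93659 : act 4 n59373 = n59365 := d16_2 D28198 D59373 F93641 F45596 F22403 (iv4 F22396) (iv5 F45587) (iv7 D28184) (iv2 F22409)
theorem F93660 : act 0 n59373 = n29542 := d17_2 (iv1 F45613) D59373 (iv5 D29542) (iv4 D14034) (iv5 D6671) (iv0 F22501) D3082 D6826 D14296
theorem F93661 : act 1 n59373 = n30107 := d17_6 (iv1 F77755) (iv5 D28195) (iv1 D13459) D13460 D28198 D59373 (iv5 D30107) F47383 (iv4 F77753)
def n59374 : Q := act 6 n28199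
theorem D59374 : act 6 n28199 = n59374 := rfl
theorem F93662 : act 2 n59374 = n59339 := d3_1 D59374 (iv6 D59339) (iv2 F45615)
theorem F93663 : act 3 n59374 = n29364 := d7_1 D59374 (iv6 D29364) (iv3 F45616)
theorem F93664 : act 5 n59374 = n59374 := d12_1 D59374 (iv6 D59374) F45617 F22415 (iv5 F45617)
theorem F93665 : act 7 n59374 = n59333 := d14_2 D28199 D59374 (iv6 D59333) (iv7 D28179) (iv6 F22411)
def n59375 : Q := act 3 n28200
theorem D59375 : act 3 n28200 = n59375 := rfl
theorem F93666 : act 7 n59375 = n59340 := d8_2 (iv7 F45621) D59375 (iv3 D59340)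
def n59376 : Q := act 5 n28200
theorem D59376 : act 5 n28200 = n59376 := rfl
theorem F93667 : act 2 n59376 = n29412 := d2_1 D59376 (iv5 D29412) (iv2 F45620)
theorem F93668 : act 4 n59376 = n29542 := d9_1 D59376 (iv5 D29542) (iv4 D14034) (iv5 D6671) F10106 D6539 D13735 D28812 (iv4 F48381) (iv5 D30107) (iv4 D14291) (iv5 D6823) (iv4 F22504) D13462 D28200
theorem F93669 : act 7 n59376 = n59341 := d13_2 (iv7 F45621) D59376 (iv5 D59341)
theorem F93670 : act 0 n59376 = n30063 := d17_2 (iv1 F46446) D59376 (iv5 F48302) (iv4 D14268) (iv5 D6791) D6790 D14264 F48280 F48278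
theorem F93671 : act 1 n59376 = n30131 := d17_6 (iv1 F22425) F22403 (iv1 F10447) D13462 D28200 D59376 F48434 (iv0 D28884) (iv4 D13767)
def n59377 : Q := act 6 n28200
theorem D59377 : act 6 n28200 = n59377 := rfl
theorem F93672 : act 2 n59377 = n29413 := d3_1 D59377 (iv6 D29413) (iv2 F45620)
theorem F93673 : act 4 n59377 = n28201 := d10_1 D59377 (iv6 D28201) D28200
def n59378 : Q := act 0 n28201
theorem D59378 : act 0 n28201 = n59378 := rfl
def n59379 : Q := act 7 n28201
theorem D59379 : act 7 n28201 = n59379 := rfl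
theorem F93674 : act 2 n59379 = n29416 := d4_1 D59379 (iv7 D29416) (iv2 F45622)
theorem F93675 : act 6 n59379 = n59343 := d14_1 D59379 (iv7 D59343) (iv6 D28186) (iv7 F22419) D28201
theorem F93676 : act 1 n29416 = n59378 := d15_0 (iv0 D59378) D59379 F93674
theorem F93677 : act 1 n29373 = n59379 := d15_1 (iv0 F47054) (iv7 D59379) F45622
theorem E8750 : n59261 = n28916 := ((c21_11 (iv5 D59261) (iv1 F93477) (iv5 F93613) (iv6 F93675) (iv1 F93677) (iv6 D29373) (iv5 F23902) (iv1 D11725) (iv5 F10615) D13777 D28916)).symm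
theorem F93678 : act 5 n28916 = n28139 := (sb E8750 (iv5 D59261))
theorem F93679 : act 7 n59378 = n29373 := d15_2 F47136 F93676 F47053
theorem F93680 : act 2 n59378 = n29414 := d15_3 (iv0 D29414) (iv0 F47054) (iv7 F93679)
theorem F93681 : act 7 n29414 = n28854 := d4_2 (iv7 F93679) F93680 (iv2 F47053)
theorem F93682 : act 5 n48818 = n29414 := d13_3 F93681 F46493 D48818
theorem F93683 : act 1 n59379 = n29414 := d15_1 F93677 F93681 (iv2 F47053)
def n59380 : Q := act 3 n28202
theorem D59380 : act 3 n28202 = n59380 := rfl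
theorem F93684 : act 7 n59380 = n59344 := d8_2 (iv7 F45624) D59380 (iv3 D59344)
def n59381 : Q := act 5 n28202
theorem D59381 : act 5 n28202 = n59381 := rfl
theorem F93685 : act 2 n59381 = n29459 := d2_1 D59381 (iv5 D29459) (iv2 F45623)
theorem F93686 : act 4 n59381 = n30004 := d9_1 D59381 (iv5 D30004) (iv4 D14244) (iv5 F19593) (iv4 F19743) F19744 D13767 D28886 (iv4 F48405) (iv5 D30115) (iv4 D14296) F22532 (iv4 F19737) F22422 D28202
theorem F93687 : act 7 n59381 = n59345 := d13_2 (iv7 F45624) D59381 (iv5 D59345)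
def n59382 : Q := act 6 n28202
theorem D59382 : act 6 n28202 = n59382 := rfl
theorem F93688 : act 2 n59382 = n29460 := d3_1 D59382 (iv6 D29460) (iv2 F45623)
theorem F93689 : act 4 n59382 = n28203 := d10_1 D59382 (iv6 D28203) D28202
def n59383 : Q := act 0 n28203
theorem D59383 : act 0 n28203 = n59383 := rfl
theorem F93690 : act 5 n59383 = n59012 := d21_0 (iv1 F93216) (iv5 F47062) F47063 (iv1 F46501) F45772 (iv5 F38847) F38846 F22422 D28203 D59383
theorem F93691 : act 0 n59383 = n29463 := d21_1 (iv5 F93690) F47237 F39697 (iv1 F39842) (iv6 D25258) F20310 (iv1 F19858) (iv5 F22246) D28044 D59012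
def n59384 : Q := act 1 n28203
theorem D59384 : act 1 n28203 = n59384 := rfl
theorem F93692 : act 1 n59384 = n29463 := d15_1 D59384 (iv7 D29463) (iv2 F45626)
theorem F93693 : act 5 n59013 = n59384 := d21_0 (iv1 D59384) F45627 (iv6 D25196) (iv1 F19732) D24810 F38835 (iv1 F85100) (iv5 F45441) F45442 (iv1 F93214)
theorem E8751 : n59013 = n58990 := ((c21_6 F19733 F22595 (iv5 F9867) D13375 D28031 D58990 F93693 (iv1 D59384) F45627 (iv6 D25196) (iv1 F19732))).symm
theorem F93694 : act 0 n58990 = n28044 := (sb E8751 (iv1 D59013))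
theorem F93695 : act 1 n58990 = n28050 := (sb E8751 F93214)
theorem F93696 : act 5 n58990 = n59384 := (sb E8751 F93693)
theorem F93697 : act 6 n29438 = n59384 := d21_5 F23262 F24196 F19068 D14001 D29438 (iv5 F93696) F93694 (iv5 F47035) (iv6 D29366) (iv1 F23261)
def n59385 : Q := act 7 n28203
theorem D59385 : act 7 n28203 = n59385 := rfl
theorem F93698 : act 2 n59385 = n29463 := d4_1 D59385 (iv7 D29463) (iv2 F45626)
theorem F93699 : act 5 n59385 = n51928 := d13_1 D59385 (iv7 D51928) (iv5 F45627)
theorem F93700 : act 6 n59385 = n59349 := d14_1 D59385 (iv7 D59349) (iv6 D28188) F22424 D28203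
theorem F93701 : act 1 n29462 = n59385 := d15_1 D29462 (iv7 D59385) F45626
theorem F93702 : act 0 n59025 = n59385 := d21_1 D59025 F93699 F81982 (iv1 D50906) (iv6 D24758) (iv5 F20281) (iv1 D12006) (iv5 F9868) D13381 D28048
theorem E8752 : n59025 = n29461 := (c15_1 (iv0 F93702) (iv0 D29461) D29463 (iv2 F93698))
theorem F93703 : act 0 n29461 = n59385 := (sb E8752 F93702)
theorem F93704 : act 5 n29461 = n28048 := (sb E8752 (iv5 D59025))
def n59386 : Q := act 3 n28204
theorem D59386 : act 3 n28204 = n59386 := rfl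
theorem F93705 : act 4 n59386 = n29345 := d5_2 (iv4 F45628) D59386 (iv3 D29345) (iv4 F36901) F36902
theorem F93706 : act 7 n59386 = n59353 := d8_2 F45630 D59386 (iv3 D59353)
theorem F93707 : act 0 n59359 = n59386 := d20_4 (iv4 F48328) (iv1 F93640) (iv4 D59363) (iv3 F93632) (iv3 D59386) F45628 (iv1 F23827) F47230 (iv3 F48359) (iv1 F48362)
def n59387 : Q := act 5 n28204
theorem D59387 : act 5 n28204 = n59387 := rfl
theorem F93708 : act 2 n59387 = n59351 := d2_1 D59387 (iv5 D59351) F45629
theorem F93709 : act 7 n59387 = n59354 := d13_2 F45630 D59387 (iv5 D59354)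
theorem F93710 : act 4 n59387 = n30089 := d16_2 (iv4 F45628) D59387 (iv5 D30089) F45609 (iv5 F76569) F76568 F39137 (iv7 F36885) (iv2 F36903)
def n59388 : Q := act 6 n28204
theorem D59388 : act 6 n28204 = n59388 := rfl
theorem F93711 : act 2 n59388 = n59352 := d3_1 D59388 (iv6 D59352) F45629
theorem F93712 : act 4 n59388 = n30068 := d10_1 D59388 (iv6 D30068) (iv4 F45628)
def n59389 : Q := act 3 n28205
theorem D59389 : act 3 n28205 = n59389 := rfl
theorem F93713 : act 4 n59389 = n29978 := d5_2 (iv4 F45634) D59389 (iv3 D29978) (iv4 D14236) D14235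
theorem F93714 : act 7 n59389 = n59350 := d8_2 (iv7 F45633) D59389 (iv3 D59350)
def n59390 : Q := act 5 n28205
theorem D59390 : act 5 n28205 = n59390 := rfl
theorem F93715 : act 2 n59390 = n59354 := d2_1 D59390 (iv5 D59354) F45635
theorem F93716 : act 4 n59390 = n30086 := d9_1 D59390 (iv5 D30086) F37578 (iv5 F76582) F76581 (iv5 D30067) (iv4 F45628) D59387 F93710 (iv5 D30089) F45609 (iv5 F76569) F76568 F39137 (iv4 F45634)
theorem F93717 : act 7 n59390 = n59351 := d13_2 (iv7 F45633) D59390 (iv5 D59351)
def n59391 : Q := act 6 n28205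
theorem D59391 : act 6 n28205 = n59391 := rfl
theorem F93718 : act 2 n59391 = n59355 := d3_1 D59391 (iv6 D59355) F45635
theorem F93719 : act 4 n59391 = n29977 := d10_1 D59391 (iv6 D29977) (iv4 F45634)
def n59392 : Q := act 0 n28206
theorem D59392 : act 0 n28206 = n59392 := rfl
def n59393 : Q := act 1 n28206
theorem D59393 : act 1 n28206 = n59393 := rfl
def n59394 : Q := act 2 n28206
theorem D59394 : act 2 n28206 = n59394 := rfl
theorem F93720 : act 3 n59394 = n59358 := d0_2 D28206 D59394 (iv2 D59358) (iv3 D28191) (iv2 F22427)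
def n59395 : Q := act 5 n28206
theorem D59395 : act 5 n28206 = n59395 := rfl
theorem F93721 : act 3 n59395 = n28207 := d6_1 D59395 (iv5 D28207) D28206
def n59396 : Q := act 7 n28206
theorem D59396 : act 7 n28206 = n59396 := rfl
theorem F93722 : act 3 n59396 = n28208 := d8_1 D59396 (iv7 D28208) D28206
def n59397 : Q := act 0 n28207
theorem D59397 : act 0 n28207 = n59397 := rfl
theorem F93723 : act 5 n59397 = n30065 := d17_3 (iv1 D28205) D28207 D59397 (iv4 D30065) (iv5 D14270) (iv0 D6793) D6795 (iv0 F36905) (iv4 F45634)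
theorem F93724 : act 4 n59397 = n30095 := d18_1 D59397 (iv1 D30095) D30096 F48360 (iv4 F47230) F23827 (iv4 F45628) (iv0 D28204) D28207
theorem F93725 : act 4 n29464 = n59395 := d20_8 F93724 (iv1 D30095) D30096 F48359 (iv1 D29457) D29458 F47232 D29464 F93721 D59397
theorem F93726 : act 2 n59361 = n59397 := d1_3 F93724 (iv2 F77763) (iv4 F93635)
theorem F93727 : act 7 n59362 = n59397 := d11_0 F93724 (iv7 F77765) (iv4 F93637)
theorem F93728 : act 1 n59365 = n59397 := d17_8 (iv1 D30095) (iv5 D14284) D14281 D30086 (iv4 F93716) (iv5 D59390) F45632 (iv5 F93641) F93724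
theorem F93729 : act 3 n59356 = n59397 := d20_5 (iv4 D14008) F19421 D13457 D28191 D59356 F93724 (iv1 D30095) D30096 F48359 (iv1 D29457)
def n59398 : Q := act 1 n28207
theorem D59398 : act 1 n28207 = n59398 := rfl
theorem F93730 : act 1 n59398 = n59365 := d15_1 D59398 (iv7 D59365) (iv2 F45636)
theorem F93731 : act 7 n59398 = n59361 := d15_2 (iv0 D59397) D59398 F93726
theorem F93732 : act 5 n59398 = n29959 := d17_7 (iv1 F22978) (iv5 D13462) (iv1 D6403) D6404 D13466 D28207 D59398 F48161 (iv4 D28804)
theorem F93733 : act 4 n59398 = n30094 := d17_9 (iv1 F48357) F48354 (iv1 F23887) D30089 (iv4 F93710) (iv5 D59387) (iv0 D28204) D28207 D59398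
theorem F93734 : act 2 n59362 = n59398 := d1_3 F93733 F77764 (iv4 F93637)
def n59399 : Q := act 4 n28207
theorem D59399 : act 4 n28207 = n59399 := rfl
theorem F93735 : act 2 n59399 = n59363 := d1_1 D59399 (iv4 D59363) (iv2 F45636)
theorem F93736 : act 5 n59399 = n30003 := d9_2 D28207 D59399 F48194 F45587 F22396 (iv5 F22403) (iv4 F45596) (iv5 F93641) (iv4 F93659) (iv5 D59373) (iv4 D28198) (iv5 D13460) F10446 D6404 D13466
theorem F93737 : act 0 n59399 = n30107 := d18_2 (iv1 D59398) D59399 F48381 (iv5 D28812) (iv4 D13735) D13734 D28807 F48162 (iv5 F93732)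
theorem F93738 : act 1 n59399 = n29542 := d18_6 (iv1 F46527) (iv4 D28202) (iv1 D13465) D13466 D28207 D59399 (iv4 F93668) F93671 F48434
theorem F93739 : act 7 n59399 = n59338 := d15_2 F93661 (iv0 F93737) (iv2 F93657)
def n59400 : Q := act 6 n28207
theorem D59400 : act 6 n28207 = n59400 := rfl
theorem F93740 : act 2 n59400 = n59364 := d3_1 D59400 (iv6 D59364) (iv2 F45636)
def n59401 : Q := act 7 n28207
theorem D59401 : act 7 n28207 = n59401 := rfl
theorem F93741 : act 2 n59401 = n59365 := d4_1 D59401 (iv7 D59365) (iv2 F45636)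
theorem F93742 : act 4 n59401 = n59338 := d11_1 D59401 (iv7 F93739) (iv4 D59399)
theorem F93743 : act 5 n59401 = n28208 := d13_1 D59401 (iv7 D28208) D28207
theorem F93744 : act 1 n59362 = n59401 := d15_1 D59362 (iv7 D59401) F45636
theorem F93745 : act 1 n59401 = n59361 := d15_1 F93744 (iv7 F93731) (iv2 F93734)
def n59402 : Q := act 6 n28208
theorem D59402 : act 6 n28208 = n59402 := rfl
theorem F93746 : act 2 n59402 = n59366 := d3_1 D59402 (iv6 D59366) (iv2 F45637)
theorem F93747 : act 4 n59402 = n28209 := d10_1 D59402 (iv6 D28209) (iv4 F45638)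
def n59403 : Q := act 0 n28209
theorem D59403 : act 0 n28209 = n59403 := rfl
theorem F93748 : act 1 n29364 = n59403 := d15_0 (iv0 D59403) (iv7 F46485) (iv2 F47026)
def n59404 : Q := act 1 n28209
theorem D59404 : act 1 n28209 = n59404 := rfl
theorem F93749 : act 1 n59404 = n29364 := d15_1 D59404 F47028 (iv2 F45641)
def n59405 : Q := act 3 n28210
theorem D59405 : act 3 n28210 = n59405 := rfl
theorem F93750 : act 4 n59405 = n51101 := d5_2 D28210 D59405 (iv3 D51101) (iv4 D24870) (iv3 F22433)
theorem F93751 : act 7 n59405 = n28254 := d8_2 (iv7 F45644) D59405 (iv3 D28254)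
def n59406 : Q := act 5 n28210
theorem D59406 : act 5 n28210 = n59406 := rfl
theorem F93752 : act 2 n59406 = n28239 := d2_1 D59406 (iv5 D28239) (iv2 F45643)
theorem F93753 : act 7 n59406 = n28255 := d13_2 (iv7 F45644) D59406 (iv5 D28255)
theorem F93754 : act 4 n59406 = n30192 := d16_2 D28210 D59406 (iv5 F79636) (iv4 D50257) (iv5 D24510) (iv4 F18901) D13470 F22602 (iv2 F22432)
def n59407 : Q := act 6 n28210
theorem D59407 : act 6 n28210 = n59407 := rfl
theorem F93755 : act 2 n59407 = n28240 := d3_1 D59407 (iv6 D28240) (iv2 F45643)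
theorem F93756 : act 4 n59407 = n28211 := d10_1 D59407 (iv6 D28211) D28210
def n59408 : Q := act 0 n28211
theorem D59408 : act 0 n28211 = n59408 := rfl
def n59409 : Q := act 1 n28211
theorem D59409 : act 1 n28211 = n59409 := rfl
theorem F93758 : act 1 n59409 = n28244 := d15_1 D59409 (iv7 D28244) (iv2 F45645)
theorem F93759 : act 5 n48799 = n59409 := d21_0 (iv1 D59409) F45647 (iv6 D24352) (iv1 D11476) F8119 (iv5 D5098) D5096 D11154 D23799 D48799
theorem F93760 : act 6 n49911 = n48799 := d21_5 (iv5 D5342) D5340 D11468 D24340 D49911 F93759 (iv1 D59409) F45647 (iv6 D24352) (iv1 D11476)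
def n59410 : Q := act 7 n28211
theorem D59410 : act 7 n28211 = n59410 := rfl
theorem F93761 : act 2 n59410 = n28244 := d4_1 D59410 (iv7 D28244) (iv2 F45645)
theorem F93762 : act 3 n59410 = n51106 := d8_1 D59410 (iv7 D51106) (iv3 F45646)
theorem F93763 : act 5 n59410 = n49937 := d13_1 D59410 (iv7 D49937) (iv5 F45647)
theorem F93764 : act 6 n59410 = n28259 := d14_1 D59410 (iv7 D28259) (iv6 D13491) (iv7 F22434) D28211
theorem F93765 : act 1 n28244 = n59408 := d15_0 (iv0 D59408) D59410 F93761
theorem F93766 : act 1 n28242 = n59410 := d15_1 D28242 (iv7 D59410) F45645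
def n59411 : Q := act 3 n28212
theorem D59411 : act 3 n28212 = n59411 := rfl
theorem F93768 : act 7 n59411 = n28238 := d8_2 (iv7 F45649) D59411 (iv3 D28238)
def n59412 : Q := act 5 n28212
theorem D59412 : act 5 n28212 = n59412 := rfl
theorem F93769 : act 2 n59412 = n28255 := d2_1 D59412 (iv5 D28255) (iv2 F45648)
theorem F93770 : act 4 n59412 = n30191 := d9_1 D59412 (iv5 F76834) (iv4 D48787) (iv5 D23793) F18109 D13468 D28210 D59406 F93754 (iv5 F79636) (iv4 D50257) (iv5 D24510) (iv4 F18901) D13470 D28212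
theorem F93771 : act 7 n59412 = n28239 := d13_2 (iv7 F45649) D59412 (iv5 D28239)
def n59413 : Q := act 6 n28212
theorem D59413 : act 6 n28212 = n59413 := rfl
theorem F93772 : act 2 n59413 = n28256 := d3_1 D59413 (iv6 D28256) (iv2 F45648)
theorem F93773 : act 4 n59413 = n28213 := d10_1 D59413 (iv6 D28213) D28212
def n59414 : Q := act 3 n28214
theorem D59414 : act 3 n28214 = n59414 := rfl
theorem F93774 : act 4 n59414 = n51116 := d5_2 D28214 D59414 (iv3 D51116) (iv4 D24880) (iv3 F38957)
theorem F93775 : act 7 n59414 = n28271 := d8_2 (iv7 F45654) D59414 (iv3 D28271)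
def n59415 : Q := act 5 n28214
theorem D59415 : act 5 n28214 = n59415 := rfl
theorem F93776 : act 2 n59415 = n28263 := d2_1 D59415 (iv5 D28263) (iv2 F45653)
theorem F93777 : act 7 n59415 = n28272 := d13_2 (iv7 F45654) D59415 (iv5 D28272)
theorem F93778 : act 4 n59415 = n30184 := d16_2 D28214 D59415 (iv5 D30184) D30183 F48556 F38148 F22605 F22930 (iv2 F22932)
def n59416 : Q := act 6 n28214
theorem D59416 : act 6 n28214 = n59416 := rfl
theorem F93779 : act 2 n59416 = n28264 := d3_1 D59416 (iv6 D28264) (iv2 F45653)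
theorem F93780 : act 4 n59416 = n28215 := d10_1 D59416 (iv6 D28215) D28214
def n59417 : Q := act 0 n28215
theorem D59417 : act 0 n28215 = n59417 := rfl
def n59418 : Q := act 1 n28215
theorem D59418 : act 1 n28215 = n59418 := rfl
theorem F93781 : act 1 n59418 = n28268 := d15_1 D59418 (iv7 D28268) (iv2 F45655)
def n59419 : Q := act 7 n28215
theorem D59419 : act 7 n28215 = n59419 := rfl
theorem F93782 : act 2 n59419 = n28268 := d4_1 D59419 (iv7 D28268) (iv2 F45655)
theorem F93783 : act 3 n59419 = n51122 := d8_1 D59419 (iv7 D51122) (iv3 F45656)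
theorem F93784 : act 6 n59419 = n28277 := d14_1 D59419 (iv7 D28277) (iv6 D13500) (iv7 F22933) D28215
theorem F93785 : act 1 n28268 = n59417 := d15_0 (iv0 D59417) D59419 F93782
theorem F93786 : act 1 n28266 = n59419 := d15_1 D28266 (iv7 D59419) F45655
theorem F93787 : act 1 n59419 = n28265 := d15_0 (iv0 D28265) D28268 (iv2 F93782)
def n59420 : Q := act 5 n28216
theorem D59420 : act 5 n28216 = n59420 := rfl
theorem F93788 : act 2 n59420 = n28272 := d2_1 D59420 (iv5 D28272) (iv2 F45657)
theorem F93789 : act 4 n59420 = n30180 := d9_1 D59420 (iv5 D30180) (iv4 F37120) (iv5 F39871) F39874 F38816 D28214 D59415 F93778 (iv5 D30184) D30183 F48556 F38148 F22605 D28216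
theorem F93790 : act 7 n59420 = n28263 := d13_2 (iv7 F45658) D59420 (iv5 D28263)
def n59421 : Q := act 6 n28216
theorem D59421 : act 6 n28216 = n59421 := rfl
theorem F93791 : act 2 n59421 = n28273 := d3_1 D59421 (iv6 D28273) (iv2 F45657)
theorem F93792 : act 4 n59421 = n28217 := d10_1 D59421 (iv6 D28217) D28216
def n59422 : Q := act 0 n28217
theorem D59422 : act 0 n28217 = n59422 := rfl
def n59423 : Q := act 1 n28217
theorem D59423 : act 1 n28217 = n59423 := rfl
theorem F93793 : act 1 n59423 = n28277 := d15_1 D59423 (iv7 D28277) (iv2 F45659)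
def n59424 : Q := act 7 n28217
theorem D59424 : act 7 n28217 = n59424 := rfl
theorem F93794 : act 2 n59424 = n28277 := d4_1 D59424 (iv7 D28277) (iv2 F45659)
theorem F93795 : act 5 n59424 = n49913 := d13_1 D59424 (iv7 D49913) (iv5 F45660)
theorem F93796 : act 6 n59424 = n28268 := d14_1 D59424 (iv7 D28268) (iv6 D13495) (iv7 F22930) D28217
theorem F93797 : act 1 n28277 = n59422 := d15_0 (iv0 D59422) D59424 F93794
theorem F93798 : act 1 n28275 = n59424 := d15_1 D28275 (iv7 D59424) F45659
theorem F93799 : act 1 n59424 = n28274 := d15_0 (iv0 D28274) D28277 (iv2 F93794)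
def n59425 : Q := act 3 n28218
theorem D59425 : act 3 n28218 = n59425 := rfl
theorem F93800 : act 7 n59425 = n28278 := d8_2 (iv7 F45662) D59425 (iv3 D28278)
def n59426 : Q := act 5 n28218
theorem D59426 : act 5 n28218 = n59426 := rfl
theorem F93801 : act 2 n59426 = n28282 := d2_1 D59426 (iv5 D28282) F45664
theorem F93802 : act 4 n59426 = n30167 := d9_1 D59426 (iv5 D30167) (iv4 D14319) D14320 (iv4 F24079) (iv5 D14428) D14427 D30379 F48815 (iv5 D30174) (iv4 D14324) (iv5 F11896) (iv4 F26078) F37471 (iv4 F45663)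
theorem F93803 : act 7 n59426 = n28279 := d13_2 (iv7 F45662) D59426 (iv5 D28279)
theorem F93804 : act 1 n59426 = n53844 := d17_6 (iv1 F24008) (iv5 F39212) (iv1 F39213) F37471 (iv4 F45663) D59426 (iv5 D53844) F41146 (iv4 D14405)
def n59427 : Q := act 6 n28218
theorem D59427 : act 6 n28218 = n59427 := rfl
theorem F93805 : act 2 n59427 = n28283 := d3_1 D59427 (iv6 D28283) F45664
theorem F93806 : act 4 n59427 = n49159 := d10_1 D59427 (iv6 D49159) (iv4 F45663)
def n59428 : Q := act 0 n28219
theorem D59428 : act 0 n28219 = n59428 := rfl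
def n59429 : Q := act 1 n28219
theorem D59429 : act 1 n28219 = n59429 := rfl
def n59430 : Q := act 2 n28219
theorem D59430 : act 2 n28219 = n59430 := rfl
theorem F93807 : act 3 n59430 = n28286 := d0_2 D28219 D59430 (iv2 D28286) (iv3 D13503) (iv2 F22608)
def n59431 : Q := act 5 n28219
theorem D59431 : act 5 n28219 = n59431 := rfl
theorem F93808 : act 3 n59431 = n28220 := d6_1 D59431 (iv5 D28220) D28219
theorem F93809 : act 7 n30497 = n59431 := d8_0 F93808 (iv7 F45667) D30497
def n59432 : Q := act 7 n28219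
theorem D59432 : act 7 n28219 = n59432 := rfl
theorem F93810 : act 3 n59432 = n28221 := d8_1 D59432 (iv7 D28221) D28219
theorem F93811 : act 5 n59432 = n30497 := d13_1 D59432 F93809 (iv5 D59431)
def n59433 : Q := act 1 n28220
theorem D59433 : act 1 n28220 = n59433 := rfl
theorem F93812 : act 1 n59433 = n28293 := d15_1 D59433 (iv7 D28293) (iv2 F45665)
theorem F93813 : act 7 n59433 = n28289 := d15_2 F48657 D59433 (iv2 F48653)
theorem F93814 : act 5 n59433 = n30157 := d17_7 F22603 (iv5 D13470) (iv1 D6407) D6408 D13473 D28220 D59433 F48501 (iv4 D14808)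
theorem F93815 : act 4 n59433 = n30152 := d18_7 F38874 (iv4 D14319) (iv1 F11096) (iv4 F11189) (iv5 F24115) (iv4 F45666) D59433 (iv0 F80503) (iv5 D51051)
theorem F93816 : act 2 n28290 = n59433 := d1_3 F93815 F48487 F45794
def n59434 : Q := act 6 n28220
theorem D59434 : act 6 n28220 = n59434 := rfl
theorem F93817 : act 2 n59434 = n28292 := d3_1 D59434 (iv6 D28292) (iv2 F45665)
theorem F93818 : act 4 n59434 = n30502 := d10_1 D59434 (iv6 D30502) (iv4 F45666)
def n59435 : Q := act 6 n28221
theorem D59435 : act 6 n28221 = n59435 := rfl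
theorem F93819 : act 2 n59435 = n28294 := d3_1 D59435 (iv6 D28294) (iv2 F45668)
theorem F93820 : act 4 n59435 = n28222 := d10_1 D59435 (iv6 D28222) (iv4 F45669)
def n59436 : Q := act 6 n28223
theorem D59436 : act 6 n28223 = n59436 := rfl
theorem F93821 : act 2 n59436 = n31367 := d3_1 D59436 (iv6 D31367) F45677
theorem F93822 : act 4 n59436 = n53209 := d10_1 D59436 (iv6 D53209) F45678
theorem F93823 : act 0 n59436 = n49918 := d21_4 (iv5 F45239) (iv1 F45242) (iv5 F45676) D59436 (iv6 D49918) (iv5 D24343) F18747 D12020 (iv6 F22855) (iv1 F40823)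
def n59437 : Q := act 3 n28224
theorem D59437 : act 3 n28224 = n59437 := rfl
theorem F93824 : act 4 n59437 = n28238 := d5_2 D28224 D59437 (iv3 D28238) (iv4 D13481) (iv3 F22615)
def n59438 : Q := act 6 n28224
theorem D59438 : act 6 n28224 = n59438 := rfl
theorem F93825 : act 4 n59438 = n28225 := d10_1 D59438 (iv6 D28225) D28224
def n59439 : Q := act 0 n28225
theorem D59439 : act 0 n28225 = n59439 := rfl
def n59440 : Q := act 1 n28225
theorem D59440 : act 1 n28225 = n59440 := rfl
def n59441 : Q := act 7 n28225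
theorem D59441 : act 7 n28225 = n59441 := rfl
theorem F93826 : act 3 n59441 = n28244 := d8_1 D59441 (iv7 D28244) (iv3 F45680)
def n59442 : Q := act 6 n28228
theorem D59442 : act 6 n28228 = n59442 := rfl
theorem F93827 : act 2 n59442 = n31712 := d3_1 D59442 (iv6 D31712) (iv2 F45693)
theorem F93828 : act 3 n59442 = n51092 := d7_1 D59442 (iv6 D51092) (iv3 F45694)
theorem F93829 : act 5 n59442 = n59442 := d12_1 D59442 (iv6 D59442) (iv5 D28228) F22622 D28228
def n59443 : Q := act 6 n28229
theorem D59443 : act 6 n28229 = n59443 := rfl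
theorem F93830 : act 2 n59443 = n31719 := d3_1 D59443 (iv6 D31719) F45699
theorem F93831 : act 3 n59443 = n51100 := d7_1 D59443 (iv6 D51100) (iv3 F45701)
theorem F93832 : act 5 n59443 = n51399 := d12_1 D59443 (iv6 D51399) (iv5 D24984) D24985 (iv5 F45698)
def n59444 : Q := act 3 n28230
theorem D59444 : act 3 n28230 = n59444 := rfl
theorem F93833 : act 5 n59444 = n30492 := d6_2 (iv5 F45702) D59444 (iv3 D30492)
def n59445 : Q := act 6 n28230
theorem D59445 : act 6 n28230 = n59445 := rfl
theorem F93834 : act 4 n59445 = n28231 := d10_1 D59445 (iv6 D28231) D28230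
def n59446 : Q := act 0 n28231
theorem D59446 : act 0 n28231 = n59446 := rfl
theorem F93835 : act 5 n59446 = n59440 := d21_0 (iv1 D59440) (iv5 F92812) (iv6 D58739) (iv1 D27928) F22135 (iv5 D11768) F10463 D13478 D28231 D59446
def n59447 : Q := act 1 n28231
theorem D59447 : act 1 n28231 = n59447 := rfl
def n59448 : Q := act 5 n28231
theorem D59448 : act 5 n28231 = n59448 := rfl
theorem F93836 : act 2 n59448 = n52140 := d2_1 D59448 F82420 F76841
theorem F93837 : act 3 n59448 = n51094 := d6_1 D59448 F80599 F79438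
theorem F93838 : act 6 n59448 = n28232 := d12_2 D28231 D59448 (iv5 D28232) (iv6 D13479) D13478
theorem F93839 : act 5 n59439 = n59447 := d21_0 (iv1 D59447) D59448 F93838 F45707 F39085 (iv5 D24239) F19392 D13475 D28225 D59439
def n59449 : Q := act 7 n28231
theorem D59449 : act 7 n28231 = n59449 := rfl
def n59450 : Q := act 3 n28234
theorem D59450 : act 3 n28234 = n59450 := rfl
def n59451 : Q := act 5 n28234
theorem D59451 : act 5 n28234 = n59451 := rfl
theorem F93840 : act 2 n59451 = n31412 := d2_1 D59451 (iv5 D31412) (iv2 F45718)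
theorem F93841 : act 4 n59451 = n30300 := d9_1 D59451 (iv5 D30300) (iv4 D14381) F22559 (iv4 F19109) (iv5 F20486) D26029 D53844 F84881 (iv5 D30294) (iv4 D14379) (iv5 F22549) (iv4 F19106) (iv5 F22624) D28234
theorem F93842 : act 0 n59451 = n30379 := d17_2 (iv1 F45720) D59451 (iv5 D30379) (iv4 D14427) D14428 (iv0 F24081) (iv5 F24002) (iv0 D14372) D14374
theorem F93843 : act 1 n59451 = n59426 := d17_6 (iv1 F22604) (iv5 F22605) (iv1 F22607) (iv5 F22624) D28234 D59451 (iv5 D59426) F45661 F22651
def n59452 : Q := act 6 n28234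
theorem D59452 : act 6 n28234 = n59452 := rfl
theorem F93844 : act 2 n59452 = n31413 := d3_1 D59452 (iv6 D31413) (iv2 F45718)
theorem F93845 : act 4 n59452 = n28235 := d10_1 D59452 (iv6 D28235) D28234
def n59453 : Q := act 0 n28235
theorem D59453 : act 0 n28235 = n59453 := rfl
theorem F93846 : act 5 n59453 = n59233 := d21_2 (iv5 F45722) D59453 (iv6 D59233) (iv1 D28123) (iv6 D13424) F10406 D11739 (iv5 F20310) D25258 F39841
def n59454 : Q := act 1 n28235
theorem D59454 : act 1 n28235 = n59454 := rfl
theorem F93847 : act 1 n59454 = n31416 := d15_1 D59454 (iv7 D31416) (iv2 F45721)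
theorem F93848 : act 5 n59262 = n59454 := d21_6 (iv5 F22584) (iv1 D11765) (iv5 F10409) D13430 D28139 D59262 (iv1 D59454) F45722 (iv6 D24802) (iv1 F19739)
def n59455 : Q := act 7 n28235
theorem D59455 : act 7 n28235 = n59455 := rfl
theorem F93849 : act 2 n59455 = n31416 := d4_1 D59455 (iv7 D31416) (iv2 F45721)
theorem F93850 : act 5 n59455 = n50906 := d13_1 D59455 F80313 (iv5 F45722)
theorem F93851 : act 1 n31416 = n59453 := d15_0 (iv0 D59453) D59455 F93849
theorem F93852 : act 1 n31415 = n59455 := d15_1 D31415 (iv7 D59455) F45721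
theorem F93853 : act 1 n59455 = n31414 := d15_0 (iv0 D31414) D31416 (iv2 F93849)
def n59456 : Q := act 3 n28236
theorem D59456 : act 3 n28236 = n59456 := rfl
theorem F93854 : act 4 n59456 = n30852 := d5_2 (iv4 F45723) D59456 (iv3 D30852) (iv4 D14615) F23979
def n59457 : Q := act 5 n28236
theorem D59457 : act 5 n28236 = n59457 := rfl
theorem F93855 : act 4 n59457 = n30393 := d16_2 (iv4 F45723) D59457 F48825 F48484 (iv5 F38717) F38716 F37943 F24006 (iv2 F24004)
theorem F93856 : act 0 n59457 = n59415 := d17_2 D28236 D59457 (iv5 D59415) (iv4 D28214) (iv5 F38816) (iv0 D24803) (iv5 F22624) (iv0 D13480) D13481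
theorem F93857 : act 1 n59457 = n59420 := d17_6 F23993 (iv5 F24105) F24106 (iv5 F23977) (iv4 F45723) D59457 (iv5 D59420) (iv0 F48664) (iv4 D30274)
def n59458 : Q := act 6 n28236
theorem D59458 : act 6 n28236 = n59458 := rfl
theorem F93858 : act 4 n59458 = n30264 := d10_1 D59458 (iv6 D30264) (iv4 F45723)
def n59459 : Q := act 3 n28237
theorem D59459 : act 3 n28237 = n59459 := rfl
theorem F93859 : act 4 n59459 = n31725 := d5_2 (iv4 F45726) D59459 (iv3 D31725) F24586 F24007
def n59460 : Q := act 5 n28237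
theorem D59460 : act 5 n28237 = n59460 := rfl
theorem F93860 : act 4 n59460 = n30394 := d9_1 D59460 F48831 F48478 F45698 F39205 (iv5 F23977) (iv4 F45723) D59457 F93855 F48825 F48484 (iv5 F38717) F38716 F37943 (iv4 F45726)
theorem F93861 : act 0 n59460 = n59420 := d17_2 (iv1 F45725) D59460 (iv5 D59420) (iv4 D28216) (iv5 F22605) (iv0 F22606) (iv5 F20486) F22561 D13490
theorem F93862 : act 1 n59460 = n59415 := d17_6 (iv1 F26044) (iv5 F26046) (iv1 F37946) F37943 (iv4 F45726) D59460 (iv5 D59415) (iv0 F48049) (iv4 D29912)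
def n59461 : Q := act 6 n28237
theorem D59461 : act 6 n28237 = n59461 := rfl
theorem F93863 : act 4 n59461 = n30265 := d10_1 D59461 (iv6 D30265) (iv4 F45726)
def n59462 : Q := act 0 n28238
theorem D59462 : act 0 n28238 = n59462 := rfl
def n59463 : Q := act 1 n28238
theorem D59463 : act 1 n28238 = n59463 := rfl
def n59464 : Q := act 2 n28238
theorem D59464 : act 2 n28238 = n59464 := rfl
def n59465 : Q := act 5 n28238
theorem D59465 : act 5 n28238 = n59465 := rfl
theorem F93864 : act 3 n59465 = n28239 := d6_1 D59465 (iv5 D28239) D28238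
def n59466 : Q := act 6 n28238
theorem D59466 : act 6 n28238 = n59466 := rfl
theorem F93865 : act 3 n59466 = n28240 := d7_1 D59466 (iv6 D28240) D28238
def n59467 : Q := act 0 n28239
theorem D59467 : act 0 n28239 = n59467 := rfl
theorem F93866 : act 5 n59467 = n28261 := d17_1 D59467 (iv1 F45769) D28272 F45779 (iv5 D14460) (iv0 D6910) D6913 D14473 (iv4 F45761)
theorem F93867 : act 4 n59467 = n51051 := d18_1 D59467 F80503 (iv4 F93815) F93814 (iv4 D30157) F23978 (iv4 F45723) (iv0 D28236) D28239
theorem F93868 : act 1 n28255 = n59467 := d15_0 (iv0 D59467) (iv7 F93771) F93769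
def n59468 : Q := act 6 n28239
theorem D59468 : act 6 n28239 = n59468 := rfl
theorem F93869 : act 4 n59468 = n30496 := d10_1 D59468 (iv6 D30496) (iv4 F45761)
def n59469 : Q := act 0 n28240
theorem D59469 : act 0 n28240 = n59469 := rfl
def n59470 : Q := act 1 n28240
theorem D59470 : act 1 n28240 = n59470 := rfl
def n59471 : Q := act 5 n28240
theorem D59471 : act 5 n28240 = n59471 := rfl
def n59472 : Q := act 7 n28240
theorem D59472 : act 7 n28240 = n59472 := rfl
theorem F93870 : act 4 n59472 = n28244 := d11_1 D59472 (iv7 D28244) (iv4 F45727)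
def n59474 : Q := act 3 n28241
theorem D59474 : act 3 n28241 = n59474 := rfl
def n59475 : Q := act 4 n28241
theorem D59475 : act 4 n28241 = n59475 := rfl
def n59476 : Q := act 5 n28241
theorem D59476 : act 5 n28241 = n59476 := rfl
theorem F93872 : act 0 n59476 = n48776 := d21_1 D59476 F76802 (iv6 D24262) (iv1 D11420) F7920 (iv5 D2813) D2811 D6413 D13482 D28241
theorem F93873 : act 6 n49730 = n28241 := d21_5 (iv5 D5306) D5304 D11413 D24253 D49730 D59476 F93872 F76802 (iv6 D24262) (iv1 D11420)
theorem F93874 : act 1 n59476 = n48802 := d15_1 (iv0 F93872) (iv7 D48802) (iv2 F76800)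
def n59480 : Q := act 5 n28242
theorem D59480 : act 5 n28242 = n59480 := rfl
theorem F93876 : act 0 n48776 = n59480 := d21_10 (iv5 D59480) (iv1 D28242) D28243 F45729 F22630 F18734 (iv5 D11149) D11147 D23787 D48776
def n59481 : Q := act 6 n28242
theorem D59481 : act 6 n28242 = n59481 := rfl
def n59482 : Q := act 0 n28243
theorem D59482 : act 0 n28243 = n59482 := rfl
def n59483 : Q := act 1 n28243
theorem D59483 : act 1 n28243 = n59483 := rfl
theorem F93877 : act 1 n59483 = n49937 := d15_1 D59483 (iv7 D49937) (iv2 F45728)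
def n59484 : Q := act 4 n28243
theorem D59484 : act 4 n28243 = n59484 := rfl
theorem F93878 : act 2 n59484 = n49934 := d1_1 D59484 F78978 (iv2 F45728)
theorem F93879 : act 6 n59484 = n28245 := d10_2 (iv6 F45729) D59484 (iv4 D28245)
def n59485 : Q := act 7 n28243
theorem D59485 : act 7 n28243 = n59485 := rfl
theorem F93880 : act 2 n59485 = n49937 := d4_1 D59485 (iv7 D49937) (iv2 F45728)
theorem F93881 : act 5 n59485 = n28244 := d13_1 D59485 (iv7 D28244) D28243
theorem F93882 : act 6 n59485 = n49930 := d14_1 D59485 (iv7 D49930) (iv6 D24349) (iv7 F22634) (iv6 F45729)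
theorem F93883 : act 1 n49937 = n59482 := d15_0 (iv0 D59482) D59485 F93880
theorem F93884 : act 1 n49936 = n59485 := d15_1 D49936 (iv7 D59485) F45728
theorem F93885 : act 5 n49936 = n49754 := d21_0 (iv1 D49754) (iv5 F76802) (iv6 D48776) F37068 (iv6 F39867) (iv5 D25268) D25267 F82016 (iv6 F93882) (iv1 F93884)
theorem F93886 : act 6 n48816 = n49936 := d21_5 (iv5 D11998) D11996 (iv5 F37093) D23807 D48816 F93885 (iv1 D49754) (iv5 F76802) (iv6 D48776) F37068
theorem F93887 : act 6 n28265 = n49754 := d21_5 F11304 D11757 (iv5 F22614) D13495 D28265 (iv5 F93885) (iv1 D49936) (iv5 F45647) (iv6 D28211) F22435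
theorem F93888 : act 1 n59485 = n49935 := d15_0 (iv0 D49935) D49937 (iv2 F93880)
theorem F93889 : act 5 n49753 = n49935 := d21_0 (iv1 F93888) F93881 F85101 (iv1 F85096) (iv6 F49844) (iv5 D31512) (iv1 F24506) F24314 D24262 D49753
def n59486 : Q := act 3 n28245
theorem D59486 : act 3 n28245 = n59486 := rfl
theorem F93890 : act 4 n59486 = n30249 := d5_2 D28245 D59486 (iv3 D30249) (iv4 F45108) F45106
theorem F93891 : act 7 n59486 = n49925 := d8_2 (iv7 F45731) D59486 (iv3 D49925)
def n59487 : Q := act 5 n28245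
theorem D59487 : act 5 n28245 = n59487 := rfl
theorem F93892 : act 2 n59487 = n49933 := d2_1 D59487 (iv5 D49933) (iv2 F45730)
theorem F93893 : act 7 n59487 = n49926 := d13_2 (iv7 F45731) D59487 (iv5 D49926)
def n59488 : Q := act 6 n28246
theorem D59488 : act 6 n28246 = n59488 := rfl
theorem F93894 : act 2 n59488 = n51109 := d3_1 D59488 (iv6 D51109) (iv2 F45733)
theorem F93895 : act 3 n59488 = n58839 := d7_1 D59488 (iv6 D58839) (iv3 F45734)
theorem F93896 : act 5 n59488 = n50194 := d12_1 D59488 (iv6 D50194) (iv5 F45741) (iv6 D28247) D28246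
theorem F93897 : act 0 n30837 = n59488 := d21_4 (iv5 F24597) F38861 F38859 D30837 (iv6 D59488) (iv5 D28246) F22638 D14149 (iv6 F23741) (iv1 F24599)
def n59489 : Q := act 6 n28248
theorem D59489 : act 6 n28248 = n59489 := rfl
theorem F93898 : act 2 n59489 = n31715 := d3_1 D59489 (iv6 D31715) F45744
theorem F93899 : act 4 n59489 = n53455 := d10_1 D59489 (iv6 D53455) (iv4 F45743)
theorem F93900 : act 5 n59489 = n51077 := d12_1 D59489 (iv6 D51077) (iv5 F78071) F78072 F49258
theorem F93901 : act 0 n59489 = n29816 := d21_4 F38959 (iv1 F49260) F49258 D59489 (iv6 D29816) (iv5 D14168) F22921 D11790 F19166 D11799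
def n59490 : Q := act 3 n28249
theorem D59490 : act 3 n28249 = n59490 := rfl
theorem F93902 : act 4 n59490 = n28254 := d5_2 D28249 D59490 (iv3 D28254) (iv4 D13490) (iv3 F22641)
theorem F93903 : act 7 n59490 = n51101 := d8_2 (iv7 F45748) D59490 (iv3 D51101)
def n59491 : Q := act 5 n28249
theorem D59491 : act 5 n28249 = n59491 := rfl
theorem F93904 : act 2 n59491 = n51111 := d2_1 D59491 (iv5 D51111) (iv2 F45747)
theorem F93905 : act 7 n59491 = n51102 := d13_2 (iv7 F45748) D59491 (iv5 D51102)
theorem F93906 : act 4 n59491 = n51355 := d16_2 D28249 D59491 F81055 (iv4 D27956) (iv5 D13336) (iv4 F19152) D24858 F38937 (iv2 F22640)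
theorem F93907 : act 0 n59491 = n29779 := d17_2 (iv1 F45749) D59491 (iv5 D29779) (iv4 D14150) (iv5 D6730) (iv0 F19316) D11868 F19309 D14540
theorem F93908 : act 1 n59491 = n30661 := d17_6 (iv1 F38952) F19180 F18105 D13486 D28249 D59491 (iv5 D30661) F47901 F47899
def n59492 : Q := act 6 n28249
theorem D59492 : act 6 n28249 = n59492 := rfl
theorem F93909 : act 2 n59492 = n51112 := d3_1 D59492 (iv6 D51112) (iv2 F45747)
theorem F93910 : act 4 n59492 = n28250 := d10_1 D59492 (iv6 D28250) D28249
theorem F93911 : act 0 n51448 = n59492 := d20_1 D51448 F93910 F45752 (iv1 F85100) (iv3 D26088) (iv4 F47798) (iv1 F40958) F40954 (iv3 F40937) (iv1 F40939)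
def n59493 : Q := act 0 n28250
theorem D59493 : act 0 n28250 = n59493 := rfl
theorem F93912 : act 2 n31737 = n59493 := d15_3 (iv0 D59493) (iv0 F80457) F78459
theorem F93913 : act 7 n59493 = n51114 := d4_2 F78459 F93912 F80633
theorem E8753 : n51113 = n31737 := ((c15_4 (iv0 D51113) D51114 (iv7 F93913) (iv2 F93912))).symm
theorem F93914 : act 1 n31737 = n24878 := (sb E8753 (iv0 D51113))
theorem F93915 : act 1 n51115 = n59493 := d15_1 F80634 F93913 F80633
def n59494 : Q := act 7 n28250
theorem D59494 : act 7 n28250 = n59494 := rfl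
theorem F93916 : act 2 n59494 = n51115 := d4_1 D59494 (iv7 D51115) (iv2 F45751)
theorem F93917 : act 3 n59494 = n28259 := d8_1 D59494 (iv7 D28259) (iv3 F45752)
theorem F93918 : act 6 n59494 = n51106 := d14_1 D59494 (iv7 D51106) (iv6 D24871) (iv7 F22642) D28250
theorem F93919 : act 1 n51114 = n59494 := d15_1 D51114 (iv7 D59494) F45751
theorem F93920 : act 1 n59494 = n31737 := d15_1 F93919 (iv7 F78459) (iv2 F80633)
def n59495 : Q := act 3 n28252
theorem D59495 : act 3 n28252 = n59495 := rfl
theorem F93921 : act 5 n59495 = n30495 := d6_2 F45760 D59495 (iv3 D30495)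
def n59496 : Q := act 6 n28252
theorem D59496 : act 6 n28252 = n59496 := rfl
theorem F93922 : act 4 n59496 = n28253 := d10_1 D59496 (iv6 D28253) D28252
theorem F93923 : act 0 n59496 = n30366 := d20_7 (iv4 F40954) (iv1 F40957) F47794 D26091 F76809 F76807 (iv4 F93922) (iv4 D30366) F48511 (iv1 F20411)
def n59497 : Q := act 0 n28253
theorem D59497 : act 0 n28253 = n59497 := rfl
def n59498 : Q := act 1 n28253
theorem D59498 : act 1 n28253 = n59498 := rfl
theorem F93924 : act 6 n49896 = n59498 := d21_3 (iv5 F46392) (iv1 F46390) (iv5 F78913) (iv1 D59498) (iv6 D28253) (iv5 D13488) F18104 D11768 (iv6 F22135) D27927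
theorem F93925 : act 2 n59498 = n31740 := d3_1 F93924 F50041 F78914
theorem F93926 : act 3 n59498 = n51114 := d7_1 F93924 (iv6 F80632) F78916
def n59499 : Q := act 7 n28253
theorem D59499 : act 7 n28253 = n59499 := rfl
theorem F93927 : act 3 n59499 = n31767 := d8_1 D59499 F76883 F76807
theorem F93928 : act 1 n31740 = n59499 := d15_1 (iv0 F79641) (iv7 D59499) (iv2 F79639)
def n59500 : Q := act 0 n28254
theorem D59500 : act 0 n28254 = n59500 := rfl
def n59501 : Q := act 1 n28254
theorem D59501 : act 1 n28254 = n59501 := rfl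
def n59502 : Q := act 2 n28254
theorem D59502 : act 2 n28254 = n59502 := rfl
def n59503 : Q := act 5 n28254
theorem D59503 : act 5 n28254 = n59503 := rfl
theorem F93929 : act 3 n59503 = n28255 := d6_1 D59503 (iv5 D28255) D28254
def n59504 : Q := act 6 n28254
theorem D59504 : act 6 n28254 = n59504 := rfl
theorem F93930 : act 3 n59504 = n28256 := d7_1 D59504 (iv6 D28256) D28254
def n59505 : Q := act 6 n28255
theorem D59505 : act 6 n28255 = n59505 := rfl
theorem F93931 : act 4 n59505 = n30493 := d10_1 D59505 (iv6 D30493) (iv4 F45762)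
def n59506 : Q := act 0 n28256
theorem D59506 : act 0 n28256 = n59506 := rfl
theorem F93932 : act 4 n59506 = n52008 := d20_8 (iv4 F78251) (iv1 F83905) (iv4 D49668) D49667 F80457 F45752 (iv4 F45763) D59506 (iv3 D52008) (iv1 F39788)
def n59507 : Q := act 1 n28256
theorem D59507 : act 1 n28256 = n59507 := rfl
def n59508 : Q := act 5 n28256
theorem D59508 : act 5 n28256 = n59508 := rfl
def n59509 : Q := act 7 n28256
theorem D59509 : act 7 n28256 = n59509 := rfl
theorem F93933 : act 4 n59509 = n28259 := d11_1 D59509 (iv7 D28259) (iv4 F45763)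
def n59510 : Q := act 4 n28258
theorem D59510 : act 4 n28258 = n59510 := rfl
theorem F93934 : act 2 n59510 = n31775 := d1_1 D59510 (iv4 D31775) (iv2 F45765)
def n59511 : Q := act 0 n28260
theorem D59511 : act 0 n28260 = n59511 := rfl
def n59512 : Q := act 1 n28260
theorem D59512 : act 1 n28260 = n59512 := rfl
def n59513 : Q := act 5 n28260
theorem D59513 : act 5 n28260 = n59513 := rfl
theorem F93935 : act 3 n59513 = n28267 := d6_1 D59513 (iv5 D28267) (iv3 F45767)
theorem F93936 : act 6 n59513 = n29405 := d12_2 D28260 D59513 (iv5 F49160) F49164 F38840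
theorem F93937 : act 0 n59513 = n29320 := d21_4 F79244 F49163 F49160 (iv6 F93936) (iv6 D29320) (iv5 D13950) F19540 D13453 (iv6 F38910) F79248
def n59514 : Q := act 7 n28260
theorem D59514 : act 7 n28260 = n59514 := rfl
theorem F93938 : act 3 n59514 = n28268 := d8_1 D59514 (iv7 D28268) (iv3 F45767)
def n59515 : Q := act 3 n28261
theorem D59515 : act 3 n28261 = n59515 := rfl
theorem F93939 : act 4 n59515 = n30820 := d5_2 (iv4 F45768) D59515 (iv3 D30820) (iv4 D14594) (iv3 F23975)
def n59516 : Q := act 6 n28261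
theorem D59516 : act 6 n28261 = n59516 := rfl
theorem F93940 : act 4 n59516 = n30263 := d10_1 D59516 (iv6 D30263) (iv4 F45768)
def n59517 : Q := act 0 n28262
theorem D59517 : act 0 n28262 = n59517 := rfl
def n59518 : Q := act 1 n28262
theorem D59518 : act 1 n28262 = n59518 := rfl
def n59519 : Q := act 2 n28262
theorem D59519 : act 2 n28262 = n59519 := rfl
def n59520 : Q := act 5 n28262
theorem D59520 : act 5 n28262 = n59520 := rfl
theorem F93941 : act 3 n59520 = n28263 := d6_1 D59520 (iv5 D28263) D28262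
def n59521 : Q := act 6 n28262
theorem D59521 : act 6 n28262 = n59521 := rfl
theorem F93942 : act 3 n59521 = n28264 := d7_1 D59521 (iv6 D28264) D28262
def n59522 : Q := act 0 n28263
theorem D59522 : act 0 n28263 = n59522 := rfl
theorem F93943 : act 5 n59522 = n30282 := d17_1 D59522 F48697 D59406 F93754 (iv5 F79636) F79638 F48875 F48872 (iv4 F45770)
theorem F93944 : act 4 n59522 = n30304 := d18_1 D59522 F48735 (iv4 F93802) (iv5 D59426) F45663 F37469 (iv4 F45768) (iv0 D28261) D28263
theorem F93945 : act 1 n28272 = n59522 := d15_0 (iv0 D59522) (iv7 F93790) F93788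
theorem F93946 : act 2 n59460 = n59522 := d1_3 F93944 F48832 (iv4 F93860)
theorem F93947 : act 7 n59457 = n59522 := d11_0 F93944 F48828 (iv4 F93855)
def n59523 : Q := act 1 n28263
theorem D59523 : act 1 n28263 = n59523 := rfl
theorem F93948 : act 1 n59523 = n28272 := d15_1 D59523 (iv7 F93777) F93776
theorem F93949 : act 7 n59523 = n59460 := d15_2 (iv0 D59522) D59523 F93946
theorem F93950 : act 5 n59523 = n30280 := d17_7 F22435 F11304 D11757 (iv5 F22614) D13494 D28263 D59523 F48691 (iv4 D28210)
theorem F93951 : act 4 n59523 = n30308 := d17_9 F48742 (iv5 D30174) (iv1 F38875) D51051 (iv4 F93867) F93866 (iv0 D28261) D28263 D59523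
theorem F93952 : act 2 n59457 = n59523 := d1_3 F93951 F48827 (iv4 F93855)
def n59524 : Q := act 6 n28263
theorem D59524 : act 6 n28263 = n59524 := rfl
theorem F93953 : act 4 n59524 = n30466 := d10_1 D59524 (iv6 D30466) (iv4 F45770)
def n59525 : Q := act 0 n28264
theorem D59525 : act 0 n28264 = n59525 := rfl
def n59526 : Q := act 1 n28264
theorem D59526 : act 1 n28264 = n59526 := rfl
def n59527 : Q := act 5 n28264
theorem D59527 : act 5 n28264 = n59527 := rfl
def n59528 : Q := act 7 n28264
theorem D59528 : act 7 n28264 = n59528 := rfl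
theorem F93954 : act 4 n59528 = n28268 := d11_1 D59528 (iv7 D28268) (iv4 F45771)
def n59529 : Q := act 2 n28265
theorem D59529 : act 2 n28265 = n59529 := rfl
theorem F93955 : act 7 n28266 = n59529 := d15_2 (iv0 D28265) D28266 (iv2 D59529)
def n59530 : Q := act 3 n28265
theorem D59530 : act 3 n28265 = n59530 := rfl
def n59531 : Q := act 4 n28265
theorem D59531 : act 4 n28265 = n59531 := rfl
def n59532 : Q := act 5 n28265
theorem D59532 : act 5 n28265 = n59532 := rfl
def n59533 : Q := act 7 n28265
theorem D59533 : act 7 n28265 = n59533 := rfl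
theorem F93956 : act 2 n59533 = n28266 := d4_1 D59533 F93955 (iv2 D59529)
def n59534 : Q := act 3 n28266
theorem D59534 : act 3 n28266 = n59534 := rfl
def n59535 : Q := act 4 n28266
theorem D59535 : act 4 n28266 = n59535 := rfl
def n59536 : Q := act 5 n28266
theorem D59536 : act 5 n28266 = n59536 := rfl
theorem F93957 : act 6 n59403 = n59536 := d21_5 (iv5 D13455) (iv1 F10453) (iv5 F22429) D28209 D59403 (iv5 D59536) (iv1 D28266) D28267 F45772 (iv1 F23309)
def n59537 : Q := act 6 n28266
theorem D59537 : act 6 n28266 = n59537 := rfl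
def n59538 : Q := act 4 n28267
theorem D59538 : act 4 n28267 = n59538 := rfl
theorem F93958 : act 6 n59538 = n29406 := d10_2 (iv6 F45772) D59538 (iv4 D29406)
def n59539 : Q := act 7 n28267
theorem D59539 : act 7 n28267 = n59539 := rfl
theorem F93959 : act 5 n59539 = n28268 := d13_1 D59539 (iv7 D28268) D28267
def n59540 : Q := act 3 n28269
theorem D59540 : act 3 n28269 = n59540 := rfl
theorem F93960 : act 4 n59540 = n28271 := d5_2 D28269 D59540 (iv3 D28271) (iv4 D13498) D13497
theorem F93961 : act 7 n59540 = n51116 := d8_2 (iv7 F45774) D59540 (iv3 D51116)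
def n59541 : Q := act 5 n28269
theorem D59541 : act 5 n28269 = n59541 := rfl
theorem F93962 : act 2 n59541 = n51125 := d2_1 D59541 (iv5 D51125) (iv2 F45773)
theorem F93963 : act 7 n59541 = n51117 := d13_2 (iv7 F45774) D59541 (iv5 D51117)
theorem F93964 : act 4 n59541 = n51345 := d16_2 D28269 D59541 (iv5 D51345) F39164 (iv5 F39233) (iv4 F49250) F49249 F38954 F24278
theorem F93965 : act 0 n59541 = n50283 := d17_2 (iv1 F45776) D59541 (iv5 D50283) (iv4 D24524) (iv5 D11603) (iv0 F24202) (iv5 F20430) F20432 D14533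
theorem F93966 : act 1 n59541 = n53452 := d17_6 F24577 F24574 (iv1 F24282) (iv5 F23743) D28269 D59541 (iv5 D53452) F40919 (iv4 D24877)
def n59542 : Q := act 6 n28269
theorem D59542 : act 6 n28269 = n59542 := rfl
theorem F93967 : act 2 n59542 = n51126 := d3_1 D59542 (iv6 D51126) (iv2 F45773)
theorem F93968 : act 4 n59542 = n28270 := d10_1 D59542 (iv6 D28270) D28269
def n59543 : Q := act 0 n28270
theorem D59543 : act 0 n28270 = n59543 := rfl
def n59544 : Q := act 1 n28270
theorem D59544 : act 1 n28270 = n59544 := rfl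
theorem F93969 : act 1 n59544 = n51130 := d15_1 D59544 (iv7 D51130) (iv2 F45777)
def n59545 : Q := act 7 n28270
theorem D59545 : act 7 n28270 = n59545 := rfl
theorem F93970 : act 2 n59545 = n51130 := d4_1 D59545 (iv7 D51130) (iv2 F45777)
theorem F93971 : act 3 n59545 = n28277 := d8_1 D59545 (iv7 D28277) (iv3 F45778)
theorem F93972 : act 6 n59545 = n51122 := d14_1 D59545 (iv7 D51122) (iv6 D24881) F38956 D28270
theorem F93973 : act 1 n51130 = n59543 := d15_0 (iv0 D59543) D59545 F93970
theorem F93974 : act 1 n51128 = n59545 := d15_1 D51128 (iv7 D59545) F45777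
theorem F93975 : act 1 n59545 = n51127 := d15_0 (iv0 D51127) D51130 (iv2 F93970)
def n59546 : Q := act 0 n28271
theorem D59546 : act 0 n28271 = n59546 := rfl
def n59547 : Q := act 1 n28271
theorem D59547 : act 1 n28271 = n59547 := rfl
def n59548 : Q := act 2 n28271
theorem D59548 : act 2 n28271 = n59548 := rfl
def n59549 : Q := act 5 n28271
theorem D59549 : act 5 n28271 = n59549 := rfl
theorem F93976 : act 3 n59549 = n28272 := d6_1 D59549 (iv5 D28272) D28271
def n59550 : Q := act 6 n28271
theorem D59550 : act 6 n28271 = n59550 := rfl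
theorem F93977 : act 3 n59550 = n28273 := d7_1 D59550 (iv6 D28273) D28271
def n59551 : Q := act 6 n28272
theorem D59551 : act 6 n28272 = n59551 := rfl
theorem F93978 : act 4 n59551 = n30454 := d10_1 D59551 (iv6 D30454) (iv4 F45779)
def n59552 : Q := act 0 n28273
theorem D59552 : act 0 n28273 = n59552 := rfl
def n59553 : Q := act 1 n28273
theorem D59553 : act 1 n28273 = n59553 := rfl
def n59554 : Q := act 5 n28273
theorem D59554 : act 5 n28273 = n59554 := rfl
def n59555 : Q := act 7 n28273
theorem D59555 : act 7 n28273 = n59555 := rfl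
theorem F93979 : act 4 n59555 = n28277 := d11_1 D59555 (iv7 D28277) (iv4 F45780)
def n59556 : Q := act 2 n28274
theorem D59556 : act 2 n28274 = n59556 := rfl
theorem F93980 : act 7 n28275 = n59556 := d15_2 (iv0 D28274) D28275 (iv2 D59556)
def n59557 : Q := act 3 n28274
theorem D59557 : act 3 n28274 = n59557 := rfl
def n59558 : Q := act 4 n28274
theorem D59558 : act 4 n28274 = n59558 := rfl
def n59559 : Q := act 5 n28274
theorem D59559 : act 5 n28274 = n59559 := rfl
def n59560 : Q := act 6 n28274
theorem D59560 : act 6 n28274 = n59560 := rfl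
theorem F93981 : act 5 n59560 = n51934 := d21_6 F41140 (iv1 F38823) F26054 D13500 D28274 D59560 (iv1 D51934) (iv5 F45651) (iv6 D28213) (iv1 F41142)
def n59561 : Q := act 7 n28274
theorem D59561 : act 7 n28274 = n59561 := rfl
theorem F93982 : act 2 n59561 = n28275 := d4_1 D59561 F93980 (iv2 D59556)
def n59562 : Q := act 3 n28275
theorem D59562 : act 3 n28275 = n59562 := rfl
def n59563 : Q := act 4 n28275
theorem D59563 : act 4 n28275 = n59563 := rfl
def n59564 : Q := act 5 n28275
theorem D59564 : act 5 n28275 = n59564 := rfl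
theorem F93983 : act 6 n49928 = n59564 := d21_5 (iv5 D13991) (iv1 F23858) (iv5 F22633) D24349 D49928 (iv5 D59564) (iv1 D28275) D28276 F45782 F38117
def n59565 : Q := act 6 n28275
theorem D59565 : act 6 n28275 = n59565 := rfl
def n59566 : Q := act 0 n28276
theorem D59566 : act 0 n28276 = n59566 := rfl
theorem F93984 : act 6 n59566 = n59480 := d21_5 (iv5 D11463) D11461 D24327 (iv6 F45782) D59566 (iv5 D59480) (iv1 D28242) D28243 F45729 F22630
theorem F93985 : act 5 n59566 = n49731 := d21_0 (iv1 D49731) (iv5 F76822) (iv6 D48782) (iv1 D23790) (iv6 F18734) (iv5 D11463) D11461 D24327 (iv6 F45782) D59566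
def n59567 : Q := act 1 n28276
theorem D59567 : act 1 n28276 = n59567 := rfl
theorem F93986 : act 1 n59567 = n49913 := d15_1 D59567 (iv7 D49913) (iv2 F45781)
theorem F93987 : act 5 n49730 = n59567 := d21_0 (iv1 D59567) (iv5 D28276) (iv6 D13500) (iv1 D6421) (iv6 F7920) (iv5 D5306) D5304 D11413 D24253 D49730
def n59568 : Q := act 4 n28276
theorem D59568 : act 4 n28276 = n59568 := rfl
theorem F93988 : act 2 n59568 = n49910 := d1_1 D59568 F78948 (iv2 F45781)
theorem F93989 : act 6 n59568 = n49888 := d10_2 (iv6 F45782) D59568 (iv4 D49888)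
def n59569 : Q := act 7 n28276
theorem D59569 : act 7 n28276 = n59569 := rfl
theorem F93990 : act 2 n59569 = n49913 := d4_1 D59569 (iv7 D49913) (iv2 F45781)
theorem F93991 : act 5 n59569 = n28277 := d13_1 D59569 (iv7 D28277) D28276
theorem F93992 : act 6 n59569 = n31436 := d14_1 D59569 F49732 (iv6 D24346) (iv7 F38116) (iv6 F45782)
theorem F93993 : act 1 n49913 = n59566 := d15_0 (iv0 D59566) D59569 F93990
theorem F93994 : act 1 n49912 = n59569 := d15_1 D49912 (iv7 D59569) F45781
theorem F93995 : act 1 n59569 = n49911 := d15_0 (iv0 D49911) D49913 (iv2 F93990)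
def n59570 : Q := act 0 n28278
theorem D59570 : act 0 n28278 = n59570 := rfl
def n59571 : Q := act 1 n28278
theorem D59571 : act 1 n28278 = n59571 := rfl
def n59572 : Q := act 2 n28278
theorem D59572 : act 2 n28278 = n59572 := rfl
def n59573 : Q := act 4 n28278
theorem D59573 : act 4 n28278 = n59573 := rfl
theorem F93996 : act 3 n59573 = n28718 := d5_1 D59573 F46320 (iv3 F40074) (iv4 F26051) D28278
def n59574 : Q := act 5 n28278
theorem D59574 : act 5 n28278 = n59574 := rfl
theorem F93997 : act 3 n59574 = n28279 := d6_1 D59574 (iv5 D28279) D28278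
def n59575 : Q := act 6 n28278
theorem D59575 : act 6 n28278 = n59575 := rfl
theorem F93998 : act 3 n59575 = n28280 := d7_1 D59575 (iv6 D28280) D28278
def n59576 : Q := act 0 n28279
theorem D59576 : act 0 n28279 = n59576 := rfl
theorem F93999 : act 5 n59576 = n30266 := d17_1 D59576 (iv1 D30266) D30268 F48655 (iv5 D30160) F48479 (iv5 F48831) F48829 (iv4 F45783)
theorem F94000 : act 4 n59576 = n30453 := d18_1 D59576 (iv1 D30453) (iv4 F45779) (iv5 D28272) (iv4 D13498) F22612 (iv4 F45669) F45672 D28279
theorem F94001 : act 2 n53844 = n59576 := d15_3 (iv0 D59576) (iv0 F49686) (iv7 F84880)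
theorem F94002 : act 1 n28282 = n59576 := d15_0 (iv0 D59576) (iv7 F93803) F93801
theorem F94003 : act 7 n59576 = n59451 := d15_2 F49687 F94002 F93840
def n59577 : Q := act 6 n28279
theorem D59577 : act 6 n28279 = n59577 := rfl
theorem F94004 : act 4 n59577 = n30425 := d10_1 D59577 (iv6 D30425) (iv4 F45783)
def n59578 : Q := act 0 n28280
theorem D59578 : act 0 n28280 = n59578 := rfl
def n59579 : Q := act 1 n28280
theorem D59579 : act 1 n28280 = n59579 := rfl
def n59580 : Q := act 5 n28280
theorem D59580 : act 5 n28280 = n59580 := rfl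
def n59581 : Q := act 7 n28280
theorem D59581 : act 7 n28280 = n59581 := rfl
def n59582 : Q := act 0 n28281
theorem D59582 : act 0 n28281 = n59582 := rfl
def n59583 : Q := act 1 n28281
theorem D59583 : act 1 n28281 = n59583 := rfl
def n59584 : Q := act 2 n28281
theorem D59584 : act 2 n28281 = n59584 := rfl
def n59585 : Q := act 5 n28281
theorem D59585 : act 5 n28281 = n59585 := rfl
theorem F94005 : act 3 n59585 = n28282 := d6_1 D59585 (iv5 D28282) D28281
def n59586 : Q := act 6 n28281
theorem D59586 : act 6 n28281 = n59586 := rfl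
theorem F94006 : act 3 n59586 = n28283 := d7_1 D59586 (iv6 D28283) D28281
def n59587 : Q := act 6 n28282
theorem D59587 : act 6 n28282 = n59587 := rfl
theorem F94007 : act 4 n59587 = n30395 := d10_1 D59587 (iv6 D30395) (iv4 F45784)
def n59588 : Q := act 0 n28283
theorem D59588 : act 0 n28283 = n59588 := rfl
def n59589 : Q := act 1 n28283
theorem D59589 : act 1 n28283 = n59589 := rfl
def n59590 : Q := act 5 n28283
theorem D59590 : act 5 n28283 = n59590 := rfl
def n59591 : Q := act 7 n28283
theorem D59591 : act 7 n28283 = n59591 := rfl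
def n59592 : Q := act 0 n28284
theorem D59592 : act 0 n28284 = n59592 := rfl
theorem F94008 : act 2 n28288 = n59592 := d15_3 (iv0 D59592) (iv0 D28284) D28288
theorem F94009 : act 4 n59592 = n28326 := d1_2 (iv4 F45788) F94008 (iv2 F45835)
theorem F94010 : act 7 n59592 = n28286 := d4_2 D28288 F94008 (iv2 D28286)
theorem F94011 : act 1 n28285 = n59592 := d15_1 D28285 F94010 (iv2 D28286)
def n59593 : Q := act 2 n28284
theorem D59593 : act 2 n28284 = n59593 := rfl
theorem F94012 : act 7 n28285 = n59593 := d15_2 (iv0 D28284) D28285 (iv2 D59593)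
def n59594 : Q := act 3 n28284
theorem D59594 : act 3 n28284 = n59594 := rfl
def n59595 : Q := act 4 n28284
theorem D59595 : act 4 n28284 = n59595 := rfl
def n59596 : Q := act 5 n28284
theorem D59596 : act 5 n28284 = n59596 := rfl
def n59597 : Q := act 6 n28284
theorem D59597 : act 6 n28284 = n59597 := rfl
def n59598 : Q := act 7 n28284
theorem D59598 : act 7 n28284 = n59598 := rfl
theorem F94013 : act 2 n59598 = n28285 := d4_1 D59598 F94012 (iv2 D59593)
def n59599 : Q := act 3 n28285
theorem D59599 : act 3 n28285 = n59599 := rfl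
def n59600 : Q := act 5 n28285
theorem D59600 : act 5 n28285 = n59600 := rfl
def n59601 : Q := act 6 n28285
theorem D59601 : act 6 n28285 = n59601 := rfl
def n59602 : Q := act 1 n28286
theorem D59602 : act 1 n28286 = n59602 := rfl
theorem F94014 : act 1 n59602 = n28288 := d15_1 D59602 (iv7 D28288) D28286
def n59603 : Q := act 5 n28286
theorem D59603 : act 5 n28286 = n59603 := rfl
theorem F94015 : act 2 n59603 = n28287 := d2_1 D59603 (iv5 D28287) D28286
def n59604 : Q := act 0 n28287
theorem D59604 : act 0 n28287 = n59604 := rfl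
def n59605 : Q := act 1 n28287
theorem D59605 : act 1 n28287 = n59605 := rfl
def n59606 : Q := act 4 n28287
theorem D59606 : act 4 n28287 = n59606 := rfl
def n59607 : Q := act 6 n28287
theorem D59607 : act 6 n28287 = n59607 := rfl
def n59608 : Q := act 7 n28287
theorem D59608 : act 7 n28287 = n59608 := rfl
theorem F94017 : act 3 n59608 = n28293 := d8_1 D59608 (iv7 D28293) (iv3 F45786)
theorem F94018 : act 5 n59608 = n28288 := d13_1 D59608 (iv7 D28288) D28287
def n59609 : Q := act 6 n28288
theorem D59609 : act 6 n28288 = n59609 := rfl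
theorem F94020 : act 4 n59609 = n28344 := d10_1 D59609 (iv6 D28344) (iv4 F45788)
def n59610 : Q := act 3 n28289
theorem D59610 : act 3 n28289 = n59610 := rfl
theorem F94021 : act 5 n59610 = n30284 := d6_2 (iv5 F45789) D59610 (iv3 D30284)
def n59611 : Q := act 6 n28289
theorem D59611 : act 6 n28289 = n59611 := rfl
theorem F94022 : act 4 n59611 = n30361 := d10_1 D59611 (iv6 D30361) F45790
def n59612 : Q := act 3 n28290
theorem D59612 : act 3 n28290 = n59612 := rfl
theorem F94023 : act 5 n59612 = n30349 := d6_2 (iv5 F45793) D59612 (iv3 D30349)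
def n59613 : Q := act 6 n28290
theorem D59613 : act 6 n28290 = n59613 := rfl
theorem F94024 : act 4 n59613 = n30317 := d10_1 D59613 (iv6 D30317) F45794
def n59614 : Q := act 3 n28291
theorem D59614 : act 3 n28291 = n59614 := rfl
theorem F94025 : act 5 n59614 = n30190 := d6_2 (iv5 F45796) D59614 F48565
theorem F94026 : act 7 n59614 = n30189 := d8_2 (iv7 F45799) D59614 F48564
def n59615 : Q := act 6 n28291
theorem D59615 : act 6 n28291 = n59615 := rfl
theorem F94027 : act 2 n59615 = n30502 := d3_1 D59615 (iv6 D30502) (iv2 F45795)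
theorem F94028 : act 4 n59615 = n28292 := d10_1 D59615 (iv6 D28292) D28291
def n59616 : Q := act 0 n28292
theorem D59616 : act 0 n28292 = n59616 := rfl
def n59617 : Q := act 1 n28292
theorem D59617 : act 1 n28292 = n59617 := rfl
def n59618 : Q := act 7 n28292
theorem D59618 : act 7 n28292 = n59618 := rfl
def n59619 : Q := act 6 n28293
theorem D59619 : act 6 n28293 = n59619 := rfl
theorem F94029 : act 2 n59619 = n30498 := d3_1 D59619 (iv6 D30498) (iv2 F45800)
theorem F94030 : act 4 n59619 = n30193 := d10_1 D59619 (iv6 D30193) (iv4 F45801)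
def n59620 : Q := act 0 n28294
theorem D59620 : act 0 n28294 = n59620 := rfl
def n59621 : Q := act 1 n28294
theorem D59621 : act 1 n28294 = n59621 := rfl
def n59622 : Q := act 5 n28294
theorem D59622 : act 5 n28294 = n59622 := rfl
def n59623 : Q := act 2 n28295
theorem D59623 : act 2 n28295 = n59623 := rfl
theorem F94031 : act 7 n28296 = n59623 := d15_2 (iv0 D28295) D28296 (iv2 D59623)
def n59624 : Q := act 3 n28295
theorem D59624 : act 3 n28295 = n59624 := rfl
def n59625 : Q := act 4 n28295
theorem D59625 : act 4 n28295 = n59625 := rfl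
def n59626 : Q := act 5 n28295
theorem D59626 : act 5 n28295 = n59626 := rfl
theorem F94032 : act 0 n59481 = n59626 := d21_10 (iv5 D59626) (iv1 F78562) F78559 (iv6 D49715) (iv1 F38017) D24262 (iv5 F76802) F93876 (iv5 D59480) D59481
def n59627 : Q := act 6 n28295
theorem D59627 : act 6 n28295 = n59627 := rfl
theorem F94033 : act 5 n59627 = n59348 := d21_6 (iv5 D13468) (iv1 F10459) (iv5 F10466) D13506 D28295 D59627 (iv1 D59348) F78607 (iv6 F78606) (iv1 F41143)
def n59628 : Q := act 7 n28295
theorem D59628 : act 7 n28295 = n59628 := rfl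
def n59629 : Q := act 3 n28296
theorem D59629 : act 3 n28296 = n59629 := rfl
def n59630 : Q := act 4 n28296
theorem D59630 : act 4 n28296 = n59630 := rfl
def n59631 : Q := act 5 n28296
theorem D59631 : act 5 n28296 = n59631 := rfl
theorem F94035 : act 6 n59631 = n59453 := d12_2 F93433 D59631 F93846 (iv6 D59233) D59232
def n59632 : Q := act 2 n28297
theorem D59632 : act 2 n28297 = n59632 := rfl
theorem F94036 : act 7 n28298 = n59632 := d15_2 (iv0 D28297) D28298 (iv2 D59632)
def n59633 : Q := act 3 n28297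
theorem D59633 : act 3 n28297 = n59633 := rfl
def n59634 : Q := act 4 n28297
theorem D59634 : act 4 n28297 = n59634 := rfl
def n59635 : Q := act 5 n28297
theorem D59635 : act 5 n28297 = n59635 := rfl
def n59636 : Q := act 7 n28297
theorem D59636 : act 7 n28297 = n59636 := rfl
theorem F94037 : act 2 n59636 = n28298 := d4_1 D59636 F94036 (iv2 D59632)
def n59637 : Q := act 3 n28298
theorem D59637 : act 3 n28298 = n59637 := rfl
def n59638 : Q := act 4 n28298
theorem D59638 : act 4 n28298 = n59638 := rfl
def n59639 : Q := act 5 n28298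
theorem D59639 : act 5 n28298 = n59639 := rfl
theorem F94038 : act 6 n59639 = n28803 := d21_3 F80798 (iv1 F45804) D59639 (iv1 D28803) (iv6 D13732) F10603 (iv1 F10588) D13695 D28724 (iv1 F80800)
def n59640 : Q := act 6 n28298
theorem D59640 : act 6 n28298 = n59640 := rfl
def n59641 : Q := act 4 n28299
theorem D59641 : act 4 n28299 = n59641 := rfl
theorem F94039 : act 2 n59641 = n51211 := d1_1 D59641 (iv4 D51211) (iv2 F45805)
theorem F94040 : act 6 n59641 = n29308 := d10_2 (iv6 F45807) D59641 (iv4 D29308)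
def n59642 : Q := act 0 n28302
theorem D59642 : act 0 n28302 = n59642 := rfl
def n59643 : Q := act 1 n28302
theorem D59643 : act 1 n28302 = n59643 := rfl
def n59644 : Q := act 2 n28302
theorem D59644 : act 2 n28302 = n59644 := rfl
def n59645 : Q := act 4 n28302
theorem D59645 : act 4 n28302 = n59645 := rfl
def n59646 : Q := act 5 n28302
theorem D59646 : act 5 n28302 = n59646 := rfl
theorem F94041 : act 3 n59646 = n28304 := d6_1 D59646 (iv5 D28304) D28302
def n59647 : Q := act 4 n28304
theorem D59647 : act 4 n28304 = n59647 := rfl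
def n59652 : Q := act 5 n28306
theorem D59652 : act 5 n28306 = n59652 := rfl
theorem F94042 : act 3 n59652 = n28308 := d6_1 D59652 (iv5 D28308) D28306
theorem F94043 : act 6 n28987 = n59652 := d7_0 F94042 F45816 D28987
def n59653 : Q := act 6 n28306
theorem D59653 : act 6 n28306 = n59653 := rfl
theorem F94044 : act 3 n59653 = n28309 := d7_1 D59653 (iv6 D28309) D28306
def n59654 : Q := act 4 n28308
theorem D59654 : act 4 n28308 = n59654 := rfl
theorem F94045 : act 6 n59654 = n28988 := d10_2 (iv6 F45816) D59654 (iv4 D28988)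
def n59655 : Q := act 3 n28310
theorem D59655 : act 3 n28310 = n59655 := rfl
theorem F94046 : act 6 n59655 = n29389 := d7_2 (iv6 F45817) D59655 (iv3 D29389)
def n59656 : Q := act 5 n28310
theorem D59656 : act 5 n28310 = n59656 := rfl
def n59657 : Q := act 5 n28311
theorem D59657 : act 5 n28311 = n59657 := rfl
theorem F94047 : act 2 n59657 = n28314 := d2_1 D59657 (iv5 D28314) (iv2 F45818)
theorem F94048 : act 7 n59657 = n51187 := d13_2 (iv7 F45819) D59657 (iv5 D51187)
theorem F94049 : act 4 n59657 = n48845 := d16_2 D28311 D59657 (iv5 D48845) (iv4 D23817) F18117 F11459 (iv5 F18117) F18118 D13512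
theorem F94050 : act 0 n59657 = n53922 := d17_2 F49603 D59657 (iv5 D53922) F41245 (iv5 F24047) (iv0 F37482) (iv5 F37481) (iv0 F37483) D31346
theorem F94051 : act 1 n59657 = n53919 := d17_6 D12358 (iv5 F24646) (iv1 F24648) (iv5 F22659) D28311 D59657 (iv5 D53919) (iv0 D26072) (iv4 D12360)
def n59658 : Q := act 6 n28311
theorem D59658 : act 6 n28311 = n59658 := rfl
theorem F94052 : act 2 n59658 = n28315 := d3_1 D59658 (iv6 D28315) (iv2 F45818)
theorem F94053 : act 4 n59658 = n28312 := d10_1 D59658 (iv6 D28312) D28311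
def n59659 : Q := act 0 n28312
theorem D59659 : act 0 n28312 = n59659 := rfl
theorem F94054 : act 5 n59659 = n49675 := d21_0 (iv1 F78479) (iv5 F79018) F79019 (iv1 F53926) (iv6 D26068) (iv5 F24646) (iv1 F24648) (iv5 F22659) D28312 D59659
theorem F94055 : act 0 n59659 = n28318 := d21_1 (iv5 F94054) (iv5 F53886) F53887 (iv1 F49765) (iv6 D14921) (iv5 F18571) (iv1 F18573) D11386 D24225 D49675
def n59660 : Q := act 1 n28312
theorem D59660 : act 1 n28312 = n59660 := rfl
theorem F94056 : act 1 n59660 = n28318 := d15_1 D59660 (iv7 D28318) (iv2 F45821)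
theorem F94057 : act 5 n49676 = n59660 := d21_0 (iv1 D59660) F45823 (iv6 D24891) F22970 (iv6 F46404) (iv5 D28766) D28765 F80788 F45810 (iv1 F78475)
theorem F94058 : act 6 n49775 = n49676 := d21_5 (iv5 D13719) F22957 (iv5 F18666) D24269 D49775 F94057 (iv1 D59660) F45823 (iv6 D24891) F22970
theorem F94059 : act 6 n59660 = n49981 := d21_3 F79018 (iv1 F78475) F94057 (iv1 F82356) F82351 F80740 (iv1 F39048) (iv5 F49620) (iv6 F82329) (iv1 F82337)
def n59661 : Q := act 7 n28312
theorem D59661 : act 7 n28312 = n59661 := rfl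
theorem F94060 : act 2 n59661 = n28318 := d4_1 D59661 (iv7 D28318) (iv2 F45821)
theorem F94061 : act 3 n59661 = n49677 := d8_1 D59661 (iv7 D49677) (iv3 F45822)
theorem F94062 : act 5 n59661 = n51151 := d13_1 D59661 (iv7 D51151) (iv5 F45823)
theorem F94063 : act 6 n59661 = n51191 := d14_1 D59661 (iv7 D51191) (iv6 D24906) (iv7 F22660) D28312
theorem F94064 : act 1 n28317 = n59661 := d15_1 D28317 (iv7 D59661) F45821
theorem F94065 : act 0 n28316 = n59661 := d21_1 (iv5 F82339) F94062 F80691 (iv1 D49628) (iv6 D24202) (iv5 F19036) F19037 F11488 D11825 D24914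
def n59662 : Q := act 3 n28313
theorem D59662 : act 3 n28313 = n59662 := rfl
theorem F94066 : act 4 n59662 = n30660 := d5_2 (iv4 F45826) D59662 (iv3 D30660) (iv4 D14533) (iv3 F24035)
theorem F94067 : act 7 n59662 = n52181 := d8_2 (iv7 F45825) D59662 (iv3 D52181)
def n59663 : Q := act 6 n28313
theorem D59663 : act 6 n28313 = n59663 := rfl
theorem F94068 : act 4 n59663 = n30339 := d10_1 D59663 (iv6 D30339) (iv4 F45826)
theorem F94069 : act 7 n59663 = n52194 := d14_2 (iv7 F45825) D59663 (iv6 D52194) (iv7 D25350) (iv6 F40054)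
def n59664 : Q := act 6 n28314
theorem D59664 : act 6 n28314 = n59664 := rfl
def n59665 : Q := act 0 n28315
theorem D59665 : act 0 n28315 = n59665 := rfl
def n59666 : Q := act 1 n28315
theorem D59666 : act 1 n28315 = n59666 := rfl
def n59667 : Q := act 5 n28315
theorem D59667 : act 5 n28315 = n59667 := rfl
def n59668 : Q := act 7 n28315
theorem D59668 : act 7 n28315 = n59668 := rfl
theorem F94070 : act 4 n59668 = n28318 := d11_1 D59668 (iv7 D28318) (iv4 F45827)
def n59669 : Q := act 2 n28316
theorem D59669 : act 2 n28316 = n59669 := rfl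
theorem F94071 : act 5 n59669 = n51217 := d2_2 (iv5 F82339) D59669 (iv2 D51217)
theorem F94072 : act 7 n28317 = n59669 := d15_2 (iv0 D28316) D28317 (iv2 D59669)
def n59670 : Q := act 3 n28316
theorem D59670 : act 3 n28316 = n59670 := rfl
theorem F94073 : act 5 n59670 = n51218 := d6_2 (iv5 F82339) D59670 (iv3 D51218)
def n59671 : Q := act 4 n28316
theorem D59671 : act 4 n28316 = n59671 := rfl
def n59672 : Q := act 6 n28316
theorem D59672 : act 6 n28316 = n59672 := rfl
theorem F94074 : act 5 n59672 = n58807 := d21_6 (iv5 F22233) (iv1 F24471) (iv5 F11970) D13514 D28316 D59672 (iv1 D58807) F45217 (iv6 D24215) (iv1 F18588)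
theorem F94075 : act 6 n49670 = n58807 := d12_4 (iv6 D59672) F82339 D51221 F80814 (iv5 F94074)
def n59673 : Q := act 7 n28316
theorem D59673 : act 7 n28316 = n59673 := rfl
theorem F94076 : act 2 n59673 = n28317 := d4_1 D59673 F94072 (iv2 D59669)
theorem F94077 : act 5 n59673 = n51222 := d13_1 D59673 (iv7 D51222) (iv5 F82339)
def n59674 : Q := act 3 n28317
theorem D59674 : act 3 n28317 = n59674 := rfl
theorem F94078 : act 5 n59674 = n51223 := d6_2 F80801 D59674 (iv3 D51223)
def n59675 : Q := act 4 n28317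
theorem D59675 : act 4 n28317 = n59675 := rfl
def n59678 : Q := act 2 n28320
theorem D59678 : act 2 n28320 = n59678 := rfl
def n59679 : Q := act 4 n28320
theorem D59679 : act 4 n28320 = n59679 := rfl
def n59680 : Q := act 6 n28320
theorem D59680 : act 6 n28320 = n59680 := rfl
theorem F94079 : act 3 n59680 = n28322 := d7_1 D59680 (iv6 D28322) D28320
theorem F94080 : act 5 n31783 = n59680 := d6_0 F94079 F45830 D31783
def n59682 : Q := act 1 n28324
theorem D59682 : act 1 n28324 = n59682 := rfl
def n59683 : Q := act 2 n28324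
theorem D59683 : act 2 n28324 = n59683 := rfl
def n59684 : Q := act 4 n28324
theorem D59684 : act 4 n28324 = n59684 := rfl
def n59685 : Q := act 6 n28326
theorem D59685 : act 6 n28326 = n59685 := rfl
theorem F94081 : act 2 n59685 = n28344 := d3_1 D59685 (iv6 D28344) F45835
def n59686 : Q := act 0 n28327
theorem D59686 : act 0 n28327 = n59686 := rfl
theorem F94082 : act 1 n28332 = n59686 := d15_0 (iv0 D59686) (iv7 F45838) (iv2 F45839)
def n59687 : Q := act 1 n28327
theorem D59687 : act 1 n28327 = n59687 := rfl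
def n59688 : Q := act 3 n28327
theorem D59688 : act 3 n28327 = n59688 := rfl
theorem F94084 : act 7 n59688 = n28333 := d8_2 F45838 D59688 (iv3 D28333)
def n59689 : Q := act 4 n28327
theorem D59689 : act 4 n28327 = n59689 := rfl
theorem F94085 : act 2 n59689 = n28329 := d1_1 D59689 (iv4 D28329) D28327
theorem F94086 : act 7 n59689 = n28334 := d11_2 F45838 D59689 (iv4 D28334)
def n59690 : Q := act 5 n28327
theorem D59690 : act 5 n28327 = n59690 := rfl
theorem F94087 : act 2 n59690 = n28330 := d2_1 D59690 (iv5 D28330) D28327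
theorem F94088 : act 7 n59690 = n28335 := d13_2 F45838 D59690 (iv5 D28335)
def n59691 : Q := act 6 n28327
theorem D59691 : act 6 n28327 = n59691 := rfl
theorem F94089 : act 2 n59691 = n28331 := d3_1 D59691 (iv6 D28331) D28327
def n59692 : Q := act 0 n28328
theorem D59692 : act 0 n28328 = n59692 := rfl
def n59693 : Q := act 1 n28328
theorem D59693 : act 1 n28328 = n59693 := rfl
def n59694 : Q := act 2 n28328
theorem D59694 : act 2 n28328 = n59694 := rfl
def n59695 : Q := act 5 n28328
theorem D59695 : act 5 n28328 = n59695 := rfl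
theorem F94090 : act 3 n59695 = n28330 := d6_1 D59695 (iv5 D28330) D28328
def n59696 : Q := act 6 n28328
theorem D59696 : act 6 n28328 = n59696 := rfl
theorem F94091 : act 3 n59696 = n28331 := d7_1 D59696 (iv6 D28331) D28328
def n59697 : Q := act 7 n28328
theorem D59697 : act 7 n28328 = n59697 := rfl
theorem F94092 : act 3 n59697 = n28332 := d8_1 D59697 (iv7 D28332) D28328
def n59698 : Q := act 0 n28329
theorem D59698 : act 0 n28329 = n59698 := rfl
theorem F94093 : act 4 n59698 = n53679 := d20_2 D28329 D59698 (iv3 D53679) (iv1 D25982) (iv3 D12321) F9004 (iv1 D2826) D2827 D6428 D13518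
def n59699 : Q := act 1 n28329
theorem D59699 : act 1 n28329 = n59699 := rfl
theorem F94094 : act 1 n59699 = n28334 := d15_1 D59699 (iv7 F94086) F94085
def n59700 : Q := act 3 n28329
theorem D59700 : act 3 n28329 = n59700 := rfl
def n59701 : Q := act 5 n28329
theorem D59701 : act 5 n28329 = n59701 := rfl
def n59702 : Q := act 6 n28329
theorem D59702 : act 6 n28329 = n59702 := rfl
theorem F94095 : act 4 n59702 = n28331 := d10_1 D59702 (iv6 D28331) D28329
def n59703 : Q := act 7 n28329
theorem D59703 : act 7 n28329 = n59703 := rfl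
theorem F94096 : act 2 n59703 = n28334 := d4_1 D59703 (iv7 F94086) F94085
theorem F94097 : act 4 n59703 = n28332 := d11_1 D59703 (iv7 D28332) D28329
theorem F94098 : act 1 n28334 = n59698 := d15_0 (iv0 D59698) D59703 F94096
def n59704 : Q := act 0 n28330
theorem D59704 : act 0 n28330 = n59704 := rfl
def n59705 : Q := act 1 n28330
theorem D59705 : act 1 n28330 = n59705 := rfl
theorem F94099 : act 1 n59705 = n28335 := d15_1 D59705 (iv7 F94088) F94087
def n59706 : Q := act 4 n28330
theorem D59706 : act 4 n28330 = n59706 := rfl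
def n59707 : Q := act 6 n28330
theorem D59707 : act 6 n28330 = n59707 := rfl
def n59708 : Q := act 7 n28330
theorem D59708 : act 7 n28330 = n59708 := rfl
theorem F94100 : act 2 n59708 = n28335 := d4_1 D59708 (iv7 F94088) F94087
theorem F94101 : act 5 n59708 = n28332 := d13_1 D59708 (iv7 D28332) D28330
theorem F94102 : act 1 n28335 = n59704 := d15_0 (iv0 D59704) D59708 F94100
def n59709 : Q := act 0 n28331
theorem D59709 : act 0 n28331 = n59709 := rfl
def n59710 : Q := act 1 n28331
theorem D59710 : act 1 n28331 = n59710 := rfl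
def n59711 : Q := act 5 n28331
theorem D59711 : act 5 n28331 = n59711 := rfl
def n59712 : Q := act 7 n28331
theorem D59712 : act 7 n28331 = n59712 := rfl
def n59713 : Q := act 6 n28332
theorem D59713 : act 6 n28332 = n59713 := rfl
theorem F94103 : act 2 n59713 = n28336 := d3_1 D59713 (iv6 D28336) (iv2 F45839)
def n59714 : Q := act 0 n28333
theorem D59714 : act 0 n28333 = n59714 := rfl
theorem F94104 : act 4 n59714 = n31175 := d20_0 (iv1 F78320) F78318 F41046 (iv1 F41068) D53679 (iv4 F94093) (iv1 F94098) (iv4 D28334) D28333 D59714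
def n59715 : Q := act 1 n28333
theorem D59715 : act 1 n28333 = n59715 := rfl
def n59716 : Q := act 2 n28333
theorem D59716 : act 2 n28333 = n59716 := rfl
def n59717 : Q := act 4 n28333
theorem D59717 : act 4 n28333 = n59717 := rfl
theorem F94105 : act 0 n53647 = n59717 := d20_1 D53647 (iv4 D59717) (iv3 D28333) (iv1 D13519) (iv3 D6428) (iv4 D2827) D2825 (iv4 F8998) D12318 D25971
def n59718 : Q := act 5 n28333
theorem D59718 : act 5 n28333 = n59718 := rfl
theorem F94106 : act 3 n59718 = n28335 := d6_1 D59718 (iv5 D28335) D28333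
def n59719 : Q := act 6 n28333
theorem D59719 : act 6 n28333 = n59719 := rfl
theorem F94107 : act 3 n59719 = n28336 := d7_1 D59719 (iv6 D28336) D28333
def n59720 : Q := act 3 n28334
theorem D59720 : act 3 n28334 = n59720 := rfl
theorem F94108 : act 0 n49601 = n59720 := d20_4 F26051 (iv1 F26045) D30274 (iv3 F78344) (iv3 D59720) (iv4 D28334) (iv1 D13519) (iv4 F22650) (iv3 D13503) D13501
def n59721 : Q := act 5 n28334
theorem D59721 : act 5 n28334 = n59721 := rfl
def n59722 : Q := act 6 n28334
theorem D59722 : act 6 n28334 = n59722 := rfl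
theorem F94109 : act 4 n59722 = n28336 := d10_1 D59722 (iv6 D28336) D28334
def n59723 : Q := act 4 n28335
theorem D59723 : act 4 n28335 = n59723 := rfl
def n59724 : Q := act 6 n28335
theorem D59724 : act 6 n28335 = n59724 := rfl
def n59725 : Q := act 0 n28336
theorem D59725 : act 0 n28336 = n59725 := rfl
def n59726 : Q := act 1 n28336
theorem D59726 : act 1 n28336 = n59726 := rfl
def n59727 : Q := act 5 n28336
theorem D59727 : act 5 n28336 = n59727 := rfl
def n59728 : Q := act 7 n28336
theorem D59728 : act 7 n28336 = n59728 := rfl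
def n59729 : Q := act 2 n28337
theorem D59729 : act 2 n28337 = n59729 := rfl
theorem F94110 : act 7 n28338 = n59729 := d15_2 (iv0 D28337) D28338 (iv2 D59729)
def n59730 : Q := act 3 n28337
theorem D59730 : act 3 n28337 = n59730 := rfl
def n59735 : Q := act 4 n28338
theorem D59735 : act 4 n28338 = n59735 := rfl
def n59736 : Q := act 5 n28338
theorem D59736 : act 5 n28338 = n59736 := rfl
def n59737 : Q := act 6 n28338
theorem D59737 : act 6 n28338 = n59737 := rfl
def n59738 : Q := act 4 n28339
theorem D59738 : act 4 n28339 = n59738 := rfl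
theorem F94112 : act 2 n59738 = n28342 := d1_1 D59738 (iv4 D28342) (iv2 F45842)
def n59739 : Q := act 6 n28339
theorem D59739 : act 6 n28339 = n59739 := rfl
theorem F94113 : act 2 n59739 = n28343 := d3_1 D59739 (iv6 D28343) (iv2 F45842)
def n59740 : Q := act 2 n28340
theorem D59740 : act 2 n28340 = n59740 := rfl
theorem F94114 : act 7 n28341 = n59740 := d15_2 (iv0 D28340) D28341 (iv2 D59740)
def n59741 : Q := act 3 n28340
theorem D59741 : act 3 n28340 = n59741 := rfl
theorem F94115 : act 4 n59741 = n54180 := d20_6 F20473 (iv1 F18151) F18148 (iv3 F22664) D28340 D59741 (iv1 D54180) F41603 (iv3 D12440) (iv1 F20470)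
def n59742 : Q := act 4 n28340
theorem D59742 : act 4 n28340 = n59742 := rfl
def n59743 : Q := act 5 n28340
theorem D59743 : act 5 n28340 = n59743 := rfl
def n59745 : Q := act 7 n28340
theorem D59745 : act 7 n28340 = n59745 := rfl
theorem F94116 : act 2 n59745 = n28341 := d4_1 D59745 F94114 (iv2 D59740)
def n59746 : Q := act 3 n28341
theorem D59746 : act 3 n28341 = n59746 := rfl
def n59748 : Q := act 5 n28341
theorem D59748 : act 5 n28341 = n59748 := rfl
def n59751 : Q := act 1 n28342
theorem D59751 : act 1 n28342 = n59751 := rfl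
theorem F94117 : act 4 n32264 = n59751 := d20_6 F11230 (iv1 D3320) D3321 D7213 D15217 D32264 (iv1 D59751) (iv4 D28342) F22664 (iv1 F11231)
def n59752 : Q := act 5 n28342
theorem D59752 : act 5 n28342 = n59752 := rfl
def n59753 : Q := act 6 n28342
theorem D59753 : act 6 n28342 = n59753 := rfl
theorem F94118 : act 4 n59753 = n28343 := d10_1 D59753 (iv6 D28343) D28342
def n59754 : Q := act 0 n28343
theorem D59754 : act 0 n28343 = n59754 := rfl
def n59755 : Q := act 1 n28343
theorem D59755 : act 1 n28343 = n59755 := rfl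
def n59756 : Q := act 7 n28343
theorem D59756 : act 7 n28343 = n59756 := rfl
theorem F94119 : act 3 n59756 = n28347 := d8_1 D59756 (iv7 D28347) (iv3 F45843)
def n59757 : Q := act 0 n28344
theorem D59757 : act 0 n28344 = n59757 := rfl
def n59758 : Q := act 1 n28344
theorem D59758 : act 1 n28344 = n59758 := rfl
def n59759 : Q := act 5 n28344
theorem D59759 : act 5 n28344 = n59759 := rfl
theorem F94120 : act 3 n59759 = n28350 := d6_1 D59759 (iv5 D28350) (iv3 F45844)
def n59760 : Q := act 2 n28345
theorem D59760 : act 2 n28345 = n59760 := rfl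
theorem F94121 : act 7 n28346 = n59760 := d15_2 (iv0 D28345) D28346 (iv2 D59760)
def n59761 : Q := act 3 n28345
theorem D59761 : act 3 n28345 = n59761 := rfl
def n59762 : Q := act 4 n28345
theorem D59762 : act 4 n28345 = n59762 := rfl
def n59763 : Q := act 5 n28345
theorem D59763 : act 5 n28345 = n59763 := rfl
def n59764 : Q := act 6 n28345
theorem D59764 : act 6 n28345 = n59764 := rfl
def n59765 : Q := act 7 n28345
theorem D59765 : act 7 n28345 = n59765 := rfl
def n59766 : Q := act 3 n28346
theorem D59766 : act 3 n28346 = n59766 := rfl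
def n59767 : Q := act 4 n28346
theorem D59767 : act 4 n28346 = n59767 := rfl
def n59768 : Q := act 5 n28346
theorem D59768 : act 5 n28346 = n59768 := rfl
def n59769 : Q := act 6 n28346
theorem D59769 : act 6 n28346 = n59769 := rfl
def n59772 : Q := act 4 n28348
theorem D59772 : act 4 n28348 = n59772 := rfl
def n59780 : Q := act 0 n28350
theorem D59780 : act 0 n28350 = n59780 := rfl
theorem F94125 : act 1 n50009 = n59780 := d15_0 (iv0 D59780) (iv7 F78712) (iv2 F79105)
def n59781 : Q := act 1 n28350
theorem D59781 : act 1 n28350 = n59781 := rfl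
theorem F94126 : act 1 n59781 = n50009 := d15_1 D59781 F79107 F49410
theorem F94127 : act 5 n31344 = n59781 := d21_6 D12313 (iv1 F24233) (iv5 D14571) D14572 (iv1 F49705) (iv6 F49596) (iv1 D59781) (iv5 D28350) (iv6 D13524) (iv1 F10471)
theorem E8754 : n59772 = n7035 := (c17_10 (iv1 F11964) F11961 (iv1 F11963) D14774 D31344 F94127 F94126 (iv5 D50009) F45845 D59772)
theorem E8755 : n28348 = n14768 := (((D14768).symm.trans (sb E8754 (iv4 D59772)))).symm
theorem E8756 : n31328 = n24381 := ((D31328).symm.trans (sb E8755 (iv1 F45845)))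
theorem E8757 : n31329 = n13524 := ((D31329).symm.trans (sb E8755 (iv0 D28348)))
theorem E8763 : n28349 = n14773 := (((iv1 F45846)).symm.trans (sb E8756 (iv1 F49583)))
theorem F94128 : act 1 n24381 = n14768 := (sb E8756 (iv0 D31328))
theorem F94129 : act 0 n13524 = n14768 := (sb E8757 (iv1 D31329))
theorem F94130 : act 0 n14773 = n13524 := (sb E8763 (iv1 D28349))
theorem F94131 : act 1 n14773 = n24381 := (sb E8763 F45846)
theorem F94132 : act 5 n59780 = n31334 := d17_3 F94130 D28350 D59780 (iv4 D31334) (iv5 D14769) (iv0 D7035) F5001 D7036 D14773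
theorem F94133 : act 1 n31334 = n30798 := d17_8 F45847 (iv5 D28353) (iv1 F22667) F18792 (iv4 F38227) D50009 F94125 F94132 F53685
theorem F94134 : act 1 n30798 = n31344 := d15_1 F94133 (iv7 F84863) F84862
def n59782 : Q := act 4 n28350
theorem D59782 : act 4 n28350 = n59782 := rfl
def n59783 : Q := act 0 n28351
theorem D59783 : act 0 n28351 = n59783 := rfl
def n59784 : Q := act 1 n28351
theorem D59784 : act 1 n28351 = n59784 := rfl
def n59785 : Q := act 2 n28351
theorem D59785 : act 2 n28351 = n59785 := rfl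
def n59786 : Q := act 4 n28351
theorem D59786 : act 4 n28351 = n59786 := rfl
def n59787 : Q := act 5 n28351
theorem D59787 : act 5 n28351 = n59787 := rfl
theorem F94135 : act 3 n59787 = n28353 := d6_1 D59787 (iv5 D28353) D28351
def n59788 : Q := act 6 n28351
theorem D59788 : act 6 n28351 = n59788 := rfl
theorem F94136 : act 3 n59788 = n28354 := d7_1 D59788 (iv6 D28354) D28351
theorem F94137 : act 5 n29454 = n59788 := d6_0 F94136 F45848 D29454
def n59789 : Q := act 0 n28352
theorem D59789 : act 0 n28352 = n59789 := rfl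
theorem F94138 : act 1 n28356 = n59789 := d15_0 (iv0 D59789) (iv7 F77001) F77000
def n59793 : Q := act 6 n28352
theorem D59793 : act 6 n28352 = n59793 := rfl
theorem F94140 : act 4 n59793 = n28354 := d10_1 D59793 (iv6 D28354) D28352
def n59794 : Q := act 4 n28353
theorem D59794 : act 4 n28353 = n59794 := rfl
def n59795 : Q := act 0 n28355
theorem D59795 : act 0 n28355 = n59795 := rfl
def n59796 : Q := act 1 n28355
theorem D59796 : act 1 n28355 = n59796 := rfl
def n59797 : Q := act 2 n28355
theorem D59797 : act 2 n28355 = n59797 := rfl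
def n59798 : Q := act 4 n28355
theorem D59798 : act 4 n28355 = n59798 := rfl
def n59799 : Q := act 5 n28355
theorem D59799 : act 5 n28355 = n59799 := rfl
theorem F94141 : act 3 n59799 = n28357 := d6_1 D59799 (iv5 D28357) D28355
theorem F94142 : act 6 n59799 = n52082 := d12_2 (iv6 F93457) D59799 F93460 (iv6 D59245) D59244
def n59802 : Q := act 4 n28357
theorem D59802 : act 4 n28357 = n59802 := rfl
theorem F94143 : act 6 n59802 = n50585 := d10_2 (iv6 F45849) D59802 F79948
theorem F94144 : act 5 n59802 = n53822 := d21_6 D7024 (iv1 F24384) F24386 (iv6 F38637) D50585 (iv6 F94143) (iv1 D53822) (iv5 D26020) (iv6 D12332) (iv1 F9012)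
theorem E8768 : n53813 = n13525 := (c17_10 (iv1 F22667) F18792 (iv1 F22668) D28357 D59802 F94144 F84841 (iv5 D30658) F41120 D53813)
theorem E8769 : n28352 = n26018 := ((D28352).symm.trans (sb E8768 (iv4 D53813)))
theorem E8770 : n59789 = n14531 := ((((iv1 F41120)).symm.trans (sb E8769 D59789))).symm
theorem E8772 : n53811 = n48880 := ((D53811).symm.trans (sb E8769 (iv2 F76997)))
theorem F94145 : act 4 n26018 = n13525 := (sb E8769 (iv4 D28352))
theorem E8775 : n59793 = n53815 := (((D53815).symm.trans (sb E8769 D59793))).symm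
theorem E8776 : n53816 = n48882 := ((D53816).symm.trans (sb E8769 (iv7 F77001)))
theorem E8777 : n28356 = n26019 := ((((iv1 F41121)).symm.trans (sb E8770 (iv1 F94138)))).symm
theorem F94146 : act 2 n48880 = n26018 := (sb E8772 (iv2 D53811))
theorem F94147 : act 4 n53815 = n28354 := (sb E8775 F94140)
theorem F94148 : act 7 n48882 = n26018 := (sb E8776 (iv7 D53816))
theorem F94149 : act 2 n26019 = n48882 := (sb E8777 (iv2 F77000))
theorem E8779 : n53818 = n13526 := ((D53818).symm.trans (sb E8777 (iv4 D28356)))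
theorem E8781 : n59246 = n53820 := (((D53820).symm.trans (sb E8777 (iv6 F93462)))).symm
theorem F94150 : act 7 n26019 = n48880 := (sb E8777 (iv7 F76998))
theorem F94151 : act 4 n13526 = n26019 := (sb E8779 (iv4 D53818))
theorem F94152 : act 1 n53820 = n31118 := (sb E8781 F93464)
theorem F94153 : act 2 n53820 = n59008 := (sb E8781 F93461)
theorem F94154 : act 4 n53820 = n28132 := (sb E8781 (iv4 D59246))
theorem F94155 : act 7 n53820 = n59001 := (sb E8781 F93463)
theorem F94156 : act 5 n53821 = n59794 := d17_3 (iv1 D26019) D26020 D53821 (iv4 D59794) (iv5 D28353) (iv0 D13525) F10473 D13526 F94151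
theorem F94157 : act 1 n59794 = n53446 := d17_8 F41129 (iv5 D26023) (iv1 F20479) F11210 (iv4 F24172) D30658 F84840 F94156 F84326
def n59803 : Q := act 0 n28358
theorem D59803 : act 0 n28358 = n59803 := rfl
theorem F94158 : act 3 n59803 = n52085 := d20_5 (iv4 D11221) (iv1 F10479) D13528 D28358 D59803 (iv4 D52085) (iv1 D25288) (iv4 F39801) (iv3 D25248) F19810
theorem F94159 : act 1 n49324 = n59803 := d15_0 (iv0 D59803) F45854 (iv2 F77985)
theorem F94160 : act 7 n49312 = n59803 := d8_0 F94158 F82323 (iv3 F77959)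
theorem F94161 : act 2 n59803 = n49678 := d15_3 F78482 (iv0 F77961) F94160
def n59804 : Q := act 1 n28358
theorem D59804 : act 1 n28358 = n59804 := rfl
theorem F94162 : act 1 n59804 = n49324 := d15_1 D59804 F77988 (iv2 F45851)
theorem F94163 : act 7 n59804 = n49678 := d15_2 (iv0 D59803) D59804 (iv2 F94161)
theorem F94164 : act 3 n34972 = n59804 := d20_3 (iv4 F55367) (iv1 F55370) D34972 (iv1 D59804) (iv3 D28358) (iv4 D13528) (iv1 D6433) D6434 D13529 D28359
theorem F94165 : act 6 n59804 = n49308 := d7_2 F55549 F94164 F77968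
theorem F94166 : act 2 n49312 = n59804 := d3_3 F94165 (iv2 D49308) D49312
theorem F94167 : act 5 n59804 = n49100 := d21_6 D23968 (iv1 F54188) F54193 (iv6 F37677) (iv1 F77967) (iv6 F94165) (iv1 D49100) (iv5 D23954) F18228 D11233
def n59805 : Q := act 6 n28360
theorem D59805 : act 6 n28360 = n59805 := rfl
theorem F94168 : act 2 n59805 = n28361 := d3_1 D59805 (iv6 D28361) D28360
theorem F94169 : act 3 n59805 = n42207 := d7_1 D59805 F82973 F77410
theorem F94170 : act 4 n59805 = n28373 := d10_1 D59805 (iv6 D28373) (iv4 F45855)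
theorem F94171 : act 7 n59805 = n42408 := d14_2 F55197 D59805 (iv6 F82994) F55248 (iv6 F55200)
theorem F94172 : act 0 n59805 = n32576 := d21_4 D54075 F85333 F83100 D59805 (iv6 D32576) (iv5 F32598) (iv1 F32599) F41511 (iv6 D26164) D26161
def n59806 : Q := act 1 n28361
theorem D59806 : act 1 n28361 = n59806 := rfl
theorem F94173 : act 1 n59806 = n42408 := d15_1 D59806 (iv7 F94171) F94168
theorem F94174 : act 7 n59806 = n32576 := d15_2 (iv0 F55285) D59806 (iv2 F55283)
theorem F94175 : act 3 n53100 = n59806 := d20_3 (iv4 D25757) D25756 D53100 (iv1 D59806) F45856 F22680 F12663 (iv4 F27798) (iv3 F40434) (iv1 F40683)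
theorem F94176 : act 4 n31682 = n59806 := d20_6 (iv4 D7092) F5513 (iv4 F12012) (iv3 F26691) F24537 (iv3 F49959) (iv1 D59806) F45857 F22689 F11593
theorem F94177 : act 6 n59806 = n31681 := d10_2 D31682 F94176 (iv4 D31681)
theorem F94178 : act 0 n43432 = n43235 := d20_10 F67740 (iv1 F82985) (iv4 D42409) D42408 (iv1 F94173) (iv3 F94175) (iv4 D53100) (iv1 F40680) D25760 (iv3 F83002)
def n59807 : Q := act 5 n28361
theorem D59807 : act 5 n28361 = n59807 := rfl
theorem F94179 : act 3 n59807 = n28362 := d6_1 D59807 (iv5 D28362) (iv3 F45856)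
theorem F94180 : act 1 n59807 = n54678 := d17_6 (iv1 F42268) D26460 F50556 (iv5 D28376) (iv4 F45857) D59807 (iv5 D54678) F86427 F86425
theorem F94181 : act 0 n59807 = n54677 := d21_7 D23774 (iv1 F43063) (iv5 D16919) D16920 F27742 D28361 D59807 (iv5 D54677) F42289 (iv1 F27609)
def n59808 : Q := act 4 n28362
theorem D59808 : act 4 n28362 = n59808 := rfl
theorem F94182 : act 0 n59808 = n52765 := d17_0 (iv5 F83366) F83367 (iv5 F83519) F83518 F40551 (iv0 F22759) D28500 F46045 D59808
theorem F94183 : act 1 n59808 = n52768 := d18_6 (iv1 F45862) (iv4 D28363) (iv1 D13531) (iv4 F22680) D28362 D59808 (iv4 D52768) (iv0 F77951) (iv5 D49307)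
def n59809 : Q := act 3 n28363
theorem D59809 : act 3 n28363 = n59809 := rfl
theorem F94184 : act 4 n59809 = n59809 := d5_2 D28363 D59809 (iv3 D59809) (iv4 D28363) F22683
theorem F94185 : act 7 n59809 = n52464 := d8_2 (iv7 F45860) D59809 (iv3 D52464)
def n59810 : Q := act 0 n28365
theorem D59810 : act 0 n28365 = n59810 := rfl
theorem F94186 : act 4 n59810 = n34963 := d20_2 D28365 D59810 (iv3 F55359) (iv1 D26051) (iv3 D12346) F9071 (iv1 D2848) D2849 D6439 D13533
theorem F94187 : act 3 n59810 = n49836 := d20_5 (iv4 F84932) F84931 (iv4 F56604) F56603 D59810 F78799 F54267 (iv4 F27758) (iv3 F28382) (iv1 F49854)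
theorem F94188 : act 1 n28370 = n59810 := d15_0 (iv0 D59810) F56595 F56592
theorem F94189 : act 2 n34972 = n59810 := d0_5 F94187 F78798 (iv3 F77959) F94166 (iv3 F94164)
theorem F94190 : act 6 n49834 = n59810 := d7_0 F94187 (iv6 D49836) D49834
theorem F94191 : act 7 n34967 = n59810 := d8_0 F94187 (iv7 F78802) (iv3 F55373)
def n59811 : Q := act 1 n28365
theorem D59811 : act 1 n28365 = n59811 := rfl
theorem F94192 : act 1 n59811 = n28370 := d15_1 D59811 (iv7 F77007) F77006
theorem F94193 : act 7 n59811 = n34972 := d15_2 (iv0 D59810) D59811 F94189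
theorem F94194 : act 4 n34962 = n59811 := d20_0 (iv1 D59811) (iv4 D28365) F41285 F49918 (iv3 D31533) F50816 F50811 F27138 (iv3 F27825) D34962
theorem F94195 : act 2 n59811 = n34967 := d1_1 F94194 (iv4 D34967) (iv2 F55521)
theorem F94196 : act 3 n59811 = n49678 := d20_3 F55187 D34962 F94194 (iv1 D49678) (iv3 D24226) (iv4 D11387) (iv1 F10211) D11172 D23833 F55189
def n59812 : Q := act 5 n28365
theorem D59812 : act 5 n28365 = n59812 := rfl
def n59813 : Q := act 6 n28365
theorem D59813 : act 6 n28365 = n59813 := rfl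
theorem F94197 : act 2 n59813 = n49832 := d3_1 D59813 (iv6 F78782) F77006
theorem F94198 : act 3 n59813 = n34298 := d7_1 D59813 (iv6 F56605) F56603
theorem F94199 : act 4 n59813 = n28367 := d10_1 D59813 (iv6 D28367) D28365
theorem F94200 : act 7 n59813 = n49833 := d14_2 (iv7 F56595) D59813 F78789 F40391 D35918
theorem F94201 : act 1 n49837 = n59813 := d15_1 (iv0 F78806) F94200 F78787
theorem F94202 : act 1 n59813 = n49309 := d15_1 F94201 (iv7 F77957) (iv2 F78803)
def n59814 : Q := act 5 n28370
theorem D59814 : act 5 n28370 = n59814 := rfl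
theorem F94203 : act 3 n59814 = n52483 := d6_1 D59814 (iv5 D52483) F45865
def n59815 : Q := act 5 n28373
theorem D59815 : act 5 n28373 = n59815 := rfl
theorem F94204 : act 2 n59815 = n28376 := d2_1 D59815 (iv5 D28376) (iv2 F45866)
theorem F94205 : act 3 n59815 = n54208 := d6_1 D59815 F85532 F51399
theorem F94206 : act 7 n59815 = n54707 := d13_2 F55573 D59815 F86517
theorem F94207 : act 0 n59815 = n54640 := d21_7 (iv5 F51794) F51796 F42391 (iv6 F50468) (iv1 F37166) D28373 D59815 (iv5 D54640) (iv6 D26425) D26423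
theorem F94208 : act 0 n54664 = n59815 := d21_1 D54664 (iv5 D59815) (iv6 D28373) (iv1 F37171) F50554 (iv5 F52255) (iv1 F52262) F25490 (iv6 F21027) (iv1 F42257)
def n59816 : Q := act 4 n28375
theorem D59816 : act 4 n28375 = n59816 := rfl
theorem F94209 : act 7 n59816 = n46824 := d11_2 (iv7 F55633) D59816 F73969
theorem F94210 : act 3 n46831 = n59816 := d8_3 F94209 F73968 D46831
theorem F94211 : act 0 n49220 = n46831 := d20_4 F27784 F19126 (iv4 F37553) (iv3 F77735) F94210 (iv4 D59816) (iv1 D28375) (iv4 F45857) F45856 F27785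
def n59817 : Q := act 4 n28376
theorem D59817 : act 4 n28376 = n59817 := rfl
def n59818 : Q := act 3 n28377
theorem D59818 : act 3 n28377 = n59818 := rfl
def n59819 : Q := act 3 n28378
theorem D59819 : act 3 n28378 = n59819 := rfl
theorem F94212 : act 4 n59819 = n50438 := d5_2 (iv4 F45870) D59819 (iv3 D50438) (iv4 D24585) F36891
theorem F94213 : act 7 n59819 = n52015 := d8_2 (iv7 F45873) D59819 (iv3 D52015)
def n59820 : Q := act 0 n28379
theorem D59820 : act 0 n28379 = n59820 := rfl
theorem F94214 : act 1 n52428 = n59820 := d15_0 (iv0 D59820) F45874 D52428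
def n59821 : Q := act 1 n28379
theorem D59821 : act 1 n28379 = n59821 := rfl
def n59822 : Q := act 2 n28379
theorem D59822 : act 2 n28379 = n59822 := rfl
theorem F94215 : act 3 n59822 = n52476 := d0_2 D28379 D59822 (iv2 D52476) (iv3 D25467) (iv2 F22696)
theorem F94216 : act 7 n59822 = n52428 := d4_2 (iv7 F45874) D59822 (iv2 D52428)
theorem F94217 : act 1 n59822 = n52426 := d15_0 (iv0 D52426) (iv7 F45874) D59822
theorem F94218 : act 1 n59821 = n52428 := d15_1 D59821 (iv7 F94216) (iv2 D59822)
theorem F94219 : act 1 n52427 = n59822 := d15_1 D52427 F94216 (iv2 D52428)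
def n59823 : Q := act 5 n28379
theorem D59823 : act 5 n28379 = n59823 := rfl
theorem F94220 : act 3 n59823 = n28380 := d6_1 D59823 (iv5 D28380) D28379
theorem F94221 : act 7 n59823 = n52400 := d13_2 (iv7 F45874) D59823 F82757
def n59824 : Q := act 6 n28379
theorem D59824 : act 6 n28379 = n59824 := rfl
theorem F94222 : act 3 n59824 = n28381 := d7_1 D59824 (iv6 D28381) D28379
def n59825 : Q := act 6 n28380
theorem D59825 : act 6 n28380 = n59825 := rfl
theorem F94223 : act 2 n59825 = n52403 := d3_1 D59825 (iv6 D52403) (iv2 F45875)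
theorem F94224 : act 4 n59825 = n48686 := d10_1 D59825 (iv6 D48686) (iv4 F45877)
def n59826 : Q := act 0 n28381
theorem D59826 : act 0 n28381 = n59826 := rfl
theorem F94225 : act 4 n59826 = n48646 := d20_2 (iv4 F45881) D59826 (iv3 F81380) (iv1 F81382) F39435 (iv4 F39453) (iv1 F39455) F38606 (iv3 F39718) F39720
theorem F94226 : act 2 n52308 = n59826 := d15_3 (iv0 D59826) (iv0 F92990) (iv7 F92992)
theorem F94227 : act 7 n59826 = n52311 := d4_2 (iv7 F92992) F94226 (iv2 F92988)
theorem E8782 : n52478 = n52308 := ((c15_4 (iv0 D52478) (iv0 F93090) (iv7 F94227) (iv2 F94226))).symm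
theorem F94228 : act 1 n52308 = n25468 := (sb E8782 (iv0 D52478))
theorem F94229 : act 1 n52481 = n59826 := d15_1 F92991 F94227 (iv2 F92988)
theorem F94230 : act 0 n50215 = n51327 := d20_7 (iv4 F94225) (iv1 F94229) F82852 (iv3 F82850) (iv1 F93032) F93028 F82767 F80990 F39151 D48646
theorem F94231 : act 1 n50215 = n51420 := d15_1 (iv0 F94230) (iv7 D51420) (iv2 F80989)
def n59827 : Q := act 5 n28381
theorem D59827 : act 5 n28381 = n59827 := rfl
theorem F94232 : act 2 n59827 = n52480 := d2_1 D59827 (iv5 D52480) (iv2 F45880)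
def n59828 : Q := act 7 n28381
theorem D59828 : act 7 n28381 = n59828 := rfl
theorem F94233 : act 2 n59828 = n52481 := d4_1 D59828 (iv7 D52481) (iv2 F45880)
theorem F94234 : act 4 n59828 = n28383 := d11_1 D59828 (iv7 D28383) (iv4 F45881)
theorem F94235 : act 6 n59828 = n52433 := d14_1 D59828 (iv7 D52433) (iv6 D25447) (iv7 F22697) D28381
theorem F94236 : act 1 n52311 = n59828 := d15_1 (iv0 F93090) (iv7 D59828) F45880
theorem F94237 : act 1 n59828 = n52308 := d15_1 F94236 F92992 F92988
theorem F94238 : act 0 n50905 = n52297 := d20_7 D52308 (iv1 F94237) F94234 (iv3 F49304) (iv1 F80310) F80308 (iv4 F80311) F82675 F40181 D25405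
def n59829 : Q := act 5 n28386
theorem D59829 : act 5 n28386 = n59829 := rfl
theorem F94239 : act 2 n59829 = n28387 := d2_1 D59829 (iv5 D28387) D28386
theorem F94240 : act 3 n59829 = n52487 := d6_1 D59829 (iv5 D52487) (iv3 F45893)
theorem F94241 : act 7 n59829 = n52451 := d13_2 (iv7 F45895) D59829 (iv5 D52451)
theorem F94242 : act 1 n59829 = n52453 := d17_6 D12399 D26139 (iv1 F41425) F24822 (iv4 F45894) D59829 F82818 (iv0 D25477) F20032
theorem F94243 : act 0 n59829 = n52454 := d21_7 D12168 (iv1 F28346) (iv5 D17386) D17387 F54425 F47621 D59829 F82814 F40416 (iv1 D12166)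
theorem F94244 : act 5 n52126 = n52450 := d21_8 D59829 F94243 F82814 F40416 (iv1 D12166) (iv6 F19879) D25311 D52126 (iv6 D52450) (iv1 F45896)
def n59830 : Q := act 4 n28387
theorem D59830 : act 4 n28387 = n59830 := rfl
theorem F94245 : act 7 n59830 = n52455 := d11_2 (iv7 F45899) D59830 (iv4 D52455)
def n59831 : Q := act 6 n28387
theorem D59831 : act 6 n28387 = n59831 := rfl
theorem F94246 : act 3 n59831 = n28389 := d7_1 D59831 (iv6 D28389) (iv3 F45898)
def n59832 : Q := act 3 n28388
theorem D59832 : act 3 n28388 = n59832 := rfl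
theorem F94247 : act 5 n59832 = n48676 := d6_2 (iv5 F45901) D59832 (iv3 D48676)
theorem F94248 : act 7 n59832 = n52402 := d8_2 (iv7 F45902) D59832 (iv3 D52402)
def n59833 : Q := act 6 n28388
theorem D59833 : act 6 n28388 = n59833 := rfl
theorem F94249 : act 2 n59833 = n52401 := d3_1 D59833 (iv6 D52401) (iv2 F45900)
theorem F94250 : act 4 n59833 = n28389 := d10_1 D59833 (iv6 D28389) D28388
def n59834 : Q := act 0 n28389
theorem D59834 : act 0 n28389 = n59834 := rfl
def n59835 : Q := act 1 n28389
theorem D59835 : act 1 n28389 = n59835 := rfl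
theorem F94251 : act 1 n59835 = n52494 := d15_1 D59835 (iv7 D52494) (iv2 F45905)
def n59836 : Q := act 7 n28389
theorem D59836 : act 7 n28389 = n59836 := rfl
theorem F94252 : act 2 n59836 = n52494 := d4_1 D59836 (iv7 D52494) (iv2 F45905)
theorem F94253 : act 6 n59836 = n52463 := d14_1 D59836 (iv7 D52463) (iv6 D25459) (iv7 F22707) D28389
theorem F94254 : act 1 n52494 = n59834 := d15_0 (iv0 D59834) D59836 F94252
theorem F94255 : act 1 n52493 = n59836 := d15_1 D52493 (iv7 D59836) F45905
theorem F94256 : act 1 n59836 = n52492 := d15_0 (iv0 D52492) D52494 (iv2 F94252)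
def n59837 : Q := act 5 n28391
theorem D59837 : act 5 n28391 = n59837 := rfl
theorem F94257 : act 3 n59837 = n54077 := d6_1 D59837 F85343 F45911
def n59838 : Q := act 3 n28392
theorem D59838 : act 3 n28392 = n59838 := rfl
theorem F94258 : act 5 n59838 = n48657 := d6_2 (iv5 F45914) D59838 (iv3 D48657)
theorem F94259 : act 7 n59838 = n52374 := d8_2 (iv7 F45913) D59838 F82741
def n59839 : Q := act 6 n28392
theorem D59839 : act 6 n28392 = n59839 := rfl
theorem F94260 : act 2 n59839 = n52365 := d3_1 D59839 (iv6 D52365) (iv2 F45912)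
theorem F94261 : act 4 n59839 = n28393 := d10_1 D59839 (iv6 D28393) D28392
def n59840 : Q := act 0 n28393
theorem D59840 : act 0 n28393 = n59840 := rfl
def n59841 : Q := act 1 n28393
theorem D59841 : act 1 n28393 = n59841 := rfl
theorem F94262 : act 1 n59841 = n52521 := d15_1 D59841 (iv7 D52521) (iv2 F45915)
def n59842 : Q := act 7 n28393
theorem D59842 : act 7 n28393 = n59842 := rfl
theorem F94263 : act 2 n59842 = n52521 := d4_1 D59842 (iv7 D52521) (iv2 F45915)
theorem F94264 : act 6 n59842 = n52509 := d14_1 D59842 (iv7 D52509) (iv6 D25484) (iv7 F22714) D28393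
theorem F94265 : act 1 n52521 = n59840 := d15_0 (iv0 D59840) D59842 F94263
theorem F94266 : act 1 n52520 = n59842 := d15_1 D52520 (iv7 D59842) F45915
theorem F94267 : act 1 n59842 = n52519 := d15_0 (iv0 D52519) D52521 (iv2 F94263)
def n59843 : Q := act 3 n28394
theorem D59843 : act 3 n28394 = n59843 := rfl
theorem F94268 : act 2 n59843 = n52119 := d0_1 D59843 F82386 (iv2 F40014) (iv3 F40317) F45918
theorem F94269 : act 4 n59843 = n59843 := d5_2 (iv4 F45917) D59843 (iv3 D59843) F45917 F37390
theorem F94270 : act 5 n59843 = n43228 := d6_2 (iv5 F45916) D59843 (iv3 D43228)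
theorem F94271 : act 6 n59843 = n49125 := d7_2 (iv6 F45919) D59843 F77573
theorem F94272 : act 7 n59843 = n52119 := d8_2 (iv7 F45920) D59843 F82386
theorem F94273 : act 0 n59843 = n49097 := d19_4 D11229 (iv5 F37386) (iv4 F45917) D59843 (iv5 F77506) (iv4 D42197) D42196 F68208 F68205 (iv4 D26855) (iv3 F54076) F54074 D32638 (iv4 F77555) F77553 (iv1 D25581) (iv5 D12162) F8880 (iv3 F7684)
theorem F94274 : act 0 n49097 = n59843 := d20_1 (iv4 F77507) F94269 (iv3 D59843) (iv1 F45921) F31789 (iv4 F14661) F14662 D9877 D20786 (iv1 F77510)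
theorem F94275 : act 0 n52625 = n49096 := d21_7 F94270 F68905 F83123 (iv6 D52622) (iv1 D25536) D25539 D52625 (iv5 D49096) D49097 F94274
def n59844 : Q := act 4 n28396
theorem D59844 : act 4 n28396 = n59844 := rfl
theorem F94276 : act 2 n59844 = n28464 := d1_1 D59844 F45987 (iv2 F45929)
theorem F94277 : act 7 n59844 = n28447 := d11_2 (iv7 F45930) D59844 (iv4 D28447)
theorem F94278 : act 5 n59844 = n32189 := d16_1 D59844 (iv4 D32189) (iv5 D15189) (iv4 D7205) (iv5 D3317) (iv4 F4468) D6457 D13571 (iv2 F45929)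
theorem F94279 : act 0 n59844 = n28460 := d18_2 (iv1 F45932) D59844 (iv4 F51091) F51089 (iv4 F50816) F41178 F41173 F41182 F50824
def n59845 : Q := act 6 n28396
theorem D59845 : act 6 n28396 = n59845 := rfl
theorem F94281 : act 2 n59845 = n28468 := d3_1 D59845 (iv6 D28468) (iv2 F45929)
def n59846 : Q := act 5 n28397
theorem D59846 : act 5 n28397 = n59846 := rfl
theorem F94282 : act 2 n59846 = n28471 := d2_1 D59846 (iv5 D28471) (iv2 F45933)
theorem F94283 : act 7 n59846 = n28504 := d13_2 (iv7 F45935) D59846 (iv5 D28504)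
theorem F94284 : act 0 n59846 = n28670 := d17_2 F45937 D59846 (iv5 F79155) F79154 (iv5 F86062) F86060 (iv5 D28595) (iv0 F50832) (iv4 F42093)
theorem F94285 : act 1 n59846 = n28669 := d17_6 (iv1 F54105) F50773 (iv1 F50694) (iv5 D32066) (iv4 F45934) D59846 F55769 (iv0 D35097) F27936
def n59847 : Q := act 4 n28402
theorem D59847 : act 4 n28402 = n59847 := rfl
theorem F94286 : act 2 n59847 = n28416 := d1_1 D59847 (iv4 D28416) (iv2 F45945)
theorem F94287 : act 7 n59847 = n28431 := d11_2 (iv7 F45946) D59847 (iv4 D28431)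
theorem F94288 : act 0 n59847 = n34385 := d18_2 (iv1 F54307) D59847 (iv4 D34385) (iv5 D16666) F12056 D15294 (iv4 F54264) F41189 D31555
def n59848 : Q := act 6 n28402
theorem D59848 : act 6 n28402 = n59848 := rfl
theorem F94289 : act 2 n59848 = n28417 := d3_1 D59848 (iv6 D28417) (iv2 F45945)
def n59849 : Q := act 5 n28404
theorem D59849 : act 5 n28404 = n59849 := rfl
theorem F94290 : act 2 n59849 = n31635 := d2_1 D59849 F50448 (iv2 F50394)
theorem F94291 : act 0 n59849 = n28450 := d17_2 (iv1 F83044) D59849 (iv5 F84929) F84932 (iv5 F83073) (iv0 D52561) (iv5 D25517) (iv0 F54330) (iv4 F83043)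
theorem F94292 : act 4 n59849 = n54155 := d18_5 (iv1 F20689) D12424 (iv1 F41564) (iv4 F50395) D59849 F85487 (iv4 D26206) F41534 (iv5 D26178)
def n59850 : Q := act 1 n28406
theorem D59850 : act 1 n28406 = n59850 := rfl
def n59851 : Q := act 4 n28406
theorem D59851 : act 4 n28406 = n59851 := rfl
theorem F94293 : act 0 n59851 = n31975 := d20_7 (iv4 F11268) D14667 F24351 (iv3 F24518) (iv1 F50766) (iv3 F45948) D59851 (iv4 D31975) (iv3 D15084) (iv1 F11502)
theorem F94294 : act 5 n59850 = n53965 := d18_9 (iv1 F85130) F82790 (iv1 D52444) F40237 (iv5 F24705) D31975 (iv0 F94293) (iv4 D59851) D59850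
theorem F94295 : act 2 n31843 = n59850 := d2_3 F94294 (iv2 D53965) (iv5 F50613)
theorem F94296 : act 4 n54119 = n59850 := d18_3 (iv1 F41572) D26195 (iv1 F85435) F94294 F85127 (iv0 F82862) (iv4 D31522) F26735 D17416
def n59852 : Q := act 6 n28406
theorem D59852 : act 6 n28406 = n59852 := rfl
theorem F94297 : act 3 n59852 = n28417 := d7_1 D59852 (iv6 D28417) (iv3 F45948)
def n59853 : Q := act 5 n28407
theorem D59853 : act 5 n28407 = n59853 := rfl
theorem F94298 : act 3 n59853 = n28411 := d6_1 D59853 (iv5 D28411) (iv3 F50771)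
theorem F94299 : act 0 n59853 = n31840 := d17_2 (iv1 F50770) D59853 (iv5 F50407) F41283 (iv5 F50400) (iv0 F82881) (iv5 D52496) F40275 D32021
def n59854 : Q := act 5 n28409
theorem D59854 : act 5 n28409 = n59854 := rfl
theorem F94300 : act 2 n59854 = n31802 := d2_1 D59854 F50105 F45952
theorem F94301 : act 0 n59854 = n32179 := d17_2 D28409 D59854 F54266 (iv4 F54264) F50886 F45931 (iv5 D28396) (iv0 D13553) D13556
theorem F94302 : act 1 n59854 = n32174 := d17_6 D16664 F50823 F50954 (iv5 D32012) (iv4 F45951) D59854 F51134 (iv0 D15293) (iv4 F12056)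
def n59855 : Q := act 4 n28411
theorem D59855 : act 4 n28411 = n59855 := rfl
theorem F94303 : act 5 n59855 = n32187 := d17_5 F84954 F84952 F41306 D28411 D59855 (iv0 D32187) (iv5 D15189) D15187 D32179
theorem F94304 : act 0 n59855 = n32092 := d18_2 (iv1 F50772) D59855 (iv4 D32092) F50753 (iv4 F41185) F41188 D31547 (iv0 F49886) D31794
theorem F94305 : act 1 n59855 = n31983 := d18_6 (iv1 D3315) (iv4 F4468) D6454 D13556 D28411 D59855 (iv4 D31983) (iv0 F50760) (iv5 D7198)
def n59856 : Q := act 6 n28411
theorem D59856 : act 6 n28411 = n59856 := rfl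
theorem F94306 : act 5 n59856 = n28417 := d12_1 D59856 (iv6 D28417) (iv5 D13557) (iv6 F50767) D28411
def n59857 : Q := act 4 n28414
theorem D59857 : act 4 n28414 = n59857 := rfl
theorem F94307 : act 2 n59857 = n31856 := d1_1 D59857 (iv4 D31856) (iv2 F50762)
theorem F94308 : act 0 n59857 = n32114 := d17_0 F81305 F81304 (iv5 D28462) (iv4 D13569) (iv5 D6457) D6455 D13562 F45962 D59857
theorem F94309 : act 1 n59857 = n32089 := d18_6 (iv1 F45909) F50814 F50809 (iv4 F41185) (iv5 F50764) D59857 (iv4 D32089) D32088 F51020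
def n59858 : Q := act 6 n28414
theorem D59858 : act 6 n28414 = n59858 := rfl
theorem F94310 : act 2 n59858 = n31857 := d3_1 D59858 (iv6 D31857) (iv2 F50762)
def n59859 : Q := act 0 n28416
theorem D59859 : act 0 n28416 = n59859 := rfl
theorem F94311 : act 4 n59859 = n32032 := d18_3 (iv1 F50766) D28416 D59859 F50661 F27138 (iv0 F49885) (iv4 D31547) (iv0 D14858) D14861
theorem F94312 : act 2 n34385 = n59859 := d1_3 F94311 F50660 D34385
theorem F94313 : act 1 n28431 = n59859 := d18_6 (iv1 F26978) (iv4 F45951) (iv1 F45958) (iv4 D13561) D13562 D28431 F94311 F50749 (iv5 D15137)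
def n59860 : Q := act 1 n28416
theorem D59860 : act 1 n28416 = n59860 := rfl
theorem F94314 : act 1 n59860 = n28431 := d15_1 D59860 (iv7 F94287) F94286
theorem F94315 : act 7 n59860 = n34385 := d15_2 (iv0 D59859) D59860 F94312
theorem F94316 : act 4 n59860 = n32001 := d18_7 (iv1 F26798) (iv4 F41303) F41306 (iv4 D13556) D13557 D28416 D59860 F51029 F51028
def n59861 : Q := act 3 n28416
theorem D59861 : act 3 n28416 = n59861 := rfl
theorem F94317 : act 0 n59861 = n51569 := d19_4 D6454 D13557 D28416 D59861 (iv5 D51569) F39312 (iv3 D11909) (iv1 F19074) F19072 (iv4 D7122) (iv3 F11433) F11434 (iv5 D6442) (iv4 D2858) (iv3 D1300) (iv1 D754) D755 D1306 D2875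
theorem F94318 : act 5 n51701 = n59861 := d17_1 (iv1 F81638) F94317 (iv5 D51569) F39312 (iv5 F19698) D25146 F81782 F39488 (iv4 F80035)
def n59862 : Q := act 5 n28416
theorem D59862 : act 5 n28416 = n59862 := rfl
theorem F94319 : act 3 n59862 = n51701 := d6_1 D59862 F94318 (iv3 D59861)
theorem F94320 : act 4 n32188 = n59862 := d5_0 F94319 (iv4 F81634) (iv3 D50760) D50761 F81307
def n59863 : Q := act 6 n28416
theorem D59863 : act 6 n28416 = n59863 := rfl
theorem F94321 : act 4 n59863 = n28417 := d10_1 D59863 (iv6 D28417) D28416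
def n59864 : Q := act 7 n28416
theorem D59864 : act 7 n28416 = n59864 := rfl
theorem F94322 : act 2 n59864 = n28431 := d4_1 D59864 (iv7 F94287) F94286
theorem F94323 : act 4 n59864 = n28418 := d11_1 D59864 (iv7 D28418) D28416
theorem F94324 : act 0 n34385 = n59864 := d18_2 F50746 D34385 F94323 F45961 (iv4 F45957) F54313 F26587 (iv0 D15140) D15143
def n59865 : Q := act 0 n28417
theorem D59865 : act 0 n28417 = n59865 := rfl
def n59866 : Q := act 1 n28417
theorem D59866 : act 1 n28417 = n59866 := rfl
def n59867 : Q := act 7 n28417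
theorem D59867 : act 7 n28417 = n59867 := rfl
def n59868 : Q := act 6 n28418
theorem D59868 : act 6 n28418 = n59868 := rfl
theorem F94325 : act 2 n59868 = n28432 := d3_1 D59868 (iv6 D28432) (iv2 F45960)
def n59869 : Q := act 5 n28424
theorem D59869 : act 5 n28424 = n59869 := rfl
theorem F94326 : act 2 n59869 = n31799 := d2_1 D59869 F50103 F45965
theorem F94327 : act 1 n59869 = n28455 := d17_6 (iv1 F55211) (iv5 F76641) F85334 (iv5 D54075) (iv4 F45964) D59869 (iv5 F55361) F55358 (iv4 F55208)
theorem F94328 : act 4 n59869 = n54236 := d18_5 (iv1 D12408) D12410 D26161 (iv4 F45964) D59869 (iv0 D54236) (iv4 D26229) (iv0 F50513) (iv5 D26156)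
def n59870 : Q := act 5 n28425
theorem D59870 : act 5 n28425 = n59870 := rfl
theorem F94329 : act 2 n59870 = n28427 := d2_1 D59870 (iv5 D28427) D28425
theorem F94330 : act 7 n59870 = n34974 := d13_2 F77036 D59870 (iv5 F77037)
theorem F94331 : act 0 n59870 = n31885 := d17_2 (iv1 F54333) D59870 F50186 (iv4 F55208) F55209 F85323 (iv5 D54072) F41486 D31942
theorem F94332 : act 0 n34964 = n59870 := d21_1 D34964 (iv5 D59870) (iv6 F54202) (iv1 D29703) (iv6 D14108) D14107 D29698 (iv5 F54288) F55360 (iv1 D34963)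
def n59871 : Q := act 5 n28426
theorem D59871 : act 5 n28426 = n59871 := rfl
def n59872 : Q := act 6 n28426
theorem D59872 : act 6 n28426 = n59872 := rfl
theorem F94333 : act 2 n59872 = n46135 := d3_1 D59872 F77500 F77497
theorem F94334 : act 3 n59872 = n46136 := d7_1 D59872 F77067 F77063
theorem F94335 : act 4 n59872 = n28428 := d10_1 D59872 (iv6 D28428) D28426
theorem F94336 : act 7 n59872 = n46136 := d14_2 (iv7 F77061) D59872 F77067 (iv7 D48893) F77060
theorem F94337 : act 5 n43351 = n59872 := d21_2 F35032 (iv1 F68069) (iv6 D59872) F45967 F41340 D15919 (iv1 F52179) F52180 (iv6 F54156) (iv1 F51636)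
theorem F94338 : act 0 n59872 = n41563 := d17_2 (iv1 F68069) F94337 (iv5 D41563) F31336 D19584 F60114 F60112 F34692 (iv4 F35031)
theorem F94339 : act 1 n59872 = n33124 := d17_8 F52345 (iv5 F55635) (iv1 F55637) (iv5 D17011) D17010 (iv5 F32533) D43351 F94337 F52353
def n59873 : Q := act 0 n28427
theorem D59873 : act 0 n28427 = n59873 := rfl
theorem F94340 : act 5 n59873 = n34965 := d17_3 F45944 D28427 D59873 F55367 (iv5 F85343) (iv0 D54077) (iv5 D26163) D26162 (iv4 F41503)
theorem F94341 : act 4 n59873 = n54084 := d18_1 D59873 (iv1 F85358) (iv4 D31940) (iv5 D15070) D15069 F41496 (iv4 F45964) (iv0 D28424) D28427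
theorem F94342 : act 2 n31885 = n59873 := d15_3 (iv0 D59873) (iv0 F54351) (iv7 F50187)
theorem F94343 : act 1 n34974 = n59873 := d15_0 (iv0 D59873) (iv7 F77070) F77068
theorem F94344 : act 7 n59873 = n34964 := d15_2 D34974 F94343 F55362
def n59874 : Q := act 4 n28427
theorem D59874 : act 4 n28427 = n59874 := rfl
theorem F94345 : act 0 n59874 = n31960 := d18_2 F54351 D59874 (iv4 D31960) (iv5 F50553) D48884 (iv0 F77009) (iv4 D34967) (iv0 D16970) D16972
theorem F94346 : act 1 n59874 = n31956 := d18_6 D7166 D15061 F45968 (iv4 D28426) D28427 D59874 (iv4 D31956) (iv0 D15076) (iv5 D7170)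
def n59875 : Q := act 6 n28427
theorem D59875 : act 6 n28427 = n59875 := rfl
theorem F94347 : act 3 n59875 = n28432 := d7_1 D59875 (iv6 D28432) (iv3 F45969)
def n59876 : Q := act 4 n28429
theorem D59876 : act 4 n28429 = n59876 := rfl
theorem F94348 : act 5 n59876 = n32188 := d16_1 D59876 F94320 (iv5 D59862) (iv4 D28416) (iv5 D13557) D13556 D28411 (iv7 F54323) F54322
theorem F94349 : act 0 n59876 = n31983 := d18_2 F51440 D59876 (iv4 D31983) F24708 F20501 D14859 D31552 F50151 D32386
theorem F94350 : act 1 n59876 = n32092 := d18_6 D7189 (iv4 F22723) (iv1 F22725) D13561 D28429 D59876 (iv4 D32092) (iv0 D15146) (iv5 D7193)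
def n59877 : Q := act 6 n28429
theorem D59877 : act 6 n28429 = n59877 := rfl
def n59878 : Q := act 3 n28431
theorem D59878 : act 3 n28431 = n59878 := rfl
def n59879 : Q := act 5 n28431
theorem D59879 : act 5 n28431 = n59879 := rfl
theorem F94351 : act 4 n59879 = n32187 := d9_1 D59879 (iv5 F94303) (iv4 D59855) (iv5 D28411) (iv4 D13556) D13557 D28416 D59862 (iv4 F94320) (iv5 F94348) (iv4 D59876) (iv5 D28429) (iv4 D13561) D13562 D28431
def n59880 : Q := act 6 n28431
theorem D59880 : act 6 n28431 = n59880 := rfl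
theorem F94352 : act 4 n59880 = n28432 := d10_1 D59880 (iv6 D28432) D28431
def n59881 : Q := act 0 n28432
theorem D59881 : act 0 n28432 = n59881 := rfl
def n59882 : Q := act 1 n28432
theorem D59882 : act 1 n28432 = n59882 := rfl
def n59883 : Q := act 5 n28432
theorem D59883 : act 5 n28432 = n59883 := rfl
theorem F94353 : act 6 n59883 = n28435 := d12_2 D28432 D59883 (iv5 D28435) (iv6 D13563) D13562
def n59884 : Q := act 7 n28432
theorem D59884 : act 7 n28432 = n59884 := rfl
def n59885 : Q := act 4 n28445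
theorem D59885 : act 4 n28445 = n59885 := rfl
theorem F94354 : act 2 n59885 = n28451 := d1_1 D59885 (iv4 D28451) (iv2 F55523)
theorem F94355 : act 7 n59885 = n28456 := d11_2 (iv7 F55524) D59885 (iv4 D28456)
def n59886 : Q := act 6 n28445
theorem D59886 : act 6 n28445 = n59886 := rfl
theorem F94356 : act 2 n59886 = n28453 := d3_1 D59886 (iv6 D28453) (iv2 F55523)
def n59887 : Q := act 4 n28446
theorem D59887 : act 4 n28446 = n59887 := rfl
theorem F94357 : act 2 n59887 = n28456 := d1_1 D59887 (iv4 D28456) (iv2 F55525)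
theorem F94358 : act 7 n59887 = n28451 := d11_2 (iv7 F55526) D59887 (iv4 D28451)
def n59888 : Q := act 6 n28446
theorem D59888 : act 6 n28446 = n59888 := rfl
theorem F94359 : act 2 n59888 = n28458 := d3_1 D59888 (iv6 D28458) (iv2 F55525)
theorem F94360 : act 5 n59888 = n50018 := d12_1 D59888 (iv6 D50018) (iv5 D24389) F50948 F50947
def n59889 : Q := act 1 n28447
theorem D59889 : act 1 n28447 = n59889 := rfl
theorem F94361 : act 1 n59889 = n28464 := d15_1 D59889 (iv7 D28464) (iv2 F45979)
theorem F94362 : act 7 n59889 = n28459 := d15_2 F51116 D59889 (iv2 F51113)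
theorem F94363 : act 4 n59889 = n34384 := d18_7 F26977 F24758 F24781 (iv4 F10524) D13566 D28447 D59889 F54555 (iv5 D32012)
theorem F94364 : act 2 n28460 = n59889 := d1_3 F94363 F54552 F51091
def n59890 : Q := act 3 n28447
theorem D59890 : act 3 n28447 = n59890 := rfl
def n59891 : Q := act 5 n28447
theorem D59891 : act 5 n28447 = n59891 := rfl
theorem F94365 : act 2 n59891 = n28462 := d2_1 D59891 (iv5 D28462) (iv2 F45979)
theorem F94366 : act 7 n59891 = n32189 := d13_2 F94277 D59891 (iv5 F94278)
theorem F94367 : act 4 n59891 = n32191 := d16_2 D28447 D59891 F51140 F24811 F11529 (iv4 F10528) (iv5 F22734) (iv7 D13571) (iv2 F22730)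
theorem F94368 : act 0 n59891 = n34030 := d17_2 (iv1 D59889) D59891 F53381 (iv4 D32079) (iv5 D15137) (iv0 F26797) D31893 (iv0 F54556) (iv4 F94363)
def n59892 : Q := act 6 n28447
theorem D59892 : act 6 n28447 = n59892 := rfl
theorem F94369 : act 2 n59892 = n28463 := d3_1 D59892 (iv6 D28463) (iv2 F45979)
theorem F94370 : act 4 n59892 = n28448 := d10_1 D59892 (iv6 D28448) D28447
def n59893 : Q := act 0 n28448
theorem D59893 : act 0 n28448 = n59893 := rfl
def n59894 : Q := act 1 n28448
theorem D59894 : act 1 n28448 = n59894 := rfl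
theorem F94371 : act 1 n59894 = n28467 := d15_1 D59894 (iv7 D28467) (iv2 F45980)
def n59895 : Q := act 7 n28448
theorem D59895 : act 7 n28448 = n59895 := rfl
theorem F94372 : act 2 n59895 = n28467 := d4_1 D59895 (iv7 D28467) (iv2 F45980)
theorem F94373 : act 5 n59895 = n28611 := d13_1 D59895 (iv7 D28611) (iv5 F45981)
theorem F94374 : act 1 n28467 = n59893 := d15_0 (iv0 D59893) D59895 F94372
theorem F94375 : act 1 n28466 = n59895 := d15_1 D28466 (iv7 D59895) F45980
theorem F94376 : act 1 n59895 = n28465 := d15_0 (iv0 D28465) D28467 (iv2 F94372)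
def n59896 : Q := act 6 n28450
theorem D59896 : act 6 n28450 = n59896 := rfl
theorem F94377 : act 3 n59896 = n28453 := d7_1 D59896 (iv6 D28453) D28450
def n59897 : Q := act 0 n28451
theorem D59897 : act 0 n28451 = n59897 := rfl
theorem F94378 : act 4 n59897 = n32012 := d18_3 D13567 D28451 D59897 (iv5 D32012) (iv4 F45951) (iv0 D28409) (iv4 D13556) (iv0 D6454) D6457
theorem F94379 : act 1 n28456 = n59897 := d15_0 (iv0 D59897) (iv7 F94358) F94357
def n59898 : Q := act 1 n28451
theorem D59898 : act 1 n28451 = n59898 := rfl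
theorem F94380 : act 1 n59898 = n28456 := d15_1 D59898 (iv7 F94355) F94354
theorem F94381 : act 4 n59898 = n31893 := d18_7 (iv1 D16665) F12056 D15293 F41183 F50824 D28451 D59898 (iv0 F54556) (iv5 D34384)
def n59899 : Q := act 3 n28451
theorem D59899 : act 3 n28451 = n59899 := rfl
theorem F94382 : act 0 n59899 = n51703 := d19_4 D26050 F50824 D28451 D59899 (iv5 D51703) F39477 (iv3 D11933) (iv1 F9877) F9875 (iv4 D2740) (iv3 F4317) D6373 F11428 F11426 (iv3 F8453) F8038 (iv5 F8033) (iv4 F9071) D12346
def n59900 : Q := act 5 n28451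
theorem D59900 : act 5 n28451 = n59900 := rfl
theorem F94383 : act 4 n59900 = n32180 := d16_2 D28451 D59900 (iv5 D32180) D32179 F54266 (iv4 F54264) F50886 (iv7 F55524) F55523
def n59901 : Q := act 6 n28451
theorem D59901 : act 6 n28451 = n59901 := rfl
theorem F94384 : act 4 n59901 = n28453 := d10_1 D59901 (iv6 D28453) D28451
def n59902 : Q := act 0 n28453
theorem D59902 : act 0 n28453 = n59902 := rfl
def n59903 : Q := act 1 n28453
theorem D59903 : act 1 n28453 = n59903 := rfl
def n59904 : Q := act 5 n28453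
theorem D59904 : act 5 n28453 = n59904 := rfl
theorem F94385 : act 6 n59904 = n32928 := d12_2 D28453 D59904 F84940 (iv6 D53876) F50824
def n59905 : Q := act 7 n28453
theorem D59905 : act 7 n28453 = n59905 := rfl
def n59906 : Q := act 4 n28455
theorem D59906 : act 4 n28455 = n59906 := rfl
theorem F94386 : act 0 n59906 = n31936 := d18_2 F84944 D59906 (iv4 D31936) (iv5 D15067) D15066 (iv0 F45967) (iv4 D28426) (iv0 F45944) (iv5 F84942)
theorem F94387 : act 1 n59906 = n31930 := d18_6 D13533 D28365 D59810 F94186 F55361 D59906 (iv4 D31930) (iv0 F50537) F11532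
def n59907 : Q := act 6 n28455
theorem D59907 : act 6 n28455 = n59907 := rfl
theorem F94388 : act 3 n59907 = n28458 := d7_1 D59907 (iv6 D28458) D28455
def n59908 : Q := act 3 n28456
theorem D59908 : act 3 n28456 = n59908 := rfl
def n59909 : Q := act 5 n28456
theorem D59909 : act 5 n28456 = n59909 := rfl
theorem F94389 : act 4 n59909 = n32175 := d9_1 D59909 (iv5 D32175) D32174 F51134 F41183 F50824 D28451 D59900 F94383 (iv5 D32180) D32179 F54266 (iv4 F54264) F50886 D28456
def n59910 : Q := act 6 n28456
theorem D59910 : act 6 n28456 = n59910 := rfl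
theorem F94390 : act 4 n59910 = n28458 := d10_1 D59910 (iv6 D28458) D28456
def n59911 : Q := act 0 n28458
theorem D59911 : act 0 n28458 = n59911 := rfl
def n59912 : Q := act 1 n28458
theorem D59912 : act 1 n28458 = n59912 := rfl
def n59913 : Q := act 5 n28458
theorem D59913 : act 5 n28458 = n59913 := rfl
theorem F94391 : act 2 n59913 = n50018 := d2_1 D59913 (iv5 F94360) F94359
theorem F94392 : act 6 n59913 = n50012 := d12_2 D28458 D59913 (iv5 D50012) (iv6 F55513) F50886
def n59914 : Q := act 7 n28458
theorem D59914 : act 7 n28458 = n59914 := rfl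
def n59915 : Q := act 3 n28459
theorem D59915 : act 3 n28459 = n59915 := rfl
def n59916 : Q := act 5 n28459
theorem D59916 : act 5 n28459 = n59916 := rfl
theorem F94393 : act 2 n59916 = n51550 := d2_1 D59916 (iv5 F81344) F51113
theorem F94394 : act 4 n59916 = n32166 := d9_1 D59916 (iv5 D32166) (iv4 D15183) F50818 F50816 (iv5 F51089) F51091 F79906 F79905 (iv5 D32156) (iv4 D15178) F50821 D31529 (iv5 F51109) (iv4 F51112)
def n59917 : Q := act 6 n28459
theorem D59917 : act 6 n28459 = n59917 := rfl
def n59918 : Q := act 6 n28460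
theorem D59918 : act 6 n28460 = n59918 := rfl
def n59919 : Q := act 0 n28461
theorem D59919 : act 0 n28461 = n59919 := rfl
def n59920 : Q := act 1 n28461
theorem D59920 : act 1 n28461 = n59920 := rfl
theorem F94395 : act 4 n31262 = n59920 := d20_6 F11252 (iv1 F9175) F9172 (iv3 F11277) D14751 D31262 (iv1 D59920) F45985 (iv3 D13573) F11254
def n59921 : Q := act 2 n28461
theorem D59921 : act 2 n28461 = n59921 := rfl
theorem F94396 : act 4 n59921 = n28474 := d1_2 (iv4 F45985) D59921 (iv2 D28474)
def n59922 : Q := act 5 n28461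
theorem D59922 : act 5 n28461 = n59922 := rfl
theorem F94397 : act 3 n59922 = n28462 := d6_1 D59922 (iv5 D28462) D28461
def n59923 : Q := act 6 n28461
theorem D59923 : act 6 n28461 = n59923 := rfl
theorem F94398 : act 3 n59923 = n28463 := d7_1 D59923 (iv6 D28463) D28461
theorem F94399 : act 4 n59923 = n28475 := d10_1 D59923 (iv6 D28475) (iv4 F45985)
def n59924 : Q := act 0 n28462
theorem D59924 : act 0 n28462 = n59924 := rfl
theorem F94400 : act 5 n59924 = n32089 := d17_3 (iv1 D28460) D28462 D59924 (iv4 D32089) (iv5 D15143) D15141 D32086 F51093 F51091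
theorem F94401 : act 2 n34030 = n59924 := d15_3 (iv0 D59924) (iv0 F81304) F81303
theorem F94402 : act 4 n59924 = n32118 := d1_2 F93189 F94401 F93193
theorem F94403 : act 1 n32189 = n59924 := d17_6 (iv1 F50766) (iv5 D13557) D13553 D28396 D59844 F94278 F94400 F51024 (iv4 D31558)
def n59925 : Q := act 4 n28462
theorem D59925 : act 4 n28462 = n59925 := rfl
theorem F94404 : act 2 n59925 = n32191 := d1_1 D59925 (iv4 F94367) F94365
theorem F94405 : act 5 n59925 = n32064 := d9_2 D28462 D59925 (iv4 D32064) (iv5 D15126) (iv4 F22723) D28396 D59844 F94278 (iv4 D32189) (iv5 D15189) (iv4 D7205) (iv5 D3317) (iv4 F4468) D6457 D13569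
theorem F94406 : act 0 n59925 = n32188 := d18_2 F81304 D59925 F94320 (iv5 D59862) (iv4 D28416) F50766 D31558 (iv0 F51065) F81305
theorem F94407 : act 1 n59925 = n32187 := d18_8 F94304 (iv4 D32092) (iv1 F24763) D15164 D32118 (iv4 F94402) (iv0 D59924) D59925 (iv5 F94303)
theorem F94408 : act 7 n59925 = n32145 := d15_2 D32188 (iv0 F94406) F51100
def n59926 : Q := act 6 n28462
theorem D59926 : act 6 n28462 = n59926 := rfl
def n59927 : Q := act 7 n28462
theorem D59927 : act 7 n28462 = n59927 := rfl
theorem F94409 : act 2 n59927 = n32189 := d4_1 D59927 (iv7 F94366) F94365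
theorem F94410 : act 4 n59927 = n32145 := d11_1 D59927 (iv7 F94408) (iv4 D59925)
theorem F94411 : act 5 n59927 = n28464 := d13_1 D59927 (iv7 D28464) D28462
theorem F94412 : act 0 n34030 = n59927 := d19_0 F94411 F45987 F22733 (iv1 F10531) (iv5 D3276) (iv4 D1449) (iv3 F2566) D3257 (iv5 F10399) F10398 F5046 F3901 (iv5 D1251) F4964 D2226 F22438 D7646 D16485 D34030
def n59928 : Q := act 0 n28463
theorem D59928 : act 0 n28463 = n59928 := rfl
def n59929 : Q := act 1 n28463
theorem D59929 : act 1 n28463 = n59929 := rfl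
def n59930 : Q := act 5 n28463
theorem D59930 : act 5 n28463 = n59930 := rfl
def n59931 : Q := act 7 n28463
theorem D59931 : act 7 n28463 = n59931 := rfl
theorem F94413 : act 4 n59931 = n28467 := d11_1 D59931 (iv7 D28467) (iv4 F45986)
def n59932 : Q := act 6 n28464
theorem D59932 : act 6 n28464 = n59932 := rfl
theorem F94414 : act 4 n59932 = n28468 := d10_1 D59932 (iv6 D28468) (iv4 F45987)
def n59933 : Q := act 2 n28465
theorem D59933 : act 2 n28465 = n59933 := rfl
theorem F94415 : act 7 n28466 = n59933 := d15_2 (iv0 D28465) D28466 (iv2 D59933)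
def n59934 : Q := act 3 n28465
theorem D59934 : act 3 n28465 = n59934 := rfl
def n59935 : Q := act 4 n28465
theorem D59935 : act 4 n28465 = n59935 := rfl
def n59936 : Q := act 5 n28465
theorem D59936 : act 5 n28465 = n59936 := rfl
def n59937 : Q := act 6 n28465
theorem D59937 : act 6 n28465 = n59937 := rfl
def n59938 : Q := act 7 n28465
theorem D59938 : act 7 n28465 = n59938 := rfl
theorem F94416 : act 2 n59938 = n28466 := d4_1 D59938 F94415 (iv2 D59933)
def n59939 : Q := act 3 n28466
theorem D59939 : act 3 n28466 = n59939 := rfl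
def n59940 : Q := act 4 n28466
theorem D59940 : act 4 n28466 = n59940 := rfl
def n59941 : Q := act 5 n28466
theorem D59941 : act 5 n28466 = n59941 := rfl
def n59942 : Q := act 6 n28466
theorem D59942 : act 6 n28466 = n59942 := rfl
def n59943 : Q := act 6 n28467
theorem D59943 : act 6 n28467 = n59943 := rfl
theorem F94417 : act 3 n59943 = n28484 := d7_1 D59943 (iv6 D28484) (iv3 F45988)
theorem F94418 : act 7 n59943 = n28468 := d14_2 D28467 D59943 (iv6 D28468) (iv7 D13571) D13570
def n59944 : Q := act 0 n28468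
theorem D59944 : act 0 n28468 = n59944 := rfl
def n59945 : Q := act 1 n28468
theorem D59945 : act 1 n28468 = n59945 := rfl
def n59946 : Q := act 5 n28468
theorem D59946 : act 5 n28468 = n59946 := rfl
theorem F94419 : act 3 n59946 = n28487 := d6_1 D59946 (iv5 D28487) (iv3 F45990)
theorem F94420 : act 6 n59946 = n28471 := d12_2 D28468 D59946 (iv5 D28471) (iv6 D13572) (iv5 F22734)
def n59947 : Q := act 5 n28469
theorem D59947 : act 5 n28469 = n59947 := rfl
theorem F94421 : act 2 n59947 = n28578 := d2_1 D59947 (iv5 D28578) (iv2 F50869)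
theorem F94422 : act 7 n59947 = n28662 := d13_2 (iv7 F50872) D59947 (iv5 D28662)
theorem F94423 : act 1 n59947 = n32875 := d17_6 F54147 (iv5 F25333) (iv1 F54146) (iv5 D28562) (iv4 F50870) D59947 F52047 D35098 F79154
def n59948 : Q := act 5 n28470
theorem D59948 : act 5 n28470 = n59948 := rfl
theorem F94424 : act 2 n59948 = n28662 := d2_1 D59948 (iv5 D28662) (iv2 F50866)
theorem F94425 : act 3 n59948 = n32915 := d6_1 D59948 (iv5 D32915) (iv3 F45996)
theorem F94426 : act 7 n59948 = n28578 := d13_2 (iv7 F50868) D59948 (iv5 D28578)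
theorem F94427 : act 0 n59948 = n32875 := d17_2 (iv1 F45993) D59948 F52047 F27936 D32648 F54207 (iv5 D32212) F24816 (iv4 F22772)
def n59949 : Q := act 0 n28471
theorem D59949 : act 0 n28471 = n59949 := rfl
theorem F94428 : act 5 n59949 = n32394 := d17_3 (iv1 D28470) D28471 D59949 (iv4 F84937) (iv5 F84940) (iv0 D32928) (iv5 D15859) F50863 (iv4 F50867)
theorem F94429 : act 1 n28504 = n59949 := d15_0 (iv0 D59949) F45998 (iv2 F46057)
theorem F94430 : act 2 n28670 = n59949 := d2_3 F94428 (iv2 F79151) F79155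
theorem F94431 : act 7 n28669 = n59949 := d13_0 F94428 F55768 (iv5 F55769)
def n59950 : Q := act 1 n28471
theorem D59950 : act 1 n28471 = n59950 := rfl
theorem F94432 : act 1 n59950 = n28504 := d15_1 D59950 (iv7 F94283) F94282
theorem F94433 : act 7 n59950 = n28670 := d15_2 (iv0 D59949) D59950 F94430
theorem F94434 : act 5 n59950 = n50020 := d17_7 F54199 F51159 (iv1 D32214) (iv5 D15198) (iv4 F22736) D28471 D59950 (iv0 F79144) F55761
theorem F94435 : act 2 n28669 = n59950 := d2_3 F94434 F79141 (iv5 F55769)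
theorem F94436 : act 3 n32918 = n59950 := d6_3 F94434 F79142 (iv5 F77108)
def n59951 : Q := act 4 n28471
theorem D59951 : act 4 n28471 = n59951 := rfl
theorem F94437 : act 7 n59951 = n28671 := d11_2 (iv7 F45998) D59951 (iv4 D28671)
def n59952 : Q := act 2 n28472
theorem D59952 : act 2 n28472 = n59952 := rfl
theorem F94438 : act 7 n28473 = n59952 := d15_2 (iv0 D28472) D28473 (iv2 D59952)
def n59953 : Q := act 3 n28472
theorem D59953 : act 3 n28472 = n59953 := rfl
theorem F94439 : act 4 n59953 = n53774 := d20_6 F20466 F9104 D6459 D13573 D28472 D59953 (iv1 D53774) (iv4 D26008) F20461 D12329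
def n59954 : Q := act 4 n28472
theorem D59954 : act 4 n28472 = n59954 := rfl
theorem F94440 : act 3 n59954 = n50538 := d5_1 D59954 (iv4 F80449) F84782 (iv4 F94439) (iv3 D59953)
theorem F94441 : act 5 n30747 = n28472 := d19_1 D30747 D59954 F94440 F79911 (iv5 D25113) (iv4 D11931) (iv3 D5598) (iv1 F3681) F3593 F2014 (iv3 F1982) (iv1 F3491) D5184 (iv4 F11484) (iv3 D7163) (iv1 F8386) D5666 (iv4 F11226) D14570
theorem F94442 : act 5 n50537 = n59954 := d6_0 F94440 (iv5 D50538) D50537
def n59955 : Q := act 6 n28472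
theorem D59955 : act 6 n28472 = n59955 := rfl
def n59956 : Q := act 7 n28472
theorem D59956 : act 7 n28472 = n59956 := rfl
theorem F94443 : act 2 n59956 = n28473 := d4_1 D59956 F94438 (iv2 D59952)
def n59957 : Q := act 3 n28473
theorem D59957 : act 3 n28473 = n59957 := rfl
def n59958 : Q := act 4 n28473
theorem D59958 : act 4 n28473 = n59958 := rfl
def n59959 : Q := act 5 n28473
theorem D59959 : act 5 n28473 = n59959 := rfl
def n59960 : Q := act 6 n28473
theorem D59960 : act 6 n28473 = n59960 := rfl
def n59961 : Q := act 6 n28474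
theorem D59961 : act 6 n28474 = n59961 := rfl
theorem F94444 : act 2 n59961 = n28475 := d3_1 D59961 (iv6 D28475) D28474
def n59962 : Q := act 0 n28475
theorem D59962 : act 0 n28475 = n59962 := rfl
def n59963 : Q := act 1 n28475
theorem D59963 : act 1 n28475 = n59963 := rfl
def n59964 : Q := act 5 n28475
theorem D59964 : act 5 n28475 = n59964 := rfl
theorem F94445 : act 3 n59964 = n28477 := d6_1 D59964 (iv5 D28477) (iv3 F45999)
def n59965 : Q := act 7 n28475
theorem D59965 : act 7 n28475 = n59965 := rfl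
theorem F94446 : act 3 n59965 = n28478 := d8_1 D59965 (iv7 D28478) (iv3 F45999)
def n59966 : Q := act 4 n28477
theorem D59966 : act 4 n28477 = n59966 := rfl
theorem F94447 : act 5 n59966 = n35820 := d16_3 (iv4 F22738) D28477 D59966 F56479 F28288 (iv4 F18167) (iv5 F37197) (iv7 D23860) F18145
theorem F94448 : act 0 n59966 = n39836 := d18_2 F53296 D59966 F85621 F85618 (iv4 D28680) D28679 (iv4 F53274) F53273 D33963
theorem F94450 : act 7 n59966 = n35819 := d15_2 (iv0 F60647) (iv0 F94448) F56476
def n59967 : Q := act 7 n28477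
theorem D59967 : act 7 n28477 = n59967 := rfl
theorem F94451 : act 4 n59967 = n35819 := d11_1 D59967 (iv7 F94450) (iv4 D59966)
theorem F94452 : act 5 n59967 = n28478 := d13_1 D59967 (iv7 D28478) D28477
def n59968 : Q := act 0 n28479
theorem D59968 : act 0 n28479 = n59968 := rfl
def n59969 : Q := act 1 n28479
theorem D59969 : act 1 n28479 = n59969 := rfl
def n59970 : Q := act 2 n28479
theorem D59970 : act 2 n28479 = n59970 := rfl
def n59971 : Q := act 4 n28479
theorem D59971 : act 4 n28479 = n59971 := rfl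
def n59972 : Q := act 5 n28479
theorem D59972 : act 5 n28479 = n59972 := rfl
theorem F94455 : act 3 n59972 = n28480 := d6_1 D59972 (iv5 D28480) D28479
theorem F94456 : act 7 n59972 = n34742 := d13_2 F77152 D59972 (iv5 F77151)
def n59973 : Q := act 6 n28479
theorem D59973 : act 6 n28479 = n59973 := rfl
theorem F94457 : act 3 n59973 = n28481 := d7_1 D59973 (iv6 D28481) D28479
def n59974 : Q := act 0 n28481
theorem D59974 : act 0 n28481 = n59974 := rfl
def n59975 : Q := act 1 n28481
theorem D59975 : act 1 n28481 = n59975 := rfl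
theorem F94458 : act 5 n54345 = n59975 := d21_6 (iv5 D15594) (iv1 F20849) (iv5 F41938) (iv6 F85716) (iv1 F85718) D54345 (iv1 D59975) F51999 F57951 (iv1 D32708)
def n59976 : Q := act 7 n28481
theorem D59976 : act 7 n28481 = n59976 := rfl
theorem F94459 : act 5 n59976 = n32670 := d13_1 D59976 F57954 (iv5 F51999)
def n59977 : Q := act 0 n28482
theorem D59977 : act 0 n28482 = n59977 := rfl
def n59978 : Q := act 1 n28482
theorem D59978 : act 1 n28482 = n59978 := rfl
def n59979 : Q := act 2 n28482
theorem D59979 : act 2 n28482 = n59979 := rfl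
def n59980 : Q := act 4 n28482
theorem D59980 : act 4 n28482 = n59980 := rfl
def n59981 : Q := act 6 n28482
theorem D59981 : act 6 n28482 = n59981 := rfl
theorem F94460 : act 3 n59981 = n28483 := d7_1 D59981 (iv6 D28483) D28482
def n59982 : Q := act 0 n28483
theorem D59982 : act 0 n28483 = n59982 := rfl
theorem F94461 : act 5 n59982 = n31878 := d21_0 (iv1 F85181) F85177 F41315 (iv1 F41404) (iv6 F77376) F77374 (iv1 F57692) F43119 D28483 D59982
def n59983 : Q := act 1 n28483
theorem D59983 : act 1 n28483 = n59983 := rfl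
def n59984 : Q := act 7 n28483
theorem D59984 : act 7 n28483 = n59984 := rfl
def n59985 : Q := act 2 n28485
theorem D59985 : act 2 n28485 = n59985 := rfl
theorem F94462 : act 7 n28486 = n59985 := d15_2 (iv0 D28485) D28486 (iv2 D59985)
def n59986 : Q := act 3 n28485
theorem D59986 : act 3 n28485 = n59986 := rfl
def n59987 : Q := act 4 n28485
theorem D59987 : act 4 n28485 = n59987 := rfl
def n59988 : Q := act 5 n28485
theorem D59988 : act 5 n28485 = n59988 := rfl
def n59989 : Q := act 6 n28485
theorem D59989 : act 6 n28485 = n59989 := rfl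
theorem F94463 : act 5 n59989 = n29744 := d21_6 (iv5 D3285) F5183 (iv5 F10530) D13578 D28485 D59989 (iv1 D29744) (iv5 F24638) (iv6 D15000) (iv1 D7136)
def n59990 : Q := act 7 n28485
theorem D59990 : act 7 n28485 = n59990 := rfl
theorem F94464 : act 2 n59990 = n28486 := d4_1 D59990 F94462 (iv2 D59985)
def n59991 : Q := act 3 n28486
theorem D59991 : act 3 n28486 = n59991 := rfl
def n59992 : Q := act 4 n28486
theorem D59992 : act 4 n28486 = n59992 := rfl
def n59993 : Q := act 5 n28486
theorem D59993 : act 5 n28486 = n59993 := rfl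
def n59994 : Q := act 6 n28486
theorem D59994 : act 6 n28486 = n59994 := rfl
def n59995 : Q := act 0 n28487
theorem D59995 : act 0 n28487 = n59995 := rfl
theorem F94465 : act 1 n39590 = n59995 := d15_0 (iv0 D59995) (iv7 F92467) F92465
def n59996 : Q := act 1 n28487
theorem D59996 : act 1 n28487 = n59996 := rfl
theorem F94466 : act 1 n59996 = n39590 := d15_1 D59996 F60466 F55095
def n59997 : Q := act 4 n28487
theorem D59997 : act 4 n28487 = n59997 := rfl
theorem F94467 : act 6 n59997 = n28488 := d10_2 (iv6 F46007) D59997 (iv4 D28488)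
def n59998 : Q := act 3 n28488
theorem D59998 : act 3 n28488 = n59998 := rfl
theorem F94468 : act 5 n59998 = n34837 := d6_2 (iv5 F46009) D59998 (iv3 D34837)
theorem F94469 : act 7 n59998 = n28703 := d8_2 (iv7 F46008) D59998 (iv3 D28703)
def n59999 : Q := act 2 n28489
theorem D59999 : act 2 n28489 = n59999 := rfl
theorem F94470 : act 7 n28490 = n59999 := d15_2 (iv0 D28489) D28490 (iv2 D59999)
def n60000 : Q := act 3 n28489
theorem D60000 : act 3 n28489 = n60000 := rfl
def n60001 : Q := act 4 n28489
theorem D60001 : act 4 n28489 = n60001 := rfl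
def n60002 : Q := act 5 n28489
theorem D60002 : act 5 n28489 = n60002 := rfl
def n60003 : Q := act 6 n28489
theorem D60003 : act 6 n28489 = n60003 := rfl
theorem F94471 : act 5 n60003 = n42125 := d21_6 (iv5 D7876) F5604 D6463 D13580 D28489 D60003 (iv1 D42125) (iv5 F37018) (iv6 D23758) F18058
def n60004 : Q := act 7 n28489
theorem D60004 : act 7 n28489 = n60004 := rfl
theorem F94472 : act 2 n60004 = n28490 := d4_1 D60004 F94470 (iv2 D59999)
def n60005 : Q := act 3 n28490
theorem D60005 : act 3 n28490 = n60005 := rfl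
def n60006 : Q := act 4 n28490
theorem D60006 : act 4 n28490 = n60006 := rfl
def n60007 : Q := act 5 n28490
theorem D60007 : act 5 n28490 = n60007 := rfl
def n60008 : Q := act 6 n28490
theorem D60008 : act 6 n28490 = n60008 := rfl
def n60009 : Q := act 0 n28491
theorem D60009 : act 0 n28491 = n60009 := rfl
def n60010 : Q := act 1 n28491
theorem D60010 : act 1 n28491 = n60010 := rfl
theorem F94473 : act 1 n60010 = n52764 := d15_1 D60010 (iv7 D52764) (iv2 F46013)
theorem F94474 : act 5 n52695 = n60010 := d21_6 (iv5 D12138) (iv1 F8860) D5764 D12159 D25576 D52695 (iv1 D60010) (iv5 D28491) (iv6 D13580) (iv1 F20073)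
def n60011 : Q := act 4 n28491
theorem D60011 : act 4 n28491 = n60011 := rfl
theorem F94475 : act 2 n60011 = n52763 := d1_1 D60011 (iv4 D52763) (iv2 F46013)
theorem F94476 : act 6 n60011 = n28498 := d10_2 (iv6 F46014) D60011 (iv4 D28498)
def n60012 : Q := act 7 n28491
theorem D60012 : act 7 n28491 = n60012 := rfl
theorem F94477 : act 2 n60012 = n52764 := d4_1 D60012 (iv7 D52764) (iv2 F46013)
theorem F94478 : act 5 n60012 = n28492 := d13_1 D60012 (iv7 D28492) D28491
theorem F94479 : act 1 n52764 = n60009 := d15_0 (iv0 D60009) D60012 F94477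
theorem F94480 : act 1 n52762 = n60012 := d15_1 D52762 (iv7 D60012) F46013
theorem E8783 : n52753 = n48723 := (c17_10 (iv1 F76720) (iv5 F82415) (iv1 F82496) (iv5 F83200) F83210 F83353 F94480 F94478 F46019 D52753)
theorem F94481 : act 4 n48723 = n25609 := (sb E8783 (iv4 D52753))
theorem F94482 : act 1 n60012 = n52761 := d15_0 (iv0 D52761) D52764 (iv2 F94477)
def n60013 : Q := act 0 n28493
theorem D60013 : act 0 n28493 = n60013 := rfl
theorem F94483 : act 4 n60013 = n52973 := d20_2 F46021 D60013 (iv3 D52973) (iv1 F40631) D33284 (iv4 F55070) (iv1 F55072) D34831 (iv3 F55090) F55091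
theorem F94484 : act 3 n60013 = n48968 := d20_5 F8900 D11231 (iv4 F22742) D28493 D60013 F77256 F50892 (iv4 F40523) (iv3 D25622) F20181
theorem F94485 : act 6 n60013 = n49127 := d21_5 F54362 (iv1 F77556) (iv5 D49119) (iv6 F46022) D60013 F77980 (iv1 D49320) (iv5 D24071) F18442 D16912
theorem F94486 : act 2 n49131 = n60013 := d15_3 (iv0 D60013) (iv0 F55091) D49131
theorem F94487 : act 1 n49104 = n60013 := d15_0 (iv0 D60013) F46023 (iv2 F77519)
theorem F94488 : act 7 n60013 = n48964 := d15_2 F77523 F94487 F77246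
def n60014 : Q := act 5 n28493
theorem D60014 : act 5 n28493 = n60014 := rfl
theorem F94489 : act 2 n60014 = n49141 := d2_1 D60014 (iv5 D49141) (iv2 F46020)
theorem F94490 : act 3 n60014 = n28494 := d6_1 D60014 (iv5 D28494) D28493
theorem F94491 : act 7 n60014 = n52767 := d13_2 (iv7 F46023) D60014 (iv5 D52767)
def n60015 : Q := act 4 n28494
theorem D60015 : act 4 n28494 = n60015 := rfl
theorem F94492 : act 2 n60015 = n52765 := d1_1 D60015 (iv4 D52765) (iv2 F46024)
theorem F94493 : act 7 n60015 = n52768 := d11_2 (iv7 F46025) D60015 (iv4 D52768)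
theorem F94494 : act 5 n60015 = n52863 := d16_1 D60015 F83511 F46036 F27798 F12661 F22749 D28495 F46028 (iv2 F46024)
def n60016 : Q := act 6 n28494
theorem D60016 : act 6 n28494 = n60016 := rfl
theorem F94495 : act 2 n60016 = n52766 := d3_1 D60016 (iv6 D52766) (iv2 F46024)
theorem F94496 : act 5 n60016 = n52706 := d12_1 D60016 (iv6 D52706) F40471 F27667 D28494
def n60017 : Q := act 4 n28495
theorem D60017 : act 4 n28495 = n60017 := rfl
theorem F94497 : act 2 n60017 = n52768 := d1_1 D60017 (iv4 D52768) (iv2 F46027)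
theorem F94498 : act 5 n60017 = n52862 := d9_2 D28495 D60017 F83507 F46030 (iv4 D28363) (iv5 F22682) (iv4 F22742) D28494 D60015 F94494 F83511 F46036 F27798 F12661 F22749
theorem F94499 : act 7 n60017 = n52765 := d11_2 (iv7 F46028) D60017 (iv4 D52765)
def n60018 : Q := act 6 n28495
theorem D60018 : act 6 n28495 = n60018 := rfl
theorem F94500 : act 2 n60018 = n52769 := d3_1 D60018 (iv6 D52769) (iv2 F46027)
def n60019 : Q := act 3 n28496
theorem D60019 : act 3 n28496 = n60019 := rfl
theorem F94501 : act 5 n60019 = n59809 := d6_2 (iv5 F46030) D60019 (iv3 D59809)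
theorem F94502 : act 7 n60019 = n52773 := d8_2 F46032 D60019 (iv3 D52773)
def n60020 : Q := act 6 n28496
theorem D60020 : act 6 n28496 = n60020 := rfl
theorem F94503 : act 2 n60020 = n52772 := d3_1 D60020 (iv6 D52772) F46031
def n60021 : Q := act 6 n28497
theorem D60021 : act 6 n28497 = n60021 := rfl
theorem F94504 : act 2 n60021 = n52775 := d3_1 D60021 (iv6 D52775) F46037
theorem F94505 : act 5 n60021 = n34947 := d12_1 D60021 (iv6 D34947) (iv5 D16952) D16953 (iv5 F46036)
def n60022 : Q := act 0 n28498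
theorem D60022 : act 0 n28498 = n60022 := rfl
theorem F94506 : act 4 n60022 = n34416 := d18_3 (iv1 D28497) D28498 D60022 F54605 (iv4 D28501) (iv0 F22765) (iv4 F37672) (iv0 F37674) (iv5 F46036)
theorem F94507 : act 1 n52780 = n60022 := d15_0 (iv0 D60022) (iv7 F83372) (iv2 F83375)
theorem F94508 : act 5 n32987 = n60022 := d17_5 (iv1 F54608) F40551 (iv1 F20192) D15883 D32987 (iv0 D60022) (iv5 F83377) F94507 F94506
theorem F94509 : act 2 n60022 = n52776 := d2_1 F94508 (iv5 F83394) F83393
theorem F94510 : act 7 n60022 = n52777 := d13_2 F83389 F94508 (iv5 F83390)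
def n60023 : Q := act 1 n28498
theorem D60023 : act 1 n28498 = n60023 := rfl
theorem F94511 : act 1 n60023 = n52780 := d15_1 D60023 (iv7 D52780) (iv2 F46038)
theorem F94512 : act 7 n60023 = n52776 := d15_2 (iv0 D60022) D60023 (iv2 F94509)
theorem F94513 : act 4 n60023 = n31687 := d18_7 (iv1 F20192) (iv4 D7452) F12610 (iv4 F10538) D13583 D28498 D60023 F49970 F40551
theorem F94514 : act 2 n52777 = n60023 := d1_3 F94513 F49967 (iv4 F83370)
def n60024 : Q := act 3 n28498
theorem D60024 : act 3 n28498 = n60024 := rfl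
def n60025 : Q := act 6 n28499
theorem D60025 : act 6 n28499 = n60025 := rfl
theorem F94515 : act 2 n60025 = n52781 := d3_1 D60025 (iv6 D52781) (iv2 F46039)
theorem F94516 : act 5 n60025 = n52138 := d12_1 D60025 (iv6 D52138) F39979 (iv6 F22754) (iv5 F46040)
def n60026 : Q := act 4 n28500
theorem D60026 : act 4 n28500 = n60026 := rfl
theorem F94517 : act 2 n60026 = n52784 := d1_1 D60026 (iv4 D52784) (iv2 F46043)
theorem F94518 : act 5 n60026 = n60023 := d9_2 D28500 D60026 F94513 (iv5 D31687) (iv4 D14898) F11342 D7452 D15883 D32987 F94508 F94506 F54605 (iv4 D28501) (iv5 D13586) D13585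
theorem F94519 : act 7 n60026 = n52787 := d11_2 (iv7 F46044) D60026 (iv4 D52787)
theorem F94520 : act 1 n60026 = n52466 := d18_6 (iv1 D13582) F10538 D6465 D13585 D28500 D60026 (iv4 D52466) (iv0 F46029) (iv5 D28495)
def n60027 : Q := act 6 n28500
theorem D60027 : act 6 n28500 = n60027 := rfl
theorem F94521 : act 2 n60027 = n52785 := d3_1 D60027 (iv6 D52785) (iv2 F46043)
def n60028 : Q := act 3 n28502
theorem D60028 : act 3 n28502 = n60028 := rfl
theorem F94522 : act 2 n60028 = n38248 := d0_1 D60028 (iv3 D38248) (iv2 F29471) (iv3 F22812) (iv2 F46050)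
theorem F94523 : act 4 n60028 = n40047 := d5_2 D28502 D60028 F60927 F30277 (iv3 F22767)
theorem F94524 : act 5 n60028 = n33679 := d6_2 (iv5 F46051) D60028 (iv3 D33679)
theorem F94525 : act 7 n60028 = n28607 := d8_2 (iv7 F46052) D60028 (iv3 D28607)
def n60029 : Q := act 6 n28502
theorem D60029 : act 6 n28502 = n60029 := rfl
theorem F94526 : act 2 n60029 = n28646 := d3_1 D60029 (iv6 D28646) (iv2 F46050)
theorem F94527 : act 4 n60029 = n28503 := d10_1 D60029 (iv6 D28503) D28502
theorem F94528 : act 0 n60029 = n58333 := d20_1 (iv4 F94527) (iv4 D58333) (iv3 D27778) (iv1 F44868) F44864 (iv4 F59391) (iv1 F59393) D38589 (iv3 F92451) (iv1 F92452)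
def n60030 : Q := act 5 n28503
theorem D60030 : act 5 n28503 = n60030 := rfl
theorem F94529 : act 2 n60030 = n28659 := d2_1 D60030 (iv5 D28659) (iv2 F46055)
theorem F94530 : act 3 n60030 = n40230 := d6_1 D60030 (iv5 D40230) (iv3 F46056)
theorem F94531 : act 6 n60030 = n28504 := d12_2 D28503 D60030 (iv5 D28504) (iv6 D13588) D13587
def n60031 : Q := act 4 n28504
theorem D60031 : act 4 n28504 = n60031 := rfl
theorem F94532 : act 2 n60031 = n28671 := d1_1 D60031 (iv4 D28671) (iv2 F46057)
def n60032 : Q := act 6 n28505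
theorem D60032 : act 6 n28505 = n60032 := rfl
theorem F94533 : act 3 n60032 = n28508 := d7_1 D60032 (iv6 D28508) (iv3 F46058)
theorem F94534 : act 5 n60032 = n49855 := d12_1 D60032 (iv6 D49855) F52274 (iv6 D28506) D28505
def n60033 : Q := act 3 n28507
theorem D60033 : act 3 n28507 = n60033 := rfl
theorem F94535 : act 7 n60033 = n28580 := d8_2 (iv7 F46062) D60033 (iv3 D28580)
theorem F94536 : act 0 n56295 = n60033 := d20_4 F28038 F27413 D34460 (iv3 F89058) (iv3 D60033) (iv4 D28507) F37255 D15696 F25180 D17091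
def n60034 : Q := act 6 n28507
theorem D60034 : act 6 n28507 = n60034 := rfl
theorem F94537 : act 2 n60034 = n28538 := d3_1 D60034 (iv6 D28538) (iv2 F46061)
theorem F94538 : act 4 n60034 = n28508 := d10_1 D60034 (iv6 D28508) D28507
def n60035 : Q := act 0 n28508
theorem D60035 : act 0 n28508 = n60035 := rfl
def n60036 : Q := act 1 n28508
theorem D60036 : act 1 n28508 = n60036 := rfl
theorem F94539 : act 1 n60036 = n28543 := d15_1 D60036 (iv7 D28543) (iv2 F46063)
def n60037 : Q := act 5 n28508
theorem D60037 : act 5 n28508 = n60037 := rfl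
theorem F94540 : act 2 n60037 = n28542 := d2_1 D60037 (iv5 D28542) (iv2 F46063)
theorem F94541 : act 3 n60037 = n49855 := d6_1 D60037 (iv5 F94534) F94533
theorem F94542 : act 6 n60037 = n28511 := d12_2 D28508 D60037 (iv5 D28511) (iv6 D13594) D13593
def n60038 : Q := act 7 n28508
theorem D60038 : act 7 n28508 = n60038 := rfl
theorem F94543 : act 2 n60038 = n28543 := d4_1 D60038 (iv7 D28543) (iv2 F46063)
theorem F94544 : act 6 n60038 = n28586 := d14_1 D60038 (iv7 D28586) (iv6 D13626) (iv7 F22779) D28508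
theorem F94545 : act 1 n28543 = n60035 := d15_0 (iv0 D60035) D60038 F94543
theorem F94547 : act 1 n60038 = n28540 := d15_0 (iv0 D28540) D28543 (iv2 F94543)
def n60039 : Q := act 4 n28511
theorem D60039 : act 4 n28511 = n60039 := rfl
theorem F94548 : act 2 n60039 = n28557 := d1_1 D60039 (iv4 D28557) (iv2 F46065)
theorem F94549 : act 7 n60039 = n34323 := d11_2 F54042 D60039 F54478
theorem F94550 : act 0 n60039 = n34327 := d18_2 (iv1 F50847) D60039 F54483 F27113 (iv4 F18808) (iv0 F55508) F55511 F45549 (iv5 F47828)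
theorem F94551 : act 1 n60039 = n34319 := d18_6 (iv1 F25683) (iv4 F53977) (iv1 F54049) (iv4 F37257) D28511 D60039 (iv4 D34319) F52644 F52643
def n60040 : Q := act 6 n28513
theorem D60040 : act 6 n28513 = n60040 := rfl
theorem F94552 : act 2 n60040 = n32477 := d3_1 D60040 (iv6 D32477) (iv2 F46071)
theorem F94553 : act 4 n60040 = n54917 := d10_1 D60040 (iv6 D54917) (iv4 F46074)
def n60041 : Q := act 6 n28515
theorem D60041 : act 6 n28515 = n60041 := rfl
theorem F94554 : act 2 n60041 = n32762 := d3_1 D60041 (iv6 D32762) F46080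
theorem F94555 : act 4 n60041 = n54817 := d10_1 D60041 (iv6 D54817) F46081
def n60042 : Q := act 0 n28516
theorem D60042 : act 0 n28516 = n60042 := rfl
def n60043 : Q := act 1 n28516
theorem D60043 : act 1 n28516 = n60043 := rfl
def n60044 : Q := act 5 n28516
theorem D60044 : act 5 n28516 = n60044 := rfl
theorem F94556 : act 3 n60044 = n28542 := d6_1 D60044 (iv5 D28542) (iv3 F46082)
theorem F94557 : act 6 n60044 = n28519 := d12_2 D28516 D60044 (iv5 D28519) (iv6 D13599) D13598
def n60045 : Q := act 7 n28516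
theorem D60045 : act 7 n28516 = n60045 := rfl
theorem F94558 : act 3 n60045 = n28543 := d8_1 D60045 (iv7 D28543) (iv3 F46082)
def n60046 : Q := act 5 n28517
theorem D60046 : act 5 n28517 = n60046 := rfl
theorem F94559 : act 3 n60046 = n29212 := d6_1 D60046 (iv5 D29212) (iv3 F54056)
theorem F94560 : act 7 n60046 = n29238 := d13_2 (iv7 F54058) D60046 (iv5 D29238)
def n60047 : Q := act 3 n28518
theorem D60047 : act 3 n28518 = n60047 := rfl
theorem F94561 : act 2 n60047 = n29220 := d0_1 D60047 F46873 F23167 D13901 (iv2 F83535)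
theorem F94562 : act 4 n60047 = n52123 := d5_2 (iv4 F83536) D60047 F82397 (iv4 F78490) (iv3 F65044)
theorem F94563 : act 7 n60047 = n29216 := d8_2 F83560 D60047 (iv3 F83558)
theorem F94564 : act 0 n60047 = n28523 := d20_4 (iv4 F37984) (iv1 F42434) (iv4 F83536) D60047 F46091 F22787 D13612 F50976 (iv3 F53984) (iv1 F26676)
theorem F94565 : act 0 n29188 = n60047 := d20_4 (iv4 F77197) (iv1 F77200) (iv4 D29189) D29188 (iv3 D60047) F83536 (iv1 D26511) F21070 (iv3 F21064) (iv1 F38071)
theorem F94566 : act 6 n28518 = n60047 := d10_0 F94562 F82398 (iv4 F83536)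
def n60048 : Q := act 5 n28518
theorem D60048 : act 5 n28518 = n60048 := rfl
theorem F94567 : act 2 n60048 = n29238 := d2_1 D60048 (iv5 D29238) (iv2 F83535)
def n60049 : Q := act 0 n28519
theorem D60049 : act 0 n28519 = n60049 := rfl
theorem F94568 : act 5 n60049 = n34272 := d17_3 (iv1 D28518) D28519 D60049 F54423 (iv5 F86726) (iv0 D54807) (iv5 D26512) D26511 (iv4 F83536)
theorem F94569 : act 4 n60049 = n54841 := d18_1 D60049 (iv1 F86787) (iv4 D34338) F27118 (iv4 F37984) F42437 (iv4 F54057) (iv0 D28517) D28519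
theorem F94570 : act 3 n29250 = n60049 := d20_5 D7731 (iv1 F26225) F26228 (iv3 F26597) D29250 F94569 (iv1 F86787) (iv4 D34338) (iv3 D16627) (iv1 D7730)
theorem F94571 : act 7 n60049 = n29256 := d8_2 (iv7 F46911) F94570 (iv3 D29256)
theorem F94572 : act 1 n49856 = n60049 := d17_6 (iv1 D29015) D29017 F83589 F83588 (iv4 F83568) F83569 F94568 (iv0 F79131) F79129
def n60050 : Q := act 1 n28519
theorem D60050 : act 1 n28519 = n60050 := rfl
theorem F94573 : act 1 n60050 = n49856 := d15_1 D60050 F83565 F83562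
theorem F94574 : act 5 n60050 = n35912 := d17_7 (iv1 F46653) D55615 F87975 (iv5 D52874) F40570 D28519 D60050 F56577 (iv4 F46652)
theorem F94575 : act 2 n29256 = n60050 := d2_3 F94574 F56573 (iv5 F46918)
theorem F94576 : act 4 n54842 = n60050 := d18_3 F42474 D34338 (iv1 F86784) F94574 F56575 F54426 (iv4 D16603) F26825 (iv5 F42472)
def n60051 : Q := act 4 n28519
theorem D60051 : act 4 n28519 = n60051 := rfl
theorem F94577 : act 0 n60051 = n29067 := d18_2 (iv1 D60050) D60051 (iv4 D29067) (iv5 D13839) (iv4 F23069) D29015 (iv4 F79129) (iv0 F79132) (iv5 F94574)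
theorem F94578 : act 1 n60051 = n55616 := d18_6 F26990 (iv4 F47679) (iv1 F54060) F40570 D28519 D60051 (iv4 D55616) (iv0 F43276) F42476
def n60052 : Q := act 7 n28519
theorem D60052 : act 7 n28519 = n60052 := rfl
theorem F94579 : act 2 n60052 = n49856 := d4_1 D60052 F83565 F83562
theorem F94580 : act 3 n60052 = n28558 := d8_1 D60052 (iv7 D28558) (iv3 F46083)
theorem F94581 : act 5 n60052 = n28520 := d13_1 D60052 (iv7 D28520) D28519
theorem F94582 : act 1 n29256 = n60052 := d15_1 F83564 (iv7 D60052) (iv2 F83562)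
def n60053 : Q := act 6 n28521
theorem D60053 : act 6 n28521 = n60053 := rfl
theorem F94583 : act 2 n60053 = n32680 := d3_1 D60053 (iv6 D32680) (iv2 F46085)
theorem F94584 : act 4 n60053 = n58263 := d10_1 D60053 (iv6 D58263) (iv4 F46088)
def n60054 : Q := act 6 n28522
theorem D60054 : act 6 n28522 = n60054 := rfl
theorem F94585 : act 3 n60054 = n28525 := d7_1 D60054 (iv6 D28525) (iv3 F46089)
def n60055 : Q := act 7 n28523
theorem D60055 : act 7 n28523 = n60055 := rfl
theorem F94586 : act 2 n60055 = n29188 := d4_1 D60055 F54254 (iv2 F54248)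
theorem F94587 : act 3 n60055 = n28530 := d8_1 D60055 (iv7 D28530) (iv3 F46091)
theorem F94588 : act 6 n60055 = n28661 := d14_1 D60055 F77227 (iv6 D48958) F37286 D28523
theorem F94589 : act 1 n29220 = n60055 := d15_1 (iv0 F54252) (iv7 D60055) F54248
theorem F94590 : act 1 n60055 = n29216 := d15_1 F94589 (iv7 F94563) F94561
def n60056 : Q := act 6 n28524
theorem D60056 : act 6 n28524 = n60056 := rfl
theorem F94591 : act 2 n60056 = n32843 := d3_1 D60056 (iv6 D32843) F46093
def n60057 : Q := act 0 n28525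
theorem D60057 : act 0 n28525 = n60057 := rfl
def n60058 : Q := act 1 n28525
theorem D60058 : act 1 n28525 = n60058 := rfl
def n60059 : Q := act 7 n28525
theorem D60059 : act 7 n28525 = n60059 := rfl
def n60060 : Q := act 6 n28526
theorem D60060 : act 6 n28526 = n60060 := rfl
theorem F94592 : act 2 n60060 = n28575 := d3_1 D60060 (iv6 D28575) (iv2 F46095)
theorem F94593 : act 4 n60060 = n34364 := d10_1 D60060 (iv6 D34364) (iv4 F46096)
def n60061 : Q := act 5 n28527
theorem D60061 : act 5 n28527 = n60061 := rfl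
theorem F94596 : act 0 n60061 = n50012 := d17_2 D28527 D60061 (iv5 D50012) F55511 F54222 (iv0 F54017) (iv5 D28548) (iv0 D13612) (iv4 F22787)
def n60062 : Q := act 3 n28532
theorem D60062 : act 3 n28532 = n60062 := rfl
theorem F94598 : act 2 n60062 = n35189 := d0_1 D60062 (iv3 D35189) F28033 (iv3 F25180) (iv2 F46102)
def n60063 : Q := act 6 n28532
theorem D60063 : act 6 n28532 = n60063 := rfl
theorem F94599 : act 2 n60063 = n32789 := d3_1 D60063 (iv6 D32789) (iv2 F46102)
theorem F94600 : act 4 n60063 = n28533 := d10_1 D60063 (iv6 D28533) D28532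
def n60064 : Q := act 0 n28533
theorem D60064 : act 0 n28533 = n60064 := rfl
def n60065 : Q := act 1 n28533
theorem D60065 : act 1 n28533 = n60065 := rfl
theorem F94601 : act 1 n60065 = n32792 := d15_1 D60065 (iv7 D32792) (iv2 F46105)
def n60066 : Q := act 7 n28533
theorem D60066 : act 7 n28533 = n60066 := rfl
theorem F94602 : act 2 n60066 = n32792 := d4_1 D60066 (iv7 D32792) (iv2 F46105)
theorem F94603 : act 1 n32792 = n60064 := d15_0 (iv0 D60064) D60066 F94602
theorem F94604 : act 1 n32791 = n60066 := d15_1 D32791 (iv7 D60066) F46105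
theorem F94605 : act 1 n60066 = n32790 := d15_0 (iv0 D32790) D32792 (iv2 F94602)
def n60067 : Q := act 3 n28534
theorem D60067 : act 3 n28534 = n60067 := rfl
theorem F94606 : act 4 n60067 = n33253 := d5_2 (iv4 F46106) D60067 (iv3 D33253) (iv4 D16057) D16056
def n60068 : Q := act 5 n28534
theorem D60068 : act 5 n28534 = n60068 := rfl
theorem F94607 : act 4 n60068 = n33601 := d16_2 (iv4 F46106) D60068 F52892 (iv4 D32666) (iv5 D15543) (iv4 F26487) F26488 F26743 (iv2 F26860)
theorem F94608 : act 0 n60068 = n57644 := d17_2 D28534 D60068 F90791 (iv4 D28602) F25820 F11867 (iv5 F25731) (iv0 D13607) D13609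
theorem F94609 : act 1 n60068 = n57653 := d17_6 F25648 F25823 (iv1 F26739) (iv5 F26861) (iv4 F46106) D60068 F90819 (iv0 F52648) (iv4 D33403)
def n60069 : Q := act 6 n28534
theorem D60069 : act 6 n28534 = n60069 := rfl
theorem F94610 : act 4 n60069 = n33252 := d10_1 D60069 (iv6 D33252) (iv4 F46106)
def n60070 : Q := act 3 n28535
theorem D60070 : act 3 n28535 = n60070 := rfl
theorem F94611 : act 4 n60070 = n32849 := d5_2 (iv4 F46109) D60070 (iv3 D32849) F26745 F26744
theorem F94612 : act 0 n60070 = n35203 := d20_4 F51900 (iv1 F25681) (iv4 F46109) D60070 (iv3 D35203) (iv4 D17089) (iv1 D7997) D7998 (iv3 F25180) D32787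
def n60071 : Q := act 5 n28535
theorem D60071 : act 5 n28535 = n60071 := rfl
theorem F94613 : act 4 n60071 = n33602 := d9_1 D60071 F52898 F52599 F46092 F28401 (iv5 F26861) (iv4 F46106) D60068 F94607 F52892 (iv4 D32666) (iv5 D15543) (iv4 F26487) F26488 (iv4 F46109)
theorem F94614 : act 0 n60071 = n57653 := d17_2 (iv1 F46108) D60071 F90819 (iv4 D28604) F25825 (iv0 D7236) D7239 F25734 D13625
theorem F94615 : act 1 n60071 = n57644 := d17_6 (iv1 F27183) (iv5 F27165) (iv1 F26486) F26488 (iv4 F46109) D60071 F90791 (iv0 F52662) (iv4 D33406)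
theorem F94616 : act 3 n33602 = n57479 := d20_3 D57644 (iv1 F94615) F94613 (iv1 D57479) F44407 (iv4 F21937) (iv1 F43077) (iv4 D26784) (iv3 F43069) (iv1 F44431)
theorem F94617 : act 5 n57479 = n55406 := d6_2 (iv5 F52898) F94616 (iv3 F87693)
theorem F94618 : act 7 n57479 = n57107 := d8_2 (iv7 F52897) F94616 F90156
theorem F94619 : act 2 n57107 = n57478 := d15_3 (iv0 D57478) D57479 F94618
theorem F94620 : act 5 n57478 = n55405 := d2_2 D57107 F94619 (iv2 F87696)
theorem F94621 : act 7 n57105 = n57478 := d13_0 F94620 (iv7 F87698) D57105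
theorem F94622 : act 2 n57479 = n57105 := d4_3 F94621 (iv2 F94619) (iv7 F94618)
def n60072 : Q := act 6 n28535
theorem D60072 : act 6 n28535 = n60072 := rfl
theorem F94623 : act 4 n60072 = n33382 := d10_1 D60072 (iv6 D33382) (iv4 F46109)
def n60073 : Q := act 2 n28536
theorem D60073 : act 2 n28536 = n60073 := rfl
theorem F94624 : act 4 n60073 = n54552 := d1_2 (iv4 F52411) D60073 F86210
theorem F94625 : act 5 n60073 = n52644 := d2_2 F52415 D60073 (iv2 F83186)
theorem F94626 : act 0 n52713 = n60073 := d17_0 F94625 (iv1 F83185) (iv5 F87074) (iv4 D55055) (iv5 D26612) D26611 (iv5 F42618) (iv0 F52430) (iv4 F83304)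
theorem F94627 : act 1 n54568 = n60073 := d17_6 D25549 F40404 (iv1 F20163) D16026 D33201 (iv5 F86255) F94625 (iv0 D52644) (iv4 D25551)
def n60074 : Q := act 6 n28536
theorem D60074 : act 6 n28536 = n60074 := rfl
theorem F94628 : act 3 n60074 = n28538 := d7_1 D60074 (iv6 D28538) D28536
def n60075 : Q := act 7 n28536
theorem D60075 : act 7 n28536 = n60075 := rfl
theorem F94629 : act 3 n60075 = n28539 := d8_1 D60075 (iv7 D28539) D28536
theorem F94630 : act 4 n60075 = n34575 := d11_1 D60075 F54848 (iv4 F52411)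
theorem F94631 : act 5 n60075 = n52645 := d13_1 D60075 F83189 F52415
theorem F94632 : act 1 n52713 = n60075 := d15_1 (iv0 F94626) (iv7 D60075) D60073
theorem F94633 : act 1 n60075 = n54568 := d15_1 F94632 F86256 (iv2 F83302)
def n60076 : Q := act 0 n28537
theorem D60076 : act 0 n28537 = n60076 := rfl
theorem F94634 : act 5 n60076 = n28613 := d17_1 D60076 (iv1 F46184) D28626 F46196 (iv5 D16271) (iv0 D7576) D7578 D16279 (iv4 F46110)
theorem F94635 : act 4 n60076 = n58260 := d18_1 D60076 F92102 F90856 F90854 F51900 (iv0 F26858) (iv4 F46106) (iv0 D28534) D28537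
theorem F94636 : act 1 n28581 = n60076 := d15_0 (iv0 D60076) (iv7 F90850) F90847
def n60077 : Q := act 1 n28537
theorem D60077 : act 1 n28537 = n60077 := rfl
theorem F94637 : act 1 n60077 = n28581 := d15_1 D60077 (iv7 F90844) F90843
theorem F94638 : act 5 n60077 = n28614 := d17_7 (iv1 D6489) (iv5 D2887) D2884 D6478 D13609 D28537 D60077 F46185 (iv4 D13650)
theorem F94639 : act 4 n60077 = n58262 := d17_9 F92108 F52742 (iv1 F51752) (iv5 F52892) (iv4 F94607) (iv5 D60068) (iv0 D28534) D28537 D60077
def n60078 : Q := act 6 n28537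
theorem D60078 : act 6 n28537 = n60078 := rfl
theorem F94640 : act 4 n60078 = n33678 := d10_1 D60078 (iv6 D33678) (iv4 F46110)
def n60079 : Q := act 0 n28538
theorem D60079 : act 0 n28538 = n60079 := rfl
def n60080 : Q := act 1 n28538
theorem D60080 : act 1 n28538 = n60080 := rfl
def n60081 : Q := act 5 n28538
theorem D60081 : act 5 n28538 = n60081 := rfl
def n60082 : Q := act 7 n28538
theorem D60082 : act 7 n28538 = n60082 := rfl
theorem F94641 : act 4 n60082 = n28543 := d11_1 D60082 (iv7 D28543) (iv4 F46111)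
def n60083 : Q := act 6 n28539
theorem D60083 : act 6 n28539 = n60083 := rfl
theorem F94642 : act 2 n60083 = n28582 := d3_1 D60083 (iv6 D28582) (iv2 F46112)
theorem F94643 : act 4 n60083 = n28544 := d10_1 D60083 (iv6 D28544) (iv4 F46113)
def n60084 : Q := act 2 n28540
theorem D60084 : act 2 n28540 = n60084 := rfl
def n60085 : Q := act 3 n28540
theorem D60085 : act 3 n28540 = n60085 := rfl
def n60086 : Q := act 4 n28540
theorem D60086 : act 4 n28540 = n60086 := rfl
def n60087 : Q := act 5 n28540
theorem D60087 : act 5 n28540 = n60087 := rfl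
def n60088 : Q := act 6 n28540
theorem D60088 : act 6 n28540 = n60088 := rfl
def n60094 : Q := act 0 n28542
theorem D60094 : act 0 n28542 = n60094 := rfl
def n60095 : Q := act 1 n28542
theorem D60095 : act 1 n28542 = n60095 := rfl
def n60096 : Q := act 4 n28542
theorem D60096 : act 4 n28542 = n60096 := rfl
theorem F94646 : act 6 n60096 = n28557 := d10_2 (iv6 F46114) D60096 (iv4 D28557)
def n60097 : Q := act 7 n28542
theorem D60097 : act 7 n28542 = n60097 := rfl
theorem F94647 : act 5 n60097 = n28543 := d13_1 D60097 (iv7 D28543) D28542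
def n60098 : Q := act 6 n28543
theorem D60098 : act 6 n28543 = n60098 := rfl
theorem F94648 : act 2 n60098 = n28586 := d3_1 D60098 (iv6 F94544) F94543
theorem F94649 : act 7 n60098 = n28544 := d14_2 D28543 D60098 (iv6 D28544) (iv7 D13611) D13610
theorem F94650 : act 1 n28584 = n60098 := d15_1 D28584 F94649 F46115
theorem F94651 : act 1 n60098 = n28583 := d15_0 (iv0 D28583) D28586 (iv2 F94648)
def n60099 : Q := act 0 n28544
theorem D60099 : act 0 n28544 = n60099 := rfl
theorem F94652 : act 1 n28586 = n60099 := d15_0 (iv0 D60099) (iv7 F94649) F94648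
def n60100 : Q := act 1 n28544
theorem D60100 : act 1 n28544 = n60100 := rfl
def n60101 : Q := act 5 n28544
theorem D60101 : act 5 n28544 = n60101 := rfl
theorem F94654 : act 2 n60101 = n28585 := d2_1 D60101 (iv5 D28585) (iv2 F46115)
theorem F94655 : act 6 n60101 = n28562 := d12_2 D28544 D60101 (iv5 D28562) (iv6 D13616) (iv5 F22793)
def n60102 : Q := act 4 n28548
theorem D60102 : act 4 n28548 = n60102 := rfl
theorem F94656 : act 2 n60102 = n29173 := d1_1 D60102 (iv4 D29173) (iv2 F54019)
theorem F94657 : act 0 n60102 = n34309 := d18_2 (iv1 F54018) D60102 (iv4 D34309) (iv5 D16610) F26717 F23445 (iv4 F45529) F45532 F54186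
theorem F94658 : act 1 n60102 = n34315 := d18_6 (iv1 D16141) F11773 D7543 (iv4 F50976) D28548 D60102 (iv4 D34315) (iv0 F52765) (iv5 D33428)
def n60103 : Q := act 6 n28548
theorem D60103 : act 6 n28548 = n60103 := rfl
theorem F94659 : act 2 n60103 = n29174 := d3_1 D60103 (iv6 D29174) (iv2 F54019)
def n60104 : Q := act 4 n28555
theorem D60104 : act 4 n28555 = n60104 := rfl
theorem F94660 : act 2 n60104 = n29272 := d1_1 D60104 (iv4 D29272) (iv2 F50874)
theorem F94661 : act 1 n60104 = n33429 := d18_6 (iv1 F49987) F49988 (iv1 F23444) (iv4 F45534) (iv5 F50876) D60104 (iv4 D33429) F50972 (iv5 D16618)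
def n60105 : Q := act 6 n28555
theorem D60105 : act 6 n28555 = n60105 := rfl
theorem F94662 : act 2 n60105 = n29273 := d3_1 D60105 (iv6 D29273) (iv2 F50874)
def n60106 : Q := act 0 n28557
theorem D60106 : act 0 n28557 = n60106 := rfl
theorem F94663 : act 4 n60106 = n33400 := d18_3 F50878 D28557 D60106 F52637 (iv4 F38238) (iv0 D24385) D24388 (iv0 F42819) (iv5 F23617)
theorem F94664 : act 2 n34327 = n60106 := d15_3 (iv0 D60106) F54221 D34327
theorem F94665 : act 7 n60106 = n34319 := d4_2 D34327 F94664 F54473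
theorem F94666 : act 1 n34323 = n60106 := d15_1 D34323 F94665 F54473
def n60107 : Q := act 3 n28557
theorem D60107 : act 3 n28557 = n60107 := rfl
def n60108 : Q := act 5 n28557
theorem D60108 : act 5 n28557 = n60108 := rfl
def n60109 : Q := act 7 n28557
theorem D60109 : act 7 n28557 = n60109 := rfl
theorem F94667 : act 2 n60109 = n34323 := d4_1 D60109 (iv7 F94549) F94548
theorem F94668 : act 4 n60109 = n28558 := d11_1 D60109 (iv7 D28558) D28557
theorem F94669 : act 1 n34319 = n60109 := d15_1 F94551 (iv7 D60109) (iv2 F94548)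
theorem F94670 : act 1 n60109 = n34327 := d15_1 F94669 (iv7 D34327) (iv2 F54473)
def n60110 : Q := act 6 n28558
theorem D60110 : act 6 n28558 = n60110 := rfl
def n60111 : Q := act 4 n28562
theorem D60111 : act 4 n28562 = n60111 := rfl
theorem F94671 : act 2 n60111 = n28599 := d1_1 D60111 (iv4 D28599) (iv2 F46125)
def n60112 : Q := act 6 n28563
theorem D60112 : act 6 n28563 = n60112 := rfl
theorem F94672 : act 2 n60112 = n32674 := d3_1 D60112 (iv6 D32674) (iv2 F46126)
theorem F94673 : act 4 n60112 = n55106 := d10_1 D60112 (iv6 D55106) (iv4 F46128)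
def n60113 : Q := act 6 n28564
theorem D60113 : act 6 n28564 = n60113 := rfl
theorem F94674 : act 2 n60113 = n28570 := d3_1 D60113 (iv6 D28570) (iv2 F46130)
def n60114 : Q := act 4 n28566
theorem D60114 : act 4 n28566 = n60114 := rfl
theorem F94675 : act 0 n60114 = n33669 := d18_2 (iv1 F46144) D60114 F52947 (iv5 D16925) D16924 F27756 (iv4 F43591) (iv0 D26997) D26999
theorem F94676 : act 1 n60114 = n34906 := d18_6 (iv1 F21014) (iv4 F21015) F25452 D13620 D28566 D60114 (iv4 D34906) F35198 (iv5 D15928)
def n60115 : Q := act 6 n28566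
theorem D60115 : act 6 n28566 = n60115 := rfl
def n60116 : Q := act 5 n28567
theorem D60116 : act 5 n28567 = n60116 := rfl
def n60117 : Q := act 6 n28568
theorem D60117 : act 6 n28568 = n60117 := rfl
theorem F94677 : act 2 n60117 = n32837 := d3_1 D60117 (iv6 D32837) F46149
theorem F94678 : act 4 n60117 = n54684 := d10_1 D60117 (iv6 D54684) (iv4 F46148)
def n60118 : Q := act 3 n28569
theorem D60118 : act 3 n28569 = n60118 := rfl
theorem F94679 : act 4 n60118 = n28580 := d5_2 D28569 D60118 (iv3 D28580) (iv4 D13625) (iv3 F22798)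
def n60119 : Q := act 6 n28569
theorem D60119 : act 6 n28569 = n60119 := rfl
theorem F94680 : act 4 n60119 = n28570 := d10_1 D60119 (iv6 D28570) D28569
def n60120 : Q := act 0 n28570
theorem D60120 : act 0 n28570 = n60120 := rfl
def n60121 : Q := act 1 n28570
theorem D60121 : act 1 n28570 = n60121 := rfl
def n60122 : Q := act 5 n28570
theorem D60122 : act 5 n28570 = n60122 := rfl
theorem F94681 : act 3 n60122 = n28585 := d6_1 D60122 (iv5 D28585) (iv3 F46152)
theorem F94682 : act 6 n60122 = n28573 := d12_2 D28570 D60122 (iv5 D28573) (iv6 D13622) D13621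
def n60123 : Q := act 7 n28570
theorem D60123 : act 7 n28570 = n60123 := rfl
theorem F94683 : act 3 n60123 = n28586 := d8_1 D60123 (iv7 D28586) (iv3 F46152)
def n60124 : Q := act 0 n28573
theorem D60124 : act 0 n28573 = n60124 := rfl
theorem F94684 : act 2 n32872 = n60124 := d15_3 (iv0 D60124) (iv0 F56750) (iv7 F52041)
def n60125 : Q := act 4 n28573
theorem D60125 : act 4 n28573 = n60125 := rfl
def n60126 : Q := act 0 n28575
theorem D60126 : act 0 n28575 = n60126 := rfl
def n60127 : Q := act 1 n28575
theorem D60127 : act 1 n28575 = n60127 := rfl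
def n60128 : Q := act 5 n28575
theorem D60128 : act 5 n28575 = n60128 := rfl
theorem F94685 : act 6 n60128 = n28578 := d12_2 D28575 D60128 (iv5 D28578) (iv6 D13624) D13623
def n60129 : Q := act 7 n28575
theorem D60129 : act 7 n28575 = n60129 := rfl
def n60130 : Q := act 1 n28578
theorem D60130 : act 1 n28578 = n60130 := rfl
theorem F94686 : act 1 n60130 = n28662 := d15_1 D60130 (iv7 F94422) F94421
theorem F94687 : act 5 n60130 = n35094 := d17_7 F84939 (iv5 F54161) (iv1 D28598) (iv5 D13629) (iv4 F22800) D28578 D60130 F79146 (iv4 F84937)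
theorem F94688 : act 2 n32875 = n60130 := d2_3 F94687 F55759 (iv5 F52047)
def n60131 : Q := act 4 n28578
theorem D60131 : act 4 n28578 = n60131 := rfl
theorem F94689 : act 0 n60131 = n33335 := d18_2 (iv1 D60130) D60131 (iv4 D33335) F25602 (iv4 F41210) (iv0 F79145) (iv4 F79143) (iv0 F79144) (iv5 F94687)
theorem F94690 : act 1 n60131 = n33559 := d18_6 (iv1 F50792) F50839 (iv1 D13628) (iv4 F22800) D28578 D60131 (iv4 D33559) F52140 (iv5 D32970)
def n60132 : Q := act 0 n28580
theorem D60132 : act 0 n28580 = n60132 := rfl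
theorem F94691 : act 3 n60132 = n41075 := d20_5 (iv4 D28532) (iv1 F22794) D13625 D28580 D60132 (iv4 D41075) D41073 (iv4 F62313) (iv3 D33415) (iv1 F46104)
theorem F94692 : act 4 n60132 = n40096 := d20_8 F60969 F30804 D23318 F36433 (iv1 F46151) D60118 F94679 D60132 F60993 (iv1 F60966)
theorem F94693 : act 2 n56295 = n60132 := d15_3 (iv0 D60132) (iv0 F57809) (iv7 F89059)
def n60133 : Q := act 2 n28580
theorem D60133 : act 2 n28580 = n60133 := rfl
def n60134 : Q := act 5 n28580
theorem D60134 : act 5 n28580 = n60134 := rfl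
theorem F94694 : act 3 n60134 = n28581 := d6_1 D60134 (iv5 D28581) D28580
theorem F94695 : act 4 n44717 = n60134 := d19_2 (iv1 F36252) (iv5 F71597) F94694 (iv1 F94637) F94638 F46186 F26952 (iv1 F21507) F21505 F9542 (iv3 F9529) F26347 (iv5 F26353) (iv4 F40015) (iv3 F40317) (iv1 F45928) F45925 (iv4 F36271) F36270
def n60135 : Q := act 6 n28580
theorem D60135 : act 6 n28580 = n60135 := rfl
theorem F94696 : act 3 n60135 = n28582 := d7_1 D60135 (iv6 D28582) D28580
def n60136 : Q := act 6 n28581
theorem D60136 : act 6 n28581 = n60136 := rfl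
def n60137 : Q := act 0 n28582
theorem D60137 : act 0 n28582 = n60137 := rfl
def n60138 : Q := act 1 n28582
theorem D60138 : act 1 n28582 = n60138 := rfl
def n60139 : Q := act 5 n28582
theorem D60139 : act 5 n28582 = n60139 := rfl
def n60140 : Q := act 7 n28582
theorem D60140 : act 7 n28582 = n60140 := rfl
theorem F94698 : act 4 n60140 = n28586 := d11_1 D60140 (iv7 D28586) (iv4 F46157)
def n60141 : Q := act 2 n28583
theorem D60141 : act 2 n28583 = n60141 := rfl
theorem F94699 : act 7 n28584 = n60141 := d15_2 (iv0 D28583) D28584 (iv2 D60141)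
def n60145 : Q := act 6 n28583
theorem D60145 : act 6 n28583 = n60145 := rfl
def n60146 : Q := act 7 n28583
theorem D60146 : act 7 n28583 = n60146 := rfl
theorem F94700 : act 2 n60146 = n28584 := d4_1 D60146 F94699 (iv2 D60141)
def n60147 : Q := act 3 n28584
theorem D60147 : act 3 n28584 = n60147 := rfl
def n60148 : Q := act 4 n28584
theorem D60148 : act 4 n28584 = n60148 := rfl
def n60149 : Q := act 5 n28584
theorem D60149 : act 5 n28584 = n60149 := rfl
def n60150 : Q := act 6 n28584
theorem D60150 : act 6 n28584 = n60150 := rfl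
def n60151 : Q := act 0 n28585
theorem D60151 : act 0 n28585 = n60151 := rfl
def n60152 : Q := act 1 n28585
theorem D60152 : act 1 n28585 = n60152 := rfl
def n60153 : Q := act 4 n28585
theorem D60153 : act 4 n28585 = n60153 := rfl
theorem F94701 : act 6 n60153 = n28599 := d10_2 (iv6 F46158) D60153 (iv4 D28599)
def n60154 : Q := act 7 n28585
theorem D60154 : act 7 n28585 = n60154 := rfl
theorem F94702 : act 5 n60154 = n28586 := d13_1 D60154 (iv7 D28586) D28585
def n60155 : Q := act 4 n28595
theorem D60155 : act 4 n28595 = n60155 := rfl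
theorem F94703 : act 2 n60155 = n32930 := d1_1 D60155 (iv4 D32930) (iv2 F50841)
def n60156 : Q := act 6 n28595
theorem D60156 : act 6 n28595 = n60156 := rfl
theorem F94704 : act 2 n60156 = n32931 := d3_1 D60156 (iv6 D32931) (iv2 F50841)
def n60157 : Q := act 4 n28598
theorem D60157 : act 4 n28598 = n60157 := rfl
theorem F94705 : act 2 n60157 = n32950 := d1_1 D60157 (iv4 D32950) (iv2 F54160)
theorem F94706 : act 0 n60157 = n33527 := d18_2 F86048 D60157 (iv4 D33527) (iv5 D16198) F11786 D7559 F50839 (iv0 F50832) D54487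
def n60158 : Q := act 6 n28598
theorem D60158 : act 6 n28598 = n60158 := rfl
theorem F94707 : act 2 n60158 = n32951 := d3_1 D60158 (iv6 D32951) (iv2 F54160)
def n60159 : Q := act 0 n28599
theorem D60159 : act 0 n28599 = n60159 := rfl
theorem F94708 : act 4 n60159 = n33744 := d18_3 (iv1 D28598) D28599 D60159 F54096 (iv4 F53343) (iv0 F79149) F79143 (iv0 F56712) (iv5 F54161)
def n60160 : Q := act 1 n28599
theorem D60160 : act 1 n28599 = n60160 := rfl
theorem F94709 : act 4 n60160 = n33293 := d18_7 (iv1 F24741) (iv4 F45934) F50826 F22800 D13629 D28599 D60160 F54094 (iv5 D16299)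
def n60161 : Q := act 3 n28599
theorem D60161 : act 3 n28599 = n60161 := rfl
def n60162 : Q := act 5 n28599
theorem D60162 : act 5 n28599 = n60162 := rfl
theorem F94710 : act 0 n60162 = n33759 := d17_2 (iv1 D60160) D60162 (iv5 D33759) (iv4 D16308) (iv5 D7585) D7584 D16304 (iv0 F54093) (iv4 F94709)
def n60163 : Q := act 7 n28599
theorem D60163 : act 7 n28599 = n60163 := rfl
theorem F94711 : act 4 n60163 = n28600 := d11_1 D60163 (iv7 D28600) D28599
def n60164 : Q := act 6 n28600
theorem D60164 : act 6 n28600 = n60164 := rfl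
def n60165 : Q := act 6 n28601
theorem D60165 : act 6 n28601 = n60165 := rfl
theorem F94712 : act 3 n60165 = n28603 := d7_1 D60165 (iv6 D28603) D28601
def n60166 : Q := act 3 n28602
theorem D60166 : act 3 n28602 = n60166 := rfl
theorem F94713 : act 7 n60166 = n28625 := d8_2 (iv7 F46165) D60166 (iv3 D28625)
theorem F94714 : act 0 n55692 = n60166 := d20_4 (iv4 D18270) (iv1 F28638) (iv4 F55925) (iv3 F88128) (iv3 D60166) (iv4 D28602) (iv1 F22803) (iv4 F22813) F22812 (iv1 F29466)
def n60167 : Q := act 6 n28602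
theorem D60167 : act 6 n28602 = n60167 := rfl
theorem F94715 : act 2 n60167 = n28617 := d3_1 D60167 (iv6 D28617) (iv2 F46164)
theorem F94716 : act 4 n60167 = n28603 := d10_1 D60167 (iv6 D28603) D28602
def n60168 : Q := act 0 n28603
theorem D60168 : act 0 n28603 = n60168 := rfl
def n60169 : Q := act 1 n28603
theorem D60169 : act 1 n28603 = n60169 := rfl
theorem F94717 : act 1 n60169 = n28621 := d15_1 D60169 (iv7 D28621) (iv2 F46166)
def n60170 : Q := act 5 n28603
theorem D60170 : act 5 n28603 = n60170 := rfl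
theorem F94718 : act 2 n60170 = n28620 := d2_1 D60170 (iv5 D28620) (iv2 F46166)
theorem F94719 : act 6 n60170 = n32383 := d12_2 D28603 D60170 (iv5 D32383) (iv6 D15286) (iv5 F25820)
def n60171 : Q := act 7 n28603
theorem D60171 : act 7 n28603 = n60171 := rfl
theorem F94720 : act 2 n60171 = n28621 := d4_1 D60171 (iv7 D28621) (iv2 F46166)
theorem F94721 : act 6 n60171 = n28631 := d14_1 D60171 (iv7 D28631) (iv6 D13652) (iv7 F42892) D28603
theorem F94722 : act 1 n28621 = n60168 := d15_0 (iv0 D60168) D60171 F94720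
def n60172 : Q := act 6 n28604
theorem D60172 : act 6 n28604 = n60172 := rfl
theorem F94725 : act 2 n60172 = n28627 := d3_1 D60172 (iv6 D28627) (iv2 F46167)
theorem F94726 : act 4 n60172 = n28605 := d10_1 D60172 (iv6 D28605) D28604
def n60173 : Q := act 0 n28605
theorem D60173 : act 0 n28605 = n60173 := rfl
def n60174 : Q := act 1 n28605
theorem D60174 : act 1 n28605 = n60174 := rfl
theorem F94727 : act 1 n60174 = n28631 := d15_1 D60174 (iv7 D28631) (iv2 F46169)
def n60175 : Q := act 7 n28605
theorem D60175 : act 7 n28605 = n60175 := rfl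
theorem F94728 : act 2 n60175 = n28631 := d4_1 D60175 (iv7 D28631) (iv2 F46169)
theorem F94729 : act 6 n60175 = n28621 := d14_1 D60175 (iv7 D28621) (iv6 D13647) (iv7 F42896) D28605
theorem F94730 : act 1 n28631 = n60173 := d15_0 (iv0 D60173) D60175 F94728
theorem F94731 : act 1 n28629 = n60175 := d15_1 D28629 (iv7 D60175) F46169
theorem F94732 : act 1 n60175 = n28628 := d15_0 (iv0 D28628) D28631 (iv2 F94728)
def n60176 : Q := act 3 n28606
theorem D60176 : act 3 n28606 = n60176 := rfl
theorem F94733 : act 4 n60176 = n37481 := d5_2 F50741 D60176 (iv3 F58368) (iv4 D33622) (iv3 F50740)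
theorem F94734 : act 7 n60176 = n28632 := d8_2 (iv7 F46171) D60176 (iv3 D28632)
def n60177 : Q := act 0 n28607
theorem D60177 : act 0 n28607 = n60177 := rfl
theorem F94735 : act 1 n38248 = n60177 := d15_0 (iv0 D60177) (iv7 F94525) F94522
def n60178 : Q := act 1 n28607
theorem D60178 : act 1 n28607 = n60178 := rfl
theorem F94736 : act 1 n60178 = n38248 := d15_1 D60178 F59130 F56271
def n60179 : Q := act 6 n28607
theorem D60179 : act 6 n28607 = n60179 := rfl
theorem F94737 : act 3 n60179 = n28608 := d7_1 D60179 (iv6 D28608) D28607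
def n60180 : Q := act 1 n28608
theorem D60180 : act 1 n28608 = n60180 := rfl
theorem F94738 : act 1 n60180 = n28645 := d15_1 D60180 (iv7 D28645) (iv2 F46174)
def n60181 : Q := act 5 n28608
theorem D60181 : act 5 n28608 = n60181 := rfl
theorem F94739 : act 2 n60181 = n28644 := d2_1 D60181 (iv5 D28644) (iv2 F46174)
def n60182 : Q := act 7 n28608
theorem D60182 : act 7 n28608 = n60182 := rfl
theorem F94740 : act 2 n60182 = n28645 := d4_1 D60182 (iv7 D28645) (iv2 F46174)
theorem F94741 : act 4 n60182 = n28611 := d11_1 D60182 (iv7 D28611) (iv4 F46175)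
theorem F94742 : act 1 n28643 = n60182 := d15_1 D28643 (iv7 D60182) F46174
theorem F94743 : act 1 n60182 = n28642 := d15_0 (iv0 D28642) D28645 (iv2 F94740)
def n60183 : Q := act 2 n28609
theorem D60183 : act 2 n28609 = n60183 := rfl
def n60184 : Q := act 3 n28609
theorem D60184 : act 3 n28609 = n60184 := rfl
def n60185 : Q := act 4 n28609
theorem D60185 : act 4 n28609 = n60185 := rfl
def n60186 : Q := act 5 n28609
theorem D60186 : act 5 n28609 = n60186 := rfl
def n60187 : Q := act 6 n28609
theorem D60187 : act 6 n28609 = n60187 := rfl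
theorem F94745 : act 5 n60187 = n50034 := d21_6 F22793 (iv1 F37246) D6487 D13642 D28609 D60187 (iv1 D50034) F38250 (iv6 D15697) (iv1 F37252)
def n60188 : Q := act 7 n28609
theorem D60188 : act 7 n28609 = n60188 := rfl
def n60189 : Q := act 4 n28610
theorem D60189 : act 4 n28610 = n60189 := rfl
def n60190 : Q := act 5 n28610
theorem D60190 : act 5 n28610 = n60190 := rfl
def n60191 : Q := act 6 n28610
theorem D60191 : act 6 n28610 = n60191 := rfl
def n60192 : Q := act 0 n28612
theorem D60192 : act 0 n28612 = n60192 := rfl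
def n60193 : Q := act 1 n28612
theorem D60193 : act 1 n28612 = n60193 := rfl
def n60194 : Q := act 5 n28612
theorem D60194 : act 5 n28612 = n60194 := rfl
theorem F94747 : act 3 n60194 = n28620 := d6_1 D60194 (iv5 D28620) (iv3 F46181)
def n60195 : Q := act 7 n28612
theorem D60195 : act 7 n28612 = n60195 := rfl
theorem F94748 : act 3 n60195 = n28621 := d8_1 D60195 (iv7 D28621) (iv3 F46181)
theorem F94749 : act 4 n60195 = n38564 := d11_1 D60195 (iv7 D38564) (iv4 F46182)
def n60196 : Q := act 3 n28613
theorem D60196 : act 3 n28613 = n60196 := rfl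
theorem F94750 : act 4 n60196 = n33193 := d5_2 (iv4 F46183) D60196 (iv3 D33193) (iv4 D16020) (iv3 F25506)
def n60197 : Q := act 6 n28613
theorem D60197 : act 6 n28613 = n60197 := rfl
theorem F94751 : act 4 n60197 = n33189 := d10_1 D60197 (iv6 D33189) (iv4 F46183)
def n60198 : Q := act 3 n28614
theorem D60198 : act 3 n28614 = n60198 := rfl
theorem F94752 : act 4 n60198 = n32686 := d5_2 (iv4 F46186) D60198 (iv3 D32686) F26494 (iv3 F26952)
theorem F94753 : act 0 n60198 = n39944 := d20_4 (iv4 F50741) F50737 (iv4 F46186) D60198 (iv3 D39944) (iv4 D18888) (iv1 D8847) D8848 (iv3 F22812) (iv1 F46170)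
def n60199 : Q := act 6 n28614
theorem D60199 : act 6 n28614 = n60199 := rfl
theorem F94754 : act 4 n60199 = n33381 := d10_1 D60199 (iv6 D33381) (iv4 F46186)
def n60200 : Q := act 2 n28615
theorem D60200 : act 2 n28615 = n60200 := rfl
theorem F94755 : act 4 n60200 = n33254 := d1_2 (iv4 F46187) D60200 F52490
theorem F94756 : act 5 n60200 = n33229 := d2_2 F56673 D60200 (iv2 F56670)
theorem F94757 : act 1 n60200 = n52646 := d15_0 (iv0 F86968) F86966 D60200
theorem F94758 : act 1 n55055 = n60200 := d15_0 F94757 F83193 (iv2 F87073)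
def n60201 : Q := act 6 n28615
theorem D60201 : act 6 n28615 = n60201 := rfl
theorem F94759 : act 3 n60201 = n28617 := d7_1 D60201 (iv6 D28617) D28615
theorem F94760 : act 4 n60201 = n38559 := d10_1 D60201 (iv6 D38559) (iv4 F46187)
def n60202 : Q := act 0 n28616
theorem D60202 : act 0 n28616 = n60202 := rfl
theorem F94761 : act 5 n60202 = n33413 := d17_1 D60202 F52681 (iv5 F90845) (iv4 D57665) F44446 (iv0 D16657) D16659 F27291 (iv4 F46188)
theorem F94762 : act 4 n60202 = n33438 := d18_1 D60202 F52725 D58291 F92156 (iv4 F50741) F50738 (iv4 F46183) (iv0 D28613) D28616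
theorem F94763 : act 1 n28626 = n60202 := d15_0 (iv0 D60202) (iv7 F90820) F90817
theorem F94764 : act 2 n60071 = n60202 := d1_3 F94762 F52899 (iv4 F94613)
theorem F94765 : act 7 n60068 = n60202 := d11_0 F94762 F52895 (iv4 F94607)
def n60203 : Q := act 1 n28616
theorem D60203 : act 1 n28616 = n60203 := rfl
theorem F94766 : act 1 n60203 = n28626 := d15_1 D60203 (iv7 F90790) F90789
theorem F94767 : act 7 n60203 = n60071 := d15_2 (iv0 D60202) D60203 F94764
theorem F94768 : act 5 n60203 = n32721 := d17_7 F37255 F11674 D7640 F25821 D13645 D28616 D60203 F51790 (iv4 D28507)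
theorem F94769 : act 4 n60203 = n33440 := d17_9 F52728 (iv5 D27757) D27754 D58260 (iv4 F94635) F94634 (iv0 D28613) D28616 D60203
theorem F94770 : act 2 n60068 = n60203 := d1_3 F94769 F52894 (iv4 F94607)
theorem F94771 : act 0 n57107 = n57216 := d20_4 (iv4 F46196) (iv1 F94766) F94769 (iv3 F90156) F90261 (iv4 F44339) F44341 F42982 F27975 F43058
theorem F94772 : act 1 n57105 = n57216 := d15_0 (iv0 F94771) (iv7 F94618) F94622
theorem F94773 : act 1 n57476 = n57105 := d15_0 F94772 F90262 (iv2 F90649)
theorem F94774 : act 1 n57107 = n57476 := d15_0 F94773 F94621 (iv2 F94619)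
def n60204 : Q := act 6 n28616
theorem D60204 : act 6 n28616 = n60204 := rfl
theorem F94775 : act 4 n60204 = n33671 := d10_1 D60204 (iv6 D33671) (iv4 F46188)
def n60205 : Q := act 0 n28617
theorem D60205 : act 0 n28617 = n60205 := rfl
def n60206 : Q := act 1 n28617
theorem D60206 : act 1 n28617 = n60206 := rfl
def n60207 : Q := act 5 n28617
theorem D60207 : act 5 n28617 = n60207 := rfl
def n60208 : Q := act 7 n28617
theorem D60208 : act 7 n28617 = n60208 := rfl
theorem F94776 : act 4 n60208 = n28621 := d11_1 D60208 (iv7 D28621) (iv4 F46189)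
def n60209 : Q := act 2 n28618
theorem D60209 : act 2 n28618 = n60209 := rfl
def n60210 : Q := act 3 n28618
theorem D60210 : act 3 n28618 = n60210 := rfl
def n60211 : Q := act 4 n28618
theorem D60211 : act 4 n28618 = n60211 := rfl
def n60212 : Q := act 5 n28618
theorem D60212 : act 5 n28618 = n60212 := rfl
def n60213 : Q := act 6 n28618
theorem D60213 : act 6 n28618 = n60213 := rfl
def n60214 : Q := act 7 n28618
theorem D60214 : act 7 n28618 = n60214 := rfl
def n60219 : Q := act 0 n28620
theorem D60219 : act 0 n28620 = n60219 := rfl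
def n60220 : Q := act 1 n28620
theorem D60220 : act 1 n28620 = n60220 := rfl
theorem F94779 : act 5 n60145 = n60220 := d21_6 (iv5 D13587) (iv1 F10552) D6483 D13626 D28583 D60145 (iv1 D60220) (iv5 D28620) (iv6 D13647) (iv1 F22770)
def n60221 : Q := act 4 n28620
theorem D60221 : act 4 n28620 = n60221 := rfl
theorem F94780 : act 6 n60221 = n52812 := d10_2 F53371 D60221 F83446
theorem F94781 : act 3 n52816 = n60221 := d7_3 F94780 F83445 D52816
def n60222 : Q := act 7 n28620
theorem D60222 : act 7 n28620 = n60222 := rfl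
theorem F94782 : act 5 n60222 = n28621 := d13_1 D60222 (iv7 D28621) D28620
def n60223 : Q := act 3 n28623
theorem D60223 : act 3 n28623 = n60223 := rfl
theorem F94783 : act 4 n60223 = n28625 := d5_2 D28623 D60223 (iv3 D28625) (iv4 D13650) D13649
def n60224 : Q := act 6 n28623
theorem D60224 : act 6 n28623 = n60224 := rfl
theorem F94784 : act 4 n60224 = n28624 := d10_1 D60224 (iv6 D28624) D28623
def n60225 : Q := act 0 n28624
theorem D60225 : act 0 n28624 = n60225 := rfl
def n60226 : Q := act 1 n28624
theorem D60226 : act 1 n28624 = n60226 := rfl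
def n60227 : Q := act 7 n28624
theorem D60227 : act 7 n28624 = n60227 := rfl
theorem F94785 : act 3 n60227 = n28631 := d8_1 D60227 (iv7 D28631) (iv3 F46195)
theorem F94786 : act 5 n60227 = n40221 := d13_1 D60227 (iv7 D40221) (iv5 F50909)
def n60228 : Q := act 0 n28625
theorem D60228 : act 0 n28625 = n60228 := rfl
theorem F94787 : act 3 n60228 = n47152 := d20_5 (iv4 D28502) (iv1 F22769) D13650 D28625 D60228 (iv4 D47152) (iv1 F74317) F74316 (iv3 D28632) (iv1 F46054)
theorem F94788 : act 4 n60228 = n45776 := d20_8 F61679 (iv1 D19181) F30297 (iv3 F30289) (iv1 F46194) D60223 F94783 D60228 F72258 (iv1 F61682)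
theorem F94789 : act 2 n55692 = n60228 := d15_3 (iv0 D60228) (iv0 F56878) (iv7 F88129)
def n60229 : Q := act 2 n28625
theorem D60229 : act 2 n28625 = n60229 := rfl
def n60230 : Q := act 5 n28625
theorem D60230 : act 5 n28625 = n60230 := rfl
theorem F94790 : act 3 n60230 = n28626 := d6_1 D60230 (iv5 D28626) D28625
theorem F94791 : act 4 n44712 = n60230 := d19_2 (iv1 F34083) D44712 F94790 (iv1 F94766) F94768 (iv4 D32721) F25129 D15633 (iv5 F26458) F26457 F26430 (iv1 D13405) F26285 D7909 F26935 (iv1 D12149) D12150 (iv4 F33514) (iv3 F34079)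
def n60231 : Q := act 6 n28625
theorem D60231 : act 6 n28625 = n60231 := rfl
theorem F94792 : act 3 n60231 = n28627 := d7_1 D60231 (iv6 D28627) D28625
def n60232 : Q := act 6 n28626
theorem D60232 : act 6 n28626 = n60232 := rfl
theorem F94793 : act 4 n60232 = n33660 := d10_1 D60232 (iv6 D33660) (iv4 F46196)
def n60233 : Q := act 0 n28627
theorem D60233 : act 0 n28627 = n60233 := rfl
def n60234 : Q := act 1 n28627
theorem D60234 : act 1 n28627 = n60234 := rfl
def n60235 : Q := act 5 n28627
theorem D60235 : act 5 n28627 = n60235 := rfl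
def n60236 : Q := act 7 n28627
theorem D60236 : act 7 n28627 = n60236 := rfl
theorem F94794 : act 4 n60236 = n28631 := d11_1 D60236 (iv7 D28631) (iv4 F46197)
def n60237 : Q := act 2 n28628
theorem D60237 : act 2 n28628 = n60237 := rfl
theorem F94795 : act 7 n28629 = n60237 := d15_2 (iv0 D28628) D28629 (iv2 D60237)
def n60242 : Q := act 7 n28628
theorem D60242 : act 7 n28628 = n60242 := rfl
theorem F94796 : act 2 n60242 = n28629 := d4_1 D60242 F94795 (iv2 D60237)
def n60243 : Q := act 3 n28629
theorem D60243 : act 3 n28629 = n60243 := rfl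
def n60244 : Q := act 4 n28629
theorem D60244 : act 4 n28629 = n60244 := rfl
def n60245 : Q := act 5 n28629
theorem D60245 : act 5 n28629 = n60245 := rfl
theorem F94797 : act 6 n60057 = n60245 := d21_5 F41701 F25426 D13604 D28525 D60057 (iv5 D60245) (iv1 D28629) D28630 F50858 (iv1 F42921)
def n60246 : Q := act 6 n28629
theorem D60246 : act 6 n28629 = n60246 := rfl
def n60247 : Q := act 0 n28630
theorem D60247 : act 0 n28630 = n60247 := rfl
def n60248 : Q := act 1 n28630
theorem D60248 : act 1 n28630 = n60248 := rfl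
theorem F94798 : act 5 n60088 = n60248 := d21_6 (iv5 D2887) D2884 D6478 D13610 D28540 D60088 (iv1 D60248) (iv5 D28630) (iv6 D13652) (iv1 D6489)
def n60249 : Q := act 7 n28630
theorem D60249 : act 7 n28630 = n60249 := rfl
theorem F94800 : act 4 n60249 = n33675 := d11_1 D60249 (iv7 D33675) F50908
theorem F94801 : act 5 n60249 = n28631 := d13_1 D60249 (iv7 D28631) D28630
def n60250 : Q := act 0 n28632
theorem D60250 : act 0 n28632 = n60250 := rfl
theorem F94802 : act 3 n60250 = n38251 := d20_5 (iv4 D33406) (iv1 F27183) (iv4 F27186) D28632 D60250 (iv4 F86964) (iv1 D54961) D54962 F86965 (iv1 F52663)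
def n60251 : Q := act 1 n28632
theorem D60251 : act 1 n28632 = n60251 := rfl
def n60252 : Q := act 2 n28632
theorem D60252 : act 2 n28632 = n60252 := rfl
theorem F94803 : act 4 n60252 = n37480 := d1_2 F74316 D60252 (iv2 F74312)
def n60253 : Q := act 5 n28632
theorem D60253 : act 5 n28632 = n60253 := rfl
theorem F94804 : act 3 n60253 = n28633 := d6_1 D60253 (iv5 D28633) D28632
def n60254 : Q := act 6 n28632
theorem D60254 : act 6 n28632 = n60254 := rfl
theorem F94805 : act 3 n60254 = n28634 := d7_1 D60254 (iv6 D28634) D28632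
def n60255 : Q := act 6 n28633
theorem D60255 : act 6 n28633 = n60255 := rfl
theorem F94806 : act 4 n60255 = n33633 := d10_1 D60255 (iv6 D33633) (iv4 F46198)
def n60256 : Q := act 0 n28634
theorem D60256 : act 0 n28634 = n60256 := rfl
def n60257 : Q := act 1 n28634
theorem D60257 : act 1 n28634 = n60257 := rfl
def n60258 : Q := act 5 n28634
theorem D60258 : act 5 n28634 = n60258 := rfl
def n60259 : Q := act 7 n28634
theorem D60259 : act 7 n28634 = n60259 := rfl
def n60260 : Q := act 0 n28635
theorem D60260 : act 0 n28635 = n60260 := rfl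
theorem F94807 : act 5 n60260 = n52690 := d19_1 D60260 (iv4 D52690) F40458 F27057 (iv5 D11215) (iv4 F10373) (iv3 D6365) F4303 (iv5 F26289) (iv4 F26321) (iv3 F26311) (iv1 F5296) F4725 D5957 D12523 F26485 (iv5 F25823) F22810 D28635
def n60261 : Q := act 1 n28635
theorem D60261 : act 1 n28635 = n60261 := rfl
theorem F94808 : act 4 n57599 = n60261 := d20_6 F44808 F41703 (iv4 D16270) D16269 D33652 F90815 (iv1 D60261) F46199 (iv3 D27756) D27754
theorem F94809 : act 2 n60261 = n57601 := d1_1 F94808 (iv4 D57601) D57599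
theorem F94810 : act 7 n60261 = n57606 := d11_2 F90743 F94808 (iv4 D57606)
theorem F94811 : act 2 n57606 = n60260 := d15_3 (iv0 D60260) D60261 F94810
theorem F94812 : act 7 n57601 = n60260 := d4_2 (iv7 F94810) F94809 (iv2 F94811)
theorem F94813 : act 1 n57601 = n33586 := d15_0 (iv0 F90747) (iv7 F94810) F94809
theorem F94814 : act 4 n60260 = n57604 := d11_1 F94812 (iv7 D57604) D57601
def n60262 : Q := act 2 n28635
theorem D60262 : act 2 n28635 = n60262 := rfl
theorem F94815 : act 4 n60262 = n58265 := d1_2 (iv4 F46199) D60262 (iv2 D58265)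
theorem F94816 : act 1 n60262 = n57601 := d15_0 F94813 F52878 D60262
theorem F94817 : act 1 n57606 = n60262 := d15_0 F94816 F94812 (iv2 F94811)
def n60263 : Q := act 6 n28635
theorem D60263 : act 6 n28635 = n60263 := rfl
theorem F94818 : act 3 n60263 = n28637 := d7_1 D60263 (iv6 D28637) D28635
theorem F94819 : act 4 n60263 = n58266 := d10_1 D60263 (iv6 D58266) (iv4 F46199)
def n60264 : Q := act 6 n28636
theorem D60264 : act 6 n28636 = n60264 := rfl
theorem F94820 : act 4 n60264 = n33603 := d10_1 D60264 (iv6 D33603) (iv4 F46200)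
def n60265 : Q := act 0 n28637
theorem D60265 : act 0 n28637 = n60265 := rfl
def n60266 : Q := act 1 n28637
theorem D60266 : act 1 n28637 = n60266 := rfl
def n60267 : Q := act 5 n28637
theorem D60267 : act 5 n28637 = n60267 := rfl
def n60268 : Q := act 7 n28637
theorem D60268 : act 7 n28637 = n60268 := rfl
theorem F94821 : act 4 n60268 = n58258 := d11_1 D60268 (iv7 D58258) (iv4 F46201)
def n60269 : Q := act 3 n28638
theorem D60269 : act 3 n28638 = n60269 := rfl
theorem F94822 : act 5 n60269 = n33415 := d6_2 (iv5 F46202) D60269 (iv3 D33415)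
def n60270 : Q := act 6 n28638
theorem D60270 : act 6 n28638 = n60270 := rfl
theorem F94823 : act 4 n60270 = n33531 := d10_1 D60270 (iv6 D33531) (iv4 F46203)
def n60271 : Q := act 3 n28639
theorem D60271 : act 3 n28639 = n60271 := rfl
theorem F94824 : act 4 n60271 = n34860 := d5_2 F46207 D60271 (iv3 F83449) F83451 F52732
theorem F94825 : act 5 n60271 = n33519 := d6_2 (iv5 F46206) D60271 (iv3 D33519)
theorem F94826 : act 7 n60271 = n52810 := d8_2 F52627 D60271 F83443
theorem F94827 : act 2 n60271 = n52815 := d16_9 (iv4 D52815) (iv5 D25638) D25637 D52814 F83451 (iv5 D33445) (iv4 F52625) F83444 (iv7 F94826)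
theorem F94828 : act 1 n52690 = n60271 := d18_6 D16897 D34852 F55117 F37429 D25575 D52690 F94824 (iv0 D34860) (iv5 D16900)
def n60272 : Q := act 6 n28639
theorem D60272 : act 6 n28639 = n60272 := rfl
theorem F94829 : act 4 n60272 = n33450 := d10_1 D60272 (iv6 D33450) F46207
def n60273 : Q := act 0 n28640
theorem D60273 : act 0 n28640 = n60273 := rfl
def n60274 : Q := act 1 n28640
theorem D60274 : act 1 n28640 = n60274 := rfl
def n60275 : Q := act 5 n28640
theorem D60275 : act 5 n28640 = n60275 := rfl
theorem F94830 : act 6 n60275 = n28644 := d12_2 D28640 D60275 (iv5 D28644) (iv6 D13656) D13655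
def n60276 : Q := act 7 n28640
theorem D60276 : act 7 n28640 = n60276 := rfl
def n60277 : Q := act 6 n28641
theorem D60277 : act 6 n28641 = n60277 := rfl
theorem F94831 : act 2 n60277 = n33680 := d3_1 D60277 (iv6 D33680) (iv2 F46208)
theorem F94832 : act 3 n60277 = n39950 := d7_1 D60277 (iv6 D39950) (iv3 F46209)
theorem F94833 : act 4 n60277 = n33570 := d10_1 D60277 (iv6 D33570) (iv4 F46210)
def n60278 : Q := act 2 n28642
theorem D60278 : act 2 n28642 = n60278 := rfl
theorem F94834 : act 7 n28643 = n60278 := d15_2 (iv0 D28642) D28643 (iv2 D60278)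
def n60279 : Q := act 3 n28642
theorem D60279 : act 3 n28642 = n60279 := rfl
def n60280 : Q := act 4 n28642
theorem D60280 : act 4 n28642 = n60280 := rfl
def n60281 : Q := act 5 n28642
theorem D60281 : act 5 n28642 = n60281 := rfl
def n60282 : Q := act 6 n28642
theorem D60282 : act 6 n28642 = n60282 := rfl
def n60283 : Q := act 7 n28642
theorem D60283 : act 7 n28642 = n60283 := rfl
theorem F94835 : act 2 n60283 = n28643 := d4_1 D60283 F94834 (iv2 D60278)
def n60284 : Q := act 3 n28643
theorem D60284 : act 3 n28643 = n60284 := rfl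
def n60285 : Q := act 5 n28643
theorem D60285 : act 5 n28643 = n60285 := rfl
def n60286 : Q := act 6 n28643
theorem D60286 : act 6 n28643 = n60286 := rfl
def n60287 : Q := act 0 n28644
theorem D60287 : act 0 n28644 = n60287 := rfl
def n60288 : Q := act 1 n28644
theorem D60288 : act 1 n28644 = n60288 := rfl
def n60289 : Q := act 4 n28644
theorem D60289 : act 4 n28644 = n60289 := rfl
def n60290 : Q := act 7 n28644
theorem D60290 : act 7 n28644 = n60290 := rfl
theorem F94836 : act 5 n60290 = n28645 := d13_1 D60290 (iv7 D28645) D28644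
def n60291 : Q := act 0 n28646
theorem D60291 : act 0 n28646 = n60291 := rfl
def n60292 : Q := act 1 n28646
theorem D60292 : act 1 n28646 = n60292 := rfl
theorem F94837 : act 4 n58316 = n60292 := d20_6 (iv4 D3921) (iv1 F4241) (iv4 F9807) (iv3 F22058) (iv1 F44859) D58316 (iv1 D60292) F46214 F22815 (iv1 F30046)
def n60293 : Q := act 5 n28646
theorem D60293 : act 5 n28646 = n60293 := rfl
theorem F94838 : act 3 n60293 = n39951 := d6_1 D60293 (iv5 D39951) (iv3 F46213)
def n60294 : Q := act 0 n28647
theorem D60294 : act 0 n28647 = n60294 := rfl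
theorem F94839 : act 1 n28652 = n60294 := d15_0 (iv0 D60294) (iv7 F46215) (iv2 F46216)
def n60296 : Q := act 3 n28647
theorem D60296 : act 3 n28647 = n60296 := rfl
theorem F94841 : act 7 n60296 = n28653 := d8_2 F46215 D60296 (iv3 D28653)
def n60297 : Q := act 4 n28647
theorem D60297 : act 4 n28647 = n60297 := rfl
theorem F94842 : act 2 n60297 = n28649 := d1_1 D60297 (iv4 D28649) D28647
theorem F94843 : act 7 n60297 = n28654 := d11_2 F46215 D60297 (iv4 D28654)
def n60298 : Q := act 5 n28647
theorem D60298 : act 5 n28647 = n60298 := rfl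
theorem F94844 : act 2 n60298 = n28650 := d2_1 D60298 (iv5 D28650) D28647
theorem F94845 : act 7 n60298 = n28655 := d13_2 F46215 D60298 (iv5 D28655)
def n60299 : Q := act 6 n28647
theorem D60299 : act 6 n28647 = n60299 := rfl
theorem F94846 : act 2 n60299 = n28651 := d3_1 D60299 (iv6 D28651) D28647
def n60300 : Q := act 0 n28648
theorem D60300 : act 0 n28648 = n60300 := rfl
def n60301 : Q := act 1 n28648
theorem D60301 : act 1 n28648 = n60301 := rfl
def n60302 : Q := act 2 n28648
theorem D60302 : act 2 n28648 = n60302 := rfl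
def n60303 : Q := act 5 n28648
theorem D60303 : act 5 n28648 = n60303 := rfl
theorem F94847 : act 3 n60303 = n28650 := d6_1 D60303 (iv5 D28650) D28648
def n60304 : Q := act 6 n28648
theorem D60304 : act 6 n28648 = n60304 := rfl
theorem F94848 : act 3 n60304 = n28651 := d7_1 D60304 (iv6 D28651) D28648
def n60305 : Q := act 7 n28648
theorem D60305 : act 7 n28648 = n60305 := rfl
theorem F94849 : act 3 n60305 = n28652 := d8_1 D60305 (iv7 D28652) D28648
def n60306 : Q := act 0 n28649
theorem D60306 : act 0 n28649 = n60306 := rfl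
theorem F94850 : act 4 n60306 = n33936 := d20_2 D28649 D60306 (iv3 D33936) (iv1 D16407) (iv3 D7610) D7611 F28954 F5673 (iv3 F10558) D13658
def n60307 : Q := act 1 n28649
theorem D60307 : act 1 n28649 = n60307 := rfl
theorem F94851 : act 1 n60307 = n28654 := d15_1 D60307 (iv7 F94843) F94842
def n60308 : Q := act 3 n28649
theorem D60308 : act 3 n28649 = n60308 := rfl
def n60309 : Q := act 5 n28649
theorem D60309 : act 5 n28649 = n60309 := rfl
def n60310 : Q := act 6 n28649
theorem D60310 : act 6 n28649 = n60310 := rfl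
theorem F94852 : act 4 n60310 = n28651 := d10_1 D60310 (iv6 D28651) D28649
def n60311 : Q := act 7 n28649
theorem D60311 : act 7 n28649 = n60311 := rfl
theorem F94853 : act 2 n60311 = n28654 := d4_1 D60311 (iv7 F94843) F94842
theorem F94854 : act 4 n60311 = n28652 := d11_1 D60311 (iv7 D28652) D28649
theorem F94855 : act 1 n28654 = n60306 := d15_0 (iv0 D60306) D60311 F94853
def n60312 : Q := act 0 n28650
theorem D60312 : act 0 n28650 = n60312 := rfl
theorem F94856 : act 5 n60312 = n60150 := d21_2 D28650 D60312 (iv6 D60150) (iv1 D28584) (iv6 D13626) (iv5 D6483) (iv1 D2885) D2887 D6491 D13658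
def n60313 : Q := act 1 n28650
theorem D60313 : act 1 n28650 = n60313 := rfl
theorem F94857 : act 1 n60313 = n28655 := d15_1 D60313 (iv7 F94845) F94844
def n60314 : Q := act 4 n28650
theorem D60314 : act 4 n28650 = n60314 := rfl
def n60315 : Q := act 6 n28650
theorem D60315 : act 6 n28650 = n60315 := rfl
def n60316 : Q := act 7 n28650
theorem D60316 : act 7 n28650 = n60316 := rfl
theorem F94858 : act 2 n60316 = n28655 := d4_1 D60316 (iv7 F94845) F94844
theorem F94859 : act 5 n60316 = n28652 := d13_1 D60316 (iv7 D28652) D28650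
theorem F94860 : act 1 n28655 = n60312 := d15_0 (iv0 D60312) D60316 F94858
def n60317 : Q := act 0 n28651
theorem D60317 : act 0 n28651 = n60317 := rfl
def n60318 : Q := act 1 n28651
theorem D60318 : act 1 n28651 = n60318 := rfl
def n60319 : Q := act 5 n28651
theorem D60319 : act 5 n28651 = n60319 := rfl
theorem F94861 : act 0 n60319 = n50024 := d21_7 (iv5 D6483) (iv1 D2885) D2887 D6491 D13658 D28651 D60319 F79168 (iv6 D28533) (iv1 F22794)
theorem F94862 : act 1 n60319 = n50035 := d15_1 (iv0 F94861) (iv7 D50035) (iv2 F79166)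
def n60320 : Q := act 7 n28651
theorem D60320 : act 7 n28651 = n60320 := rfl
def n60321 : Q := act 6 n28652
theorem D60321 : act 6 n28652 = n60321 := rfl
theorem F94863 : act 2 n60321 = n28656 := d3_1 D60321 (iv6 D28656) (iv2 F46216)
def n60322 : Q := act 0 n28653
theorem D60322 : act 0 n28653 = n60322 := rfl
theorem F94864 : act 4 n60322 = n55196 := d20_0 (iv1 F87327) (iv4 D33889) F53136 (iv1 F53133) D33936 (iv4 F94850) (iv1 F94855) (iv4 D28654) D28653 D60322
def n60323 : Q := act 1 n28653
theorem D60323 : act 1 n28653 = n60323 := rfl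
def n60324 : Q := act 2 n28653
theorem D60324 : act 2 n28653 = n60324 := rfl
def n60325 : Q := act 4 n28653
theorem D60325 : act 4 n28653 = n60325 := rfl
theorem F94865 : act 0 n33881 = n60325 := d20_1 D33881 (iv4 D60325) (iv3 D28653) (iv1 D13659) F10558 (iv4 F5673) (iv1 F28953) (iv4 D7606) D7605 D16383
def n60326 : Q := act 5 n28653
theorem D60326 : act 5 n28653 = n60326 := rfl
theorem F94866 : act 3 n60326 = n28655 := d6_1 D60326 (iv5 D28655) D28653
def n60327 : Q := act 6 n28653
theorem D60327 : act 6 n28653 = n60327 := rfl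
theorem F94867 : act 3 n60327 = n28656 := d7_1 D60327 (iv6 D28656) D28653
def n60328 : Q := act 3 n28654
theorem D60328 : act 3 n28654 = n60328 := rfl
def n60329 : Q := act 5 n28654
theorem D60329 : act 5 n28654 = n60329 := rfl
def n60330 : Q := act 6 n28654
theorem D60330 : act 6 n28654 = n60330 := rfl
theorem F94868 : act 4 n60330 = n28656 := d10_1 D60330 (iv6 D28656) D28654
def n60331 : Q := act 4 n28655
theorem D60331 : act 4 n28655 = n60331 := rfl
def n60332 : Q := act 6 n28655
theorem D60332 : act 6 n28655 = n60332 := rfl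
def n60333 : Q := act 0 n28656
theorem D60333 : act 0 n28656 = n60333 := rfl
def n60334 : Q := act 1 n28656
theorem D60334 : act 1 n28656 = n60334 := rfl
def n60335 : Q := act 5 n28656
theorem D60335 : act 5 n28656 = n60335 := rfl
theorem F94869 : act 0 n60087 = n60335 := d21_1 D60087 (iv5 D60335) (iv6 D28656) (iv1 D13659) (iv6 D6491) (iv5 D2887) D2884 D6478 D13610 D28540
def n60336 : Q := act 7 n28656
theorem D60336 : act 7 n28656 = n60336 := rfl
def n60337 : Q := act 2 n28657
theorem D60337 : act 2 n28657 = n60337 := rfl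
theorem F94870 : act 7 n28658 = n60337 := d15_2 (iv0 D28657) D28658 (iv2 D60337)
def n60338 : Q := act 3 n28657
theorem D60338 : act 3 n28657 = n60338 := rfl
theorem F94871 : act 4 n60338 = n38566 := d20_6 (iv4 F29958) (iv1 D8851) (iv4 F10564) (iv3 F22815) D28657 D60338 (iv1 F59392) F29552 F13646 (iv1 F9803)
def n60339 : Q := act 4 n28657
theorem D60339 : act 4 n28657 = n60339 := rfl
def n60340 : Q := act 5 n28657
theorem D60340 : act 5 n28657 = n60340 := rfl
def n60341 : Q := act 6 n28657
theorem D60341 : act 6 n28657 = n60341 := rfl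
def n60342 : Q := act 7 n28657
theorem D60342 : act 7 n28657 = n60342 := rfl
theorem F94872 : act 2 n60342 = n28658 := d4_1 D60342 F94870 (iv2 D60337)
def n60343 : Q := act 3 n28658
theorem D60343 : act 3 n28658 = n60343 := rfl
def n60344 : Q := act 4 n28658
theorem D60344 : act 4 n28658 = n60344 := rfl
def n60345 : Q := act 5 n28658
theorem D60345 : act 5 n28658 = n60345 := rfl
def n60346 : Q := act 6 n28658
theorem D60346 : act 6 n28658 = n60346 := rfl
def n60347 : Q := act 0 n28659
theorem D60347 : act 0 n28659 = n60347 := rfl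
def n60348 : Q := act 1 n28659
theorem D60348 : act 1 n28659 = n60348 := rfl
def n60349 : Q := act 4 n28659
theorem D60349 : act 4 n28659 = n60349 := rfl
theorem F94873 : act 6 n60349 = n28671 := d10_2 (iv6 F46218) D60349 (iv4 D28671)
def n60350 : Q := act 5 n28661
theorem D60350 : act 5 n28661 = n60350 := rfl
theorem F94874 : act 3 n60350 = n28662 := d6_1 D60350 (iv5 D28662) D28661
def n60351 : Q := act 4 n28662
theorem D60351 : act 4 n28662 = n60351 := rfl
theorem F94875 : act 0 n60351 = n33559 := d18_2 (iv1 F87432) D60351 (iv4 D33559) D33560 (iv4 F54113) (iv0 F84939) F84937 F79147 (iv5 F87429)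
theorem F94876 : act 1 n60351 = n33335 := d18_6 (iv1 F50793) (iv4 F20934) D26349 (iv4 F42093) D28662 D60351 (iv4 D33335) (iv0 F54107) (iv5 D7560)
def n60352 : Q := act 6 n28662
theorem D60352 : act 6 n28662 = n60352 := rfl
def n60353 : Q := act 3 n28669
theorem D60353 : act 3 n28669 = n60353 := rfl
def n60354 : Q := act 4 n28669
theorem D60354 : act 4 n28669 = n60354 := rfl
theorem F94877 : act 0 n60354 = n33550 := d18_2 D28669 D60354 (iv4 D33550) (iv5 D16215) F50839 (iv0 F50832) (iv4 F42093) (iv0 D13662) D13664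
theorem F94878 : act 1 n60354 = n32974 := d18_6 (iv1 F54471) F41216 D31675 F55767 (iv5 F55769) D60354 (iv4 D32974) D32973 (iv5 F54469)
def n60355 : Q := act 6 n28669
theorem D60355 : act 6 n28669 = n60355 := rfl
def n60356 : Q := act 4 n28670
theorem D60356 : act 4 n28670 = n60356 := rfl
theorem F94879 : act 0 n60356 = n32974 := d18_2 F94284 D60356 (iv4 D32974) (iv5 D15877) (iv4 F20934) F50831 (iv4 F22800) (iv0 F50826) D59846
theorem F94880 : act 1 n60356 = n33550 := d18_6 F54458 (iv4 F84991) (iv1 F84994) (iv4 F79154) F79155 D60356 (iv4 D33550) F52145 (iv5 F54457)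
def n60357 : Q := act 6 n28670
theorem D60357 : act 6 n28670 = n60357 := rfl
def n60358 : Q := act 0 n28671
theorem D60358 : act 0 n28671 = n60358 := rfl
theorem F94881 : act 4 n60358 = n34317 := d18_3 (iv1 D28670) D28671 D60358 (iv5 D34317) (iv4 F47459) F54105 (iv4 F27936) D35098 F79155
def n60359 : Q := act 1 n28671
theorem D60359 : act 1 n28671 = n60359 := rfl
theorem F94882 : act 4 n60359 = n54536 := d18_7 F50782 F50778 (iv1 D7584) (iv4 F10562) D13664 D28671 D60359 (iv0 D54536) (iv5 D26374)
def n60360 : Q := act 3 n28671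
theorem D60360 : act 3 n28671 = n60360 := rfl
theorem F94883 : act 4 n60360 = n28703 := d5_2 D28671 D60360 (iv3 D28703) (iv4 D13681) (iv3 F22816)
def n60361 : Q := act 5 n28671
theorem D60361 : act 5 n28671 = n60361 := rfl
def n60363 : Q := act 3 n28672
theorem D60363 : act 3 n28672 = n60363 := rfl
theorem F94885 : act 4 n60363 = n55197 := d20_6 F4044 D3930 (iv4 F43120) D13666 D28672 D60363 (iv1 D55197) (iv4 D26672) (iv3 D12740) (iv1 D6024)
def n60364 : Q := act 4 n28672
theorem D60364 : act 4 n28672 = n60364 := rfl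
theorem F94886 : act 0 n60364 = n55024 := d20_1 D60364 (iv4 D55024) (iv3 D26599) (iv1 D12711) F9346 F4044 D3930 (iv4 F43120) D13666 D28672
def n60365 : Q := act 5 n28672
theorem D60365 : act 5 n28672 = n60365 := rfl
def n60366 : Q := act 6 n28672
theorem D60366 : act 6 n28672 = n60366 := rfl
def n60367 : Q := act 7 n28672
theorem D60367 : act 7 n28672 = n60367 := rfl
def n60368 : Q := act 3 n28673
theorem D60368 : act 3 n28673 = n60368 := rfl
def n60372 : Q := act 4 n28674
theorem D60372 : act 4 n28674 = n60372 := rfl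
theorem F94888 : act 2 n60372 = n28675 := d1_1 D60372 (iv4 D28675) D28674
def n60373 : Q := act 5 n28674
theorem D60373 : act 5 n28674 = n60373 := rfl
theorem F94889 : act 2 n60373 = n28676 := d2_1 D60373 (iv5 D28676) D28674
def n60374 : Q := act 6 n28674
theorem D60374 : act 6 n28674 = n60374 := rfl
theorem F94890 : act 2 n60374 = n28677 := d3_1 D60374 (iv6 D28677) D28674
def n60375 : Q := act 0 n28675
theorem D60375 : act 0 n28675 = n60375 := rfl
def n60376 : Q := act 1 n28675
theorem D60376 : act 1 n28675 = n60376 := rfl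
theorem F94891 : act 4 n33931 = n60376 := d20_6 F18167 F28955 (iv4 D7611) D7610 D16406 D33931 (iv1 D60376) (iv4 D28675) (iv3 D13666) (iv1 F18171)
def n60377 : Q := act 5 n28675
theorem D60377 : act 5 n28675 = n60377 := rfl
def n60378 : Q := act 6 n28675
theorem D60378 : act 6 n28675 = n60378 := rfl
theorem F94893 : act 3 n60378 = n39799 := d7_1 D60378 (iv6 D39799) (iv3 F46221)
theorem F94894 : act 4 n60378 = n28677 := d10_1 D60378 (iv6 D28677) D28675
def n60379 : Q := act 0 n28676
theorem D60379 : act 0 n28676 = n60379 := rfl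
def n60380 : Q := act 1 n28676
theorem D60380 : act 1 n28676 = n60380 := rfl
def n60381 : Q := act 4 n28676
theorem D60381 : act 4 n28676 = n60381 := rfl
def n60382 : Q := act 6 n28676
theorem D60382 : act 6 n28676 = n60382 := rfl
theorem F94895 : act 3 n60382 = n28681 := d7_1 D60382 (iv6 D28681) (iv3 F46222)
def n60383 : Q := act 0 n28677
theorem D60383 : act 0 n28677 = n60383 := rfl
def n60384 : Q := act 1 n28677
theorem D60384 : act 1 n28677 = n60384 := rfl
def n60385 : Q := act 7 n28677
theorem D60385 : act 7 n28677 = n60385 := rfl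
theorem F94896 : act 3 n60385 = n28684 := d8_1 D60385 (iv7 D28684) (iv3 F46223)
theorem F94897 : act 5 n60385 = n50048 := d13_1 D60385 F79210 F78869
def n60386 : Q := act 3 n28678
theorem D60386 : act 3 n28678 = n60386 := rfl
theorem F94898 : act 5 n60386 = n36780 := d6_2 (iv5 F46224) D60386 F57676
def n60387 : Q := act 6 n28678
theorem D60387 : act 6 n28678 = n60387 := rfl
theorem F94899 : act 5 n60387 = n36782 := d12_1 D60387 (iv6 D36782) (iv5 D17729) D17730 (iv5 F46224)
theorem F94900 : act 7 n60387 = n31905 := d14_2 F77373 D60387 (iv6 D31905) (iv7 F77378) (iv6 F77376)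
theorem F94901 : act 0 n31820 = n49878 := d21_1 D31820 F78870 (iv6 D28681) D28678 D60387 F94899 (iv1 F84983) F49956 (iv6 F41297) (iv1 F41299)
theorem F94902 : act 0 n48932 = n31821 := d21_4 F46224 D36783 F57683 D48932 (iv6 D31821) D31820 F94901 F78870 (iv6 D28681) D28678
def n60388 : Q := act 3 n28679
theorem D60388 : act 3 n28679 = n60388 := rfl
theorem F94903 : act 6 n60388 = n31907 := d7_2 (iv6 F52090) D60388 (iv3 D31907)
def n60389 : Q := act 3 n28680
theorem D60389 : act 3 n28680 = n60389 := rfl
def n60390 : Q := act 6 n28680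
theorem D60390 : act 6 n28680 = n60390 := rfl
theorem F94904 : act 4 n60390 = n28681 := d10_1 D60390 (iv6 D28681) D28680
def n60391 : Q := act 1 n28681
theorem D60391 : act 1 n28681 = n60391 := rfl
theorem F94905 : act 5 n34276 = n60391 := d21_0 (iv1 D60391) (iv5 F78870) (iv6 D49878) (iv1 D24320) (iv6 D11449) (iv5 D5333) (iv1 F5508) D7713 D16594 D34276
def n60392 : Q := act 7 n28681
theorem D60392 : act 7 n28681 = n60392 := rfl
theorem F94906 : act 6 n60392 = n31866 := d14_1 D60392 F50173 F49892 F44682 D28681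
def n60393 : Q := act 3 n28683
theorem D60393 : act 3 n28683 = n60393 := rfl
theorem F94907 : act 6 n60393 = n36749 := d7_2 F46230 D60393 (iv3 D36749)
theorem F94908 : act 7 n60393 = n32716 := d8_2 (iv7 F46231) D60393 F51782
def n60394 : Q := act 5 n28683
theorem D60394 : act 5 n28683 = n60394 := rfl
theorem F94909 : act 6 n60394 = n34280 := d12_2 F46230 D60394 (iv5 F86023) (iv6 D54480) F42014
theorem F94910 : act 7 n60394 = n32720 := d13_2 (iv7 F46231) D60394 (iv5 D32720)
theorem F94911 : act 0 n60394 = n32794 := d17_2 (iv1 F56392) D60394 (iv5 D32794) F38268 D16855 (iv0 F44788) F44787 F44646 (iv4 F56388)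
theorem F94912 : act 1 n60394 = n32796 := d17_6 (iv1 F13150) D17111 F28784 (iv5 F28782) (iv4 F46229) D60394 (iv5 D32796) F25183 F24900
theorem F94913 : act 0 n49878 = n31815 := d21_10 (iv5 D31815) (iv1 F41300) (iv5 F54373) F54374 (iv1 F54378) (iv6 F94909) (iv5 D60394) (iv1 D28683) F38104 D49878
def n60396 : Q := act 3 n28685
theorem D60396 : act 3 n28685 = n60396 := rfl
theorem F94915 : act 4 n60396 = n55159 := d20_6 (iv4 F9815) (iv1 F9817) F43124 D13671 D28685 D60396 (iv1 D55159) (iv4 D26656) (iv3 D12735) (iv1 F9360)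
def n60397 : Q := act 4 n28685
theorem D60397 : act 4 n28685 = n60397 := rfl
def n60401 : Q := act 3 n28686
theorem D60401 : act 3 n28686 = n60401 := rfl
theorem F94917 : act 4 n55005 = n60401 := d20_2 D26595 D55005 (iv3 D60401) (iv1 D28686) (iv3 D13671) (iv4 F43124) (iv1 D3931) (iv4 F4044) (iv3 F9346) D12710
def n60402 : Q := act 4 n28686
theorem D60402 : act 4 n28686 = n60402 := rfl
def n60403 : Q := act 5 n28686
theorem D60403 : act 5 n28686 = n60403 := rfl
def n60404 : Q := act 6 n28686
theorem D60404 : act 6 n28686 = n60404 := rfl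
def n60405 : Q := act 4 n28687
theorem D60405 : act 4 n28687 = n60405 := rfl
theorem F94918 : act 2 n60405 = n28688 := d1_1 D60405 (iv4 D28688) D28687
def n60406 : Q := act 5 n28687
theorem D60406 : act 5 n28687 = n60406 := rfl
theorem F94919 : act 2 n60406 = n28689 := d2_1 D60406 (iv5 D28689) D28687
def n60407 : Q := act 6 n28687
theorem D60407 : act 6 n28687 = n60407 := rfl
theorem F94920 : act 2 n60407 = n28690 := d3_1 D60407 (iv6 D28690) D28687
def n60408 : Q := act 0 n28688
theorem D60408 : act 0 n28688 = n60408 := rfl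
def n60409 : Q := act 1 n28688
theorem D60409 : act 1 n28688 = n60409 := rfl
theorem F94921 : act 4 n33880 = n60409 := d20_6 (iv4 F5673) (iv1 F28953) (iv4 D7606) D7605 D16383 D33880 (iv1 D60409) (iv4 D28688) (iv3 D13671) (iv1 D6495)
def n60410 : Q := act 5 n28688
theorem D60410 : act 5 n28688 = n60410 := rfl
def n60411 : Q := act 6 n28688
theorem D60411 : act 6 n28688 = n60411 := rfl
theorem F94923 : act 3 n60411 = n39828 := d7_1 D60411 (iv6 D39828) (iv3 F46236)
theorem F94924 : act 4 n60411 = n28690 := d10_1 D60411 (iv6 D28690) D28688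
def n60412 : Q := act 0 n28689
theorem D60412 : act 0 n28689 = n60412 := rfl
def n60413 : Q := act 1 n28689
theorem D60413 : act 1 n28689 = n60413 := rfl
def n60414 : Q := act 4 n28689
theorem D60414 : act 4 n28689 = n60414 := rfl
def n60415 : Q := act 6 n28689
theorem D60415 : act 6 n28689 = n60415 := rfl
theorem F94925 : act 3 n60415 = n28692 := d7_1 D60415 (iv6 D28692) (iv3 F46237)
def n60416 : Q := act 0 n28690
theorem D60416 : act 0 n28690 = n60416 := rfl
def n60417 : Q := act 1 n28690
theorem D60417 : act 1 n28690 = n60417 := rfl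
def n60418 : Q := act 5 n28690
theorem D60418 : act 5 n28690 = n60418 := rfl
theorem F94926 : act 3 n60418 = n28695 := d6_1 D60418 (iv5 D28695) (iv3 F46238)
def n60419 : Q := act 7 n28690
theorem D60419 : act 7 n28690 = n60419 := rfl
theorem F94927 : act 3 n60419 = n28696 := d8_1 D60419 (iv7 D28696) (iv3 F46238)
def n60420 : Q := act 3 n28691
theorem D60420 : act 3 n28691 = n60420 := rfl
def n60421 : Q := act 6 n28691
theorem D60421 : act 6 n28691 = n60421 := rfl
theorem F94928 : act 4 n60421 = n28692 := d10_1 D60421 (iv6 D28692) D28691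
theorem F94929 : act 0 n31151 = n60421 := d21_4 F20472 (iv1 F20358) (iv5 F24379) D31151 (iv6 D60421) F85626 (iv1 D54275) (iv5 D26240) (iv6 D12441) (iv1 F20470)
def n60422 : Q := act 5 n28692
theorem D60422 : act 5 n28692 = n60422 := rfl
theorem F94930 : act 6 n60422 = n28695 := d12_2 D28692 D60422 (iv5 D28695) (iv6 D13674) D13673
def n60423 : Q := act 3 n28693
theorem D60423 : act 3 n28693 = n60423 := rfl
theorem F94931 : act 5 n60423 = n29293 := d6_2 (iv5 F46240) D60423 (iv3 D29293)
theorem F94932 : act 6 n60423 = n39621 := d7_2 F46242 D60423 (iv3 D39621)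
theorem F94933 : act 7 n60423 = n32523 := d8_2 F46243 D60423 F51598
def n60424 : Q := act 4 n28695
theorem D60424 : act 4 n28695 = n60424 := rfl
theorem F94934 : act 0 n60424 = n54615 := d18_2 (iv1 F46244) D60424 (iv4 D54615) (iv5 D26412) F42172 F9689 (iv4 F11682) F41801 D17812
def n60425 : Q := act 3 n28697
theorem D60425 : act 3 n28697 = n60425 := rfl
theorem F94936 : act 5 n60425 = n34747 := d6_2 (iv5 F46250) D60425 (iv3 D34747)
theorem F94937 : act 7 n60425 = n40246 := d8_2 F46254 D60425 (iv3 D40246)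
def n60426 : Q := act 6 n28697
theorem D60426 : act 6 n28697 = n60426 := rfl
theorem F94938 : act 2 n60426 = n40245 := d3_1 D60426 (iv6 D40245) F46253
theorem F94939 : act 4 n60426 = n39485 := d10_1 D60426 (iv6 D39485) (iv4 F46251)
theorem F94940 : act 5 n60426 = n32587 := d12_1 D60426 (iv6 F57058) F57057 (iv6 F52072) (iv5 F46250)
def n60427 : Q := act 3 n28698
theorem D60427 : act 3 n28698 = n60427 := rfl
theorem F94941 : act 5 n60427 = n34781 := d6_2 F46261 D60427 (iv3 D34781)
theorem F94942 : act 7 n60427 = n40244 := d8_2 (iv7 F46260) D60427 (iv3 D40244)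
def n60428 : Q := act 6 n28698
theorem D60428 : act 6 n28698 = n60428 := rfl
theorem F94943 : act 2 n60428 = n40247 := d3_1 D60428 (iv6 D40247) (iv2 F46262)
theorem F94944 : act 4 n60428 = n39487 := d10_1 D60428 (iv6 D39487) F46263
def n60429 : Q := act 3 n28699
theorem D60429 : act 3 n28699 = n60429 := rfl
theorem F94945 : act 6 n60429 = n28703 := d7_2 (iv6 F46265) D60429 (iv3 D28703)
def n60430 : Q := act 5 n28699
theorem D60430 : act 5 n28699 = n60430 := rfl
theorem F94946 : act 2 n60430 = n40249 := d2_1 D60430 (iv5 D40249) (iv2 F46264)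
theorem F94947 : act 4 n60430 = n32809 := d9_1 D60430 F51951 F25204 F12789 F30050 D18743 D39589 F60463 (iv4 D32402) (iv5 D15299) F11560 (iv5 F5886) (iv4 F10564) D13678 D28699
theorem F94948 : act 7 n60430 = n32808 := d13_2 F60388 D60430 (iv5 F60385)
theorem F94949 : act 0 n60430 = n39428 := d17_2 (iv1 F46267) D60430 F60362 (iv4 D27799) (iv5 D13266) (iv0 D6296) D6298 D13274 D27819
theorem F94950 : act 1 n60430 = n55548 := d17_6 (iv1 F29989) (iv5 D8810) F30047 D13678 D28699 D60430 F87845 (iv0 F60478) (iv4 D39611)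
def n60431 : Q := act 0 n28700
theorem D60431 : act 0 n28700 = n60431 := rfl
def n60432 : Q := act 1 n28700
theorem D60432 : act 1 n28700 = n60432 := rfl
def n60433 : Q := act 7 n28700
theorem D60433 : act 7 n28700 = n60433 := rfl
def n60434 : Q := act 4 n28701
theorem D60434 : act 4 n28701 = n60434 := rfl
theorem F94951 : act 2 n60434 = n31659 := d1_1 D60434 (iv4 D31659) (iv2 F46268)
def n60435 : Q := act 6 n28701
theorem D60435 : act 6 n28701 = n60435 := rfl
theorem F94952 : act 2 n60435 = n31645 := d3_1 D60435 F49946 (iv2 F46268)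
theorem F94953 : act 3 n60435 = n28702 := d7_1 D60435 (iv6 D28702) D28701
theorem F94954 : act 5 n60435 = n31626 := d12_1 D60435 (iv6 D31626) (iv5 D14879) D14880 (iv5 F46269)
def n60436 : Q := act 0 n28702
theorem D60436 : act 0 n28702 = n60436 := rfl
theorem F94955 : act 6 n60436 = n32866 := d21_5 F26516 F24536 F22829 D28702 D60436 (iv5 D32866) (iv1 D15817) D15818 F25315 D15830
def n60437 : Q := act 1 n28702
theorem D60437 : act 1 n28702 = n60437 := rfl
def n60438 : Q := act 7 n28702
theorem D60438 : act 7 n28702 = n60438 := rfl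
def n60439 : Q := act 0 n28703
theorem D60439 : act 0 n28703 = n60439 := rfl
def n60440 : Q := act 1 n28703
theorem D60440 : act 1 n28703 = n60440 := rfl
def n60441 : Q := act 2 n28703
theorem D60441 : act 2 n28703 = n60441 := rfl
def n60442 : Q := act 5 n28703
theorem D60442 : act 5 n28703 = n60442 := rfl
theorem F94956 : act 3 n60442 = n28704 := d6_1 D60442 (iv5 D28704) D28703
theorem F94957 : act 7 n60442 = n34837 := d13_2 F94469 D60442 (iv5 F94468)
def n60443 : Q := act 6 n28704
theorem D60443 : act 6 n28704 = n60443 := rfl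
theorem F94958 : act 2 n60443 = n59997 := d3_1 D60443 F94467 (iv2 F46270)
theorem F94959 : act 4 n60443 = n34838 := d10_1 D60443 (iv6 D34838) (iv4 F46272)
def n60444 : Q := act 3 n28706
theorem D60444 : act 3 n28706 = n60444 := rfl
theorem F94960 : act 2 n60444 = n43426 := d0_1 D60444 (iv3 D43426) (iv2 F83000) (iv3 F82998) F47546
theorem F94961 : act 4 n60444 = n28707 := d5_2 D28706 D60444 (iv3 D28707) (iv4 D13683) (iv3 F22830)
theorem F94962 : act 5 n60444 = n53088 := d6_2 (iv5 F46282) D60444 (iv3 D53088)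
theorem F94963 : act 6 n60444 = n29010 := d7_2 (iv6 F46281) D60444 (iv3 D29010)
theorem F94964 : act 0 n34921 = n60444 := d20_4 F20023 F12673 (iv4 F27784) (iv3 F55286) (iv3 D60444) (iv4 D28706) D28705 (iv4 F82831) (iv3 D52465) (iv1 D25461)
theorem F94965 : act 0 n32917 = n53088 := d21_1 D32917 (iv5 F94962) F94963 (iv1 F46646) F37988 D32411 F51459 (iv5 D23774) D23775 F42404
def n60445 : Q := act 0 n28707
theorem D60445 : act 0 n28707 = n60445 := rfl
theorem F94966 : act 6 n60445 = n35035 := d21_5 D15977 (iv1 F52347) F46805 (iv6 F46285) D60445 (iv5 F86468) (iv1 F86474) F86472 F42267 (iv1 F25402)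
theorem F94967 : act 5 n60445 = n55221 := d21_0 (iv1 F87375) (iv5 D33013) (iv6 F38069) (iv1 F50587) F50592 D15977 (iv1 F52347) F46805 (iv6 F46285) D60445
theorem F94968 : act 2 n35041 = n60445 := d15_3 (iv0 D60445) (iv0 F55638) D35041
theorem F94969 : act 1 n34994 = n60445 := d15_0 (iv0 D60445) (iv7 F54569) (iv2 F55445)
theorem F94970 : act 7 n60445 = n35024 := d15_2 (iv0 F85411) F94969 F55606
def n60446 : Q := act 2 n28707
theorem D60446 : act 2 n28707 = n60446 := rfl
theorem F94971 : act 3 n60446 = n31688 := d0_2 D28707 D60446 (iv2 F49971) F42829 F23103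
theorem F94972 : act 4 n60446 = n43426 := d1_2 F94961 D60446 (iv2 F94960)
theorem F94973 : act 5 n60446 = n33014 := d2_2 (iv5 F46284) D60446 F54573
theorem F94974 : act 6 n60446 = n29569 := d3_2 (iv6 F46285) D60446 (iv2 D29569)
theorem F94975 : act 7 n60446 = n34994 := d4_2 F54569 D60446 F55445
theorem F94976 : act 1 n60446 = n35024 := d15_0 (iv0 F55609) F54569 D60446
theorem F94977 : act 1 n35041 = n60446 := d15_0 F94976 (iv7 F94970) (iv2 F94968)
theorem F94978 : act 0 n43426 = n31681 := d20_1 F94972 (iv4 D31681) (iv3 D14894) (iv1 D7087) (iv3 F11335) F11336 D14885 D31649 (iv3 F55607) (iv1 F94976)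
theorem F94979 : act 0 n43235 = n43427 := d20_1 (iv4 F67740) (iv4 D43427) D43426 F94978 F49958 (iv4 D28501) F22764 (iv4 F36957) (iv3 F82979) F82978
def n60447 : Q := act 0 n28708
theorem D60447 : act 0 n28708 = n60447 := rfl
theorem F94980 : act 5 n60447 = n34953 := d17_3 (iv1 F27678) D28708 D60447 F55321 (iv5 D16957) F27716 F27715 F18278 (iv4 F27676)
theorem F94981 : act 2 n52770 = n60447 := d15_3 (iv0 D60447) (iv0 F83220) (iv7 F83360)
theorem F94982 : act 1 n34820 = n60447 := d15_0 (iv0 D60447) F46288 (iv2 F55041)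
theorem F94983 : act 7 n60447 = n34952 := d15_2 F83221 F94982 (iv2 F83218)
def n60448 : Q := act 4 n28708
theorem D60448 : act 4 n28708 = n60448 := rfl
theorem F94984 : act 2 n60448 = n53103 := d1_1 D60448 (iv4 D53103) (iv2 F46286)
theorem F94985 : act 7 n60448 = n53098 := d11_2 (iv7 F46288) D60448 (iv4 D53098)
def n60449 : Q := act 6 n28708
theorem D60449 : act 6 n28708 = n60449 := rfl
theorem F94986 : act 2 n60449 = n53104 := d3_1 D60449 (iv6 D53104) (iv2 F46286)
theorem F94987 : act 3 n60449 = n54857 := d7_1 D60449 F86800 (iv3 F46287)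
theorem F94988 : act 5 n60449 = n54853 := d12_1 D60449 (iv6 D54853) (iv5 D26536) (iv6 F26788) D28708
def n60450 : Q := act 3 n28709
theorem D60450 : act 3 n28709 = n60450 := rfl
theorem F94989 : act 4 n60450 = n28710 := d5_2 D28709 D60450 (iv3 D28710) (iv4 D13687) (iv3 F22840)
theorem F94990 : act 6 n60450 = n31522 := d7_2 (iv6 F46290) D60450 F49864
theorem F94991 : act 7 n60450 = n53101 := d8_2 (iv7 F46291) D60450 (iv3 D53101)
def n60451 : Q := act 6 n28711
theorem D60451 : act 6 n28711 = n60451 := rfl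
theorem F94992 : act 3 n60451 = n48780 := d7_1 D60451 (iv6 D48780) F46302
theorem F94993 : act 4 n60451 = n49388 := d10_1 D60451 (iv6 D49388) (iv4 F46300)
def n60452 : Q := act 6 n28712
theorem D60452 : act 6 n28712 = n60452 := rfl
theorem F94994 : act 2 n60452 = n48819 := d3_1 D60452 (iv6 D48819) F46306
theorem F94995 : act 4 n60452 = n49391 := d10_1 D60452 (iv6 D49391) F46307
def n60453 : Q := act 3 n28713
theorem D60453 : act 3 n28713 = n60453 := rfl
theorem F94996 : act 4 n60453 = n30166 := d5_2 (iv4 F46308) D60453 (iv3 D30166) (iv4 D14319) D14318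
theorem F94997 : act 7 n60453 = n30414 := d8_2 F46310 D60453 (iv3 D30414)
def n60454 : Q := act 5 n28713
theorem D60454 : act 5 n28713 = n60454 := rfl
theorem F94998 : act 7 n60454 = n30415 := d13_2 F46310 D60454 (iv5 D30415)
theorem F94999 : act 4 n60454 = n30415 := d16_2 (iv4 F46308) D60454 (iv5 D30415) (iv4 D14447) F19469 (iv4 F37480) (iv5 F37481) (iv7 F40073) (iv2 F40071)
theorem F95000 : act 0 n60454 = n31369 := d17_2 D28713 D60454 (iv5 D31369) (iv4 D14789) (iv5 F22233) F24655 F24652 F19554 D13689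
theorem F95001 : act 1 n60454 = n31361 := d17_6 (iv1 F24046) (iv5 F24047) F37789 F37788 (iv4 F46308) D60454 (iv5 D31361) (iv0 F48670) (iv4 D30276)
theorem F95002 : act 0 n31370 = n29598 := d21_4 D60454 F95000 (iv5 D31369) D31370 (iv6 D29598) D29597 F47521 (iv5 D25297) (iv6 F22853) D28713
def n60455 : Q := act 6 n28713
theorem D60455 : act 6 n28713 = n60455 := rfl
theorem F95003 : act 4 n60455 = n30164 := d10_1 D60455 (iv6 D30164) (iv4 F46308)
def n60456 : Q := act 3 n28714
theorem D60456 : act 3 n28714 = n60456 := rfl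
theorem F95004 : act 4 n60456 = n59425 := d5_2 (iv4 F46312) D60456 (iv3 D59425) F45663 (iv3 F37473)
theorem F95005 : act 7 n60456 = n59573 := d8_2 F46323 D60456 F93996
def n60457 : Q := act 5 n28714
theorem D60457 : act 5 n28714 = n60457 := rfl
theorem F95006 : act 2 n60457 = n30415 := d2_1 D60457 (iv5 D30415) F46313
theorem F95007 : act 0 n60457 = n31361 := d17_2 (iv1 F46311) D60457 (iv5 D31361) (iv4 D14786) F22179 (iv0 F24470) (iv5 F11970) F20539 D26065
theorem F95008 : act 1 n60457 = n31369 := d17_6 D14397 (iv5 F40146) (iv1 F40147) (iv5 F37481) (iv4 F46312) D60457 (iv5 D31369) (iv0 F40136) (iv4 D14399)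
def n60458 : Q := act 6 n28714
theorem D60458 : act 6 n28714 = n60458 := rfl
theorem F95009 : act 2 n60458 = n30416 := d3_1 D60458 (iv6 D30416) F46313
theorem F95010 : act 4 n60458 = n30413 := d10_1 D60458 (iv6 D30413) (iv4 F46312)
def n60459 : Q := act 0 n28715
theorem D60459 : act 0 n28715 = n60459 := rfl
def n60460 : Q := act 1 n28715
theorem D60460 : act 1 n28715 = n60460 := rfl
def n60461 : Q := act 2 n28715
theorem D60461 : act 2 n28715 = n60461 := rfl
theorem F95011 : act 6 n60461 = n52103 := d3_2 (iv6 F46314) D60461 (iv2 D52103)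
def n60462 : Q := act 5 n28715
theorem D60462 : act 5 n28715 = n60462 := rfl
theorem F95012 : act 3 n60462 = n28716 := d6_1 D60462 (iv5 D28716) D28715
def n60463 : Q := act 0 n28716
theorem D60463 : act 0 n28716 = n60463 := rfl
theorem F95013 : act 5 n60463 = n30146 := d17_1 D60463 F48473 D53913 (iv4 F85038) (iv5 D53919) (iv0 D26072) D26075 D53929 (iv4 F85065)
theorem F95014 : act 4 n60463 = n30344 := d18_1 D60463 F48773 F49649 F49648 (iv4 D31346) F37485 (iv4 F46308) (iv0 D28713) D28716
theorem F95015 : act 1 n53906 = n60463 := d15_0 (iv0 D60463) (iv7 F49610) (iv2 F85004)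
theorem F95016 : act 7 n30344 = n60463 := d13_0 F95013 F48472 D30344
def n60464 : Q := act 1 n28716
theorem D60464 : act 1 n28716 = n60464 := rfl
theorem F95017 : act 1 n60464 = n53906 := d15_1 D60464 F85005 F46325
theorem F95018 : act 5 n60464 = n30340 := d17_7 (iv1 D12359) (iv5 D5882) F19401 D6511 D13689 D28716 D60464 F48766 (iv4 D26070)
theorem F95019 : act 2 n30344 = n60464 := d2_3 F95018 F48763 D30344
def n60465 : Q := act 6 n28716
theorem D60465 : act 6 n28716 = n60465 := rfl
theorem F95020 : act 5 n60465 = n52106 := d12_1 D60465 (iv6 D52106) (iv5 D25297) (iv6 F22853) D28716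
def n60466 : Q := act 3 n28717
theorem D60466 : act 3 n28717 = n60466 := rfl
theorem F95021 : act 4 n60466 = n28719 := d5_2 D28717 D60466 (iv3 D28719) (iv4 D13691) (iv3 F22854)
theorem F95022 : act 6 n60466 = n52141 := d7_2 (iv6 F46316) D60466 (iv3 D52141)
theorem F95023 : act 7 n60466 = n53255 := d8_2 (iv7 F46317) D60466 (iv3 D53255)
def n60467 : Q := act 5 n28717
theorem D60467 : act 5 n28717 = n60467 := rfl
theorem F95024 : act 2 n60467 = n53216 := d2_1 D60467 F84061 (iv2 F46315)
theorem F95025 : act 7 n60467 = n53215 := d13_2 (iv7 F46317) D60467 F84057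
theorem F95026 : act 4 n60467 = n50884 := d16_2 D28717 D60467 (iv5 D50884) (iv4 D24747) (iv5 D11712) D11711 D24746 F38734 F38000
theorem F95027 : act 0 n60467 = n49452 := d17_2 (iv1 F46319) D60467 (iv5 D49452) (iv4 D24136) (iv5 D11335) F10115 D5804 D12246 D25788
theorem F95028 : act 1 n60467 = n50921 := d17_6 F79549 (iv5 D24503) (iv1 F19352) D13690 D28717 D60467 F80338 F78184 (iv4 F79550)
def n60468 : Q := act 5 n28718
theorem D60468 : act 5 n28718 = n60468 := rfl
theorem F95029 : act 2 n60468 = n60454 := d2_1 D60468 (iv5 D60454) F46321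
theorem F95030 : act 4 n60468 = n60457 := d9_1 D60468 (iv5 D60457) F46312 F37481 F37480 (iv5 F19469) D14447 D30415 (iv4 F94999) (iv5 D60454) F46308 (iv5 F37788) (iv4 F40130) F40129 (iv4 F46320)
theorem F95031 : act 7 n60468 = n60457 := d13_2 (iv7 F46323) D60468 (iv5 D60457)
theorem F95032 : act 0 n60468 = n53909 := d17_2 D28718 D60468 (iv5 D53909) (iv4 D26067) (iv5 F24646) (iv0 D15012) (iv5 F18117) F22226 D13691
theorem F95033 : act 1 n60468 = n53913 := d17_6 (iv1 F40140) (iv5 D25382) D25381 F40129 (iv4 F46320) D60468 (iv5 D53913) (iv0 F48473) (iv4 D30146)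
def n60469 : Q := act 6 n28718
theorem D60469 : act 6 n28718 = n60469 := rfl
theorem F95034 : act 2 n60469 = n60455 := d3_1 D60469 (iv6 D60455) F46321
theorem F95035 : act 4 n60469 = n52201 := d10_1 D60469 (iv6 D52201) (iv4 F46320)
def n60470 : Q := act 0 n28719
theorem D60470 : act 0 n28719 = n60470 := rfl
def n60471 : Q := act 1 n28719
theorem D60471 : act 1 n28719 = n60471 := rfl
def n60472 : Q := act 2 n28719
theorem D60472 : act 2 n28719 = n60472 := rfl
theorem F95036 : act 3 n60472 = n60461 := d0_2 D28719 D60472 (iv2 D60461) (iv3 D28715) (iv2 F22856)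
theorem F95037 : act 6 n60472 = n52151 := d3_2 (iv6 F46324) D60472 (iv2 D52151)
def n60473 : Q := act 5 n28719
theorem D60473 : act 5 n28719 = n60473 := rfl
theorem F95038 : act 3 n60473 = n28720 := d6_1 D60473 (iv5 D28720) D28719
def n60474 : Q := act 0 n28720
theorem D60474 : act 0 n28720 = n60474 := rfl
theorem F95039 : act 5 n60474 = n30276 := d17_1 D60474 F48670 D31361 (iv4 F49641) (iv5 D31377) F37949 (iv5 F49654) F49656 (iv4 F49649)
theorem F95040 : act 4 n60474 = n60464 := d18_1 D60474 (iv1 D60464) F85065 F85064 F45826 F40072 (iv4 F46320) (iv0 D28718) D28720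
theorem F95041 : act 2 n60463 = n60474 := d15_3 (iv0 D60474) (iv0 F48773) F95016
theorem F95042 : act 1 n31349 = n60474 := d15_0 (iv0 D60474) (iv7 F85005) F85004
theorem F95043 : act 7 n60474 = n60464 := d15_2 (iv0 F49611) F95042 (iv2 F95019)
def n60475 : Q := act 6 n28720
theorem D60475 : act 6 n28720 = n60475 := rfl
theorem F95044 : act 2 n60475 = n60465 := d3_1 D60475 (iv6 D60465) (iv2 F46325)
theorem F95045 : act 5 n60475 = n52154 := d12_1 D60475 (iv6 D52154) (iv5 D25325) (iv6 F22857) D28720
def n60476 : Q := act 4 n28721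
theorem D60476 : act 4 n28721 = n60476 := rfl
theorem F95046 : act 2 n60476 = n28743 := d1_1 D60476 (iv4 D28743) (iv2 F46329)
theorem F95047 : act 7 n60476 = n28741 := d11_2 (iv7 F46327) D60476 (iv4 D28741)
theorem F95048 : act 0 n60476 = n29792 := d18_2 (iv1 F46326) D60476 (iv4 D29792) (iv5 D14157) F10991 (iv0 D6518) F4510 D6519 D13695
theorem F95049 : act 1 n60476 = n49351 := d18_6 (iv1 F45211) F45207 (iv1 F39756) F39753 F46328 D60476 (iv4 D49351) F46717 F46713
def n60477 : Q := act 1 n28722
theorem D60477 : act 1 n28722 = n60477 := rfl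
theorem F95050 : act 1 n60477 = n28723 := d15_1 D60477 F46334 (iv2 F46331)
theorem F95051 : act 7 n60477 = n28745 := d15_2 F78157 D60477 (iv2 F78154)
theorem F95052 : act 4 n60477 = n28738 := d18_7 F22517 (iv4 F7783) (iv1 F22512) F10991 D13693 D28722 D60477 F46370 (iv5 D13714)
theorem F95053 : act 2 n28746 = n60477 := d1_3 F95052 F47934 (iv4 F47935)
def n60478 : Q := act 3 n28722
theorem D60478 : act 3 n28722 = n60478 := rfl
theorem F95054 : act 7 n60478 = n28762 := d8_2 (iv7 F46332) D60478 (iv3 D28762)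
def n60479 : Q := act 5 n28722
theorem D60479 : act 5 n28722 = n60479 := rfl
theorem F95055 : act 2 n60479 = n28748 := d2_1 D60479 (iv5 D28748) (iv2 F46331)
theorem F95056 : act 7 n60479 = n28763 := d13_2 (iv7 F46332) D60479 (iv5 D28763)
theorem F95057 : act 1 n60479 = n30104 := d17_6 F22214 (iv5 D6520) D6518 D13693 D28722 D60479 (iv5 D30104) (iv0 F45228) (iv4 D27974)
def n60480 : Q := act 3 n28723
theorem D60480 : act 3 n28723 = n60480 := rfl
theorem F95058 : act 7 n60480 = n28747 := d8_2 (iv7 F46334) D60480 (iv3 D28747)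
def n60481 : Q := act 5 n28723
theorem D60481 : act 5 n28723 = n60481 := rfl
theorem F95059 : act 2 n60481 = n28763 := d2_1 D60481 (iv5 D28763) (iv2 F46333)
theorem F95060 : act 7 n60481 = n28748 := d13_2 (iv7 F46334) D60481 (iv5 D28748)
theorem F95061 : act 0 n60481 = n30104 := d17_2 F78156 D60481 (iv5 D30104) (iv4 D14289) (iv5 D6813) (iv0 F22517) D13714 (iv0 F37800) D49421
def n60482 : Q := act 6 n28723
theorem D60482 : act 6 n28723 = n60482 := rfl
theorem F95062 : act 2 n60482 = n28764 := d3_1 D60482 (iv6 D28764) (iv2 F46333)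
theorem F95063 : act 4 n60482 = n28724 := d10_1 D60482 (iv6 D28724) D28723
def n60483 : Q := act 3 n28725
theorem D60483 : act 3 n28725 = n60483 := rfl
theorem F95064 : act 4 n60483 = n53122 := d5_2 D28725 D60483 (iv3 D53122) (iv4 F45557) (iv3 F45558)
theorem F95065 : act 7 n60483 = n28779 := d8_2 (iv7 F46338) D60483 (iv3 D28779)
def n60484 : Q := act 5 n28725
theorem D60484 : act 5 n28725 = n60484 := rfl
theorem F95066 : act 2 n60484 = n28773 := d2_1 D60484 (iv5 D28773) (iv2 F46337)
theorem F95067 : act 7 n60484 = n28780 := d13_2 (iv7 F46338) D60484 (iv5 D28780)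
def n60485 : Q := act 6 n28725
theorem D60485 : act 6 n28725 = n60485 := rfl
theorem F95068 : act 2 n60485 = n28774 := d3_1 D60485 (iv6 D28774) (iv2 F46337)
theorem F95069 : act 4 n60485 = n28726 := d10_1 D60485 (iv6 D28726) D28725
def n60486 : Q := act 0 n28726
theorem D60486 : act 0 n28726 = n60486 := rfl
theorem F95070 : act 6 n60486 = n49263 := d21_5 F22955 F39751 (iv5 F39750) D28726 D60486 F92924 (iv1 D58783) F45172 (iv6 D13711) D13708
theorem F95071 : act 0 n60486 = n28777 := d21_4 F93125 (iv1 F92923) (iv5 F92924) (iv6 F95070) (iv6 F93018) F93017 (iv1 F92890) (iv5 F92891) F76592 F93129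
def n60487 : Q := act 1 n28726
theorem D60487 : act 1 n28726 = n60487 := rfl
theorem F95072 : act 1 n60487 = n28777 := d15_1 D60487 (iv7 D28777) (iv2 F46340)
def n60488 : Q := act 7 n28726
theorem D60488 : act 7 n28726 = n60488 := rfl
theorem F95073 : act 2 n60488 = n28777 := d4_1 D60488 (iv7 D28777) (iv2 F46340)
theorem F95074 : act 5 n60488 = n31372 := d13_1 D60488 (iv7 D31372) (iv5 F46341)
theorem F95075 : act 6 n60488 = n28784 := d14_1 D60488 (iv7 D28784) (iv6 D13726) (iv7 F22867) D28726
theorem F95076 : act 1 n28776 = n60488 := d15_1 D28776 (iv7 D60488) F46340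
theorem F95077 : act 0 n28775 = n60488 := d21_4 (iv5 F92927) (iv1 F92930) (iv5 F78376) (iv6 F78377) F95075 (iv5 F92893) (iv1 F92896) (iv5 F77780) (iv6 F82780) (iv1 F93127)
def n60489 : Q := act 3 n28727
theorem D60489 : act 3 n28727 = n60489 := rfl
theorem F95078 : act 4 n60489 = n29828 := d5_2 (iv4 F46342) D60489 (iv3 D29828) (iv4 D14175) D14174
theorem F95079 : act 7 n60489 = n28788 := d8_2 F46344 D60489 (iv3 D28788)
def n60490 : Q := act 5 n28727
theorem D60490 : act 5 n28727 = n60490 := rfl
theorem F95080 : act 2 n60490 = n28786 := d2_1 D60490 (iv5 D28786) F46343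
theorem F95081 : act 7 n60490 = n28789 := d13_2 F46344 D60490 (iv5 D28789)
theorem F95082 : act 4 n60490 = n58838 := d16_2 (iv4 F46342) D60490 (iv5 D58838) (iv4 D27974) (iv5 D13346) (iv4 F22206) F37713 (iv7 F37715) (iv2 F23844)
def n60491 : Q := act 6 n28727
theorem D60491 : act 6 n28727 = n60491 := rfl
theorem F95083 : act 2 n60491 = n28787 := d3_1 D60491 (iv6 D28787) F46343
theorem F95084 : act 4 n60491 = n29826 := d10_1 D60491 (iv6 D29826) (iv4 F46342)
def n60492 : Q := act 3 n28728
theorem D60492 : act 3 n28728 = n60492 := rfl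
theorem F95085 : act 7 n60492 = n28785 := d8_2 (iv7 F46347) D60492 (iv3 D28785)
def n60493 : Q := act 5 n28728
theorem D60493 : act 5 n28728 = n60493 := rfl
theorem F95086 : act 2 n60493 = n28789 := d2_1 D60493 (iv5 D28789) F46349
theorem F95087 : act 4 n60493 = n60484 := d9_1 D60493 (iv5 D60484) (iv4 D28725) F39750 (iv4 F39747) F37796 (iv4 F46342) D60490 F95082 (iv5 D58838) (iv4 D27974) (iv5 D13346) (iv4 F22206) F37713 (iv4 F46348)
theorem F95088 : act 7 n60493 = n28786 := d13_2 (iv7 F46347) D60493 (iv5 D28786)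
def n60494 : Q := act 6 n28728
theorem D60494 : act 6 n28728 = n60494 := rfl
theorem F95089 : act 2 n60494 = n28790 := d3_1 D60494 (iv6 D28790) F46349
theorem F95090 : act 4 n60494 = n49353 := d10_1 D60494 (iv6 D49353) (iv4 F46348)
def n60495 : Q := act 0 n28729
theorem D60495 : act 0 n28729 = n60495 := rfl
def n60496 : Q := act 1 n28729
theorem D60496 : act 1 n28729 = n60496 := rfl
def n60497 : Q := act 2 n28729
theorem D60497 : act 2 n28729 = n60497 := rfl
theorem F95091 : act 3 n60497 = n28793 := d0_2 D28729 D60497 (iv2 D28793) (iv3 D13729) (iv2 F22860)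
theorem F95092 : act 4 n60497 = n49273 := d1_2 (iv4 F46350) D60497 (iv2 D49273)
theorem F95093 : act 6 n60497 = n49273 := d3_2 (iv6 F46351) D60497 (iv2 D49273)
def n60498 : Q := act 5 n28729
theorem D60498 : act 5 n28729 = n60498 := rfl
theorem F95094 : act 3 n60498 = n28730 := d6_1 D60498 (iv5 D28730) D28729
def n60499 : Q := act 7 n28729
theorem D60499 : act 7 n28729 = n60499 := rfl
theorem F95095 : act 3 n60499 = n28731 := d8_1 D60499 (iv7 D28731) D28729
theorem F95096 : act 4 n60499 = n49275 := d11_1 D60499 (iv7 D49275) (iv4 F46350)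
def n60500 : Q := act 0 n28730
theorem D60500 : act 0 n28730 = n60500 := rfl
theorem F95097 : act 5 n60500 = n29792 := d17_3 (iv1 D28728) D28730 D60500 (iv4 D29792) (iv5 D14157) F22512 D11309 D24087 (iv4 F46348)
theorem F95098 : act 1 n28800 = n60500 := d15_0 (iv0 D60500) (iv7 F46433) (iv2 F46434)
theorem F95099 : act 4 n60481 = n60500 := d18_5 F47938 (iv4 D29382) (iv1 F23279) D28723 D60481 (iv0 D60500) (iv4 F46435) F95098 F95097
theorem F95100 : act 2 n60500 = n28796 := d1_1 F95099 (iv4 F46427) (iv2 F95059)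
theorem F95101 : act 7 n60500 = n28797 := d11_2 (iv7 F95060) F95099 (iv4 F46429)
def n60501 : Q := act 1 n28730
theorem D60501 : act 1 n28730 = n60501 := rfl
theorem F95102 : act 1 n60501 = n28800 := d15_1 D60501 (iv7 D28800) (iv2 F46352)
theorem F95103 : act 7 n60501 = n28796 := d15_2 (iv0 D60500) D60501 (iv2 F95100)
theorem F95104 : act 5 n60501 = n49351 := d17_7 (iv1 F23279) (iv5 D13695) (iv1 D6519) D6520 D13698 D28730 D60501 F78019 (iv4 D29382)
theorem F95105 : act 4 n60501 = n60479 := d18_7 (iv1 F46339) (iv4 D28725) (iv1 F22865) (iv4 F22975) (iv5 F46436) F46435 D60501 F95057 (iv5 D30104)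
theorem F95106 : act 2 n28797 = n60501 := d1_3 F95105 F95055 F46429
def n60502 : Q := act 6 n28730
theorem D60502 : act 6 n28730 = n60502 := rfl
theorem F95107 : act 2 n60502 = n28799 := d3_1 D60502 (iv6 D28799) (iv2 F46352)
theorem F95108 : act 5 n60502 = n49278 := d12_1 D60502 (iv6 D49278) (iv5 D24045) (iv6 F22861) D28730
def n60503 : Q := act 6 n28731
theorem D60503 : act 6 n28731 = n60503 := rfl
theorem F95109 : act 2 n60503 = n28801 := d3_1 D60503 (iv6 D28801) (iv2 F46353)
theorem F95110 : act 4 n60503 = n28732 := d10_1 D60503 (iv6 D28732) (iv4 F46354)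
theorem F95111 : act 7 n60503 = n49279 := d14_2 D28731 D60503 (iv6 D49279) (iv7 D24046) (iv6 F22861)
def n60504 : Q := act 4 n28733
theorem D60504 : act 4 n28733 = n60504 := rfl
theorem F95112 : act 2 n60504 = n29934 := d1_1 D60504 (iv4 D29934) (iv2 F46361)
theorem F95113 : act 7 n60504 = n29938 := d11_2 (iv7 F46363) D60504 (iv4 D29938)
theorem F95114 : act 5 n60504 = n50135 := d17_5 F38168 (iv5 D14206) F22950 D28733 D60504 (iv0 D50135) (iv5 D24451) D24449 F38359
theorem F95115 : act 0 n60504 = n30711 := d18_2 (iv1 F78952) D60504 (iv4 D30711) (iv5 D14554) D14553 F38293 (iv4 F38942) F80262 F80258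
theorem F95116 : act 1 n60504 = n30717 := d18_6 (iv1 D5377) (iv4 F8198) (iv1 F22507) D13703 D28733 D60504 (iv4 D30717) F24213 (iv5 D11545)
def n60505 : Q := act 6 n28734
theorem D60505 : act 6 n28734 = n60505 := rfl
theorem F95117 : act 3 n60505 = n28856 := d7_1 D60505 (iv6 D28856) F46366
theorem F95118 : act 5 n60505 = n49735 := d12_1 D60505 (iv6 D49735) (iv5 D24254) (iv6 F24195) (iv5 F46364)
def n60506 : Q := act 6 n28735
theorem D60506 : act 6 n28735 = n60506 := rfl
theorem F95119 : act 0 n60506 = n34129 := d21_4 (iv5 F49149) (iv1 F49152) F46368 D60506 (iv6 D34129) (iv5 D16525) F19479 D11778 F19138 D24416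
def n60507 : Q := act 1 n28736
theorem D60507 : act 1 n28736 = n60507 := rfl
theorem F95120 : act 1 n60507 = n50104 := d15_1 D60507 F79320 F79232
theorem F95121 : act 7 n60507 = n29948 := d15_2 F46676 D60507 F48148
theorem F95122 : act 4 n60507 = n29552 := d18_7 (iv1 D6762) (iv4 F11006) F22950 (iv4 D13703) D13704 D28736 D60507 F47412 (iv5 D14209)
theorem F95123 : act 2 n29553 = n60507 := d1_3 F95122 (iv2 D29552) D29553
def n60508 : Q := act 3 n28736
theorem D60508 : act 3 n28736 = n60508 := rfl
theorem F95124 : act 4 n60508 = n28747 := d5_2 D28736 D60508 (iv3 D28747) (iv4 D13710) (iv3 F22951)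
def n60509 : Q := act 5 n28736
theorem D60509 : act 5 n28736 = n60509 := rfl
theorem F95125 : act 2 n60509 = n29995 := d2_1 D60509 (iv5 F79233) F79232
theorem F95126 : act 7 n60509 = n29996 := d13_2 F79238 D60509 F79241
theorem F95127 : act 4 n60509 = n50136 := d16_2 D28736 D60509 F79406 (iv4 D49915) (iv5 D24341) (iv4 F19530) D24436 F38325 F38281
theorem F95128 : act 0 n60509 = n29999 := d17_2 (iv1 D60507) D60509 F48189 F23764 F11034 F11014 D14208 F47413 (iv4 F95122)
theorem F95129 : act 1 n60509 = n29927 := d17_6 (iv1 D24439) (iv5 D11535) (iv1 F22507) D13704 D28736 D60509 (iv5 D29927) D29925 F48089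
def n60510 : Q := act 6 n28736
theorem D60510 : act 6 n28736 = n60510 := rfl
theorem F95130 : act 4 n60510 = n28737 := d10_1 D60510 (iv6 D28737) D28736
def n60511 : Q := act 0 n28737
theorem D60511 : act 0 n28737 = n60511 := rfl
def n60512 : Q := act 1 n28737
theorem D60512 : act 1 n28737 = n60512 := rfl
def n60513 : Q := act 7 n28737
theorem D60513 : act 7 n28737 = n60513 := rfl
theorem F95131 : act 3 n60513 = n28752 := d8_1 D60513 (iv7 D28752) (iv3 F46369)
def n60514 : Q := act 3 n28739
theorem D60514 : act 3 n28739 = n60514 := rfl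
def n60515 : Q := act 6 n28739
theorem D60515 : act 6 n28739 = n60515 := rfl
theorem F95132 : act 4 n60515 = n28740 := d10_1 D60515 (iv6 D28740) D28739
def n60516 : Q := act 7 n28740
theorem D60516 : act 7 n28740 = n60516 := rfl
theorem F95133 : act 5 n60516 = n52261 := d13_1 D60516 (iv7 D52261) (iv5 F46373)
def n60517 : Q := act 3 n28741
theorem D60517 : act 3 n28741 = n60517 := rfl
def n60518 : Q := act 5 n28741
theorem D60518 : act 5 n28741 = n60518 := rfl
theorem F95134 : act 0 n60518 = n60490 := d17_2 (iv1 F46374) D60518 (iv5 D60490) F46342 (iv5 F37796) (iv0 D24121) D24122 (iv0 F37801) D28739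
theorem F95135 : act 1 n60518 = n60493 := d17_6 (iv1 F22216) (iv5 D13346) (iv1 F22228) (iv5 F22955) D28741 D60518 (iv5 D60493) F46346 F22975
def n60519 : Q := act 6 n28741
theorem D60519 : act 6 n28741 = n60519 := rfl
theorem F95136 : act 4 n60519 = n28742 := d10_1 D60519 (iv6 D28742) D28741
def n60520 : Q := act 0 n28742
theorem D60520 : act 0 n28742 = n60520 := rfl
theorem F95137 : act 5 n60520 = n59640 := d21_2 (iv5 F46375) D60520 (iv6 D59640) (iv1 D28298) (iv6 D13507) F10467 D11374 F18571 D14921 F45118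
def n60521 : Q := act 1 n28742
theorem D60521 : act 1 n28742 = n60521 := rfl
def n60522 : Q := act 7 n28742
theorem D60522 : act 7 n28742 = n60522 := rfl
theorem F95138 : act 5 n60522 = n49628 := d13_1 D60522 F78388 (iv5 F46375)
theorem F95139 : act 6 n60522 = n49248 := d14_1 D60522 F77799 (iv6 F46979) F46327 D28742
def n60523 : Q := act 3 n28743
theorem D60523 : act 3 n28743 = n60523 := rfl
theorem F95140 : act 4 n60523 = n28825 := d5_2 D28743 D60523 (iv3 D28825) (iv4 D13740) (iv3 F22960)
def n60524 : Q := act 5 n28743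
theorem D60524 : act 5 n28743 = n60524 := rfl
theorem F95141 : act 4 n60524 = n60518 := d16_2 D28743 D60524 (iv5 D60518) (iv4 D28741) F22955 F22145 (iv5 F22955) (iv7 F46327) F46329
theorem F95142 : act 0 n60524 = n60493 := d17_2 F46396 D60524 (iv5 D60493) F46348 (iv5 F37713) F39322 (iv5 F46371) F46370 D28759
theorem F95143 : act 1 n60524 = n60490 := d17_6 D13697 F39750 (iv1 D25233) F22959 D28743 D60524 (iv5 D60490) (iv0 D28727) (iv4 D13698)
def n60525 : Q := act 6 n28743
theorem D60525 : act 6 n28743 = n60525 := rfl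
theorem F95144 : act 4 n60525 = n28744 := d10_1 D60525 (iv6 D28744) D28743
theorem F95145 : act 0 n60525 = n49289 := d21_4 D60490 (iv1 F95143) (iv5 D60524) D60525 (iv6 D49289) (iv5 F77870) (iv1 D49277) (iv5 D24045) (iv6 F22861) D28727
def n60526 : Q := act 3 n28745
theorem D60526 : act 3 n28745 = n60526 := rfl
def n60527 : Q := act 5 n28745
theorem D60527 : act 5 n28745 = n60527 := rfl
theorem F95146 : act 0 n60527 = n60484 := d17_2 D28745 D60527 (iv5 D60484) (iv4 D28725) F39750 (iv0 F39751) (iv5 F22955) (iv0 D13708) D13710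
theorem F95147 : act 1 n60527 = n58838 := d17_6 (iv1 F37724) (iv5 F23840) (iv1 F39325) (iv5 F46713) (iv4 F46715) D60527 (iv5 D58838) F78031 F78030
def n60528 : Q := act 6 n28745
theorem D60528 : act 6 n28745 = n60528 := rfl
def n60529 : Q := act 3 n28746
theorem D60529 : act 3 n28746 = n60529 := rfl
def n60530 : Q := act 5 n28746
theorem D60530 : act 5 n28746 = n60530 := rfl
theorem F95148 : act 0 n60530 = n58838 := d17_2 (iv1 F46381) D60530 (iv5 D58838) (iv4 D27974) (iv5 D13346) (iv0 F22227) F22959 F22958 D13716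
theorem F95149 : act 1 n60530 = n60484 := d17_6 D14287 (iv5 F45208) (iv1 F45210) (iv5 F47933) (iv4 F47935) D60530 (iv5 D60484) F46339 (iv4 D14289)
def n60531 : Q := act 6 n28746
theorem D60531 : act 6 n28746 = n60531 := rfl
theorem F95150 : act 4 n60531 = n49199 := d10_1 D60531 (iv6 F77694) (iv4 F47935)
theorem F95151 : act 0 n60531 = n49247 := d21_4 D60484 (iv1 F95149) (iv5 D60530) D60531 (iv6 D49247) D49246 F77794 (iv5 D24082) (iv6 F23845) (iv1 F46339)
def n60532 : Q := act 0 n28747
theorem D60532 : act 0 n28747 = n60532 := rfl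
def n60533 : Q := act 1 n28747
theorem D60533 : act 1 n28747 = n60533 := rfl
def n60534 : Q := act 2 n28747
theorem D60534 : act 2 n28747 = n60534 := rfl
def n60535 : Q := act 5 n28747
theorem D60535 : act 5 n28747 = n60535 := rfl
theorem F95152 : act 3 n60535 = n28748 := d6_1 D60535 (iv5 D28748) D28747
def n60536 : Q := act 6 n28747
theorem D60536 : act 6 n28747 = n60536 := rfl
theorem F95153 : act 3 n60536 = n28749 := d7_1 D60536 (iv6 D28749) D28747
def n60537 : Q := act 0 n28748
theorem D60537 : act 0 n28748 = n60537 := rfl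
theorem F95154 : act 5 n60537 = n28771 := d17_1 D60537 (iv1 F46415) D28780 (iv4 F46420) (iv5 D28786) (iv0 D13727) D13730 D28797 (iv4 F46429)
theorem F95155 : act 4 n60537 = n30104 := d18_1 D60537 (iv1 F95057) (iv4 F95105) F95104 (iv4 D49351) F46717 (iv4 F46715) (iv0 D28745) D28748
theorem F95156 : act 1 n28763 = n60537 := d15_0 (iv0 D60537) (iv7 F95060) F95059
theorem F95157 : act 7 n60537 = n30104 := d15_2 F78028 F95156 (iv2 F78026)
def n60538 : Q := act 6 n28748
theorem D60538 : act 6 n28748 = n60538 := rfl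
def n60539 : Q := act 0 n28749
theorem D60539 : act 0 n28749 = n60539 := rfl
def n60540 : Q := act 1 n28749
theorem D60540 : act 1 n28749 = n60540 := rfl
def n60541 : Q := act 5 n28749
theorem D60541 : act 5 n28749 = n60541 := rfl
def n60542 : Q := act 7 n28749
theorem D60542 : act 7 n28749 = n60542 := rfl
theorem F95158 : act 4 n60542 = n28752 := d11_1 D60542 (iv7 D28752) (iv4 F46382)
def n60543 : Q := act 2 n28750
theorem D60543 : act 2 n28750 = n60543 := rfl
theorem F95159 : act 7 n28751 = n60543 := d15_2 (iv0 D28750) D28751 (iv2 D60543)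
def n60544 : Q := act 3 n28750
theorem D60544 : act 3 n28750 = n60544 := rfl
def n60545 : Q := act 4 n28750
theorem D60545 : act 4 n28750 = n60545 := rfl
def n60546 : Q := act 7 n28750
theorem D60546 : act 7 n28750 = n60546 := rfl
theorem F95160 : act 2 n60546 = n28751 := d4_1 D60546 F95159 (iv2 D60543)
def n60547 : Q := act 3 n28751
theorem D60547 : act 3 n28751 = n60547 := rfl
def n60548 : Q := act 4 n28751
theorem D60548 : act 4 n28751 = n60548 := rfl
def n60549 : Q := act 6 n28751
theorem D60549 : act 6 n28751 = n60549 := rfl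
def n60550 : Q := act 6 n28753
theorem D60550 : act 6 n28753 = n60550 := rfl
theorem F95161 : act 2 n60550 = n59513 := d3_1 D60550 F93936 F47118
theorem F95162 : act 5 n60550 = n53307 := d12_1 D60550 (iv6 D53307) (iv5 F45239) F76848 F76851
theorem F95163 : act 0 n60550 = n59370 := d21_4 (iv5 F49841) (iv1 F76845) F76851 D60550 (iv6 D59370) (iv5 D28195) (iv1 D13459) D13460 F22411 D28176
def n60551 : Q := act 6 n28754
theorem D60551 : act 6 n28754 = n60551 := rfl
theorem F95164 : act 3 n60551 = n28805 := d7_1 D60551 (iv6 D28805) F46386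
theorem F95165 : act 5 n60551 = n58737 := d12_1 D60551 (iv6 D58737) (iv5 D27926) (iv6 F39698) (iv5 F46385)
def n60552 : Q := act 3 n28755
theorem D60552 : act 3 n28755 = n60552 := rfl
theorem F95166 : act 4 n60552 = n28762 := d5_2 D28755 D60552 (iv3 D28762) (iv4 D13716) (iv3 F22961)
def n60553 : Q := act 6 n28755
theorem D60553 : act 6 n28755 = n60553 := rfl
theorem F95167 : act 4 n60553 = n28756 := d10_1 D60553 (iv6 D28756) D28755
theorem F95168 : act 0 n30411 = n60553 := d20_1 D30411 F95167 F46387 D28765 F80787 D28878 (iv1 F47604) F47601 (iv3 F47589) (iv1 F47591)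
def n60554 : Q := act 0 n28756
theorem D60554 : act 0 n28756 = n60554 := rfl
def n60555 : Q := act 1 n28756
theorem D60555 : act 1 n28756 = n60555 := rfl
theorem F95169 : act 6 n28852 = n60555 := d21_3 (iv5 F82068) (iv1 F82073) (iv5 F46490) (iv1 D60555) (iv6 D28756) (iv5 D13712) F19529 D24850 F38910 D28182
theorem F95170 : act 3 n60555 = n28854 := d7_1 F95169 (iv6 D28854) D28852
theorem F95171 : act 5 n60555 = n48811 := d12_1 F95169 (iv6 D48811) (iv5 F39871) F39872 (iv5 F46490)
def n60556 : Q := act 5 n28756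
theorem D60556 : act 5 n28756 = n60556 := rfl
theorem F95172 : act 3 n60556 = n28766 := d6_1 D60556 (iv5 D28766) (iv3 F46387)
theorem F95173 : act 6 n60556 = n28758 := d12_2 D28756 D60556 (iv5 D28758) (iv6 D13713) D13712
def n60557 : Q := act 7 n28756
theorem D60557 : act 7 n28756 = n60557 := rfl
theorem F95174 : act 3 n60557 = n28767 := d8_1 D60557 (iv7 D28767) (iv3 F46387)
def n60558 : Q := act 3 n28759
theorem D60558 : act 3 n28759 = n60558 := rfl
def n60559 : Q := act 6 n28759
theorem D60559 : act 6 n28759 = n60559 := rfl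
theorem F95175 : act 4 n60559 = n28760 := d10_1 D60559 (iv6 D28760) D28759
def n60560 : Q := act 0 n28760
theorem D60560 : act 0 n28760 = n60560 := rfl
def n60561 : Q := act 5 n28760
theorem D60561 : act 5 n28760 = n60561 := rfl
theorem F95176 : act 2 n60561 = n49405 := d2_1 D60561 F78132 F78020
theorem F95177 : act 3 n60561 = n30712 := d6_1 D60561 F49158 F47913
theorem F95178 : act 6 n60561 = n28761 := d12_2 D28760 D60561 (iv5 D28761) (iv6 D13715) D13714
theorem F95179 : act 7 n60561 = n49507 := d13_2 F78294 D60561 F78295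
def n60562 : Q := act 0 n28762
theorem D60562 : act 0 n28762 = n60562 := rfl
def n60563 : Q := act 1 n28762
theorem D60563 : act 1 n28762 = n60563 := rfl
def n60564 : Q := act 2 n28762
theorem D60564 : act 2 n28762 = n60564 := rfl
def n60565 : Q := act 5 n28762
theorem D60565 : act 5 n28762 = n60565 := rfl
theorem F95180 : act 3 n60565 = n28763 := d6_1 D60565 (iv5 D28763) D28762
def n60566 : Q := act 6 n28762
theorem D60566 : act 6 n28762 = n60566 := rfl
theorem F95181 : act 3 n60566 = n28764 := d7_1 D60566 (iv6 D28764) D28762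
def n60567 : Q := act 6 n28763
theorem D60567 : act 6 n28763 = n60567 := rfl
def n60568 : Q := act 0 n28764
theorem D60568 : act 0 n28764 = n60568 := rfl
def n60569 : Q := act 1 n28764
theorem D60569 : act 1 n28764 = n60569 := rfl
def n60570 : Q := act 5 n28764
theorem D60570 : act 5 n28764 = n60570 := rfl
def n60571 : Q := act 7 n28764
theorem D60571 : act 7 n28764 = n60571 := rfl
theorem F95182 : act 4 n60571 = n28767 := d11_1 D60571 (iv7 D28767) (iv4 F46403)
def n60572 : Q := act 4 n28765
theorem D60572 : act 4 n28765 = n60572 := rfl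
theorem F95183 : act 7 n60572 = n59641 := d11_2 (iv7 F80789) D60572 (iv4 D59641)
theorem F95184 : act 0 n60559 = n60572 := d20_7 (iv4 F47150) (iv1 F47152) (iv4 D25946) (iv3 F40979) F47914 F47913 (iv4 F95175) (iv4 D60572) F80787 (iv1 F23333)
theorem E8784 : n53516 = n49172 := (c18_8 F77657 (iv4 F95175) F95184 (iv4 D60572) F80788 (iv4 F78325) F80779 (iv4 F84434) (iv0 D49172) D49174)
theorem F95185 : act 3 n49172 = n25923 := (sb E8784 (iv3 D53516))
theorem F95186 : act 4 n49172 = n51196 := (sb E8784 F84434)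
def n60573 : Q := act 6 n28765
theorem D60573 : act 6 n28765 = n60573 := rfl
theorem F95187 : act 3 n60573 = n28824 := d7_1 D60573 F46462 (iv3 F80787)
theorem F95188 : act 5 n60573 = n34261 := d12_1 D60573 (iv6 F79019) F79018 (iv6 F45810) (iv5 F80788)
theorem F95189 : act 7 n60573 = n28818 := d14_2 (iv7 F80789) D60573 (iv6 D28818) (iv7 F23232) (iv6 F45807)
def n60574 : Q := act 0 n28766
theorem D60574 : act 0 n28766 = n60574 := rfl
theorem F95190 : act 1 n31739 = n60574 := d15_0 (iv0 D60574) (iv7 F78455) F78454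
def n60575 : Q := act 1 n28766
theorem D60575 : act 1 n28766 = n60575 := rfl
theorem F95191 : act 1 n60575 = n31739 := d15_1 D60575 F50040 F49670
def n60576 : Q := act 4 n28766
theorem D60576 : act 4 n28766 = n60576 := rfl
theorem F95192 : act 6 n60576 = n28768 := d10_2 (iv6 F46404) D60576 (iv4 D28768)
def n60577 : Q := act 3 n28768
theorem D60577 : act 3 n28768 = n60577 := rfl
def n60578 : Q := act 5 n28768
theorem D60578 : act 5 n28768 = n60578 := rfl
theorem F95193 : act 0 n60578 = n58749 := d17_2 (iv1 F46407) D60578 (iv5 D58749) F45122 (iv5 F48684) F48687 (iv5 F37776) (iv0 D24110) D24112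
theorem F95194 : act 1 n60578 = n58752 := d17_6 (iv1 F22146) (iv5 F22147) (iv1 F24429) D13719 D28768 D60578 (iv5 D58752) F45126 F39033
def n60579 : Q := act 3 n28769
theorem D60579 : act 3 n28769 = n60579 := rfl
theorem F95195 : act 4 n60579 = n28772 := d5_2 D28769 D60579 (iv3 D28772) (iv4 D13722) D13721
theorem F95196 : act 7 n60579 = n29987 := d8_2 (iv7 F46408) D60579 (iv3 D29987)
def n60580 : Q := act 5 n28769
theorem D60580 : act 5 n28769 = n60580 := rfl
theorem F95197 : act 2 n60580 = n29985 := d2_1 D60580 (iv5 D29985) (iv2 F46411)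
theorem F95198 : act 7 n60580 = n29988 := d13_2 (iv7 F46408) D60580 (iv5 D29988)
theorem F95199 : act 4 n60580 = n50128 := d16_2 D28769 D60580 (iv5 D50128) F38359 F38167 (iv4 F38979) F38980 (iv7 F38985) (iv2 F38296)
def n60581 : Q := act 6 n28769
theorem D60581 : act 6 n28769 = n60581 := rfl
theorem F95200 : act 2 n60581 = n29986 := d3_1 D60581 (iv6 D29986) (iv2 F46411)
theorem F95201 : act 4 n60581 = n28770 := d10_1 D60581 (iv6 D28770) D28769
def n60582 : Q := act 0 n28770
theorem D60582 : act 0 n28770 = n60582 := rfl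
def n60583 : Q := act 1 n28770
theorem D60583 : act 1 n28770 = n60583 := rfl
def n60584 : Q := act 7 n28770
theorem D60584 : act 7 n28770 = n60584 := rfl
theorem F95202 : act 3 n60584 = n28777 := d8_1 D60584 (iv7 D28777) (iv3 F46413)
def n60585 : Q := act 3 n28771
theorem D60585 : act 3 n28771 = n60585 := rfl
theorem F95203 : act 4 n60585 = n30130 := d5_2 (iv4 F46414) D60585 F48430 F23885 (iv3 F23846)
theorem F95204 : act 7 n60585 = n30103 := d8_2 (iv7 F46416) D60585 (iv3 D30103)
def n60586 : Q := act 6 n28771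
theorem D60586 : act 6 n28771 = n60586 := rfl
theorem F95205 : act 4 n60586 = n30105 := d10_1 D60586 (iv6 D30105) (iv4 F46414)
theorem F95206 : act 7 n60586 = n49348 := d14_2 (iv7 F46416) D60586 (iv6 D49348) (iv7 D24083) (iv6 F23845)
def n60587 : Q := act 0 n28772
theorem D60587 : act 0 n28772 = n60587 := rfl
def n60588 : Q := act 1 n28772
theorem D60588 : act 1 n28772 = n60588 := rfl
def n60589 : Q := act 2 n28772
theorem D60589 : act 2 n28772 = n60589 := rfl
def n60590 : Q := act 5 n28772
theorem D60590 : act 5 n28772 = n60590 := rfl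
theorem F95207 : act 3 n60590 = n28773 := d6_1 D60590 (iv5 D28773) D28772
def n60591 : Q := act 6 n28772
theorem D60591 : act 6 n28772 = n60591 := rfl
theorem F95208 : act 3 n60591 = n28774 := d7_1 D60591 (iv6 D28774) D28772
def n60592 : Q := act 0 n28773
theorem D60592 : act 0 n28773 = n60592 := rfl
theorem F95209 : act 5 n60592 = n60477 := d17_3 F45212 D28773 D60592 F95052 F46371 F39323 F37796 F37717 D24088
theorem F95210 : act 4 n60592 = n60527 := d18_1 D60592 F95146 (iv4 F95087) (iv5 D60493) F46348 F37712 (iv4 F46414) (iv0 D28771) D28773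
theorem F95211 : act 1 n28780 = n60592 := d15_0 (iv0 D60592) (iv7 F93024) F93023
theorem F95212 : act 2 n60530 = n60592 := d2_3 F95209 (iv2 F95053) D60530
theorem F95213 : act 7 n60527 = n60592 := d13_0 F95209 F95051 D60527
def n60593 : Q := act 1 n28773
theorem D60593 : act 1 n28773 = n60593 := rfl
theorem F95214 : act 1 n60593 = n28780 := d15_1 D60593 (iv7 F95067) F95066
theorem F95215 : act 7 n60593 = n60530 := d15_2 (iv0 D60592) D60593 F95212
theorem F95216 : act 5 n60593 = n49421 := d17_7 F23278 F23276 F22973 F22870 D13722 D28773 D60593 F78157 (iv4 D28722)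
theorem F95217 : act 4 n60593 = n60530 := d17_9 F95148 (iv5 D58838) F45228 D30104 (iv4 F95155) F95154 (iv0 D28771) D28773 D60593
theorem F95218 : act 2 n60527 = n60593 := d1_3 F95217 F95212 F95210
def n60594 : Q := act 6 n28773
theorem D60594 : act 6 n28773 = n60594 := rfl
def n60595 : Q := act 0 n28774
theorem D60595 : act 0 n28774 = n60595 := rfl
def n60596 : Q := act 1 n28774
theorem D60596 : act 1 n28774 = n60596 := rfl
def n60597 : Q := act 5 n28774
theorem D60597 : act 5 n28774 = n60597 := rfl
def n60598 : Q := act 7 n28774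
theorem D60598 : act 7 n28774 = n60598 := rfl
theorem F95219 : act 4 n60598 = n28777 := d11_1 D60598 (iv7 D28777) (iv4 F46417)
def n60599 : Q := act 2 n28775
theorem D60599 : act 2 n28775 = n60599 := rfl
theorem F95220 : act 7 n28776 = n60599 := d15_2 (iv0 D28775) D28776 (iv2 D60599)
def n60600 : Q := act 3 n28775
theorem D60600 : act 3 n28775 = n60600 := rfl
def n60601 : Q := act 4 n28775
theorem D60601 : act 4 n28775 = n60601 := rfl
def n60602 : Q := act 5 n28775
theorem D60602 : act 5 n28775 = n60602 := rfl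
theorem F95221 : act 6 n60602 = n59141 := d12_2 (iv6 F78377) D60602 (iv5 D59141) F78378 (iv5 F78376)
def n60603 : Q := act 7 n28775
theorem D60603 : act 7 n28775 = n60603 := rfl
theorem F95222 : act 2 n60603 = n28776 := d4_1 D60603 F95220 (iv2 D60599)
def n60604 : Q := act 3 n28776
theorem D60604 : act 3 n28776 = n60604 := rfl
def n60605 : Q := act 4 n28776
theorem D60605 : act 4 n28776 = n60605 := rfl
def n60606 : Q := act 5 n28776
theorem D60606 : act 5 n28776 = n60606 := rfl
theorem F95223 : act 6 n60606 = n52109 := d21_3 (iv5 F95074) (iv1 F95076) D60606 (iv1 D52109) (iv6 D25299) F19868 (iv1 F8746) D12022 D25322 (iv1 F53920)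
def n60607 : Q := act 6 n28776
theorem D60607 : act 6 n28776 = n60607 := rfl
def n60608 : Q := act 0 n28778
theorem D60608 : act 0 n28778 = n60608 := rfl
def n60609 : Q := act 1 n28778
theorem D60609 : act 1 n28778 = n60609 := rfl
def n60610 : Q := act 7 n28778
theorem D60610 : act 7 n28778 = n60610 := rfl
theorem F95224 : act 3 n60610 = n28784 := d8_1 D60610 (iv7 D28784) (iv3 F46418)
def n60611 : Q := act 0 n28779
theorem D60611 : act 0 n28779 = n60611 := rfl
def n60612 : Q := act 1 n28779
theorem D60612 : act 1 n28779 = n60612 := rfl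
def n60613 : Q := act 2 n28779
theorem D60613 : act 2 n28779 = n60613 := rfl
def n60614 : Q := act 5 n28779
theorem D60614 : act 5 n28779 = n60614 := rfl
theorem F95225 : act 3 n60614 = n28780 := d6_1 D60614 (iv5 D28780) D28779
def n60615 : Q := act 6 n28779
theorem D60615 : act 6 n28779 = n60615 := rfl
theorem F95226 : act 3 n60615 = n28781 := d7_1 D60615 (iv6 D28781) D28779
def n60616 : Q := act 6 n28780
theorem D60616 : act 6 n28780 = n60616 := rfl
def n60617 : Q := act 0 n28781
theorem D60617 : act 0 n28781 = n60617 := rfl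
def n60618 : Q := act 1 n28781
theorem D60618 : act 1 n28781 = n60618 := rfl
def n60619 : Q := act 5 n28781
theorem D60619 : act 5 n28781 = n60619 := rfl
def n60620 : Q := act 7 n28781
theorem D60620 : act 7 n28781 = n60620 := rfl
theorem F95227 : act 4 n60620 = n28784 := d11_1 D60620 (iv7 D28784) (iv4 F46419)
def n60621 : Q := act 2 n28782
theorem D60621 : act 2 n28782 = n60621 := rfl
theorem F95228 : act 5 n60621 = n59154 := d2_2 (iv5 F77811) D60621 (iv2 D59154)
theorem F95229 : act 7 n28783 = n60621 := d15_2 (iv0 D28782) D28783 (iv2 D60621)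
def n60622 : Q := act 3 n28782
theorem D60622 : act 3 n28782 = n60622 := rfl
theorem F95230 : act 5 n60622 = n59155 := d6_2 (iv5 F77811) D60622 (iv3 D59155)
def n60623 : Q := act 4 n28782
theorem D60623 : act 4 n28782 = n60623 := rfl
def n60624 : Q := act 6 n28782
theorem D60624 : act 6 n28782 = n60624 := rfl
theorem F95231 : act 0 n60624 = n51208 := d21_10 (iv5 D51208) (iv1 D24910) D24911 F39059 (iv1 D24030) D24032 F37569 D28100 (iv5 F77811) D60624
def n60625 : Q := act 7 n28782
theorem D60625 : act 7 n28782 = n60625 := rfl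
theorem F95232 : act 2 n60625 = n28783 := d4_1 D60625 F95229 (iv2 D60621)
theorem F95233 : act 5 n60625 = n59158 := d13_1 D60625 (iv7 D59158) (iv5 F77811)
def n60626 : Q := act 3 n28783
theorem D60626 : act 3 n28783 = n60626 := rfl
theorem F95234 : act 5 n60626 = n59159 := d6_2 F78434 D60626 (iv3 D59159)
def n60627 : Q := act 4 n28783
theorem D60627 : act 4 n28783 = n60627 := rfl
def n60628 : Q := act 0 n28785
theorem D60628 : act 0 n28785 = n60628 := rfl
def n60629 : Q := act 1 n28785
theorem D60629 : act 1 n28785 = n60629 := rfl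
def n60630 : Q := act 2 n28785
theorem D60630 : act 2 n28785 = n60630 := rfl
def n60631 : Q := act 4 n28785
theorem D60631 : act 4 n28785 = n60631 := rfl
theorem F95235 : act 3 n60631 = n30207 := d5_1 D60631 (iv4 D30207) F40705 (iv4 F40733) D28785
def n60632 : Q := act 5 n28785
theorem D60632 : act 5 n28785 = n60632 := rfl
theorem F95236 : act 3 n60632 = n28786 := d6_1 D60632 (iv5 D28786) D28785
def n60633 : Q := act 6 n28785
theorem D60633 : act 6 n28785 = n60633 := rfl
theorem F95237 : act 3 n60633 = n28787 := d7_1 D60633 (iv6 D28787) D28785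
def n60634 : Q := act 0 n28786
theorem D60634 : act 0 n28786 = n60634 := rfl
theorem F95238 : act 5 n60634 = n60476 := d17_1 D60634 F95048 (iv5 F95097) (iv4 F95099) (iv5 D60481) (iv0 F78156) (iv5 F95216) F95214 (iv4 F46420)
theorem F95239 : act 1 n28789 = n60634 := d15_0 (iv0 D60634) (iv7 F95088) F95086
theorem F95240 : act 2 n60524 = n60634 := d2_3 F95238 F95046 D60524
theorem F95241 : act 7 n60518 = n60634 := d13_0 F95238 F95047 D60518
def n60635 : Q := act 1 n28786
theorem D60635 : act 1 n28786 = n60635 := rfl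
theorem F95242 : act 1 n60635 = n28789 := d15_1 D60635 (iv7 F95081) F95080
theorem F95243 : act 7 n60635 = n60524 := d15_2 (iv0 D60634) D60635 F95240
theorem F95244 : act 5 n60635 = n29382 := d17_7 (iv1 F46716) F46713 (iv1 F45211) F45208 (iv4 F40733) D28786 D60635 (iv0 F47938) (iv4 D29792)
theorem F95245 : act 4 n60635 = n60634 := d17_9 (iv1 F95239) (iv5 D28789) (iv1 D13728) D13730 D28798 F46430 F46356 D28786 D60635
theorem F95246 : act 2 n60518 = n60635 := d1_3 F95245 (iv2 F95240) F95141
def n60636 : Q := act 6 n28786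
theorem D60636 : act 6 n28786 = n60636 := rfl
theorem F95247 : act 4 n60636 = n60616 := d10_1 D60636 (iv6 D60616) (iv4 F46420)
def n60637 : Q := act 0 n28787
theorem D60637 : act 0 n28787 = n60637 := rfl
def n60638 : Q := act 1 n28787
theorem D60638 : act 1 n28787 = n60638 := rfl
def n60639 : Q := act 5 n28787
theorem D60639 : act 5 n28787 = n60639 := rfl
def n60640 : Q := act 7 n28787
theorem D60640 : act 7 n28787 = n60640 := rfl
def n60641 : Q := act 0 n28788
theorem D60641 : act 0 n28788 = n60641 := rfl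
def n60642 : Q := act 1 n28788
theorem D60642 : act 1 n28788 = n60642 := rfl
def n60643 : Q := act 2 n28788
theorem D60643 : act 2 n28788 = n60643 := rfl
def n60644 : Q := act 5 n28788
theorem D60644 : act 5 n28788 = n60644 := rfl
theorem F95248 : act 3 n60644 = n28789 := d6_1 D60644 (iv5 D28789) D28788
def n60645 : Q := act 6 n28788
theorem D60645 : act 6 n28788 = n60645 := rfl
theorem F95249 : act 3 n60645 = n28790 := d7_1 D60645 (iv6 D28790) D28788
def n60646 : Q := act 6 n28789
theorem D60646 : act 6 n28789 = n60646 := rfl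
theorem F95250 : act 4 n60646 = n60594 := d10_1 D60646 (iv6 D60594) (iv4 F46421)
def n60647 : Q := act 0 n28790
theorem D60647 : act 0 n28790 = n60647 := rfl
def n60648 : Q := act 1 n28790
theorem D60648 : act 1 n28790 = n60648 := rfl
def n60649 : Q := act 5 n28790
theorem D60649 : act 5 n28790 = n60649 := rfl
def n60650 : Q := act 7 n28790
theorem D60650 : act 7 n28790 = n60650 := rfl
def n60651 : Q := act 0 n28791
theorem D60651 : act 0 n28791 = n60651 := rfl
theorem F95251 : act 2 n28795 = n60651 := d15_3 (iv0 D60651) (iv0 D28791) D28795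
theorem F95252 : act 4 n60651 = n28958 := d1_2 (iv4 F46425) F95251 (iv2 F46592)
theorem F95253 : act 7 n60651 = n28793 := d4_2 D28795 F95251 (iv2 D28793)
theorem F95254 : act 1 n28792 = n60651 := d15_1 D28792 F95253 (iv2 D28793)
def n60652 : Q := act 2 n28791
theorem D60652 : act 2 n28791 = n60652 := rfl
theorem F95255 : act 7 n28792 = n60652 := d15_2 (iv0 D28791) D28792 (iv2 D60652)
def n60653 : Q := act 3 n28791
theorem D60653 : act 3 n28791 = n60653 := rfl
def n60654 : Q := act 4 n28791
theorem D60654 : act 4 n28791 = n60654 := rfl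
def n60655 : Q := act 5 n28791
theorem D60655 : act 5 n28791 = n60655 := rfl
def n60656 : Q := act 6 n28791
theorem D60656 : act 6 n28791 = n60656 := rfl
def n60657 : Q := act 7 n28791
theorem D60657 : act 7 n28791 = n60657 := rfl
theorem F95256 : act 2 n60657 = n28792 := d4_1 D60657 F95255 (iv2 D60652)
def n60658 : Q := act 3 n28792
theorem D60658 : act 3 n28792 = n60658 := rfl
def n60659 : Q := act 4 n28792
theorem D60659 : act 4 n28792 = n60659 := rfl
theorem F95257 : act 3 n30039 = n60659 := d20_5 F10618 (iv1 F4802) (iv4 F11045) (iv3 F23794) (iv1 F48257) (iv4 D60659) (iv1 D28792) F22974 (iv3 D6560) D6558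
def n60660 : Q := act 5 n28792
theorem D60660 : act 5 n28792 = n60660 := rfl
def n60661 : Q := act 6 n28792
theorem D60661 : act 6 n28792 = n60661 := rfl
def n60662 : Q := act 0 n28793
theorem D60662 : act 0 n28793 = n60662 := rfl
theorem F95258 : act 1 n28795 = n60662 := d15_0 (iv0 D60662) (iv7 F95253) (iv2 F95251)
theorem F95259 : act 4 n30029 = n60662 := d20_6 F10821 (iv1 D3070) D3071 D6785 D14254 D30029 (iv1 F95258) F46425 F23040 (iv1 F10819)
def n60663 : Q := act 1 n28793
theorem D60663 : act 1 n28793 = n60663 := rfl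
theorem F95260 : act 1 n60663 = n28795 := d15_1 D60663 (iv7 D28795) D28793
def n60664 : Q := act 5 n28793
theorem D60664 : act 5 n28793 = n60664 := rfl
theorem F95261 : act 2 n60664 = n28794 := d2_1 D60664 (iv5 D28794) D28793
def n60665 : Q := act 0 n28794
theorem D60665 : act 0 n28794 = n60665 := rfl
def n60666 : Q := act 1 n28794
theorem D60666 : act 1 n28794 = n60666 := rfl
def n60667 : Q := act 4 n28794
theorem D60667 : act 4 n28794 = n60667 := rfl
def n60668 : Q := act 6 n28794
theorem D60668 : act 6 n28794 = n60668 := rfl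
theorem F95262 : act 3 n60668 = n28799 := d7_1 D60668 (iv6 D28799) (iv3 F46423)
def n60669 : Q := act 7 n28794
theorem D60669 : act 7 n28794 = n60669 := rfl
theorem F95263 : act 3 n60669 = n28800 := d8_1 D60669 (iv7 D28800) (iv3 F46423)
theorem F95264 : act 5 n60669 = n28795 := d13_1 D60669 (iv7 D28795) D28794
def n60670 : Q := act 6 n28795
theorem D60670 : act 6 n28795 = n60670 := rfl
theorem F95265 : act 3 n60670 = n28801 := d7_1 D60670 (iv6 D28801) (iv3 F46424)
theorem F95266 : act 4 n60670 = n28976 := d10_1 D60670 (iv6 D28976) (iv4 F46425)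
def n60671 : Q := act 3 n28796
theorem D60671 : act 3 n28796 = n60671 := rfl
theorem F95267 : act 5 n60671 = n60514 := d6_2 (iv5 F46426) D60671 (iv3 D60514)
def n60672 : Q := act 6 n28796
theorem D60672 : act 6 n28796 = n60672 := rfl
theorem F95268 : act 4 n60672 = n60567 := d10_1 D60672 (iv6 D60567) F46427
def n60673 : Q := act 3 n28797
theorem D60673 : act 3 n28797 = n60673 := rfl
theorem F95269 : act 5 n60673 = n60558 := d6_2 (iv5 F46428) D60673 (iv3 D60558)
def n60674 : Q := act 6 n28797
theorem D60674 : act 6 n28797 = n60674 := rfl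
theorem F95270 : act 4 n60674 = n60538 := d10_1 D60674 (iv6 D60538) F46429
def n60675 : Q := act 3 n28798
theorem D60675 : act 3 n28798 = n60675 := rfl
theorem F95271 : act 5 n60675 = n60499 := d6_2 (iv5 F46430) D60675 F95095
theorem F95272 : act 7 n60675 = n60498 := d8_2 (iv7 F46433) D60675 F95094
def n60676 : Q := act 6 n28798
theorem D60676 : act 6 n28798 = n60676 := rfl
theorem F95273 : act 4 n60676 = n28799 := d10_1 D60676 (iv6 D28799) D28798
def n60677 : Q := act 0 n28799
theorem D60677 : act 0 n28799 = n60677 := rfl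
def n60678 : Q := act 1 n28799
theorem D60678 : act 1 n28799 = n60678 := rfl
def n60679 : Q := act 7 n28799
theorem D60679 : act 7 n28799 = n60679 := rfl
def n60680 : Q := act 6 n28800
theorem D60680 : act 6 n28800 = n60680 := rfl
theorem F95274 : act 2 n60680 = n60676 := d3_1 D60680 (iv6 D60676) (iv2 F46434)
theorem F95275 : act 4 n60680 = n60502 := d10_1 D60680 (iv6 D60502) (iv4 F46435)
def n60681 : Q := act 0 n28801
theorem D60681 : act 0 n28801 = n60681 := rfl
theorem F95276 : act 1 n49279 = n60681 := d15_0 (iv0 D60681) (iv7 F47017) (iv2 F77875)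
def n60682 : Q := act 1 n28801
theorem D60682 : act 1 n28801 = n60682 := rfl
theorem F95277 : act 1 n60682 = n49279 := d15_1 D60682 (iv7 F95111) F95109
def n60683 : Q := act 5 n28801
theorem D60683 : act 5 n28801 = n60683 := rfl
def n60684 : Q := act 2 n28802
theorem D60684 : act 2 n28802 = n60684 := rfl
theorem F95278 : act 7 n28803 = n60684 := d15_2 (iv0 D28802) D28803 (iv2 D60684)
def n60685 : Q := act 3 n28802
theorem D60685 : act 3 n28802 = n60685 := rfl
def n60686 : Q := act 4 n28802
theorem D60686 : act 4 n28802 = n60686 := rfl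
def n60687 : Q := act 5 n28802
theorem D60687 : act 5 n28802 = n60687 := rfl
theorem F95279 : act 0 n60549 = n60687 := d21_10 (iv5 D60687) (iv1 F46438) F37614 (iv6 D24047) (iv1 F18372) D13960 (iv5 F36945) D48678 F76589 D60549
def n60688 : Q := act 6 n28802
theorem D60688 : act 6 n28802 = n60688 := rfl
theorem F95280 : act 5 n60688 = n51190 := d21_6 (iv5 D13693) (iv1 F10596) (iv5 F10603) D13732 D28802 D60688 (iv1 D51190) (iv5 F46982) (iv6 F46979) (iv1 D28721)
def n60689 : Q := act 7 n28802
theorem D60689 : act 7 n28802 = n60689 := rfl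
theorem F95281 : act 2 n60689 = n28803 := d4_1 D60689 F95278 (iv2 D60684)
def n60690 : Q := act 3 n28803
theorem D60690 : act 3 n28803 = n60690 := rfl
def n60691 : Q := act 4 n28803
theorem D60691 : act 4 n28803 = n60691 := rfl
def n60692 : Q := act 5 n28803
theorem D60692 : act 5 n28803 = n60692 := rfl
theorem F95282 : act 6 n60692 = n60520 := d12_2 F94038 D60692 F95137 (iv6 D59640) D59639
def n60693 : Q := act 3 n28804
theorem D60693 : act 3 n28804 = n60693 := rfl
def n60694 : Q := act 5 n28804
theorem D60694 : act 5 n28804 = n60694 := rfl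
theorem F95283 : act 0 n60694 = n59351 := d17_2 F48311 D60694 (iv5 D59351) F45594 D30060 F48295 (iv5 F47364) (iv0 F47368) D30065
theorem F95284 : act 1 n60694 = n59354 := d17_6 (iv1 F22430) F10808 D11963 (iv5 F23861) D28804 D60694 (iv5 D59354) F45639 F45638
def n60695 : Q := act 6 n28804
theorem D60695 : act 6 n28804 = n60695 := rfl
theorem F95285 : act 4 n60695 = n28805 := d10_1 D60695 (iv6 D28805) D28804
def n60696 : Q := act 0 n28805
theorem D60696 : act 0 n28805 = n60696 := rfl
def n60697 : Q := act 1 n28805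
theorem D60697 : act 1 n28805 = n60697 := rfl
def n60698 : Q := act 7 n28805
theorem D60698 : act 7 n28805 = n60698 := rfl
theorem F95286 : act 6 n60698 = n59539 := d14_1 D60698 (iv7 D59539) F45772 F23867 D28805
def n60699 : Q := act 4 n28806
theorem D60699 : act 4 n28806 = n60699 := rfl
theorem F95287 : act 2 n60699 = n29804 := d1_1 D60699 F47968 (iv2 F46942)
theorem F95288 : act 7 n60699 = n29803 := d11_2 (iv7 F46940) D60699 F47965
theorem F95289 : act 0 n60699 = n29781 := d18_2 (iv1 F46442) D60699 (iv4 D29781) (iv5 D14152) D14151 (iv0 F23642) F19136 (iv0 F19479) D16525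
theorem F95290 : act 1 n60699 = n29782 := d18_6 F23693 (iv4 F38442) (iv1 F79335) F79331 (iv5 F46440) D60699 (iv4 D29782) F23651 F23416
def n60700 : Q := act 3 n28807
theorem D60700 : act 3 n28807 = n60700 := rfl
def n60701 : Q := act 5 n28807
theorem D60701 : act 5 n28807 = n60701 := rfl
theorem F95291 : act 0 n60701 = n59354 := d17_2 (iv1 F48162) D60701 (iv5 D59354) F45595 (iv5 F36881) (iv0 F48838) F48839 (iv0 D29958) D29959
theorem F95292 : act 1 n60701 = n59351 := d17_6 D13456 (iv5 F39663) (iv1 F39665) F23870 D28807 D60701 (iv5 D59351) (iv0 D28189) (iv4 D13457)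
def n60702 : Q := act 6 n28807
theorem D60702 : act 6 n28807 = n60702 := rfl
theorem F95293 : act 2 n60702 = n59538 := d3_1 D60702 F93958 F47120
theorem F95294 : act 4 n60702 = n28808 := d10_1 D60702 (iv6 D28808) D28807
def n60703 : Q := act 1 n28808
theorem D60703 : act 1 n28808 = n60703 := rfl
theorem F95295 : act 1 n60703 = n59539 := d15_1 D60703 (iv7 D59539) (iv2 F46443)
theorem F95296 : act 7 n60703 = n28851 := d15_2 (iv0 F46445) D60703 F46487
theorem F95297 : act 2 n28864 = n60703 := d4_3 F95296 F46487 D28864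
theorem F95298 : act 3 n59379 = n60703 := d8_3 F95296 F46488 D59379
theorem E8785 : n59539 = n28862 := (c15_1 F95295 (iv0 D28862) D28864 F95297)
theorem F95299 : act 0 n28862 = n60703 := (sb E8785 (iv1 F95295))
theorem F95300 : act 5 n28862 = n28268 := (sb E8785 F93959)
theorem F95301 : act 6 n28862 = n60698 := (sb E8785 (iv6 F95286))
theorem F95302 : act 7 n28862 = n28267 := (sb E8785 (iv7 D59539))
theorem E8786 : n59564 = n48824 := (c21_1 D59564 (iv1 D48824) D48825 F76902 F38005 (iv6 F46499) (iv5 D28863) D28862 F95300 (iv6 F93796) (iv1 F93798))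
theorem F95303 : act 5 n48824 = n28275 := (sb E8786 (iv5 D59564))
theorem F95304 : act 6 n48824 = n49928 := (sb E8786 (iv6 F93983))
theorem E8787 : n59565 = n49746 := ((c21_5 (iv5 D13759) D13757 (iv5 F23265) D24259 D49746 (iv6 D59565) (iv5 F95303) (iv1 D48824) D48825 F76902 F38005)).symm
theorem F95305 : act 6 n49746 = n28275 := (sb E8787 (iv6 D59565))
def n60704 : Q := act 7 n28808
theorem D60704 : act 7 n28808 = n60704 := rfl
theorem F95306 : act 2 n60704 = n28862 := d4_1 D60704 F95302 (iv2 F46443)
theorem F95307 : act 5 n60704 = n59419 := d13_1 D60704 (iv7 D59419) (iv5 F46444)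
theorem F95308 : act 1 n28864 = n60704 := d15_1 F46501 (iv7 D60704) F46443
theorem F95309 : act 1 n60704 = n28851 := d15_1 F95308 (iv7 F95296) (iv2 F95297)
def n60705 : Q := act 3 n28809
theorem D60705 : act 3 n28809 = n60705 := rfl
def n60706 : Q := act 5 n28809
theorem D60706 : act 5 n28809 = n60706 := rfl
theorem F95310 : act 0 n60706 = n59345 := d17_2 D28809 D60706 (iv5 D59345) (iv4 D28187) (iv5 F39663) F39666 (iv5 F23861) (iv0 D13733) D13735
theorem F95311 : act 1 n60706 = n29459 := d17_6 (iv1 F36906) (iv5 F39137) (iv1 F39330) (iv5 F48277) F48278 D60706 (iv5 D29459) D29457 (iv4 F47230)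
def n60707 : Q := act 6 n28809
theorem D60707 : act 6 n28809 = n60707 := rfl
def n60708 : Q := act 3 n28810
theorem D60708 : act 3 n28810 = n60708 := rfl
theorem F95312 : act 0 n60708 = n28886 := d19_4 F48319 (iv5 F46709) F46710 D60708 (iv5 D28886) (iv4 D13767) (iv3 D6552) (iv1 F4676) F4673 F2466 (iv3 F2456) (iv1 F2459) D2966 (iv4 F26345) F4306 D5196 (iv5 F18191) (iv4 F36896) (iv3 F48316)
theorem F95313 : act 5 n29410 = n60708 := d17_1 (iv1 F47127) F95312 (iv5 D28886) (iv4 D13767) (iv5 F19744) (iv0 F38151) (iv5 F23311) F23310 D28185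
theorem F95314 : act 1 n60708 = n59381 := d15_1 (iv0 F95312) F93687 F93617
theorem F95315 : act 2 n60708 = n60706 := d2_1 F95313 (iv5 D60706) (iv2 F47371)
def n60709 : Q := act 5 n28810
theorem D60709 : act 5 n28810 = n60709 := rfl
theorem F95316 : act 3 n60709 = n29410 := d6_1 D60709 F95313 (iv3 D60708)
theorem F95317 : act 7 n60709 = n60708 := d13_2 F47367 D60709 (iv5 F95313)
theorem F95318 : act 0 n60709 = n29459 := d17_2 (iv1 F46447) D60709 (iv5 D29459) (iv4 D14008) F10808 D11964 F23870 F22979 D28200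
theorem F95319 : act 1 n60709 = n59345 := d17_6 D14272 D30067 F48319 (iv5 F46709) F46710 D60709 (iv5 D59345) F45592 (iv4 D14274)
def n60710 : Q := act 6 n28810
theorem D60710 : act 6 n28810 = n60710 := rfl
theorem F95320 : act 4 n60710 = n30383 := d10_1 D60710 F48819 F46710
theorem F95321 : act 0 n60710 = n28861 := d21_4 D59345 (iv1 F95319) (iv5 D60709) D60710 (iv6 D28861) D28860 (iv1 F48596) (iv5 D30210) F23952 (iv1 F45592)
def n60711 : Q := act 0 n28811
theorem D60711 : act 0 n28811 = n60711 := rfl
def n60712 : Q := act 1 n28811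
theorem D60712 : act 1 n28811 = n60712 := rfl
def n60713 : Q := act 2 n28811
theorem D60713 : act 2 n28811 = n60713 := rfl
theorem F95322 : act 4 n60713 = n28835 := d1_2 (iv4 F46448) D60713 (iv2 D28835)
def n60714 : Q := act 5 n28811
theorem D60714 : act 5 n28811 = n60714 := rfl
theorem F95323 : act 3 n60714 = n28812 := d6_1 D60714 (iv5 D28812) D28811
def n60715 : Q := act 6 n28811
theorem D60715 : act 6 n28811 = n60715 := rfl
theorem F95324 : act 3 n60715 = n28813 := d7_1 D60715 (iv6 D28813) D28811
theorem F95325 : act 4 n60715 = n28837 := d10_1 D60715 (iv6 D28837) (iv4 F46448)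
def n60716 : Q := act 6 n28812
theorem D60716 : act 6 n28812 = n60716 := rfl
def n60717 : Q := act 0 n28813
theorem D60717 : act 0 n28813 = n60717 := rfl
def n60718 : Q := act 1 n28813
theorem D60718 : act 1 n28813 = n60718 := rfl
def n60719 : Q := act 5 n28813
theorem D60719 : act 5 n28813 = n60719 := rfl
def n60720 : Q := act 7 n28813
theorem D60720 : act 7 n28813 = n60720 := rfl
theorem F95326 : act 4 n60720 = n28816 := d11_1 D60720 (iv7 D28816) (iv4 F46449)
def n60721 : Q := act 2 n28814
theorem D60721 : act 2 n28814 = n60721 := rfl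
theorem F95327 : act 7 n28815 = n60721 := d15_2 (iv0 D28814) D28815 (iv2 D60721)
def n60722 : Q := act 3 n28814
theorem D60722 : act 3 n28814 = n60722 := rfl
def n60723 : Q := act 4 n28814
theorem D60723 : act 4 n28814 = n60723 := rfl
def n60724 : Q := act 7 n28814
theorem D60724 : act 7 n28814 = n60724 := rfl
theorem F95328 : act 2 n60724 = n28815 := d4_1 D60724 F95327 (iv2 D60721)
def n60725 : Q := act 3 n28815
theorem D60725 : act 3 n28815 = n60725 := rfl
def n60726 : Q := act 4 n28815
theorem D60726 : act 4 n28815 = n60726 := rfl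
def n60727 : Q := act 6 n28815
theorem D60727 : act 6 n28815 = n60727 := rfl
def n60728 : Q := act 3 n28817
theorem D60728 : act 3 n28817 = n60728 := rfl
theorem F95329 : act 4 n60728 = n28819 := d5_2 D28817 D60728 (iv3 D28819) (iv4 D13738) D13737
def n60729 : Q := act 5 n28817
theorem D60729 : act 5 n28817 = n60729 := rfl
theorem F95330 : act 4 n60729 = n49214 := d16_2 D28817 D60729 F77721 (iv4 D24053) (iv5 F18398) D13532 (iv5 F37564) F37563 (iv2 F23229)
theorem F95331 : act 0 n60729 = n29346 := d17_2 (iv1 F46453) D60729 (iv5 D29346) (iv4 F36901) (iv5 F36897) F36900 (iv5 F37615) (iv0 D24048) D24050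
theorem F95332 : act 1 n60729 = n29349 := d17_6 (iv1 F18372) (iv5 F18022) F18023 (iv5 F22982) D28817 D60729 (iv5 D29349) F37611 F37609
def n60730 : Q := act 6 n28817
theorem D60730 : act 6 n28817 = n60730 := rfl
theorem F95333 : act 4 n60730 = n28818 := d10_1 D60730 (iv6 D28818) D28817
def n60731 : Q := act 0 n28818
theorem D60731 : act 0 n28818 = n60731 := rfl
theorem F95334 : act 6 n60731 = n60687 := d21_5 (iv5 F18022) F18023 (iv5 F22982) D28818 D60731 (iv5 D60687) (iv1 F46438) F37614 (iv6 D24047) (iv1 F18372)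
def n60732 : Q := act 1 n28818
theorem D60732 : act 1 n28818 = n60732 := rfl
def n60733 : Q := act 0 n28819
theorem D60733 : act 0 n28819 = n60733 := rfl
def n60734 : Q := act 1 n28819
theorem D60734 : act 1 n28819 = n60734 := rfl
def n60735 : Q := act 2 n28819
theorem D60735 : act 2 n28819 = n60735 := rfl
def n60736 : Q := act 5 n28819
theorem D60736 : act 5 n28819 = n60736 := rfl
theorem F95335 : act 3 n60736 = n28820 := d6_1 D60736 (iv5 D28820) D28819
def n60737 : Q := act 6 n28819
theorem D60737 : act 6 n28819 = n60737 := rfl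
theorem F95336 : act 3 n60737 = n28821 := d7_1 D60737 (iv6 D28821) D28819
def n60738 : Q := act 6 n28820
theorem D60738 : act 6 n28820 = n60738 := rfl
theorem F95337 : act 4 n60738 = n29058 := d10_1 D60738 (iv6 D29058) (iv4 F46456)
def n60739 : Q := act 0 n28821
theorem D60739 : act 0 n28821 = n60739 := rfl
def n60740 : Q := act 1 n28821
theorem D60740 : act 1 n28821 = n60740 := rfl
theorem F95338 : act 4 n60740 = n29038 := d18_7 (iv1 F24147) (iv4 F24230) F27063 F27062 (iv5 F22987) (iv4 F46459) D60740 F47407 F47405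
def n60741 : Q := act 5 n28821
theorem D60741 : act 5 n28821 = n60741 := rfl
theorem F95339 : act 1 n60741 = n29488 := d17_6 (iv1 D14006) (iv5 F11314) F11984 (iv5 F22987) (iv4 F46459) D60741 (iv5 D29488) (iv0 F49205) (iv4 D29455)
def n60742 : Q := act 7 n28821
theorem D60742 : act 7 n28821 = n60742 := rfl
theorem F95340 : act 4 n60742 = n28824 := d11_1 D60742 (iv7 D28824) (iv4 F46459)
theorem F95341 : act 6 n60742 = n28878 := d14_1 D60742 F46518 F45817 F23287 D28821
def n60743 : Q := act 3 n28822
theorem D60743 : act 3 n28822 = n60743 := rfl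
theorem F95342 : act 5 n60743 = n59653 := d6_2 (iv5 F46460) D60743 F94044
def n60744 : Q := act 4 n28822
theorem D60744 : act 4 n28822 = n60744 := rfl
def n60745 : Q := act 3 n28823
theorem D60745 : act 3 n28823 = n60745 := rfl
def n60746 : Q := act 4 n28823
theorem D60746 : act 4 n28823 = n60746 := rfl
theorem F95343 : act 0 n60746 = n28830 := d18_2 (iv1 F47077) D60746 F46472 F23419 (iv4 F24144) (iv0 F24484) F24483 D14821 (iv5 F47074)
def n60747 : Q := act 0 n28825
theorem D60747 : act 0 n28825 = n60747 := rfl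
def n60748 : Q := act 1 n28825
theorem D60748 : act 1 n28825 = n60748 := rfl
def n60749 : Q := act 2 n28825
theorem D60749 : act 2 n28825 = n60749 := rfl
def n60750 : Q := act 5 n28825
theorem D60750 : act 5 n28825 = n60750 := rfl
theorem F95344 : act 3 n60750 = n28826 := d6_1 D60750 (iv5 D28826) D28825
theorem F95345 : act 4 n34196 = n60750 := d5_0 F95344 F46463 F26715 (iv4 F26207) (iv3 F53816)
def n60751 : Q := act 6 n28825
theorem D60751 : act 6 n28825 = n60751 := rfl
theorem F95346 : act 3 n60751 = n28827 := d7_1 D60751 (iv6 D28827) D28825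
def n60752 : Q := act 6 n28826
theorem D60752 : act 6 n28826 = n60752 := rfl
theorem F95347 : act 4 n60752 = n29056 := d10_1 D60752 (iv6 D29056) (iv4 F46463)
def n60753 : Q := act 5 n28827
theorem D60753 : act 5 n28827 = n60753 := rfl
theorem F95348 : act 2 n60753 = n59656 := d2_1 D60753 (iv5 D59656) (iv2 F46466)
def n60754 : Q := act 0 n28828
theorem D60754 : act 0 n28828 = n60754 := rfl
def n60755 : Q := act 1 n28828
theorem D60755 : act 1 n28828 = n60755 := rfl
def n60756 : Q := act 2 n28828
theorem D60756 : act 2 n28828 = n60756 := rfl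
def n60757 : Q := act 4 n28828
theorem D60757 : act 4 n28828 = n60757 := rfl
theorem F95349 : act 3 n60757 = n29547 := d5_1 D60757 (iv4 D29547) (iv3 D14036) (iv4 F22993) D28828
def n60758 : Q := act 5 n28828
theorem D60758 : act 5 n28828 = n60758 := rfl
theorem F95350 : act 3 n60758 = n28829 := d6_1 D60758 (iv5 D28829) D28828
def n60759 : Q := act 6 n28828
theorem D60759 : act 6 n28828 = n60759 := rfl
theorem F95351 : act 3 n60759 = n28830 := d7_1 D60759 (iv6 D28830) D28828
def n60760 : Q := act 6 n28829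
theorem D60760 : act 6 n28829 = n60760 := rfl
theorem F95352 : act 4 n60760 = n29133 := d10_1 D60760 (iv6 D29133) (iv4 F46469)
def n60761 : Q := act 0 n28830
theorem D60761 : act 0 n28830 = n60761 := rfl
def n60762 : Q := act 5 n28830
theorem D60762 : act 5 n28830 = n60762 := rfl
theorem F95353 : act 1 n60762 = n29449 := d17_6 (iv1 D14189) (iv5 F20360) F20361 (iv5 F23419) (iv4 F46472) D60762 (iv5 D29449) D29448 F49748
def n60763 : Q := act 7 n28830
theorem D60763 : act 7 n28830 = n60763 := rfl
theorem F95354 : act 4 n60763 = n29551 := d11_1 D60763 (iv7 D29551) (iv4 F46472)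
theorem F95355 : act 6 n60763 = n28874 := d14_1 D60763 F46739 F24365 F23085 D28830
def n60764 : Q := act 0 n28831
theorem D60764 : act 0 n28831 = n60764 := rfl
def n60765 : Q := act 1 n28831
theorem D60765 : act 1 n28831 = n60765 := rfl
def n60766 : Q := act 2 n28831
theorem D60766 : act 2 n28831 = n60766 := rfl
def n60767 : Q := act 4 n28831
theorem D60767 : act 4 n28831 = n60767 := rfl
theorem F95356 : act 3 n60767 = n29553 := d5_1 D60767 (iv4 D29553) (iv3 D14038) (iv4 F22996) D28831
def n60768 : Q := act 5 n28831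
theorem D60768 : act 5 n28831 = n60768 := rfl
theorem F95357 : act 3 n60768 = n28832 := d6_1 D60768 (iv5 D28832) D28831
def n60769 : Q := act 6 n28832
theorem D60769 : act 6 n28832 = n60769 := rfl
theorem F95358 : act 4 n60769 = n29135 := d10_1 D60769 (iv6 D29135) (iv4 F46473)
def n60770 : Q := act 2 n28833
theorem D60770 : act 2 n28833 = n60770 := rfl
theorem F95359 : act 7 n28834 = n60770 := d15_2 (iv0 D28833) D28834 (iv2 D60770)
def n60771 : Q := act 3 n28833
theorem D60771 : act 3 n28833 = n60771 := rfl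
def n60772 : Q := act 4 n28833
theorem D60772 : act 4 n28833 = n60772 := rfl
def n60773 : Q := act 5 n28833
theorem D60773 : act 5 n28833 = n60773 := rfl
def n60774 : Q := act 6 n28833
theorem D60774 : act 6 n28833 = n60774 := rfl
def n60775 : Q := act 7 n28833
theorem D60775 : act 7 n28833 = n60775 := rfl
def n60776 : Q := act 3 n28834
theorem D60776 : act 3 n28834 = n60776 := rfl
def n60777 : Q := act 4 n28834
theorem D60777 : act 4 n28834 = n60777 := rfl
def n60778 : Q := act 5 n28834
theorem D60778 : act 5 n28834 = n60778 := rfl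
def n60779 : Q := act 6 n28834
theorem D60779 : act 6 n28834 = n60779 := rfl
def n60780 : Q := act 5 n28835
theorem D60780 : act 5 n28835 = n60780 := rfl
theorem F95361 : act 2 n60780 = n28836 := d2_1 D60780 (iv5 D28836) D28835
def n60781 : Q := act 6 n28835
theorem D60781 : act 6 n28835 = n60781 := rfl
theorem F95362 : act 2 n60781 = n28837 := d3_1 D60781 (iv6 D28837) D28835
def n60782 : Q := act 0 n28836
theorem D60782 : act 0 n28836 = n60782 := rfl
def n60783 : Q := act 1 n28836
theorem D60783 : act 1 n28836 = n60783 := rfl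
def n60784 : Q := act 4 n28836
theorem D60784 : act 4 n28836 = n60784 := rfl
theorem F95363 : act 3 n60784 = n29280 := d5_1 D60784 (iv4 D29280) (iv3 D13915) (iv4 F22997) (iv3 F46477)
def n60785 : Q := act 6 n28836
theorem D60785 : act 6 n28836 = n60785 := rfl
theorem F95364 : act 3 n60785 = n28838 := d7_1 D60785 (iv6 D28838) (iv3 F46477)
def n60786 : Q := act 0 n28837
theorem D60786 : act 0 n28837 = n60786 := rfl
def n60787 : Q := act 1 n28837
theorem D60787 : act 1 n28837 = n60787 := rfl
def n60788 : Q := act 5 n28837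
theorem D60788 : act 5 n28837 = n60788 := rfl
def n60789 : Q := act 7 n28837
theorem D60789 : act 7 n28837 = n60789 := rfl
theorem F95366 : act 3 n60789 = n28842 := d8_1 D60789 (iv7 D28842) (iv3 F46478)
def n60790 : Q := act 0 n28838
theorem D60790 : act 0 n28838 = n60790 := rfl
def n60791 : Q := act 1 n28838
theorem D60791 : act 1 n28838 = n60791 := rfl
def n60792 : Q := act 5 n28838
theorem D60792 : act 5 n28838 = n60792 := rfl
theorem F95367 : act 6 n60792 = n28841 := d12_2 D28838 D60792 (iv5 D28841) (iv6 D13746) D13745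
def n60793 : Q := act 7 n28838
theorem D60793 : act 7 n28838 = n60793 := rfl
theorem F95368 : act 4 n60793 = n29284 := d11_1 D60793 (iv7 D29284) (iv4 F46479)
def n60794 : Q := act 3 n28839
theorem D60794 : act 3 n28839 = n60794 := rfl
def n60795 : Q := act 5 n28839
theorem D60795 : act 5 n28839 = n60795 := rfl
theorem F95369 : act 0 n60795 = n29472 := d17_2 D28839 D60795 (iv5 D29472) F23364 F10814 D11971 (iv5 F23001) (iv0 D13747) (iv4 F23000)
def n60796 : Q := act 3 n28840
theorem D60796 : act 3 n28840 = n60796 := rfl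
def n60797 : Q := act 5 n28840
theorem D60797 : act 5 n28840 = n60797 := rfl
theorem F95370 : act 1 n60797 = n29472 := d17_6 (iv1 D14194) F10996 D11911 F23429 (iv4 F80084) D60797 (iv5 D29472) D29471 F80108
def n60798 : Q := act 6 n28840
theorem D60798 : act 6 n28840 = n60798 := rfl
theorem F95371 : act 4 n60798 = n29566 := d10_1 D60798 (iv6 D29566) (iv4 F80084)
def n60799 : Q := act 0 n28841
theorem D60799 : act 0 n28841 = n60799 := rfl
theorem F95372 : act 5 n60799 = n28925 := d17_3 (iv1 D28840) D28841 D60799 F80121 F23780 (iv0 D11689) (iv5 F10855) D14042 (iv4 F80084)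
def n60800 : Q := act 1 n28841
theorem D60800 : act 1 n28841 = n60800 := rfl
theorem F95373 : act 5 n60800 = n28926 := d17_7 (iv1 F23374) (iv5 F23032) (iv1 D13432) (iv5 F10609) (iv4 F23000) D28841 D60800 F47256 F47253
def n60801 : Q := act 4 n28841
theorem D60801 : act 4 n28841 = n60801 := rfl
def n60803 : Q := act 0 n28843
theorem D60803 : act 0 n28843 = n60803 := rfl
def n60804 : Q := act 1 n28843
theorem D60804 : act 1 n28843 = n60804 := rfl
def n60805 : Q := act 2 n28843
theorem D60805 : act 2 n28843 = n60805 := rfl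
theorem F95375 : act 5 n60805 = n51992 := d2_2 (iv5 F46481) D60805 (iv2 D51992)
def n60806 : Q := act 4 n28843
theorem D60806 : act 4 n28843 = n60806 := rfl
def n60807 : Q := act 3 n28844
theorem D60807 : act 3 n28844 = n60807 := rfl
def n60808 : Q := act 5 n28844
theorem D60808 : act 5 n28844 = n60808 := rfl
theorem F95376 : act 0 n60808 = n29499 := d17_2 (iv1 F79875) D60808 (iv5 D29499) F23387 F11041 D11642 (iv5 F23089) (iv0 D13823) (iv4 F23088)
def n60811 : Q := act 2 n28845
theorem D60811 : act 2 n28845 = n60811 := rfl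
def n60812 : Q := act 4 n28845
theorem D60812 : act 4 n28845 = n60812 := rfl
def n60813 : Q := act 6 n28845
theorem D60813 : act 6 n28845 = n60813 := rfl
theorem F95378 : act 3 n60813 = n28847 := d7_1 D60813 (iv6 D28847) D28845
def n60814 : Q := act 3 n28846
theorem D60814 : act 3 n28846 = n60814 := rfl
def n60815 : Q := act 5 n28846
theorem D60815 : act 5 n28846 = n60815 := rfl
theorem F95379 : act 1 n60815 = n29499 := d17_6 (iv1 D14014) F10814 D11970 F23002 D28846 D60815 (iv5 D29499) (iv0 F79872) (iv4 D29478)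
def n60816 : Q := act 6 n28846
theorem D60816 : act 6 n28846 = n60816 := rfl
theorem F95380 : act 4 n60816 = n28847 := d10_1 D60816 (iv6 D28847) D28846
def n60817 : Q := act 3 n28848
theorem D60817 : act 3 n28848 = n60817 := rfl
theorem F95381 : act 7 n60817 = n48773 := d8_2 (iv7 F46483) D60817 (iv3 D48773)
def n60818 : Q := act 5 n28848
theorem D60818 : act 5 n28848 = n60818 := rfl
theorem F95382 : act 7 n60818 = n48774 := d13_2 (iv7 F46483) D60818 (iv5 D48774)
def n60819 : Q := act 6 n28848
theorem D60819 : act 6 n28848 = n60819 := rfl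
theorem F95383 : act 4 n60819 = n28849 := d10_1 D60819 (iv6 D28849) D28848
theorem F95384 : act 7 n60819 = n59402 := d14_2 (iv7 F46483) D60819 (iv6 D59402) (iv7 D28208) (iv6 F37064)
def n60820 : Q := act 3 n28850
theorem D60820 : act 3 n28850 = n60820 := rfl
theorem F95385 : act 4 n60820 = n59375 := d5_2 D28850 D60820 (iv3 D59375) (iv4 D28200) (iv3 F23008)
def n60821 : Q := act 5 n28850
theorem D60821 : act 5 n28850 = n60821 := rfl
theorem F95386 : act 2 n60821 = n28860 := d2_1 D60821 (iv5 D28860) (iv2 F46486)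
theorem F95387 : act 0 n60821 = n53110 := d17_2 (iv1 F47055) D60821 (iv5 D53110) (iv4 D25764) (iv5 D12231) D12230 D25762 (iv0 F47494) F47493
def n60822 : Q := act 6 n28850
theorem D60822 : act 6 n28850 = n60822 := rfl
theorem F95388 : act 2 n60822 = n28861 := d3_1 D60822 (iv6 D28861) (iv2 F46486)
theorem F95389 : act 4 n60822 = n28851 := d10_1 D60822 (iv6 D28851) D28850
def n60823 : Q := act 3 n28853
theorem D60823 : act 3 n28853 = n60823 := rfl
def n60824 : Q := act 5 n28853
theorem D60824 : act 5 n28853 = n60824 := rfl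
def n60825 : Q := act 6 n28853
theorem D60825 : act 6 n28853 = n60825 := rfl
theorem F95390 : act 4 n60825 = n28854 := d10_1 D60825 (iv6 D28854) D28853
def n60826 : Q := act 3 n28855
theorem D60826 : act 3 n28855 = n60826 := rfl
def n60827 : Q := act 5 n28855
theorem D60827 : act 5 n28855 = n60827 := rfl
def n60828 : Q := act 6 n28855
theorem D60828 : act 6 n28855 = n60828 := rfl
theorem F95391 : act 4 n60828 = n28856 := d10_1 D60828 (iv6 D28856) D28855
def n60829 : Q := act 0 n28856
theorem D60829 : act 0 n28856 = n60829 := rfl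
theorem F95392 : act 5 n60829 = n59537 := d21_2 (iv5 F46495) D60829 (iv6 D59537) (iv1 D28266) (iv6 D13495) F22614 (iv1 F38824) (iv5 F41140) F78606 (iv1 D49739)
def n60830 : Q := act 1 n28856
theorem D60830 : act 1 n28856 = n60830 := rfl
def n60831 : Q := act 7 n28856
theorem D60831 : act 7 n28856 = n60831 := rfl
theorem F95393 : act 5 n60831 = n49740 := d13_1 D60831 (iv7 D49740) (iv5 F46495)
theorem F95394 : act 6 n60831 = n59378 := d14_1 D60831 F93679 (iv6 D29373) F23900 D28856
def n60832 : Q := act 3 n28857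
theorem D60832 : act 3 n28857 = n60832 := rfl
def n60833 : Q := act 5 n28857
theorem D60833 : act 5 n28857 = n60833 := rfl
theorem F95395 : act 1 n60833 = n29436 := d17_6 D25763 (iv5 F79302) (iv1 F79306) (iv5 F47970) F47971 D60833 (iv5 D29436) (iv0 F40696) (iv4 D25764)
def n60834 : Q := act 6 n28857
theorem D60834 : act 6 n28857 = n60834 := rfl
theorem F95396 : act 0 n60834 = n59377 := d21_4 D29436 (iv1 F95395) (iv5 D60833) D60834 (iv6 D59377) D59376 F93670 (iv5 F48302) (iv6 F40695) F40696
def n60835 : Q := act 3 n28858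
theorem D60835 : act 3 n28858 = n60835 := rfl
def n60836 : Q := act 5 n28858
theorem D60836 : act 5 n28858 = n60836 := rfl
theorem F95397 : act 0 n60836 = n29436 := d17_2 F47031 D60836 (iv5 D29436) (iv4 D14000) (iv5 F19068) (iv0 F24196) (iv5 F23262) F23261 D29365
def n60837 : Q := act 6 n28858
theorem D60837 : act 6 n28858 = n60837 := rfl
def n60838 : Q := act 0 n28859
theorem D60838 : act 0 n28859 = n60838 := rfl
def n60839 : Q := act 1 n28859
theorem D60839 : act 1 n28859 = n60839 := rfl
def n60840 : Q := act 2 n28859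
theorem D60840 : act 2 n28859 = n60840 := rfl
theorem F95398 : act 4 n60840 = n28870 := d1_2 (iv4 F46496) D60840 (iv2 D28870)
def n60841 : Q := act 5 n28859
theorem D60841 : act 5 n28859 = n60841 := rfl
theorem F95399 : act 3 n60841 = n28860 := d6_1 D60841 (iv5 D28860) D28859
def n60842 : Q := act 6 n28859
theorem D60842 : act 6 n28859 = n60842 := rfl
theorem F95400 : act 3 n60842 = n28861 := d7_1 D60842 (iv6 D28861) D28859
theorem F95401 : act 4 n60842 = n28872 := d10_1 D60842 (iv6 D28872) (iv4 F46496)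
def n60843 : Q := act 6 n28860
theorem D60843 : act 6 n28860 = n60843 := rfl
def n60844 : Q := act 0 n28861
theorem D60844 : act 0 n28861 = n60844 := rfl
def n60845 : Q := act 5 n28861
theorem D60845 : act 5 n28861 = n60845 := rfl
def n60846 : Q := act 7 n28861
theorem D60846 : act 7 n28861 = n60846 := rfl
theorem F95402 : act 4 n60846 = n28864 := d11_1 D60846 (iv7 D28864) (iv4 F46497)
def n60847 : Q := act 3 n28862
theorem D60847 : act 3 n28862 = n60847 := rfl
theorem F95403 : act 5 n60847 = n59514 := d6_2 (iv5 F95300) D60847 F93938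
theorem F95404 : act 7 n60847 = n59513 := d8_2 (iv7 F95302) D60847 F93935
def n60848 : Q := act 4 n28862
theorem D60848 : act 4 n28862 = n60848 := rfl
theorem F95405 : act 7 n60848 = n59538 := d11_2 (iv7 F95302) D60848 (iv4 D59538)
def n60849 : Q := act 0 n28863
theorem D60849 : act 0 n28863 = n60849 := rfl
theorem F95406 : act 6 n60849 = n59626 := d21_5 (iv5 F24314) (iv1 D13758) D13759 (iv6 F46499) D60849 (iv5 D59626) (iv1 F78562) F78559 (iv6 D49715) (iv1 F38017)
def n60850 : Q := act 1 n28863
theorem D60850 : act 1 n28863 = n60850 := rfl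
def n60851 : Q := act 4 n28863
theorem D60851 : act 4 n28863 = n60851 := rfl
theorem F95407 : act 6 n60851 = n28867 := d10_2 (iv6 F46499) D60851 (iv4 D28867)
def n60852 : Q := act 3 n28867
theorem D60852 : act 3 n28867 = n60852 := rfl
theorem F95408 : act 4 n60852 = n28882 := d5_2 D28867 D60852 (iv3 D28882) (iv4 D13766) (iv3 F23013)
def n60853 : Q := act 5 n28867
theorem D60853 : act 5 n28867 = n60853 := rfl
theorem F95409 : act 0 n60853 = n49757 := d17_2 F48601 D60853 (iv5 D49757) (iv4 F38599) (iv5 F38597) (iv0 F38984) (iv5 F47484) F47482 D30212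
theorem F95410 : act 1 n60853 = n49760 := d17_6 (iv1 F38017) (iv5 F24314) (iv1 D13758) D13759 D28867 D60853 (iv5 D49760) F78556 F78555
def n60854 : Q := act 2 n28868
theorem D60854 : act 2 n28868 = n60854 := rfl
theorem F95411 : act 7 n28869 = n60854 := d15_2 (iv0 D28868) D28869 (iv2 D60854)
def n60855 : Q := act 3 n28868
theorem D60855 : act 3 n28868 = n60855 := rfl
def n60856 : Q := act 4 n28868
theorem D60856 : act 4 n28868 = n60856 := rfl
def n60857 : Q := act 5 n28868
theorem D60857 : act 5 n28868 = n60857 := rfl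
def n60858 : Q := act 6 n28868
theorem D60858 : act 6 n28868 = n60858 := rfl
def n60859 : Q := act 7 n28868
theorem D60859 : act 7 n28868 = n60859 := rfl
theorem F95412 : act 2 n60859 = n28869 := d4_1 D60859 F95411 (iv2 D60854)
def n60860 : Q := act 3 n28869
theorem D60860 : act 3 n28869 = n60860 := rfl
def n60861 : Q := act 4 n28869
theorem D60861 : act 4 n28869 = n60861 := rfl
def n60862 : Q := act 5 n28869
theorem D60862 : act 5 n28869 = n60862 := rfl
def n60863 : Q := act 6 n28869
theorem D60863 : act 6 n28869 = n60863 := rfl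
def n60864 : Q := act 5 n28870
theorem D60864 : act 5 n28870 = n60864 := rfl
theorem F95413 : act 2 n60864 = n28871 := d2_1 D60864 (iv5 D28871) D28870
def n60865 : Q := act 6 n28870
theorem D60865 : act 6 n28870 = n60865 := rfl
theorem F95414 : act 2 n60865 = n28872 := d3_1 D60865 (iv6 D28872) D28870
def n60866 : Q := act 0 n28871
theorem D60866 : act 0 n28871 = n60866 := rfl
def n60867 : Q := act 1 n28871
theorem D60867 : act 1 n28871 = n60867 := rfl
def n60868 : Q := act 4 n28871
theorem D60868 : act 4 n28871 = n60868 := rfl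
theorem F95415 : act 3 n60868 = n29272 := d5_1 D60868 (iv4 D29272) (iv3 D13913) (iv4 F23014) (iv3 F46512)
def n60869 : Q := act 6 n28871
theorem D60869 : act 6 n28871 = n60869 := rfl
theorem F95416 : act 3 n60869 = n28873 := d7_1 D60869 (iv6 D28873) (iv3 F46512)
def n60870 : Q := act 0 n28872
theorem D60870 : act 0 n28872 = n60870 := rfl
def n60871 : Q := act 1 n28872
theorem D60871 : act 1 n28872 = n60871 := rfl
def n60872 : Q := act 5 n28872
theorem D60872 : act 5 n28872 = n60872 := rfl
theorem F95417 : act 3 n60872 = n28875 := d6_1 D60872 (iv5 D28875) (iv3 F46513)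
def n60873 : Q := act 7 n28872
theorem D60873 : act 7 n28872 = n60873 := rfl
theorem F95418 : act 3 n60873 = n28876 := d8_1 D60873 (iv7 D28876) (iv3 F46513)
def n60874 : Q := act 0 n28873
theorem D60874 : act 0 n28873 = n60874 := rfl
def n60875 : Q := act 1 n28873
theorem D60875 : act 1 n28873 = n60875 := rfl
def n60876 : Q := act 5 n28873
theorem D60876 : act 5 n28873 = n60876 := rfl
theorem F95419 : act 6 n60876 = n28875 := d12_2 D28873 D60876 (iv5 D28875) (iv6 D13762) D13761
def n60877 : Q := act 7 n28873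
theorem D60877 : act 7 n28873 = n60877 := rfl
theorem F95420 : act 4 n60877 = n29276 := d11_1 D60877 (iv7 D29276) (iv4 F46514)
def n60878 : Q := act 3 n28874
theorem D60878 : act 3 n28874 = n60878 := rfl
theorem F95421 : act 7 n60878 = n31038 := d8_2 (iv7 F46739) D60878 (iv3 D31038)
def n60879 : Q := act 5 n28874
theorem D60879 : act 5 n28874 = n60879 := rfl
theorem F95422 : act 7 n60879 = n31039 := d13_2 (iv7 F46739) D60879 (iv5 D31039)
def n60880 : Q := act 0 n28875
theorem D60880 : act 0 n28875 = n60880 := rfl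
def n60881 : Q := act 1 n28875
theorem D60881 : act 1 n28875 = n60881 := rfl
def n60882 : Q := act 4 n28875
theorem D60882 : act 4 n28875 = n60882 := rfl
def n60883 : Q := act 7 n28875
theorem D60883 : act 7 n28875 = n60883 := rfl
theorem F95423 : act 5 n60883 = n28876 := d13_1 D60883 (iv7 D28876) D28875
def n60884 : Q := act 3 n28878
theorem D60884 : act 3 n28878 = n60884 := rfl
theorem F95424 : act 7 n60884 = n59655 := d8_2 (iv7 F46518) D60884 (iv3 D59655)
def n60885 : Q := act 5 n28878
theorem D60885 : act 5 n28878 = n60885 := rfl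
theorem F95425 : act 7 n60885 = n59656 := d13_2 (iv7 F46518) D60885 (iv5 D59656)
def n60886 : Q := act 3 n28879
theorem D60886 : act 3 n28879 = n60886 := rfl
theorem F95426 : act 6 n60886 = n59787 := d7_2 (iv6 F46519) D60886 F94135
def n60887 : Q := act 4 n28879
theorem D60887 : act 4 n28879 = n60887 := rfl
theorem F95427 : act 6 n60887 = n59794 := d10_2 (iv6 F46519) D60887 (iv4 D59794)
theorem F95428 : act 0 n60887 = n30925 := d17_0 F49510 (iv1 D31159) (iv5 D14724) (iv4 F18120) (iv5 F22991) F23328 (iv5 F24607) F46520 D60887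
theorem F95429 : act 1 n60887 = n29097 := d15_1 (iv0 F95428) (iv7 F84413) F84411
def n60888 : Q := act 3 n28880
theorem D60888 : act 3 n28880 = n60888 := rfl
theorem F95430 : act 6 n60888 = n31428 := d7_2 (iv6 F47224) D60888 (iv3 D31428)
def n60889 : Q := act 4 n28880
theorem D60889 : act 4 n28880 = n60889 := rfl
theorem F95431 : act 6 n60889 = n30732 := d10_2 (iv6 F47224) D60889 F49196
theorem F95432 : act 0 n60889 = n29097 := d17_0 (iv5 F49509) (iv1 F84684) F84682 F41059 F23332 (iv0 D13763) D13764 D28880 D60889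
theorem F95433 : act 1 n60889 = n30925 := d15_1 (iv0 F95432) F49363 F47618
def n60890 : Q := act 0 n28881
theorem D60890 : act 0 n28881 = n60890 := rfl
theorem F95434 : act 6 n60890 = n31334 := d21_5 D14512 (iv1 F46525) (iv5 D28883) (iv6 F46522) D60890 (iv5 F94132) (iv1 F94125) (iv5 D50009) (iv6 D24381) (iv1 F18789)
theorem F95435 : act 1 n31774 = n60890 := d15_0 (iv0 D60890) (iv7 F49360) (iv2 F50065)
theorem F95436 : act 4 n60890 = n29637 := d17_9 (iv1 F47610) F40964 (iv1 F23123) (iv5 D12307) (iv4 F20419) D25935 D53555 (iv5 F84479) F95435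
def n60891 : Q := act 1 n28881
theorem D60891 : act 1 n28881 = n60891 := rfl
theorem F95437 : act 1 n60891 = n31774 := d15_1 D60891 F50067 F47170
theorem F95438 : act 4 n60891 = n29638 := d17_9 (iv1 D29638) (iv5 D14076) D14075 (iv5 F23513) (iv4 F24361) (iv5 F49438) (iv0 F84476) F84473 D60891
theorem F95439 : act 6 n31422 = n60891 := d10_0 F95438 (iv6 F47617) (iv4 F49699)
def n60892 : Q := act 3 n28881
theorem D60892 : act 3 n28881 = n60892 := rfl
theorem F95440 : act 6 n60892 = n28882 := d7_2 (iv6 F46522) D60892 (iv3 D28882)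
def n60893 : Q := act 0 n28882
theorem D60893 : act 0 n28882 = n60893 := rfl
def n60894 : Q := act 1 n28882
theorem D60894 : act 1 n28882 = n60894 := rfl
def n60895 : Q := act 2 n28882
theorem D60895 : act 2 n28882 = n60895 := rfl
def n60896 : Q := act 5 n28882
theorem D60896 : act 5 n28882 = n60896 := rfl
theorem F95441 : act 3 n60896 = n28883 := d6_1 D60896 (iv5 D28883) D28882
def n60897 : Q := act 6 n28883
theorem D60897 : act 6 n28883 = n60897 := rfl
theorem F95442 : act 4 n60897 = n29725 := d10_1 D60897 F47770 (iv4 F46523)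
def n60898 : Q := act 3 n28884
theorem D60898 : act 3 n28884 = n60898 := rfl
theorem F95443 : act 7 n60898 = n30069 := d8_2 (iv7 F46528) D60898 (iv3 D30069)
def n60899 : Q := act 6 n28884
theorem D60899 : act 6 n28884 = n60899 := rfl
theorem F95444 : act 4 n60899 = n30071 := d10_1 D60899 (iv6 D30071) (iv4 F46526)
def n60900 : Q := act 0 n28885
theorem D60900 : act 0 n28885 = n60900 := rfl
def n60901 : Q := act 1 n28885
theorem D60901 : act 1 n28885 = n60901 := rfl
def n60902 : Q := act 2 n28885
theorem D60902 : act 2 n28885 = n60902 := rfl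
theorem F95445 : act 4 n60902 = n28893 := d1_2 (iv4 F46529) D60902 (iv2 D28893)
def n60903 : Q := act 5 n28885
theorem D60903 : act 5 n28885 = n60903 := rfl
theorem F95446 : act 3 n60903 = n28886 := d6_1 D60903 (iv5 D28886) D28885
def n60904 : Q := act 6 n28885
theorem D60904 : act 6 n28885 = n60904 := rfl
theorem F95447 : act 3 n60904 = n28887 := d7_1 D60904 (iv6 D28887) D28885
theorem F95448 : act 4 n60904 = n28895 := d10_1 D60904 (iv6 D28895) (iv4 F46529)
def n60905 : Q := act 0 n28886
theorem D60905 : act 0 n28886 = n60905 := rfl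
theorem F95449 : act 5 n60905 = n29409 := d17_3 F23812 D28886 D60905 (iv4 F48157) (iv5 F48839) (iv0 F48840) (iv5 D30060) (iv0 D14266) D14268
theorem F95450 : act 2 n60709 = n60905 := d15_3 (iv0 D60905) (iv0 F95312) (iv7 F95317)
theorem F95451 : act 1 n59381 = n60905 := d15_0 (iv0 D60905) (iv7 F47234) (iv2 F93685)
theorem F95452 : act 7 n60905 = n60706 := d15_2 F95314 F95451 (iv2 F95315)
def n60906 : Q := act 6 n28886
theorem D60906 : act 6 n28886 = n60906 := rfl
def n60907 : Q := act 0 n28887
theorem D60907 : act 0 n28887 = n60907 := rfl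
def n60908 : Q := act 1 n28887
theorem D60908 : act 1 n28887 = n60908 := rfl
def n60909 : Q := act 5 n28887
theorem D60909 : act 5 n28887 = n60909 := rfl
def n60910 : Q := act 7 n28887
theorem D60910 : act 7 n28887 = n60910 := rfl
theorem F95453 : act 4 n60910 = n28890 := d11_1 D60910 (iv7 D28890) (iv4 F46530)
def n60911 : Q := act 2 n28888
theorem D60911 : act 2 n28888 = n60911 := rfl
theorem F95454 : act 7 n28889 = n60911 := d15_2 (iv0 D28888) D28889 (iv2 D60911)
def n60912 : Q := act 3 n28888
theorem D60912 : act 3 n28888 = n60912 := rfl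
def n60913 : Q := act 4 n28888
theorem D60913 : act 4 n28888 = n60913 := rfl
def n60914 : Q := act 5 n28888
theorem D60914 : act 5 n28888 = n60914 := rfl
def n60915 : Q := act 6 n28888
theorem D60915 : act 6 n28888 = n60915 := rfl
theorem F95455 : act 5 n60915 = n59250 := d21_6 F23311 F38151 F19744 D13768 D28888 D60915 (iv1 D59250) (iv5 F45590) (iv6 D28186) (iv1 F23310)
theorem F95456 : act 0 n28918 = n60915 := d21_10 F95455 (iv1 D59250) (iv5 F45590) (iv6 D28186) (iv1 F23310) D29408 F47125 (iv1 F82276) F49734 F47187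
theorem E8788 : n59250 = n59228 := (c21_9 F93422 (iv1 F85105) (iv5 F80461) (iv6 F82020) (iv1 F82021) F39869 (iv5 F46564) F95456 F95455 (iv6 D59228) (iv1 F93428))
theorem F95457 : act 0 n59228 = n28135 := (sb E8788 (iv1 D59250))
theorem F95458 : act 1 n59228 = n28141 := (sb E8788 F93469)
theorem F95459 : act 5 n59228 = n60915 := (sb E8788 (iv5 F95455))
theorem F95460 : act 6 n60914 = n59227 := d12_4 D59228 F95459 (iv6 D60915) D60914 (iv5 D59227)
theorem F95461 : act 0 n60915 = n28911 := d21_1 F95459 F46558 (iv6 D24750) (iv1 F19830) D25261 F39853 F50061 (iv5 F45303) (iv6 F45500) (iv1 F95458)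
theorem F95462 : act 0 n59537 = n60914 := d21_1 F95392 (iv5 D60914) D60915 F95461 (iv6 D28911) F23026 F22964 (iv5 F23262) D28856 D60829
def n60916 : Q := act 7 n28888
theorem D60916 : act 7 n28888 = n60916 := rfl
theorem F95463 : act 2 n60916 = n28889 := d4_1 D60916 F95454 (iv2 D60911)
def n60917 : Q := act 3 n28889
theorem D60917 : act 3 n28889 = n60917 := rfl
def n60918 : Q := act 4 n28889
theorem D60918 : act 4 n28889 = n60918 := rfl
def n60919 : Q := act 5 n28889
theorem D60919 : act 5 n28889 = n60919 := rfl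
theorem F95464 : act 6 n49774 = n60919 := d21_5 (iv5 D6413) (iv1 F10461) (iv5 F22610) D28222 (iv1 F78634) (iv5 D60919) (iv1 D28889) (iv5 F41148) (iv6 D26030) (iv1 F22562)
def n60920 : Q := act 6 n28889
theorem D60920 : act 6 n28889 = n60920 := rfl
def n60921 : Q := act 2 n28891
theorem D60921 : act 2 n28891 = n60921 := rfl
theorem F95465 : act 7 n28892 = n60921 := d15_2 (iv0 D28891) D28892 (iv2 D60921)
def n60922 : Q := act 3 n28891
theorem D60922 : act 3 n28891 = n60922 := rfl
def n60923 : Q := act 4 n28891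
theorem D60923 : act 4 n28891 = n60923 := rfl
theorem F95466 : act 3 n60923 = n59401 := d20_9 F93637 (iv1 D30092) (iv4 F48300) (iv3 D30063) F23812 D28885 F46529 D28891 D60923 (iv1 F93744)
theorem F95467 : act 5 n59396 = n60923 := d6_0 F95466 F93743 (iv3 F93722)
theorem F95468 : act 7 n59395 = n60923 := d8_0 F95466 (iv7 D59401) (iv3 F93721)
theorem F95469 : act 5 n60782 = n28891 := d19_1 D60782 D60923 F95466 (iv1 F93744) F93636 (iv4 D30058) F23807 (iv1 F37620) F37622 F19984 F9998 (iv1 D2471) F2688 D3504 F26621 F10638 (iv5 F10709) (iv4 F22997) (iv3 F46477)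
theorem F95470 : act 7 n28891 = n29464 := d11_2 F95468 (iv4 D60923) F93725
theorem F95471 : act 2 n29464 = n28892 := d4_1 F95470 F95465 (iv2 D60921)
theorem E8789 : n60921 = n29465 := (c15_4 F47243 F47239 (iv7 F95470) D60921)
theorem F95472 : act 2 n29465 = n28891 := (sb E8789 (iv2 D60921))
theorem F95473 : act 7 n29465 = n28892 := (sb E8789 (iv7 F95465))
def n60924 : Q := act 6 n28891
theorem D60924 : act 6 n28891 = n60924 := rfl
def n60925 : Q := act 3 n28892
theorem D60925 : act 3 n28892 = n60925 := rfl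
def n60926 : Q := act 4 n28892
theorem D60926 : act 4 n28892 = n60926 := rfl
theorem F95474 : act 2 n60926 = n59395 := d1_1 D60926 (iv4 F93725) F95471
theorem F95475 : act 5 n59394 = n60926 := d2_0 F95474 (iv5 D59395) D59394
def n60927 : Q := act 5 n28892
theorem D60927 : act 5 n28892 = n60927 := rfl
def n60928 : Q := act 6 n28892
theorem D60928 : act 6 n28892 = n60928 := rfl
def n60929 : Q := act 5 n28893
theorem D60929 : act 5 n28893 = n60929 := rfl
theorem F95476 : act 2 n60929 = n28894 := d2_1 D60929 (iv5 D28894) D28893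
def n60930 : Q := act 6 n28893
theorem D60930 : act 6 n28893 = n60930 := rfl
theorem F95477 : act 2 n60930 = n28895 := d3_1 D60930 (iv6 D28895) D28893
def n60931 : Q := act 0 n28894
theorem D60931 : act 0 n28894 = n60931 := rfl
def n60932 : Q := act 1 n28894
theorem D60932 : act 1 n28894 = n60932 := rfl
def n60933 : Q := act 4 n28894
theorem D60933 : act 4 n28894 = n60933 := rfl
theorem F95478 : act 3 n60933 = n29199 := d5_1 D60933 (iv4 D29199) F23158 (iv4 F23023) (iv3 F46532)
def n60934 : Q := act 6 n28894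
theorem D60934 : act 6 n28894 = n60934 := rfl
theorem F95479 : act 3 n60934 = n28898 := d7_1 D60934 (iv6 D28898) (iv3 F46532)
def n60935 : Q := act 0 n28895
theorem D60935 : act 0 n28895 = n60935 := rfl
def n60936 : Q := act 1 n28895
theorem D60936 : act 1 n28895 = n60936 := rfl
def n60937 : Q := act 5 n28895
theorem D60937 : act 5 n28895 = n60937 := rfl
theorem F95480 : act 3 n60937 = n28901 := d6_1 D60937 (iv5 D28901) (iv3 F46533)
def n60938 : Q := act 7 n28895
theorem D60938 : act 7 n28895 = n60938 := rfl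
theorem F95481 : act 3 n60938 = n28902 := d8_1 D60938 (iv7 D28902) (iv3 F46533)
def n60939 : Q := act 3 n28896
theorem D60939 : act 3 n28896 = n60939 := rfl
theorem F95482 : act 5 n60939 = n29042 := d6_2 (iv5 F46534) D60939 (iv3 D29042)
theorem F95483 : act 7 n60939 = n60758 := d8_2 F46541 D60939 F95350
def n60940 : Q := act 6 n28896
theorem D60940 : act 6 n28896 = n60940 := rfl
theorem F95484 : act 2 n60940 = n60769 := d3_1 D60940 (iv6 D60769) F46540
theorem F95485 : act 4 n60940 = n29059 := d10_1 D60940 (iv6 D29059) (iv4 F46535)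
def n60941 : Q := act 3 n28897
theorem D60941 : act 3 n28897 = n60941 := rfl
theorem F95486 : act 5 n60941 = n29035 := d6_2 (iv5 F46544) D60941 (iv3 D29035)
theorem F95487 : act 7 n60941 = n60768 := d8_2 (iv7 F46543) D60941 F95357
def n60942 : Q := act 6 n28897
theorem D60942 : act 6 n28897 = n60942 := rfl
theorem F95488 : act 2 n60942 = n60760 := d3_1 D60942 (iv6 D60760) F46546
theorem F95489 : act 4 n60942 = n29063 := d10_1 D60942 (iv6 D29063) (iv4 F46545)
def n60943 : Q := act 0 n28898
theorem D60943 : act 0 n28898 = n60943 := rfl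
def n60944 : Q := act 1 n28898
theorem D60944 : act 1 n28898 = n60944 := rfl
def n60945 : Q := act 5 n28898
theorem D60945 : act 5 n28898 = n60945 := rfl
theorem F95490 : act 6 n60945 = n28901 := d12_2 D28898 D60945 (iv5 D28901) (iv6 D13771) D13770
def n60946 : Q := act 7 n28898
theorem D60946 : act 7 n28898 = n60946 := rfl
theorem F95491 : act 4 n60946 = n29206 := d11_1 D60946 (iv7 D29206) (iv4 F46547)
def n60947 : Q := act 3 n28899
theorem D60947 : act 3 n28899 = n60947 := rfl
def n60948 : Q := act 5 n28899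
theorem D60948 : act 5 n28899 = n60948 := rfl
def n60949 : Q := act 3 n28900
theorem D60949 : act 3 n28900 = n60949 := rfl
def n60950 : Q := act 5 n28900
theorem D60950 : act 5 n28900 = n60950 := rfl
def n60951 : Q := act 6 n28900
theorem D60951 : act 6 n28900 = n60951 := rfl
theorem F95492 : act 4 n60951 = n30014 := d10_1 D60951 (iv6 D30014) (iv4 F48979)
def n60952 : Q := act 0 n28901
theorem D60952 : act 0 n28901 = n60952 := rfl
theorem F95493 : act 5 n60952 = n29036 := d17_3 (iv1 D28900) D28901 D60952 F46681 F23081 (iv0 F11931) F11225 D14247 (iv4 F48979)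
theorem F95494 : act 2 n60762 = n60952 := d2_3 F95493 F46680 D60762
def n60953 : Q := act 1 n28901
theorem D60953 : act 1 n28901 = n60953 := rfl
theorem F95495 : act 7 n60953 = n60762 := d15_2 (iv0 D60952) D60953 F95494
theorem F95496 : act 5 n60763 = n60953 := d21_6 (iv5 F20991) (iv1 F23016) (iv5 D13761) D13762 D28874 (iv6 F95355) (iv1 D60953) (iv5 D28901) (iv6 D13771) (iv1 F10999)
def n60954 : Q := act 4 n28901
theorem D60954 : act 4 n28901 = n60954 := rfl
def n60955 : Q := act 7 n28901
theorem D60955 : act 7 n28901 = n60955 := rfl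
theorem F95497 : act 5 n60955 = n28902 := d13_1 D60955 (iv7 D28902) D28901
theorem F95498 : act 0 n60762 = n60955 := d17_2 F95343 D60762 F95497 F46548 (iv5 F27065) (iv0 D16588) (iv5 F22987) D28823 D60746
def n60957 : Q := act 1 n28903
theorem D60957 : act 1 n28903 = n60957 := rfl
def n60958 : Q := act 2 n28903
theorem D60958 : act 2 n28903 = n60958 := rfl
def n60959 : Q := act 4 n28903
theorem D60959 : act 4 n28903 = n60959 := rfl
def n60960 : Q := act 5 n28903
theorem D60960 : act 5 n28903 = n60960 := rfl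
theorem F95499 : act 3 n60960 = n28905 := d6_1 D60960 (iv5 D28905) D28903
theorem F95500 : act 6 n60960 = n59238 := d12_2 F47268 D60960 (iv5 D59238) F45445 (iv5 F47267)
theorem F95501 : act 7 n60960 = n59788 := d13_2 F47215 D60960 (iv5 F94137)
def n60961 : Q := act 3 n28904
theorem D60961 : act 3 n28904 = n60961 := rfl
def n60962 : Q := act 5 n28904
theorem D60962 : act 5 n28904 = n60962 := rfl
def n60963 : Q := act 4 n28905
theorem D60963 : act 4 n28905 = n60963 := rfl
theorem F95502 : act 6 n60963 = n59239 := d10_2 (iv6 F46549) D60963 (iv4 D59239)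
theorem F95503 : act 7 n60963 = n53815 := d11_2 (iv7 F46550) D60963 F94147
theorem F95504 : act 1 n60963 = n53574 := d18_6 (iv1 D14189) (iv4 F23036) (iv1 F53622) (iv4 D28904) D28905 D60963 F84517 (iv0 F48045) F24410
def n60966 : Q := act 2 n28906
theorem D60966 : act 2 n28906 = n60966 := rfl
def n60967 : Q := act 4 n28906
theorem D60967 : act 4 n28906 = n60967 := rfl
def n60968 : Q := act 5 n28906
theorem D60968 : act 5 n28906 = n60968 := rfl
theorem F95505 : act 3 n60968 = n28908 := d6_1 D60968 (iv5 D28908) D28906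
def n60969 : Q := act 6 n28906
theorem D60969 : act 6 n28906 = n60969 := rfl
theorem F95507 : act 3 n60969 = n28909 := d7_1 D60969 (iv6 D28909) D28906
def n60970 : Q := act 3 n28907
theorem D60970 : act 3 n28907 = n60970 := rfl
def n60971 : Q := act 5 n28907
theorem D60971 : act 5 n28907 = n60971 := rfl
def n60972 : Q := act 6 n28907
theorem D60972 : act 6 n28907 = n60972 := rfl
theorem F95508 : act 4 n60972 = n28909 := d10_1 D60972 (iv6 D28909) D28907
theorem F95509 : act 1 n31027 = n60972 := d18_6 (iv1 D23820) F18120 (iv1 F47161) (iv4 D14676) D14677 D31027 F95508 (iv0 F47361) F47362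
theorem F95510 : act 1 n60972 = n31037 := d15_1 F95509 (iv7 F84501) F84499
def n60973 : Q := act 4 n28908
theorem D60973 : act 4 n28908 = n60973 := rfl
theorem F95511 : act 2 n60973 = n53815 := d1_1 D60973 F94147 (iv2 F46552)
theorem F95512 : act 6 n60973 = n48880 := d10_2 (iv6 F46553) D60973 (iv4 D48880)
def n60974 : Q := act 3 n28910
theorem D60974 : act 3 n28910 = n60974 := rfl
theorem F95513 : act 4 n60974 = n59380 := d5_2 D28910 D60974 (iv3 D59380) (iv4 D28202) (iv3 F23025)
def n60975 : Q := act 5 n28910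
theorem D60975 : act 5 n28910 = n60975 := rfl
theorem F95514 : act 2 n60975 = n28914 := d2_1 D60975 (iv5 D28914) (iv2 F46554)
theorem F95515 : act 0 n60975 = n60836 := d17_2 (iv1 F47180) D60975 (iv5 D60836) (iv4 F46662) F46661 (iv0 F38315) D25370 (iv0 F40117) (iv4 F47178)
theorem F95516 : act 1 n60975 = n60833 := d17_6 D13753 (iv5 F38743) (iv1 D24751) (iv5 F23026) D28910 D60975 (iv5 D60833) (iv0 D28857) (iv4 D13755)
def n60976 : Q := act 6 n28910
theorem D60976 : act 6 n28910 = n60976 := rfl
theorem F95517 : act 2 n60976 = n28915 := d3_1 D60976 (iv6 D28915) (iv2 F46554)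
theorem F95518 : act 4 n60976 = n28911 := d10_1 D60976 (iv6 D28911) D28910
def n60977 : Q := act 0 n28911
theorem D60977 : act 0 n28911 = n60977 := rfl
theorem F95519 : act 5 n60977 = n59249 := d21_0 (iv1 F93473) (iv5 F46451) (iv6 F47135) (iv1 F47136) (iv6 D28854) (iv5 F38743) (iv1 D24751) (iv5 F23026) D28911 D60977
theorem F95520 : act 0 n60977 = n28918 := d21_1 (iv5 F95519) F46564 (iv6 F39869) (iv1 F39870) (iv6 D24807) F22592 (iv1 F19775) (iv5 F22335) D28135 D59249
def n60978 : Q := act 7 n28911
theorem D60978 : act 7 n28911 = n60978 := rfl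
theorem F95521 : act 2 n60978 = n28918 := d4_1 D60978 (iv7 D28918) (iv2 F46556)
theorem F95522 : act 3 n60978 = n59385 := d8_1 D60978 (iv7 D59385) (iv3 F46557)
theorem F95523 : act 5 n60978 = n50893 := d13_1 D60978 (iv7 D50893) (iv5 F46558)
theorem F95524 : act 1 n28917 = n60978 := d15_1 D28917 (iv7 D60978) F46556
theorem F95525 : act 0 n28916 = n60978 := d21_1 (iv5 F93678) F95523 F82014 (iv1 D51939) (iv6 D25202) (iv5 F22584) (iv1 D11765) (iv5 F10409) D13430 D28139
def n60979 : Q := act 3 n28912
theorem D60979 : act 3 n28912 = n60979 := rfl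
theorem F95526 : act 4 n60979 = n53132 := d5_2 F46560 D60979 F83860 F40718 (iv3 F40698)
theorem F95527 : act 7 n60979 = n53109 := d8_2 (iv7 F46559) D60979 (iv3 D53109)
def n60980 : Q := act 6 n28912
theorem D60980 : act 6 n28912 = n60980 := rfl
theorem F95528 : act 4 n60980 = n53111 := d10_1 D60980 (iv6 D53111) F46560
def n60981 : Q := act 0 n28913
theorem D60981 : act 0 n28913 = n60981 := rfl
def n60982 : Q := act 1 n28913
theorem D60982 : act 1 n28913 = n60982 := rfl
def n60983 : Q := act 2 n28913
theorem D60983 : act 2 n28913 = n60983 := rfl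
theorem F95529 : act 4 n60983 = n28921 := d1_2 (iv4 F46561) D60983 (iv2 D28921)
def n60984 : Q := act 5 n28913
theorem D60984 : act 5 n28913 = n60984 := rfl
theorem F95530 : act 3 n60984 = n28914 := d6_1 D60984 (iv5 D28914) D28913
def n60985 : Q := act 6 n28913
theorem D60985 : act 6 n28913 = n60985 := rfl
theorem F95531 : act 3 n60985 = n28915 := d7_1 D60985 (iv6 D28915) D28913
theorem F95532 : act 4 n60985 = n28923 := d10_1 D60985 (iv6 D28923) (iv4 F46561)
def n60986 : Q := act 0 n28914
theorem D60986 : act 0 n28914 = n60986 := rfl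
theorem F95533 : act 5 n60986 = n29374 := d17_3 (iv1 D28912) D28914 D60986 (iv4 F47493) (iv5 D29590) (iv0 F38386) (iv5 F38385) F40701 F46560
theorem F95534 : act 2 n60836 = n60986 := d2_3 F95533 F47495 D60836
theorem F95535 : act 7 n60833 = n60986 := d13_0 F95533 (iv7 F47496) D60833
def n60987 : Q := act 1 n28914
theorem D60987 : act 1 n28914 = n60987 := rfl
theorem F95536 : act 7 n60987 = n60836 := d15_2 (iv0 D60986) D60987 F95534
theorem F95537 : act 5 n60987 = n29375 := d17_7 (iv1 F23271) (iv5 F23902) (iv1 D11725) (iv5 F10615) D13776 D28914 D60987 F47056 (iv4 D28850)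
theorem F95538 : act 2 n60833 = n60987 := d2_3 F95537 (iv2 F47498) D60833
def n60988 : Q := act 6 n28914
theorem D60988 : act 6 n28914 = n60988 := rfl
def n60989 : Q := act 0 n28915
theorem D60989 : act 0 n28915 = n60989 := rfl
def n60990 : Q := act 1 n28915
theorem D60990 : act 1 n28915 = n60990 := rfl
def n60991 : Q := act 5 n28915
theorem D60991 : act 5 n28915 = n60991 := rfl
def n60992 : Q := act 7 n28915
theorem D60992 : act 7 n28915 = n60992 := rfl
theorem F95539 : act 4 n60992 = n28918 := d11_1 D60992 (iv7 D28918) (iv4 F46562)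
def n60993 : Q := act 2 n28916
theorem D60993 : act 2 n28916 = n60993 := rfl
theorem F95540 : act 5 n60993 = n59258 := d2_2 (iv5 F93678) D60993 (iv2 D59258)
theorem F95541 : act 7 n28917 = n60993 := d15_2 (iv0 D28916) D28917 (iv2 D60993)
def n60994 : Q := act 3 n28916
theorem D60994 : act 3 n28916 = n60994 := rfl
theorem F95542 : act 5 n60994 = n59259 := d6_2 (iv5 F93678) D60994 (iv3 D59259)
def n60995 : Q := act 4 n28916
theorem D60995 : act 4 n28916 = n60995 := rfl
def n60996 : Q := act 6 n28916
theorem D60996 : act 6 n28916 = n60996 := rfl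
def n60997 : Q := act 7 n28916
theorem D60997 : act 7 n28916 = n60997 := rfl
theorem F95543 : act 2 n60997 = n28917 := d4_1 D60997 F95541 (iv2 D60993)
theorem F95544 : act 5 n60997 = n59263 := d13_1 D60997 (iv7 D59263) (iv5 F93678)
def n60998 : Q := act 3 n28917
theorem D60998 : act 3 n28917 = n60998 := rfl
theorem F95545 : act 5 n60998 = n59264 := d6_2 F93475 D60998 (iv3 D59264)
def n60999 : Q := act 4 n28917
theorem D60999 : act 4 n28917 = n60999 := rfl
def n61000 : Q := act 2 n28919
theorem D61000 : act 2 n28919 = n61000 := rfl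
theorem F95546 : act 7 n28920 = n61000 := d15_2 (iv0 D28919) D28920 (iv2 D61000)
def n61001 : Q := act 3 n28919
theorem D61001 : act 3 n28919 = n61001 := rfl
def n61002 : Q := act 4 n28919
theorem D61002 : act 4 n28919 = n61002 := rfl
def n61003 : Q := act 5 n28919
theorem D61003 : act 5 n28919 = n61003 := rfl
def n61004 : Q := act 6 n28919
theorem D61004 : act 6 n28919 = n61004 := rfl
def n61005 : Q := act 7 n28919
theorem D61005 : act 7 n28919 = n61005 := rfl
theorem F95547 : act 2 n61005 = n28920 := d4_1 D61005 F95546 (iv2 D61000)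
def n61006 : Q := act 3 n28920
theorem D61006 : act 3 n28920 = n61006 := rfl
def n61007 : Q := act 4 n28920
theorem D61007 : act 4 n28920 = n61007 := rfl
def n61008 : Q := act 5 n28920
theorem D61008 : act 5 n28920 = n61008 := rfl
def n61009 : Q := act 6 n28920
theorem D61009 : act 6 n28920 = n61009 := rfl
def n61010 : Q := act 5 n28921
theorem D61010 : act 5 n28921 = n61010 := rfl
theorem F95548 : act 2 n61010 = n28922 := d2_1 D61010 (iv5 D28922) D28921
def n61011 : Q := act 6 n28921
theorem D61011 : act 6 n28921 = n61011 := rfl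
theorem F95549 : act 2 n61011 = n28923 := d3_1 D61011 (iv6 D28923) D28921
def n61012 : Q := act 0 n28922
theorem D61012 : act 0 n28922 = n61012 := rfl
def n61013 : Q := act 1 n28922
theorem D61013 : act 1 n28922 = n61013 := rfl
def n61014 : Q := act 4 n28922
theorem D61014 : act 4 n28922 = n61014 := rfl
theorem F95550 : act 3 n61014 = n29173 := d5_1 D61014 (iv4 D29173) F23147 (iv4 F23030) (iv3 F46565)
def n61015 : Q := act 6 n28922
theorem D61015 : act 6 n28922 = n61015 := rfl
theorem F95551 : act 3 n61015 = n28924 := d7_1 D61015 (iv6 D28924) (iv3 F46565)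
def n61016 : Q := act 0 n28923
theorem D61016 : act 0 n28923 = n61016 := rfl
def n61017 : Q := act 1 n28923
theorem D61017 : act 1 n28923 = n61017 := rfl
def n61018 : Q := act 5 n28923
theorem D61018 : act 5 n28923 = n61018 := rfl
theorem F95552 : act 3 n61018 = n28927 := d6_1 D61018 (iv5 D28927) (iv3 F46566)
def n61019 : Q := act 7 n28923
theorem D61019 : act 7 n28923 = n61019 := rfl
theorem F95553 : act 3 n61019 = n28928 := d8_1 D61019 (iv7 D28928) (iv3 F46566)
def n61020 : Q := act 0 n28924
theorem D61020 : act 0 n28924 = n61020 := rfl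
def n61021 : Q := act 1 n28924
theorem D61021 : act 1 n28924 = n61021 := rfl
def n61022 : Q := act 5 n28924
theorem D61022 : act 5 n28924 = n61022 := rfl
theorem F95554 : act 6 n61022 = n28927 := d12_2 D28924 D61022 (iv5 D28927) (iv6 D13780) D13779
def n61023 : Q := act 7 n28924
theorem D61023 : act 7 n28924 = n61023 := rfl
theorem F95555 : act 4 n61023 = n29182 := d11_1 D61023 (iv7 D29182) (iv4 F46567)
def n61024 : Q := act 3 n28925
theorem D61024 : act 3 n28925 = n61024 := rfl
def n61025 : Q := act 6 n28925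
theorem D61025 : act 6 n28925 = n61025 := rfl
theorem F95556 : act 4 n61025 = n30024 := d10_1 D61025 (iv6 D30024) (iv4 F80121)
def n61026 : Q := act 3 n28926
theorem D61026 : act 3 n28926 = n61026 := rfl
def n61027 : Q := act 0 n28927
theorem D61027 : act 0 n28927 = n61027 := rfl
theorem F95557 : act 5 n61027 = n29054 := d17_3 (iv1 D28926) D28927 D61027 (iv4 D29054) (iv5 F23090) (iv0 D11641) (iv5 F11041) D14252 (iv4 F80117)
theorem F95558 : act 2 n60797 = n61027 := d2_3 F95557 (iv2 F80083) D60797
theorem F95559 : act 7 n60795 = n61027 := d13_0 F95557 (iv7 F80089) D60795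
def n61028 : Q := act 1 n28927
theorem D61028 : act 1 n28927 = n61028 := rfl
theorem F95560 : act 7 n61028 = n60797 := d15_2 (iv0 D61027) D61028 F95558
theorem F95561 : act 5 n61028 = n29052 := d17_7 D13982 F23299 (iv1 D11736) (iv5 F10617) (iv4 F23031) D28927 D61028 F80100 F23297
theorem F95562 : act 2 n60795 = n61028 := d2_3 F95561 (iv2 F80086) D60795
def n61030 : Q := act 7 n28927
theorem D61030 : act 7 n28927 = n61030 := rfl
theorem F95563 : act 5 n61030 = n28928 := d13_1 D61030 (iv7 D28928) D28927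
theorem F95564 : act 1 n60795 = n61030 := d15_1 (iv0 F95369) (iv7 D61030) (iv2 F47251)
theorem F95565 : act 1 n61030 = n60797 := d15_1 F95564 (iv7 F95560) (iv2 F95562)
def n61033 : Q := act 2 n28929
theorem D61033 : act 2 n28929 = n61033 := rfl
theorem F95566 : act 5 n61033 = n59268 := d2_2 (iv5 F46569) D61033 (iv2 D59268)
def n61034 : Q := act 4 n28929
theorem D61034 : act 4 n28929 = n61034 := rfl
def n61035 : Q := act 6 n28929
theorem D61035 : act 6 n28929 = n61035 := rfl
theorem F95567 : act 3 n61035 = n28931 := d7_1 D61035 (iv6 D28931) D28929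
def n61036 : Q := act 3 n28930
theorem D61036 : act 3 n28930 = n61036 := rfl
def n61037 : Q := act 5 n28930
theorem D61037 : act 5 n28930 = n61037 := rfl
theorem F95568 : act 1 n61037 = n29049 := d17_6 (iv1 D13748) F10609 D13431 (iv5 F23307) D28930 D61037 (iv5 D29049) (iv0 F79876) (iv4 D28846)
def n61038 : Q := act 6 n28930
theorem D61038 : act 6 n28930 = n61038 := rfl
theorem F95569 : act 4 n61038 = n28931 := d10_1 D61038 (iv6 D28931) D28930
theorem F95570 : act 1 n31037 = n61038 := d18_6 (iv1 F37141) (iv4 F41059) (iv1 F47606) (iv4 D14681) D14682 D31037 F95569 (iv0 F76927) (iv5 D48852)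
theorem F95571 : act 1 n61038 = n31027 := d15_1 F95570 (iv7 F84520) F84518
def n61039 : Q := act 0 n28932
theorem D61039 : act 0 n28932 = n61039 := rfl
def n61040 : Q := act 1 n28932
theorem D61040 : act 1 n28932 = n61040 := rfl
def n61041 : Q := act 2 n28932
theorem D61041 : act 2 n28932 = n61041 := rfl
theorem F95572 : act 5 n61041 = n59273 := d2_2 (iv5 F46570) D61041 (iv2 D59273)
def n61042 : Q := act 4 n28932
theorem D61042 : act 4 n28932 = n61042 := rfl
def n61043 : Q := act 3 n28933
theorem D61043 : act 3 n28933 = n61043 := rfl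
def n61044 : Q := act 5 n28933
theorem D61044 : act 5 n28933 = n61044 := rfl
theorem F95573 : act 0 n61044 = n29049 := d17_2 (iv1 F79888) D61044 (iv5 D29049) F23088 F10633 D11944 F23702 F23789 (iv4 F47310)
def n61045 : Q := act 2 n28934
theorem D61045 : act 2 n28934 = n61045 := rfl
theorem F95574 : act 7 n28935 = n61045 := d15_2 (iv0 D28934) D28935 (iv2 D61045)
def n61046 : Q := act 3 n28934
theorem D61046 : act 3 n28934 = n61046 := rfl
def n61047 : Q := act 4 n28934
theorem D61047 : act 4 n28934 = n61047 := rfl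
def n61048 : Q := act 5 n28934
theorem D61048 : act 5 n28934 = n61048 := rfl
def n61049 : Q := act 6 n28934
theorem D61049 : act 6 n28934 = n61049 := rfl
def n61050 : Q := act 7 n28934
theorem D61050 : act 7 n28934 = n61050 := rfl
theorem F95575 : act 2 n61050 = n28935 := d4_1 D61050 F95574 (iv2 D61045)
def n61051 : Q := act 3 n28935
theorem D61051 : act 3 n28935 = n61051 := rfl
def n61052 : Q := act 4 n28935
theorem D61052 : act 4 n28935 = n61052 := rfl
def n61053 : Q := act 5 n28935
theorem D61053 : act 5 n28935 = n61053 := rfl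
def n61054 : Q := act 6 n28935
theorem D61054 : act 6 n28935 = n61054 := rfl
def n61055 : Q := act 4 n28936
theorem D61055 : act 4 n28936 = n61055 := rfl
theorem F95576 : act 2 n61055 = n28937 := d1_1 D61055 (iv4 D28937) D28936
def n61056 : Q := act 5 n28936
theorem D61056 : act 5 n28936 = n61056 := rfl
theorem F95577 : act 2 n61056 = n28938 := d2_1 D61056 (iv5 D28938) D28936
def n61057 : Q := act 6 n28936
theorem D61057 : act 6 n28936 = n61057 := rfl
theorem F95578 : act 2 n61057 = n28939 := d3_1 D61057 (iv6 D28939) D28936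
def n61058 : Q := act 0 n28937
theorem D61058 : act 0 n28937 = n61058 := rfl
def n61059 : Q := act 1 n28937
theorem D61059 : act 1 n28937 = n61059 := rfl
theorem F95579 : act 4 n61001 = n61059 := d20_6 F10828 (iv1 F4675) D6556 D13778 D28919 D61001 (iv1 D61059) (iv4 D28937) (iv3 D13784) (iv1 F10831)
def n61060 : Q := act 5 n28937
theorem D61060 : act 5 n28937 = n61060 := rfl
theorem F95580 : act 3 n61060 = n29862 := d6_1 D61060 (iv5 D29862) (iv3 F46571)
def n61061 : Q := act 6 n28937
theorem D61061 : act 6 n28937 = n61061 := rfl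
theorem F95581 : act 3 n61061 = n29863 := d7_1 D61061 (iv6 D29863) (iv3 F46571)
theorem F95582 : act 4 n61061 = n28939 := d10_1 D61061 (iv6 D28939) D28937
def n61062 : Q := act 0 n28938
theorem D61062 : act 0 n28938 = n61062 := rfl
def n61063 : Q := act 1 n28938
theorem D61063 : act 1 n28938 = n61063 := rfl
def n61064 : Q := act 4 n28938
theorem D61064 : act 4 n28938 = n61064 := rfl
theorem F95583 : act 3 n61064 = n29150 := d5_1 D61064 (iv4 D29150) F23141 (iv4 F23035) (iv3 F46572)
def n61065 : Q := act 6 n28938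
theorem D61065 : act 6 n28938 = n61065 := rfl
theorem F95584 : act 3 n61065 = n28942 := d7_1 D61065 (iv6 D28942) (iv3 F46572)
def n61066 : Q := act 0 n28939
theorem D61066 : act 0 n28939 = n61066 := rfl
def n61067 : Q := act 1 n28939
theorem D61067 : act 1 n28939 = n61067 := rfl
def n61068 : Q := act 5 n28939
theorem D61068 : act 5 n28939 = n61068 := rfl
theorem F95585 : act 3 n61068 = n28945 := d6_1 D61068 (iv5 D28945) (iv3 F46573)
def n61069 : Q := act 7 n28939
theorem D61069 : act 7 n28939 = n61069 := rfl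
theorem F95586 : act 3 n61069 = n28946 := d8_1 D61069 (iv7 D28946) (iv3 F46573)
def n61070 : Q := act 3 n28940
theorem D61070 : act 3 n28940 = n61070 := rfl
theorem F95587 : act 5 n61070 = n29389 := d6_2 (iv5 F46574) D61070 (iv3 D29389)
theorem F95588 : act 7 n61070 = n60736 := d8_2 F46579 D61070 F95335
def n61071 : Q := act 6 n28940
theorem D61071 : act 6 n28940 = n61071 := rfl
theorem F95589 : act 2 n61071 = n60752 := d3_1 D61071 (iv6 D60752) F46578
theorem F95590 : act 4 n61071 = n29179 := d10_1 D61071 (iv6 D29179) (iv4 F46575)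
def n61072 : Q := act 3 n28941
theorem D61072 : act 3 n28941 = n61072 := rfl
theorem F95591 : act 4 n61072 = n30627 := d5_2 (iv4 F46583) D61072 F49091 F24160 (iv3 F26582)
theorem F95592 : act 5 n61072 = n29384 := d6_2 (iv5 F46582) D61072 (iv3 D29384)
theorem F95593 : act 7 n61072 = n60750 := d8_2 (iv7 F46581) D61072 F95344
def n61073 : Q := act 6 n28941
theorem D61073 : act 6 n28941 = n61073 := rfl
theorem F95594 : act 2 n61073 = n60738 := d3_1 D61073 (iv6 D60738) F46584
theorem F95595 : act 4 n61073 = n29177 := d10_1 D61073 (iv6 D29177) (iv4 F46583)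
def n61074 : Q := act 0 n28942
theorem D61074 : act 0 n28942 = n61074 := rfl
def n61075 : Q := act 1 n28942
theorem D61075 : act 1 n28942 = n61075 := rfl
def n61076 : Q := act 5 n28942
theorem D61076 : act 5 n28942 = n61076 := rfl
theorem F95596 : act 6 n61076 = n28945 := d12_2 D28942 D61076 (iv5 D28945) (iv6 D13786) D13785
def n61077 : Q := act 7 n28942
theorem D61077 : act 7 n28942 = n61077 := rfl
theorem F95597 : act 4 n61077 = n29157 := d11_1 D61077 (iv7 D29157) (iv4 F46585)
def n61078 : Q := act 0 n28945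
theorem D61078 : act 0 n28945 = n61078 := rfl
theorem F95598 : act 5 n61078 = n29385 := d17_3 F53623 D28945 D61078 F47071 F23285 (iv0 F20490) F20489 D13773 D28907
theorem F95599 : act 2 n60741 = n61078 := d2_3 F95598 F47070 D60741
def n61079 : Q := act 1 n28945
theorem D61079 : act 1 n28945 = n61079 := rfl
theorem F95600 : act 7 n61079 = n60741 := d15_2 (iv0 D61078) D61079 F95599
theorem F95601 : act 5 n60742 = n61079 := d21_6 F10829 (iv1 F23044) F23045 D13848 (iv1 F47159) (iv6 F95341) (iv1 D61079) (iv5 D28945) (iv6 D13786) (iv1 F10831)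
def n61080 : Q := act 4 n28945
theorem D61080 : act 4 n28945 = n61080 := rfl
def n61081 : Q := act 7 n28945
theorem D61081 : act 7 n28945 = n61081 := rfl
theorem F95602 : act 5 n61081 = n28946 := d13_1 D61081 (iv7 D28946) D28945
theorem F95603 : act 0 n60741 = n61081 := d17_2 (iv1 D60740) D60741 F95602 F46586 (iv5 F26158) (iv0 D16533) (iv5 F23081) D29038 (iv4 F95338)
def n61082 : Q := act 2 n28947
theorem D61082 : act 2 n28947 = n61082 := rfl
theorem F95604 : act 7 n28948 = n61082 := d15_2 (iv0 D28947) D28948 (iv2 D61082)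
def n61083 : Q := act 3 n28947
theorem D61083 : act 3 n28947 = n61083 := rfl
def n61084 : Q := act 4 n28947
theorem D61084 : act 4 n28947 = n61084 := rfl
def n61085 : Q := act 5 n28947
theorem D61085 : act 5 n28947 = n61085 := rfl
def n61086 : Q := act 6 n28947
theorem D61086 : act 6 n28947 = n61086 := rfl
def n61087 : Q := act 7 n28947
theorem D61087 : act 7 n28947 = n61087 := rfl
theorem F95605 : act 2 n61087 = n28948 := d4_1 D61087 F95604 (iv2 D61082)
def n61088 : Q := act 3 n28948
theorem D61088 : act 3 n28948 = n61088 := rfl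
def n61089 : Q := act 4 n28948
theorem D61089 : act 4 n28948 = n61089 := rfl
def n61090 : Q := act 5 n28948
theorem D61090 : act 5 n28948 = n61090 := rfl
def n61091 : Q := act 6 n28948
theorem D61091 : act 6 n28948 = n61091 := rfl
def n61092 : Q := act 4 n28949
theorem D61092 : act 4 n28949 = n61092 := rfl
theorem F95606 : act 2 n61092 = n28950 := d1_1 D61092 (iv4 D28950) D28949
def n61093 : Q := act 5 n28949
theorem D61093 : act 5 n28949 = n61093 := rfl
theorem F95607 : act 2 n61093 = n28951 := d2_1 D61093 (iv5 D28951) D28949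
def n61094 : Q := act 6 n28949
theorem D61094 : act 6 n28949 = n61094 := rfl
theorem F95608 : act 2 n61094 = n28952 := d3_1 D61094 (iv6 D28952) D28949
def n61095 : Q := act 0 n28950
theorem D61095 : act 0 n28950 = n61095 := rfl
def n61096 : Q := act 1 n28950
theorem D61096 : act 1 n28950 = n61096 := rfl
theorem F95609 : act 3 n59338 = n61096 := d20_3 (iv4 F93635) (iv1 F93745) F93742 (iv1 D61096) F46587 (iv4 D14191) F22539 D6809 D14283 D30091
theorem F95610 : act 4 n60922 = n61096 := d20_6 (iv4 D2915) D2913 D6553 D13769 D28891 D60922 (iv1 D61096) (iv4 D28950) (iv3 D13787) (iv1 D6559)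
theorem F95611 : act 5 n61096 = n59337 := d6_2 D59338 F95609 (iv3 D59337)
def n61097 : Q := act 5 n28950
theorem D61097 : act 5 n28950 = n61097 := rfl
theorem F95612 : act 3 n61097 = n29874 := d6_1 D61097 (iv5 D29874) (iv3 F46587)
def n61098 : Q := act 6 n28950
theorem D61098 : act 6 n28950 = n61098 := rfl
theorem F95613 : act 3 n61098 = n29875 := d7_1 D61098 (iv6 D29875) (iv3 F46587)
theorem F95614 : act 4 n61098 = n28952 := d10_1 D61098 (iv6 D28952) D28950
def n61099 : Q := act 0 n28951
theorem D61099 : act 0 n28951 = n61099 := rfl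
def n61100 : Q := act 1 n28951
theorem D61100 : act 1 n28951 = n61100 := rfl
def n61101 : Q := act 4 n28951
theorem D61101 : act 4 n28951 = n61101 := rfl
theorem F95615 : act 3 n61101 = n29130 := d5_1 D61101 (iv4 D29130) F23131 (iv4 F23037) (iv3 F46588)
def n61102 : Q := act 6 n28951
theorem D61102 : act 6 n28951 = n61102 := rfl
theorem F95616 : act 3 n61102 = n28953 := d7_1 D61102 (iv6 D28953) (iv3 F46588)
def n61103 : Q := act 0 n28952
theorem D61103 : act 0 n28952 = n61103 := rfl
def n61104 : Q := act 1 n28952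
theorem D61104 : act 1 n28952 = n61104 := rfl
def n61105 : Q := act 5 n28952
theorem D61105 : act 5 n28952 = n61105 := rfl
theorem F95617 : act 3 n61105 = n28956 := d6_1 D61105 (iv5 D28956) (iv3 F46589)
def n61106 : Q := act 7 n28952
theorem D61106 : act 7 n28952 = n61106 := rfl
theorem F95618 : act 3 n61106 = n28957 := d8_1 D61106 (iv7 D28957) (iv3 F46589)
def n61107 : Q := act 0 n28953
theorem D61107 : act 0 n28953 = n61107 := rfl
def n61108 : Q := act 1 n28953
theorem D61108 : act 1 n28953 = n61108 := rfl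
def n61109 : Q := act 5 n28953
theorem D61109 : act 5 n28953 = n61109 := rfl
theorem F95619 : act 6 n61109 = n28956 := d12_2 D28953 D61109 (iv5 D28956) (iv6 D13789) D13788
def n61110 : Q := act 7 n28953
theorem D61110 : act 7 n28953 = n61110 := rfl
theorem F95620 : act 4 n61110 = n29138 := d11_1 D61110 (iv7 D29138) (iv4 F46590)
def n61111 : Q := act 0 n28956
theorem D61111 : act 0 n28956 = n61111 := rfl
theorem F95621 : act 5 n61111 = n29403 := d17_3 F79887 D28956 D61111 (iv4 D29403) (iv5 F23301) (iv0 D11735) (iv5 F10617) D13782 D28933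
theorem F95622 : act 2 n60815 = n61111 := d2_3 F95621 F47107 D60815
theorem F95623 : act 7 n60808 = n61111 := d13_0 F95621 F47108 D60808
def n61112 : Q := act 1 n28956
theorem D61112 : act 1 n28956 = n61112 := rfl
theorem F95625 : act 5 n61112 = n29401 := d17_7 D14041 F23427 (iv1 D11912) (iv5 F10996) (iv4 F23038) D28956 D61112 F79856 F23425
theorem F95626 : act 2 n60808 = n61112 := d2_3 F95625 F47102 D60808
def n61113 : Q := act 4 n28956
theorem D61113 : act 4 n28956 = n61113 := rfl
def n61114 : Q := act 7 n28956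
theorem D61114 : act 7 n28956 = n61114 := rfl
theorem F95627 : act 5 n61114 = n28957 := d13_1 D61114 (iv7 D28957) D28956
def n61115 : Q := act 6 n28958
theorem D61115 : act 6 n28958 = n61115 := rfl
theorem F95630 : act 2 n61115 = n28976 := d3_1 D61115 (iv6 D28976) F46592
def n61116 : Q := act 0 n28959
theorem D61116 : act 0 n28959 = n61116 := rfl
theorem F95631 : act 1 n28964 = n61116 := d15_0 (iv0 D61116) (iv7 F46595) (iv2 F46596)
def n61117 : Q := act 1 n28959
theorem D61117 : act 1 n28959 = n61117 := rfl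
theorem F95632 : act 1 n61117 = n28964 := d15_1 D61117 (iv7 D28964) D28959
def n61118 : Q := act 3 n28959
theorem D61118 : act 3 n28959 = n61118 := rfl
theorem F95633 : act 7 n61118 = n28965 := d8_2 F46595 D61118 (iv3 D28965)
def n61119 : Q := act 4 n28959
theorem D61119 : act 4 n28959 = n61119 := rfl
theorem F95634 : act 2 n61119 = n28961 := d1_1 D61119 (iv4 D28961) D28959
theorem F95635 : act 7 n61119 = n28966 := d11_2 F46595 D61119 (iv4 D28966)
def n61120 : Q := act 5 n28959
theorem D61120 : act 5 n28959 = n61120 := rfl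
theorem F95636 : act 2 n61120 = n28962 := d2_1 D61120 (iv5 D28962) D28959
theorem F95637 : act 7 n61120 = n28967 := d13_2 F46595 D61120 (iv5 D28967)
def n61121 : Q := act 6 n28959
theorem D61121 : act 6 n28959 = n61121 := rfl
theorem F95638 : act 2 n61121 = n28963 := d3_1 D61121 (iv6 D28963) D28959
def n61122 : Q := act 0 n28960
theorem D61122 : act 0 n28960 = n61122 := rfl
def n61123 : Q := act 1 n28960
theorem D61123 : act 1 n28960 = n61123 := rfl
def n61124 : Q := act 2 n28960
theorem D61124 : act 2 n28960 = n61124 := rfl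
def n61125 : Q := act 4 n28960
theorem D61125 : act 4 n28960 = n61125 := rfl
theorem F95639 : act 0 n61125 = n29852 := d20_7 (iv4 D6556) (iv1 D2914) D2915 D6560 D13790 D28960 D61125 F48005 F23706 (iv1 F10998)
theorem F95640 : act 0 n29850 = n61125 := d20_7 (iv4 F95252) (iv1 F95254) D60659 (iv3 F95257) (iv1 D30039) F23791 (iv4 F48002) (iv4 D61125) (iv3 D28960) D28958
def n61126 : Q := act 5 n28960
theorem D61126 : act 5 n28960 = n61126 := rfl
theorem F95641 : act 3 n61126 = n28962 := d6_1 D61126 (iv5 D28962) D28960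
def n61127 : Q := act 6 n28960
theorem D61127 : act 6 n28960 = n61127 := rfl
theorem F95642 : act 3 n61127 = n28963 := d7_1 D61127 (iv6 D28963) D28960
def n61128 : Q := act 7 n28960
theorem D61128 : act 7 n28960 = n61128 := rfl
theorem F95643 : act 3 n61128 = n28964 := d8_1 D61128 (iv7 D28964) D28960
def n61129 : Q := act 0 n28961
theorem D61129 : act 0 n28961 = n61129 := rfl
theorem F95644 : act 4 n61129 = n61006 := d20_2 D28961 D61129 (iv3 D61006) (iv1 D28920) (iv3 D13778) (iv4 D6556) (iv1 D2914) D2915 D6560 D13790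
def n61130 : Q := act 1 n28961
theorem D61130 : act 1 n28961 = n61130 := rfl
theorem F95645 : act 1 n61130 = n28966 := d15_1 D61130 (iv7 F95635) F95634
def n61131 : Q := act 3 n28961
theorem D61131 : act 3 n28961 = n61131 := rfl
def n61132 : Q := act 5 n28961
theorem D61132 : act 5 n28961 = n61132 := rfl
def n61133 : Q := act 6 n28961
theorem D61133 : act 6 n28961 = n61133 := rfl
theorem F95646 : act 4 n61133 = n28963 := d10_1 D61133 (iv6 D28963) D28961
def n61134 : Q := act 7 n28961
theorem D61134 : act 7 n28961 = n61134 := rfl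
theorem F95647 : act 2 n61134 = n28966 := d4_1 D61134 (iv7 F95635) F95634
theorem F95648 : act 4 n61134 = n28964 := d11_1 D61134 (iv7 D28964) D28961
theorem F95649 : act 1 n28966 = n61129 := d15_0 (iv0 D61129) D61134 F95647
def n61135 : Q := act 0 n28962
theorem D61135 : act 0 n28962 = n61135 := rfl
def n61136 : Q := act 1 n28962
theorem D61136 : act 1 n28962 = n61136 := rfl
def n61137 : Q := act 4 n28962
theorem D61137 : act 4 n28962 = n61137 := rfl
def n61138 : Q := act 6 n28962
theorem D61138 : act 6 n28962 = n61138 := rfl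
def n61139 : Q := act 7 n28962
theorem D61139 : act 7 n28962 = n61139 := rfl
theorem F95651 : act 2 n61139 = n28967 := d4_1 D61139 (iv7 F95637) F95636
theorem F95652 : act 5 n61139 = n28964 := d13_1 D61139 (iv7 D28964) D28962
theorem F95653 : act 1 n28967 = n61135 := d15_0 (iv0 D61135) D61139 F95651
def n61140 : Q := act 0 n28963
theorem D61140 : act 0 n28963 = n61140 := rfl
def n61141 : Q := act 1 n28963
theorem D61141 : act 1 n28963 = n61141 := rfl
def n61142 : Q := act 5 n28963
theorem D61142 : act 5 n28963 = n61142 := rfl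
def n61143 : Q := act 7 n28963
theorem D61143 : act 7 n28963 = n61143 := rfl
def n61144 : Q := act 6 n28964
theorem D61144 : act 6 n28964 = n61144 := rfl
theorem F95654 : act 2 n61144 = n28968 := d3_1 D61144 (iv6 D28968) (iv2 F46596)
def n61145 : Q := act 0 n28965
theorem D61145 : act 0 n28965 = n61145 := rfl
def n61146 : Q := act 1 n28965
theorem D61146 : act 1 n28965 = n61146 := rfl
def n61147 : Q := act 2 n28965
theorem D61147 : act 2 n28965 = n61147 := rfl
def n61148 : Q := act 4 n28965
theorem D61148 : act 4 n28965 = n61148 := rfl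
theorem F95655 : act 0 n60923 = n61148 := d20_1 D60923 (iv4 D61148) (iv3 D28965) (iv1 D13791) (iv3 D6560) (iv4 D2915) D2913 D6553 D13769 D28891
theorem F95656 : act 1 n60926 = n61148 := d15_0 (iv0 F95655) (iv7 F95468) (iv2 F95474)
def n61149 : Q := act 5 n28965
theorem D61149 : act 5 n28965 = n61149 := rfl
theorem F95657 : act 3 n61149 = n28967 := d6_1 D61149 (iv5 D28967) D28965
def n61150 : Q := act 6 n28965
theorem D61150 : act 6 n28965 = n61150 := rfl
theorem F95658 : act 3 n61150 = n28968 := d7_1 D61150 (iv6 D28968) D28965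
def n61151 : Q := act 3 n28966
theorem D61151 : act 3 n28966 = n61151 := rfl
def n61152 : Q := act 5 n28966
theorem D61152 : act 5 n28966 = n61152 := rfl
def n61153 : Q := act 6 n28966
theorem D61153 : act 6 n28966 = n61153 := rfl
theorem F95659 : act 4 n61153 = n28968 := d10_1 D61153 (iv6 D28968) D28966
def n61154 : Q := act 4 n28967
theorem D61154 : act 4 n28967 = n61154 := rfl
def n61155 : Q := act 6 n28967
theorem D61155 : act 6 n28967 = n61155 := rfl
def n61156 : Q := act 0 n28968
theorem D61156 : act 0 n28968 = n61156 := rfl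
def n61157 : Q := act 1 n28968
theorem D61157 : act 1 n28968 = n61157 := rfl
def n61158 : Q := act 5 n28968
theorem D61158 : act 5 n28968 = n61158 := rfl
def n61159 : Q := act 7 n28968
theorem D61159 : act 7 n28968 = n61159 := rfl
def n61161 : Q := act 3 n28969
theorem D61161 : act 3 n28969 = n61161 := rfl
def n61162 : Q := act 4 n28969
theorem D61162 : act 4 n28969 = n61162 := rfl
def n61166 : Q := act 3 n28970
theorem D61166 : act 3 n28970 = n61166 := rfl
theorem F95662 : act 4 n61166 = n29849 := d20_6 (iv4 D6657) (iv1 F4674) (iv4 F10620) (iv3 F23040) (iv1 F46598) D61166 (iv1 D29849) F23694 (iv3 D6754) (iv1 F10806)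
def n61170 : Q := act 4 n28971
theorem D61170 : act 4 n28971 = n61170 := rfl
theorem F95663 : act 2 n61170 = n28974 := d1_1 D61170 (iv4 D28974) (iv2 F46599)
theorem F95664 : act 5 n34246 = n61170 := d2_0 F95663 (iv5 F46601) D34246
def n61171 : Q := act 6 n28971
theorem D61171 : act 6 n28971 = n61171 := rfl
theorem F95665 : act 2 n61171 = n28975 := d3_1 D61171 (iv6 D28975) (iv2 F46599)
def n61172 : Q := act 2 n28972
theorem D61172 : act 2 n28972 = n61172 := rfl
theorem F95666 : act 7 n28973 = n61172 := d15_2 (iv0 D28972) D28973 (iv2 D61172)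
def n61173 : Q := act 3 n28972
theorem D61173 : act 3 n28972 = n61173 := rfl
def n61174 : Q := act 4 n28972
theorem D61174 : act 4 n28972 = n61174 := rfl
def n61175 : Q := act 5 n28972
theorem D61175 : act 5 n28972 = n61175 := rfl
def n61176 : Q := act 6 n28972
theorem D61176 : act 6 n28972 = n61176 := rfl
def n61177 : Q := act 7 n28972
theorem D61177 : act 7 n28972 = n61177 := rfl
theorem F95667 : act 2 n61177 = n28973 := d4_1 D61177 F95666 (iv2 D61172)
def n61178 : Q := act 3 n28973
theorem D61178 : act 3 n28973 = n61178 := rfl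
def n61179 : Q := act 4 n28973
theorem D61179 : act 4 n28973 = n61179 := rfl
def n61180 : Q := act 5 n28973
theorem D61180 : act 5 n28973 = n61180 := rfl
def n61181 : Q := act 6 n28973
theorem D61181 : act 6 n28973 = n61181 := rfl
def n61182 : Q := act 0 n28974
theorem D61182 : act 0 n28974 = n61182 := rfl
def n61183 : Q := act 1 n28974
theorem D61183 : act 1 n28974 = n61183 := rfl
def n61184 : Q := act 6 n28974
theorem D61184 : act 6 n28974 = n61184 := rfl
theorem F95669 : act 4 n61184 = n28975 := d10_1 D61184 (iv6 D28975) D28974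
def n61185 : Q := act 0 n28975
theorem D61185 : act 0 n28975 = n61185 := rfl
def n61186 : Q := act 1 n28975
theorem D61186 : act 1 n28975 = n61186 := rfl
def n61187 : Q := act 7 n28975
theorem D61187 : act 7 n28975 = n61187 := rfl
theorem F95670 : act 3 n61187 = n28983 := d8_1 D61187 (iv7 D28983) (iv3 F46602)
def n61188 : Q := act 0 n28976
theorem D61188 : act 0 n28976 = n61188 := rfl
def n61189 : Q := act 1 n28976
theorem D61189 : act 1 n28976 = n61189 := rfl
def n61190 : Q := act 5 n28976
theorem D61190 : act 5 n28976 = n61190 := rfl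
theorem F95671 : act 3 n61190 = n28985 := d6_1 D61190 (iv5 D28985) (iv3 F46603)
def n61191 : Q := act 0 n28977
theorem D61191 : act 0 n28977 = n61191 := rfl
def n61192 : Q := act 1 n28977
theorem D61192 : act 1 n28977 = n61192 := rfl
def n61193 : Q := act 2 n28977
theorem D61193 : act 2 n28977 = n61193 := rfl
theorem F95672 : act 5 n61193 = n29045 := d2_2 (iv5 F46604) D61193 (iv2 D29045)
def n61194 : Q := act 4 n28977
theorem D61194 : act 4 n28977 = n61194 := rfl
theorem F95673 : act 3 n61194 = n29110 := d5_1 D61194 (iv4 D29110) F23126 (iv4 F23042) D28977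
def n61195 : Q := act 6 n28977
theorem D61195 : act 6 n28977 = n61195 := rfl
theorem F95674 : act 3 n61195 = n28978 := d7_1 D61195 (iv6 D28978) D28977
def n61196 : Q := act 0 n28978
theorem D61196 : act 0 n28978 = n61196 := rfl
def n61197 : Q := act 1 n28978
theorem D61197 : act 1 n28978 = n61197 := rfl
def n61198 : Q := act 5 n28978
theorem D61198 : act 5 n28978 = n61198 := rfl
theorem F95675 : act 6 n61198 = n29049 := d12_2 D28978 D61198 (iv5 D29049) (iv6 D13822) (iv5 F23041)
def n61199 : Q := act 7 n28978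
theorem D61199 : act 7 n28978 = n61199 := rfl
theorem F95676 : act 4 n61199 = n29114 := d11_1 D61199 (iv7 D29114) (iv4 F46605)
def n61200 : Q := act 0 n28979
theorem D61200 : act 0 n28979 = n61200 := rfl
def n61201 : Q := act 1 n28979
theorem D61201 : act 1 n28979 = n61201 := rfl
def n61202 : Q := act 2 n28979
theorem D61202 : act 2 n28979 = n61202 := rfl
theorem F95677 : act 5 n61202 = n29088 := d2_2 (iv5 F46606) D61202 (iv2 D29088)
def n61203 : Q := act 4 n28979
theorem D61203 : act 4 n28979 = n61203 := rfl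
theorem F95678 : act 3 n61203 = n29067 := d5_1 D61203 (iv4 D29067) F23115 (iv4 F23046) D28979
def n61204 : Q := act 6 n28979
theorem D61204 : act 6 n28979 = n61204 := rfl
theorem F95679 : act 3 n61204 = n28980 := d7_1 D61204 (iv6 D28980) D28979
def n61205 : Q := act 0 n28980
theorem D61205 : act 0 n28980 = n61205 := rfl
def n61206 : Q := act 1 n28980
theorem D61206 : act 1 n28980 = n61206 := rfl
def n61207 : Q := act 5 n28980
theorem D61207 : act 5 n28980 = n61207 := rfl
theorem F95680 : act 6 n61207 = n29091 := d12_2 D28980 D61207 (iv5 D29091) (iv6 D13848) (iv5 F23045)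
def n61208 : Q := act 7 n28980
theorem D61208 : act 7 n28980 = n61208 := rfl
theorem F95681 : act 4 n61208 = n29071 := d11_1 D61208 (iv7 D29071) (iv4 F46607)
def n61209 : Q := act 2 n28981
theorem D61209 : act 2 n28981 = n61209 := rfl
theorem F95682 : act 7 n28982 = n61209 := d15_2 (iv0 D28981) D28982 (iv2 D61209)
def n61210 : Q := act 3 n28981
theorem D61210 : act 3 n28981 = n61210 := rfl
def n61211 : Q := act 4 n28981
theorem D61211 : act 4 n28981 = n61211 := rfl
def n61212 : Q := act 5 n28981
theorem D61212 : act 5 n28981 = n61212 := rfl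
def n61213 : Q := act 6 n28981
theorem D61213 : act 6 n28981 = n61213 := rfl
def n61214 : Q := act 7 n28981
theorem D61214 : act 7 n28981 = n61214 := rfl
theorem F95683 : act 2 n61214 = n28982 := d4_1 D61214 F95682 (iv2 D61209)
def n61215 : Q := act 3 n28982
theorem D61215 : act 3 n28982 = n61215 := rfl
def n61216 : Q := act 4 n28982
theorem D61216 : act 4 n28982 = n61216 := rfl
def n61217 : Q := act 5 n28982
theorem D61217 : act 5 n28982 = n61217 := rfl
def n61218 : Q := act 6 n28982
theorem D61218 : act 6 n28982 = n61218 := rfl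
def n61219 : Q := act 2 n28984
theorem D61219 : act 2 n28984 = n61219 := rfl
def n61220 : Q := act 3 n28984
theorem D61220 : act 3 n28984 = n61220 := rfl
def n61221 : Q := act 4 n28984
theorem D61221 : act 4 n28984 = n61221 := rfl
def n61222 : Q := act 5 n28984
theorem D61222 : act 5 n28984 = n61222 := rfl
def n61223 : Q := act 6 n28984
theorem D61223 : act 6 n28984 = n61223 := rfl
def n61224 : Q := act 0 n28985
theorem D61224 : act 0 n28985 = n61224 := rfl
theorem F95685 : act 1 n28985 = n61224 := d15_0 (iv0 D61224) (iv7 F47356) F47354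
def n61226 : Q := act 0 n28987
theorem D61226 : act 0 n28987 = n61226 := rfl
def n61227 : Q := act 1 n28987
theorem D61227 : act 1 n28987 = n61227 := rfl
def n61228 : Q := act 2 n28987
theorem D61228 : act 2 n28987 = n61228 := rfl
def n61229 : Q := act 4 n28987
theorem D61229 : act 4 n28987 = n61229 := rfl
def n61230 : Q := act 5 n28987
theorem D61230 : act 5 n28987 = n61230 := rfl
theorem F95688 : act 3 n61230 = n28989 := d6_1 D61230 (iv5 D28989) D28987
theorem F95689 : act 6 n61230 = n60743 := d12_2 (iv6 F94043) D61230 F95342 (iv6 D59653) D59652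
def n61231 : Q := act 0 n28988
theorem D61231 : act 0 n28988 = n61231 := rfl
theorem F95690 : act 1 n28988 = n61231 := d15_0 (iv0 D61231) F76961 (iv2 F76966)
def n61232 : Q := act 3 n28988
theorem D61232 : act 3 n28988 = n61232 := rfl
def n61233 : Q := act 5 n28988
theorem D61233 : act 5 n28988 = n61233 := rfl
def n61234 : Q := act 4 n28989
theorem D61234 : act 4 n28989 = n61234 := rfl
theorem F95691 : act 6 n61234 = n60744 := d10_2 (iv6 F46610) D61234 (iv4 D60744)
def n61235 : Q := act 4 n28990
theorem D61235 : act 4 n28990 = n61235 := rfl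
theorem F95692 : act 2 n61235 = n49725 := d1_1 D61235 F78589 (iv2 F47485)
theorem F95693 : act 7 n61235 = n49726 := d11_2 (iv7 F47481) D61235 F78592
theorem F95694 : act 0 n61235 = n49707 := d18_2 D28990 D61235 (iv4 D49707) (iv5 D24243) F22384 F38915 F38913 F19960 D13800
theorem F95695 : act 1 n61235 = n49706 := d18_6 (iv1 F24506) (iv4 F45147) F48131 F48129 (iv5 F46612) D61235 (iv4 D49706) (iv0 F49846) (iv5 D31512)
def n61236 : Q := act 6 n28990
theorem D61236 : act 6 n28990 = n61236 := rfl
theorem F95696 : act 3 n61236 = n49405 := d7_1 D61236 (iv6 D49405) F46614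
theorem F95697 : act 5 n61236 = n53107 := d12_1 D61236 (iv6 D53107) (iv5 D25762) F38586 (iv5 F46612)
def n61237 : Q := act 4 n28991
theorem D61237 : act 4 n28991 = n61237 := rfl
theorem F95698 : act 2 n61237 = n49726 := d1_1 D61237 F78592 (iv2 F47480)
theorem F95699 : act 7 n61237 = n49725 := d11_2 F47483 D61237 F78589
theorem F95700 : act 0 n61237 = n49706 := d18_2 (iv1 F46615) D61237 (iv4 D49706) (iv5 D24242) (iv4 F22382) (iv0 D13448) F10440 D11530 D24430
theorem F95701 : act 1 n61237 = n49707 := d18_6 D13757 D28866 F49163 (iv4 D30713) (iv5 F46616) D61237 (iv4 D49707) F38008 (iv5 D13759)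
def n61238 : Q := act 3 n28992
theorem D61238 : act 3 n28992 = n61238 := rfl
theorem F95702 : act 4 n61238 = n29001 := d5_2 D28992 D61238 (iv3 D29001) (iv4 D13803) (iv3 F23049)
def n61239 : Q := act 6 n28992
theorem D61239 : act 6 n28992 = n61239 := rfl
theorem F95703 : act 4 n61239 = n28993 := d10_1 D61239 (iv6 D28993) D28992
def n61240 : Q := act 0 n28993
theorem D61240 : act 0 n28993 = n61240 := rfl
theorem F95704 : act 6 n61240 = n30286 := d21_5 (iv5 D11531) (iv1 F19531) D13800 D28993 D61240 F84019 (iv1 D53193) (iv5 F79314) (iv6 D50100) (iv1 D24433)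
def n61241 : Q := act 1 n28993
theorem D61241 : act 1 n28993 = n61241 := rfl
def n61242 : Q := act 7 n28993
theorem D61242 : act 7 n28993 = n61242 := rfl
theorem F95705 : act 3 n61242 = n29006 := d8_1 D61242 (iv7 D29006) (iv3 F46618)
theorem F95706 : act 5 n61242 = n49549 := d13_1 D61242 (iv7 D49549) (iv5 F46619)
def n61243 : Q := act 3 n28994
theorem D61243 : act 3 n28994 = n61243 := rfl
def n61244 : Q := act 5 n28994
theorem D61244 : act 5 n28994 = n61244 := rfl
theorem F95707 : act 4 n61244 = n29013 := d16_2 D28994 D61244 (iv5 D29013) F23068 F23058 (iv4 F22266) (iv5 F23053) (iv7 F23459) (iv2 F23461)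
theorem F95708 : act 0 n61244 = n49979 := d17_2 (iv1 F46621) D61244 (iv5 D49979) (iv4 D24370) F18778 (iv0 F18567) D13954 F23238 D25290
theorem F95709 : act 1 n61244 = n51185 := d17_6 (iv1 F19951) (iv5 F19924) F18342 (iv5 F23050) D28994 D61244 (iv5 D51185) F40083 F40082
def n61245 : Q := act 6 n28994
theorem D61245 : act 6 n28994 = n61245 := rfl
theorem F95710 : act 4 n61245 = n28995 := d10_1 D61245 (iv6 D28995) D28994
def n61246 : Q := act 0 n28995
theorem D61246 : act 0 n28995 = n61246 := rfl
def n61247 : Q := act 1 n28995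
theorem D61247 : act 1 n28995 = n61247 := rfl
def n61248 : Q := act 7 n28995
theorem D61248 : act 7 n28995 = n61248 := rfl
theorem F95711 : act 3 n61248 = n53469 := d8_1 D61248 F84370 F48909
theorem F95712 : act 5 n61248 = n49200 := d13_1 D61248 (iv7 D49200) (iv5 F46622)
theorem F95713 : act 6 n61248 = n52333 := d14_1 D61248 (iv7 D52333) F40193 (iv7 F23457) D28995
def n61249 : Q := act 6 n28996
theorem D61249 : act 6 n28996 = n61249 := rfl
theorem F95714 : act 2 n61249 = n49494 := d3_1 D61249 (iv6 F78245) F48717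
theorem F95715 : act 3 n61249 = n28998 := d7_1 D61249 (iv6 D28998) D28996
theorem F95716 : act 5 n61249 = n48650 := d12_1 D61249 (iv6 D48650) (iv5 F39793) F39794 (iv5 F46623)
theorem F95717 : act 0 n61249 = n49487 := d21_4 F39086 (iv1 F24023) (iv5 F46623) D61249 (iv6 D49487) (iv5 D24152) (iv1 F19318) D14148 F23635 D24937
theorem F95718 : act 1 n61249 = n49496 := d15_1 (iv0 F95717) (iv7 D49496) (iv2 F78231)
def n61250 : Q := act 3 n28997
theorem D61250 : act 3 n28997 = n61250 := rfl
def n61251 : Q := act 5 n28997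
theorem D61251 : act 5 n28997 = n61251 := rfl
theorem F95719 : act 4 n61251 = n29011 := d9_1 D61251 (iv5 D29011) F23065 (iv5 D11266) (iv4 F18341) (iv5 F23050) D28994 D61244 F95707 (iv5 D29013) F23068 F23058 (iv4 F22266) (iv5 F23053) D28997
theorem F95720 : act 0 n61251 = n51185 := d17_2 (iv1 F46627) D61251 (iv5 D51185) (iv4 D24904) (iv5 D11819) (iv0 F19049) (iv5 F27058) (iv0 D16583) D16584
theorem F95721 : act 1 n61251 = n49979 := d17_6 D12035 F19922 (iv1 F22264) (iv5 F23053) D28997 D61251 (iv5 D49979) F38207 (iv4 D12037)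
def n61252 : Q := act 6 n28997
theorem D61252 : act 6 n28997 = n61252 := rfl
theorem F95722 : act 2 n61252 = n52332 := d3_1 D61252 F82708 F47499
theorem F95723 : act 4 n61252 = n28998 := d10_1 D61252 (iv6 D28998) D28997
theorem F95724 : act 0 n61252 = n49654 := d21_4 D49979 (iv1 F95721) (iv5 D61251) D61252 (iv6 D49654) (iv5 F49654) F49655 F49650 F40054 (iv1 F38207)
theorem F95725 : act 1 n61252 = n53933 := d15_1 (iv0 F95724) (iv7 D53933) (iv2 F78421)
theorem E8790 : n59169 = n59144 := ((c18_2 (iv1 F77453) D59144 (iv1 D59169) F45411 (iv5 F46629) (iv4 F95723) F95725 F85067 F78426 (iv5 F78429))).symm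
theorem F95726 : act 0 n59144 = n28105 := (sb E8790 (iv1 D59169))
theorem F95727 : act 1 n59144 = n52321 := (sb E8790 F93364)
def n61253 : Q := act 3 n28999
theorem D61253 : act 3 n28999 = n61253 := rfl
def n61254 : Q := act 5 n28999
theorem D61254 : act 5 n28999 = n61254 := rfl
theorem F95728 : act 4 n61254 = n29009 := d16_2 (iv4 F46630) D61254 (iv5 D29009) (iv4 D13807) (iv5 F10627) F18561 D24210 F37939 (iv2 F37573)
theorem F95729 : act 0 n61254 = n29672 := d17_2 D28999 D61254 F47691 F39948 F19922 (iv0 F18518) (iv5 F23050) (iv0 D13801) D13803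
theorem F95730 : act 1 n61254 = n52099 := d17_6 (iv1 F19892) (iv5 D11371) F18364 D24035 (iv4 F46630) D61254 (iv5 D52099) F40001 F39999
def n61255 : Q := act 6 n28999
theorem D61255 : act 6 n28999 = n61255 := rfl
theorem F95731 : act 4 n61255 = n49249 := d10_1 D61255 F77806 (iv4 F46630)
def n61256 : Q := act 3 n29000
theorem D61256 : act 3 n29000 = n61256 := rfl
def n61257 : Q := act 5 n29000
theorem D61257 : act 5 n29000 = n61257 := rfl
theorem F95732 : act 4 n61257 = n29007 := d9_1 D61257 (iv5 D29007) (iv4 D13805) F10623 (iv4 F18363) D24035 (iv4 F46630) D61254 F95728 (iv5 D29009) (iv4 D13807) (iv5 F10627) F18561 D24210 (iv4 F46633)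
theorem F95733 : act 0 n61257 = n52099 := d17_2 (iv1 F46632) D61257 (iv5 D52099) F39950 (iv5 F19924) D13395 (iv5 F23053) F23052 D25328
theorem F95734 : act 1 n61257 = n29672 := d17_6 D12010 F19864 (iv1 F19193) D24210 (iv4 F46633) D61257 F47691 (iv0 D25294) (iv4 D12011)
def n61258 : Q := act 0 n29001
theorem D61258 : act 0 n29001 = n61258 := rfl
def n61259 : Q := act 1 n29001
theorem D61259 : act 1 n29001 = n61259 := rfl
def n61260 : Q := act 2 n29001
theorem D61260 : act 2 n29001 = n61260 := rfl
def n61261 : Q := act 5 n29001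
theorem D61261 : act 5 n29001 = n61261 := rfl
theorem F95735 : act 3 n61261 = n29002 := d6_1 D61261 (iv5 D29002) D29001
def n61262 : Q := act 6 n29001
theorem D61262 : act 6 n29001 = n61262 := rfl
theorem F95736 : act 3 n61262 = n29003 := d7_1 D61262 (iv6 D29003) D29001
def n61263 : Q := act 6 n29002
theorem D61263 : act 6 n29002 = n61263 := rfl
theorem F95737 : act 4 n61263 = n52161 := d10_1 D61263 (iv6 D52161) (iv4 F46634)
def n61264 : Q := act 0 n29003
theorem D61264 : act 0 n29003 = n61264 := rfl
def n61265 : Q := act 1 n29003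
theorem D61265 : act 1 n29003 = n61265 := rfl
def n61266 : Q := act 5 n29003
theorem D61266 : act 5 n29003 = n61266 := rfl
def n61267 : Q := act 7 n29003
theorem D61267 : act 7 n29003 = n61267 := rfl
theorem F95738 : act 4 n61267 = n29006 := d11_1 D61267 (iv7 D29006) (iv4 F46637)
def n61268 : Q := act 2 n29004
theorem D61268 : act 2 n29004 = n61268 := rfl
theorem F95739 : act 7 n29005 = n61268 := d15_2 (iv0 D29004) D29005 (iv2 D61268)
def n61269 : Q := act 3 n29004
theorem D61269 : act 3 n29004 = n61269 := rfl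
def n61270 : Q := act 4 n29004
theorem D61270 : act 4 n29004 = n61270 := rfl
def n61271 : Q := act 7 n29004
theorem D61271 : act 7 n29004 = n61271 := rfl
theorem F95740 : act 2 n61271 = n29005 := d4_1 D61271 F95739 (iv2 D61268)
def n61272 : Q := act 3 n29005
theorem D61272 : act 3 n29005 = n61272 := rfl
def n61273 : Q := act 4 n29005
theorem D61273 : act 4 n29005 = n61273 := rfl
def n61274 : Q := act 6 n29005
theorem D61274 : act 6 n29005 = n61274 := rfl
def n61275 : Q := act 6 n29007
theorem D61275 : act 6 n29007 = n61275 := rfl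
def n61276 : Q := act 0 n29008
theorem D61276 : act 0 n29008 = n61276 := rfl
theorem F95741 : act 3 n61276 = n49832 := d20_5 (iv4 D12028) (iv1 F10626) D13807 D29008 D61276 F78781 (iv1 D29568) (iv4 F46643) (iv3 D29010) (iv1 F23066)
theorem F95742 : act 4 n61276 = n49302 := d20_8 F77970 (iv1 D28172) (iv4 F27760) F27759 (iv1 F23067) D29012 F46649 D61276 F77934 (iv1 F77973)
theorem F95743 : act 2 n52486 = n61276 := d15_3 (iv0 D61276) (iv0 F56578) (iv7 F82867)
theorem F95744 : act 6 n61276 = n48681 := d3_2 D52486 F95743 F76608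
theorem F95745 : act 7 n61276 = n52667 := d4_2 (iv7 F82867) F95743 F83224
def n61277 : Q := act 5 n29008
theorem D61277 : act 5 n29008 = n61277 := rfl
theorem F95746 : act 3 n61277 = n29009 := d6_1 D61277 (iv5 D29009) D29008
def n61278 : Q := act 6 n29009
theorem D61278 : act 6 n29009 = n61278 := rfl
def n61279 : Q := act 5 n29010
theorem D61279 : act 5 n29010 = n61279 := rfl
theorem F95747 : act 2 n61279 = n49687 := d2_1 D61279 (iv5 D49687) F47450
theorem F95748 : act 3 n61279 = n29011 := d6_1 D61279 (iv5 D29011) D29010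
theorem F95749 : act 7 n61279 = n49685 := d13_2 (iv7 F46644) D61279 (iv5 D49685)
theorem F95750 : act 1 n61279 = n33071 := d17_6 (iv1 F25402) D15977 (iv1 F52347) F46805 (iv4 F46643) D61279 (iv5 D33071) F52226 F52225
theorem F95751 : act 0 n61279 = n33069 := d21_1 D61279 (iv5 D33069) D33070 F52298 F41485 D54072 (iv1 F85323) (iv5 F55209) F55210 F46645
def n61280 : Q := act 6 n29011
theorem D61280 : act 6 n29011 = n61280 := rfl
theorem F95752 : act 5 n61280 = n53090 := d12_1 D61280 (iv6 D53090) (iv5 F46282) F46281 D29011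
def n61281 : Q := act 0 n29012
theorem D61281 : act 0 n29012 = n61281 := rfl
theorem F95753 : act 4 n61281 = n49297 := d20_0 (iv1 D49297) F37656 (iv3 D24020) (iv1 D11271) D11272 F26406 (iv1 F23062) (iv4 F23068) D29012 D61281
theorem F95754 : act 1 n43429 = n61281 := d15_0 (iv0 D61281) (iv7 F47545) (iv2 F83007)
theorem F95755 : act 3 n49203 = n61281 := d20_5 (iv4 D5198) D5196 D11267 D24013 D49203 F95753 (iv1 D49297) F37656 (iv3 D24020) (iv1 D11271)
def n61282 : Q := act 1 n29012
theorem D61282 : act 1 n29012 = n61282 := rfl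
theorem F95756 : act 4 n49296 = n61282 := d20_0 (iv1 D61282) F46649 (iv3 D29008) F23063 F27010 F18355 (iv1 F7768) D11295 D24061 D49296
theorem F95757 : act 0 n43429 = n61282 := d20_10 (iv4 F95756) (iv1 F77921) (iv4 F77939) F77938 (iv1 F54422) (iv3 F94198) F94199 F50547 F47449 (iv3 F83008)
def n61283 : Q := act 2 n29012
theorem D61283 : act 2 n29012 = n61283 := rfl
theorem F95758 : act 3 n61283 = n49684 := d0_2 D29012 D61283 (iv2 D49684) F37985 (iv2 F23479)
theorem F95759 : act 4 n61283 = n55277 := d1_2 (iv4 F46649) D61283 F87477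
theorem F95760 : act 7 n61283 = n43429 := d4_2 F47545 D61283 F83007
def n61284 : Q := act 5 n29012
theorem D61284 : act 5 n29012 = n61284 := rfl
theorem F95761 : act 3 n61284 = n29013 := d6_1 D61284 (iv5 D29013) D29012
theorem F95762 : act 7 n61284 = n43889 := d13_2 F47545 D61284 (iv5 F83010)
theorem F95763 : act 0 n43843 = n61284 := d21_1 D43843 (iv5 D61284) (iv6 F51382) F82960 (iv6 D34854) (iv5 F65521) (iv1 F52209) (iv5 D33028) D33029 (iv1 F65519)
theorem F95764 : act 2 n61284 = n43888 := d15_3 (iv0 D43888) D43889 (iv7 F95762)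
theorem F95765 : act 5 n43888 = n61283 := d2_2 D61284 F95764 (iv2 D61283)
def n61285 : Q := act 6 n29013
theorem D61285 : act 6 n29013 = n61285 := rfl
def n61286 : Q := act 3 n29014
theorem D61286 : act 3 n29014 = n61286 := rfl
theorem F95766 : act 2 n61286 = n49315 := d0_1 D61286 (iv3 F80522) F80521 (iv3 F78795) (iv2 F78775)
theorem F95767 : act 4 n61286 = n49313 := d5_2 (iv4 F46652) D61286 F77963 (iv4 D24306) D24305
theorem F95768 : act 7 n61286 = n49310 := d8_2 (iv7 F78773) D61286 F77958
def n61287 : Q := act 5 n29014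
theorem D61287 : act 5 n29014 = n61287 := rfl
theorem F95769 : act 0 n61287 = n52895 := d17_2 D29014 D61287 (iv5 D52895) F54280 D26529 (iv0 F46702) (iv5 D29065) (iv0 D13836) (iv4 F23069)
theorem F95770 : act 1 n61287 = n29670 := d15_1 (iv0 F95769) F47685 (iv2 F83585)
theorem F95771 : act 0 n29238 = n49843 := d17_2 F54050 D29238 (iv5 D49843) (iv4 F46652) D61287 F95770 (iv5 D29670) D29668 (iv4 F54051)
def n61288 : Q := act 6 n29014
theorem D61288 : act 6 n29014 = n61288 := rfl
theorem F95772 : act 4 n61288 = n49844 := d10_1 D61288 (iv6 D49844) (iv4 F46652)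
theorem F95773 : act 5 n61288 = n52976 := d21_6 D25513 (iv1 F49856) (iv5 D31517) F24511 D29014 D61288 (iv1 F83701) (iv5 D33285) F40340 (iv1 F40339)
theorem F95774 : act 0 n34939 = n61288 := d21_4 (iv5 F74311) F74309 (iv5 D34938) D34939 (iv6 D61288) D61287 F95769 (iv5 D52895) F83071 (iv1 D52560)
def n61289 : Q := act 5 n29015
theorem D61289 : act 5 n29015 = n61289 := rfl
theorem F95775 : act 0 n61289 = n29670 := d17_2 (iv1 F46656) D61289 (iv5 D29670) F23551 D14099 (iv0 F38078) (iv5 D24291) (iv0 F26730) (iv4 F43272)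
theorem F95776 : act 0 n52895 = n61289 := d21_1 D52895 (iv5 D61289) F82794 (iv1 D32347) (iv6 D15244) D15243 (iv1 F40568) (iv5 D12197) D12198 D25676
def n61290 : Q := act 4 n29017
theorem D61290 : act 4 n29017 = n61290 := rfl
def n61291 : Q := act 6 n29017
theorem D61291 : act 6 n29017 = n61291 := rfl
theorem F95777 : act 3 n61291 = n29019 := d7_1 D61291 (iv6 D29019) (iv3 F46657)
def n61292 : Q := act 3 n29018
theorem D61292 : act 3 n29018 = n61292 := rfl
theorem F95778 : act 5 n61292 = n52156 := d6_2 (iv5 F46658) D61292 (iv3 D52156)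
def n61293 : Q := act 6 n29018
theorem D61293 : act 6 n29018 = n61293 := rfl
theorem F95779 : act 4 n61293 = n29019 := d10_1 D61293 (iv6 D29019) D29018
def n61294 : Q := act 0 n29019
theorem D61294 : act 0 n29019 = n61294 := rfl
def n61295 : Q := act 1 n29019
theorem D61295 : act 1 n29019 = n61295 := rfl
def n61296 : Q := act 7 n29019
theorem D61296 : act 7 n29019 = n61296 := rfl
def n61297 : Q := act 6 n29020
theorem D61297 : act 6 n29020 = n61297 := rfl
theorem F95780 : act 3 n61297 = n29022 := d7_1 D61297 (iv6 D29022) D29020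
theorem F95781 : act 4 n61297 = n60837 := d10_1 D61297 (iv6 D60837) (iv4 F46662)
theorem F95782 : act 5 n61297 = n50097 := d12_1 D61297 (iv6 D50097) (iv5 D24430) D24431 (iv5 F46661)
def n61298 : Q := act 3 n29021
theorem D61298 : act 3 n29021 = n61298 := rfl
theorem F95783 : act 4 n61298 = n60835 := d5_2 D29021 D61298 (iv3 D60835) (iv4 F46662) (iv3 D29020)
def n61299 : Q := act 5 n29021
theorem D61299 : act 5 n29021 = n61299 := rfl
theorem F95784 : act 0 n61299 = n53123 := d17_2 F78576 D61299 (iv5 D53123) (iv4 F45557) (iv5 F49841) F49842 (iv5 F46385) F46384 D49720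
theorem F95785 : act 1 n61299 = n53126 := d17_6 (iv1 F20268) F11037 D11632 (iv5 F23070) D29021 D61299 (iv5 D53126) F40740 F40738
def n61300 : Q := act 6 n29021
theorem D61300 : act 6 n29021 = n61300 := rfl
theorem F95786 : act 4 n61300 = n29022 := d10_1 D61300 (iv6 D29022) D29021
def n61301 : Q := act 0 n29022
theorem D61301 : act 0 n29022 = n61301 := rfl
def n61302 : Q := act 1 n29022
theorem D61302 : act 1 n29022 = n61302 := rfl
def n61303 : Q := act 7 n29022
theorem D61303 : act 7 n29022 = n61303 := rfl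
theorem F95787 : act 6 n61303 = n29082 := d14_1 D61303 F48392 F40816 F23498 D29022
def n61304 : Q := act 3 n29023
theorem D61304 : act 3 n29023 = n61304 := rfl
def n61305 : Q := act 5 n29023
theorem D61305 : act 5 n29023 = n61305 := rfl
theorem F95788 : act 0 n61305 = n53126 := d17_2 F46948 D61305 (iv5 D53126) (iv4 F45567) (iv5 F45564) D48791 F76851 (iv0 D28753) D28755
theorem F95789 : act 1 n61305 = n53123 := d17_6 D12235 (iv5 F38567) (iv1 F38568) F23073 D29023 D61305 (iv5 D53123) (iv0 D25770) (iv4 D12236)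
def n61306 : Q := act 6 n29023
theorem D61306 : act 6 n29023 = n61306 := rfl
theorem F95790 : act 2 n61306 = n53279 := d3_1 D61306 F84123 F47569
theorem F95791 : act 4 n61306 = n29024 := d10_1 D61306 (iv6 D29024) D29023
def n61307 : Q := act 3 n29025
theorem D61307 : act 3 n29025 = n61307 := rfl
def n61308 : Q := act 5 n29025
theorem D61308 : act 5 n29025 = n61308 := rfl
theorem F95792 : act 0 n61308 = n53117 := d17_2 D29025 D61308 (iv5 D53117) (iv4 D25768) (iv5 F38567) F38569 (iv5 F23070) (iv0 D13812) D13814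
theorem F95793 : act 1 n61308 = n30017 := d17_6 (iv1 F45572) F45148 F48131 (iv5 F93557) F93558 D61308 (iv5 D30017) D30016 (iv4 F48228)
def n61309 : Q := act 6 n29025
theorem D61309 : act 6 n29025 = n61309 := rfl
def n61310 : Q := act 3 n29026
theorem D61310 : act 3 n29026 = n61310 := rfl
def n61311 : Q := act 5 n29026
theorem D61311 : act 5 n29026 = n61311 := rfl
theorem F95794 : act 0 n61311 = n30017 := d17_2 (iv1 F46671) D61311 (iv5 D30017) (iv4 D14249) F11037 D11633 F23073 F23072 D25776
theorem F95795 : act 1 n61311 = n53117 := d17_6 F79248 F79244 F49163 F49160 F47115 D61311 (iv5 D53117) F48222 F48221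
def n61312 : Q := act 6 n29026
theorem D61312 : act 6 n29026 = n61312 := rfl
theorem F95796 : act 4 n61312 = n59513 := d10_1 D61312 F93936 F47115
theorem F95797 : act 0 n61312 = n29081 := d21_4 D53117 (iv1 F95795) (iv5 D61311) D61312 (iv6 D29081) D29080 (iv1 F93603) (iv5 D59338) F48224 (iv1 F48222)
def n61313 : Q := act 0 n29027
theorem D61313 : act 0 n29027 = n61313 := rfl
def n61314 : Q := act 1 n29027
theorem D61314 : act 1 n29027 = n61314 := rfl
theorem F95798 : act 4 n60855 = n61314 := d20_6 (iv4 D13738) (iv1 F10606) D6549 D13760 D28868 D60855 (iv1 D61314) F46672 (iv3 D13821) (iv1 F22986)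
def n61315 : Q := act 2 n29027
theorem D61315 : act 2 n29027 = n61315 := rfl
theorem F95799 : act 4 n61315 = n29045 := d1_2 (iv4 F46672) D61315 (iv2 D29045)
def n61316 : Q := act 5 n29027
theorem D61316 : act 5 n29027 = n61316 := rfl
def n61317 : Q := act 6 n29027
theorem D61317 : act 6 n29027 = n61317 := rfl
theorem F95801 : act 3 n61317 = n29029 := d7_1 D61317 (iv6 D29029) D29027
theorem F95802 : act 4 n61317 = n29046 := d10_1 D61317 (iv6 D29046) (iv4 F46672)
def n61318 : Q := act 0 n29028
theorem D61318 : act 0 n29028 = n61318 := rfl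
theorem F95803 : act 5 n61318 = n29861 := d17_1 D61318 (iv1 F48011) D53143 F83890 (iv5 D49757) (iv0 D24263) D24266 D49768 (iv4 F79298)
theorem F95804 : act 4 n61318 = n50102 := d18_3 F83941 (iv4 F79298) D61318 (iv5 D50102) (iv4 D24434) D24433 F38319 F78556 (iv5 F83940)
def n61319 : Q := act 6 n29028
theorem D61319 : act 6 n29028 = n61319 := rfl
def n61320 : Q := act 0 n29029
theorem D61320 : act 0 n29029 = n61320 := rfl
def n61321 : Q := act 1 n29029
theorem D61321 : act 1 n29029 = n61321 := rfl
def n61322 : Q := act 5 n29029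
theorem D61322 : act 5 n29029 = n61322 := rfl
def n61323 : Q := act 7 n29029
theorem D61323 : act 7 n29029 = n61323 := rfl
theorem F95806 : act 4 n61323 = n29032 := d11_1 D61323 (iv7 D29032) (iv4 F46673)
def n61324 : Q := act 2 n29030
theorem D61324 : act 2 n29030 = n61324 := rfl
theorem F95807 : act 7 n29031 = n61324 := d15_2 (iv0 D29030) D29031 (iv2 D61324)
def n61325 : Q := act 3 n29030
theorem D61325 : act 3 n29030 = n61325 := rfl
def n61326 : Q := act 4 n29030
theorem D61326 : act 4 n29030 = n61326 := rfl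
def n61327 : Q := act 7 n29030
theorem D61327 : act 7 n29030 = n61327 := rfl
theorem F95808 : act 2 n61327 = n29031 := d4_1 D61327 F95807 (iv2 D61324)
def n61328 : Q := act 3 n29031
theorem D61328 : act 3 n29031 = n61328 := rfl
def n61329 : Q := act 4 n29031
theorem D61329 : act 4 n29031 = n61329 := rfl
def n61330 : Q := act 6 n29031
theorem D61330 : act 6 n29031 = n61330 := rfl
def n61331 : Q := act 3 n29033
theorem D61331 : act 3 n29033 = n61331 := rfl
theorem F95809 : act 4 n61331 = n29035 := d5_2 D29033 D61331 (iv3 D29035) (iv4 D13817) D13816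
theorem F95810 : act 7 n61331 = n60767 := d8_2 F47414 D61331 F95356
def n61332 : Q := act 5 n29033
theorem D61332 : act 5 n29033 = n61332 := rfl
theorem F95811 : act 0 n61332 = n29985 := d17_2 (iv1 F46676) D61332 (iv5 D29985) F46412 (iv5 F49149) (iv0 D30710) (iv5 F46364) (iv0 D28734) D28736
theorem F95812 : act 1 n61332 = n29988 := d17_6 (iv1 F23736) (iv5 F19259) F24185 (iv5 F23076) D29033 D61332 (iv5 D29988) F48096 F48095
def n61333 : Q := act 6 n29033
theorem D61333 : act 6 n29033 = n61333 := rfl
theorem F95813 : act 4 n61333 = n29034 := d10_1 D61333 (iv6 D29034) D29033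
def n61334 : Q := act 0 n29034
theorem D61334 : act 0 n29034 = n61334 := rfl
def n61335 : Q := act 1 n29034
theorem D61335 : act 1 n29034 = n61335 := rfl
def n61336 : Q := act 7 n29034
theorem D61336 : act 7 n29034 = n61336 := rfl
theorem F95814 : act 3 n61336 = n29039 := d8_1 D61336 (iv7 D29039) (iv3 F46677)
theorem F95815 : act 5 n61336 = n34138 := d13_1 D61336 (iv7 D34138) (iv5 F46678)
theorem F95816 : act 6 n61336 = n29093 := d14_1 D61336 F46734 F40980 F23421 D29034
theorem E8791 : n29821 = n29093 := (c21_5 F23654 (iv1 F10988) D6744 D14171 D29821 (iv6 F95816) F95815 (iv1 F53601) F40921 (iv6 D14176) (iv1 F23661))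
theorem F95817 : act 1 n29093 = n14171 := (sb E8791 (iv0 D29821))
theorem F95818 : act 5 n31044 = n53579 := d21_0 (iv1 D53579) F41010 (iv6 D24421) F23691 (iv6 F47991) (iv5 D29823) (iv1 F95817) F46733 F40982 (iv1 F49452)
theorem F95819 : act 6 n53579 = n30569 := d21_3 F48919 (iv1 F49452) F95818 (iv1 F80878) (iv6 F80928) F80927 (iv1 F78088) (iv5 F49121) (iv6 F80854) (iv1 F80862)
theorem F95820 : act 6 n34151 = n31044 := d21_5 (iv5 D14173) F23682 (iv5 F11932) D16536 D34151 F95818 (iv1 D53579) F41010 (iv6 D24421) F23691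
theorem E8792 : n29965 = n29636 := (c21_8 (iv5 F95818) (iv1 D31044) (iv5 F39074) (iv6 D24927) (iv1 F23760) (iv6 F48173) (iv5 D29967) D29965 F47607 (iv6 F41016) (iv1 F84525))
theorem F95821 : act 1 n29636 = n14230 := (sb E8792 (iv0 D29965))
def n61337 : Q := act 0 n29035
theorem D61337 : act 0 n29035 = n61337 := rfl
theorem F95822 : act 1 n60766 = n61337 := d15_0 (iv0 D61337) F46679 D60766
def n61338 : Q := act 1 n29035
theorem D61338 : act 1 n29035 = n61338 := rfl
def n61339 : Q := act 2 n29035
theorem D61339 : act 2 n29035 = n61339 := rfl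
theorem F95823 : act 3 n61339 = n60756 := d0_2 D29035 D61339 (iv2 D60756) (iv3 D28828) (iv2 F23077)
theorem F95824 : act 7 n61339 = n60766 := d4_2 (iv7 F46679) D61339 (iv2 D60766)
theorem F95825 : act 1 n61339 = n60764 := d15_0 (iv0 D60764) (iv7 F46679) D61339
theorem F95826 : act 1 n61338 = n60766 := d15_1 D61338 (iv7 F95824) (iv2 D61339)
theorem F95827 : act 1 n60765 = n61339 := d15_1 D60765 F95824 (iv2 D60766)
def n61340 : Q := act 6 n29035
theorem D61340 : act 6 n29035 = n61340 := rfl
theorem F95828 : act 3 n61340 = n29036 := d7_1 D61340 (iv6 D29036) D29035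
def n61341 : Q := act 0 n29036
theorem D61341 : act 0 n29036 = n61341 := rfl
def n61342 : Q := act 1 n29036
theorem D61342 : act 1 n29036 = n61342 := rfl
theorem F95829 : act 1 n61342 = n60763 := d15_1 D61342 (iv7 D60763) (iv2 F46680)
theorem F95830 : act 4 n61342 = n29387 := d18_7 (iv1 F27070) (iv4 F24238) F26156 F26155 (iv5 F23081) (iv4 F46681) D61342 F47072 F46461
theorem F95831 : act 2 n60746 = n61342 := d1_3 F95830 (iv2 F76965) D60746
theorem F95832 : act 6 n60746 = n61342 := d10_0 F95830 (iv6 F49826) D60746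
theorem F95833 : act 7 n60744 = n61342 := d11_0 F95830 F76963 D60744
theorem F95834 : act 2 n60744 = n61341 := d15_3 (iv0 D61341) D61342 (iv7 F95833)
theorem F95835 : act 4 n61341 = n29386 := d1_2 D60744 F95834 (iv2 F76936)
theorem F95836 : act 7 n61341 = n60746 := d4_2 (iv7 F95833) F95834 F95831
theorem E8793 : n60761 = n60744 := ((c15_4 (iv0 D60761) (iv0 F95343) (iv7 F95836) (iv2 F95834))).symm
theorem F95837 : act 1 n60744 = n28830 := (sb E8793 (iv0 D60761))
theorem F95838 : act 0 n53834 = n31015 := d18_2 F53768 (iv4 F84861) F49435 (iv5 F46460) D60744 F95837 F46472 D29550 (iv5 F53766)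
theorem F95839 : act 1 n60763 = n61341 := d15_1 F95829 F95836 F95831
theorem F95840 : act 1 n53553 = n31332 := d18_6 (iv1 D29038) (iv4 F46681) D61341 F95835 (iv5 F76930) (iv4 F84472) F49585 (iv0 F49047) F49046
def n61343 : Q := act 7 n29036
theorem D61343 : act 7 n29036 = n61343 := rfl
theorem F95841 : act 2 n61343 = n60763 := d4_1 D61343 (iv7 D60763) (iv2 F46680)
theorem F95842 : act 4 n61343 = n29039 := d11_1 D61343 (iv7 D29039) (iv4 F46681)
theorem F95843 : act 6 n61343 = n29094 := d14_1 D61343 F46735 F41007 (iv7 F23078) D29036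
theorem F95844 : act 1 n60746 = n61343 := d15_1 (iv0 F95343) (iv7 D61343) F46680
theorem F95845 : act 1 n61343 = n60744 := d15_1 F95844 F95833 (iv2 F95831)
def n61344 : Q := act 3 n29037
theorem D61344 : act 3 n29037 = n61344 := rfl
theorem F95846 : act 5 n61344 = n53571 := d6_2 (iv5 F46682) D61344 F84512
def n61345 : Q := act 4 n29037
theorem D61345 : act 4 n29037 = n61345 := rfl
def n61346 : Q := act 3 n29038
theorem D61346 : act 3 n29038 = n61346 := rfl
def n61347 : Q := act 4 n29040
theorem D61347 : act 4 n29040 = n61347 := rfl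
theorem F95847 : act 2 n61347 = n29041 := d1_1 D61347 (iv4 D29041) D29040
theorem F95848 : act 7 n61347 = n29801 := d11_2 (iv7 F46686) D61347 (iv4 D29801)
theorem F95849 : act 0 n61347 = n29304 := d18_2 (iv1 F46687) D61347 (iv4 D29304) (iv5 D13944) F10753 F10311 (iv4 F4756) D6733 D14153
theorem F95850 : act 1 n61347 = n51082 := d18_6 (iv1 F78074) F78070 (iv1 F37755) (iv4 F38349) (iv5 F46685) D61347 (iv4 D51082) F46938 F46937
def n61348 : Q := act 3 n29041
theorem D61348 : act 3 n29041 = n61348 := rfl
theorem F95851 : act 4 n61348 = n29042 := d5_2 D29041 D61348 (iv3 D29042) (iv4 D13820) D13819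
theorem F95852 : act 7 n61348 = n60757 := d8_2 F47397 D61348 F95349
def n61349 : Q := act 5 n29041
theorem D61349 : act 5 n29041 = n61349 := rfl
def n61350 : Q := act 0 n29042
theorem D61350 : act 0 n29042 = n61350 := rfl
theorem F95853 : act 1 n60756 = n61350 := d15_0 (iv0 D61350) F46689 D60756
def n61351 : Q := act 1 n29042
theorem D61351 : act 1 n29042 = n61351 := rfl
def n61352 : Q := act 2 n29042
theorem D61352 : act 2 n29042 = n61352 := rfl
theorem F95854 : act 3 n61352 = n60766 := d0_2 D29042 D61352 (iv2 D60766) (iv3 D28831) (iv2 F23084)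
theorem F95855 : act 7 n61352 = n60756 := d4_2 (iv7 F46689) D61352 (iv2 D60756)
theorem F95856 : act 1 n61352 = n60754 := d15_0 (iv0 D60754) (iv7 F46689) D61352
theorem F95857 : act 1 n61351 = n60756 := d15_1 D61351 (iv7 F95855) (iv2 D61352)
theorem F95858 : act 1 n60755 = n61352 := d15_1 D60755 F95855 (iv2 D60756)
def n61353 : Q := act 2 n29043
theorem D61353 : act 2 n29043 = n61353 := rfl
theorem F95859 : act 7 n29044 = n61353 := d15_2 (iv0 D29043) D29044 (iv2 D61353)
def n61354 : Q := act 3 n29043
theorem D61354 : act 3 n29043 = n61354 := rfl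
def n61355 : Q := act 4 n29043
theorem D61355 : act 4 n29043 = n61355 := rfl
def n61356 : Q := act 5 n29043
theorem D61356 : act 5 n29043 = n61356 := rfl
def n61357 : Q := act 6 n29043
theorem D61357 : act 6 n29043 = n61357 := rfl
def n61358 : Q := act 7 n29043
theorem D61358 : act 7 n29043 = n61358 := rfl
theorem F95860 : act 2 n61358 = n29044 := d4_1 D61358 F95859 (iv2 D61353)
def n61359 : Q := act 3 n29044
theorem D61359 : act 3 n29044 = n61359 := rfl
def n61360 : Q := act 4 n29044
theorem D61360 : act 4 n29044 = n61360 := rfl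
def n61361 : Q := act 5 n29044
theorem D61361 : act 5 n29044 = n61361 := rfl
def n61362 : Q := act 6 n29044
theorem D61362 : act 6 n29044 = n61362 := rfl
def n61363 : Q := act 6 n29045
theorem D61363 : act 6 n29045 = n61363 := rfl
theorem F95861 : act 2 n61363 = n29046 := d3_1 D61363 (iv6 D29046) D29045
def n61364 : Q := act 0 n29046
theorem D61364 : act 0 n29046 = n61364 := rfl
def n61365 : Q := act 1 n29046
theorem D61365 : act 1 n29046 = n61365 := rfl
def n61366 : Q := act 5 n29046
theorem D61366 : act 5 n29046 = n61366 := rfl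
theorem F95862 : act 3 n61366 = n29049 := d6_1 D61366 (iv5 D29049) (iv3 F46690)
def n61367 : Q := act 7 n29046
theorem D61367 : act 7 n29046 = n61367 := rfl
theorem F95863 : act 3 n61367 = n29050 := d8_1 D61367 (iv7 D29050) (iv3 F46690)
def n61368 : Q := act 4 n29049
theorem D61368 : act 4 n29049 = n61368 := rfl
def n61369 : Q := act 7 n29049
theorem D61369 : act 7 n29049 = n61369 := rfl
def n61370 : Q := act 0 n29051
theorem D61370 : act 0 n29051 = n61370 := rfl
def n61371 : Q := act 1 n29051
theorem D61371 : act 1 n29051 = n61371 := rfl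
def n61372 : Q := act 2 n29051
theorem D61372 : act 2 n29051 = n61372 := rfl
theorem F95865 : act 5 n61372 = n50517 := d2_2 (iv5 F46692) D61372 (iv2 D50517)
def n61373 : Q := act 4 n29051
theorem D61373 : act 4 n29051 = n61373 := rfl
def n61374 : Q := act 3 n29052
theorem D61374 : act 3 n29052 = n61374 := rfl
theorem F95866 : act 6 n61374 = n60794 := d7_2 F80088 D61374 (iv3 D60794)
theorem F95867 : act 7 n61374 = n60796 := d8_2 F80085 D61374 (iv3 D60796)
def n61377 : Q := act 2 n29053
theorem D61377 : act 2 n29053 = n61377 := rfl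
theorem F95868 : act 5 n61377 = n50509 := d2_2 (iv5 F46693) D61377 (iv2 D50509)
def n61378 : Q := act 4 n29053
theorem D61378 : act 4 n29053 = n61378 := rfl
def n61379 : Q := act 6 n29053
theorem D61379 : act 6 n29053 = n61379 := rfl
theorem F95869 : act 3 n61379 = n29055 := d7_1 D61379 (iv6 D29055) D29053
def n61380 : Q := act 3 n29054
theorem D61380 : act 3 n29054 = n61380 := rfl
theorem F95870 : act 7 n61380 = n60794 := d8_2 F80089 D61380 (iv3 D60794)
def n61381 : Q := act 6 n29054
theorem D61381 : act 6 n29054 = n61381 := rfl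
theorem F95871 : act 2 n61381 = n60798 := d3_1 D61381 (iv6 D60798) F80083
theorem F95872 : act 4 n61381 = n29055 := d10_1 D61381 (iv6 D29055) D29054
theorem F95873 : act 7 n61381 = n60798 := d14_2 F80089 D61381 (iv6 D60798) F80085 (iv6 F80088)
def n61382 : Q := act 1 n29056
theorem D61382 : act 1 n29056 = n61382 := rfl
theorem F95874 : act 7 n61382 = n37057 := d15_2 (iv0 F51977) D61382 F57994
def n61383 : Q := act 7 n29056
theorem D61383 : act 7 n29056 = n61383 := rfl
theorem F95875 : act 3 n61383 = n34282 := d8_1 D61383 (iv7 D34282) (iv3 F46694)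
theorem F95876 : act 5 n61383 = n60433 := d13_1 D61383 (iv7 D60433) (iv5 F46695)
def n61384 : Q := act 4 n29057
theorem D61384 : act 4 n29057 = n61384 := rfl
theorem F95877 : act 2 n61384 = n34274 := d1_1 D61384 (iv4 D34274) (iv2 F46696)
def n61385 : Q := act 6 n29057
theorem D61385 : act 6 n29057 = n61385 := rfl
theorem F95878 : act 2 n61385 = n34275 := d3_1 D61385 (iv6 D34275) (iv2 F46696)
theorem F95879 : act 3 n61385 = n29058 := d7_1 D61385 (iv6 D29058) (iv3 F46697)
def n61386 : Q := act 0 n29058
theorem D61386 : act 0 n29058 = n61386 := rfl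
def n61387 : Q := act 1 n29058
theorem D61387 : act 1 n29058 = n61387 := rfl
def n61388 : Q := act 7 n29058
theorem D61388 : act 7 n29058 = n61388 := rfl
def n61389 : Q := act 1 n29059
theorem D61389 : act 1 n29059 = n61389 := rfl
theorem F95881 : act 7 n61389 = n54616 := d15_2 (iv0 F52383) D61389 F86319
def n61390 : Q := act 7 n29059
theorem D61390 : act 7 n29059 = n61390 := rfl
theorem F95882 : act 5 n61390 = n55235 := d13_1 D61390 (iv7 D55235) (iv5 F46698)
def n61391 : Q := act 4 n29062
theorem D61391 : act 4 n29062 = n61391 := rfl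
def n61392 : Q := act 6 n29062
theorem D61392 : act 6 n29062 = n61392 := rfl
theorem F95883 : act 3 n61392 = n29063 := d7_1 D61392 (iv6 D29063) (iv3 F46699)
def n61393 : Q := act 0 n29063
theorem D61393 : act 0 n29063 = n61393 := rfl
def n61394 : Q := act 1 n29063
theorem D61394 : act 1 n29063 = n61394 := rfl
def n61395 : Q := act 7 n29063
theorem D61395 : act 7 n29063 = n61395 := rfl
def n61396 : Q := act 5 n29064
theorem D61396 : act 5 n29064 = n61396 := rfl
theorem F95884 : act 2 n61396 = n34299 := d2_1 D61396 (iv5 D34299) (iv2 F46700)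
theorem F95885 : act 1 n61396 = n54806 := d17_6 F26675 D14099 (iv1 F46703) (iv5 D29065) D29064 D61396 (iv5 D54806) F42434 F37984
theorem F95886 : act 0 n61396 = n54805 := d21_1 D61396 (iv5 D54805) F65404 (iv1 F65402) (iv6 D26194) D26193 (iv1 F85424) F85426 (iv6 F82864) (iv1 F56586)
def n61397 : Q := act 6 n29064
theorem D61397 : act 6 n29064 = n61397 := rfl
theorem F95887 : act 2 n61397 = n34300 := d3_1 D61397 (iv6 D34300) (iv2 F46700)
theorem F95888 : act 3 n61397 = n42409 := d7_1 D61397 F82987 F77732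
theorem F95889 : act 4 n61397 = n29066 := d10_1 D61397 (iv6 D29066) D29064
theorem F95890 : act 7 n61397 = n52452 := d14_2 F47622 D61397 (iv6 D52452) (iv7 F45895) (iv6 F47621)
theorem F95891 : act 0 n52457 = n61397 := d21_4 (iv5 F41583) (iv1 F32580) F40414 (iv6 F82821) (iv6 D61397) D61396 F95886 (iv5 D54805) F65404 (iv1 F65402)
theorem F95892 : act 1 n52458 = n61397 := d15_1 D52458 F95890 F82812
def n61398 : Q := act 4 n29065
theorem D61398 : act 4 n29065 = n61398 := rfl
theorem F95893 : act 2 n61398 = n34301 := d1_1 D61398 (iv4 D34301) (iv2 F46701)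
def n61399 : Q := act 6 n29065
theorem D61399 : act 6 n29065 = n61399 := rfl
theorem F95894 : act 2 n61399 = n34302 := d3_1 D61399 (iv6 D34302) (iv2 F46701)
theorem F95895 : act 5 n61399 = n55040 := d12_1 D61399 (iv6 D55040) (iv5 F46705) (iv6 D29066) D29065
def n61400 : Q := act 0 n29067
theorem D61400 : act 0 n29067 = n61400 := rfl
theorem F95896 : act 4 n61400 = n49856 := d18_3 F38065 D29067 D61400 (iv5 F83569) F83568 F54270 F23129 (iv0 F26986) D24284
theorem F95897 : act 1 n55616 = n61400 := d15_0 (iv0 D61400) (iv7 F47623) (iv2 F87976)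
def n61401 : Q := act 5 n29067
theorem D61401 : act 5 n29067 = n61401 := rfl
def n61402 : Q := act 6 n29067
theorem D61402 : act 6 n29067 = n61402 := rfl
theorem F95898 : act 4 n61402 = n29068 := d10_1 D61402 (iv6 D29068) D29067
def n61403 : Q := act 0 n29068
theorem D61403 : act 0 n29068 = n61403 := rfl
def n61404 : Q := act 1 n29068
theorem D61404 : act 1 n29068 = n61404 := rfl
def n61405 : Q := act 7 n29068
theorem D61405 : act 7 n29068 = n61405 := rfl
theorem F95899 : act 3 n61405 = n29071 := d8_1 D61405 (iv7 D29071) (iv3 F46708)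
def n61406 : Q := act 2 n29069
theorem D61406 : act 2 n29069 = n61406 := rfl
theorem F95900 : act 7 n29070 = n61406 := d15_2 (iv0 D29069) D29070 (iv2 D61406)
def n61407 : Q := act 3 n29069
theorem D61407 : act 3 n29069 = n61407 := rfl
def n61408 : Q := act 4 n29069
theorem D61408 : act 4 n29069 = n61408 := rfl
def n61409 : Q := act 5 n29069
theorem D61409 : act 5 n29069 = n61409 := rfl
def n61410 : Q := act 6 n29069
theorem D61410 : act 6 n29069 = n61410 := rfl
theorem F95901 : act 5 n61410 = n35062 := d21_6 (iv5 D13835) (iv1 D6578) D6580 D13840 D29069 D61410 (iv1 D35062) F27877 (iv6 D14091) (iv1 F23114)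
def n61411 : Q := act 7 n29069
theorem D61411 : act 7 n29069 = n61411 := rfl
theorem F95902 : act 2 n61411 = n29070 := d4_1 D61411 F95900 (iv2 D61406)
def n61412 : Q := act 3 n29070
theorem D61412 : act 3 n29070 = n61412 := rfl
def n61413 : Q := act 4 n29070
theorem D61413 : act 4 n29070 = n61413 := rfl
def n61414 : Q := act 6 n29070
theorem D61414 : act 6 n29070 = n61414 := rfl
def n61415 : Q := act 3 n29073
theorem D61415 : act 3 n29073 = n61415 := rfl
theorem F95903 : act 4 n61415 = n60708 := d5_2 D29073 D61415 (iv3 D60708) (iv4 F46710) (iv3 D29072)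
theorem F95904 : act 0 n61415 = n30124 := d19_4 F24096 F24095 D29073 D61415 (iv5 D30124) F23882 (iv3 D13958) (iv1 D6636) (iv5 D2974) F2461 (iv3 F2350) F10280 F26324 (iv4 D2970) F2453 D1354 F4585 (iv4 F8522) (iv3 F19592)
theorem F95905 : act 5 n29073 = n61415 := d17_1 F93648 F95904 (iv5 D30124) F23882 F36940 (iv0 F39710) (iv5 F46490) (iv0 F46491) D59369
theorem F95906 : act 1 n61415 = n30121 := d15_1 (iv0 F95904) F48417 (iv2 F48421)
theorem F95907 : act 3 n60772 = n60701 := d20_9 F93630 (iv1 F95906) F95903 (iv3 D60708) (iv1 D28810) D28811 F46448 D28833 D60772 F95291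
theorem F95908 : act 5 n60700 = n60772 := d6_0 F95907 (iv5 D60701) D60700
theorem F95909 : act 0 n29467 = n60773 := d19_0 (iv5 D60773) D60772 F95907 F95291 (iv5 D59354) F45595 F36882 (iv1 D11312) (iv5 D5225) F3517 F2026 D1187 D2545 (iv4 F26382) (iv3 D3021) D3019 D6706 (iv4 F23361) (iv3 F47245)
theorem F95910 : act 1 n60929 = n60773 := d15_0 (iv0 F95909) F47246 (iv2 F95476)
def n61416 : Q := act 6 n29074
theorem D61416 : act 6 n29074 = n61416 := rfl
theorem F95911 : act 2 n61416 = n49419 := d3_1 D61416 F78152 (iv2 F46718)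
theorem F95912 : act 3 n61416 = n29076 := d7_1 D61416 (iv6 D29076) D29074
theorem F95913 : act 4 n61416 = n60528 := d10_1 D61416 (iv6 D60528) F46715
theorem F95914 : act 5 n61416 = n34060 := d12_1 D61416 (iv6 D34060) (iv5 D16498) D16499 (iv5 F46713)
def n61417 : Q := act 3 n29075
theorem D61417 : act 3 n29075 = n61417 := rfl
theorem F95915 : act 4 n61417 = n60526 := d5_2 D29075 D61417 (iv3 D60526) F46715 (iv3 D29074)
def n61418 : Q := act 5 n29075
theorem D61418 : act 5 n29075 = n61418 := rfl
theorem F95916 : act 4 n61418 = n60905 := d9_1 D61418 F95449 (iv4 F48157) (iv5 F48839) F48836 F24095 D29073 F95905 F95903 (iv5 F95313) (iv4 F47366) F47364 F26093 (iv5 F23118) D29075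
theorem F95917 : act 0 n61418 = n30121 := d17_2 F77760 D61418 (iv5 D30121) (iv4 F45581) (iv5 F82068) (iv0 D51966) (iv5 F77752) (iv0 D49235) D49236
theorem F95918 : act 1 n61418 = n30124 := d17_6 (iv1 F11072) F22532 F23855 (iv5 F23118) D29075 D61418 (iv5 D30124) F23881 F23838
def n61419 : Q := act 6 n29075
theorem D61419 : act 6 n29075 = n61419 := rfl
theorem F95919 : act 4 n61419 = n29076 := d10_1 D61419 (iv6 D29076) D29075
def n61420 : Q := act 0 n29076
theorem D61420 : act 0 n29076 = n61420 := rfl
theorem F95920 : act 5 n61420 = n53278 := d21_2 (iv5 F46719) D61420 (iv6 D53278) (iv1 D25828) (iv6 D12265) F19655 (iv1 F39411) F39408 F53466 (iv1 D34067)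
def n61421 : Q := act 1 n29076
theorem D61421 : act 1 n29076 = n61421 := rfl
def n61422 : Q := act 7 n29076
theorem D61422 : act 7 n29076 = n61422 := rfl
theorem F95921 : act 5 n61422 = n34068 := d13_1 D61422 (iv7 D34068) (iv5 F46719)
theorem F95922 : act 6 n61422 = n53140 := d14_1 D61422 F83873 (iv6 D29538) (iv7 F26032) D29076
def n61423 : Q := act 3 n29077
theorem D61423 : act 3 n29077 = n61423 := rfl
theorem F95923 : act 0 n61423 = n61097 := d19_4 (iv1 F76584) F49174 F46963 D61423 (iv5 D61097) (iv4 D28950) (iv3 D13787) (iv1 D6559) D6561 (iv4 F10962) (iv3 F26545) F11985 (iv5 D5333) (iv4 D2186) (iv3 F3524) D5295 (iv5 F18029) (iv4 F36947) (iv3 F76580)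
def n61424 : Q := act 5 n29077
theorem D61424 : act 5 n29077 = n61424 := rfl
theorem F95924 : act 0 n61424 = n30115 := d17_2 D29077 D61424 (iv5 D30115) (iv4 D14296) F22532 (iv0 F24094) F24095 (iv0 D13841) D13843
theorem F95925 : act 1 n61424 = n30004 := d17_6 (iv1 F37580) (iv5 F76582) (iv1 F76584) F49174 F46963 D61424 (iv5 D30004) (iv0 F45614) (iv4 D28198)
def n61425 : Q := act 6 n29077
theorem D61425 : act 6 n29077 = n61425 := rfl
theorem F95926 : act 0 n61425 = n53139 := d21_4 D30004 (iv1 F95925) (iv5 D61424) D61425 (iv6 D53139) D53138 (iv1 F93588) (iv5 D59332) (iv6 F45612) F45614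
def n61426 : Q := act 3 n29078
theorem D61426 : act 3 n29078 = n61426 := rfl
def n61427 : Q := act 5 n29078
theorem D61427 : act 5 n29078 = n61427 := rfl
theorem F95927 : act 0 n61427 = n30004 := d17_2 (iv1 F46721) D61427 (iv5 D30004) (iv4 D14244) (iv5 F19593) F23857 (iv5 F23118) F23117 D14276
theorem F95928 : act 1 n61427 = n30115 := d17_6 (iv1 F45605) (iv5 F76569) F76570 F46967 (iv4 F46968) D61427 (iv5 D30115) F48196 F48194
def n61428 : Q := act 6 n29078
theorem D61428 : act 6 n29078 = n61428 := rfl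
def n61429 : Q := act 0 n29079
theorem D61429 : act 0 n29079 = n61429 := rfl
def n61430 : Q := act 1 n29079
theorem D61430 : act 1 n29079 = n61430 := rfl
theorem F95929 : act 4 n60771 = n61430 := d20_6 (iv4 D13740) (iv1 D6541) D6542 D13744 D28833 D60771 (iv1 D61430) F46722 (iv3 D13847) (iv1 F22989)
def n61431 : Q := act 2 n29079
theorem D61431 : act 2 n29079 = n61431 := rfl
theorem F95930 : act 4 n61431 = n29088 := d1_2 (iv4 F46722) D61431 (iv2 D29088)
def n61432 : Q := act 5 n29079
theorem D61432 : act 5 n29079 = n61432 := rfl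
theorem F95931 : act 3 n61432 = n29080 := d6_1 D61432 (iv5 D29080) D29079
theorem F95932 : act 0 n59337 = n61432 := d19_0 (iv5 D61432) F46722 (iv3 D13847) (iv1 F22989) D28826 F46463 F26715 F26682 (iv5 D14121) (iv4 F26535) (iv3 F18681) (iv1 F18678) (iv5 D5509) F10250 D6632 F19540 D13453 D28183 D59337
def n61433 : Q := act 6 n29079
theorem D61433 : act 6 n29079 = n61433 := rfl
theorem F95933 : act 3 n61433 = n29081 := d7_1 D61433 (iv6 D29081) D29079
theorem F95934 : act 4 n61433 = n29089 := d10_1 D61433 (iv6 D29089) (iv4 F46722)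
def n61434 : Q := act 6 n29080
theorem D61434 : act 6 n29080 = n61434 := rfl
def n61435 : Q := act 0 n29081
theorem D61435 : act 0 n29081 = n61435 := rfl
def n61436 : Q := act 5 n29081
theorem D61436 : act 5 n29081 = n61436 := rfl
def n61437 : Q := act 7 n29081
theorem D61437 : act 7 n29081 = n61437 := rfl
theorem F95935 : act 4 n61437 = n29084 := d11_1 D61437 (iv7 D29084) (iv4 F46723)
def n61438 : Q := act 3 n29082
theorem D61438 : act 3 n29082 = n61438 := rfl
theorem F95936 : act 5 n61438 = n53254 := d6_2 F48393 D61438 F84103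
theorem F95937 : act 7 n61438 = n53253 := d8_2 (iv7 F48392) D61438 F84100
def n61439 : Q := act 4 n29082
theorem D61439 : act 4 n29082 = n61439 := rfl
theorem F95938 : act 7 n61439 = n53279 := d11_2 (iv7 F48392) D61439 (iv4 D53279)
def n61440 : Q := act 0 n29083
theorem D61440 : act 0 n29083 = n61440 := rfl
theorem F95939 : act 6 n61440 = n53362 := d21_5 (iv5 F11899) F22557 D13846 (iv6 F46725) D61440 (iv5 D53362) (iv1 F53422) F53419 (iv6 D34045) (iv1 F26073)
def n61441 : Q := act 1 n29083
theorem D61441 : act 1 n29083 = n61441 := rfl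
def n61442 : Q := act 4 n29083
theorem D61442 : act 4 n29083 = n61442 := rfl
theorem F95940 : act 6 n61442 = n29085 := d10_2 (iv6 F46725) D61442 (iv4 D29085)
def n61443 : Q := act 0 n29085
theorem D61443 : act 0 n29085 = n61443 := rfl
theorem F95941 : act 4 n61443 = n29814 := d18_3 F26060 D29085 D61443 (iv5 D29814) F23686 F18731 F8121 F11890 D16488
theorem F95942 : act 2 n49917 = n61443 := d15_3 (iv0 D61443) (iv0 F78567) (iv7 F78960)
theorem F95943 : act 7 n61443 = n49901 := d4_2 (iv7 F78960) F95942 F78930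
def n61444 : Q := act 3 n29085
theorem D61444 : act 3 n29085 = n61444 := rfl
theorem F95944 : act 4 n61444 = n29098 := d5_2 D29085 D61444 (iv3 D29098) (iv4 D13852) (iv3 F23120)
def n61445 : Q := act 5 n29085
theorem D61445 : act 5 n29085 = n61445 := rfl
theorem F95945 : act 0 n61445 = n34087 := d17_2 F78567 D61445 (iv5 D34087) (iv4 F45716) (iv5 F45714) (iv0 F45717) D29321 (iv0 F46974) D49717
theorem F95946 : act 1 n61445 = n34090 := d17_6 (iv1 F26073) (iv5 F11899) F22557 D13846 D29085 D61445 (iv5 D34090) F53415 F53414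
def n61446 : Q := act 2 n29086
theorem D61446 : act 2 n29086 = n61446 := rfl
theorem F95947 : act 7 n29087 = n61446 := d15_2 (iv0 D29086) D29087 (iv2 D61446)
def n61447 : Q := act 3 n29086
theorem D61447 : act 3 n29086 = n61447 := rfl
def n61448 : Q := act 4 n29086
theorem D61448 : act 4 n29086 = n61448 := rfl
def n61449 : Q := act 5 n29086
theorem D61449 : act 5 n29086 = n61449 := rfl
def n61450 : Q := act 6 n29086
theorem D61450 : act 6 n29086 = n61450 := rfl
def n61451 : Q := act 7 n29086
theorem D61451 : act 7 n29086 = n61451 := rfl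
def n61452 : Q := act 3 n29087
theorem D61452 : act 3 n29087 = n61452 := rfl
def n61453 : Q := act 4 n29087
theorem D61453 : act 4 n29087 = n61453 := rfl
def n61454 : Q := act 5 n29087
theorem D61454 : act 5 n29087 = n61454 := rfl
def n61455 : Q := act 6 n29087
theorem D61455 : act 6 n29087 = n61455 := rfl
def n61456 : Q := act 6 n29088
theorem D61456 : act 6 n29088 = n61456 := rfl
theorem F95949 : act 2 n61456 = n29089 := d3_1 D61456 (iv6 D29089) D29088
def n61457 : Q := act 0 n29089
theorem D61457 : act 0 n29089 = n61457 := rfl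
def n61458 : Q := act 1 n29089
theorem D61458 : act 1 n29089 = n61458 := rfl
def n61459 : Q := act 5 n29089
theorem D61459 : act 5 n29089 = n61459 := rfl
theorem F95950 : act 3 n61459 = n29091 := d6_1 D61459 (iv5 D29091) (iv3 F46728)
def n61460 : Q := act 7 n29089
theorem D61460 : act 7 n29089 = n61460 := rfl
theorem F95951 : act 3 n61460 = n29092 := d8_1 D61460 (iv7 D29092) (iv3 F46728)
def n61461 : Q := act 0 n29091
theorem D61461 : act 0 n29091 = n61461 := rfl
def n61462 : Q := act 1 n29091
theorem D61462 : act 1 n29091 = n61462 := rfl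
def n61463 : Q := act 4 n29091
theorem D61463 : act 4 n29091 = n61463 := rfl
def n61464 : Q := act 7 n29091
theorem D61464 : act 7 n29091 = n61464 := rfl
theorem F95952 : act 5 n61464 = n29092 := d13_1 D61464 (iv7 D29092) D29091
def n61465 : Q := act 0 n29093
theorem D61465 : act 0 n29093 = n61465 := rfl
theorem F95953 : act 5 n61465 = n30880 := d21_2 (iv5 F46733) D61465 (iv6 D30880) (iv1 F49271) (iv6 F78086) (iv5 F80927) (iv1 F80929) F80930 F80931 (iv1 F78103)
theorem F95954 : act 2 n29824 = n61465 := d15_3 (iv0 D61465) F95817 D29824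
theorem F95955 : act 1 n29822 = n61465 := d15_0 (iv0 D61465) F46734 (iv2 F47989)
theorem F95956 : act 7 n61465 = n29783 := d15_2 D29822 F95955 F47912
theorem F95957 : act 6 n29810 = n61465 := d21_3 F81134 (iv1 F79501) F79494 (iv1 F95955) (iv6 F47988) F47410 (iv1 F39108) F19259 D14237 D29981
theorem F95958 : act 3 n49540 = n61465 := d8_3 F95956 F47913 (iv7 F78294)
def n61466 : Q := act 2 n29093
theorem D61466 : act 2 n29093 = n61466 := rfl
theorem F95959 : act 5 n61466 = n49385 := d2_2 (iv5 F46733) D61466 F78100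
theorem F95960 : act 7 n61466 = n29822 := d4_2 (iv7 F46734) D61466 F47989
theorem F95961 : act 1 n61466 = n29783 := d15_0 (iv0 F47914) (iv7 F46734) D61466
theorem F95962 : act 1 n29824 = n61466 := d15_0 F95961 (iv7 F95956) (iv2 F95954)
def n61467 : Q := act 4 n29093
theorem D61467 : act 4 n29093 = n61467 := rfl
theorem F95963 : act 7 n61467 = n53524 := d11_2 (iv7 F46734) D61467 (iv4 D53524)
def n61468 : Q := act 3 n29094
theorem D61468 : act 3 n29094 = n61468 := rfl
theorem F95964 : act 7 n61468 = n53576 := d8_2 (iv7 F46735) D61468 (iv3 D53576)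
def n61469 : Q := act 5 n29094
theorem D61469 : act 5 n29094 = n61469 := rfl
theorem F95965 : act 2 n61469 = n60879 := d2_1 D61469 (iv5 D60879) (iv2 F46737)
theorem F95966 : act 7 n61469 = n53577 := d13_2 (iv7 F46735) D61469 (iv5 D53577)
def n61470 : Q := act 3 n29095
theorem D61470 : act 3 n29095 = n61470 := rfl
theorem F95967 : act 6 n61470 = n53828 := d7_2 (iv6 F46743) D61470 F84851
def n61471 : Q := act 4 n29095
theorem D61471 : act 4 n29095 = n61471 := rfl
theorem F95971 : act 0 n61471 = n30916 := d17_0 F49437 (iv1 D31017) (iv5 D14672) F11269 D7009 F23511 (iv5 F24319) F46744 D61471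
theorem F95972 : act 1 n61471 = n29430 := d15_1 (iv0 F95971) (iv7 F50067) F50065
def n61472 : Q := act 3 n29096
theorem D61472 : act 3 n29096 = n61472 := rfl
theorem F95973 : act 6 n61472 = n30737 := d7_2 F47613 D61472 (iv3 D30737)
def n61473 : Q := act 4 n29096
theorem D61473 : act 4 n29096 = n61473 := rfl
theorem F95974 : act 2 n61473 = n60891 := d1_1 D61473 F95438 (iv2 F47616)
theorem F95975 : act 6 n61473 = n30738 := d10_2 F47613 D61473 (iv4 D30738)
theorem F95976 : act 7 n61473 = n60890 := d11_2 (iv7 F47612) D61473 F95436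
theorem F95977 : act 0 n61473 = n29430 := d17_0 (iv5 F49436) (iv1 F84485) F84483 F40997 (iv5 F23515) (iv0 D13849) D13850 D29096 D61473
theorem F95978 : act 1 n61473 = n30916 := d15_1 (iv0 F95977) F49360 (iv2 F47170)
def n61474 : Q := act 3 n29097
theorem D61474 : act 3 n29097 = n61474 := rfl
theorem F95979 : act 6 n61474 = n29098 := d7_2 (iv6 F46746) D61474 (iv3 D29098)
def n61475 : Q := act 0 n29098
theorem D61475 : act 0 n29098 = n61475 := rfl
def n61476 : Q := act 1 n29098
theorem D61476 : act 1 n29098 = n61476 := rfl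
def n61477 : Q := act 2 n29098
theorem D61477 : act 2 n29098 = n61477 := rfl
def n61478 : Q := act 5 n29098
theorem D61478 : act 5 n29098 = n61478 := rfl
theorem F95980 : act 3 n61478 = n29099 := d6_1 D61478 (iv5 D29099) D29098
def n61479 : Q := act 6 n29099
theorem D61479 : act 6 n29099 = n61479 := rfl
theorem F95981 : act 4 n61479 = n29681 := d10_1 D61479 F47708 (iv4 F46747)
def n61480 : Q := act 4 n29101
theorem D61480 : act 4 n29101 = n61480 := rfl
def n61481 : Q := act 6 n29101
theorem D61481 : act 6 n29101 = n61481 := rfl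
theorem F95982 : act 3 n61481 = n34310 := d7_1 D61481 (iv6 D34310) (iv3 F46751)
def n61482 : Q := act 5 n29104
theorem D61482 : act 5 n29104 = n61482 := rfl
theorem F95983 : act 2 n61482 = n34313 := d2_1 D61482 (iv5 D34313) (iv2 F46756)
theorem F95984 : act 3 n61482 = n29105 := d6_1 D61482 (iv5 D29105) D29104
theorem F95985 : act 0 n61482 = n29223 := d17_2 F53944 D61482 (iv5 D29223) (iv4 D13897) D13898 (iv0 F50437) F46837 F27073 D34273
theorem F95986 : act 1 n61482 = n29239 := d15_1 (iv0 F95985) (iv7 F52339) F52337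
def n61483 : Q := act 6 n29104
theorem D61483 : act 6 n29104 = n61483 := rfl
theorem F95987 : act 2 n61483 = n34314 := d3_1 D61483 (iv6 D34314) (iv2 F46756)
theorem F95988 : act 3 n61483 = n29106 := d7_1 D61483 (iv6 D29106) D29104
theorem F95989 : act 4 n61483 = n34314 := d10_1 D61483 (iv6 D34314) (iv4 F46757)
theorem F95990 : act 0 n31649 = n61483 := d20_1 D31649 F95989 F54462 F54104 (iv3 D14900) (iv4 D7095) (iv1 D3235) (iv4 F5028) (iv3 F11335) D14885
theorem F95991 : act 0 n61483 = n31654 := d20_10 (iv4 D31654) (iv1 D14886) F11336 F11335 D7086 D14893 (iv4 F41216) F54459 F54455 (iv3 F95988)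
theorem F95992 : act 0 n54713 = n33518 := d21_1 (iv5 F86522) F52837 (iv6 F53952) (iv1 F50578) (iv6 F46898) D29239 (iv1 F95986) (iv5 D61482) D61483 F95991
def n61485 : Q := act 6 n29105
theorem D61485 : act 6 n29105 = n61485 := rfl
def n61486 : Q := act 4 n29107
theorem D61486 : act 4 n29107 = n61486 := rfl
theorem F95993 : act 2 n61486 = n29110 := d1_1 D61486 (iv4 D29110) (iv2 F46758)
theorem F95994 : act 7 n61486 = n33493 := d11_2 F50970 D61486 (iv4 D33493)
def n61487 : Q := act 6 n29107
theorem D61487 : act 6 n29107 = n61487 := rfl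
theorem F95995 : act 2 n61487 = n29111 := d3_1 D61487 (iv6 D29111) (iv2 F46758)
theorem F95996 : act 3 n61487 = n33258 := d7_1 D61487 F52493 (iv3 F46759)
theorem F95997 : act 5 n61487 = n33252 := d12_1 D61487 (iv6 D33252) F26861 F26737 D29107
def n61488 : Q := act 3 n29109
theorem D61488 : act 3 n29109 = n61488 := rfl
theorem F95998 : act 2 n61488 = n34320 := d0_1 D61488 (iv3 D34320) (iv2 F52641) F52642 F50974
theorem F95999 : act 5 n61488 = n29144 := d6_2 (iv5 F53967) D61488 (iv3 D29144)
theorem F96000 : act 7 n61488 = n33363 := d8_2 (iv7 F50973) D61488 F52596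
theorem F96001 : act 1 n32456 = n61488 := d15_1 (iv0 F52671) F96000 (iv2 F52669)
theorem F96002 : act 1 n61488 = n33135 := d15_1 F96001 (iv7 F85855) F85853
def n61489 : Q := act 4 n29109
theorem D61489 : act 4 n29109 = n61489 := rfl
theorem F96003 : act 2 n61489 = n33499 := d1_1 D61489 F52813 F50974
theorem F96004 : act 7 n61489 = n33380 := d11_2 (iv7 F50973) D61489 (iv4 D33380)
theorem F96005 : act 0 n61489 = n33496 := d18_2 F50966 D61489 F79163 (iv5 D24398) F18804 (iv0 F49992) F49995 F23446 (iv5 F50969)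
def n61490 : Q := act 6 n29109
theorem D61490 : act 6 n29109 = n61490 := rfl
theorem F96007 : act 2 n61490 = n33500 := d3_1 D61490 (iv6 D33500) F50974
theorem F96008 : act 5 n61490 = n33567 := d12_1 D61490 (iv6 D33567) F25766 F53968 (iv5 F53967)
def n61491 : Q := act 5 n29110
theorem D61491 : act 5 n29110 = n61491 := rfl
def n61492 : Q := act 6 n29110
theorem D61492 : act 6 n29110 = n61492 := rfl
theorem F96009 : act 4 n61492 = n29111 := d10_1 D61492 (iv6 D29111) D29110
def n61493 : Q := act 0 n29111
theorem D61493 : act 0 n29111 = n61493 := rfl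
def n61494 : Q := act 1 n29111
theorem D61494 : act 1 n29111 = n61494 := rfl
def n61495 : Q := act 7 n29111
theorem D61495 : act 7 n29111 = n61495 := rfl
theorem F96010 : act 3 n61495 = n29114 := d8_1 D61495 (iv7 D29114) (iv3 F46760)
def n61496 : Q := act 2 n29112
theorem D61496 : act 2 n29112 = n61496 := rfl
theorem F96011 : act 7 n29113 = n61496 := d15_2 (iv0 D29112) D29113 (iv2 D61496)
def n61497 : Q := act 3 n29112
theorem D61497 : act 3 n29112 = n61497 := rfl
def n61498 : Q := act 4 n29112
theorem D61498 : act 4 n29112 = n61498 := rfl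
def n61499 : Q := act 5 n29112
theorem D61499 : act 5 n29112 = n61499 := rfl
theorem F96012 : act 0 n55140 = n61499 := d21_10 (iv5 D61499) (iv1 F47631) (iv5 F85938) F85939 F85665 F85663 (iv5 F85659) F85658 F42702 D55140
def n61500 : Q := act 6 n29112
theorem D61500 : act 6 n29112 = n61500 := rfl
def n61501 : Q := act 7 n29112
theorem D61501 : act 7 n29112 = n61501 := rfl
theorem F96013 : act 2 n61501 = n29113 := d4_1 D61501 F96011 (iv2 D61496)
def n61502 : Q := act 3 n29113
theorem D61502 : act 3 n29113 = n61502 := rfl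
def n61503 : Q := act 4 n29113
theorem D61503 : act 4 n29113 = n61503 := rfl
def n61504 : Q := act 5 n29113
theorem D61504 : act 5 n29113 = n61504 := rfl
theorem F96014 : act 0 n61504 = n55140 := d21_1 D61504 F87226 (iv6 D54609) F42749 (iv6 F87347) (iv5 D55211) (iv1 F50360) F49871 (iv6 F47628) (iv1 F47630)
theorem F96015 : act 6 n55997 = n61504 := d21_5 (iv5 F26458) F26455 (iv5 F21495) D27015 D55997 (iv5 D61504) (iv1 D29113) (iv5 F25134) (iv6 D15636) D15633
def n61505 : Q := act 6 n29113
theorem D61505 : act 6 n29113 = n61505 := rfl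
theorem F96016 : act 0 n33165 = n61505 := d21_4 (iv5 D26678) D26677 F42742 D33165 (iv6 D61505) D61504 F96014 F87226 (iv6 D54609) F42749
def n61506 : Q := act 4 n29118
theorem D61506 : act 4 n29118 = n61506 := rfl
def n61507 : Q := act 6 n29118
theorem D61507 : act 6 n29118 = n61507 := rfl
theorem F96017 : act 3 n61507 = n29120 := d7_1 D61507 (iv6 D29120) (iv3 F46768)
theorem F96018 : act 5 n61507 = n55629 := d12_1 D61507 (iv6 D55629) F43300 F24687 D29118
def n61508 : Q := act 3 n29119
theorem D61508 : act 3 n29119 = n61508 := rfl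
theorem F96019 : act 5 n61508 = n30527 := d6_2 (iv5 F46769) D61508 (iv3 D30527)
def n61509 : Q := act 6 n29119
theorem D61509 : act 6 n29119 = n61509 := rfl
theorem F96020 : act 4 n61509 = n29120 := d10_1 D61509 (iv6 D29120) D29119
def n61510 : Q := act 1 n29120
theorem D61510 : act 1 n29120 = n61510 := rfl
theorem F96021 : act 7 n61510 = n34401 := d15_2 (iv0 F87579) D61510 (iv2 F87578)
def n61511 : Q := act 7 n29120
theorem D61511 : act 7 n29120 = n61511 := rfl
theorem F96022 : act 5 n61511 = n55632 := d13_1 D61511 (iv7 D55632) (iv5 F46783)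
def n61512 : Q := act 0 n29123
theorem D61512 : act 0 n29123 = n61512 := rfl
def n61513 : Q := act 1 n29123
theorem D61513 : act 1 n29123 = n61513 := rfl
theorem F96023 : act 5 n61513 = n29611 := d17_7 (iv1 F26825) D16604 (iv1 F46799) (iv5 D13866) (iv4 F23129) D29123 D61513 F47550 F46654
theorem F96024 : act 2 n61287 = n61513 := d2_3 F96023 (iv2 F78775) D61287
theorem F96025 : act 3 n51060 = n61513 := d6_3 F96023 F78795 D51060
theorem F96026 : act 7 n61289 = n61513 := d13_0 F96023 F78776 D61289
theorem F96027 : act 2 n61289 = n61512 := d15_3 (iv0 D61512) D61513 (iv7 F96026)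
theorem F96028 : act 5 n61512 = n29610 := d2_2 D61289 F96027 F78774
theorem F96029 : act 7 n61512 = n61287 := d4_2 (iv7 F96026) F96027 F96024
def n61514 : Q := act 4 n29123
theorem D61514 : act 4 n29123 = n61514 := rfl
def n61515 : Q := act 6 n29123
theorem D61515 : act 6 n29123 = n61515 := rfl
theorem F96030 : act 3 n61515 = n29128 := d7_1 D61515 (iv6 D29128) (iv3 F46784)
def n61516 : Q := act 4 n29125
theorem D61516 : act 4 n29125 = n61516 := rfl
theorem F96031 : act 2 n61516 = n61244 := d1_1 D61516 F95707 F46789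
theorem F96032 : act 7 n61516 = n61251 := d11_2 F46790 D61516 F95719
theorem F96033 : act 5 n61516 = n29593 := d16_1 D61516 (iv4 D29593) F23460 F18413 D11293 (iv4 F23483) (iv5 F46793) F46792 F46789
theorem F96034 : act 0 n61516 = n49651 := d17_0 F78418 (iv1 F40061) (iv5 F76747) (iv4 D48738) (iv5 D23769) (iv0 F19054) D24744 F46788 D61516
theorem F96035 : act 1 n61516 = n49650 := d18_6 F23055 (iv4 D13442) F18583 (iv4 F23477) (iv5 F46787) D61516 F78417 (iv0 F46639) (iv5 D29007)
def n61517 : Q := act 6 n29125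
theorem D61517 : act 6 n29125 = n61517 := rfl
theorem F96036 : act 2 n61517 = n61285 := d3_1 D61517 (iv6 D61285) F46789
def n61518 : Q := act 4 n29126
theorem D61518 : act 4 n29126 = n61518 := rfl
theorem F96037 : act 2 n61518 = n61251 := d1_1 D61518 F95719 F46794
theorem F96038 : act 5 n61518 = n29591 := d9_2 (iv5 F46793) D61518 (iv4 D29591) F23454 (iv4 F18514) D11376 (iv4 F23477) (iv5 F46787) D61516 F96033 (iv4 D29593) F23460 F18413 D11293 (iv4 F23483)
theorem F96039 : act 7 n61518 = n61244 := d11_2 (iv7 F46792) D61518 F95707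
theorem F96040 : act 0 n61518 = n49650 := d17_0 (iv5 D49650) F37942 D25358 (iv4 F40530) F40531 F20185 D13861 D29126 D61518
theorem F96041 : act 1 n61518 = n49651 := d18_6 F23063 (iv4 D13441) F18420 (iv4 F23483) (iv5 F46793) D61518 (iv4 D49651) (iv0 F46641) (iv5 D29009)
def n61519 : Q := act 6 n29126
theorem D61519 : act 6 n29126 = n61519 := rfl
theorem F96042 : act 2 n61519 = n61280 := d3_1 D61519 (iv6 D61280) F46794
def n61520 : Q := act 0 n29127
theorem D61520 : act 0 n29127 = n61520 := rfl
theorem F96043 : act 5 n61520 = n29329 := d17_1 D61520 F46987 D29597 F47520 (iv5 D25303) F23478 (iv5 F46787) (iv0 D29125) D29127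
theorem F96044 : act 4 n61520 = n29604 := d18_1 D61520 F47533 (iv4 F79062) (iv5 D49979) (iv4 D24370) (iv0 F18780) D12024 (iv0 F37854) (iv5 F46795)
theorem F96045 : act 1 n50879 = n61520 := d15_0 (iv0 D61520) (iv7 F47690) (iv2 F80264)
theorem F96046 : act 2 n61254 = n61520 := d1_3 F96044 F47531 (iv4 F95728)
theorem F96047 : act 7 n61257 = n61520 := d11_0 F96044 F47532 (iv4 F95732)
def n61521 : Q := act 1 n29127
theorem D61521 : act 1 n29127 = n61521 := rfl
theorem F96048 : act 1 n61521 = n50879 := d15_1 D61521 (iv7 F82361) F82359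
theorem F96049 : act 7 n61521 = n61254 := d15_2 (iv0 D61520) D61521 F96046
theorem F96050 : act 5 n61521 = n29595 := d17_7 D14055 F23454 (iv1 D11341) D11342 D24150 (iv5 F46795) D61521 (iv0 D29595) (iv4 D14057)
theorem F96051 : act 4 n61521 = n29606 := d17_9 F47538 (iv5 D25331) (iv1 F19909) (iv5 F39979) (iv4 F39996) (iv5 D25325) (iv0 F37854) (iv5 F46795) D61521
theorem F96052 : act 2 n61257 = n61521 := d1_3 F96051 F47536 (iv4 F95732)
def n61522 : Q := act 3 n29127
theorem D61522 : act 3 n29127 = n61522 := rfl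
theorem F96053 : act 5 n61522 = n49485 := d6_2 (iv5 F46795) D61522 (iv3 D49485)
def n61523 : Q := act 6 n29127
theorem D61523 : act 6 n29127 = n61523 := rfl
theorem F96054 : act 4 n61523 = n29128 := d10_1 D61523 (iv6 D29128) D29127
def n61524 : Q := act 0 n29128
theorem D61524 : act 0 n29128 = n61524 := rfl
def n61525 : Q := act 1 n29128
theorem D61525 : act 1 n29128 = n61525 := rfl
def n61526 : Q := act 7 n29128
theorem D61526 : act 7 n29128 = n61526 := rfl
def n61527 : Q := act 4 n29129
theorem D61527 : act 4 n29129 = n61527 := rfl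
theorem F96055 : act 2 n61527 = n49822 := d1_1 D61527 (iv4 D49822) F46797
theorem F96056 : act 7 n61527 = n61398 := d11_2 F46798 D61527 (iv4 D61398)
def n61528 : Q := act 6 n29129
theorem D61528 : act 6 n29129 = n61528 := rfl
theorem F96057 : act 2 n61528 = n32248 := d3_1 D61528 F51183 F46797
theorem F96058 : act 5 n61528 = n32241 := d12_1 D61528 (iv6 D32241) F24822 (iv6 F26828) (iv5 F46796)
def n61529 : Q := act 0 n29130
theorem D61529 : act 0 n29130 = n61529 := rfl
def n61530 : Q := act 1 n29130
theorem D61530 : act 1 n29130 = n61530 := rfl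
def n61531 : Q := act 5 n29130
theorem D61531 : act 5 n29130 = n61531 := rfl
def n61532 : Q := act 6 n29130
theorem D61532 : act 6 n29130 = n61532 := rfl
theorem F96059 : act 4 n61532 = n29131 := d10_1 D61532 (iv6 D29131) D29130
def n61533 : Q := act 0 n29131
theorem D61533 : act 0 n29131 = n61533 := rfl
def n61534 : Q := act 1 n29131
theorem D61534 : act 1 n29131 = n61534 := rfl
def n61535 : Q := act 7 n29131
theorem D61535 : act 7 n29131 = n61535 := rfl
theorem F96060 : act 3 n61535 = n29138 := d8_1 D61535 (iv7 D29138) (iv3 F46800)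
def n61536 : Q := act 4 n29132
theorem D61536 : act 4 n29132 = n61536 := rfl
theorem F96061 : act 2 n61536 = n55280 := d1_1 D61536 (iv4 D55280) (iv2 F46803)
theorem F96062 : act 7 n61536 = n55284 := d11_2 (iv7 F46802) D61536 (iv4 D55284)
def n61537 : Q := act 0 n29133
theorem D61537 : act 0 n29133 = n61537 := rfl
def n61538 : Q := act 1 n29133
theorem D61538 : act 1 n29133 = n61538 := rfl
theorem F96063 : act 1 n61538 = n61395 := d15_1 D61538 (iv7 D61395) (iv2 F46804)
def n61539 : Q := act 7 n29133
theorem D61539 : act 7 n29133 = n61539 := rfl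
theorem F96064 : act 2 n61539 = n61395 := d4_1 D61539 (iv7 D61395) (iv2 F46804)
theorem F96065 : act 6 n61539 = n61390 := d14_1 D61539 (iv7 D61390) (iv6 D29059) F23136 D29133
theorem F96066 : act 1 n61395 = n61537 := d15_0 (iv0 D61537) D61539 F96064
theorem F96067 : act 1 n61394 = n61539 := d15_1 D61394 (iv7 D61539) F46804
theorem F96068 : act 1 n61539 = n61393 := d15_0 (iv0 D61393) D61395 (iv2 F96064)
def n61540 : Q := act 2 n29134
theorem D61540 : act 2 n29134 = n61540 := rfl
theorem F96069 : act 3 n61540 = n55282 := d0_2 D29134 D61540 F87489 F42827 F23140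
theorem F96070 : act 5 n61540 = n29569 := d2_2 (iv5 F46805) D61540 (iv2 D29569)
theorem F96071 : act 7 n61540 = n33125 := d4_2 (iv7 F46806) D61540 (iv2 F52356)
theorem F96072 : act 1 n61540 = n33046 := d15_0 (iv0 F52254) (iv7 F46806) D61540
theorem F96073 : act 1 n33043 = n61540 := d15_0 F96072 F52253 (iv2 F52243)
def n61541 : Q := act 4 n29134
theorem D61541 : act 4 n29134 = n61541 := rfl
theorem F96074 : act 7 n61541 = n61391 := d11_2 (iv7 F46806) D61541 (iv4 D61391)
def n61542 : Q := act 6 n29134
theorem D61542 : act 6 n29134 = n61542 := rfl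
theorem F96075 : act 3 n61542 = n29135 := d7_1 D61542 (iv6 D29135) D29134
theorem F96076 : act 5 n61542 = n33989 := d12_1 D61542 (iv6 D33989) (iv5 F46284) F46285 (iv5 F46805)
def n61543 : Q := act 1 n29135
theorem D61543 : act 1 n29135 = n61543 := rfl
theorem F96077 : act 1 n61543 = n61390 := d15_1 D61543 (iv7 D61390) (iv2 F46807)
theorem F96078 : act 7 n61543 = n33162 := d15_2 (iv0 F86320) D61543 (iv2 F86319)
theorem F96079 : act 2 n61389 = n61543 := d4_3 F96078 (iv2 F86319) (iv7 F95881)
theorem F96080 : act 1 n61390 = n54616 := d15_1 F96077 (iv7 F95881) F96079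
def n61544 : Q := act 7 n29135
theorem D61544 : act 7 n29135 = n61544 := rfl
theorem F96081 : act 2 n61544 = n61390 := d4_1 D61544 (iv7 D61390) (iv2 F46807)
theorem F96082 : act 5 n61544 = n33994 := d13_1 D61544 (iv7 D33994) (iv5 F46808)
theorem F96083 : act 6 n61544 = n61395 := d14_1 D61544 (iv7 D61395) (iv6 D29063) (iv7 F23138) D29135
theorem F96084 : act 1 n61389 = n61544 := d15_1 D61389 (iv7 D61544) F46807
theorem F96085 : act 1 n61544 = n33162 := d15_1 F96084 (iv7 F96078) (iv2 F96079)
def n61545 : Q := act 2 n29136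
theorem D61545 : act 2 n29136 = n61545 := rfl
theorem F96086 : act 7 n29137 = n61545 := d15_2 (iv0 D29136) D29137 (iv2 D61545)
def n61546 : Q := act 3 n29136
theorem D61546 : act 3 n29136 = n61546 := rfl
def n61547 : Q := act 4 n29136
theorem D61547 : act 4 n29136 = n61547 := rfl
def n61548 : Q := act 5 n29136
theorem D61548 : act 5 n29136 = n61548 := rfl
theorem F96087 : act 0 n61548 = n55084 := d21_1 D61548 F87114 (iv6 D33167) (iv1 D15994) F11731 (iv5 D3418) (iv1 F4893) D6595 D13870 D29136
def n61549 : Q := act 6 n29136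
theorem D61549 : act 6 n29136 = n61549 := rfl
theorem F96088 : act 5 n61549 = n32730 := d21_6 (iv5 D3418) (iv1 F4893) D6595 D13870 D29136 D61549 (iv1 D32730) F25134 (iv6 D13857) F10652
theorem F96089 : act 0 n33153 = n61549 := d21_4 (iv5 D7482) D7480 D15986 D33153 (iv6 D61549) D61548 F96087 F87114 (iv6 D33167) (iv1 D15994)
def n61550 : Q := act 7 n29136
theorem D61550 : act 7 n29136 = n61550 := rfl
theorem F96090 : act 2 n61550 = n29137 := d4_1 D61550 F96086 (iv2 D61545)
def n61551 : Q := act 3 n29137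
theorem D61551 : act 3 n29137 = n61551 := rfl
def n61552 : Q := act 4 n29137
theorem D61552 : act 4 n29137 = n61552 := rfl
def n61553 : Q := act 5 n29137
theorem D61553 : act 5 n29137 = n61553 := rfl
theorem F96091 : act 0 n55084 = n61553 := d21_10 (iv5 D61553) (iv1 D29137) (iv5 F43304) (iv6 D26864) (iv1 D12853) (iv6 F21120) (iv5 D12723) D12721 D26621 D55084
theorem F96092 : act 6 n54373 = n61553 := d21_5 (iv5 D6076) (iv1 F10689) D12488 D26286 D54373 (iv5 D61553) (iv1 D29137) (iv5 F43304) (iv6 D26864) (iv1 D12853)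
def n61554 : Q := act 6 n29137
theorem D61554 : act 6 n29137 = n61554 := rfl
def n61555 : Q := act 4 n29147
theorem D61555 : act 4 n29147 = n61555 := rfl
theorem F96093 : act 2 n61555 = n29150 := d1_1 D61555 (iv4 D29150) (iv2 F46814)
theorem F96094 : act 7 n61555 = n33484 := d11_2 (iv7 F54001) D61555 (iv4 D33484)
theorem F96095 : act 0 n61555 = n50021 := d18_2 F54037 D61555 (iv4 D50021) (iv5 D24394) D24393 F50880 F45534 F23444 D29101
def n61556 : Q := act 6 n29147
theorem D61556 : act 6 n29147 = n61556 := rfl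
theorem F96097 : act 2 n61556 = n29151 := d3_1 D61556 (iv6 D29151) (iv2 F46814)
def n61557 : Q := act 4 n29148
theorem D61557 : act 4 n29148 = n61557 := rfl
theorem F96099 : act 7 n61557 = n61480 := d11_2 (iv7 F54009) D61557 (iv4 D61480)
def n61558 : Q := act 6 n29148
theorem D61558 : act 6 n29148 = n61558 := rfl
theorem F96100 : act 2 n61558 = n61485 := d3_1 D61558 (iv6 D61485) (iv2 F54007)
theorem F96101 : act 5 n61558 = n33751 := d12_1 D61558 (iv6 D33751) (iv5 F50773) (iv6 D29573) (iv5 F54008)
def n61559 : Q := act 3 n29149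
theorem D61559 : act 3 n29149 = n61559 := rfl
theorem F96102 : act 5 n61559 = n29575 := d6_2 (iv5 F54012) D61559 (iv3 D29575)
theorem F96103 : act 7 n61559 = n61482 := d8_2 (iv7 F54013) D61559 F95984
theorem F96104 : act 0 n33119 = n61559 := d21_1 D33119 F96102 F50984 F49919 (iv6 F50470) D15340 (iv1 F25671) (iv5 D16133) D16134 (iv1 F53954)
def n61560 : Q := act 4 n29149
theorem D61560 : act 4 n29149 = n61560 := rfl
theorem F96105 : act 2 n61560 = n61480 := d1_1 D61560 (iv4 D61480) (iv2 F54011)
def n61561 : Q := act 6 n29149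
theorem D61561 : act 6 n29149 = n61561 := rfl
theorem F96107 : act 2 n61561 = n61481 := d3_1 D61561 (iv6 D61481) (iv2 F54011)
def n61562 : Q := act 0 n29150
theorem D61562 : act 0 n29150 = n61562 := rfl
theorem F96108 : act 4 n61562 = n50019 := d18_3 (iv1 D29149) D29150 D61562 F79139 F55499 (iv0 D28168) F22377 D14049 (iv5 F54012)
theorem F96110 : act 2 n50021 = n61562 := d1_3 F96108 F79138 D50021
def n61563 : Q := act 1 n29150
theorem D61563 : act 1 n29150 = n61563 := rfl
theorem F96112 : act 1 n61563 = n33484 := d15_1 D61563 (iv7 F96094) F96093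
theorem F96113 : act 7 n61563 = n50021 := d15_2 (iv0 D61562) D61563 F96110
theorem F96114 : act 4 n61563 = n50012 := d18_7 F54061 F47715 (iv1 D14111) F10936 D13874 D29150 D61563 (iv0 F94596) (iv5 D60061)
def n61564 : Q := act 5 n29150
theorem D61564 : act 5 n29150 = n61564 := rfl
def n61565 : Q := act 6 n29150
theorem D61565 : act 6 n29150 = n61565 := rfl
theorem F96116 : act 4 n61565 = n29151 := d10_1 D61565 (iv6 D29151) D29150
def n61566 : Q := act 0 n29151
theorem D61566 : act 0 n29151 = n61566 := rfl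
def n61567 : Q := act 1 n29151
theorem D61567 : act 1 n29151 = n61567 := rfl
def n61568 : Q := act 5 n29151
theorem D61568 : act 5 n29151 = n61568 := rfl
theorem F96117 : act 3 n61568 = n29156 := d6_1 D61568 (iv5 D29156) (iv3 F46815)
theorem F96118 : act 6 n61568 = n29153 := d12_2 D29151 D61568 (iv5 D29153) (iv6 D13875) D13874
def n61569 : Q := act 7 n29151
theorem D61569 : act 7 n29151 = n61569 := rfl
theorem F96119 : act 3 n61569 = n29157 := d8_1 D61569 (iv7 D29157) (iv3 F46815)
def n61570 : Q := act 4 n29153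
theorem D61570 : act 4 n29153 = n61570 := rfl
theorem F96120 : act 7 n61570 = n61506 := d11_2 (iv7 F46819) D61570 (iv4 D61506)
def n61571 : Q := act 3 n29154
theorem D61571 : act 3 n29154 = n61571 := rfl
def n61572 : Q := act 4 n29154
theorem D61572 : act 4 n29154 = n61572 := rfl
def n61573 : Q := act 5 n29154
theorem D61573 : act 5 n29154 = n61573 := rfl
theorem F96121 : act 7 n61573 = n34353 := d13_2 (iv7 F53307) D61573 F54511
def n61574 : Q := act 6 n29154
theorem D61574 : act 6 n29154 = n61574 := rfl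
theorem F96122 : act 7 n61574 = n55211 := d14_2 (iv7 F53307) D61574 F87347 (iv7 F53068) F53039
theorem F96123 : act 5 n61574 = n31526 := d21_6 F20995 (iv1 F9305) D6598 D13876 D29154 D61574 (iv1 D31526) F24516 (iv6 D13840) (iv1 F20997)
def n61575 : Q := act 3 n29155
theorem D61575 : act 3 n29155 = n61575 := rfl
def n61576 : Q := act 4 n29155
theorem D61576 : act 4 n29155 = n61576 := rfl
def n61577 : Q := act 0 n29156
theorem D61577 : act 0 n29156 = n61577 := rfl
def n61578 : Q := act 1 n29156
theorem D61578 : act 1 n29156 = n61578 := rfl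
def n61579 : Q := act 4 n29156
theorem D61579 : act 4 n29156 = n61579 := rfl
theorem F96124 : act 2 n61579 = n61479 := d1_1 D61579 F95981 F47707
theorem F96125 : act 6 n61579 = n29158 := d10_2 (iv6 F46820) D61579 (iv4 D29158)
def n61580 : Q := act 7 n29156
theorem D61580 : act 7 n29156 = n61580 := rfl
theorem F96126 : act 5 n61580 = n29157 := d13_1 D61580 (iv7 D29157) D29156
theorem F96127 : act 6 n61580 = n61511 := d14_1 D61580 (iv7 D61511) (iv6 D29120) (iv7 F23144) (iv6 F46820)
theorem F96128 : act 0 n34401 = n61511 := d21_4 F42839 (iv1 F21234) D16675 D34401 (iv6 F96127) F96126 (iv1 F47706) (iv5 F54511) (iv6 D34353) (iv1 F42842)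
def n61581 : Q := act 3 n29158
theorem D61581 : act 3 n29158 = n61581 := rfl
theorem F96129 : act 5 n61581 = n29640 := d6_2 (iv5 F46823) D61581 (iv3 D29640)
theorem F96130 : act 7 n61581 = n61508 := d8_2 (iv7 F46822) D61581 (iv3 D61508)
def n61582 : Q := act 3 n29171
theorem D61582 : act 3 n29171 = n61582 := rfl
theorem F96131 : act 5 n61582 = n50015 := d6_2 F54170 D61582 (iv3 D50015)
theorem F96132 : act 0 n61582 = n29238 := d21_1 (iv5 F96131) (iv5 D29238) F46897 F54252 F54242 (iv5 F51478) (iv1 F51850) F51848 D35912 F79132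
def n61583 : Q := act 4 n29171
theorem D61583 : act 4 n29171 = n61583 := rfl
theorem F96133 : act 1 n61583 = n61506 := d18_6 (iv1 D7725) (iv4 F8171) D11500 D24388 F54170 D61583 (iv4 D61506) F53972 (iv5 D16614)
def n61584 : Q := act 6 n29171
theorem D61584 : act 6 n29171 = n61584 := rfl
def n61585 : Q := act 4 n29172
theorem D61585 : act 4 n29172 = n61585 := rfl
theorem F96134 : act 0 n61585 = n61506 := d18_2 (iv1 F47757) D61585 (iv4 D61506) (iv5 D29118) (iv4 F26244) (iv0 F54048) (iv4 F37257) F54030 D29716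
def n61586 : Q := act 6 n29172
theorem D61586 : act 6 n29172 = n61586 := rfl
def n61587 : Q := act 0 n29173
theorem D61587 : act 0 n29173 = n61587 := rfl
theorem F96135 : act 4 n61587 = n34308 := d18_3 (iv1 D29172) D29173 D61587 (iv5 D34308) F49988 (iv0 D13853) (iv4 F22375) (iv0 F50879) F54321
theorem F96136 : act 2 n34309 = n61587 := d1_3 F96135 F54440 D34309
theorem F96137 : act 7 n34315 = n61587 := d11_0 F96135 F54442 D34315
def n61588 : Q := act 1 n29173
theorem D61588 : act 1 n29173 = n61588 := rfl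
theorem F96138 : act 7 n61588 = n34309 := d15_2 (iv0 D61587) D61588 F96136
theorem F96139 : act 4 n61588 = n34311 := d18_7 (iv1 F53981) (iv4 F11818) (iv1 F53982) F10910 D13881 D29173 D61588 F54452 (iv5 D29153)
theorem F96140 : act 2 n34315 = n61588 := d1_3 F96139 F54448 D34315
def n61589 : Q := act 5 n29173
theorem D61589 : act 5 n29173 = n61589 := rfl
def n61590 : Q := act 6 n29173
theorem D61590 : act 6 n29173 = n61590 := rfl
theorem F96141 : act 4 n61590 = n29174 := d10_1 D61590 (iv6 D29174) D29173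
def n61591 : Q := act 0 n29174
theorem D61591 : act 0 n29174 = n61591 := rfl
def n61592 : Q := act 1 n29174
theorem D61592 : act 1 n29174 = n61592 := rfl
def n61593 : Q := act 7 n29174
theorem D61593 : act 7 n29174 = n61593 := rfl
theorem F96142 : act 3 n61593 = n29182 := d8_1 D61593 (iv7 D29182) (iv3 F46832)
def n61594 : Q := act 0 n29177
theorem D61594 : act 0 n29177 = n61594 := rfl
def n61595 : Q := act 1 n29177
theorem D61595 : act 1 n29177 = n61595 := rfl
theorem F96143 : act 1 n61595 = n61388 := d15_1 D61595 (iv7 D61388) (iv2 F46833)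
def n61596 : Q := act 7 n29177
theorem D61596 : act 7 n29177 = n61596 := rfl
theorem F96144 : act 2 n61596 = n61388 := d4_1 D61596 (iv7 D61388) (iv2 F46833)
theorem F96145 : act 3 n61596 = n31824 := d8_1 D61596 (iv7 D31824) (iv3 F46834)
theorem F96146 : act 5 n61596 = n31811 := d13_1 D61596 (iv7 D31811) (iv5 F46835)
theorem F96147 : act 6 n61596 = n61383 := d14_1 D61596 (iv7 D61383) (iv6 D29056) F23152 D29177
theorem F96148 : act 1 n61388 = n61594 := d15_0 (iv0 D61594) D61596 F96144
theorem F96149 : act 1 n61387 = n61596 := d15_1 D61387 (iv7 D61596) F46833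
theorem F96150 : act 1 n61596 = n61386 := d15_0 (iv0 D61386) D61388 (iv2 F96144)
def n61597 : Q := act 4 n29178
theorem D61597 : act 4 n29178 = n61597 := rfl
theorem F96151 : act 2 n61597 = n31705 := d1_1 D61597 (iv4 D31705) (iv2 F46836)
theorem F96152 : act 7 n61597 = n61384 := d11_2 (iv7 F46838) D61597 (iv4 D61384)
def n61598 : Q := act 6 n29178
theorem D61598 : act 6 n29178 = n61598 := rfl
theorem F96153 : act 2 n61598 = n31706 := d3_1 D61598 (iv6 D31706) (iv2 F46836)
theorem F96154 : act 3 n61598 = n29179 := d7_1 D61598 (iv6 D29179) D29178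
def n61599 : Q := act 1 n29179
theorem D61599 : act 1 n29179 = n61599 := rfl
theorem F96155 : act 1 n61599 = n61383 := d15_1 D61599 (iv7 D61383) (iv2 F46839)
theorem F96156 : act 7 n61599 = n32830 := d15_2 (iv0 F57995) D61599 (iv2 F57994)
theorem F96157 : act 2 n61382 = n61599 := d4_3 F96156 (iv2 F57994) (iv7 F95874)
theorem F96158 : act 1 n61383 = n37057 := d15_1 F96155 (iv7 F95874) F96157
def n61600 : Q := act 7 n29179
theorem D61600 : act 7 n29179 = n61600 := rfl
theorem F96159 : act 2 n61600 = n61383 := d4_1 D61600 (iv7 D61383) (iv2 F46839)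
theorem F96160 : act 6 n61600 = n61388 := d14_1 D61600 (iv7 D61388) (iv6 D29058) (iv7 F23154) D29179
theorem F96161 : act 1 n61382 = n61600 := d15_1 D61382 (iv7 D61600) F46839
theorem F96162 : act 1 n61600 = n32830 := d15_1 F96161 (iv7 F96156) (iv2 F96157)
def n61601 : Q := act 2 n29180
theorem D61601 : act 2 n29180 = n61601 := rfl
theorem F96163 : act 7 n29181 = n61601 := d15_2 (iv0 D29180) D29181 (iv2 D61601)
def n61602 : Q := act 3 n29180
theorem D61602 : act 3 n29180 = n61602 := rfl
def n61603 : Q := act 4 n29180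
theorem D61603 : act 4 n29180 = n61603 := rfl
def n61604 : Q := act 5 n29180
theorem D61604 : act 5 n29180 = n61604 := rfl
theorem F96164 : act 0 n61604 = n36328 := d21_1 D61604 F57063 (iv6 D29298) (iv1 D13920) (iv6 D6614) (iv5 D2957) D2954 D6601 D13885 D29180
def n61605 : Q := act 6 n29180
theorem D61605 : act 6 n29180 = n61605 := rfl
theorem F96165 : act 5 n61605 = n32663 := d21_6 (iv5 D2957) D2954 D6601 D13885 D29180 D61605 (iv1 D32663) F26484 (iv6 D13916) (iv1 D6612)
theorem F96166 : act 0 n32819 = n61605 := d21_4 F10710 D7383 D15713 D32819 (iv6 D61605) D61604 F96164 F57063 (iv6 D29298) (iv1 D13920)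
def n61606 : Q := act 7 n29180
theorem D61606 : act 7 n29180 = n61606 := rfl
def n61607 : Q := act 3 n29181
theorem D61607 : act 3 n29181 = n61607 := rfl
def n61608 : Q := act 4 n29181
theorem D61608 : act 4 n29181 = n61608 := rfl
def n61609 : Q := act 5 n29181
theorem D61609 : act 5 n29181 = n61609 := rfl
theorem F96168 : act 0 n36328 = n61609 := d21_10 (iv5 D61609) (iv1 D29181) (iv5 F41819) (iv6 D26277) (iv1 D12484) (iv6 F20778) (iv5 D12481) F30465 D17540 D36328
theorem F96169 : act 6 n35089 = n61609 := d21_5 (iv5 D5933) (iv1 F10686) D7958 D17035 D35089 (iv5 D61609) (iv1 D29181) (iv5 F41819) (iv6 D26277) (iv1 D12484)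
def n61610 : Q := act 6 n29181
theorem D61610 : act 6 n29181 = n61610 := rfl
def n61611 : Q := act 5 n29188
theorem D61611 : act 5 n29188 = n61611 := rfl
theorem F96170 : act 3 n61611 = n29190 := d6_1 D61611 (iv5 D29190) D29188
def n61612 : Q := act 5 n29189
theorem D61612 : act 5 n29189 = n61612 := rfl
theorem F96171 : act 3 n61612 = n49320 := d6_1 D61612 (iv5 F77980) F77576
theorem F96172 : act 0 n61612 = n55988 := d17_2 (iv1 F77200) D61612 (iv5 D55988) F43605 D27003 F43609 (iv5 D24289) D24287 (iv4 F77197)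
def n61613 : Q := act 4 n29190
theorem D61613 : act 4 n29190 = n61613 := rfl
theorem F96173 : act 0 n61613 = n55989 := d18_2 (iv1 F54217) D61613 (iv4 D55989) (iv5 D27003) (iv4 F43605) (iv0 F77972) F77970 F45546 (iv5 F47813)
def n61614 : Q := act 6 n29190
theorem D61614 : act 6 n29190 = n61614 := rfl
def n61615 : Q := act 5 n29192
theorem D61615 : act 5 n29192 = n61615 := rfl
theorem F96174 : act 2 n61615 = n29196 := d2_1 D61615 (iv5 D29196) (iv2 F46842)
theorem F96175 : act 1 n61615 = n34289 := d17_6 D28171 F54288 (iv1 F47736) (iv5 D29193) D29192 D61615 (iv5 D34289) (iv0 F27761) F27760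
def n61616 : Q := act 4 n29193
theorem D61616 : act 4 n29193 = n61616 := rfl
theorem F96176 : act 2 n61616 = n29199 := d1_1 D61616 (iv4 D29199) (iv2 F46847)
theorem F96177 : act 1 n61616 = n34292 := d18_6 (iv1 D24287) (iv4 F37539) (iv1 F46843) (iv4 D29192) D29193 D61616 (iv4 D34292) D34291 (iv5 F54409)
def n61617 : Q := act 6 n29193
theorem D61617 : act 6 n29193 = n61617 := rfl
theorem F96178 : act 2 n61617 = n29200 := d3_1 D61617 (iv6 D29200) (iv2 F46847)
def n61618 : Q := act 5 n29195
theorem D61618 : act 5 n29195 = n61618 := rfl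
theorem F96179 : act 2 n61618 = n49201 := d2_1 D61618 (iv5 D49201) (iv2 F46851)
theorem F96180 : act 3 n61618 = n44068 := d6_1 D61618 (iv5 D44068) F65525
theorem F96181 : act 7 n61618 = n54773 := d13_2 (iv7 F46849) D61618 (iv5 D54773)
theorem F96182 : act 0 n61618 = n34909 := d17_2 F47720 D61618 (iv5 D34909) F27760 (iv5 F23176) (iv0 F54216) (iv5 D29190) F23578 D29693
def n61619 : Q := act 1 n29196
theorem D61619 : act 1 n29196 = n61619 := rfl
theorem F96183 : act 5 n61619 = n34286 := d17_7 (iv1 F45547) F54349 (iv1 D29198) (iv5 D13890) D13889 D29196 D61619 (iv0 F54397) (iv4 F45542)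
theorem F96184 : act 2 n34289 = n61619 := d2_3 F96183 F54395 D34289
theorem F96185 : act 3 n44072 = n61619 := d6_3 F96183 (iv3 F77697) (iv5 F82956)
def n61620 : Q := act 4 n29196
theorem D61620 : act 4 n29196 = n61620 := rfl
def n61621 : Q := act 6 n29196
theorem D61621 : act 6 n29196 = n61621 := rfl
theorem F96186 : act 3 n61621 = n50880 := d7_1 D61621 (iv6 D50880) (iv3 F46852)
def n61622 : Q := act 4 n29197
theorem D61622 : act 4 n29197 = n61622 := rfl
def n61623 : Q := act 6 n29197
theorem D61623 : act 6 n29197 = n61623 := rfl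
theorem F96187 : act 3 n61623 = n50022 := d7_1 D61623 (iv6 D50022) (iv3 F54345)
def n61624 : Q := act 3 n29198
theorem D61624 : act 3 n29198 = n61624 := rfl
theorem F96188 : act 2 n61624 = n50014 := d0_1 D61624 F79127 (iv2 F79118) F79119 F55542
theorem F96189 : act 5 n61624 = n32451 := d6_2 F54349 D61624 F55490
theorem F96190 : act 0 n29218 = n61624 := d17_2 F54067 D29218 F96189 (iv4 F55492) D51058 (iv0 F86270) (iv5 D54586) (iv0 F83534) F83533
def n61625 : Q := act 4 n29198
theorem D61625 : act 4 n29198 = n61625 := rfl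
def n61626 : Q := act 6 n29198
theorem D61626 : act 6 n29198 = n61626 := rfl
def n61627 : Q := act 1 n29199
theorem D61627 : act 1 n29199 = n61627 := rfl
theorem F96191 : act 4 n61627 = n34287 := d18_7 (iv1 F38230) F46850 (iv1 D29195) (iv4 D13889) D13890 D29199 D61627 F78751 F78749
theorem F96192 : act 2 n34292 = n61627 := d1_3 F96191 F54398 D34292
def n61628 : Q := act 5 n29199
theorem D61628 : act 5 n29199 = n61628 := rfl
def n61629 : Q := act 6 n29199
theorem D61629 : act 6 n29199 = n61629 := rfl
theorem F96193 : act 4 n61629 = n29200 := d10_1 D61629 (iv6 D29200) D29199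
def n61630 : Q := act 0 n29200
theorem D61630 : act 0 n29200 = n61630 := rfl
def n61631 : Q := act 1 n29200
theorem D61631 : act 1 n29200 = n61631 := rfl
def n61632 : Q := act 5 n29200
theorem D61632 : act 5 n29200 = n61632 := rfl
theorem F96194 : act 3 n61632 = n29205 := d6_1 D61632 (iv5 D29205) (iv3 F46853)
theorem F96195 : act 6 n61632 = n29202 := d12_2 D29200 D61632 (iv5 D29202) (iv6 D13891) D13890
def n61633 : Q := act 7 n29200
theorem D61633 : act 7 n29200 = n61633 := rfl
theorem F96196 : act 3 n61633 = n29206 := d8_1 D61633 (iv7 D29206) (iv3 F46853)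
def n61634 : Q := act 4 n29201
theorem D61634 : act 4 n29201 = n61634 := rfl
theorem F96197 : act 2 n61634 = n33121 := d1_1 D61634 F52348 F54273
theorem F96198 : act 3 n61634 = n52163 := d5_1 D61634 (iv4 F83553) F83552 (iv4 F83568) F83567
theorem F96199 : act 7 n61634 = n33000 := d11_2 F54284 D61634 F54287
theorem F96200 : act 0 n61634 = n33045 := d20_1 D61634 (iv4 D33045) F25398 F53960 F25623 F11818 D16123 (iv4 F54064) F54063 (iv1 F47780)
theorem F96201 : act 0 n33042 = n61634 := d20_10 (iv4 D61634) (iv1 D29201) F26985 F37533 (iv1 D24005) (iv3 F65508) F65509 F69002 F64164 F55476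
def n61635 : Q := act 4 n29202
theorem D61635 : act 4 n29202 = n61635 := rfl
theorem F96202 : act 0 n61635 = n61541 := d18_2 F78780 D61635 (iv4 D61541) F46805 (iv4 F46643) (iv0 F46645) F37991 (iv0 F55537) D49831
def n61636 : Q := act 3 n29203
theorem D61636 : act 3 n29203 = n61636 := rfl
def n61637 : Q := act 4 n29203
theorem D61637 : act 4 n29203 = n61637 := rfl
def n61638 : Q := act 5 n29203
theorem D61638 : act 5 n29203 = n61638 := rfl
theorem F96203 : act 7 n61638 = n49876 := d13_2 (iv7 F57939) D61638 F78868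
def n61639 : Q := act 6 n29203
theorem D61639 : act 6 n29203 = n61639 := rfl
theorem F96204 : act 7 n61639 = n60422 := d14_2 (iv7 F57939) D61639 F94930 (iv7 F51962) F51964
theorem F96205 : act 5 n61639 = n31561 := d21_6 F10963 (iv1 F4742) D6604 D13892 D29203 D61639 (iv1 D31561) F24519 (iv6 D13914) (iv1 F10965)
def n61640 : Q := act 3 n29204
theorem D61640 : act 3 n29204 = n61640 := rfl
def n61641 : Q := act 4 n29204
theorem D61641 : act 4 n29204 = n61641 := rfl
def n61642 : Q := act 0 n29205
theorem D61642 : act 0 n29205 = n61642 := rfl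
def n61643 : Q := act 1 n29205
theorem D61643 : act 1 n29205 = n61643 := rfl
def n61644 : Q := act 4 n29205
theorem D61644 : act 4 n29205 = n61644 := rfl
theorem F96206 : act 2 n61644 = n60897 := d1_1 D61644 F95442 F47769
theorem F96207 : act 6 n61644 = n29207 := d10_2 (iv6 F46856) D61644 (iv4 D29207)
def n61645 : Q := act 7 n29205
theorem D61645 : act 7 n29205 = n61645 := rfl
theorem F96208 : act 5 n61645 = n29206 := d13_1 D61645 (iv7 D29206) D29205
def n61646 : Q := act 3 n29207
theorem D61646 : act 3 n29207 = n61646 := rfl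
theorem F96209 : act 5 n61646 = n29431 := d6_2 (iv5 F46858) D61646 (iv3 D29431)
def n61647 : Q := act 4 n29212
theorem D61647 : act 4 n29212 = n61647 := rfl
theorem F96210 : act 2 n61647 = n29228 := d1_1 D61647 (iv4 D29228) (iv2 F46866)
theorem F96211 : act 7 n61647 = n29240 := d11_2 (iv7 F46867) D61647 (iv4 D29240)
def n61648 : Q := act 6 n29212
theorem D61648 : act 6 n29212 = n61648 := rfl
theorem F96212 : act 2 n61648 = n29229 := d3_1 D61648 (iv6 D29229) (iv2 F46866)
theorem F96213 : act 5 n61648 = n32516 := d12_1 D61648 (iv6 D32516) (iv5 F41399) (iv6 F50567) D29212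
def n61649 : Q := act 5 n29216
theorem D61649 : act 5 n29216 = n61649 := rfl
theorem F96214 : act 2 n61649 = n29218 := d2_1 D61649 (iv5 D29218) D29216
theorem F96215 : act 0 n61649 = n50014 := d21_1 D61649 (iv5 D50014) (iv6 F50950) F49934 (iv6 F50465) D15334 (iv1 F51505) F51478 (iv6 F54242) (iv1 F54253)
def n61650 : Q := act 6 n29216
theorem D61650 : act 6 n29216 = n61650 := rfl
theorem F96216 : act 2 n61650 = n29219 := d3_1 D61650 (iv6 D29219) D29216
theorem F96217 : act 4 n61650 = n42282 := d10_1 D61650 (iv6 F65292) F50600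
def n61651 : Q := act 5 n29217
theorem D61651 : act 5 n29217 = n61651 := rfl
theorem F96218 : act 2 n61651 = n52122 := d2_1 D61651 (iv5 D52122) (iv2 F50599)
theorem F96219 : act 7 n61651 = n52124 := d13_2 F50598 D61651 (iv5 D52124)
def n61652 : Q := act 1 n29218
theorem D61652 : act 1 n29218 = n61652 := rfl
theorem F96220 : act 7 n61652 = n50014 := d15_2 (iv0 F96190) D61652 (iv2 F96188)
theorem F96221 : act 3 n50019 = n61652 := d8_3 F96220 F79127 D50019
theorem F96222 : act 5 n32452 = n61652 := d13_3 F96220 (iv5 D50014) (iv7 F55495)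
def n61653 : Q := act 4 n29218
theorem D61653 : act 4 n29218 = n61653 := rfl
theorem F96223 : act 0 n61653 = n61536 := d18_2 (iv1 D61652) D61653 (iv4 D61536) F46801 D29570 (iv0 F51517) F51516 D32452 F96222
def n61654 : Q := act 6 n29218
theorem D61654 : act 6 n29218 = n61654 := rfl
theorem F96224 : act 3 n61654 = n29229 := d7_1 D61654 (iv6 D29229) (iv3 F46871)
def n61655 : Q := act 7 n29218
theorem D61655 : act 7 n29218 = n61655 := rfl
theorem F96225 : act 3 n61655 = n29230 := d8_1 D61655 (iv7 D29230) (iv3 F46871)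
theorem F96226 : act 5 n61655 = n29220 := d13_1 D61655 (iv7 D29220) D29218
theorem F96227 : act 0 n50014 = n61655 := d17_2 F56576 D50014 F96226 F50577 D52124 (iv0 F87482) (iv5 D55278) F76665 F56622
def n61656 : Q := act 5 n29219
theorem D61656 : act 5 n29219 = n61656 := rfl
theorem F96228 : act 3 n61656 = n29233 := d6_1 D61656 (iv5 D29233) (iv3 F46872)
theorem F96229 : act 7 n61656 = n32514 := d13_2 F85219 D61656 (iv5 F85217)
theorem F96230 : act 4 n61656 = n55626 := d16_2 (iv4 F50657) D61656 (iv5 F87992) (iv4 D47152) F35261 (iv4 F31709) (iv5 F50402) (iv7 F65288) F65291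
def n61657 : Q := act 0 n29223
theorem D61657 : act 0 n29223 = n61657 := rfl
theorem F96231 : act 5 n61657 = n32455 := d17_3 (iv1 F53959) D29223 D61657 F51531 (iv5 F96102) (iv0 F96104) (iv5 D33119) F53954 F25674
theorem F96232 : act 2 n61559 = n61657 := d15_3 (iv0 D61657) (iv0 F95985) (iv7 F96103)
theorem F96233 : act 3 n61657 = n34308 := d0_2 D61559 F96232 F54440 (iv3 F46751) (iv2 F54011)
theorem F96234 : act 7 n61657 = n34313 := d4_2 (iv7 F96103) F96232 (iv2 F95983)
theorem F96235 : act 1 n29239 = n61657 := d15_1 F95986 F96234 (iv2 F95983)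
def n61658 : Q := act 4 n29223
theorem D61658 : act 4 n29223 = n61658 := rfl
theorem F96236 : act 0 n61658 = n34274 := d18_2 F95985 D61658 (iv4 D34274) (iv5 D16593) F11992 (iv0 F50435) (iv4 F24935) (iv0 F50648) D61482
theorem F96237 : act 1 n61658 = n61597 := d18_6 (iv1 D6607) F4647 D6606 D13897 D29223 D61658 (iv4 D61597) F50438 (iv5 D13903)
def n61659 : Q := act 6 n29223
theorem D61659 : act 6 n29223 = n61659 := rfl
def n61660 : Q := act 7 n29223
theorem D61660 : act 7 n29223 = n61660 := rfl
theorem F96238 : act 2 n61660 = n29239 := d4_1 D61660 (iv7 F52339) F52337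
theorem F96239 : act 3 n61660 = n34290 := d8_1 D61660 (iv7 F78752) F78753
theorem F96240 : act 5 n61660 = n29225 := d13_1 D61660 (iv7 D29225) D29223
theorem F96241 : act 1 n34313 = n61660 := d15_1 (iv0 F54461) (iv7 D61660) (iv2 F52337)
theorem F96242 : act 1 n61660 = n61559 := d15_1 F96241 F96103 F95983
def n61661 : Q := act 0 n29228
theorem D61661 : act 0 n29228 = n61661 := rfl
theorem F96243 : act 4 n61661 = n61559 := d18_3 F50437 D29228 D61661 F96102 (iv4 F51531) (iv0 D32455) F24935 F50436 (iv5 F46837)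
def n61662 : Q := act 1 n29228
theorem D61662 : act 1 n29228 = n61662 := rfl
theorem F96245 : act 1 n61662 = n29240 := d15_1 D61662 (iv7 F96211) F96210
theorem F96246 : act 4 n61662 = n34313 := d18_7 (iv1 F53950) F25674 (iv1 F53959) (iv4 D13897) D13898 D29228 D61662 F96241 F96240
def n61663 : Q := act 3 n29228
theorem D61663 : act 3 n29228 = n61663 := rfl
def n61664 : Q := act 5 n29228
theorem D61664 : act 5 n29228 = n61664 := rfl
def n61665 : Q := act 6 n29228
theorem D61665 : act 6 n29228 = n61665 := rfl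
theorem F96247 : act 4 n61665 = n29229 := d10_1 D61665 (iv6 D29229) D29228
def n61666 : Q := act 7 n29228
theorem D61666 : act 7 n29228 = n61666 := rfl
theorem F96248 : act 2 n61666 = n29240 := d4_1 D61666 (iv7 F96211) F96210
theorem F96249 : act 4 n61666 = n29230 := d11_1 D61666 (iv7 D29230) D29228
def n61667 : Q := act 0 n29229
theorem D61667 : act 0 n29229 = n61667 := rfl
def n61668 : Q := act 1 n29229
theorem D61668 : act 1 n29229 = n61668 := rfl
def n61669 : Q := act 5 n29229
theorem D61669 : act 5 n29229 = n61669 := rfl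
theorem F96250 : act 2 n61669 = n32516 := d2_1 D61669 (iv5 F96213) F96212
theorem F96251 : act 6 n61669 = n29233 := d12_2 D29229 D61669 (iv5 D29233) (iv6 D13899) D13898
def n61670 : Q := act 7 n29229
theorem D61670 : act 7 n29229 = n61670 := rfl
def n61671 : Q := act 6 n29230
theorem D61671 : act 6 n29230 = n61671 := rfl
theorem F96252 : act 2 n61671 = n29241 := d3_1 D61671 (iv6 D29241) (iv2 F46884)
theorem F96253 : act 5 n61671 = n29241 := d12_1 D61671 (iv6 D29241) (iv5 D13903) (iv6 F46896) (iv5 F46885)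
def n61672 : Q := act 4 n29233
theorem D61672 : act 4 n29233 = n61672 := rfl
theorem F96254 : act 2 n61672 = n32515 := d1_1 D61672 (iv4 D32515) F50610
theorem F96255 : act 7 n61672 = n32515 := d11_2 (iv7 F50609) D61672 (iv4 D32515)
theorem F96256 : act 5 n61672 = n44609 := d16_1 D61672 (iv4 D44609) D44610 F70135 F55660 F46880 D29233 F50609 F50610
def n61673 : Q := act 5 n29237
theorem D61673 : act 5 n29237 = n61673 := rfl
theorem F96257 : act 2 n61673 = n54806 := d2_1 D61673 (iv5 D54806) (iv2 F50607)
theorem F96258 : act 7 n61673 = n54805 := d13_2 F50606 D61673 (iv5 D54805)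
theorem F96259 : act 0 n61673 = n34299 := d17_2 F46900 D61673 (iv5 D34299) (iv4 D16603) D16604 F47699 (iv5 D29675) (iv0 F26990) (iv4 F42436)
def n61674 : Q := act 4 n29238
theorem D61674 : act 4 n29238 = n61674 := rfl
theorem F96260 : act 0 n61674 = n34301 := d18_2 F96132 D61674 (iv4 D34301) (iv5 D16604) D16603 D34298 (iv4 F54423) (iv0 F79131) (iv5 F96131)
theorem F96261 : act 1 n61674 = n61527 := d18_6 (iv1 F26991) (iv4 F42436) F46900 (iv4 D29237) D29238 D61674 (iv4 D61527) (iv0 D29129) (iv5 D13866)
def n61675 : Q := act 6 n29238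
theorem D61675 : act 6 n29238 = n61675 := rfl
theorem F96262 : act 3 n61675 = n29241 := d7_1 D61675 (iv6 D29241) (iv3 F46902)
def n61676 : Q := act 4 n29239
theorem D61676 : act 4 n29239 = n61676 := rfl
theorem F96263 : act 0 n61676 = n61597 := d18_2 (iv1 F96235) D61676 (iv4 D61597) F46837 F23436 F27073 D34273 (iv0 F53946) (iv5 F96231)
theorem F96264 : act 1 n61676 = n34274 := d18_6 (iv1 F26599) F21200 F26598 D13902 D29239 D61676 (iv4 D34274) F50440 (iv5 D13898)
def n61677 : Q := act 6 n29239
theorem D61677 : act 6 n29239 = n61677 := rfl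
def n61678 : Q := act 3 n29240
theorem D61678 : act 3 n29240 = n61678 := rfl
def n61679 : Q := act 5 n29240
theorem D61679 : act 5 n29240 = n61679 := rfl
def n61680 : Q := act 6 n29240
theorem D61680 : act 6 n29240 = n61680 := rfl
theorem F96265 : act 4 n61680 = n29241 := d10_1 D61680 (iv6 D29241) D29240
def n61681 : Q := act 0 n29241
theorem D61681 : act 0 n29241 = n61681 := rfl
def n61682 : Q := act 1 n29241
theorem D61682 : act 1 n29241 = n61682 := rfl
def n61683 : Q := act 7 n29241
theorem D61683 : act 7 n29241 = n61683 := rfl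
def n61684 : Q := act 4 n29250
theorem D61684 : act 4 n29250 = n61684 := rfl
theorem F96266 : act 2 n61684 = n29254 := d1_1 D61684 (iv4 D29254) F46909
theorem F96267 : act 7 n61684 = n29257 := d11_2 (iv7 F46911) D61684 (iv4 D29257)
def n61685 : Q := act 6 n29250
theorem D61685 : act 6 n29250 = n61685 := rfl
theorem F96268 : act 2 n61685 = n29255 := d3_1 D61685 (iv6 D29255) F46909
theorem F96269 : act 5 n61685 = n31845 := d12_1 D61685 (iv6 D31845) F50419 (iv6 F50433) F50432
def n61686 : Q := act 0 n29251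
theorem D61686 : act 0 n29251 = n61686 := rfl
theorem F96270 : act 4 n61686 = n33135 := d18_3 F27199 D29251 D61686 F53948 (iv4 D34273) (iv0 D16591) F11992 (iv0 F50435) D15362
theorem F96271 : act 1 n29264 = n61686 := d15_0 (iv0 D61686) (iv7 F79182) F79181
theorem F96272 : act 7 n29260 = n61686 := d11_0 F96270 (iv7 F85855) F85858
theorem F96273 : act 2 n61686 = n29259 := d15_3 (iv0 D29259) D29260 F96272
def n61687 : Q := act 1 n29251
theorem D61687 : act 1 n29251 = n61687 := rfl
theorem F96274 : act 1 n61687 = n29264 := d15_1 D61687 (iv7 D29264) (iv2 F46914)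
theorem F96275 : act 7 n61687 = n29259 := d15_2 (iv0 D61686) D61687 (iv2 F96273)
theorem F96276 : act 4 n61687 = n32456 := d18_7 (iv1 F50578) F46882 F50575 F10703 D13907 D29251 D61687 F96001 F95999
theorem F96277 : act 2 n29260 = n61687 := d1_3 F96276 (iv2 F85853) F85858
def n61688 : Q := act 3 n29251
theorem D61688 : act 3 n29251 = n61688 := rfl
theorem F96278 : act 4 n61688 = n34230 := d5_2 D29251 D61688 (iv3 D34230) F26228 (iv3 F26597)
def n61689 : Q := act 5 n29251
theorem D61689 : act 5 n29251 = n61689 := rfl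
theorem F96279 : act 2 n61689 = n29262 := d2_1 D61689 (iv5 D29262) (iv2 F46914)
def n61690 : Q := act 6 n29251
theorem D61690 : act 6 n29251 = n61690 := rfl
theorem F96280 : act 2 n61690 = n29263 := d3_1 D61690 (iv6 D29263) (iv2 F46914)
theorem F96281 : act 4 n61690 = n29252 := d10_1 D61690 (iv6 D29252) D29251
def n61691 : Q := act 0 n29252
theorem D61691 : act 0 n29252 = n61691 := rfl
def n61692 : Q := act 1 n29252
theorem D61692 : act 1 n29252 = n61692 := rfl
theorem F96282 : act 1 n61692 = n29267 := d15_1 D61692 (iv7 D29267) (iv2 F46915)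
theorem F96283 : act 5 n32494 = n61692 := d21_6 (iv5 D7260) (iv1 D3337) D3339 D7267 D15381 D32494 (iv1 D61692) F46917 (iv6 D15675) (iv1 F24910)
def n61693 : Q := act 7 n29252
theorem D61693 : act 7 n29252 = n61693 := rfl
theorem F96284 : act 2 n61693 = n29267 := d4_1 D61693 (iv7 D29267) (iv2 F46915)
theorem F96285 : act 3 n61693 = n34256 := d8_1 D61693 (iv7 D34256) (iv3 F46916)
theorem F96286 : act 5 n61693 = n32753 := d13_1 D61693 (iv7 D32753) (iv5 F46917)
theorem F96287 : act 1 n29267 = n61691 := d15_0 (iv0 D61691) D61693 F96284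
theorem F96288 : act 1 n29266 = n61693 := d15_1 D29266 (iv7 D61693) F46915
theorem F96289 : act 1 n61693 = n29265 := d15_0 (iv0 D29265) D29267 (iv2 F96284)
def n61694 : Q := act 0 n29253
theorem D61694 : act 0 n29253 = n61694 := rfl
def n61695 : Q := act 1 n29253
theorem D61695 : act 1 n29253 = n61695 := rfl
def n61696 : Q := act 2 n29253
theorem D61696 : act 2 n29253 = n61696 := rfl
def n61697 : Q := act 4 n29253
theorem D61697 : act 4 n29253 = n61697 := rfl
theorem F96290 : act 7 n61697 = n54597 := d11_2 F51529 D61697 (iv4 F86282)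
theorem F96291 : act 1 n61697 = n54565 := d18_6 D12769 D26713 D55276 F87471 F50559 D61697 (iv4 D54565) (iv0 F42127) (iv5 D12772)
theorem F96292 : act 0 n61697 = n54600 := d20_7 (iv4 F23042) (iv1 F23043) (iv4 D6613) (iv3 F10705) D13908 D29253 D61697 F86286 F42156 (iv1 F20996)
theorem E8794 : n61695 = n50025 := (c18_9 F54067 D29217 F46869 F39975 (iv5 F42157) (iv4 F86286) (iv0 F96292) (iv4 D61697) D61695 F79169)
theorem F96293 : act 0 n50025 = n29253 := (sb E8794 (iv1 D61695))
theorem F96294 : act 2 n61697 = n54596 := d15_3 (iv0 D54596) D54597 (iv7 F96290)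
theorem F96295 : act 4 n54596 = n61696 := d1_2 D61697 F96294 (iv2 D61696)
def n61698 : Q := act 6 n29253
theorem D61698 : act 6 n29253 = n61698 := rfl
theorem F96296 : act 3 n61698 = n29255 := d7_1 D61698 (iv6 D29255) D29253
def n61699 : Q := act 0 n29254
theorem D61699 : act 0 n29254 = n61699 := rfl
theorem F96297 : act 4 n61699 = n61488 := d18_3 D13908 D29254 D61699 F95999 (iv4 F46874) (iv0 D29221) (iv4 D13897) (iv0 D6606) D6609
theorem F96298 : act 1 n29257 = n61699 := d15_0 (iv0 D61699) (iv7 F51541) F51540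
def n61700 : Q := act 1 n29254
theorem D61700 : act 1 n29254 = n61700 := rfl
theorem F96299 : act 1 n61700 = n29257 := d15_1 D61700 (iv7 F96267) F96266
theorem F96300 : act 4 n61700 = n33411 := d18_7 D32455 F51531 (iv1 F50488) F49924 (iv5 F50482) D29254 D61700 (iv0 F52671) (iv5 D32456)
theorem E8795 : n61694 = n61611 := (c20_5 (iv4 F96300) (iv1 D61700) (iv4 D29254) D29253 D61694 F96170 D61613 F96173 (iv4 D55989) (iv3 F51536) F52671)
theorem F96301 : act 1 n61611 = n29253 := (sb E8795 (iv0 D61694))
def n61701 : Q := act 3 n29254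
theorem D61701 : act 3 n29254 = n61701 := rfl
def n61702 : Q := act 5 n29254
theorem D61702 : act 5 n29254 = n61702 := rfl
def n61703 : Q := act 6 n29254
theorem D61703 : act 6 n29254 = n61703 := rfl
theorem F96302 : act 4 n61703 = n29255 := d10_1 D61703 (iv6 D29255) D29254
def n61704 : Q := act 0 n29255
theorem D61704 : act 0 n29255 = n61704 := rfl
def n61705 : Q := act 1 n29255
theorem D61705 : act 1 n29255 = n61705 := rfl
def n61706 : Q := act 7 n29255
theorem D61706 : act 7 n29255 = n61706 := rfl
def n61707 : Q := act 4 n29256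
theorem D61707 : act 4 n29256 = n61707 := rfl
theorem F96303 : act 2 n61707 = n54842 := d1_1 D61707 F94576 (iv2 F94575)
theorem F96304 : act 7 n61707 = n54841 := d11_2 F94571 D61707 (iv4 F94569)
theorem F96305 : act 0 n61707 = n49811 := d18_2 (iv1 F94582) D61707 (iv4 D49811) (iv5 D24284) (iv4 F38058) (iv0 F46899) (iv4 D29237) (iv0 F54050) (iv5 F94581)
theorem F96306 : act 1 n61707 = n54845 := d18_6 D13836 D29064 F50516 (iv4 F41872) (iv5 F46918) D61707 F86786 (iv0 F42477) (iv5 D13839)
def n61708 : Q := act 6 n29256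
theorem D61708 : act 6 n29256 = n61708 := rfl
theorem F96307 : act 3 n61708 = n29258 := d7_1 D61708 (iv6 D29258) D29256
theorem F96308 : act 5 n61708 = n32755 := d12_1 D61708 (iv6 D32755) F27214 D26293 (iv5 F46918)
def n61709 : Q := act 3 n29257
theorem D61709 : act 3 n29257 = n61709 := rfl
def n61710 : Q := act 5 n29257
theorem D61710 : act 5 n29257 = n61710 := rfl
def n61711 : Q := act 6 n29257
theorem D61711 : act 6 n29257 = n61711 := rfl
theorem F96309 : act 4 n61711 = n29258 := d10_1 D61711 (iv6 D29258) D29257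
def n61712 : Q := act 0 n29258
theorem D61712 : act 0 n29258 = n61712 := rfl
def n61713 : Q := act 1 n29258
theorem D61713 : act 1 n29258 = n61713 := rfl
def n61714 : Q := act 7 n29258
theorem D61714 : act 7 n29258 = n61714 := rfl
theorem F96310 : act 5 n61714 = n32760 := d13_1 D61714 (iv7 D32760) (iv5 F46919)
def n61715 : Q := act 3 n29259
theorem D61715 : act 3 n29259 = n61715 := rfl
def n61716 : Q := act 4 n29259
theorem D61716 : act 4 n29259 = n61716 := rfl
theorem F96311 : act 2 n61716 = n33135 := d1_1 D61716 (iv4 F96270) F96273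
theorem F96312 : act 7 n61716 = n32456 := d11_2 F96275 D61716 (iv4 F96276)
theorem F96313 : act 5 n61716 = n31599 := d18_4 (iv1 D13909) D13910 D29259 D61716 F49924 (iv0 F50485) F23098 (iv0 F50456) F26968
theorem F96314 : act 1 n61716 = n33363 := d18_8 (iv1 F53959) (iv4 D13897) (iv1 F26599) F21200 (iv5 F38254) D50037 F79184 D61716 (iv5 D33363)
theorem F96315 : act 3 n61716 = n34285 := d20_3 D13910 D29259 D61716 (iv1 F55576) F55580 (iv4 F86786) (iv1 F96306) (iv4 D61707) (iv3 D29256) (iv1 D13909)
theorem F96316 : act 1 n34320 = n61716 := d15_0 F96314 (iv7 F96000) F95998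
def n61717 : Q := act 5 n29259
theorem D61717 : act 5 n29259 = n61717 := rfl
theorem F96317 : act 4 n61717 = n61710 := d16_2 (iv4 D61716) D61717 (iv5 D61710) (iv4 D29257) (iv5 F26968) (iv4 F41879) D54384 F85855 (iv2 F96311)
def n61718 : Q := act 6 n29259
theorem D61718 : act 6 n29259 = n61718 := rfl
def n61719 : Q := act 3 n29260
theorem D61719 : act 3 n29260 = n61719 := rfl
def n61720 : Q := act 5 n29260
theorem D61720 : act 5 n29260 = n61720 := rfl
theorem F96318 : act 4 n61720 = n61702 := d9_1 D61720 (iv5 D61702) (iv4 D29254) F50482 (iv4 F49924) (iv5 F96313) (iv4 D61716) D61717 F96317 (iv5 D61710) (iv4 D29257) (iv5 F26968) (iv4 F41879) D54384 F85858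
def n61721 : Q := act 6 n29260
theorem D61721 : act 6 n29260 = n61721 := rfl
def n61722 : Q := act 0 n29261
theorem D61722 : act 0 n29261 = n61722 := rfl
def n61723 : Q := act 1 n29261
theorem D61723 : act 1 n29261 = n61723 := rfl
def n61724 : Q := act 2 n29261
theorem D61724 : act 2 n29261 = n61724 := rfl
theorem F96319 : act 4 n61724 = n29287 := d1_2 (iv4 F46920) D61724 (iv2 D29287)
def n61725 : Q := act 5 n29261
theorem D61725 : act 5 n29261 = n61725 := rfl
theorem F96320 : act 3 n61725 = n29262 := d6_1 D61725 (iv5 D29262) D29261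
def n61726 : Q := act 6 n29261
theorem D61726 : act 6 n29261 = n61726 := rfl
theorem F96321 : act 3 n61726 = n29263 := d7_1 D61726 (iv6 D29263) D29261
theorem F96322 : act 4 n61726 = n29288 := d10_1 D61726 (iv6 D29288) (iv4 F46920)
def n61727 : Q := act 0 n29262
theorem D61727 : act 0 n29262 = n61727 := rfl
theorem F96323 : act 5 n61727 = n61658 := d17_3 (iv1 D29260) D29262 D61727 (iv4 D61658) (iv5 D29223) F53959 D33363 (iv0 F85856) F85858
theorem F96324 : act 4 n61679 = n61727 := d16_2 D29240 D61679 F96323 (iv4 D61658) (iv5 D29223) (iv4 D13897) D13898 D29230 F46884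
def n61728 : Q := act 1 n29262
theorem D61728 : act 1 n29262 = n61728 := rfl
theorem F96325 : act 5 n61728 = n61676 := d17_7 F50439 (iv5 D13903) (iv1 D6607) D6609 D13910 D29262 D61728 F96264 (iv4 D34274)
theorem F96326 : act 4 n61664 = n61728 := d9_15 F96325 (iv4 D61676) (iv5 D29239) (iv4 D13902) D13903 D29240 D61679 F96324 F96323 (iv4 D61658) (iv5 D29223) (iv4 D13897) D13898 D29228 D61664
def n61729 : Q := act 4 n29262
theorem D61729 : act 4 n29262 = n61729 := rfl
theorem F96327 : act 5 n61729 = n50037 := d16_3 D13910 D29262 D61729 (iv4 D50037) F38254 F21200 (iv5 F38254) F38255 F23170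
theorem F96328 : act 0 n61729 = n61728 := d18_2 (iv1 D61728) D61729 (iv4 F96326) (iv5 D61664) (iv4 D29228) (iv0 F50437) D61597 (iv0 F96263) (iv5 F96325)
theorem F96329 : act 1 n61729 = n61727 := d18_8 F96236 (iv4 D34274) F50439 D29240 D61679 F96324 (iv0 D61727) D61729 F96323
theorem F96330 : act 7 n61729 = n61689 := d15_2 D61728 (iv0 F96328) F96279
def n61730 : Q := act 6 n29262
theorem D61730 : act 6 n29262 = n61730 := rfl
def n61731 : Q := act 7 n29262
theorem D61731 : act 7 n29262 = n61731 := rfl
theorem F96331 : act 2 n61731 = n61729 := d4_1 D61731 F96330 F96279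
theorem F96332 : act 4 n61731 = n61689 := d11_1 D61731 (iv7 F96330) (iv4 D61729)
theorem F96333 : act 5 n61731 = n29264 := d13_1 D61731 (iv7 D29264) D29262
def n61732 : Q := act 0 n29263
theorem D61732 : act 0 n29263 = n61732 := rfl
def n61733 : Q := act 1 n29263
theorem D61733 : act 1 n29263 = n61733 := rfl
def n61734 : Q := act 5 n29263
theorem D61734 : act 5 n29263 = n61734 := rfl
def n61735 : Q := act 7 n29263
theorem D61735 : act 7 n29263 = n61735 := rfl
theorem F96334 : act 4 n61735 = n29267 := d11_1 D61735 (iv7 D29267) (iv4 F46921)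
def n61736 : Q := act 6 n29264
theorem D61736 : act 6 n29264 = n61736 := rfl
theorem F96335 : act 4 n61736 = n29268 := d10_1 D61736 (iv6 D29268) (iv4 F46922)
def n61737 : Q := act 2 n29265
theorem D61737 : act 2 n29265 = n61737 := rfl
theorem F96336 : act 7 n29266 = n61737 := d15_2 (iv0 D29265) D29266 (iv2 D61737)
def n61738 : Q := act 3 n29265
theorem D61738 : act 3 n29265 = n61738 := rfl
def n61739 : Q := act 4 n29265
theorem D61739 : act 4 n29265 = n61739 := rfl
def n61740 : Q := act 5 n29265
theorem D61740 : act 5 n29265 = n61740 := rfl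
def n61741 : Q := act 6 n29265
theorem D61741 : act 6 n29265 = n61741 := rfl
theorem F96337 : act 5 n61741 = n53980 := d21_6 (iv5 D13903) (iv1 D6607) D6609 D13911 D29265 D61741 (iv1 D53980) (iv5 F54370) (iv6 D34275) F50439
def n61742 : Q := act 7 n29265
theorem D61742 : act 7 n29265 = n61742 := rfl
theorem F96338 : act 2 n61742 = n29266 := d4_1 D61742 F96336 (iv2 D61737)
def n61743 : Q := act 3 n29266
theorem D61743 : act 3 n29266 = n61743 := rfl
def n61744 : Q := act 4 n29266
theorem D61744 : act 4 n29266 = n61744 := rfl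
def n61745 : Q := act 5 n29266
theorem D61745 : act 5 n29266 = n61745 := rfl
theorem F96339 : act 6 n61745 = n32465 := d21_3 (iv5 F96286) (iv1 F96288) D61745 (iv1 F51550) (iv6 F41931) (iv5 F85870) (iv1 F85873) (iv5 F51898) (iv6 D32781) (iv1 F51845)
def n61746 : Q := act 6 n29266
theorem D61746 : act 6 n29266 = n61746 := rfl
def n61747 : Q := act 6 n29267
theorem D61747 : act 6 n29267 = n61747 := rfl
theorem F96340 : act 3 n61747 = n29299 := d7_1 D61747 (iv6 D29299) (iv3 F46923)
theorem F96341 : act 7 n61747 = n29268 := d14_2 D29267 D61747 (iv6 D29268) (iv7 D13912) D13911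
def n61748 : Q := act 0 n29268
theorem D61748 : act 0 n29268 = n61748 := rfl
def n61749 : Q := act 1 n29268
theorem D61749 : act 1 n29268 = n61749 := rfl
def n61750 : Q := act 5 n29272
theorem D61750 : act 5 n29272 = n61750 := rfl
def n61751 : Q := act 6 n29272
theorem D61751 : act 6 n29272 = n61751 := rfl
theorem F96342 : act 4 n61751 = n29273 := d10_1 D61751 (iv6 D29273) D29272
def n61752 : Q := act 0 n29273
theorem D61752 : act 0 n29273 = n61752 := rfl
def n61753 : Q := act 1 n29273
theorem D61753 : act 1 n29273 = n61753 := rfl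
def n61754 : Q := act 7 n29273
theorem D61754 : act 7 n29273 = n61754 := rfl
theorem F96343 : act 3 n61754 = n29276 := d8_1 D61754 (iv7 D29276) (iv3 F46927)
def n61755 : Q := act 2 n29274
theorem D61755 : act 2 n29274 = n61755 := rfl
theorem F96344 : act 7 n29275 = n61755 := d15_2 (iv0 D29274) D29275 (iv2 D61755)
def n61756 : Q := act 3 n29274
theorem D61756 : act 3 n29274 = n61756 := rfl
def n61757 : Q := act 4 n29274
theorem D61757 : act 4 n29274 = n61757 := rfl
def n61758 : Q := act 5 n29274
theorem D61758 : act 5 n29274 = n61758 := rfl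
def n61759 : Q := act 6 n29274
theorem D61759 : act 6 n29274 = n61759 := rfl
theorem F96345 : act 5 n61759 = n32609 := d21_6 (iv5 D13830) F10640 (iv5 F10708) D13914 D29274 D61759 (iv1 D32609) F24981 (iv6 D14109) (iv1 F23100)
def n61760 : Q := act 7 n29274
theorem D61760 : act 7 n29274 = n61760 := rfl
theorem F96346 : act 2 n61760 = n29275 := d4_1 D61760 F96344 (iv2 D61755)
def n61761 : Q := act 3 n29275
theorem D61761 : act 3 n29275 = n61761 := rfl
def n61762 : Q := act 4 n29275
theorem D61762 : act 4 n29275 = n61762 := rfl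
def n61763 : Q := act 5 n29275
theorem D61763 : act 5 n29275 = n61763 := rfl
theorem F96347 : act 6 n61763 = n48936 := d21_3 F50177 (iv1 F47824) D61763 (iv1 F77163) (iv6 D28484) F22739 (iv1 F18165) D23920 (iv6 F49892) (iv1 F50180)
def n61764 : Q := act 6 n29275
theorem D61764 : act 6 n29275 = n61764 := rfl
def n61765 : Q := act 4 n29279
theorem D61765 : act 4 n29279 = n61765 := rfl
theorem F96348 : act 2 n61765 = n29280 := d1_1 D61765 (iv4 D29280) D29279
theorem F96349 : act 0 n61765 = n54781 := d18_2 F54226 D61765 (iv4 D54781) (iv5 D26495) (iv4 F42388) F46844 (iv4 D29192) F23573 D29686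
theorem F96350 : act 1 n61765 = n49817 := d18_6 (iv1 F50544) (iv4 F37545) F43567 (iv4 F45542) (iv5 F46928) D61765 (iv4 D49817) F55586 F55585
def n61766 : Q := act 6 n29279
theorem D61766 : act 6 n29279 = n61766 := rfl
theorem F96351 : act 2 n61766 = n29281 := d3_1 D61766 (iv6 D29281) D29279
def n61767 : Q := act 1 n29280
theorem D61767 : act 1 n29280 = n61767 := rfl
theorem F96352 : act 7 n61767 = n54781 := d15_2 F54489 D61767 F86665
theorem F96353 : act 4 n61767 = n35017 := d18_7 (iv1 F50505) F55249 (iv1 D34908) F27760 (iv5 F23176) D29280 D61767 F55576 (iv5 D34285)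
theorem F96354 : act 2 n49817 = n61767 := d1_3 F96353 F55579 D49817
def n61768 : Q := act 5 n29280
theorem D61768 : act 5 n29280 = n61768 := rfl
def n61769 : Q := act 6 n29280
theorem D61769 : act 6 n29280 = n61769 := rfl
theorem F96355 : act 4 n61769 = n29281 := d10_1 D61769 (iv6 D29281) D29280
def n61770 : Q := act 0 n29281
theorem D61770 : act 0 n29281 = n61770 := rfl
def n61771 : Q := act 1 n29281
theorem D61771 : act 1 n29281 = n61771 := rfl
def n61772 : Q := act 7 n29281
theorem D61772 : act 7 n29281 = n61772 := rfl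
theorem F96356 : act 3 n61772 = n29284 := d8_1 D61772 (iv7 D29284) (iv3 F46929)
def n61773 : Q := act 2 n29282
theorem D61773 : act 2 n29282 = n61773 := rfl
theorem F96357 : act 7 n29283 = n61773 := d15_2 (iv0 D29282) D29283 (iv2 D61773)
def n61774 : Q := act 3 n29282
theorem D61774 : act 3 n29282 = n61774 := rfl
def n61775 : Q := act 4 n29282
theorem D61775 : act 4 n29282 = n61775 := rfl
def n61776 : Q := act 5 n29282
theorem D61776 : act 5 n29282 = n61776 := rfl
theorem F96358 : act 0 n54416 = n61776 := d21_10 (iv5 D61776) (iv1 F47840) (iv5 F52014) F52015 (iv1 F51998) F57951 (iv5 F57950) (iv1 D37016) F41933 D54416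
def n61777 : Q := act 6 n29282
theorem D61777 : act 6 n29282 = n61777 := rfl
def n61778 : Q := act 7 n29282
theorem D61778 : act 7 n29282 = n61778 := rfl
theorem F96359 : act 2 n61778 = n29283 := d4_1 D61778 F96357 (iv2 D61773)
def n61779 : Q := act 3 n29283
theorem D61779 : act 3 n29283 = n61779 := rfl
def n61780 : Q := act 4 n29283
theorem D61780 : act 4 n29283 = n61780 := rfl
def n61781 : Q := act 5 n29283
theorem D61781 : act 5 n29283 = n61781 := rfl
theorem F96360 : act 0 n61781 = n54416 := d21_1 D61781 F85905 (iv6 D37015) (iv1 F46244) (iv6 F94930) (iv5 D60422) (iv1 F50175) F49895 (iv6 F47837) (iv1 F47839)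
theorem F96361 : act 6 n54326 = n61781 := d21_5 (iv5 D7416) (iv1 F9261) (iv5 F26445) D26261 D54326 (iv5 D61781) (iv1 D29283) (iv5 F26484) (iv6 D15533) (iv1 F26483)
def n61782 : Q := act 6 n29283
theorem D61782 : act 6 n29283 = n61782 := rfl
theorem F96362 : act 0 n29295 = n61782 := d21_4 (iv5 D28695) D28693 F46240 D29295 (iv6 D61782) D61781 F96360 F85905 (iv6 D37015) (iv1 F46244)
def n61783 : Q := act 2 n29285
theorem D61783 : act 2 n29285 = n61783 := rfl
theorem F96363 : act 7 n29286 = n61783 := d15_2 (iv0 D29285) D29286 (iv2 D61783)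
def n61784 : Q := act 3 n29285
theorem D61784 : act 3 n29285 = n61784 := rfl
def n61785 : Q := act 4 n29285
theorem D61785 : act 4 n29285 = n61785 := rfl
def n61786 : Q := act 5 n29285
theorem D61786 : act 5 n29285 = n61786 := rfl
def n61787 : Q := act 6 n29285
theorem D61787 : act 6 n29285 = n61787 := rfl
def n61788 : Q := act 7 n29285
theorem D61788 : act 7 n29285 = n61788 := rfl
theorem F96364 : act 2 n61788 = n29286 := d4_1 D61788 F96363 (iv2 D61783)
def n61789 : Q := act 3 n29286
theorem D61789 : act 3 n29286 = n61789 := rfl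
def n61790 : Q := act 4 n29286
theorem D61790 : act 4 n29286 = n61790 := rfl
def n61791 : Q := act 5 n29286
theorem D61791 : act 5 n29286 = n61791 := rfl
def n61792 : Q := act 6 n29286
theorem D61792 : act 6 n29286 = n61792 := rfl
def n61793 : Q := act 6 n29287
theorem D61793 : act 6 n29287 = n61793 := rfl
theorem F96365 : act 2 n61793 = n29288 := d3_1 D61793 (iv6 D29288) D29287
def n61794 : Q := act 0 n29288
theorem D61794 : act 0 n29288 = n61794 := rfl
def n61795 : Q := act 1 n29288
theorem D61795 : act 1 n29288 = n61795 := rfl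
def n61796 : Q := act 5 n29288
theorem D61796 : act 5 n29288 = n61796 := rfl
theorem F96366 : act 3 n61796 = n29291 := d6_1 D61796 (iv5 D29291) (iv3 F46930)
def n61797 : Q := act 7 n29288
theorem D61797 : act 7 n29288 = n61797 := rfl
theorem F96367 : act 3 n61797 = n29292 := d8_1 D61797 (iv7 D29292) (iv3 F46930)
def n61799 : Q := act 5 n29289
theorem D61799 : act 5 n29289 = n61799 := rfl
theorem F96368 : act 4 n61799 = n37077 := d16_2 (iv4 F46931) D61799 (iv5 D37077) F29947 (iv5 F22040) F42635 F42634 (iv7 F42645) F42647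
def n61800 : Q := act 6 n29289
theorem D61800 : act 6 n29289 = n61800 := rfl
theorem F96369 : act 4 n61800 = n33165 := d10_1 D61800 (iv6 D33165) (iv4 F46931)
def n61802 : Q := act 5 n29290
theorem D61802 : act 5 n29290 = n61802 := rfl
theorem F96370 : act 4 n61802 = n37075 := d9_1 D61802 (iv5 D37075) F43769 D18109 F42745 F42742 (iv4 F46931) D61799 F96368 (iv5 D37077) F29947 (iv5 F22040) F42635 F42634 (iv4 F46932)
def n61803 : Q := act 6 n29290
theorem D61803 : act 6 n29290 = n61803 := rfl
theorem F96371 : act 4 n61803 = n33167 := d10_1 D61803 (iv6 D33167) (iv4 F46932)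
def n61804 : Q := act 0 n29291
theorem D61804 : act 0 n29291 = n61804 := rfl
theorem F96372 : act 5 n61804 = n33152 := d17_3 (iv1 D29290) D29291 D61804 (iv4 D33152) (iv5 D15986) (iv0 D7480) D7482 D15994 (iv4 F46932)
theorem F96373 : act 4 n61804 = n37085 := d18_1 D61804 (iv1 D37085) D37086 (iv5 F86335) F86334 F42203 (iv4 F46931) (iv0 D29289) D29291
theorem F96374 : act 1 n37774 = n61804 := d15_0 (iv0 D61804) F89916 F89913
def n61805 : Q := act 1 n29291
theorem D61805 : act 1 n29291 = n61805 := rfl
theorem F96376 : act 4 n61805 = n37084 := d17_9 (iv1 F89540) F89538 (iv1 F44026) D37077 (iv4 F96368) (iv5 D61799) (iv0 D29289) D29291 D61805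
theorem F96377 : act 5 n33161 = n61805 := d9_0 F96376 F58004 (iv4 D18087) (iv5 D8531) F29940 D15986 D33152 (iv5 F96372) F96373 F58005 (iv4 D18103) (iv5 D8536) F29944 D15991 D33161
def n61806 : Q := act 0 n29293
theorem D61806 : act 0 n29293 = n61806 := rfl
def n61807 : Q := act 1 n29293
theorem D61807 : act 1 n29293 = n61807 := rfl
def n61808 : Q := act 2 n29293
theorem D61808 : act 2 n29293 = n61808 := rfl
def n61809 : Q := act 4 n29293
theorem D61809 : act 4 n29293 = n61809 := rfl
def n61810 : Q := act 6 n29293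
theorem D61810 : act 6 n29293 = n61810 := rfl
theorem F96378 : act 3 n61810 = n29295 := d7_1 D61810 (iv6 D29295) D29293
def n61811 : Q := act 3 n29294
theorem D61811 : act 3 n29294 = n61811 := rfl
def n61812 : Q := act 5 n29294
theorem D61812 : act 5 n29294 = n61812 := rfl
theorem F96379 : act 4 n61812 = n37765 := d16_2 D29294 D61812 (iv5 D37765) F30460 (iv5 F21723) (iv4 F28534) (iv5 F30463) (iv7 F41798) F41800
def n61813 : Q := act 6 n29294
theorem D61813 : act 6 n29294 = n61813 := rfl
theorem F96380 : act 4 n61813 = n29295 := d10_1 D61813 (iv6 D29295) D29294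
def n61814 : Q := act 1 n29295
theorem D61814 : act 1 n29295 = n61814 := rfl
def n61815 : Q := act 7 n29295
theorem D61815 : act 7 n29295 = n61815 := rfl
def n61816 : Q := act 0 n29296
theorem D61816 : act 0 n29296 = n61816 := rfl
def n61817 : Q := act 1 n29296
theorem D61817 : act 1 n29296 = n61817 := rfl
def n61818 : Q := act 2 n29296
theorem D61818 : act 2 n29296 = n61818 := rfl
def n61819 : Q := act 4 n29296
theorem D61819 : act 4 n29296 = n61819 := rfl
def n61820 : Q := act 6 n29296
theorem D61820 : act 6 n29296 = n61820 := rfl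
theorem F96381 : act 3 n61820 = n29298 := d7_1 D61820 (iv6 D29298) D29296
def n61822 : Q := act 5 n29297
theorem D61822 : act 5 n29297 = n61822 := rfl
def n61823 : Q := act 6 n29297
theorem D61823 : act 6 n29297 = n61823 := rfl
theorem F96383 : act 4 n61823 = n29298 := d10_1 D61823 (iv6 D29298) D29297
def n61824 : Q := act 0 n29298
theorem D61824 : act 0 n29298 = n61824 := rfl
theorem F96384 : act 5 n61824 = n32608 := d21_0 (iv1 F85812) F85808 (iv6 F47772) (iv1 F47774) (iv6 F57936) F57934 (iv1 D36329) (iv5 F30463) D29298 D61824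
def n61825 : Q := act 1 n29298
theorem D61825 : act 1 n29298 = n61825 := rfl
def n61826 : Q := act 7 n29298
theorem D61826 : act 7 n29298 = n61826 := rfl
def n61827 : Q := act 2 n29300
theorem D61827 : act 2 n29300 = n61827 := rfl
theorem F96385 : act 7 n29301 = n61827 := d15_2 (iv0 D29300) D29301 (iv2 D61827)
def n61828 : Q := act 3 n29300
theorem D61828 : act 3 n29300 = n61828 := rfl
def n61829 : Q := act 4 n29300
theorem D61829 : act 4 n29300 = n61829 := rfl
def n61830 : Q := act 5 n29300
theorem D61830 : act 5 n29300 = n61830 := rfl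
def n61831 : Q := act 6 n29300
theorem D61831 : act 6 n29300 = n61831 := rfl
theorem F96386 : act 5 n61831 = n60432 := d21_6 (iv5 D6706) (iv1 F4741) (iv5 F10711) D13922 D29300 D61831 (iv1 D60432) (iv5 F46695) (iv6 D29056) F23096
def n61832 : Q := act 7 n29300
theorem D61832 : act 7 n29300 = n61832 := rfl
def n61833 : Q := act 3 n29301
theorem D61833 : act 3 n29301 = n61833 := rfl
def n61834 : Q := act 4 n29301
theorem D61834 : act 4 n29301 = n61834 := rfl
def n61835 : Q := act 5 n29301
theorem D61835 : act 5 n29301 = n61835 := rfl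
def n61836 : Q := act 6 n29301
theorem D61836 : act 6 n29301 = n61836 := rfl
def n61837 : Q := act 6 n29302
theorem D61837 : act 6 n29302 = n61837 := rfl
theorem F96388 : act 3 n61837 = n29408 := d7_1 D61837 (iv6 D29408) F46939
theorem F96389 : act 5 n61837 = n49916 := d12_1 D61837 (iv6 D49916) (iv5 D24341) D24342 (iv5 F46937)
def n61838 : Q := act 6 n29303
theorem D61838 : act 6 n29303 = n61838 := rfl
theorem F96390 : act 2 n61838 = n51121 := d3_1 D61838 F80640 F46942
theorem F96391 : act 3 n61838 = n60550 := d7_1 D61838 (iv6 D60550) F47119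
theorem F96392 : act 5 n61838 = n51089 := d12_1 D61838 (iv6 D51089) (iv5 F49249) F49252 (iv5 F46943)
theorem F96393 : act 0 n61838 = n50060 := d21_4 (iv5 F78071) (iv1 F78073) (iv5 F46943) D61838 (iv6 D50060) (iv5 D24415) (iv1 D11512) D11513 (iv6 F19138) D24847
def n61839 : Q := act 3 n29304
theorem D61839 : act 3 n29304 = n61839 := rfl
theorem F96394 : act 4 n61839 = n29311 := d5_2 D29304 D61839 (iv3 D29311) (iv4 D13948) (iv3 F23224)
def n61840 : Q := act 5 n29304
theorem D61840 : act 5 n29304 = n61840 := rfl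
theorem F96395 : act 2 n61840 = n29853 := d2_1 D61840 (iv5 F80552) F80551
theorem F96396 : act 7 n61840 = n29854 := d13_2 F53562 D61840 F53565
theorem F96397 : act 4 n61840 = n51295 := d16_2 D29304 D61840 (iv5 D51295) (iv4 D24940) (iv5 D11842) (iv4 F19510) D24852 F38918 F38898
theorem F96398 : act 0 n61840 = n29857 := d17_2 F95849 D61840 F48009 F23695 F10994 F10987 D14152 F46688 D61347
theorem F96399 : act 1 n61840 = n29788 := d17_6 (iv1 D24855) (iv5 D11783) (iv1 F19514) D13944 D29304 D61840 (iv5 D29788) D29786 F47922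
def n61841 : Q := act 6 n29304
theorem D61841 : act 6 n29304 = n61841 := rfl
theorem F96400 : act 4 n61841 = n29305 := d10_1 D61841 (iv6 D29305) D29304
def n61842 : Q := act 0 n29305
theorem D61842 : act 0 n29305 = n61842 := rfl
def n61843 : Q := act 1 n29305
theorem D61843 : act 1 n29305 = n61843 := rfl
def n61844 : Q := act 7 n29305
theorem D61844 : act 7 n29305 = n61844 := rfl
theorem F96401 : act 3 n61844 = n29316 := d8_1 D61844 (iv7 D29316) (iv3 F46944)
def n61845 : Q := act 3 n29306
theorem D61845 : act 3 n29306 = n61845 := rfl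
theorem F96402 : act 4 n61845 = n60517 := d5_2 D29306 D61845 (iv3 D60517) (iv4 D28741) F23230
def n61846 : Q := act 5 n29306
theorem D61846 : act 5 n29306 = n61846 := rfl
theorem F96403 : act 2 n61846 = n60729 := d2_1 D61846 (iv5 D60729) (iv2 F46945)
theorem F96404 : act 4 n61846 = n49193 := d16_2 D29306 D61846 (iv5 D49193) (iv4 D24004) (iv5 F18335) (iv4 F18576) F23233 F23232 F23229
theorem F96405 : act 0 n61846 = n49266 := d17_2 (iv1 F46947) D61846 (iv5 D49266) F37597 (iv5 F19989) F19992 D14059 F23464 D24001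
theorem F96406 : act 1 n61846 = n49269 := d17_6 (iv1 F18365) (iv5 F18366) F19888 (iv5 F23227) D29306 D61846 (iv5 D49269) F37601 F23244
def n61847 : Q := act 6 n29306
theorem D61847 : act 6 n29306 = n61847 := rfl
theorem F96407 : act 2 n61847 = n60730 := d3_1 D61847 (iv6 D60730) (iv2 F46945)
theorem F96408 : act 4 n61847 = n29307 := d10_1 D61847 (iv6 D29307) D29306
def n61848 : Q := act 0 n29307
theorem D61848 : act 0 n29307 = n61848 := rfl
def n61849 : Q := act 1 n29307
theorem D61849 : act 1 n29307 = n61849 := rfl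
theorem F96409 : act 1 n61849 = n60573 := d15_1 D61849 F95189 (iv2 F46949)
def n61850 : Q := act 7 n29307
theorem D61850 : act 7 n29307 = n61850 := rfl
theorem F96410 : act 2 n61850 = n60573 := d4_1 D61850 F95189 (iv2 F46949)
theorem F96411 : act 3 n61850 = n60522 := d8_1 D61850 (iv7 D60522) (iv3 F46950)
theorem F96412 : act 5 n61850 = n31371 := d13_1 D61850 F49638 (iv5 F46951)
theorem F96413 : act 6 n61850 = n51212 := d14_1 D61850 (iv7 D51212) F39059 F37563 D29307
theorem F96414 : act 1 n60573 = n61848 := d15_0 (iv0 D61848) D61850 F96410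
theorem F96415 : act 1 n60732 = n61850 := d15_1 D60732 (iv7 D61850) F46949
theorem F96416 : act 0 n60731 = n61850 := d21_4 F22977 D28802 D60687 (iv6 F95334) F96413 F80798 (iv1 F45804) D59639 F94038 (iv1 D28803)
def n61851 : Q := act 3 n29308
theorem D61851 : act 3 n29308 = n61851 := rfl
theorem F96417 : act 4 n61851 = n29389 := d5_2 D29308 D61851 (iv3 D29389) (iv4 D13978) (iv3 F23234)
theorem F96418 : act 7 n61851 = n60728 := d8_2 (iv7 F46952) D61851 (iv3 D60728)
def n61852 : Q := act 5 n29308
theorem D61852 : act 5 n29308 = n61852 := rfl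
theorem F96419 : act 4 n61852 = n49192 := d9_1 D61852 (iv5 D49192) (iv4 D24003) F18331 (iv4 F19887) (iv5 F23227) D29306 D61846 F96404 (iv5 D49193) (iv4 D24004) (iv5 F18335) (iv4 F18576) F23233 D29308
theorem F96420 : act 7 n61852 = n60729 := d13_2 (iv7 F46952) D61852 (iv5 D60729)
theorem F96421 : act 0 n61852 = n49269 := d17_2 (iv1 F46954) D61852 (iv5 D49269) F37603 (iv5 F18468) (iv0 F19045) (iv5 F37521) F37520 D24009
theorem F96422 : act 1 n61852 = n49266 := d17_6 D11279 (iv5 F36948) (iv1 F36950) F23233 D29308 D61852 (iv5 D49266) (iv0 D24042) (iv4 D11281)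
def n61853 : Q := act 3 n29309
theorem D61853 : act 3 n29309 = n61853 := rfl
def n61854 : Q := act 5 n29309
theorem D61854 : act 5 n29309 = n61854 := rfl
theorem F96423 : act 4 n61854 = n29674 := d16_2 (iv4 F46955) D61854 (iv5 D29674) F23554 F10919 (iv4 F19984) (iv5 F37622) F37621 F37617
theorem F96424 : act 0 n61854 = n49253 := d17_2 D29309 D61854 (iv5 D49253) (iv4 D24037) (iv5 F36948) F36951 (iv5 F23227) (iv0 D13946) D13948
theorem F96425 : act 1 n61854 = n49260 := d17_6 (iv1 F18474) (iv5 F18454) F19901 (iv5 F37615) (iv4 F46955) D61854 (iv5 D49260) F37733 F37732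
def n61855 : Q := act 6 n29309
theorem D61855 : act 6 n29309 = n61855 := rfl
theorem F96426 : act 4 n61855 = n49280 := d10_1 D61855 (iv6 D49280) (iv4 F46955)
def n61856 : Q := act 3 n29310
theorem D61856 : act 3 n29310 = n61856 := rfl
theorem F96427 : act 4 n61856 = n60832 := d5_2 (iv4 F46958) D61856 (iv3 D60832) (iv4 F47971) F47972
def n61857 : Q := act 5 n29310
theorem D61857 : act 5 n29310 = n61857 := rfl
theorem F96428 : act 4 n61857 = n49207 := d9_1 D61857 F77702 F37639 F18676 (iv4 F19899) (iv5 F37615) (iv4 F46955) D61854 F96423 (iv5 D29674) F23554 F10919 (iv4 F19984) (iv5 F37622) (iv4 F46958)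
theorem F96429 : act 0 n61857 = n49260 := d17_2 (iv1 F46957) D61857 (iv5 D49260) (iv4 D24040) (iv5 F18366) (iv0 F18578) F23233 F23231 D13952
theorem F96430 : act 1 n61857 = n49253 := d17_6 D11303 (iv5 F36897) (iv1 F36899) (iv5 F37622) (iv4 F46958) D61857 (iv5 D49253) F37586 (iv4 D11305)
def n61858 : Q := act 6 n29310
theorem D61858 : act 6 n29310 = n61858 := rfl
theorem F96431 : act 2 n61858 = n49541 := d3_1 D61858 F78296 F77678
theorem F96432 : act 4 n61858 = n49174 := d10_1 D61858 F77656 (iv4 F46958)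
theorem F96433 : act 0 n61858 = n60482 := d21_4 D49253 (iv1 F96430) (iv5 D61857) D61858 (iv6 D60482) D60481 F95061 (iv5 D30104) F23845 (iv1 F37586)
theorem F96434 : act 1 n61858 = n60571 := d15_1 (iv0 F96433) (iv7 D60571) (iv2 F95062)
theorem F96435 : act 0 n59638 = n49171 := d18_2 (iv1 F45804) D59638 F77653 D49174 (iv4 F96432) F96434 F95182 F80799 F80798
theorem F96436 : act 1 n59638 = n49529 := d15_1 (iv0 F96435) (iv7 D49529) (iv2 F77652)
def n61859 : Q := act 0 n29311
theorem D61859 : act 0 n29311 = n61859 := rfl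
def n61860 : Q := act 1 n29311
theorem D61860 : act 1 n29311 = n61860 := rfl
def n61861 : Q := act 2 n29311
theorem D61861 : act 2 n29311 = n61861 := rfl
def n61862 : Q := act 5 n29311
theorem D61862 : act 5 n29311 = n61862 := rfl
theorem F96437 : act 3 n61862 = n29312 := d6_1 D61862 (iv5 D29312) D29311
def n61863 : Q := act 6 n29311
theorem D61863 : act 6 n29311 = n61863 := rfl
theorem F96438 : act 3 n61863 = n29313 := d7_1 D61863 (iv6 D29313) D29311
def n61864 : Q := act 6 n29312
theorem D61864 : act 6 n29312 = n61864 := rfl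
theorem F96439 : act 4 n61864 = n49228 := d10_1 D61864 (iv6 D49228) (iv4 F46959)
def n61865 : Q := act 0 n29313
theorem D61865 : act 0 n29313 = n61865 := rfl
def n61866 : Q := act 1 n29313
theorem D61866 : act 1 n29313 = n61866 := rfl
def n61867 : Q := act 5 n29313
theorem D61867 : act 5 n29313 = n61867 := rfl
def n61868 : Q := act 7 n29313
theorem D61868 : act 7 n29313 = n61868 := rfl
theorem F96440 : act 4 n61868 = n29316 := d11_1 D61868 (iv7 D29316) (iv4 F46962)
def n61869 : Q := act 2 n29314
theorem D61869 : act 2 n29314 = n61869 := rfl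
theorem F96441 : act 6 n61869 = n60543 := d3_2 (iv6 F76592) D61869 (iv2 D60543)
theorem F96442 : act 7 n29315 = n61869 := d15_2 (iv0 D29314) D29315 (iv2 D61869)
def n61870 : Q := act 3 n29314
theorem D61870 : act 3 n29314 = n61870 := rfl
def n61871 : Q := act 4 n29314
theorem D61871 : act 4 n29314 = n61871 := rfl
theorem F96444 : act 6 n61871 = n60545 := d10_2 (iv6 F76592) D61871 (iv4 D60545)
def n61872 : Q := act 7 n29314
theorem D61872 : act 7 n29314 = n61872 := rfl
theorem F96445 : act 2 n61872 = n29315 := d4_1 D61872 F96442 (iv2 D61869)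
def n61873 : Q := act 3 n29315
theorem D61873 : act 3 n29315 = n61873 := rfl
def n61874 : Q := act 4 n29315
theorem D61874 : act 4 n29315 = n61874 := rfl
def n61875 : Q := act 6 n29315
theorem D61875 : act 6 n29315 = n61875 := rfl
theorem F96446 : act 5 n61875 = n60549 := d12_1 D61875 (iv6 D60549) (iv5 F76589) (iv6 F92888) F92889
theorem F96447 : act 7 n61875 = n60549 := d14_2 (iv7 F96442) D61875 (iv6 D60549) F95159 (iv6 F96441)
theorem F96448 : act 0 n60692 = n60549 := d21_1 D60692 (iv5 F96446) (iv6 D61875) (iv1 D29315) (iv6 D13949) (iv5 D6630) (iv1 F7762) (iv5 F18370) D24047 (iv1 F46439)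
theorem F96449 : act 0 n51253 = n59640 := d21_1 (iv5 F80845) (iv5 F95137) (iv6 F95282) F96448 (iv6 D60549) (iv5 F76589) (iv1 F76596) (iv5 F77839) F77840 (iv1 F77821)
def n61876 : Q := act 6 n29317
theorem D61876 : act 6 n29317 = n61876 := rfl
theorem F96450 : act 2 n61876 = n60555 := d3_1 D61876 (iv6 F95169) F46971
theorem F96451 : act 3 n61876 = n60506 := d7_1 D61876 (iv6 D60506) (iv3 F46965)
theorem F96452 : act 4 n61876 = n61425 := d10_1 D61876 (iv6 D61425) (iv4 F46963)
theorem F96453 : act 5 n61876 = n30451 := d12_1 D61876 (iv6 D30451) (iv5 F38843) F49176 F49174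
theorem F96454 : act 0 n61876 = n59328 := d21_4 (iv5 F76582) (iv1 F76584) F49174 D61876 (iv6 D59328) (iv5 D28175) (iv1 D13449) D13450 (iv6 F22411) (iv1 F37580)
theorem F96455 : act 1 n61876 = n60557 := d15_1 (iv0 F96454) (iv7 D60557) (iv2 F93577)
def n61877 : Q := act 6 n29318
theorem D61877 : act 6 n29318 = n61877 := rfl
theorem F96456 : act 3 n61877 = n29370 := d7_1 D61877 (iv6 D29370) (iv3 F46969)
theorem F96457 : act 4 n61877 = n61428 := d10_1 D61877 (iv6 D61428) F46968
theorem F96458 : act 5 n61877 = n49918 := d12_1 D61877 (iv6 D49918) (iv5 D24343) D24344 F46967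
def n61878 : Q := act 3 n29319
theorem D61878 : act 3 n29319 = n61878 := rfl
theorem F96459 : act 4 n61878 = n29322 := d5_2 D29319 D61878 (iv3 D29322) (iv4 D13952) (iv3 F23235)
def n61879 : Q := act 6 n29319
theorem D61879 : act 6 n29319 = n61879 := rfl
theorem F96460 : act 4 n61879 = n29320 := d10_1 D61879 (iv6 D29320) D29319
theorem F96461 : act 0 n53279 = n61879 := d20_1 D53279 F96460 F46972 D29325 F77801 D29427 (iv1 F47158) F46729 (iv3 F46726) (iv1 F46727)
def n61880 : Q := act 0 n29320
theorem D61880 : act 0 n29320 = n61880 := rfl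
theorem F96462 : act 2 n60847 = n61880 := d15_3 (iv0 D61880) (iv0 F93937) (iv7 F95404)
theorem F96463 : act 7 n61880 = n60550 := d4_2 (iv7 F95404) F96462 F95161
theorem F96464 : act 1 n60847 = n59370 := d15_0 (iv0 F95163) (iv7 F96463) (iv2 F96462)
def n61881 : Q := act 5 n29320
theorem D61881 : act 5 n29320 = n61881 := rfl
theorem F96465 : act 3 n61881 = n29327 := d6_1 D61881 (iv5 D29327) (iv3 F46972)
theorem F96466 : act 6 n61881 = n29321 := d12_2 D29320 D61881 (iv5 D29321) (iv6 D13951) D13950
def n61882 : Q := act 7 n29320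
theorem D61882 : act 7 n29320 = n61882 := rfl
theorem F96467 : act 3 n61882 = n29328 := d8_1 D61882 (iv7 D29328) (iv3 F46972)
theorem F96468 : act 1 n60550 = n61882 := d15_1 (iv0 F95163) (iv7 D61882) (iv2 F93650)
theorem F96469 : act 1 n61882 = n60847 := d15_1 F96468 F95404 (iv2 F95161)
def n61883 : Q := act 0 n29322
theorem D61883 : act 0 n29322 = n61883 := rfl
def n61884 : Q := act 1 n29322
theorem D61884 : act 1 n29322 = n61884 := rfl
def n61885 : Q := act 2 n29322
theorem D61885 : act 2 n29322 = n61885 := rfl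
def n61886 : Q := act 5 n29322
theorem D61886 : act 5 n29322 = n61886 := rfl
theorem F96470 : act 3 n61886 = n29323 := d6_1 D61886 (iv5 D29323) D29322
def n61887 : Q := act 6 n29322
theorem D61887 : act 6 n29322 = n61887 := rfl
theorem F96471 : act 3 n61887 = n29324 := d7_1 D61887 (iv6 D29324) D29322
def n61888 : Q := act 6 n29323
theorem D61888 : act 6 n29323 = n61888 := rfl
theorem F96472 : act 4 n61888 = n49226 := d10_1 D61888 (iv6 D49226) (iv4 F46975)
def n61889 : Q := act 0 n29324
theorem D61889 : act 0 n29324 = n61889 := rfl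
def n61890 : Q := act 1 n29324
theorem D61890 : act 1 n29324 = n61890 := rfl
theorem F96473 : act 6 n60477 = n61890 := d21_3 D28773 D60592 F95209 (iv1 D61890) (iv6 D29324) D29323 F46976 (iv5 D24093) (iv6 F37719) F45212
theorem F96474 : act 2 n61890 = n60531 := d3_1 F96473 (iv6 D60531) F95053
theorem F96475 : act 4 n61890 = n49291 := d10_1 F96473 (iv6 F77903) (iv4 F95052)
def n61891 : Q := act 5 n29324
theorem D61891 : act 5 n29324 = n61891 := rfl
def n61892 : Q := act 7 n29324
theorem D61892 : act 7 n29324 = n61892 := rfl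
theorem F96476 : act 4 n61892 = n29328 := d11_1 D61892 (iv7 D29328) (iv4 F46978)
theorem F96477 : act 1 n60531 = n61892 := d15_1 (iv0 F95151) (iv7 D61892) (iv2 F77796)
def n61893 : Q := act 4 n29325
theorem D61893 : act 4 n29325 = n61893 := rfl
theorem F96478 : act 7 n61893 = n60525 := d11_2 (iv7 F77803) D61893 F95144
theorem F96479 : act 0 n49197 = n61893 := d20_7 (iv4 F46515) (iv1 F46538) (iv4 D14684) (iv3 F24341) F48081 F48080 (iv4 F77693) (iv4 D61893) F77801 (iv1 F23327)
def n61894 : Q := act 6 n29325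
theorem D61894 : act 6 n29325 = n61894 := rfl
theorem F96480 : act 2 n61894 = n60522 := d3_1 D61894 F95139 (iv2 F77800)
theorem F96481 : act 3 n61894 = n29388 := d7_1 D61894 F47075 (iv3 F77801)
theorem F96482 : act 5 n61894 = n31445 := d12_1 D61894 (iv6 F53887) F53886 (iv6 F76922) (iv5 F77802)
theorem F96483 : act 7 n61894 = n29383 := d14_2 (iv7 F77803) D61894 (iv6 D29383) F23277 D28744
theorem F96484 : act 0 n60520 = n61894 := d21_4 F37614 (iv1 F46439) D60692 F95282 (iv6 D61894) F77802 (iv1 F80758) (iv5 F95280) (iv6 D60688) (iv1 F46438)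
theorem F96485 : act 1 n60521 = n61894 := d15_1 D60521 F96483 F47066
def n61895 : Q := act 4 n29326
theorem D61895 : act 4 n29326 = n61895 := rfl
theorem F96486 : act 2 n61895 = n60525 := d1_1 D61895 F95144 (iv2 F46980)
theorem F96487 : act 6 n61895 = n60476 := d10_2 F46979 D61895 (iv4 D60476)
theorem F96488 : act 0 n61895 = n49197 := d21_4 D28786 D60634 F95238 (iv6 F96487) (iv6 D49197) (iv5 F47013) (iv1 D29357) (iv5 D13964) F10757 D13727
def n61896 : Q := act 0 n29327
theorem D61896 : act 0 n29327 = n61896 := rfl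
theorem F96489 : act 5 n61896 = n60607 := d21_2 D29327 D61896 (iv6 D60607) (iv1 D28776) (iv6 D13723) (iv5 F22870) (iv1 F39756) F46328 F46979 (iv1 D29326)
theorem F96490 : act 0 n61896 = n53936 := d21_7 (iv5 F77782) (iv1 F92897) F92893 (iv6 F95075) (iv1 F95076) D60607 (iv5 F96489) F85069 F77808 (iv1 F77781)
def n61897 : Q := act 1 n29327
theorem D61897 : act 1 n29327 = n61897 := rfl
theorem F96491 : act 1 n61897 = n53936 := d15_1 D61897 F85070 F77805
def n61898 : Q := act 4 n29327
theorem D61898 : act 4 n29327 = n61898 := rfl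
theorem F96492 : act 2 n61898 = n61255 := d1_1 D61898 F95731 F77805
theorem F96493 : act 6 n61898 = n29329 := d10_2 (iv6 F46983) D61898 (iv4 D29329)
def n61899 : Q := act 7 n29327
theorem D61899 : act 7 n29327 = n61899 := rfl
theorem F96494 : act 2 n61899 = n53936 := d4_1 D61899 F85070 F77805
theorem F96495 : act 5 n61899 = n29328 := d13_1 D61899 (iv7 D29328) D29327
theorem F96496 : act 6 n61899 = n49655 := d14_1 D61899 F78428 (iv6 F41251) F37939 (iv6 F46983)
def n61900 : Q := act 3 n29329
theorem D61900 : act 3 n29329 = n61900 := rfl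
theorem F96497 : act 7 n61900 = n61256 := d8_2 (iv7 F46986) D61900 (iv3 D61256)
def n61901 : Q := act 3 n29330
theorem D61901 : act 3 n29330 = n61901 := rfl
theorem F96498 : act 4 n61901 = n29332 := d5_2 D29330 D61901 (iv3 D29332) (iv4 D13956) D13955
theorem F96499 : act 7 n61901 = n29845 := d8_2 (iv7 F46989) D61901 (iv3 D29845)
def n61902 : Q := act 5 n29330
theorem D61902 : act 5 n29330 = n61902 := rfl
theorem F96500 : act 2 n61902 = n29843 := d2_1 D61902 (iv5 D29843) (iv2 F46992)
theorem F96501 : act 7 n61902 = n29846 := d13_2 (iv7 F46989) D61902 (iv5 D29846)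
theorem F96502 : act 4 n61902 = n51298 := d16_2 D29330 D61902 (iv5 D51298) (iv4 D24944) (iv5 F19241) (iv4 F37743) F38923 (iv7 F38925) (iv2 F38903)
theorem F96503 : act 0 n61902 = n61349 := d17_2 (iv1 F46991) D61902 (iv5 D61349) (iv4 D29041) F23082 F38347 F38342 (iv0 D14154) D14155
def n61903 : Q := act 6 n29330
theorem D61903 : act 6 n29330 = n61903 := rfl
theorem F96504 : act 2 n61903 = n29844 := d3_1 D61903 (iv6 D29844) (iv2 F46992)
theorem F96505 : act 4 n61903 = n29331 := d10_1 D61903 (iv6 D29331) D29330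
def n61904 : Q := act 0 n29331
theorem D61904 : act 0 n29331 = n61904 := rfl
def n61905 : Q := act 1 n29331
theorem D61905 : act 1 n29331 = n61905 := rfl
def n61906 : Q := act 7 n29331
theorem D61906 : act 7 n29331 = n61906 := rfl
theorem F96506 : act 3 n61906 = n29337 := d8_1 D61906 (iv7 D29337) (iv3 F46994)
def n61907 : Q := act 0 n29332
theorem D61907 : act 0 n29332 = n61907 := rfl
def n61908 : Q := act 1 n29332
theorem D61908 : act 1 n29332 = n61908 := rfl
def n61909 : Q := act 2 n29332
theorem D61909 : act 2 n29332 = n61909 := rfl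
def n61910 : Q := act 5 n29332
theorem D61910 : act 5 n29332 = n61910 := rfl
theorem F96507 : act 3 n61910 = n29333 := d6_1 D61910 (iv5 D29333) D29332
def n61911 : Q := act 6 n29332
theorem D61911 : act 6 n29332 = n61911 := rfl
theorem F96508 : act 3 n61911 = n29334 := d7_1 D61911 (iv6 D29334) D29332
def n61912 : Q := act 0 n29333
theorem D61912 : act 0 n29333 = n61912 := rfl
theorem F96509 : act 5 n61912 = n49186 := d17_1 D61912 F77680 D49240 F77775 F37687 (iv0 F37632) (iv5 F77727) F77725 (iv4 F46995)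
theorem F96510 : act 4 n61912 = n29616 := d18_1 D61912 F47563 (iv4 F77854) (iv5 D49269) F37603 F18467 (iv4 F37706) F37708 D29333
theorem E8796 : n60569 = n49541 := ((c21_4 D29333 D61912 F96509 (iv6 F78296) (iv1 D60569) (iv6 D28764) D28763 (iv1 F78028) (iv5 D49355) F37719 (iv1 F23239))).symm
theorem F96511 : act 0 n49541 = n28764 := (sb E8796 (iv1 D60569))
theorem F96512 : act 1 n29340 = n61912 := d15_0 (iv0 D61912) (iv7 F77834) F77832
theorem F96513 : act 2 n61857 = n61912 := d1_3 F96510 F77703 (iv4 F96428)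
theorem F96514 : act 7 n61854 = n61912 := d11_0 F96510 (iv7 F47692) (iv4 F96423)
def n61913 : Q := act 1 n29333
theorem D61913 : act 1 n29333 = n61913 := rfl
theorem F96515 : act 1 n61913 = n29340 := d15_1 D61913 (iv7 F77817) F77816
theorem F96516 : act 7 n61913 = n61857 := d15_2 (iv0 D61912) D61913 F96513
theorem F96517 : act 5 n61913 = n29603 := d17_7 F22983 F22982 F20013 F20011 D13956 D29333 D61913 F47530 (iv4 D24031)
theorem F96518 : act 4 n61913 = n49194 := d17_9 F77691 (iv5 D24062) F18427 D11773 D24841 F38885 F37708 D29333 D61913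
theorem F96519 : act 2 n61854 = n61913 := d1_3 F96518 F77689 (iv4 F96423)
def n61914 : Q := act 6 n29333
theorem D61914 : act 6 n29333 = n61914 := rfl
theorem F96520 : act 4 n61914 = n49221 := d10_1 D61914 (iv6 D49221) (iv4 F46995)
def n61915 : Q := act 0 n29334
theorem D61915 : act 0 n29334 = n61915 := rfl
def n61916 : Q := act 1 n29334
theorem D61916 : act 1 n29334 = n61916 := rfl
def n61917 : Q := act 5 n29334
theorem D61917 : act 5 n29334 = n61917 := rfl
def n61918 : Q := act 7 n29334
theorem D61918 : act 7 n29334 = n61918 := rfl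
theorem F96521 : act 4 n61918 = n29337 := d11_1 D61918 (iv7 D29337) (iv4 F46996)
def n61919 : Q := act 2 n29335
theorem D61919 : act 2 n29335 = n61919 := rfl
theorem F96522 : act 6 n61919 = n60625 := d3_2 (iv6 F78436) D61919 F95232
theorem F96523 : act 7 n29336 = n61919 := d15_2 (iv0 D29335) D29336 (iv2 D61919)
def n61920 : Q := act 3 n29335
theorem D61920 : act 3 n29335 = n61920 := rfl
theorem F96524 : act 6 n61920 = n60626 := d7_2 (iv6 F78436) D61920 (iv3 D60626)
def n61921 : Q := act 4 n29335
theorem D61921 : act 4 n29335 = n61921 := rfl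
theorem F96525 : act 6 n61921 = n60627 := d10_2 (iv6 F78436) D61921 (iv4 D60627)
def n61922 : Q := act 5 n29335
theorem D61922 : act 5 n29335 = n61922 := rfl
theorem F96526 : act 6 n61922 = n58880 := d12_2 (iv6 F78436) D61922 (iv5 D58880) F78435 F78434
def n61923 : Q := act 7 n29335
theorem D61923 : act 7 n29335 = n61923 := rfl
theorem F96527 : act 2 n61923 = n29336 := d4_1 D61923 F96523 (iv2 D61919)
def n61924 : Q := act 3 n29336
theorem D61924 : act 3 n29336 = n61924 := rfl
def n61925 : Q := act 4 n29336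
theorem D61925 : act 4 n29336 = n61925 := rfl
def n61926 : Q := act 5 n29336
theorem D61926 : act 5 n29336 = n61926 := rfl
theorem F96528 : act 6 n61926 = n31713 := d21_3 F78392 (iv1 F77825) D61926 (iv1 F50018) (iv6 D24897) F19184 (iv1 F9841) D13320 D27932 (iv1 F78395)
def n61927 : Q := act 6 n29336
theorem D61927 : act 6 n29336 = n61927 := rfl
theorem F96529 : act 7 n61927 = n60624 := d14_2 (iv7 F96523) D61927 (iv6 D60624) D60625 (iv6 F96522)
theorem F96530 : act 5 n61927 = n60574 := d21_6 (iv5 D52437) (iv1 F76598) F76594 (iv6 F77823) (iv1 F77825) D61927 (iv1 F95190) F80792 (iv6 F80794) (iv1 F82778)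
theorem F96531 : act 0 n61927 = n59635 := d21_1 (iv5 F96530) (iv5 D59635) (iv6 F92828) (iv1 D58746) (iv6 D27933) (iv5 F22147) (iv1 F24429) D13719 (iv6 F46404) D60574
def n61928 : Q := act 0 n29338
theorem D61928 : act 0 n29338 = n61928 := rfl
def n61929 : Q := act 1 n29338
theorem D61929 : act 1 n29338 = n61929 := rfl
def n61930 : Q := act 7 n29338
theorem D61930 : act 7 n29338 = n61930 := rfl
theorem F96532 : act 3 n61930 = n29344 := d8_1 D61930 (iv7 D29344) (iv3 F46997)
def n61931 : Q := act 0 n29339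
theorem D61931 : act 0 n29339 = n61931 := rfl
def n61932 : Q := act 1 n29339
theorem D61932 : act 1 n29339 = n61932 := rfl
def n61933 : Q := act 2 n29339
theorem D61933 : act 2 n29339 = n61933 := rfl
def n61934 : Q := act 5 n29339
theorem D61934 : act 5 n29339 = n61934 := rfl
theorem F96533 : act 3 n61934 = n29340 := d6_1 D61934 (iv5 D29340) D29339
def n61935 : Q := act 6 n29339
theorem D61935 : act 6 n29339 = n61935 := rfl
theorem F96534 : act 3 n61935 = n29341 := d7_1 D61935 (iv6 D29341) D29339
def n61936 : Q := act 6 n29340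
theorem D61936 : act 6 n29340 = n61936 := rfl
theorem F96535 : act 4 n61936 = n49216 := d10_1 D61936 (iv6 D49216) (iv4 F46998)
def n61937 : Q := act 0 n29341
theorem D61937 : act 0 n29341 = n61937 := rfl
def n61938 : Q := act 1 n29341
theorem D61938 : act 1 n29341 = n61938 := rfl
def n61939 : Q := act 5 n29341
theorem D61939 : act 5 n29341 = n61939 := rfl
def n61940 : Q := act 7 n29341
theorem D61940 : act 7 n29341 = n61940 := rfl
theorem F96536 : act 4 n61940 = n29344 := d11_1 D61940 (iv7 D29344) (iv4 F46999)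
def n61941 : Q := act 2 n29342
theorem D61941 : act 2 n29342 = n61941 := rfl
theorem F96537 : act 5 n61941 = n58903 := d2_2 F77844 D61941 (iv2 D58903)
theorem F96538 : act 7 n29343 = n61941 := d15_2 (iv0 D29342) D29343 (iv2 D61941)
def n61942 : Q := act 3 n29342
theorem D61942 : act 3 n29342 = n61942 := rfl
theorem F96539 : act 5 n61942 = n58904 := d6_2 F77844 D61942 (iv3 D58904)
def n61943 : Q := act 4 n29342
theorem D61943 : act 4 n29342 = n61943 := rfl
def n61944 : Q := act 6 n29342
theorem D61944 : act 6 n29342 = n61944 := rfl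
theorem F96540 : act 0 n61944 = n60688 := d21_10 F95280 (iv1 D51190) (iv5 F46982) (iv6 F46979) (iv1 D28721) (iv6 F45272) (iv5 D28004) D28002 F77844 D61944
def n61945 : Q := act 7 n29342
theorem D61945 : act 7 n29342 = n61945 := rfl
theorem F96541 : act 2 n61945 = n29343 := d4_1 D61945 F96538 (iv2 D61941)
theorem F96542 : act 5 n61945 = n58907 := d13_1 D61945 (iv7 D58907) F77844
theorem F96543 : act 6 n60599 = n61945 := d3_0 F96541 (iv6 F78377) D60599
theorem F96544 : act 7 n61944 = n60607 := d14_4 F95220 F96543 (iv7 D61945) D61944 (iv6 D60607)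
def n61946 : Q := act 3 n29343
theorem D61946 : act 3 n29343 = n61946 := rfl
theorem F96545 : act 5 n61946 = n58908 := d6_2 (iv5 F78376) D61946 (iv3 D58908)
theorem F96546 : act 6 n61946 = n60600 := d7_2 F78377 D61946 (iv3 D60600)
def n61947 : Q := act 4 n29343
theorem D61947 : act 4 n29343 = n61947 := rfl
theorem F96547 : act 6 n61947 = n60601 := d10_2 F78377 D61947 (iv4 D60601)
def n61948 : Q := act 0 n29345
theorem D61948 : act 0 n29345 = n61948 := rfl
def n61949 : Q := act 1 n29345
theorem D61949 : act 1 n29345 = n61949 := rfl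
def n61950 : Q := act 2 n29345
theorem D61950 : act 2 n29345 = n61950 := rfl
def n61951 : Q := act 5 n29345
theorem D61951 : act 5 n29345 = n61951 := rfl
theorem F96548 : act 3 n61951 = n29346 := d6_1 D61951 (iv5 D29346) D29345
def n61952 : Q := act 6 n29345
theorem D61952 : act 6 n29345 = n61952 := rfl
theorem F96549 : act 3 n61952 = n29347 := d7_1 D61952 (iv6 D29347) D29345
def n61953 : Q := act 0 n29346
theorem D61953 : act 0 n29346 = n61953 := rfl
theorem F96550 : act 5 n61953 = n49238 := d17_1 D61953 F77770 (iv5 F77863) F77864 (iv5 D24059) F37641 (iv5 F77702) F77700 (iv4 F47000)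
theorem F96551 : act 4 n61953 = n49215 := d18_1 D61953 (iv1 D49215) (iv4 F46998) (iv5 D29340) (iv4 D13959) F18372 (iv4 F37609) F37612 D29346
theorem F96552 : act 0 n51211 = n60559 := d21_4 D29346 D61953 F96550 (iv6 F80795) (iv6 D60559) (iv5 F46428) (iv1 D28797) (iv5 D13730) (iv6 F10757) D13961
theorem F96553 : act 2 n61852 = n61953 := d15_3 (iv0 D61953) (iv0 F95331) (iv7 F96420)
theorem F96554 : act 1 n29349 = n61953 := d15_0 (iv0 D61953) (iv7 F77855) F77853
theorem F96555 : act 7 n61953 = n61846 := d15_2 F95332 F96554 F96403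
def n61954 : Q := act 6 n29346
theorem D61954 : act 6 n29346 = n61954 := rfl
theorem F96556 : act 4 n61954 = n49211 := d10_1 D61954 (iv6 D49211) (iv4 F47000)
def n61955 : Q := act 0 n29347
theorem D61955 : act 0 n29347 = n61955 := rfl
def n61956 : Q := act 1 n29347
theorem D61956 : act 1 n29347 = n61956 := rfl
def n61957 : Q := act 5 n29347
theorem D61957 : act 5 n29347 = n61957 := rfl
def n61958 : Q := act 7 n29347
theorem D61958 : act 7 n29347 = n61958 := rfl
theorem F96557 : act 4 n61958 = n49338 := d11_1 D61958 (iv7 D49338) (iv4 F47001)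
def n61959 : Q := act 0 n29348
theorem D61959 : act 0 n29348 = n61959 := rfl
def n61960 : Q := act 1 n29348
theorem D61960 : act 1 n29348 = n61960 := rfl
def n61961 : Q := act 2 n29348
theorem D61961 : act 2 n29348 = n61961 := rfl
def n61962 : Q := act 5 n29348
theorem D61962 : act 5 n29348 = n61962 := rfl
theorem F96558 : act 3 n61962 = n29349 := d6_1 D61962 (iv5 D29349) D29348
def n61963 : Q := act 6 n29348
theorem D61963 : act 6 n29348 = n61963 := rfl
theorem F96559 : act 3 n61963 = n29350 := d7_1 D61963 (iv6 D29350) D29348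
def n61964 : Q := act 6 n29349
theorem D61964 : act 6 n29349 = n61964 := rfl
theorem F96560 : act 4 n61964 = n49208 := d10_1 D61964 (iv6 D49208) (iv4 F47002)
def n61965 : Q := act 0 n29350
theorem D61965 : act 0 n29350 = n61965 := rfl
def n61966 : Q := act 1 n29350
theorem D61966 : act 1 n29350 = n61966 := rfl
def n61967 : Q := act 5 n29350
theorem D61967 : act 5 n29350 = n61967 := rfl
def n61968 : Q := act 7 n29350
theorem D61968 : act 7 n29350 = n61968 := rfl
theorem F96561 : act 4 n61968 = n49341 := d11_1 D61968 (iv7 D49341) (iv4 F47003)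
def n61969 : Q := act 0 n29351
theorem D61969 : act 0 n29351 = n61969 := rfl
theorem F96562 : act 2 n29355 = n61969 := d15_3 (iv0 D61969) (iv0 D29351) D29355
theorem F96563 : act 4 n61969 = n29501 := d1_2 (iv4 F47008) F96562 (iv2 F47315)
theorem F96564 : act 7 n61969 = n29353 := d4_2 D29355 F96562 (iv2 D29353)
theorem F96565 : act 1 n29352 = n61969 := d15_1 D29352 F96564 (iv2 D29353)
def n61970 : Q := act 2 n29351
theorem D61970 : act 2 n29351 = n61970 := rfl
theorem F96566 : act 7 n29352 = n61970 := d15_2 (iv0 D29351) D29352 (iv2 D61970)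
def n61971 : Q := act 3 n29351
theorem D61971 : act 3 n29351 = n61971 := rfl
def n61972 : Q := act 4 n29351
theorem D61972 : act 4 n29351 = n61972 := rfl
theorem F96567 : act 0 n60925 = n61972 := d20_10 (iv4 D61972) D61969 F96563 F47316 (iv1 F46594) D28965 D61148 (iv1 F95656) (iv4 D60926) D60925
def n61973 : Q := act 5 n29351
theorem D61973 : act 5 n29351 = n61973 := rfl
def n61974 : Q := act 6 n29351
theorem D61974 : act 6 n29351 = n61974 := rfl
def n61975 : Q := act 7 n29351
theorem D61975 : act 7 n29351 = n61975 := rfl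
theorem F96568 : act 2 n61975 = n29352 := d4_1 D61975 F96566 (iv2 D61970)
def n61976 : Q := act 3 n29352
theorem D61976 : act 3 n29352 = n61976 := rfl
def n61977 : Q := act 4 n29352
theorem D61977 : act 4 n29352 = n61977 := rfl
theorem F96569 : act 3 n61977 = n29896 := d20_9 (iv4 F48002) F95640 (iv4 D61125) (iv3 D28960) D28958 (iv3 F47316) (iv4 F96563) (iv1 F96565) D61977 (iv1 D29896)
def n61978 : Q := act 5 n29352
theorem D61978 : act 5 n29352 = n61978 := rfl
def n61979 : Q := act 6 n29352
theorem D61979 : act 6 n29352 = n61979 := rfl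
def n61980 : Q := act 0 n29353
theorem D61980 : act 0 n29353 = n61980 := rfl
theorem F96570 : act 1 n29355 = n61980 := d15_0 (iv0 D61980) (iv7 F96564) (iv2 F96562)
theorem F96571 : act 4 n29886 = n61980 := d20_6 F10619 (iv1 D3045) D3046 D6754 D14196 D29886 (iv1 F96570) F47008 F23392 (iv1 F10830)
def n61981 : Q := act 1 n29353
theorem D61981 : act 1 n29353 = n61981 := rfl
theorem F96572 : act 1 n61981 = n29355 := d15_1 D61981 (iv7 D29355) D29353
def n61982 : Q := act 5 n29353
theorem D61982 : act 5 n29353 = n61982 := rfl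
theorem F96573 : act 2 n61982 = n29354 := d2_1 D61982 (iv5 D29354) D29353
def n61983 : Q := act 0 n29354
theorem D61983 : act 0 n29354 = n61983 := rfl
def n61984 : Q := act 1 n29354
theorem D61984 : act 1 n29354 = n61984 := rfl
def n61985 : Q := act 4 n29354
theorem D61985 : act 4 n29354 = n61985 := rfl
def n61986 : Q := act 6 n29354
theorem D61986 : act 6 n29354 = n61986 := rfl
theorem F96574 : act 3 n61986 = n29358 := d7_1 D61986 (iv6 D29358) (iv3 F47006)
theorem F96575 : act 5 n61986 = n60668 := d12_1 D61986 (iv6 D60668) (iv5 D28794) (iv6 F23243) D29354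
def n61987 : Q := act 6 n29355
theorem D61987 : act 6 n29355 = n61987 := rfl
theorem F96576 : act 3 n61987 = n29359 := d7_1 D61987 (iv6 D29359) (iv3 F47007)
theorem F96577 : act 4 n61987 = n29519 := d10_1 D61987 (iv6 D29519) (iv4 F47008)
theorem F96578 : act 7 n61987 = n60670 := d14_2 D29355 D61987 (iv6 D60670) (iv7 D28795) (iv6 F23243)
def n61988 : Q := act 3 n29356
theorem D61988 : act 3 n29356 = n61988 := rfl
theorem F96579 : act 5 n61988 = n49187 := d6_2 (iv5 F47009) D61988 (iv3 D49187)
def n61989 : Q := act 6 n29356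
theorem D61989 : act 6 n29356 = n61989 := rfl
theorem F96580 : act 4 n61989 = n49202 := d10_1 D61989 (iv6 D49202) (iv4 F47010)
def n61990 : Q := act 3 n29357
theorem D61990 : act 3 n29357 = n61990 := rfl
theorem F96581 : act 5 n61990 = n49196 := d6_2 (iv5 F47013) D61990 (iv3 D49196)
def n61991 : Q := act 6 n29357
theorem D61991 : act 6 n29357 = n61991 := rfl
theorem F96582 : act 4 n61991 = n49195 := d10_1 D61991 (iv6 D49195) (iv4 F47014)
def n61992 : Q := act 0 n29358
theorem D61992 : act 0 n29358 = n61992 := rfl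
def n61993 : Q := act 1 n29358
theorem D61993 : act 1 n29358 = n61993 := rfl
def n61994 : Q := act 7 n29358
theorem D61994 : act 7 n29358 = n61994 := rfl
theorem F96583 : act 5 n61994 = n60679 := d13_1 D61994 (iv7 D60679) (iv5 F47015)
def n61995 : Q := act 0 n29359
theorem D61995 : act 0 n29359 = n61995 := rfl
theorem F96584 : act 1 n60503 = n61995 := d15_0 (iv0 D61995) F47017 (iv2 F95109)
def n61996 : Q := act 1 n29359
theorem D61996 : act 1 n29359 = n61996 := rfl
theorem F96585 : act 1 n61996 = n60503 := d15_1 D61996 F95111 F77875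
def n61997 : Q := act 5 n29359
theorem D61997 : act 5 n29359 = n61997 := rfl
theorem F96586 : act 7 n61997 = n60683 := d13_2 (iv7 F47017) D61997 (iv5 D60683)
def n61998 : Q := act 2 n29360
theorem D61998 : act 2 n29360 = n61998 := rfl
theorem F96587 : act 7 n29361 = n61998 := d15_2 (iv0 D29360) D29361 (iv2 D61998)
def n61999 : Q := act 3 n29360
theorem D61999 : act 3 n29360 = n61999 := rfl
def n62000 : Q := act 4 n29360
theorem D62000 : act 4 n29360 = n62000 := rfl
def n62001 : Q := act 5 n29360
theorem D62001 : act 5 n29360 = n62001 := rfl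
theorem F96588 : act 0 n61875 = n62001 := d21_10 (iv5 D62001) (iv1 F47018) F46359 (iv6 D28732) (iv1 F22866) D13726 (iv5 F45153) D58768 F92889 D61875
def n62002 : Q := act 7 n29360
theorem D62002 : act 7 n29360 = n62002 := rfl
theorem F96589 : act 2 n62002 = n29361 := d4_1 D62002 F96587 (iv2 D61998)
def n62003 : Q := act 3 n29361
theorem D62003 : act 3 n29361 = n62003 := rfl
def n62004 : Q := act 4 n29361
theorem D62004 : act 4 n29361 = n62004 := rfl
def n62005 : Q := act 5 n29361
theorem D62005 : act 5 n29361 = n62005 := rfl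
theorem F96590 : act 0 n62005 = n61875 := d21_1 D62005 F96446 (iv6 D60549) (iv1 D28751) (iv6 D13711) (iv5 D6525) (iv1 F10598) (iv5 F22864) D28732 (iv1 F47019)
theorem F96591 : act 6 n62005 = n61848 := d21_3 F46359 (iv1 F47019) D62005 (iv1 F96414) (iv6 D60573) F80788 (iv1 F45812) D51208 (iv6 F80786) (iv1 F47018)
def n62006 : Q := act 6 n29361
theorem D62006 : act 6 n29361 = n62006 := rfl
theorem F96592 : act 5 n62006 = n48848 := d21_6 (iv5 D6525) (iv1 F10598) (iv5 F22864) D28732 (iv1 F47019) D62006 (iv1 D48848) (iv5 F46378) (iv6 D28744) (iv1 D13709)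
def n62007 : Q := act 6 n29362
theorem D62007 : act 6 n29362 = n62007 := rfl
theorem F96593 : act 2 n62007 = n58742 := d3_1 D62007 (iv6 D58742) (iv2 F47020)
theorem F96594 : act 5 n62007 = n62007 := d12_1 D62007 (iv6 D62007) (iv5 D29362) F23249 D29362
theorem F96595 : act 7 n62007 = n59442 := d14_2 (iv7 F47021) D62007 (iv6 D59442) F45695 F38869
def n62008 : Q := act 3 n29363
theorem D62008 : act 3 n29363 = n62008 := rfl
theorem F96596 : act 7 n62008 = n48771 := d8_2 (iv7 F47025) D62008 (iv3 D48771)
def n62009 : Q := act 5 n29363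
theorem D62009 : act 5 n29363 = n62009 := rfl
theorem F96597 : act 2 n62009 = n60818 := d2_1 D62009 (iv5 D60818) (iv2 F47024)
theorem F96598 : act 7 n62009 = n48772 := d13_2 (iv7 F47025) D62009 (iv5 D48772)
theorem F96599 : act 4 n62009 = n58741 := d16_2 D29363 D62009 (iv5 D58741) (iv4 D27929) (iv5 D13318) F9840 D11145 (iv7 F23005) (iv2 F23253)
def n62010 : Q := act 6 n29363
theorem D62010 : act 6 n29363 = n62010 := rfl
theorem F96600 : act 2 n62010 = n60819 := d3_1 D62010 (iv6 D60819) (iv2 F47024)
theorem F96601 : act 4 n62010 = n29364 := d10_1 D62010 (iv6 D29364) D29363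
theorem F96602 : act 7 n62010 = n59366 := d14_2 (iv7 F47025) D62010 (iv6 D59366) (iv7 D28193) (iv6 F37062)
def n62011 : Q := act 3 n29365
theorem D62011 : act 3 n29365 = n62011 := rfl
theorem F96603 : act 4 n62011 = n59340 := d5_2 D29365 D62011 (iv3 D59340) (iv4 D28185) (iv3 F23259)
theorem F96604 : act 7 n62011 = n60820 := d8_2 (iv7 F47030) D62011 (iv3 D60820)
def n62012 : Q := act 5 n29365
theorem D62012 : act 5 n29365 = n62012 := rfl
theorem F96605 : act 2 n62012 = n29377 := d2_1 D62012 (iv5 D29377) (iv2 F47029)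
theorem F96606 : act 4 n62012 = n30226 := d9_1 D62012 (iv5 D30226) (iv4 D14347) (iv5 D6854) F10319 D6547 D13755 D28860 (iv4 F48612) (iv5 D30220) (iv4 D14345) (iv5 D6852) F10770 D13969 D29365
theorem F96607 : act 7 n62012 = n60821 := d13_2 (iv7 F47030) D62012 (iv5 D60821)
theorem F96608 : act 0 n62012 = n30259 := d17_2 (iv1 F47032) D62012 F48636 (iv4 F46560) F40699 (iv0 F20243) D14335 F47974 F47971
theorem F96609 : act 1 n62012 = n30210 := d17_6 F19433 (iv5 D11141) (iv1 F19481) D13969 D29365 D62012 (iv5 D30210) F23953 (iv4 D13776)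
def n62013 : Q := act 6 n29365
theorem D62013 : act 6 n29365 = n62013 := rfl
theorem F96610 : act 2 n62013 = n29378 := d3_1 D62013 (iv6 D29378) (iv2 F47029)
theorem F96611 : act 4 n62013 = n29366 := d10_1 D62013 (iv6 D29366) D29365
def n62014 : Q := act 7 n29366
theorem D62014 : act 7 n29366 = n62014 := rfl
theorem F96612 : act 2 n62014 = n29381 := d4_1 D62014 (iv7 D29381) (iv2 F47033)
theorem F96613 : act 3 n62014 = n59343 := d8_1 D62014 (iv7 D59343) (iv3 F47034)
theorem F96614 : act 5 n62014 = n59014 := d13_1 D62014 (iv7 D59014) (iv5 F47035)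
theorem F96615 : act 6 n62014 = n60703 := d14_1 D62014 F95296 (iv6 D28851) (iv7 F23260) D29366
theorem F96616 : act 1 n29381 = n51964 := d15_0 (iv0 F82064) D62014 F96612
theorem F96617 : act 1 n29380 = n62014 := d15_1 D29380 (iv7 D62014) F47033
theorem F96618 : act 0 n29379 = n62014 := d21_1 (iv5 F81979) F96614 (iv6 F93423) (iv1 F93425) D59233 (iv5 F93846) (iv1 F93851) F49690 (iv6 F39697) (iv1 F81978)
def n62015 : Q := act 4 n29367
theorem D62015 : act 4 n29367 = n62015 := rfl
theorem F96619 : act 2 n62015 = n30216 := d1_1 D62015 (iv4 D30216) F47039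
theorem F96620 : act 6 n62015 = n30368 := d10_2 F47040 D62015 (iv4 D30368)
theorem F96621 : act 7 n62015 = n30214 := d11_2 (iv7 F47037) D62015 (iv4 D30214)
theorem F96622 : act 0 n62015 = n49897 := d18_2 (iv1 F47036) D62015 (iv4 D49897) (iv5 D24332) (iv4 F20230) (iv0 D12229) F8919 D6829 D14304
def n62016 : Q := act 0 n29368
theorem D62016 : act 0 n29368 = n62016 := rfl
theorem F96623 : act 4 n62016 = n50936 := d18_3 (iv1 D29367) D29368 D62016 (iv5 D50936) (iv4 D24767) (iv0 D11724) (iv4 F18508) D24138 (iv5 F47038)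
theorem F96624 : act 1 n30136 = n62016 := d15_0 (iv0 D62016) F47042 (iv2 F48442)
theorem F96625 : act 2 n30217 = n62016 := d1_3 F96623 F80346 (iv4 F48609)
theorem F96626 : act 7 n30218 = n62016 := d11_0 F96623 F80348 (iv4 F78915)
def n62017 : Q := act 1 n29368
theorem D62017 : act 1 n29368 = n62017 := rfl
theorem F96627 : act 1 n62017 = n30136 := d15_1 D62017 F48443 (iv2 F47041)
theorem F96628 : act 7 n62017 = n30217 := d15_2 (iv0 D62016) D62017 F96625
theorem F96629 : act 4 n62017 = n31407 := d18_7 (iv1 D13317) F9840 F19455 D6642 D13970 D29368 D62017 F49674 (iv5 D27926)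
theorem F96630 : act 2 n30218 = n62017 := d1_3 F96629 F78914 (iv4 F78915)
def n62018 : Q := act 3 n29368
theorem D62018 : act 3 n29368 = n62018 := rfl
theorem F96631 : act 4 n62018 = n52110 := d5_2 D29368 D62018 (iv3 D52110) (iv4 D25300) (iv3 F23268)
theorem F96632 : act 7 n62018 = n30225 := d8_2 (iv7 F47042) D62018 (iv3 D30225)
def n62019 : Q := act 5 n29368
theorem D62019 : act 5 n29368 = n62019 := rfl
theorem F96633 : act 2 n62019 = n30220 := d2_1 D62019 (iv5 D30220) (iv2 F47041)
theorem F96634 : act 7 n62019 = n30226 := d13_2 (iv7 F47042) D62019 (iv5 D30226)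
theorem F96635 : act 4 n62019 = n60821 := d16_2 D29368 D62019 (iv5 D60821) (iv4 D28850) (iv5 D13751) F11082 D14304 F23892 (iv2 F23267)
theorem F96636 : act 1 n62019 = n58741 := d17_6 F20322 (iv5 D6830) F10768 D13970 D29368 D62019 (iv5 D58741) F45111 (iv4 D25813)
def n62020 : Q := act 3 n29369
theorem D62020 : act 3 n29369 = n62020 := rfl
theorem F96637 : act 4 n62020 = n61426 := d5_2 D29369 D62020 (iv3 D61426) F46968 F46969
theorem F96638 : act 7 n62020 = n60823 := d8_2 (iv7 F47044) D62020 (iv3 D60823)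
def n62021 : Q := act 5 n29369
theorem D62021 : act 5 n29369 = n62021 := rfl
theorem F96639 : act 2 n62021 = n60827 := d2_1 D62021 (iv5 D60827) (iv2 F47043)
theorem F96640 : act 7 n62021 = n60824 := d13_2 (iv7 F47044) D62021 (iv5 D60824)
def n62022 : Q := act 6 n29369
theorem D62022 : act 6 n29369 = n62022 := rfl
theorem F96641 : act 2 n62022 = n60828 := d3_1 D62022 (iv6 D60828) (iv2 F47043)
theorem F96642 : act 4 n62022 = n29370 := d10_1 D62022 (iv6 D29370) D29369
def n62023 : Q := act 0 n29370
theorem D62023 : act 0 n29370 = n62023 := rfl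
def n62024 : Q := act 1 n29370
theorem D62024 : act 1 n29370 = n62024 := rfl
theorem F96643 : act 1 n62024 = n60831 := d15_1 D62024 (iv7 D60831) (iv2 F47045)
def n62025 : Q := act 7 n29370
theorem D62025 : act 7 n29370 = n62025 := rfl
theorem F96644 : act 2 n62025 = n60831 := d4_1 D62025 (iv7 D60831) (iv2 F47045)
theorem F96645 : act 6 n62025 = n29414 := d14_1 D62025 F93681 (iv6 D28854) F23899 D29370
theorem F96646 : act 1 n60831 = n62023 := d15_0 (iv0 D62023) D62025 F96644
theorem F96647 : act 1 n60830 = n62025 := d15_1 D60830 (iv7 D62025) F47045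
theorem F96648 : act 1 n62025 = n60829 := d15_0 (iv0 D60829) D60831 (iv2 F96644)
def n62026 : Q := act 4 n29371
theorem D62026 : act 4 n29371 = n62026 := rfl
theorem F96649 : act 2 n62026 = n29951 := d1_1 D62026 F48155 (iv2 F47046)
theorem F96650 : act 7 n62026 = n29950 := d11_2 (iv7 F47048) D62026 F48152
theorem F96651 : act 0 n62026 = n29920 := d18_2 F47049 D62026 (iv4 D29920) (iv5 D14208) (iv4 F19445) (iv0 D5370) (iv4 F8191) D11512 D24415
theorem F96652 : act 1 n62026 = n29921 := d18_6 F19993 F19300 (iv1 F24180) (iv4 F38761) (iv5 F47047) D62026 (iv4 D29921) F23727 F23076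
def n62027 : Q := act 6 n29371
theorem D62027 : act 6 n29371 = n62027 := rfl
theorem F96653 : act 2 n62027 = n60506 := d3_1 D62027 (iv6 D60506) (iv2 F47046)
theorem F96654 : act 3 n62027 = n29373 := d7_1 D62027 (iv6 D29373) D29371
theorem F96655 : act 5 n62027 = n60451 := d12_1 D62027 (iv6 D60451) F46299 F38764 (iv5 F47047)
theorem F96656 : act 0 n62027 = n51083 := d21_4 (iv5 F45192) (iv1 F45193) (iv5 F47047) D62027 (iv6 D51083) (iv5 D24852) (iv1 D11782) D11783 F19146 (iv1 F38987)
def n62028 : Q := act 3 n29372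
theorem D62028 : act 3 n29372 = n62028 := rfl
theorem F96657 : act 7 n62028 = n60826 := d8_2 (iv7 F47052) D62028 (iv3 D60826)
def n62029 : Q := act 5 n29372
theorem D62029 : act 5 n29372 = n62029 := rfl
theorem F96658 : act 2 n62029 = n60824 := d2_1 D62029 (iv5 D60824) (iv2 F47051)
theorem F96659 : act 7 n62029 = n60827 := d13_2 (iv7 F47052) D62029 (iv5 D60827)
def n62030 : Q := act 6 n29372
theorem D62030 : act 6 n29372 = n62030 := rfl
theorem F96660 : act 2 n62030 = n60825 := d3_1 D62030 (iv6 D60825) (iv2 F47051)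
theorem F96661 : act 4 n62030 = n29373 := d10_1 D62030 (iv6 D29373) D29372
def n62031 : Q := act 3 n29374
theorem D62031 : act 3 n29374 = n62031 := rfl
theorem F96662 : act 7 n62031 = n60832 := d8_2 F47496 D62031 (iv3 D60832)
def n62032 : Q := act 6 n29374
theorem D62032 : act 6 n29374 = n62032 := rfl
theorem F96663 : act 2 n62032 = n60837 := d3_1 D62032 (iv6 D60837) (iv2 F47495)
def n62033 : Q := act 3 n29375
theorem D62033 : act 3 n29375 = n62033 := rfl
theorem F96664 : act 7 n62033 = n60835 := d8_2 (iv7 F47497) D62033 (iv3 D60835)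
def n62034 : Q := act 6 n29375
theorem D62034 : act 6 n29375 = n62034 := rfl
theorem F96665 : act 2 n62034 = n60834 := d3_1 D62034 (iv6 D60834) F47498
theorem F96666 : act 4 n62034 = n53253 := d10_1 D62034 F84101 F47566
theorem F96667 : act 0 n62034 = n29413 := d20_7 D29427 (iv1 F47158) F46729 (iv3 F46726) (iv1 F46727) (iv3 F84100) (iv4 F96666) F47131 F23313 D13995
def n62035 : Q := act 0 n29376
theorem D62035 : act 0 n29376 = n62035 := rfl
theorem F96668 : act 1 n60840 = n62035 := d15_0 (iv0 D62035) F47058 D60840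
def n62036 : Q := act 1 n29376
theorem D62036 : act 1 n29376 = n62036 := rfl
theorem F96669 : act 4 n61447 = n62036 := d20_6 (iv4 D13817) (iv1 F10630) D6586 D13847 D29086 D61447 (iv1 D62036) F47057 (iv3 D13979) (iv1 F23080)
def n62037 : Q := act 2 n29376
theorem D62037 : act 2 n29376 = n62037 := rfl
theorem F96670 : act 4 n62037 = n29392 := d1_2 (iv4 F47057) D62037 (iv2 D29392)
theorem F96671 : act 7 n62037 = n60840 := d4_2 (iv7 F47058) D62037 (iv2 D60840)
theorem F96672 : act 1 n62037 = n60838 := d15_0 (iv0 D60838) (iv7 F47058) D62037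
theorem F96673 : act 1 n62036 = n60840 := d15_1 D62036 (iv7 F96671) (iv2 D62037)
theorem F96674 : act 1 n60839 = n62037 := d15_1 D60839 F96671 (iv2 D60840)
def n62038 : Q := act 5 n29376
theorem D62038 : act 5 n29376 = n62038 := rfl
theorem F96675 : act 3 n62038 = n29377 := d6_1 D62038 (iv5 D29377) D29376
theorem F96676 : act 7 n62038 = n60841 := d13_2 (iv7 F47058) D62038 (iv5 D60841)
def n62039 : Q := act 6 n29376
theorem D62039 : act 6 n29376 = n62039 := rfl
theorem F96677 : act 3 n62039 = n29378 := d7_1 D62039 (iv6 D29378) D29376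
theorem F96678 : act 4 n62039 = n29394 := d10_1 D62039 (iv6 D29394) (iv4 F47057)
def n62040 : Q := act 0 n29377
theorem D62040 : act 0 n29377 = n62040 := rfl
theorem F96679 : act 5 n62040 = n29434 := d17_3 (iv1 D29375) D29377 D62040 F47178 F23955 (iv0 F20231) D25761 F47568 F47566
theorem F96680 : act 2 n30259 = n62040 := d15_3 (iv0 D62040) (iv0 F83832) F83830
theorem F96681 : act 1 n60821 = n62040 := d15_0 (iv0 D62040) F47059 (iv2 F95386)
theorem F96682 : act 7 n62040 = n30210 := d15_2 (iv0 F95387) F96681 (iv2 F83829)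
theorem F96683 : act 4 n62040 = n30143 := d1_2 D30259 F96680 F48462
def n62041 : Q := act 4 n29377
theorem D62041 : act 4 n29377 = n62041 := rfl
theorem F96684 : act 2 n62041 = n30226 := d1_1 D62041 (iv4 F96606) F96605
theorem F96685 : act 5 n62041 = n30136 := d9_2 D29377 D62041 (iv4 D30136) (iv5 D14304) (iv4 F11082) D13751 D28850 D60821 (iv4 F96635) (iv5 D62019) (iv4 D29368) (iv5 D13970) (iv4 D6642) D6643 D13973
theorem F96686 : act 7 n62041 = n30220 := d11_2 (iv7 F47059) D62041 F48612
theorem F96687 : act 0 n62041 = n58741 := d18_2 F83832 D62041 (iv4 F96599) (iv5 D62009) (iv4 D29363) F23256 D14000 (iv0 F40696) D53110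
def n62042 : Q := act 6 n29377
theorem D62042 : act 6 n29377 = n62042 := rfl
def n62043 : Q := act 0 n29378
theorem D62043 : act 0 n29378 = n62043 := rfl
def n62044 : Q := act 1 n29378
theorem D62044 : act 1 n29378 = n62044 := rfl
def n62045 : Q := act 5 n29378
theorem D62045 : act 5 n29378 = n62045 := rfl
def n62046 : Q := act 7 n29378
theorem D62046 : act 7 n29378 = n62046 := rfl
theorem F96688 : act 4 n62046 = n29381 := d11_1 D62046 (iv7 D29381) (iv4 F47060)
theorem F96689 : act 6 n62046 = n60846 := d14_1 D62046 (iv7 D60846) (iv6 D28861) (iv7 F23272) D29378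
def n62047 : Q := act 2 n29379
theorem D62047 : act 2 n29379 = n62047 := rfl
theorem F96690 : act 6 n62047 = n60721 := d3_2 (iv6 F80289) D62047 (iv2 D60721)
theorem F96691 : act 7 n29380 = n62047 := d15_2 (iv0 D29379) D29380 (iv2 D62047)
def n62048 : Q := act 3 n29379
theorem D62048 : act 3 n29379 = n62048 := rfl
theorem F96692 : act 6 n62048 = n60722 := d7_2 (iv6 F80289) D62048 (iv3 D60722)
def n62049 : Q := act 4 n29379
theorem D62049 : act 4 n29379 = n62049 := rfl
theorem F96693 : act 6 n62049 = n60723 := d10_2 (iv6 F80289) D62049 (iv4 D60723)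
def n62050 : Q := act 7 n29379
theorem D62050 : act 7 n29379 = n62050 := rfl
theorem F96694 : act 2 n62050 = n29380 := d4_1 D62050 F96691 (iv2 D62047)
def n62051 : Q := act 3 n29380
theorem D62051 : act 3 n29380 = n62051 := rfl
def n62052 : Q := act 4 n29380
theorem D62052 : act 4 n29380 = n62052 := rfl
def n62053 : Q := act 6 n29380
theorem D62053 : act 6 n29380 = n62053 := rfl
theorem F96695 : act 5 n62053 = n60727 := d12_1 D62053 (iv6 D60727) (iv5 F80286) (iv6 F81976) F81977
theorem F96696 : act 7 n62053 = n60727 := d14_2 (iv7 F96691) D62053 (iv6 D60727) F95327 (iv6 F96690)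
def n62054 : Q := act 3 n29382
theorem D62054 : act 3 n29382 = n62054 := rfl
theorem F96697 : act 4 n62054 = n29384 := d5_2 D29382 D62054 (iv3 D29384) (iv4 D13976) D13975
theorem F96698 : act 7 n62054 = n60523 := d8_2 (iv7 F47065) D62054 (iv3 D60523)
def n62055 : Q := act 6 n29382
theorem D62055 : act 6 n29382 = n62055 := rfl
theorem F96699 : act 2 n62055 = n60519 := d3_1 D62055 (iv6 D60519) (iv2 F47064)
theorem F96700 : act 4 n62055 = n29383 := d10_1 D62055 (iv6 D29383) D29382
def n62056 : Q := act 0 n29383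
theorem D62056 : act 0 n29383 = n62056 := rfl
theorem F96701 : act 5 n62056 = n51209 := d21_2 (iv5 F47068) D62056 (iv6 D51209) (iv1 D24910) (iv6 D11823) (iv5 F18307) (iv1 F19038) F19036 D24202 F38202
theorem F96702 : act 6 n62056 = n62001 := d21_5 (iv5 F22168) F22169 (iv5 F23276) D29383 D62056 (iv5 D62001) (iv1 F47018) F46359 (iv6 D28732) (iv1 F22866)
theorem F96703 : act 0 n51209 = n61922 := d21_1 F96701 (iv5 D61922) F78436 (iv1 D28783) (iv6 D13726) (iv5 F22168) F22169 (iv5 F23276) D29383 D62056
theorem F96704 : act 1 n60522 = n62056 := d15_0 (iv0 D62056) (iv7 F96483) F96480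
def n62057 : Q := act 1 n29383
theorem D62057 : act 1 n29383 = n62057 := rfl
theorem F96705 : act 1 n62057 = n60522 := d15_1 D62057 (iv7 D60522) (iv2 F47066)
def n62058 : Q := act 0 n29384
theorem D62058 : act 0 n29384 = n62058 := rfl
theorem F96706 : act 1 n60749 = n62058 := d15_0 (iv0 D62058) F47069 D60749
def n62059 : Q := act 1 n29384
theorem D62059 : act 1 n29384 = n62059 := rfl
def n62060 : Q := act 2 n29384
theorem D62060 : act 2 n29384 = n62060 := rfl
theorem F96707 : act 3 n62060 = n60735 := d0_2 D29384 D62060 (iv2 D60735) (iv3 D28819) (iv2 F23280)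
theorem F96708 : act 7 n62060 = n60749 := d4_2 (iv7 F47069) D62060 (iv2 D60749)
theorem F96709 : act 1 n62060 = n60747 := d15_0 (iv0 D60747) (iv7 F47069) D62060
theorem F96710 : act 1 n62059 = n60749 := d15_1 D62059 (iv7 F96708) (iv2 D62060)
theorem F96711 : act 1 n60748 = n62060 := d15_1 D60748 F96708 (iv2 D60749)
def n62061 : Q := act 6 n29384
theorem D62061 : act 6 n29384 = n62061 := rfl
theorem F96712 : act 3 n62061 = n29385 := d7_1 D62061 (iv6 D29385) D29384
def n62062 : Q := act 0 n29385
theorem D62062 : act 0 n29385 = n62062 := rfl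
def n62063 : Q := act 1 n29385
theorem D62063 : act 1 n29385 = n62063 := rfl
theorem F96713 : act 1 n62063 = n60742 := d15_1 D62063 (iv7 D60742) (iv2 F47070)
theorem F96714 : act 4 n62063 = n29550 := d18_7 (iv1 F26164) (iv4 F40873) F40874 F38205 (iv5 F23285) (iv4 F47071) D62063 F47403 F46683
theorem F96715 : act 2 n60740 = n62063 := d1_3 F96714 (iv2 F49077) (iv4 F95338)
theorem F96716 : act 6 n60740 = n62063 := d10_0 F96714 (iv6 F49049) (iv4 F95338)
theorem F96717 : act 7 n61345 = n62063 := d11_0 F96714 F49075 D61345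
theorem F96718 : act 2 n61345 = n62062 := d15_3 (iv0 D62062) D62063 (iv7 F96717)
theorem F96719 : act 4 n62062 = n29549 := d1_2 D61345 F96718 (iv2 F49055)
theorem F96720 : act 7 n62062 = n60740 := d4_2 (iv7 F96717) F96718 F96715
theorem E8797 : n61345 = n60739 := (c15_4 (iv0 D60739) D60740 (iv7 F96720) (iv2 F96718))
theorem F96721 : act 2 n60739 = n62062 := (sb E8797 F96718)
theorem F96722 : act 4 n60739 = n29037 := (sb E8797 (iv4 D61345))
theorem F96723 : act 7 n60739 = n62063 := (sb E8797 F96717)
theorem F96724 : act 1 n53574 = n60973 := d18_6 (iv1 D28823) (iv4 F46459) D60739 F96722 F46682 (iv4 F84517) (iv4 D60973) (iv0 F49824) F49823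
theorem F96725 : act 1 n60742 = n62062 := d15_1 F96713 F96720 F96715
theorem F96726 : act 1 n31036 = n53815 := d18_6 (iv1 D29387) (iv4 F47071) D62062 F96719 F47401 (iv4 F49443) F94147 (iv0 F78693) F78691
def n62064 : Q := act 7 n29385
theorem D62064 : act 7 n29385 = n62064 := rfl
theorem F96727 : act 2 n62064 = n60742 := d4_1 D62064 (iv7 D60742) (iv2 F47070)
theorem F96728 : act 4 n62064 = n29388 := d11_1 D62064 (iv7 D29388) (iv4 F47071)
theorem F96729 : act 6 n62064 = n29427 := d14_1 D62064 F47157 (iv6 D28827) (iv7 F23281) D29385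
theorem F96730 : act 1 n60740 = n62064 := d15_1 D60740 (iv7 D62064) F47070
theorem F96731 : act 1 n62064 = n60739 := d15_1 F96730 F96723 (iv2 F96715)
def n62065 : Q := act 3 n29386
theorem D62065 : act 3 n29386 = n62065 := rfl
theorem F96732 : act 7 n62065 = n60745 := d8_2 F76934 D62065 (iv3 D60745)
def n62066 : Q := act 3 n29387
theorem D62066 : act 3 n29387 = n62066 := rfl
theorem F96733 : act 6 n62066 = n60745 := d7_2 F49826 D62066 (iv3 D60745)
theorem F96734 : act 7 n62066 = n60743 := d8_2 (iv7 F76963) D62066 (iv3 D60743)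
def n62067 : Q := act 0 n29389
theorem D62067 : act 0 n29389 = n62067 := rfl
theorem F96735 : act 1 n60735 = n62067 := d15_0 (iv0 D62067) F47079 D60735
def n62068 : Q := act 1 n29389
theorem D62068 : act 1 n29389 = n62068 := rfl
def n62069 : Q := act 2 n29389
theorem D62069 : act 2 n29389 = n62069 := rfl
theorem F96736 : act 3 n62069 = n60749 := d0_2 D29389 D62069 (iv2 D60749) (iv3 D28825) (iv2 F23286)
theorem F96737 : act 7 n62069 = n60735 := d4_2 (iv7 F47079) D62069 (iv2 D60735)
theorem F96738 : act 1 n62069 = n60733 := d15_0 (iv0 D60733) (iv7 F47079) D62069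
theorem F96739 : act 1 n62068 = n60735 := d15_1 D62068 (iv7 F96737) (iv2 D62069)
theorem F96740 : act 1 n60734 = n62069 := d15_1 D60734 F96737 (iv2 D60735)
def n62070 : Q := act 2 n29390
theorem D62070 : act 2 n29390 = n62070 := rfl
theorem F96741 : act 7 n29391 = n62070 := d15_2 (iv0 D29390) D29391 (iv2 D62070)
def n62071 : Q := act 3 n29390
theorem D62071 : act 3 n29390 = n62071 := rfl
def n62072 : Q := act 4 n29390
theorem D62072 : act 4 n29390 = n62072 := rfl
def n62073 : Q := act 5 n29390
theorem D62073 : act 5 n29390 = n62073 := rfl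
def n62074 : Q := act 6 n29390
theorem D62074 : act 6 n29390 = n62074 := rfl
def n62075 : Q := act 7 n29390
theorem D62075 : act 7 n29390 = n62075 := rfl
theorem F96742 : act 2 n62075 = n29391 := d4_1 D62075 F96741 (iv2 D62070)
def n62076 : Q := act 3 n29391
theorem D62076 : act 3 n29391 = n62076 := rfl
def n62077 : Q := act 4 n29391
theorem D62077 : act 4 n29391 = n62077 := rfl
def n62078 : Q := act 5 n29391
theorem D62078 : act 5 n29391 = n62078 := rfl
def n62079 : Q := act 6 n29391
theorem D62079 : act 6 n29391 = n62079 := rfl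
def n62080 : Q := act 5 n29392
theorem D62080 : act 5 n29392 = n62080 := rfl
theorem F96743 : act 2 n62080 = n29393 := d2_1 D62080 (iv5 D29393) D29392
theorem F96744 : act 3 n62080 = n60780 := d6_1 D62080 (iv5 D60780) (iv3 F47081)
theorem F96745 : act 7 n62080 = n60864 := d13_2 (iv7 F47082) D62080 (iv5 D60864)
theorem F96746 : act 1 n60867 = n62080 := d15_1 D60867 F96745 F95413
theorem F96747 : act 1 n62080 = n60866 := d15_0 (iv0 D60866) (iv7 F47087) (iv2 F96743)
def n62081 : Q := act 6 n29392
theorem D62081 : act 6 n29392 = n62081 := rfl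
theorem F96748 : act 2 n62081 = n29394 := d3_1 D62081 (iv6 D29394) D29392
theorem F96749 : act 3 n62081 = n60781 := d7_1 D62081 (iv6 D60781) (iv3 F47081)
def n62082 : Q := act 0 n29393
theorem D62082 : act 0 n29393 = n62082 := rfl
def n62083 : Q := act 1 n29393
theorem D62083 : act 1 n29393 = n62083 := rfl
theorem F96751 : act 1 n62083 = n60864 := d15_1 D62083 (iv7 F96745) F96743
def n62084 : Q := act 4 n29393
theorem D62084 : act 4 n29393 = n62084 := rfl
theorem F96752 : act 3 n62084 = n29749 := d5_1 D62084 (iv4 D29749) (iv3 D14138) (iv4 F23293) (iv3 F47086)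
theorem F96753 : act 7 n62084 = n60868 := d11_2 (iv7 F47087) D62084 (iv4 D60868)
def n62085 : Q := act 6 n29393
theorem D62085 : act 6 n29393 = n62085 := rfl
theorem F96754 : act 3 n62085 = n29395 := d7_1 D62085 (iv6 D29395) (iv3 F47086)
def n62086 : Q := act 0 n29394
theorem D62086 : act 0 n29394 = n62086 := rfl
def n62087 : Q := act 1 n29394
theorem D62087 : act 1 n29394 = n62087 := rfl
def n62088 : Q := act 5 n29394
theorem D62088 : act 5 n29394 = n62088 := rfl
def n62089 : Q := act 7 n29394
theorem D62089 : act 7 n29394 = n62089 := rfl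
theorem F96756 : act 3 n62089 = n29399 := d8_1 D62089 (iv7 D29399) (iv3 F47088)
theorem F96757 : act 6 n62089 = n60873 := d14_1 D62089 (iv7 D60873) (iv6 D28872) (iv7 F23290) D29394
def n62090 : Q := act 0 n29395
theorem D62090 : act 0 n29395 = n62090 := rfl
def n62091 : Q := act 1 n29395
theorem D62091 : act 1 n29395 = n62091 := rfl
theorem F96758 : act 1 n62091 = n60793 := d15_1 D62091 (iv7 D60793) (iv2 F47089)
def n62092 : Q := act 5 n29395
theorem D62092 : act 5 n29395 = n62092 := rfl
theorem F96760 : act 6 n62092 = n29398 := d12_2 D29395 D62092 (iv5 D29398) (iv6 D13981) D13980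
def n62093 : Q := act 7 n29395
theorem D62093 : act 7 n29395 = n62093 := rfl
theorem F96761 : act 2 n62093 = n60793 := d4_1 D62093 (iv7 D60793) (iv2 F47089)
theorem F96762 : act 4 n62093 = n29753 := d11_1 D62093 (iv7 D29753) (iv4 F47090)
theorem F96763 : act 6 n62093 = n60877 := d14_1 D62093 (iv7 D60877) (iv6 D28873) (iv7 F23292) D29395
theorem F96764 : act 1 n60793 = n62090 := d15_0 (iv0 D62090) D62093 F96761
theorem F96765 : act 1 n60791 = n62093 := d15_1 D60791 (iv7 D62093) F47089
theorem F96766 : act 1 n62093 = n60790 := d15_0 (iv0 D60790) D60793 (iv2 F96761)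
def n62094 : Q := act 0 n29398
theorem D62094 : act 0 n29398 = n62094 := rfl
theorem F96767 : act 5 n62094 = n29470 := d17_3 F80101 D29398 D62094 F80112 F23701 (iv0 D11943) (iv5 F10633) D13824 D29054
theorem F96768 : act 2 n60799 = n62094 := d2_3 F96767 (iv2 F80120) (iv5 F95372)
theorem F96769 : act 7 n60800 = n62094 := d13_0 F96767 (iv7 F80119) (iv5 F95373)
def n62095 : Q := act 1 n29398
theorem D62095 : act 1 n29398 = n62095 := rfl
theorem F96773 : act 5 n62095 = n29471 := d17_7 (iv1 F23367) (iv5 F23368) (iv1 D13383) (iv5 F10785) (iv4 F23297) D29398 D62095 F47250 F46568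
def n62096 : Q := act 4 n29398
theorem D62096 : act 4 n29398 = n62096 := rfl
theorem F96775 : act 2 n62096 = n60801 := d1_1 D62096 (iv4 D60801) (iv2 F47092)
def n62098 : Q := act 0 n29400
theorem D62098 : act 0 n29400 = n62098 := rfl
def n62099 : Q := act 1 n29400
theorem D62099 : act 1 n29400 = n62099 := rfl
def n62100 : Q := act 2 n29400
theorem D62100 : act 2 n29400 = n62100 := rfl
theorem F96781 : act 3 n62100 = n60805 := d0_2 D29400 D62100 (iv2 D60805) (iv3 D28843) F45361
theorem F96782 : act 5 n62100 = n50983 := d2_2 (iv5 F47099) D62100 (iv2 D50983)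
theorem F96783 : act 6 n62100 = n60805 := d3_2 (iv6 F47100) D62100 (iv2 D60805)
theorem F96784 : act 7 n62100 = n60811 := d4_2 (iv7 F47101) D62100 (iv2 D60811)
def n62101 : Q := act 4 n29400
theorem D62101 : act 4 n29400 = n62101 := rfl
theorem F96788 : act 6 n62101 = n60806 := d10_2 (iv6 F47100) D62101 (iv4 D60806)
theorem F96789 : act 7 n62101 = n60812 := d11_2 (iv7 F47101) D62101 (iv4 D60812)
def n62102 : Q := act 3 n29401
theorem D62102 : act 3 n29401 = n62102 := rfl
theorem F96790 : act 6 n62102 = n60807 := d7_2 (iv6 F47103) D62102 (iv3 D60807)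
theorem F96791 : act 7 n62102 = n60814 := d8_2 (iv7 F47104) D62102 (iv3 D60814)
def n62105 : Q := act 2 n29402
theorem D62105 : act 2 n29402 = n62105 := rfl
theorem F96793 : act 3 n62105 = n60811 := d0_2 D29402 D62105 (iv2 D60811) (iv3 D28845) (iv2 F45360)
theorem F96794 : act 5 n62105 = n50978 := d2_2 (iv5 F47105) D62105 (iv2 D50978)
theorem F96796 : act 1 n62105 = n60803 := d15_0 (iv0 D60803) (iv7 F47106) D62105
def n62106 : Q := act 4 n29402
theorem D62106 : act 4 n29402 = n62106 := rfl
theorem F96799 : act 7 n62106 = n60806 := d11_2 (iv7 F47106) D62106 (iv4 D60806)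
def n62107 : Q := act 6 n29402
theorem D62107 : act 6 n29402 = n62107 := rfl
theorem F96800 : act 3 n62107 = n29404 := d7_1 D62107 (iv6 D29404) D29402
def n62108 : Q := act 3 n29403
theorem D62108 : act 3 n29403 = n62108 := rfl
theorem F96803 : act 7 n62108 = n60807 := d8_2 (iv7 F47108) D62108 (iv3 D60807)
def n62109 : Q := act 6 n29403
theorem D62109 : act 6 n29403 = n62109 := rfl
theorem F96804 : act 2 n62109 = n60816 := d3_1 D62109 (iv6 D60816) (iv2 F47107)
theorem F96805 : act 4 n62109 = n29404 := d10_1 D62109 (iv6 D29404) D29403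
theorem F96806 : act 7 n62109 = n60816 := d14_2 (iv7 F47108) D62109 (iv6 D60816) (iv7 F47104) F47103
def n62110 : Q := act 3 n29406
theorem D62110 : act 3 n29406 = n62110 := rfl
theorem F96807 : act 4 n62110 = n61310 := d5_2 D29406 D62110 (iv3 D61310) (iv4 F47115) (iv3 D29405)
theorem F96808 : act 7 n62110 = n60693 := d8_2 (iv7 F47121) D62110 (iv3 D60693)
def n62111 : Q := act 5 n29406
theorem D62111 : act 5 n29406 = n62111 := rfl
theorem F96809 : act 2 n62111 = n60701 := d2_1 D62111 (iv5 D60701) (iv2 F47120)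
theorem F96810 : act 7 n62111 = n60694 := d13_2 (iv7 F47121) D62111 (iv5 D60694)
theorem F96811 : act 4 n62111 = n61427 := d16_2 D29406 D62111 (iv5 D61427) F46968 (iv5 F46967) F38166 (iv5 F23311) (iv7 F23868) (iv2 F23869)
theorem F96812 : act 0 n62111 = n59390 := d17_2 (iv1 F48290) D62111 (iv5 D59390) F45634 (iv5 F39137) (iv0 F39328) (iv5 F46709) (iv0 F46711) D30058
theorem F96813 : act 1 n62111 = n59387 := d17_6 (iv1 F22426) (iv5 F19744) F38848 F38847 D29406 D62111 (iv5 D59387) (iv0 D28204) (iv4 D13466)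
def n62112 : Q := act 3 n29407
theorem D62112 : act 3 n29407 = n62112 := rfl
theorem F96814 : act 7 n62112 = n60700 := d8_2 (iv7 F47123) D62112 (iv3 D60700)
def n62113 : Q := act 5 n29407
theorem D62113 : act 5 n29407 = n62113 := rfl
theorem F96815 : act 2 n62113 = n60694 := d2_1 D62113 (iv5 D60694) (iv2 F47122)
theorem F96816 : act 4 n62113 = n61424 := d9_1 D62113 (iv5 D61424) (iv4 F46963) (iv5 F49174) F49173 F38847 D29406 D62111 F96811 (iv5 D61427) F46968 (iv5 F46967) F38166 (iv5 F23311) D29407
theorem F96817 : act 7 n62113 = n60701 := d13_2 (iv7 F47123) D62113 (iv5 D60701)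
theorem F96818 : act 0 n62113 = n59387 := d17_2 (iv1 F48285) D62113 (iv5 D59387) F45628 D30067 F48318 (iv5 F48277) (iv0 D30055) D30056
theorem F96819 : act 1 n62113 = n59390 := d17_6 (iv1 F22421) (iv5 F22422) (iv1 F23856) (iv5 F23311) D29407 D62113 (iv5 D59390) F45632 F45596
def n62114 : Q := act 6 n29407
theorem D62114 : act 6 n29407 = n62114 := rfl
theorem F96820 : act 2 n62114 = n60695 := d3_1 D62114 (iv6 D60695) (iv2 F47122)
theorem F96821 : act 4 n62114 = n29408 := d10_1 D62114 (iv6 D29408) D29407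
def n62115 : Q := act 0 n29408
theorem D62115 : act 0 n29408 = n62115 := rfl
def n62116 : Q := act 1 n29408
theorem D62116 : act 1 n29408 = n62116 := rfl
theorem F96822 : act 1 n62116 = n60698 := d15_1 D62116 (iv7 D60698) (iv2 F47124)
def n62117 : Q := act 7 n29408
theorem D62117 : act 7 n29408 = n62117 := rfl
theorem F96823 : act 2 n62117 = n60698 := d4_1 D62117 (iv7 D60698) (iv2 F47124)
theorem F96824 : act 5 n62117 = n31436 := d13_1 D62117 F49732 (iv5 F47125)
theorem F96825 : act 6 n62117 = n60704 := d14_1 D62117 (iv7 D60704) (iv6 D28808) F23868 D29408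
theorem F96826 : act 1 n60698 = n62115 := d15_0 (iv0 D62115) D62117 F96823
theorem F96827 : act 1 n60697 = n62117 := d15_1 D60697 (iv7 D62117) F47124
theorem F96828 : act 1 n62117 = n60696 := d15_0 (iv0 D60696) D60698 (iv2 F96823)
def n62118 : Q := act 3 n29409
theorem D62118 : act 3 n29409 = n62118 := rfl
theorem F96829 : act 4 n62118 = n60529 := d5_2 F48157 D62118 (iv3 D60529) F47935 (iv3 F48158)
theorem F96830 : act 7 n62118 = n60705 := d8_2 F47372 D62118 (iv3 D60705)
def n62119 : Q := act 6 n29409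
theorem D62119 : act 6 n29409 = n62119 := rfl
theorem F96831 : act 2 n62119 = n60710 := d3_1 D62119 (iv6 D60710) F47370
theorem F96832 : act 0 n62119 = n60822 := d21_4 D28886 D60905 F95449 D62119 (iv6 D60822) D60821 F95387 (iv5 D53110) F40695 F23812
theorem F96833 : act 1 n62119 = n60846 := d15_1 (iv0 F96832) (iv7 D60846) (iv2 F95388)
def n62120 : Q := act 6 n29410
theorem D62120 : act 6 n29410 = n62120 := rfl
theorem F96834 : act 2 n62120 = n60707 := d3_1 D62120 (iv6 D60707) (iv2 F47371)
def n62121 : Q := act 0 n29411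
theorem D62121 : act 0 n29411 = n62121 := rfl
theorem F96835 : act 1 n60713 = n62121 := d15_0 (iv0 D62121) F47129 D60713
def n62122 : Q := act 1 n29411
theorem D62122 : act 1 n29411 = n62122 := rfl
theorem F96836 : act 4 n61354 = n62122 := d20_6 (iv4 D13820) (iv1 D6571) D6572 D13821 D29043 D61354 (iv1 D62122) F47128 (iv3 D13992) (iv1 F23087)
def n62123 : Q := act 2 n29411
theorem D62123 : act 2 n29411 = n62123 := rfl
theorem F96837 : act 4 n62123 = n29420 := d1_2 (iv4 F47128) D62123 (iv2 D29420)
theorem F96838 : act 7 n62123 = n60713 := d4_2 (iv7 F47129) D62123 (iv2 D60713)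
theorem F96839 : act 1 n62123 = n60711 := d15_0 (iv0 D60711) (iv7 F47129) D62123
theorem F96840 : act 1 n62122 = n60713 := d15_1 D62122 (iv7 F96838) (iv2 D62123)
theorem F96841 : act 1 n60712 = n62123 := d15_1 D60712 F96838 (iv2 D60713)
def n62124 : Q := act 5 n29411
theorem D62124 : act 5 n29411 = n62124 := rfl
theorem F96842 : act 3 n62124 = n29412 := d6_1 D62124 (iv5 D29412) D29411
theorem F96843 : act 7 n62124 = n60714 := d13_2 (iv7 F47129) D62124 (iv5 D60714)
def n62125 : Q := act 6 n29411
theorem D62125 : act 6 n29411 = n62125 := rfl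
theorem F96844 : act 3 n62125 = n29413 := d7_1 D62125 (iv6 D29413) D29411
theorem F96845 : act 4 n62125 = n29422 := d10_1 D62125 (iv6 D29422) (iv4 F47128)
def n62126 : Q := act 6 n29412
theorem D62126 : act 6 n29412 = n62126 := rfl
def n62127 : Q := act 0 n29413
theorem D62127 : act 0 n29413 = n62127 := rfl
def n62128 : Q := act 5 n29413
theorem D62128 : act 5 n29413 = n62128 := rfl
def n62129 : Q := act 7 n29413
theorem D62129 : act 7 n29413 = n62129 := rfl
theorem F96846 : act 4 n62129 = n29416 := d11_1 D62129 (iv7 D29416) (iv4 F47131)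
theorem F96847 : act 6 n62129 = n60720 := d14_1 D62129 (iv7 D60720) (iv6 D28813) (iv7 F23312) D29413
theorem F96848 : act 1 n60834 = n62129 := d15_1 (iv0 F95396) (iv7 D62129) (iv2 F93672)
def n62130 : Q := act 3 n29414
theorem D62130 : act 3 n29414 = n62130 := rfl
theorem F96849 : act 7 n62130 = n60555 := d8_2 (iv7 F93681) D62130 F95170
theorem F96850 : act 1 n60557 = n62130 := d15_1 F96455 F96849 (iv2 F96450)
theorem F96851 : act 2 n62130 = n60554 := d15_3 (iv0 D60554) D60555 (iv7 F96849)
theorem F96852 : act 7 n60554 = n61876 := d4_2 (iv7 F96849) F96851 F96450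
theorem F96853 : act 1 n62130 = n59328 := d15_0 (iv0 F96454) (iv7 F96852) (iv2 F96851)
def n62131 : Q := act 4 n29414
theorem D62131 : act 4 n29414 = n62131 := rfl
theorem F96854 : act 7 n62131 = n60825 := d11_2 (iv7 F93681) D62131 F95390
def n62132 : Q := act 0 n29415
theorem D62132 : act 0 n29415 = n62132 := rfl
def n62133 : Q := act 1 n29415
theorem D62133 : act 1 n29415 = n62133 := rfl
def n62134 : Q := act 4 n29415
theorem D62134 : act 4 n29415 = n62134 := rfl
theorem F96855 : act 6 n62134 = n29417 := d10_2 (iv6 F47133) D62134 (iv4 D29417)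
def n62135 : Q := act 3 n29417
theorem D62135 : act 3 n29417 = n62135 := rfl
theorem F96856 : act 4 n62135 = n29431 := d5_2 D29417 D62135 (iv3 D29431) (iv4 D13998) (iv3 F23314)
def n62136 : Q := act 5 n29417
theorem D62136 : act 5 n29417 = n62136 := rfl
theorem F96857 : act 0 n62136 = n49939 := d17_2 F53423 D62136 (iv5 D49939) F39090 F39086 F24024 D29961 (iv0 F48167) D34046
theorem F96858 : act 1 n62136 = n49942 := d17_6 (iv1 F38129) (iv5 F22600) F37102 D13991 D29417 D62136 (iv5 D49942) F78904 F78902
theorem E8798 : n49942 = n49941 := ((c19_20 (iv1 F96858) (iv5 D62136) (iv4 D29417) F23314 F10801 (iv5 D3499) (iv4 D1543) D1542 (iv1 F10281) D2712 F26345 (iv3 F10719) (iv1 F23062) F23058 (iv4 F22266) F23982 (iv1 D14366) D14367 F38170 D49941)).symm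
theorem F96859 : act 0 n49941 = n62136 := (sb E8798 (iv1 F96858))
theorem E8799 : n34074 = n30337 := (((F78980).symm.trans (sb E8798 F78981))).symm
theorem F96860 : act 5 n49941 = n24354 := (sb E8798 (iv5 D49942))
theorem F96861 : act 5 n30337 = n16505 := (sb E8799 (iv5 D34074))
theorem E8800 : n34073 = n30338 := (((iv7 F53486)).symm.trans (sb E8799 F53487))
theorem F96862 : act 3 n30338 = n16505 := (sb E8800 (iv3 D34073))
theorem F96863 : act 7 n30338 = n30337 := (sb E8800 F53486)
def n62137 : Q := act 2 n29418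
theorem D62137 : act 2 n29418 = n62137 := rfl
theorem F96864 : act 7 n29419 = n62137 := d15_2 (iv0 D29418) D29419 (iv2 D62137)
def n62138 : Q := act 3 n29418
theorem D62138 : act 3 n29418 = n62138 := rfl
def n62139 : Q := act 4 n29418
theorem D62139 : act 4 n29418 = n62139 := rfl
def n62140 : Q := act 5 n29418
theorem D62140 : act 5 n29418 = n62140 := rfl
def n62141 : Q := act 6 n29418
theorem D62141 : act 6 n29418 = n62141 := rfl
def n62142 : Q := act 7 n29418
theorem D62142 : act 7 n29418 = n62142 := rfl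
theorem F96865 : act 2 n62142 = n29419 := d4_1 D62142 F96864 (iv2 D62137)
def n62143 : Q := act 3 n29419
theorem D62143 : act 3 n29419 = n62143 := rfl
def n62144 : Q := act 4 n29419
theorem D62144 : act 4 n29419 = n62144 := rfl
def n62145 : Q := act 5 n29419
theorem D62145 : act 5 n29419 = n62145 := rfl
def n62146 : Q := act 6 n29419
theorem D62146 : act 6 n29419 = n62146 := rfl
def n62147 : Q := act 5 n29420
theorem D62147 : act 5 n29420 = n62147 := rfl
theorem F96866 : act 2 n62147 = n29421 := d2_1 D62147 (iv5 D29421) D29420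
theorem F96867 : act 3 n62147 = n60864 := d6_1 D62147 (iv5 D60864) (iv3 F47138)
theorem F96868 : act 7 n62147 = n60780 := d13_2 (iv7 F47139) D62147 (iv5 D60780)
theorem F96869 : act 1 n60783 = n62147 := d15_1 D60783 F96868 F95361
theorem F96870 : act 1 n62147 = n60782 := d15_0 (iv0 D60782) (iv7 F47144) (iv2 F96866)
def n62148 : Q := act 6 n29420
theorem D62148 : act 6 n29420 = n62148 := rfl
theorem F96871 : act 2 n62148 = n29422 := d3_1 D62148 (iv6 D29422) D29420
theorem F96872 : act 3 n62148 = n60865 := d7_1 D62148 (iv6 D60865) (iv3 F47138)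
def n62149 : Q := act 0 n29421
theorem D62149 : act 0 n29421 = n62149 := rfl
theorem F96873 : act 5 n62149 = n29464 := d19_1 D62149 F93725 F93721 D59397 F93723 (iv4 D30065) F23816 (iv1 F23464) (iv5 D14059) F10879 F4710 F4541 (iv5 F3897) (iv4 F5214) F26581 F10862 (iv5 F10948) (iv4 F23317) (iv3 F47143)
theorem F96874 : act 1 n60780 = n62149 := d15_0 (iv0 D62149) F47144 (iv2 F95361)
theorem F96875 : act 2 n60927 = n62149 := d2_3 F96873 F95471 D60927
theorem F96876 : act 7 n60782 = n62149 := d13_0 F96873 (iv7 F95470) (iv5 F95469)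
theorem E8801 : n60927 = n60783 := (c15_4 F96869 F96870 F96876 (iv2 F96875))
theorem F96877 : act 2 n60783 = n62149 := (sb E8801 F96875)
theorem F96878 : act 5 n60783 = n28892 := (sb E8801 (iv5 D60927))
def n62150 : Q := act 1 n29421
theorem D62150 : act 1 n29421 = n62150 := rfl
theorem F96879 : act 1 n62150 = n60780 := d15_1 D62150 (iv7 F96868) F96866
theorem F96880 : act 7 n62150 = n60783 := d15_2 (iv0 D62149) D62150 F96877
theorem F96881 : act 2 n60782 = n62150 := d4_3 F96880 F96877 (iv7 F96876)
theorem F96882 : act 5 n29465 = n62150 := d13_3 F96880 F96878 (iv7 F95473)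
def n62151 : Q := act 4 n29421
theorem D62151 : act 4 n29421 = n62151 := rfl
theorem F96883 : act 3 n62151 = n29741 := d5_1 D62151 (iv4 D29741) (iv3 D14136) (iv4 F23317) (iv3 F47143)
def n62152 : Q := act 6 n29421
theorem D62152 : act 6 n29421 = n62152 := rfl
theorem F96885 : act 3 n62152 = n29423 := d7_1 D62152 (iv6 D29423) (iv3 F47143)
def n62153 : Q := act 0 n29422
theorem D62153 : act 0 n29422 = n62153 := rfl
def n62154 : Q := act 1 n29422
theorem D62154 : act 1 n29422 = n62154 := rfl
def n62155 : Q := act 5 n29422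
theorem D62155 : act 5 n29422 = n62155 := rfl
theorem F96886 : act 3 n62155 = n29424 := d6_1 D62155 (iv5 D29424) (iv3 F47145)
def n62156 : Q := act 7 n29422
theorem D62156 : act 7 n29422 = n62156 := rfl
theorem F96887 : act 3 n62156 = n29425 := d8_1 D62156 (iv7 D29425) (iv3 F47145)
def n62157 : Q := act 0 n29423
theorem D62157 : act 0 n29423 = n62157 := rfl
def n62158 : Q := act 1 n29423
theorem D62158 : act 1 n29423 = n62158 := rfl
theorem F96889 : act 1 n62158 = n60877 := d15_1 D62158 (iv7 D60877) (iv2 F47146)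
def n62159 : Q := act 5 n29423
theorem D62159 : act 5 n29423 = n62159 := rfl
theorem F96890 : act 2 n62159 = n60876 := d2_1 D62159 (iv5 D60876) (iv2 F47146)
def n62160 : Q := act 7 n29423
theorem D62160 : act 7 n29423 = n62160 := rfl
theorem F96892 : act 2 n62160 = n60877 := d4_1 D62160 (iv7 D60877) (iv2 F47146)
theorem F96893 : act 4 n62160 = n29745 := d11_1 D62160 (iv7 D29745) (iv4 F47147)
theorem F96894 : act 6 n62160 = n60793 := d14_1 D62160 (iv7 D60793) (iv6 D28838) (iv7 F23318) D29423
theorem F96895 : act 1 n60877 = n62157 := d15_0 (iv0 D62157) D62160 F96892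
theorem F96896 : act 1 n60875 = n62160 := d15_1 D60875 (iv7 D62160) F47146
theorem F96897 : act 1 n62160 = n60874 := d15_0 (iv0 D60874) D60877 (iv2 F96892)
def n62161 : Q := act 0 n29424
theorem D62161 : act 0 n29424 = n62161 := rfl
theorem F96898 : act 5 n62161 = n60951 := d17_3 F46536 D29424 D62161 F95492 F48216 (iv0 D29095) (iv5 D13850) (iv0 F11271) D14684
theorem F96899 : act 0 n62161 = n60883 := d21_7 D60797 (iv1 F95565) F95563 (iv6 F47203) (iv1 F47205) D60951 (iv5 F96898) F95423 (iv6 F47095) (iv1 F47097)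
def n62162 : Q := act 1 n29424
theorem D62162 : act 1 n29424 = n62162 := rfl
theorem F96901 : act 5 n61025 = n62162 := d21_6 (iv5 F46534) (iv1 F46537) (iv5 D13779) D13780 D28925 D61025 (iv1 D62162) (iv5 D29424) (iv6 D13994) (iv1 F23087)
def n62163 : Q := act 4 n29424
theorem D62163 : act 4 n29424 = n62163 := rfl
theorem F96902 : act 2 n62163 = n60882 := d1_1 D62163 (iv4 D60882) (iv2 F47148)
def n62164 : Q := act 7 n29424
theorem D62164 : act 7 n29424 = n62164 := rfl
theorem F96903 : act 2 n62164 = n60883 := d4_1 D62164 (iv7 D60883) (iv2 F47148)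
theorem F96904 : act 5 n62164 = n29425 := d13_1 D62164 (iv7 D29425) D29424
theorem F96905 : act 1 n60881 = n62164 := d15_1 D60881 (iv7 D62164) F47148
theorem F96906 : act 1 n62164 = n60880 := d15_0 (iv0 D60880) D60883 (iv2 F96903)
def n62165 : Q := act 3 n29427
theorem D62165 : act 3 n29427 = n62165 := rfl
theorem F96907 : act 7 n62165 = n60751 := d8_2 (iv7 F47157) D62165 F95346
def n62166 : Q := act 5 n29427
theorem D62166 : act 5 n29427 = n62166 := rfl
theorem F96908 : act 2 n62166 = n60885 := d2_1 D62166 (iv5 D60885) (iv2 F47156)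
theorem F96909 : act 7 n62166 = n60753 := d13_2 (iv7 F47157) D62166 (iv5 D60753)
def n62167 : Q := act 3 n29428
theorem D62167 : act 3 n29428 = n62167 := rfl
theorem F96911 : act 7 n62167 = n60888 := d8_2 F47225 D62167 (iv3 D60888)
def n62168 : Q := act 4 n29428
theorem D62168 : act 4 n29428 = n62168 := rfl
theorem F96914 : act 0 n62168 = n53501 := d17_0 F84678 (iv1 D53670) (iv5 D25979) F20453 D13510 F23019 (iv5 F41274) F47166 D62168
theorem F96915 : act 1 n62168 = n29639 := d18_6 F48027 D31037 (iv1 F95510) F95508 (iv5 F47165) D62168 (iv4 D29639) D29638 (iv5 F48026)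
def n62169 : Q := act 3 n29429
theorem D62169 : act 3 n29429 = n62169 := rfl
theorem F96916 : act 5 n62169 = n61035 := d6_2 F47168 D62169 F95567
theorem F96917 : act 6 n62169 = n52083 := d7_2 (iv6 F47169) D62169 (iv3 D52083)
theorem F96918 : act 7 n62169 = n60886 := d8_2 (iv7 F47221) D62169 (iv3 D60886)
def n62170 : Q := act 4 n29429
theorem D62170 : act 4 n29429 = n62170 := rfl
theorem F96920 : act 6 n62170 = n50586 := d10_2 (iv6 F47169) D62170 F79944
theorem F96921 : act 7 n62170 = n60887 := d11_2 (iv7 F47221) D62170 (iv4 D60887)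
theorem F96922 : act 0 n62170 = n29639 := d17_0 (iv5 F84672) F84675 F49511 (iv4 F37138) F37139 (iv0 D13995) D13996 D29429 D62170
theorem F96923 : act 1 n62170 = n53501 := d18_6 F48018 D31027 (iv1 F95571) F95569 F47168 D62170 F84412 F47610 (iv5 F48017)
def n62171 : Q := act 3 n29430
theorem D62171 : act 3 n29430 = n62171 := rfl
theorem F96924 : act 6 n62171 = n29431 := d7_2 (iv6 F47171) D62171 (iv3 D29431)
def n62172 : Q := act 0 n29431
theorem D62172 : act 0 n29431 = n62172 := rfl
def n62173 : Q := act 1 n29431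
theorem D62173 : act 1 n29431 = n62173 := rfl
def n62174 : Q := act 2 n29431
theorem D62174 : act 2 n29431 = n62174 := rfl
theorem F96925 : act 3 n62174 = n60895 := d0_2 D29431 D62174 (iv2 D60895) (iv3 D28882) (iv2 F23334)
def n62175 : Q := act 3 n29432
theorem D62175 : act 3 n29432 = n62175 := rfl
theorem F96926 : act 4 n62175 = n59344 := d5_2 D29432 D62175 (iv3 D59344) (iv4 D28187) (iv3 F23337)
theorem F96927 : act 7 n62175 = n60974 := d8_2 (iv7 F47173) D62175 (iv3 D60974)
def n62176 : Q := act 5 n29432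
theorem D62176 : act 5 n29432 = n62176 := rfl
theorem F96928 : act 2 n62176 = n29436 := d2_1 D62176 (iv5 D29436) (iv2 F47172)
theorem F96929 : act 4 n62176 = n30241 := d9_1 D62176 (iv5 D30241) (iv4 D14352) (iv5 F18509) F18508 (iv5 F10615) D13776 D28914 (iv4 F48628) (iv5 D30235) (iv4 D14350) F22283 (iv4 F38746) F38747 D29432
theorem F96930 : act 7 n62176 = n60975 := d13_2 (iv7 F47173) D62176 (iv5 D60975)
theorem F96931 : act 0 n62176 = n60987 := d17_2 (iv1 F47175) D62176 F95537 (iv4 F47566) (iv5 F78203) F78205 F40707 (iv0 D14337) D14339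
theorem F96932 : act 1 n62176 = n60986 := d17_6 D13971 (iv5 F23894) (iv1 F38749) F38747 D29432 D62176 F95533 (iv0 D29374) (iv4 D13973)
def n62177 : Q := act 6 n29432
theorem D62177 : act 6 n29432 = n62177 := rfl
theorem F96933 : act 2 n62177 = n29437 := d3_1 D62177 (iv6 D29437) (iv2 F47172)
theorem F96934 : act 4 n62177 = n29433 := d10_1 D62177 (iv6 D29433) D29432
def n62178 : Q := act 0 n29433
theorem D62178 : act 0 n29433 = n62178 := rfl
theorem F96935 : act 6 n62178 = n29462 := d21_5 (iv5 F23894) (iv1 F38749) F38747 D29433 D62178 F93426 (iv1 D28049) (iv5 F23274) (iv6 D13974) D13971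
theorem F96936 : act 0 n62178 = n29440 := d21_4 F96614 (iv1 F93217) (iv5 F93426) (iv6 F96935) F47187 F46564 (iv1 F80287) (iv5 F80288) (iv6 F80289) F96618
def n62179 : Q := act 1 n29433
theorem D62179 : act 1 n29433 = n62179 := rfl
theorem F96937 : act 1 n62179 = n29440 := d15_1 D62179 (iv7 D29440) (iv2 F47176)
def n62180 : Q := act 7 n29433
theorem D62180 : act 7 n29433 = n62180 := rfl
theorem F96938 : act 2 n62180 = n29440 := d4_1 D62180 (iv7 D29440) (iv2 F47176)
theorem F96939 : act 3 n62180 = n59349 := d8_1 D62180 (iv7 D59349) (iv3 F47177)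
theorem F96940 : act 6 n62180 = n60978 := d14_1 D62180 (iv7 D60978) (iv6 D28911) (iv7 F23338) D29433
theorem F96941 : act 1 n29439 = n62180 := d15_1 D29439 (iv7 D62180) F47176
theorem F96942 : act 0 n29438 = n62180 := d21_4 F47062 (iv1 F93695) F93696 (iv6 F93697) F96940 F95523 (iv1 F80292) D50934 F82065 (iv1 F96616)
def n62181 : Q := act 3 n29434
theorem D62181 : act 3 n29434 = n62181 := rfl
theorem F96943 : act 4 n62181 = n49368 := d5_2 (iv4 F47178) D62181 F78055 F37732 (iv3 F23954)
theorem F96944 : act 7 n62181 = n30209 := d8_2 (iv7 F47181) D62181 (iv3 D30209)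
def n62182 : Q := act 6 n29434
theorem D62182 : act 6 n29434 = n62182 := rfl
theorem F96945 : act 2 n62182 = n60980 := d3_1 D62182 (iv6 D60980) F47179
theorem F96946 : act 4 n62182 = n30211 := d10_1 D62182 (iv6 D30211) (iv4 F47178)
theorem F96947 : act 7 n62182 = n60899 := d14_2 (iv7 F47181) D62182 (iv6 D60899) F46528 (iv6 F23952)
def n62183 : Q := act 0 n29435
theorem D62183 : act 0 n29435 = n62183 := rfl
theorem F96948 : act 1 n60983 = n62183 := d15_0 (iv0 D62183) F47183 D60983
def n62184 : Q := act 1 n29435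
theorem D62184 : act 1 n29435 = n62184 := rfl
theorem F96949 : act 4 n61083 = n62184 := d20_6 F11045 (iv1 F4801) (iv4 F10619) D13787 D28947 D61083 (iv1 D62184) F47182 (iv3 D14002) (iv1 F11047)
def n62185 : Q := act 2 n29435
theorem D62185 : act 2 n29435 = n62185 := rfl
theorem F96950 : act 4 n62185 = n29443 := d1_2 (iv4 F47182) D62185 (iv2 D29443)
theorem F96951 : act 7 n62185 = n60983 := d4_2 (iv7 F47183) D62185 (iv2 D60983)
theorem F96952 : act 1 n62185 = n60981 := d15_0 (iv0 D60981) (iv7 F47183) D62185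
theorem F96953 : act 1 n62184 = n60983 := d15_1 D62184 (iv7 F96951) (iv2 D62185)
theorem F96954 : act 1 n60982 = n62185 := d15_1 D60982 F96951 (iv2 D60983)
def n62186 : Q := act 5 n29435
theorem D62186 : act 5 n29435 = n62186 := rfl
theorem F96955 : act 3 n62186 = n29436 := d6_1 D62186 (iv5 D29436) D29435
theorem F96956 : act 7 n62186 = n60984 := d13_2 (iv7 F47183) D62186 (iv5 D60984)
def n62187 : Q := act 6 n29435
theorem D62187 : act 6 n29435 = n62187 := rfl
theorem F96957 : act 3 n62187 = n29437 := d7_1 D62187 (iv6 D29437) D29435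
theorem F96958 : act 4 n62187 = n29445 := d10_1 D62187 (iv6 D29445) (iv4 F47182)
def n62188 : Q := act 6 n29436
theorem D62188 : act 6 n29436 = n62188 := rfl
def n62189 : Q := act 0 n29437
theorem D62189 : act 0 n29437 = n62189 := rfl
def n62190 : Q := act 1 n29437
theorem D62190 : act 1 n29437 = n62190 := rfl
def n62191 : Q := act 5 n29437
theorem D62191 : act 5 n29437 = n62191 := rfl
def n62192 : Q := act 7 n29437
theorem D62192 : act 7 n29437 = n62192 := rfl
theorem F96959 : act 4 n62192 = n29440 := d11_1 D62192 (iv7 D29440) (iv4 F47185)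
theorem F96960 : act 6 n62192 = n60992 := d14_1 D62192 (iv7 D60992) (iv6 D28915) (iv7 F23341) D29437
def n62193 : Q := act 2 n29438
theorem D62193 : act 2 n29438 = n62193 := rfl
theorem F96961 : act 7 n29439 = n62193 := d15_2 (iv0 D29438) D29439 (iv2 D62193)
def n62194 : Q := act 3 n29438
theorem D62194 : act 3 n29438 = n62194 := rfl
def n62195 : Q := act 4 n29438
theorem D62195 : act 4 n29438 = n62195 := rfl
def n62196 : Q := act 5 n29438
theorem D62196 : act 5 n29438 = n62196 := rfl
theorem F96962 : act 6 n62196 = n58989 := d12_2 (iv6 F93697) D62196 (iv5 D58989) D58990 F93696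
def n62197 : Q := act 7 n29438
theorem D62197 : act 7 n29438 = n62197 := rfl
theorem F96963 : act 2 n62197 = n29439 := d4_1 D62197 F96961 (iv2 D62193)
def n62198 : Q := act 3 n29439
theorem D62198 : act 3 n29439 = n62198 := rfl
def n62199 : Q := act 4 n29439
theorem D62199 : act 4 n29439 = n62199 := rfl
def n62200 : Q := act 5 n29439
theorem D62200 : act 5 n29439 = n62200 := rfl
theorem F96964 : act 6 n49956 = n62200 := d21_5 (iv5 D11154) (iv1 F18107) (iv5 F37086) D48786 (iv1 F79008) (iv5 D62200) (iv1 D29439) (iv5 F24480) (iv6 D14818) (iv1 F37069)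
def n62201 : Q := act 6 n29439
theorem D62201 : act 6 n29439 = n62201 := rfl
def n62202 : Q := act 2 n29441
theorem D62202 : act 2 n29441 = n62202 := rfl
theorem F96965 : act 7 n29442 = n62202 := d15_2 (iv0 D29441) D29442 (iv2 D62202)
def n62203 : Q := act 3 n29441
theorem D62203 : act 3 n29441 = n62203 := rfl
def n62204 : Q := act 4 n29441
theorem D62204 : act 4 n29441 = n62204 := rfl
def n62205 : Q := act 5 n29441
theorem D62205 : act 5 n29441 = n62205 := rfl
def n62206 : Q := act 6 n29441
theorem D62206 : act 6 n29441 = n62206 := rfl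
def n62207 : Q := act 7 n29441
theorem D62207 : act 7 n29441 = n62207 := rfl
theorem F96966 : act 2 n62207 = n29442 := d4_1 D62207 F96965 (iv2 D62202)
def n62208 : Q := act 3 n29442
theorem D62208 : act 3 n29442 = n62208 := rfl
def n62209 : Q := act 4 n29442
theorem D62209 : act 4 n29442 = n62209 := rfl
def n62210 : Q := act 5 n29442
theorem D62210 : act 5 n29442 = n62210 := rfl
def n62211 : Q := act 6 n29442
theorem D62211 : act 6 n29442 = n62211 := rfl
def n62212 : Q := act 5 n29443
theorem D62212 : act 5 n29443 = n62212 := rfl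
theorem F96967 : act 2 n62212 = n29444 := d2_1 D62212 (iv5 D29444) D29443
theorem F96968 : act 3 n62212 = n60929 := d6_1 D62212 (iv5 D60929) (iv3 F47189)
theorem F96969 : act 7 n62212 = n61010 := d13_2 (iv7 F47190) D62212 (iv5 D61010)
theorem F96970 : act 1 n61013 = n62212 := d15_1 D61013 F96969 F95548
theorem F96971 : act 1 n62212 = n61012 := d15_0 (iv0 D61012) (iv7 F47195) (iv2 F96967)
def n62213 : Q := act 6 n29443
theorem D62213 : act 6 n29443 = n62213 := rfl
theorem F96972 : act 2 n62213 = n29445 := d3_1 D62213 (iv6 D29445) D29443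
theorem F96973 : act 3 n62213 = n60930 := d7_1 D62213 (iv6 D60930) (iv3 F47189)
def n62214 : Q := act 0 n29444
theorem D62214 : act 0 n29444 = n62214 := rfl
theorem F96974 : act 1 n61010 = n62214 := d15_0 (iv0 D62214) F47195 (iv2 F95548)
def n62215 : Q := act 1 n29444
theorem D62215 : act 1 n29444 = n62215 := rfl
theorem F96975 : act 1 n62215 = n61010 := d15_1 D62215 (iv7 F96969) F96967
def n62216 : Q := act 4 n29444
theorem D62216 : act 4 n29444 = n62216 := rfl
theorem F96976 : act 3 n62216 = n29720 := d5_1 D62216 (iv4 D29720) F23592 (iv4 F23346) (iv3 F47194)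
theorem F96977 : act 7 n62216 = n61014 := d11_2 (iv7 F47195) D62216 (iv4 D61014)
def n62217 : Q := act 6 n29444
theorem D62217 : act 6 n29444 = n62217 := rfl
theorem F96978 : act 3 n62217 = n29446 := d7_1 D62217 (iv6 D29446) (iv3 F47194)
def n62218 : Q := act 0 n29445
theorem D62218 : act 0 n29445 = n62218 := rfl
def n62219 : Q := act 1 n29445
theorem D62219 : act 1 n29445 = n62219 := rfl
def n62220 : Q := act 5 n29445
theorem D62220 : act 5 n29445 = n62220 := rfl
theorem F96979 : act 3 n62220 = n29449 := d6_1 D62220 (iv5 D29449) (iv3 F47196)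
def n62221 : Q := act 7 n29445
theorem D62221 : act 7 n29445 = n62221 := rfl
theorem F96980 : act 3 n62221 = n29450 := d8_1 D62221 (iv7 D29450) (iv3 F47196)
theorem F96981 : act 6 n62221 = n61019 := d14_1 D62221 (iv7 D61019) (iv6 D28923) (iv7 F23343) D29445
def n62222 : Q := act 0 n29446
theorem D62222 : act 0 n29446 = n62222 := rfl
def n62223 : Q := act 1 n29446
theorem D62223 : act 1 n29446 = n62223 := rfl
theorem F96982 : act 1 n62223 = n60946 := d15_1 D62223 (iv7 D60946) (iv2 F47197)
def n62224 : Q := act 5 n29446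
theorem D62224 : act 5 n29446 = n62224 := rfl
theorem F96983 : act 2 n62224 = n60945 := d2_1 D62224 (iv5 D60945) (iv2 F47197)
theorem F96984 : act 6 n62224 = n29449 := d12_2 D29446 D62224 (iv5 D29449) (iv6 D14004) D14003
def n62225 : Q := act 7 n29446
theorem D62225 : act 7 n29446 = n62225 := rfl
theorem F96985 : act 2 n62225 = n60946 := d4_1 D62225 (iv7 D60946) (iv2 F47197)
theorem F96986 : act 4 n62225 = n29726 := d11_1 D62225 (iv7 D29726) (iv4 F47198)
theorem F96987 : act 6 n62225 = n61023 := d14_1 D62225 (iv7 D61023) (iv6 D28924) (iv7 F23345) D29446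
theorem F96988 : act 1 n60946 = n62222 := d15_0 (iv0 D62222) D62225 F96985
theorem F96989 : act 1 n60944 = n62225 := d15_1 D60944 (iv7 D62225) F47197
theorem F96990 : act 1 n62225 = n60943 := d15_0 (iv0 D60943) D60946 (iv2 F96985)
def n62226 : Q := act 3 n29447
theorem D62226 : act 3 n29447 = n62226 := rfl
theorem F96992 : act 7 n62226 = n60949 := d8_2 (iv7 F49753) D62226 (iv3 D60949)
def n62227 : Q := act 5 n29447
theorem D62227 : act 5 n29447 = n62227 := rfl
theorem F96993 : act 2 n62227 = n60948 := d2_1 D62227 (iv5 D60948) (iv2 F49750)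
theorem F96994 : act 7 n62227 = n60950 := d13_2 (iv7 F49753) D62227 (iv5 D60950)
def n62228 : Q := act 3 n29448
theorem D62228 : act 3 n29448 = n62228 := rfl
theorem F96995 : act 7 n62228 = n60947 := d8_2 (iv7 F49749) D62228 (iv3 D60947)
def n62229 : Q := act 5 n29448
theorem D62229 : act 5 n29448 = n62229 := rfl
def n62230 : Q := act 6 n29448
theorem D62230 : act 6 n29448 = n62230 := rfl
theorem F96998 : act 2 n62230 = n60951 := d3_1 D62230 (iv6 D60951) (iv2 F49747)
theorem F96999 : act 4 n62230 = n29872 := d10_1 D62230 (iv6 D29872) (iv4 F49748)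
theorem F97000 : act 7 n62230 = n61025 := d14_2 (iv7 F49749) D62230 (iv6 D61025) F80122 F80109
theorem F97001 : act 5 n60880 = n62230 := d21_2 D28875 D60880 (iv6 D62230) (iv1 D29448) (iv6 D14004) D14003 (iv1 F46475) (iv5 D28832) (iv6 F41007) F46476
theorem F97002 : act 2 n62161 = n60880 := d2_3 F97001 F96998 (iv5 F96898)
theorem F97003 : act 7 n62162 = n60880 := d13_0 F97001 F97000 F96901
theorem F97004 : act 1 n62230 = n59654 := d17_8 F47226 F47219 (iv1 F46520) F24607 (iv4 F47150) (iv5 F96904) F96906 F97001 (iv4 D59654)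
theorem F97005 : act 2 n62162 = n60881 := d15_3 F96905 F96906 (iv7 F97003)
def n62231 : Q := act 1 n29449
theorem D62231 : act 1 n29449 = n62231 := rfl
theorem F97008 : act 1 n62231 = n60955 := d15_1 D62231 (iv7 D60955) (iv2 F47200)
theorem F97009 : act 7 n62231 = n60952 := d15_2 F95353 D62231 (iv2 F95494)
theorem F97010 : act 5 n62231 = n61343 := d17_7 F47078 F47074 (iv1 D14821) F11314 (iv4 F23348) D29449 D62231 F95845 (iv4 D60744)
theorem F97011 : act 2 n60953 = n62231 := d2_3 F97010 F95841 F95496
def n62232 : Q := act 4 n29449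
theorem D62232 : act 4 n29449 = n62232 := rfl
theorem F97012 : act 2 n62232 = n60954 := d1_1 D62232 (iv4 D60954) (iv2 F47200)
def n62233 : Q := act 7 n29449
theorem D62233 : act 7 n29449 = n62233 := rfl
theorem F97013 : act 2 n62233 = n60955 := d4_1 D62233 (iv7 D60955) (iv2 F47200)
theorem F97014 : act 5 n62233 = n29450 := d13_1 D62233 (iv7 D29450) D29449
theorem F97015 : act 1 n60953 = n62233 := d15_1 D60953 (iv7 D62233) F47200
theorem F97016 : act 1 n62233 = n60952 := d15_1 F97015 (iv7 F97009) (iv2 F97011)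
def n62234 : Q := act 0 n29451
theorem D62234 : act 0 n29451 = n62234 := rfl
def n62235 : Q := act 1 n29451
theorem D62235 : act 1 n29451 = n62235 := rfl
def n62236 : Q := act 2 n29451
theorem D62236 : act 2 n29451 = n62236 := rfl
theorem F97019 : act 6 n62236 = n61041 := d3_2 (iv6 F47207) D62236 (iv2 D61041)
theorem F97020 : act 7 n62236 = n60966 := d4_2 (iv7 F47208) D62236 (iv2 D60966)
def n62237 : Q := act 4 n29451
theorem D62237 : act 4 n29451 = n62237 := rfl
theorem F97024 : act 6 n62237 = n61042 := d10_2 (iv6 F47207) D62237 (iv4 D61042)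
theorem F97025 : act 7 n62237 = n60967 := d11_2 (iv7 F47208) D62237 (iv4 D60967)
def n62238 : Q := act 5 n29451
theorem D62238 : act 5 n29451 = n62238 := rfl
theorem F97026 : act 3 n62238 = n29453 := d6_1 D62238 (iv5 D29453) D29451
theorem F97027 : act 6 n62238 = n59000 := d12_2 (iv6 F47207) D62238 (iv5 D59000) (iv6 F45508) (iv5 F46570)
theorem F97028 : act 7 n62238 = n60968 := d13_2 (iv7 F47208) D62238 (iv5 D60968)
def n62239 : Q := act 3 n29452
theorem D62239 : act 3 n29452 = n62239 := rfl
theorem F97029 : act 6 n62239 = n61043 := d7_2 (iv6 F47210) D62239 (iv3 D61043)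
theorem F97030 : act 7 n62239 = n60970 := d8_2 (iv7 F47211) D62239 (iv3 D60970)
def n62240 : Q := act 5 n29452
theorem D62240 : act 5 n29452 = n62240 := rfl
theorem F97031 : act 2 n62240 = n60962 := d2_1 D62240 (iv5 D60962) (iv2 F47209)
theorem F97032 : act 7 n62240 = n60971 := d13_2 (iv7 F47211) D62240 (iv5 D60971)
def n62241 : Q := act 4 n29453
theorem D62241 : act 4 n29453 = n62241 := rfl
theorem F97033 : act 2 n62241 = n60963 := d1_1 D62241 (iv4 D60963) (iv2 F47212)
theorem F97034 : act 6 n62241 = n59001 := d10_2 (iv6 F47213) D62241 (iv4 D59001)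
theorem F97035 : act 7 n62241 = n60973 := d11_2 (iv7 F47214) D62241 (iv4 D60973)
theorem F97036 : act 1 n62241 = n31036 := d18_6 (iv1 D14247) (iv4 F23381) (iv1 F49208) (iv4 D29452) D29453 D62241 F49443 F48211 F41131
def n62244 : Q := act 2 n29454
theorem D62244 : act 2 n29454 = n62244 := rfl
theorem F97038 : act 3 n62244 = n60966 := d0_2 D29454 D62244 (iv2 D60966) (iv3 D28906) F45472
theorem F97039 : act 7 n62244 = n60958 := d4_2 (iv7 F47215) D62244 (iv2 D60958)
theorem F97042 : act 1 n60957 = n62244 := d15_1 D60957 F97039 (iv2 D60958)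
def n62245 : Q := act 4 n29454
theorem D62245 : act 4 n29454 = n62245 := rfl
theorem F97043 : act 7 n62245 = n60959 := d11_2 (iv7 F47215) D62245 (iv4 D60959)
def n62246 : Q := act 6 n29454
theorem D62246 : act 6 n29454 = n62246 := rfl
theorem F97044 : act 3 n62246 = n29456 := d7_1 D62246 (iv6 D29456) D29454
theorem F97045 : act 5 n62246 = n60886 := d12_1 D62246 F95426 (iv5 D59787) D59788 (iv5 F94137)
theorem F97046 : act 7 n62246 = n61035 := d14_2 (iv7 F47215) D62246 (iv6 D61035) (iv7 F47269) F47268
def n62247 : Q := act 3 n29455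
theorem D62247 : act 3 n29455 = n62247 := rfl
theorem F97047 : act 7 n62247 = n60961 := d8_2 (iv7 F47217) D62247 (iv3 D60961)
def n62248 : Q := act 5 n29455
theorem D62248 : act 5 n29455 = n62248 := rfl
theorem F97048 : act 2 n62248 = n60971 := d2_1 D62248 (iv5 D60971) (iv2 F47216)
theorem F97049 : act 7 n62248 = n60962 := d13_2 (iv7 F47217) D62248 (iv5 D60962)
def n62249 : Q := act 6 n29455
theorem D62249 : act 6 n29455 = n62249 := rfl
theorem F97050 : act 2 n62249 = n60972 := d3_1 D62249 (iv6 D60972) (iv2 F47216)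
theorem F97051 : act 4 n62249 = n29456 := d10_1 D62249 (iv6 D29456) D29455
theorem F97052 : act 7 n62249 = n61038 := d14_2 (iv7 F47217) D62249 (iv6 D61038) (iv7 F47272) F47271
theorem F97053 : act 5 n61461 = n62249 := d21_2 D29091 D61461 (iv6 D62249) F49205 (iv6 D14018) D14017 (iv1 F46465) (iv5 D28826) D28827 F46468
theorem F97054 : act 0 n53575 = n62249 := d18_2 F48242 D53575 F97051 F47219 D60887 F95429 (iv4 D29097) D29096 (iv5 F48240)
theorem F97055 : act 1 n53565 = n62249 := d18_6 (iv1 D13509) (iv4 F20453) (iv1 F47164) (iv4 D25939) D25940 D53565 F97051 (iv0 F47226) (iv5 D28308)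
def n62250 : Q := act 6 n29457
theorem D62250 : act 6 n29457 = n62250 := rfl
theorem F97056 : act 2 n62250 = n60899 := d3_1 D62250 (iv6 D60899) (iv2 F47231)
theorem F97057 : act 4 n62250 = n30064 := d10_1 D62250 (iv6 D30064) F47230
theorem F97058 : act 7 n62250 = n60980 := d14_2 (iv7 F47229) D62250 (iv6 D60980) F46559 F40695
def n62251 : Q := act 0 n29458
theorem D62251 : act 0 n29458 = n62251 := rfl
theorem F97059 : act 1 n60902 = n62251 := d15_0 (iv0 D62251) F47233 D60902
theorem F97060 : act 4 n61145 = n62251 := d20_0 (iv1 F97059) F95445 (iv3 F47189) (iv1 F47193) D61006 (iv4 F95644) (iv1 F95649) (iv4 D28966) D28965 D61145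
def n62252 : Q := act 1 n29458
theorem D62252 : act 1 n29458 = n62252 := rfl
theorem F97061 : act 4 n61046 = n62252 := d20_6 (iv4 D3046) D3044 (iv4 F10618) D13784 D28934 D61046 (iv1 D62252) F47232 (iv3 D14010) F10812
def n62253 : Q := act 2 n29458
theorem D62253 : act 2 n29458 = n62253 := rfl
theorem F97062 : act 4 n62253 = n29466 := d1_2 (iv4 F47232) D62253 (iv2 D29466)
theorem F97063 : act 7 n62253 = n60902 := d4_2 (iv7 F47233) D62253 (iv2 D60902)
theorem F97064 : act 1 n62253 = n60900 := d15_0 (iv0 D60900) (iv7 F47233) D62253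
theorem F97065 : act 1 n62252 = n60902 := d15_1 D62252 (iv7 F97063) (iv2 D62253)
theorem F97066 : act 1 n60901 = n62253 := d15_1 D60901 F97063 (iv2 D60902)
def n62254 : Q := act 5 n29458
theorem D62254 : act 5 n29458 = n62254 := rfl
theorem F97067 : act 3 n62254 = n29459 := d6_1 D62254 (iv5 D29459) D29458
theorem F97068 : act 7 n62254 = n60903 := d13_2 (iv7 F47233) D62254 (iv5 D60903)
def n62255 : Q := act 6 n29458
theorem D62255 : act 6 n29458 = n62255 := rfl
theorem F97069 : act 3 n62255 = n29460 := d7_1 D62255 (iv6 D29460) D29458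
theorem F97070 : act 4 n62255 = n29468 := d10_1 D62255 (iv6 D29468) (iv4 F47232)
def n62256 : Q := act 6 n29459
theorem D62256 : act 6 n29459 = n62256 := rfl
def n62257 : Q := act 0 n29460
theorem D62257 : act 0 n29460 = n62257 := rfl
def n62258 : Q := act 1 n29460
theorem D62258 : act 1 n29460 = n62258 := rfl
def n62259 : Q := act 5 n29460
theorem D62259 : act 5 n29460 = n62259 := rfl
def n62260 : Q := act 7 n29460
theorem D62260 : act 7 n29460 = n62260 := rfl
theorem F97071 : act 4 n62260 = n29463 := d11_1 D62260 (iv7 D29463) (iv4 F47235)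
theorem F97072 : act 6 n62260 = n60910 := d14_1 D62260 (iv7 D60910) (iv6 D28887) (iv7 F23356) D29460
def n62261 : Q := act 2 n29461
theorem D62261 : act 2 n29461 = n62261 := rfl
theorem F97073 : act 5 n62261 = n59022 := d2_2 (iv5 F93704) D62261 (iv2 D59022)
theorem F97074 : act 7 n29462 = n62261 := d15_2 (iv0 D29461) D29462 (iv2 D62261)
def n62262 : Q := act 3 n29461
theorem D62262 : act 3 n29461 = n62262 := rfl
theorem F97075 : act 5 n62262 = n59023 := d6_2 (iv5 F93704) D62262 (iv3 D59023)
def n62263 : Q := act 4 n29461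
theorem D62263 : act 4 n29461 = n62263 := rfl
def n62264 : Q := act 6 n29461
theorem D62264 : act 6 n29461 = n62264 := rfl
def n62265 : Q := act 7 n29461
theorem D62265 : act 7 n29461 = n62265 := rfl
theorem F97076 : act 2 n62265 = n29462 := d4_1 D62265 F97074 (iv2 D62261)
theorem F97077 : act 5 n62265 = n59027 := d13_1 D62265 (iv7 D59027) (iv5 F93704)
def n62266 : Q := act 3 n29462
theorem D62266 : act 3 n29462 = n62266 := rfl
theorem F97078 : act 5 n62266 = n59028 := d6_2 (iv5 F93426) D62266 (iv3 D59028)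
def n62267 : Q := act 4 n29462
theorem D62267 : act 4 n29462 = n62267 := rfl
def n62268 : Q := act 3 n29464
theorem D62268 : act 3 n29464 = n62268 := rfl
theorem F97079 : act 7 n62268 = n60922 := d8_2 F95470 D62268 (iv3 D60922)
def n62269 : Q := act 6 n29464
theorem D62269 : act 6 n29464 = n62269 := rfl
def n62270 : Q := act 3 n29465
theorem D62270 : act 3 n29465 = n62270 := rfl
theorem F97081 : act 7 n62270 = n60925 := d8_2 (iv7 F95473) D62270 (iv3 D60925)
def n62271 : Q := act 4 n29465
theorem D62271 : act 4 n29465 = n62271 := rfl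
theorem F97082 : act 2 n62271 = n60923 := d1_1 D62271 (iv4 D60923) (iv2 F95472)
theorem F97083 : act 7 n62271 = n60926 := d11_2 (iv7 F95473) D62271 (iv4 D60926)
def n62272 : Q := act 6 n29465
theorem D62272 : act 6 n29465 = n62272 := rfl
theorem F97084 : act 2 n62272 = n60924 := d3_1 D62272 (iv6 D60924) (iv2 F95472)
def n62273 : Q := act 5 n29466
theorem D62273 : act 5 n29466 = n62273 := rfl
theorem F97085 : act 2 n62273 = n29467 := d2_1 D62273 (iv5 D29467) D29466
theorem F97086 : act 3 n62273 = n61010 := d6_1 D62273 (iv5 D61010) (iv3 F47240)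
theorem F97087 : act 7 n62273 = n60929 := d13_2 (iv7 F47241) D62273 (iv5 D60929)
theorem F97088 : act 1 n60932 = n62273 := d15_1 D60932 F97087 F95476
theorem F97089 : act 1 n62273 = n60931 := d15_0 (iv0 D60931) (iv7 F47246) (iv2 F97085)
def n62274 : Q := act 6 n29466
theorem D62274 : act 6 n29466 = n62274 := rfl
theorem F97090 : act 2 n62274 = n29468 := d3_1 D62274 (iv6 D29468) D29466
theorem F97091 : act 3 n62274 = n61011 := d7_1 D62274 (iv6 D61011) (iv3 F47240)
def n62275 : Q := act 1 n29467
theorem D62275 : act 1 n29467 = n62275 := rfl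
theorem F97092 : act 1 n62275 = n60929 := d15_1 D62275 (iv7 F97087) F97085
def n62276 : Q := act 4 n29467
theorem D62276 : act 4 n29467 = n62276 := rfl
theorem F97093 : act 3 n62276 = n29700 := d5_1 D62276 (iv4 D29700) F23581 (iv4 F23361) (iv3 F47245)
def n62277 : Q := act 6 n29467
theorem D62277 : act 6 n29467 = n62277 := rfl
theorem F97095 : act 3 n62277 = n29469 := d7_1 D62277 (iv6 D29469) (iv3 F47245)
def n62278 : Q := act 0 n29468
theorem D62278 : act 0 n29468 = n62278 := rfl
def n62279 : Q := act 1 n29468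
theorem D62279 : act 1 n29468 = n62279 := rfl
def n62281 : Q := act 7 n29468
theorem D62281 : act 7 n29468 = n62281 := rfl
theorem F97097 : act 3 n62281 = n29473 := d8_1 D62281 (iv7 D29473) (iv3 F47247)
theorem F97098 : act 6 n62281 = n60938 := d14_1 D62281 (iv7 D60938) (iv6 D28895) (iv7 F23359) D29468
def n62282 : Q := act 0 n29469
theorem D62282 : act 0 n29469 = n62282 := rfl
def n62283 : Q := act 1 n29469
theorem D62283 : act 1 n29469 = n62283 := rfl
theorem F97099 : act 1 n62283 = n61023 := d15_1 D62283 (iv7 D61023) (iv2 F47248)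
def n62284 : Q := act 5 n29469
theorem D62284 : act 5 n29469 = n62284 := rfl
theorem F97100 : act 2 n62284 = n61022 := d2_1 D62284 (iv5 D61022) (iv2 F47248)
theorem F97101 : act 6 n62284 = n29472 := d12_2 D29469 D62284 (iv5 D29472) (iv6 D14012) D14011
def n62285 : Q := act 7 n29469
theorem D62285 : act 7 n29469 = n62285 := rfl
theorem F97102 : act 2 n62285 = n61023 := d4_1 D62285 (iv7 D61023) (iv2 F47248)
theorem F97103 : act 4 n62285 = n29706 := d11_1 D62285 (iv7 D29706) (iv4 F47249)
theorem F97104 : act 6 n62285 = n60946 := d14_1 D62285 (iv7 D60946) (iv6 D28898) (iv7 F23362) D29469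
theorem F97105 : act 1 n61023 = n62282 := d15_0 (iv0 D62282) D62285 F97102
theorem F97106 : act 1 n61021 = n62285 := d15_1 D61021 (iv7 D62285) F47248
def n62286 : Q := act 3 n29470
theorem D62286 : act 3 n29470 = n62286 := rfl
theorem F97108 : act 7 n62286 = n61026 := d8_2 F80119 D62286 (iv3 D61026)
def n62287 : Q := act 6 n29470
theorem D62287 : act 6 n29470 = n62287 := rfl
theorem F97109 : act 2 n62287 = n61025 := d3_1 D62287 (iv6 D61025) F80120
theorem F97110 : act 4 n62287 = n29881 := d10_1 D62287 (iv6 D29881) (iv4 F80112)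
theorem F97111 : act 7 n62287 = n60951 := d14_2 F80119 D62287 (iv6 D60951) (iv7 F49753) (iv6 F80118)
theorem F97112 : act 5 n62287 = n60881 := d21_6 D28832 F46474 (iv5 D14011) D14012 D29470 D62287 (iv1 D60881) (iv5 D28875) (iv6 D13762) (iv1 F22995)
theorem F97114 : act 1 n59654 = n62287 := d15_1 F97004 F97111 (iv2 F96998)
def n62288 : Q := act 3 n29471
theorem D62288 : act 3 n29471 = n62288 := rfl
theorem F97115 : act 6 n62288 = n60947 := d7_2 (iv6 F80109) D62288 (iv3 D60947)
theorem F97116 : act 7 n62288 = n61024 := d8_2 F80122 D62288 (iv3 D61024)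
def n62290 : Q := act 7 n29472
theorem D62290 : act 7 n29472 = n62290 := rfl
theorem F97119 : act 5 n62290 = n29473 := d13_1 D62290 (iv7 D29473) D29472
def n62293 : Q := act 2 n29474
theorem D62293 : act 2 n29474 = n62293 := rfl
theorem F97123 : act 3 n62293 = n61033 := d0_2 D29474 D62293 (iv2 D61033) (iv3 D28929) F45467
theorem F97124 : act 5 n62293 = n59034 := d2_2 (iv5 F47258) D62293 (iv2 D59034)
theorem F97125 : act 7 n62293 = n61041 := d4_2 (iv7 F47259) D62293 (iv2 D61041)
theorem F97126 : act 1 n62293 = n61039 := d15_0 (iv0 D61039) (iv7 F47259) D62293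
theorem F97128 : act 1 n61040 = n62293 := d15_1 D61040 F97125 (iv2 D61041)
def n62294 : Q := act 4 n29474
theorem D62294 : act 4 n29474 = n62294 := rfl
theorem F97129 : act 7 n62294 = n61042 := d11_2 (iv7 F47259) D62294 (iv4 D61042)
def n62295 : Q := act 6 n29474
theorem D62295 : act 6 n29474 = n62295 := rfl
theorem F97130 : act 3 n62295 = n29476 := d7_1 D62295 (iv6 D29476) D29474
theorem F97131 : act 5 n62295 = n60888 := d12_1 D62295 F95430 F93229 (iv6 D59036) (iv5 F47258)
theorem F97132 : act 7 n62295 = n60969 := d14_2 (iv7 F47259) D62295 (iv6 D60969) (iv7 F47208) F47207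
def n62296 : Q := act 3 n29475
theorem D62296 : act 3 n29475 = n62296 := rfl
theorem F97133 : act 7 n62296 = n61043 := d8_2 (iv7 F47261) D62296 (iv3 D61043)
def n62297 : Q := act 5 n29475
theorem D62297 : act 5 n29475 = n62297 := rfl
theorem F97137 : act 1 n62297 = n29560 := d17_6 (iv1 D13983) F10785 D13382 (iv5 F23365) D29475 D62297 (iv5 D29560) (iv0 F79857) (iv4 D29403)
def n62298 : Q := act 6 n29475
theorem D62298 : act 6 n29475 = n62298 := rfl
theorem F97138 : act 2 n62298 = n61038 := d3_1 D62298 (iv6 D61038) (iv2 F47260)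
theorem F97139 : act 4 n62298 = n29476 := d10_1 D62298 (iv6 D29476) D29475
theorem F97140 : act 7 n62298 = n60972 := d14_2 (iv7 F47261) D62298 (iv6 D60972) (iv7 F47211) F47210
theorem F97141 : act 5 n62298 = n61462 := d21_6 D28826 F46464 (iv5 D14020) D14021 (iv1 F79854) D62298 (iv1 D61462) (iv5 D29091) (iv6 D13848) (iv1 F22989)
theorem F97142 : act 0 n53565 = n62298 := d17_0 F97141 (iv1 D61462) (iv5 D29091) F23121 D13850 D29096 (iv5 F48240) (iv0 F48243) D53565
theorem F97143 : act 1 n53575 = n62298 := d15_0 (iv0 F97142) F84501 (iv2 F84518)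
def n62299 : Q := act 0 n29477
theorem D62299 : act 0 n29477 = n62299 := rfl
theorem F97144 : act 1 n61033 = n62299 := d15_0 (iv0 D62299) F47269 D61033
def n62300 : Q := act 1 n29477
theorem D62300 : act 1 n29477 = n62300 := rfl
def n62301 : Q := act 2 n29477
theorem D62301 : act 2 n29477 = n62301 := rfl
theorem F97146 : act 5 n62301 = n59039 := d2_2 (iv5 F47267) D62301 (iv2 D59039)
theorem F97147 : act 6 n62301 = n60958 := d3_2 (iv6 F47268) D62301 (iv2 D60958)
def n62302 : Q := act 4 n29477
theorem D62302 : act 4 n29477 = n62302 := rfl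
theorem F97152 : act 6 n62302 = n60959 := d10_2 (iv6 F47268) D62302 (iv4 D60959)
theorem F97153 : act 7 n62302 = n61034 := d11_2 (iv7 F47269) D62302 (iv4 D61034)
def n62303 : Q := act 3 n29478
theorem D62303 : act 3 n29478 = n62303 := rfl
theorem F97154 : act 6 n62303 = n60961 := d7_2 (iv6 F47271) D62303 (iv3 D60961)
theorem F97155 : act 7 n62303 = n61036 := d8_2 (iv7 F47272) D62303 (iv3 D61036)
def n62304 : Q := act 5 n29478
theorem D62304 : act 5 n29478 = n62304 := rfl
theorem F97158 : act 0 n62304 = n29560 := d17_2 (iv1 F79873) D62304 (iv5 D29560) F23425 F10855 D11690 F23783 F23782 (iv4 F46591)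
def n62305 : Q := act 2 n29479
theorem D62305 : act 2 n29479 = n62305 := rfl
def n62306 : Q := act 3 n29479
theorem D62306 : act 3 n29479 = n62306 := rfl
theorem F97161 : act 4 n62306 = n60982 := d20_6 (iv4 D3071) D3069 (iv4 F10815) D14016 D29479 D62306 (iv1 D60982) F46561 (iv3 D13778) F10616
def n62307 : Q := act 4 n29479
theorem D62307 : act 4 n29479 = n62307 := rfl
def n62308 : Q := act 5 n29479
theorem D62308 : act 5 n29479 = n62308 := rfl
def n62309 : Q := act 6 n29479
theorem D62309 : act 6 n29479 = n62309 := rfl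
def n62310 : Q := act 7 n29479
theorem D62310 : act 7 n29479 = n62310 := rfl
def n62311 : Q := act 3 n29480
theorem D62311 : act 3 n29480 = n62311 := rfl
def n62312 : Q := act 4 n29480
theorem D62312 : act 4 n29480 = n62312 := rfl
def n62313 : Q := act 5 n29480
theorem D62313 : act 5 n29480 = n62313 := rfl
def n62314 : Q := act 6 n29480
theorem D62314 : act 6 n29480 = n62314 := rfl
def n62315 : Q := act 4 n29481
theorem D62315 : act 4 n29481 = n62315 := rfl
theorem F97163 : act 2 n62315 = n29482 := d1_1 D62315 (iv4 D29482) D29481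
theorem F97164 : act 7 n62315 = n61092 := d11_2 (iv7 F47275) D62315 (iv4 D61092)
theorem F97165 : act 0 n62315 = n61096 := d20_1 D62315 (iv4 F95610) (iv3 D60922) (iv1 F47242) F47240 (iv4 F95529) (iv1 F96953) (iv4 F96949) (iv3 D61083) (iv1 F47276)
theorem E8802 : n61201 = n61090 := ((c17_2 (iv1 F47278) D61090 (iv1 D61201) F46606 (iv4 F46722) D61432 (iv0 F95932) (iv5 F95611) (iv0 F97165) (iv4 D62315))).symm
theorem F97166 : act 0 n61090 = n28979 := (sb E8802 (iv1 D61201))
theorem F97167 : act 1 n62315 = n61095 := d15_0 (iv0 D61095) (iv7 F47280) (iv2 F97163)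
def n62316 : Q := act 5 n29481
theorem D62316 : act 5 n29481 = n62316 := rfl
theorem F97168 : act 2 n62316 = n29483 := d2_1 D62316 (iv5 D29483) D29481
theorem F97170 : act 7 n62316 = n61093 := d13_2 (iv7 F47275) D62316 (iv5 D61093)
theorem F97171 : act 1 n61100 = n62316 := d15_1 D61100 F97170 F95607
theorem F97172 : act 1 n62316 = n61099 := d15_0 (iv0 D61099) (iv7 F47282) (iv2 F97168)
def n62317 : Q := act 6 n29481
theorem D62317 : act 6 n29481 = n62317 := rfl
theorem F97173 : act 2 n62317 = n29484 := d3_1 D62317 (iv6 D29484) D29481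
theorem F97174 : act 3 n62317 = n61057 := d7_1 D62317 (iv6 D61057) (iv3 F47274)
def n62318 : Q := act 0 n29482
theorem D62318 : act 0 n29482 = n62318 := rfl
theorem F97175 : act 1 n61092 = n62318 := d15_0 (iv0 D62318) F47280 (iv2 F95606)
def n62319 : Q := act 1 n29482
theorem D62319 : act 1 n29482 = n62319 := rfl
theorem F97176 : act 1 n62319 = n61092 := d15_1 D62319 (iv7 F97164) F97163
theorem F97177 : act 3 n59399 = n62319 := d20_3 (iv4 F93733) (iv1 D59398) D59399 (iv1 D62319) F47279 (iv4 D14244) F22526 (iv4 F23838) F48304 D30094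
theorem F97178 : act 4 n62268 = n62319 := d20_6 F10620 (iv1 F4668) D6660 D14010 D29464 D62268 (iv1 D62319) (iv4 D29482) (iv3 D14016) (iv1 F10818)
theorem F97179 : act 7 n62319 = n61096 := d11_2 (iv7 F97079) F97178 (iv4 F95610)
theorem F97180 : act 2 n61096 = n62318 := d15_3 (iv0 D62318) D62319 F97179
theorem F97181 : act 2 n62319 = n61095 := d15_3 (iv0 D61095) D61096 (iv7 F97179)
theorem F97182 : act 7 n61095 = n62318 := d4_2 (iv7 F97179) F97181 (iv2 F97180)
def n62320 : Q := act 5 n29482
theorem D62320 : act 5 n29482 = n62320 := rfl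
theorem F97183 : act 3 n62320 = n30004 := d6_1 D62320 (iv5 D30004) (iv3 F47279)
theorem F97184 : act 7 n62320 = n61097 := d13_2 (iv7 F47280) D62320 (iv5 D61097)
def n62321 : Q := act 6 n29482
theorem D62321 : act 6 n29482 = n62321 := rfl
theorem F97185 : act 3 n62321 = n30005 := d7_1 D62321 (iv6 D30005) (iv3 F47279)
theorem F97186 : act 4 n62321 = n29484 := d10_1 D62321 (iv6 D29484) D29482
def n62322 : Q := act 0 n29483
theorem D62322 : act 0 n29483 = n62322 := rfl
theorem F97187 : act 1 n61093 = n62322 := d15_0 (iv0 D62322) F47282 (iv2 F95607)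
def n62323 : Q := act 1 n29483
theorem D62323 : act 1 n29483 = n62323 := rfl
theorem F97188 : act 1 n62323 = n61093 := d15_1 D62323 (iv7 F97170) F97168
def n62324 : Q := act 4 n29483
theorem D62324 : act 4 n29483 = n62324 := rfl
theorem F97189 : act 3 n62324 = n29676 := d5_1 D62324 (iv4 D29676) F23564 (iv4 F23379) (iv3 F47281)
theorem F97190 : act 7 n62324 = n61101 := d11_2 (iv7 F47282) D62324 (iv4 D61101)
def n62325 : Q := act 6 n29483
theorem D62325 : act 6 n29483 = n62325 := rfl
theorem F97191 : act 3 n62325 = n29485 := d7_1 D62325 (iv6 D29485) (iv3 F47281)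
def n62326 : Q := act 0 n29484
theorem D62326 : act 0 n29484 = n62326 := rfl
def n62327 : Q := act 1 n29484
theorem D62327 : act 1 n29484 = n62327 := rfl
def n62328 : Q := act 5 n29484
theorem D62328 : act 5 n29484 = n62328 := rfl
theorem F97192 : act 3 n62328 = n29488 := d6_1 D62328 (iv5 D29488) (iv3 F47283)
def n62329 : Q := act 7 n29484
theorem D62329 : act 7 n29484 = n62329 := rfl
theorem F97193 : act 3 n62329 = n29489 := d8_1 D62329 (iv7 D29489) (iv3 F47283)
theorem F97194 : act 6 n62329 = n61106 := d14_1 D62329 (iv7 D61106) (iv6 D28952) (iv7 F23376) D29484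
def n62330 : Q := act 0 n29485
theorem D62330 : act 0 n29485 = n62330 := rfl
def n62331 : Q := act 1 n29485
theorem D62331 : act 1 n29485 = n62331 := rfl
theorem F97195 : act 1 n62331 = n61077 := d15_1 D62331 (iv7 D61077) (iv2 F47284)
def n62332 : Q := act 5 n29485
theorem D62332 : act 5 n29485 = n62332 := rfl
theorem F97196 : act 2 n62332 = n61076 := d2_1 D62332 (iv5 D61076) (iv2 F47284)
theorem F97197 : act 6 n62332 = n29488 := d12_2 D29485 D62332 (iv5 D29488) (iv6 D14018) D14017
def n62333 : Q := act 7 n29485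
theorem D62333 : act 7 n29485 = n62333 := rfl
theorem F97198 : act 2 n62333 = n61077 := d4_1 D62333 (iv7 D61077) (iv2 F47284)
theorem F97199 : act 4 n62333 = n29682 := d11_1 D62333 (iv7 D29682) (iv4 F47285)
theorem F97201 : act 1 n61077 = n62330 := d15_0 (iv0 D62330) D62333 F97198
theorem F97202 : act 1 n61075 = n62333 := d15_1 D61075 (iv7 D62333) F47284
theorem F97203 : act 1 n62333 = n61074 := d15_0 (iv0 D61074) D61077 (iv2 F97198)
def n62334 : Q := act 1 n29488
theorem D62334 : act 1 n29488 = n62334 := rfl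
theorem F97204 : act 1 n62334 = n61081 := d15_1 D62334 (iv7 D61081) (iv2 F47287)
theorem F97205 : act 7 n62334 = n61078 := d15_2 F95339 D62334 (iv2 F95599)
theorem F97206 : act 5 n62334 = n62064 := d17_7 F47408 F47405 (iv1 F24147) F11225 (iv4 F23381) D29488 D62334 F96731 F96722
theorem F97207 : act 2 n61079 = n62334 := d2_3 F97206 F96727 F95601
def n62335 : Q := act 4 n29488
theorem D62335 : act 4 n29488 = n62335 := rfl
theorem F97208 : act 2 n62335 = n61080 := d1_1 D62335 (iv4 D61080) (iv2 F47287)
def n62336 : Q := act 7 n29488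
theorem D62336 : act 7 n29488 = n62336 := rfl
theorem F97209 : act 2 n62336 = n61081 := d4_1 D62336 (iv7 D61081) (iv2 F47287)
theorem F97210 : act 5 n62336 = n29489 := d13_1 D62336 (iv7 D29489) D29488
theorem F97211 : act 1 n61079 = n62336 := d15_1 D61079 (iv7 D62336) F47287
theorem F97212 : act 1 n62336 = n61078 := d15_1 F97211 (iv7 F97205) (iv2 F97207)
def n62337 : Q := act 2 n29490
theorem D62337 : act 2 n29490 = n62337 := rfl
theorem F97213 : act 7 n29491 = n62337 := d15_2 (iv0 D29490) D29491 (iv2 D62337)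
def n62338 : Q := act 3 n29490
theorem D62338 : act 3 n29490 = n62338 := rfl
theorem F97214 : act 4 n62338 = n60901 := d20_6 F10997 (iv1 F4794) (iv4 F10821) D14019 D29490 D62338 (iv1 D60901) F46529 (iv3 D13769) (iv1 F10999)
def n62339 : Q := act 4 n29490
theorem D62339 : act 4 n29490 = n62339 := rfl
def n62340 : Q := act 5 n29490
theorem D62340 : act 5 n29490 = n62340 := rfl
def n62341 : Q := act 6 n29490
theorem D62341 : act 6 n29490 = n62341 := rfl
def n62342 : Q := act 7 n29490
theorem D62342 : act 7 n29490 = n62342 := rfl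
theorem F97215 : act 2 n62342 = n29491 := d4_1 D62342 F97213 (iv2 D62337)
def n62343 : Q := act 3 n29491
theorem D62343 : act 3 n29491 = n62343 := rfl
def n62344 : Q := act 4 n29491
theorem D62344 : act 4 n29491 = n62344 := rfl
def n62345 : Q := act 5 n29491
theorem D62345 : act 5 n29491 = n62345 := rfl
def n62346 : Q := act 6 n29491
theorem D62346 : act 6 n29491 = n62346 := rfl
def n62347 : Q := act 4 n29492
theorem D62347 : act 4 n29492 = n62347 := rfl
theorem F97216 : act 2 n62347 = n29493 := d1_1 D62347 (iv4 D29493) D29492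
theorem F97217 : act 7 n62347 = n61055 := d11_2 (iv7 F47296) D62347 (iv4 D61055)
theorem F97218 : act 0 n62347 = n61059 := d20_1 D62347 (iv4 F95579) (iv3 D61001) (iv1 F47191) F47189 (iv4 F95445) (iv1 F97065) (iv4 F97061) (iv3 D61046) (iv1 F47297)
theorem F97219 : act 1 n62347 = n61058 := d15_0 (iv0 D61058) (iv7 F47301) (iv2 F97216)
def n62348 : Q := act 5 n29492
theorem D62348 : act 5 n29492 = n62348 := rfl
theorem F97220 : act 2 n62348 = n29494 := d2_1 D62348 (iv5 D29494) D29492
theorem F97222 : act 7 n62348 = n61056 := d13_2 (iv7 F47296) D62348 (iv5 D61056)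
theorem F97224 : act 1 n62348 = n61062 := d15_0 (iv0 D61062) (iv7 F47303) (iv2 F97220)
def n62349 : Q := act 6 n29492
theorem D62349 : act 6 n29492 = n62349 := rfl
theorem F97225 : act 2 n62349 = n29495 := d3_1 D62349 (iv6 D29495) D29492
theorem F97226 : act 3 n62349 = n61094 := d7_1 D62349 (iv6 D61094) (iv3 F47295)
def n62350 : Q := act 0 n29493
theorem D62350 : act 0 n29493 = n62350 := rfl
theorem F97227 : act 1 n61055 = n62350 := d15_0 (iv0 D62350) F47301 (iv2 F95576)
def n62351 : Q := act 1 n29493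
theorem D62351 : act 1 n29493 = n62351 := rfl
theorem F97228 : act 1 n62351 = n61055 := d15_1 D62351 (iv7 F97217) F97216
theorem F97229 : act 4 n62203 = n62351 := d20_6 (iv4 D2988) D2986 D6657 D14002 D29441 D62203 (iv1 D62351) (iv4 D29493) (iv3 D14019) (iv1 D6663)
def n62352 : Q := act 5 n29493
theorem D62352 : act 5 n29493 = n62352 := rfl
theorem F97230 : act 3 n62352 = n30017 := d6_1 D62352 (iv5 D30017) (iv3 F47300)
theorem F97231 : act 7 n62352 = n61060 := d13_2 (iv7 F47301) D62352 (iv5 D61060)
def n62353 : Q := act 6 n29493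
theorem D62353 : act 6 n29493 = n62353 := rfl
theorem F97232 : act 3 n62353 = n30018 := d7_1 D62353 (iv6 D30018) (iv3 F47300)
theorem F97233 : act 4 n62353 = n29495 := d10_1 D62353 (iv6 D29495) D29493
def n62354 : Q := act 0 n29494
theorem D62354 : act 0 n29494 = n62354 := rfl
theorem F97234 : act 1 n61056 = n62354 := d15_0 (iv0 D62354) F47303 (iv2 F95577)
def n62355 : Q := act 1 n29494
theorem D62355 : act 1 n29494 = n62355 := rfl
theorem F97235 : act 1 n62355 = n61056 := d15_1 D62355 (iv7 F97222) F97220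
def n62356 : Q := act 4 n29494
theorem D62356 : act 4 n29494 = n62356 := rfl
theorem F97236 : act 3 n62356 = n29659 := d5_1 D62356 (iv4 D29659) F23541 (iv4 F23384) (iv3 F47302)
theorem F97237 : act 7 n62356 = n61064 := d11_2 (iv7 F47303) D62356 (iv4 D61064)
def n62357 : Q := act 6 n29494
theorem D62357 : act 6 n29494 = n62357 := rfl
theorem F97238 : act 3 n62357 = n29496 := d7_1 D62357 (iv6 D29496) (iv3 F47302)
def n62358 : Q := act 0 n29495
theorem D62358 : act 0 n29495 = n62358 := rfl
def n62359 : Q := act 1 n29495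
theorem D62359 : act 1 n29495 = n62359 := rfl
def n62360 : Q := act 5 n29495
theorem D62360 : act 5 n29495 = n62360 := rfl
theorem F97239 : act 3 n62360 = n29499 := d6_1 D62360 (iv5 D29499) (iv3 F47304)
def n62361 : Q := act 7 n29495
theorem D62361 : act 7 n29495 = n62361 := rfl
theorem F97240 : act 3 n62361 = n29500 := d8_1 D62361 (iv7 D29500) (iv3 F47304)
theorem F97241 : act 6 n62361 = n61069 := d14_1 D62361 (iv7 D61069) (iv6 D28939) (iv7 F23382) D29495
def n62362 : Q := act 0 n29496
theorem D62362 : act 0 n29496 = n62362 := rfl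
def n62363 : Q := act 1 n29496
theorem D62363 : act 1 n29496 = n62363 := rfl
theorem F97242 : act 1 n62363 = n61110 := d15_1 D62363 (iv7 D61110) (iv2 F47305)
def n62364 : Q := act 5 n29496
theorem D62364 : act 5 n29496 = n62364 := rfl
theorem F97243 : act 2 n62364 = n61109 := d2_1 D62364 (iv5 D61109) (iv2 F47305)
theorem F97244 : act 6 n62364 = n29499 := d12_2 D29496 D62364 (iv5 D29499) (iv6 D14021) D14020
def n62365 : Q := act 7 n29496
theorem D62365 : act 7 n29496 = n62365 := rfl
theorem F97245 : act 2 n62365 = n61110 := d4_1 D62365 (iv7 D61110) (iv2 F47305)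
theorem F97246 : act 4 n62365 = n29665 := d11_1 D62365 (iv7 D29665) (iv4 F47306)
theorem F97247 : act 6 n62365 = n61077 := d14_1 D62365 (iv7 D61077) (iv6 D28942) (iv7 F23385) D29496
theorem F97248 : act 1 n61110 = n62362 := d15_0 (iv0 D62362) D62365 F97245
theorem F97249 : act 1 n61108 = n62365 := d15_1 D61108 (iv7 D62365) F47305
theorem F97250 : act 1 n62365 = n61107 := d15_0 (iv0 D61107) D61110 (iv2 F97245)
def n62366 : Q := act 4 n29499
theorem D62366 : act 4 n29499 = n62366 := rfl
theorem F97251 : act 2 n62366 = n61113 := d1_1 D62366 (iv4 D61113) (iv2 F47308)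
def n62367 : Q := act 7 n29499
theorem D62367 : act 7 n29499 = n62367 := rfl
theorem F97253 : act 5 n62367 = n29500 := d13_1 D62367 (iv7 D29500) D29499
theorem F97254 : act 1 n61112 = n62367 := d15_1 D61112 (iv7 D62367) F47308
theorem F97255 : act 1 n62367 = n61111 := d15_1 F97254 (iv7 F95623) F95626
def n62368 : Q := act 6 n29501
theorem D62368 : act 6 n29501 = n62368 := rfl
theorem F97256 : act 2 n62368 = n29519 := d3_1 D62368 (iv6 D29519) F47315
theorem F97257 : act 3 n62368 = n61115 := d7_1 D62368 (iv6 D61115) (iv3 F47316)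
theorem F97258 : act 7 n62368 = n61115 := d14_2 (iv7 F47318) D62368 (iv6 D61115) F46593 (iv6 F23389)
theorem F97259 : act 1 n61189 = n62368 := d15_1 D61189 F97258 F95630
theorem F97260 : act 1 n62368 = n61188 := d15_0 (iv0 D61188) (iv7 F47336) (iv2 F97256)
def n62369 : Q := act 0 n29502
theorem D62369 : act 0 n29502 = n62369 := rfl
theorem F97261 : act 1 n29507 = n62369 := d15_0 (iv0 D62369) (iv7 F47320) (iv2 F47321)
def n62370 : Q := act 1 n29502
theorem D62370 : act 1 n29502 = n62370 := rfl
theorem F97262 : act 1 n62370 = n29507 := d15_1 D62370 (iv7 D29507) D29502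
def n62371 : Q := act 3 n29502
theorem D62371 : act 3 n29502 = n62371 := rfl
theorem F97263 : act 7 n62371 = n29508 := d8_2 F47320 D62371 (iv3 D29508)
def n62372 : Q := act 4 n29502
theorem D62372 : act 4 n29502 = n62372 := rfl
theorem F97264 : act 2 n62372 = n29504 := d1_1 D62372 (iv4 D29504) D29502
theorem F97265 : act 7 n62372 = n29509 := d11_2 F47320 D62372 (iv4 D29509)
def n62373 : Q := act 5 n29502
theorem D62373 : act 5 n29502 = n62373 := rfl
theorem F97266 : act 2 n62373 = n29505 := d2_1 D62373 (iv5 D29505) D29502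
theorem F97267 : act 7 n62373 = n29510 := d13_2 F47320 D62373 (iv5 D29510)
def n62374 : Q := act 6 n29502
theorem D62374 : act 6 n29502 = n62374 := rfl
theorem F97268 : act 2 n62374 = n29506 := d3_1 D62374 (iv6 D29506) D29502
def n62375 : Q := act 0 n29503
theorem D62375 : act 0 n29503 = n62375 := rfl
def n62376 : Q := act 1 n29503
theorem D62376 : act 1 n29503 = n62376 := rfl
def n62377 : Q := act 2 n29503
theorem D62377 : act 2 n29503 = n62377 := rfl
def n62378 : Q := act 4 n29503
theorem D62378 : act 4 n29503 = n62378 := rfl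
theorem F97269 : act 0 n62378 = n29994 := d20_7 (iv4 D6660) (iv1 D2987) D2988 D6664 D14022 D29503 D62378 F48187 F23794 (iv1 F11046)
theorem F97270 : act 0 n29992 = n62378 := d20_1 (iv4 F48183) (iv4 D62378) (iv3 D29503) D29501 F47316 (iv4 F95252) (iv1 F95254) D60659 (iv3 F95257) (iv1 D30039)
theorem F97271 : act 3 n61145 = n62376 := d20_9 D62378 F97269 F48187 F23794 (iv1 F11046) D14010 (iv4 F47232) D62251 (iv4 F97060) (iv1 D62376)
def n62379 : Q := act 5 n29503
theorem D62379 : act 5 n29503 = n62379 := rfl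
theorem F97272 : act 3 n62379 = n29505 := d6_1 D62379 (iv5 D29505) D29503
def n62380 : Q := act 6 n29503
theorem D62380 : act 6 n29503 = n62380 := rfl
theorem F97273 : act 3 n62380 = n29506 := d7_1 D62380 (iv6 D29506) D29503
def n62381 : Q := act 7 n29503
theorem D62381 : act 7 n29503 = n62381 := rfl
theorem F97274 : act 3 n62381 = n29507 := d8_1 D62381 (iv7 D29507) D29503
def n62382 : Q := act 0 n29504
theorem D62382 : act 0 n29504 = n62382 := rfl
theorem F97275 : act 4 n62382 = n62270 := d20_2 D29504 D62382 (iv3 D62270) (iv1 D29465) (iv3 D14010) (iv4 D6660) (iv1 D2987) D2988 D6664 D14022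
def n62383 : Q := act 1 n29504
theorem D62383 : act 1 n29504 = n62383 := rfl
theorem F97276 : act 1 n62383 = n29509 := d15_1 D62383 (iv7 F97265) F97264
def n62384 : Q := act 3 n29504
theorem D62384 : act 3 n29504 = n62384 := rfl
def n62385 : Q := act 5 n29504
theorem D62385 : act 5 n29504 = n62385 := rfl
def n62386 : Q := act 6 n29504
theorem D62386 : act 6 n29504 = n62386 := rfl
theorem F97277 : act 4 n62386 = n29506 := d10_1 D62386 (iv6 D29506) D29504
def n62387 : Q := act 7 n29504
theorem D62387 : act 7 n29504 = n62387 := rfl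
theorem F97278 : act 2 n62387 = n29509 := d4_1 D62387 (iv7 F97265) F97264
theorem F97279 : act 4 n62387 = n29507 := d11_1 D62387 (iv7 D29507) D29504
theorem F97280 : act 1 n29509 = n62382 := d15_0 (iv0 D62382) D62387 F97278
def n62388 : Q := act 0 n29505
theorem D62388 : act 0 n29505 = n62388 := rfl
def n62389 : Q := act 1 n29505
theorem D62389 : act 1 n29505 = n62389 := rfl
theorem F97281 : act 1 n62389 = n29510 := d15_1 D62389 (iv7 F97267) F97266
def n62390 : Q := act 4 n29505
theorem D62390 : act 4 n29505 = n62390 := rfl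
def n62391 : Q := act 6 n29505
theorem D62391 : act 6 n29505 = n62391 := rfl
def n62392 : Q := act 7 n29505
theorem D62392 : act 7 n29505 = n62392 := rfl
theorem F97282 : act 2 n62392 = n29510 := d4_1 D62392 (iv7 F97267) F97266
theorem F97283 : act 5 n62392 = n29507 := d13_1 D62392 (iv7 D29507) D29505
theorem F97284 : act 1 n29510 = n62388 := d15_0 (iv0 D62388) D62392 F97282
def n62393 : Q := act 0 n29506
theorem D62393 : act 0 n29506 = n62393 := rfl
def n62394 : Q := act 1 n29506
theorem D62394 : act 1 n29506 = n62394 := rfl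
def n62395 : Q := act 5 n29506
theorem D62395 : act 5 n29506 = n62395 := rfl
def n62396 : Q := act 7 n29506
theorem D62396 : act 7 n29506 = n62396 := rfl
def n62397 : Q := act 6 n29507
theorem D62397 : act 6 n29507 = n62397 := rfl
theorem F97285 : act 2 n62397 = n29511 := d3_1 D62397 (iv6 D29511) (iv2 F47321)
def n62398 : Q := act 0 n29508
theorem D62398 : act 0 n29508 = n62398 := rfl
theorem F97286 : act 4 n62398 = n60981 := d20_0 (iv1 F96952) F96950 F47189 (iv1 F47243) D62270 (iv4 F97275) (iv1 F97280) (iv4 D29509) D29508 D62398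
theorem F97287 : act 3 n62398 = n61123 := d20_3 (iv4 F46561) D60981 (iv4 F97286) (iv1 D61123) (iv3 D28960) D28961 D61129 F95644 (iv3 D61006) (iv1 D28920)
def n62399 : Q := act 1 n29508
theorem D62399 : act 1 n29508 = n62399 := rfl
def n62400 : Q := act 2 n29508
theorem D62400 : act 2 n29508 = n62400 := rfl
def n62401 : Q := act 4 n29508
theorem D62401 : act 4 n29508 = n62401 := rfl
theorem F97288 : act 0 n62204 = n62401 := d20_1 D62204 (iv4 D62401) (iv3 D29508) (iv1 D14023) (iv3 D6664) (iv4 D2988) D2986 D6657 D14002 D29441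
def n62402 : Q := act 5 n29508
theorem D62402 : act 5 n29508 = n62402 := rfl
theorem F97289 : act 3 n62402 = n29510 := d6_1 D62402 (iv5 D29510) D29508
def n62403 : Q := act 6 n29508
theorem D62403 : act 6 n29508 = n62403 := rfl
theorem F97290 : act 3 n62403 = n29511 := d7_1 D62403 (iv6 D29511) D29508
def n62404 : Q := act 3 n29509
theorem D62404 : act 3 n29509 = n62404 := rfl
theorem F97291 : act 0 n49368 = n62404 := d20_4 (iv4 F36901) (iv1 F18478) (iv4 F37732) (iv3 F78055) (iv3 D62404) (iv4 D29509) (iv1 D14023) (iv4 F23242) (iv3 D13963) D13961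
theorem F97292 : act 1 n49366 = n62404 := d15_0 (iv0 F97291) (iv7 D49368) D49366
def n62405 : Q := act 5 n29509
theorem D62405 : act 5 n29509 = n62405 := rfl
def n62406 : Q := act 6 n29509
theorem D62406 : act 6 n29509 = n62406 := rfl
theorem F97293 : act 4 n62406 = n29511 := d10_1 D62406 (iv6 D29511) D29509
def n62407 : Q := act 4 n29510
theorem D62407 : act 4 n29510 = n62407 := rfl
def n62408 : Q := act 6 n29510
theorem D62408 : act 6 n29510 = n62408 := rfl
def n62409 : Q := act 0 n29511
theorem D62409 : act 0 n29511 = n62409 := rfl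
def n62410 : Q := act 1 n29511
theorem D62410 : act 1 n29511 = n62410 := rfl
def n62411 : Q := act 5 n29511
theorem D62411 : act 5 n29511 = n62411 := rfl
def n62412 : Q := act 7 n29511
theorem D62412 : act 7 n29511 = n62412 := rfl
def n62414 : Q := act 3 n29512
theorem D62414 : act 3 n29512 = n62414 := rfl
def n62415 : Q := act 4 n29512
theorem D62415 : act 4 n29512 = n62415 := rfl
theorem F97295 : act 3 n49364 = n62415 := d20_5 F37603 (iv1 D11312) D11313 D24092 D49364 (iv4 D62415) (iv1 F47322) (iv4 F47008) F47007 (iv1 F37601)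
def n62416 : Q := act 5 n29512
theorem D62416 : act 5 n29512 = n62416 := rfl
def n62419 : Q := act 3 n29513
theorem D62419 : act 3 n29513 = n62419 := rfl
theorem F97297 : act 4 n62419 = n29991 := d20_6 (iv4 D6553) (iv1 F4676) (iv4 F10828) (iv3 F23392) (iv1 F47323) D62419 (iv1 D29991) F23762 (iv3 D6785) (iv1 F10614)
def n62420 : Q := act 4 n29513
theorem D62420 : act 4 n29513 = n62420 := rfl
def n62423 : Q := act 4 n29514
theorem D62423 : act 4 n29514 = n62423 := rfl
theorem F97298 : act 2 n62423 = n29517 := d1_1 D62423 (iv4 D29517) (iv2 F47324)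
theorem F97299 : act 7 n62423 = n61724 := d11_2 (iv7 F47326) D62423 F96319
theorem F97300 : act 1 n61723 = n62423 := d15_1 D61723 F97299 (iv2 D61724)
theorem F97301 : act 1 n62423 = n61722 := d15_0 (iv0 D61722) (iv7 F47332) (iv2 F97298)
def n62424 : Q := act 6 n29514
theorem D62424 : act 6 n29514 = n62424 := rfl
theorem F97302 : act 2 n62424 = n29518 := d3_1 D62424 (iv6 D29518) (iv2 F47324)
theorem F97303 : act 3 n62424 = n61171 := d7_1 D62424 (iv6 D61171) (iv3 F47325)
theorem F97304 : act 5 n62424 = n61171 := d12_1 D62424 (iv6 D61171) (iv5 D28971) (iv6 F23389) D29514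
def n62425 : Q := act 2 n29515
theorem D62425 : act 2 n29515 = n62425 := rfl
theorem F97305 : act 7 n29516 = n62425 := d15_2 (iv0 D29515) D29516 (iv2 D62425)
def n62426 : Q := act 3 n29515
theorem D62426 : act 3 n29515 = n62426 := rfl
def n62427 : Q := act 4 n29515
theorem D62427 : act 4 n29515 = n62427 := rfl
def n62428 : Q := act 5 n29515
theorem D62428 : act 5 n29515 = n62428 := rfl
def n62429 : Q := act 6 n29515
theorem D62429 : act 6 n29515 = n62429 := rfl
def n62430 : Q := act 7 n29515
theorem D62430 : act 7 n29515 = n62430 := rfl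
theorem F97306 : act 2 n62430 = n29516 := d4_1 D62430 F97305 (iv2 D62425)
def n62431 : Q := act 3 n29516
theorem D62431 : act 3 n29516 = n62431 := rfl
def n62432 : Q := act 4 n29516
theorem D62432 : act 4 n29516 = n62432 := rfl
def n62433 : Q := act 5 n29516
theorem D62433 : act 5 n29516 = n62433 := rfl
def n62434 : Q := act 6 n29516
theorem D62434 : act 6 n29516 = n62434 := rfl
def n62435 : Q := act 0 n29517
theorem D62435 : act 0 n29517 = n62435 := rfl
theorem F97307 : act 1 n61724 = n62435 := d15_0 (iv0 D62435) F47332 D61724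
def n62436 : Q := act 1 n29517
theorem D62436 : act 1 n29517 = n62436 := rfl
theorem F97308 : act 1 n62436 = n61724 := d15_1 D62436 (iv7 F97299) F97298
def n62437 : Q := act 5 n29517
theorem D62437 : act 5 n29517 = n62437 := rfl
theorem F97309 : act 3 n62437 = n61731 := d6_1 D62437 F96333 (iv3 F47331)
theorem F97310 : act 7 n62437 = n61725 := d13_2 (iv7 F47332) D62437 (iv5 D61725)
def n62438 : Q := act 6 n29517
theorem D62438 : act 6 n29517 = n62438 := rfl
theorem F97311 : act 3 n62438 = n61736 := d7_1 D62438 (iv6 D61736) (iv3 F47331)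
theorem F97312 : act 4 n62438 = n29518 := d10_1 D62438 (iv6 D29518) D29517
def n62439 : Q := act 0 n29518
theorem D62439 : act 0 n29518 = n62439 := rfl
def n62440 : Q := act 1 n29518
theorem D62440 : act 1 n29518 = n62440 := rfl
def n62441 : Q := act 7 n29518
theorem D62441 : act 7 n29518 = n62441 := rfl
theorem F97313 : act 3 n62441 = n29526 := d8_1 D62441 (iv7 D29526) (iv3 F47333)
theorem F97314 : act 5 n62441 = n61187 := d13_1 D62441 (iv7 D61187) (iv5 F47334)
theorem F97315 : act 6 n62441 = n61797 := d14_1 D62441 (iv7 D61797) (iv6 D29288) F23391 D29518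
def n62442 : Q := act 0 n29519
theorem D62442 : act 0 n29519 = n62442 := rfl
theorem F97316 : act 1 n61115 = n62442 := d15_0 (iv0 D62442) F47336 (iv2 F95630)
def n62443 : Q := act 1 n29519
theorem D62443 : act 1 n29519 = n62443 := rfl
theorem F97317 : act 1 n62443 = n61115 := d15_1 D62443 (iv7 F97258) F97256
def n62444 : Q := act 5 n29519
theorem D62444 : act 5 n29519 = n62444 := rfl
theorem F97318 : act 3 n62444 = n29528 := d6_1 D62444 (iv5 D29528) (iv3 F47335)
theorem F97319 : act 6 n62444 = n61796 := d12_2 D29519 D62444 (iv5 D61796) (iv6 D29288) (iv5 F23393)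
theorem F97320 : act 7 n62444 = n61190 := d13_2 (iv7 F47336) D62444 (iv5 D61190)
def n62445 : Q := act 0 n29520
theorem D62445 : act 0 n29520 = n62445 := rfl
theorem F97321 : act 1 n61202 = n62445 := d15_0 (iv0 D62445) F47338 D61202
def n62446 : Q := act 1 n29520
theorem D62446 : act 1 n29520 = n62446 := rfl
def n62447 : Q := act 2 n29520
theorem D62447 : act 2 n29520 = n62447 := rfl
theorem F97322 : act 3 n62447 = n61193 := d0_2 D29520 D62447 (iv2 D61193) (iv3 D28977) F23397
theorem F97323 : act 5 n62447 = n29556 := d2_2 (iv5 F47337) D62447 (iv2 D29556)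
theorem F97324 : act 7 n62447 = n61202 := d4_2 (iv7 F47338) D62447 (iv2 D61202)
theorem F97325 : act 1 n62447 = n61200 := d15_0 (iv0 D61200) (iv7 F47338) D62447
theorem F97326 : act 1 n62446 = n61202 := d15_1 D62446 (iv7 F97324) (iv2 D62447)
theorem F97327 : act 1 n61090 = n62447 := d15_1 (iv0 F97166) F97324 (iv2 D61202)
def n62448 : Q := act 4 n29520
theorem D62448 : act 4 n29520 = n62448 := rfl
theorem F97328 : act 3 n62448 = n29642 := d5_1 D62448 (iv4 D29642) F23528 (iv4 F23395) D29520
theorem F97329 : act 7 n62448 = n61203 := d11_2 (iv7 F47338) D62448 (iv4 D61203)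
def n62449 : Q := act 6 n29520
theorem D62449 : act 6 n29520 = n62449 := rfl
theorem F97330 : act 3 n62449 = n29521 := d7_1 D62449 (iv6 D29521) D29520
def n62450 : Q := act 0 n29521
theorem D62450 : act 0 n29521 = n62450 := rfl
def n62451 : Q := act 1 n29521
theorem D62451 : act 1 n29521 = n62451 := rfl
theorem F97331 : act 1 n62451 = n61199 := d15_1 D62451 (iv7 D61199) (iv2 F47339)
def n62452 : Q := act 5 n29521
theorem D62452 : act 5 n29521 = n62452 := rfl
theorem F97333 : act 6 n62452 = n29560 := d12_2 D29521 D62452 (iv5 D29560) (iv6 D14040) (iv5 F23394)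
def n62453 : Q := act 7 n29521
theorem D62453 : act 7 n29521 = n62453 := rfl
theorem F97334 : act 2 n62453 = n61199 := d4_1 D62453 (iv7 D61199) (iv2 F47339)
theorem F97335 : act 4 n62453 = n29646 := d11_1 D62453 (iv7 D29646) (iv4 F47340)
theorem F97336 : act 6 n62453 = n61208 := d14_1 D62453 (iv7 D61208) (iv6 D28980) F23398 D29521
theorem F97337 : act 1 n61199 = n62450 := d15_0 (iv0 D62450) D62453 F97334
theorem F97338 : act 1 n61197 = n62453 := d15_1 D61197 (iv7 D62453) F47339
theorem F97339 : act 1 n62453 = n61196 := d15_0 (iv0 D61196) D61199 (iv2 F97334)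
def n62454 : Q := act 0 n29522
theorem D62454 : act 0 n29522 = n62454 := rfl
def n62455 : Q := act 1 n29522
theorem D62455 : act 1 n29522 = n62455 := rfl
def n62456 : Q := act 2 n29522
theorem D62456 : act 2 n29522 = n62456 := rfl
theorem F97343 : act 7 n62456 = n61193 := d4_2 (iv7 F47342) D62456 (iv2 D61193)
theorem F97344 : act 1 n62456 = n61191 := d15_0 (iv0 D61191) (iv7 F47342) D62456
theorem F97345 : act 1 n62455 = n61193 := d15_1 D62455 (iv7 F97343) (iv2 D62456)
theorem F97346 : act 1 n61192 = n62456 := d15_1 D61192 F97343 (iv2 D61193)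
def n62457 : Q := act 4 n29522
theorem D62457 : act 4 n29522 = n62457 := rfl
theorem F97347 : act 3 n62457 = n29581 := d5_1 D62457 (iv4 D29581) F23447 (iv4 F23402) D29522
def n62458 : Q := act 6 n29522
theorem D62458 : act 6 n29522 = n62458 := rfl
theorem F97349 : act 3 n62458 = n29523 := d7_1 D62458 (iv6 D29523) D29522
def n62459 : Q := act 0 n29523
theorem D62459 : act 0 n29523 = n62459 := rfl
def n62460 : Q := act 1 n29523
theorem D62460 : act 1 n29523 = n62460 := rfl
theorem F97350 : act 1 n62460 = n61208 := d15_1 D62460 (iv7 D61208) (iv2 F47343)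
def n62461 : Q := act 5 n29523
theorem D62461 : act 5 n29523 = n62461 := rfl
theorem F97351 : act 2 n62461 = n61207 := d2_1 D62461 (iv5 D61207) (iv2 F47343)
theorem F97352 : act 6 n62461 = n29634 := d12_2 D29523 D62461 (iv5 D29634) (iv6 D14074) (iv5 F23401)
def n62462 : Q := act 7 n29523
theorem D62462 : act 7 n29523 = n62462 := rfl
theorem F97353 : act 2 n62462 = n61208 := d4_1 D62462 (iv7 D61208) (iv2 F47343)
theorem F97354 : act 4 n62462 = n29585 := d11_1 D62462 (iv7 D29585) (iv4 F47344)
theorem F97355 : act 6 n62462 = n61199 := d14_1 D62462 (iv7 D61199) (iv6 D28978) (iv7 F23400) D29523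
theorem F97356 : act 1 n61208 = n62459 := d15_0 (iv0 D62459) D62462 F97353
theorem F97357 : act 1 n61206 = n62462 := d15_1 D61206 (iv7 D62462) F47343
theorem F97358 : act 1 n62462 = n61205 := d15_0 (iv0 D61205) D61208 (iv2 F97353)
def n62463 : Q := act 2 n29524
theorem D62463 : act 2 n29524 = n62463 := rfl
theorem F97359 : act 7 n29525 = n62463 := d15_2 (iv0 D29524) D29525 (iv2 D62463)
def n62464 : Q := act 3 n29524
theorem D62464 : act 3 n29524 = n62464 := rfl
def n62465 : Q := act 4 n29524
theorem D62465 : act 4 n29524 = n62465 := rfl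
def n62466 : Q := act 5 n29524
theorem D62466 : act 5 n29524 = n62466 := rfl
def n62467 : Q := act 6 n29524
theorem D62467 : act 6 n29524 = n62467 := rfl
def n62468 : Q := act 7 n29524
theorem D62468 : act 7 n29524 = n62468 := rfl
theorem F97360 : act 2 n62468 = n29525 := d4_1 D62468 F97359 (iv2 D62463)
def n62469 : Q := act 3 n29525
theorem D62469 : act 3 n29525 = n62469 := rfl
def n62470 : Q := act 4 n29525
theorem D62470 : act 4 n29525 = n62470 := rfl
def n62471 : Q := act 5 n29525
theorem D62471 : act 5 n29525 = n62471 := rfl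
def n62472 : Q := act 6 n29525
theorem D62472 : act 6 n29525 = n62472 := rfl
def n62473 : Q := act 2 n29527
theorem D62473 : act 2 n29527 = n62473 := rfl
theorem F97361 : act 7 n29527 = n62473 := d15_2 (iv0 D29527) F47353 (iv2 D62473)
def n62474 : Q := act 3 n29527
theorem D62474 : act 3 n29527 = n62474 := rfl
def n62475 : Q := act 4 n29527
theorem D62475 : act 4 n29527 = n62475 := rfl
def n62476 : Q := act 5 n29527
theorem D62476 : act 5 n29527 = n62476 := rfl
def n62477 : Q := act 6 n29527
theorem D62477 : act 6 n29527 = n62477 := rfl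
def n62478 : Q := act 0 n29528
theorem D62478 : act 0 n29528 = n62478 := rfl
theorem F97362 : act 1 n29528 = n62478 := d15_0 (iv0 D62478) F47356 (iv2 F47354)
def n62480 : Q := act 0 n29530
theorem D62480 : act 0 n29530 = n62480 := rfl
theorem F97367 : act 1 n61228 = n62480 := d15_0 (iv0 D62480) (iv7 F76960) D61228
def n62481 : Q := act 1 n29530
theorem D62481 : act 1 n29530 = n62481 := rfl
def n62482 : Q := act 2 n29530
theorem D62482 : act 2 n29530 = n62482 := rfl
theorem F97368 : act 3 n62482 = n61228 := d0_2 D29530 D62482 (iv2 D61228) (iv3 D28987) (iv2 F76957)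
theorem F97369 : act 7 n62482 = n61228 := d4_2 F76960 D62482 (iv2 D61228)
theorem F97370 : act 1 n62482 = n61226 := d15_0 (iv0 D61226) F76960 D62482
def n62483 : Q := act 4 n29530
theorem D62483 : act 4 n29530 = n62483 := rfl
theorem F97373 : act 7 n62483 = n61229 := d11_2 F76960 D62483 (iv4 D61229)
def n62484 : Q := act 5 n29530
theorem D62484 : act 5 n29530 = n62484 := rfl
theorem F97374 : act 3 n62484 = n29532 := d6_1 D62484 (iv5 D29532) D29530
theorem F97375 : act 7 n62484 = n61230 := d13_2 F76960 D62484 (iv5 D61230)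
theorem F97376 : act 6 n62065 = n62484 := d14_5 F97375 F95689 (iv7 F96734) F96733 (iv7 F96732)
def n62485 : Q := act 6 n29530
theorem D62485 : act 6 n29530 = n62485 := rfl
theorem F97377 : act 3 n62485 = n29533 := d7_1 D62485 (iv6 D29533) D29530
theorem F97378 : act 5 n48854 = n62485 := d6_0 F97377 F47362 D48854
theorem F97379 : act 7 n59646 = n62485 := d8_0 F97377 F76959 (iv3 F94041)
def n62486 : Q := act 0 n29531
theorem D62486 : act 0 n29531 = n62486 := rfl
theorem F97380 : act 1 n29531 = n62486 := d15_0 (iv0 D62486) (iv7 F76961) F76966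
def n62487 : Q := act 3 n29531
theorem D62487 : act 3 n29531 = n62487 := rfl
theorem F97381 : act 7 n62487 = n61232 := d8_2 F76961 D62487 (iv3 D61232)
def n62488 : Q := act 5 n29531
theorem D62488 : act 5 n29531 = n62488 := rfl
theorem F97382 : act 2 n62488 = n61233 := d2_1 D62488 (iv5 D61233) F76966
theorem F97383 : act 7 n62488 = n61233 := d13_2 F76961 D62488 (iv5 D61233)
def n62489 : Q := act 6 n29531
theorem D62489 : act 6 n29531 = n62489 := rfl
theorem F97384 : act 2 n62489 = n59654 := d3_1 D62489 F94045 F76966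
theorem F97385 : act 4 n62489 = n29533 := d10_1 D62489 (iv6 D29533) D29531
theorem F97386 : act 7 n59647 = n62489 := d11_0 F97385 F76959 D59647
theorem F97388 : act 0 n61025 = n62489 := d18_2 F48243 (iv4 F95556) F97385 F47362 F47154 F40994 F24361 F20426 D25940
def n62490 : Q := act 4 n29532
theorem D62490 : act 4 n29532 = n62490 := rfl
theorem F97389 : act 2 n62490 = n61234 := d1_1 D62490 (iv4 D61234) (iv2 F76964)
theorem F97390 : act 6 n62490 = n61341 := d10_2 (iv6 F47359) D62490 F95835
theorem F97391 : act 7 n62490 = n61234 := d11_2 F76962 D62490 (iv4 D61234)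
def n62491 : Q := act 6 n29534
theorem D62491 : act 6 n29534 = n62491 := rfl
theorem F97392 : act 3 n62491 = n29536 := d7_1 D62491 (iv6 D29536) D29534
theorem F97393 : act 4 n62491 = n62120 := d10_1 D62491 (iv6 D62120) (iv4 F47366)
theorem F97394 : act 5 n62491 = n34062 := d12_1 D62491 (iv6 D34062) (iv5 D16500) D16501 (iv5 F47364)
def n62492 : Q := act 3 n29535
theorem D62492 : act 3 n29535 = n62492 := rfl
theorem F97395 : act 4 n62492 = n60709 := d5_2 D29535 D62492 F95316 (iv4 F47366) (iv3 D29534)
theorem F97396 : act 7 n62492 = n61415 := d8_2 (iv7 F47374) D62492 (iv3 D61415)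
theorem F97397 : act 0 n62492 = n30086 := d19_4 D11901 F23860 D29535 D62492 (iv5 D30086) F37578 (iv3 D24036) (iv1 F18371) F10759 F4663 (iv3 F4309) (iv1 F10278) D3496 (iv4 F26327) F4656 (iv1 F2480) (iv5 F2448) (iv4 F4872) (iv3 F8504)
theorem F97398 : act 5 n29535 = n62492 := d17_1 F93593 F97397 (iv5 D30086) F37578 (iv5 F76582) F76585 F46967 F46966 D59334
theorem F97399 : act 1 n62492 = n30089 := d15_1 (iv0 F97397) (iv7 F48417) F48416
theorem F97400 : act 3 n62139 = n62113 := d20_9 F93710 (iv1 F97399) F97395 F95316 (iv1 D29410) D29411 F47128 D29418 D62139 F96818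
theorem F97401 : act 5 n62112 = n62139 := d6_0 F97400 (iv5 D62113) D62112
theorem F97402 : act 7 n60772 = n62139 := d8_0 F97400 F96817 (iv3 F95907)
theorem E8803 : n62140 = n60931 := ((c19_1 D60931 (iv5 D62140) D62139 F97400 F96818 (iv5 D59387) F45628 (iv3 F36902) (iv1 F18478) F18472 F7789 F3642 (iv1 F2188) D1544 D3501 (iv3 F26451) (iv1 F4742) D6604 (iv4 F23023) (iv3 F46532))).symm
theorem F97403 : act 5 n60931 = n29418 := (sb E8803 (iv5 D62140))
theorem E8804 : n62142 = n28833 := (c11_3 F97402 (iv4 D62139) D62142 D60772)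
theorem E8805 : n60770 = n29419 := ((D60770).symm.trans (sb E8804 F96865))
theorem E8806 : n60775 = n29418 := ((D60775).symm.trans (sb E8804 (iv7 D62142)))
theorem F97404 : act 2 n29419 = n28833 := (sb E8805 (iv2 D60770))
theorem E8807 : n62137 = n28834 := ((F96864).symm.trans (sb E8805 (iv7 F95359)))
theorem F97405 : act 7 n29418 = n28833 := (sb E8806 (iv7 D60775))
theorem F97406 : act 2 n28834 = n29418 := (sb E8807 (iv2 D62137))
theorem F97407 : act 7 n28834 = n29419 := (sb E8807 (iv7 F96864))
theorem F97408 : act 7 n62143 = n60776 := d8_2 F97407 D62143 (iv3 D60776)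
theorem F97409 : act 7 n62144 = n60777 := d11_2 F97407 D62144 (iv4 D60777)
theorem F97410 : act 7 n62145 = n60778 := d13_2 F97407 D62145 (iv5 D60778)
theorem F97411 : act 2 n62139 = n60777 := d1_3 (iv4 D60777) F97406 D62139
theorem F97412 : act 2 n60931 = n60778 := d2_3 (iv5 D60778) F97406 (iv5 F97403)
theorem F97413 : act 2 n62141 = n60779 := d3_3 (iv6 D60779) F97406 D62141
theorem E8808 : n62145 = n60932 := ((c15_2 (iv0 D60931) D60932 F97410 (iv2 F97412))).symm
theorem F97414 : act 5 n60932 = n29419 := (sb E8808 (iv5 D62145))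
theorem F97415 : act 7 n60932 = n60778 := (sb E8808 F97410)
theorem F97416 : act 2 n60773 = n60932 := d2_3 F97414 F97404 D60773
theorem F97417 : act 7 n60931 = n60773 := d4_0 F97416 F97415 (iv2 F97412)
theorem E8809 : n62275 = n60778 := (c15_2 (iv0 F95909) D62275 (iv7 F97415) (iv2 F97416))
theorem F97418 : act 0 n60778 = n29467 := (sb E8809 (iv1 D62275))
theorem F97419 : act 1 n60778 = n60929 := (sb E8809 F97092)
theorem F97420 : act 2 n62144 = n60772 := d4_3 F97402 F97411 (iv7 F97409)
theorem F97421 : act 7 n60771 = n62138 := d8_2 F97405 D60771 (iv3 D62138)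
theorem F97422 : act 2 n60774 = n62146 := d3_3 (iv6 D62146) F97404 D60774
theorem F97423 : act 2 n62492 = n61418 := d2_1 F97398 (iv5 D61418) (iv2 F47373)
def n62493 : Q := act 6 n29535
theorem D62493 : act 6 n29535 = n62493 := rfl
theorem F97424 : act 2 n62493 = n61419 := d3_1 D62493 (iv6 D61419) (iv2 F47373)
theorem F97425 : act 4 n62493 = n29536 := d10_1 D62493 (iv6 D29536) D29535
def n62494 : Q := act 0 n29536
theorem D62494 : act 0 n29536 = n62494 := rfl
def n62495 : Q := act 1 n29536
theorem D62495 : act 1 n29536 = n62495 := rfl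
theorem F97426 : act 1 n62495 = n61422 := d15_1 D62495 (iv7 D61422) (iv2 F47376)
def n62496 : Q := act 7 n29536
theorem D62496 : act 7 n29536 = n62496 := rfl
theorem F97427 : act 2 n62496 = n61422 := d4_1 D62496 (iv7 D61422) (iv2 F47376)
theorem F97428 : act 6 n62496 = n29626 := d14_1 D62496 F83876 F24099 (iv7 F26007) D29536
theorem F97429 : act 1 n61422 = n62494 := d15_0 (iv0 D62494) D62496 F97427
theorem F97430 : act 1 n61421 = n62496 := d15_1 D61421 (iv7 D62496) F47376
theorem F97431 : act 1 n62496 = n61420 := d15_0 (iv0 D61420) D61422 (iv2 F97427)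
def n62497 : Q := act 3 n29537
theorem D62497 : act 3 n29537 = n62497 := rfl
theorem F97432 : act 7 n62497 = n61417 := d8_2 (iv7 F47378) D62497 (iv3 D61417)
def n62498 : Q := act 5 n29537
theorem D62498 : act 5 n29537 = n62498 := rfl
theorem F97433 : act 2 n62498 = n61415 := d2_1 D62498 (iv5 F95905) (iv2 F47377)
theorem F97434 : act 4 n62498 = n60706 := d9_1 D62498 (iv5 D60706) (iv4 F48278) F48277 F37795 F23860 D29535 F97398 F97395 (iv5 D60709) (iv4 F46710) F46709 (iv4 D25057) F23932 D29537
theorem F97435 : act 7 n62498 = n61418 := d13_2 (iv7 F47378) D62498 (iv5 D61418)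
theorem F97436 : act 0 n62498 = n30089 := d17_2 F47379 D62498 (iv5 D30089) F45609 (iv5 F76569) (iv0 F76571) F49174 (iv0 D29317) D29319
theorem F97437 : act 1 n62498 = n30086 := d17_6 D6807 D14279 (iv1 F23835) F23932 D29537 D62498 (iv5 D30086) (iv0 D14281) (iv4 D6809)
def n62499 : Q := act 6 n29537
theorem D62499 : act 6 n29537 = n62499 := rfl
theorem F97438 : act 2 n62499 = n30411 := d3_1 D62499 F48844 (iv2 F47377)
theorem F97439 : act 4 n62499 = n29538 := d10_1 D62499 (iv6 D29538) D29537
def n62500 : Q := act 3 n29539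
theorem D62500 : act 3 n29539 = n62500 := rfl
theorem F97440 : act 7 n62500 = n61423 := d8_2 (iv7 F47389) D62500 (iv3 D61423)
theorem F97441 : act 0 n62500 = n62320 := d19_4 F39705 (iv5 F77752) F77753 D62500 (iv5 D62320) (iv4 D29482) (iv3 D14016) (iv1 F10818) (iv5 F10957) (iv4 D6718) (iv3 F10946) (iv1 F26538) F18715 F8101 (iv3 F7908) (iv1 F8412) (iv5 F8414) (iv4 F18021) (iv3 F36938)
def n62501 : Q := act 5 n29539
theorem D62501 : act 5 n29539 = n62501 := rfl
theorem F97442 : act 2 n62501 = n61427 := d2_1 D62501 (iv5 D61427) F47388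
theorem F97443 : act 7 n62501 = n61424 := d13_2 (iv7 F47389) D62501 (iv5 D61424)
theorem F97444 : act 4 n62501 = n60701 := d16_2 F77753 D62501 (iv5 D60701) (iv4 D28807) (iv5 F23870) D25214 (iv5 F46490) F46970 F77754
theorem F97445 : act 0 n62501 = n30079 := d17_2 D29539 D62501 (iv5 D30079) (iv4 D14278) D14279 F23836 F23860 (iv0 D14032) D14034
theorem F97446 : act 1 n62501 = n29874 := d17_6 (iv1 F45618) F36940 F39705 (iv5 F77752) F77753 D62501 (iv5 D29874) D29873 (iv4 F48021)
theorem F97447 : act 3 n61430 = n62501 := d5_5 F97444 (iv3 F95907) (iv4 D60772) D60771 F95929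
theorem F97448 : act 5 n62500 = n61430 := d6_0 F97447 (iv5 D62501) D62500
def n62502 : Q := act 6 n29539
theorem D62502 : act 6 n29539 = n62502 := rfl
theorem F97449 : act 2 n62502 = n61428 := d3_1 D62502 (iv6 D61428) F47388
def n62503 : Q := act 3 n29540
theorem D62503 : act 3 n29540 = n62503 := rfl
theorem F97450 : act 4 n62503 = n60823 := d5_2 (iv4 F47385) D62503 (iv3 D60823) (iv4 D28853) D28852
theorem F97451 : act 7 n62503 = n61426 := d8_2 F47387 D62503 (iv3 D61426)
def n62504 : Q := act 5 n29540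
theorem D62504 : act 5 n29540 = n62504 := rfl
theorem F97452 : act 2 n62504 = n61424 := d2_1 D62504 (iv5 D61424) F47386
theorem F97453 : act 4 n62504 = n60694 := d9_1 D62504 (iv5 D60694) (iv4 D28804) F23861 D25212 (iv5 F77752) F77753 D62501 F97444 (iv5 D60701) (iv4 D28807) (iv5 F23870) D25214 (iv5 F46490) (iv4 F47385)
theorem F97454 : act 7 n62504 = n61427 := d13_2 F47387 D62504 (iv5 D61427)
theorem F97455 : act 0 n62504 = n29874 := d17_2 (iv1 F47384) D62504 (iv5 D29874) (iv4 D14191) F10995 D11902 F23932 F23412 D14291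
theorem F97456 : act 1 n62504 = n30079 := d17_6 D28182 (iv5 F82068) (iv1 F82073) (iv5 F46490) (iv4 F47385) D62504 (iv5 D30079) (iv0 F45584) (iv4 D28183)
def n62505 : Q := act 6 n29540
theorem D62505 : act 6 n29540 = n62505 := rfl
theorem F97457 : act 2 n62505 = n61425 := d3_1 D62505 (iv6 D61425) F47386
theorem F97458 : act 4 n62505 = n60555 := d10_1 D62505 (iv6 F95169) (iv4 F47385)
theorem F97459 : act 0 n62505 = n29625 := d20_7 (iv4 F46738) (iv1 F47153) F47150 (iv3 F47134) (iv1 F47136) (iv3 F95170) (iv4 F97458) F47586 F23500 D14075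
def n62506 : Q := act 0 n29541
theorem D62506 : act 0 n29541 = n62506 := rfl
theorem F97460 : act 1 n61431 = n62506 := d15_0 (iv0 D62506) F47391 D61431
def n62507 : Q := act 1 n29541
theorem D62507 : act 1 n29541 = n62507 := rfl
theorem F97461 : act 3 n61424 = n62507 := d20_3 (iv4 F93716) (iv1 F96819) F96816 (iv1 D62507) (iv3 D29541) (iv4 D14034) D14032 D29535 D62492 F97397
theorem F97462 : act 4 n62138 = n62507 := d20_6 (iv4 D13976) (iv1 F10775) D6653 D13992 D29418 D62138 (iv1 D62507) F47390 (iv3 D14039) (iv1 F23283)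
theorem F97463 : act 7 n62507 = n61430 := d11_2 F97421 F97462 (iv4 F95929)
theorem F97464 : act 0 n61431 = n62507 := d20_7 (iv4 F95322) (iv1 F96840) (iv4 F96836) (iv3 D61354) (iv1 F47595) F47593 (iv4 F95930) (iv4 F97462) (iv3 D62138) (iv1 F47137)
theorem F97465 : act 5 n61423 = n62507 := d13_3 F97463 (iv5 F97448) F97440
theorem F97466 : act 2 n61430 = n62506 := d15_3 (iv0 D62506) D62507 F97463
theorem F97467 : act 2 n62507 = n61429 := d15_3 (iv0 D61429) D61430 (iv7 F97463)
theorem F97468 : act 7 n61429 = n62506 := d4_2 (iv7 F97463) F97467 (iv2 F97466)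
theorem F97469 : act 5 n29555 = n61100 := d17_1 (iv1 F47419) (iv1 D61100) (iv5 D28951) D28950 D61097 (iv0 F95923) F97465 (iv0 F97464) F95930
def n62508 : Q := act 2 n29541
theorem D62508 : act 2 n29541 = n62508 := rfl
theorem F97470 : act 4 n62508 = n29556 := d1_2 (iv4 F47390) D62508 (iv2 D29556)
theorem F97471 : act 7 n62508 = n61431 := d4_2 (iv7 F47391) D62508 (iv2 D61431)
theorem F97472 : act 1 n62508 = n61429 := d15_0 (iv0 D61429) (iv7 F47391) D62508
theorem F97473 : act 1 n61430 = n62508 := d15_0 F97472 F97468 (iv2 F97466)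
theorem E8810 : n62323 = n61454 := ((c17_2 (iv1 F47420) D61454 (iv1 D62323) (iv5 D29483) D29482 D62320 (iv0 F97441) F97448 F97473 F97470)).symm
theorem F97474 : act 0 n61454 = n29483 := (sb E8810 (iv1 D62323))
theorem F97475 : act 1 n61454 = n61093 := (sb E8810 F97188)
def n62509 : Q := act 5 n29541
theorem D62509 : act 5 n29541 = n62509 := rfl
theorem F97476 : act 3 n62509 = n29542 := d6_1 D62509 (iv5 D29542) D29541
theorem F97477 : act 7 n62509 = n61432 := d13_2 (iv7 F47391) D62509 (iv5 D61432)
def n62510 : Q := act 6 n29541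
theorem D62510 : act 6 n29541 = n62510 := rfl
theorem F97478 : act 3 n62510 = n29543 := d7_1 D62510 (iv6 D29543) D29541
theorem F97479 : act 4 n62510 = n29557 := d10_1 D62510 (iv6 D29557) (iv4 F47390)
def n62511 : Q := act 6 n29542
theorem D62511 : act 6 n29542 = n62511 := rfl
def n62512 : Q := act 0 n29543
theorem D62512 : act 0 n29543 = n62512 := rfl
def n62513 : Q := act 1 n29543
theorem D62513 : act 1 n29543 = n62513 := rfl
def n62514 : Q := act 5 n29543
theorem D62514 : act 5 n29543 = n62514 := rfl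
def n62515 : Q := act 7 n29543
theorem D62515 : act 7 n29543 = n62515 := rfl
theorem F97480 : act 4 n62515 = n29546 := d11_1 D62515 (iv7 D29546) (iv4 F47393)
theorem F97481 : act 6 n62515 = n61437 := d14_1 D62515 (iv7 D61437) (iv6 D29081) (iv7 F23413) D29543
def n62516 : Q := act 2 n29544
theorem D62516 : act 2 n29544 = n62516 := rfl
theorem F97482 : act 6 n62516 = n61324 := d3_2 F79781 D62516 (iv2 D61324)
theorem F97483 : act 7 n29545 = n62516 := d15_2 (iv0 D29544) D29545 (iv2 D62516)
def n62517 : Q := act 3 n29544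
theorem D62517 : act 3 n29544 = n62517 := rfl
theorem F97484 : act 6 n62517 = n61325 := d7_2 F79781 D62517 (iv3 D61325)
def n62518 : Q := act 4 n29544
theorem D62518 : act 4 n29544 = n62518 := rfl
theorem F97485 : act 6 n62518 = n61326 := d10_2 F79781 D62518 (iv4 D61326)
def n62519 : Q := act 7 n29544
theorem D62519 : act 7 n29544 = n62519 := rfl
theorem F97486 : act 2 n62519 = n29545 := d4_1 D62519 F97483 (iv2 D62516)
def n62520 : Q := act 3 n29545
theorem D62520 : act 3 n29545 = n62520 := rfl
def n62521 : Q := act 4 n29545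
theorem D62521 : act 4 n29545 = n62521 := rfl
def n62522 : Q := act 6 n29545
theorem D62522 : act 6 n29545 = n62522 := rfl
theorem F97487 : act 5 n62522 = n61330 := d12_1 D62522 (iv6 D61330) (iv5 F81327) F81326 F79778
theorem F97488 : act 7 n62522 = n61330 := d14_2 (iv7 F97483) D62522 (iv6 D61330) F95807 (iv6 F97482)
def n62523 : Q := act 5 n29547
theorem D62523 : act 5 n29547 = n62523 := rfl
theorem F97489 : act 7 n62523 = n61349 := d13_2 (iv7 F47397) D62523 (iv5 D61349)
theorem F97490 : act 0 n62523 = n29843 := d17_2 (iv1 F47398) D62523 (iv5 D29843) F46993 (iv5 F78071) F78074 (iv5 F46937) (iv0 D29302) D29304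
theorem F97491 : act 1 n62523 = n29846 := d17_6 (iv1 F23656) (iv5 F18865) F38346 (iv5 F23416) D29547 D62523 (iv5 D29846) F47927 F47926
def n62524 : Q := act 6 n29547
theorem D62524 : act 6 n29547 = n62524 := rfl
theorem F97492 : act 4 n62524 = n29548 := d10_1 D62524 (iv6 D29548) D29547
def n62525 : Q := act 0 n29548
theorem D62525 : act 0 n29548 = n62525 := rfl
def n62526 : Q := act 1 n29548
theorem D62526 : act 1 n29548 = n62526 := rfl
def n62527 : Q := act 7 n29548
theorem D62527 : act 7 n29548 = n62527 := rfl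
theorem F97493 : act 3 n62527 = n29551 := d8_1 D62527 (iv7 D29551) (iv3 F47399)
theorem F97494 : act 5 n62527 = n30554 := d13_1 D62527 (iv7 D30554) (iv5 F47400)
theorem F97495 : act 6 n62527 = n29636 := d14_1 D62527 F47608 F24342 (iv7 F23417) D29548
def n62528 : Q := act 3 n29549
theorem D62528 : act 3 n29549 = n62528 := rfl
theorem F97496 : act 5 n62528 = n31033 := d6_2 (iv5 F47401) D62528 F49442
theorem F97497 : act 7 n62528 = n61346 := d8_2 (iv7 F49053) D62528 (iv3 D61346)
def n62529 : Q := act 3 n29550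
theorem D62529 : act 3 n29550 = n62529 := rfl
theorem F97498 : act 6 n62529 = n61346 := d7_2 F49049 D62529 (iv3 D61346)
def n62530 : Q := act 5 n29553
theorem D62530 : act 5 n29553 = n62530 := rfl
theorem F97500 : act 7 n62530 = n61332 := d13_2 (iv7 F47414) D62530 (iv5 D61332)
theorem F97501 : act 1 n62530 = n60580 := d17_6 D14210 (iv5 F39100) (iv1 F39104) (iv5 F23420) D29553 D62530 (iv5 D60580) (iv0 F46410) (iv4 D14211)
def n62531 : Q := act 2 n29554
theorem D62531 : act 2 n29554 = n62531 := rfl
theorem F97502 : act 7 n29555 = n62531 := d15_2 (iv0 D29554) D29555 (iv2 D62531)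
def n62532 : Q := act 3 n29554
theorem D62532 : act 3 n29554 = n62532 := rfl
theorem F97503 : act 4 n62532 = n60839 := d20_6 F22996 (iv1 D6673) D6674 D14039 D29554 D62532 (iv1 D60839) F46496 (iv3 D13760) (iv1 F22995)
def n62533 : Q := act 4 n29554
theorem D62533 : act 4 n29554 = n62533 := rfl
def n62534 : Q := act 5 n29554
theorem D62534 : act 5 n29554 = n62534 := rfl
def n62535 : Q := act 6 n29554
theorem D62535 : act 6 n29554 = n62535 := rfl
def n62536 : Q := act 7 n29554
theorem D62536 : act 7 n29554 = n62536 := rfl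
def n62537 : Q := act 3 n29555
theorem D62537 : act 3 n29555 = n62537 := rfl
def n62538 : Q := act 4 n29555
theorem D62538 : act 4 n29555 = n62538 := rfl
def n62539 : Q := act 6 n29555
theorem D62539 : act 6 n29555 = n62539 := rfl
def n62540 : Q := act 6 n29556
theorem D62540 : act 6 n29556 = n62540 := rfl
theorem F97505 : act 2 n62540 = n29557 := d3_1 D62540 (iv6 D29557) D29556
theorem F97506 : act 3 n62540 = n61363 := d7_1 D62540 (iv6 D61363) (iv3 F47416)
def n62541 : Q := act 0 n29557
theorem D62541 : act 0 n29557 = n62541 := rfl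
def n62542 : Q := act 1 n29557
theorem D62542 : act 1 n29557 = n62542 := rfl
def n62543 : Q := act 5 n29557
theorem D62543 : act 5 n29557 = n62543 := rfl
theorem F97507 : act 3 n62543 = n29560 := d6_1 D62543 (iv5 D29560) (iv3 F47421)
def n62544 : Q := act 7 n29557
theorem D62544 : act 7 n29557 = n62544 := rfl
theorem F97508 : act 3 n62544 = n29561 := d8_1 D62544 (iv7 D29561) (iv3 F47421)
theorem F97509 : act 6 n62544 = n61460 := d14_1 D62544 (iv7 D61460) (iv6 D29089) (iv7 F23423) D29557
def n62545 : Q := act 4 n29560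
theorem D62545 : act 4 n29560 = n62545 := rfl
theorem F97510 : act 2 n62545 = n61368 := d1_1 D62545 (iv4 D61368) (iv2 F47423)
def n62546 : Q := act 7 n29560
theorem D62546 : act 7 n29560 = n62546 := rfl
def n62547 : Q := act 0 n29562
theorem D62547 : act 0 n29562 = n62547 := rfl
def n62548 : Q := act 1 n29562
theorem D62548 : act 1 n29562 = n62548 := rfl
def n62549 : Q := act 2 n29562
theorem D62549 : act 2 n29562 = n62549 := rfl
theorem F97516 : act 3 n62549 = n61372 := d0_2 D29562 D62549 (iv2 D61372) (iv3 D29051) F39387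
theorem F97517 : act 5 n62549 = n51629 := d2_2 (iv5 F47430) D62549 (iv2 D51629)
theorem F97518 : act 6 n62549 = n61372 := d3_2 (iv6 F47431) D62549 (iv2 D61372)
theorem F97519 : act 7 n62549 = n61377 := d4_2 (iv7 F47432) D62549 (iv2 D61377)
def n62550 : Q := act 4 n29562
theorem D62550 : act 4 n29562 = n62550 := rfl
theorem F97523 : act 6 n62550 = n61373 := d10_2 (iv6 F47431) D62550 (iv4 D61373)
theorem F97524 : act 7 n62550 = n61378 := d11_2 (iv7 F47432) D62550 (iv4 D61378)
def n62551 : Q := act 0 n29564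
theorem D62551 : act 0 n29564 = n62551 := rfl
theorem F97525 : act 1 n61372 = n62551 := d15_0 (iv0 D62551) F47437 D61372
def n62552 : Q := act 1 n29564
theorem D62552 : act 1 n29564 = n62552 := rfl
def n62553 : Q := act 2 n29564
theorem D62553 : act 2 n29564 = n62553 := rfl
theorem F97526 : act 3 n62553 = n61377 := d0_2 D29564 D62553 (iv2 D61377) (iv3 D29053) (iv2 F39386)
theorem F97527 : act 5 n62553 = n51624 := d2_2 (iv5 F47436) D62553 (iv2 D51624)
theorem F97528 : act 7 n62553 = n61372 := d4_2 (iv7 F47437) D62553 (iv2 D61372)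
theorem F97529 : act 1 n62553 = n61370 := d15_0 (iv0 D61370) (iv7 F47437) D62553
theorem F97530 : act 1 n62552 = n61372 := d15_1 D62552 (iv7 F97528) (iv2 D62553)
theorem F97531 : act 1 n61371 = n62553 := d15_1 D61371 F97528 (iv2 D61372)
def n62554 : Q := act 4 n29564
theorem D62554 : act 4 n29564 = n62554 := rfl
theorem F97532 : act 7 n62554 = n61373 := d11_2 (iv7 F47437) D62554 (iv4 D61373)
def n62555 : Q := act 6 n29564
theorem D62555 : act 6 n29564 = n62555 := rfl
theorem F97533 : act 3 n62555 = n29566 := d7_1 D62555 (iv6 D29566) D29564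
theorem F97534 : act 5 n62555 = n61379 := d12_1 D62555 (iv6 D61379) F46693 (iv6 F39372) (iv5 F47436)
theorem F97535 : act 7 n62555 = n61379 := d14_2 (iv7 F47437) D62555 (iv6 D61379) (iv7 F47432) F47431
def n62556 : Q := act 5 n29570
theorem D62556 : act 5 n29570 = n62556 := rfl
theorem F97536 : act 2 n62556 = n55278 := d2_1 D62556 (iv5 D55278) (iv2 F47454)
theorem F97537 : act 3 n62556 = n29604 := d6_1 D62556 (iv5 D29604) (iv3 F47455)
theorem F97538 : act 7 n62556 = n55283 := d13_2 (iv7 F47456) D62556 (iv5 D55283)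
theorem F97539 : act 1 n62556 = n61651 := d17_6 D26385 D54563 F86241 F46801 D29570 D62556 (iv5 D61651) (iv0 F46870) F39971
def n62557 : Q := act 0 n29573
theorem D62557 : act 0 n29573 = n62557 := rfl
theorem F97540 : act 5 n62557 = n33525 := d17_1 D62557 (iv1 F52845) (iv5 D32212) (iv4 F27008) D32970 F54106 F25602 (iv0 F54104) (iv4 F47459)
theorem F97541 : act 6 n62557 = n31691 := d21_5 D13874 D29148 F54008 D29573 D62557 (iv5 F52573) F54204 F25766 F53968 (iv1 D13872)
theorem F97542 : act 2 n31692 = n62557 := d15_3 (iv0 D62557) F54105 (iv7 F49974)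
theorem F97543 : act 1 n32647 = n62557 := d15_0 (iv0 D62557) (iv7 F54548) F54545
theorem F97544 : act 7 n62557 = n32641 := d15_2 D32647 F97543 F51701
theorem F97545 : act 3 n48883 = n62557 := d8_3 F97544 (iv3 F52531) (iv7 F77003)
def n62558 : Q := act 0 n29581
theorem D62558 : act 0 n29581 = n62558 := rfl
theorem F97546 : act 4 n62558 = n50023 := d18_3 F50799 D29581 D62558 F79162 F46099 F54033 (iv4 F10910) F53982 D16115
theorem F97549 : act 7 n50026 = n62558 := d11_0 F97546 F79161 D50026
def n62559 : Q := act 1 n29581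
theorem D62559 : act 1 n29581 = n62559 := rfl
theorem F97552 : act 4 n62559 = n48939 := d18_7 (iv1 F55509) F55511 F45548 F22377 D14051 D29581 D62559 F77172 (iv5 D24398)
def n62560 : Q := act 5 n29581
theorem D62560 : act 5 n29581 = n62560 := rfl
theorem F97554 : act 7 n62560 = n61491 := d13_2 (iv7 F47470) D62560 (iv5 D61491)
def n62561 : Q := act 6 n29581
theorem D62561 : act 6 n29581 = n62561 := rfl
theorem F97555 : act 4 n62561 = n29582 := d10_1 D62561 (iv6 D29582) D29581
def n62562 : Q := act 0 n29582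
theorem D62562 : act 0 n29582 = n62562 := rfl
def n62563 : Q := act 1 n29582
theorem D62563 : act 1 n29582 = n62563 := rfl
def n62564 : Q := act 7 n29582
theorem D62564 : act 7 n29582 = n62564 := rfl
theorem F97556 : act 3 n62564 = n29585 := d8_1 D62564 (iv7 D29585) (iv3 F47471)
theorem F97557 : act 6 n62564 = n61495 := d14_1 D62564 (iv7 D61495) (iv6 D29111) (iv7 F23448) D29582
def n62565 : Q := act 2 n29583
theorem D62565 : act 2 n29583 = n62565 := rfl
theorem F97558 : act 7 n29584 = n62565 := d15_2 (iv0 D29583) D29584 (iv2 D62565)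
def n62566 : Q := act 3 n29583
theorem D62566 : act 3 n29583 = n62566 := rfl
def n62567 : Q := act 4 n29583
theorem D62567 : act 4 n29583 = n62567 := rfl
def n62568 : Q := act 5 n29583
theorem D62568 : act 5 n29583 = n62568 := rfl
def n62569 : Q := act 6 n29583
theorem D62569 : act 6 n29583 = n62569 := rfl
theorem F97559 : act 5 n62569 = n55634 := d21_6 F23133 (iv1 D6679) D6681 D14052 D29583 D62569 (iv1 D55634) F43304 (iv6 D13870) D13868
def n62570 : Q := act 7 n29583
theorem D62570 : act 7 n29583 = n62570 := rfl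
theorem F97560 : act 2 n62570 = n29584 := d4_1 D62570 F97558 (iv2 D62565)
def n62571 : Q := act 3 n29584
theorem D62571 : act 3 n29584 = n62571 := rfl
def n62572 : Q := act 4 n29584
theorem D62572 : act 4 n29584 = n62572 := rfl
def n62573 : Q := act 6 n29584
theorem D62573 : act 6 n29584 = n62573 := rfl
def n62574 : Q := act 6 n29587
theorem D62574 : act 6 n29587 = n62574 := rfl
theorem F97561 : act 2 n62574 = n61236 := d3_1 D62574 (iv6 D61236) F47485
theorem F97562 : act 3 n62574 = n29823 := d7_1 D62574 F47991 F47486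
theorem F97563 : act 5 n62574 = n29813 := d12_1 D62574 (iv6 D29813) (iv5 D14165) D14166 (iv5 F47484)
def n62575 : Q := act 0 n29588
theorem D62575 : act 0 n29588 = n62575 := rfl
theorem F97564 : act 4 n62575 = n31512 := d18_3 (iv1 D29587) D29588 D62575 (iv5 D31512) (iv4 F38561) F38559 (iv4 F38596) (iv0 F38984) (iv5 F47484)
theorem F97565 : act 2 n31513 = n62575 := d15_3 (iv0 D62575) F47488 (iv7 F49848)
theorem F97566 : act 1 n30212 = n62575 := d15_0 (iv0 D62575) F47487 (iv2 F48600)
theorem F97567 : act 7 n62575 = n49723 := d15_2 (iv0 F48601) F97566 F78585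
theorem F97568 : act 6 n62575 = n59510 := d3_2 F50068 F97565 F93934
def n62576 : Q := act 3 n29588
theorem D62576 : act 3 n29588 = n62576 := rfl
theorem F97569 : act 4 n62576 = n29596 := d5_2 D29588 D62576 (iv3 D29596) (iv4 D14057) (iv3 F23450)
theorem F97570 : act 7 n62576 = n61238 := d8_2 (iv7 F47487) D62576 (iv3 D61238)
def n62577 : Q := act 5 n29588
theorem D62577 : act 5 n29588 = n62577 := rfl
theorem F97571 : act 2 n62577 = n49768 := d2_1 D62577 F79297 F79293
theorem F97572 : act 7 n62577 = n49767 := d13_2 (iv7 F47487) D62577 F78625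
theorem F97573 : act 4 n62577 = n53113 := d16_2 D29588 D62577 (iv5 D53113) (iv4 D25766) (iv5 D12233) (iv4 F11111) D14341 (iv7 F38311) F38309
theorem F97574 : act 0 n62577 = n49713 := d17_2 (iv1 F47488) D62577 (iv5 D49713) (iv4 D24245) (iv5 D11408) D11407 D24243 F38008 D28867
theorem F97575 : act 1 n62577 = n49771 := d17_6 (iv1 F38592) F38323 (iv1 F19515) D14053 D29588 D62577 F78630 (iv0 F48618) (iv4 D30230)
def n62578 : Q := act 6 n29588
theorem D62578 : act 6 n29588 = n62578 := rfl
theorem F97576 : act 4 n62578 = n29589 := d10_1 D62578 (iv6 D29589) D29588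
theorem F97577 : act 0 n53845 = n62578 := d21_4 D30379 (iv1 F84882) (iv5 D53844) D53845 (iv6 D62578) D62577 F97574 (iv5 D49713) F38014 F24080
def n62579 : Q := act 0 n29589
theorem D62579 : act 0 n29589 = n62579 := rfl
def n62580 : Q := act 5 n29589
theorem D62580 : act 5 n29589 = n62580 := rfl
theorem F97578 : act 2 n62580 = n61297 := d2_1 D62580 F95782 F79299
theorem F97579 : act 3 n62580 = n29601 := d6_1 D62580 (iv5 D29601) (iv3 F47489)
theorem F97580 : act 6 n62580 = n29590 := d12_2 D29589 D62580 (iv5 D29590) (iv6 D14054) D14053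
theorem F97581 : act 4 n62032 = n62580 := d10_3 F97580 F47493 D62032
def n62581 : Q := act 7 n29589
theorem D62581 : act 7 n29589 = n62581 := rfl
theorem F97582 : act 3 n62581 = n29602 := d8_1 D62581 (iv7 D29602) (iv3 F47489)
theorem F97583 : act 6 n62581 = n61242 := d14_1 D62581 (iv7 D61242) (iv6 D28993) (iv7 F23451) D29589
theorem F97584 : act 1 n30265 = n62581 := d15_1 (iv0 F79301) (iv7 D62581) (iv2 F79299)
def n62582 : Q := act 3 n29591
theorem D62582 : act 3 n29591 = n62582 := rfl
theorem F97585 : act 7 n62582 = n61243 := d8_2 (iv7 F47500) D62582 (iv3 D61243)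
def n62583 : Q := act 4 n29592
theorem D62583 : act 4 n29592 = n62583 := rfl
theorem F97586 : act 2 n62583 = n49906 := d1_1 D62583 F78944 F48164
theorem F97587 : act 7 n62583 = n49907 := d11_2 (iv7 F47504) D62583 F78947
theorem F97588 : act 0 n62583 = n49889 := d18_2 F47505 D62583 (iv4 D49889) (iv5 D24328) (iv4 F23686) (iv0 F23689) (iv4 F19933) (iv0 F19939) D16494
theorem F97589 : act 1 n62583 = n49888 := d18_6 F39769 (iv4 F37101) F38727 (iv4 F23810) (iv5 F47503) D62583 (iv4 D49888) D49887 F78882
def n62584 : Q := act 6 n29592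
theorem D62584 : act 6 n29592 = n62584 := rfl
theorem F97590 : act 3 n62584 = n29594 := d7_1 D62584 (iv6 D29594) D29592
theorem F97591 : act 5 n62584 = n30059 := d12_1 D62584 (iv6 D30059) (iv5 D14264) D14265 (iv5 F47503)
def n62585 : Q := act 3 n29593
theorem D62585 : act 3 n29593 = n62585 := rfl
theorem F97592 : act 7 n62585 = n61250 := d8_2 (iv7 F47508) D62585 (iv3 D61250)
def n62586 : Q := act 6 n29593
theorem D62586 : act 6 n29593 = n62586 := rfl
theorem F97593 : act 2 n62586 = n61245 := d3_1 D62586 (iv6 D61245) (iv2 F47507)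
theorem F97594 : act 4 n62586 = n29594 := d10_1 D62586 (iv6 D29594) D29593
def n62587 : Q := act 0 n29594
theorem D62587 : act 0 n29594 = n62587 := rfl
def n62588 : Q := act 1 n29594
theorem D62588 : act 1 n29594 = n62588 := rfl
theorem F97595 : act 1 n62588 = n61248 := d15_1 D62588 (iv7 D61248) (iv2 F47511)
def n62589 : Q := act 7 n29594
theorem D62589 : act 7 n29594 = n62589 := rfl
theorem F97596 : act 2 n62589 = n61248 := d4_1 D62589 (iv7 D61248) (iv2 F47511)
theorem F97597 : act 5 n62589 = n49292 := d13_1 D62589 (iv7 D49292) (iv5 F47512)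
theorem F97598 : act 6 n62589 = n30346 := d14_1 D62589 (iv7 F82703) (iv6 D28998) (iv7 F23459) D29594
theorem F97599 : act 1 n61248 = n62587 := d15_0 (iv0 D62587) D62589 F97596
theorem F97600 : act 1 n61247 = n62589 := d15_1 D61247 (iv7 D62589) F47511
theorem F97601 : act 1 n62589 = n61246 := d15_0 (iv0 D61246) D61248 (iv2 F97596)
def n62590 : Q := act 3 n29595
theorem D62590 : act 3 n29595 = n62590 := rfl
theorem F97602 : act 7 n62590 = n61253 := d8_2 (iv7 F47516) D62590 (iv3 D61253)
def n62591 : Q := act 0 n29596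
theorem D62591 : act 0 n29596 = n62591 := rfl
theorem F97603 : act 1 n61260 = n62591 := d15_0 (iv0 D62591) F47517 D61260
def n62592 : Q := act 1 n29596
theorem D62592 : act 1 n29596 = n62592 := rfl
def n62593 : Q := act 2 n29596
theorem D62593 : act 2 n29596 = n62593 := rfl
theorem F97604 : act 7 n62593 = n61260 := d4_2 (iv7 F47517) D62593 (iv2 D61260)
theorem F97605 : act 1 n62593 = n61258 := d15_0 (iv0 D61258) (iv7 F47517) D62593
theorem F97606 : act 1 n62592 = n61260 := d15_1 D62592 (iv7 F97604) (iv2 D62593)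
theorem F97607 : act 1 n61259 = n62593 := d15_1 D61259 F97604 (iv2 D61260)
def n62594 : Q := act 5 n29596
theorem D62594 : act 5 n29596 = n62594 := rfl
theorem F97608 : act 3 n62594 = n29597 := d6_1 D62594 (iv5 D29597) D29596
theorem F97609 : act 7 n62594 = n61261 := d13_2 (iv7 F47517) D62594 (iv5 D61261)
def n62595 : Q := act 6 n29596
theorem D62595 : act 6 n29596 = n62595 := rfl
theorem F97610 : act 3 n62595 = n29598 := d7_1 D62595 (iv6 D29598) D29596
def n62596 : Q := act 6 n29597
theorem D62596 : act 6 n29597 = n62596 := rfl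
theorem F97611 : act 2 n62596 = n61293 := d3_1 D62596 (iv6 D61293) (iv2 F47518)
theorem F97612 : act 4 n62596 = n52116 := d10_1 D62596 (iv6 D52116) (iv4 F47520)
def n62597 : Q := act 0 n29598
theorem D62597 : act 0 n29598 = n62597 := rfl
def n62598 : Q := act 5 n29598
theorem D62598 : act 5 n29598 = n62598 := rfl
def n62599 : Q := act 7 n29598
theorem D62599 : act 7 n29598 = n62599 := rfl
theorem F97613 : act 4 n62599 = n29602 := d11_1 D62599 (iv7 D29602) (iv4 F47523)
theorem F97614 : act 6 n62599 = n61267 := d14_1 D62599 (iv7 D61267) (iv6 D29003) (iv7 F23462) D29598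
theorem F97615 : act 1 n53910 = n62599 := d15_1 (iv0 F85017) (iv7 D62599) (iv2 F82448)
def n62600 : Q := act 4 n29599
theorem D62600 : act 4 n29599 = n62600 := rfl
theorem F97616 : act 7 n62600 = n31378 := d11_2 (iv7 F82465) D62600 (iv4 F82455)
def n62601 : Q := act 5 n29599
theorem D62601 : act 5 n29599 = n62601 := rfl
theorem F97617 : act 3 n62601 = n29833 := d6_1 D62601 F53595 F82466
theorem F97618 : act 7 n62601 = n29826 := d13_2 (iv7 F82465) D62601 F82452
def n62602 : Q := act 6 n29599
theorem D62602 : act 6 n29599 = n62602 := rfl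
theorem F97619 : act 3 n62602 = n30677 := d7_1 D62602 F53596 F82466
theorem F97620 : act 7 n62602 = n30342 := d14_2 (iv7 F82465) D62602 (iv6 D30342) (iv7 F40912) F82451
theorem F97621 : act 5 n62602 = n58849 := d21_6 F19950 (iv1 F8805) D6683 D14058 D29599 D62602 (iv1 F93065) F76499 (iv6 D25346) (iv1 F19952)
def n62603 : Q := act 0 n29601
theorem D62603 : act 0 n29601 = n62603 := rfl
def n62604 : Q := act 1 n29601
theorem D62604 : act 1 n29601 = n62604 := rfl
def n62605 : Q := act 4 n29601
theorem D62605 : act 4 n29601 = n62605 := rfl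
theorem F97622 : act 2 n62605 = n61855 := d1_1 D62605 F96426 F77877
theorem F97623 : act 6 n62605 = n29603 := d10_2 (iv6 F47525) D62605 (iv4 D29603)
def n62606 : Q := act 7 n29601
theorem D62606 : act 7 n29601 = n62606 := rfl
theorem F97624 : act 5 n62606 = n29602 := d13_1 D62606 (iv7 D29602) D29601
def n62607 : Q := act 3 n29603
theorem D62607 : act 3 n29603 = n62607 := rfl
theorem F97625 : act 4 n62607 = n62031 := d5_2 D29603 D62607 (iv3 D62031) (iv4 F47493) F47491
theorem F97626 : act 7 n62607 = n61856 := d8_2 (iv7 F47528) D62607 (iv3 D61856)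
def n62608 : Q := act 6 n29604
theorem D62608 : act 6 n29604 = n62608 := rfl
theorem F97627 : act 2 n62608 = n61278 := d3_1 D62608 (iv6 D61278) (iv2 F47531)
def n62609 : Q := act 2 n29605
theorem D62609 : act 2 n29605 = n62609 := rfl
theorem F97628 : act 3 n62609 = n55279 := d0_2 D29605 D62609 F87483 F42826 (iv2 F23468)
theorem F97629 : act 4 n62609 = n43429 := d1_2 F47544 D62609 F83007
theorem F97630 : act 7 n62609 = n55277 := d4_2 (iv7 F47535) D62609 F87477
theorem F97631 : act 1 n62609 = n61276 := d15_0 (iv0 D61276) (iv7 F47535) D62609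
theorem F97632 : act 1 n35911 = n62609 := d15_0 F97631 F95745 F83224
theorem F97633 : act 6 n43427 = n62609 := d10_0 F97629 (iv6 D43429) D43427
def n62610 : Q := act 5 n29605
theorem D62610 : act 5 n29605 = n62610 := rfl
theorem F97634 : act 3 n62610 = n29606 := d6_1 D62610 (iv5 D29606) D29605
theorem F97635 : act 7 n62610 = n61277 := d13_2 (iv7 F47535) D62610 (iv5 D61277)
theorem F97636 : act 0 n62610 = n46140 := d21_1 D62610 (iv5 D46140) (iv6 D22072) F16711 D19986 D42354 (iv1 F82933) (iv5 D52485) D52486 F82868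
def n62611 : Q := act 6 n29605
theorem D62611 : act 6 n29605 = n62611 := rfl
theorem F97637 : act 2 n62611 = n43427 := d3_1 D62611 F97633 (iv2 D62609)
theorem F97638 : act 3 n62611 = n29607 := d7_1 D62611 (iv6 D29607) D29605
theorem F97639 : act 4 n62611 = n42403 := d10_1 D62611 F82999 F47544
theorem F97640 : act 7 n62611 = n43432 := d14_2 (iv7 F47535) D62611 (iv6 F83003) F55326 F51391
theorem F97641 : act 0 n42127 = n62611 := d21_4 (iv5 D9428) (iv1 F14649) (iv5 F31718) D42127 (iv6 D62611) D62610 F97636 (iv5 D46140) (iv6 D22072) F16711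
def n62612 : Q := act 6 n29606
theorem D62612 : act 6 n29606 = n62612 := rfl
theorem F97642 : act 2 n62612 = n61275 := d3_1 D62612 (iv6 D61275) (iv2 F47536)
def n62613 : Q := act 0 n29608
theorem D62613 : act 0 n29608 = n62613 := rfl
theorem F97643 : act 3 n62613 = n49296 := d20_5 (iv4 D13441) F18420 (iv4 F23483) D29608 D62613 F95756 (iv1 D61282) F46649 (iv3 D29008) F23063
theorem F97644 : act 4 n62613 = n49204 := d20_0 (iv1 D49204) (iv4 F37664) (iv3 D24064) (iv1 F18440) (iv3 F27010) (iv4 D13441) F18420 (iv4 F23483) D29608 D62613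
theorem F97645 : act 1 n61283 = n62613 := d15_0 (iv0 D62613) F47545 D61283
def n62614 : Q := act 1 n29608
theorem D62614 : act 1 n29608 = n62614 := rfl
theorem F97646 : act 1 n62614 = n61283 := d15_1 D62614 F95760 F83007
theorem F97647 : act 4 n49203 = n62614 := d20_0 (iv1 D62614) F47544 (iv3 D29605) (iv1 F26404) (iv3 D11272) (iv4 D5198) D5196 D11267 D24013 D49203
def n62615 : Q := act 6 n29610
theorem D62615 : act 6 n29610 = n62615 := rfl
theorem F97648 : act 2 n62615 = n32347 := d3_1 D62615 (iv6 F82794) (iv2 F78774)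
theorem F97649 : act 4 n62615 = n31568 := d10_1 D62615 (iv6 F78771) F78770
theorem F97650 : act 0 n62615 = n32343 := d21_4 D29123 D61512 F96028 D62615 (iv6 D32343) D32342 F51361 (iv5 D25661) D25662 F54059
theorem F97651 : act 1 n62615 = n32349 := d15_1 (iv0 F97650) (iv7 D32349) (iv2 F51363)
theorem F97652 : act 7 n32346 = n62615 := d11_0 F97649 (iv7 F82318) F82319
def n62616 : Q := act 6 n29611
theorem D62616 : act 6 n29611 = n62616 := rfl
theorem F97653 : act 2 n62616 = n61288 := d3_1 D62616 (iv6 D61288) F78775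
theorem F97654 : act 3 n62616 = n51061 := d7_1 D62616 (iv6 D51061) (iv3 F78795)
def n62617 : Q := act 1 n29612
theorem D62617 : act 1 n29612 = n62617 := rfl
theorem F97655 : act 1 n62617 = n52896 := d15_1 D62617 (iv7 F87973) F87972
theorem F97656 : act 7 n62617 = n52874 := d15_2 (iv0 F50921) D62617 F83542
theorem F97657 : act 5 n62617 = n29668 := d17_7 (iv1 F26676) (iv5 F27118) F27119 (iv5 D14082) (iv4 F23485) D29612 D62617 (iv0 F54277) F54280
theorem F97658 : act 2 n52898 = n62617 := d2_3 F97657 (iv2 F54347) (iv5 F83588)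
def n62618 : Q := act 4 n29612
theorem D62618 : act 4 n29612 = n62618 := rfl
theorem F97659 : act 7 n62618 = n61290 := d11_2 (iv7 F47552) D62618 (iv4 D61290)
theorem F97660 : act 0 n62618 = n54808 := d18_2 (iv1 D62617) D62618 (iv4 D54808) (iv5 D26512) F21070 F26674 (iv4 F23551) D29668 (iv5 F97657)
def n62619 : Q := act 6 n29612
theorem D62619 : act 6 n29612 = n62619 := rfl
theorem F97661 : act 3 n62619 = n29615 := d7_1 D62619 (iv6 D29615) (iv3 F47551)
theorem F97662 : act 5 n62619 = n35959 := d12_1 D62619 (iv6 D35959) (iv5 D17409) F26888 D29612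
def n62620 : Q := act 3 n29613
theorem D62620 : act 3 n29613 = n62620 := rfl
theorem F97663 : act 2 n62620 = n43885 := d0_1 D62620 F78510 (iv2 F78509) F52299 F47556
theorem F97664 : act 5 n62620 = n29666 := d6_2 (iv5 F47555) D62620 (iv3 D29666)
theorem F97665 : act 7 n62620 = n43887 := d8_2 (iv7 F47554) D62620 F69008
def n62621 : Q := act 6 n29613
theorem D62621 : act 6 n29613 = n62621 := rfl
theorem F97666 : act 2 n62621 = n52804 := d3_1 D62621 (iv6 D52804) F47556
theorem F97667 : act 4 n62621 = n52193 := d10_1 D62621 (iv6 D52193) F47557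
theorem F97668 : act 5 n62621 = n52867 := d12_1 D62621 (iv6 D52867) F40551 F23550 (iv5 F47555)
def n62622 : Q := act 3 n29614
theorem D62622 : act 3 n29614 = n62622 := rfl
theorem F97669 : act 5 n62622 = n52110 := d6_2 (iv5 F47559) D62622 (iv3 D52110)
theorem F97670 : act 7 n62622 = n61292 := d8_2 (iv7 F47560) D62622 (iv3 D61292)
def n62623 : Q := act 6 n29614
theorem D62623 : act 6 n29614 = n62623 := rfl
theorem F97671 : act 2 n62623 = n61263 := d3_1 D62623 (iv6 D61263) (iv2 F47558)
theorem F97672 : act 4 n62623 = n29615 := d10_1 D62623 (iv6 D29615) D29614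
def n62624 : Q := act 0 n29615
theorem D62624 : act 0 n29615 = n62624 := rfl
def n62625 : Q := act 1 n29615
theorem D62625 : act 1 n29615 = n62625 := rfl
def n62626 : Q := act 7 n29615
theorem D62626 : act 7 n29615 = n62626 := rfl
theorem F97673 : act 6 n62626 = n61296 := d14_1 D62626 (iv7 D61296) (iv6 D29019) (iv7 F23487) D29615
def n62627 : Q := act 6 n29616
theorem D62627 : act 6 n29616 = n62627 := rfl
theorem F97674 : act 5 n62627 = n44059 := d12_1 D62627 (iv6 D44059) (iv5 F40323) F40321 D29616
def n62628 : Q := act 3 n29618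
theorem D62628 : act 3 n29618 = n62628 := rfl
theorem F97675 : act 4 n62628 = n62033 := d5_2 D29618 D62628 (iv3 D62033) (iv4 F47566) (iv3 D29617)
theorem F97676 : act 7 n62628 = n61298 := d8_2 (iv7 F47570) D62628 (iv3 D61298)
def n62629 : Q := act 5 n29618
theorem D62629 : act 5 n29618 = n62629 := rfl
theorem F97677 : act 2 n62629 = n61305 := d2_1 D62629 (iv5 D61305) (iv2 F47569)
theorem F97678 : act 7 n62629 = n61299 := d13_2 (iv7 F47570) D62629 (iv5 D61299)
theorem F97679 : act 4 n62629 = n60853 := d16_2 D29618 D62629 (iv5 D60853) (iv4 D28867) (iv5 D13759) (iv4 F11112) (iv5 F23493) (iv7 F23495) F23497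
theorem F97680 : act 0 n62629 = n53152 := d17_2 F93575 D62629 (iv5 D53152) (iv4 F40732) F45148 (iv0 F49161) F49160 (iv0 F47116) D59327
theorem F97681 : act 1 n62629 = n53149 := d17_6 (iv1 F20262) (iv5 F18977) (iv1 F38559) F38564 D29618 D62629 (iv5 D53149) (iv0 D25780) (iv4 D12242)
def n62630 : Q := act 3 n29619
theorem D62630 : act 3 n29619 = n62630 := rfl
theorem F97682 : act 4 n62630 = n61853 := d5_2 D29619 D62630 (iv3 D61853) F46955 (iv3 F37618)
theorem F97683 : act 7 n62630 = n61304 := d8_2 (iv7 F47572) D62630 (iv3 D61304)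
def n62631 : Q := act 5 n29619
theorem D62631 : act 5 n29619 = n62631 := rfl
theorem F97684 : act 2 n62631 = n61299 := d2_1 D62631 (iv5 D61299) (iv2 F47571)
theorem F97685 : act 7 n62631 = n61305 := d13_2 (iv7 F47572) D62631 (iv5 D61305)
theorem F97686 : act 0 n62631 = n53149 := d17_2 F93566 D62631 (iv5 D53149) (iv4 F79247) F79244 (iv0 F48130) (iv5 F93557) (iv0 D59325) D59326
theorem F97687 : act 1 n62631 = n53152 := d17_6 (iv1 F20257) (iv5 F20258) F20320 (iv5 F23493) D29619 D62631 (iv5 D53152) F40731 F40718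
def n62632 : Q := act 6 n29619
theorem D62632 : act 6 n29619 = n62632 := rfl
theorem F97688 : act 2 n62632 = n61300 := d3_1 D62632 (iv6 D61300) (iv2 F47571)
theorem F97689 : act 4 n62632 = n29620 := d10_1 D62632 (iv6 D29620) D29619
def n62633 : Q := act 0 n29620
theorem D62633 : act 0 n29620 = n62633 := rfl
theorem F97690 : act 5 n62633 = n30410 := d21_2 (iv5 F47574) D62633 (iv6 D30410) (iv1 D14442) (iv6 D6904) D6903 D14437 F24090 (iv6 F48345) F48346
def n62634 : Q := act 1 n29620
theorem D62634 : act 1 n29620 = n62634 := rfl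
theorem F97691 : act 1 n62634 = n61303 := d15_1 D62634 (iv7 D61303) (iv2 F47573)
def n62635 : Q := act 7 n29620
theorem D62635 : act 7 n29620 = n62635 := rfl
theorem F97692 : act 2 n62635 = n61303 := d4_1 D62635 (iv7 D61303) (iv2 F47573)
theorem F97693 : act 5 n62635 = n30229 := d13_1 D62635 (iv7 D30229) (iv5 F47574)
theorem F97694 : act 6 n62635 = n30109 := d14_1 D62635 F48390 (iv6 D29024) F23495 D29620
theorem F97695 : act 1 n61303 = n62633 := d15_0 (iv0 D62633) D62635 F97692
theorem F97696 : act 1 n61302 = n62635 := d15_1 D61302 (iv7 D62635) F47573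
theorem F97697 : act 1 n62635 = n61301 := d15_0 (iv0 D61301) D61303 (iv2 F97692)
def n62636 : Q := act 3 n29621
theorem D62636 : act 3 n29621 = n62636 := rfl
theorem F97698 : act 7 n62636 = n61307 := d8_2 F47578 D62636 (iv3 D61307)
def n62637 : Q := act 5 n29621
theorem D62637 : act 5 n29621 = n62637 := rfl
theorem F97699 : act 2 n62637 = n61311 := d2_1 D62637 (iv5 D61311) F47577
theorem F97700 : act 7 n62637 = n61308 := d13_2 F47578 D62637 (iv5 D61308)
theorem F97701 : act 0 n62637 = n53143 := d17_2 D29621 D62637 (iv5 D53143) (iv4 D25778) (iv5 F20258) D24574 F38564 (iv0 D14068) D14070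
theorem F97702 : act 1 n62637 = n29862 := d17_6 D28176 (iv5 F49841) (iv1 F76845) F76851 (iv4 F47575) D62637 (iv5 D29862) (iv0 F45568) (iv4 D28178)
def n62638 : Q := act 6 n29621
theorem D62638 : act 6 n29621 = n62638 := rfl
theorem F97703 : act 2 n62638 = n61312 := d3_1 D62638 (iv6 D61312) F47577
theorem F97704 : act 4 n62638 = n60550 := d10_1 D62638 (iv6 D60550) (iv4 F47575)
theorem F97705 : act 0 n62638 = n30108 := d21_4 D29862 (iv1 F97702) (iv5 D62637) D62638 (iv6 D30108) D30107 (iv1 F93661) (iv5 D59373) F45612 F45568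
theorem F97706 : act 1 n62638 = n61437 := d15_1 (iv0 F97705) (iv7 D61437) (iv2 F48382)
theorem E8811 : n53311 = n53276 := ((c18_2 (iv1 F78285) D53276 (iv1 D53311) (iv4 F84155) (iv5 F95162) (iv4 F97704) F97706 F95935 F48388 (iv5 F78282))).symm
theorem F97707 : act 0 n53276 = n25842 := (sb E8811 (iv1 D53311))
def n62639 : Q := act 3 n29622
theorem D62639 : act 3 n29622 = n62639 := rfl
theorem F97708 : act 4 n62639 = n60693 := d5_2 (iv4 F47581) D62639 (iv3 D60693) (iv4 D28804) F46386
theorem F97709 : act 7 n62639 = n61310 := d8_2 (iv7 F47580) D62639 (iv3 D61310)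
def n62640 : Q := act 5 n29622
theorem D62640 : act 5 n29622 = n62640 := rfl
theorem F97710 : act 2 n62640 = n61308 := d2_1 D62640 (iv5 D61308) F47582
theorem F97711 : act 7 n62640 = n61311 := d13_2 (iv7 F47580) D62640 (iv5 D61311)
theorem F97712 : act 0 n62640 = n29862 := d17_2 (iv1 F47579) D62640 (iv5 D29862) (iv4 D14186) (iv5 F18977) (iv0 F19902) (iv5 F23493) F23492 D25766
theorem F97713 : act 1 n62640 = n53143 := d17_6 (iv1 F80568) (iv5 F45564) F39701 (iv5 F46385) (iv4 F47581) D62640 (iv5 D53143) F48011 (iv4 F80566)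
def n62641 : Q := act 6 n29622
theorem D62641 : act 6 n29622 = n62641 := rfl
theorem F97714 : act 2 n62641 = n61309 := d3_1 D62641 (iv6 D61309) F47582
theorem F97715 : act 4 n62641 = n60551 := d10_1 D62641 (iv6 D60551) (iv4 F47581)
def n62642 : Q := act 0 n29623
theorem D62642 : act 0 n29623 = n62642 := rfl
theorem F97716 : act 1 n61315 = n62642 := d15_0 (iv0 D62642) F47584 D61315
def n62643 : Q := act 1 n29623
theorem D62643 : act 1 n29623 = n62643 := rfl
theorem F97717 : act 4 n62071 = n62643 := d20_6 (iv4 D13978) (iv1 D6645) D6646 D13979 D29390 D62071 (iv1 D62643) F47583 (iv3 D14073) (iv1 F23289)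
theorem F97718 : act 0 n61315 = n62643 := d20_7 (iv4 F95398) (iv1 F96673) (iv4 F96669) (iv3 D61447) (iv1 F47418) F47416 (iv4 F95799) (iv4 F97717) (iv3 D62071) (iv1 F47080)
def n62644 : Q := act 2 n29623
theorem D62644 : act 2 n29623 = n62644 := rfl
theorem F97719 : act 4 n62644 = n29632 := d1_2 (iv4 F47583) D62644 (iv2 D29632)
theorem F97720 : act 7 n62644 = n61315 := d4_2 (iv7 F47584) D62644 (iv2 D61315)
theorem F97721 : act 1 n62644 = n61313 := d15_0 (iv0 D61313) (iv7 F47584) D62644
theorem F97722 : act 1 n61314 = n62644 := d15_1 D61314 F97720 (iv2 D61315)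
def n62645 : Q := act 5 n29623
theorem D62645 : act 5 n29623 = n62645 := rfl
theorem F97723 : act 3 n62645 = n29624 := d6_1 D62645 (iv5 D29624) D29623
theorem F97724 : act 7 n62645 = n61316 := d13_2 (iv7 F47584) D62645 (iv5 D61316)
def n62646 : Q := act 6 n29623
theorem D62646 : act 6 n29623 = n62646 := rfl
theorem F97725 : act 3 n62646 = n29625 := d7_1 D62646 (iv6 D29625) D29623
theorem F97726 : act 4 n62646 = n29633 := d10_1 D62646 (iv6 D29633) (iv4 F47583)
def n62647 : Q := act 0 n29624
theorem D62647 : act 0 n29624 = n62647 := rfl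
theorem F97727 : act 5 n62647 = n30015 := d17_3 (iv1 D29622) D29624 D62647 F48221 (iv5 D24850) (iv0 F19529) D13712 D28754 (iv4 F47581)
theorem F97728 : act 1 n53113 = n62647 := d15_0 (iv0 D62647) F47585 (iv2 F83838)
theorem F97729 : act 2 n59332 = n62647 := d2_3 F97727 (iv2 F48223) D59332
theorem F97730 : act 7 n61318 = n62647 := d13_0 F97727 (iv7 F48225) (iv5 F95803)
def n62648 : Q := act 1 n29624
theorem D62648 : act 1 n29624 = n62648 := rfl
theorem F97731 : act 1 n62648 = n53113 := d15_1 D62648 (iv7 F83868) F83866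
theorem F97732 : act 7 n62648 = n59332 := d15_2 (iv0 D62647) D62648 F97729
theorem F97733 : act 5 n62648 = n30016 := d17_7 (iv1 F20269) F20267 (iv1 F10345) D6689 D14070 D29624 D62648 F48226 (iv4 D25768)
theorem F97734 : act 2 n61318 = n62648 := d2_3 F97733 (iv2 F48229) (iv5 F95803)
theorem F97735 : act 4 n52217 = n62648 := d16_2 D25361 D52217 F97733 (iv4 F48228) F45571 F22388 (iv5 F38323) (iv7 D24435) (iv2 F19953)
def n62649 : Q := act 4 n29624
theorem D62649 : act 4 n29624 = n62649 := rfl
theorem F97736 : act 2 n62649 = n49767 := d1_1 D62649 (iv4 F83867) F83866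
theorem F97737 : act 5 n62649 = n30212 := d9_2 D29624 D62649 (iv4 D30212) (iv5 D14341) F11111 D12233 D25766 D53113 (iv4 F97573) (iv5 D62577) (iv4 D29588) (iv5 D14053) F10876 D6689 D14070
theorem F97738 : act 7 n62649 = n49768 := d11_2 (iv7 F47585) D62649 (iv4 F79298)
theorem F97739 : act 0 n62649 = n49771 := d18_2 (iv1 D62648) D62649 F78629 (iv5 D25773) (iv4 D12236) (iv0 F11039) D14249 D30016 (iv5 F97733)
theorem F97740 : act 1 n62649 = n49713 := d18_6 F93566 (iv4 D29619) (iv1 D14069) D14070 D29624 D62649 (iv4 F83947) F83950 (iv5 F93565)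
def n62650 : Q := act 6 n29624
theorem D62650 : act 6 n29624 = n62650 := rfl
def n62651 : Q := act 0 n29625
theorem D62651 : act 0 n29625 = n62651 := rfl
def n62652 : Q := act 5 n29625
theorem D62652 : act 5 n29625 = n62652 := rfl
def n62653 : Q := act 7 n29625
theorem D62653 : act 7 n29625 = n62653 := rfl
theorem F97741 : act 4 n62653 = n29628 := d11_1 D62653 (iv7 D29628) (iv4 F47586)
theorem F97742 : act 6 n62653 = n61323 := d14_1 D62653 (iv7 D61323) (iv6 D29029) (iv7 F23499) D29625
theorem F97743 : act 1 n61425 = n62653 := d15_1 (iv0 F95926) (iv7 D62653) (iv2 F83869)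
theorem E8812 : n30456 = n30408 := ((c18_2 (iv1 F48533) D30408 (iv1 D30456) (iv4 F48867) (iv5 F96453) F96452 F97743 F97741 F83881 F83871)).symm
theorem F97744 : act 0 n30408 = n14461 := (sb E8812 (iv1 D30456))
def n62654 : Q := act 3 n29626
theorem D62654 : act 3 n29626 = n62654 := rfl
theorem F97745 : act 5 n62654 = n30384 := d6_2 (iv5 F83875) D62654 F48821
theorem F97746 : act 7 n62654 = n30383 := d8_2 (iv7 F83876) D62654 F48818
def n62655 : Q := act 4 n29626
theorem D62655 : act 4 n29626 = n62655 := rfl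
theorem F97747 : act 7 n62655 = n30411 := d11_2 (iv7 F83876) D62655 (iv4 D30411)
def n62656 : Q := act 0 n29627
theorem D62656 : act 0 n29627 = n62656 := rfl
theorem F97748 : act 6 n62656 = n30509 := d21_5 (iv5 F18509) F19051 D14072 (iv6 F47588) D62656 (iv5 D30509) (iv1 F48471) F48468 (iv6 D30145) (iv1 F23911)
def n62657 : Q := act 1 n29627
theorem D62657 : act 1 n29627 = n62657 := rfl
def n62658 : Q := act 4 n29627
theorem D62658 : act 4 n29627 = n62658 := rfl
theorem F97749 : act 6 n62658 = n29629 := d10_2 (iv6 F47588) D62658 (iv4 D29629)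
def n62659 : Q := act 0 n29629
theorem D62659 : act 0 n29629 = n62659 := rfl
theorem F97750 : act 4 n62659 = n29936 := d18_3 F23502 D29629 D62659 (iv5 D29936) F23747 F20234 F11108 (iv0 F10771) D13970
theorem F97751 : act 2 n58736 = n62659 := d15_3 (iv0 D62659) (iv0 F78917) (iv7 F92803)
theorem F97752 : act 1 n62015 = n62659 := d15_0 (iv0 D62659) (iv7 F48608) (iv2 F96619)
theorem F97753 : act 7 n62659 = n58734 := d15_2 (iv0 F96622) F97752 F92796
def n62660 : Q := act 3 n29629
theorem D62660 : act 3 n29629 = n62660 := rfl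
theorem F97754 : act 4 n62660 = n29640 := d5_2 D29629 D62660 (iv3 D29640) (iv4 D14078) (iv3 F23501)
def n62661 : Q := act 5 n29629
theorem D62661 : act 5 n29629 = n62661 := rfl
theorem F97755 : act 4 n62661 = n60987 := d16_2 D29629 D62661 F95537 (iv4 F47566) (iv5 F78203) (iv4 D49455) (iv5 F47038) F47037 (iv2 F23963)
theorem F97756 : act 0 n62661 = n30247 := d17_2 F78917 D62661 (iv5 D30247) (iv4 F46393) (iv5 F46392) (iv0 D28757) D28758 F46395 D49897
theorem F97757 : act 1 n62661 = n30250 := d17_6 (iv1 F23911) (iv5 F18509) F19051 D14072 D29629 D62661 (iv5 D30250) F48465 F48464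
def n62662 : Q := act 2 n29630
theorem D62662 : act 2 n29630 = n62662 := rfl
theorem F97758 : act 7 n29631 = n62662 := d15_2 (iv0 D29630) D29631 (iv2 D62662)
def n62663 : Q := act 3 n29630
theorem D62663 : act 3 n29630 = n62663 := rfl
theorem F97759 : act 4 n62663 = n60712 := d20_6 F22993 (iv1 F10845) D6691 D14073 D29630 D62663 (iv1 D60712) F46448 (iv3 D13744) D13742
def n62664 : Q := act 4 n29630
theorem D62664 : act 4 n29630 = n62664 := rfl
def n62665 : Q := act 5 n29630
theorem D62665 : act 5 n29630 = n62665 := rfl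
def n62666 : Q := act 6 n29630
theorem D62666 : act 6 n29630 = n62666 := rfl
def n62667 : Q := act 7 n29630
theorem D62667 : act 7 n29630 = n62667 := rfl
theorem F97760 : act 2 n62667 = n29631 := d4_1 D62667 F97758 (iv2 D62662)
def n62668 : Q := act 3 n29631
theorem D62668 : act 3 n29631 = n62668 := rfl
def n62669 : Q := act 4 n29631
theorem D62669 : act 4 n29631 = n62669 := rfl
def n62670 : Q := act 5 n29631
theorem D62670 : act 5 n29631 = n62670 := rfl
def n62671 : Q := act 6 n29631
theorem D62671 : act 6 n29631 = n62671 := rfl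
def n62672 : Q := act 6 n29632
theorem D62672 : act 6 n29632 = n62672 := rfl
theorem F97761 : act 2 n62672 = n29633 := d3_1 D62672 (iv6 D29633) D29632
theorem F97762 : act 3 n62672 = n61456 := d7_1 D62672 (iv6 D61456) (iv3 F47593)
def n62673 : Q := act 0 n29633
theorem D62673 : act 0 n29633 = n62673 := rfl
def n62674 : Q := act 1 n29633
theorem D62674 : act 1 n29633 = n62674 := rfl
def n62675 : Q := act 5 n29633
theorem D62675 : act 5 n29633 = n62675 := rfl
theorem F97763 : act 3 n62675 = n29634 := d6_1 D62675 (iv5 D29634) (iv3 F47598)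
def n62676 : Q := act 7 n29633
theorem D62676 : act 7 n29633 = n62676 := rfl
theorem F97764 : act 3 n62676 = n29635 := d8_1 D62676 (iv7 D29635) (iv3 F47598)
theorem F97765 : act 6 n62676 = n61367 := d14_1 D62676 (iv7 D61367) (iv6 D29046) (iv7 F23503) D29633
def n62677 : Q := act 0 n29634
theorem D62677 : act 0 n29634 = n62677 := rfl
theorem F97766 : act 5 n62677 = n60972 := d17_3 F46576 D29634 D62677 F95508 (iv5 F47165) (iv0 D29428) (iv5 D13996) (iv0 F22657) D28310
theorem F97767 : act 2 n61461 = n62677 := d2_3 F97766 (iv2 F97050) (iv5 F97053)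
theorem F97769 : act 1 n61464 = n62677 := d17_6 (iv1 F48218) F48017 (iv1 F47610) F40964 (iv4 F46729) (iv5 F95952) F97766 F95510 (iv4 D31037)
def n62678 : Q := act 1 n29634
theorem D62678 : act 1 n29634 = n62678 := rfl
theorem F97770 : act 1 n62678 = n61464 := d15_1 D62678 (iv7 D61464) (iv2 F47599)
theorem F97771 : act 7 n62678 = n61461 := d15_2 (iv0 D62677) D62678 F97767
theorem F97772 : act 5 n62678 = n61038 := d17_7 F48028 F48026 (iv1 D29638) (iv5 D14076) (iv4 F23505) D29634 D62678 F95571 (iv4 D31027)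
theorem F97773 : act 2 n61462 = n62678 := d2_3 F97772 (iv2 F97138) F97141
def n62679 : Q := act 4 n29634
theorem D62679 : act 4 n29634 = n62679 := rfl
theorem F97774 : act 2 n62679 = n61463 := d1_1 D62679 (iv4 D61463) (iv2 F47599)
def n62680 : Q := act 7 n29634
theorem D62680 : act 7 n29634 = n62680 := rfl
theorem F97776 : act 5 n62680 = n29635 := d13_1 D62680 (iv7 D29635) D29634
def n62681 : Q := act 0 n29636
theorem D62681 : act 0 n29636 = n62681 := rfl
theorem F97779 : act 5 n62681 = n53469 := d21_2 (iv5 F47607) D62681 (iv6 D53469) (iv1 F81180) F81178 (iv5 F79386) (iv1 F79389) (iv5 F80930) (iv6 F80932) (iv1 F49379)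
theorem F97780 : act 2 n29968 = n62681 := d15_3 (iv0 D62681) F95821 D29968
theorem F97781 : act 1 n29966 = n62681 := d15_0 (iv0 D62681) F47608 (iv2 F48170)
theorem F97782 : act 7 n62681 = n29922 := d15_2 D29966 F97781 F48079
theorem F97783 : act 6 n29957 = n62681 := d21_3 (iv5 F79597) (iv1 F81038) F81032 (iv1 F97781) (iv6 F48169) F46685 (iv1 F38351) F18865 D14179 D29839
theorem F97784 : act 3 n62681 = n49200 := d7_1 F97783 (iv6 F77888) F77886
def n62682 : Q := act 2 n29636
theorem D62682 : act 2 n29636 = n62682 := rfl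
theorem F97785 : act 3 n62682 = n61466 := d0_2 D29636 D62682 (iv2 D61466) (iv3 D29093) (iv2 F23514)
theorem F97786 : act 5 n62682 = n30946 := d2_2 (iv5 F47607) D62682 F49378
theorem F97787 : act 7 n62682 = n29966 := d4_2 (iv7 F47608) D62682 F48170
theorem F97788 : act 1 n62682 = n29922 := d15_0 (iv0 F48081) (iv7 F47608) D62682
theorem F97789 : act 1 n29968 = n62682 := d15_0 F97788 (iv7 F97782) (iv2 F97780)
def n62683 : Q := act 4 n29636
theorem D62683 : act 4 n29636 = n62683 := rfl
theorem F97790 : act 7 n62683 = n30971 := d11_2 (iv7 F47608) D62683 (iv4 D30971)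
def n62684 : Q := act 3 n29637
theorem D62684 : act 3 n29637 = n62684 := rfl
theorem F97791 : act 6 n62684 = n31326 := d7_2 (iv6 F47609) D62684 F49580
theorem F97792 : act 7 n62684 = n61472 := d8_2 F47612 D62684 (iv3 D61472)
def n62685 : Q := act 3 n29638
theorem D62685 : act 3 n29638 = n62685 := rfl
theorem F97793 : act 6 n62685 = n50584 := d7_2 F47617 D62685 (iv3 D50584)
theorem F97794 : act 7 n62685 = n61470 := d8_2 (iv7 F47615) D62685 (iv3 D61470)
def n62686 : Q := act 3 n29639
theorem D62686 : act 3 n29639 = n62686 := rfl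
theorem F97795 : act 6 n62686 = n29640 := d7_2 (iv6 F47619) D62686 (iv3 D29640)
def n62687 : Q := act 0 n29640
theorem D62687 : act 0 n29640 = n62687 := rfl
def n62688 : Q := act 1 n29640
theorem D62688 : act 1 n29640 = n62688 := rfl
def n62689 : Q := act 2 n29640
theorem D62689 : act 2 n29640 = n62689 := rfl
theorem F97796 : act 3 n62689 = n61477 := d0_2 D29640 D62689 (iv2 D61477) (iv3 D29098) (iv2 F23519)
def n62690 : Q := act 5 n29641
theorem D62690 : act 5 n29641 = n62690 := rfl
theorem F97797 : act 2 n62690 = n49213 := d2_1 D62690 (iv5 D49213) (iv2 F47620)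
theorem F97798 : act 7 n62690 = n61396 := d13_2 (iv7 F47622) D62690 (iv5 D61396)
theorem F97799 : act 0 n62690 = n61673 := d17_2 F54425 D62690 (iv5 D61673) (iv4 D29237) D29238 (iv0 F96132) F96131 (iv0 F79132) F56575
def n62691 : Q := act 0 n29642
theorem D62691 : act 0 n29642 = n62691 := rfl
theorem F97800 : act 4 n62691 = n52883 := d18_3 F27119 D29642 D62691 (iv5 D52883) F40588 (iv0 F54282) F23551 (iv0 F26675) (iv5 F27118)
theorem F97801 : act 1 n54839 = n62691 := d15_0 (iv0 D62691) F47623 (iv2 F86781)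
theorem F97802 : act 2 n60051 = n62691 := d1_3 F97800 F83562 D60051
theorem F97803 : act 7 n61400 = n62691 := d11_0 F97800 (iv7 F83565) (iv4 F95896)
def n62692 : Q := act 1 n29642
theorem D62692 : act 1 n29642 = n62692 := rfl
theorem F97804 : act 1 n62692 = n54839 := d15_1 D62692 (iv7 F87977) F87976
theorem F97805 : act 7 n62692 = n60051 := d15_2 (iv0 D62691) D62692 F97802
theorem F97806 : act 4 n60052 = n62692 := d20_6 D12605 (iv1 F23016) F23014 D13913 (iv1 F50844) (iv3 F94580) (iv1 D62692) (iv4 D29642) F23528 F10906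
theorem F97807 : act 2 n62692 = n61400 := d1_1 F97806 F95896 (iv2 F94579)
def n62693 : Q := act 5 n29642
theorem D62693 : act 5 n29642 = n62693 := rfl
theorem F97808 : act 7 n62693 = n61401 := d13_2 (iv7 F47623) D62693 (iv5 D61401)
def n62694 : Q := act 6 n29642
theorem D62694 : act 6 n29642 = n62694 := rfl
theorem F97809 : act 4 n62694 = n29643 := d10_1 D62694 (iv6 D29643) D29642
def n62695 : Q := act 0 n29643
theorem D62695 : act 0 n29643 = n62695 := rfl
def n62696 : Q := act 1 n29643
theorem D62696 : act 1 n29643 = n62696 := rfl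
def n62697 : Q := act 7 n29643
theorem D62697 : act 7 n29643 = n62697 := rfl
theorem F97810 : act 3 n62697 = n29646 := d8_1 D62697 (iv7 D29646) (iv3 F47624)
theorem F97811 : act 5 n62697 = n35965 := d13_1 D62697 (iv7 D35965) (iv5 F47625)
theorem F97812 : act 6 n62697 = n61405 := d14_1 D62697 (iv7 D61405) (iv6 D29068) (iv7 F23529) D29643
def n62698 : Q := act 2 n29644
theorem D62698 : act 2 n29644 = n62698 := rfl
theorem F97813 : act 7 n29645 = n62698 := d15_2 (iv0 D29644) D29645 (iv2 D62698)
def n62699 : Q := act 3 n29644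
theorem D62699 : act 3 n29644 = n62699 := rfl
def n62700 : Q := act 4 n29644
theorem D62700 : act 4 n29644 = n62700 := rfl
def n62701 : Q := act 5 n29644
theorem D62701 : act 5 n29644 = n62701 := rfl
theorem F97814 : act 0 n33872 = n62701 := d21_10 (iv5 D62701) (iv1 F47629) (iv5 F51809) (iv6 F85945) (iv1 F85947) F87198 F87196 F51228 F25871 D33872
def n62702 : Q := act 6 n29644
theorem D62702 : act 6 n29644 = n62702 := rfl
theorem F97815 : act 5 n62702 = n61578 := d21_6 F23139 (iv1 F10865) D6695 D14083 D29644 D62702 (iv1 D61578) (iv5 D29156) (iv6 D13876) (iv1 F23137)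
def n62703 : Q := act 7 n29644
theorem D62703 : act 7 n29644 = n62703 := rfl
theorem F97816 : act 2 n62703 = n29645 := d4_1 D62703 F97813 (iv2 D62698)
def n62704 : Q := act 3 n29645
theorem D62704 : act 3 n29645 = n62704 := rfl
def n62705 : Q := act 4 n29645
theorem D62705 : act 4 n29645 = n62705 := rfl
def n62706 : Q := act 5 n29645
theorem D62706 : act 5 n29645 = n62706 := rfl
theorem F97817 : act 0 n62706 = n33872 := d21_1 D62706 F53218 (iv6 D33153) F25901 (iv6 F53299) (iv5 D33965) (iv1 F50362) F50358 F47474 (iv1 F47626)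
theorem F97818 : act 6 n35977 = n62706 := d21_5 (iv5 D12673) F26394 F20806 D17417 D35977 (iv5 D62706) (iv1 D29645) (iv5 F41973) (iv6 D26321) (iv1 F26462)
def n62707 : Q := act 6 n29645
theorem D62707 : act 6 n29645 = n62707 := rfl
theorem F97819 : act 0 n54618 = n62707 := d21_4 (iv5 D16419) D16417 F42169 D54618 (iv6 D62707) D62706 F97817 F53218 (iv6 D33153) F25901
def n62708 : Q := act 3 n29647
theorem D62708 : act 3 n29647 = n62708 := rfl
theorem F97820 : act 5 n62708 = n30819 := d6_2 (iv5 F47633) D62708 (iv3 D30819)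
theorem F97821 : act 7 n62708 = n61478 := d8_2 (iv7 F47634) D62708 F95980
def n62709 : Q := act 6 n29647
theorem D62709 : act 6 n29647 = n62709 := rfl
theorem F97822 : act 2 n62709 = n61509 := d3_1 D62709 (iv6 D61509) (iv2 F47632)
theorem F97823 : act 4 n62709 = n29648 := d10_1 D62709 (iv6 D29648) D29647
def n62710 : Q := act 1 n29648
theorem D62710 : act 1 n29648 = n62710 := rfl
theorem F97824 : act 1 n62710 = n61511 := d15_1 D62710 (iv7 D61511) (iv2 F47648)
theorem F97825 : act 7 n62710 = n55339 := d15_2 (iv0 F54563) D62710 F87578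
theorem F97826 : act 2 n61510 = n62710 := d4_3 F97825 F87578 (iv7 F96021)
def n62711 : Q := act 7 n29648
theorem D62711 : act 7 n29648 = n62711 := rfl
theorem F97827 : act 2 n62711 = n61511 := d4_1 D62711 (iv7 D61511) (iv2 F47648)
theorem F97828 : act 5 n62711 = n35058 := d13_1 D62711 (iv7 D35058) (iv5 F47649)
theorem F97829 : act 1 n61510 = n62711 := d15_1 D61510 (iv7 D62711) F47648
theorem F97830 : act 1 n62711 = n55339 := d15_1 F97829 (iv7 F97825) (iv2 F97826)
def n62712 : Q := act 5 n29659
theorem D62712 : act 5 n29659 = n62712 := rfl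
def n62713 : Q := act 6 n29659
theorem D62713 : act 6 n29659 = n62713 := rfl
theorem F97832 : act 4 n62713 = n29660 := d10_1 D62713 (iv6 D29660) D29659
def n62714 : Q := act 0 n29660
theorem D62714 : act 0 n29660 = n62714 := rfl
def n62715 : Q := act 1 n29660
theorem D62715 : act 1 n29660 = n62715 := rfl
def n62716 : Q := act 7 n29660
theorem D62716 : act 7 n29660 = n62716 := rfl
theorem F97833 : act 3 n62716 = n29665 := d8_1 D62716 (iv7 D29665) (iv3 F47663)
theorem F97834 : act 6 n62716 = n61569 := d14_1 D62716 (iv7 D61569) (iv6 D29151) (iv7 F23542) D29660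
def n62717 : Q := act 2 n29663
theorem D62717 : act 2 n29663 = n62717 := rfl
theorem F97835 : act 7 n29664 = n62717 := d15_2 (iv0 D29663) D29664 (iv2 D62717)
def n62718 : Q := act 3 n29663
theorem D62718 : act 3 n29663 = n62718 := rfl
def n62719 : Q := act 4 n29663
theorem D62719 : act 4 n29663 = n62719 := rfl
def n62720 : Q := act 5 n29663
theorem D62720 : act 5 n29663 = n62720 := rfl
theorem F97836 : act 0 n62720 = n33801 := d21_1 D62720 (iv5 F86327) (iv6 D54620) (iv1 D26415) F20983 (iv5 D5987) (iv1 F4985) D6698 D14091 D29663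
def n62721 : Q := act 6 n29663
theorem D62721 : act 6 n29663 = n62721 := rfl
theorem F97837 : act 5 n62721 = n54423 := d21_6 (iv5 D5987) (iv1 F4985) D6698 D14091 D29663 D62721 (iv1 D54423) F41973 (iv6 D14083) F10906
theorem F97838 : act 0 n54609 = n62721 := d21_4 (iv5 D12603) D12601 D26407 D54609 (iv6 D62721) D62720 F97836 (iv5 F86327) (iv6 D54620) (iv1 D26415)
def n62722 : Q := act 7 n29663
theorem D62722 : act 7 n29663 = n62722 := rfl
def n62723 : Q := act 3 n29664
theorem D62723 : act 3 n29664 = n62723 := rfl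
def n62724 : Q := act 4 n29664
theorem D62724 : act 4 n29664 = n62724 := rfl
def n62725 : Q := act 5 n29664
theorem D62725 : act 5 n29664 = n62725 := rfl
theorem F97840 : act 0 n33801 = n62725 := d21_10 (iv5 D62725) (iv1 D29664) (iv5 F27877) (iv6 D17020) (iv1 D7945) (iv6 F11829) (iv5 D7593) D7591 D16332 D33801
theorem F97841 : act 6 n32631 = n62725 := d21_5 (iv5 D3597) (iv1 F10681) D7293 D15450 D32631 (iv5 D62725) (iv1 D29664) (iv5 F27877) (iv6 D17020) (iv1 D7945)
def n62726 : Q := act 6 n29664
theorem D62726 : act 6 n29664 = n62726 := rfl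
def n62727 : Q := act 3 n29668
theorem D62727 : act 3 n29668 = n62727 := rfl
theorem F97842 : act 4 n62727 = n60055 := d5_2 F54051 D62727 F94587 F46099 (iv3 F46084)
theorem F97843 : act 6 n62727 = n52581 := d7_2 F54348 D62727 F83096
theorem F97844 : act 7 n62727 = n52871 := d8_2 (iv7 F54346) D62727 F83532
theorem F97845 : act 0 n62727 = n29671 := d20_4 (iv4 F83557) (iv1 F83561) F54051 D62727 F47687 F23554 F10922 D11431 D24283 D49810
theorem F97846 : act 0 n33068 = n62727 := d20_4 F77191 F54046 (iv4 F47786) D33068 (iv3 D62727) (iv4 F54051) F54050 D29237 (iv3 F52249) (iv1 F77194)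
theorem F97847 : act 5 n62727 = n51064 := d17_1 F97846 (iv1 D51064) (iv5 D24839) F19127 D12772 F42158 F42157 F42124 (iv4 F52292)
theorem F97848 : act 2 n52975 = n62727 := d15_3 (iv0 F97846) (iv0 F54251) (iv7 F83698)
theorem F97849 : act 3 n51064 = n62617 := d6_1 F97847 F97657 D62727
def n62728 : Q := act 5 n29669
theorem D62728 : act 5 n29669 = n62728 := rfl
theorem F97850 : act 2 n62728 = n29670 := d2_1 D62728 (iv5 D29670) D29669
theorem F97851 : act 3 n62728 = n61615 := d6_1 D62728 (iv5 D61615) (iv3 F47678)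
theorem F97852 : act 7 n62728 = n52895 := d13_2 F54281 D62728 (iv5 D52895)
theorem F97853 : act 1 n62728 = n61512 := d17_6 D14079 (iv5 F46796) F47698 (iv5 D29675) (iv4 F47679) D62728 F96028 (iv0 D29610) F23485
theorem F97854 : act 1 n61513 = n62728 := d15_0 F97853 F96029 F96024
def n62729 : Q := act 4 n29670
theorem D62729 : act 4 n29670 = n62729 := rfl
theorem F97855 : act 7 n62729 = n61514 := d11_2 (iv7 F47685) D62729 (iv4 D61514)
def n62730 : Q := act 6 n29670
theorem D62730 : act 6 n29670 = n62730 := rfl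
theorem F97856 : act 3 n62730 = n29673 := d7_1 D62730 (iv6 D29673) (iv3 F47684)
def n62731 : Q := act 5 n29671
theorem D62731 : act 5 n29671 = n62731 := rfl
theorem F97857 : act 2 n62731 = n54589 := d2_1 D62731 (iv5 D54589) (iv2 F47686)
theorem F97858 : act 3 n62731 = n29674 := d6_1 D62731 (iv5 D29674) (iv3 F47687)
theorem F97859 : act 7 n62731 = n54586 := d13_2 F47689 D62731 (iv5 D54586)
def n62732 : Q := act 3 n29672
theorem D62732 : act 3 n29672 = n62732 := rfl
theorem F97860 : act 5 n62732 = n52096 := d6_2 (iv5 F47691) D62732 (iv3 D52096)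
theorem F97861 : act 7 n62732 = n61522 := d8_2 (iv7 F47690) D62732 (iv3 D61522)
def n62733 : Q := act 6 n29672
theorem D62733 : act 6 n29672 = n62733 := rfl
theorem F97862 : act 4 n62733 = n29673 := d10_1 D62733 (iv6 D29673) D29672
def n62734 : Q := act 0 n29673
theorem D62734 : act 0 n29673 = n62734 := rfl
def n62735 : Q := act 1 n29673
theorem D62735 : act 1 n29673 = n62735 := rfl
def n62736 : Q := act 5 n29673
theorem D62736 : act 5 n29673 = n62736 := rfl
theorem F97863 : act 6 n62736 = n29674 := d12_2 D29673 D62736 (iv5 D29674) (iv6 D14095) D14094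
def n62737 : Q := act 7 n29673
theorem D62737 : act 7 n29673 = n62737 := rfl
theorem F97864 : act 6 n62737 = n61526 := d14_1 D62737 (iv7 D61526) (iv6 D29128) (iv7 F23553) D29673
def n62738 : Q := act 4 n29675
theorem D62738 : act 4 n29675 = n62738 := rfl
theorem F97865 : act 2 n62738 = n29676 := d1_1 D62738 (iv4 D29676) (iv2 F47695)
theorem F97866 : act 7 n62738 = n54837 := d11_2 (iv7 F47697) D62738 (iv4 D54837)
theorem F97867 : act 1 n61530 = n62738 := d15_1 D61530 F97866 F86778
theorem F97868 : act 1 n62738 = n61529 := d15_0 (iv0 D61529) (iv7 F47700) (iv2 F97865)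
def n62739 : Q := act 6 n29675
theorem D62739 : act 6 n29675 = n62739 := rfl
theorem F97869 : act 2 n62739 = n29677 := d3_1 D62739 (iv6 D29677) (iv2 F47695)
theorem F97870 : act 3 n62739 = n61556 := d7_1 D62739 (iv6 D61556) (iv3 F47696)
theorem F97871 : act 5 n62739 = n54591 := d12_1 D62739 (iv6 D54591) (iv5 D26399) (iv6 F42123) D29675
def n62740 : Q := act 0 n29676
theorem D62740 : act 0 n29676 = n62740 := rfl
theorem F97872 : act 4 n62740 = n49843 := d18_3 F38078 D29676 D62740 (iv5 D49843) (iv4 F46652) (iv0 D29014) F23069 (iv0 F26718) D24291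
theorem F97873 : act 1 n54837 = n62740 := d15_0 (iv0 D62740) F47700 (iv2 F86778)
def n62741 : Q := act 1 n29676
theorem D62741 : act 1 n29676 = n62741 := rfl
theorem F97874 : act 1 n62741 = n54837 := d15_1 D62741 (iv7 F97866) F97865
theorem F97875 : act 4 n61582 = n62741 := d20_6 (iv4 F46535) (iv1 F46537) F23030 (iv3 F23147) D29171 D61582 (iv1 D62741) (iv4 D29676) F23564 (iv1 F23102)
def n62742 : Q := act 5 n29676
theorem D62742 : act 5 n29676 = n62742 := rfl
theorem F97876 : act 7 n62742 = n61531 := d13_2 (iv7 F47700) D62742 (iv5 D61531)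
def n62743 : Q := act 6 n29676
theorem D62743 : act 6 n29676 = n62743 := rfl
theorem F97877 : act 4 n62743 = n29677 := d10_1 D62743 (iv6 D29677) D29676
def n62744 : Q := act 0 n29677
theorem D62744 : act 0 n29677 = n62744 := rfl
def n62745 : Q := act 1 n29677
theorem D62745 : act 1 n29677 = n62745 := rfl
def n62746 : Q := act 5 n29677
theorem D62746 : act 5 n29677 = n62746 := rfl
theorem F97878 : act 2 n62746 = n54591 := d2_1 D62746 (iv5 F97871) F97869
theorem F97879 : act 3 n62746 = n29681 := d6_1 D62746 (iv5 D29681) (iv3 F47701)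
theorem F97880 : act 6 n62746 = n29678 := d12_2 D29677 D62746 (iv5 D29678) (iv6 D14100) D14099
def n62747 : Q := act 7 n29677
theorem D62747 : act 7 n29677 = n62747 := rfl
theorem F97881 : act 3 n62747 = n29682 := d8_1 D62747 (iv7 D29682) (iv3 F47701)
theorem F97882 : act 6 n62747 = n61535 := d14_1 D62747 (iv7 D61535) (iv6 D29131) (iv7 F23565) D29677
def n62748 : Q := act 4 n29678
theorem D62748 : act 4 n29678 = n62748 := rfl
theorem F97883 : act 2 n62748 = n54590 := d1_1 D62748 (iv4 D54590) (iv2 F47702)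
theorem F97884 : act 7 n62748 = n54587 := d11_2 (iv7 F47704) D62748 (iv4 D54587)
def n62749 : Q := act 3 n29679
theorem D62749 : act 3 n29679 = n62749 := rfl
theorem F97885 : act 7 n62749 = n61575 := d8_2 (iv7 F53306) D62749 (iv3 D61575)
def n62750 : Q := act 4 n29679
theorem D62750 : act 4 n29679 = n62750 := rfl
theorem F97886 : act 2 n62750 = n61572 := d1_1 D62750 (iv4 D61572) (iv2 F53308)
theorem F97887 : act 7 n62750 = n61576 := d11_2 (iv7 F53306) D62750 (iv4 D61576)
def n62751 : Q := act 5 n29679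
theorem D62751 : act 5 n29679 = n62751 := rfl
theorem F97888 : act 2 n62751 = n61573 := d2_1 D62751 (iv5 D61573) (iv2 F53308)
theorem F97889 : act 7 n62751 = n55301 := d13_2 (iv7 F53306) D62751 F87523
def n62752 : Q := act 6 n29679
theorem D62752 : act 6 n29679 = n62752 := rfl
theorem F97890 : act 2 n62752 = n61574 := d3_1 D62752 (iv6 D61574) (iv2 F53308)
theorem F97891 : act 7 n62752 = n33965 := d14_2 (iv7 F53306) D62752 F53299 D33968 F53304
theorem F97892 : act 5 n62752 = n31985 := d21_6 F11736 (iv1 F5410) D6703 D14101 D29679 D62752 (iv1 D31985) F24711 (iv6 D14052) (iv1 F11738)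
def n62753 : Q := act 3 n29680
theorem D62753 : act 3 n29680 = n62753 := rfl
theorem F97893 : act 7 n62753 = n61571 := d8_2 F53307 D62753 (iv3 D61571)
def n62754 : Q := act 4 n29680
theorem D62754 : act 4 n29680 = n62754 := rfl
theorem F97894 : act 2 n62754 = n61576 := d1_1 D62754 (iv4 D61576) F53305
theorem F97895 : act 7 n62754 = n61572 := d11_2 F53307 D62754 (iv4 D61572)
def n62755 : Q := act 0 n29681
theorem D62755 : act 0 n29681 = n62755 := rfl
def n62756 : Q := act 1 n29681
theorem D62756 : act 1 n29681 = n62756 := rfl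
theorem F97896 : act 1 n62756 = n61580 := d15_1 D62756 (iv7 D61580) (iv2 F47707)
theorem F97897 : act 5 n61500 = n62756 := d21_6 (iv5 D13832) (iv1 F10643) D6590 D13857 D29112 D61500 (iv1 D62756) (iv5 D29681) (iv6 D14101) (iv1 F23102)
def n62757 : Q := act 7 n29681
theorem D62757 : act 7 n29681 = n62757 := rfl
theorem F97898 : act 2 n62757 = n61580 := d4_1 D62757 (iv7 D61580) (iv2 F47707)
theorem F97899 : act 5 n62757 = n29682 := d13_1 D62757 (iv7 D29682) D29681
theorem F97900 : act 6 n62757 = n62711 := d14_1 D62757 (iv7 D62711) (iv6 D29648) (iv7 F23570) (iv6 F47708)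
theorem F97901 : act 1 n61580 = n62755 := d15_0 (iv0 D62755) D62757 F97898
theorem F97902 : act 1 n61578 = n62757 := d15_1 D61578 (iv7 D62757) F47707
theorem F97903 : act 1 n62757 = n61577 := d15_0 (iv0 D61577) D61580 (iv2 F97898)
def n62758 : Q := act 5 n29685
theorem D62758 : act 5 n29685 = n62758 := rfl
theorem F97904 : act 2 n62758 = n61612 := d2_1 D62758 (iv5 D61612) F54257
theorem F97905 : act 7 n62758 = n48948 := d13_2 (iv7 F54256) D62758 (iv5 D48948)
theorem F97906 : act 0 n62758 = n35006 := d17_2 F79111 D62758 (iv5 D35006) F27861 D16997 D35017 (iv5 F55578) F38230 D50010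
def n62759 : Q := act 4 n29686
theorem D62759 : act 4 n29686 = n62759 := rfl
theorem F97907 : act 2 n62759 = n61613 := d1_1 D62759 (iv4 D61613) (iv2 F54228)
theorem F97908 : act 7 n62759 = n48957 := d11_2 (iv7 F54229) D62759 (iv4 D48957)
theorem F97909 : act 0 n62759 = n35018 := d18_2 (iv1 F54227) D62759 (iv4 D35018) (iv5 D16997) (iv4 F27861) D35005 (iv4 F55485) F50885 (iv5 F23614)
def n62760 : Q := act 6 n29686
theorem D62760 : act 6 n29686 = n62760 := rfl
theorem F97910 : act 2 n62760 = n61614 := d3_1 D62760 (iv6 D61614) (iv2 F54228)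
def n62761 : Q := act 5 n29689
theorem D62761 : act 5 n29689 = n62761 := rfl
theorem F97912 : act 2 n62761 = n50025 := d2_1 D62761 F79169 F54248
theorem F97913 : act 3 n62761 = n29691 := d6_1 D62761 (iv5 D29691) D29689
theorem F97914 : act 7 n62761 = n61611 := d13_2 F54254 D62761 (iv5 D61611)
theorem F97915 : act 1 n62761 = n32453 := d17_6 (iv1 D24837) D24839 D51063 F80527 F54249 D62761 (iv5 D32453) D32452 F51527
theorem F97916 : act 4 n62761 = n55286 := d18_5 F27011 (iv4 F47688) F54250 F54249 D62761 (iv0 D55286) (iv4 D26719) F42158 F42157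
theorem F97917 : act 1 n61696 = n62761 := d15_0 F97915 F51529 D61696
def n62762 : Q := act 5 n29690
theorem D62762 : act 5 n29690 = n62762 := rfl
theorem F97918 : act 2 n62762 = n48948 := d2_1 D62762 (iv5 D48948) F54245
theorem F97919 : act 3 n62762 = n49126 := d6_1 D62762 (iv5 D49126) F54246
theorem F97920 : act 7 n62762 = n61612 := d13_2 F54255 D62762 (iv5 D61612)
theorem F97921 : act 1 n62762 = n35006 := d17_6 F50884 (iv5 F46928) (iv1 F54235) (iv5 D29691) D29690 D62762 (iv5 D35006) D35005 (iv4 F55485)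
def n62763 : Q := act 4 n29691
theorem D62763 : act 4 n29691 = n62763 := rfl
theorem F97923 : act 7 n62763 = n61613 := d11_2 (iv7 F54237) D62763 (iv4 D61613)
def n62764 : Q := act 6 n29691
theorem D62764 : act 6 n29691 = n62764 := rfl
theorem F97925 : act 2 n62764 = n48955 := d3_1 D62764 F77222 (iv2 F54236)
theorem F97926 : act 5 n62764 = n32422 := d12_1 D62764 (iv6 D32422) F43051 F54238 D29691
def n62765 : Q := act 5 n29693
theorem D62765 : act 5 n29693 = n62765 := rfl
theorem F97927 : act 2 n62765 = n29696 := d2_1 D62765 (iv5 D29696) (iv2 F47717)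
theorem F97928 : act 3 n62765 = n52895 := d6_1 D62765 (iv5 D52895) F54279
theorem F97929 : act 7 n62765 = n61615 := d13_2 (iv7 F47719) D62765 (iv5 D61615)
theorem F97930 : act 0 n62765 = n61619 := d17_2 (iv1 F47721) D62765 F96183 (iv4 D34286) D34287 F78751 F78749 (iv0 D24382) (iv4 F37051)
theorem F97931 : act 1 n62765 = n49209 := d17_6 (iv1 F50885) F54344 (iv1 F47727) (iv5 D29694) D29693 D62765 (iv5 D49209) (iv0 F39962) F39959
def n62766 : Q := act 4 n29694
theorem D62766 : act 4 n29694 = n62766 := rfl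
theorem F97932 : act 2 n62766 = n29700 := d1_1 D62766 (iv4 D29700) (iv2 F47723)
theorem F97933 : act 7 n62766 = n61616 := d11_2 (iv7 F47725) D62766 (iv4 D61616)
theorem F97934 : act 0 n62766 = n61627 := d18_2 (iv1 F47727) D62766 F96191 (iv5 D34287) D34286 (iv0 F54397) (iv4 F45542) (iv0 F50884) F54344
theorem F97935 : act 1 n62766 = n49824 := d18_6 F50586 (iv4 F37051) (iv1 F47721) (iv4 D29693) D29694 D62766 (iv4 D49824) F55569 (iv5 D33130)
def n62767 : Q := act 6 n29694
theorem D62767 : act 6 n29694 = n62767 := rfl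
theorem F97936 : act 2 n62767 = n29701 := d3_1 D62767 (iv6 D29701) (iv2 F47723)
theorem F97937 : act 3 n62767 = n60103 := d7_1 D62767 (iv6 D60103) F54020
def n62768 : Q := act 1 n29696
theorem D62768 : act 1 n29696 = n62768 := rfl
theorem F97938 : act 1 n62768 = n61615 := d15_1 D62768 (iv7 F97929) F97927
theorem F97939 : act 7 n62768 = n61619 := d15_2 F54411 D62768 (iv2 F96184)
theorem F97940 : act 5 n62768 = n34908 := d17_7 (iv1 F45546) F54343 (iv1 D29699) (iv5 D14107) D14106 D29696 D62768 F55247 F54402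
theorem F97941 : act 2 n49209 = n62768 := d2_3 F97940 F55250 D49209
def n62769 : Q := act 4 n29696
theorem D62769 : act 4 n29696 = n62769 := rfl
theorem F97942 : act 7 n62769 = n61620 := d11_2 (iv7 F47731) D62769 (iv4 D61620)
def n62770 : Q := act 6 n29696
theorem D62770 : act 6 n29696 = n62770 := rfl
theorem F97943 : act 3 n62770 = n52117 := d7_1 D62770 (iv6 D52117) (iv3 F47730)
theorem F97944 : act 5 n62770 = n43861 := d12_1 D62770 (iv6 D43861) F47734 (iv6 D29697) D29696
def n62771 : Q := act 4 n29698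
theorem D62771 : act 4 n29698 = n62771 := rfl
theorem F97945 : act 2 n62771 = n61625 := d1_1 D62771 (iv4 D61625) (iv2 F55542)
theorem F97946 : act 7 n62771 = n61622 := d11_2 (iv7 F55546) D62771 (iv4 D61622)
def n62772 : Q := act 6 n29698
theorem D62772 : act 6 n29698 = n62772 := rfl
theorem F97947 : act 2 n62772 = n61626 := d3_1 D62772 (iv6 D61626) (iv2 F55542)
theorem F97949 : act 5 n62772 = n59907 := d12_1 D62772 (iv6 D59907) (iv5 F55361) (iv6 F55360) F54288
def n62773 : Q := act 3 n29699
theorem D62773 : act 3 n29699 = n62773 := rfl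
theorem F97950 : act 2 n62773 = n61652 := d0_1 D62773 (iv3 F96221) F79138 (iv3 F54345) F55547
theorem F97951 : act 5 n62773 = n59323 := d6_2 F54343 D62773 (iv3 D59323)
theorem F97952 : act 7 n62773 = n61624 := d8_2 F55548 D62773 (iv3 D61624)
theorem F97953 : act 1 n61649 = n62773 := d15_1 (iv0 F96215) F97952 F96188
theorem F97954 : act 1 n62773 = n61655 := d15_1 F97953 (iv7 D61655) (iv2 F96214)
def n62774 : Q := act 4 n29699
theorem D62774 : act 4 n29699 = n62774 := rfl
theorem F97955 : act 2 n62774 = n61622 := d1_1 D62774 (iv4 D61622) F55547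
theorem F97956 : act 7 n62774 = n61625 := d11_2 F55548 D62774 (iv4 D61625)
def n62775 : Q := act 6 n29699
theorem D62775 : act 6 n29699 = n62775 := rfl
theorem F97957 : act 2 n62775 = n61623 := d3_1 D62775 (iv6 D61623) F55547
def n62776 : Q := act 1 n29700
theorem D62776 : act 1 n29700 = n62776 := rfl
theorem F97958 : act 1 n62776 = n61616 := d15_1 D62776 (iv7 F97933) F97932
theorem F97959 : act 7 n62776 = n61627 := d15_2 F54412 D62776 (iv2 F96192)
theorem F97960 : act 4 n62776 = n35015 := d18_7 (iv1 F38067) (iv4 F42388) F42389 (iv4 D14106) D14107 D29700 D62776 F55570 F54406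
theorem F97961 : act 2 n49824 = n62776 := d1_3 F97960 F55565 D49824
def n62777 : Q := act 5 n29700
theorem D62777 : act 5 n29700 = n62777 := rfl
theorem F97962 : act 7 n62777 = n61628 := d13_2 (iv7 F47738) D62777 (iv5 D61628)
def n62778 : Q := act 6 n29700
theorem D62778 : act 6 n29700 = n62778 := rfl
theorem F97963 : act 4 n62778 = n29701 := d10_1 D62778 (iv6 D29701) D29700
def n62779 : Q := act 0 n29701
theorem D62779 : act 0 n29701 = n62779 := rfl
def n62780 : Q := act 1 n29701
theorem D62780 : act 1 n29701 = n62780 := rfl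
def n62781 : Q := act 7 n29701
theorem D62781 : act 7 n29701 = n62781 := rfl
theorem F97964 : act 3 n62781 = n29706 := d8_1 D62781 (iv7 D29706) (iv3 F47739)
theorem F97965 : act 6 n62781 = n61633 := d14_1 D62781 (iv7 D61633) (iv6 D29200) (iv7 F23582) D29701
def n62782 : Q := act 3 n29703
theorem D62782 : act 3 n29703 = n62782 := rfl
theorem F97966 : act 2 n62782 = n52557 := d0_1 D62782 F83063 F45963 (iv3 F45970) F54201
theorem F97967 : act 4 n62782 = n52553 := d5_2 F72751 D62782 F83050 (iv4 F77507) F77505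
theorem F97968 : act 6 n62782 = n52548 := d7_2 (iv6 F54202) D62782 F83042
theorem F97969 : act 7 n62782 = n48900 := d8_2 F54293 D62782 F77083
theorem F97970 : act 0 n62782 = n61650 := d20_10 F96217 F65289 F31814 (iv3 F41493) F78735 F78730 (iv4 F41516) D46135 F72751 D62782
theorem F97971 : act 0 n54019 = n62782 := d20_4 F51057 D32112 F54356 D54019 (iv3 D62782) (iv4 F72751) (iv1 F85371) (iv4 D54091) F46893 (iv1 F54353)
def n62783 : Q := act 2 n29704
theorem D62783 : act 2 n29704 = n62783 := rfl
theorem F97972 : act 7 n29705 = n62783 := d15_2 (iv0 D29704) D29705 (iv2 D62783)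
def n62784 : Q := act 3 n29704
theorem D62784 : act 3 n29704 = n62784 := rfl
def n62785 : Q := act 4 n29704
theorem D62785 : act 4 n29704 = n62785 := rfl
def n62786 : Q := act 5 n29704
theorem D62786 : act 5 n29704 = n62786 := rfl
theorem F97973 : act 0 n62786 = n32527 := d21_1 D62786 F51604 (iv6 D29768) (iv1 D14143) (iv6 D6719) (iv5 D3022) D3019 D6706 D14109 D29704
def n62787 : Q := act 6 n29704
theorem D62787 : act 6 n29704 = n62787 := rfl
theorem F97974 : act 5 n62787 = n32847 := d21_6 (iv5 D3022) D3019 D6706 D14109 D29704 D62787 (iv1 D32847) (iv5 F26884) (iv6 D14139) (iv1 D6717)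
theorem F97975 : act 0 n37015 = n62787 := d21_4 F10960 F41802 D17812 D37015 (iv6 D62787) D62786 F97973 F51604 (iv6 D29768) (iv1 D14143)
def n62788 : Q := act 7 n29704
theorem D62788 : act 7 n29704 = n62788 := rfl
theorem F97976 : act 2 n62788 = n29705 := d4_1 D62788 F97972 (iv2 D62783)
def n62789 : Q := act 3 n29705
theorem D62789 : act 3 n29705 = n62789 := rfl
def n62790 : Q := act 4 n29705
theorem D62790 : act 4 n29705 = n62790 := rfl
def n62791 : Q := act 5 n29705
theorem D62791 : act 5 n29705 = n62791 := rfl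
theorem F97977 : act 0 n32527 = n62791 := d21_10 (iv5 D62791) (iv1 D29705) (iv5 F24981) (iv6 D15434) (iv1 D7284) (iv6 F11578) (iv5 D7274) D7272 D15402 D32527
theorem F97978 : act 6 n32562 = n62791 := d21_5 (iv5 D3344) D3342 D7278 D15419 D32562 (iv5 D62791) (iv1 D29705) (iv5 F24981) (iv6 D15434) (iv1 D7284)
def n62792 : Q := act 6 n29705
theorem D62792 : act 6 n29705 = n62792 := rfl
def n62793 : Q := act 6 n29714
theorem D62793 : act 6 n29714 = n62793 := rfl
theorem F97979 : act 2 n62793 = n60110 := d3_1 D62793 (iv6 D60110) (iv2 F54041)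
theorem F97980 : act 5 n62793 = n60164 := d12_1 D62793 (iv6 D60164) F46161 F54043 D29714
def n62794 : Q := act 4 n29716
theorem D62794 : act 4 n29716 = n62794 := rfl
theorem F97981 : act 2 n62794 = n29720 := d1_1 D62794 (iv4 D29720) (iv2 F47754)
theorem F97982 : act 7 n62794 = n60102 := d11_2 F54021 D62794 (iv4 D60102)
theorem F97983 : act 0 n62794 = n61588 := d18_2 (iv1 F47758) D62794 F96139 F54450 F49995 F23446 (iv4 F45534) F45537 F54170
theorem F97984 : act 1 n62794 = n61587 := d18_6 (iv1 F25689) F25686 F53985 (iv4 F23587) D29716 D62794 F96135 F54443 (iv5 D33393)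
def n62795 : Q := act 6 n29716
theorem D62795 : act 6 n29716 = n62795 := rfl
theorem F97985 : act 2 n62795 = n29721 := d3_1 D62795 (iv6 D29721) (iv2 F47754)
theorem F97986 : act 3 n62795 = n61617 := d7_1 D62795 (iv6 D61617) (iv3 F47755)
def n62796 : Q := act 3 n29718
theorem D62796 : act 3 n29718 = n62796 := rfl
theorem F97987 : act 2 n62796 = n49843 := d0_1 D62796 F78821 (iv2 F78814) F78815 F55518
theorem F97988 : act 5 n62796 = n49842 := d6_2 F54186 D62796 F78818
theorem F97989 : act 7 n62796 = n61582 := d8_2 F55502 D62796 (iv3 D61582)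
theorem F97990 : act 4 n62796 = n61530 := d20_6 (iv4 F46469) F46470 F23346 (iv3 F23592) D29718 D62796 (iv1 D61530) (iv4 D29130) F23131 D13868
theorem F97991 : act 2 n61530 = n62740 := d1_1 F97990 F97872 (iv2 F97987)
theorem F97992 : act 7 n61530 = n62741 := d11_2 (iv7 F97989) F97990 (iv4 F97875)
theorem F97993 : act 0 n60048 = n62796 := d18_0 F97990 (iv1 D61530) (iv4 D29130) (iv5 D13866) (iv4 F23129) (iv0 F54059) F40570 D28518 D60048
theorem F97994 : act 2 n62741 = n61529 := d15_3 (iv0 D61529) D61530 F97992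
theorem F97995 : act 7 n62740 = n61529 := d4_2 (iv7 F97992) F97991 (iv2 F97994)
def n62797 : Q := act 4 n29718
theorem D62797 : act 4 n29718 = n62797 := rfl
theorem F97996 : act 2 n62797 = n61585 := d1_1 D62797 (iv4 D61585) F55518
theorem F97997 : act 7 n62797 = n61583 := d11_2 F55502 D62797 (iv4 D61583)
theorem F97998 : act 1 n62797 = n61570 := d18_6 F49986 (iv4 F18808) (iv1 F55497) F55499 F54186 D62797 (iv4 D61570) (iv0 F54444) (iv5 D34308)
def n62798 : Q := act 6 n29718
theorem D62798 : act 6 n29718 = n62798 := rfl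
theorem F97999 : act 2 n62798 = n61586 := d3_1 D62798 (iv6 D61586) F55518
theorem F98000 : act 5 n62798 = n60355 := d12_1 D62798 (iv6 D60355) F55769 F55766 F54186
def n62799 : Q := act 4 n29719
theorem D62799 : act 4 n29719 = n62799 := rfl
theorem F98001 : act 2 n62799 = n61583 := d1_1 D62799 (iv4 D61583) (iv2 F55519)
theorem F98002 : act 7 n62799 = n61585 := d11_2 (iv7 F55517) D62799 (iv4 D61585)
theorem F98003 : act 0 n62799 = n61570 := d18_2 F54017 D62799 (iv4 D61570) (iv5 D29153) (iv4 F23595) (iv0 F47722) F47715 F54005 D28548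
def n62800 : Q := act 6 n29719
theorem D62800 : act 6 n29719 = n62800 := rfl
theorem F98004 : act 2 n62800 = n61584 := d3_1 D62800 (iv6 D61584) (iv2 F55519)
theorem F98005 : act 3 n62800 = n49840 := d7_1 D62800 (iv6 D49840) (iv3 F54261)
def n62801 : Q := act 5 n29720
theorem D62801 : act 5 n29720 = n62801 := rfl
theorem F98006 : act 7 n62801 = n61589 := d13_2 (iv7 F47765) D62801 (iv5 D61589)
def n62802 : Q := act 6 n29720
theorem D62802 : act 6 n29720 = n62802 := rfl
theorem F98007 : act 4 n62802 = n29721 := d10_1 D62802 (iv6 D29721) D29720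
def n62803 : Q := act 0 n29721
theorem D62803 : act 0 n29721 = n62803 := rfl
def n62804 : Q := act 1 n29721
theorem D62804 : act 1 n29721 = n62804 := rfl
def n62805 : Q := act 5 n29721
theorem D62805 : act 5 n29721 = n62805 := rfl
theorem F98008 : act 3 n62805 = n29725 := d6_1 D62805 (iv5 D29725) (iv3 F47766)
theorem F98009 : act 6 n62805 = n29722 := d12_2 D29721 D62805 (iv5 D29722) (iv6 D14114) D14113
def n62806 : Q := act 7 n29721
theorem D62806 : act 7 n29721 = n62806 := rfl
theorem F98010 : act 3 n62806 = n29726 := d8_1 D62806 (iv7 D29726) (iv3 F47766)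
theorem F98011 : act 6 n62806 = n61593 := d14_1 D62806 (iv7 D61593) (iv6 D29174) (iv7 F23593) D29721
def n62807 : Q := act 4 n29722
theorem D62807 : act 4 n29722 = n62807 := rfl
theorem F98013 : act 1 n62807 = n61480 := d18_6 (iv1 F53986) (iv4 F25686) (iv1 F53974) (iv4 F23595) D29722 D62807 (iv4 D61480) F54038 (iv5 D14089)
def n62808 : Q := act 3 n29723
theorem D62808 : act 3 n29723 = n62808 := rfl
theorem F98014 : act 7 n62808 = n61640 := d8_2 (iv7 F57938) D62808 (iv3 D61640)
def n62809 : Q := act 4 n29723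
theorem D62809 : act 4 n29723 = n62809 := rfl
theorem F98015 : act 2 n62809 = n61637 := d1_1 D62809 (iv4 D61637) (iv2 F57940)
theorem F98016 : act 7 n62809 = n61641 := d11_2 (iv7 F57938) D62809 (iv4 D61641)
def n62810 : Q := act 5 n29723
theorem D62810 : act 5 n29723 = n62810 := rfl
theorem F98017 : act 2 n62810 = n61638 := d2_1 D62810 (iv5 D61638) (iv2 F57940)
theorem F98018 : act 7 n62810 = n50050 := d13_2 (iv7 F57938) D62810 F79216
def n62811 : Q := act 6 n29723
theorem D62811 : act 6 n29723 = n62811 := rfl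
theorem F98019 : act 2 n62811 = n61639 := d3_1 D62811 (iv6 D61639) (iv2 F57940)
theorem F98020 : act 5 n62811 = n31866 := d21_6 F10711 (iv1 F4736) D6709 D14115 D29723 D62811 (iv1 D31866) F24638 (iv6 D14137) (iv1 F10951)
def n62812 : Q := act 3 n29724
theorem D62812 : act 3 n29724 = n62812 := rfl
theorem F98021 : act 7 n62812 = n61636 := d8_2 F57939 D62812 (iv3 D61636)
def n62813 : Q := act 4 n29724
theorem D62813 : act 4 n29724 = n62813 := rfl
theorem F98022 : act 2 n62813 = n61641 := d1_1 D62813 (iv4 D61641) F57937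
theorem F98023 : act 7 n62813 = n61637 := d11_2 F57939 D62813 (iv4 D61637)
def n62814 : Q := act 0 n29725
theorem D62814 : act 0 n29725 = n62814 := rfl
def n62815 : Q := act 1 n29725
theorem D62815 : act 1 n29725 = n62815 := rfl
theorem F98024 : act 1 n62815 = n61645 := d15_1 D62815 (iv7 D61645) (iv2 F47769)
theorem F98025 : act 5 n61777 = n62815 := d21_6 (iv5 D13828) F10638 (iv5 F10709) D13916 D29282 D61777 (iv1 D62815) (iv5 D29725) (iv6 D14115) (iv1 F23097)
def n62816 : Q := act 7 n29725
theorem D62816 : act 7 n29725 = n62816 := rfl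
theorem F98026 : act 2 n62816 = n61645 := d4_1 D62816 (iv7 D61645) (iv2 F47769)
theorem F98027 : act 5 n62816 = n29726 := d13_1 D62816 (iv7 D29726) D29725
theorem F98028 : act 1 n61645 = n62814 := d15_0 (iv0 D62814) D62816 F98026
theorem F98029 : act 1 n61643 = n62816 := d15_1 D61643 (iv7 D62816) F47769
theorem F98030 : act 1 n62816 = n61642 := d15_0 (iv0 D61642) D61645 (iv2 F98026)
def n62817 : Q := act 5 n29728
theorem D62817 : act 5 n29728 = n62817 := rfl
theorem F98031 : act 2 n62817 = n29730 := d2_1 D62817 (iv5 D29730) D29728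
theorem F98034 : act 1 n62817 = n49841 := d17_6 F46645 D61279 F95751 (iv5 D33069) F47786 D62817 F78816 F55506 (iv4 F37991)
theorem F98035 : act 0 n62817 = n49831 := d21_1 D62817 (iv5 D49831) F55539 (iv1 D14864) (iv6 F12954) F26882 (iv1 F51725) (iv5 D28505) D28506 F54046
def n62818 : Q := act 5 n29729
theorem D62818 : act 5 n29729 = n62818 := rfl
theorem F98036 : act 2 n62818 = n33069 := d2_1 D62818 (iv5 D33069) (iv2 F47785)
theorem F98037 : act 3 n62818 = n49207 := d6_1 D62818 F77702 (iv3 F47781)
theorem F98038 : act 7 n62818 = n33071 := d13_2 (iv7 F47782) D62818 (iv5 D33071)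
theorem F98039 : act 0 n62818 = n49685 := d17_2 F47784 D62818 (iv5 D49685) F37986 D29062 (iv0 F52245) (iv5 D33043) (iv0 D15932) (iv4 F25394)
theorem F98040 : act 1 n62818 = n49687 := d17_6 (iv1 F38092) D24307 F77106 (iv5 D29730) D29729 D62818 (iv5 D49687) F78494 F78492
def n62819 : Q := act 4 n29730
theorem D62819 : act 4 n29730 = n62819 := rfl
theorem F98041 : act 7 n62819 = n61635 := d11_2 (iv7 F47788) D62819 (iv4 D61635)
theorem F98042 : act 0 n62819 = n61391 := d18_2 F77106 D62819 (iv4 D61391) (iv5 D29062) (iv4 F37986) (iv0 D24230) F18633 D11444 D24307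
def n62820 : Q := act 6 n29730
theorem D62820 : act 6 n29730 = n62820 := rfl
theorem F98043 : act 3 n62820 = n29732 := d7_1 D62820 (iv6 D29732) (iv3 F47787)
theorem F98044 : act 5 n62820 = n54359 := d12_1 D62820 (iv6 D54359) F41813 F26911 D29730
def n62821 : Q := act 3 n29731
theorem D62821 : act 3 n29731 = n62821 := rfl
theorem F98045 : act 5 n62821 = n34113 := d6_2 (iv5 F47789) D62821 (iv3 D34113)
theorem F98046 : act 7 n62821 = n61646 := d8_2 (iv7 F47790) D62821 (iv3 D61646)
def n62822 : Q := act 6 n29731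
theorem D62822 : act 6 n29731 = n62822 := rfl
theorem F98047 : act 4 n62822 = n29732 := d10_1 D62822 (iv6 D29732) D29731
def n62823 : Q := act 0 n29732
theorem D62823 : act 0 n29732 = n62823 := rfl
theorem F98048 : act 6 n62823 = n32796 := d21_5 (iv5 D6714) D6711 D14121 D29732 D62823 (iv5 D32796) (iv1 D15699) (iv5 F18821) (iv6 D11508) F26539
def n62824 : Q := act 1 n29732
theorem D62824 : act 1 n29732 = n62824 := rfl
def n62825 : Q := act 7 n29732
theorem D62825 : act 7 n29732 = n62825 := rfl
theorem F98049 : act 5 n62825 = n54362 := d13_1 D62825 (iv7 D54362) (iv5 F47804)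
theorem F98050 : act 6 n62825 = n61645 := d14_1 D62825 (iv7 D61645) F46856 (iv7 F26685) D29732
def n62826 : Q := act 0 n29733
theorem D62826 : act 0 n29733 = n62826 := rfl
theorem F98051 : act 1 n61170 = n62826 := d15_0 (iv0 D62826) F47807 (iv2 F95663)
def n62827 : Q := act 1 n29733
theorem D62827 : act 1 n29733 = n62827 := rfl
def n62828 : Q := act 2 n29733
theorem D62828 : act 2 n29733 = n62828 := rfl
theorem F98052 : act 4 n62828 = n29756 := d1_2 (iv4 F47805) D62828 (iv2 D29756)
theorem F98053 : act 5 n62828 = n49976 := d2_2 (iv5 F47806) D62828 (iv2 D49976)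
theorem F98054 : act 7 n62828 = n61170 := d4_2 (iv7 F47807) D62828 F95663
theorem F98055 : act 1 n62828 = n61182 := d15_0 (iv0 D61182) (iv7 F47807) D62828
theorem F98056 : act 1 n62827 = n61170 := d15_1 D62827 (iv7 F98054) (iv2 D62828)
theorem F98057 : act 1 n61183 = n62828 := d15_1 D61183 F98054 F95663
def n62829 : Q := act 6 n29733
theorem D62829 : act 6 n29733 = n62829 := rfl
theorem F98058 : act 3 n62829 = n29734 := d7_1 D62829 (iv6 D29734) D29733
theorem F98059 : act 4 n62829 = n29757 := d10_1 D62829 (iv6 D29757) (iv4 F47805)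
def n62830 : Q := act 0 n29734
theorem D62830 : act 0 n29734 = n62830 := rfl
def n62831 : Q := act 1 n29734
theorem D62831 : act 1 n29734 = n62831 := rfl
def n62832 : Q := act 5 n29734
theorem D62832 : act 5 n29734 = n62832 := rfl
theorem F98060 : act 6 n62832 = n49978 := d12_2 D29734 D62832 (iv5 D49978) (iv6 D24369) (iv5 F26543)
def n62833 : Q := act 7 n29734
theorem D62833 : act 7 n29734 = n62833 := rfl
theorem F98061 : act 4 n62833 = n29737 := d11_1 D62833 (iv7 D29737) (iv4 F47808)
def n62834 : Q := act 2 n29735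
theorem D62834 : act 2 n29735 = n62834 := rfl
theorem F98062 : act 7 n29736 = n62834 := d15_2 (iv0 D29735) D29736 (iv2 D62834)
def n62835 : Q := act 3 n29735
theorem D62835 : act 3 n29735 = n62835 := rfl
def n62836 : Q := act 4 n29735
theorem D62836 : act 4 n29735 = n62836 := rfl
def n62837 : Q := act 5 n29735
theorem D62837 : act 5 n29735 = n62837 := rfl
def n62838 : Q := act 7 n29735
theorem D62838 : act 7 n29735 = n62838 := rfl
theorem F98063 : act 2 n62838 = n29736 := d4_1 D62838 F98062 (iv2 D62834)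
def n62839 : Q := act 3 n29736
theorem D62839 : act 3 n29736 = n62839 := rfl
def n62840 : Q := act 4 n29736
theorem D62840 : act 4 n29736 = n62840 := rfl
def n62841 : Q := act 5 n29736
theorem D62841 : act 5 n29736 = n62841 := rfl
theorem F98064 : act 6 n62841 = n54318 := d21_3 F85963 (iv1 F53912) D62841 (iv1 F85717) F41721 F26499 (iv1 F41761) D17303 (iv6 F41979) (iv1 F85966)
def n62842 : Q := act 6 n29736
theorem D62842 : act 6 n29736 = n62842 := rfl
def n62843 : Q := act 4 n29740
theorem D62843 : act 4 n29740 = n62843 := rfl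
theorem F98065 : act 2 n62843 = n29741 := d1_1 D62843 (iv4 D29741) D29740
theorem F98066 : act 7 n62843 = n61765 := d11_2 (iv7 F47814) D62843 (iv4 D61765)
theorem F98067 : act 0 n62843 = n61767 := d18_2 F50931 D62843 F96353 (iv5 F55578) F46850 (iv0 F47720) (iv4 D29693) (iv0 F54044) D23883
def n62844 : Q := act 6 n29740
theorem D62844 : act 6 n29740 = n62844 := rfl
theorem F98069 : act 2 n62844 = n29742 := d3_1 D62844 (iv6 D29742) D29740
theorem F98070 : act 3 n62844 = n60105 := d7_1 D62844 (iv6 D60105) F50875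
def n62845 : Q := act 5 n29741
theorem D62845 : act 5 n29741 = n62845 := rfl
theorem F98071 : act 7 n62845 = n61768 := d13_2 (iv7 F47818) D62845 (iv5 D61768)
def n62846 : Q := act 6 n29741
theorem D62846 : act 6 n29741 = n62846 := rfl
theorem F98072 : act 4 n62846 = n29742 := d10_1 D62846 (iv6 D29742) D29741
def n62847 : Q := act 0 n29742
theorem D62847 : act 0 n29742 = n62847 := rfl
def n62848 : Q := act 1 n29742
theorem D62848 : act 1 n29742 = n62848 := rfl
def n62849 : Q := act 7 n29742
theorem D62849 : act 7 n29742 = n62849 := rfl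
theorem F98073 : act 3 n62849 = n29745 := d8_1 D62849 (iv7 D29745) (iv3 F47819)
theorem F98074 : act 6 n62849 = n61772 := d14_1 D62849 (iv7 D61772) (iv6 D29281) (iv7 F23615) D29742
def n62850 : Q := act 2 n29743
theorem D62850 : act 2 n29743 = n62850 := rfl
theorem F98075 : act 7 n29744 = n62850 := d15_2 (iv0 D29743) D29744 (iv2 D62850)
def n62851 : Q := act 3 n29743
theorem D62851 : act 3 n29743 = n62851 := rfl
def n62852 : Q := act 4 n29743
theorem D62852 : act 4 n29743 = n62852 := rfl
def n62853 : Q := act 5 n29743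
theorem D62853 : act 5 n29743 = n62853 := rfl
def n62854 : Q := act 6 n29743
theorem D62854 : act 6 n29743 = n62854 := rfl
theorem F98076 : act 5 n62854 = n54366 := d21_6 F23149 F10862 (iv5 F10948) D14137 D29743 D62854 (iv1 D54366) F41819 (iv6 D13885) D13883
def n62855 : Q := act 7 n29743
theorem D62855 : act 7 n29743 = n62855 := rfl
theorem F98077 : act 2 n62855 = n29744 := d4_1 D62855 F98075 (iv2 D62850)
def n62856 : Q := act 3 n29744
theorem D62856 : act 3 n29744 = n62856 := rfl
def n62857 : Q := act 4 n29744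
theorem D62857 : act 4 n29744 = n62857 := rfl
def n62858 : Q := act 6 n29744
theorem D62858 : act 6 n29744 = n62858 := rfl
def n62859 : Q := act 4 n29748
theorem D62859 : act 4 n29748 = n62859 := rfl
theorem F98078 : act 2 n62859 = n29749 := d1_1 D62859 (iv4 D29749) D29748
theorem F98079 : act 7 n62859 = n60104 := d11_2 F50877 D62859 (iv4 D60104)
theorem F98080 : act 0 n62859 = n33401 := d18_2 F50843 D62859 (iv4 D33401) (iv5 D16125) (iv4 F11818) (iv0 F53978) (iv4 F23587) (iv0 F54032) (iv5 F46118)
theorem F98081 : act 1 n62859 = n34321 := d18_6 (iv1 F27099) (iv4 F26821) (iv1 F23441) (iv4 F45529) (iv5 F47828) D62859 (iv4 D34321) F52639 F52637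
def n62860 : Q := act 6 n29748
theorem D62860 : act 6 n29748 = n62860 := rfl
theorem F98082 : act 2 n62860 = n29750 := d3_1 D62860 (iv6 D29750) D29748
theorem F98083 : act 3 n62860 = n61766 := d7_1 D62860 (iv6 D61766) (iv3 F47827)
theorem F98084 : act 5 n62860 = n60056 := d12_1 D62860 (iv6 D60056) F46092 (iv6 F45530) (iv5 F47828)
def n62861 : Q := act 1 n29749
theorem D62861 : act 1 n29749 = n62861 := rfl
theorem F98085 : act 1 n62861 = n60104 := d15_1 D62861 (iv7 F98079) F98078
theorem F98086 : act 7 n62861 = n33401 := d15_2 F52710 D62861 (iv2 F52709)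
theorem F98087 : act 4 n62861 = n33402 := d18_7 (iv1 F49993) F49995 (iv1 D13854) (iv4 F22375) (iv5 F23617) D29749 D62861 F52645 F27113
theorem F98088 : act 2 n34321 = n62861 := d1_3 F98087 F52641 D34321
def n62862 : Q := act 5 n29749
theorem D62862 : act 5 n29749 = n62862 := rfl
theorem F98089 : act 7 n62862 = n61750 := d13_2 (iv7 F47833) D62862 (iv5 D61750)
def n62863 : Q := act 6 n29749
theorem D62863 : act 6 n29749 = n62863 := rfl
theorem F98090 : act 4 n62863 = n29750 := d10_1 D62863 (iv6 D29750) D29749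
def n62864 : Q := act 0 n29750
theorem D62864 : act 0 n29750 = n62864 := rfl
def n62865 : Q := act 1 n29750
theorem D62865 : act 1 n29750 = n62865 := rfl
def n62866 : Q := act 7 n29750
theorem D62866 : act 7 n29750 = n62866 := rfl
theorem F98091 : act 3 n62866 = n29753 := d8_1 D62866 (iv7 D29753) (iv3 F47834)
theorem F98092 : act 6 n62866 = n61754 := d14_1 D62866 (iv7 D61754) (iv6 D29273) (iv7 F23618) D29750
def n62867 : Q := act 2 n29751
theorem D62867 : act 2 n29751 = n62867 := rfl
theorem F98093 : act 7 n29752 = n62867 := d15_2 (iv0 D29751) D29752 (iv2 D62867)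
def n62868 : Q := act 3 n29751
theorem D62868 : act 3 n29751 = n62868 := rfl
def n62869 : Q := act 4 n29751
theorem D62869 : act 4 n29751 = n62869 := rfl
def n62870 : Q := act 5 n29751
theorem D62870 : act 5 n29751 = n62870 := rfl
theorem F98094 : act 0 n32700 = n62870 := d21_10 (iv5 D62870) (iv1 F47838) (iv5 F51741) (iv6 F52002) (iv1 F52004) (iv6 F56339) F56338 (iv1 D32821) (iv5 F26498) D32700
def n62871 : Q := act 6 n29751
theorem D62871 : act 6 n29751 = n62871 := rfl
theorem F98095 : act 5 n62871 = n61643 := d21_6 F23155 F10858 (iv5 F10954) D14139 D29751 D62871 (iv1 D61643) (iv5 D29205) (iv6 D13892) (iv1 F23153)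
def n62872 : Q := act 7 n29751
theorem D62872 : act 7 n29751 = n62872 := rfl
theorem F98096 : act 2 n62872 = n29752 := d4_1 D62872 F98093 (iv2 D62867)
def n62873 : Q := act 3 n29752
theorem D62873 : act 3 n29752 = n62873 := rfl
def n62874 : Q := act 4 n29752
theorem D62874 : act 4 n29752 = n62874 := rfl
def n62875 : Q := act 5 n29752
theorem D62875 : act 5 n29752 = n62875 := rfl
theorem F98097 : act 6 n32677 = n62875 := d21_5 (iv5 D3397) D3394 F25794 D15563 D32677 (iv5 D62875) (iv1 D29752) F26884 (iv6 D15811) (iv1 D7419)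
def n62876 : Q := act 6 n29752
theorem D62876 : act 6 n29752 = n62876 := rfl
def n62877 : Q := act 2 n29754
theorem D62877 : act 2 n29754 = n62877 := rfl
theorem F98098 : act 7 n29755 = n62877 := d15_2 (iv0 D29754) D29755 (iv2 D62877)
def n62878 : Q := act 3 n29754
theorem D62878 : act 3 n29754 = n62878 := rfl
def n62879 : Q := act 4 n29754
theorem D62879 : act 4 n29754 = n62879 := rfl
def n62880 : Q := act 5 n29754
theorem D62880 : act 5 n29754 = n62880 := rfl
def n62881 : Q := act 6 n29754
theorem D62881 : act 6 n29754 = n62881 := rfl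
def n62882 : Q := act 7 n29754
theorem D62882 : act 7 n29754 = n62882 := rfl
theorem F98099 : act 2 n62882 = n29755 := d4_1 D62882 F98098 (iv2 D62877)
def n62883 : Q := act 3 n29755
theorem D62883 : act 3 n29755 = n62883 := rfl
def n62884 : Q := act 4 n29755
theorem D62884 : act 4 n29755 = n62884 := rfl
def n62885 : Q := act 5 n29755
theorem D62885 : act 5 n29755 = n62885 := rfl
def n62886 : Q := act 6 n29755
theorem D62886 : act 6 n29755 = n62886 := rfl
def n62887 : Q := act 6 n29756
theorem D62887 : act 6 n29756 = n62887 := rfl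
theorem F98100 : act 2 n62887 = n29757 := d3_1 D62887 (iv6 D29757) D29756
theorem F98101 : act 3 n62887 = n61793 := d7_1 D62887 (iv6 D61793) (iv3 F47842)
def n62888 : Q := act 0 n29757
theorem D62888 : act 0 n29757 = n62888 := rfl
def n62889 : Q := act 1 n29757
theorem D62889 : act 1 n29757 = n62889 := rfl
def n62890 : Q := act 5 n29757
theorem D62890 : act 5 n29757 = n62890 := rfl
theorem F98102 : act 3 n62890 = n29760 := d6_1 D62890 (iv5 D29760) (iv3 F47848)
theorem F98103 : act 6 n62890 = n61190 := d12_2 D29757 D62890 (iv5 D61190) (iv6 D28976) (iv5 F23620)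
def n62891 : Q := act 7 n29757
theorem D62891 : act 7 n29757 = n62891 := rfl
theorem F98104 : act 3 n62891 = n29761 := d8_1 D62891 (iv7 D29761) (iv3 F47848)
theorem F98105 : act 6 n62891 = n61187 := d14_1 D62891 (iv7 D61187) (iv6 D28975) (iv7 F23621) D29757
def n62893 : Q := act 5 n29758
theorem D62893 : act 5 n29758 = n62893 := rfl
theorem F98109 : act 4 n62893 = n56599 := d16_2 (iv4 F47849) D62893 (iv5 D56599) F44018 (iv5 F21797) (iv4 F42179) F42162 (iv7 F42648) (iv2 F42647)
def n62894 : Q := act 6 n29758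
theorem D62894 : act 6 n29758 = n62894 := rfl
theorem F98110 : act 2 n62894 = n61800 := d3_1 D62894 (iv6 D61800) F47850
theorem F98111 : act 4 n62894 = n54618 := d10_1 D62894 (iv6 D54618) (iv4 F47849)
def n62896 : Q := act 5 n29759
theorem D62896 : act 5 n29759 = n62896 := rfl
theorem F98113 : act 2 n62896 = n61802 := d2_1 D62896 (iv5 D61802) F47856
theorem F98115 : act 7 n62896 = n61799 := d13_2 (iv7 F47854) D62896 (iv5 D61799)
def n62897 : Q := act 6 n29759
theorem D62897 : act 6 n29759 = n62897 := rfl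
theorem F98116 : act 2 n62897 = n61803 := d3_1 D62897 (iv6 D61803) F47856
theorem F98117 : act 4 n62897 = n54620 := d10_1 D62897 (iv6 D54620) (iv4 F47855)
def n62898 : Q := act 0 n29760
theorem D62898 : act 0 n29760 = n62898 := rfl
theorem F98118 : act 5 n62898 = n54608 := d17_3 (iv1 D29759) D29760 D62898 (iv4 D54608) (iv5 D26407) (iv0 D12601) D12603 D26415 (iv4 F47855)
theorem F98119 : act 4 n62898 = n56607 := d18_1 D62898 (iv1 D56607) D56608 F89533 F52390 F42167 (iv4 F47849) (iv0 D29758) D29760
theorem F98120 : act 1 n56874 = n62898 := d15_0 (iv0 D62898) F58626 (iv2 F89913)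
def n62899 : Q := act 1 n29760
theorem D62899 : act 1 n29760 = n62899 := rfl
theorem F98125 : act 5 n62899 = n54615 := d17_7 (iv1 F46245) (iv5 D17831) F41803 (iv5 F10960) (iv4 F23623) D29760 D62899 (iv0 F94934) (iv4 D60424)
def n62900 : Q := act 0 n29762
theorem D62900 : act 0 n29762 = n62900 := rfl
theorem F98128 : act 1 n61818 = n62900 := d15_0 (iv0 D62900) F47864 D61818
def n62901 : Q := act 1 n29762
theorem D62901 : act 1 n29762 = n62901 := rfl
def n62902 : Q := act 2 n29762
theorem D62902 : act 2 n29762 = n62902 := rfl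
theorem F98129 : act 3 n62902 = n61808 := d0_2 D29762 D62902 (iv2 D61808) (iv3 D29293) (iv2 F41800)
theorem F98130 : act 7 n62902 = n61818 := d4_2 (iv7 F47864) D62902 (iv2 D61818)
theorem F98131 : act 1 n62902 = n61816 := d15_0 (iv0 D61816) (iv7 F47864) D62902
theorem F98132 : act 1 n62901 = n61818 := d15_1 D62901 (iv7 F98130) (iv2 D62902)
theorem F98133 : act 1 n61817 = n62902 := d15_1 D61817 F98130 (iv2 D61818)
def n62903 : Q := act 4 n29762
theorem D62903 : act 4 n29762 = n62903 := rfl
theorem F98134 : act 7 n62903 = n61819 := d11_2 (iv7 F47864) D62903 (iv4 D61819)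
def n62904 : Q := act 5 n29762
theorem D62904 : act 5 n29762 = n62904 := rfl
theorem F98135 : act 3 n62904 = n29764 := d6_1 D62904 (iv5 D29764) D29762
theorem F98136 : act 7 n62904 = n36324 := d13_2 (iv7 F47864) D62904 (iv5 F57050)
theorem F98137 : act 6 n39637 = n62904 := d14_5 F98136 (iv6 D36324) F41789 D32533 (iv7 F60521)
def n62905 : Q := act 6 n29762
theorem D62905 : act 6 n29762 = n62905 := rfl
theorem F98138 : act 3 n62905 = n29765 := d7_1 D62905 (iv6 D29765) D29762
def n62907 : Q := act 5 n29763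
theorem D62907 : act 5 n29763 = n62907 := rfl
theorem F98142 : act 4 n62907 = n37072 := d16_2 D29763 D62907 (iv5 D37072) (iv4 D17841) (iv5 F21574) F41796 F24964 (iv7 F41799) (iv2 F41800)
def n62908 : Q := act 6 n29763
theorem D62908 : act 6 n29763 = n62908 := rfl
theorem F98143 : act 2 n62908 = n61813 := d3_1 D62908 (iv6 D61813) (iv2 F47865)
theorem F98144 : act 4 n62908 = n29765 := d10_1 D62908 (iv6 D29765) D29763
def n62909 : Q := act 0 n29765
theorem D62909 : act 0 n29765 = n62909 := rfl
def n62910 : Q := act 1 n29765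
theorem D62910 : act 1 n29765 = n62910 := rfl
theorem F98145 : act 1 n62910 = n61815 := d15_1 D62910 (iv7 D61815) (iv2 F47874)
def n62911 : Q := act 5 n29765
theorem D62911 : act 5 n29765 = n62911 := rfl
theorem F98146 : act 2 n62911 = n31810 := d2_1 D62911 (iv5 F50114) (iv2 F47874)
theorem F98147 : act 6 n62911 = n39638 := d12_2 D29765 D62911 (iv5 D39638) (iv6 F47873) (iv5 D29764)
theorem F98148 : act 0 n62911 = n31798 := d21_7 (iv5 D6709) (iv1 D3020) D3022 D6719 D14142 D29765 D62911 F50102 (iv6 D29058) F23099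
theorem F98149 : act 0 n31811 = n62911 := d21_7 F23178 (iv1 F41804) D17831 D37057 (iv1 F96158) (iv6 F96147) F96146 (iv5 D62911) (iv6 D29765) (iv1 F23627)
def n62912 : Q := act 7 n29765
theorem D62912 : act 7 n29765 = n62912 := rfl
theorem F98150 : act 2 n62912 = n61815 := d4_1 D62912 (iv7 D61815) (iv2 F47874)
theorem F98151 : act 6 n62912 = n61826 := d14_1 D62912 (iv7 D61826) (iv6 D29298) (iv7 F41798) D29765
theorem F98152 : act 1 n61815 = n62909 := d15_0 (iv0 D62909) D62912 F98150
theorem F98153 : act 1 n61814 = n62912 := d15_1 D61814 (iv7 D62912) F47874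
theorem F98154 : act 1 n62912 = n61782 := d15_0 (iv0 F96362) D61815 (iv2 F98150)
def n62913 : Q := act 0 n29766
theorem D62913 : act 0 n29766 = n62913 := rfl
theorem F98155 : act 1 n61808 = n62913 := d15_0 (iv0 D62913) F47875 D61808
def n62914 : Q := act 1 n29766
theorem D62914 : act 1 n29766 = n62914 := rfl
def n62915 : Q := act 2 n29766
theorem D62915 : act 2 n29766 = n62915 := rfl
theorem F98156 : act 3 n62915 = n61818 := d0_2 D29766 D62915 (iv2 D61818) (iv3 D29296) F41797
theorem F98157 : act 7 n62915 = n61808 := d4_2 (iv7 F47875) D62915 (iv2 D61808)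
theorem F98158 : act 1 n62915 = n61806 := d15_0 (iv0 D61806) (iv7 F47875) D62915
theorem F98159 : act 1 n62914 = n61808 := d15_1 D62914 (iv7 F98157) (iv2 D62915)
theorem F98160 : act 1 n61807 = n62915 := d15_1 D61807 F98157 (iv2 D61808)
def n62916 : Q := act 4 n29766
theorem D62916 : act 4 n29766 = n62916 := rfl
theorem F98161 : act 7 n62916 = n61809 := d11_2 (iv7 F47875) D62916 (iv4 D61809)
def n62917 : Q := act 6 n29766
theorem D62917 : act 6 n29766 = n62917 := rfl
theorem F98162 : act 3 n62917 = n29768 := d7_1 D62917 (iv6 D29768) D29766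
def n62918 : Q := act 3 n29767
theorem D62918 : act 3 n29767 = n62918 := rfl
def n62919 : Q := act 5 n29767
theorem D62919 : act 5 n29767 = n62919 := rfl
theorem F98165 : act 4 n62919 = n37065 := d9_1 D62919 (iv5 D37065) (iv4 D17837) (iv5 F30471) (iv4 F47869) (iv5 D29764) D29763 D62907 F98142 (iv5 D37072) (iv4 D17841) (iv5 F21574) F41796 F24964 D29767
def n62920 : Q := act 6 n29767
theorem D62920 : act 6 n29767 = n62920 := rfl
theorem F98167 : act 2 n62920 = n61823 := d3_1 D62920 (iv6 D61823) (iv2 F47876)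
theorem F98168 : act 4 n62920 = n29768 := d10_1 D62920 (iv6 D29768) D29767
def n62921 : Q := act 0 n29768
theorem D62921 : act 0 n29768 = n62921 := rfl
theorem F98169 : act 5 n62921 = n54365 := d21_0 (iv1 F85810) F51658 F47742 (iv1 F47768) (iv6 F51964) F51963 (iv1 F46248) F24964 D29768 D62921
def n62922 : Q := act 1 n29768
theorem D62922 : act 1 n29768 = n62922 := rfl
theorem F98170 : act 1 n62922 = n61826 := d15_1 D62922 (iv7 D61826) (iv2 F47879)
def n62923 : Q := act 7 n29768
theorem D62923 : act 7 n29768 = n62923 := rfl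
theorem F98171 : act 2 n62923 = n61826 := d4_1 D62923 (iv7 D61826) (iv2 F47879)
theorem F98172 : act 6 n62923 = n61815 := d14_1 D62923 (iv7 D61815) (iv6 D29295) F41799 D29768
theorem F98173 : act 1 n61826 = n62921 := d15_0 (iv0 D62921) D62923 F98171
theorem F98174 : act 1 n61825 = n62923 := d15_1 D61825 (iv7 D62923) F47879
theorem F98175 : act 1 n62923 = n61824 := d15_0 (iv0 D61824) D61826 (iv2 F98171)
def n62924 : Q := act 2 n29770
theorem D62924 : act 2 n29770 = n62924 := rfl
theorem F98176 : act 7 n29771 = n62924 := d15_2 (iv0 D29770) D29771 (iv2 D62924)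
def n62925 : Q := act 3 n29770
theorem D62925 : act 3 n29770 = n62925 := rfl
def n62926 : Q := act 4 n29770
theorem D62926 : act 4 n29770 = n62926 := rfl
def n62927 : Q := act 5 n29770
theorem D62927 : act 5 n29770 = n62927 := rfl
def n62928 : Q := act 6 n29770
theorem D62928 : act 6 n29770 = n62928 := rfl
def n62929 : Q := act 7 n29770
theorem D62929 : act 7 n29770 = n62929 := rfl
theorem F98177 : act 2 n62929 = n29771 := d4_1 D62929 F98176 (iv2 D62924)
def n62930 : Q := act 3 n29771
theorem D62930 : act 3 n29771 = n62930 := rfl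
def n62931 : Q := act 4 n29771
theorem D62931 : act 4 n29771 = n62931 := rfl
def n62932 : Q := act 5 n29771
theorem D62932 : act 5 n29771 = n62932 := rfl
def n62933 : Q := act 6 n29771
theorem D62933 : act 6 n29771 = n62933 := rfl
def n62934 : Q := act 3 n29772
theorem D62934 : act 3 n29772 = n62934 := rfl
theorem F98178 : act 4 n62934 = n49704 := d5_2 D29772 D62934 (iv3 D49704) (iv4 D24241) (iv3 F23632)
theorem F98179 : act 7 n62934 = n51424 := d8_2 (iv7 F47888) D62934 (iv3 D51424)
def n62935 : Q := act 5 n29772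
theorem D62935 : act 5 n29772 = n62935 := rfl
theorem F98180 : act 2 n62935 = n51380 := d2_1 D62935 F81109 (iv2 F47887)
theorem F98181 : act 7 n62935 = n51379 := d13_2 (iv7 F47888) D62935 F81105
theorem F98182 : act 4 n62935 = n53449 := d16_2 D29772 D62935 (iv5 D53449) (iv4 D25892) (iv5 D12290) D12289 D25891 F40900 F23636
theorem F98183 : act 0 n62935 = n51320 := d17_2 (iv1 F47890) D62935 (iv5 D51320) (iv4 D24955) (iv5 D11849) (iv0 D5559) D5561 D11854 D24962
theorem F98184 : act 1 n62935 = n51326 := d17_6 (iv1 F39003) (iv5 D24875) (iv1 F19351) D14146 D29772 D62935 (iv5 D51326) (iv0 F79646) (iv4 D50265)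
def n62936 : Q := act 0 n29773
theorem D62936 : act 0 n29773 = n62936 := rfl
def n62937 : Q := act 1 n29773
theorem D62937 : act 1 n29773 = n62937 := rfl
def n62938 : Q := act 2 n29773
theorem D62938 : act 2 n29773 = n62938 := rfl
theorem F98185 : act 6 n62938 = n51279 := d3_2 (iv6 F47891) D62938 (iv2 D51279)
def n62939 : Q := act 5 n29773
theorem D62939 : act 5 n29773 = n62939 := rfl
theorem F98186 : act 3 n62939 = n29774 := d6_1 D62939 (iv5 D29774) D29773
def n62940 : Q := act 4 n29774
theorem D62940 : act 4 n29774 = n62940 := rfl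
theorem F98187 : act 2 n62940 = n51379 := d1_1 D62940 F81106 F47904
theorem F98188 : act 5 n62940 = n51331 := d9_2 D29774 D62940 F81005 (iv5 D25891) (iv4 D12289) D12290 D25892 D53449 (iv4 F98182) (iv5 D62935) (iv4 D29772) (iv5 D14146) F10967 D6724 D14147
theorem F98189 : act 7 n62940 = n51380 := d11_2 F49114 D62940 (iv4 F81110)
theorem F98190 : act 0 n62940 = n51326 := d17_0 (iv5 D51326) (iv1 F80306) (iv5 F81203) F81204 (iv5 D50283) (iv0 F38992) D51102 F80617 D62940
theorem F98191 : act 1 n62940 = n51320 := d18_6 (iv1 F39021) (iv4 D12310) F19551 D14147 D29774 D62940 F80971 F80675 F80674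
def n62941 : Q := act 6 n29774
theorem D62941 : act 6 n29774 = n62941 := rfl
theorem F98192 : act 5 n62941 = n51285 := d12_1 D62941 (iv6 D51285) (iv5 D24933) (iv6 F23633) D29774
def n62942 : Q := act 3 n29775
theorem D62942 : act 3 n29775 = n62942 := rfl
theorem F98193 : act 4 n62942 = n29778 := d5_2 D29775 D62942 (iv3 D29778) (iv4 D14150) (iv3 F23634)
theorem F98194 : act 6 n62942 = n51291 := d7_2 (iv6 F47892) D62942 (iv3 D51291)
def n62943 : Q := act 5 n29775
theorem D62943 : act 5 n29775 = n62943 := rfl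
theorem F98195 : act 4 n62943 = n50454 := d16_2 D29775 D62943 F79828 (iv4 F49276) (iv5 D30833) F24267 D24576 F38572 F23946
def n62944 : Q := act 6 n29776
theorem D62944 : act 6 n29776 = n62944 := rfl
theorem F98196 : act 2 n62944 = n51494 := d3_1 D62944 (iv6 D51494) F47896
theorem F98197 : act 3 n62944 = n58885 := d7_1 D62944 (iv6 D58885) F47897
theorem F98198 : act 4 n62944 = n51349 := d10_1 D62944 (iv6 D51349) F47898
theorem F98199 : act 5 n62944 = n50058 := d12_1 D62944 (iv6 D50058) (iv5 D24413) D24414 (iv5 F47895)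
def n62945 : Q := act 5 n29777
theorem D62945 : act 5 n29777 = n62945 := rfl
theorem F98200 : act 2 n62945 = n51117 := d2_1 D62945 (iv5 D51117) F47900
theorem F98201 : act 4 n62945 = n51348 := d9_1 D62945 (iv5 D51348) F47898 F47895 F38285 (iv5 F23743) D28269 D59541 F93964 (iv5 D51345) F39164 (iv5 F39233) (iv4 F49250) F49249 (iv4 F47899)
theorem F98202 : act 7 n62945 = n51125 := d13_2 (iv7 F47902) D62945 (iv5 D51125)
theorem F98203 : act 0 n62945 = n53452 := d17_2 D29777 D62945 (iv5 D53452) (iv4 D25895) (iv5 F24337) (iv0 D14655) (iv5 D7001) (iv0 F19320) D14150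
theorem F98204 : act 1 n62945 = n50283 := d17_6 D24869 F38988 D30826 F49249 (iv4 F47899) D62945 (iv5 D50283) (iv0 F38992) (iv4 D24870)
def n62946 : Q := act 6 n29777
theorem D62946 : act 6 n29777 = n62946 := rfl
theorem F98205 : act 2 n62946 = n51118 := d3_1 D62946 (iv6 D51118) F47900
theorem F98206 : act 4 n62946 = n51089 := d10_1 D62946 (iv6 D51089) (iv4 F47899)
def n62947 : Q := act 0 n29778
theorem D62947 : act 0 n29778 = n62947 := rfl
def n62948 : Q := act 1 n29778
theorem D62948 : act 1 n29778 = n62948 := rfl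
def n62949 : Q := act 2 n29778
theorem D62949 : act 2 n29778 = n62949 := rfl
theorem F98207 : act 3 n62949 = n62938 := d0_2 D29778 D62949 (iv2 D62938) (iv3 D29773) (iv2 F23637)
theorem F98208 : act 6 n62949 = n51310 := d3_2 (iv6 F47903) D62949 (iv2 D51310)
def n62950 : Q := act 5 n29778
theorem D62950 : act 5 n29778 = n62950 := rfl
theorem F98209 : act 3 n62950 = n29779 := d6_1 D62950 (iv5 D29779) D29778
def n62951 : Q := act 0 n29779
theorem D62951 : act 0 n29779 = n62951 := rfl
theorem F98210 : act 5 n62951 = n30671 := d17_1 D62951 (iv1 D30671) D30673 (iv4 F81099) (iv5 D51372) F39193 D24993 F81107 F81106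
theorem F98211 : act 4 n62951 = n51356 := d18_1 D62951 (iv1 D51356) (iv4 F80673) F80674 F39020 F38952 (iv4 F47899) (iv0 D29777) D29779
theorem F98212 : act 2 n51102 = n62951 := d15_3 (iv0 D62951) (iv0 F93907) F93905
theorem F98213 : act 1 n30661 = n62951 := d15_0 (iv0 D62951) (iv7 F84333) F84332
theorem F98214 : act 7 n62951 = n51111 := d15_2 F93908 F98213 (iv2 F93904)
def n62952 : Q := act 6 n29779
theorem D62952 : act 6 n29779 = n62952 := rfl
theorem F98215 : act 2 n62952 = n62941 := d3_1 D62952 (iv6 D62941) (iv2 F47904)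
theorem F98216 : act 5 n62952 = n51315 := d12_1 D62952 (iv6 D51315) (iv5 D24949) (iv6 F23638) D29779
def n62953 : Q := act 4 n29780
theorem D62953 : act 4 n29780 = n62953 := rfl
theorem F98217 : act 2 n62953 = n29798 := d1_1 D62953 (iv4 D29798) (iv2 F47905)
theorem F98218 : act 7 n62953 = n29815 := d11_2 (iv7 F47907) D62953 (iv4 D29815)
theorem F98219 : act 5 n62953 = n51313 := d17_5 F38897 (iv5 D24844) F23642 D29780 D62953 (iv0 D51313) (iv5 D24949) D24947 F39117
theorem F98220 : act 0 n62953 = n30516 := d18_2 (iv1 F78596) D62953 (iv4 D30516) F24117 F20348 (iv0 F38346) (iv4 F38394) F79334 F79332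
theorem F98221 : act 1 n62953 = n30518 := d18_6 (iv1 D5556) (iv4 F4756) D6732 D14151 D29780 D62953 (iv4 D30518) F24121 (iv5 D11842)
def n62954 : Q := act 6 n29780
theorem D62954 : act 6 n29780 = n62954 := rfl
theorem F98222 : act 2 n62954 = n29799 := d3_1 D62954 (iv6 D29799) (iv2 F47905)
theorem F98223 : act 3 n62954 = n49902 := d7_1 D62954 (iv6 D49902) (iv3 F47906)
theorem F98224 : act 5 n62954 = n60452 := d12_1 D62954 (iv6 D60452) F46305 F38541 D29780
def n62955 : Q := act 0 n29781
theorem D62955 : act 0 n29781 = n62955 := rfl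
theorem F98225 : act 4 n62955 = n29940 := d18_3 (iv1 F46688) D29781 D62955 (iv5 D29940) F24450 F40234 F38394 F38351 (iv5 F46685)
theorem F98226 : act 2 n29803 = n62955 := d15_3 (iv0 D62955) (iv0 F95289) F95288
theorem F98227 : act 1 n29782 = n62955 := d15_0 (iv0 D62955) F47909 (iv2 F47910)
theorem F98228 : act 7 n62955 = n29804 := d15_2 F95290 F98227 (iv2 F95287)
def n62956 : Q := act 3 n29781
theorem D62956 : act 3 n29781 = n62956 := rfl
theorem F98229 : act 7 n62956 = n29818 := d8_2 (iv7 F47909) D62956 (iv3 D29818)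
def n62957 : Q := act 5 n29781
theorem D62957 : act 5 n29781 = n62957 := rfl
theorem F98230 : act 2 n62957 = n29806 := d2_1 D62957 (iv5 D29806) (iv2 F47908)
theorem F98231 : act 7 n62957 = n29819 := d13_2 (iv7 F47909) D62957 (iv5 D29819)
theorem F98232 : act 4 n62957 = n51314 := d16_2 D29781 D62957 F80952 (iv4 D49734) (iv5 D24254) F18662 D14153 F23650 (iv2 F23644)
theorem F98233 : act 1 n62957 = n51079 := d17_6 F18896 (iv5 D6734) D6732 D14152 D29781 D62957 (iv5 D51079) F38905 (iv4 D24499)
def n62958 : Q := act 3 n29782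
theorem D62958 : act 3 n29782 = n62958 := rfl
theorem F98234 : act 4 n62958 = n60558 := d5_2 D29782 D62958 (iv3 D60558) (iv4 D28759) (iv3 F23649)
theorem F98235 : act 7 n62958 = n29805 := d8_2 (iv7 F47911) D62958 (iv3 D29805)
def n62959 : Q := act 5 n29782
theorem D62959 : act 5 n29782 = n62959 := rfl
theorem F98236 : act 2 n62959 = n29819 := d2_1 D62959 (iv5 D29819) (iv2 F47910)
theorem F98237 : act 4 n62959 = n51313 := d9_1 D62959 (iv5 F98219) (iv4 D62953) (iv5 D29780) (iv4 D14151) D14152 D29781 D62957 F98232 F80952 (iv4 D49734) (iv5 D24254) F18662 D14153 D29782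
theorem F98238 : act 7 n62959 = n29806 := d13_2 (iv7 F47911) D62959 (iv5 D29806)
theorem F98239 : act 0 n62959 = n51079 := d17_2 (iv1 F98227) D62959 (iv5 D51079) (iv4 D24848) (iv5 D11778) (iv0 F19479) D16525 (iv0 F48135) (iv4 F98225)
def n62960 : Q := act 6 n29782
theorem D62960 : act 6 n29782 = n62960 := rfl
theorem F98240 : act 2 n62960 = n29820 := d3_1 D62960 (iv6 D29820) (iv2 F47910)
theorem F98241 : act 4 n62960 = n29783 := d10_1 D62960 (iv6 D29783) D29782
def n62961 : Q := act 3 n29784
theorem D62961 : act 3 n29784 = n62961 := rfl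
theorem F98242 : act 7 n62961 = n29836 := d8_2 (iv7 F47916) D62961 (iv3 D29836)
def n62962 : Q := act 5 n29784
theorem D62962 : act 5 n29784 = n62962 := rfl
theorem F98243 : act 2 n62962 = n29829 := d2_1 D62962 (iv5 D29829) (iv2 F47915)
theorem F98244 : act 4 n62962 = n51306 := d9_1 D62962 (iv5 D51306) F39117 F38031 F18888 D11587 D24499 D50243 (iv4 F80939) (iv5 D51303) (iv4 F80546) F80545 F79323 F38342 D29784
theorem F98245 : act 7 n62962 = n29837 := d13_2 (iv7 F47916) D62962 (iv5 D29837)
def n62963 : Q := act 6 n29784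
theorem D62963 : act 6 n29784 = n62963 := rfl
theorem F98246 : act 2 n62963 = n29830 := d3_1 D62963 (iv6 D29830) (iv2 F47915)
theorem F98247 : act 4 n62963 = n29785 := d10_1 D62963 (iv6 D29785) D29784
def n62964 : Q := act 0 n29785
theorem D62964 : act 0 n29785 = n62964 := rfl
theorem F98248 : act 6 n62964 = n51394 := d21_5 F23679 D24444 F38342 D29785 D62964 (iv5 F81123) (iv1 D50168) F38417 (iv6 D14164) D14162
theorem F98249 : act 0 n62964 = n29833 := d21_4 F79721 (iv1 F79492) F81123 (iv6 F98248) (iv6 F79590) F79589 (iv1 F79449) (iv5 F79450) (iv6 F79451) (iv1 F79725)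
def n62965 : Q := act 1 n29785
theorem D62965 : act 1 n29785 = n62965 := rfl
theorem F98250 : act 1 n62965 = n29833 := d15_1 D62965 (iv7 D29833) (iv2 F47918)
def n62966 : Q := act 7 n29785
theorem D62966 : act 7 n29785 = n62966 := rfl
theorem F98251 : act 2 n62966 = n29833 := d4_1 D62966 (iv7 D29833) (iv2 F47918)
theorem F98252 : act 5 n62966 = n30684 := d13_1 D62966 (iv7 D30684) (iv5 F47919)
theorem F98253 : act 6 n62966 = n29841 := d14_1 D62966 (iv7 D29841) (iv6 D14179) (iv7 F23657) D29785
theorem F98254 : act 1 n29832 = n62966 := d15_1 D29832 (iv7 D62966) F47918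
theorem F98255 : act 0 n29831 = n62966 := d21_4 (iv5 F79494) (iv1 F79497) F79498 (iv6 F79500) F98253 (iv5 F79453) (iv1 F79456) D50235 (iv6 F79714) (iv1 F79723)
def n62967 : Q := act 3 n29786
theorem D62967 : act 3 n29786 = n62967 := rfl
theorem F98256 : act 4 n62967 = n30088 := d5_2 (iv4 F47922) D62967 (iv3 D30088) F45609 (iv3 F45608)
theorem F98257 : act 7 n62967 = n29842 := d8_2 (iv7 F47921) D62967 (iv3 D29842)
def n62968 : Q := act 5 n29786
theorem D62968 : act 5 n29786 = n62968 := rfl
theorem F98258 : act 2 n62968 = n29846 := d2_1 D62968 (iv5 D29846) F47923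
theorem F98259 : act 4 n62968 = n30567 := d9_1 D62968 (iv5 D30567) (iv4 D14501) (iv5 F20353) (iv4 F40229) F40230 D29330 D61902 F96502 (iv5 D51298) (iv4 D24944) (iv5 F19241) (iv4 F37743) F38923 (iv4 F47922)
theorem F98260 : act 7 n62968 = n29843 := d13_2 (iv7 F47921) D62968 (iv5 D29843)
def n62969 : Q := act 6 n29786
theorem D62969 : act 6 n29786 = n62969 := rfl
theorem F98262 : act 2 n62969 = n29847 := d3_1 D62969 (iv6 D29847) F47923
theorem F98263 : act 4 n62969 = n51084 := d10_1 D62969 (iv6 D51084) (iv4 F47922)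
def n62970 : Q := act 0 n29787
theorem D62970 : act 0 n29787 = n62970 := rfl
def n62971 : Q := act 1 n29787
theorem D62971 : act 1 n29787 = n62971 := rfl
def n62972 : Q := act 2 n29787
theorem D62972 : act 2 n29787 = n62972 := rfl
theorem F98264 : act 3 n62972 = n29850 := d0_2 D29787 D62972 (iv2 D29850) (iv3 D14182) (iv2 F23652)
def n62973 : Q := act 5 n29787
theorem D62973 : act 5 n29787 = n62973 := rfl
theorem F98265 : act 3 n62973 = n29788 := d6_1 D62973 (iv5 D29788) D29787
def n62974 : Q := act 7 n29787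
theorem D62974 : act 7 n29787 = n62974 := rfl
theorem F98266 : act 3 n62974 = n29789 := d8_1 D62974 (iv7 D29789) D29787
def n62975 : Q := act 1 n29788
theorem D62975 : act 1 n29788 = n62975 := rfl
theorem F98267 : act 1 n62975 = n29857 := d15_1 D62975 (iv7 D29857) (iv2 F47924)
theorem F98268 : act 7 n62975 = n29853 := d15_2 F96399 D62975 (iv2 F96395)
theorem F98269 : act 5 n62975 = n51082 := d17_7 (iv1 F23651) (iv5 D14153) (iv1 D6733) D6734 D14155 D29788 D62975 F80572 (iv4 D29547)
theorem F98270 : act 4 n62975 = n30522 := d18_7 F38970 (iv4 D14501) (iv1 F19244) (iv4 F39080) (iv5 F80898) F80897 D62975 (iv0 F80602) (iv5 D51096)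
theorem F98271 : act 2 n29854 = n62975 := d1_3 F98270 (iv2 F80850) F80851
def n62976 : Q := act 6 n29788
theorem D62976 : act 6 n29788 = n62976 := rfl
theorem F98272 : act 2 n62976 = n29856 := d3_1 D62976 (iv6 D29856) (iv2 F47924)
def n62977 : Q := act 6 n29789
theorem D62977 : act 6 n29789 = n62977 := rfl
theorem F98273 : act 2 n62977 = n29858 := d3_1 D62977 (iv6 D29858) (iv2 F47925)
theorem F98274 : act 4 n62977 = n29790 := d10_1 D62977 (iv6 D29790) (iv4 F47926)
def n62978 : Q := act 3 n29792
theorem D62978 : act 3 n29792 = n62978 := rfl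
theorem F98275 : act 4 n62978 = n29805 := d5_2 D29792 D62978 (iv3 D29805) (iv4 D14163) (iv3 F23663)
theorem F98276 : act 7 n62978 = n60558 := d8_2 (iv7 F47937) D62978 (iv3 D60558)
def n62979 : Q := act 6 n29792
theorem D62979 : act 6 n29792 = n62979 := rfl
theorem F98277 : act 2 n62979 = n60515 := d3_1 D62979 (iv6 D60515) (iv2 F47936)
theorem F98278 : act 4 n62979 = n29793 := d10_1 D62979 (iv6 D29793) D29792
def n62980 : Q := act 0 n29793
theorem D62980 : act 0 n29793 = n62980 := rfl
theorem F98279 : act 6 n62980 = n49283 := d21_5 (iv5 D11309) (iv1 F22512) D14157 D29793 D62980 F92959 (iv1 D58801) (iv5 F78023) (iv6 D49353) (iv1 D24087)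
theorem F98280 : act 5 n62980 = n48642 := d21_0 (iv1 D48642) (iv5 F37729) (iv6 D24091) (iv1 D11312) (iv6 F18459) (iv5 D11309) (iv1 F22512) D14157 D29793 D62980
def n62981 : Q := act 1 n29793
theorem D62981 : act 1 n29793 = n62981 := rfl
theorem F98281 : act 1 n62981 = n60516 := d15_1 D62981 (iv7 D60516) (iv2 F47939)
theorem F98282 : act 5 n48641 = n62981 := d21_0 (iv1 D62981) (iv5 F76482) (iv6 D48632) (iv1 D23709) F17988 (iv5 D5078) D5076 D11104 D23716 D48641
def n62982 : Q := act 7 n29793
theorem D62982 : act 7 n29793 = n62982 := rfl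
theorem F98283 : act 2 n62982 = n60516 := d4_1 D62982 (iv7 D60516) (iv2 F47939)
theorem F98284 : act 3 n62982 = n29810 := d8_1 D62982 (iv7 D29810) (iv3 F47940)
theorem F98285 : act 6 n62982 = n49540 := d14_1 D62982 F78294 (iv6 D28760) (iv7 F23664) D29793
theorem F98286 : act 1 n60516 = n62980 := d15_0 (iv0 D62980) D62982 F98283
theorem F98287 : act 1 n52288 = n62982 := d15_1 (iv0 F82663) (iv7 D62982) F47939
theorem F98288 : act 1 n62982 = n52292 := d15_0 (iv0 F82665) D60516 (iv2 F98283)
def n62983 : Q := act 6 n29795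
theorem D62983 : act 6 n29795 = n62983 := rfl
theorem F98289 : act 2 n62983 = n51097 := d3_1 D62983 (iv6 D51097) (iv2 F47947)
theorem F98290 : act 3 n62983 = n62007 := d7_1 D62983 (iv6 D62007) (iv3 F47948)
theorem F98291 : act 5 n62983 = n62983 := d12_1 D62983 (iv6 D62983) (iv5 D29795) F23677 D29795
theorem F98292 : act 7 n62983 = n51092 := d14_2 (iv7 F47949) D62983 (iv6 D51092) (iv7 D24862) (iv6 F38896)
theorem F98293 : act 1 n51145 = n62983 := d15_1 D51145 F98292 F80593
theorem F98294 : act 1 n62983 = n51144 := d15_0 (iv0 D51144) (iv7 F80605) (iv2 F98289)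
def n62984 : Q := act 6 n29796
theorem D62984 : act 6 n29796 = n62984 := rfl
theorem F98295 : act 5 n62984 = n50105 := d12_1 D62984 (iv6 D50105) (iv5 D24436) D24437 (iv5 F47952)
def n62985 : Q := act 3 n29798
theorem D62985 : act 3 n29798 = n62985 := rfl
def n62986 : Q := act 6 n29798
theorem D62986 : act 6 n29798 = n62986 := rfl
theorem F98296 : act 4 n62986 = n29799 := d10_1 D62986 (iv6 D29799) D29798
def n62987 : Q := act 0 n29799
theorem D62987 : act 0 n29799 = n62987 := rfl
def n62988 : Q := act 1 n29799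
theorem D62988 : act 1 n29799 = n62988 := rfl
def n62989 : Q := act 7 n29799
theorem D62989 : act 7 n29799 = n62989 := rfl
def n62990 : Q := act 3 n29801
theorem D62990 : act 3 n29801 = n62990 := rfl
def n62991 : Q := act 5 n29801
theorem D62991 : act 5 n29801 = n62991 := rfl
theorem F98297 : act 2 n62991 = n62523 := d2_1 D62991 (iv5 D62523) (iv2 F47962)
theorem F98298 : act 0 n62991 = n61902 := d17_2 F80553 D62991 (iv5 D61902) (iv4 D29330) (iv5 F40230) F40233 D29940 (iv0 F48136) D51075
theorem F98299 : act 1 n62991 = n62968 := d17_6 (iv1 F18897) (iv5 D11587) (iv1 F19495) (iv5 F23679) D29801 D62991 (iv5 D62968) F47920 F23695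
def n62992 : Q := act 6 n29801
theorem D62992 : act 6 n29801 = n62992 := rfl
theorem F98300 : act 2 n62992 = n62524 := d3_1 D62992 (iv6 D62524) (iv2 F47962)
theorem F98301 : act 4 n62992 = n29802 := d10_1 D62992 (iv6 D29802) D29801
def n62993 : Q := act 0 n29802
theorem D62993 : act 0 n29802 = n62993 := rfl
theorem F98302 : act 5 n62993 = n53523 := d21_2 (iv5 F47964) D62993 (iv6 D53523) (iv1 D25924) (iv6 D12301) (iv5 F19560) F24292 (iv5 D14613) D14614 F38341
theorem F98303 : act 0 n62993 = n62527 := d21_7 (iv5 F79263) (iv1 F80865) F80860 (iv6 F78102) (iv1 F78104) D53523 (iv5 F98302) F97494 (iv6 F53529) (iv1 F79262)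
def n62994 : Q := act 1 n29802
theorem D62994 : act 1 n29802 = n62994 := rfl
theorem F98304 : act 1 n62994 = n62527 := d15_1 D62994 (iv7 D62527) (iv2 F47963)
def n62995 : Q := act 7 n29802
theorem D62995 : act 7 n29802 = n62995 := rfl
theorem F98305 : act 2 n62995 = n62527 := d4_1 D62995 (iv7 D62527) (iv2 F47963)
theorem F98306 : act 5 n62995 = n50117 := d13_1 D62995 (iv7 D50117) (iv5 F47964)
theorem F98307 : act 6 n62995 = n62682 := d14_1 D62995 F97787 (iv6 F48169) F46686 D29802
theorem F98308 : act 1 n62526 = n62995 := d15_1 D62526 (iv7 D62995) F47963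
theorem F98309 : act 1 n62995 = n62525 := d15_0 (iv0 D62525) D62527 (iv2 F98305)
def n62996 : Q := act 3 n29803
theorem D62996 : act 3 n29803 = n62996 := rfl
theorem F98310 : act 4 n62996 = n62112 := d5_2 (iv4 F47965) D62996 (iv3 D62112) (iv4 D29407) F46939
def n62997 : Q := act 5 n29803
theorem D62997 : act 5 n29803 = n62997 := rfl
theorem F98311 : act 0 n62997 = n62962 := d17_2 D29803 D62997 (iv5 D62962) (iv4 D29784) (iv5 F38342) (iv0 D24444) (iv5 F23679) (iv0 D14162) D14163
theorem F98312 : act 1 n62997 = n50243 := d17_6 (iv1 F38934) F37588 (iv1 F40227) (iv5 F46937) (iv4 F47965) D62997 (iv5 D50243) D50241 F79600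
def n62998 : Q := act 6 n29803
theorem D62998 : act 6 n29803 = n62998 := rfl
theorem F98313 : act 4 n62998 = n61837 := d10_1 D62998 (iv6 D61837) (iv4 F47965)
def n62999 : Q := act 3 n29804
theorem D62999 : act 3 n29804 = n62999 := rfl
theorem F98314 : act 4 n62999 = n62636 := d5_2 (iv4 F47968) D62999 (iv3 D62636) F47575 F47119
def n63000 : Q := act 5 n29804
theorem D63000 : act 5 n29804 = n63000 := rfl
theorem F98316 : act 1 n63000 = n62962 := d17_6 D24847 (iv5 F78071) (iv1 F78073) (iv5 F46943) (iv4 F47968) D63000 (iv5 D62962) (iv0 F47917) (iv4 D24848)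
def n63001 : Q := act 6 n29804
theorem D63001 : act 6 n29804 = n63001 := rfl
theorem F98317 : act 4 n63001 = n61838 := d10_1 D63001 (iv6 D61838) (iv4 F47968)
def n63002 : Q := act 0 n29805
theorem D63002 : act 0 n29805 = n63002 := rfl
def n63003 : Q := act 1 n29805
theorem D63003 : act 1 n29805 = n63003 := rfl
def n63004 : Q := act 2 n29805
theorem D63004 : act 2 n29805 = n63004 := rfl
def n63005 : Q := act 5 n29805
theorem D63005 : act 5 n29805 = n63005 := rfl
theorem F98318 : act 3 n63005 = n29806 := d6_1 D63005 (iv5 D29806) D29805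
def n63006 : Q := act 6 n29805
theorem D63006 : act 6 n29805 = n63006 := rfl
theorem F98319 : act 3 n63006 = n29807 := d7_1 D63006 (iv6 D29807) D29805
def n63007 : Q := act 0 n29806
theorem D63007 : act 0 n29806 = n63007 := rfl
theorem F98320 : act 5 n63007 = n29827 := d17_1 D63007 (iv1 F47995) D29837 (iv4 F80879) (iv5 D51272) (iv0 D24930) D24933 D51283 (iv4 F80890)
theorem F98321 : act 4 n63007 = n51096 := d18_1 D63007 F80602 (iv4 F98270) F98269 (iv4 D51082) F46938 (iv4 F47965) (iv0 D29803) D29806
theorem F98322 : act 1 n29819 = n63007 := d15_0 (iv0 D63007) (iv7 F98238) F98236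
theorem F98323 : act 7 n63007 = n51079 := d15_2 F80579 F98322 (iv2 F80577)
def n63008 : Q := act 6 n29806
theorem D63008 : act 6 n29806 = n63008 := rfl
def n63009 : Q := act 0 n29807
theorem D63009 : act 0 n29807 = n63009 := rfl
def n63010 : Q := act 1 n29807
theorem D63010 : act 1 n29807 = n63010 := rfl
def n63011 : Q := act 5 n29807
theorem D63011 : act 5 n29807 = n63011 := rfl
def n63012 : Q := act 7 n29807
theorem D63012 : act 7 n29807 = n63012 := rfl
theorem F98324 : act 4 n63012 = n29810 := d11_1 D63012 (iv7 D29810) (iv4 F47969)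
def n63013 : Q := act 2 n29808
theorem D63013 : act 2 n29808 = n63013 := rfl
theorem F98325 : act 7 n29809 = n63013 := d15_2 (iv0 D29808) D29809 (iv2 D63013)
def n63014 : Q := act 3 n29808
theorem D63014 : act 3 n29808 = n63014 := rfl
def n63015 : Q := act 4 n29808
theorem D63015 : act 4 n29808 = n63015 := rfl
def n63016 : Q := act 7 n29808
theorem D63016 : act 7 n29808 = n63016 := rfl
def n63019 : Q := act 6 n29809
theorem D63019 : act 6 n29809 = n63019 := rfl
def n63020 : Q := act 6 n29811
theorem D63020 : act 6 n29811 = n63020 := rfl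
theorem F98327 : act 2 n63020 = n53253 := d3_1 D63020 F84101 F47973
theorem F98328 : act 3 n63020 = n49174 := d7_1 D63020 F77656 (iv3 F47972)
theorem F98329 : act 4 n63020 = n60834 := d10_1 D63020 (iv6 D60834) (iv4 F47971)
theorem F98330 : act 5 n63020 = n49169 := d12_1 D63020 (iv6 D49169) F37500 F40113 (iv5 F47970)
theorem F98331 : act 0 n63020 = n30059 := d21_4 (iv5 F79302) (iv1 F79306) (iv5 F47970) D63020 (iv6 D30059) (iv5 D14264) (iv1 D6790) D6791 (iv6 F20237) D25763
def n63021 : Q := act 3 n29812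
theorem D63021 : act 3 n29812 = n63021 := rfl
theorem F98332 : act 4 n63021 = n29818 := d5_2 D29812 D63021 (iv3 D29818) (iv4 D14170) (iv3 F23683)
def n63022 : Q := act 5 n29812
theorem D63022 : act 5 n29812 = n63022 := rfl
theorem F98333 : act 4 n63022 = n30257 := d16_2 D29812 D63022 (iv5 F92797) (iv4 D58734) (iv5 D27924) F22131 D14335 (iv7 F40693) F40691
theorem F98334 : act 0 n63022 = n48774 := d17_2 (iv1 F47976) D63022 (iv5 D48774) (iv4 D23786) (iv5 D11145) (iv0 F19456) D13751 F23270 D29369
theorem F98335 : act 1 n63022 = n62009 := d17_6 (iv1 F40708) F40699 (iv1 F22916) D14165 D29812 D63022 (iv5 D62009) (iv0 F48591) (iv4 D30207)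
def n63023 : Q := act 6 n29812
theorem D63023 : act 6 n29812 = n63023 := rfl
theorem F98336 : act 4 n63023 = n29813 := d10_1 D63023 (iv6 D29813) D29812
theorem F98337 : act 0 n59538 = n63023 := d21_4 D59387 (iv1 F96813) (iv5 D62111) (iv6 F93958) (iv6 D63023) D63022 F98334 (iv5 D48774) F37064 D28204
def n63024 : Q := act 0 n29813
theorem D63024 : act 0 n29813 = n63024 := rfl
theorem F98338 : act 2 n62654 = n63024 := d15_3 (iv0 D63024) (iv0 F48820) (iv7 F97746)
theorem F98339 : act 3 n63024 = n49290 := d0_2 D62654 F98338 F77912 F83880 (iv2 F83874)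
def n63025 : Q := act 7 n29813
theorem D63025 : act 7 n29813 = n63025 := rfl
theorem F98340 : act 3 n63025 = n29824 := d8_1 D63025 (iv7 D29824) (iv3 F47978)
def n63026 : Q := act 6 n29814
theorem D63026 : act 6 n29814 = n63026 := rfl
theorem F98341 : act 2 n63026 = n49918 := d3_1 D63026 (iv6 D49918) (iv2 F47979)
theorem F98342 : act 3 n63026 = n29816 := d7_1 D63026 (iv6 D29816) (iv3 F47980)
theorem F98343 : act 0 n31367 = n63026 := d21_4 (iv5 F38840) F39927 (iv5 F39931) D31367 (iv6 D63026) (iv5 D29814) F23688 D24936 F39085 (iv1 F39930)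
def n63027 : Q := act 3 n29815
theorem D63027 : act 3 n29815 = n63027 := rfl
def n63028 : Q := act 6 n29815
theorem D63028 : act 6 n29815 = n63028 := rfl
theorem F98344 : act 4 n63028 = n29816 := d10_1 D63028 (iv6 D29816) D29815
theorem F98345 : act 0 n30682 = n63028 := d21_4 D51117 F80636 (iv5 D30681) D30682 (iv6 D63028) (iv5 F80889) (iv1 D51283) (iv5 D24933) (iv6 F23633) F39011
def n63029 : Q := act 0 n29816
theorem D63029 : act 0 n29816 = n63029 := rfl
def n63030 : Q := act 5 n29816
theorem D63030 : act 5 n29816 = n63030 := rfl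
theorem F98346 : act 2 n63030 = n60505 := d2_1 D63030 F95118 F78602
theorem F98347 : act 6 n63030 = n29817 := d12_2 D29816 D63030 (iv5 D29817) (iv6 D14169) D14168
def n63031 : Q := act 7 n29816
theorem D63031 : act 7 n29816 = n63031 := rfl
theorem F98348 : act 1 n31715 = n63031 := d15_1 (iv0 F78604) (iv7 D63031) (iv2 F78602)
def n63032 : Q := act 4 n29817
theorem D63032 : act 4 n29817 = n63032 := rfl
theorem F98349 : act 2 n63032 = n29950 := d1_1 D63032 F48152 (iv2 F47983)
theorem F98350 : act 7 n63032 = n29951 := d11_2 (iv7 F47984) D63032 F48155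
theorem F98351 : act 0 n63032 = n29921 := d18_2 (iv1 F47985) D63032 (iv4 D29921) (iv5 D14209) F11009 F19450 (iv4 F18845) F18849 D24413
theorem F98352 : act 1 n63032 = n29920 := d18_6 (iv1 F39108) F19258 (iv1 F24184) (iv4 F23690) D29817 D63032 (iv4 D29920) F47413 F47410
def n63033 : Q := act 0 n29818
theorem D63033 : act 0 n29818 = n63033 := rfl
def n63034 : Q := act 1 n29818
theorem D63034 : act 1 n29818 = n63034 := rfl
def n63035 : Q := act 2 n29818
theorem D63035 : act 2 n29818 = n63035 := rfl
def n63036 : Q := act 5 n29818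
theorem D63036 : act 5 n29818 = n63036 := rfl
theorem F98353 : act 3 n63036 = n29819 := d6_1 D63036 (iv5 D29819) D29818
def n63037 : Q := act 6 n29818
theorem D63037 : act 6 n29818 = n63037 := rfl
theorem F98354 : act 3 n63037 = n29820 := d7_1 D63037 (iv6 D29820) D29818
def n63038 : Q := act 6 n29819
theorem D63038 : act 6 n29819 = n63038 := rfl
def n63039 : Q := act 0 n29820
theorem D63039 : act 0 n29820 = n63039 := rfl
def n63040 : Q := act 1 n29820
theorem D63040 : act 1 n29820 = n63040 := rfl
def n63041 : Q := act 5 n29820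
theorem D63041 : act 5 n29820 = n63041 := rfl
def n63042 : Q := act 7 n29820
theorem D63042 : act 7 n29820 = n63042 := rfl
theorem F98355 : act 4 n63042 = n29824 := d11_1 D63042 (iv7 D29824) (iv4 F47987)
def n63043 : Q := act 4 n29822
theorem D63043 : act 4 n29822 = n63043 := rfl
theorem F98356 : act 2 n63043 = n53524 := d1_1 D63043 (iv4 D53524) (iv2 F47989)
theorem F98357 : act 6 n63043 = n60507 := d10_2 F47988 D63043 F95122
def n63044 : Q := act 0 n29823
theorem D63044 : act 0 n29823 = n63044 := rfl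
def n63045 : Q := act 1 n29823
theorem D63045 : act 1 n29823 = n63045 := rfl
theorem F98358 : act 1 n63045 = n30880 := d15_1 D63045 F49331 F49157
def n63046 : Q := act 4 n29823
theorem D63046 : act 4 n29823 = n63046 := rfl
theorem F98359 : act 6 n63046 = n29825 := d10_2 (iv6 F47991) D63046 (iv4 D29825)
def n63047 : Q := act 7 n29823
theorem D63047 : act 7 n29823 = n63047 := rfl
theorem F98360 : act 2 n63047 = n30880 := d4_1 D63047 F49331 F49157
theorem F98361 : act 5 n63047 = n29824 := d13_1 D63047 (iv7 D29824) D29823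
theorem F98362 : act 6 n63047 = n30831 := d14_1 D63047 F49267 (iv6 F24301) F24211 (iv6 F47991)
theorem F98363 : act 1 n30880 = n63044 := d15_0 (iv0 D63044) D63047 F98360
def n63048 : Q := act 3 n29825
theorem D63048 : act 3 n29825 = n63048 := rfl
def n63049 : Q := act 5 n29825
theorem D63049 : act 5 n29825 = n63049 := rfl
theorem F98364 : act 0 n63049 = n50125 := d17_2 F48120 D63049 (iv5 D50125) (iv4 F48062) (iv5 F80251) (iv0 F80255) (iv5 F48115) (iv0 D29932) D29934
theorem F98365 : act 1 n63049 = n50128 := d17_6 (iv1 F18852) (iv5 F19424) (iv1 F24184) D14173 D29825 D63049 (iv5 D50128) F38358 F38305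
def n63050 : Q := act 0 n29826
theorem D63050 : act 0 n29826 = n63050 := rfl
theorem F98366 : act 6 n63050 = n49362 := d21_5 (iv5 D24122) D24121 F37796 D29826 D63050 F82634 (iv1 D52260) (iv5 F46373) (iv6 D28740) F37801
def n63051 : Q := act 1 n29826
theorem D63051 : act 1 n29826 = n63051 := rfl
def n63052 : Q := act 3 n29827
theorem D63052 : act 3 n29827 = n63052 := rfl
theorem F98367 : act 4 n63052 = n59396 := d5_2 (iv4 F47994) D63052 F93722 F45638 (iv3 F38906)
theorem F98368 : act 7 n63052 = n51078 := d8_2 (iv7 F47996) D63052 (iv3 D51078)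
def n63053 : Q := act 6 n29827
theorem D63053 : act 6 n29827 = n63053 := rfl
theorem F98369 : act 4 n63053 = n51080 := d10_1 D63053 (iv6 D51080) (iv4 F47994)
def n63054 : Q := act 0 n29828
theorem D63054 : act 0 n29828 = n63054 := rfl
def n63055 : Q := act 1 n29828
theorem D63055 : act 1 n29828 = n63055 := rfl
def n63056 : Q := act 2 n29828
theorem D63056 : act 2 n29828 = n63056 := rfl
def n63057 : Q := act 5 n29828
theorem D63057 : act 5 n29828 = n63057 := rfl
theorem F98370 : act 3 n63057 = n29829 := d6_1 D63057 (iv5 D29829) D29828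
def n63058 : Q := act 6 n29828
theorem D63058 : act 6 n29828 = n63058 := rfl
theorem F98371 : act 3 n63058 = n29830 := d7_1 D63058 (iv6 D29830) D29828
def n63059 : Q := act 0 n29829
theorem D63059 : act 0 n29829 = n63059 := rfl
theorem F98372 : act 5 n63059 = n60699 := d17_3 F38930 D29829 D63059 (iv4 D60699) F46440 F40232 F40230 F38927 D24856
theorem F98373 : act 1 n29837 = n63059 := d15_0 (iv0 D63059) (iv7 F79605) F79604
theorem F98374 : act 2 n63000 = n63059 := d2_3 F98372 F95287 D63000
theorem F98375 : act 7 n62997 = n63059 := d13_0 F98372 F95288 D62997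
def n63060 : Q := act 1 n29829
theorem D63060 : act 1 n29829 = n63060 := rfl
theorem F98376 : act 1 n63060 = n29837 := d15_1 D63060 (iv7 F98245) F98243
theorem F98377 : act 7 n63060 = n63000 := d15_2 (iv0 D63059) D63060 F98374
theorem F98378 : act 5 n63060 = n62955 := d17_7 F23646 F23416 F23693 F23660 D14175 D29829 D63060 (iv0 D62955) (iv4 D29781)
theorem F98379 : act 2 n62997 = n63060 := d2_3 F98378 (iv2 F98226) D62997
def n63061 : Q := act 6 n29829
theorem D63061 : act 6 n29829 = n63061 := rfl
def n63062 : Q := act 0 n29830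
theorem D63062 : act 0 n29830 = n63062 := rfl
def n63063 : Q := act 1 n29830
theorem D63063 : act 1 n29830 = n63063 := rfl
def n63064 : Q := act 5 n29830
theorem D63064 : act 5 n29830 = n63064 := rfl
def n63065 : Q := act 7 n29830
theorem D63065 : act 7 n29830 = n63065 := rfl
theorem F98380 : act 4 n63065 = n29833 := d11_1 D63065 (iv7 D29833) (iv4 F47997)
def n63066 : Q := act 2 n29831
theorem D63066 : act 2 n29831 = n63066 := rfl
theorem F98381 : act 7 n29832 = n63066 := d15_2 (iv0 D29831) D29832 (iv2 D63066)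
def n63067 : Q := act 3 n29831
theorem D63067 : act 3 n29831 = n63067 := rfl
def n63068 : Q := act 4 n29831
theorem D63068 : act 4 n29831 = n63068 := rfl
def n63069 : Q := act 5 n29831
theorem D63069 : act 5 n29831 = n63069 := rfl
theorem F98382 : act 6 n63069 = n51442 := d12_2 (iv6 F79500) D63069 (iv5 D51442) F79499 F79498
def n63070 : Q := act 7 n29831
theorem D63070 : act 7 n29831 = n63070 := rfl
theorem F98383 : act 2 n63070 = n29832 := d4_1 D63070 F98381 (iv2 D63066)
def n63071 : Q := act 3 n29832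
theorem D63071 : act 3 n29832 = n63071 := rfl
def n63072 : Q := act 4 n29832
theorem D63072 : act 4 n29832 = n63072 := rfl
def n63073 : Q := act 5 n29832
theorem D63073 : act 5 n29832 = n63073 := rfl
theorem F98384 : act 6 n63073 = n51289 := d21_3 (iv5 F98252) (iv1 F98254) D63073 (iv1 D51289) (iv6 D24935) F19227 (iv1 F8471) D11842 D24941 (iv1 F53594)
def n63074 : Q := act 6 n29832
theorem D63074 : act 6 n29832 = n63074 := rfl
def n63075 : Q := act 3 n29834
theorem D63075 : act 3 n29834 = n63075 := rfl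
theorem F98385 : act 4 n63075 = n29836 := d5_2 D29834 D63075 (iv3 D29836) (iv4 D14178) D14177
def n63076 : Q := act 5 n29834
theorem D63076 : act 5 n29834 = n63076 := rfl
theorem F98386 : act 4 n63076 = n30247 := d16_2 D29834 D63076 (iv5 D30247) (iv4 F46393) (iv5 F46392) F46388 F40707 F40706 F40114
theorem F98387 : act 0 n63076 = n60827 := d17_2 (iv1 F47999) D63076 (iv5 D60827) (iv4 D28855) F23262 (iv0 F22964) (iv5 F23026) (iv0 F23255) D29363
theorem F98388 : act 1 n63076 = n60824 := d17_6 F47567 (iv5 F78203) F78204 (iv5 F38385) D29834 D63076 (iv5 D60824) (iv0 F83820) (iv4 D53106)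
def n63077 : Q := act 6 n29834
theorem D63077 : act 6 n29834 = n63077 := rfl
theorem F98389 : act 4 n63077 = n29835 := d10_1 D63077 (iv6 D29835) D29834
def n63078 : Q := act 0 n29835
theorem D63078 : act 0 n29835 = n63078 := rfl
def n63079 : Q := act 1 n29835
theorem D63079 : act 1 n29835 = n63079 := rfl
def n63080 : Q := act 7 n29835
theorem D63080 : act 7 n29835 = n63080 := rfl
theorem F98390 : act 3 n63080 = n29841 := d8_1 D63080 (iv7 D29841) (iv3 F48000)
def n63081 : Q := act 0 n29836
theorem D63081 : act 0 n29836 = n63081 := rfl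
def n63082 : Q := act 1 n29836
theorem D63082 : act 1 n29836 = n63082 := rfl
def n63083 : Q := act 2 n29836
theorem D63083 : act 2 n29836 = n63083 := rfl
def n63084 : Q := act 5 n29836
theorem D63084 : act 5 n29836 = n63084 := rfl
theorem F98391 : act 3 n63084 = n29837 := d6_1 D63084 (iv5 D29837) D29836
def n63085 : Q := act 6 n29836
theorem D63085 : act 6 n29836 = n63085 := rfl
theorem F98392 : act 3 n63085 = n29838 := d7_1 D63085 (iv6 D29838) D29836
def n63086 : Q := act 6 n29837
theorem D63086 : act 6 n29837 = n63086 := rfl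
def n63087 : Q := act 0 n29838
theorem D63087 : act 0 n29838 = n63087 := rfl
def n63088 : Q := act 1 n29838
theorem D63088 : act 1 n29838 = n63088 := rfl
def n63089 : Q := act 5 n29838
theorem D63089 : act 5 n29838 = n63089 := rfl
def n63090 : Q := act 7 n29838
theorem D63090 : act 7 n29838 = n63090 := rfl
theorem F98393 : act 4 n63090 = n29841 := d11_1 D63090 (iv7 D29841) (iv4 F48001)
def n63091 : Q := act 2 n29839
theorem D63091 : act 2 n29839 = n63091 := rfl
theorem F98394 : act 5 n63091 = n51465 := d2_2 F79597 D63091 (iv2 D51465)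
theorem F98395 : act 7 n29840 = n63091 := d15_2 (iv0 D29839) D29840 (iv2 D63091)
def n63092 : Q := act 3 n29839
theorem D63092 : act 3 n29839 = n63092 := rfl
theorem F98396 : act 5 n63092 = n51466 := d6_2 F79597 D63092 (iv3 D51466)
def n63093 : Q := act 4 n29839
theorem D63093 : act 4 n29839 = n63093 := rfl
def n63094 : Q := act 6 n29839
theorem D63094 : act 6 n29839 = n63094 := rfl
def n63095 : Q := act 7 n29839
theorem D63095 : act 7 n29839 = n63095 := rfl
theorem F98397 : act 2 n63095 = n29840 := d4_1 D63095 F98395 (iv2 D63091)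
theorem F98398 : act 5 n63095 = n51469 := d13_1 D63095 (iv7 D51469) F79597
def n63096 : Q := act 3 n29840
theorem D63096 : act 3 n29840 = n63096 := rfl
theorem F98399 : act 5 n63096 = n51470 := d6_2 (iv5 F79593) D63096 (iv3 D51470)
def n63097 : Q := act 4 n29840
theorem D63097 : act 4 n29840 = n63097 := rfl
def n63098 : Q := act 0 n29842
theorem D63098 : act 0 n29842 = n63098 := rfl
def n63099 : Q := act 1 n29842
theorem D63099 : act 1 n29842 = n63099 := rfl
def n63100 : Q := act 2 n29842
theorem D63100 : act 2 n29842 = n63100 := rfl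
def n63101 : Q := act 5 n29842
theorem D63101 : act 5 n29842 = n63101 := rfl
theorem F98400 : act 3 n63101 = n29843 := d6_1 D63101 (iv5 D29843) D29842
def n63102 : Q := act 6 n29842
theorem D63102 : act 6 n29842 = n63102 := rfl
theorem F98401 : act 3 n63102 = n29844 := d7_1 D63102 (iv6 D29844) D29842
def n63103 : Q := act 0 n29843
theorem D63103 : act 0 n29843 = n63103 := rfl
theorem F98402 : act 5 n63103 = n61347 := d17_3 D14180 D29843 D63103 (iv4 D61347) F46685 F38352 F23660 (iv0 D6746) D6748
theorem F98404 : act 1 n29846 = n63103 := d15_0 (iv0 D63103) (iv7 F98260) F98258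
theorem F98405 : act 7 n63103 = n62991 := d15_2 F97491 F98404 F98297
def n63104 : Q := act 6 n29843
theorem D63104 : act 6 n29843 = n63104 := rfl
def n63105 : Q := act 0 n29844
theorem D63105 : act 0 n29844 = n63105 := rfl
def n63106 : Q := act 1 n29844
theorem D63106 : act 1 n29844 = n63106 := rfl
def n63107 : Q := act 5 n29844
theorem D63107 : act 5 n29844 = n63107 := rfl
def n63108 : Q := act 7 n29844
theorem D63108 : act 7 n29844 = n63108 := rfl
def n63109 : Q := act 0 n29845
theorem D63109 : act 0 n29845 = n63109 := rfl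
def n63110 : Q := act 1 n29845
theorem D63110 : act 1 n29845 = n63110 := rfl
def n63111 : Q := act 2 n29845
theorem D63111 : act 2 n29845 = n63111 := rfl
def n63112 : Q := act 5 n29845
theorem D63112 : act 5 n29845 = n63112 := rfl
theorem F98406 : act 3 n63112 = n29846 := d6_1 D63112 (iv5 D29846) D29845
def n63113 : Q := act 6 n29845
theorem D63113 : act 6 n29845 = n63113 := rfl
theorem F98407 : act 3 n63113 = n29847 := d7_1 D63113 (iv6 D29847) D29845
def n63114 : Q := act 6 n29846
theorem D63114 : act 6 n29846 = n63114 := rfl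
def n63115 : Q := act 0 n29847
theorem D63115 : act 0 n29847 = n63115 := rfl
def n63116 : Q := act 1 n29847
theorem D63116 : act 1 n29847 = n63116 := rfl
def n63117 : Q := act 5 n29847
theorem D63117 : act 5 n29847 = n63117 := rfl
def n63118 : Q := act 7 n29847
theorem D63118 : act 7 n29847 = n63118 := rfl
def n63119 : Q := act 0 n29848
theorem D63119 : act 0 n29848 = n63119 := rfl
theorem F98408 : act 2 n29852 = n63119 := d15_3 (iv0 D63119) (iv0 D29848) D29852
theorem F98409 : act 4 n63119 = n29884 := d1_2 (iv4 F48005) F98408 (iv2 F48030)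
theorem F98410 : act 7 n63119 = n29850 := d4_2 D29852 F98408 (iv2 D29850)
theorem F98411 : act 1 n29849 = n63119 := d15_1 D29849 F98410 (iv2 D29850)
def n63120 : Q := act 2 n29848
theorem D63120 : act 2 n29848 = n63120 := rfl
theorem F98412 : act 7 n29849 = n63120 := d15_2 (iv0 D29848) D29849 (iv2 D63120)
def n63121 : Q := act 3 n29848
theorem D63121 : act 3 n29848 = n63121 := rfl
def n63122 : Q := act 4 n29848
theorem D63122 : act 4 n29848 = n63122 := rfl
def n63123 : Q := act 5 n29848
theorem D63123 : act 5 n29848 = n63123 := rfl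
def n63124 : Q := act 6 n29848
theorem D63124 : act 6 n29848 = n63124 := rfl
def n63125 : Q := act 7 n29848
theorem D63125 : act 7 n29848 = n63125 := rfl
theorem F98413 : act 2 n63125 = n29849 := d4_1 D63125 F98412 (iv2 D63120)
def n63126 : Q := act 3 n29849
theorem D63126 : act 3 n29849 = n63126 := rfl
def n63127 : Q := act 5 n29849
theorem D63127 : act 5 n29849 = n63127 := rfl
def n63128 : Q := act 6 n29849
theorem D63128 : act 6 n29849 = n63128 := rfl
def n63129 : Q := act 1 n29850
theorem D63129 : act 1 n29850 = n63129 := rfl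
theorem F98414 : act 1 n63129 = n29852 := d15_1 D63129 (iv7 D29852) D29850
def n63130 : Q := act 5 n29850
theorem D63130 : act 5 n29850 = n63130 := rfl
theorem F98415 : act 2 n63130 = n29851 := d2_1 D63130 (iv5 D29851) D29850
def n63131 : Q := act 0 n29851
theorem D63131 : act 0 n29851 = n63131 := rfl
def n63132 : Q := act 1 n29851
theorem D63132 : act 1 n29851 = n63132 := rfl
def n63133 : Q := act 4 n29851
theorem D63133 : act 4 n29851 = n63133 := rfl
def n63134 : Q := act 6 n29851
theorem D63134 : act 6 n29851 = n63134 := rfl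
theorem F98416 : act 3 n63134 = n29856 := d7_1 D63134 (iv6 D29856) (iv3 F48003)
def n63135 : Q := act 7 n29851
theorem D63135 : act 7 n29851 = n63135 := rfl
theorem F98417 : act 3 n63135 = n29857 := d8_1 D63135 (iv7 D29857) (iv3 F48003)
theorem F98418 : act 5 n63135 = n29852 := d13_1 D63135 (iv7 D29852) D29851
def n63136 : Q := act 6 n29852
theorem D63136 : act 6 n29852 = n63136 := rfl
theorem F98419 : act 3 n63136 = n29858 := d7_1 D63136 (iv6 D29858) (iv3 F48004)
theorem F98420 : act 4 n63136 = n29902 := d10_1 D63136 (iv6 D29902) (iv4 F48005)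
def n63137 : Q := act 3 n29853
theorem D63137 : act 3 n29853 = n63137 := rfl
def n63138 : Q := act 6 n29853
theorem D63138 : act 6 n29853 = n63138 := rfl
def n63139 : Q := act 3 n29854
theorem D63139 : act 3 n29854 = n63139 := rfl
def n63140 : Q := act 6 n29854
theorem D63140 : act 6 n29854 = n63140 := rfl
def n63141 : Q := act 3 n29855
theorem D63141 : act 3 n29855 = n63141 := rfl
theorem F98421 : act 5 n63141 = n51312 := d6_2 (iv5 F48006) D63141 F80949
theorem F98422 : act 7 n63141 = n51311 := d8_2 F48007 D63141 F80948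
def n63142 : Q := act 6 n29855
theorem D63142 : act 6 n29855 = n63142 := rfl
theorem F98423 : act 4 n63142 = n29856 := d10_1 D63142 (iv6 D29856) D29855
def n63143 : Q := act 0 n29856
theorem D63143 : act 0 n29856 = n63143 := rfl
def n63144 : Q := act 1 n29856
theorem D63144 : act 1 n29856 = n63144 := rfl
def n63145 : Q := act 7 n29856
theorem D63145 : act 7 n29856 = n63145 := rfl
def n63146 : Q := act 6 n29857
theorem D63146 : act 6 n29857 = n63146 := rfl
theorem F98424 : act 4 n63146 = n51315 := d10_1 D63146 (iv6 D51315) (iv4 F48008)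
def n63147 : Q := act 0 n29858
theorem D63147 : act 0 n29858 = n63147 := rfl
def n63148 : Q := act 1 n29858
theorem D63148 : act 1 n29858 = n63148 := rfl
def n63149 : Q := act 5 n29858
theorem D63149 : act 5 n29858 = n63149 := rfl
def n63150 : Q := act 2 n29859
theorem D63150 : act 2 n29859 = n63150 := rfl
theorem F98425 : act 7 n29860 = n63150 := d15_2 (iv0 D29859) D29860 (iv2 D63150)
def n63151 : Q := act 3 n29859
theorem D63151 : act 3 n29859 = n63151 := rfl
def n63152 : Q := act 4 n29859
theorem D63152 : act 4 n29859 = n63152 := rfl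
def n63153 : Q := act 5 n29859
theorem D63153 : act 5 n29859 = n63153 := rfl
theorem F98426 : act 0 n63019 = n63153 := d21_10 (iv5 D63153) (iv1 F48103) F48100 (iv6 D29929) (iv1 F23736) D14237 (iv5 F39147) D51322 F80975 D63019
theorem F98427 : act 6 n61334 = n63153 := d21_5 (iv5 F19259) F24185 (iv5 F23076) D29034 D61334 (iv5 D63153) (iv1 F48103) F48100 (iv6 D29929) (iv1 F23736)
def n63154 : Q := act 6 n29859
theorem D63154 : act 6 n29859 = n63154 := rfl
theorem F98428 : act 5 n63154 = n30945 := d21_6 (iv5 D14152) (iv1 F10987) (iv5 F10994) D14185 D29859 D63154 (iv1 D30945) (iv5 F48172) (iv6 F48169) (iv1 F46688)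
def n63155 : Q := act 7 n29859
theorem D63155 : act 7 n29859 = n63155 := rfl
def n63156 : Q := act 3 n29860
theorem D63156 : act 3 n29860 = n63156 := rfl
def n63157 : Q := act 4 n29860
theorem D63157 : act 4 n29860 = n63157 := rfl
def n63158 : Q := act 5 n29860
theorem D63158 : act 5 n29860 = n63158 := rfl
theorem F98430 : act 6 n63158 = n62993 := d12_2 (iv6 F84437) D63158 F98302 (iv6 D53523) D53522
def n63159 : Q := act 3 n29861
theorem D63159 : act 3 n29861 = n63159 := rfl
def n63160 : Q := act 6 n29861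
theorem D63160 : act 6 n29861 = n63160 := rfl
def n63161 : Q := act 6 n29862
theorem D63161 : act 6 n29862 = n63161 := rfl
def n63162 : Q := act 0 n29863
theorem D63162 : act 0 n29863 = n63162 := rfl
def n63163 : Q := act 1 n29863
theorem D63163 : act 1 n29863 = n63163 := rfl
def n63164 : Q := act 5 n29863
theorem D63164 : act 5 n29863 = n63164 := rfl
def n63165 : Q := act 7 n29863
theorem D63165 : act 7 n29863 = n63165 := rfl
theorem F98431 : act 4 n63165 = n29866 := d11_1 D63165 (iv7 D29866) (iv4 F48012)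
def n63166 : Q := act 2 n29864
theorem D63166 : act 2 n29864 = n63166 := rfl
theorem F98432 : act 7 n29865 = n63166 := d15_2 (iv0 D29864) D29865 (iv2 D63166)
def n63167 : Q := act 3 n29864
theorem D63167 : act 3 n29864 = n63167 := rfl
def n63168 : Q := act 4 n29864
theorem D63168 : act 4 n29864 = n63168 := rfl
def n63169 : Q := act 5 n29864
theorem D63169 : act 5 n29864 = n63169 := rfl
theorem F98433 : act 6 n63169 = n51714 := d12_2 (iv6 F81655) D63169 (iv5 D51714) D51715 F81652
theorem F98434 : act 0 n53278 = n63169 := d21_1 F95920 (iv5 D63169) F81655 (iv1 D30118) (iv6 D14297) F22532 F23855 (iv5 F23118) D29076 D61420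
def n63170 : Q := act 7 n29864
theorem D63170 : act 7 n29864 = n63170 := rfl
theorem F98435 : act 2 n63170 = n29865 := d4_1 D63170 F98432 (iv2 D63166)
def n63171 : Q := act 3 n29865
theorem D63171 : act 3 n29865 = n63171 := rfl
def n63172 : Q := act 4 n29865
theorem D63172 : act 4 n29865 = n63172 := rfl
def n63173 : Q := act 5 n29865
theorem D63173 : act 5 n29865 = n63173 := rfl
theorem F98436 : act 6 n34104 = n63173 := d21_5 (iv5 D5809) (iv1 F8941) (iv5 F20296) D25795 (iv1 F53515) (iv5 D63173) (iv1 D29865) (iv5 F40790) (iv6 D25803) (iv1 D12252)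
def n63174 : Q := act 6 n29865
theorem D63174 : act 6 n29865 = n63174 := rfl
def n63175 : Q := act 0 n29867
theorem D63175 : act 0 n29867 = n63175 := rfl
def n63176 : Q := act 1 n29867
theorem D63176 : act 1 n29867 = n63176 := rfl
def n63177 : Q := act 2 n29867
theorem D63177 : act 2 n29867 = n63177 := rfl
def n63178 : Q := act 4 n29867
theorem D63178 : act 4 n29867 = n63178 := rfl
def n63179 : Q := act 5 n29867
theorem D63179 : act 5 n29867 = n63179 := rfl
theorem F98437 : act 3 n63179 = n29869 := d6_1 D63179 (iv5 D29869) D29867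
theorem F98438 : act 6 n63179 = n51748 := d12_2 F48245 D63179 (iv5 D51748) F39502 (iv5 F48244)
theorem F98439 : act 7 n63179 = n53829 := d13_2 F48212 D63179 (iv5 F84854)
def n63180 : Q := act 4 n29869
theorem D63180 : act 4 n29869 = n63180 := rfl
theorem F98440 : act 6 n63180 = n51751 := d10_2 (iv6 F48014) D63180 (iv4 D51751)
theorem F98441 : act 7 n63180 = n53834 := d11_2 (iv7 F48015) D63180 F84861
theorem F98442 : act 1 n63180 = n53553 := d18_6 (iv1 D14006) (iv4 F23348) D29447 F49751 D29869 D63180 F84472 (iv0 F76933) F45848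
def n63183 : Q := act 2 n29870
theorem D63183 : act 2 n29870 = n63183 := rfl
def n63184 : Q := act 4 n29870
theorem D63184 : act 4 n29870 = n63184 := rfl
def n63185 : Q := act 6 n29870
theorem D63185 : act 6 n29870 = n63185 := rfl
theorem F98443 : act 3 n63185 = n29872 := d7_1 D63185 (iv6 D29872) D29870
theorem F98444 : act 5 n63185 = n62684 := d12_1 D63185 F97791 (iv5 D31326) D31327 (iv5 F49582)
def n63186 : Q := act 3 n29873
theorem D63186 : act 3 n29873 = n63186 := rfl
theorem F98445 : act 4 n63186 = n62008 := d5_2 F48021 D63186 (iv3 D62008) (iv4 D29363) (iv3 F45616)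
theorem F98446 : act 7 n63186 = n59372 := d8_2 (iv7 F48020) D63186 (iv3 D59372)
def n63187 : Q := act 6 n29873
theorem D63187 : act 6 n29873 = n63187 := rfl
theorem F98447 : act 4 n63187 = n59374 := d10_1 D63187 (iv6 D59374) F48021
def n63188 : Q := act 6 n29874
theorem D63188 : act 6 n29874 = n63188 := rfl
def n63189 : Q := act 0 n29875
theorem D63189 : act 0 n29875 = n63189 := rfl
def n63190 : Q := act 1 n29875
theorem D63190 : act 1 n29875 = n63190 := rfl
def n63191 : Q := act 5 n29875
theorem D63191 : act 5 n29875 = n63191 := rfl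
def n63192 : Q := act 7 n29875
theorem D63192 : act 7 n29875 = n63192 := rfl
theorem F98448 : act 4 n63192 = n29878 := d11_1 D63192 (iv7 D29878) (iv4 F48022)
def n63193 : Q := act 2 n29876
theorem D63193 : act 2 n29876 = n63193 := rfl
theorem F98449 : act 5 n63193 = n51781 := d2_2 F81336 D63193 (iv2 D51781)
theorem F98450 : act 7 n29877 = n63193 := d15_2 (iv0 D29876) D29877 (iv2 D63193)
def n63194 : Q := act 3 n29876
theorem D63194 : act 3 n29876 = n63194 := rfl
theorem F98451 : act 5 n63194 = n51782 := d6_2 F81336 D63194 (iv3 D51782)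
def n63195 : Q := act 4 n29876
theorem D63195 : act 4 n29876 = n63195 := rfl
def n63196 : Q := act 6 n29876
theorem D63196 : act 6 n29876 = n63196 := rfl
def n63197 : Q := act 7 n29876
theorem D63197 : act 7 n29876 = n63197 := rfl
theorem F98453 : act 5 n63197 = n51785 := d13_1 D63197 (iv7 D51785) F81336
def n63198 : Q := act 3 n29877
theorem D63198 : act 3 n29877 = n63198 := rfl
theorem F98454 : act 5 n63198 = n51786 := d6_2 F81750 D63198 (iv3 D51786)
def n63199 : Q := act 4 n29877
theorem D63199 : act 4 n29877 = n63199 := rfl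
def n63202 : Q := act 2 n29879
theorem D63202 : act 2 n29879 = n63202 := rfl
theorem F98455 : act 5 n63202 = n51808 := d2_2 (iv5 F48025) D63202 (iv2 D51808)
def n63203 : Q := act 4 n29879
theorem D63203 : act 4 n29879 = n63203 := rfl
def n63204 : Q := act 6 n29879
theorem D63204 : act 6 n29879 = n63204 := rfl
theorem F98456 : act 3 n63204 = n29881 := d7_1 D63204 (iv6 D29881) D29879
theorem F98457 : act 5 n63204 = n62685 := d12_1 D63204 F97793 F81816 (iv6 D51810) (iv5 F48025)
def n63205 : Q := act 0 n29882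
theorem D63205 : act 0 n29882 = n63205 := rfl
def n63206 : Q := act 1 n29882
theorem D63206 : act 1 n29882 = n63206 := rfl
def n63207 : Q := act 2 n29882
theorem D63207 : act 2 n29882 = n63207 := rfl
def n63208 : Q := act 4 n29882
theorem D63208 : act 4 n29882 = n63208 := rfl
def n63209 : Q := act 6 n29884
theorem D63209 : act 6 n29884 = n63209 := rfl
theorem F98459 : act 2 n63209 = n29902 := d3_1 D63209 (iv6 D29902) F48030
def n63210 : Q := act 0 n29885
theorem D63210 : act 0 n29885 = n63210 := rfl
theorem F98460 : act 1 n29890 = n63210 := d15_0 (iv0 D63210) (iv7 F48033) (iv2 F48034)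
def n63211 : Q := act 1 n29885
theorem D63211 : act 1 n29885 = n63211 := rfl
def n63212 : Q := act 3 n29885
theorem D63212 : act 3 n29885 = n63212 := rfl
theorem F98462 : act 7 n63212 = n29891 := d8_2 F48033 D63212 (iv3 D29891)
def n63213 : Q := act 4 n29885
theorem D63213 : act 4 n29885 = n63213 := rfl
theorem F98463 : act 2 n63213 = n29887 := d1_1 D63213 (iv4 D29887) D29885
theorem F98464 : act 7 n63213 = n29892 := d11_2 F48033 D63213 (iv4 D29892)
def n63214 : Q := act 5 n29885
theorem D63214 : act 5 n29885 = n63214 := rfl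
theorem F98465 : act 2 n63214 = n29888 := d2_1 D63214 (iv5 D29888) D29885
theorem F98466 : act 7 n63214 = n29893 := d13_2 F48033 D63214 (iv5 D29893)
def n63215 : Q := act 6 n29885
theorem D63215 : act 6 n29885 = n63215 := rfl
theorem F98467 : act 2 n63215 = n29889 := d3_1 D63215 (iv6 D29889) D29885
def n63216 : Q := act 0 n29886
theorem D63216 : act 0 n29886 = n63216 := rfl
def n63217 : Q := act 1 n29886
theorem D63217 : act 1 n29886 = n63217 := rfl
def n63218 : Q := act 2 n29886
theorem D63218 : act 2 n29886 = n63218 := rfl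
def n63219 : Q := act 5 n29886
theorem D63219 : act 5 n29886 = n63219 := rfl
theorem F98468 : act 3 n63219 = n29888 := d6_1 D63219 (iv5 D29888) D29886
def n63220 : Q := act 6 n29886
theorem D63220 : act 6 n29886 = n63220 := rfl
theorem F98469 : act 3 n63220 = n29889 := d7_1 D63220 (iv6 D29889) D29886
def n63221 : Q := act 7 n29886
theorem D63221 : act 7 n29886 = n63221 := rfl
theorem F98470 : act 3 n63221 = n29890 := d8_1 D63221 (iv7 D29890) D29886
def n63222 : Q := act 0 n29887
theorem D63222 : act 0 n29887 = n63222 := rfl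
theorem F98471 : act 4 n63222 = n61088 := d20_2 D29887 D63222 (iv3 D61088) (iv1 D28948) (iv3 D13787) F10619 (iv1 D3045) D3046 D6754 D14196
def n63223 : Q := act 1 n29887
theorem D63223 : act 1 n29887 = n63223 := rfl
theorem F98472 : act 1 n63223 = n29892 := d15_1 D63223 (iv7 F98464) F98463
def n63224 : Q := act 3 n29887
theorem D63224 : act 3 n29887 = n63224 := rfl
def n63225 : Q := act 5 n29887
theorem D63225 : act 5 n29887 = n63225 := rfl
def n63226 : Q := act 6 n29887
theorem D63226 : act 6 n29887 = n63226 := rfl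
theorem F98473 : act 4 n63226 = n29889 := d10_1 D63226 (iv6 D29889) D29887
def n63227 : Q := act 7 n29887
theorem D63227 : act 7 n29887 = n63227 := rfl
theorem F98474 : act 2 n63227 = n29892 := d4_1 D63227 (iv7 F98464) F98463
theorem F98475 : act 4 n63227 = n29890 := d11_1 D63227 (iv7 D29890) D29887
theorem F98476 : act 1 n29892 = n63222 := d15_0 (iv0 D63222) D63227 F98474
def n63228 : Q := act 0 n29888
theorem D63228 : act 0 n29888 = n63228 := rfl
def n63229 : Q := act 1 n29888
theorem D63229 : act 1 n29888 = n63229 := rfl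
theorem F98477 : act 1 n63229 = n29893 := d15_1 D63229 (iv7 F98466) F98465
def n63230 : Q := act 4 n29888
theorem D63230 : act 4 n29888 = n63230 := rfl
def n63231 : Q := act 6 n29888
theorem D63231 : act 6 n29888 = n63231 := rfl
def n63232 : Q := act 7 n29888
theorem D63232 : act 7 n29888 = n63232 := rfl
theorem F98478 : act 2 n63232 = n29893 := d4_1 D63232 (iv7 F98466) F98465
theorem F98479 : act 5 n63232 = n29890 := d13_1 D63232 (iv7 D29890) D29888
theorem F98480 : act 1 n29893 = n63228 := d15_0 (iv0 D63228) D63232 F98478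
def n63233 : Q := act 0 n29889
theorem D63233 : act 0 n29889 = n63233 := rfl
def n63234 : Q := act 1 n29889
theorem D63234 : act 1 n29889 = n63234 := rfl
def n63235 : Q := act 5 n29889
theorem D63235 : act 5 n29889 = n63235 := rfl
def n63236 : Q := act 7 n29889
theorem D63236 : act 7 n29889 = n63236 := rfl
def n63237 : Q := act 6 n29890
theorem D63237 : act 6 n29890 = n63237 := rfl
theorem F98481 : act 2 n63237 = n29894 := d3_1 D63237 (iv6 D29894) (iv2 F48034)
def n63238 : Q := act 0 n29891
theorem D63238 : act 0 n29891 = n63238 := rfl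
theorem F98482 : act 4 n63238 = n62350 := d20_0 (iv1 F97227) (iv4 D61055) (iv3 F47274) (iv1 F47278) D61088 (iv4 F98471) (iv1 F98476) (iv4 D29892) D29891 D63238
def n63239 : Q := act 1 n29891
theorem D63239 : act 1 n29891 = n63239 := rfl
def n63240 : Q := act 2 n29891
theorem D63240 : act 2 n29891 = n63240 := rfl
def n63241 : Q := act 4 n29891
theorem D63241 : act 4 n29891 = n63241 := rfl
theorem F98483 : act 0 n61047 = n63241 := d20_1 D61047 (iv4 D63241) (iv3 D29891) (iv1 D14197) (iv3 D6754) (iv4 D3046) D3044 (iv4 F10618) D13784 D28934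
def n63242 : Q := act 5 n29891
theorem D63242 : act 5 n29891 = n63242 := rfl
theorem F98484 : act 3 n63242 = n29893 := d6_1 D63242 (iv5 D29893) D29891
def n63243 : Q := act 6 n29891
theorem D63243 : act 6 n29891 = n63243 := rfl
theorem F98485 : act 3 n63243 = n29894 := d7_1 D63243 (iv6 D29894) D29891
def n63244 : Q := act 3 n29892
theorem D63244 : act 3 n29892 = n63244 := rfl
def n63245 : Q := act 5 n29892
theorem D63245 : act 5 n29892 = n63245 := rfl
def n63246 : Q := act 6 n29892
theorem D63246 : act 6 n29892 = n63246 := rfl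
theorem F98486 : act 4 n63246 = n29894 := d10_1 D63246 (iv6 D29894) D29892
def n63247 : Q := act 4 n29893
theorem D63247 : act 4 n29893 = n63247 := rfl
def n63248 : Q := act 6 n29893
theorem D63248 : act 6 n29893 = n63248 := rfl
def n63249 : Q := act 0 n29894
theorem D63249 : act 0 n29894 = n63249 := rfl
def n63250 : Q := act 1 n29894
theorem D63250 : act 1 n29894 = n63250 := rfl
def n63251 : Q := act 5 n29894
theorem D63251 : act 5 n29894 = n63251 := rfl
def n63252 : Q := act 7 n29894
theorem D63252 : act 7 n29894 = n63252 := rfl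
def n63253 : Q := act 2 n29895
theorem D63253 : act 2 n29895 = n63253 := rfl
theorem F98487 : act 7 n29896 = n63253 := d15_2 (iv0 D29895) D29896 (iv2 D63253)
def n63254 : Q := act 3 n29895
theorem D63254 : act 3 n29895 = n63254 := rfl
def n63255 : Q := act 4 n29895
theorem D63255 : act 4 n29895 = n63255 := rfl
def n63262 : Q := act 4 n29897
theorem D63262 : act 4 n29897 = n63262 := rfl
theorem F98489 : act 2 n63262 = n29900 := d1_1 D63262 (iv4 D29900) (iv2 F48037)
def n63263 : Q := act 6 n29897
theorem D63263 : act 6 n29897 = n63263 := rfl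
theorem F98490 : act 2 n63263 = n29901 := d3_1 D63263 (iv6 D29901) (iv2 F48037)
def n63264 : Q := act 2 n29898
theorem D63264 : act 2 n29898 = n63264 := rfl
theorem F98491 : act 7 n29899 = n63264 := d15_2 (iv0 D29898) D29899 (iv2 D63264)
def n63265 : Q := act 3 n29898
theorem D63265 : act 3 n29898 = n63265 := rfl
theorem F98492 : act 4 n63265 = n61723 := d20_6 F23046 (iv1 F20997) F20994 (iv3 F23705) D29898 D63265 (iv1 D61723) F46920 (iv3 D13917) (iv1 F23044)
def n63266 : Q := act 4 n29898
theorem D63266 : act 4 n29898 = n63266 := rfl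
def n63267 : Q := act 5 n29898
theorem D63267 : act 5 n29898 = n63267 := rfl
def n63268 : Q := act 6 n29898
theorem D63268 : act 6 n29898 = n63268 := rfl
def n63269 : Q := act 7 n29898
theorem D63269 : act 7 n29898 = n63269 := rfl
theorem F98493 : act 2 n63269 = n29899 := d4_1 D63269 F98491 (iv2 D63264)
def n63270 : Q := act 3 n29899
theorem D63270 : act 3 n29899 = n63270 := rfl
def n63271 : Q := act 4 n29899
theorem D63271 : act 4 n29899 = n63271 := rfl
def n63272 : Q := act 5 n29899
theorem D63272 : act 5 n29899 = n63272 := rfl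
def n63273 : Q := act 6 n29899
theorem D63273 : act 6 n29899 = n63273 := rfl
def n63274 : Q := act 0 n29900
theorem D63274 : act 0 n29900 = n63274 := rfl
def n63275 : Q := act 1 n29900
theorem D63275 : act 1 n29900 = n63275 := rfl
theorem F98494 : act 4 n62878 = n63275 := d20_6 F23293 (iv1 D6717) D6718 D14140 D29754 D62878 (iv1 D63275) (iv4 D29900) F23705 (iv1 F23295)
def n63276 : Q := act 5 n29900
theorem D63276 : act 5 n29900 = n63276 := rfl
def n63277 : Q := act 6 n29900
theorem D63277 : act 6 n29900 = n63277 := rfl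
theorem F98495 : act 4 n63277 = n29901 := d10_1 D63277 (iv6 D29901) D29900
def n63278 : Q := act 0 n29901
theorem D63278 : act 0 n29901 = n63278 := rfl
def n63279 : Q := act 1 n29901
theorem D63279 : act 1 n29901 = n63279 := rfl
def n63280 : Q := act 7 n29901
theorem D63280 : act 7 n29901 = n63280 := rfl
def n63281 : Q := act 0 n29902
theorem D63281 : act 0 n29902 = n63281 := rfl
def n63282 : Q := act 1 n29902
theorem D63282 : act 1 n29902 = n63282 := rfl
def n63283 : Q := act 5 n29902
theorem D63283 : act 5 n29902 = n63283 := rfl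
def n63284 : Q := act 2 n29903
theorem D63284 : act 2 n29903 = n63284 := rfl
theorem F98498 : act 7 n29904 = n63284 := d15_2 (iv0 D29903) D29904 (iv2 D63284)
def n63285 : Q := act 3 n29903
theorem D63285 : act 3 n29903 = n63285 := rfl
def n63286 : Q := act 4 n29903
theorem D63286 : act 4 n29903 = n63286 := rfl
def n63287 : Q := act 5 n29903
theorem D63287 : act 5 n29903 = n63287 := rfl
def n63288 : Q := act 6 n29903
theorem D63288 : act 6 n29903 = n63288 := rfl
def n63289 : Q := act 7 n29903
theorem D63289 : act 7 n29903 = n63289 := rfl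
def n63290 : Q := act 3 n29904
theorem D63290 : act 3 n29904 = n63290 := rfl
def n63291 : Q := act 4 n29904
theorem D63291 : act 4 n29904 = n63291 := rfl
def n63292 : Q := act 5 n29904
theorem D63292 : act 5 n29904 = n63292 := rfl
def n63293 : Q := act 6 n29904
theorem D63293 : act 6 n29904 = n63293 := rfl
def n63296 : Q := act 4 n29906
theorem D63296 : act 4 n29906 = n63296 := rfl
def n63299 : Q := act 0 n29907
theorem D63299 : act 0 n29907 = n63299 := rfl
theorem F98501 : act 5 n63299 = n62490 := d21_8 F95496 (iv1 D60953) (iv5 D28901) (iv6 D13771) (iv1 F10999) D14202 D29907 D63299 F97390 (iv1 F95839)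
theorem F98502 : act 1 n29907 = n63299 := d15_0 (iv0 D63299) (iv7 F48272) F48271
theorem E8813 : n63296 = n14031 := (c17_10 (iv1 F23410) F10833 D14031 D29532 D62490 (iv5 F98501) (iv0 D63299) (iv5 D29907) F48040 D63296)
theorem E8814 : n29906 = n29531 := (((D29531).symm.trans (sb E8813 (iv4 D63296)))).symm
theorem E8815 : n62486 = n14202 := ((D62486).symm.trans (sb E8814 (iv1 F48040)))
theorem F98503 : act 0 n14202 = n29531 := (sb E8815 (iv1 F97380))

end Cfsg.Agent.Helper17.ONTC
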