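import Cfsg.Agent.Helper17.ONTC.Facts13

set_option autoImplicit false
set_option linter.all false

noncomputable section

namespace Cfsg.Agent.Helper17.ONTC

theorem F98504 : act 1 n14202 = n29531 := (sb E8815 (iv0 D62486))
theorem F98505 : act 4 n63151 = n61996 := d20_6 D29531 (iv1 F98504) F23707 (iv3 F23696) D29859 D63151 (iv1 D61996) F47016 F23245 D14031
theorem F98506 : act 1 n62490 = n61381 := d18_6 (iv1 F23708) (iv4 F23707) F98503 (iv4 D29531) D29532 D62490 F95872 (iv0 F48043) (iv5 D29911)
theorem F98507 : act 1 n61381 = n62490 := d15_1 F98506 F97391 (iv2 F97389)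
theorem F98508 : act 0 n61234 = n60798 := d18_2 F46611 D61234 F95371 F47441 (iv4 F95872) F98507 (iv4 D62490) (iv0 F47360) F47110
theorem F98509 : act 1 n61234 = n60798 := d15_1 (iv0 F98508) (iv7 F95873) F95871
theorem E8820 : n30049 = n28988 := (c18_3 (iv1 F23800) (iv4 F23798) D30049 (iv4 D28988) D28989 D61234 F98509 F95371 (iv0 F48275) (iv5 D30054))
theorem E8821 : n61231 = n14260 := ((D61231).symm.trans (sb E8820 (iv1 F48270)))
theorem F98510 : act 0 n14260 = n28988 := (sb E8821 (iv1 F95690))
theorem F98511 : act 1 n14260 = n28988 := (sb E8821 (iv0 D61231))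
def n63300 : Q := act 4 n29907
theorem D63300 : act 4 n29907 = n63300 := rfl
theorem F98512 : act 6 n63300 = n37087 := d10_2 F86330 D63300 (iv4 F86331)
def n63301 : Q := act 0 n29909
theorem D63301 : act 0 n29909 = n63301 := rfl
def n63302 : Q := act 1 n29909
theorem D63302 : act 1 n29909 = n63302 := rfl
def n63303 : Q := act 2 n29909
theorem D63303 : act 2 n29909 = n63303 := rfl
def n63304 : Q := act 4 n29909
theorem D63304 : act 4 n29909 = n63304 := rfl
def n63305 : Q := act 5 n29909
theorem D63305 : act 5 n29909 = n63305 := rfl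
theorem F98514 : act 3 n63305 = n29911 := d6_1 D63305 (iv5 D29911) D29909
theorem F98515 : act 6 n63305 = n61344 := d12_2 (iv6 F84511) D63305 F95846 (iv6 D53571) D53570
def n63306 : Q := act 0 n29910
theorem D63306 : act 0 n29910 = n63306 := rfl
theorem F98516 : act 1 n29910 = n63306 := d15_0 (iv0 D63306) F49073 (iv2 F49078)
def n63309 : Q := act 4 n29911
theorem D63309 : act 4 n29911 = n63309 := rfl
theorem F98517 : act 6 n63309 = n60739 := d10_2 (iv6 F48042) D63309 F96722
theorem F98518 : act 5 n61224 = n63309 := d21_8 (iv5 F97206) (iv1 D62334) (iv5 D29488) (iv6 D14018) (iv1 F10818) D13798 D28985 D61224 F98517 (iv1 F96731)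
theorem E8822 : n63306 = n13798 := (c17_1 D63306 D28985 D61224 F98518 (iv4 D63309) (iv5 D29911) (iv0 D14203) F11000 F23708 D29910)
theorem E8823 : n29910 = n28984 := (((D28984).symm.trans (sb E8822 (iv1 F98516)))).symm
theorem E8824 : n61219 = n30053 := ((D61219).symm.trans (sb E8823 F49078))
theorem E8826 : n61221 = n14203 := ((D61221).symm.trans (sb E8823 (iv4 D29910)))
theorem E8828 : n61223 = n53575 := ((D61223).symm.trans (sb E8823 (iv6 F84519)))
theorem F98519 : act 2 n30053 = n28984 := (sb E8824 (iv2 D61219))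
theorem F98521 : act 4 n14203 = n28984 := (sb E8826 (iv4 D61221))
theorem F98522 : act 6 n53575 = n28984 := (sb E8828 (iv6 D61223))
theorem F98523 : act 1 n63309 = n60816 := d17_8 F46611 (iv5 D28989) (iv1 F23048) F10621 (iv4 F23047) D28985 F95685 F98518 F95380
theorem F98524 : act 1 n60816 = n63309 := d15_0 F98523 (iv7 F96806) F96804
theorem F98525 : act 4 n60685 = n63148 := d20_6 F98521 (iv1 F46608) F23047 (iv3 F22976) D28802 D60685 (iv1 D63148) F48010 F23696 D14203
def n63310 : Q := act 3 n29912
theorem D63310 : act 3 n29912 = n63310 := rfl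
theorem F98526 : act 4 n63310 = n29915 := d5_2 D29912 D63310 (iv3 D29915) (iv4 D14205) (iv3 F23710)
theorem F98527 : act 6 n63310 = n50101 := d7_2 (iv6 F48047) D63310 (iv3 D50101)
theorem F98528 : act 7 n63310 = n59515 := d8_2 (iv7 F48048) D63310 (iv3 D59515)
def n63311 : Q := act 5 n29912
theorem D63311 : act 5 n29912 = n63311 := rfl
theorem F98529 : act 2 n63311 = n49161 := d2_1 D63311 (iv5 D49161) (iv2 F48046)
theorem F98530 : act 7 n63311 = n59467 := d13_2 (iv7 F48048) D63311 F93866
theorem F98531 : act 4 n63311 = n30315 := d16_2 D29912 D63311 F48746 (iv4 F24571) (iv5 D14917) F11414 D14369 F23992 (iv2 F23709)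
theorem F98532 : act 0 n63311 = n59406 := d17_2 (iv1 F48050) D63311 (iv5 D59406) (iv4 D28210) (iv5 D13468) (iv0 D6406) D6408 D13472 D28216
theorem F98533 : act 1 n63311 = n59412 := d17_6 (iv1 F24003) (iv5 D6892) (iv1 F11149) D14204 D29912 D63311 (iv5 D59412) (iv0 F48690) (iv4 D30280)
def n63312 : Q := act 5 n29913
theorem D63312 : act 5 n29913 = n63312 := rfl
theorem F98534 : act 2 n63312 = n49387 := d2_1 D63312 (iv5 D49387) F48056
theorem F98535 : act 7 n63312 = n49390 := d13_2 (iv7 F48057) D63312 (iv5 D49390)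
theorem F98536 : act 4 n63312 = n50165 := d16_2 F48864 D63312 (iv5 D50165) (iv4 D24466) (iv5 F18868) (iv4 F23678) (iv5 F37127) (iv7 F46303) (iv2 F48861)
theorem F98537 : act 0 n63312 = n30849 := d17_2 D29913 D63312 (iv5 D30849) (iv4 D14612) D14613 (iv0 F24292) F19560 F19207 D14205
theorem F98538 : act 1 n63312 = n30853 := d17_6 D24480 (iv5 F45741) F49183 (iv5 F49182) F48864 D63312 (iv5 D30853) F40846 (iv4 D24482)
def n63313 : Q := act 6 n29913
theorem D63313 : act 6 n29913 = n63313 := rfl
theorem F98539 : act 2 n63313 = n49388 := d3_1 D63313 (iv6 D49388) F48056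
def n63314 : Q := act 3 n29914
theorem D63314 : act 3 n29914 = n63314 := rfl
theorem F98540 : act 4 n63314 = n48820 := d5_2 (iv4 F48053) D63314 (iv3 D48820) (iv4 D23809) D23808
theorem F98541 : act 7 n63314 = n49386 := d8_2 F48055 D63314 (iv3 D49386)
def n63315 : Q := act 5 n29914
theorem D63315 : act 5 n29914 = n63315 := rfl
theorem F98542 : act 2 n63315 = n49390 := d2_1 D63315 (iv5 D49390) F48054
theorem F98543 : act 4 n63315 = n50159 := d9_1 D63315 (iv5 D50159) (iv4 D24464) F24217 (iv4 F49179) (iv5 F49182) F48864 D63312 F98536 (iv5 D50165) (iv4 D24466) (iv5 F18868) (iv4 F23678) (iv5 F37127) (iv4 F48053)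
theorem F98544 : act 7 n63315 = n49387 := d13_2 F48055 D63315 (iv5 D49387)
theorem F98545 : act 0 n63315 = n30853 := d17_2 (iv1 F48052) D63315 (iv5 D30853) (iv4 D14615) F18487 (iv0 F24296) F19225 F19208 (iv4 F37771)
theorem F98546 : act 1 n63315 = n30849 := d17_6 (iv1 F38437) (iv5 F47959) (iv1 D29800) (iv5 F37127) (iv4 F48053) D63315 (iv5 D30849) (iv0 F38494) (iv4 D24512)
def n63316 : Q := act 6 n29914
theorem D63316 : act 6 n29914 = n63316 := rfl
theorem F98547 : act 2 n63316 = n49391 := d3_1 D63316 (iv6 D49391) F48054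
theorem F98548 : act 4 n63316 = n48819 := d10_1 D63316 (iv6 D48819) (iv4 F48053)
def n63317 : Q := act 0 n29915
theorem D63317 : act 0 n29915 = n63317 := rfl
def n63318 : Q := act 1 n29915
theorem D63318 : act 1 n29915 = n63318 := rfl
def n63319 : Q := act 2 n29915
theorem D63319 : act 2 n29915 = n63319 := rfl
theorem F98549 : act 3 n63319 = n49394 := d0_2 D29915 D63319 (iv2 D49394) (iv3 D24106) (iv2 F23712)
theorem F98550 : act 6 n63319 = n50132 := d3_2 (iv6 F48058) D63319 (iv2 D50132)
def n63320 : Q := act 5 n29915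
theorem D63320 : act 5 n29915 = n63320 := rfl
theorem F98551 : act 3 n63320 = n29916 := d6_1 D63320 (iv5 D29916) D29915
theorem F98552 : act 7 n63320 = n50393 := d13_2 F49242 D63320 F79761
def n63321 : Q := act 0 n29916
theorem D63321 : act 0 n29916 = n63321 := rfl
theorem F98553 : act 5 n63321 = n50143 := d17_1 D63321 F79436 D53369 F84195 F79732 F79442 (iv5 F79524) F79522 (iv4 F48061)
theorem F98554 : act 4 n63321 = n50153 := d18_3 (iv1 F79518) (iv4 F48061) D63321 (iv5 D50153) (iv4 D24461) F19601 D25058 (iv0 F40222) (iv5 F79517)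
theorem F98555 : act 1 n49401 = n63321 := d15_0 (iv0 D63321) F48060 (iv2 F78125)
theorem F98556 : act 2 n49397 = n63321 := d1_3 F98554 F79459 F78115
theorem F98557 : act 7 n49398 = n63321 := d11_0 F98554 F79460 F78119
def n63322 : Q := act 1 n29916
theorem D63322 : act 1 n29916 = n63322 := rfl
theorem F98558 : act 1 n63322 = n49401 := d15_1 D63322 (iv7 D49401) (iv2 F48059)
theorem F98559 : act 7 n63322 = n49397 := d15_2 (iv0 D63321) D63322 F98556
theorem F98560 : act 5 n63322 = n48804 := d17_7 (iv1 F20336) (iv5 D6975) (iv1 F10171) D6759 D14205 D29916 D63322 F76874 (iv4 D25860)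
theorem F98561 : act 2 n49398 = n63322 := d2_3 F98560 F76871 (iv5 F78118)
theorem F98562 : act 4 n50147 = n63322 := d9_15 F98560 (iv4 D48804) (iv5 D23801) F18113 D11557 D24461 D50153 (iv4 F98554) F98553 (iv4 D50143) (iv5 D24456) (iv4 D11553) D11554 D24459 D50147
def n63323 : Q := act 6 n29916
theorem D63323 : act 6 n29916 = n63323 := rfl
theorem F98563 : act 2 n63323 = n49400 := d3_1 D63323 (iv6 D49400) (iv2 F48059)
theorem F98564 : act 4 n63323 = n50398 := d10_1 D63323 (iv6 D50398) (iv4 F48061)
theorem F98565 : act 5 n63323 = n50138 := d12_1 D63323 (iv6 D50138) (iv5 D24451) (iv6 F23713) D29916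
def n63324 : Q := act 6 n29917
theorem D63324 : act 6 n29917 = n63324 := rfl
theorem F98566 : act 2 n63324 = n29941 := d3_1 D63324 (iv6 D29941) F48063
theorem F98567 : act 3 n63324 = n58738 := d7_1 D63324 (iv6 D58738) (iv3 F48064)
theorem F98568 : act 4 n63324 = n50126 := d10_1 D63324 (iv6 D50126) (iv4 F48062)
theorem F98569 : act 5 n63324 = n52420 := d12_1 D63324 (iv6 D52420) (iv5 F40219) F80253 F80251
def n63325 : Q := act 3 n29918
theorem D63325 : act 3 n29918 = n63325 := rfl
theorem F98570 : act 6 n63325 = n31046 := d7_2 (iv6 F48068) D63325 (iv3 D31046)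
def n63326 : Q := act 5 n29918
theorem D63326 : act 5 n29918 = n63326 := rfl
theorem F98571 : act 2 n63326 = n29945 := d2_1 D63326 (iv5 D29945) (iv2 F48067)
theorem F98572 : act 7 n63326 = n29997 := d13_2 F53629 D63326 F53630
theorem F98573 : act 4 n63326 = n29999 := d16_2 D29918 D63326 F48189 F23764 F11034 (iv4 F11028) (iv5 F23752) (iv7 D14223) (iv2 F23714)
theorem F98574 : act 0 n63326 = n50068 := d17_2 (iv1 F48070) D63326 (iv5 D50068) (iv4 D24420) (iv5 D11518) (iv0 D5370) D5372 (iv0 F19436) D14509
theorem F98575 : act 1 n63326 = n30551 := d17_6 F53570 (iv5 D24341) (iv1 F18750) D14206 D29918 D63326 (iv5 D30551) D30549 (iv4 F53572)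
def n63327 : Q := act 6 n29919
theorem D63327 : act 6 n29919 = n63327 := rfl
theorem F98576 : act 2 n63327 = n29947 := d3_1 D63327 (iv6 D29947) (iv2 F48071)
theorem F98577 : act 5 n63327 = n63327 := d12_1 D63327 (iv6 D63327) F48072 F23717 (iv5 F48072)
theorem F98578 : act 7 n63327 = n50192 := d14_2 D29919 D63327 (iv6 D50192) F38435 F38278
def n63328 : Q := act 3 n29920
theorem D63328 : act 3 n29920 = n63328 := rfl
theorem F98579 : act 7 n63328 = n29962 := d8_2 (iv7 F48076) D63328 (iv3 D29962)
def n63329 : Q := act 5 n29920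
theorem D63329 : act 5 n29920 = n63329 := rfl
theorem F98580 : act 2 n63329 = n29953 := d2_1 D63329 (iv5 D29953) (iv2 F48075)
theorem F98581 : act 7 n63329 = n29963 := d13_2 (iv7 F48076) D63329 (iv5 D29963)
theorem F98582 : act 4 n63329 = n30551 := d16_2 D29920 D63329 (iv5 D30551) (iv4 D14493) (iv5 D6923) (iv4 F11009) D14209 F23726 (iv2 F23720)
theorem F98583 : act 0 n63329 = n50092 := d17_2 F96651 D63329 (iv5 F79344) F79343 F38334 F18849 D24413 (iv0 F47050) D62026
theorem F98584 : act 1 n63329 = n50065 := d17_6 F19298 (iv5 D6763) D6761 D14208 D29920 D63329 (iv5 D50065) (iv0 F39200) (iv4 D24983)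
def n63330 : Q := act 3 n29921
theorem D63330 : act 3 n29921 = n63330 := rfl
theorem F98585 : act 4 n63330 = n49196 := d5_2 D29921 D63330 (iv3 D49196) (iv4 D24009) (iv3 F23725)
theorem F98586 : act 7 n63330 = n29952 := d8_2 (iv7 F48078) D63330 (iv3 D29952)
def n63331 : Q := act 5 n29921
theorem D63331 : act 5 n29921 = n63331 := rfl
theorem F98587 : act 2 n63331 = n29963 := d2_1 D63331 (iv5 D29963) (iv2 F48077)
theorem F98588 : act 4 n63331 = n50068 := d9_1 D63331 (iv5 D50068) (iv4 D24420) (iv5 D11518) F19445 D14208 D29920 D63329 F98582 (iv5 D30551) (iv4 D14493) (iv5 D6923) (iv4 F11009) D14209 D29921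
theorem F98589 : act 7 n63331 = n29953 := d13_2 (iv7 F48078) D63331 (iv5 D29953)
theorem F98590 : act 0 n63331 = n50065 := d17_2 F98351 D63331 (iv5 D50065) (iv4 D24418) (iv5 D11513) D11512 D24415 (iv0 F47986) D63032
theorem F98591 : act 1 n63331 = n50092 := d17_6 (iv1 F23730) F11034 (iv1 F11007) D14209 D29921 D63331 (iv5 F79344) F79346 (iv4 D29923)
def n63332 : Q := act 6 n29921
theorem D63332 : act 6 n29921 = n63332 := rfl
theorem F98592 : act 2 n63332 = n29964 := d3_1 D63332 (iv6 D29964) (iv2 F48077)
theorem F98593 : act 4 n63332 = n29922 := d10_1 D63332 (iv6 D29922) D29921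
theorem F98594 : act 0 n63001 = n63332 := d21_4 D62962 (iv1 F98316) (iv5 D63000) D63001 (iv6 D63332) D63331 F98590 (iv5 D50065) (iv6 F38904) F47917
def n63333 : Q := act 3 n29923
theorem D63333 : act 3 n29923 = n63333 := rfl
theorem F98595 : act 4 n63333 = n59350 := d5_2 D29923 D63333 (iv3 D59350) F45594 (iv3 F36886)
theorem F98596 : act 7 n63333 = n29978 := d8_2 (iv7 F48083) D63333 (iv3 D29978)
def n63334 : Q := act 5 n29923
theorem D63334 : act 5 n29923 = n63334 := rfl
theorem F98597 : act 2 n63334 = n29972 := d2_1 D63334 (iv5 D29972) (iv2 F48082)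
theorem F98598 : act 4 n63334 = n30591 := d9_1 D63334 (iv5 D30591) (iv4 D14509) F11203 (iv4 F10173) D11863 D24983 D51398 F81139 (iv5 D50074) (iv4 D24422) (iv5 F24187) (iv4 F39102) F39100 D29923
theorem F98599 : act 7 n63334 = n29979 := d13_2 (iv7 F48083) D63334 (iv5 D29979)
def n63335 : Q := act 6 n29923
theorem D63335 : act 6 n29923 = n63335 := rfl
theorem F98600 : act 2 n63335 = n29973 := d3_1 D63335 (iv6 D29973) (iv2 F48082)
theorem F98601 : act 4 n63335 = n29924 := d10_1 D63335 (iv6 D29924) D29923
def n63336 : Q := act 0 n29924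
theorem D63336 : act 0 n29924 = n63336 := rfl
theorem F98602 : act 6 n63336 = n50238 := d21_5 F23753 D24942 F39100 D29924 D63336 (iv5 F81173) (iv1 D51342) F39163 (iv6 D14226) D14224
theorem F98603 : act 0 n63336 = n29976 := d21_4 F81248 (iv1 F81029) F81173 (iv6 F98602) (iv6 F81130) F81129 (iv1 F80976) (iv5 F80977) F79451 F81252
def n63337 : Q := act 1 n29924
theorem D63337 : act 1 n29924 = n63337 := rfl
theorem F98604 : act 1 n63337 = n29976 := d15_1 D63337 (iv7 D29976) (iv2 F48085)
def n63338 : Q := act 7 n29924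
theorem D63338 : act 7 n29924 = n63338 := rfl
theorem F98605 : act 2 n63338 = n29976 := d4_1 D63338 (iv7 D29976) (iv2 F48085)
theorem F98606 : act 5 n63338 = n50116 := d13_1 D63338 F79360 (iv5 F48086)
theorem F98607 : act 6 n63338 = n29983 := d14_1 D63338 (iv7 D29983) (iv6 D14237) (iv7 F23729) D29924
theorem F98608 : act 1 n29975 = n63338 := d15_1 D29975 (iv7 D63338) F48085
theorem F98609 : act 0 n29974 = n63338 := d21_4 (iv5 F81032) (iv1 F81035) (iv5 F79593) (iv6 F79594) F98607 (iv5 F80979) (iv1 F80982) (iv5 F79715) F79714 (iv1 F81250)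
def n63339 : Q := act 3 n29925
theorem D63339 : act 3 n29925 = n63339 := rfl
theorem F98610 : act 4 n63339 = n53125 := d5_2 (iv4 F48089) D63339 (iv3 D53125) (iv4 F45567) F45566
theorem F98611 : act 7 n63339 = n29984 := d8_2 (iv7 F48088) D63339 (iv3 D29984)
def n63340 : Q := act 5 n29925
theorem D63340 : act 5 n29925 = n63340 := rfl
theorem F98612 : act 2 n63340 = n29988 := d2_1 D63340 (iv5 D29988) F48090
theorem F98613 : act 4 n63340 = n50125 := d9_1 D63340 (iv5 D50125) (iv4 F48062) (iv5 F80251) F80250 F45192 D28769 D60580 F95199 (iv5 D50128) F38359 F38167 (iv4 F38979) F38980 (iv4 F48089)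
theorem F98614 : act 7 n63340 = n29985 := d13_2 (iv7 F48088) D63340 (iv5 D29985)
theorem F98615 : act 1 n63340 = n62530 := d17_6 F47049 F47047 F38982 F38980 (iv4 F48089) D63340 (iv5 D62530) (iv0 F79240) (iv4 D50059)
def n63341 : Q := act 6 n29925
theorem D63341 : act 6 n29925 = n63341 := rfl
theorem F98616 : act 2 n63341 = n29989 := d3_1 D63341 (iv6 D29989) F48090
theorem F98617 : act 4 n63341 = n50108 := d10_1 D63341 (iv6 D50108) (iv4 F48089)
def n63342 : Q := act 0 n29926
theorem D63342 : act 0 n29926 = n63342 := rfl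
def n63343 : Q := act 1 n29926
theorem D63343 : act 1 n29926 = n63343 := rfl
def n63344 : Q := act 2 n29926
theorem D63344 : act 2 n29926 = n63344 := rfl
theorem F98618 : act 3 n63344 = n29992 := d0_2 D29926 D63344 (iv2 D29992) (iv3 D14240) (iv2 F23731)
theorem F98619 : act 4 n63344 = n62972 := d1_2 (iv4 F48091) D63344 (iv2 D62972)
theorem F98620 : act 6 n63344 = n62972 := d3_2 (iv6 F48092) D63344 (iv2 D62972)
def n63345 : Q := act 5 n29926
theorem D63345 : act 5 n29926 = n63345 := rfl
theorem F98621 : act 3 n63345 = n29927 := d6_1 D63345 (iv5 D29927) D29926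
def n63346 : Q := act 7 n29926
theorem D63346 : act 7 n29926 = n63346 := rfl
theorem F98622 : act 3 n63346 = n29928 := d8_1 D63346 (iv7 D29928) D29926
theorem F98623 : act 4 n63346 = n62974 := d11_1 D63346 (iv7 D62974) (iv4 F48091)
def n63347 : Q := act 1 n29927
theorem D63347 : act 1 n29927 = n63347 := rfl
theorem F98624 : act 1 n63347 = n29999 := d15_1 D63347 (iv7 D29999) (iv2 F48093)
theorem F98625 : act 7 n63347 = n29995 := d15_2 F95129 D63347 (iv2 F95125)
theorem F98626 : act 5 n63347 = n50104 := d17_7 (iv1 F23727) (iv5 D14209) (iv1 D6762) D6763 D14211 D29927 D63347 F79321 (iv4 D29033)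
theorem F98627 : act 4 n63347 = n50135 := d17_9 (iv1 F79411) F79290 (iv1 F38358) D50128 (iv4 F95199) (iv5 D60580) (iv0 F46410) D29927 D63347
theorem F98628 : act 2 n29996 = n63347 := d1_3 F98627 (iv2 F79409) F79286
def n63348 : Q := act 4 n29927
theorem D63348 : act 4 n29927 = n63348 := rfl
theorem F98629 : act 2 n63348 = n29997 := d1_1 D63348 (iv4 D29997) (iv2 F48093)
theorem F98630 : act 5 n63348 = n29946 := d9_2 D29927 D63348 F48143 F23752 F11028 (iv5 F11034) (iv4 F23764) (iv5 F48189) (iv4 F98573) (iv5 D63326) (iv4 D29918) (iv5 D14206) F11006 D6763 D14211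
theorem F98631 : act 0 n63348 = n30551 := d18_2 (iv1 D63347) D63348 (iv4 F98582) (iv5 D63329) (iv4 D29920) F47413 (iv4 F95122) F95120 (iv5 F98626)
theorem F98632 : act 1 n63348 = n50068 := d18_6 (iv1 F79345) (iv4 D24983) F19298 D14211 D29927 D63348 (iv4 F98588) F98591 (iv5 F79344)
theorem F98633 : act 7 n63348 = n29945 := d15_2 F98575 (iv0 F98631) (iv2 F98571)
def n63349 : Q := act 6 n29927
theorem D63349 : act 6 n29927 = n63349 := rfl
theorem F98634 : act 2 n63349 = n29998 := d3_1 D63349 (iv6 D29998) (iv2 F48093)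
theorem F98635 : act 5 n63349 = n62976 := d12_1 D63349 (iv6 D62976) (iv5 D29788) (iv6 F23732) D29927
def n63350 : Q := act 7 n29927
theorem D63350 : act 7 n29927 = n63350 := rfl
theorem F98636 : act 2 n63350 = n29999 := d4_1 D63350 (iv7 D29999) (iv2 F48093)
theorem F98637 : act 4 n63350 = n29945 := d11_1 D63350 (iv7 F98633) (iv4 D63348)
theorem F98638 : act 5 n63350 = n29928 := d13_1 D63350 (iv7 D29928) D29927
theorem F98639 : act 1 n29996 = n63350 := d15_1 D29996 (iv7 D63350) F48093
theorem F98640 : act 1 n63350 = n29995 := d15_1 F98639 (iv7 F98625) (iv2 F98628)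
def n63351 : Q := act 6 n29928
theorem D63351 : act 6 n29928 = n63351 := rfl
theorem F98641 : act 2 n63351 = n30000 := d3_1 D63351 (iv6 D30000) (iv2 F48094)
theorem F98642 : act 4 n63351 = n29929 := d10_1 D63351 (iv6 D29929) (iv4 F48095)
theorem F98643 : act 7 n63351 = n62977 := d14_2 D29928 D63351 (iv6 D62977) (iv7 D29789) (iv6 F23732)
theorem F98644 : act 1 n63148 = n63351 := d15_1 D63148 F98643 F98273
theorem F98645 : act 1 n63351 = n63147 := d15_0 (iv0 D63147) (iv7 F48191) (iv2 F98641)
def n63352 : Q := act 3 n29930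
theorem D63352 : act 3 n29930 = n63352 := rfl
theorem F98646 : act 4 n63352 = n49885 := d5_2 D29930 D63352 (iv3 D49885) (iv4 D24326) (iv3 F23738)
theorem F98647 : act 6 n63352 = n62934 := d7_2 (iv6 F48105) D63352 (iv3 D62934)
theorem F98648 : act 7 n63352 = n50289 := d8_2 (iv7 F48106) D63352 (iv3 D50289)
def n63353 : Q := act 5 n29930
theorem D63353 : act 5 n29930 = n63353 := rfl
theorem F98649 : act 2 n63353 = n50222 := d2_1 D63353 F79577 (iv2 F48104)
theorem F98650 : act 7 n63353 = n50221 := d13_2 (iv7 F48106) D63353 F79574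
theorem F98651 : act 4 n63353 = n30871 := d16_2 D29930 D63353 F49327 (iv4 F24416) (iv5 D14776) F11287 D14603 F24272 F23740
theorem F98652 : act 0 n63353 = n50147 := d17_2 (iv1 F48107) D63353 (iv5 D50147) (iv4 D24459) (iv5 D11554) (iv0 D5380) D5382 D11560 D24466
theorem F98653 : act 1 n63353 = n50153 := d17_6 (iv1 D14605) (iv5 D6979) (iv1 F19391) D14213 D29930 D63353 (iv5 D50153) (iv0 F49297) (iv4 D30839)
theorem F98654 : act 0 n51373 = n50154 := d21_4 D51333 (iv1 F81101) (iv5 D51372) D51373 (iv6 D50154) D50153 (iv1 F98653) (iv5 D63353) F48105 F47889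
theorem F98655 : act 1 n51373 = n50275 := d15_1 (iv0 F98654) (iv7 D50275) (iv2 F79461)
def n63354 : Q := act 6 n29931
theorem D63354 : act 6 n29931 = n63354 := rfl
theorem F98656 : act 2 n63354 = n49076 := d3_1 D63354 (iv6 D49076) F48112
theorem F98657 : act 3 n63354 = n59148 := d7_1 D63354 (iv6 D59148) F48113
theorem F98658 : act 4 n63354 = n50175 := d10_1 D63354 (iv6 D50175) F48114
theorem F98659 : act 5 n63354 = n51076 := d12_1 D63354 (iv6 D51076) (iv5 D24845) D24846 (iv5 F48111)
def n63355 : Q := act 6 n29932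
theorem D63355 : act 6 n29932 = n63355 := rfl
theorem F98660 : act 5 n63355 = n51083 := d12_1 D63355 (iv6 D51083) (iv5 D24852) D24853 (iv5 F48115)
def n63356 : Q := act 3 n29934
theorem D63356 : act 3 n29934 = n63356 := rfl
def n63357 : Q := act 6 n29934
theorem D63357 : act 6 n29934 = n63357 := rfl
theorem F98661 : act 4 n63357 = n29935 := d10_1 D63357 (iv6 D29935) D29934
def n63358 : Q := act 0 n29935
theorem D63358 : act 0 n29935 = n63358 := rfl
def n63359 : Q := act 1 n29935
theorem D63359 : act 1 n29935 = n63359 := rfl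
def n63360 : Q := act 7 n29935
theorem D63360 : act 7 n29935 = n63360 := rfl
theorem F98662 : act 3 n63360 = n59569 := d8_1 D63360 (iv7 D59569) (iv3 F48121)
theorem F98663 : act 5 n63360 = n59545 := d13_1 D63360 (iv7 D59545) (iv5 F48122)
def n63361 : Q := act 6 n29936
theorem D63361 : act 6 n29936 = n63361 := rfl
theorem F98664 : act 2 n63361 = n58737 := d3_1 D63361 (iv6 D58737) (iv2 F48123)
theorem F98665 : act 3 n63361 = n29939 := d7_1 D63361 (iv6 D29939) (iv3 F48124)
theorem F98666 : act 0 n49625 = n63361 := d21_4 (iv5 F39871) (iv1 F39876) F38717 D49625 (iv6 D63361) (iv5 D29936) F23749 D23784 (iv6 F38869) F38871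
def n63362 : Q := act 3 n29938
theorem D63362 : act 3 n29938 = n63362 := rfl
def n63363 : Q := act 6 n29938
theorem D63363 : act 6 n29938 = n63363 := rfl
theorem F98667 : act 4 n63363 = n29939 := d10_1 D63363 (iv6 D29939) D29938
theorem F98668 : act 0 n53376 = n63363 := d21_4 D49387 (iv1 F84218) (iv5 D53375) D53376 (iv6 D63363) (iv5 F79287) (iv1 D50091) (iv5 D24427) F18836 D24104
def n63364 : Q := act 0 n29939
theorem D63364 : act 0 n29939 = n63364 := rfl
def n63365 : Q := act 1 n29939
theorem D63365 : act 1 n29939 = n63365 := rfl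
theorem F98669 : act 6 n30859 = n63365 := d21_3 F46299 D50304 F79684 (iv1 D63365) (iv6 D29939) (iv5 D14218) (iv1 D6768) D6769 (iv6 F22852) D28711
theorem F98670 : act 2 n63365 = n50195 := d3_1 F98669 (iv6 D50195) (iv2 F49316)
theorem F98671 : act 3 n63365 = n59436 := d7_1 F98669 (iv6 D59436) (iv3 F49319)
theorem F98672 : act 4 n63365 = n30861 := d10_1 F98669 (iv6 D30861) D30859
theorem F98673 : act 5 n63365 = n50062 := d12_1 F98669 (iv6 D50062) (iv5 F49149) (iv6 F79687) F79684
def n63366 : Q := act 5 n29939
theorem D63366 : act 5 n29939 = n63366 := rfl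
theorem F98674 : act 2 n63366 = n61837 := d2_1 D63366 F96389 F78958
theorem F98675 : act 6 n63366 = n29940 := d12_2 D29939 D63366 (iv5 D29940) (iv6 D14219) D14218
def n63367 : Q := act 7 n29939
theorem D63367 : act 7 n29939 = n63367 := rfl
theorem F98676 : act 1 n50195 = n63367 := d15_1 (iv0 F79555) (iv7 D63367) (iv2 F78958)
def n63368 : Q := act 0 n29941
theorem D63368 : act 0 n29941 = n63368 := rfl
def n63369 : Q := act 1 n29941
theorem D63369 : act 1 n29941 = n63369 := rfl
def n63370 : Q := act 7 n29941
theorem D63370 : act 7 n29941 = n63370 := rfl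
def n63371 : Q := act 6 n29942
theorem D63371 : act 6 n29942 = n63371 := rfl
theorem F98677 : act 2 n63371 = n58739 := d3_1 D63371 (iv6 D58739) (iv2 F48137)
theorem F98678 : act 3 n63371 = n29943 := d7_1 D63371 (iv6 D29943) D29942
theorem F98679 : act 5 n63371 = n52223 := d12_1 D63371 (iv6 D52223) (iv5 D25365) D25366 (iv5 F48138)
def n63372 : Q := act 0 n29943
theorem D63372 : act 0 n29943 = n63372 := rfl
def n63373 : Q := act 1 n29943
theorem D63373 : act 1 n29943 = n63373 := rfl
def n63374 : Q := act 7 n29943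
theorem D63374 : act 7 n29943 = n63374 := rfl
def n63375 : Q := act 0 n29944
theorem D63375 : act 0 n29944 = n63375 := rfl
def n63376 : Q := act 1 n29944
theorem D63376 : act 1 n29944 = n63376 := rfl
def n63377 : Q := act 2 n29944
theorem D63377 : act 2 n29944 = n63377 := rfl
theorem F98680 : act 4 n63377 = n52103 := d1_2 (iv4 F48142) D63377 (iv2 D52103)
def n63378 : Q := act 5 n29944
theorem D63378 : act 5 n29944 = n63378 := rfl
theorem F98681 : act 3 n63378 = n29945 := d6_1 D63378 (iv5 D29945) D29944
def n63379 : Q := act 7 n29944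
theorem D63379 : act 7 n29944 = n63379 := rfl
theorem F98682 : act 3 n63379 = n29946 := d8_1 D63379 (iv7 D29946) D29944
theorem F98683 : act 4 n63379 = n52105 := d11_1 D63379 (iv7 D52105) (iv4 F48142)
def n63380 : Q := act 6 n29945
theorem D63380 : act 6 n29945 = n63380 := rfl
def n63381 : Q := act 6 n29946
theorem D63381 : act 6 n29946 = n63381 := rfl
theorem F98684 : act 4 n63381 = n29947 := d10_1 D63381 (iv6 D29947) (iv4 F48143)
theorem F98685 : act 7 n63381 = n31048 := d14_2 D29946 D63381 (iv6 D31048) (iv7 F40971) F40974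
def n63382 : Q := act 0 n29947
theorem D63382 : act 0 n29947 = n63382 := rfl
theorem F98686 : act 1 n50192 = n63382 := d15_0 (iv0 D63382) (iv7 F49600) (iv2 F79544)
def n63383 : Q := act 1 n29947
theorem D63383 : act 1 n29947 = n63383 := rfl
theorem F98687 : act 1 n63383 = n50192 := d15_1 D63383 (iv7 F98578) F98576
def n63384 : Q := act 3 n29948
theorem D63384 : act 3 n29948 = n63384 := rfl
theorem F98688 : act 4 n63384 = n62990 := d5_2 D29948 D63384 (iv3 D62990) (iv4 D29801) (iv3 F23757)
def n63385 : Q := act 5 n29948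
theorem D63385 : act 5 n29948 = n63385 := rfl
theorem F98689 : act 2 n63385 = n61332 := d2_1 D63385 (iv5 D61332) (iv2 F48148)
theorem F98690 : act 0 n63385 = n60580 := d17_2 F79234 D63385 (iv5 D60580) (iv4 D28769) (iv5 F45192) F45194 D29817 F47985 D50057
theorem F98691 : act 1 n63385 = n63340 := d17_6 (iv1 F19299) (iv5 D11863) (iv1 F19295) (iv5 F23753) D29948 D63385 (iv5 D63340) F48087 F23764
def n63386 : Q := act 6 n29948
theorem D63386 : act 6 n29948 = n63386 := rfl
theorem F98692 : act 2 n63386 = n61333 := d3_1 D63386 (iv6 D61333) (iv2 F48148)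
theorem F98693 : act 4 n63386 = n29949 := d10_1 D63386 (iv6 D29949) D29948
def n63387 : Q := act 0 n29949
theorem D63387 : act 0 n29949 = n63387 := rfl
theorem F98694 : act 5 n63387 = n30970 := d21_2 (iv5 F48151) D63387 (iv6 D30970) (iv1 D14657) (iv6 D7002) D7001 D14655 F24337 D25896 F40922
theorem F98695 : act 0 n63387 = n61336 := d21_7 (iv5 F80857) (iv1 F79267) (iv5 F84528) F84529 (iv1 F49380) D30970 (iv5 F98694) F95815 F53600 (iv1 F80856)
def n63388 : Q := act 1 n29949
theorem D63388 : act 1 n29949 = n63388 := rfl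
theorem F98696 : act 1 n63388 = n61336 := d15_1 D63388 (iv7 D61336) (iv2 F48149)
def n63389 : Q := act 7 n29949
theorem D63389 : act 7 n29949 = n63389 := rfl
theorem F98697 : act 2 n63389 = n61336 := d4_1 D63389 (iv7 D61336) (iv2 F48149)
theorem F98698 : act 3 n63389 = n62995 := d8_1 D63389 (iv7 D62995) (iv3 F48150)
theorem F98699 : act 5 n63389 = n30683 := d13_1 D63389 F49135 (iv5 F48151)
theorem F98700 : act 6 n63389 = n61466 := d14_1 D63389 F95960 (iv6 F47988) F47411 D29949
theorem F98701 : act 1 n61335 = n63389 := d15_1 D61335 (iv7 D63389) F48149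
theorem F98702 : act 0 n61334 = n63389 := d21_4 F23697 D29859 D63153 (iv6 F98427) F98700 F95959 (iv1 F78104) D53522 (iv6 F84437) (iv1 D29860)
def n63390 : Q := act 3 n29950
theorem D63390 : act 3 n29950 = n63390 := rfl
theorem F98703 : act 4 n63390 = n60826 := d5_2 (iv4 F48152) D63390 (iv3 D60826) (iv4 D28855) F46366
def n63391 : Q := act 5 n29950
theorem D63391 : act 5 n29950 = n63391 := rfl
theorem F98704 : act 0 n63391 = n63334 := d17_2 D29950 D63391 (iv5 D63334) (iv4 D29923) (iv5 F39100) (iv0 D24942) (iv5 F23753) (iv0 D14224) D14225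
theorem F98705 : act 1 n63391 = n51398 := d17_6 (iv1 F38336) (iv5 F38290) (iv1 F38293) (iv5 F46364) (iv4 F48152) D63391 (iv5 D51398) F79345 F79343
def n63392 : Q := act 6 n29950
theorem D63392 : act 6 n29950 = n63392 := rfl
theorem F98706 : act 4 n63392 = n60505 := d10_1 D63392 (iv6 D60505) (iv4 F48152)
def n63393 : Q := act 3 n29951
theorem D63393 : act 3 n29951 = n63393 := rfl
theorem F98707 : act 4 n63393 = n61423 := d5_2 (iv4 F48155) D63393 (iv3 D61423) (iv4 F46963) F46965
def n63394 : Q := act 5 n29951
theorem D63394 : act 5 n29951 = n63394 := rfl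
theorem F98708 : act 0 n63394 = n51398 := d17_2 (iv1 F48154) D63394 (iv5 D51398) (iv4 D24983) (iv5 D11863) D11862 (iv5 F23420) F23723 D14229
theorem F98709 : act 1 n63394 = n63334 := d17_6 D24416 (iv5 F49149) (iv1 F49152) F46368 (iv4 F48155) D63394 (iv5 D63334) F48084 (iv4 D24418)
def n63395 : Q := act 6 n29951
theorem D63395 : act 6 n29951 = n63395 := rfl
theorem F98710 : act 4 n63395 = n60506 := d10_1 D63395 (iv6 D60506) (iv4 F48155)
theorem F98711 : act 0 n63395 = n62960 := d21_4 D63334 (iv1 F98709) (iv5 D63394) D63395 (iv6 D62960) D62959 F98239 (iv5 D51079) F38904 (iv1 F48084)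
theorem F98712 : act 1 n63395 = n63042 := d15_1 (iv0 F98711) (iv7 D63042) (iv2 F98240)
def n63396 : Q := act 0 n29952
theorem D63396 : act 0 n29952 = n63396 := rfl
def n63397 : Q := act 1 n29952
theorem D63397 : act 1 n29952 = n63397 := rfl
def n63398 : Q := act 2 n29952
theorem D63398 : act 2 n29952 = n63398 := rfl
def n63399 : Q := act 5 n29952
theorem D63399 : act 5 n29952 = n63399 := rfl
theorem F98713 : act 3 n63399 = n29953 := d6_1 D63399 (iv5 D29953) D29952
def n63400 : Q := act 6 n29952
theorem D63400 : act 6 n29952 = n63400 := rfl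
theorem F98714 : act 3 n63400 = n29954 := d7_1 D63400 (iv6 D29954) D29952
def n63401 : Q := act 6 n29953
theorem D63401 : act 6 n29953 = n63401 := rfl
def n63402 : Q := act 0 n29954
theorem D63402 : act 0 n29954 = n63402 := rfl
def n63403 : Q := act 1 n29954
theorem D63403 : act 1 n29954 = n63403 := rfl
def n63404 : Q := act 5 n29954
theorem D63404 : act 5 n29954 = n63404 := rfl
def n63405 : Q := act 7 n29954
theorem D63405 : act 7 n29954 = n63405 := rfl
theorem F98715 : act 4 n63405 = n29957 := d11_1 D63405 (iv7 D29957) (iv4 F48156)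
def n63406 : Q := act 2 n29955
theorem D63406 : act 2 n29955 = n63406 := rfl
theorem F98716 : act 6 n63406 = n63013 := d3_2 F79451 D63406 (iv2 D63013)
def n63407 : Q := act 3 n29955
theorem D63407 : act 3 n29955 = n63407 := rfl
def n63408 : Q := act 4 n29955
theorem D63408 : act 4 n29955 = n63408 := rfl
theorem F98719 : act 6 n63408 = n63015 := d10_2 F79451 D63408 (iv4 D63015)
def n63409 : Q := act 7 n29955
theorem D63409 : act 7 n29955 = n63409 := rfl
def n63412 : Q := act 6 n29956
theorem D63412 : act 6 n29956 = n63412 := rfl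
theorem F98721 : act 5 n63412 = n63019 := d12_1 D63412 (iv6 D63019) (iv5 F80975) F80974 F79448
theorem F98723 : act 0 n63158 = n63019 := d21_1 D63158 (iv5 F98721) (iv6 D63412) (iv1 D29956) (iv6 D14226) (iv5 D6771) (iv1 F11022) (iv5 F23735) D29929 (iv1 F48102)
def n63413 : Q := act 6 n29958
theorem D63413 : act 6 n29958 = n63413 := rfl
theorem F98724 : act 2 n63413 = n30383 := d3_1 D63413 F48819 F48159
theorem F98725 : act 3 n63413 = n49199 := d7_1 D63413 (iv6 F77694) (iv3 F48158)
theorem F98726 : act 4 n63413 = n62119 := d10_1 D63413 (iv6 D62119) (iv4 F48157)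
theorem F98727 : act 5 n63413 = n30377 := d12_1 D63413 (iv6 D30377) (iv5 F26046) D30400 F48839
theorem F98728 : act 0 n63413 = n53107 := d21_4 D30060 F48840 F48839 D63413 (iv6 D53107) (iv5 D25762) (iv1 D12230) D12231 F20237 D14266
theorem F98729 : act 1 n63413 = n63025 := d15_1 (iv0 F98728) (iv7 D63025) (iv2 F83822)
theorem F98730 : act 1 n63025 = n62654 := d15_1 F98729 F97746 (iv2 F98724)
theorem E8829 : n59579 = n59535 := (c18_7 (iv1 F95308) (iv4 F95402) (iv1 F96833) (iv4 F98726) F98727 F48810 D59579 (iv4 D59535) F93786 (iv5 F95307))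
theorem F98731 : act 0 n59535 = n28280 := (sb E8829 (iv1 D59579))
theorem F98732 : act 7 n63024 = n63413 := d8_0 F98725 (iv7 F77911) (iv3 F98339)
theorem F98733 : act 1 n62654 = n53107 := d15_0 (iv0 F98728) (iv7 F98732) (iv2 F98338)
def n63414 : Q := act 3 n29959
theorem D63414 : act 3 n29959 = n63414 := rfl
theorem F98734 : act 4 n63414 = n29962 := d5_2 D29959 D63414 (iv3 D29962) (iv4 D14229) (iv3 F23758)
def n63415 : Q := act 6 n29959
theorem D63415 : act 6 n29959 = n63415 := rfl
theorem F98735 : act 4 n63415 = n29960 := d10_1 D63415 (iv6 D29960) D29959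
theorem F98736 : act 0 n60825 = n63415 := d20_1 (iv4 F95390) F98735 F48163 (iv1 F95821) (iv3 D29636) (iv4 F46738) (iv1 F47153) F47150 (iv3 F47134) (iv1 F47136)
def n63416 : Q := act 0 n29960
theorem D63416 : act 0 n29960 = n63416 := rfl
theorem F98737 : act 2 n61438 = n63416 := d15_3 (iv0 D63416) (iv0 F84102) (iv7 F95937)
theorem F98738 : act 7 n63416 = n63020 := d4_2 (iv7 F95937) F98737 F98327
theorem F98739 : act 1 n61438 = n30059 := d15_0 (iv0 F98331) (iv7 F98738) (iv2 F98737)
def n63417 : Q := act 5 n29960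
theorem D63417 : act 5 n29960 = n63417 := rfl
theorem F98740 : act 2 n63417 = n62584 := d2_1 D63417 F97591 F48291
theorem F98741 : act 3 n63417 = n29967 := d6_1 D63417 (iv5 D29967) (iv3 F48163)
theorem F98742 : act 6 n63417 = n29961 := d12_2 D29960 D63417 (iv5 D29961) (iv6 D14228) D14227
def n63418 : Q := act 7 n29960
theorem D63418 : act 7 n29960 = n63418 := rfl
theorem F98743 : act 3 n63418 = n29968 := d8_1 D63418 (iv7 D29968) (iv3 F48163)
theorem F98744 : act 1 n63020 = n63418 := d15_1 (iv0 F98331) (iv7 D63418) (iv2 F48291)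
theorem F98745 : act 1 n63418 = n61438 := d15_1 F98744 F95937 (iv2 F98327)
def n63419 : Q := act 0 n29962
theorem D63419 : act 0 n29962 = n63419 := rfl
def n63420 : Q := act 1 n29962
theorem D63420 : act 1 n29962 = n63420 := rfl
def n63421 : Q := act 2 n29962
theorem D63421 : act 2 n29962 = n63421 := rfl
def n63422 : Q := act 5 n29962
theorem D63422 : act 5 n29962 = n63422 := rfl
theorem F98746 : act 3 n63422 = n29963 := d6_1 D63422 (iv5 D29963) D29962
def n63423 : Q := act 6 n29962
theorem D63423 : act 6 n29962 = n63423 := rfl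
theorem F98747 : act 3 n63423 = n29964 := d7_1 D63423 (iv6 D29964) D29962
def n63424 : Q := act 6 n29963
theorem D63424 : act 6 n29963 = n63424 := rfl
def n63425 : Q := act 0 n29964
theorem D63425 : act 0 n29964 = n63425 := rfl
def n63426 : Q := act 1 n29964
theorem D63426 : act 1 n29964 = n63426 := rfl
theorem F98748 : act 6 n60699 = n63426 := d21_3 D29829 D63059 F98372 (iv1 D63426) (iv6 D29964) D29963 (iv1 F79340) (iv5 D50110) (iv6 F38929) F38930
theorem F98749 : act 2 n63426 = n63001 := d3_1 F98748 (iv6 D63001) (iv2 F95287)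
theorem F98750 : act 4 n63426 = n51121 := d10_1 F98748 F80640 D60699
def n63427 : Q := act 5 n29964
theorem D63427 : act 5 n29964 = n63427 := rfl
def n63428 : Q := act 7 n29964
theorem D63428 : act 7 n29964 = n63428 := rfl
theorem F98751 : act 4 n63428 = n29968 := d11_1 D63428 (iv7 D29968) (iv4 F48168)
theorem F98752 : act 1 n63001 = n63428 := d15_1 (iv0 F98594) (iv7 D63428) (iv2 F98592)
theorem F98753 : act 0 n30968 = n62946 := d18_2 (iv1 F49380) D30968 F98206 (iv5 F96392) (iv4 F98317) F98752 F98751 F97789 F97786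
def n63429 : Q := act 4 n29966
theorem D63429 : act 4 n29966 = n63429 := rfl
theorem F98754 : act 2 n63429 = n30971 := d1_1 D63429 (iv4 D30971) (iv2 F48170)
theorem F98755 : act 6 n63429 = n61347 := d10_2 F48169 D63429 (iv4 D61347)
def n63430 : Q := act 0 n29967
theorem D63430 : act 0 n29967 = n63430 := rfl
theorem F98756 : act 5 n63430 = n63074 := d21_2 D29967 D63430 (iv6 D63074) (iv1 D29832) (iv6 D14176) (iv5 F23660) (iv1 F38352) (iv5 F46685) F48169 (iv1 D29966)
theorem F98757 : act 0 n63074 = n30964 := d21_1 F98756 (iv5 D30964) D30965 (iv1 F79380) (iv6 D24945) (iv5 F19241) F24293 D14232 (iv6 F48173) D63430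
theorem F98758 : act 0 n63430 = n53469 := d21_7 (iv5 D50231) (iv1 F79457) F79453 (iv6 F98253) (iv1 F98254) D63074 (iv5 F98756) (iv5 F97779) (iv6 F97783) (iv1 F79582)
def n63431 : Q := act 1 n29967
theorem D63431 : act 1 n29967 = n63431 := rfl
theorem F98759 : act 1 n63431 = n53469 := d15_1 D63431 F84370 F48908
def n63432 : Q := act 4 n29967
theorem D63432 : act 4 n29967 = n63432 := rfl
theorem F98760 : act 6 n63432 = n29969 := d10_2 (iv6 F48173) D63432 (iv4 D29969)
def n63433 : Q := act 7 n29967
theorem D63433 : act 7 n29967 = n63433 := rfl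
theorem F98761 : act 2 n63433 = n53469 := d4_1 D63433 F84370 F48908
theorem F98762 : act 5 n63433 = n29968 := d13_1 D63433 (iv7 D29968) D29967
theorem F98763 : act 6 n63433 = n51409 := d14_1 D63433 F81171 (iv6 F40934) F24122 (iv6 F48173)
def n63434 : Q := act 3 n29969
theorem D63434 : act 3 n29969 = n63434 := rfl
def n63435 : Q := act 5 n29969
theorem D63435 : act 5 n29969 = n63435 := rfl
theorem F98764 : act 4 n63435 = n61349 := d16_2 D29969 D63435 (iv5 D61349) (iv4 D29041) F23082 (iv4 F24307) (iv5 F26140) F26143 (iv2 F24119)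
def n63436 : Q := act 3 n29970
theorem D63436 : act 3 n29970 = n63436 := rfl
theorem F98767 : act 4 n63436 = n60817 := d5_2 (iv4 F48177) D63436 (iv3 D60817) (iv4 D28848) (iv3 F38297)
theorem F98768 : act 7 n63436 = n50064 := d8_2 (iv7 F48179) D63436 (iv3 D50064)
def n63437 : Q := act 6 n29970
theorem D63437 : act 6 n29970 = n63437 := rfl
theorem F98769 : act 4 n63437 = n50066 := d10_1 D63437 (iv6 D50066) (iv4 F48177)
theorem F98770 : act 7 n63437 = n63053 := d14_2 (iv7 F48179) D63437 (iv6 D63053) F47996 F38904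
def n63438 : Q := act 0 n29971
theorem D63438 : act 0 n29971 = n63438 := rfl
def n63439 : Q := act 1 n29971
theorem D63439 : act 1 n29971 = n63439 := rfl
def n63440 : Q := act 2 n29971
theorem D63440 : act 2 n29971 = n63440 := rfl
def n63441 : Q := act 5 n29971
theorem D63441 : act 5 n29971 = n63441 := rfl
theorem F98771 : act 3 n63441 = n29972 := d6_1 D63441 (iv5 D29972) D29971
def n63442 : Q := act 6 n29971
theorem D63442 : act 6 n29971 = n63442 := rfl
theorem F98772 : act 3 n63442 = n29973 := d7_1 D63442 (iv6 D29973) D29971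
def n63443 : Q := act 0 n29972
theorem D63443 : act 0 n29972 = n63443 := rfl
theorem F98773 : act 5 n63443 = n62026 := d17_3 F38332 D29972 D63443 (iv4 D62026) F47047 F45193 F45192 F38987 D24440
theorem F98774 : act 4 n63443 = n63049 := d18_1 D63443 F98364 (iv4 F98613) (iv5 D63340) F48089 F38329 (iv4 F48177) (iv0 D29970) D29972
theorem F98775 : act 6 n62026 = n63040 := d21_3 D29972 D63443 F98773 (iv1 D63040) (iv6 D29820) D29819 (iv1 F80579) (iv5 D51086) F38929 F38332
theorem F98776 : act 1 n29979 = n63443 := d15_0 (iv0 D63443) (iv7 F81138) F81137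
theorem F98777 : act 2 n63040 = n63395 := d3_1 F98775 (iv6 D63395) (iv2 F96649)
theorem F98778 : act 4 n63040 = n62027 := d10_1 F98775 (iv6 D62027) D62026
theorem F98779 : act 2 n63394 = n63443 := d2_3 F98773 F96649 D63394
theorem F98780 : act 7 n63391 = n63443 := d13_0 F98773 F96650 D63391
def n63444 : Q := act 1 n29972
theorem D63444 : act 1 n29972 = n63444 := rfl
theorem F98781 : act 1 n63444 = n29979 := d15_1 D63444 (iv7 F98599) F98597
theorem F98782 : act 7 n63444 = n63394 := d15_2 (iv0 D63443) D63444 F98779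
theorem F98783 : act 5 n63444 = n63032 := d17_7 F23722 F23076 F19993 F19501 D14233 D29972 D63444 F98352 (iv4 D29920)
theorem F98784 : act 2 n63391 = n63444 := d2_3 F98783 F98349 D63391
def n63445 : Q := act 6 n29972
theorem D63445 : act 6 n29972 = n63445 := rfl
def n63446 : Q := act 0 n29973
theorem D63446 : act 0 n29973 = n63446 := rfl
def n63447 : Q := act 1 n29973
theorem D63447 : act 1 n29973 = n63447 := rfl
def n63448 : Q := act 5 n29973
theorem D63448 : act 5 n29973 = n63448 := rfl
def n63449 : Q := act 7 n29973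
theorem D63449 : act 7 n29973 = n63449 := rfl
theorem F98785 : act 4 n63449 = n29976 := d11_1 D63449 (iv7 D29976) (iv4 F48180)
def n63450 : Q := act 2 n29974
theorem D63450 : act 2 n29974 = n63450 := rfl
theorem F98786 : act 6 n63450 = n63095 := d3_2 (iv6 F79594) D63450 F98397
theorem F98787 : act 7 n29975 = n63450 := d15_2 (iv0 D29974) D29975 (iv2 D63450)
def n63451 : Q := act 3 n29974
theorem D63451 : act 3 n29974 = n63451 := rfl
theorem F98788 : act 6 n63451 = n63096 := d7_2 (iv6 F79594) D63451 (iv3 D63096)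
def n63452 : Q := act 4 n29974
theorem D63452 : act 4 n29974 = n63452 := rfl
theorem F98789 : act 6 n63452 = n63097 := d10_2 (iv6 F79594) D63452 (iv4 D63097)
def n63453 : Q := act 5 n29974
theorem D63453 : act 5 n29974 = n63453 := rfl
theorem F98790 : act 6 n63453 = n50308 := d12_2 (iv6 F79594) D63453 (iv5 D50308) (iv6 F79595) (iv5 F79593)
def n63454 : Q := act 7 n29974
theorem D63454 : act 7 n29974 = n63454 := rfl
theorem F98791 : act 2 n63454 = n29975 := d4_1 D63454 F98787 (iv2 D63450)
def n63455 : Q := act 3 n29975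
theorem D63455 : act 3 n29975 = n63455 := rfl
def n63456 : Q := act 4 n29975
theorem D63456 : act 4 n29975 = n63456 := rfl
def n63457 : Q := act 5 n29975
theorem D63457 : act 5 n29975 = n63457 := rfl
theorem F98792 : act 6 n63457 = n30822 := d21_3 (iv5 F98606) (iv1 F98608) D63457 (iv1 F49244) (iv6 D24429) F18838 (iv1 F8199) D11545 D24443 D50116
def n63458 : Q := act 6 n29975
theorem D63458 : act 6 n29975 = n63458 := rfl
theorem F98793 : act 7 n63458 = n63094 := d14_2 (iv7 F98787) D63458 (iv6 D63094) D63095 (iv6 F98786)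
theorem F98794 : act 5 n63458 = n63044 := d21_6 (iv5 F79717) (iv1 F80983) F80979 (iv6 F98607) (iv1 F98608) D63458 (iv1 F98363) (iv5 F95953) (iv6 F95957) (iv1 F79716)
theorem F98795 : act 0 n63458 = n53518 := d21_1 (iv5 F98794) (iv5 D53518) F79384 (iv1 D50122) (iv6 D24447) (iv5 F19424) (iv1 F24184) D14173 (iv6 F47991) D63044
def n63459 : Q := act 0 n29977
theorem D63459 : act 0 n29977 = n63459 := rfl
def n63460 : Q := act 1 n29977
theorem D63460 : act 1 n29977 = n63460 := rfl
def n63461 : Q := act 7 n29977
theorem D63461 : act 7 n29977 = n63461 := rfl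
theorem F98796 : act 3 n63461 = n29983 := d8_1 D63461 (iv7 D29983) (iv3 F48181)
def n63462 : Q := act 0 n29978
theorem D63462 : act 0 n29978 = n63462 := rfl
def n63463 : Q := act 1 n29978
theorem D63463 : act 1 n29978 = n63463 := rfl
def n63464 : Q := act 2 n29978
theorem D63464 : act 2 n29978 = n63464 := rfl
def n63465 : Q := act 5 n29978
theorem D63465 : act 5 n29978 = n63465 := rfl
theorem F98797 : act 3 n63465 = n29979 := d6_1 D63465 (iv5 D29979) D29978
def n63466 : Q := act 6 n29978
theorem D63466 : act 6 n29978 = n63466 := rfl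
theorem F98798 : act 3 n63466 = n29980 := d7_1 D63466 (iv6 D29980) D29978
def n63467 : Q := act 6 n29979
theorem D63467 : act 6 n29979 = n63467 := rfl
def n63468 : Q := act 0 n29980
theorem D63468 : act 0 n29980 = n63468 := rfl
def n63469 : Q := act 1 n29980
theorem D63469 : act 1 n29980 = n63469 := rfl
def n63470 : Q := act 5 n29980
theorem D63470 : act 5 n29980 = n63470 := rfl
def n63471 : Q := act 7 n29980
theorem D63471 : act 7 n29980 = n63471 := rfl
theorem F98799 : act 4 n63471 = n29983 := d11_1 D63471 (iv7 D29983) (iv4 F48182)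
def n63472 : Q := act 2 n29981
theorem D63472 : act 2 n29981 = n63472 := rfl
theorem F98800 : act 5 n63472 = n50333 := d2_2 (iv5 F81134) D63472 (iv2 D50333)
theorem F98801 : act 7 n29982 = n63472 := d15_2 (iv0 D29981) D29982 (iv2 D63472)
def n63473 : Q := act 3 n29981
theorem D63473 : act 3 n29981 = n63473 := rfl
def n63474 : Q := act 4 n29981
theorem D63474 : act 4 n29981 = n63474 := rfl
def n63475 : Q := act 6 n29981
theorem D63475 : act 6 n29981 = n63475 := rfl
theorem F98803 : act 0 n63475 = n63154 := d21_10 F98428 (iv1 D30945) (iv5 F48172) (iv6 F48169) (iv1 F46688) (iv6 F38543) (iv5 D24548) D24546 (iv5 F81134) D63475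
def n63476 : Q := act 7 n29981
theorem D63476 : act 7 n29981 = n63476 := rfl
theorem F98804 : act 2 n63476 = n29982 := d4_1 D63476 F98801 (iv2 D63472)
theorem F98805 : act 5 n63476 = n50338 := d13_1 D63476 (iv7 D50338) (iv5 F81134)
theorem F98806 : act 6 n63066 = n63476 := d3_0 F98804 (iv6 F79500) D63066
theorem F98807 : act 7 n63475 = n63074 := d14_4 F98381 F98806 (iv7 D63476) D63475 (iv6 D63074)
def n63477 : Q := act 3 n29982
theorem D63477 : act 3 n29982 = n63477 := rfl
theorem F98808 : act 5 n63477 = n50339 := d6_2 F79498 D63477 (iv3 D50339)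
theorem F98809 : act 6 n63477 = n63067 := d7_2 F79500 D63477 (iv3 D63067)
def n63478 : Q := act 4 n29982
theorem D63478 : act 4 n29982 = n63478 := rfl
theorem F98810 : act 6 n63478 = n63068 := d10_2 F79500 D63478 (iv4 D63068)
def n63479 : Q := act 0 n29984
theorem D63479 : act 0 n29984 = n63479 := rfl
def n63480 : Q := act 1 n29984
theorem D63480 : act 1 n29984 = n63480 := rfl
def n63481 : Q := act 2 n29984
theorem D63481 : act 2 n29984 = n63481 := rfl
def n63482 : Q := act 5 n29984
theorem D63482 : act 5 n29984 = n63482 := rfl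
theorem F98811 : act 3 n63482 = n29985 := d6_1 D63482 (iv5 D29985) D29984
def n63483 : Q := act 6 n29984
theorem D63483 : act 6 n29984 = n63483 := rfl
theorem F98812 : act 3 n63483 = n29986 := d7_1 D63483 (iv6 D29986) D29984
def n63484 : Q := act 0 n29985
theorem D63484 : act 0 n29985 = n63484 := rfl
theorem F98813 : act 5 n63484 = n60507 := d17_3 D14238 D29985 D63484 F95122 F47410 F39109 F19501 (iv0 D6777) D6779
theorem F98814 : act 2 n62530 = n63484 := d15_3 (iv0 D63484) (iv0 F95811) (iv7 F97500)
theorem F98815 : act 1 n29988 = n63484 := d15_0 (iv0 D63484) (iv7 F98614) F98612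
theorem F98816 : act 7 n63484 = n63385 := d15_2 F95812 F98815 F98689
def n63485 : Q := act 6 n29985
theorem D63485 : act 6 n29985 = n63485 := rfl
def n63486 : Q := act 0 n29986
theorem D63486 : act 0 n29986 = n63486 := rfl
def n63487 : Q := act 1 n29986
theorem D63487 : act 1 n29986 = n63487 := rfl
def n63488 : Q := act 5 n29986
theorem D63488 : act 5 n29986 = n63488 := rfl
def n63489 : Q := act 7 n29986
theorem D63489 : act 7 n29986 = n63489 := rfl
def n63490 : Q := act 0 n29987
theorem D63490 : act 0 n29987 = n63490 := rfl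
def n63491 : Q := act 1 n29987
theorem D63491 : act 1 n29987 = n63491 := rfl
def n63492 : Q := act 2 n29987
theorem D63492 : act 2 n29987 = n63492 := rfl
def n63493 : Q := act 5 n29987
theorem D63493 : act 5 n29987 = n63493 := rfl
theorem F98817 : act 3 n63493 = n29988 := d6_1 D63493 (iv5 D29988) D29987
def n63494 : Q := act 6 n29987
theorem D63494 : act 6 n29987 = n63494 := rfl
def n63495 : Q := act 6 n29988
theorem D63495 : act 6 n29988 = n63495 := rfl
def n63496 : Q := act 0 n29989
theorem D63496 : act 0 n29989 = n63496 := rfl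
def n63497 : Q := act 1 n29989
theorem D63497 : act 1 n29989 = n63497 := rfl
def n63498 : Q := act 5 n29989
theorem D63498 : act 5 n29989 = n63498 := rfl
def n63499 : Q := act 7 n29989
theorem D63499 : act 7 n29989 = n63499 := rfl
def n63500 : Q := act 0 n29990
theorem D63500 : act 0 n29990 = n63500 := rfl
theorem F98819 : act 2 n29994 = n63500 := d15_3 (iv0 D63500) (iv0 D29990) D29994
theorem F98820 : act 4 n63500 = n30027 := d1_2 (iv4 F48187) F98819 (iv2 F48250)
theorem F98821 : act 7 n63500 = n29992 := d4_2 D29994 F98819 (iv2 D29992)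
theorem F98822 : act 1 n29991 = n63500 := d15_1 D29991 F98821 (iv2 D29992)
def n63501 : Q := act 2 n29990
theorem D63501 : act 2 n29990 = n63501 := rfl
theorem F98823 : act 7 n29991 = n63501 := d15_2 (iv0 D29990) D29991 (iv2 D63501)
def n63502 : Q := act 3 n29990
theorem D63502 : act 3 n29990 = n63502 := rfl
def n63503 : Q := act 4 n29990
theorem D63503 : act 4 n29990 = n63503 := rfl
def n63504 : Q := act 5 n29990
theorem D63504 : act 5 n29990 = n63504 := rfl
def n63505 : Q := act 6 n29990
theorem D63505 : act 6 n29990 = n63505 := rfl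
def n63506 : Q := act 7 n29990
theorem D63506 : act 7 n29990 = n63506 := rfl
theorem F98824 : act 2 n63506 = n29991 := d4_1 D63506 F98823 (iv2 D63501)
def n63507 : Q := act 3 n29991
theorem D63507 : act 3 n29991 = n63507 := rfl
def n63508 : Q := act 5 n29991
theorem D63508 : act 5 n29991 = n63508 := rfl
def n63509 : Q := act 6 n29991
theorem D63509 : act 6 n29991 = n63509 := rfl
def n63510 : Q := act 1 n29992
theorem D63510 : act 1 n29992 = n63510 := rfl
theorem F98825 : act 1 n63510 = n29994 := d15_1 D63510 (iv7 D29994) D29992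
def n63511 : Q := act 5 n29992
theorem D63511 : act 5 n29992 = n63511 := rfl
theorem F98826 : act 2 n63511 = n29993 := d2_1 D63511 (iv5 D29993) D29992
def n63512 : Q := act 0 n29993
theorem D63512 : act 0 n29993 = n63512 := rfl
def n63513 : Q := act 1 n29993
theorem D63513 : act 1 n29993 = n63513 := rfl
def n63514 : Q := act 4 n29993
theorem D63514 : act 4 n29993 = n63514 := rfl
def n63515 : Q := act 6 n29993
theorem D63515 : act 6 n29993 = n63515 := rfl
theorem F98827 : act 3 n63515 = n29998 := d7_1 D63515 (iv6 D29998) (iv3 F48185)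
theorem F98828 : act 5 n63515 = n63134 := d12_1 D63515 (iv6 D63134) (iv5 D29851) (iv6 F23763) D29993
def n63516 : Q := act 7 n29993
theorem D63516 : act 7 n29993 = n63516 := rfl
theorem F98829 : act 3 n63516 = n29999 := d8_1 D63516 (iv7 D29999) (iv3 F48185)
theorem F98830 : act 5 n63516 = n29994 := d13_1 D63516 (iv7 D29994) D29993
def n63517 : Q := act 6 n29994
theorem D63517 : act 6 n29994 = n63517 := rfl
theorem F98831 : act 3 n63517 = n30000 := d7_1 D63517 (iv6 D30000) (iv3 F48186)
theorem F98832 : act 4 n63517 = n30045 := d10_1 D63517 (iv6 D30045) (iv4 F48187)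
theorem F98833 : act 7 n63517 = n63136 := d14_2 D29994 D63517 (iv6 D63136) (iv7 D29852) (iv6 F23763)
def n63518 : Q := act 3 n29995
theorem D63518 : act 3 n29995 = n63518 := rfl
def n63519 : Q := act 6 n29995
theorem D63519 : act 6 n29995 = n63519 := rfl
def n63520 : Q := act 3 n29996
theorem D63520 : act 3 n29996 = n63520 := rfl
def n63521 : Q := act 6 n29996
theorem D63521 : act 6 n29996 = n63521 := rfl
def n63522 : Q := act 3 n29997
theorem D63522 : act 3 n29997 = n63522 := rfl
def n63523 : Q := act 6 n29997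
theorem D63523 : act 6 n29997 = n63523 := rfl
theorem F98834 : act 4 n63523 = n29998 := d10_1 D63523 (iv6 D29998) D29997
def n63524 : Q := act 0 n29998
theorem D63524 : act 0 n29998 = n63524 := rfl
def n63525 : Q := act 1 n29998
theorem D63525 : act 1 n29998 = n63525 := rfl
def n63526 : Q := act 7 n29998
theorem D63526 : act 7 n29998 = n63526 := rfl
theorem F98835 : act 5 n63526 = n63145 := d13_1 D63526 (iv7 D63145) (iv5 F48188)
def n63527 : Q := act 6 n29999
theorem D63527 : act 6 n29999 = n63527 := rfl
def n63528 : Q := act 0 n30000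
theorem D63528 : act 0 n30000 = n63528 := rfl
theorem F98836 : act 1 n62977 = n63528 := d15_0 (iv0 D63528) F48191 (iv2 F98273)
def n63529 : Q := act 1 n30000
theorem D63529 : act 1 n30000 = n63529 := rfl
theorem F98837 : act 1 n63529 = n62977 := d15_1 D63529 (iv7 F98643) F98641
theorem F98838 : act 4 n63529 = n61999 := d20_8 (iv4 F95110) (iv1 F96585) (iv4 F98505) (iv3 D63151) (iv1 F48103) F48099 (iv4 F98274) (iv1 F98837) (iv3 D61999) (iv1 F47018)
theorem E8830 : n30053 = n29527 := (c20_1 D30053 (iv1 F47353) F23408 (iv3 F23245) D29360 D61999 (iv4 F98838) (iv1 D63529) F48190 F23765 D14261)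
theorem E8831 : n62473 = n28984 := ((D62473).symm.trans (sb E8830 F98519))
theorem E8832 : n62475 = n14261 := ((D62475).symm.trans (sb E8830 (iv4 D30053)))
theorem E8833 : n62477 = n31037 := ((D62477).symm.trans (sb E8830 (iv6 F49444)))
theorem F98839 : act 2 n28984 = n29527 := (sb E8831 (iv2 D62473))
theorem F98840 : act 7 n28984 = n29527 := (sb E8831 (iv7 F97361))
theorem F98841 : act 4 n14261 = n29527 := (sb E8832 (iv4 D62475))
theorem F98842 : act 6 n31037 = n29527 := (sb E8833 (iv6 D62477))
theorem F98843 : act 7 n62474 = n61220 := d8_2 F98840 D62474 (iv3 D61220)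
def n63530 : Q := act 5 n30000
theorem D63530 : act 5 n30000 = n63530 := rfl
theorem F98846 : act 7 n63530 = n63149 := d13_2 (iv7 F48191) D63530 (iv5 D63149)
def n63531 : Q := act 2 n30001
theorem D63531 : act 2 n30001 = n63531 := rfl
theorem F98847 : act 7 n30002 = n63531 := d15_2 (iv0 D30001) D30002 (iv2 D63531)
def n63532 : Q := act 3 n30001
theorem D63532 : act 3 n30001 = n63532 := rfl
theorem F98848 : act 4 n63532 = n60682 := d20_6 D28988 (iv1 F98511) F23798 (iv3 F23765) D30001 D63532 (iv1 D60682) F46437 F22976 D13799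
def n63533 : Q := act 4 n30001
theorem D63533 : act 4 n30001 = n63533 := rfl
def n63534 : Q := act 5 n30001
theorem D63534 : act 5 n30001 = n63534 := rfl
theorem F98849 : act 6 n63534 = n62525 := d21_3 F23766 D30001 D63534 (iv1 F98309) F98307 F97786 (iv1 F49380) D30969 (iv6 F49396) (iv1 D30002)
theorem F98850 : act 0 n63412 = n63534 := d21_10 (iv5 D63534) (iv1 F48192) F47930 (iv6 D29790) (iv1 F23656) D14179 (iv5 F38401) D50149 F79448 D63412
def n63535 : Q := act 6 n30001
theorem D63535 : act 6 n30001 = n63535 := rfl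
theorem F98851 : act 5 n63535 = n49384 := d21_6 (iv5 D14208) (iv1 F11014) (iv5 F11034) D14243 D30001 D63535 (iv1 D49384) (iv5 F47990) (iv6 F47988) (iv1 F47413)
theorem F98852 : act 0 n63094 = n63535 := d21_10 F98851 (iv1 D49384) (iv5 F47990) (iv6 F47988) (iv1 F47413) (iv6 F39248) (iv5 D25014) D25012 F79597 D63094
def n63536 : Q := act 7 n30001
theorem D63536 : act 7 n30001 = n63536 := rfl
theorem F98853 : act 2 n63536 = n30002 := d4_1 D63536 F98847 (iv2 D63531)
def n63537 : Q := act 3 n30002
theorem D63537 : act 3 n30002 = n63537 := rfl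
def n63538 : Q := act 4 n30002
theorem D63538 : act 4 n30002 = n63538 := rfl
def n63539 : Q := act 5 n30002
theorem D63539 : act 5 n30002 = n63539 := rfl
theorem F98854 : act 6 n63539 = n63387 := d12_2 (iv6 F49396) D63539 F98694 (iv6 D30970) D30969
theorem F98855 : act 0 n63539 = n63412 := d21_1 D63539 F98721 (iv6 D63019) (iv1 D29809) (iv6 D14164) (iv5 D6739) (iv1 F10989) (iv5 F23654) D29790 (iv1 F48193)
def n63540 : Q := act 3 n30003
theorem D63540 : act 3 n30003 = n63540 := rfl
theorem F98856 : act 5 n63540 = n62319 := d6_2 F93736 D63540 (iv3 F97177)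
theorem F98857 : act 7 n63540 = n59337 := d8_2 (iv7 F48197) D63540 (iv3 D59337)
theorem F98858 : act 0 n63540 = n62509 := d19_4 F22398 (iv5 F45587) (iv4 F48194) D63540 (iv5 D62509) F47390 (iv3 D14039) (iv1 F23283) (iv5 F46582) F46583 F26582 (iv1 F23161) (iv5 D13893) F10700 (iv3 F18624) (iv1 D11388) (iv5 D5290) (iv4 F10224) D11275
theorem E8834 : n62446 = n62313 := (c17_7 (iv1 F97176) (iv5 F98856) F98858 (iv5 D62509) F47390 (iv5 F47337) D62446 (iv5 D62313) F47277 D61092)
theorem F98859 : act 0 n62313 = n29520 := (sb E8834 (iv1 D62446))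
theorem F98860 : act 1 n62313 = n61202 := (sb E8834 F97326)
def n63541 : Q := act 6 n30003
theorem D63541 : act 6 n30003 = n63541 := rfl
theorem F98861 : act 2 n63541 = n63187 := d3_1 D63541 (iv6 D63187) F48195
theorem F98862 : act 4 n63541 = n59339 := d10_1 D63541 (iv6 D59339) (iv4 F48194)
theorem F98863 : act 7 n63541 = n63160 := d14_2 (iv7 F48197) D63541 (iv6 D63160) F48225 (iv6 F48224)
def n63542 : Q := act 6 n30004
theorem D63542 : act 6 n30004 = n63542 := rfl
def n63543 : Q := act 0 n30005
theorem D63543 : act 0 n30005 = n63543 := rfl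
def n63544 : Q := act 1 n30005
theorem D63544 : act 1 n30005 = n63544 := rfl
def n63545 : Q := act 5 n30005
theorem D63545 : act 5 n30005 = n63545 := rfl
def n63546 : Q := act 7 n30005
theorem D63546 : act 7 n30005 = n63546 := rfl
theorem F98864 : act 4 n63546 = n30008 := d11_1 D63546 (iv7 D30008) (iv4 F48199)
theorem F98865 : act 6 n63546 = n63192 := d14_1 D63546 (iv7 D63192) (iv6 D29875) (iv7 F23768) D30005
def n63547 : Q := act 2 n30006
theorem D63547 : act 2 n30006 = n63547 := rfl
theorem F98866 : act 7 n30007 = n63547 := d15_2 (iv0 D30006) D30007 (iv2 D63547)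
def n63548 : Q := act 3 n30006
theorem D63548 : act 3 n30006 = n63548 := rfl
def n63549 : Q := act 4 n30006
theorem D63549 : act 4 n30006 = n63549 := rfl
def n63550 : Q := act 5 n30006
theorem D63550 : act 5 n30006 = n63550 := rfl
theorem F98867 : act 6 n63550 = n50617 := d12_2 (iv6 F83900) D63550 (iv5 D50617) D50618 F83897
theorem F98868 : act 0 n30410 = n63550 := d21_1 F97690 (iv5 D63550) F83900 (iv1 D53146) (iv6 D25779) (iv5 F20258) F20320 (iv5 F23493) D29620 D62633
def n63551 : Q := act 7 n30006
theorem D63551 : act 7 n30006 = n63551 := rfl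
theorem F98869 : act 2 n63551 = n30007 := d4_1 D63551 F98866 (iv2 D63547)
def n63552 : Q := act 3 n30007
theorem D63552 : act 3 n30007 = n63552 := rfl
def n63553 : Q := act 4 n30007
theorem D63553 : act 4 n30007 = n63553 := rfl
def n63554 : Q := act 5 n30007
theorem D63554 : act 5 n30007 = n63554 := rfl
theorem F98870 : act 6 n30195 = n63554 := d21_5 (iv5 D3100) (iv1 F4823) (iv5 F11095) D14331 D30195 (iv5 D63554) (iv1 D30007) (iv5 F24026) (iv6 D14382) (iv1 D6878)
def n63555 : Q := act 6 n30007
theorem D63555 : act 6 n30007 = n63555 := rfl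
def n63558 : Q := act 2 n30009
theorem D63558 : act 2 n30009 = n63558 := rfl
theorem F98873 : act 6 n63558 = n63207 := d3_2 (iv6 F48202) D63558 (iv2 D63207)
theorem F98874 : act 7 n63558 = n63183 := d4_2 (iv7 F48203) D63558 (iv2 D63183)
def n63559 : Q := act 4 n30009
theorem D63559 : act 4 n30009 = n63559 := rfl
theorem F98878 : act 6 n63559 = n63208 := d10_2 (iv6 F48202) D63559 (iv4 D63208)
theorem F98879 : act 7 n63559 = n63184 := d11_2 (iv7 F48203) D63559 (iv4 D63184)
def n63560 : Q := act 5 n30009
theorem D63560 : act 5 n30009 = n63560 := rfl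
theorem F98880 : act 3 n63560 = n30011 := d6_1 D63560 (iv5 D30011) D30009
theorem F98881 : act 6 n63560 = n50652 := d12_2 (iv6 F48202) D63560 (iv5 D50652) (iv6 F39585) (iv5 F48029)
theorem F98882 : act 7 n63560 = n31327 := d13_2 (iv7 F48203) D63560 (iv5 F49582)
def n63561 : Q := act 4 n30011
theorem D63561 : act 4 n30011 = n63561 := rfl
theorem F98883 : act 2 n63561 = n63180 := d1_1 D63561 (iv4 D63180) (iv2 F48207)
theorem F98884 : act 6 n63561 = n50655 := d10_2 (iv6 F48208) D63561 (iv4 D50655)
theorem F98885 : act 7 n63561 = n31332 := d11_2 (iv7 F48209) D63561 F49585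
theorem F98886 : act 1 n63561 = n31015 := d18_6 (iv1 D13773) (iv4 F23024) D28899 F48982 D30011 D63561 F49435 (iv0 F47113) (iv5 D28908)
def n63564 : Q := act 2 n30012
theorem D63564 : act 2 n30012 = n63564 := rfl
theorem F98888 : act 3 n63564 = n63183 := d0_2 D30012 D63564 (iv2 D63183) (iv3 D29870) F39530
theorem F98889 : act 7 n63564 = n63177 := d4_2 (iv7 F48212) D63564 (iv2 D63177)
def n63565 : Q := act 4 n30012
theorem D63565 : act 4 n30012 = n63565 := rfl
theorem F98893 : act 7 n63565 = n63178 := d11_2 (iv7 F48212) D63565 (iv4 D63178)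
def n63566 : Q := act 6 n30012
theorem D63566 : act 6 n30012 = n63566 := rfl
theorem F98894 : act 3 n63566 = n30014 := d7_1 D63566 (iv6 D30014) D30012
theorem F98896 : act 7 n63566 = n63204 := d14_2 (iv7 F48212) D63566 (iv6 D63204) (iv7 F48246) F48245
def n63567 : Q := act 3 n30015
theorem D63567 : act 3 n30015 = n63567 := rfl
theorem F98897 : act 4 n63567 = n51085 := d5_2 (iv4 F48221) D63567 (iv3 D51085) (iv4 D24856) (iv3 F38909)
theorem F98898 : act 6 n63567 = n59337 := d7_2 F48224 D63567 (iv3 D59337)
theorem F98899 : act 7 n63567 = n63159 := d8_2 F48225 D63567 (iv3 D63159)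
def n63568 : Q := act 3 n30016
theorem D63568 : act 3 n30016 = n63568 := rfl
theorem F98900 : act 4 n63568 = n59360 := d5_2 F48228 D63568 F93633 F45596 (iv3 F45570)
theorem F98901 : act 7 n63568 = n59331 := d8_2 (iv7 F48227) D63568 (iv3 D59331)
def n63569 : Q := act 6 n30016
theorem D63569 : act 6 n30016 = n63569 := rfl
theorem F98902 : act 2 n63569 = n63160 := d3_1 D63569 (iv6 D63160) F48229
theorem F98903 : act 4 n63569 = n59333 := d10_1 D63569 (iv6 D59333) F48228
theorem F98904 : act 7 n63569 = n63187 := d14_2 (iv7 F48227) D63569 (iv6 D63187) F48020 F45612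
def n63570 : Q := act 4 n30017
theorem D63570 : act 4 n30017 = n63570 := rfl
theorem F98905 : act 2 n63570 = n49757 := d1_1 D63570 (iv4 F83890) F83889
theorem F98906 : act 7 n63570 = n49760 := d11_2 (iv7 F48230) D63570 F78619
theorem F98907 : act 5 n63570 = n30230 := d16_1 D63570 (iv4 D30230) (iv5 F40781) F40780 F38567 D25768 D53117 (iv7 F83891) F83889
def n63571 : Q := act 6 n30017
theorem D63571 : act 6 n30017 = n63571 := rfl
def n63572 : Q := act 0 n30018
theorem D63572 : act 0 n30018 = n63572 := rfl
def n63573 : Q := act 1 n30018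
theorem D63573 : act 1 n30018 = n63573 := rfl
def n63574 : Q := act 5 n30018
theorem D63574 : act 5 n30018 = n63574 := rfl
def n63575 : Q := act 7 n30018
theorem D63575 : act 7 n30018 = n63575 := rfl
theorem F98908 : act 4 n63575 = n30021 := d11_1 D63575 (iv7 D30021) (iv4 F48231)
theorem F98909 : act 6 n63575 = n63165 := d14_1 D63575 (iv7 D63165) (iv6 D29863) (iv7 F23777) D30018
def n63576 : Q := act 2 n30019
theorem D63576 : act 2 n30019 = n63576 := rfl
theorem F98910 : act 5 n63576 = n50688 := d2_2 (iv5 F80034) D63576 (iv2 D50688)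
theorem F98911 : act 7 n30020 = n63576 := d15_2 (iv0 D30019) D30020 (iv2 D63576)
def n63577 : Q := act 3 n30019
theorem D63577 : act 3 n30019 = n63577 := rfl
theorem F98912 : act 5 n63577 = n50689 := d6_2 (iv5 F80034) D63577 (iv3 D50689)
def n63578 : Q := act 4 n30019
theorem D63578 : act 4 n30019 = n63578 := rfl
def n63579 : Q := act 6 n30019
theorem D63579 : act 6 n30019 = n63579 := rfl
def n63580 : Q := act 7 n30019
theorem D63580 : act 7 n30019 = n63580 := rfl
theorem F98913 : act 2 n63580 = n30020 := d4_1 D63580 F98911 (iv2 D63576)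
theorem F98914 : act 5 n63580 = n50692 := d13_1 D63580 (iv7 D50692) (iv5 F80034)
def n63581 : Q := act 3 n30020
theorem D63581 : act 3 n30020 = n63581 := rfl
theorem F98915 : act 5 n63581 = n50693 := d6_2 (iv5 F83962) D63581 (iv3 D50693)
def n63582 : Q := act 4 n30020
theorem D63582 : act 4 n30020 = n63582 := rfl
def n63585 : Q := act 2 n30022
theorem D63585 : act 2 n30022 = n63585 := rfl
theorem F98917 : act 3 n63585 = n63202 := d0_2 D30022 D63585 (iv2 D63202) (iv3 D29879) F39525
theorem F98919 : act 7 n63585 = n63207 := d4_2 (iv7 F48236) D63585 (iv2 D63207)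
def n63586 : Q := act 4 n30022
theorem D63586 : act 4 n30022 = n63586 := rfl
theorem F98923 : act 7 n63586 = n63208 := d11_2 (iv7 F48236) D63586 (iv4 D63208)
def n63587 : Q := act 6 n30022
theorem D63587 : act 6 n30022 = n63587 := rfl
theorem F98924 : act 3 n63587 = n30024 := d7_1 D63587 (iv6 D30024) D30022
theorem F98925 : act 5 n63587 = n61472 := d12_1 D63587 F95973 F80074 (iv6 D50723) (iv5 F48235)
theorem F98926 : act 7 n63587 = n63185 := d14_2 (iv7 F48236) D63587 (iv6 D63185) (iv7 F48203) F48202
def n63588 : Q := act 0 n30025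
theorem D63588 : act 0 n30025 = n63588 := rfl
theorem F98927 : act 1 n63202 = n63588 := d15_0 (iv0 D63588) F48246 D63202
def n63589 : Q := act 1 n30025
theorem D63589 : act 1 n30025 = n63589 := rfl
def n63590 : Q := act 2 n30025
theorem D63590 : act 2 n30025 = n63590 := rfl
theorem F98928 : act 3 n63590 = n63207 := d0_2 D30025 D63590 (iv2 D63207) (iv3 D29882) (iv2 F39526)
theorem F98930 : act 6 n63590 = n63177 := d3_2 (iv6 F48245) D63590 (iv2 D63177)
theorem F98931 : act 7 n63590 = n63202 := d4_2 (iv7 F48246) D63590 (iv2 D63202)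
theorem F98933 : act 1 n63589 = n63202 := d15_1 D63589 (iv7 F98931) (iv2 D63590)
def n63591 : Q := act 4 n30025
theorem D63591 : act 4 n30025 = n63591 := rfl
theorem F98935 : act 6 n63591 = n63178 := d10_2 (iv6 F48245) D63591 (iv4 D63178)
theorem F98936 : act 7 n63591 = n63203 := d11_2 (iv7 F48246) D63591 (iv4 D63203)
def n63592 : Q := act 6 n30027
theorem D63592 : act 6 n30027 = n63592 := rfl
theorem F98937 : act 2 n63592 = n30045 := d3_1 D63592 (iv6 D30045) F48250
theorem F98938 : act 3 n63592 = n63209 := d7_1 D63592 (iv6 D63209) (iv3 F48251)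
theorem F98939 : act 7 n63592 = n63209 := d14_2 (iv7 F48252) D63592 (iv6 D63209) F48031 (iv6 F23792)
theorem F98940 : act 1 n63282 = n63592 := d15_1 D63282 F98939 F98459
theorem F98941 : act 1 n63592 = n63281 := d15_0 (iv0 D63281) (iv7 F48263) (iv2 F98937)
def n63593 : Q := act 0 n30028
theorem D63593 : act 0 n30028 = n63593 := rfl
theorem F98942 : act 1 n30033 = n63593 := d15_0 (iv0 D63593) (iv7 F48254) (iv2 F48255)
def n63594 : Q := act 1 n30028
theorem D63594 : act 1 n30028 = n63594 := rfl
def n63595 : Q := act 3 n30028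
theorem D63595 : act 3 n30028 = n63595 := rfl
theorem F98944 : act 7 n63595 = n30034 := d8_2 F48254 D63595 (iv3 D30034)
def n63596 : Q := act 4 n30028
theorem D63596 : act 4 n30028 = n63596 := rfl
theorem F98945 : act 2 n63596 = n30030 := d1_1 D63596 (iv4 D30030) D30028
theorem F98946 : act 7 n63596 = n30035 := d11_2 F48254 D63596 (iv4 D30035)
def n63597 : Q := act 5 n30028
theorem D63597 : act 5 n30028 = n63597 := rfl
theorem F98947 : act 2 n63597 = n30031 := d2_1 D63597 (iv5 D30031) D30028
theorem F98948 : act 7 n63597 = n30036 := d13_2 F48254 D63597 (iv5 D30036)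
def n63598 : Q := act 6 n30028
theorem D63598 : act 6 n30028 = n63598 := rfl
theorem F98949 : act 2 n63598 = n30032 := d3_1 D63598 (iv6 D30032) D30028
def n63599 : Q := act 0 n30029
theorem D63599 : act 0 n30029 = n63599 := rfl
def n63600 : Q := act 1 n30029
theorem D63600 : act 1 n30029 = n63600 := rfl
theorem F98950 : act 3 n63238 = n63600 := d20_9 F95259 (iv1 F95258) F46425 F23040 (iv1 F10819) D14019 D29493 D62350 (iv4 F98482) (iv1 D63600)
def n63601 : Q := act 2 n30029
theorem D63601 : act 2 n30029 = n63601 := rfl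
def n63602 : Q := act 5 n30029
theorem D63602 : act 5 n30029 = n63602 := rfl
theorem F98951 : act 3 n63602 = n30031 := d6_1 D63602 (iv5 D30031) D30029
def n63603 : Q := act 6 n30029
theorem D63603 : act 6 n30029 = n63603 := rfl
theorem F98952 : act 3 n63603 = n30032 := d7_1 D63603 (iv6 D30032) D30029
def n63604 : Q := act 7 n30029
theorem D63604 : act 7 n30029 = n63604 := rfl
theorem F98953 : act 3 n63604 = n30033 := d8_1 D63604 (iv7 D30033) D30029
def n63605 : Q := act 0 n30030
theorem D63605 : act 0 n30030 = n63605 := rfl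
theorem F98954 : act 4 n63605 = n62343 := d20_2 D30030 D63605 (iv3 D62343) (iv1 D29491) (iv3 D14019) F10821 (iv1 D3070) D3071 D6785 D14254
def n63606 : Q := act 1 n30030
theorem D63606 : act 1 n30030 = n63606 := rfl
theorem F98955 : act 1 n63606 = n30035 := d15_1 D63606 (iv7 F98946) F98945
def n63607 : Q := act 3 n30030
theorem D63607 : act 3 n30030 = n63607 := rfl
def n63608 : Q := act 5 n30030
theorem D63608 : act 5 n30030 = n63608 := rfl
def n63609 : Q := act 6 n30030
theorem D63609 : act 6 n30030 = n63609 := rfl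
theorem F98956 : act 4 n63609 = n30032 := d10_1 D63609 (iv6 D30032) D30030
def n63610 : Q := act 7 n30030
theorem D63610 : act 7 n30030 = n63610 := rfl
theorem F98957 : act 2 n63610 = n30035 := d4_1 D63610 (iv7 F98946) F98945
theorem F98958 : act 4 n63610 = n30033 := d11_1 D63610 (iv7 D30033) D30030
theorem F98959 : act 1 n30035 = n63605 := d15_0 (iv0 D63605) D63610 F98957
def n63611 : Q := act 0 n30031
theorem D63611 : act 0 n30031 = n63611 := rfl
def n63612 : Q := act 1 n30031
theorem D63612 : act 1 n30031 = n63612 := rfl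
def n63613 : Q := act 4 n30031
theorem D63613 : act 4 n30031 = n63613 := rfl
def n63614 : Q := act 6 n30031
theorem D63614 : act 6 n30031 = n63614 := rfl
def n63615 : Q := act 7 n30031
theorem D63615 : act 7 n30031 = n63615 := rfl
theorem F98961 : act 2 n63615 = n30036 := d4_1 D63615 (iv7 F98948) F98947
theorem F98962 : act 5 n63615 = n30033 := d13_1 D63615 (iv7 D30033) D30031
theorem F98963 : act 1 n30036 = n63611 := d15_0 (iv0 D63611) D63615 F98961
def n63616 : Q := act 0 n30032
theorem D63616 : act 0 n30032 = n63616 := rfl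
def n63617 : Q := act 1 n30032
theorem D63617 : act 1 n30032 = n63617 := rfl
def n63618 : Q := act 5 n30032
theorem D63618 : act 5 n30032 = n63618 := rfl
def n63619 : Q := act 7 n30032
theorem D63619 : act 7 n30032 = n63619 := rfl
def n63620 : Q := act 6 n30033
theorem D63620 : act 6 n30033 = n63620 := rfl
theorem F98964 : act 2 n63620 = n30037 := d3_1 D63620 (iv6 D30037) (iv2 F48255)
def n63621 : Q := act 0 n30034
theorem D63621 : act 0 n30034 = n63621 := rfl
theorem F98965 : act 4 n63621 = n61095 := d20_0 (iv1 F97167) (iv4 D62315) F47274 (iv1 F47298) D62343 (iv4 F98954) (iv1 F98959) (iv4 D30035) D30034 D63621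
theorem F98966 : act 2 n62268 = n63621 := d1_3 F98965 (iv2 F97181) (iv4 F97178)
theorem F98967 : act 3 n63621 = n63217 := d20_3 D28950 D61095 (iv4 F98965) (iv1 D63217) (iv3 D29886) D29887 D63222 F98471 (iv3 D61088) (iv1 D28948)
theorem F98968 : act 2 n63217 = n60925 := d0_1 F98967 (iv3 D60925) (iv2 F95471) D62268 F98966
theorem F98969 : act 1 n30034 = n60922 := d15_1 (iv0 D63621) (iv7 F97079) F98966
def n63622 : Q := act 2 n30034
theorem D63622 : act 2 n30034 = n63622 := rfl
def n63623 : Q := act 4 n30034
theorem D63623 : act 4 n30034 = n63623 := rfl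
theorem F98970 : act 0 n62307 = n63623 := d20_1 D62307 (iv4 D63623) (iv3 D30034) (iv1 D14255) (iv3 D6785) (iv4 D3071) D3069 (iv4 F10815) D14016 D29479
def n63624 : Q := act 5 n30034
theorem D63624 : act 5 n30034 = n63624 := rfl
theorem F98971 : act 3 n63624 = n30036 := d6_1 D63624 (iv5 D30036) D30034
def n63625 : Q := act 6 n30034
theorem D63625 : act 6 n30034 = n63625 := rfl
theorem F98972 : act 3 n63625 = n30037 := d7_1 D63625 (iv6 D30037) D30034
def n63626 : Q := act 3 n30035
theorem D63626 : act 3 n30035 = n63626 := rfl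
def n63627 : Q := act 5 n30035
theorem D63627 : act 5 n30035 = n63627 := rfl
def n63628 : Q := act 6 n30035
theorem D63628 : act 6 n30035 = n63628 := rfl
theorem F98973 : act 4 n63628 = n30037 := d10_1 D63628 (iv6 D30037) D30035
def n63629 : Q := act 4 n30036
theorem D63629 : act 4 n30036 = n63629 := rfl
def n63630 : Q := act 6 n30036
theorem D63630 : act 6 n30036 = n63630 := rfl
def n63631 : Q := act 0 n30037
theorem D63631 : act 0 n30037 = n63631 := rfl
def n63632 : Q := act 1 n30037
theorem D63632 : act 1 n30037 = n63632 := rfl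
def n63633 : Q := act 5 n30037
theorem D63633 : act 5 n30037 = n63633 := rfl
def n63634 : Q := act 7 n30037
theorem D63634 : act 7 n30037 = n63634 := rfl
def n63635 : Q := act 2 n30038
theorem D63635 : act 2 n30038 = n63635 := rfl
theorem F98974 : act 7 n30039 = n63635 := d15_2 (iv0 D30038) D30039 (iv2 D63635)
def n63636 : Q := act 3 n30038
theorem D63636 : act 3 n30038 = n63636 := rfl
def n63637 : Q := act 4 n30038
theorem D63637 : act 4 n30038 = n63637 := rfl
def n63644 : Q := act 4 n30040
theorem D63644 : act 4 n30040 = n63644 := rfl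
theorem F98976 : act 2 n63644 = n30043 := d1_1 D63644 (iv4 D30043) (iv2 F48258)
def n63645 : Q := act 6 n30040
theorem D63645 : act 6 n30040 = n63645 := rfl
theorem F98977 : act 2 n63645 = n30044 := d3_1 D63645 (iv6 D30044) (iv2 F48258)
theorem F98978 : act 3 n63645 = n63263 := d7_1 D63645 (iv6 D63263) (iv3 F48259)
theorem F98979 : act 5 n63645 = n63263 := d12_1 D63645 (iv6 D63263) (iv5 D29897) (iv6 F23792) D30040
def n63646 : Q := act 2 n30041
theorem D63646 : act 2 n30041 = n63646 := rfl
theorem F98980 : act 7 n30042 = n63646 := d15_2 (iv0 D30041) D30042 (iv2 D63646)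
def n63647 : Q := act 3 n30041
theorem D63647 : act 3 n30041 = n63647 := rfl
theorem F98981 : act 4 n63647 = n62827 := d20_6 F23402 (iv1 F11738) F11735 (iv3 F23793) D30041 D63647 (iv1 D62827) F47805 (iv3 D14140) (iv1 F23399)
def n63648 : Q := act 4 n30041
theorem D63648 : act 4 n30041 = n63648 := rfl
def n63649 : Q := act 5 n30041
theorem D63649 : act 5 n30041 = n63649 := rfl
def n63650 : Q := act 6 n30041
theorem D63650 : act 6 n30041 = n63650 := rfl
def n63651 : Q := act 7 n30041
theorem D63651 : act 7 n30041 = n63651 := rfl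
theorem F98982 : act 2 n63651 = n30042 := d4_1 D63651 F98980 (iv2 D63646)
def n63652 : Q := act 3 n30042
theorem D63652 : act 3 n30042 = n63652 := rfl
def n63653 : Q := act 4 n30042
theorem D63653 : act 4 n30042 = n63653 := rfl
def n63654 : Q := act 5 n30042
theorem D63654 : act 5 n30042 = n63654 := rfl
def n63655 : Q := act 6 n30042
theorem D63655 : act 6 n30042 = n63655 := rfl
def n63656 : Q := act 0 n30043
theorem D63656 : act 0 n30043 = n63656 := rfl
def n63657 : Q := act 1 n30043
theorem D63657 : act 1 n30043 = n63657 := rfl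
theorem F98983 : act 4 n61784 = n63657 := d20_6 F22997 (iv1 D6612) D6613 D13917 D29285 D61784 (iv1 D63657) (iv4 D30043) F23793 (iv1 F22999)
def n63658 : Q := act 5 n30043
theorem D63658 : act 5 n30043 = n63658 := rfl
def n63659 : Q := act 6 n30043
theorem D63659 : act 6 n30043 = n63659 := rfl
theorem F98984 : act 4 n63659 = n30044 := d10_1 D63659 (iv6 D30044) D30043
def n63660 : Q := act 0 n30044
theorem D63660 : act 0 n30044 = n63660 := rfl
def n63661 : Q := act 1 n30044
theorem D63661 : act 1 n30044 = n63661 := rfl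
def n63662 : Q := act 7 n30044
theorem D63662 : act 7 n30044 = n63662 := rfl
theorem F98985 : act 3 n63662 = n30048 := d8_1 D63662 (iv7 D30048) (iv3 F48260)
theorem F98986 : act 5 n63662 = n63280 := d13_1 D63662 (iv7 D63280) (iv5 F48261)
def n63663 : Q := act 0 n30045
theorem D63663 : act 0 n30045 = n63663 := rfl
theorem F98987 : act 1 n63209 = n63663 := d15_0 (iv0 D63663) F48263 (iv2 F98459)
def n63664 : Q := act 1 n30045
theorem D63664 : act 1 n30045 = n63664 := rfl
theorem F98988 : act 1 n63664 = n63209 := d15_1 D63664 (iv7 F98939) F98937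
def n63666 : Q := act 2 n30046
theorem D63666 : act 2 n30046 = n63666 := rfl
theorem F98991 : act 7 n30047 = n63666 := d15_2 (iv0 D30046) D30047 (iv2 D63666)
def n63667 : Q := act 3 n30046
theorem D63667 : act 3 n30046 = n63667 := rfl
def n63668 : Q := act 4 n30046
theorem D63668 : act 4 n30046 = n63668 := rfl
def n63669 : Q := act 5 n30046
theorem D63669 : act 5 n30046 = n63669 := rfl
def n63670 : Q := act 6 n30046
theorem D63670 : act 6 n30046 = n63670 := rfl
def n63671 : Q := act 7 n30046
theorem D63671 : act 7 n30046 = n63671 := rfl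
theorem F98992 : act 2 n63671 = n30047 := d4_1 D63671 F98991 (iv2 D63666)
def n63672 : Q := act 3 n30047
theorem D63672 : act 3 n30047 = n63672 := rfl
def n63673 : Q := act 4 n30047
theorem D63673 : act 4 n30047 = n63673 := rfl
def n63674 : Q := act 5 n30047
theorem D63674 : act 5 n30047 = n63674 := rfl
def n63675 : Q := act 6 n30047
theorem D63675 : act 6 n30047 = n63675 := rfl
def n63676 : Q := act 0 n30050
theorem D63676 : act 0 n30050 = n63676 := rfl
theorem F98993 : act 5 n63676 = n61234 := d17_3 (iv1 F98511) D30050 D63676 (iv4 D61234) (iv5 D28989) (iv0 D13799) F10621 F23048 D28988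
theorem F98994 : act 1 n30050 = n63676 := d15_0 (iv0 D63676) F48272 (iv2 F48271)
def n63677 : Q := act 4 n30050
theorem D63677 : act 4 n30050 = n63677 := rfl
theorem F98998 : act 6 n63677 = n56609 := d10_2 F52389 D63677 F89537
def n63678 : Q := act 0 n30052
theorem D63678 : act 0 n30052 = n63678 := rfl
theorem F99001 : act 1 n63303 = n63678 := d15_0 (iv0 D63678) (iv7 F49072) D63303
def n63679 : Q := act 1 n30052
theorem D63679 : act 1 n30052 = n63679 := rfl
def n63680 : Q := act 2 n30052
theorem D63680 : act 2 n30052 = n63680 := rfl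
theorem F99002 : act 3 n63680 = n63303 := d0_2 D30052 D63680 (iv2 D63303) (iv3 D29909) (iv2 F49069)
theorem F99003 : act 7 n63680 = n63303 := d4_2 F49072 D63680 (iv2 D63303)
theorem F99004 : act 1 n63680 = n63301 := d15_0 (iv0 D63301) F49072 D63680
theorem F99006 : act 1 n63302 = n63680 := d15_1 D63302 F99003 (iv2 D63303)
def n63681 : Q := act 4 n30052
theorem D63681 : act 4 n30052 = n63681 := rfl
theorem F99007 : act 7 n63681 = n63304 := d11_2 F49072 D63681 (iv4 D63304)
def n63682 : Q := act 5 n30052
theorem D63682 : act 5 n30052 = n63682 := rfl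
theorem F99008 : act 3 n63682 = n30054 := d6_1 D63682 (iv5 D30054) D30052
theorem F99009 : act 6 n63682 = n62528 := d12_2 (iv6 F49441) D63682 F97496 (iv6 D31033) D31032
theorem F99010 : act 7 n63682 = n63305 := d13_2 F49072 D63682 (iv5 D63305)
def n63683 : Q := act 4 n30054
theorem D63683 : act 4 n30054 = n63683 := rfl
theorem F99011 : act 2 n63683 = n63309 := d1_1 D63683 (iv4 D63309) (iv2 F49076)
theorem F99012 : act 6 n63683 = n62062 := d10_2 (iv6 F48274) D63683 F96719
theorem F99013 : act 7 n63683 = n63309 := d11_2 F49074 D63683 (iv4 D63309)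
theorem F99014 : act 5 n63683 = n62478 := d17_5 (iv1 F23800) F11049 D14261 D30054 D63683 (iv0 D62478) (iv5 D29528) F47353 (iv4 F98841)
theorem F99015 : act 0 n63683 = n62109 := d18_2 F48276 D63683 F96805 F47110 (iv4 F95380) F98524 (iv4 D63309) (iv0 F48044) (iv5 F47441)
theorem F99016 : act 1 n63683 = n62109 := d18_6 (iv1 F23410) (iv4 F23408) D29527 (iv4 F98841) D30054 D63683 F96805 (iv0 F47358) (iv5 D29532)
theorem F99017 : act 2 n62478 = n61224 := d2_1 F99014 F98518 (iv2 F99011)
theorem F99018 : act 7 n62478 = n61224 := d13_2 (iv7 F99013) F99014 F98518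
def n63684 : Q := act 6 n30055
theorem D63684 : act 6 n30055 = n63684 := rfl
theorem F99019 : act 2 n63684 = n62491 := d3_1 D63684 (iv6 D62491) F48279
theorem F99020 : act 3 n63684 = n49419 := d7_1 D63684 F78152 F48282
theorem F99021 : act 4 n63684 = n60707 := d10_1 D63684 (iv6 D60707) (iv4 F48278)
theorem F99022 : act 5 n63684 = n49414 := d12_1 D63684 (iv6 D49414) (iv5 D24117) D24118 (iv5 F48277)
def n63685 : Q := act 3 n30056
theorem D63685 : act 3 n30056 = n63685 := rfl
theorem F99023 : act 4 n63685 = n63328 := d5_2 D30056 D63685 (iv3 D63328) (iv4 D29920) (iv3 F23801)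
theorem F99024 : act 7 n63685 = n63414 := d8_2 (iv7 F48283) D63685 (iv3 D63414)
def n63686 : Q := act 6 n30056
theorem D63686 : act 6 n30056 = n63686 := rfl
theorem F99025 : act 4 n63686 = n30057 := d10_1 D63686 (iv6 D30057) D30056
def n63687 : Q := act 0 n30057
theorem D63687 : act 0 n30057 = n63687 := rfl
theorem F99026 : act 5 n63687 = n52228 := d21_0 (iv1 D52228) D52229 F82586 F40116 F20237 (iv5 D6791) D6789 D14262 D30057 D63687
def n63688 : Q := act 1 n30057
theorem D63688 : act 1 n30057 = n63688 := rfl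
theorem F99027 : act 5 n52227 = n63688 := d21_0 (iv1 D63688) F48287 (iv6 D25008) F23805 F19964 (iv5 D5712) D5710 D12053 D25368 D52227
def n63689 : Q := act 7 n30057
theorem D63689 : act 7 n30057 = n63689 := rfl
theorem F99028 : act 3 n63689 = n51473 := d8_1 D63689 (iv7 D51473) (iv3 F48286)
theorem F99029 : act 5 n63689 = n51454 := d13_1 D63689 (iv7 D51454) (iv5 F48287)
theorem F99030 : act 6 n63689 = n63418 := d14_1 D63689 (iv7 D63418) (iv6 D29960) (iv7 F23802) D30057
def n63690 : Q := act 3 n30058
theorem D63690 : act 3 n30058 = n63690 := rfl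
theorem F99031 : act 4 n63690 = n49288 := d5_2 D30058 D63690 (iv3 D49288) (iv4 D24056) (iv3 F23807)
def n63691 : Q := act 6 n30058
theorem D63691 : act 6 n30058 = n63691 := rfl
theorem F99032 : act 2 n63691 = n63415 := d3_1 D63691 (iv6 D63415) (iv2 F48288)
theorem F99033 : act 4 n63691 = n30059 := d10_1 D63691 (iv6 D30059) D30058
theorem F99034 : act 0 n63691 = n62131 := d20_1 (iv4 F99033) (iv4 D62131) D62130 (iv1 F96850) F95174 (iv4 F95182) (iv1 F96434) F96432 (iv3 F98328) F98331
def n63692 : Q := act 7 n30059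
theorem D63692 : act 7 n30059 = n63692 := rfl
theorem F99035 : act 2 n63692 = n63418 := d4_1 D63692 (iv7 D63418) (iv2 F48291)
theorem F99036 : act 3 n63692 = n49292 := d8_1 D63692 (iv7 D49292) (iv3 F48292)
theorem F99037 : act 1 n53253 = n63692 := d15_1 (iv0 F84102) (iv7 D63692) F48291
theorem F99038 : act 1 n63692 = n63416 := d15_1 F99037 F98738 F98327
def n63693 : Q := act 0 n30061
theorem D63693 : act 0 n30061 = n63693 := rfl
def n63694 : Q := act 1 n30061
theorem D63694 : act 1 n30061 = n63694 := rfl
def n63695 : Q := act 7 n30061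
theorem D63695 : act 7 n30061 = n63695 := rfl
theorem F99039 : act 3 n63695 = n63338 := d8_1 D63695 (iv7 D63338) (iv3 F48297)
theorem F99040 : act 6 n63695 = n63461 := d14_1 D63695 (iv7 D63461) (iv6 D29977) (iv7 F36885) D30061
def n63696 : Q := act 0 n30062
theorem D63696 : act 0 n30062 = n63696 := rfl
def n63697 : Q := act 1 n30062
theorem D63697 : act 1 n30062 = n63697 := rfl
theorem F99041 : act 1 n63697 = n63461 := d15_1 D63697 (iv7 D63461) (iv2 F48298)
def n63698 : Q := act 7 n30062
theorem D63698 : act 7 n30062 = n63698 := rfl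
theorem F99042 : act 2 n63698 = n63461 := d4_1 D63698 (iv7 D63461) (iv2 F48298)
theorem F99043 : act 3 n63698 = n49363 := d8_1 D63698 (iv7 D49363) (iv3 F48299)
theorem F99044 : act 1 n63461 = n63696 := d15_0 (iv0 D63696) D63698 F99042
theorem F99045 : act 1 n63460 = n63698 := d15_1 D63460 (iv7 D63698) F48298
theorem F99046 : act 1 n63698 = n63459 := d15_0 (iv0 D63459) D63461 (iv2 F99042)
def n63699 : Q := act 0 n30064
theorem D63699 : act 0 n30064 = n63699 := rfl
theorem F99047 : act 1 n30211 = n63699 := d15_0 (iv0 D63699) (iv7 F83836) F83833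
def n63700 : Q := act 1 n30064
theorem D63700 : act 1 n30064 = n63700 := rfl
theorem F99048 : act 1 n63700 = n30211 := d15_1 D63700 F48599 F48325
def n63701 : Q := act 3 n30065
theorem D63701 : act 3 n30065 = n63701 := rfl
theorem F99049 : act 4 n63701 = n49187 := d5_2 D30065 D63701 (iv3 D49187) (iv4 D24001) (iv3 F23816)
theorem F99050 : act 5 n63701 = n59356 := d6_2 F93723 D63701 F93729
theorem F99051 : act 7 n63701 = n63690 := d8_2 (iv7 F48309) D63701 (iv3 D63690)
def n63702 : Q := act 6 n30065
theorem D63702 : act 6 n30065 = n63702 := rfl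
theorem F99052 : act 2 n63702 = n63686 := d3_1 D63702 (iv6 D63686) (iv2 F48308)
theorem F99053 : act 4 n63702 = n30066 := d10_1 D63702 (iv6 D30066) D30065
def n63703 : Q := act 0 n30066
theorem D63703 : act 0 n30066 = n63703 := rfl
def n63704 : Q := act 1 n30066
theorem D63704 : act 1 n30066 = n63704 := rfl
theorem F99054 : act 1 n63704 = n63689 := d15_1 D63704 (iv7 D63689) (iv2 F48312)
def n63705 : Q := act 7 n30066
theorem D63705 : act 7 n30066 = n63705 := rfl
theorem F99055 : act 2 n63705 = n63689 := d4_1 D63705 (iv7 D63689) (iv2 F48312)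
theorem F99056 : act 3 n63705 = n49191 := d8_1 D63705 (iv7 D49191) (iv3 F48313)
theorem F99057 : act 5 n63705 = n52339 := d13_1 D63705 (iv7 D52339) (iv5 F48314)
theorem F99058 : act 6 n63705 = n63692 := d14_1 D63705 (iv7 D63692) (iv6 D30059) (iv7 F23817) D30066
theorem F99059 : act 1 n63689 = n63703 := d15_0 (iv0 D63703) D63705 F99055
theorem F99060 : act 1 n63688 = n63705 := d15_1 D63688 (iv7 D63705) F48312
theorem F99061 : act 5 n63078 = n51452 := d21_0 (iv1 F82726) (iv5 F99057) F99058 (iv1 F99037) F84101 (iv5 F78203) F78204 (iv5 F38385) D29835 D63078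
theorem F99062 : act 1 n63705 = n63687 := d15_0 (iv0 D63687) D63689 (iv2 F99055)
def n63706 : Q := act 0 n30068
theorem D63706 : act 0 n30068 = n63706 := rfl
def n63707 : Q := act 1 n30068
theorem D63707 : act 1 n30068 = n63707 := rfl
theorem F99063 : act 1 n63707 = n63695 := d15_1 D63707 (iv7 D63695) (iv2 F48321)
def n63708 : Q := act 7 n30068
theorem D63708 : act 7 n30068 = n63708 := rfl
theorem F99064 : act 2 n63708 = n63695 := d4_1 D63708 (iv7 D63695) (iv2 F48321)
theorem F99065 : act 3 n63708 = n49338 := d8_1 D63708 (iv7 D49338) (iv3 F48322)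
theorem F99066 : act 6 n63708 = n63698 := d14_1 D63708 (iv7 D63698) (iv6 D30062) (iv7 F36904) D30068
theorem F99067 : act 1 n63695 = n63706 := d15_0 (iv0 D63706) D63708 F99064
theorem F99068 : act 1 n63694 = n63708 := d15_1 D63694 (iv7 D63708) F48321
theorem F99069 : act 1 n63708 = n63693 := d15_0 (iv0 D63693) D63695 (iv2 F99064)
def n63709 : Q := act 0 n30069
theorem D63709 : act 0 n30069 = n63709 := rfl
def n63710 : Q := act 1 n30069
theorem D63710 : act 1 n30069 = n63710 := rfl
def n63711 : Q := act 2 n30069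
theorem D63711 : act 2 n30069 = n63711 := rfl
theorem F99070 : act 3 n63711 = n30070 := d0_2 D30069 D63711 F48323 (iv3 D30063) (iv2 F23823)
theorem F99071 : act 5 n30069 = n63711 := d6_0 F99070 (iv5 D30070) D30069
def n63712 : Q := act 6 n30070
theorem D63712 : act 6 n30070 = n63712 := rfl
theorem F99072 : act 2 n63712 = n53109 := d3_1 D63712 F83828 (iv2 F48323)
theorem F99073 : act 4 n63712 = n53130 := d10_1 D63712 F83858 F48353
def n63713 : Q := act 0 n30071
theorem D63713 : act 0 n30071 = n63713 := rfl
theorem F99074 : act 1 n53111 = n63713 := d15_0 (iv0 D63713) (iv7 F48599) (iv2 F83833)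
def n63714 : Q := act 1 n30071
theorem D63714 : act 1 n30071 = n63714 := rfl
theorem F99075 : act 1 n63714 = n53111 := d15_1 D63714 F83836 (iv2 F48325)
def n63715 : Q := act 0 n30072
theorem D63715 : act 0 n30072 = n63715 := rfl
def n63716 : Q := act 1 n30072
theorem D63716 : act 1 n30072 = n63716 := rfl
def n63717 : Q := act 2 n30072
theorem D63717 : act 2 n30072 = n63717 := rfl
theorem F99076 : act 3 n63717 = n62508 := d0_2 D30072 D63717 (iv2 D62508) (iv3 D29541) (iv2 F23830)
def n63718 : Q := act 5 n30072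
theorem D63718 : act 5 n30072 = n63718 := rfl
theorem F99077 : act 3 n63718 = n30073 := d6_1 D63718 (iv5 D30073) D30072
def n63719 : Q := act 6 n30072
theorem D63719 : act 6 n30072 = n63719 := rfl
theorem F99078 : act 3 n63719 = n30074 := d7_1 D63719 (iv6 D30074) D30072
def n63720 : Q := act 6 n30073
theorem D63720 : act 6 n30073 = n63720 := rfl
theorem F99079 : act 2 n63720 = n62511 := d3_1 D63720 (iv6 D62511) (iv2 F48327)
theorem F99080 : act 4 n63720 = n62126 := d10_1 D63720 (iv6 D62126) (iv4 F48328)
def n63721 : Q := act 0 n30074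
theorem D63721 : act 0 n30074 = n63721 := rfl
def n63722 : Q := act 1 n30074
theorem D63722 : act 1 n30074 = n63722 := rfl
theorem F99081 : act 1 n63722 = n62515 := d15_1 D63722 (iv7 D62515) (iv2 F48329)
def n63723 : Q := act 5 n30074
theorem D63723 : act 5 n30074 = n63723 := rfl
theorem F99082 : act 2 n63723 = n62514 := d2_1 D63723 (iv5 D62514) (iv2 F48329)
def n63724 : Q := act 7 n30074
theorem D63724 : act 7 n30074 = n63724 := rfl
theorem F99083 : act 2 n63724 = n62515 := d4_1 D63724 (iv7 D62515) (iv2 F48329)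
theorem F99084 : act 4 n63724 = n30077 := d11_1 D63724 (iv7 D30077) (iv4 F48330)
theorem F99085 : act 1 n62515 = n63721 := d15_0 (iv0 D63721) D63724 F99083
theorem F99086 : act 1 n62513 = n63724 := d15_1 D62513 (iv7 D63724) F48329
theorem F99087 : act 4 n62048 = n63721 := d20_6 D29054 F80101 F23297 (iv3 F23273) D29379 D62048 (iv1 F99085) F97480 F47394 (iv1 F23434)
theorem F99088 : act 1 n63724 = n62512 := d15_0 (iv0 D62512) D62515 (iv2 F99083)
def n63725 : Q := act 2 n30075
theorem D63725 : act 2 n30075 = n63725 := rfl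
theorem F99089 : act 5 n63725 = n50464 := d2_2 (iv5 F48331) D63725 F79832
theorem F99090 : act 7 n30076 = n63725 := d15_2 (iv0 D30075) D30076 (iv2 D63725)
def n63726 : Q := act 3 n30075
theorem D63726 : act 3 n30075 = n63726 := rfl
theorem F99091 : act 5 n63726 = n50465 := d6_2 (iv5 F48331) D63726 (iv3 D50465)
def n63727 : Q := act 4 n30075
theorem D63727 : act 4 n30075 = n63727 := rfl
def n63728 : Q := act 7 n30075
theorem D63728 : act 7 n30075 = n63728 := rfl
theorem F99092 : act 2 n63728 = n30076 := d4_1 D63728 F99090 (iv2 D63725)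
theorem F99093 : act 5 n63728 = n50461 := d13_1 D63728 (iv7 F79831) (iv5 F48331)
def n63729 : Q := act 3 n30076
theorem D63729 : act 3 n30076 = n63729 := rfl
theorem F99094 : act 5 n63729 = n50462 := d6_2 F48333 D63729 (iv3 D50462)
theorem F99095 : act 4 n63729 = n60718 := d20_6 D28844 F79874 F47425 (iv3 F47394) (iv1 F48332) D63729 (iv1 D60718) F46449 F22980 D13747
def n63730 : Q := act 4 n30076
theorem D63730 : act 4 n30076 = n63730 := rfl
def n63731 : Q := act 6 n30076
theorem D63731 : act 6 n30076 = n63731 := rfl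
def n63732 : Q := act 0 n30078
theorem D63732 : act 0 n30078 = n63732 := rfl
def n63733 : Q := act 1 n30078
theorem D63733 : act 1 n30078 = n63733 := rfl
def n63734 : Q := act 2 n30078
theorem D63734 : act 2 n30078 = n63734 := rfl
theorem F99096 : act 3 n63734 = n62315 := d0_2 D30078 D63734 F97163 F47279 (iv2 F23832)
def n63735 : Q := act 5 n30078
theorem D63735 : act 5 n30078 = n63735 := rfl
theorem F99097 : act 3 n63735 = n30079 := d6_1 D63735 (iv5 D30079) D30078
def n63736 : Q := act 6 n30078
theorem D63736 : act 6 n30078 = n63736 := rfl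
theorem F99098 : act 3 n63736 = n30080 := d7_1 D63736 (iv6 D30080) D30078
def n63737 : Q := act 6 n30079
theorem D63737 : act 6 n30079 = n63737 := rfl
theorem F99099 : act 2 n63737 = n63542 := d3_1 D63737 (iv6 D63542) (iv2 F48339)
theorem F99100 : act 4 n63737 = n62256 := d10_1 D63737 (iv6 D62256) (iv4 F48340)
def n63738 : Q := act 0 n30080
theorem D63738 : act 0 n30080 = n63738 := rfl
def n63739 : Q := act 1 n30080
theorem D63739 : act 1 n30080 = n63739 := rfl
theorem F99101 : act 1 n63739 = n63546 := d15_1 D63739 (iv7 D63546) (iv2 F48341)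
def n63740 : Q := act 5 n30080
theorem D63740 : act 5 n30080 = n63740 := rfl
theorem F99102 : act 2 n63740 = n63545 := d2_1 D63740 (iv5 D63545) (iv2 F48341)
def n63741 : Q := act 7 n30080
theorem D63741 : act 7 n30080 = n63741 := rfl
theorem F99103 : act 2 n63741 = n63546 := d4_1 D63741 (iv7 D63546) (iv2 F48341)
theorem F99104 : act 4 n63741 = n30084 := d11_1 D63741 (iv7 D30084) (iv4 F48342)
theorem F99105 : act 1 n63546 = n63738 := d15_0 (iv0 D63738) D63741 F99103
theorem F99106 : act 1 n63544 = n63741 := d15_1 D63544 (iv7 D63741) F48341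
theorem F99107 : act 4 n62194 = n63738 := d20_6 (iv4 F49748) (iv1 D29448) F23348 (iv3 F23342) D29438 D62194 (iv1 F99105) F98864 F48200 (iv1 F23775)
theorem F99108 : act 1 n63741 = n63543 := d15_0 (iv0 D63543) D63546 (iv2 F99103)
def n63742 : Q := act 2 n30081
theorem D63742 : act 2 n30081 = n63742 := rfl
theorem F99109 : act 6 n63742 = n63580 := d3_2 F83963 D63742 F98913
theorem F99110 : act 7 n30082 = n63742 := d15_2 (iv0 D30081) D30082 (iv2 D63742)
def n63743 : Q := act 3 n30081
theorem D63743 : act 3 n30081 = n63743 := rfl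
theorem F99111 : act 6 n63743 = n63581 := d7_2 F83963 D63743 (iv3 D63581)
def n63744 : Q := act 4 n30081
theorem D63744 : act 4 n30081 = n63744 := rfl
theorem F99112 : act 6 n63744 = n63582 := d10_2 F83963 D63744 (iv4 D63582)
def n63745 : Q := act 5 n30081
theorem D63745 : act 5 n30081 = n63745 := rfl
def n63746 : Q := act 7 n30081
theorem D63746 : act 7 n30081 = n63746 := rfl
theorem F99113 : act 2 n63746 = n30082 := d4_1 D63746 F99110 (iv2 D63742)
def n63747 : Q := act 3 n30082
theorem D63747 : act 3 n30082 = n63747 := rfl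
theorem F99114 : act 4 n63747 = n60908 := d20_6 D28904 F53621 F47289 (iv3 F48200) (iv1 F48343) D63747 (iv1 D60908) F46530 F23022 D13772
def n63748 : Q := act 4 n30082
theorem D63748 : act 4 n30082 = n63748 := rfl
def n63749 : Q := act 6 n30082
theorem D63749 : act 6 n30082 = n63749 := rfl
theorem F99115 : act 5 n63749 = n62656 := d12_1 D63749 F97748 (iv5 D30509) D30510 F48900
theorem F99116 : act 7 n63749 = n63579 := d14_2 (iv7 F99110) D63749 (iv6 D63579) D63580 (iv6 F99109)
theorem F99117 : act 0 n63749 = n30404 := d21_1 (iv5 F99115) (iv5 D30404) (iv6 F81362) (iv1 D30244) (iv6 D14353) (iv5 F18509) F19051 D14072 (iv6 F47588) D62656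
def n63750 : Q := act 1 n30083
theorem D63750 : act 1 n30083 = n63750 := rfl
theorem F99118 : act 1 n63750 = n30228 := d15_1 D63750 F48903 (iv2 F48344)
theorem F99119 : act 7 n63750 = n30137 := d15_2 (iv0 F48346) D63750 F48444
theorem F99120 : act 6 n30224 = n63750 := d21_3 (iv5 F84129) (iv1 F83985) F83981 (iv1 D63750) F48345 (iv5 F24090) (iv1 F24093) (iv5 D6908) D6909 D14453
theorem F99121 : act 5 n61303 = n63750 := d21_6 F11075 (iv1 F22494) D6584 D13844 D29082 (iv6 F95787) (iv1 D63750) (iv5 D30083) (iv6 D14280) (iv1 F11078)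
theorem F99122 : act 2 n63750 = n30229 := d2_1 F99121 (iv5 F97693) F97692
def n63751 : Q := act 4 n30083
theorem D63751 : act 4 n30083 = n63751 := rfl
theorem F99123 : act 2 n63751 = n30301 := d1_1 D63751 F48732 (iv2 F48344)
theorem F99124 : act 6 n63751 = n30148 := d10_2 (iv6 F48345) D63751 (iv4 D30148)
def n63752 : Q := act 7 n30083
theorem D63752 : act 7 n30083 = n63752 := rfl
theorem F99125 : act 2 n63752 = n30228 := d4_1 D63752 F48903 (iv2 F48344)
theorem F99126 : act 5 n63752 = n30084 := d13_1 D63752 (iv7 D30084) D30083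
theorem F99127 : act 6 n63752 = n30298 := d14_1 D63752 (iv7 D30298) (iv6 D14380) (iv7 F23917) (iv6 F48345)
theorem F99128 : act 1 n30229 = n63752 := d15_1 F48615 (iv7 D63752) F48344
theorem F99129 : act 1 n63752 = n30137 := d15_1 F99128 (iv7 F99119) F99122
def n63753 : Q := act 0 n30085
theorem D63753 : act 0 n30085 = n63753 := rfl
def n63754 : Q := act 1 n30085
theorem D63754 : act 1 n30085 = n63754 := rfl
def n63755 : Q := act 2 n30085
theorem D63755 : act 2 n30085 = n63755 := rfl
def n63756 : Q := act 5 n30085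
theorem D63756 : act 5 n30085 = n63756 := rfl
theorem F99130 : act 3 n63756 = n30086 := d6_1 D63756 (iv5 D30086) D30085
def n63757 : Q := act 6 n30085
theorem D63757 : act 6 n30085 = n63757 := rfl
theorem F99131 : act 3 n63757 = n30087 := d7_1 D63757 (iv6 D30087) D30085
def n63758 : Q := act 6 n30086
theorem D63758 : act 6 n30086 = n63758 := rfl
def n63759 : Q := act 0 n30087
theorem D63759 : act 0 n30087 = n63759 := rfl
def n63760 : Q := act 1 n30087
theorem D63760 : act 1 n30087 = n63760 := rfl
def n63761 : Q := act 5 n30087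
theorem D63761 : act 5 n30087 = n63761 := rfl
def n63762 : Q := act 7 n30087
theorem D63762 : act 7 n30087 = n63762 := rfl
def n63763 : Q := act 0 n30088
theorem D63763 : act 0 n30088 = n63763 := rfl
theorem F99132 : act 3 n63763 = n62312 := d20_5 F48194 (iv1 F45605) (iv4 F45609) D30088 D63763 (iv4 D62312) (iv1 D29480) D29482 F47279 D30003
def n63764 : Q := act 1 n30088
theorem D63764 : act 1 n30088 = n63764 := rfl
def n63765 : Q := act 2 n30088
theorem D63765 : act 2 n30088 = n63765 := rfl
def n63766 : Q := act 5 n30088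
theorem D63766 : act 5 n30088 = n63766 := rfl
theorem F99133 : act 3 n63766 = n30089 := d6_1 D63766 (iv5 D30089) D30088
def n63767 : Q := act 6 n30088
theorem D63767 : act 6 n30088 = n63767 := rfl
theorem F99134 : act 3 n63767 = n30090 := d7_1 D63767 (iv6 D30090) D30088
def n63768 : Q := act 6 n30089
theorem D63768 : act 6 n30089 = n63768 := rfl
def n63769 : Q := act 0 n30090
theorem D63769 : act 0 n30090 = n63769 := rfl
def n63770 : Q := act 1 n30090
theorem D63770 : act 1 n30090 = n63770 := rfl
def n63771 : Q := act 5 n30090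
theorem D63771 : act 5 n30090 = n63771 := rfl
def n63772 : Q := act 7 n30090
theorem D63772 : act 7 n30090 = n63772 := rfl
def n63773 : Q := act 3 n30091
theorem D63773 : act 3 n30091 = n63773 := rfl
theorem F99135 : act 5 n63773 = n61878 := d6_2 (iv5 F48351) D63773 (iv3 D61878)
def n63774 : Q := act 6 n30091
theorem D63774 : act 6 n30091 = n63774 := rfl
def n63775 : Q := act 3 n30092
theorem D63775 : act 3 n30092 = n63775 := rfl
def n63776 : Q := act 6 n30092
theorem D63776 : act 6 n30092 = n63776 := rfl
def n63777 : Q := act 3 n30094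
theorem D63777 : act 3 n30094 = n63777 := rfl
theorem F99136 : act 7 n63777 = n63773 := d8_2 (iv7 F77762) D63777 (iv3 D63773)
def n63778 : Q := act 6 n30094
theorem D63778 : act 6 n30094 = n63778 := rfl
theorem F99137 : act 2 n63778 = n63776 := d3_1 D63778 (iv6 D63776) (iv2 F77764)
def n63779 : Q := act 3 n30095
theorem D63779 : act 3 n30095 = n63779 := rfl
theorem F99138 : act 7 n63779 = n63775 := d8_2 F77765 D63779 (iv3 D63775)
def n63780 : Q := act 6 n30095
theorem D63780 : act 6 n30095 = n63780 := rfl
theorem F99139 : act 2 n63780 = n63774 := d3_1 D63780 (iv6 D63774) F77763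
def n63781 : Q := act 6 n30096
theorem D63781 : act 6 n30096 = n63781 := rfl
theorem F99140 : act 3 n63781 = n62250 := d7_1 D63781 (iv6 D62250) (iv3 F48359)
theorem F99141 : act 4 n63781 = n30097 := d10_1 D63781 (iv6 D30097) D30096
def n63782 : Q := act 0 n30097
theorem D63782 : act 0 n30097 = n63782 := rfl
def n63783 : Q := act 1 n30097
theorem D63783 : act 1 n30097 = n63783 := rfl
def n63784 : Q := act 7 n30097
theorem D63784 : act 7 n30097 = n63784 := rfl
theorem F99142 : act 3 n63784 = n53136 := d8_1 D63784 F83863 F48363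
theorem F99143 : act 6 n63784 = n53132 := d14_1 D63784 (iv7 D53132) F40717 (iv7 F48305) D30097
def n63785 : Q := act 0 n30098
theorem D63785 : act 0 n30098 = n63785 := rfl
theorem F99144 : act 1 n53164 = n63785 := d15_0 (iv0 D63785) (iv7 F83863) (iv2 F83951)
def n63786 : Q := act 1 n30098
theorem D63786 : act 1 n30098 = n63786 := rfl
theorem F99145 : act 1 n63786 = n53164 := d15_1 D63786 F83953 F48438
def n63787 : Q := act 5 n30098
theorem D63787 : act 5 n30098 = n63787 := rfl
theorem F99146 : act 3 n63787 = n53135 := d6_1 D63787 F83861 (iv3 F48363)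
theorem F99147 : act 6 n63787 = n53131 := d12_2 D30098 D63787 (iv5 D53131) F40717 F48303
def n63788 : Q := act 2 n30099
theorem D63788 : act 2 n30099 = n63788 := rfl
theorem F99148 : act 7 n30100 = n63788 := d15_2 (iv0 D30099) D30100 (iv2 D63788)
def n63789 : Q := act 3 n30099
theorem D63789 : act 3 n30099 = n63789 := rfl
def n63790 : Q := act 4 n30099
theorem D63790 : act 4 n30099 = n63790 := rfl
def n63791 : Q := act 5 n30099
theorem D63791 : act 5 n30099 = n63791 := rfl
theorem F99149 : act 0 n63791 = n61330 := d21_1 D63791 (iv5 F97487) (iv6 D62522) (iv1 D29545) (iv6 D14035) (iv5 D6671) F22500 (iv5 F11065) D14286 D30099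
theorem F99150 : act 6 n63791 = n61301 := d21_3 F23839 D30099 D63791 (iv1 F97697) F97694 (iv5 F78282) (iv1 F78285) D53277 F84122 (iv1 D30100)
theorem F99151 : act 0 n63731 = n63791 := d21_10 (iv5 D63791) (iv1 F48365) F40744 (iv6 D25785) (iv1 F20268) D14250 F23779 D24592 F48333 D63731
def n63792 : Q := act 6 n30099
theorem D63792 : act 6 n30099 = n63792 := rfl
theorem F99152 : act 5 n63792 = n30170 := d21_6 (iv5 D6671) F22500 (iv5 F11065) D14286 D30099 D63792 (iv1 D30170) (iv5 F47381) (iv6 D29538) (iv1 D14033)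
theorem F99153 : act 0 n63579 = n63792 := d21_4 F23415 D24680 (iv5 F80034) D63579 (iv6 D63792) D63791 F99149 (iv5 F97487) (iv6 D62522) (iv1 D29545)
def n63793 : Q := act 7 n30099
theorem D63793 : act 7 n30099 = n63793 := rfl
theorem F99154 : act 2 n63793 = n30100 := d4_1 D63793 F99148 (iv2 D63788)
def n63795 : Q := act 4 n30100
theorem D63795 : act 4 n30100 = n63795 := rfl
def n63796 : Q := act 5 n30100
theorem D63796 : act 5 n30100 = n63796 := rfl
theorem F99155 : act 6 n63796 = n61420 := d12_2 F84122 D63796 F95920 (iv6 D53278) D53277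
theorem F99156 : act 0 n61330 = n63796 := d21_10 (iv5 D63796) (iv1 D30100) F23839 (iv6 D14286) (iv1 F11072) D14297 (iv5 F39294) D51546 F81327 D61330
def n63797 : Q := act 0 n30101
theorem D63797 : act 0 n30101 = n63797 := rfl
def n63798 : Q := act 1 n30101
theorem D63798 : act 1 n30101 = n63798 := rfl
theorem F99157 : act 1 n63798 = n62601 := d15_1 D63798 F97618 (iv2 F48367)
def n63799 : Q := act 7 n30101
theorem D63799 : act 7 n30101 = n63799 := rfl
theorem F99158 : act 2 n63799 = n62601 := d4_1 D63799 F97618 (iv2 F48367)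
theorem F99159 : act 4 n63799 = n60640 := d11_1 D63799 (iv7 D60640) (iv4 F48368)
theorem F99160 : act 5 n63799 = n52158 := d13_1 D63799 F82463 (iv5 F48369)
theorem F99161 : act 1 n62601 = n63797 := d15_0 (iv0 D63797) D63799 F99158
theorem F99162 : act 1 n63051 = n63799 := d15_1 D63051 (iv7 D63799) F48367
theorem F99163 : act 4 n60596 = n63051 := d18_7 (iv1 F82460) (iv4 F97613) (iv1 F97615) F85016 F41228 (iv4 F46417) D60596 F99162 F99160
theorem F99164 : act 1 n63799 = n63050 := d15_0 (iv0 D63050) (iv7 F97618) (iv2 F99158)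
def n63800 : Q := act 0 n30102
theorem D63800 : act 0 n30102 = n63800 := rfl
theorem F99165 : act 5 n63800 = n48654 := d21_0 (iv1 F76537) (iv5 F77683) (iv6 F77908) (iv1 F77910) (iv6 F77694) F47933 F39324 F23840 D30102 D63800
def n63801 : Q := act 1 n30102
theorem D63801 : act 1 n30102 = n63801 := rfl
theorem F99166 : act 5 n48655 = n63801 := d21_0 (iv1 D63801) F48372 (iv6 D24476) F24051 (iv6 F48776) (iv5 D30347) D30346 F82702 F76530 (iv1 F76534)
theorem F99167 : act 6 n63801 = n49336 := d21_3 F77683 (iv1 F76534) F99166 (iv1 F78045) F78042 F78013 (iv1 F76504) (iv5 F98280) F98279 (iv1 F77889)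
def n63802 : Q := act 7 n30102
theorem D63802 : act 7 n30102 = n63802 := rfl
theorem F99168 : act 3 n63802 = n50240 := d8_1 D63802 (iv7 D50240) (iv3 F48370)
theorem F99169 : act 4 n63802 = n60650 := d11_1 D63802 (iv7 D60650) (iv4 F48371)
theorem F99170 : act 5 n63802 = n50191 := d13_1 D63802 (iv7 D50191) (iv5 F48372)
theorem F99171 : act 6 n63802 = n62601 := d14_1 D63802 F97618 (iv6 D29826) F23842 D30102
theorem F99172 : act 1 n52358 = n63802 := d15_1 (iv0 F92950) (iv7 D63802) (iv2 F78022)
theorem F99173 : act 0 n52353 = n63802 := d21_1 D52353 F99170 (iv6 F93064) (iv1 F93065) (iv6 D48638) F36889 (iv1 F19807) F18329 D12086 D25420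
def n63803 : Q := act 0 n30103
theorem D63803 : act 0 n30103 = n63803 := rfl
def n63804 : Q := act 1 n30103
theorem D63804 : act 1 n30103 = n63804 := rfl
def n63805 : Q := act 2 n30103
theorem D63805 : act 2 n30103 = n63805 := rfl
theorem F99174 : act 4 n63805 = n30128 := d1_2 (iv4 F48373) D63805 (iv2 D30128)
theorem F99175 : act 6 n63805 = n49344 := d3_2 (iv6 F48374) D63805 (iv2 D49344)
def n63806 : Q := act 5 n30103
theorem D63806 : act 5 n30103 = n63806 := rfl
theorem F99176 : act 3 n63806 = n30104 := d6_1 D63806 (iv5 D30104) D30103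
def n63807 : Q := act 6 n30104
theorem D63807 : act 6 n30104 = n63807 := rfl
theorem F99177 : act 5 n63807 = n49347 := d12_1 D63807 (iv6 D49347) (iv5 D24082) (iv6 F23845) D30104
def n63808 : Q := act 0 n30106
theorem D63808 : act 0 n30106 = n63808 := rfl
theorem F99178 : act 1 n63717 = n63808 := d15_0 (iv0 D63808) F48378 D63717
def n63809 : Q := act 1 n30106
theorem D63809 : act 1 n30106 = n63809 := rfl
def n63810 : Q := act 2 n30106
theorem D63810 : act 2 n30106 = n63810 := rfl
theorem F99179 : act 3 n63810 = n61431 := d0_2 D30106 D63810 (iv2 D61431) (iv3 D29079) (iv2 F23848)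
theorem F99180 : act 7 n63810 = n63717 := d4_2 (iv7 F48378) D63810 (iv2 D63717)
theorem F99181 : act 1 n63810 = n63715 := d15_0 (iv0 D63715) (iv7 F48378) D63810
theorem F99182 : act 1 n63809 = n63717 := d15_1 D63809 (iv7 F99180) (iv2 D63810)
theorem F99183 : act 1 n63716 = n63810 := d15_1 D63716 F99180 (iv2 D63717)
def n63811 : Q := act 5 n30106
theorem D63811 : act 5 n30106 = n63811 := rfl
theorem F99184 : act 3 n63811 = n30107 := d6_1 D63811 (iv5 D30107) D30106
theorem F99185 : act 7 n63811 = n63718 := d13_2 (iv7 F48378) D63811 (iv5 D63718)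
def n63812 : Q := act 6 n30106
theorem D63812 : act 6 n30106 = n63812 := rfl
theorem F99186 : act 3 n63812 = n30108 := d7_1 D63812 (iv6 D30108) D30106
def n63813 : Q := act 6 n30107
theorem D63813 : act 6 n30107 = n63813 := rfl
theorem F99187 : act 2 n63813 = n61434 := d3_1 D63813 (iv6 D61434) (iv2 F48379)
theorem F99188 : act 4 n63813 = n60716 := d10_1 D63813 (iv6 D60716) (iv4 F48381)
def n63814 : Q := act 0 n30108
theorem D63814 : act 0 n30108 = n63814 := rfl
def n63815 : Q := act 5 n30108
theorem D63815 : act 5 n30108 = n63815 := rfl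
theorem F99189 : act 2 n63815 = n61436 := d2_1 D63815 (iv5 D61436) (iv2 F48382)
def n63816 : Q := act 7 n30108
theorem D63816 : act 7 n30108 = n63816 := rfl
theorem F99190 : act 2 n63816 = n61437 := d4_1 D63816 (iv7 D61437) (iv2 F48382)
theorem F99191 : act 4 n63816 = n30111 := d11_1 D63816 (iv7 D30111) (iv4 F48383)
theorem F99192 : act 6 n63816 = n63724 := d14_1 D63816 (iv7 D63724) (iv6 D30074) (iv7 F23849) D30108
theorem F99193 : act 1 n61437 = n63814 := d15_0 (iv0 D63814) D63816 F99190
theorem F99194 : act 1 n61312 = n63816 := d15_1 (iv0 F95797) (iv7 D63816) F48382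
theorem F99195 : act 7 n63814 = n61312 := d15_2 F97706 F99193 (iv2 F97703)
theorem F99196 : act 4 n60847 = n63814 := d20_6 D25946 F46476 F23017 (iv3 F23012) D28862 D60847 (iv1 F99193) F95935 F46726 (iv1 F23123)
theorem F99197 : act 2 n63814 = n61435 := d15_3 (iv0 D61435) (iv0 F95797) (iv7 F99195)
theorem F99198 : act 4 n61435 = n61880 := d1_2 F99196 F99197 (iv2 F96462)
theorem F99199 : act 7 n61435 = n62638 := d4_2 (iv7 F99195) F99197 F97703
theorem F99200 : act 1 n63816 = n61435 := d15_1 F99194 F99199 F97703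
def n63817 : Q := act 4 n30109
theorem D63817 : act 4 n30109 = n63817 := rfl
theorem F99201 : act 2 n63817 = n61439 := d1_1 D63817 (iv4 D61439) (iv2 F48391)
theorem F99202 : act 7 n63817 = n61306 := d11_2 (iv7 F48390) D63817 F95791
theorem F99203 : act 1 n63817 = n61879 := d15_0 (iv0 F96461) (iv7 F95938) (iv2 F99201)
def n63818 : Q := act 0 n30110
theorem D63818 : act 0 n30110 = n63818 := rfl
theorem F99204 : act 5 n63818 = n63174 := d21_2 D30110 D63818 (iv6 D63174) (iv1 D29865) (iv6 D14187) (iv5 F18977) (iv1 F38559) F38564 (iv6 F40816) F40817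
theorem F99205 : act 0 n63818 = n53247 := d21_7 (iv5 F48333) (iv1 F79785) (iv5 F83910) F83911 (iv1 F83856) D63174 (iv5 F99204) F84093 (iv6 F47396) (iv1 F48332)
def n63819 : Q := act 1 n30110
theorem D63819 : act 1 n30110 = n63819 := rfl
theorem F99206 : act 1 n63819 = n53247 := d15_1 D63819 F84094 (iv2 F48384)
theorem F99207 : act 5 n63196 = n63819 := d21_6 (iv5 F23932) (iv1 D11902) (iv5 F10995) D14192 D29876 D63196 (iv1 D63819) (iv5 D30110) (iv6 D14292) (iv1 F23412)
theorem F99208 : act 6 n63819 = n53199 := d12_2 D63196 F99207 (iv5 F84035) (iv6 D51784) F81336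
def n63820 : Q := act 4 n30110
theorem D63820 : act 4 n30110 = n63820 := rfl
theorem F99209 : act 2 n63820 = n61442 := d1_1 D63820 (iv4 D61442) (iv2 F48384)
theorem F99210 : act 6 n63820 = n30112 := d10_2 (iv6 F48385) D63820 (iv4 D30112)
def n63821 : Q := act 7 n30110
theorem D63821 : act 7 n30110 = n63821 := rfl
theorem F99211 : act 2 n63821 = n53247 := d4_1 D63821 F84094 (iv2 F48384)
theorem F99212 : act 5 n63821 = n30111 := d13_1 D63821 (iv7 D30111) D30110
theorem F99213 : act 6 n63821 = n53167 := d14_1 D63821 F83960 F48401 (iv7 D30113) (iv6 F48385)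
theorem F99214 : act 1 n61441 = n63821 := d15_1 D61441 (iv7 D63821) F48384
theorem F99215 : act 0 n61440 = n63821 := d21_4 F20334 D25858 D53362 (iv6 F95939) F99213 F83957 (iv1 F81625) D51719 (iv6 F81657) (iv1 D25859)
def n63822 : Q := act 3 n30112
theorem D63822 : act 3 n30112 = n63822 := rfl
def n63823 : Q := act 5 n30112
theorem D63823 : act 5 n30112 = n63823 := rfl
theorem F99216 : act 2 n63823 = n61445 := d2_1 D63823 (iv5 D61445) (iv2 F48395)
def n63824 : Q := act 7 n30112
theorem D63824 : act 7 n30112 = n63824 := rfl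
theorem F99217 : act 2 n63824 = n30335 := d4_1 D63824 F48759 (iv2 F48395)
theorem F99218 : act 4 n63824 = n30113 := d11_1 D63824 (iv7 D30113) D30112
theorem F99219 : act 1 n49717 = n63824 := d15_1 (iv0 F78567) (iv7 D63824) F48395
theorem F99220 : act 1 n63824 = n61443 := d15_1 F99219 F95943 F78930
theorem F99221 : act 6 n53248 = n63824 := d10_0 F99218 (iv6 F48401) D53248
def n63825 : Q := act 0 n30114
theorem D63825 : act 0 n30114 = n63825 := rfl
theorem F99222 : act 1 n63734 = n63825 := d15_0 (iv0 D63825) F48402 D63734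
def n63826 : Q := act 1 n30114
theorem D63826 : act 1 n30114 = n63826 := rfl
def n63827 : Q := act 2 n30114
theorem D63827 : act 2 n30114 = n63827 := rfl
theorem F99223 : act 3 n63827 = n61092 := d0_2 D30114 D63827 F95606 F46587 (iv2 F23878)
theorem F99224 : act 7 n63827 = n63734 := d4_2 (iv7 F48402) D63827 (iv2 D63734)
theorem F99225 : act 1 n63827 = n63732 := d15_0 (iv0 D63732) (iv7 F48402) D63827
theorem F99226 : act 1 n63826 = n63734 := d15_1 D63826 (iv7 F99224) (iv2 D63827)
theorem F99227 : act 1 n63733 = n63827 := d15_1 D63733 F99224 (iv2 D63734)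
def n63828 : Q := act 5 n30114
theorem D63828 : act 5 n30114 = n63828 := rfl
theorem F99228 : act 3 n63828 = n30115 := d6_1 D63828 (iv5 D30115) D30114
theorem F99229 : act 7 n63828 = n63735 := d13_2 (iv7 F48402) D63828 (iv5 D63735)
def n63829 : Q := act 6 n30114
theorem D63829 : act 6 n30114 = n63829 := rfl
theorem F99230 : act 3 n63829 = n30116 := d7_1 D63829 (iv6 D30116) D30114
def n63830 : Q := act 6 n30115
theorem D63830 : act 6 n30115 = n63830 := rfl
theorem F99231 : act 2 n63830 = n63188 := d3_1 D63830 (iv6 D63188) (iv2 F48403)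
theorem F99232 : act 4 n63830 = n60906 := d10_1 D63830 (iv6 D60906) (iv4 F48405)
def n63831 : Q := act 0 n30116
theorem D63831 : act 0 n30116 = n63831 := rfl
def n63832 : Q := act 1 n30116
theorem D63832 : act 1 n30116 = n63832 := rfl
theorem F99233 : act 1 n63832 = n63192 := d15_1 D63832 (iv7 D63192) (iv2 F48406)
def n63833 : Q := act 5 n30116
theorem D63833 : act 5 n30116 = n63833 := rfl
theorem F99234 : act 2 n63833 = n63191 := d2_1 D63833 (iv5 D63191) (iv2 F48406)
def n63834 : Q := act 7 n30116
theorem D63834 : act 7 n30116 = n63834 := rfl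
theorem F99235 : act 2 n63834 = n63192 := d4_1 D63834 (iv7 D63192) (iv2 F48406)
theorem F99236 : act 4 n63834 = n30119 := d11_1 D63834 (iv7 D30119) (iv4 F48407)
theorem F99237 : act 6 n63834 = n63741 := d14_1 D63834 (iv7 D63741) (iv6 D30080) (iv7 F23879) D30116
theorem F99238 : act 1 n63192 = n63831 := d15_0 (iv0 D63831) D63834 F99235
theorem F99239 : act 1 n63190 = n63834 := d15_1 D63190 (iv7 D63834) F48406
theorem F99240 : act 4 n60994 = n63831 := d20_6 (iv4 F80117) (iv1 D28926) F23031 (iv3 F23028) D28916 D60994 (iv1 F99238) F98448 F48023 (iv1 F23782)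
theorem F99241 : act 1 n63834 = n63189 := d15_0 (iv0 D63189) D63192 (iv2 F99235)
def n63835 : Q := act 2 n30117
theorem D63835 : act 2 n30117 = n63835 := rfl
theorem F99242 : act 7 n30118 = n63835 := d15_2 (iv0 D30117) D30118 (iv2 D63835)
def n63836 : Q := act 3 n30117
theorem D63836 : act 3 n30117 = n63836 := rfl
def n63837 : Q := act 4 n30117
theorem D63837 : act 4 n30117 = n63837 := rfl
def n63838 : Q := act 6 n30117
theorem D63838 : act 6 n30117 = n63838 := rfl
theorem F99243 : act 5 n63838 = n61441 := d21_6 (iv5 F24095) F24094 (iv5 F22532) D14297 D30117 D63838 (iv1 D61441) (iv5 D29083) (iv6 D13844) D13841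
theorem F99244 : act 0 n63838 = n53277 := d21_10 (iv5 D53277) (iv1 D25828) D25829 F40816 (iv1 F23491) D25767 F40713 D51765 F81744 D63838
theorem F99245 : act 0 n53273 = n63838 := d21_4 (iv5 D14443) D14441 D30404 (iv6 F84120) (iv6 D63838) (iv5 F81744) F81745 (iv5 F46675) (iv6 F47590) (iv1 F47591)
theorem F99246 : act 6 n61441 = n30723 := d21_3 D53273 F99245 F99243 (iv1 D30723) (iv6 D14560) F11219 D11921 (iv5 F19655) D12265 D25827
def n63839 : Q := act 7 n30117
theorem D63839 : act 7 n30117 = n63839 := rfl
theorem F99247 : act 2 n63839 = n30118 := d4_1 D63839 F99242 (iv2 D63835)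
theorem F99248 : act 6 n63166 = n63839 := d3_0 F99247 (iv6 F81655) D63166
theorem F99249 : act 7 n63838 = n63174 := d14_4 F98432 F99248 (iv7 D63839) D63838 (iv6 D63174)
theorem F99250 : act 7 n63818 = n61441 := d13_2 F99249 (iv5 F99204) (iv5 F99243)
theorem F99251 : act 2 n61441 = n63819 := d15_3 F99206 (iv0 F99205) F99250
theorem F99252 : act 2 n63818 = n61440 := d15_3 (iv0 D61440) D61441 (iv7 F99250)
theorem F99253 : act 7 n61440 = n63819 := d4_2 (iv7 F99250) F99252 (iv2 F99251)
theorem F99254 : act 2 n63196 = n63838 := d2_3 F99243 F99251 (iv5 F99207)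
theorem F99255 : act 2 n53199 = n30723 := d3_3 (iv6 F99246) F99251 F99208
theorem F99256 : act 7 n30722 = n53199 := d15_2 F84039 F84040 F99255
theorem F99257 : act 7 n53198 = n30723 := d15_2 F84034 (iv0 F84033) (iv2 F99255)
theorem F99258 : act 2 n30722 = n53198 := d4_3 F99257 (iv2 F99255) (iv7 F99256)
theorem E8835 : n63835 = n29876 := (c3_4 D63196 F99254 (iv6 D63838) D63835)
theorem E8836 : n63193 = n30117 := ((D63193).symm.trans (sb E8835 (iv2 D63835)))
theorem E8837 : n63197 = n30118 := ((D63197).symm.trans (sb E8835 (iv7 F99242)))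
theorem F99259 : act 2 n30117 = n29876 := (sb E8836 (iv2 D63193))
theorem E8838 : n51781 = n51765 := ((((iv5 F81744)).symm.trans (sb E8836 F98449))).symm
theorem E8839 : n63839 = n29877 := ((D63839).symm.trans (sb E8836 (iv7 F98450)))
theorem E8840 : n51785 = n51715 := ((((iv5 F81652)).symm.trans (sb E8837 F98453))).symm
theorem F99260 : act 7 n30118 = n29876 := (sb E8837 (iv7 D63197))
theorem F99261 : act 2 n51765 = n25142 := (sb E8838 (iv2 D51781))
theorem F99262 : act 7 n51765 = n25143 := (sb E8838 (iv7 F81778))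
theorem F99263 : act 2 n29877 = n30118 := (sb E8839 F99247)
theorem E8841 : n63166 = n53119 := ((((iv6 F83851)).symm.trans (sb E8839 (iv6 F99248)))).symm
theorem F99264 : act 7 n29877 = n30117 := (sb E8839 (iv7 D63839))
theorem F99265 : act 2 n51715 = n25143 := (sb E8840 F81779)
theorem F99266 : act 7 n51715 = n25142 := (sb E8840 (iv7 D51785))
theorem F99267 : act 2 n53119 = n29864 := (sb E8841 (iv2 D63166))
theorem F99268 : act 7 n53119 = n29865 := (sb E8841 (iv7 F98432))
theorem E8842 : n63170 = n53120 := (c15_4 F83853 (iv0 F83852) F99268 (iv2 F98435))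
theorem F99269 : act 2 n53120 = n29865 := (sb E8842 F98435)
theorem F99270 : act 7 n53120 = n29864 := (sb E8842 (iv7 D63170))
theorem F99271 : act 7 n63169 = n53363 := d13_2 F99270 D63169 F84188
theorem F99272 : act 2 n63173 = n53363 := d2_3 F84188 F99269 D63173
theorem E8843 : n53359 = n34104 := (c3_4 F98436 F99272 (iv6 D53363) D53359)
theorem F99273 : act 2 n34104 = n25858 := (sb E8843 (iv2 D53359))
theorem F99274 : act 7 n34104 = n25859 := (sb E8843 (iv7 F84186))
theorem E8844 : n53364 = n34103 := (c15_4 (iv0 D34103) D34104 F99274 (iv2 F84189))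
theorem F99275 : act 2 n34103 = n25859 := (sb E8844 F84189)
theorem F99276 : act 7 n34103 = n25858 := (sb E8844 (iv7 D53364))
theorem E8845 : n51711 = n51694 := ((c3_3 D51715 F99265 (iv6 F81751) (iv2 D51711))).symm
theorem F99277 : act 2 n51694 = n25115 := (sb E8845 (iv2 D51711))
theorem F99278 : act 7 n51694 = n25116 := (sb E8845 (iv7 F81651))
theorem E8846 : n51716 = n51695 := (c15_4 F81620 F81624 F99278 (iv2 F81656))
theorem F99279 : act 2 n51695 = n25116 := (sb E8846 F81656)
theorem F99280 : act 7 n51695 = n25115 := (sb E8846 (iv7 D51716))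
theorem F99281 : act 7 n63836 = n63198 := d8_2 F99264 D63836 (iv3 D63198)
theorem F99282 : act 7 n63837 = n63199 := d11_2 F99264 D63837 (iv4 D63199)
theorem F99283 : act 2 n63195 = n63837 := d1_3 (iv4 D63837) F99259 D63195
def n63840 : Q := act 3 n30118
theorem D63840 : act 3 n30118 = n63840 := rfl
theorem F99284 : act 6 n63840 = n63167 := d7_2 F81655 D63840 (iv3 D63167)
theorem F99285 : act 7 n63840 = n63194 := d8_2 (iv7 F99260) D63840 (iv3 D63194)
theorem F99286 : act 4 n63840 = n62258 := d20_6 D29475 F79853 F46591 (iv3 F48023) (iv1 F48408) D63840 (iv1 D62258) F47235 F23357 D14013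
def n63841 : Q := act 4 n30118
theorem D63841 : act 4 n30118 = n63841 := rfl
theorem F99287 : act 2 n63841 = n63199 := d1_1 D63841 (iv4 D63199) F99263
theorem F99288 : act 6 n63841 = n63168 := d10_2 F81655 D63841 (iv4 D63168)
theorem F99289 : act 7 n63841 = n63195 := d11_2 (iv7 F99260) D63841 (iv4 D63195)
def n63842 : Q := act 0 n30120
theorem D63842 : act 0 n30120 = n63842 := rfl
theorem F99290 : act 3 n63842 = n61089 := d20_5 (iv4 D28183) D28182 F45581 D30120 D63842 (iv4 D61089) (iv1 D28948) D28950 F46587 (iv1 F45585)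
theorem F99291 : act 1 n63765 = n63842 := d15_0 (iv0 D63842) F48415 D63765
def n63843 : Q := act 1 n30120
theorem D63843 : act 1 n30120 = n63843 := rfl
def n63844 : Q := act 2 n30120
theorem D63844 : act 2 n30120 = n63844 := rfl
theorem F99292 : act 3 n63844 = n63755 := d0_2 D30120 D63844 (iv2 D63755) (iv3 D30085) F37581
theorem F99293 : act 4 n63844 = n63100 := d1_2 (iv4 F48414) D63844 (iv2 D63100)
theorem F99294 : act 7 n63844 = n63765 := d4_2 (iv7 F48415) D63844 (iv2 D63765)
theorem F99295 : act 1 n63844 = n63763 := d15_0 (iv0 D63763) (iv7 F48415) D63844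
theorem F99296 : act 1 n63843 = n63765 := d15_1 D63843 (iv7 F99294) (iv2 D63844)
theorem F99297 : act 1 n63764 = n63844 := d15_1 D63764 F99294 (iv2 D63765)
def n63845 : Q := act 5 n30120
theorem D63845 : act 5 n30120 = n63845 := rfl
theorem F99298 : act 3 n63845 = n30121 := d6_1 D63845 (iv5 D30121) D30120
theorem F99299 : act 7 n63845 = n63766 := d13_2 (iv7 F48415) D63845 (iv5 D63766)
def n63846 : Q := act 6 n30120
theorem D63846 : act 6 n30120 = n63846 := rfl
theorem F99300 : act 3 n63846 = n30122 := d7_1 D63846 (iv6 D30122) D30120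
theorem F99301 : act 4 n63846 = n63102 := d10_1 D63846 (iv6 D63102) (iv4 F48414)
def n63847 : Q := act 6 n30121
theorem D63847 : act 6 n30121 = n63847 := rfl
theorem F99302 : act 2 n63847 = n63758 := d3_1 D63847 (iv6 D63758) (iv2 F48416)
def n63848 : Q := act 0 n30122
theorem D63848 : act 0 n30122 = n63848 := rfl
def n63849 : Q := act 1 n30122
theorem D63849 : act 1 n30122 = n63849 := rfl
theorem F99303 : act 1 n63849 = n63762 := d15_1 D63849 (iv7 D63762) (iv2 F48418)
def n63850 : Q := act 5 n30122
theorem D63850 : act 5 n30122 = n63850 := rfl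
theorem F99304 : act 2 n63850 = n63761 := d2_1 D63850 (iv5 D63761) (iv2 F48418)
def n63851 : Q := act 7 n30122
theorem D63851 : act 7 n30122 = n63851 := rfl
theorem F99305 : act 2 n63851 = n63762 := d4_1 D63851 (iv7 D63762) (iv2 F48418)
theorem F99306 : act 6 n63851 = n63772 := d14_1 D63851 (iv7 D63772) (iv6 D30090) F37583 D30122
theorem F99307 : act 1 n63762 = n63848 := d15_0 (iv0 D63848) D63851 F99305
theorem F99308 : act 1 n63760 = n63851 := d15_1 D63760 (iv7 D63851) F48418
theorem F99309 : act 1 n63851 = n63759 := d15_0 (iv0 D63759) D63762 (iv2 F99305)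
def n63852 : Q := act 0 n30123
theorem D63852 : act 0 n30123 = n63852 := rfl
theorem F99310 : act 1 n63755 = n63852 := d15_0 (iv0 D63852) F48420 D63755
def n63853 : Q := act 1 n30123
theorem D63853 : act 1 n30123 = n63853 := rfl
def n63854 : Q := act 2 n30123
theorem D63854 : act 2 n30123 = n63854 := rfl
theorem F99311 : act 3 n63854 = n63765 := d0_2 D30123 D63854 (iv2 D63765) (iv3 D30088) (iv2 F37582)
theorem F99312 : act 4 n63854 = n61933 := d1_2 (iv4 F48419) D63854 (iv2 D61933)
theorem F99313 : act 7 n63854 = n63755 := d4_2 (iv7 F48420) D63854 (iv2 D63755)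
theorem F99314 : act 1 n63854 = n63753 := d15_0 (iv0 D63753) (iv7 F48420) D63854
theorem F99315 : act 1 n63853 = n63755 := d15_1 D63853 (iv7 F99313) (iv2 D63854)
theorem F99316 : act 1 n63754 = n63854 := d15_1 D63754 F99313 (iv2 D63755)
def n63855 : Q := act 5 n30123
theorem D63855 : act 5 n30123 = n63855 := rfl
theorem F99317 : act 3 n63855 = n30124 := d6_1 D63855 (iv5 D30124) D30123
theorem F99318 : act 7 n63855 = n63756 := d13_2 (iv7 F48420) D63855 (iv5 D63756)
def n63856 : Q := act 6 n30123
theorem D63856 : act 6 n30123 = n63856 := rfl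
theorem F99319 : act 3 n63856 = n30125 := d7_1 D63856 (iv6 D30125) D30123
theorem F99320 : act 4 n63856 = n61935 := d10_1 D63856 (iv6 D61935) (iv4 F48419)
def n63857 : Q := act 6 n30124
theorem D63857 : act 6 n30124 = n63857 := rfl
theorem F99321 : act 2 n63857 = n63768 := d3_1 D63857 (iv6 D63768) (iv2 F48421)
def n63858 : Q := act 0 n30125
theorem D63858 : act 0 n30125 = n63858 := rfl
def n63859 : Q := act 1 n30125
theorem D63859 : act 1 n30125 = n63859 := rfl
theorem F99322 : act 1 n63859 = n63772 := d15_1 D63859 (iv7 D63772) (iv2 F48423)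
def n63860 : Q := act 5 n30125
theorem D63860 : act 5 n30125 = n63860 := rfl
theorem F99323 : act 2 n63860 = n63771 := d2_1 D63860 (iv5 D63771) (iv2 F48423)
def n63861 : Q := act 7 n30125
theorem D63861 : act 7 n30125 = n63861 := rfl
theorem F99324 : act 2 n63861 = n63772 := d4_1 D63861 (iv7 D63772) (iv2 F48423)
theorem F99325 : act 4 n63861 = n61930 := d11_1 D63861 (iv7 D61930) (iv4 F48424)
theorem F99326 : act 6 n63861 = n63762 := d14_1 D63861 (iv7 D63762) (iv6 D30087) (iv7 F37579) D30125
theorem F99327 : act 1 n63772 = n63858 := d15_0 (iv0 D63858) D63861 F99324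
theorem F99328 : act 1 n63770 = n63861 := d15_1 D63770 (iv7 D63861) F48423
theorem F99329 : act 1 n63861 = n63769 := d15_0 (iv0 D63769) D63772 (iv2 F99324)
def n63862 : Q := act 2 n30126
theorem D63862 : act 2 n30126 = n63862 := rfl
theorem F99330 : act 7 n30127 = n63862 := d15_2 (iv0 D30126) D30127 (iv2 D63862)
def n63863 : Q := act 3 n30126
theorem D63863 : act 3 n30126 = n63863 := rfl
def n63864 : Q := act 4 n30126
theorem D63864 : act 4 n30126 = n63864 := rfl
def n63865 : Q := act 5 n30126
theorem D63865 : act 5 n30126 = n63865 := rfl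
def n63866 : Q := act 6 n30126
theorem D63866 : act 6 n30126 = n63866 := rfl
def n63867 : Q := act 7 n30126
theorem D63867 : act 7 n30126 = n63867 := rfl
theorem F99331 : act 2 n63867 = n30127 := d4_1 D63867 F99330 (iv2 D63862)
def n63868 : Q := act 3 n30127
theorem D63868 : act 3 n30127 = n63868 := rfl
def n63869 : Q := act 4 n30127
theorem D63869 : act 4 n30127 = n63869 := rfl
theorem F99332 : act 3 n60663 = n63869 := d20_5 (iv4 D28725) (iv1 F22865) (iv4 F22975) (iv3 F46424) (iv1 F95260) (iv4 D63869) (iv1 D30127) (iv4 F48373) (iv3 D30103) (iv1 F46339)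
def n63870 : Q := act 5 n30127
theorem D63870 : act 5 n30127 = n63870 := rfl
def n63871 : Q := act 6 n30127
theorem D63871 : act 6 n30127 = n63871 := rfl
def n63872 : Q := act 0 n30128
theorem D63872 : act 0 n30128 = n63872 := rfl
theorem F99333 : act 1 n30130 = n63872 := d15_0 (iv0 D63872) F48427 (iv2 F48429)
theorem F99334 : act 4 n60653 = n63872 := d20_6 (iv4 D13725) (iv1 D6533) D6534 D13729 D28791 D60653 (iv1 F99333) (iv4 F95203) (iv3 D60585) (iv1 F46415)
def n63873 : Q := act 1 n30128
theorem D63873 : act 1 n30128 = n63873 := rfl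
theorem F99335 : act 1 n63873 = n30130 := d15_1 D63873 (iv7 D30130) D30128
def n63874 : Q := act 4 n30129
theorem D63874 : act 4 n30129 = n63874 := rfl
theorem F99336 : act 2 n63874 = n60585 := d1_1 D63874 F95203 F48429
theorem F99337 : act 7 n63874 = n63805 := d11_2 F48427 D63874 F99174
theorem F99338 : act 1 n63804 = n63874 := d15_1 D63804 F99337 (iv2 D63805)
theorem F99339 : act 1 n63874 = n63803 := d15_0 (iv0 D63803) (iv7 F95204) (iv2 F99336)
def n63875 : Q := act 6 n30129
theorem D63875 : act 6 n30129 = n63875 := rfl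
theorem F99340 : act 3 n63875 = n30132 := d7_1 D63875 (iv6 D30132) (iv3 F48426)
def n63876 : Q := act 6 n30130
theorem D63876 : act 6 n30130 = n63876 := rfl
theorem F99341 : act 2 n63876 = n63875 := d3_1 D63876 (iv6 D63875) (iv2 F48429)
theorem F99342 : act 3 n63876 = n30133 := d7_1 D63876 (iv6 D30133) (iv3 F48430)
def n63877 : Q := act 3 n30131
theorem D63877 : act 3 n30131 = n63877 := rfl
theorem F99343 : act 2 n63877 = n60898 := d0_1 D63877 (iv3 D60898) (iv2 F47231) (iv3 F48359) (iv2 F48433)
theorem F99344 : act 5 n63877 = n60898 := d6_2 (iv5 F48434) D63877 (iv3 D60898)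
theorem F99345 : act 7 n63877 = n63711 := d8_2 (iv7 F48435) D63877 F99070
theorem F99346 : act 1 n63710 = n63877 := d15_1 D63710 F99345 (iv2 D63711)
theorem F99347 : act 1 n63877 = n63709 := d15_0 (iv0 D63709) (iv7 F95443) (iv2 F99343)
def n63878 : Q := act 6 n30131
theorem D63878 : act 6 n30131 = n63878 := rfl
theorem F99348 : act 2 n63878 = n63781 := d3_1 D63878 (iv6 D63781) (iv2 F48433)
theorem F99349 : act 4 n63878 = n30132 := d10_1 D63878 (iv6 D30132) D30131
def n63879 : Q := act 0 n30132
theorem D63879 : act 0 n30132 = n63879 := rfl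
def n63880 : Q := act 1 n30132
theorem D63880 : act 1 n30132 = n63880 := rfl
theorem F99350 : act 1 n63880 = n63784 := d15_1 D63880 (iv7 D63784) (iv2 F48437)
def n63881 : Q := act 7 n30132
theorem D63881 : act 7 n30132 = n63881 := rfl
theorem F99351 : act 2 n63881 = n63784 := d4_1 D63881 (iv7 D63784) (iv2 F48437)
theorem F99352 : act 1 n63784 = n63879 := d15_0 (iv0 D63879) D63881 F99351
theorem F99353 : act 1 n63783 = n63881 := d15_1 D63783 (iv7 D63881) F48437
theorem F99354 : act 1 n63881 = n63782 := d15_0 (iv0 D63782) D63784 (iv2 F99351)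
def n63882 : Q := act 0 n30133
theorem D63882 : act 0 n30133 = n63882 := rfl
theorem F99355 : act 1 n53136 = n63882 := d15_0 (iv0 D63882) (iv7 F83953) F83951
def n63883 : Q := act 1 n30133
theorem D63883 : act 1 n30133 = n63883 := rfl
theorem F99356 : act 1 n63883 = n53136 := d15_1 D63883 F83863 (iv2 F48438)
def n63884 : Q := act 5 n30133
theorem D63884 : act 5 n30133 = n63884 := rfl
theorem F99357 : act 2 n63884 = n63787 := d2_1 D63884 (iv5 D63787) (iv2 F48438)
def n63885 : Q := act 2 n30134
theorem D63885 : act 2 n30134 = n63885 := rfl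
theorem F99358 : act 7 n30135 = n63885 := d15_2 (iv0 D30134) D30135 (iv2 D63885)
def n63887 : Q := act 4 n30134
theorem D63887 : act 4 n30134 = n63887 := rfl
def n63888 : Q := act 5 n30134
theorem D63888 : act 5 n30134 = n63888 := rfl
theorem F99359 : act 6 n63888 = n62633 := d12_2 (iv6 F48843) D63888 F97690 (iv6 D30410) D30409
theorem F99360 : act 0 n62522 = n63888 := d21_10 (iv5 D63888) (iv1 F48440) F40719 (iv6 D25775) (iv1 F20257) D25779 F40730 D50419 F79778 D62522
def n63889 : Q := act 7 n30134
theorem D63889 : act 7 n30134 = n63889 := rfl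
theorem F99361 : act 2 n63889 = n30135 := d4_1 D63889 F99358 (iv2 D63885)
def n63890 : Q := act 3 n30135
theorem D63890 : act 3 n30135 = n63890 := rfl
def n63891 : Q := act 4 n30135
theorem D63891 : act 4 n30135 = n63891 := rfl
def n63892 : Q := act 5 n30135
theorem D63892 : act 5 n30135 = n63892 := rfl
theorem F99362 : act 0 n63892 = n62522 := d21_1 D63892 F97487 (iv6 D61330) (iv1 D29031) (iv6 D13815) (iv5 D6569) F10276 (iv5 F20253) D25775 (iv1 F48441)
theorem F99363 : act 6 n63892 = n62494 := d21_3 F40719 (iv1 F48441) D63892 (iv1 F97429) F95922 F83871 (iv1 F48533) D30409 (iv6 F48843) (iv1 F48440)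
def n63893 : Q := act 6 n30135
theorem D63893 : act 6 n30135 = n63893 := rfl
theorem F99364 : act 5 n63893 = n49520 := d21_6 (iv5 D6569) F10276 (iv5 F20253) D25775 (iv1 F48441) D63893 (iv1 D49520) (iv5 F46668) (iv6 D29024) (iv1 D13813)
theorem F99365 : act 0 n63196 = n63893 := d21_4 F23075 D25142 F81336 D63196 (iv6 D63893) D63892 F99362 F97487 (iv6 D61330) (iv1 D29031)
def n63894 : Q := act 3 n30136
theorem D63894 : act 3 n30136 = n63894 := rfl
theorem F99366 : act 7 n63894 = n30219 := d8_2 (iv7 F48443) D63894 (iv3 D30219)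
def n63895 : Q := act 6 n30136
theorem D63895 : act 6 n30136 = n63895 := rfl
theorem F99367 : act 2 n63895 = n30227 := d3_1 D63895 (iv6 D30227) (iv2 F48442)
theorem F99368 : act 4 n63895 = n30137 := d10_1 D63895 (iv6 D30137) D30136
theorem F99369 : act 0 n30309 = n63895 := d21_4 D30167 (iv1 F48743) (iv5 D30308) D30309 (iv6 D63895) (iv5 F96685) F96687 (iv5 D58741) F45110 F38874
def n63896 : Q := act 3 n30138
theorem D63896 : act 3 n30138 = n63896 := rfl
theorem F99370 : act 4 n63896 = n52096 := d5_2 D30138 D63896 (iv3 D52096) F39948 F23905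
theorem F99371 : act 7 n63896 = n30240 := d8_2 (iv7 F48448) D63896 (iv3 D30240)
def n63897 : Q := act 5 n30138
theorem D63897 : act 5 n30138 = n63897 := rfl
theorem F99372 : act 2 n63897 = n30235 := d2_1 D63897 (iv5 D30235) (iv2 F48447)
theorem F99373 : act 4 n63897 = n60975 := d9_1 D63897 (iv5 D60975) (iv4 D28910) F23026 F19065 D12257 D25813 D53235 F84085 (iv5 D29436) (iv4 D14000) (iv5 F19068) (iv4 F37833) F37834 D30138
theorem F99374 : act 7 n63897 = n30241 := d13_2 (iv7 F48448) D63897 (iv5 D30241)
def n63898 : Q := act 6 n30138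
theorem D63898 : act 6 n30138 = n63898 := rfl
theorem F99375 : act 2 n63898 = n30236 := d3_1 D63898 (iv6 D30236) (iv2 F48447)
theorem F99376 : act 4 n63898 = n30139 := d10_1 D63898 (iv6 D30139) D30138
def n63899 : Q := act 0 n30139
theorem D63899 : act 0 n30139 = n63899 := rfl
theorem F99377 : act 6 n63899 = n30177 := d21_5 F23961 (iv1 F37837) F37834 D30139 D63899 F83979 (iv1 D53173) F40754 (iv6 D14346) D14343
theorem F99378 : act 0 n63899 = n30239 := d21_4 F84144 (iv1 F83978) (iv5 F83979) (iv6 F99377) (iv6 F84074) F84073 (iv1 F48754) (iv5 D30325) (iv6 F48753) (iv1 F84148)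
def n63900 : Q := act 1 n30139
theorem D63900 : act 1 n30139 = n63900 := rfl
theorem F99379 : act 1 n63900 = n30239 := d15_1 D63900 (iv7 D30239) (iv2 F48450)
def n63901 : Q := act 7 n30139
theorem D63901 : act 7 n30139 = n63901 := rfl
theorem F99380 : act 2 n63901 = n30239 := d4_1 D63901 (iv7 D30239) (iv2 F48450)
theorem F99381 : act 3 n63901 = n52184 := d8_1 D63901 (iv7 D52184) (iv3 F48451)
theorem F99382 : act 5 n63901 = n50442 := d13_1 D63901 (iv7 D50442) (iv5 F48452)
theorem F99383 : act 6 n63901 = n30245 := d14_1 D63901 (iv7 D30245) (iv6 D14353) (iv7 F23904) D30139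
theorem F99384 : act 1 n30238 = n63901 := d15_1 D30238 (iv7 D63901) F48450
theorem F99385 : act 0 n30237 = n63901 := d21_4 (iv5 F83981) (iv1 F83984) F83877 (iv6 F83879) F99383 (iv5 F78194) (iv1 F78197) (iv5 F48491) (iv6 F84136) (iv1 F84146)
theorem F99386 : act 5 n53230 = n30332 := d21_0 (iv1 D30332) (iv5 D14390) (iv6 D6880) D6877 D14380 (iv5 F38620) (iv1 F79821) (iv5 F99382) F99383 (iv1 F84069)
theorem F99387 : act 6 n30332 = n49519 := d21_3 F78194 (iv1 F84069) F99386 (iv1 F78284) (iv6 F83982) F83981 (iv1 F84138) (iv5 F84139) F53433 (iv1 F78198)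
theorem F99388 : act 6 n30169 = n53230 := d21_5 (iv5 F22549) F23931 (iv5 D14320) D14321 D30169 F99386 (iv1 D30332) (iv5 D14390) (iv6 D6880) D6877
def n63902 : Q := act 3 n30140
theorem D63902 : act 3 n30140 = n63902 := rfl
theorem F99389 : act 4 n63902 = n49925 := d5_2 (iv4 F48458) D63902 (iv3 D49925) (iv4 D24348) D24347
theorem F99390 : act 7 n63902 = n30249 := d8_2 (iv7 F48459) D63902 (iv3 D30249)
def n63903 : Q := act 5 n30140
theorem D63903 : act 5 n30140 = n63903 := rfl
theorem F99391 : act 2 n63903 = n30247 := d2_1 D63903 (iv5 D30247) F48457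
theorem F99392 : act 7 n63903 = n30250 := d13_2 (iv7 F48459) D63903 (iv5 D30250)
def n63904 : Q := act 6 n30140
theorem D63904 : act 6 n30140 = n63904 := rfl
theorem F99393 : act 2 n63904 = n30248 := d3_1 D63904 (iv6 D30248) F48457
theorem F99394 : act 4 n63904 = n49923 := d10_1 D63904 (iv6 D49923) (iv4 F48458)
def n63905 : Q := act 3 n30141
theorem D63905 : act 3 n30141 = n63905 := rfl
theorem F99395 : act 4 n63905 = n50082 := d5_2 (iv4 F48454) D63905 (iv3 D50082) (iv4 F38945) D29942
theorem F99396 : act 7 n63905 = n30246 := d8_2 F48456 D63905 (iv3 D30246)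
def n63906 : Q := act 5 n30141
theorem D63906 : act 5 n30141 = n63906 := rfl
theorem F99397 : act 2 n63906 = n30250 := d2_1 D63906 (iv5 D30250) F48455
theorem F99398 : act 7 n63906 = n30247 := d13_2 F48456 D63906 (iv5 D30247)
def n63907 : Q := act 6 n30141
theorem D63907 : act 6 n30141 = n63907 := rfl
theorem F99399 : act 2 n63907 = n30251 := d3_1 D63907 (iv6 D30251) F48455
theorem F99400 : act 4 n63907 = n63371 := d10_1 D63907 (iv6 D63371) (iv4 F48454)
def n63908 : Q := act 0 n30142
theorem D63908 : act 0 n30142 = n63908 := rfl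
def n63909 : Q := act 1 n30142
theorem D63909 : act 1 n30142 = n63909 := rfl
def n63910 : Q := act 2 n30142
theorem D63910 : act 2 n30142 = n63910 := rfl
theorem F99401 : act 3 n63910 = n30254 := d0_2 D30142 D63910 (iv2 D30254) (iv3 D14356) (iv2 F23907)
theorem F99402 : act 6 n63910 = n30188 := d3_2 (iv6 F48461) D63910 (iv2 D30188)
def n63911 : Q := act 5 n30142
theorem D63911 : act 5 n30142 = n63911 := rfl
theorem F99403 : act 3 n63911 = n30143 := d6_1 D63911 (iv5 D30143) D30142
def n63912 : Q := act 7 n30142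
theorem D63912 : act 7 n30142 = n63912 := rfl
theorem F99404 : act 3 n63912 = n30144 := d8_1 D63912 (iv7 D30144) D30142
def n63913 : Q := act 0 n30143
theorem D63913 : act 0 n30143 = n63913 := rfl
theorem F99405 : act 5 n63913 = n49897 := d17_1 D63913 F78917 D62661 F97755 F95537 F47056 D60821 F96681 F96683
theorem F99406 : act 2 n30257 = n63913 := d2_3 F99405 (iv2 F92796) F92797
theorem F99407 : act 7 n30258 = n63913 := d13_0 F99405 (iv7 F92803) (iv5 F92806)
theorem F99408 : act 1 n30261 = n63913 := d17_6 (iv1 D29367) (iv5 D13970) F10771 (iv5 F11115) (iv4 F23971) (iv5 F48639) F99405 (iv0 F96622) (iv4 D62015)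
def n63914 : Q := act 1 n30143
theorem D63914 : act 1 n30143 = n63914 := rfl
theorem F99409 : act 1 n63914 = n30261 := d15_1 D63914 (iv7 D30261) (iv2 F48462)
theorem F99410 : act 7 n63914 = n30257 := d15_2 (iv0 D63913) D63914 F99406
theorem F99411 : act 5 n63914 = n62659 := d17_7 (iv1 F23893) (iv5 D14304) (iv1 D6829) D6830 D14306 D30143 D63914 (iv0 D62659) (iv4 D29629)
theorem F99412 : act 2 n30258 = n63914 := d2_3 F99411 (iv2 F97751) (iv5 F92806)
def n63915 : Q := act 6 n30143
theorem D63915 : act 6 n30143 = n63915 := rfl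
theorem F99413 : act 2 n63915 = n30260 := d3_1 D63915 (iv6 D30260) (iv2 F48462)
theorem F99414 : act 5 n63915 = n30193 := d12_1 D63915 (iv6 D30193) (iv5 D14329) (iv6 F23908) D30143
def n63916 : Q := act 7 n30143
theorem D63916 : act 7 n30143 = n63916 := rfl
theorem F99415 : act 2 n63916 = n30261 := d4_1 D63916 (iv7 D30261) (iv2 F48462)
theorem F99416 : act 4 n63916 = n30210 := d11_1 D63916 (iv7 F96682) F96683
theorem F99417 : act 5 n63916 = n30144 := d13_1 D63916 (iv7 D30144) D30143
theorem F99418 : act 1 n30258 = n63916 := d15_1 D30258 (iv7 D63916) F48462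
theorem F99419 : act 1 n63916 = n30257 := d15_1 F99418 (iv7 F99410) (iv2 F99412)
def n63917 : Q := act 6 n30144
theorem D63917 : act 6 n30144 = n63917 := rfl
theorem F99420 : act 2 n63917 = n30262 := d3_1 D63917 (iv6 D30262) (iv2 F48463)
theorem F99421 : act 4 n63917 = n30145 := d10_1 D63917 (iv6 D30145) (iv4 F48464)
theorem F99422 : act 7 n63917 = n30194 := d14_2 D30144 D63917 (iv6 D30194) (iv7 D14330) (iv6 F23908)
theorem F99423 : act 1 n30504 = n63917 := d15_1 D30504 F99422 F48569
theorem F99424 : act 1 n63917 = n30503 := d15_0 (iv0 D30503) (iv7 F48641) (iv2 F99420)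
def n63918 : Q := act 3 n30146
theorem D63918 : act 3 n30146 = n63918 := rfl
theorem F99425 : act 4 n63918 = n30151 := d5_2 D30146 D63918 (iv3 D30151) (iv4 D14311) (iv3 F23913)
theorem F99426 : act 7 n63918 = n30343 := d8_2 (iv7 F48472) D63918 (iv3 D30343)
def n63919 : Q := act 6 n30146
theorem D63919 : act 6 n30146 = n63919 := rfl
theorem F99427 : act 4 n63919 = n30147 := d10_1 D63919 (iv6 D30147) D30146
def n63920 : Q := act 7 n30147
theorem D63920 : act 7 n30147 = n63920 := rfl
theorem F99428 : act 3 n63920 = n30156 := d8_1 D63920 (iv7 D30156) (iv3 F48475)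
theorem F99429 : act 6 n63920 = n30348 := d14_1 D63920 (iv7 D30348) (iv6 D14400) (iv7 F23914) D30147
theorem F99430 : act 1 n49475 = n63920 := d15_1 (iv0 F78221) (iv7 D63920) (iv2 F48672)
def n63921 : Q := act 3 n30148
theorem D63921 : act 3 n30148 = n63921 := rfl
theorem F99431 : act 7 n63921 = n30293 := d8_2 (iv7 F48477) D63921 (iv3 D30293)
def n63922 : Q := act 3 n30149
theorem D63922 : act 3 n30149 = n63922 := rfl
theorem F99432 : act 4 n63922 = n30685 := d5_2 (iv4 F48478) D63922 (iv3 D30685) F38991 (iv3 F45701)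
theorem F99433 : act 7 n63922 = n30306 := d8_2 F48481 D63922 (iv3 D30306)
def n63923 : Q := act 6 n30149
theorem D63923 : act 6 n30149 = n63923 := rfl
theorem F99434 : act 2 n63923 = n30305 := d3_1 D63923 (iv6 D30305) F48480
theorem F99435 : act 4 n63923 = n59443 := d10_1 D63923 (iv6 D59443) (iv4 F48478)
def n63924 : Q := act 3 n30150
theorem D63924 : act 3 n30150 = n63924 := rfl
theorem F99436 : act 4 n63924 = n49626 := d5_2 (iv4 F48484) D63924 (iv3 D49626) (iv4 D24201) D24200
theorem F99437 : act 7 n63924 = n30303 := d8_2 (iv7 F48483) D63924 (iv3 D30303)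
def n63925 : Q := act 6 n30150
theorem D63925 : act 6 n30150 = n63925 := rfl
theorem F99438 : act 2 n63925 = n30309 := d3_1 D63925 (iv6 D30309) F48485
theorem F99439 : act 4 n63925 = n49625 := d10_1 D63925 (iv6 D49625) (iv4 F48484)
def n63926 : Q := act 0 n30151
theorem D63926 : act 0 n30151 = n63926 := rfl
theorem F99440 : act 1 n30358 = n63926 := d15_0 (iv0 D63926) F48486 D30358
def n63927 : Q := act 1 n30151
theorem D63927 : act 1 n30151 = n63927 := rfl
def n63928 : Q := act 2 n30151
theorem D63928 : act 2 n30151 = n63928 := rfl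
theorem F99441 : act 3 n63928 = n30312 := d0_2 D30151 D63928 (iv2 D30312) (iv3 D14385) (iv2 F23919)
theorem F99442 : act 7 n63928 = n30358 := d4_2 (iv7 F48486) D63928 (iv2 D30358)
theorem F99443 : act 1 n63928 = n30356 := d15_0 (iv0 D30356) (iv7 F48486) D63928
theorem F99444 : act 1 n63927 = n30358 := d15_1 D63927 (iv7 F99442) (iv2 D63928)
theorem F99445 : act 1 n30357 = n63928 := d15_1 D30357 F99442 (iv2 D30358)
def n63929 : Q := act 5 n30151
theorem D63929 : act 5 n30151 = n63929 := rfl
theorem F99446 : act 3 n63929 = n30152 := d6_1 D63929 (iv5 D30152) D30151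
theorem F99447 : act 7 n63929 = n30359 := d13_2 (iv7 F48486) D63929 (iv5 D30359)
def n63930 : Q := act 6 n30151
theorem D63930 : act 6 n30151 = n63930 := rfl
theorem F99448 : act 3 n63930 = n30153 := d7_1 D63930 (iv6 D30153) D30151
def n63931 : Q := act 0 n30152
theorem D63931 : act 0 n30152 = n63931 := rfl
theorem F99449 : act 5 n63931 = n30165 := d17_1 D63931 (iv1 F48522) D30174 (iv4 F48815) (iv5 D30379) (iv0 F24080) D28220 D59433 F93815
theorem F99450 : act 4 n63931 = n49161 := d18_1 D63931 F77624 F45761 F45760 (iv4 D28252) F45700 (iv4 F48478) (iv0 D30149) D30152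
theorem F99451 : act 2 n30315 = n63931 := d15_3 (iv0 D63931) (iv0 F80503) F80502
theorem F99452 : act 1 n30160 = n63931 := d15_0 (iv0 D63931) F48488 (iv2 F48504)
theorem F99453 : act 7 n63931 = n30316 := d15_2 F80504 F99452 (iv2 F80501)
def n63932 : Q := act 6 n30152
theorem D63932 : act 6 n30152 = n63932 := rfl
theorem F99454 : act 2 n63932 = n30317 := d3_1 D63932 (iv6 D30317) (iv2 F48487)
def n63933 : Q := act 0 n30153
theorem D63933 : act 0 n30153 = n63933 := rfl
def n63934 : Q := act 1 n30153
theorem D63934 : act 1 n30153 = n63934 := rfl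
theorem F99455 : act 1 n63934 = n30321 := d15_1 D63934 (iv7 D30321) (iv2 F48489)
def n63935 : Q := act 5 n30153
theorem D63935 : act 5 n30153 = n63935 := rfl
theorem F99456 : act 2 n63935 = n30320 := d2_1 D63935 (iv5 D30320) (iv2 F48489)
def n63936 : Q := act 7 n30153
theorem D63936 : act 7 n30153 = n63936 := rfl
theorem F99457 : act 2 n63936 = n30321 := d4_1 D63936 (iv7 D30321) (iv2 F48489)
theorem F99458 : act 4 n63936 = n30156 := d11_1 D63936 (iv7 D30156) (iv4 F48490)
theorem F99459 : act 6 n63936 = n30365 := d14_1 D63936 (iv7 D30365) (iv6 D14412) (iv7 F23920) D30153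
theorem F99460 : act 1 n30321 = n63933 := d15_0 (iv0 D63933) D63936 F99457
theorem F99461 : act 1 n30319 = n63936 := d15_1 D30319 (iv7 D63936) F48489
theorem F99462 : act 1 n63936 = n30318 := d15_0 (iv0 D30318) D30321 (iv2 F99457)
def n63937 : Q := act 2 n30154
theorem D63937 : act 2 n30154 = n63937 := rfl
theorem F99463 : act 5 n63937 = n53225 := d2_2 (iv5 F48491) D63937 F84066
theorem F99464 : act 7 n30155 = n63937 := d15_2 (iv0 D30154) D30155 (iv2 D63937)
def n63938 : Q := act 3 n30154
theorem D63938 : act 3 n30154 = n63938 := rfl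
theorem F99465 : act 5 n63938 = n53226 := d6_2 (iv5 F48491) D63938 (iv3 D53226)
def n63939 : Q := act 4 n30154
theorem D63939 : act 4 n30154 = n63939 := rfl
def n63940 : Q := act 7 n30154
theorem D63940 : act 7 n30154 = n63940 := rfl
theorem F99466 : act 2 n63940 = n30155 := d4_1 D63940 F99464 (iv2 D63937)
theorem F99467 : act 5 n63940 = n53222 := d13_1 D63940 (iv7 F84065) (iv5 F48491)
def n63941 : Q := act 3 n30155
theorem D63941 : act 3 n30155 = n63941 := rfl
theorem F99468 : act 5 n63941 = n53223 := d6_2 F48493 D63941 (iv3 D53223)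
def n63942 : Q := act 4 n30155
theorem D63942 : act 4 n30155 = n63942 := rfl
def n63943 : Q := act 6 n30155
theorem D63943 : act 6 n30155 = n63943 := rfl
def n63944 : Q := act 3 n30157
theorem D63944 : act 3 n30157 = n63944 := rfl
theorem F99469 : act 7 n63944 = n30284 := d8_2 (iv7 F48500) D63944 (iv3 D30284)
def n63945 : Q := act 6 n30157
theorem D63945 : act 6 n30157 = n63945 := rfl
theorem F99470 : act 2 n63945 = n30350 := d3_1 D63945 (iv6 D30350) (iv2 F48499)
theorem F99471 : act 4 n63945 = n30158 := d10_1 D63945 (iv6 D30158) D30157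
def n63946 : Q := act 7 n30158
theorem D63946 : act 7 n30158 = n63946 := rfl
theorem F99472 : act 2 n63946 = n30354 := d4_1 D63946 (iv7 D30354) (iv2 F48502)
theorem F99473 : act 3 n63946 = n52331 := d8_1 D63946 F82705 F48768
theorem F99474 : act 6 n63946 = n30289 := d14_1 D63946 (iv7 D30289) (iv6 D14375) (iv7 F23923) D30158
theorem F99475 : act 1 n30352 = n63946 := d15_1 D30352 (iv7 D63946) F48502
theorem F99476 : act 1 n63946 = n30351 := d15_1 F99475 F82155 (iv2 F49333)
def n63947 : Q := act 0 n30159
theorem D63947 : act 0 n30159 = n63947 := rfl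
theorem F99477 : act 1 n30312 = n63947 := d15_0 (iv0 D63947) F48503 D30312
def n63948 : Q := act 1 n30159
theorem D63948 : act 1 n30159 = n63948 := rfl
def n63949 : Q := act 2 n30159
theorem D63949 : act 2 n30159 = n63949 := rfl
theorem F99478 : act 3 n63949 = n30358 := d0_2 D30159 D63949 (iv2 D30358) (iv3 D14410) (iv2 F23926)
theorem F99479 : act 7 n63949 = n30312 := d4_2 (iv7 F48503) D63949 (iv2 D30312)
theorem F99480 : act 1 n63949 = n30310 := d15_0 (iv0 D30310) (iv7 F48503) D63949
theorem F99481 : act 1 n63948 = n30312 := d15_1 D63948 (iv7 F99479) (iv2 D63949)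
theorem F99482 : act 1 n30311 = n63949 := d15_1 D30311 F99479 (iv2 D30312)
def n63950 : Q := act 5 n30159
theorem D63950 : act 5 n30159 = n63950 := rfl
theorem F99483 : act 3 n63950 = n30160 := d6_1 D63950 (iv5 D30160) D30159
theorem F99484 : act 7 n63950 = n30313 := d13_2 (iv7 F48503) D63950 (iv5 D30313)
def n63951 : Q := act 6 n30159
theorem D63951 : act 6 n30159 = n63951 := rfl
theorem F99485 : act 3 n63951 = n30161 := d7_1 D63951 (iv6 D30161) D30159
def n63952 : Q := act 6 n30160
theorem D63952 : act 6 n30160 = n63952 := rfl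
theorem F99486 : act 2 n63952 = n30361 := d3_1 D63952 (iv6 D30361) (iv2 F48504)
def n63953 : Q := act 0 n30161
theorem D63953 : act 0 n30161 = n63953 := rfl
theorem F99487 : act 4 n63953 = n49663 := d20_2 (iv4 F48507) D63953 (iv3 D49663) (iv1 F37969) F24595 (iv4 F24606) (iv1 F46773) (iv4 D24672) (iv3 F38652) F38654
theorem F99488 : act 0 n63953 = n30365 := d20_7 (iv4 F95723) F95724 F78422 F37952 D24219 D49663 (iv4 F99487) F48797 (iv3 F48777) (iv1 F48778)
def n63954 : Q := act 1 n30161
theorem D63954 : act 1 n30161 = n63954 := rfl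
theorem F99489 : act 1 n63954 = n30365 := d15_1 D63954 (iv7 D30365) (iv2 F48506)
def n63955 : Q := act 5 n30161
theorem D63955 : act 5 n30161 = n63955 := rfl
theorem F99490 : act 2 n63955 = n30364 := d2_1 D63955 (iv5 D30364) (iv2 F48506)
def n63956 : Q := act 7 n30161
theorem D63956 : act 7 n30161 = n63956 := rfl
theorem F99491 : act 2 n63956 = n30365 := d4_1 D63956 (iv7 D30365) (iv2 F48506)
theorem F99492 : act 4 n63956 = n30163 := d11_1 D63956 (iv7 D30163) (iv4 F48507)
theorem F99493 : act 6 n63956 = n30321 := d14_1 D63956 (iv7 D30321) (iv6 D14387) (iv7 F23927) D30161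
theorem F99494 : act 1 n30363 = n63956 := d15_1 D30363 (iv7 D63956) F48506
theorem F99495 : act 4 n30363 = n31740 := d20_2 (iv4 F99492) (iv1 F99494) (iv3 D31740) (iv1 D14930) F11425 (iv4 F11438) (iv1 F47640) (iv4 D14639) (iv3 F48511) (iv1 F48518)
theorem F99496 : act 6 n62017 = n30363 := d10_0 F99495 F50041 (iv4 F96629)
theorem F99497 : act 7 n63953 = n30363 := d11_0 F99495 (iv7 F78446) (iv4 F99487)
theorem F99498 : act 2 n30363 = n63954 := d15_3 F99489 (iv0 F99488) F99497
theorem F99499 : act 2 n63953 = n30362 := d15_3 (iv0 D30362) D30363 (iv7 F99497)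
theorem F99500 : act 7 n30362 = n63954 := d4_2 (iv7 F99497) F99499 (iv2 F99498)
theorem F99501 : act 1 n63956 = n30362 := d15_1 F99494 F99500 (iv2 F99498)
theorem F99502 : act 4 n63954 = n59498 := d1_2 (iv4 F99495) F99498 F93925
theorem F99503 : act 6 n63954 = n30218 := d3_2 F99496 F99498 F96630
theorem F99504 : act 0 n51112 = n53468 := d20_1 (iv4 F80631) (iv4 D53468) (iv3 F82711) (iv1 F82713) F48777 (iv4 F48797) (iv1 F99489) F99502 F93926 (iv1 D51114)
def n63957 : Q := act 4 n30162
theorem D63957 : act 4 n30162 = n63957 := rfl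
theorem F99505 : act 2 n63957 = n30366 := d1_1 D63957 (iv4 D30366) F48510
theorem F99506 : act 7 n63957 = n30368 := d11_2 (iv7 F48509) D63957 (iv4 D30368)
theorem F99507 : act 1 n59496 = n30368 := d15_1 (iv0 F93923) (iv7 F99506) F99505
def n63958 : Q := act 6 n30162
theorem D63958 : act 6 n30162 = n63958 := rfl
theorem F99508 : act 2 n63958 = n30367 := d3_1 D63958 (iv6 D30367) F48510
theorem F99509 : act 3 n63958 = n63821 := d7_1 D63958 F99213 F83959
theorem F99510 : act 5 n63958 = n53141 := d12_1 D63958 F83884 F83843 F81748 F79975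
theorem F99511 : act 7 n63958 = n30215 := d14_2 (iv7 F48509) D63958 (iv6 D30215) (iv7 F47037) (iv6 F47040)
theorem F99512 : act 0 n62656 = n63958 := d21_4 F11191 D14478 D30509 (iv6 F97748) (iv6 D63958) (iv5 F79975) (iv1 F79977) (iv5 F48906) (iv6 D30515) (iv1 D14479)
theorem F99513 : act 0 n30409 = n63749 := d21_10 F99115 F99512 F99510 F83884 (iv1 F83845) D61330 (iv5 F97487) F99360 (iv5 D63888) F48843
theorem F99514 : act 1 n62657 = n63958 := d15_1 D62657 F99511 F48605
def n63959 : Q := act 0 n30164
theorem D63959 : act 0 n30164 = n63959 := rfl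
theorem F99515 : act 6 n63959 = n52186 := d21_5 (iv5 F24047) F37789 F37788 D30164 D63959 (iv5 F93060) (iv1 D49432) (iv5 F48674) (iv6 D30277) (iv1 F24046)
def n63960 : Q := act 1 n30164
theorem D63960 : act 1 n30164 = n63960 := rfl
def n63961 : Q := act 7 n30164
theorem D63961 : act 7 n30164 = n63961 := rfl
theorem F99516 : act 3 n63961 = n30171 := d8_1 D63961 (iv7 D30171) (iv3 F48519)
theorem F99517 : act 5 n63961 = n49198 := d13_1 D63961 F77913 (iv5 F77904)
theorem F99518 : act 6 n63961 = n30419 := d14_1 D63961 (iv7 D30419) (iv6 D14448) (iv7 F26014) D30164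
theorem F99519 : act 0 n30419 = n49566 := d21_10 (iv5 D49566) (iv1 D24183) (iv5 F23054) (iv6 D13804) D13801 D28995 F46622 D49198 (iv5 F99517) F99518
theorem E8847 : n49567 = n49425 := (c21_10 (iv5 D52309) (iv1 F76523) (iv5 F82127) F82128 (iv1 F82114) (iv6 F82118) F78143 F99519 (iv5 D49566) D49567 (iv1 F82691))
theorem F99520 : act 6 n49425 = n24183 := (sb E8847 (iv6 D49567))
theorem F99521 : act 1 n30413 = n49566 := d15_0 (iv0 F99519) (iv7 D30419) (iv2 F48846)
theorem E8848 : n60560 = n49542 := (c21_8 D49566 (iv1 F99521) (iv5 F77632) (iv6 D49163) (iv1 F46402) (iv6 F95178) (iv5 D60561) D60560 F78298 (iv6 F77671) (iv1 F77673))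
theorem F99522 : act 1 n49542 = n28760 := (sb E8848 (iv0 D60560))
def n63962 : Q := act 3 n30165
theorem D63962 : act 3 n30165 = n63962 := rfl
theorem F99523 : act 4 n63962 = n30947 := d5_2 (iv4 F48520) D63962 (iv3 D30947) F38962 (iv3 F45694)
theorem F99524 : act 7 n63962 = n30387 := d8_2 (iv7 F48523) D63962 (iv3 D30387)
theorem F99525 : act 0 n63962 = n31240 := d20_4 D14459 (iv1 F45697) (iv4 F48520) D63962 (iv3 D31240) (iv4 D14745) (iv1 D7027) (iv4 F11188) (iv3 D6912) D6910
def n63963 : Q := act 6 n30165
theorem D63963 : act 6 n30165 = n63963 := rfl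
theorem F99526 : act 2 n63963 = n30386 := d3_1 D63963 (iv6 D30386) F48521
theorem F99527 : act 4 n63963 = n59442 := d10_1 D63963 (iv6 D59442) (iv4 F48520)
def n63964 : Q := act 0 n30166
theorem D63964 : act 0 n30166 = n63964 := rfl
theorem F99528 : act 1 n30422 = n63964 := d15_0 (iv0 D63964) F48524 D30422
def n63965 : Q := act 1 n30166
theorem D63965 : act 1 n30166 = n63965 := rfl
def n63966 : Q := act 2 n30166
theorem D63966 : act 2 n30166 = n63966 := rfl
theorem F99529 : act 3 n63966 = n30390 := d0_2 D30166 D63966 (iv2 D30390) (iv3 D14433) (iv2 F26015)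
theorem F99530 : act 7 n63966 = n30422 := d4_2 (iv7 F48524) D63966 (iv2 D30422)
theorem F99531 : act 1 n63966 = n30420 := d15_0 (iv0 D30420) (iv7 F48524) D63966
theorem F99532 : act 1 n63965 = n30422 := d15_1 D63965 (iv7 F99530) (iv2 D63966)
theorem F99533 : act 1 n30421 = n63966 := d15_1 D30421 F99530 (iv2 D30422)
def n63967 : Q := act 5 n30166
theorem D63967 : act 5 n30166 = n63967 := rfl
theorem F99534 : act 3 n63967 = n30167 := d6_1 D63967 (iv5 D30167) D30166
theorem F99535 : act 7 n63967 = n30423 := d13_2 (iv7 F48524) D63967 (iv5 D30423)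
def n63968 : Q := act 6 n30166
theorem D63968 : act 6 n30166 = n63968 := rfl
theorem F99536 : act 3 n63968 = n30168 := d7_1 D63968 (iv6 D30168) D30166
def n63969 : Q := act 6 n30167
theorem D63969 : act 6 n30167 = n63969 := rfl
theorem F99537 : act 2 n63969 = n30395 := d3_1 D63969 (iv6 D30395) (iv2 F48525)
def n63970 : Q := act 0 n30168
theorem D63970 : act 0 n30168 = n63970 := rfl
def n63971 : Q := act 1 n30168
theorem D63971 : act 1 n30168 = n63971 := rfl
theorem F99538 : act 1 n63971 = n30399 := d15_1 D63971 (iv7 D30399) (iv2 F48527)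
def n63972 : Q := act 5 n30168
theorem D63972 : act 5 n30168 = n63972 := rfl
theorem F99539 : act 2 n63972 = n30398 := d2_1 D63972 (iv5 D30398) (iv2 F48527)
def n63973 : Q := act 7 n30168
theorem D63973 : act 7 n30168 = n63973 := rfl
theorem F99540 : act 2 n63973 = n30399 := d4_1 D63973 (iv7 D30399) (iv2 F48527)
theorem F99541 : act 4 n63973 = n30171 := d11_1 D63973 (iv7 D30171) (iv4 F48528)
theorem F99542 : act 6 n63973 = n30429 := d14_1 D63973 (iv7 D30429) (iv6 D14451) (iv7 F26016) D30168
theorem F99543 : act 1 n30399 = n63970 := d15_0 (iv0 D63970) D63973 F99540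
theorem F99544 : act 1 n30397 = n63973 := d15_1 D30397 (iv7 D63973) F48527
theorem F99545 : act 1 n63973 = n30396 := d15_0 (iv0 D30396) D30399 (iv2 F99540)
def n63974 : Q := act 2 n30169
theorem D63974 : act 2 n30169 = n63974 := rfl
theorem F99546 : act 7 n30170 = n63974 := d15_2 (iv0 D30169) D30170 (iv2 D63974)
def n63976 : Q := act 4 n30169
theorem D63976 : act 4 n30169 = n63976 := rfl
def n63977 : Q := act 5 n30169
theorem D63977 : act 5 n30169 = n63977 := rfl
def n63978 : Q := act 7 n30169
theorem D63978 : act 7 n30169 = n63978 := rfl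
theorem F99547 : act 2 n63978 = n30170 := d4_1 D63978 F99546 (iv2 D63974)
def n63979 : Q := act 3 n30170
theorem D63979 : act 3 n30170 = n63979 := rfl
def n63980 : Q := act 4 n30170
theorem D63980 : act 4 n30170 = n63980 := rfl
def n63981 : Q := act 6 n30170
theorem D63981 : act 6 n30170 = n63981 := rfl
theorem F99548 : act 5 n63981 = n61301 := d12_1 D63981 (iv6 F99150) (iv5 D63791) D63792 F99152
theorem F99549 : act 0 n30510 = n63981 := d21_1 (iv5 F48900) F99548 (iv6 F99150) F99149 (iv6 D61330) (iv5 F81327) F81328 (iv5 F48024) (iv6 F48201) (iv1 F48343)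
theorem F99550 : act 0 n63981 = n63745 := d21_1 (iv5 F99548) (iv5 D63745) (iv6 F83963) (iv1 D30020) (iv6 D14250) F11037 D11632 (iv5 F23070) D29022 D61301
def n63982 : Q := act 0 n30172
theorem D63982 : act 0 n30172 = n63982 := rfl
def n63983 : Q := act 1 n30172
theorem D63983 : act 1 n30172 = n63983 := rfl
def n63984 : Q := act 7 n30172
theorem D63984 : act 7 n30172 = n63984 := rfl
theorem F99551 : act 3 n63984 = n30178 := d8_1 D63984 (iv7 D30178) (iv3 F48535)
theorem F99552 : act 4 n63984 = n59591 := d11_1 D63984 (iv7 D59591) (iv4 F48536)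
theorem F99553 : act 6 n63984 = n30384 := d14_1 D63984 (iv7 D30384) (iv6 D14429) (iv7 F26021) D30172
def n63985 : Q := act 0 n30173
theorem D63985 : act 0 n30173 = n63985 := rfl
theorem F99554 : act 1 n30390 = n63985 := d15_0 (iv0 D63985) F48538 D30390
def n63986 : Q := act 1 n30173
theorem D63986 : act 1 n30173 = n63986 := rfl
def n63987 : Q := act 2 n30173
theorem D63987 : act 2 n30173 = n63987 := rfl
theorem F99555 : act 3 n63987 = n30422 := d0_2 D30173 D63987 (iv2 D30422) (iv3 D14449) (iv2 F26022)
theorem F99556 : act 4 n63987 = n59584 := d1_2 (iv4 F48537) D63987 (iv2 D59584)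
theorem F99557 : act 7 n63987 = n30390 := d4_2 (iv7 F48538) D63987 (iv2 D30390)
theorem F99558 : act 1 n63987 = n30388 := d15_0 (iv0 D30388) (iv7 F48538) D63987
theorem F99559 : act 1 n63986 = n30390 := d15_1 D63986 (iv7 F99557) (iv2 D63987)
theorem F99560 : act 1 n30389 = n63987 := d15_1 D30389 F99557 (iv2 D30390)
def n63988 : Q := act 5 n30173
theorem D63988 : act 5 n30173 = n63988 := rfl
theorem F99561 : act 3 n63988 = n30174 := d6_1 D63988 (iv5 D30174) D30173
theorem F99562 : act 7 n63988 = n30391 := d13_2 (iv7 F48538) D63988 (iv5 D30391)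
def n63989 : Q := act 6 n30173
theorem D63989 : act 6 n30173 = n63989 := rfl
theorem F99563 : act 3 n63989 = n30175 := d7_1 D63989 (iv6 D30175) D30173
theorem F99564 : act 4 n63989 = n59586 := d10_1 D63989 (iv6 D59586) (iv4 F48537)
def n63990 : Q := act 6 n30174
theorem D63990 : act 6 n30174 = n63990 := rfl
theorem F99565 : act 2 n63990 = n30425 := d3_1 D63990 (iv6 D30425) (iv2 F48539)
def n63991 : Q := act 0 n30175
theorem D63991 : act 0 n30175 = n63991 := rfl
def n63992 : Q := act 1 n30175
theorem D63992 : act 1 n30175 = n63992 := rfl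
theorem F99566 : act 1 n63992 = n30429 := d15_1 D63992 (iv7 D30429) (iv2 F48541)
def n63993 : Q := act 5 n30175
theorem D63993 : act 5 n30175 = n63993 := rfl
theorem F99567 : act 2 n63993 = n30428 := d2_1 D63993 (iv5 D30428) (iv2 F48541)
def n63994 : Q := act 7 n30175
theorem D63994 : act 7 n30175 = n63994 := rfl
theorem F99568 : act 2 n63994 = n30429 := d4_1 D63994 (iv7 D30429) (iv2 F48541)
theorem F99569 : act 4 n63994 = n30178 := d11_1 D63994 (iv7 D30178) (iv4 F48542)
theorem F99570 : act 6 n63994 = n30399 := d14_1 D63994 (iv7 D30399) (iv6 D14435) (iv7 F26023) D30175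
theorem F99571 : act 1 n30429 = n63991 := d15_0 (iv0 D63991) D63994 F99568
theorem F99572 : act 1 n30427 = n63994 := d15_1 D30427 (iv7 D63994) F48541
theorem F99573 : act 1 n63994 = n30426 := d15_0 (iv0 D30426) D30429 (iv2 F99568)
def n63995 : Q := act 2 n30176
theorem D63995 : act 2 n30176 = n63995 := rfl
theorem F99574 : act 7 n30177 = n63995 := d15_2 (iv0 D30176) D30177 (iv2 D63995)
def n63996 : Q := act 3 n30176
theorem D63996 : act 3 n30176 = n63996 := rfl
def n63997 : Q := act 4 n30176
theorem D63997 : act 4 n30176 = n63997 := rfl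
def n63998 : Q := act 6 n30176
theorem D63998 : act 6 n30176 = n63998 := rfl
theorem F99575 : act 5 n63998 = n30370 := d21_6 F22559 F22528 F11896 D14325 D30176 D63998 (iv1 D30370) (iv5 D14415) (iv6 D6895) (iv1 F11150)
theorem F99576 : act 0 n63998 = n30515 := d21_10 F48906 (iv1 D24653) D24654 F38653 (iv1 D14344) D14346 (iv5 F40754) D53172 F83977 D63998
theorem F99577 : act 0 n50617 = n63998 := d21_4 F24026 D30006 D63550 F98867 (iv6 D63998) (iv5 F83977) (iv1 F83983) (iv5 F84144) F84145 (iv1 F48615)
theorem F99578 : act 6 n30370 = n51649 := d21_3 D50617 F99577 F99575 (iv1 D51649) (iv6 D25091) F19641 F11437 F10365 D11675 D24652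
def n63999 : Q := act 7 n30176
theorem D63999 : act 7 n30176 = n63999 := rfl
theorem F99579 : act 2 n63999 = n30177 := d4_1 D63999 F99574 (iv2 D63995)
def n64001 : Q := act 4 n30177
theorem D64001 : act 4 n30177 = n64001 := rfl
def n64002 : Q := act 0 n30179
theorem D64002 : act 0 n30179 = n64002 := rfl
theorem F99580 : act 1 n30461 = n64002 := d15_0 (iv0 D64002) F48549 D30461
def n64003 : Q := act 1 n30179
theorem D64003 : act 1 n30179 = n64003 := rfl
def n64004 : Q := act 2 n30179
theorem D64004 : act 2 n30179 = n64004 := rfl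
theorem F99581 : act 3 n64004 = n30446 := d0_2 D30179 D64004 (iv2 D30446) (iv3 D14458) (iv2 F37121)
theorem F99582 : act 7 n64004 = n30461 := d4_2 (iv7 F48549) D64004 (iv2 D30461)
theorem F99583 : act 1 n64004 = n30459 := d15_0 (iv0 D30459) (iv7 F48549) D64004
theorem F99584 : act 1 n64003 = n30461 := d15_1 D64003 (iv7 F99582) (iv2 D64004)
theorem F99585 : act 1 n30460 = n64004 := d15_1 D30460 F99582 (iv2 D30461)
def n64005 : Q := act 5 n30179
theorem D64005 : act 5 n30179 = n64005 := rfl
theorem F99586 : act 3 n64005 = n30180 := d6_1 D64005 (iv5 D30180) D30179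
theorem F99587 : act 7 n64005 = n30463 := d13_2 (iv7 F48549) D64005 (iv5 D30463)
def n64006 : Q := act 6 n30179
theorem D64006 : act 6 n30179 = n64006 := rfl
theorem F99588 : act 3 n64006 = n30181 := d7_1 D64006 (iv6 D30181) D30179
def n64007 : Q := act 6 n30180
theorem D64007 : act 6 n30180 = n64007 := rfl
theorem F99589 : act 2 n64007 = n30454 := d3_1 D64007 (iv6 D30454) (iv2 F48550)
def n64008 : Q := act 0 n30181
theorem D64008 : act 0 n30181 = n64008 := rfl
def n64009 : Q := act 1 n30181
theorem D64009 : act 1 n30181 = n64009 := rfl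
theorem F99590 : act 1 n64009 = n30458 := d15_1 D64009 (iv7 D30458) (iv2 F48552)
def n64010 : Q := act 5 n30181
theorem D64010 : act 5 n30181 = n64010 := rfl
theorem F99591 : act 2 n64010 = n30457 := d2_1 D64010 (iv5 D30457) (iv2 F48552)
def n64011 : Q := act 7 n30181
theorem D64011 : act 7 n30181 = n64011 := rfl
theorem F99592 : act 2 n64011 = n30458 := d4_1 D64011 (iv7 D30458) (iv2 F48552)
theorem F99593 : act 6 n64011 = n30470 := d14_1 D64011 (iv7 D30470) (iv6 D14466) (iv7 F37122) D30181
theorem F99594 : act 1 n30458 = n64008 := d15_0 (iv0 D64008) D64011 F99592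
theorem F99595 : act 1 n30408 = n64011 := d15_1 (iv0 F97744) (iv7 D64011) F48552
theorem F99596 : act 1 n64011 = n30455 := d15_0 (iv0 D30455) D30458 (iv2 F99592)
def n64012 : Q := act 0 n30182
theorem D64012 : act 0 n30182 = n64012 := rfl
theorem F99597 : act 1 n30446 = n64012 := d15_0 (iv0 D64012) F48553 D30446
def n64013 : Q := act 1 n30182
theorem D64013 : act 1 n30182 = n64013 := rfl
def n64014 : Q := act 2 n30182
theorem D64014 : act 2 n30182 = n64014 := rfl
theorem F99598 : act 3 n64014 = n30461 := d0_2 D30182 D64014 (iv2 D30461) (iv3 D14463) (iv2 F37125)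
theorem F99599 : act 7 n64014 = n30446 := d4_2 (iv7 F48553) D64014 (iv2 D30446)
theorem F99600 : act 1 n64014 = n30444 := d15_0 (iv0 D30444) (iv7 F48553) D64014
theorem F99601 : act 1 n64013 = n30446 := d15_1 D64013 (iv7 F99599) (iv2 D64014)
theorem F99602 : act 1 n30445 = n64014 := d15_1 D30445 F99599 (iv2 D30446)
def n64015 : Q := act 5 n30182
theorem D64015 : act 5 n30182 = n64015 := rfl
theorem F99603 : act 3 n64015 = n30184 := d6_1 D64015 (iv5 D30184) D30182
theorem F99604 : act 7 n64015 = n30448 := d13_2 (iv7 F48553) D64015 (iv5 D30448)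
def n64016 : Q := act 6 n30182
theorem D64016 : act 6 n30182 = n64016 := rfl
theorem F99605 : act 3 n64016 = n30185 := d7_1 D64016 (iv6 D30185) D30182
def n64017 : Q := act 6 n30183
theorem D64017 : act 6 n30183 = n64017 := rfl
theorem F99606 : act 2 n64017 = n30465 := d3_1 D64017 (iv6 D30465) (iv2 F48554)
theorem F99607 : act 3 n64017 = n60452 := d7_1 D64017 (iv6 D60452) (iv3 F48558)
theorem F99608 : act 4 n64017 = n30185 := d10_1 D64017 (iv6 D30185) D30183
theorem F99609 : act 5 n64017 = n49902 := d12_1 D64017 (iv6 D49902) (iv5 D24335) D24336 (iv5 F48556)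
def n64018 : Q := act 6 n30184
theorem D64018 : act 6 n30184 = n64018 := rfl
theorem F99610 : act 2 n64018 = n30466 := d3_1 D64018 (iv6 D30466) (iv2 F48560)
def n64019 : Q := act 0 n30185
theorem D64019 : act 0 n30185 = n64019 := rfl
def n64020 : Q := act 1 n30185
theorem D64020 : act 1 n30185 = n64020 := rfl
theorem F99611 : act 1 n64020 = n30470 := d15_1 D64020 (iv7 D30470) (iv2 F48562)
def n64021 : Q := act 5 n30185
theorem D64021 : act 5 n30185 = n64021 := rfl
theorem F99612 : act 2 n64021 = n30469 := d2_1 D64021 (iv5 D30469) (iv2 F48562)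
def n64022 : Q := act 7 n30185
theorem D64022 : act 7 n30185 = n64022 := rfl
theorem F99613 : act 2 n64022 = n30470 := d4_1 D64022 (iv7 D30470) (iv2 F48562)
theorem F99614 : act 6 n64022 = n30458 := d14_1 D64022 (iv7 D30458) (iv6 D14461) (iv7 F37126) D30185
theorem F99615 : act 1 n30470 = n64019 := d15_0 (iv0 D64019) D64022 F99613
theorem F99617 : act 1 n64022 = n30467 := d15_0 (iv0 D30467) D30470 (iv2 F99613)
def n64023 : Q := act 0 n30186
theorem D64023 : act 0 n30186 = n64023 := rfl
theorem F99618 : act 2 n30190 = n64023 := d15_3 (iv0 D64023) (iv0 D30186) D30190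
theorem F99619 : act 3 n64023 = n30471 := d0_2 (iv3 F48565) F99618 (iv2 F48879) F24113 (iv2 F23938)
theorem F99620 : act 7 n64023 = n30188 := d4_2 D30190 F99618 (iv2 D30188)
theorem F99621 : act 1 n30187 = n64023 := d15_1 D30187 F99620 (iv2 D30188)
def n64024 : Q := act 2 n30186
theorem D64024 : act 2 n30186 = n64024 := rfl
theorem F99622 : act 7 n30187 = n64024 := d15_2 (iv0 D30186) D30187 (iv2 D64024)
def n64025 : Q := act 3 n30186
theorem D64025 : act 3 n30186 = n64025 := rfl
def n64026 : Q := act 4 n30186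
theorem D64026 : act 4 n30186 = n64026 := rfl
def n64027 : Q := act 5 n30186
theorem D64027 : act 5 n30186 = n64027 := rfl
def n64028 : Q := act 6 n30186
theorem D64028 : act 6 n30186 = n64028 := rfl
def n64029 : Q := act 7 n30186
theorem D64029 : act 7 n30186 = n64029 := rfl
theorem F99623 : act 2 n64029 = n30187 := d4_1 D64029 F99622 (iv2 D64024)
def n64030 : Q := act 3 n30187
theorem D64030 : act 3 n30187 = n64030 := rfl
def n64031 : Q := act 4 n30187
theorem D64031 : act 4 n30187 = n64031 := rfl
def n64032 : Q := act 5 n30187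
theorem D64032 : act 5 n30187 = n64032 := rfl
def n64033 : Q := act 6 n30187
theorem D64033 : act 6 n30187 = n64033 := rfl
def n64034 : Q := act 0 n30188
theorem D64034 : act 0 n30188 = n64034 := rfl
theorem F99624 : act 1 n30190 = n64034 := d15_0 (iv0 D64034) (iv7 F99620) (iv2 F99618)
def n64035 : Q := act 1 n30188
theorem D64035 : act 1 n30188 = n64035 := rfl
theorem F99625 : act 1 n64035 = n30190 := d15_1 D64035 (iv7 D30190) D30188
def n64036 : Q := act 5 n30188
theorem D64036 : act 5 n30188 = n64036 := rfl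
theorem F99626 : act 2 n64036 = n30189 := d2_1 D64036 (iv5 D30189) D30188
theorem F99627 : act 3 n64036 = n30484 := d6_1 D64036 (iv5 D30484) (iv3 F48563)
def n64037 : Q := act 0 n30189
theorem D64037 : act 0 n30189 = n64037 := rfl
def n64038 : Q := act 1 n30189
theorem D64038 : act 1 n30189 = n64038 := rfl
def n64039 : Q := act 4 n30189
theorem D64039 : act 4 n30189 = n64039 := rfl
def n64040 : Q := act 6 n30189
theorem D64040 : act 6 n30189 = n64040 := rfl
theorem F99628 : act 3 n64040 = n30193 := d7_1 D64040 (iv6 D30193) (iv3 F48564)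
def n64041 : Q := act 6 n30190
theorem D64041 : act 6 n30190 = n64041 := rfl
theorem F99629 : act 3 n64041 = n30194 := d7_1 D64041 (iv6 D30194) (iv3 F48565)
def n64042 : Q := act 3 n30191
theorem D64042 : act 3 n30191 = n64042 := rfl
theorem F99630 : act 7 n64042 = n30495 := d8_2 (iv7 F76838) D64042 (iv3 D30495)
def n64043 : Q := act 6 n30191
theorem D64043 : act 6 n30191 = n64043 := rfl
theorem F99631 : act 2 n64043 = n30493 := d3_1 D64043 (iv6 D30493) (iv2 F76837)
def n64044 : Q := act 3 n30192
theorem D64044 : act 3 n30192 = n64044 := rfl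
theorem F99632 : act 7 n64044 = n30492 := d8_2 (iv7 F76840) D64044 (iv3 D30492)
def n64045 : Q := act 6 n30192
theorem D64045 : act 6 n30192 = n64045 := rfl
theorem F99633 : act 2 n64045 = n30496 := d3_1 D64045 (iv6 D30496) (iv2 F76839)
def n64046 : Q := act 0 n30193
theorem D64046 : act 0 n30193 = n64046 := rfl
def n64047 : Q := act 1 n30193
theorem D64047 : act 1 n30193 = n64047 := rfl
theorem F99634 : act 1 n64047 = n30501 := d15_1 D64047 (iv7 D30501) (iv2 F48568)
def n64048 : Q := act 7 n30193
theorem D64048 : act 7 n30193 = n64048 := rfl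
theorem F99635 : act 2 n64048 = n30501 := d4_1 D64048 (iv7 D30501) (iv2 F48568)
theorem F99636 : act 1 n30501 = n64046 := d15_0 (iv0 D64046) D64048 F99635
theorem F99637 : act 1 n30500 = n64048 := d15_1 D30500 (iv7 D64048) F48568
theorem F99638 : act 1 n64048 = n30499 := d15_0 (iv0 D30499) D30501 (iv2 F99635)
def n64049 : Q := act 0 n30194
theorem D64049 : act 0 n30194 = n64049 := rfl
theorem F99639 : act 1 n30262 = n64049 := d15_0 (iv0 D64049) (iv7 F99422) F99420
def n64050 : Q := act 1 n30194
theorem D64050 : act 1 n30194 = n64050 := rfl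
theorem F99640 : act 1 n64050 = n30262 := d15_1 D64050 F48641 (iv2 F48569)
def n64051 : Q := act 5 n30194
theorem D64051 : act 5 n30194 = n64051 := rfl
theorem F99641 : act 2 n64051 = n30505 := d2_1 D64051 (iv5 D30505) (iv2 F48569)
def n64052 : Q := act 2 n30195
theorem D64052 : act 2 n30195 = n64052 := rfl
theorem F99642 : act 7 n30196 = n64052 := d15_2 (iv0 D30195) D30196 (iv2 D64052)
def n64053 : Q := act 3 n30195
theorem D64053 : act 3 n30195 = n64053 := rfl
def n64054 : Q := act 4 n30195
theorem D64054 : act 4 n30195 = n64054 := rfl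
def n64055 : Q := act 5 n30195
theorem D64055 : act 5 n30195 = n64055 := rfl
theorem F99643 : act 0 n63943 = n64055 := d21_10 (iv5 D64055) (iv1 F48571) F23973 (iv6 D14359) F20323 (iv6 F40796) (iv5 D25811) D25809 F48493 D63943
def n64056 : Q := act 7 n30195
theorem D64056 : act 7 n30195 = n64056 := rfl
def n64057 : Q := act 3 n30196
theorem D64057 : act 3 n30196 = n64057 := rfl
theorem F99645 : act 4 n64057 = n59621 := d20_6 (iv4 F94145) (iv1 F41120) F24172 (iv3 F23972) (iv1 F48572) D64057 (iv1 D59621) F45803 F22652 D13525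
def n64058 : Q := act 4 n30196
theorem D64058 : act 4 n30196 = n64058 := rfl
def n64059 : Q := act 5 n30196
theorem D64059 : act 5 n30196 = n64059 := rfl
theorem F99646 : act 6 n64059 = n50555 := d21_3 F23973 (iv1 F48572) D64059 (iv1 F79930) (iv6 F99127) F99126 (iv1 F48349) D63554 (iv6 F98870) (iv1 F48571)
def n64060 : Q := act 6 n30196
theorem D64060 : act 6 n30196 = n64060 := rfl
theorem F99647 : act 5 n64060 = n50597 := d21_6 (iv5 D13970) F10771 (iv5 F11115) D14359 (iv1 F48572) D64060 (iv1 D50597) F38647 F47040 (iv1 D29367)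
theorem F99648 : act 0 n30434 = n64060 := d21_10 F99647 (iv1 D50597) F38647 F47040 (iv1 D29367) (iv6 F40821) (iv5 D25836) D25834 F84129 D30434
def n64061 : Q := act 3 n30197
theorem D64061 : act 3 n30197 = n64061 := rfl
theorem F99649 : act 4 n64061 = n58775 := d5_2 (iv4 F48573) D64061 (iv3 D58775) (iv4 D27947) D27946
theorem F99650 : act 7 n64061 = n58886 := d8_2 F48575 D64061 (iv3 D58886)
def n64062 : Q := act 5 n30197
theorem D64062 : act 5 n30197 = n64062 := rfl
theorem F99651 : act 7 n64062 = n58887 := d13_2 F48575 D64062 (iv5 D58887)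
theorem F99652 : act 0 n64062 = n50439 := d17_2 D30197 D64062 (iv5 D50439) (iv4 D24585) (iv5 F20327) F22288 F22285 F19011 D14332
theorem F99653 : act 1 n64062 = n50433 := d17_6 F39671 F39667 F49681 F49680 (iv4 F48573) D64062 (iv5 D50433) (iv0 F76844) (iv4 D48789)
def n64063 : Q := act 6 n30197
theorem D64063 : act 6 n30197 = n64063 := rfl
theorem F99654 : act 4 n64063 = n58774 := d10_1 D64063 (iv6 D58774) (iv4 F48573)
def n64064 : Q := act 3 n30198
theorem D64064 : act 3 n30198 = n64064 := rfl
theorem F99655 : act 4 n64064 = n51347 := d5_2 F48578 D64064 (iv3 D51347) F47898 (iv3 F47897)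
theorem F99656 : act 7 n64064 = n51477 := d8_2 F48581 D64064 F81260
def n64065 : Q := act 5 n30198
theorem D64065 : act 5 n30198 = n64065 := rfl
theorem F99657 : act 2 n64065 = n58887 := d2_1 D64065 (iv5 D58887) F48577
theorem F99658 : act 0 n64065 = n50433 := d17_2 (iv1 F48576) D64065 (iv5 D50433) (iv4 D24583) (iv5 F20284) F20330 F10419 F19630 D25082
theorem F99659 : act 1 n64065 = n50439 := d17_6 D27976 (iv5 F78581) (iv1 D49722) (iv5 F45265) F48578 D64065 (iv5 D50439) (iv0 F45237) (iv4 D27977)
def n64066 : Q := act 6 n30198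
theorem D64066 : act 6 n30198 = n64066 := rfl
theorem F99660 : act 2 n64066 = n58888 := d3_1 D64066 (iv6 D58888) F48577
theorem F99661 : act 4 n64066 = n58885 := d10_1 D64066 (iv6 D58885) F48578
def n64067 : Q := act 0 n30199
theorem D64067 : act 0 n30199 = n64067 := rfl
def n64068 : Q := act 1 n30199
theorem D64068 : act 1 n30199 = n64068 := rfl
def n64069 : Q := act 2 n30199
theorem D64069 : act 2 n30199 = n64069 := rfl
theorem F99662 : act 6 n64069 = n59924 := d3_2 F53378 D64069 (iv2 F94401)
def n64070 : Q := act 5 n30199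
theorem D64070 : act 5 n30199 = n64070 := rfl
theorem F99663 : act 3 n64070 = n30200 := d6_1 D64070 (iv5 D30200) D30199
def n64071 : Q := act 0 n30200
theorem D64071 : act 0 n30200 = n64071 := rfl
theorem F99664 : act 5 n64071 = n51640 := d17_3 (iv1 D30198) D30200 D64071 F81523 (iv5 D27940) (iv0 F22162) D24323 F45266 F48578
theorem F99665 : act 1 n51635 = n64071 := d15_0 (iv0 D64071) F76912 (iv2 F81507)
theorem F99666 : act 7 n58842 = n64071 := d13_0 F99664 (iv7 F81526) D58842
def n64072 : Q := act 1 n30200
theorem D64072 : act 1 n30200 = n64072 := rfl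
theorem F99667 : act 1 n64072 = n51635 := d15_1 D64072 F81509 F48583
theorem F99668 : act 5 n64072 = n51641 := d17_7 (iv1 D11918) (iv5 D5592) (iv1 F10117) D6844 D14332 D30200 D64072 F81527 (iv4 D25090)
theorem F99669 : act 2 n58842 = n64072 := d2_3 F99668 (iv2 F81530) D58842
def n64073 : Q := act 6 n30200
theorem D64073 : act 6 n30200 = n64073 := rfl
def n64074 : Q := act 5 n30201
theorem D64074 : act 5 n30201 = n64074 := rfl
theorem F99670 : act 2 n64074 = n64062 := d2_1 D64074 (iv5 D64062) F48579
theorem F99671 : act 4 n64074 = n48821 := d9_1 D64074 (iv5 D48821) (iv4 D23809) (iv5 F24295) D25272 (iv5 F39887) D27997 D58887 F93108 (iv5 D48814) (iv4 D23806) F37093 D25271 (iv5 F81256) F81259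
theorem F99672 : act 7 n64074 = n64065 := d13_2 (iv7 F48581) D64074 (iv5 D64065)
theorem F99673 : act 0 n64074 = n51643 := d17_2 D30201 D64074 (iv5 D51643) (iv4 D25088) (iv5 F22279) (iv0 D13398) F10365 (iv0 F20247) D14333
theorem F99674 : act 1 n64074 = n51646 := d17_6 (iv1 F49293) F49290 F39881 (iv5 F81256) F81259 D64074 (iv5 D51646) F81524 F81523
def n64075 : Q := act 6 n30201
theorem D64075 : act 6 n30201 = n64075 := rfl
theorem F99675 : act 2 n64075 = n64063 := d3_1 D64075 (iv6 D64063) F48579
def n64076 : Q := act 0 n30202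
theorem D64076 : act 0 n30202 = n64076 := rfl
def n64077 : Q := act 1 n30202
theorem D64077 : act 1 n30202 = n64077 := rfl
def n64078 : Q := act 2 n30202
theorem D64078 : act 2 n30202 = n64078 := rfl
theorem F99676 : act 3 n64078 = n64069 := d0_2 D30202 D64078 (iv2 D64069) (iv3 D30199) (iv2 F23945)
theorem F99677 : act 4 n64078 = n48664 := d1_2 (iv4 F48582) D64078 (iv2 D48664)
def n64079 : Q := act 5 n30202
theorem D64079 : act 5 n30202 = n64079 := rfl
theorem F99678 : act 3 n64079 = n30203 := d6_1 D64079 (iv5 D30203) D30202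
def n64080 : Q := act 0 n30203
theorem D64080 : act 0 n30203 = n64080 := rfl
theorem F99679 : act 5 n64080 = n48789 := d17_3 F45267 D30203 D64080 (iv4 D48789) (iv5 D23795) (iv0 F22130) D27923 F45094 D27997
theorem F99680 : act 2 n64071 = n64080 := d15_3 (iv0 D64080) (iv0 F93038) F99666
theorem F99681 : act 1 n48839 = n64080 := d15_0 (iv0 D64080) (iv7 F81509) F81507
theorem F99682 : act 7 n64080 = n64072 := d15_2 F93039 F99681 (iv2 F99669)
theorem F99683 : act 4 n64080 = n48807 := d16_0 (iv5 D48807) (iv4 D23803) (iv5 D11158) (iv4 F10354) D13349 D27977 D58842 F99666 F99680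
def n64081 : Q := act 4 n30203
theorem D64081 : act 4 n30203 = n64081 := rfl
theorem F99684 : act 2 n64081 = n48841 := d1_1 D64081 F76913 (iv2 F48583)
theorem F99685 : act 5 n64081 = n48785 := d9_2 D30203 D64081 F76826 F37086 F18101 D11621 D24570 (iv5 F76911) (iv4 D48839) (iv5 D23814) (iv4 D11162) (iv5 D5098) (iv4 F4826) D6845 D14333
theorem F99686 : act 7 n64081 = n48784 := d11_2 F81509 D64081 (iv4 F81508)
theorem F99687 : act 0 n64081 = n48838 := d17_0 F76909 (iv1 D31431) D31433 (iv4 F79809) (iv5 D50433) (iv0 F76844) (iv5 F99679) (iv0 D64080) D64081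
theorem F99688 : act 1 n64081 = n48837 := d18_6 (iv1 F39550) (iv4 D25135) (iv1 F20248) D14333 D30203 D64081 (iv4 F81516) F81519 F79828
def n64082 : Q := act 6 n30203
theorem D64082 : act 6 n30203 = n64082 := rfl
theorem F99689 : act 2 n64082 = n64073 := d3_1 D64082 (iv6 D64073) (iv2 F48583)
def n64083 : Q := act 3 n30204
theorem D64083 : act 3 n30204 = n64083 := rfl
theorem F99690 : act 4 n64083 = n52202 := d5_2 D30204 D64083 (iv3 D52202) (iv4 D25355) (iv3 F23947)
theorem F99691 : act 6 n64083 = n52197 := d7_2 (iv6 F48585) D64083 (iv3 D52197)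
def n64084 : Q := act 5 n30204
theorem D64084 : act 5 n30204 = n64084 := rfl
theorem F99692 : act 2 n64084 = n62943 := d2_1 D64084 (iv5 D62943) (iv2 F48584)
theorem F99693 : act 4 n64084 = n51661 := d16_2 D30204 D64084 F81574 (iv4 F39636) (iv5 D25191) F19719 D24151 F37856 (iv2 F23946)
theorem F99694 : act 0 n64084 = n48797 := d17_2 (iv1 F48587) D64084 (iv5 D48797) (iv4 D23798) (iv5 D11154) (iv0 D5096) D5098 D11161 D23809
theorem F99695 : act 1 n64084 = n48807 := d17_6 (iv1 D24155) (iv5 D11347) (iv1 F19408) D14334 D30204 D64084 (iv5 D48807) F76860 F76859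
def n64085 : Q := act 3 n30205
theorem D64085 : act 3 n30205 = n64085 := rfl
theorem F99696 : act 4 n64085 = n60514 := d5_2 D30205 D64085 (iv3 D60514) (iv4 D28739) (iv3 F23950)
def n64086 : Q := act 5 n30205
theorem D64086 : act 5 n30205 = n64086 := rfl
theorem F99697 : act 4 n64086 = n30258 := d9_1 D64086 F92806 (iv4 D58736) (iv5 D27926) (iv4 F22918) D14165 D29812 D63022 F98333 (iv5 F92797) (iv4 D58734) (iv5 D27924) F22131 D14335 D30205
theorem F99698 : act 0 n64086 = n62009 := d17_2 (iv1 F48589) D64086 (iv5 D62009) (iv4 D29363) (iv5 D13968) (iv0 D6639) D6643 D13972 D29372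
theorem F99699 : act 1 n64086 = n48774 := d17_6 F38384 (iv5 D6849) D6847 D14335 D30205 D64086 (iv5 D48774) (iv0 F47998) (iv4 D29834)
def n64087 : Q := act 6 n30205
theorem D64087 : act 6 n30205 = n64087 := rfl
theorem F99700 : act 4 n64087 = n30206 := d10_1 D64087 (iv6 D30206) D30205
def n64088 : Q := act 0 n30206
theorem D64088 : act 0 n30206 = n64088 := rfl
def n64089 : Q := act 1 n30206
theorem D64089 : act 1 n30206 = n64089 := rfl
def n64090 : Q := act 7 n30206
theorem D64090 : act 7 n30206 = n64090 := rfl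
theorem F99701 : act 3 n64090 = n60516 := d8_1 D64090 (iv7 D60516) (iv3 F48590)
def n64091 : Q := act 5 n30207
theorem D64091 : act 5 n30207 = n64091 := rfl
theorem F99702 : act 4 n64091 = n30250 := d9_1 D64091 (iv5 D30250) (iv4 F45108) (iv5 F45105) (iv4 F38382) (iv5 F38385) D29834 D63076 F98386 (iv5 D30247) (iv4 F46393) (iv5 F46392) F46388 F40707 D30207
theorem F99703 : act 0 n64091 = n60824 := d17_2 (iv1 F48592) D64091 (iv5 D60824) (iv4 D28853) (iv5 F38743) F38740 F19068 F23257 D23786
theorem F99704 : act 1 n64091 = n60827 := d17_6 (iv1 F47492) (iv5 D29590) (iv1 F40709) F40707 D30207 D64091 (iv5 D60827) (iv0 F83816) (iv4 D53105)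
def n64092 : Q := act 6 n30207
theorem D64092 : act 6 n30207 = n64092 := rfl
theorem F99705 : act 4 n64092 = n30208 := d10_1 D64092 (iv6 D30208) D30207
def n64093 : Q := act 0 n30208
theorem D64093 : act 0 n30208 = n64093 := rfl
def n64094 : Q := act 1 n30208
theorem D64094 : act 1 n30208 = n64094 := rfl
def n64095 : Q := act 7 n30208
theorem D64095 : act 7 n30208 = n64095 := rfl
theorem F99706 : act 3 n64095 = n63799 := d8_1 D64095 (iv7 D63799) (iv3 F48593)
def n64096 : Q := act 0 n30209
theorem D64096 : act 0 n30209 = n64096 := rfl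
def n64097 : Q := act 1 n30209
theorem D64097 : act 1 n30209 = n64097 := rfl
def n64098 : Q := act 2 n30209
theorem D64098 : act 2 n30209 = n64098 := rfl
theorem F99707 : act 3 n64098 = n63712 := d0_2 D30209 D64098 F99072 (iv3 D53109) F40694
theorem F99708 : act 4 n64098 = n49366 := d1_2 (iv4 F48594) D64098 (iv2 D49366)
theorem F99709 : act 6 n64098 = n63711 := d3_2 (iv6 F48595) D64098 (iv2 D63711)
def n64099 : Q := act 5 n30209
theorem D64099 : act 5 n30209 = n64099 := rfl
theorem F99710 : act 3 n64099 = n30210 := d6_1 D64099 (iv5 D30210) D30209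
def n64100 : Q := act 6 n30210
theorem D64100 : act 6 n30210 = n64100 := rfl
theorem F99711 : act 5 n64100 = n63712 := d12_1 D64100 (iv6 D63712) (iv5 D30070) (iv6 F23952) D30210
def n64101 : Q := act 3 n30212
theorem D64101 : act 3 n30212 = n64101 := rfl
theorem F99712 : act 4 n64101 = n30219 := d5_2 D30212 D64101 (iv3 D30219) (iv4 D14345) (iv3 F23957)
def n64102 : Q := act 6 n30212
theorem D64102 : act 6 n30212 = n64102 := rfl
theorem F99713 : act 2 n64102 = n61239 := d3_1 D64102 (iv6 D61239) (iv2 F48600)
theorem F99714 : act 4 n64102 = n30213 := d10_1 D64102 (iv6 D30213) D30212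
def n64103 : Q := act 0 n30213
theorem D64103 : act 0 n30213 = n64103 := rfl
theorem F99715 : act 6 n64103 = n30270 := d21_5 (iv5 D12045) (iv1 F19516) D14341 D30213 D64103 F79806 (iv1 D50429) D50430 F79805 F38591
def n64104 : Q := act 1 n30213
theorem D64104 : act 1 n30213 = n64104 := rfl
theorem F99716 : act 1 n64104 = n61242 := d15_1 D64104 (iv7 D61242) (iv2 F48602)
def n64105 : Q := act 7 n30213
theorem D64105 : act 7 n30213 = n64105 := rfl
theorem F99717 : act 2 n64105 = n61242 := d4_1 D64105 (iv7 D61242) (iv2 F48602)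
theorem F99718 : act 3 n64105 = n30224 := d8_1 D64105 (iv7 D30224) (iv3 F48603)
theorem F99719 : act 1 n61242 = n64103 := d15_0 (iv0 D64103) D64105 F99717
theorem F99720 : act 1 n61241 = n64105 := d15_1 D61241 (iv7 D64105) F48602
theorem F99721 : act 1 n64105 = n61240 := d15_0 (iv0 D61240) D61242 (iv2 F99717)
def n64106 : Q := act 3 n30214
theorem D64106 : act 3 n30214 = n64106 := rfl
theorem F99722 : act 4 n64106 = n63822 := d5_2 D30214 D64106 (iv3 D63822) (iv4 D30112) F23964
def n64107 : Q := act 5 n30214
theorem D64107 : act 5 n30214 = n64107 := rfl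
theorem F99723 : act 2 n64107 = n62661 := d2_1 D64107 (iv5 D62661) (iv2 F48604)
theorem F99724 : act 4 n64107 = n60833 := d16_2 D30214 D64107 (iv5 D60833) (iv4 F47971) F47970 (iv4 F40111) F23967 F23966 F23963
theorem F99725 : act 0 n64107 = n63903 := d17_2 F92798 D64107 (iv5 D63903) F48458 (iv5 F45686) F45689 D50936 F80350 D58734
theorem F99726 : act 1 n64107 = n63906 := d17_6 F20323 (iv5 D12257) (iv1 F20319) (iv5 F23961) D30214 D64107 (iv5 D63906) F48453 F23971
def n64108 : Q := act 6 n30214
theorem D64108 : act 6 n30214 = n64108 := rfl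
theorem F99727 : act 2 n64108 = n62658 := d3_1 D64108 F97749 (iv2 F48604)
theorem F99728 : act 4 n64108 = n30215 := d10_1 D64108 (iv6 D30215) D30214
def n64109 : Q := act 0 n30215
theorem D64109 : act 0 n30215 = n64109 := rfl
theorem F99729 : act 5 n64109 = n63555 := d21_2 (iv5 F48607) D64109 (iv6 D63555) (iv1 D30007) (iv6 D14245) (iv5 F19593) F24096 F24095 (iv6 F24099) F40725
theorem F99730 : act 6 n64109 = n64055 := d21_5 (iv5 D12257) (iv1 F20319) (iv5 F23961) D30215 D64109 (iv5 D64055) (iv1 F48571) F23973 (iv6 D14359) F20323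
theorem F99731 : act 0 n63555 = n63977 := d21_1 F99729 (iv5 D63977) F99388 (iv1 D53230) F40796 (iv5 D12257) (iv1 F20319) (iv5 F23961) D30215 D64109
theorem F99732 : act 1 n30367 = n64109 := d15_0 (iv0 D64109) (iv7 F99511) F99508
def n64110 : Q := act 1 n30215
theorem D64110 : act 1 n30215 = n64110 := rfl
theorem F99733 : act 1 n64110 = n30367 := d15_1 D64110 F48800 (iv2 F48605)
theorem F99734 : act 5 n63579 = n64110 := d21_6 (iv5 F23073) (iv1 D11633) (iv5 F11037) D14250 D30019 D63579 (iv1 D64110) F48607 (iv6 D25777) (iv1 F23072)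
theorem F99735 : act 6 n64110 = n30297 := d12_2 D63579 F99734 (iv5 F80050) (iv6 D50691) (iv5 F80034)
theorem F99736 : act 7 n64110 = n62656 := d13_2 F99116 F99734 (iv5 F99115)
theorem F99737 : act 0 n63977 = n63579 := d21_1 D63977 F99734 F99735 (iv1 D30297) (iv6 D14380) (iv5 F22549) F23931 (iv5 D14320) D14321 D30169
theorem F99738 : act 2 n62656 = n64109 := d15_3 (iv0 D64109) D64110 F99736
theorem F99739 : act 2 n64110 = n62657 := d15_3 F99514 (iv0 F99512) (iv7 F99736)
theorem F99740 : act 7 n62657 = n64109 := d4_2 (iv7 F99736) F99739 (iv2 F99738)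
theorem F99741 : act 2 n63555 = n63749 := d2_3 F99115 F99738 F99729
theorem F99742 : act 2 n64055 = n30509 := d3_3 (iv6 F97748) F99738 F99730
theorem E8849 : n30506 = n30195 := (c2_4 D64055 F99742 (iv5 D30509) D30506)
theorem E8850 : n64052 = n14478 := ((D64052).symm.trans (sb E8849 (iv2 D30506)))
theorem E8851 : n64056 = n14479 := ((D64056).symm.trans (sb E8849 (iv7 F48898)))
theorem F99743 : act 2 n14478 = n30195 := (sb E8850 (iv2 D64052))
theorem E8852 : n30511 = n30196 := ((D30511).symm.trans (sb E8850 (iv7 F99642)))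
theorem F99744 : act 7 n14479 = n30195 := (sb E8851 (iv7 D64056))
theorem F99745 : act 2 n30196 = n14479 := (sb E8852 F48904)
theorem F99746 : act 7 n30196 = n14478 := (sb E8852 (iv7 D30511))
theorem F99747 : act 7 n30507 = n64057 := d8_2 F99746 D30507 (iv3 D64057)
theorem F99748 : act 7 n30508 = n64058 := d11_2 F99746 D30508 (iv4 D64058)
theorem F99749 : act 7 n30509 = n64059 := d13_2 F99746 D30509 (iv5 D64059)
theorem F99750 : act 7 n50555 = n30297 := d14_2 F99749 F99646 (iv6 F99735) F99736 F97748
theorem F99751 : act 1 n63943 = n64059 := d15_1 (iv0 F99643) (iv7 F99749) (iv2 F99742)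
theorem F99752 : act 2 n30297 = n50556 := d15_3 F79923 F79930 F99750
theorem F99753 : act 2 n50555 = n30296 := d15_3 (iv0 D30296) D30297 (iv7 F99750)
theorem F99754 : act 2 n30514 = n64059 := d3_3 F99646 F99753 F48905
theorem F99755 : act 7 n30296 = n50556 := d4_2 (iv7 F99750) F99753 (iv2 F99752)
theorem F99756 : act 7 n64055 = n30514 := d4_0 F99754 (iv7 F99749) (iv2 F99742)
theorem F99757 : act 6 n50556 = n62657 := d14_3 F99756 (iv6 F48905) F99755 F99740 F99730
theorem F99758 : act 1 n30330 = n30514 := d15_1 (iv0 F48899) (iv7 F99756) F99742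
theorem F99759 : act 2 n30513 = n64058 := d1_3 (iv4 D64058) F99745 D30513
theorem F99760 : act 2 n30515 = n64060 := d3_3 (iv6 D64060) F99745 D30515
theorem E8853 : n50619 = n50597 := ((c2_3 (iv5 F48906) F99760 F99647 F79994)).symm
theorem F99761 : act 2 n50597 = n24653 := (sb E8853 F79994)
theorem F99762 : act 7 n50597 = n24652 := (sb E8853 (iv7 D50619))
theorem F99763 : act 7 n50617 = n64060 := d15_2 (iv0 F99576) (iv0 F99577) (iv2 F99760)
theorem F99764 : act 7 n30510 = n63550 := d14_4 F99763 (iv6 D64060) F99746 D30510 F98867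
theorem E8854 : n63551 = n30082 := (c13_3 F99764 (iv5 D63550) D63551 (iv5 F48900))
theorem E8855 : n63746 = n30007 := (((iv2 F99113)).symm.trans (sb E8854 F98869))
theorem E8856 : n63742 = n30006 := ((F99110).symm.trans (sb E8854 (iv7 D63551)))
theorem F99765 : act 2 n30007 = n30082 := (sb E8855 F99113)
theorem E8857 : n63547 = n30081 := ((F98866).symm.trans (sb E8855 (iv7 D63746)))
theorem E8858 : n63580 = n53146 := (((F83900).symm.trans (sb E8856 F99109))).symm
theorem F99766 : act 7 n30006 = n30082 := (sb E8856 (iv7 F99110))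
theorem F99767 : act 2 n30081 = n30006 := (sb E8857 (iv2 D63547))
theorem F99768 : act 7 n30081 = n30007 := (sb E8857 (iv7 F98866))
theorem F99769 : act 2 n53146 = n30020 := (sb E8858 F98913)
theorem E8859 : n50692 = n50618 := ((((iv5 F83897)).symm.trans (sb E8858 F98914))).symm
theorem F99770 : act 7 n53146 = n30019 := (sb E8858 (iv7 D63580))
theorem F99771 : act 2 n50618 = n24681 := (sb E8859 F80051)
theorem F99772 : act 7 n50618 = n24680 := (sb E8859 (iv7 D50692))
theorem F99773 : act 2 n63550 = n63745 := d15_3 (iv0 F99550) (iv0 F99549) F99764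
theorem E8860 : n50688 = n50669 := (c15_4 (iv0 D50669) (iv0 F83898) F99772 D50688)
theorem F99774 : act 2 n50669 = n24680 := (sb E8860 (iv2 D50688))
theorem E8861 : n63576 = n53145 := ((((iv5 F83894)).symm.trans (sb E8860 (iv5 F98910)))).symm
theorem F99775 : act 7 n50669 = n24681 := (sb E8860 (iv7 F80049))
theorem F99776 : act 2 n53145 = n30019 := (sb E8861 (iv2 D63576))
theorem F99777 : act 7 n53145 = n30020 := (sb E8861 (iv7 F98911))
theorem E8862 : n50614 = n50596 := ((c3_3 D50618 F99771 (iv6 F83964) (iv2 D50614))).symm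
theorem F99778 : act 2 n50596 = n24652 := (sb E8862 (iv2 D50614))
theorem F99779 : act 7 n50596 = n24653 := (sb E8862 (iv7 F79993))
theorem F99780 : act 7 n63552 = n63743 := d8_2 F99768 D63552 (iv3 D63743)
theorem F99781 : act 7 n63553 = n63744 := d11_2 F99768 D63553 (iv4 D63744)
theorem F99782 : act 7 n63554 = n63745 := d13_2 F99768 D63554 (iv5 D63745)
theorem F99783 : act 2 n30510 = n63554 := d4_3 F99782 (iv2 F99773) (iv7 F99764)
theorem F99784 : act 1 n30410 = n63554 := d15_1 (iv0 F98868) F99782 (iv2 F99773)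
theorem F99785 : act 2 n63549 = n63744 := d1_3 (iv4 D63744) F99767 D63549
theorem F99786 : act 7 n63747 = n63548 := d8_2 F99766 D63747 (iv3 D63548)
theorem F99787 : act 7 n63748 = n63549 := d11_2 F99766 D63748 (iv4 D63549)
theorem F99788 : act 2 n63553 = n63748 := d4_3 F99787 F99785 (iv7 F99781)
theorem F99789 : act 7 n64053 = n30512 := d8_2 F99744 D64053 (iv3 D30512)
theorem F99790 : act 7 n64054 = n30513 := d11_2 F99744 D64054 (iv4 D30513)
theorem F99791 : act 2 n30508 = n64054 := d4_3 F99790 F99759 (iv7 F99748)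
theorem F99792 : act 1 n63555 = n63792 := d15_0 (iv0 F99153) (iv7 F99116) (iv2 F99741)
def n64111 : Q := act 3 n30216
theorem D64111 : act 3 n30216 = n64111 := rfl
theorem F99793 : act 4 n64111 = n30527 := d5_2 D30216 D64111 (iv3 D30527) (iv4 D14484) (iv3 F23968)
theorem F99794 : act 7 n64111 = n62660 := d8_2 (iv7 F48608) D64111 (iv3 D62660)
def n64112 : Q := act 5 n30216
theorem D64112 : act 5 n30216 = n64112 := rfl
theorem F99795 : act 4 n64112 = n60836 := d9_1 D64112 (iv5 D60836) (iv4 F46662) F46661 F38314 (iv5 F23961) D30214 D64107 F99724 (iv5 D60833) (iv4 F47971) F47970 (iv4 F40111) F23967 D30216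
theorem F99796 : act 7 n64112 = n62661 := d13_2 (iv7 F48608) D64112 (iv5 D62661)
theorem F99797 : act 0 n64112 = n63906 := d17_2 F92804 D64112 (iv5 D63906) F48454 F48138 (iv0 F40106) D31407 F49674 D58736
theorem F99798 : act 1 n64112 = n63903 := d17_6 D14305 (iv5 F37834) (iv1 F37836) F23967 D30216 D64112 (iv5 D63903) (iv0 D30140) (iv4 D14306)
def n64113 : Q := act 3 n30217
theorem D64113 : act 3 n30217 = n64113 := rfl
theorem F99799 : act 4 n64113 = n60577 := d5_2 (iv4 F48609) D64113 (iv3 D60577) (iv4 D28768) (iv3 F46394)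
def n64114 : Q := act 5 n30217
theorem D64114 : act 5 n30217 = n64114 := rfl
theorem F99800 : act 4 n64114 = n60824 := d16_2 (iv4 F48609) D64114 (iv5 D60824) (iv4 D28853) (iv5 F38743) (iv4 F45682) (iv5 F78913) (iv7 F80348) F80346
theorem F99801 : act 0 n64114 = n63897 := d17_2 D30217 D64114 (iv5 D63897) (iv4 D30138) (iv5 F37834) F37837 (iv5 F23961) (iv0 D14343) D14345
theorem F99802 : act 1 n64114 = n53235 := d17_6 F47022 (iv5 F45105) F37937 D28758 (iv4 F48609) D64114 (iv5 D53235) D53233 F84079
def n64115 : Q := act 6 n30217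
theorem D64115 : act 6 n30217 = n64115 := rfl
theorem F99803 : act 4 n64115 = n60556 := d10_1 D64115 F95173 (iv4 F48609)
def n64116 : Q := act 3 n30218
theorem D64116 : act 3 n30218 = n64116 := rfl
def n64117 : Q := act 5 n30218
theorem D64117 : act 5 n30218 = n64117 := rfl
theorem F99804 : act 4 n64117 = n60827 := d9_1 D64117 (iv5 D60827) (iv4 D28855) F23262 (iv4 F22963) D28758 (iv4 F48609) D64114 F99800 (iv5 D60824) (iv4 D28853) (iv5 F38743) (iv4 F45682) (iv5 F78913) (iv4 F78915)
theorem F99805 : act 0 n64117 = n53235 := d17_2 (iv1 F48611) D64117 (iv5 D53235) (iv4 D25813) (iv5 D12257) D12256 F23967 F23965 D14347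
theorem F99806 : act 1 n64117 = n63897 := d17_6 D27927 (iv5 F46392) (iv1 F46390) (iv5 F78913) (iv4 F78915) D64117 (iv5 D63897) F48449 (iv4 D27929)
def n64118 : Q := act 0 n30219
theorem D64118 : act 0 n30219 = n64118 := rfl
def n64119 : Q := act 1 n30219
theorem D64119 : act 1 n30219 = n64119 := rfl
def n64120 : Q := act 2 n30219
theorem D64120 : act 2 n30219 = n64120 := rfl
def n64121 : Q := act 5 n30219
theorem D64121 : act 5 n30219 = n64121 := rfl
theorem F99807 : act 3 n64121 = n30220 := d6_1 D64121 (iv5 D30220) D30219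
def n64122 : Q := act 6 n30219
theorem D64122 : act 6 n30219 = n64122 := rfl
theorem F99808 : act 3 n64122 = n30221 := d7_1 D64122 (iv6 D30221) D30219
def n64123 : Q := act 0 n30220
theorem D64123 : act 0 n30220 = n64123 := rfl
theorem F99809 : act 5 n64123 = n30232 := d17_1 D64123 (iv1 F48622) D30241 (iv4 F96929) (iv5 D62176) F47175 D30210 F48596 (iv4 F48612)
theorem F99810 : act 4 n64123 = n48772 := d18_3 (iv1 F48637) (iv4 F48612) D64123 (iv5 D48772) (iv4 D23785) (iv0 F19433) D13776 D28912 (iv5 F48636)
theorem F99811 : act 1 n30226 = n64123 := d15_0 (iv0 D64123) (iv7 F96686) F96684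
theorem F99812 : act 7 n58741 = n64123 := d11_0 F99810 (iv7 F96598) F96599
def n64124 : Q := act 1 n30220
theorem D64124 : act 1 n30220 = n64124 := rfl
theorem F99813 : act 1 n64124 = n30226 := d15_1 D64124 (iv7 F96634) F96633
theorem F99814 : act 5 n64124 = n30233 := d17_7 (iv1 D6857) (iv5 D3095) D3093 D6852 D14345 D30220 D64124 F48624 (iv4 D14352)
theorem F99815 : act 2 n58741 = n64124 := d2_3 F99814 (iv2 F48626) D58741
theorem F99816 : act 4 n60818 = n64124 := d9_15 F99814 F48625 (iv5 D23784) F18082 D11141 D23785 D48772 (iv4 F99810) F99809 F48621 F45113 F22137 D13750 D28848 D60818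
theorem F99817 : act 0 n63925 = n30227 := d21_4 D14434 D30393 F48825 D63925 (iv6 D30227) D30226 (iv1 F99813) F99814 (iv6 F48627) (iv1 D14432)
def n64125 : Q := act 6 n30220
theorem D64125 : act 6 n30220 = n64125 := rfl
theorem F99818 : act 4 n64125 = n60843 := d10_1 D64125 (iv6 D60843) (iv4 F48612)
def n64126 : Q := act 0 n30221
theorem D64126 : act 0 n30221 = n64126 := rfl
def n64127 : Q := act 1 n30221
theorem D64127 : act 1 n30221 = n64127 := rfl
def n64128 : Q := act 5 n30221
theorem D64128 : act 5 n30221 = n64128 := rfl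
def n64129 : Q := act 7 n30221
theorem D64129 : act 7 n30221 = n64129 := rfl
theorem F99819 : act 4 n64129 = n30224 := d11_1 D64129 (iv7 D30224) (iv4 F48613)
def n64130 : Q := act 2 n30222
theorem D64130 : act 2 n30222 = n64130 := rfl
theorem F99820 : act 6 n64130 = n30322 := d3_2 (iv6 F48753) D64130 (iv2 D30322)
theorem F99821 : act 7 n30223 = n64130 := d15_2 (iv0 D30222) D30223 (iv2 D64130)
def n64131 : Q := act 3 n30222
theorem D64131 : act 3 n30222 = n64131 := rfl
theorem F99822 : act 6 n64131 = n30323 := d7_2 (iv6 F48753) D64131 (iv3 D30323)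
def n64132 : Q := act 4 n30222
theorem D64132 : act 4 n30222 = n64132 := rfl
theorem F99823 : act 6 n64132 = n30324 := d10_2 (iv6 F48753) D64132 (iv4 D30324)
def n64133 : Q := act 7 n30222
theorem D64133 : act 7 n30222 = n64133 := rfl
theorem F99824 : act 2 n64133 = n30223 := d4_1 D64133 F99821 (iv2 D64130)
def n64134 : Q := act 3 n30223
theorem D64134 : act 3 n30223 = n64134 := rfl
def n64135 : Q := act 4 n30223
theorem D64135 : act 4 n30223 = n64135 := rfl
def n64136 : Q := act 6 n30223
theorem D64136 : act 6 n30223 = n64136 := rfl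
theorem F99825 : act 5 n64136 = n30330 := d12_1 D64136 (iv6 D30330) D30329 (iv6 F48855) F48856
theorem F99826 : act 7 n64136 = n30330 := d14_2 (iv7 F99821) D64136 (iv6 D30330) F48751 (iv6 F99820)
theorem F99827 : act 0 n64136 = n64059 := d21_10 (iv5 D64059) (iv1 D30196) F23944 (iv6 D14331) (iv1 F11097) D6909 D14455 D30440 F48856 D64136
theorem F99828 : act 0 n64055 = n64136 := d21_4 (iv5 F99152) (iv1 F99792) (iv5 F99729) F99730 (iv6 D64136) (iv5 F48856) (iv1 F53439) F53436 F48545 (iv1 F48529)
theorem F99829 : act 2 n30330 = n63943 := d15_3 F99751 (iv0 F99827) F99826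
theorem E8863 : n63940 = n14389 := (c3_4 D30330 F99829 (iv6 D63943) (iv2 F99466))
theorem E8864 : n30326 = n30155 := (((iv2 F48755)).symm.trans (sb E8863 F99466))
theorem E8865 : n53222 = n30329 := (((D30329).symm.trans (sb E8863 F99467))).symm
theorem E8866 : n30322 = n30154 := ((F48751).symm.trans (sb E8863 (iv7 D63940)))
theorem F99830 : act 2 n30155 = n14389 := (sb E8864 F48755)
theorem E8867 : n63937 = n14388 := ((F99464).symm.trans (sb E8864 (iv7 D30326)))
theorem F99831 : act 2 n30329 = n25809 := (sb E8865 (iv2 D53222))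
theorem F99832 : act 7 n30329 = n25810 := (sb E8865 (iv7 F84065))
theorem E8868 : n64130 = n53297 := ((((iv6 F84136)).symm.trans (sb E8866 (iv6 F99820)))).symm
theorem F99833 : act 7 n30154 = n14389 := (sb E8866 (iv7 F48751))
theorem F99834 : act 2 n14388 = n30154 := (sb E8867 (iv2 D63937))
theorem E8869 : n53225 = n30325 := (((D30325).symm.trans (sb E8867 F99463))).symm
theorem F99835 : act 7 n14388 = n30155 := (sb E8867 (iv7 F99464))
theorem F99836 : act 2 n53297 = n30222 := (sb E8868 (iv2 D64130))
theorem F99837 : act 7 n53297 = n30223 := (sb E8868 (iv7 F99821))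
theorem F99838 : act 2 n30325 = n25810 := (sb E8869 F84066)
theorem F99839 : act 7 n30325 = n25809 := (sb E8869 (iv7 D53225))
theorem F99840 : act 7 n30440 = n34056 := d13_2 F99837 (iv5 F48856) (iv5 F84137)
theorem E8870 : n64133 = n53298 := (c15_4 F84138 F84146 F99837 (iv2 F99824))
theorem F99841 : act 2 n53298 = n30223 := (sb E8870 F99824)
theorem F99842 : act 7 n53298 = n30222 := (sb E8870 (iv7 D64133))
theorem F99843 : act 7 n30441 = n34055 := d13_2 F99842 F48857 F84139
theorem F99844 : act 2 n34055 = n30440 := d15_3 (iv0 D30440) D30441 F99843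
theorem F99845 : act 2 n30441 = n34056 := d4_1 (iv7 F99843) (iv7 F99840) (iv2 F99844)
theorem F99846 : act 7 n63941 = n30323 := d8_2 F99835 D63941 (iv3 D30323)
theorem F99847 : act 7 n63942 = n30324 := d11_2 F99835 D63942 (iv4 D30324)
theorem F99848 : act 2 n63939 = n30324 := d1_3 (iv4 D30324) F99834 D63939
theorem F99850 : act 7 n30328 = n63939 := d11_2 F99833 D30328 (iv4 D63939)
theorem F99851 : act 2 n63942 = n30328 := d4_3 F99850 F99848 (iv7 F99847)
def n64137 : Q := act 0 n30225
theorem D64137 : act 0 n30225 = n64137 := rfl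
def n64138 : Q := act 1 n30225
theorem D64138 : act 1 n30225 = n64138 := rfl
def n64139 : Q := act 2 n30225
theorem D64139 : act 2 n30225 = n64139 := rfl
def n64140 : Q := act 5 n30225
theorem D64140 : act 5 n30225 = n64140 := rfl
theorem F99852 : act 3 n64140 = n30226 := d6_1 D64140 (iv5 D30226) D30225
def n64141 : Q := act 6 n30225
theorem D64141 : act 6 n30225 = n64141 := rfl
theorem F99853 : act 3 n64141 = n30227 := d7_1 D64141 (iv6 D30227) D30225
def n64142 : Q := act 6 n30226
theorem D64142 : act 6 n30226 = n64142 := rfl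
def n64143 : Q := act 0 n30227
theorem D64143 : act 0 n30227 = n64143 := rfl
def n64144 : Q := act 5 n30227
theorem D64144 : act 5 n30227 = n64144 := rfl
def n64145 : Q := act 7 n30227
theorem D64145 : act 7 n30227 = n64145 := rfl
theorem F99854 : act 4 n64145 = n30229 := d11_1 D64145 (iv7 D30229) (iv4 F48614)
theorem F99855 : act 1 n30309 = n64145 := d15_1 (iv0 F99369) (iv7 D64145) (iv2 F99367)
def n64146 : Q := act 4 n30228
theorem D64146 : act 4 n30228 = n64146 := rfl
theorem F99856 : act 7 n64146 = n30301 := d11_2 (iv7 F48903) D64146 F48732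
def n64147 : Q := act 3 n30230
theorem D64147 : act 3 n30230 = n64147 := rfl
theorem F99857 : act 4 n64147 = n30234 := d5_2 D30230 D64147 (iv3 D30234) (iv4 D14350) D14349
theorem F99858 : act 7 n64147 = n49759 := d8_2 (iv7 F48617) D64147 (iv3 D49759)
def n64148 : Q := act 6 n30230
theorem D64148 : act 6 n30230 = n64148 := rfl
theorem F99859 : act 2 n64148 = n49758 := d3_1 D64148 (iv6 D49758) (iv2 F48616)
theorem F99860 : act 4 n64148 = n30231 := d10_1 D64148 (iv6 D30231) D30230
def n64149 : Q := act 0 n30231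
theorem D64149 : act 0 n30231 = n64149 := rfl
def n64150 : Q := act 1 n30231
theorem D64150 : act 1 n30231 = n64150 := rfl
def n64151 : Q := act 7 n30231
theorem D64151 : act 7 n30231 = n64151 := rfl
theorem F99861 : act 3 n64151 = n30239 := d8_1 D64151 (iv7 D30239) (iv3 F48620)
theorem F99862 : act 5 n64151 = n50553 := d13_1 D64151 F81155 (iv5 F81152)
def n64152 : Q := act 3 n30232
theorem D64152 : act 3 n30232 = n64152 := rfl
theorem F99863 : act 4 n64152 = n58758 := d5_2 (iv4 F48621) D64152 F92852 F45133 (iv3 F45112)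
theorem F99864 : act 7 n64152 = n58740 := d8_2 F48623 D64152 (iv3 D58740)
def n64153 : Q := act 6 n30232
theorem D64153 : act 6 n30232 = n64153 := rfl
theorem F99865 : act 4 n64153 = n58742 := d10_1 D64153 (iv6 D58742) (iv4 F48621)
theorem F99866 : act 7 n64153 = n30386 := d14_2 F48623 D64153 (iv6 D30386) (iv7 F38873) (iv6 F45110)
def n64154 : Q := act 3 n30233
theorem D64154 : act 3 n30233 = n64154 := rfl
theorem F99867 : act 6 n64154 = n30387 := d7_2 F48627 D64154 (iv3 D30387)
def n64155 : Q := act 0 n30234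
theorem D64155 : act 0 n30234 = n64155 := rfl
def n64156 : Q := act 1 n30234
theorem D64156 : act 1 n30234 = n64156 := rfl
def n64157 : Q := act 2 n30234
theorem D64157 : act 2 n30234 = n64157 := rfl
def n64158 : Q := act 5 n30234
theorem D64158 : act 5 n30234 = n64158 := rfl
theorem F99868 : act 3 n64158 = n30235 := d6_1 D64158 (iv5 D30235) D30234
def n64159 : Q := act 6 n30234
theorem D64159 : act 6 n30234 = n64159 := rfl
theorem F99869 : act 3 n64159 = n30236 := d7_1 D64159 (iv6 D30236) D30234
def n64160 : Q := act 0 n30235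
theorem D64160 : act 0 n30235 = n64160 := rfl
theorem F99870 : act 5 n64160 = n62017 := d17_1 D64160 (iv1 D62017) D62019 F96635 (iv5 D60821) F47055 (iv5 F95533) (iv0 D60986) (iv4 F48628)
theorem F99871 : act 4 n64160 = n62021 := d18_3 (iv1 D60987) (iv4 F48628) D64160 (iv5 D62021) (iv4 D29369) (iv0 D13971) D13973 D29375 (iv5 F95537)
theorem F99872 : act 1 n30241 = n64160 := d15_0 (iv0 D64160) (iv7 F84084) F84083
theorem F99873 : act 2 n64117 = n64160 := d1_3 F99871 F96639 (iv4 F99804)
theorem F99874 : act 7 n64114 = n64160 := d11_0 F99871 F96640 (iv4 F99800)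
def n64161 : Q := act 1 n30235
theorem D64161 : act 1 n30235 = n64161 := rfl
theorem F99875 : act 1 n64161 = n30241 := d15_1 D64161 (iv7 F99374) F99372
theorem F99876 : act 7 n64161 = n64117 := d15_2 (iv0 D64160) D64161 F99873
theorem F99877 : act 5 n64161 = n62016 := d17_7 F23502 (iv5 D14072) F23496 (iv5 F22283) D14350 D30235 D64161 (iv0 D62016) (iv4 D29368)
theorem F99878 : act 2 n64114 = n64161 := d2_3 F99877 (iv2 F96625) D64114
theorem F99879 : act 4 n62029 = n64161 := d9_15 F99877 F96623 (iv5 D50936) (iv4 D24767) F23894 D29369 D62021 (iv4 F99871) F99870 F96629 (iv5 D31407) F24457 F23902 D29372 D62029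
def n64162 : Q := act 6 n30235
theorem D64162 : act 6 n30235 = n64162 := rfl
theorem F99880 : act 4 n64162 = n60988 := d10_1 D64162 (iv6 D60988) (iv4 F48628)
def n64163 : Q := act 0 n30236
theorem D64163 : act 0 n30236 = n64163 := rfl
def n64164 : Q := act 1 n30236
theorem D64164 : act 1 n30236 = n64164 := rfl
def n64165 : Q := act 5 n30236
theorem D64165 : act 5 n30236 = n64165 := rfl
def n64166 : Q := act 7 n30236
theorem D64166 : act 7 n30236 = n64166 := rfl
theorem F99881 : act 4 n64166 = n30239 := d11_1 D64166 (iv7 D30239) (iv4 F48629)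
def n64167 : Q := act 2 n30237
theorem D64167 : act 2 n30237 = n64167 := rfl
theorem F99882 : act 6 n64167 = n30435 := d3_2 (iv6 F83879) D64167 F48854
theorem F99883 : act 7 n30238 = n64167 := d15_2 (iv0 D30237) D30238 (iv2 D64167)
def n64168 : Q := act 3 n30237
theorem D64168 : act 3 n30237 = n64168 := rfl
theorem F99884 : act 6 n64168 = n30436 := d7_2 (iv6 F83879) D64168 (iv3 D30436)
def n64169 : Q := act 4 n30237
theorem D64169 : act 4 n30237 = n64169 := rfl
theorem F99885 : act 6 n64169 = n30437 := d10_2 (iv6 F83879) D64169 (iv4 D30437)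
def n64170 : Q := act 5 n30237
theorem D64170 : act 5 n30237 = n64170 := rfl
def n64171 : Q := act 7 n30237
theorem D64171 : act 7 n30237 = n64171 := rfl
theorem F99886 : act 2 n64171 = n30238 := d4_1 D64171 F99883 (iv2 D64167)
def n64172 : Q := act 3 n30238
theorem D64172 : act 3 n30238 = n64172 := rfl
def n64173 : Q := act 4 n30238
theorem D64173 : act 4 n30238 = n64173 := rfl
theorem F99887 : act 0 n64173 = n30248 := d18_2 (iv1 F99384) D64173 (iv4 F92809) (iv5 F93030) F93029 F81554 F79922 F79820 (iv5 F99382)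
def n64174 : Q := act 5 n30238
theorem D64174 : act 5 n30238 = n64174 := rfl
theorem F99888 : act 6 n64174 = n51543 := d21_3 (iv5 F99382) (iv1 F99384) D64174 (iv1 D51543) (iv6 D25040) (iv5 D11889) (iv1 F8494) D11655 D24618 (iv1 F79821)
def n64175 : Q := act 6 n30238
theorem D64175 : act 6 n30238 = n64175 := rfl
theorem F99889 : act 7 n64175 = n30434 := d14_2 (iv7 F99883) D64175 (iv6 D30434) D30435 (iv6 F99882)
theorem F99890 : act 5 n64175 = n30369 := d21_6 (iv5 F48493) (iv1 F78198) F78194 (iv6 F99383) (iv1 F99384) D64175 (iv1 F81364) F81354 F48516 (iv1 F48492)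
theorem F99891 : act 7 n30369 = n51554 := d13_2 (iv7 F99889) F99890 (iv5 F81352)
theorem F99892 : act 0 n64175 = n50617 := d21_1 (iv5 F99890) (iv5 D50617) D50618 F83898 (iv6 D24674) (iv5 F22490) F22485 D6898 (iv6 F24065) D30369
theorem F99893 : act 2 n30434 = n63998 := d15_3 (iv0 F99577) (iv0 F99892) F99889
theorem F99894 : act 2 n30370 = n51554 := d2_3 (iv5 F81352) F99893 F99575
theorem E8871 : n63995 = n14453 := (c3_4 D30434 F99893 (iv6 D63998) D63995)
theorem E8872 : n30430 = n30176 := ((D30430).symm.trans (sb E8871 (iv2 D63995)))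
theorem E8873 : n30435 = n30177 := ((D30435).symm.trans (sb E8871 (iv7 F99574)))
theorem F99895 : act 2 n30176 = n14453 := (sb E8872 (iv2 D30430))
theorem E8874 : n53290 = n53172 := ((((iv5 F83977)).symm.trans (sb E8872 (iv5 F84128)))).symm
theorem E8875 : n63999 = n14454 := ((D63999).symm.trans (sb E8872 (iv7 F48853)))
theorem E8876 : n53294 = n53173 := (((F83979).symm.trans (sb E8873 (iv5 F84134)))).symm
theorem E8877 : n64167 = n63899 := ((((iv6 F99377)).symm.trans (sb E8873 (iv6 F99882)))).symm
theorem F99896 : act 7 n30177 = n14453 := (sb E8873 (iv7 D30435))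
theorem F99897 : act 2 n53172 = n25834 := (sb E8874 (iv2 D53290))
theorem F99898 : act 7 n53172 = n25835 := (sb E8874 (iv7 F84127))
theorem F99899 : act 2 n14454 = n30177 := (sb E8875 F99579)
theorem F99900 : act 7 n14454 = n30176 := (sb E8875 (iv7 D63999))
theorem F99901 : act 2 n53173 = n25835 := (sb E8876 F84133)
theorem F99902 : act 7 n53173 = n25834 := (sb E8876 (iv7 D53294))
theorem F99904 : act 7 n63899 = n30238 := (sb E8877 (iv7 F99883))
theorem E8878 : n64171 = n63900 := (c15_4 F99379 (iv0 F99378) F99904 (iv2 F99886))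
theorem F99905 : act 2 n63900 = n30238 := (sb E8878 F99886)
theorem F99906 : act 7 n63900 = n30237 := (sb E8878 (iv7 D64171))
theorem F99908 : act 7 n63997 = n30437 := d11_2 F99900 D63997 (iv4 D30437)
theorem F99909 : act 2 n64001 = n30437 := d1_3 (iv4 D30437) F99899 D64001
theorem F99911 : act 7 n30432 = n64001 := d11_2 F99896 D30432 (iv4 D64001)
theorem F99912 : act 2 n63997 = n30432 := d4_3 F99911 F99909 (iv7 F99908)
theorem F99913 : act 2 n50436 = n51649 := d3_3 (iv6 F99578) F99894 F84132
theorem F99914 : act 7 n51553 = n30370 := d15_2 F81351 F81356 F99894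
theorem F99915 : act 2 n51553 = n30369 := d4_3 F99891 (iv2 F99894) (iv7 F99914)
theorem F99916 : act 7 n51648 = n50436 := d15_2 F81543 F81547 F99913
theorem F99917 : act 7 n50435 = n51649 := d15_2 F81548 F81549 (iv2 F99913)
theorem F99918 : act 2 n51648 = n50435 := d4_3 F99917 (iv2 F99913) (iv7 F99916)
def n64176 : Q := act 0 n30240
theorem D64176 : act 0 n30240 = n64176 := rfl
def n64177 : Q := act 1 n30240
theorem D64177 : act 1 n30240 = n64177 := rfl
def n64178 : Q := act 2 n30240
theorem D64178 : act 2 n30240 = n64178 := rfl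
def n64179 : Q := act 5 n30240
theorem D64179 : act 5 n30240 = n64179 := rfl
theorem F99919 : act 3 n64179 = n30241 := d6_1 D64179 (iv5 D30241) D30240
def n64180 : Q := act 6 n30240
theorem D64180 : act 6 n30240 = n64180 := rfl
theorem F99920 : act 3 n64180 = n30242 := d7_1 D64180 (iv6 D30242) D30240
def n64181 : Q := act 6 n30241
theorem D64181 : act 6 n30241 = n64181 := rfl
def n64182 : Q := act 0 n30242
theorem D64182 : act 0 n30242 = n64182 := rfl
def n64183 : Q := act 1 n30242
theorem D64183 : act 1 n30242 = n64183 := rfl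
def n64184 : Q := act 5 n30242
theorem D64184 : act 5 n30242 = n64184 := rfl
def n64185 : Q := act 7 n30242
theorem D64185 : act 7 n30242 = n64185 := rfl
theorem F99921 : act 4 n64185 = n30245 := d11_1 D64185 (iv7 D30245) (iv4 F48630)
def n64186 : Q := act 2 n30243
theorem D64186 : act 2 n30243 = n64186 := rfl
theorem F99922 : act 7 n30244 = n64186 := d15_2 (iv0 D30243) D30244 (iv2 D64186)
def n64187 : Q := act 3 n30243
theorem D64187 : act 3 n30243 = n64187 := rfl
def n64188 : Q := act 4 n30243
theorem D64188 : act 4 n30243 = n64188 := rfl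
def n64189 : Q := act 6 n30243
theorem D64189 : act 6 n30243 = n64189 := rfl
theorem F99923 : act 5 n64189 = n61302 := d21_6 F47038 (iv1 D24138) F18509 D14353 D30243 D64189 (iv1 D61302) (iv5 F48445) (iv6 D30137) (iv1 F47036)
theorem F99924 : act 0 n64189 = n30510 := d21_10 F48900 (iv1 D30082) D30083 F48345 (iv1 D14310) D14312 (iv5 F26104) D34083 (iv5 F53503) D64189
theorem F99925 : act 6 n62495 = n61302 := d21_5 (iv5 D30404) (iv1 F48534) (iv5 F83871) (iv6 F95922) (iv1 F97426) (iv5 F99923) F99924 F48900 D63749 F99117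
theorem F99926 : act 1 n64189 = n63745 := d15_1 (iv0 F99924) (iv7 F99782) (iv2 F99783)
def n64190 : Q := act 7 n30243
theorem D64190 : act 7 n30243 = n64190 := rfl
theorem F99927 : act 2 n64190 = n30244 := d4_1 D64190 F99922 (iv2 D64186)
theorem F99928 : act 6 n30401 = n64190 := d3_0 F99927 F81362 D30401
theorem F99929 : act 7 n64189 = n30410 := d14_4 F48841 F99928 (iv7 D64190) D64189 (iv6 D30410)
theorem F99930 : act 7 n62633 = n61302 := d13_2 F99929 (iv5 F97690) (iv5 F99923)
theorem F99931 : act 2 n30410 = n63981 := d15_3 (iv0 F99549) (iv0 F99924) F99929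
theorem F99932 : act 2 n61301 = n62633 := d2_3 F97690 F99931 F99548
theorem E8879 : n63978 = n14442 := (c3_4 D30410 F99931 (iv6 D63981) (iv2 F99547))
theorem E8880 : n30406 = n30170 := (((iv2 F48842)).symm.trans (sb E8879 F99547))
theorem E8881 : n30401 = n30169 := ((F48841).symm.trans (sb E8879 (iv7 D63978)))
theorem F99933 : act 2 n30170 = n14442 := (sb E8880 F48842)
theorem E8882 : n63974 = n14441 := ((F99546).symm.trans (sb E8880 (iv7 D30406)))
theorem E8883 : n64190 = n53230 := (((F99388).symm.trans (sb E8881 F99928))).symm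
theorem F99934 : act 7 n30169 = n14442 := (sb E8881 (iv7 F48841))
theorem F99935 : act 2 n14441 = n30169 := (sb E8882 (iv2 D63974))
theorem F99936 : act 7 n14441 = n30170 := (sb E8882 (iv7 F99546))
theorem F99937 : act 2 n53230 = n30244 := (sb E8883 F99927)
theorem F99938 : act 7 n53230 = n30243 := (sb E8883 (iv7 D64190))
theorem F99939 : act 7 n34083 = n30332 := d13_2 F99938 F53503 (iv5 F99386)
theorem E8884 : n64186 = n53229 := (c15_4 (iv0 D53229) D53230 F99938 D64186)
theorem F99940 : act 2 n53229 = n30243 := (sb E8884 (iv2 D64186))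
theorem F99941 : act 7 n53229 = n30244 := (sb E8884 (iv7 F99922))
theorem F99942 : act 7 n34084 = n30331 := d13_2 F99941 F81361 (iv5 F84067)
theorem F99943 : act 2 n30331 = n34083 := d15_3 (iv0 D34083) D34084 F99942
theorem F99944 : act 2 n34084 = n30332 := d4_1 (iv7 F99942) (iv7 F99939) (iv2 F99943)
theorem E8885 : n53270 = n49519 := ((c3_3 F81363 F99944 F99387 (iv2 D53270))).symm
theorem F99946 : act 7 n49519 = n25828 := (sb E8885 (iv7 F84119))
theorem E8886 : n53274 = n49520 := (c15_4 F78279 F78284 F99946 (iv2 F84121))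
theorem F99947 : act 2 n49520 = n25828 := (sb E8886 F84121)
theorem F99948 : act 7 n49520 = n25827 := (sb E8886 (iv7 D53274))
theorem F99949 : act 7 n53273 = n63893 := d13_2 F99948 D53273 F99364
theorem F99950 : act 2 n63893 = n53277 := d15_3 (iv0 F99244) (iv0 F99245) F99949
theorem E8887 : n63793 = n30135 := (c3_4 D63893 F99950 F84122 (iv2 F99154))
theorem E8888 : n63889 = n30100 := (((iv2 F99361)).symm.trans (sb E8887 F99154))
theorem E8889 : n63885 = n30099 := ((F99358).symm.trans (sb E8887 (iv7 D63793)))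
theorem E8890 : n63788 = n30134 := ((F99148).symm.trans (sb E8888 (iv7 D63889)))
theorem F99952 : act 7 n30099 = n30135 := (sb E8889 (iv7 F99358))
theorem F99953 : act 2 n30134 = n30099 := (sb E8890 (iv2 D63788))
theorem F99954 : act 7 n30134 = n30100 := (sb E8890 (iv7 F99148))
theorem F99956 : act 7 n63795 = n63887 := d11_2 F99954 D63795 (iv4 D63887)
theorem F99957 : act 7 n63796 = n63888 := d13_2 F99954 D63796 (iv5 D63888)
theorem F99958 : act 7 n62495 = n61420 := d14_4 F99957 F99359 F99930 (iv6 F99925) (iv6 F99155)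
theorem F99959 : act 2 n61420 = n62494 := d15_3 (iv0 D62494) D62495 F99958
theorem F99960 : act 2 n62495 = n61421 := d15_3 F97430 F97431 (iv7 F99958)
theorem F99961 : act 7 n61421 = n62494 := d4_2 (iv7 F99958) F99960 (iv2 F99959)
theorem F99962 : act 2 n63892 = n63796 := d3_3 F99155 F99959 (iv6 F99363)
theorem F99963 : act 7 n63791 = n63892 := d15_2 (iv0 F99156) (iv0 F99149) F99962
theorem F99964 : act 2 n63791 = n63888 := d4_3 (iv7 F99957) (iv2 F99962) (iv7 F99963)
theorem F99965 : act 1 n63731 = n63796 := d15_1 (iv0 F99151) F99957 (iv2 F99964)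
theorem F99966 : act 2 n62522 = n63731 := d15_3 F99965 (iv0 F99156) (iv7 F97488)
theorem F99967 : act 0 n63173 = n53278 := d21_1 D63173 (iv5 F95920) (iv6 F99155) (iv1 F99965) (iv6 D63731) (iv5 F48333) (iv1 F79785) (iv5 F83910) F83911 (iv1 F83856)
theorem E8891 : n63728 = n29545 := (c3_4 D62522 F99966 (iv6 D63731) (iv2 F99092))
theorem E8892 : n62519 = n30076 := (((iv2 F97486)).symm.trans (sb E8891 F99092))
theorem E8893 : n50461 = n50419 := ((((iv5 F79778)).symm.trans (sb E8891 F99093))).symm
theorem E8894 : n62516 = n30075 := ((F97483).symm.trans (sb E8891 (iv7 D63728)))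
theorem F99968 : act 2 n30076 = n29545 := (sb E8892 F97486)
theorem E8895 : n63725 = n29544 := ((F99090).symm.trans (sb E8892 (iv7 D62519)))
theorem F99969 : act 2 n50419 = n24592 := (sb E8893 (iv2 D50461))
theorem E8896 : n51578 = n51546 := ((((iv6 F81326)).symm.trans (sb E8893 (iv6 F81410)))).symm
theorem F99970 : act 7 n50419 = n24593 := (sb E8893 (iv7 F79831))
theorem E8897 : n61324 = n51585 := (((F81418).symm.trans (sb E8894 F97482))).symm
theorem F99971 : act 7 n30075 = n29545 := (sb E8894 (iv7 F97483))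
theorem F99972 : act 2 n29544 = n30075 := (sb E8895 (iv2 D63725))
theorem E8898 : n50464 = n50420 := (((F79780).symm.trans (sb E8895 F99089))).symm
theorem F99973 : act 7 n29544 = n30076 := (sb E8895 (iv7 F99090))
theorem F99974 : act 2 n51546 = n25053 := (sb E8896 (iv2 D51578))
theorem F99975 : act 7 n51546 = n25054 := (sb E8896 (iv7 F81411))
theorem F99976 : act 2 n51585 = n29030 := (sb E8897 (iv2 D61324))
theorem F99977 : act 7 n51585 = n29031 := (sb E8897 (iv7 F95807))
theorem F99978 : act 2 n50420 = n24593 := (sb E8898 F79832)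
theorem F99979 : act 7 n50420 = n24592 := (sb E8898 (iv7 D50464))
theorem E8899 : n61327 = n51581 := (c15_4 F81415 F83844 F99977 (iv2 F95808))
theorem F99980 : act 2 n51581 = n29031 := (sb E8899 F95808)
theorem F99981 : act 7 n51581 = n29030 := (sb E8899 (iv7 D61327))
theorem E8900 : n51582 = n51547 := ((c13_2 F99981 F81330 (iv7 D51582) D51581)).symm
theorem F99982 : act 2 n51547 = n25054 := (sb E8900 F81416)
theorem F99983 : act 7 n51547 = n25053 := (sb E8900 (iv7 D51582))
theorem F99984 : act 7 n63729 = n62517 := d8_2 F99973 D63729 (iv3 D62517)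
theorem F99985 : act 7 n63730 = n62518 := d11_2 F99973 D63730 (iv4 D62518)
theorem F99986 : act 2 n63727 = n62518 := d1_3 (iv4 D62518) F99972 D63727
theorem F99987 : act 7 n62520 = n63726 := d8_2 F99971 D62520 (iv3 D63726)
theorem F99988 : act 7 n62521 = n63727 := d11_2 F99971 D62521 (iv4 D63727)
theorem F99989 : act 2 n63730 = n62521 := d4_3 F99988 F99986 (iv7 F99985)
theorem F99990 : act 2 n63790 = n63887 := d1_3 (iv4 D63887) F99953 D63790
theorem F99991 : act 2 n63792 = n30409 := d3_3 (iv6 F48843) F99953 D63792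
theorem F99992 : act 7 n63977 = n30409 := d15_2 (iv0 F99153) (iv0 F99737) (iv2 F99991)
theorem F99993 : act 2 n63977 = n30404 := d15_3 (iv0 F99117) (iv0 F99513) (iv7 F99992)
theorem F99994 : act 7 n30404 = n63792 := d4_2 (iv7 F99992) F99993 F99991
theorem F99996 : act 7 n63891 = n63790 := d11_2 F99952 D63891 (iv4 D63790)
theorem F99997 : act 2 n63795 = n63891 := d4_3 F99996 F99990 (iv7 F99956)
theorem F99998 : act 7 n63979 = n30402 := d8_2 F99936 D63979 (iv3 D30402)
theorem F99999 : act 7 n63980 = n30403 := d11_2 F99936 D63980 (iv4 D30403)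
theorem F100000 : act 2 n63976 = n30403 := d1_3 (iv4 D30403) F99935 D63976
theorem F100002 : act 7 n30408 = n63976 := d11_2 F99934 D30408 (iv4 D63976)
theorem F100003 : act 2 n63980 = n30408 := d4_3 F100002 F100000 (iv7 F99999)
theorem E8901 : n30455 = n30403 := ((c15_4 (iv0 D30455) (iv0 F97744) F100002 F100000)).symm
theorem F100004 : act 0 n30403 = n64011 := (sb E8901 (iv1 F99596))
theorem F100005 : act 1 n30403 = n14461 := (sb E8901 (iv0 D30455))
theorem F100006 : act 7 n62634 = n61301 := d15_2 (iv0 D62633) D62634 F99932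
theorem F100007 : act 2 n62634 = n61302 := d4_3 (iv7 F99930) (iv2 F99932) (iv7 F100006)
theorem F100008 : act 6 n61421 = n62634 := d3_0 F100007 (iv6 F99925) F99960
def n64191 : Q := act 3 n30244
theorem D64191 : act 3 n30244 = n64191 := rfl
theorem F100009 : act 6 n64191 = n30402 := d7_2 (iv6 F81362) D64191 (iv3 D30402)
def n64192 : Q := act 4 n30244
theorem D64192 : act 4 n30244 = n64192 := rfl
theorem F100010 : act 6 n64192 = n30403 := d10_2 (iv6 F81362) D64192 (iv4 D30403)
def n64193 : Q := act 0 n30246
theorem D64193 : act 0 n30246 = n64193 := rfl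
def n64194 : Q := act 1 n30246
theorem D64194 : act 1 n30246 = n64194 := rfl
def n64195 : Q := act 2 n30246
theorem D64195 : act 2 n30246 = n64195 := rfl
def n64196 : Q := act 5 n30246
theorem D64196 : act 5 n30246 = n64196 := rfl
theorem F100011 : act 3 n64196 = n30247 := d6_1 D64196 (iv5 D30247) D30246
def n64197 : Q := act 6 n30246
theorem D64197 : act 6 n30246 = n64197 := rfl
theorem F100012 : act 3 n64197 = n30248 := d7_1 D64197 (iv6 D30248) D30246
def n64198 : Q := act 0 n30247
theorem D64198 : act 0 n30247 = n64198 := rfl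
theorem F100013 : act 5 n64198 = n62015 := d17_3 D14354 D30247 D64198 (iv4 D62015) F47038 F37826 (iv5 F22283) (iv0 D6856) D6858
theorem F100014 : act 4 n64198 = n60986 := d18_1 D64198 (iv1 F96932) F96929 (iv5 D30241) (iv4 D14352) F23911 (iv4 F48464) F48466 D30247
theorem F100015 : act 2 n64112 = n64198 := d15_3 (iv0 D64198) (iv0 F97756) (iv7 F99796)
theorem F100016 : act 1 n30250 = n64198 := d15_0 (iv0 D64198) (iv7 F99398) F99397
theorem F100017 : act 7 n64198 = n64107 := d15_2 F97757 F100016 F99723
def n64199 : Q := act 6 n30247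
theorem D64199 : act 6 n30247 = n64199 := rfl
def n64200 : Q := act 0 n30248
theorem D64200 : act 0 n30248 = n64200 := rfl
def n64201 : Q := act 5 n30248
theorem D64201 : act 5 n30248 = n64201 := rfl
def n64202 : Q := act 7 n30248
theorem D64202 : act 7 n30248 = n64202 := rfl
def n64203 : Q := act 0 n30249
theorem D64203 : act 0 n30249 = n64203 := rfl
def n64204 : Q := act 1 n30249
theorem D64204 : act 1 n30249 = n64204 := rfl
def n64205 : Q := act 2 n30249
theorem D64205 : act 2 n30249 = n64205 := rfl
def n64206 : Q := act 5 n30249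
theorem D64206 : act 5 n30249 = n64206 := rfl
theorem F100018 : act 3 n64206 = n30250 := d6_1 D64206 (iv5 D30250) D30249
def n64207 : Q := act 6 n30249
theorem D64207 : act 6 n30249 = n64207 := rfl
theorem F100019 : act 3 n64207 = n30251 := d7_1 D64207 (iv6 D30251) D30249
def n64208 : Q := act 6 n30250
theorem D64208 : act 6 n30250 = n64208 := rfl
def n64209 : Q := act 0 n30251
theorem D64209 : act 0 n30251 = n64209 := rfl
def n64210 : Q := act 1 n30251
theorem D64210 : act 1 n30251 = n64210 := rfl
def n64211 : Q := act 5 n30251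
theorem D64211 : act 5 n30251 = n64211 := rfl
def n64212 : Q := act 7 n30251
theorem D64212 : act 7 n30251 = n64212 := rfl
def n64213 : Q := act 0 n30252
theorem D64213 : act 0 n30252 = n64213 := rfl
theorem F100020 : act 2 n30256 = n64213 := d15_3 (iv0 D64213) (iv0 D30252) D30256
theorem F100021 : act 4 n64213 = n30634 := d1_2 (iv4 F48635) F100020 (iv2 F49095)
theorem F100022 : act 7 n64213 = n30254 := d4_2 D30256 F100020 (iv2 D30254)
theorem F100023 : act 1 n30253 = n64213 := d15_1 D30253 F100022 (iv2 D30254)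
def n64214 : Q := act 2 n30252
theorem D64214 : act 2 n30252 = n64214 := rfl
theorem F100024 : act 7 n30253 = n64214 := d15_2 (iv0 D30252) D30253 (iv2 D64214)
def n64215 : Q := act 3 n30252
theorem D64215 : act 3 n30252 = n64215 := rfl
def n64216 : Q := act 4 n30252
theorem D64216 : act 4 n30252 = n64216 := rfl
def n64217 : Q := act 5 n30252
theorem D64217 : act 5 n30252 = n64217 := rfl
def n64218 : Q := act 6 n30252
theorem D64218 : act 6 n30252 = n64218 := rfl
def n64219 : Q := act 7 n30252
theorem D64219 : act 7 n30252 = n64219 := rfl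
theorem F100025 : act 2 n64219 = n30253 := d4_1 D64219 F100024 (iv2 D64214)
def n64220 : Q := act 3 n30253
theorem D64220 : act 3 n30253 = n64220 := rfl
def n64221 : Q := act 4 n30253
theorem D64221 : act 4 n30253 = n64221 := rfl
theorem F100026 : act 3 n49799 = n64221 := d20_5 F11206 (iv1 F8134) (iv4 F18671) (iv3 F38054) (iv1 F78704) (iv4 D64221) (iv1 D30253) F23969 (iv3 D6935) D6933
def n64222 : Q := act 5 n30253
theorem D64222 : act 5 n30253 = n64222 := rfl
def n64223 : Q := act 6 n30253
theorem D64223 : act 6 n30253 = n64223 := rfl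
def n64224 : Q := act 0 n30254
theorem D64224 : act 0 n30254 = n64224 := rfl
theorem F100027 : act 1 n30256 = n64224 := d15_0 (iv0 D64224) (iv7 F100022) (iv2 F100020)
theorem F100028 : act 4 n49789 = n64224 := d20_6 F11952 (iv1 D5309) D5310 D11426 D24276 D49789 (iv1 F100027) F48635 F24164 (iv1 F11950)
def n64225 : Q := act 1 n30254
theorem D64225 : act 1 n30254 = n64225 := rfl
theorem F100029 : act 1 n64225 = n30256 := d15_1 D64225 (iv7 D30256) D30254
def n64226 : Q := act 5 n30254
theorem D64226 : act 5 n30254 = n64226 := rfl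
theorem F100030 : act 2 n64226 = n30255 := d2_1 D64226 (iv5 D30255) D30254
def n64227 : Q := act 0 n30255
theorem D64227 : act 0 n30255 = n64227 := rfl
def n64228 : Q := act 1 n30255
theorem D64228 : act 1 n30255 = n64228 := rfl
def n64229 : Q := act 4 n30255
theorem D64229 : act 4 n30255 = n64229 := rfl
def n64230 : Q := act 6 n30255
theorem D64230 : act 6 n30255 = n64230 := rfl
theorem F100031 : act 3 n64230 = n30260 := d7_1 D64230 (iv6 D30260) (iv3 F48633)
theorem F100032 : act 5 n64230 = n30488 := d12_1 D64230 (iv6 D30488) (iv5 D14470) (iv6 F23970) D30255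
def n64231 : Q := act 7 n30255
theorem D64231 : act 7 n30255 = n64231 := rfl
theorem F100033 : act 3 n64231 = n30261 := d8_1 D64231 (iv7 D30261) (iv3 F48633)
theorem F100034 : act 5 n64231 = n30256 := d13_1 D64231 (iv7 D30256) D30255
def n64232 : Q := act 6 n30256
theorem D64232 : act 6 n30256 = n64232 := rfl
theorem F100035 : act 3 n64232 = n30262 := d7_1 D64232 (iv6 D30262) (iv3 F48634)
theorem F100036 : act 4 n64232 = n30652 := d10_1 D64232 (iv6 D30652) (iv4 F48635)
theorem F100037 : act 7 n64232 = n30490 := d14_2 D30256 D64232 (iv6 D30490) (iv7 D14471) (iv6 F23970)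
def n64233 : Q := act 3 n30257
theorem D64233 : act 3 n30257 = n64233 := rfl
def n64234 : Q := act 6 n30257
theorem D64234 : act 6 n30257 = n64234 := rfl
def n64235 : Q := act 3 n30258
theorem D64235 : act 3 n30258 = n64235 := rfl
def n64236 : Q := act 6 n30258
theorem D64236 : act 6 n30258 = n64236 := rfl
def n64237 : Q := act 3 n30259
theorem D64237 : act 3 n30259 = n64237 := rfl
theorem F100038 : act 5 n64237 = n60979 := d6_2 (iv5 F48636) D64237 (iv3 D60979)
def n64238 : Q := act 6 n30259
theorem D64238 : act 6 n30259 = n64238 := rfl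
theorem F100039 : act 4 n64238 = n30260 := d10_1 D64238 (iv6 D30260) D30259
def n64239 : Q := act 0 n30260
theorem D64239 : act 0 n30260 = n64239 := rfl
def n64240 : Q := act 1 n30260
theorem D64240 : act 1 n30260 = n64240 := rfl
def n64241 : Q := act 7 n30260
theorem D64241 : act 7 n30260 = n64241 := rfl
theorem F100040 : act 5 n64241 = n30501 := d13_1 D64241 (iv7 D30501) (iv5 F48638)
def n64242 : Q := act 6 n30261
theorem D64242 : act 6 n30261 = n64242 := rfl
def n64243 : Q := act 5 n30262
theorem D64243 : act 5 n30262 = n64243 := rfl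
theorem F100041 : act 7 n64243 = n30505 := d13_2 (iv7 F48641) D64243 (iv5 D30505)
def n64244 : Q := act 0 n30263
theorem D64244 : act 0 n30263 = n64244 := rfl
theorem F100042 : act 1 n52219 = n64244 := d15_0 (iv0 D64244) (iv7 F79318) (iv2 F82566)
def n64245 : Q := act 1 n30263
theorem D64245 : act 1 n30263 = n64245 := rfl
theorem F100043 : act 1 n64245 = n52219 := d15_1 D64245 F82569 F48666
def n64246 : Q := act 0 n30264
theorem D64246 : act 0 n30264 = n64246 := rfl
def n64247 : Q := act 1 n30264
theorem D64247 : act 1 n30264 = n64247 := rfl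
def n64248 : Q := act 7 n30264
theorem D64248 : act 7 n30264 = n64248 := rfl
theorem F100044 : act 3 n64248 = n30857 := d8_1 D64248 (iv7 D30857) (iv3 F48644)
theorem F100045 : act 5 n64248 = n51406 := d13_1 D64248 (iv7 D51406) (iv5 F48645)
def n64249 : Q := act 7 n30265
theorem D64249 : act 7 n30265 = n64249 := rfl
theorem F100046 : act 3 n64249 = n51996 := d8_1 D64249 (iv7 D51996) (iv3 F48646)
theorem F100047 : act 5 n64249 = n63708 := d13_1 D64249 (iv7 D63708) (iv5 F48647)
def n64250 : Q := act 3 n30266
theorem D64250 : act 3 n30266 = n64250 := rfl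
theorem F100048 : act 7 n64250 = n59450 := d8_2 (iv7 F48649) D64250 (iv3 D59450)
def n64251 : Q := act 6 n30266
theorem D64251 : act 6 n30266 = n64251 := rfl
theorem F100049 : act 2 n64251 = n53845 := d3_1 D64251 (iv6 D53845) F48651
theorem F100050 : act 4 n64251 = n49739 := d10_1 D64251 (iv6 F78606) (iv4 F48650)
def n64252 : Q := act 0 n30267
theorem D64252 : act 0 n30267 = n64252 := rfl
theorem F100051 : act 5 n64252 = n52518 := d19_1 D64252 (iv4 D52518) F40311 (iv1 F40289) F40291 (iv4 D13527) F10477 (iv1 D3258) (iv5 D1444) F9932 (iv3 F9928) (iv1 D2131) F1964 (iv4 F3490) (iv3 F7699) F10348 D6868 D14363 D30267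
def n64253 : Q := act 1 n30267
theorem D64253 : act 1 n30267 = n64253 := rfl
def n64254 : Q := act 2 n30267
theorem D64254 : act 2 n30267 = n64254 := rfl
theorem F100052 : act 4 n64254 = n30312 := d1_2 (iv4 F48652) D64254 (iv2 D30312)
def n64255 : Q := act 5 n30267
theorem D64255 : act 5 n30267 = n64255 := rfl
theorem F100053 : act 3 n64255 = n30268 := d6_1 D64255 (iv5 D30268) D30267
theorem F100054 : act 7 n64255 = n59612 := d13_2 F48780 D64255 F94023
def n64256 : Q := act 6 n30267
theorem D64256 : act 6 n30267 = n64256 := rfl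
theorem F100055 : act 3 n64256 = n30269 := d7_1 D64256 (iv6 D30269) D30267
theorem F100056 : act 4 n64256 = n30314 := d10_1 D64256 (iv6 D30314) (iv4 F48652)
def n64257 : Q := act 6 n30268
theorem D64257 : act 6 n30268 = n64257 := rfl
theorem F100057 : act 2 n64257 = n59611 := d3_1 D64257 (iv6 D59611) (iv2 F48653)
theorem F100058 : act 4 n64257 = n63952 := d10_1 D64257 (iv6 D63952) (iv4 F48655)
def n64258 : Q := act 0 n30269
theorem D64258 : act 0 n30269 = n64258 := rfl
def n64259 : Q := act 1 n30269
theorem D64259 : act 1 n30269 = n64259 := rfl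
def n64260 : Q := act 5 n30269
theorem D64260 : act 5 n30269 = n64260 := rfl
def n64261 : Q := act 7 n30269
theorem D64261 : act 7 n30269 = n64261 := rfl
theorem F100059 : act 4 n64261 = n30273 := d11_1 D64261 (iv7 D30273) (iv4 F48658)
def n64262 : Q := act 2 n30270
theorem D64262 : act 2 n30270 = n64262 := rfl
theorem F100060 : act 7 n30271 = n64262 := d15_2 (iv0 D30270) D30271 (iv2 D64262)
def n64263 : Q := act 3 n30270
theorem D64263 : act 3 n30270 = n64263 := rfl
def n64264 : Q := act 4 n30270
theorem D64264 : act 4 n30270 = n64264 := rfl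
def n64265 : Q := act 7 n30270
theorem D64265 : act 7 n30270 = n64265 := rfl
theorem F100061 : act 2 n64265 = n30271 := d4_1 D64265 F100060 (iv2 D64262)
def n64266 : Q := act 3 n30271
theorem D64266 : act 3 n30271 = n64266 := rfl
def n64267 : Q := act 4 n30271
theorem D64267 : act 4 n30271 = n64267 := rfl
def n64268 : Q := act 6 n30271
theorem D64268 : act 6 n30271 = n64268 := rfl
def n64269 : Q := act 0 n30272
theorem D64269 : act 0 n30272 = n64269 := rfl
def n64270 : Q := act 1 n30272
theorem D64270 : act 1 n30272 = n64270 := rfl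
def n64271 : Q := act 7 n30272
theorem D64271 : act 7 n30272 = n64271 := rfl
theorem F100062 : act 3 n64271 = n30334 := d8_1 D64271 (iv7 D30334) (iv3 F48659)
theorem F100063 : act 5 n64271 = n30273 := d13_1 D64271 (iv7 D30273) D30272
def n64272 : Q := act 5 n30274
theorem D64272 : act 5 n30274 = n64272 := rfl
theorem F100064 : act 2 n64272 = n59467 := d2_1 D64272 F93866 (iv2 F48662)
theorem F100065 : act 4 n64272 = n30316 := d9_1 D64272 F48749 (iv4 F38870) (iv5 D24832) F19115 D14204 D29912 D63311 F98531 F48746 (iv4 F24571) (iv5 D14917) F11414 D14369 D30274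
theorem F100066 : act 7 n64272 = n49161 := d13_2 (iv7 F48663) D64272 (iv5 D49161)
theorem F100067 : act 0 n64272 = n59412 := d17_2 (iv1 F48665) D64272 (iv5 D59412) (iv4 D28212) (iv5 D13470) F10454 (iv5 F10466) F22611 D28214
theorem F100068 : act 1 n64272 = n59406 := d17_6 (iv1 D14373) (iv5 D6874) D6871 D14369 D30274 D64272 (iv5 D59406) (iv0 F48697) (iv4 D30282)
def n64273 : Q := act 6 n30274
theorem D64273 : act 6 n30274 = n64273 := rfl
theorem F100069 : act 2 n64273 = n59516 := d3_1 D64273 (iv6 D59516) (iv2 F48662)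
theorem F100070 : act 4 n64273 = n30275 := d10_1 D64273 (iv6 D30275) D30274
def n64274 : Q := act 0 n30275
theorem D64274 : act 0 n30275 = n64274 := rfl
theorem F100071 : act 1 n50103 = n64274 := d15_0 (iv0 D64274) (iv7 F82569) F82566
def n64275 : Q := act 1 n30275
theorem D64275 : act 1 n30275 = n64275 := rfl
theorem F100072 : act 1 n64275 = n50103 := d15_1 D64275 F79318 (iv2 F48666)
def n64276 : Q := act 3 n30276
theorem D64276 : act 3 n30276 = n64276 := rfl
theorem F100073 : act 4 n64276 = n30284 := d5_2 D30276 D64276 (iv3 D30284) (iv4 D14374) (iv3 F23996)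
def n64277 : Q := act 6 n30276
theorem D64277 : act 6 n30276 = n64277 := rfl
theorem F100074 : act 2 n64277 = n63919 := d3_1 D64277 (iv6 D63919) (iv2 F48669)
theorem F100075 : act 4 n64277 = n30277 := d10_1 D64277 (iv6 D30277) D30276
def n64278 : Q := act 7 n30277
theorem D64278 : act 7 n30277 = n64278 := rfl
theorem F100076 : act 2 n64278 = n63920 := d4_1 D64278 (iv7 D63920) (iv2 F48672)
theorem F100077 : act 3 n64278 = n30289 := d8_1 D64278 (iv7 D30289) (iv3 F48673)
theorem F100078 : act 5 n64278 = n49433 := d13_1 D64278 (iv7 D49433) (iv5 F48674)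
theorem F100079 : act 6 n64278 = n52331 := d14_1 D64278 F82705 (iv6 D30341) F24040 D30277
theorem F100080 : act 1 n63920 = n49479 := d15_0 (iv0 F78223) D64278 F100076
theorem F100081 : act 1 n59127 = n64278 := d15_1 (iv0 F93302) (iv7 D64278) F48672
theorem F100082 : act 0 n59128 = n49412 := d21_10 F78143 F99519 (iv5 D49566) (iv6 F99520) (iv1 F82691) (iv6 F82689) (iv5 F100078) (iv1 F100081) (iv5 D59127) D59128
theorem F100083 : act 1 n64278 = n59132 := d15_0 (iv0 F93306) D63920 (iv2 F100076)
def n64279 : Q := act 3 n30280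
theorem D64279 : act 3 n30280 = n64279 := rfl
theorem F100084 : act 4 n64279 = n49456 := d5_2 D30280 D64279 (iv3 D49456) (iv4 D24140) F24005
theorem F100085 : act 7 n64279 = n59459 := d8_2 (iv7 F48689) D64279 (iv3 D59459)
def n64280 : Q := act 6 n30280
theorem D64280 : act 6 n30280 = n64280 := rfl
theorem F100086 : act 2 n64280 = n59458 := d3_1 D64280 (iv6 D59458) (iv2 F48688)
theorem F100087 : act 4 n64280 = n30281 := d10_1 D64280 (iv6 D30281) D30280
def n64281 : Q := act 0 n30281
theorem D64281 : act 0 n30281 = n64281 := rfl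
def n64282 : Q := act 1 n30281
theorem D64282 : act 1 n30281 = n64282 := rfl
theorem F100088 : act 1 n64282 = n64248 := d15_1 D64282 (iv7 D64248) (iv2 F48692)
def n64283 : Q := act 7 n30281
theorem D64283 : act 7 n30281 = n64283 := rfl
theorem F100089 : act 2 n64283 = n64248 := d4_1 D64283 (iv7 D64248) (iv2 F48692)
theorem F100090 : act 3 n64283 = n49460 := d8_1 D64283 (iv7 D49460) (iv3 F48693)
theorem F100091 : act 5 n64283 = n52298 := d13_1 D64283 (iv7 D52298) (iv5 F48694)
theorem F100092 : act 6 n64283 = n64249 := d14_1 D64283 (iv7 D64249) (iv6 D30265) F24006 D30281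
theorem F100093 : act 1 n64248 = n64281 := d15_0 (iv0 D64281) D64283 F100089
theorem F100094 : act 1 n64247 = n64283 := d15_1 D64247 (iv7 D64283) F48692
theorem E8902 : n64249 = n62579 := ((c21_5 F38323 (iv1 F19515) D14053 D29589 D62579 (iv6 F100092) F100091 (iv1 F82678) (iv5 F81152) (iv6 D30231) (iv1 F38592))).symm
theorem F100095 : act 3 n62579 = n51996 := (sb E8902 F100046)
theorem F100096 : act 5 n62579 = n63708 := (sb E8902 F100047)
theorem F100097 : act 6 n62579 = n64283 := (sb E8902 (iv6 F100092))
theorem F100098 : act 7 n62579 = n30265 := (sb E8902 (iv7 D64249))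
theorem F100099 : act 5 n63460 = n50320 := d21_0 (iv1 D50320) D50321 F79706 (iv1 F47492) (iv6 F97580) (iv5 D62580) D62579 F100096 F99066 (iv1 F99045)
theorem F100100 : act 6 n64093 = n63460 := d21_5 (iv5 D29590) (iv1 F40709) F40707 D30208 D64093 F100099 (iv1 D50320) D50321 F79706 (iv1 F47492)
theorem F100101 : act 1 n64283 = n64246 := d15_0 (iv0 D64246) D64248 (iv2 F100089)
def n64284 : Q := act 3 n30282
theorem D64284 : act 3 n30282 = n64284 := rfl
theorem F100102 : act 4 n64284 = n53374 := d5_2 D30282 D64284 (iv3 D53374) (iv4 D25862) F24011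
theorem F100103 : act 7 n64284 = n59456 := d8_2 (iv7 F48696) D64284 (iv3 D59456)
def n64285 : Q := act 6 n30282
theorem D64285 : act 6 n30282 = n64285 := rfl
theorem F100104 : act 2 n64285 = n59461 := d3_1 D64285 (iv6 D59461) (iv2 F48695)
theorem F100105 : act 4 n64285 = n30283 := d10_1 D64285 (iv6 D30283) D30282
theorem F100106 : act 0 n64285 = n49738 := d21_4 D28263 D59522 F93943 D64285 (iv6 D49738) D49737 (iv1 F82561) (iv5 D52217) F40088 (iv1 F39413)
def n64286 : Q := act 1 n30283
theorem D64286 : act 1 n30283 = n64286 := rfl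
theorem F100107 : act 1 n64286 = n62579 := d15_1 D64286 F100098 (iv2 F48699)
theorem F100108 : act 7 n64286 = n50097 := d15_2 (iv0 F48702) D64286 F79299
theorem F100109 : act 2 n62581 = n64286 := d4_3 F100108 F79299 D62581
theorem F100110 : act 3 n63750 = n64286 := d8_3 F100108 F79300 (iv7 F99119)
theorem F100111 : act 6 n64105 = n64286 := d14_5 F100108 (iv6 D50097) F38311 D30213 D64105
def n64287 : Q := act 7 n30283
theorem D64287 : act 7 n30283 = n64287 := rfl
theorem F100112 : act 2 n64287 = n62579 := d4_1 D64287 F100098 (iv2 F48699)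
theorem F100113 : act 3 n64287 = n50116 := d8_1 D64287 F79360 (iv3 F48700)
theorem F100114 : act 5 n64287 = n63695 := d13_1 D64287 (iv7 D63695) (iv5 F48701)
theorem F100115 : act 6 n64287 = n64248 := d14_1 D64287 (iv7 D64248) (iv6 D30264) (iv7 F24009) D30283
theorem F100116 : act 1 n62581 = n64287 := d15_1 F97584 (iv7 D64287) F48699
theorem F100117 : act 1 n64287 = n50097 := d15_1 F100116 (iv7 F100108) (iv2 F100109)
def n64288 : Q := act 0 n30284
theorem D64288 : act 0 n30284 = n64288 := rfl
def n64289 : Q := act 1 n30284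
theorem D64289 : act 1 n30284 = n64289 := rfl
def n64290 : Q := act 2 n30284
theorem D64290 : act 2 n30284 = n64290 := rfl
theorem F100118 : act 3 n64290 = n64254 := d0_2 D30284 D64290 (iv2 D64254) (iv3 D30267) (iv2 F24012)
def n64291 : Q := act 6 n30284
theorem D64291 : act 6 n30284 = n64291 := rfl
theorem F100119 : act 3 n64291 = n30285 := d7_1 D64291 (iv6 D30285) D30284
def n64292 : Q := act 0 n30285
theorem D64292 : act 0 n30285 = n64292 := rfl
def n64293 : Q := act 1 n30285
theorem D64293 : act 1 n30285 = n64293 := rfl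
theorem F100120 : act 1 n64293 = n64261 := d15_1 D64293 (iv7 D64261) (iv2 F48703)
def n64294 : Q := act 5 n30285
theorem D64294 : act 5 n30285 = n64294 := rfl
theorem F100121 : act 2 n64294 = n64260 := d2_1 D64294 (iv5 D64260) (iv2 F48703)
def n64295 : Q := act 7 n30285
theorem D64295 : act 7 n30285 = n64295 := rfl
theorem F100122 : act 2 n64295 = n64261 := d4_1 D64295 (iv7 D64261) (iv2 F48703)
theorem F100123 : act 4 n64295 = n30289 := d11_1 D64295 (iv7 D30289) (iv4 F48704)
theorem F100124 : act 1 n64261 = n64292 := d15_0 (iv0 D64292) D64295 F100122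
theorem F100125 : act 1 n64259 = n64295 := d15_1 D64259 (iv7 D64295) F48703
theorem F100126 : act 1 n64295 = n64258 := d15_0 (iv0 D64258) D64261 (iv2 F100122)
def n64296 : Q := act 2 n30286
theorem D64296 : act 2 n30286 = n64296 := rfl
theorem F100127 : act 7 n30287 = n64296 := d15_2 (iv0 D30286) D30287 (iv2 D64296)
def n64297 : Q := act 3 n30286
theorem D64297 : act 3 n30286 = n64297 := rfl
def n64298 : Q := act 4 n30286
theorem D64298 : act 4 n30286 = n64298 := rfl
def n64299 : Q := act 7 n30286
theorem D64299 : act 7 n30286 = n64299 := rfl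
def n64300 : Q := act 3 n30287
theorem D64300 : act 3 n30287 = n64300 := rfl
def n64301 : Q := act 4 n30287
theorem D64301 : act 4 n30287 = n64301 := rfl
def n64302 : Q := act 6 n30287
theorem D64302 : act 6 n30287 = n64302 := rfl
def n64303 : Q := act 0 n30288
theorem D64303 : act 0 n30288 = n64303 := rfl
def n64304 : Q := act 1 n30288
theorem D64304 : act 1 n30288 = n64304 := rfl
theorem F100129 : act 1 n64304 = n64271 := d15_1 D64304 (iv7 D64271) (iv2 F48706)
def n64305 : Q := act 4 n30288
theorem D64305 : act 4 n30288 = n64305 := rfl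
theorem F100130 : act 2 n64305 = n49943 := d1_1 D64305 F78982 (iv2 F48706)
theorem F100131 : act 6 n64305 = n30292 := d10_2 (iv6 F48708) D64305 (iv4 D30292)
def n64306 : Q := act 7 n30288
theorem D64306 : act 7 n30288 = n64306 := rfl
theorem F100132 : act 2 n64306 = n64271 := d4_1 D64306 (iv7 D64271) (iv2 F48706)
theorem F100133 : act 3 n64306 = n49433 := d8_1 D64306 (iv7 D49433) (iv3 F48707)
theorem F100134 : act 5 n64306 = n30289 := d13_1 D64306 (iv7 D30289) D30288
theorem F100135 : act 1 n64271 = n64303 := d15_0 (iv0 D64303) D64306 F100132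
theorem F100136 : act 1 n64270 = n64306 := d15_1 D64270 (iv7 D64306) F48706
theorem F100137 : act 1 n64306 = n64269 := d15_0 (iv0 D64269) D64271 (iv2 F100132)
def n64307 : Q := act 4 n30291
theorem D64307 : act 4 n30291 = n64307 := rfl
theorem F100138 : act 2 n64307 = n49907 := d1_1 D64307 F78947 (iv2 F48717)
theorem F100139 : act 7 n64307 = n49906 := d11_2 (iv7 F48719) D64307 F78944
theorem F100140 : act 0 n64307 = n49888 := d18_2 F48721 D64307 (iv4 D49888) (iv5 D24327) (iv4 F18741) (iv0 F19231) F19230 (iv0 F19937) D16500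
theorem F100141 : act 1 n64307 = n49889 := d18_6 (iv1 F23858) (iv4 F45713) F48716 (iv4 D30290) D30291 D64307 (iv4 D49889) F38120 (iv5 D13991)
def n64308 : Q := act 3 n30292
theorem D64308 : act 3 n30292 = n64308 := rfl
theorem F100142 : act 4 n64308 = n49428 := d5_2 D30292 D64308 (iv3 D49428) (iv4 D24127) (iv3 F24019)
theorem F100143 : act 7 n64308 = n49938 := d8_2 (iv7 F48723) D64308 (iv3 D49938)
def n64309 : Q := act 5 n30292
theorem D64309 : act 5 n30292 = n64309 := rfl
theorem F100144 : act 2 n64309 = n49941 := d2_1 D64309 F96860 (iv2 F48722)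
theorem F100145 : act 7 n64309 = n49939 := d13_2 (iv7 F48723) D64309 (iv5 D49939)
def n64310 : Q := act 0 n30293
theorem D64310 : act 0 n30293 = n64310 := rfl
def n64311 : Q := act 1 n30293
theorem D64311 : act 1 n30293 = n64311 := rfl
def n64312 : Q := act 2 n30293
theorem D64312 : act 2 n30293 = n64312 := rfl
def n64313 : Q := act 5 n30293
theorem D64313 : act 5 n30293 = n64313 := rfl
theorem F100146 : act 3 n64313 = n30294 := d6_1 D64313 (iv5 D30294) D30293
def n64314 : Q := act 6 n30293
theorem D64314 : act 6 n30293 = n64314 := rfl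
theorem F100147 : act 3 n64314 = n30295 := d7_1 D64314 (iv6 D30295) D30293
def n64315 : Q := act 6 n30294
theorem D64315 : act 6 n30294 = n64315 := rfl
def n64316 : Q := act 0 n30295
theorem D64316 : act 0 n30295 = n64316 := rfl
def n64317 : Q := act 1 n30295
theorem D64317 : act 1 n30295 = n64317 := rfl
def n64318 : Q := act 5 n30295
theorem D64318 : act 5 n30295 = n64318 := rfl
theorem F100148 : act 1 n64318 = n64201 := d17_6 (iv1 D30238) (iv5 F39422) F39423 F38620 (iv4 F48728) D64318 (iv5 D64201) (iv0 F99887) (iv4 D64173)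
def n64319 : Q := act 7 n30295
theorem D64319 : act 7 n30295 = n64319 := rfl
theorem F100149 : act 4 n64319 = n30298 := d11_1 D64319 (iv7 D30298) (iv4 F48728)
def n64320 : Q := act 3 n30296
theorem D64320 : act 3 n30296 = n64320 := rfl
def n64321 : Q := act 4 n30296
theorem D64321 : act 4 n30296 = n64321 := rfl
def n64322 : Q := act 3 n30297
theorem D64322 : act 3 n30297 = n64322 := rfl
def n64323 : Q := act 4 n30297
theorem D64323 : act 4 n30297 = n64323 := rfl
theorem F100150 : act 0 n64323 = n30305 := d18_2 (iv1 F79931) D64323 (iv4 F50027) F50028 (iv4 F82847) (iv0 F82848) F81536 F39424 (iv5 F79928)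
theorem E8903 : n31722 = n31425 := (c20_5 D64323 F100150 (iv4 F50027) F50026 D31722 (iv3 D31425) (iv4 F79951) (iv1 F79961) F79958 (iv3 F79927) (iv1 F79931))
theorem F100151 : act 0 n31425 = n49624 := (sb E8903 (iv1 F78379))
theorem F100152 : act 1 n31425 = n14924 := (sb E8903 (iv0 D31722))
theorem F100153 : act 2 n31425 = n49622 := (sb E8903 F93347)
theorem E8904 : n59007 = n58884 := ((F93203).symm.trans (sb E8903 (iv5 F93104)))
theorem F100154 : act 6 n31425 = n51257 := (sb E8903 (iv6 F80847))
theorem E8905 : n52083 = n49623 := (((iv7 F82316)).symm.trans (sb E8903 F93345))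
theorem F100155 : act 3 n58884 = n28042 := (sb E8904 F93202)
theorem F100156 : act 5 n58884 = n31425 := (sb E8904 (iv5 F93203))
theorem E8906 : n28039 = n27994 := ((((iv6 D58884)).symm.trans (sb E8904 (iv6 D59007)))).symm
theorem E8907 : n59270 = n59157 := ((((iv7 F93344)).symm.trans (sb E8904 (iv7 F93493)))).symm
theorem F100157 : act 3 n49623 = n25282 := (sb E8905 (iv3 D52083))
theorem F100158 : act 6 n49623 = n62169 := (sb E8905 (iv6 F96917))
theorem F100159 : act 7 n49623 = n31425 := (sb E8905 F82316)
theorem E8908 : n59002 = n13359 := ((((iv1 D27994)).symm.trans (sb E8906 D59002))).symm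
theorem E8910 : n59004 = n58881 := ((((iv2 F93102)).symm.trans (sb E8906 D59004))).symm
theorem E8911 : n58882 = n13377 := ((D58882).symm.trans (sb E8906 (iv3 D28039)))
theorem E8912 : n59005 = n58883 := (((D58883).symm.trans (sb E8906 D59005))).symm
theorem E8913 : n59006 = n51258 := ((((iv5 F80848)).symm.trans (sb E8906 D59006))).symm
theorem E8914 : n58877 = n28126 := ((F93101).symm.trans (sb E8906 F45478))
theorem F100160 : act 3 n59157 = n28144 := (sb E8907 F93492)
theorem E8915 : n28142 = n28100 := ((((iv6 D59157)).symm.trans (sb E8907 (iv6 D59270)))).symm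
theorem E8916 : n59236 = n27993 := (((D27993).symm.trans (sb E8908 (iv1 F93438)))).symm
theorem F100162 : act 1 n58881 = n59234 := (sb E8910 F93434)
theorem F100164 : act 3 n13377 = n27994 := (sb E8911 (iv3 D58882))
theorem F100165 : act 7 n58883 = n59237 := (sb E8912 (iv7 F93442))
theorem F100166 : act 3 n51258 = n28041 := (sb E8913 F93200)
theorem E8917 : n48881 = n24925 := ((((iv6 D51258)).symm.trans (sb E8913 (iv6 F93201)))).symm
theorem F100167 : act 7 n51258 = n59238 := (sb E8913 (iv7 F93444))
theorem E8918 : n59158 = n28056 := (((F45445).symm.trans (sb E8914 F93343))).symm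
theorem F100168 : act 7 n28126 = n27994 := (sb E8914 (iv7 F93101))
theorem E8921 : n59268 = n59154 := (((D59154).symm.trans (sb E8915 D59268))).symm
theorem E8922 : n59155 = n13431 := ((D59155).symm.trans (sb E8915 (iv3 D28142)))
theorem E8923 : n59269 = n59156 := (((D59156).symm.trans (sb E8915 D59269))).symm
theorem E8924 : n28929 = n28782 := ((((iv5 F77811)).symm.trans (sb E8915 (iv5 F46569)))).symm
theorem F100169 : act 2 n27993 = n28126 := (sb E8916 (iv2 D59236))
theorem E8925 : n58998 = n58878 := (((D58878).symm.trans (sb E8916 F93435))).symm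
theorem E8926 : n59039 = n28101 := (((F78435).symm.trans (sb E8916 F93436))).symm
theorem E8927 : n51255 = n23831 := ((D51255).symm.trans (sb E8917 (iv3 D48881)))
theorem E8928 : n51249 = n28351 := ((F80843).symm.trans (sb E8917 F76999))
theorem E8929 : n60625 = n29477 := ((((iv5 F47267)).symm.trans (sb E8918 (iv5 F95233)))).symm
theorem F100170 : act 7 n28056 = n28100 := (sb E8918 (iv7 D59158))
theorem F100173 : act 3 n59154 = n59034 := (sb E8921 F93486)
theorem E8930 : n61033 = n60621 := ((((iv5 F95228)).symm.trans (sb E8921 (iv5 F95566)))).symm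
theorem F100174 : act 3 n13431 = n28100 := (sb E8922 (iv3 D59155))
theorem E8931 : n60622 = n13781 := ((((iv5 F23307)).symm.trans (sb E8922 (iv5 F95230)))).symm
theorem F100175 : act 7 n59156 = n59040 := (sb E8923 F93491)
theorem E8934 : n61034 = n60623 := (((D60623).symm.trans (sb E8924 D61034))).symm
theorem E8935 : n61035 = n60624 := (((D60624).symm.trans (sb E8924 D61035))).symm
theorem E8936 : n59273 = n59159 := ((((iv6 F93349)).symm.trans (sb E8925 (iv6 F93497)))).symm
theorem F100180 : act 2 n28101 = n28056 := (sb E8926 (iv2 D59039))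
theorem E8937 : n62301 = n28783 := (((F78434).symm.trans (sb E8926 (iv5 F97146)))).symm
theorem F100181 : act 3 n23831 = n24925 := (sb E8927 (iv3 D51255))
theorem E8938 : n59785 = n24924 := ((D59785).symm.trans (sb E8928 (iv2 D51249)))
theorem F100182 : act 7 n28351 = n24925 := (sb E8928 (iv7 F80843))
theorem E8939 : n61919 = n28903 := (((F47268).symm.trans (sb E8929 (iv6 F96522)))).symm
theorem F100183 : act 7 n29477 = n28782 := (sb E8929 (iv7 D60625))
theorem F100185 : act 1 n60621 = n62299 := (sb E8930 F97144)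
theorem F100186 : act 3 n60621 = n62293 := (sb E8930 (iv3 F97123))
theorem F100187 : act 3 n13781 = n28782 := (sb E8931 (iv3 D60622))
theorem F100188 : act 7 n60623 = n62302 := (sb E8934 (iv7 F97153))
theorem F100189 : act 3 n60624 = n28931 := (sb E8935 F95567)
theorem F100190 : act 5 n60624 = n62169 := (sb E8935 (iv5 F96916))
theorem E8940 : n62246 = n61927 := ((((iv7 F96529)).symm.trans (sb E8935 (iv7 F97046)))).symm
theorem F100191 : act 0 n59159 = n59033 := (sb E8936 (iv1 F93501))
theorem E8941 : n61041 = n60626 := ((((iv5 F95234)).symm.trans (sb E8936 (iv5 F95572)))).symm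
theorem F100195 : act 2 n28783 = n29477 := (sb E8937 (iv2 D62301))
theorem E8942 : n60958 = n29335 := ((((iv6 F78436)).symm.trans (sb E8937 F97147))).symm
theorem F100196 : act 2 n24924 = n28351 := (sb E8938 (iv2 D59785))
theorem E8943 : n29454 = n29336 := (((iv7 F47215)).symm.trans (sb E8939 (iv7 F96523)))
theorem F100197 : act 3 n61927 = n29456 := (sb E8940 F97044)
theorem E8944 : n60886 = n60574 := (((F96530).symm.trans (sb E8940 F97045))).symm
theorem E8945 : n62236 = n61920 := ((((iv6 F96524)).symm.trans (sb E8941 (iv6 F97019)))).symm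
theorem F100202 : act 2 n29335 = n28903 := (sb E8942 (iv2 D60958))
theorem E8948 : n62244 = n61923 := (((D61923).symm.trans (sb E8942 (iv7 F97039)))).symm
theorem E8949 : n61924 = n14006 := ((D61924).symm.trans (sb E8943 (iv3 D29454)))
theorem E8950 : n62245 = n61925 := (((D61925).symm.trans (sb E8943 D62245))).symm
theorem E8951 : n61926 = n59788 := ((D61926).symm.trans (sb E8943 F94137))
theorem F100203 : act 7 n29336 = n28903 := (sb E8943 F47215)
theorem F100204 : act 3 n60574 = n28879 := (sb E8944 (iv3 D60886))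
theorem F100205 : act 6 n60574 = n59787 := (sb E8944 F95426)
theorem F100206 : act 7 n60574 = n62169 := (sb E8944 (iv7 F96918))
theorem F100210 : act 7 n61920 = n60966 := (sb E8945 F97020)
theorem F100211 : act 0 n61923 = n60957 := (sb E8948 (iv1 F97042))
theorem F100213 : act 3 n61923 = n60966 := (sb E8948 F97038)
theorem F100214 : act 3 n14006 = n29336 := (sb E8949 (iv3 D61924))
theorem F100215 : act 7 n61925 = n60959 := (sb E8950 F97043)
theorem F100216 : act 5 n59788 = n29336 := (sb E8951 (iv5 D61926))
theorem E8952 : n31713 = n28351 := ((((iv6 D59788)).symm.trans (sb E8951 F96528))).symm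
theorem E8953 : n59783 = n24897 := ((D59783).symm.trans (sb E8952 (iv1 F50018)))
theorem E8954 : n59784 = n14918 := ((D59784).symm.trans (sb E8952 (iv0 D31713)))
theorem F100217 : act 1 n24897 = n28351 := (sb E8953 (iv0 D59783))
theorem F100218 : act 0 n14918 = n28351 := (sb E8954 (iv1 D59784))
theorem F100219 : act 0 n64058 = n30386 := d20_1 D64058 (iv4 F50016) F50015 F100218 (iv3 D28351) (iv4 F94145) (iv1 F41120) F24172 (iv3 F23972) (iv1 F48572)
theorem E8955 : n51254 = n31714 := ((c15_2 (iv0 F100218) D31714 (iv7 D51254) F100196)).symm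
theorem F100220 : act 2 n31714 = n24925 := (sb E8955 F80846)
theorem F100221 : act 7 n31714 = n24924 := (sb E8955 (iv7 D51254))
theorem F100222 : act 3 n59797 = n31714 := d0_0 F100220 (iv3 F100181) F45482 D28355 D59797
theorem F100223 : act 7 n51250 = n59797 := d8_0 F100222 F100221 D51250
theorem F100224 : act 2 n48879 = n51250 := d4_3 F100223 (iv2 D59797) (iv7 F76996)
theorem F100227 : act 1 n64054 = n30386 := d15_0 (iv0 F100219) (iv7 F99748) F99791
theorem F100228 : act 4 n51244 = n53365 := d20_2 (iv4 F80711) (iv1 F80834) (iv3 D53365) (iv1 D25859) F20333 (iv4 F20478) D26018 F94145 D28351 (iv1 F100217)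
theorem F100229 : act 0 n49644 = n59787 := d21_10 (iv5 D59787) (iv1 F100217) F39034 (iv6 D24897) (iv1 F22146) D27933 F45121 D31356 F49620 D49644
theorem F100230 : act 0 n61903 = n63559 := d20_7 (iv4 F46586) (iv1 F49206) (iv4 D29455) F100214 (iv1 D29336) (iv3 F46994) (iv4 F96505) (iv4 D63559) (iv3 D30009) (iv1 F23774)
theorem F100231 : act 7 n51257 = n59787 := d14_4 F100206 (iv6 F100158) F100159 F100154 (iv6 F100205)
theorem F100232 : act 2 n62169 = n60575 := d15_3 F95191 F95190 F100206
theorem F100233 : act 6 n60575 = n31723 := d3_2 F100158 F100232 (iv2 F93346)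
theorem F100234 : act 3 n31427 = n51257 := d8_3 F100231 F94135 (iv7 F49715)
theorem F100235 : act 2 n60959 = n61921 := d1_3 (iv4 D61921) F100202 D60959
theorem F100236 : act 2 n60960 = n61922 := d2_3 (iv5 D61922) F100202 D60960
theorem F100237 : act 2 n58880 = n59238 := d3_3 (iv6 F95500) F100236 F96526
theorem F100238 : act 1 n51209 = n59788 := d15_1 (iv0 F96703) (iv7 F95501) F100236
theorem F100239 : act 2 n60627 = n62302 := d3_3 F97152 F100235 F96525
theorem F100240 : act 2 n59786 = n51251 := d1_3 (iv4 D51251) F100196 D59786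
theorem F100241 : act 2 n59787 = n51252 := d2_3 (iv5 D51252) F100196 D59787
theorem F100242 : act 2 n59788 = n51253 := d3_3 (iv6 D51253) F100196 D59788
theorem E8956 : n61923 = n49256 := ((c2_3 (iv5 F100216) F100242 F80845 F96527)).symm
theorem E8957 : n60957 = n24038 := ((((iv1 D49256)).symm.trans (sb E8956 F100211))).symm
theorem F100243 : act 2 n49256 = n29336 := (sb E8956 F96527)
theorem F100244 : act 3 n49256 = n60966 := (sb E8956 F100213)
theorem F100245 : act 7 n49256 = n29335 := (sb E8956 (iv7 D61923))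
theorem E8959 : n49255 = n28903 := ((D49255).symm.trans (sb E8957 (iv1 D60957)))
theorem F100246 : act 0 n28903 = n29337 := (sb E8959 (iv1 F77824))
theorem F100247 : act 1 n28903 = n24038 := (sb E8959 (iv0 D49255))
theorem E8960 : n58834 = n29477 := ((((iv6 F47268)).symm.trans (sb E8959 (iv6 F93013)))).symm
theorem E8961 : n62299 = n27972 := ((D62299).symm.trans (sb E8960 (iv1 D58834)))
theorem E8962 : n62300 = n28784 := ((D62300).symm.trans (sb E8960 F93010))
theorem E8963 : n49078 = n28056 := (((F47267).symm.trans (sb E8960 (iv5 F93011)))).symm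
theorem E8964 : n60621 = n58833 := (((D58833).symm.trans (sb E8961 (iv1 F100185)))).symm
theorem F100248 : act 1 n27972 = n29477 := (sb E8961 (iv0 D62299))
theorem F100249 : act 0 n28784 = n29477 := (sb E8962 (iv1 D62300))
theorem E8965 : n59037 = n23943 := ((D59037).symm.trans (sb E8963 (iv1 D49078)))
theorem E8966 : n59038 = n28102 := ((D59038).symm.trans (sb E8963 F77458))
theorem E8967 : n58778 = n28126 := ((((iv6 F45445)).symm.trans (sb E8963 (iv6 F93012)))).symm
theorem F100250 : act 2 n58833 = n28782 := (sb E8964 (iv2 D60621))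
theorem F100251 : act 3 n58833 = n62293 := (sb E8964 F100186)
theorem E8968 : n59154 = n49077 := (((F93008).symm.trans (sb E8964 F95228))).symm
theorem F100252 : act 7 n58833 = n28783 := (sb E8964 (iv7 F95229))
theorem F100253 : act 1 n23943 = n28056 := (sb E8965 (iv0 D59037))
theorem F100254 : act 0 n28102 = n28056 := (sb E8966 (iv1 D59038))
theorem E8969 : n59234 = n27995 := ((D59234).symm.trans (sb E8967 (iv1 F92915)))
theorem E8970 : n59235 = n27948 := ((D59235).symm.trans (sb E8967 (iv0 D58778)))
theorem F100255 : act 2 n49077 = n28100 := (sb E8968 (iv2 D59154))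
theorem F100256 : act 3 n49077 = n59034 := (sb E8968 F100173)
theorem F100257 : act 7 n49077 = n28101 := (sb E8968 (iv7 F93339))
theorem E8971 : n58881 = n58779 := ((((iv1 F92916)).symm.trans (sb E8969 (iv1 F100162)))).symm
theorem F100258 : act 1 n27995 = n28126 := (sb E8969 (iv0 D59234))
theorem F100259 : act 0 n27948 = n28126 := (sb E8970 (iv1 D59235))
theorem F100260 : act 2 n58779 = n27994 := (sb E8971 F93102)
theorem F100262 : act 7 n58779 = n27993 := (sb E8971 (iv7 D58881))
theorem F100263 : act 7 n51253 = n61922 := d4_2 F95501 F100242 (iv2 F100236)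
theorem F100264 : act 1 n60960 = n59640 := d15_0 (iv0 F96449) F100263 (iv2 F100236)
theorem F100265 : act 0 n59237 = n58921 := d18_2 F100259 D59237 F93138 (iv5 D52009) (iv4 F78255) (iv0 D31733) F24591 D14930 (iv5 F45166)
theorem F100266 : act 0 n59238 = n51221 := d21_1 D59238 F80814 F94075 (iv1 D58807) (iv6 D27964) F22207 F24469 (iv5 F24468) D27948 F100259
theorem E8972 : n50722 = n50365 := ((c20_8 (iv4 F39573) (iv1 F39576) F79847 D28056 (iv1 F100253) (iv3 F77455) F77456 D50365 (iv4 D50722) (iv3 D24692) (iv1 F19707))).symm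
theorem F100267 : act 4 n50365 = n24692 := (sb E8972 (iv4 D50722))
theorem F100268 : act 7 n50365 = n51817 := (sb E8972 (iv7 F81835))
theorem E8973 : n63586 = n63496 := ((c20_8 (iv4 F46591) (iv1 F79873) (iv4 D29478) D29477 (iv1 F100248) (iv3 F79251) F79252 D63496 (iv4 D63586) (iv3 D30022) F23781)).symm
theorem F100269 : act 4 n63496 = n30022 := (sb E8973 (iv4 D63586))
theorem F100270 : act 7 n63496 = n63208 := (sb E8973 F98923)
theorem E8974 : n63760 = n63748 := ((c20_1 D63748 (iv1 D63760) (iv4 F77813) F77812 (iv1 F100247) (iv3 D28903) D28904 F53621 F47289 (iv3 F48200) (iv1 F48343))).symm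
theorem F100271 : act 0 n63748 = n30087 := (sb E8974 (iv1 D63760))
theorem F100272 : act 1 n63748 = n63851 := (sb E8974 F99308)
theorem E8975 : n63759 = n63744 := (c15_2 F100272 F99309 (iv7 F99781) F99788)
theorem F100273 : act 0 n63744 = n63851 := (sb E8975 (iv1 F99309))
theorem F100274 : act 1 n63744 = n30087 := (sb E8975 (iv0 D63759))
theorem F100275 : act 1 n51179 = n51257 := d15_1 (iv0 F80844) F100231 F100241
theorem F100276 : act 0 n59215 = n58884 := d21_1 (iv5 F93418) F100156 F100154 (iv1 F100275) (iv6 D51179) (iv5 F39044) (iv1 F49627) (iv5 F92831) F92832 (iv1 F80705)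
theorem F100277 : act 0 n51203 = n60624 := d21_1 D51203 F100190 (iv6 F100158) (iv1 D49623) (iv6 D24199) F18551 (iv1 F18308) F18307 D11823 D24909
theorem F100278 : act 0 n62169 = n31406 := d21_7 (iv5 F46328) (iv1 F39757) F22168 D13726 D28782 D60624 F100190 F49671 (iv6 D28724) (iv1 F46326)
theorem F100279 : act 0 n49666 = n62169 := d21_10 (iv5 F100190) F95231 (iv5 D51208) D51209 F96703 F96526 (iv5 D58880) (iv1 F78453) (iv5 D49665) D49666
theorem F100280 : act 7 n51256 = n59786 := d11_2 F100182 D51256 (iv4 D59786)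
theorem F100281 : act 2 n59040 = n59160 := d1_3 (iv4 D59160) F100180 D59040
theorem F100282 : act 2 n58879 = n59237 := d3_3 F93441 F100281 F93350
theorem E8976 : n58919 = n58879 := ((c15_4 (iv0 D58919) (iv0 F93103) F100165 (iv2 F100282))).symm
theorem F100283 : act 1 n58879 = n28008 := (sb E8976 (iv0 D58919))
theorem F100284 : act 0 n51346 = n50651 := d20_7 (iv4 F39495) (iv1 F39498) F46777 F100164 (iv1 D27994) (iv3 F45258) (iv4 F81044) (iv4 D50651) (iv3 D24665) (iv1 F19691)
def n64324 : Q := act 0 n30299
theorem D64324 : act 0 n30299 = n64324 := rfl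
def n64325 : Q := act 1 n30299
theorem D64325 : act 1 n30299 = n64325 := rfl
def n64326 : Q := act 2 n30299
theorem D64326 : act 2 n30299 = n64326 := rfl
theorem F100285 : act 4 n64326 = n30741 := d1_2 (iv4 F48729) D64326 (iv2 D30741)
def n64327 : Q := act 5 n30299
theorem D64327 : act 5 n30299 = n64327 := rfl
theorem F100286 : act 3 n64327 = n30300 := d6_1 D64327 (iv5 D30300) D30299
def n64328 : Q := act 6 n30299
theorem D64328 : act 6 n30299 = n64328 := rfl
theorem F100287 : act 3 n64328 = n30301 := d7_1 D64328 (iv6 D30301) D30299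
theorem F100288 : act 4 n64328 = n30743 := d10_1 D64328 (iv6 D30743) (iv4 F48729)
def n64329 : Q := act 6 n30300
theorem D64329 : act 6 n30300 = n64329 := rfl
def n64330 : Q := act 0 n30301
theorem D64330 : act 0 n30301 = n64330 := rfl
theorem F100289 : act 6 n64330 = n62659 := d21_5 D30180 (iv1 F48731) (iv5 D30300) D30301 D64330 (iv5 F99411) (iv1 D63914) (iv5 D30143) F23908 D14326
theorem F100290 : act 4 n63361 = n64330 := d10_3 F100289 F97750 D63361
def n64331 : Q := act 1 n30301
theorem D64331 : act 1 n30301 = n64331 := rfl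
def n64332 : Q := act 5 n30301
theorem D64332 : act 5 n30301 = n64332 := rfl
def n64333 : Q := act 0 n30303
theorem D64333 : act 0 n30303 = n64333 := rfl
def n64334 : Q := act 1 n30303
theorem D64334 : act 1 n30303 = n64334 := rfl
def n64335 : Q := act 2 n30303
theorem D64335 : act 2 n30303 = n64335 := rfl
def n64336 : Q := act 5 n30303
theorem D64336 : act 5 n30303 = n64336 := rfl
theorem F100291 : act 3 n64336 = n30304 := d6_1 D64336 (iv5 D30304) D30303
def n64337 : Q := act 6 n30303
theorem D64337 : act 6 n30303 = n64337 := rfl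
theorem F100292 : act 3 n64337 = n30305 := d7_1 D64337 (iv6 D30305) D30303
def n64338 : Q := act 6 n30304
theorem D64338 : act 6 n30304 = n64338 := rfl
def n64339 : Q := act 0 n30305
theorem D64339 : act 0 n30305 = n64339 := rfl
def n64340 : Q := act 5 n30305
theorem D64340 : act 5 n30305 = n64340 := rfl
theorem F100293 : act 0 n64165 = n64340 := d21_7 D14411 (iv1 F48748) F48749 F48627 (iv1 D30233) D30236 D64165 (iv5 D64340) (iv6 D30305) (iv1 F24027)
def n64341 : Q := act 7 n30305
theorem D64341 : act 7 n30305 = n64341 := rfl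
def n64342 : Q := act 0 n30306
theorem D64342 : act 0 n30306 = n64342 := rfl
def n64343 : Q := act 1 n30306
theorem D64343 : act 1 n30306 = n64343 := rfl
def n64344 : Q := act 2 n30306
theorem D64344 : act 2 n30306 = n64344 := rfl
def n64345 : Q := act 5 n30306
theorem D64345 : act 5 n30306 = n64345 := rfl
theorem F100294 : act 3 n64345 = n30308 := d6_1 D64345 (iv5 D30308) D30306
def n64346 : Q := act 6 n30306
theorem D64346 : act 6 n30306 = n64346 := rfl
theorem F100295 : act 3 n64346 = n30309 := d7_1 D64346 (iv6 D30309) D30306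
def n64347 : Q := act 6 n30307
theorem D64347 : act 6 n30307 = n64347 := rfl
theorem F100296 : act 2 n64347 = n49625 := d3_1 D64347 (iv6 D49625) (iv2 F48737)
theorem F100297 : act 3 n64347 = n59489 := d7_1 D64347 (iv6 D59489) F48740
theorem F100298 : act 4 n64347 = n30309 := d10_1 D64347 (iv6 D30309) D30307
theorem F100299 : act 5 n64347 = n59336 := d12_1 D64347 (iv6 D59336) (iv5 F82068) F82071 F78573
theorem F100300 : act 0 n64347 = n58737 := d21_4 (iv5 F38843) (iv1 F78570) F78573 D64347 (iv6 D58737) (iv5 D27926) (iv1 D13317) D13318 F22135 (iv1 F24109)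
theorem E8977 : n63849 = n63553 := (c18_7 (iv1 F99128) (iv4 F99854) (iv1 F99855) (iv4 F100298) F100299 F93600 D63849 (iv4 D63553) F48349 (iv5 F99126))
theorem F100301 : act 0 n63553 = n30122 := (sb E8977 (iv1 D63849))
theorem F100302 : act 1 n63553 = n63762 := (sb E8977 F99303)
theorem E8978 : n63848 = n63549 := (c15_2 F100302 F99307 (iv7 F99787) (iv2 F99788))
theorem F100303 : act 0 n63549 = n63762 := (sb E8978 (iv1 F99307))
theorem F100304 : act 1 n63549 = n30122 := (sb E8978 (iv0 D63848))
def n64348 : Q := act 6 n30308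
theorem D64348 : act 6 n30308 = n64348 := rfl
def n64349 : Q := act 5 n30309
theorem D64349 : act 5 n30309 = n64349 := rfl
def n64350 : Q := act 7 n30309
theorem D64350 : act 7 n30309 = n64350 := rfl
def n64351 : Q := act 2 n30310
theorem D64351 : act 2 n30310 = n64351 := rfl
theorem F100305 : act 7 n30311 = n64351 := d15_2 (iv0 D30310) D30311 (iv2 D64351)
def n64352 : Q := act 3 n30310
theorem D64352 : act 3 n30310 = n64352 := rfl
def n64353 : Q := act 4 n30310
theorem D64353 : act 4 n30310 = n64353 := rfl
def n64354 : Q := act 5 n30310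
theorem D64354 : act 5 n30310 = n64354 := rfl
def n64355 : Q := act 6 n30310
theorem D64355 : act 6 n30310 = n64355 := rfl
def n64356 : Q := act 7 n30310
theorem D64356 : act 7 n30310 = n64356 := rfl
theorem F100306 : act 2 n64356 = n30311 := d4_1 D64356 F100305 (iv2 D64351)
def n64357 : Q := act 3 n30311
theorem D64357 : act 3 n30311 = n64357 := rfl
def n64358 : Q := act 4 n30311
theorem D64358 : act 4 n30311 = n64358 := rfl
def n64359 : Q := act 5 n30311
theorem D64359 : act 5 n30311 = n64359 := rfl
def n64360 : Q := act 6 n30311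
theorem D64360 : act 6 n30311 = n64360 := rfl
def n64361 : Q := act 5 n30312
theorem D64361 : act 5 n30312 = n64361 := rfl
theorem F100307 : act 2 n64361 = n30313 := d2_1 D64361 (iv5 D30313) D30312
def n64362 : Q := act 6 n30312
theorem D64362 : act 6 n30312 = n64362 := rfl
theorem F100308 : act 2 n64362 = n30314 := d3_1 D64362 (iv6 D30314) D30312
def n64363 : Q := act 0 n30313
theorem D64363 : act 0 n30313 = n64363 := rfl
def n64364 : Q := act 1 n30313
theorem D64364 : act 1 n30313 = n64364 := rfl
def n64365 : Q := act 6 n30313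
theorem D64365 : act 6 n30313 = n64365 := rfl
theorem F100309 : act 3 n64365 = n30317 := d7_1 D64365 (iv6 D30317) (iv3 F48744)
def n64366 : Q := act 0 n30314
theorem D64366 : act 0 n30314 = n64366 := rfl
def n64367 : Q := act 1 n30314
theorem D64367 : act 1 n30314 = n64367 := rfl
def n64368 : Q := act 5 n30314
theorem D64368 : act 5 n30314 = n64368 := rfl
theorem F100310 : act 3 n64368 = n30320 := d6_1 D64368 (iv5 D30320) (iv3 F48745)
def n64369 : Q := act 7 n30314
theorem D64369 : act 7 n30314 = n64369 := rfl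
theorem F100311 : act 3 n64369 = n30321 := d8_1 D64369 (iv7 D30321) (iv3 F48745)
def n64370 : Q := act 3 n30315
theorem D64370 : act 3 n30315 = n64370 := rfl
theorem F100312 : act 5 n64370 = n30385 := d6_2 (iv5 F48746) D64370 (iv3 D30385)
def n64371 : Q := act 6 n30315
theorem D64371 : act 6 n30315 = n64371 := rfl
def n64372 : Q := act 3 n30316
theorem D64372 : act 3 n30316 = n64372 := rfl
theorem F100313 : act 5 n64372 = n30387 := d6_2 (iv5 F48749) D64372 (iv3 D30387)
def n64373 : Q := act 6 n30316
theorem D64373 : act 6 n30316 = n64373 := rfl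
def n64374 : Q := act 0 n30317
theorem D64374 : act 0 n30317 = n64374 := rfl
def n64375 : Q := act 1 n30317
theorem D64375 : act 1 n30317 = n64375 := rfl
def n64376 : Q := act 5 n30317
theorem D64376 : act 5 n30317 = n64376 := rfl
theorem F100314 : act 6 n64376 = n30320 := d12_2 D30317 D64376 (iv5 D30320) (iv6 D14387) D14386
def n64377 : Q := act 7 n30317
theorem D64377 : act 7 n30317 = n64377 := rfl
def n64378 : Q := act 2 n30318
theorem D64378 : act 2 n30318 = n64378 := rfl
theorem F100315 : act 7 n30319 = n64378 := d15_2 (iv0 D30318) D30319 (iv2 D64378)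
def n64379 : Q := act 3 n30318
theorem D64379 : act 3 n30318 = n64379 := rfl
def n64380 : Q := act 4 n30318
theorem D64380 : act 4 n30318 = n64380 := rfl
def n64381 : Q := act 5 n30318
theorem D64381 : act 5 n30318 = n64381 := rfl
theorem F100316 : act 0 n64381 = n64184 := d17_2 D30318 D64381 (iv5 D64184) F48630 (iv5 F37825) (iv0 F48752) (iv5 D30325) (iv0 D14388) (iv4 F24029)
theorem F100317 : act 6 n64126 = n30318 := d21_5 (iv5 F99814) (iv1 D64124) (iv5 D30220) D30221 D64126 D64381 F100316 (iv5 D64184) (iv6 D30242) (iv1 F48624)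
def n64382 : Q := act 7 n30318
theorem D64382 : act 7 n30318 = n64382 := rfl
theorem F100318 : act 2 n64382 = n30319 := d4_1 D64382 F100315 (iv2 D64378)
def n64383 : Q := act 3 n30319
theorem D64383 : act 3 n30319 = n64383 := rfl
def n64384 : Q := act 4 n30319
theorem D64384 : act 4 n30319 = n64384 := rfl
def n64385 : Q := act 5 n30319
theorem D64385 : act 5 n30319 = n64385 := rfl
def n64386 : Q := act 6 n30319
theorem D64386 : act 6 n30319 = n64386 := rfl
def n64387 : Q := act 0 n30320
theorem D64387 : act 0 n30320 = n64387 := rfl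
def n64388 : Q := act 1 n30320
theorem D64388 : act 1 n30320 = n64388 := rfl
def n64389 : Q := act 4 n30320
theorem D64389 : act 4 n30320 = n64389 := rfl
def n64390 : Q := act 7 n30320
theorem D64390 : act 7 n30320 = n64390 := rfl
theorem F100319 : act 5 n64390 = n30321 := d13_1 D64390 (iv7 D30321) D30320
def n64395 : Q := act 5 n30323
theorem D64395 : act 5 n30323 = n64395 := rfl
theorem F100320 : act 3 n64395 = n30325 := d6_1 D64395 (iv5 D30325) D30323
theorem F100321 : act 7 n64395 = n53223 := d13_2 F99846 D64395 (iv5 F99468)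
def n64396 : Q := act 0 n30324
theorem D64396 : act 0 n30324 = n64396 := rfl
theorem F100322 : act 1 n30328 = n64396 := d15_0 (iv0 D64396) (iv7 F99847) F99851
def n64397 : Q := act 1 n30324
theorem D64397 : act 1 n30324 = n64397 := rfl
theorem F100323 : act 1 n64397 = n30328 := d15_1 D64397 F99850 F99848
def n64398 : Q := act 3 n30324
theorem D64398 : act 3 n30324 = n64398 := rfl
def n64399 : Q := act 5 n30324
theorem D64399 : act 5 n30324 = n64399 := rfl
def n64400 : Q := act 4 n30325
theorem D64400 : act 4 n30325 = n64400 := rfl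
theorem F100324 : act 2 n64400 = n53227 := d1_1 D64400 (iv4 D53227) (iv2 F99838)
theorem F100325 : act 7 n64400 = n53224 := d11_2 (iv7 F99839) D64400 (iv4 D53224)
def n64401 : Q := act 6 n30325
theorem D64401 : act 6 n30325 = n64401 := rfl
theorem F100326 : act 2 n64401 = n53228 := d3_1 D64401 (iv6 D53228) (iv2 F99838)
def n64406 : Q := act 5 n30327
theorem D64406 : act 5 n30327 = n64406 := rfl
theorem F100327 : act 3 n64406 = n30329 := d6_1 D64406 (iv5 D30329) D30327
def n64407 : Q := act 6 n30327
theorem D64407 : act 6 n30327 = n64407 := rfl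
theorem F100329 : act 3 n64407 = n30330 := d7_1 D64407 (iv6 D30330) D30327
def n64408 : Q := act 3 n30328
theorem D64408 : act 3 n30328 = n64408 := rfl
def n64409 : Q := act 5 n30328
theorem D64409 : act 5 n30328 = n64409 := rfl
def n64410 : Q := act 6 n30328
theorem D64410 : act 6 n30328 = n64410 := rfl
theorem F100330 : act 4 n64410 = n30330 := d10_1 D64410 (iv6 D30330) D30328
def n64411 : Q := act 4 n30329
theorem D64411 : act 4 n30329 = n64411 := rfl
theorem F100331 : act 2 n64411 = n53224 := d1_1 D64411 (iv4 D53224) (iv2 F99831)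
theorem F100332 : act 7 n64411 = n53227 := d11_2 (iv7 F99832) D64411 (iv4 D53227)
def n64412 : Q := act 3 n30331
theorem D64412 : act 3 n30331 = n64412 := rfl
def n64413 : Q := act 4 n30331
theorem D64413 : act 4 n30331 = n64413 := rfl
def n64414 : Q := act 6 n30331
theorem D64414 : act 6 n30331 = n64414 := rfl
theorem F100333 : act 5 n64414 = n61421 := d21_6 (iv5 D14392) (iv1 D6883) D6884 (iv6 F24030) D30331 D64414 (iv1 D61421) F46719 (iv6 D16503) F24034
theorem F100334 : act 0 n64414 = n63173 := d21_10 (iv5 D63173) (iv1 D29865) (iv5 F40790) (iv6 D25803) (iv1 D12252) D12254 D25811 D53229 F84067 D64414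
theorem F100335 : act 0 n63169 = n64414 := d21_4 F24321 D25115 D51714 (iv6 F98433) (iv6 D64414) (iv5 F84067) F84068 (iv5 F78194) F78195 (iv1 F40805)
def n64415 : Q := act 3 n30332
theorem D64415 : act 3 n30332 = n64415 := rfl
def n64416 : Q := act 4 n30332
theorem D64416 : act 4 n30332 = n64416 := rfl
def n64417 : Q := act 0 n30333
theorem D64417 : act 0 n30333 = n64417 := rfl
def n64418 : Q := act 1 n30333
theorem D64418 : act 1 n30333 = n64418 := rfl
def n64419 : Q := act 3 n30333
theorem D64419 : act 3 n30333 = n64419 := rfl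
theorem F100336 : act 6 n64419 = n30337 := d7_2 (iv6 F48757) D64419 (iv3 D30337)
def n64420 : Q := act 5 n30333
theorem D64420 : act 5 n30333 = n64420 := rfl
def n64421 : Q := act 7 n30333
theorem D64421 : act 7 n30333 = n64421 := rfl
theorem F100337 : act 4 n64421 = n30334 := d11_1 D64421 (iv7 D30334) D30333
def n64422 : Q := act 3 n30335
theorem D64422 : act 3 n30335 = n64422 := rfl
theorem F100338 : act 4 n64422 = n30819 := d5_2 D30335 D64422 (iv3 D30819) (iv4 D14593) (iv3 F24031)
theorem F100339 : act 7 n64422 = n61444 := d8_2 (iv7 F48759) D64422 (iv3 D61444)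
def n64423 : Q := act 5 n30335
theorem D64423 : act 5 n30335 = n64423 := rfl
theorem F100340 : act 7 n64423 = n61445 := d13_2 (iv7 F48759) D64423 (iv5 D61445)
def n64424 : Q := act 3 n30336
theorem D64424 : act 3 n30336 = n64424 := rfl
def n64425 : Q := act 5 n30336
theorem D64425 : act 5 n30336 = n64425 := rfl
theorem F100341 : act 4 n64425 = n52198 := d16_2 F78924 D64425 (iv5 D52198) (iv4 D25352) (iv5 D12039) F8794 D12020 D25320 (iv2 F78919)
def n64426 : Q := act 6 n30336
theorem D64426 : act 6 n30336 = n64426 := rfl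
def n64427 : Q := act 0 n30337
theorem D64427 : act 0 n30337 = n64427 := rfl
theorem F100342 : act 1 n34081 = n64427 := d15_0 (iv0 D64427) (iv7 F96863) (iv2 F53494)
def n64428 : Q := act 1 n30337
theorem D64428 : act 1 n30337 = n64428 := rfl
def n64429 : Q := act 2 n30337
theorem D64429 : act 2 n30337 = n64429 := rfl
theorem F100343 : act 4 n64429 = n64309 := d1_2 F78980 D64429 F100144
theorem F100344 : act 5 n64429 = n34038 := d2_2 (iv5 F96861) D64429 F53395
theorem F100345 : act 7 n64429 = n34081 := d4_2 F96863 D64429 F53494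
theorem F100346 : act 1 n64428 = n34081 := d15_1 D64428 (iv7 F100345) (iv2 D64429)
def n64430 : Q := act 0 n30338
theorem D64430 : act 0 n30338 = n64430 := rfl
theorem F100347 : act 5 n64430 = n34050 := d17_3 (iv1 D30336) D30338 D64430 F53428 (iv5 D29321) (iv0 F38727) F39980 (iv0 F78922) F78924
theorem F100348 : act 1 n64429 = n64430 := d15_0 (iv0 D64430) F96863 D64429
def n64431 : Q := act 1 n30338
theorem D64431 : act 1 n30338 = n64431 := rfl
theorem F100349 : act 1 n64431 = n64429 := d15_1 D64431 F100345 F53494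
theorem F100350 : act 5 n64431 = n34051 := d17_7 F24034 (iv5 D14392) (iv1 D6883) D6884 D14393 D30338 D64431 F53430 (iv4 D16502)
def n64432 : Q := act 4 n30338
theorem D64432 : act 4 n30338 = n64432 := rfl
theorem F100351 : act 2 n64432 = n49939 := d1_1 D64432 F78979 F53494
theorem F100352 : act 3 n64432 = n34069 := d5_1 D64432 (iv4 D34069) (iv3 D16504) D16505 (iv3 F96862)
theorem F100353 : act 5 n64432 = n34069 := d9_2 D30338 D64432 (iv4 D34069) F26094 F23988 (iv5 F26064) D34038 (iv5 F100344) F100343 (iv5 D64309) (iv4 D30292) (iv5 D14377) F11140 D6884 D14393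
theorem F100354 : act 7 n64432 = n49941 := d11_2 (iv7 F96863) D64432 F78980
def n64433 : Q := act 6 n30338
theorem D64433 : act 6 n30338 = n64433 := rfl
theorem F100355 : act 3 n64433 = n34075 := d7_1 D64433 (iv6 D34075) (iv3 F96862)
def n64434 : Q := act 3 n30340
theorem D64434 : act 3 n30340 = n64434 := rfl
theorem F100356 : act 4 n64434 = n63944 := d5_2 D30340 D64434 (iv3 D63944) (iv4 D30157) (iv3 F24039)
theorem F100357 : act 7 n64434 = n64276 := d8_2 (iv7 F48764) D64434 (iv3 D64276)
def n64435 : Q := act 6 n30340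
theorem D64435 : act 6 n30340 = n64435 := rfl
theorem F100358 : act 2 n64435 = n30345 := d3_1 D64435 (iv6 D30345) (iv2 F48763)
theorem F100359 : act 4 n64435 = n30341 := d10_1 D64435 (iv6 D30341) D30340
theorem F100360 : act 0 n53938 = n64435 := d21_4 (iv5 F47691) (iv1 F95734) (iv5 D61257) (iv6 F85075) (iv6 D64435) (iv5 F95018) (iv1 D60464) (iv5 D28716) F22853 D25294
def n64436 : Q := act 0 n30342
theorem D64436 : act 0 n30342 = n64436 := rfl
def n64437 : Q := act 1 n30342
theorem D64437 : act 1 n30342 = n64437 := rfl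
def n64438 : Q := act 0 n30343
theorem D64438 : act 0 n30343 = n64438 := rfl
def n64439 : Q := act 1 n30343
theorem D64439 : act 1 n30343 = n64439 := rfl
def n64440 : Q := act 2 n30343
theorem D64440 : act 2 n30343 = n64440 := rfl
theorem F100361 : act 4 n64440 = n30358 := d1_2 (iv4 F48772) D64440 (iv2 D30358)
def n64441 : Q := act 5 n30343
theorem D64441 : act 5 n30343 = n64441 := rfl
theorem F100362 : act 3 n64441 = n30344 := d6_1 D64441 (iv5 D30344) D30343
def n64442 : Q := act 6 n30343
theorem D64442 : act 6 n30343 = n64442 := rfl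
theorem F100363 : act 3 n64442 = n30345 := d7_1 D64442 (iv6 D30345) D30343
theorem F100364 : act 4 n64442 = n30360 := d10_1 D64442 (iv6 D30360) (iv4 F48772)
def n64443 : Q := act 6 n30344
theorem D64443 : act 6 n30344 = n64443 := rfl
def n64444 : Q := act 0 n30345
theorem D64444 : act 0 n30345 = n64444 := rfl
theorem F100365 : act 2 n53935 = n64444 := d15_3 (iv0 D64444) (iv0 F93333) F93332
theorem F100366 : act 4 n64444 = n49655 := d1_2 D53935 F100365 F78430
theorem F100367 : act 7 n64444 = n53938 := d4_2 F93332 F100365 (iv2 F93330)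
theorem F100368 : act 1 n53935 = n64435 := d15_0 (iv0 F100360) (iv7 F100367) (iv2 F100365)
def n64445 : Q := act 5 n30345
theorem D64445 : act 5 n30345 = n64445 := rfl
def n64446 : Q := act 7 n30345
theorem D64446 : act 7 n30345 = n64446 := rfl
theorem F100369 : act 4 n64446 = n30348 := d11_1 D64446 (iv7 D30348) (iv4 F48774)
theorem F100370 : act 1 n53938 = n64446 := d15_1 (iv0 F100360) (iv7 D64446) (iv2 F100358)
theorem F100371 : act 1 n64446 = n53935 := d15_1 F100370 (iv7 F93332) F93330
def n64447 : Q := act 3 n30346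
theorem D64447 : act 3 n30346 = n64447 := rfl
theorem F100372 : act 7 n64447 = n61249 := d8_2 F82703 D64447 F95715
def n64448 : Q := act 4 n30346
theorem D64448 : act 4 n30346 = n64448 := rfl
theorem F100373 : act 7 n64448 = n61252 := d11_2 F82703 D64448 F95723
def n64449 : Q := act 0 n30347
theorem D64449 : act 0 n30347 = n64449 := rfl
def n64450 : Q := act 1 n30347
theorem D64450 : act 1 n30347 = n64450 := rfl
theorem F100374 : act 1 n64450 = n52310 := d15_1 D64450 (iv7 F92949) F92946
def n64451 : Q := act 7 n30347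
theorem D64451 : act 7 n30347 = n64451 := rfl
theorem F100375 : act 2 n64451 = n52310 := d4_1 D64451 (iv7 F92949) F92946
theorem F100376 : act 3 n64451 = n30372 := d8_1 D64451 (iv7 D30372) (iv3 F48775)
theorem F100377 : act 5 n64451 = n30348 := d13_1 D64451 (iv7 D30348) D30347
theorem F100378 : act 6 n64451 = n48646 := d14_1 D64451 F76520 (iv6 F40186) F39300 (iv6 F48776)
theorem F100379 : act 1 n52310 = n64449 := d15_0 (iv0 D64449) D64451 F100375
def n64452 : Q := act 0 n30349
theorem D64452 : act 0 n30349 = n64452 := rfl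
theorem F100380 : act 1 n64254 = n64452 := d15_0 (iv0 D64452) F48780 D64254
def n64453 : Q := act 1 n30349
theorem D64453 : act 1 n30349 = n64453 := rfl
def n64454 : Q := act 2 n30349
theorem D64454 : act 2 n30349 = n64454 := rfl
theorem F100381 : act 4 n64454 = n63949 := d1_2 (iv4 F48779) D64454 (iv2 D63949)
theorem F100382 : act 7 n64454 = n64254 := d4_2 (iv7 F48780) D64454 (iv2 D64254)
theorem F100383 : act 1 n64454 = n64252 := d15_0 (iv0 D64252) (iv7 F48780) D64454
theorem F100384 : act 1 n64453 = n64254 := d15_1 D64453 (iv7 F100382) (iv2 D64454)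
theorem F100385 : act 1 n64253 = n64454 := d15_1 D64253 F100382 (iv2 D64254)
def n64455 : Q := act 6 n30349
theorem D64455 : act 6 n30349 = n64455 := rfl
theorem F100386 : act 3 n64455 = n30350 := d7_1 D64455 (iv6 D30350) D30349
theorem F100387 : act 4 n64455 = n63951 := d10_1 D64455 (iv6 D63951) (iv4 F48779)
def n64456 : Q := act 1 n30350
theorem D64456 : act 1 n30350 = n64456 := rfl
def n64457 : Q := act 5 n30350
theorem D64457 : act 5 n30350 = n64457 := rfl
def n64458 : Q := act 7 n30350
theorem D64458 : act 7 n30350 = n64458 := rfl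
theorem F100388 : act 4 n64458 = n30354 := d11_1 D64458 (iv7 D30354) (iv4 F48781)
theorem F100389 : act 6 n64458 = n64261 := d14_1 D64458 (iv7 D64261) (iv6 D30269) (iv7 F24056) D30350
theorem F100390 : act 0 n64458 = n31775 := d20_1 (iv4 F100388) (iv4 D31775) (iv3 D14947) (iv1 D7119) (iv3 F11425) (iv4 F24591) D31733 F78255 D52008 (iv1 F82152)
theorem F100391 : act 1 n63945 = n31775 := d15_0 (iv0 F100390) (iv7 D64458) (iv2 F99470)
def n64459 : Q := act 4 n30351
theorem D64459 : act 4 n30351 = n64459 := rfl
theorem F100392 : act 2 n64459 = n59506 := d1_1 D64459 F93932 F82153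
theorem F100393 : act 0 n64459 = n59509 := d20_1 D64459 F93933 (iv3 F93917) (iv1 F93919) (iv3 F93926) (iv4 F99502) (iv1 D63954) F48507 (iv3 F24057) D30351
theorem F100394 : act 0 n59413 = n64459 := d20_1 (iv4 F93773) (iv4 D64459) F82154 (iv1 F49265) F24304 (iv4 F24318) (iv1 F48928) (iv4 D14948) D14947 F45652
theorem F100395 : act 7 n59507 = n64459 := d15_2 (iv0 D59506) D59507 F100392
theorem F100396 : act 4 n30881 = n59507 := d11_3 F100395 (iv4 D64459) F82155
theorem F100397 : act 6 n59507 = n61237 := d10_2 (iv6 F49332) F100396 (iv4 D61237)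
def n64460 : Q := act 5 n30351
theorem D64460 : act 5 n30351 = n64460 := rfl
theorem F100398 : act 2 n64460 = n52236 := d2_1 D64460 F82593 F82153
theorem F100399 : act 3 n64460 = n50163 := d6_1 D64460 F79481 (iv3 F82154)
theorem F100400 : act 7 n64460 = n50157 := d13_2 (iv7 F82155) D64460 F79473
theorem F100401 : act 6 n50322 = n64460 := d14_5 F100400 (iv6 D50157) F38406 D24541 D50322
theorem F100402 : act 1 n52235 = n64460 := d15_1 D52235 F100400 F79471
theorem F100403 : act 1 n64460 = n52234 := d15_0 (iv0 D52234) D52236 (iv2 F100398)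
def n64461 : Q := act 6 n30351
theorem D64461 : act 6 n30351 = n64461 := rfl
theorem F100404 : act 3 n64461 = n63047 := d7_1 D64461 F98362 (iv3 F82154)
theorem F100405 : act 7 n64461 = n62574 := d14_2 (iv7 F82155) D64461 (iv6 D62574) F47483 (iv6 F49332)
theorem F100406 : act 5 n64461 = n63025 := d21_6 (iv5 D14369) (iv1 F11143) D6892 D14406 D30351 D64461 (iv1 F98729) F98727 (iv6 D30377) (iv1 F26045)
def n64462 : Q := act 4 n30352
theorem D64462 : act 4 n30352 = n64462 := rfl
theorem F100407 : act 2 n64462 = n59507 := d1_1 D64462 (iv4 F100396) (iv2 F49333)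
theorem F100408 : act 6 n64462 = n49726 := d10_2 F48782 D64462 F78592
theorem F100409 : act 7 n64462 = n59506 := d11_2 F82151 D64462 F93932
theorem F100410 : act 0 n59509 = n64462 := d20_7 (iv4 F37877) (iv1 F82147) (iv4 D31738) D31737 (iv1 F93920) F93917 (iv4 F93933) (iv4 D64462) (iv3 F53447) (iv1 D24165)
theorem F100411 : act 1 n52233 = n59231 := d18_6 (iv1 F85105) (iv4 F93933) F100410 (iv4 D64462) F48783 (iv4 F82591) (iv4 D59231) F93425 F93422
theorem F100412 : act 1 n59413 = n64462 := d15_0 (iv0 F100410) (iv7 D59509) (iv2 F93772)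
def n64463 : Q := act 0 n30353
theorem D64463 : act 0 n30353 = n64463 := rfl
def n64464 : Q := act 1 n30353
theorem D64464 : act 1 n30353 = n64464 := rfl
def n64465 : Q := act 7 n30353
theorem D64465 : act 7 n30353 = n64465 := rfl
theorem F100413 : act 3 n64465 = n51555 := d8_1 D64465 (iv7 D51555) (iv3 F48784)
theorem F100414 : act 5 n64465 = n30354 := d13_1 D64465 (iv7 D30354) D30353
theorem F100415 : act 6 n64465 = n51668 := d14_1 D64465 F81584 (iv6 F79630) F38622 (iv6 F48785)
def n64466 : Q := act 2 n30356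
theorem D64466 : act 2 n30356 = n64466 := rfl
theorem F100416 : act 7 n30357 = n64466 := d15_2 (iv0 D30356) D30357 (iv2 D64466)
def n64467 : Q := act 3 n30356
theorem D64467 : act 3 n30356 = n64467 := rfl
def n64468 : Q := act 4 n30356
theorem D64468 : act 4 n30356 = n64468 := rfl
def n64469 : Q := act 5 n30356
theorem D64469 : act 5 n30356 = n64469 := rfl
def n64470 : Q := act 6 n30356
theorem D64470 : act 6 n30356 = n64470 := rfl
def n64471 : Q := act 7 n30356
theorem D64471 : act 7 n30356 = n64471 := rfl
theorem F100417 : act 2 n64471 = n30357 := d4_1 D64471 F100416 (iv2 D64466)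
def n64472 : Q := act 3 n30357
theorem D64472 : act 3 n30357 = n64472 := rfl
def n64473 : Q := act 4 n30357
theorem D64473 : act 4 n30357 = n64473 := rfl
theorem F100418 : act 3 n31379 = n64473 := d20_5 (iv4 D14789) (iv1 D7050) D7051 D14793 D31379 (iv4 D64473) (iv1 D30357) (iv4 F48772) (iv3 D30343) F40136
def n64474 : Q := act 5 n30357
theorem D64474 : act 5 n30357 = n64474 := rfl
def n64475 : Q := act 6 n30357
theorem D64475 : act 6 n30357 = n64475 := rfl
def n64476 : Q := act 5 n30358
theorem D64476 : act 5 n30358 = n64476 := rfl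
theorem F100419 : act 2 n64476 = n30359 := d2_1 D64476 (iv5 D30359) D30358
def n64477 : Q := act 6 n30358
theorem D64477 : act 6 n30358 = n64477 := rfl
theorem F100420 : act 2 n64477 = n30360 := d3_1 D64477 (iv6 D30360) D30358
def n64478 : Q := act 0 n30359
theorem D64478 : act 0 n30359 = n64478 := rfl
def n64479 : Q := act 1 n30359
theorem D64479 : act 1 n30359 = n64479 := rfl
def n64480 : Q := act 4 n30359
theorem D64480 : act 4 n30359 = n64480 := rfl
def n64481 : Q := act 6 n30359
theorem D64481 : act 6 n30359 = n64481 := rfl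
theorem F100421 : act 3 n64481 = n30361 := d7_1 D64481 (iv6 D30361) (iv3 F48795)
def n64482 : Q := act 0 n30360
theorem D64482 : act 0 n30360 = n64482 := rfl
def n64483 : Q := act 1 n30360
theorem D64483 : act 1 n30360 = n64483 := rfl
def n64484 : Q := act 5 n30360
theorem D64484 : act 5 n30360 = n64484 := rfl
theorem F100422 : act 3 n64484 = n30364 := d6_1 D64484 (iv5 D30364) (iv3 F48796)
def n64485 : Q := act 7 n30360
theorem D64485 : act 7 n30360 = n64485 := rfl
theorem F100423 : act 3 n64485 = n30365 := d8_1 D64485 (iv7 D30365) (iv3 F48796)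
def n64486 : Q := act 0 n30361
theorem D64486 : act 0 n30361 = n64486 := rfl
def n64487 : Q := act 1 n30361
theorem D64487 : act 1 n30361 = n64487 := rfl
def n64488 : Q := act 5 n30361
theorem D64488 : act 5 n30361 = n64488 := rfl
theorem F100424 : act 6 n64488 = n30364 := d12_2 D30361 D64488 (iv5 D30364) (iv6 D14412) D14411
def n64489 : Q := act 7 n30361
theorem D64489 : act 7 n30361 = n64489 := rfl
def n64490 : Q := act 3 n30362
theorem D64490 : act 3 n30362 = n64490 := rfl
def n64491 : Q := act 4 n30362
theorem D64491 : act 4 n30362 = n64491 := rfl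
theorem F100425 : act 2 n64491 = n49663 := d1_1 D64491 (iv4 F99487) F99499
theorem F100426 : act 7 n64491 = n59498 := d11_2 (iv7 F99500) D64491 (iv4 F99502)
theorem F100427 : act 3 n59493 = n64491 := d20_5 F100396 (iv1 D59507) F45763 (iv3 F45752) D59493 (iv4 D64491) (iv1 F99501) F99492 (iv3 F48786) (iv1 F49335)
theorem F100428 : act 1 n59499 = n64491 := d15_1 F93928 F100426 F93925
theorem E8979 : n59497 = n49663 := ((c15_4 (iv0 D59497) D59498 (iv7 F100426) F100425)).symm
theorem F100429 : act 1 n49663 = n28253 := (sb E8979 (iv0 D59497))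
theorem F100430 : act 1 n64491 = n50258 := d15_0 (iv0 F79641) (iv7 F78446) (iv2 F100425)
theorem F100431 : act 0 n30882 = n50260 := d20_7 (iv4 D64491) (iv1 F99501) F99492 (iv3 F48786) (iv1 F49335) (iv3 D30881) D30882 F79642 (iv3 F79640) (iv1 F100430)
def n64492 : Q := act 5 n30362
theorem D64492 : act 5 n30362 = n64492 := rfl
def n64493 : Q := act 6 n30362
theorem D64493 : act 6 n30362 = n64493 := rfl
def n64494 : Q := act 3 n30363
theorem D64494 : act 3 n30363 = n64494 := rfl
def n64495 : Q := act 5 n30363
theorem D64495 : act 5 n30363 = n64495 := rfl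
def n64496 : Q := act 0 n30364
theorem D64496 : act 0 n30364 = n64496 := rfl
def n64497 : Q := act 1 n30364
theorem D64497 : act 1 n30364 = n64497 := rfl
def n64498 : Q := act 4 n30364
theorem D64498 : act 4 n30364 = n64498 := rfl
def n64499 : Q := act 7 n30364
theorem D64499 : act 7 n30364 = n64499 := rfl
theorem F100432 : act 5 n64499 = n30365 := d13_1 D64499 (iv7 D30365) D30364
def n64500 : Q := act 0 n30366
theorem D64500 : act 0 n30366 = n64500 := rfl
theorem F100433 : act 1 n30368 = n64500 := d15_0 (iv0 D64500) (iv7 F79998) F79996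
def n64501 : Q := act 3 n30366
theorem D64501 : act 3 n30366 = n64501 := rfl
theorem F100434 : act 4 n64501 = n30923 := d5_2 D30366 D64501 (iv3 D30923) (iv4 D14639) (iv3 F48511)
def n64502 : Q := act 5 n30366
theorem D64502 : act 5 n30366 = n64502 := rfl
def n64503 : Q := act 6 n30366
theorem D64503 : act 6 n30366 = n64503 := rfl
theorem F100435 : act 4 n64503 = n30367 := d10_1 D64503 (iv6 D30367) D30366
theorem F100436 : act 7 n64503 = n62658 := d14_2 F79998 D64503 F97749 (iv7 F48608) (iv6 F79997)
def n64504 : Q := act 3 n30368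
theorem D64504 : act 3 n30368 = n64504 := rfl
def n64505 : Q := act 5 n30368
theorem D64505 : act 5 n30368 = n64505 := rfl
def n64506 : Q := act 3 n30369
theorem D64506 : act 3 n30369 = n64506 := rfl
def n64507 : Q := act 4 n30369
theorem D64507 : act 4 n30369 = n64507 := rfl
def n64508 : Q := act 6 n30369
theorem D64508 : act 6 n30369 = n64508 := rfl
theorem F100437 : act 5 n64508 = n51543 := d12_1 D64508 (iv6 F99888) (iv5 D64174) D64175 F99890
theorem F100438 : act 0 n50467 = n64508 := d21_4 F38671 D30075 F48331 D50467 (iv6 D64508) (iv5 F99890) F99892 (iv5 D50617) D50618 F83898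
def n64509 : Q := act 3 n30370
theorem D64509 : act 3 n30370 = n64509 := rfl
def n64510 : Q := act 4 n30370
theorem D64510 : act 4 n30370 = n64510 := rfl
theorem F100439 : act 0 n64510 = n50539 := d18_2 (iv1 F81357) D64510 (iv4 F80295) F80296 (iv4 F93922) F99507 (iv4 D30368) F48517 (iv5 F81354)
def n64511 : Q := act 0 n30371
theorem D64511 : act 0 n30371 = n64511 := rfl
def n64512 : Q := act 1 n30371
theorem D64512 : act 1 n30371 = n64512 := rfl
def n64513 : Q := act 3 n30371
theorem D64513 : act 3 n30371 = n64513 := rfl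
theorem F100440 : act 6 n64513 = n30375 := d7_2 (iv6 F48801) D64513 (iv3 D30375)
def n64514 : Q := act 5 n30371
theorem D64514 : act 5 n30371 = n64514 := rfl
def n64515 : Q := act 7 n30371
theorem D64515 : act 7 n30371 = n64515 := rfl
theorem F100441 : act 4 n64515 = n30372 := d11_1 D64515 (iv7 D30372) D30371
def n64516 : Q := act 3 n30373
theorem D64516 : act 3 n30373 = n64516 := rfl
def n64517 : Q := act 5 n30373
theorem D64517 : act 5 n30373 = n64517 := rfl
theorem F100442 : act 2 n64517 = n52470 := d2_1 D64517 (iv5 D52470) F48805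
theorem F100443 : act 0 n64517 = n34031 := d17_2 D30373 D64517 (iv5 D34031) (iv4 D16485) (iv5 D7646) (iv0 F22438) D5414 (iv0 F22587) D14417
theorem F100444 : act 1 n64517 = n50525 := d17_6 F39645 (iv5 D25192) F19725 D24984 (iv4 F48803) D64517 (iv5 D50525) F53373 F53372
def n64518 : Q := act 6 n30373
theorem D64518 : act 6 n30373 = n64518 := rfl
theorem F100445 : act 2 n64518 = n52471 := d3_1 D64518 (iv6 D52471) F48805
theorem F100446 : act 4 n64518 = n51399 := d10_1 D64518 (iv6 D51399) (iv4 F48803)
theorem F100447 : act 0 n50440 = n64518 := d21_4 D64062 F99652 (iv5 D50439) D50440 (iv6 D64518) D64517 F100443 (iv5 D34031) F26001 D30197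
theorem F100448 : act 0 n64518 = n50554 := d20_1 (iv4 F100446) (iv4 D50554) D50553 (iv1 F81164) F81162 (iv4 F81187) (iv1 F94231) (iv4 F82767) (iv3 F93028) F93031
def n64519 : Q := act 3 n30374
theorem D64519 : act 3 n30374 = n64519 := rfl
theorem F100449 : act 4 n64519 = n48676 := d5_2 (iv4 F48808) D64519 (iv3 D48676) (iv4 D23732) (iv3 F36936)
theorem F100450 : act 7 n64519 = n52469 := d8_2 (iv7 F48807) D64519 (iv3 D52469)
def n64520 : Q := act 5 n30374
theorem D64520 : act 5 n30374 = n64520 := rfl
theorem F100451 : act 7 n64520 = n52470 := d13_2 (iv7 F48807) D64520 (iv5 D52470)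
theorem F100452 : act 4 n64520 = n51402 := d16_2 (iv4 F48808) D64520 (iv5 D51402) (iv4 D24987) (iv5 D11866) D11865 D24984 (iv7 F76563) F76561
theorem F100453 : act 0 n64520 = n50525 := d17_2 (iv1 F48806) D64520 (iv5 D50525) (iv4 D24615) (iv5 D11653) F8499 D11895 F19585 D24620
theorem F100454 : act 1 n64520 = n34031 := d17_6 (iv1 F45402) (iv5 D24238) F19388 D23730 (iv4 F48808) D64520 (iv5 D34031) D34029 F53376
def n64521 : Q := act 6 n30374
theorem D64521 : act 6 n30374 = n64521 := rfl
theorem F100455 : act 4 n64521 = n48674 := d10_1 D64521 (iv6 D48674) (iv4 F48808)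
def n64522 : Q := act 0 n30375
theorem D64522 : act 0 n30375 = n64522 := rfl
def n64523 : Q := act 1 n30375
theorem D64523 : act 1 n30375 = n64523 := rfl
def n64524 : Q := act 2 n30375
theorem D64524 : act 2 n30375 = n64524 := rfl
theorem F100456 : act 3 n64524 = n59916 := d0_2 D30375 D64524 F94393 (iv3 D51550) F39295
theorem F100457 : act 5 n59915 = n64524 := d6_0 F100456 (iv5 D59916) D59915
def n64525 : Q := act 5 n30375
theorem D64525 : act 5 n30375 = n64525 := rfl
theorem F100458 : act 2 n64525 = n59915 := d2_1 D64525 F100457 (iv2 D64524)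
theorem F100459 : act 3 n64525 = n30376 := d6_1 D64525 (iv5 D30376) D30375
def n64526 : Q := act 0 n30376
theorem D64526 : act 0 n30376 = n64526 := rfl
theorem F100460 : act 5 n64526 = n34032 := d17_1 D64526 (iv1 F53383) D51540 (iv4 F82053) F82051 (iv0 F45489) (iv5 F81645) F81648 F80463
theorem F100461 : act 4 n64526 = n52335 := d18_1 D64526 F82717 F81993 F80043 (iv4 F39830) (iv0 F39832) (iv4 F48803) (iv0 D30373) D30376
theorem F100462 : act 1 n50531 = n64526 := d15_0 (iv0 D64526) (iv7 F81371) F81370
def n64527 : Q := act 6 n30376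
theorem D64527 : act 6 n30376 = n64527 := rfl
def n64528 : Q := act 0 n30377
theorem D64528 : act 0 n30377 = n64528 := rfl
def n64529 : Q := act 1 n30377
theorem D64529 : act 1 n30377 = n64529 := rfl
theorem F100463 : act 1 n64529 = n30384 := d15_1 D64529 (iv7 D30384) (iv2 F48809)
def n64530 : Q := act 7 n30377
theorem D64530 : act 7 n30377 = n64530 := rfl
theorem F100464 : act 2 n64530 = n30384 := d4_1 D64530 (iv7 D30384) (iv2 F48809)
theorem F100465 : act 4 n64530 = n59581 := d11_1 D64530 (iv7 D59581) (iv4 F48810)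
theorem F100466 : act 5 n64530 = n63024 := d13_1 D64530 F98732 F98727
theorem F100467 : act 1 n30384 = n64528 := d15_0 (iv0 D64528) D64530 F100464
theorem F100468 : act 1 n30382 = n64530 := d15_1 D30382 (iv7 D64530) F48809
theorem F100469 : act 1 n64530 = n30381 := d15_0 (iv0 D30381) D30384 (iv2 F100464)
def n64531 : Q := act 0 n30378
theorem D64531 : act 0 n30378 = n64531 := rfl
theorem F100470 : act 5 n64531 = n52490 := d19_1 D64531 (iv4 D52490) F40271 F20031 (iv5 D11210) (iv4 D5142) (iv3 F4294) F10301 D5889 (iv4 F10293) F9930 D5263 F7819 F9949 (iv3 F19997) F24081 (iv5 D14428) D14427 D30378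
theorem F100471 : act 1 n59584 = n64531 := d15_0 (iv0 D64531) F48812 D59584
def n64532 : Q := act 1 n30378
theorem D64532 : act 1 n30378 = n64532 := rfl
def n64533 : Q := act 2 n30378
theorem D64533 : act 2 n30378 = n64533 := rfl
theorem F100472 : act 3 n64533 = n59572 := d0_2 D30378 D64533 (iv2 D59572) (iv3 D28278) (iv2 F26050)
theorem F100473 : act 4 n64533 = n30390 := d1_2 (iv4 F48811) D64533 (iv2 D30390)
theorem F100474 : act 7 n64533 = n59584 := d4_2 (iv7 F48812) D64533 (iv2 D59584)
theorem F100475 : act 1 n64533 = n59582 := d15_0 (iv0 D59582) (iv7 F48812) D64533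
theorem F100476 : act 1 n64532 = n59584 := d15_1 D64532 (iv7 F100474) (iv2 D64533)
theorem F100477 : act 1 n59583 = n64533 := d15_1 D59583 F100474 (iv2 D59584)
def n64534 : Q := act 5 n30378
theorem D64534 : act 5 n30378 = n64534 := rfl
theorem F100478 : act 3 n64534 = n30379 := d6_1 D64534 (iv5 D30379) D30378
theorem F100479 : act 7 n64534 = n59585 := d13_2 (iv7 F48812) D64534 (iv5 D59585)
def n64535 : Q := act 6 n30378
theorem D64535 : act 6 n30378 = n64535 := rfl
theorem F100480 : act 3 n64535 = n30380 := d7_1 D64535 (iv6 D30380) D30378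
theorem F100481 : act 4 n64535 = n30392 := d10_1 D64535 (iv6 D30392) (iv4 F48811)
def n64536 : Q := act 6 n30379
theorem D64536 : act 6 n30379 = n64536 := rfl
theorem F100482 : act 2 n64536 = n59577 := d3_1 D64536 (iv6 D59577) (iv2 F48813)
theorem F100483 : act 4 n64536 = n63990 := d10_1 D64536 (iv6 D63990) (iv4 F48815)
def n64537 : Q := act 0 n30380
theorem D64537 : act 0 n30380 = n64537 := rfl
def n64538 : Q := act 1 n30380
theorem D64538 : act 1 n30380 = n64538 := rfl
theorem F100484 : act 1 n64538 = n59581 := d15_1 D64538 (iv7 D59581) (iv2 F48816)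
def n64539 : Q := act 5 n30380
theorem D64539 : act 5 n30380 = n64539 := rfl
theorem F100485 : act 2 n64539 = n59580 := d2_1 D64539 (iv5 D59580) (iv2 F48816)
def n64540 : Q := act 7 n30380
theorem D64540 : act 7 n30380 = n64540 := rfl
theorem F100486 : act 2 n64540 = n59581 := d4_1 D64540 (iv7 D59581) (iv2 F48816)
theorem F100487 : act 4 n64540 = n30384 := d11_1 D64540 (iv7 D30384) (iv4 F48817)
theorem F100488 : act 6 n64540 = n59591 := d14_1 D64540 (iv7 D59591) (iv6 D28283) (iv7 F26043) D30380
theorem F100489 : act 1 n59581 = n64537 := d15_0 (iv0 D64537) D64540 F100486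
theorem F100490 : act 1 n59535 = n64540 := d15_1 (iv0 F98731) (iv7 D64540) F48816
theorem F100491 : act 1 n64540 = n59578 := d15_0 (iv0 D59578) D59581 (iv2 F100486)
def n64541 : Q := act 2 n30381
theorem D64541 : act 2 n30381 = n64541 := rfl
theorem F100492 : act 7 n30382 = n64541 := d15_2 (iv0 D30381) D30382 (iv2 D64541)
def n64542 : Q := act 3 n30381
theorem D64542 : act 3 n30381 = n64542 := rfl
def n64543 : Q := act 4 n30381
theorem D64543 : act 4 n30381 = n64543 := rfl
def n64544 : Q := act 5 n30381
theorem D64544 : act 5 n30381 = n64544 := rfl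
def n64545 : Q := act 6 n30381
theorem D64545 : act 6 n30381 = n64545 := rfl
theorem F100493 : act 5 n64545 = n64304 := d21_6 F24002 F24081 (iv5 D14428) D14429 D30381 D64545 (iv1 D64304) (iv5 D30288) (iv6 D14375) D14372
def n64546 : Q := act 7 n30381
theorem D64546 : act 7 n30381 = n64546 := rfl
theorem F100494 : act 2 n64546 = n30382 := d4_1 D64546 F100492 (iv2 D64541)
def n64547 : Q := act 3 n30382
theorem D64547 : act 3 n30382 = n64547 := rfl
def n64548 : Q := act 4 n30382
theorem D64548 : act 4 n30382 = n64548 := rfl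
def n64549 : Q := act 5 n30382
theorem D64549 : act 5 n30382 = n64549 := rfl
theorem F100495 : act 6 n64549 = n63713 := d21_3 (iv5 F100466) (iv1 F100468) D64549 (iv1 F99074) (iv6 D53111) F40699 (iv1 F22916) D14165 D29813 D63024
def n64550 : Q := act 6 n30382
theorem D64550 : act 6 n30382 = n64550 := rfl
def n64551 : Q := act 1 n30383
theorem D64551 : act 1 n30383 = n64551 := rfl
theorem F100496 : act 1 n64551 = n63024 := d15_1 D64551 F98732 F98724
theorem F100497 : act 7 n64551 = n53107 := d15_2 (iv0 F48820) D64551 F83822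
theorem F100498 : act 2 n63025 = n64551 := d4_3 F100497 F83822 D63025
theorem F100499 : act 6 n64090 = n64551 := d14_5 F100497 (iv6 D53107) F40693 D30206 D64090
def n64552 : Q := act 0 n30385
theorem D64552 : act 0 n30385 = n64552 := rfl
def n64553 : Q := act 1 n30385
theorem D64553 : act 1 n30385 = n64553 := rfl
theorem F100500 : act 4 n49587 = n64553 := d20_6 (iv4 D11358) (iv1 D5242) D5243 D11362 D24189 D49587 (iv1 D64553) F48822 F39064 F19213
def n64554 : Q := act 2 n30385
theorem D64554 : act 2 n30385 = n64554 := rfl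
theorem F100501 : act 4 n64554 = n51238 := d1_2 (iv4 F48822) D64554 F80824
def n64555 : Q := act 6 n30385
theorem D64555 : act 6 n30385 = n64555 := rfl
theorem F100502 : act 3 n64555 = n30386 := d7_1 D64555 (iv6 D30386) D30385
theorem F100503 : act 4 n64555 = n51241 := d10_1 D64555 (iv6 D51241) (iv4 F48822)
def n64556 : Q := act 5 n30386
theorem D64556 : act 5 n30386 = n64556 := rfl
def n64557 : Q := act 0 n30387
theorem D64557 : act 0 n30387 = n64557 := rfl
theorem F100504 : act 3 n64557 = n31251 := d20_5 D30183 F48559 F38870 D30387 D64557 (iv4 D31251) (iv1 F24399) (iv4 F24114) F24113 (iv1 F23936)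
def n64558 : Q := act 1 n30387
theorem D64558 : act 1 n30387 = n64558 := rfl
def n64559 : Q := act 2 n30387
theorem D64559 : act 2 n30387 = n64559 := rfl
theorem F100505 : act 1 n64559 = n31240 := d15_0 (iv0 F99525) F99524 D64559
def n64560 : Q := act 2 n30388
theorem D64560 : act 2 n30388 = n64560 := rfl
theorem F100506 : act 7 n30389 = n64560 := d15_2 (iv0 D30388) D30389 (iv2 D64560)
def n64561 : Q := act 3 n30388
theorem D64561 : act 3 n30388 = n64561 := rfl
def n64562 : Q := act 4 n30388
theorem D64562 : act 4 n30388 = n64562 := rfl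
def n64563 : Q := act 5 n30388
theorem D64563 : act 5 n30388 = n64563 := rfl
def n64564 : Q := act 6 n30388
theorem D64564 : act 6 n30388 = n64564 := rfl
def n64565 : Q := act 7 n30388
theorem D64565 : act 7 n30388 = n64565 := rfl
theorem F100507 : act 2 n64565 = n30389 := d4_1 D64565 F100506 (iv2 D64560)
def n64566 : Q := act 3 n30389
theorem D64566 : act 3 n30389 = n64566 := rfl
def n64567 : Q := act 4 n30389
theorem D64567 : act 4 n30389 = n64567 := rfl
def n64568 : Q := act 5 n30389
theorem D64568 : act 5 n30389 = n64568 := rfl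
def n64569 : Q := act 6 n30389
theorem D64569 : act 6 n30389 = n64569 := rfl
def n64570 : Q := act 5 n30390
theorem D64570 : act 5 n30390 = n64570 := rfl
theorem F100508 : act 2 n64570 = n30391 := d2_1 D64570 (iv5 D30391) D30390
def n64571 : Q := act 6 n30390
theorem D64571 : act 6 n30390 = n64571 := rfl
theorem F100509 : act 2 n64571 = n30392 := d3_1 D64571 (iv6 D30392) D30390
def n64572 : Q := act 0 n30391
theorem D64572 : act 0 n30391 = n64572 := rfl
def n64573 : Q := act 1 n30391
theorem D64573 : act 1 n30391 = n64573 := rfl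
def n64574 : Q := act 4 n30391
theorem D64574 : act 4 n30391 = n64574 := rfl
theorem F100510 : act 5 n49087 = n64574 := d19_1 D49087 (iv4 D64574) F48823 D30393 F48825 F48484 (iv3 D24200) (iv1 D11367) (iv5 D5260) (iv4 D2154) F9929 (iv1 F2356) F2354 F9918 (iv3 F9917) (iv1 F3449) D5158 D11221 D23948
theorem F100511 : act 0 n64574 = n42373 := d17_2 D49087 F100510 (iv5 D42373) F31835 D42354 (iv0 F82858) (iv5 D52483) (iv0 D25472) (iv4 F37384)
theorem F100512 : act 0 n48690 = n64574 := d21_1 D48690 (iv5 F100510) F82961 F55116 F51466 (iv5 F40634) (iv1 F55132) (iv5 F65468) F65467 (iv1 F65451)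
theorem F100513 : act 4 n64572 = n42286 := d18_3 F100512 (iv4 D64574) D64572 (iv5 D42286) (iv4 F31846) D42394 (iv4 F65469) F65452 D48690
theorem F100514 : act 6 n42300 = n64572 := d10_0 F100513 F65307 D42300
theorem F100515 : act 5 n63947 = n64572 := d19_1 D63947 F100513 (iv3 F77419) F77422 F55152 F27702 F26504 F11409 F10294 (iv4 D5888) (iv3 D2487) (iv1 F2120) F1512 (iv4 F1507) (iv3 F2532) (iv1 F4817) D6838 D14315 D30159
def n64575 : Q := act 6 n30391
theorem D64575 : act 6 n30391 = n64575 := rfl
theorem F100516 : act 3 n64575 = n30395 := d7_1 D64575 (iv6 D30395) (iv3 F48823)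
def n64576 : Q := act 0 n30392
theorem D64576 : act 0 n30392 = n64576 := rfl
def n64577 : Q := act 1 n30392
theorem D64577 : act 1 n30392 = n64577 := rfl
def n64578 : Q := act 5 n30392
theorem D64578 : act 5 n30392 = n64578 := rfl
theorem F100517 : act 3 n64578 = n30398 := d6_1 D64578 (iv5 D30398) (iv3 F48824)
def n64579 : Q := act 7 n30392
theorem D64579 : act 7 n30392 = n64579 := rfl
theorem F100518 : act 3 n64579 = n30399 := d8_1 D64579 (iv7 D30399) (iv3 F48824)
def n64580 : Q := act 3 n30393
theorem D64580 : act 3 n30393 = n64580 := rfl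
theorem F100519 : act 5 n64580 = n63924 := d6_2 (iv5 F48825) D64580 (iv3 D63924)
theorem F100520 : act 7 n64580 = n64336 := d8_2 F48828 D64580 F100291
def n64581 : Q := act 6 n30393
theorem D64581 : act 6 n30393 = n64581 := rfl
theorem F100521 : act 2 n64581 = n64348 := d3_1 D64581 (iv6 D64348) F48827
def n64582 : Q := act 3 n30394
theorem D64582 : act 3 n30394 = n64582 := rfl
theorem F100522 : act 5 n64582 = n63922 := d6_2 (iv5 F48831) D64582 (iv3 D63922)
theorem F100523 : act 7 n64582 = n64345 := d8_2 (iv7 F48830) D64582 F100294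
def n64583 : Q := act 6 n30394
theorem D64583 : act 6 n30394 = n64583 := rfl
theorem F100524 : act 2 n64583 = n64338 := d3_1 D64583 (iv6 D64338) F48832
def n64584 : Q := act 0 n30395
theorem D64584 : act 0 n30395 = n64584 := rfl
def n64585 : Q := act 1 n30395
theorem D64585 : act 1 n30395 = n64585 := rfl
def n64586 : Q := act 5 n30395
theorem D64586 : act 5 n30395 = n64586 := rfl
theorem F100525 : act 6 n64586 = n30398 := d12_2 D30395 D64586 (iv5 D30398) (iv6 D14435) D14434
def n64587 : Q := act 7 n30395
theorem D64587 : act 7 n30395 = n64587 := rfl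
def n64588 : Q := act 2 n30396
theorem D64588 : act 2 n30396 = n64588 := rfl
theorem F100526 : act 7 n30397 = n64588 := d15_2 (iv0 D30396) D30397 (iv2 D64588)
def n64589 : Q := act 3 n30396
theorem D64589 : act 3 n30396 = n64589 := rfl
def n64590 : Q := act 4 n30396
theorem D64590 : act 4 n30396 = n64590 := rfl
def n64591 : Q := act 5 n30396
theorem D64591 : act 5 n30396 = n64591 := rfl
def n64592 : Q := act 6 n30396
theorem D64592 : act 6 n30396 = n64592 := rfl
def n64593 : Q := act 7 n30396
theorem D64593 : act 7 n30396 = n64593 := rfl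
theorem F100527 : act 2 n64593 = n30397 := d4_1 D64593 F100526 (iv2 D64588)
def n64594 : Q := act 3 n30397
theorem D64594 : act 3 n30397 = n64594 := rfl
def n64595 : Q := act 4 n30397
theorem D64595 : act 4 n30397 = n64595 := rfl
def n64596 : Q := act 5 n30397
theorem D64596 : act 5 n30397 = n64596 := rfl
def n64597 : Q := act 6 n30397
theorem D64597 : act 6 n30397 = n64597 := rfl
def n64598 : Q := act 0 n30398
theorem D64598 : act 0 n30398 = n64598 := rfl
theorem F100528 : act 5 n64598 = n64115 := d21_8 D30226 (iv1 F99813) F99814 (iv6 F48627) (iv1 D14432) D14435 D30398 D64598 (iv6 D64115) (iv1 F48610)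
theorem F100529 : act 0 n64595 = n48811 := d17_0 (iv5 F95171) (iv1 D60555) D60556 (iv4 F99803) (iv5 F100528) (iv0 D64598) (iv5 D30398) D30397 D64595
def n64599 : Q := act 1 n30398
theorem D64599 : act 1 n30398 = n64599 := rfl
theorem F100530 : act 5 n64493 = n64599 := d21_6 (iv5 F48746) (iv1 F48747) (iv5 D14411) D14412 D30362 D64493 (iv1 D64599) (iv5 D30398) (iv6 D14435) D14431
def n64600 : Q := act 4 n30398
theorem D64600 : act 4 n30398 = n64600 := rfl
def n64601 : Q := act 7 n30398
theorem D64601 : act 7 n30398 = n64601 := rfl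
theorem F100531 : act 5 n64601 = n30399 := d13_1 D64601 (iv7 D30399) D30398
def n64604 : Q := act 2 n30402
theorem D64604 : act 2 n30402 = n64604 := rfl
def n64606 : Q := act 5 n30402
theorem D64606 : act 5 n30402 = n64606 := rfl
theorem F100532 : act 3 n64606 = n30404 := d6_1 D64606 (iv5 D30404) D30402
def n64607 : Q := act 3 n30403
theorem D64607 : act 3 n30403 = n64607 := rfl
def n64608 : Q := act 5 n30403
theorem D64608 : act 5 n30403 = n64608 := rfl
def n64609 : Q := act 0 n30404
theorem D64609 : act 0 n30404 = n64609 := rfl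
theorem F100533 : act 5 n64609 = n62657 := d21_2 D30404 D64609 (iv6 F99757) (iv1 D50556) F38629 (iv5 D11663) (iv1 F22597) (iv5 D6903) D6904 D14441
theorem F100534 : act 6 n64609 = n53145 := d21_5 (iv5 D25829) D25827 D53273 F84120 D64609 F83894 (iv1 F80031) (iv5 F47395) F47396 (iv1 F46727)
theorem F100535 : act 2 n63579 = n64609 := d15_3 (iv0 D64609) (iv0 F99117) F99116
theorem F100536 : act 1 n30409 = n64609 := d15_0 (iv0 D64609) F99994 F99991
def n64610 : Q := act 4 n30404
theorem D64610 : act 4 n30404 = n64610 := rfl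
def n64615 : Q := act 5 n30407
theorem D64615 : act 5 n30407 = n64615 := rfl
theorem F100538 : act 3 n64615 = n30409 := d6_1 D64615 (iv5 D30409) D30407
def n64616 : Q := act 6 n30407
theorem D64616 : act 6 n30407 = n64616 := rfl
theorem F100540 : act 3 n64616 = n30410 := d7_1 D64616 (iv6 D30410) D30407
def n64617 : Q := act 3 n30408
theorem D64617 : act 3 n30408 = n64617 := rfl
def n64618 : Q := act 5 n30408
theorem D64618 : act 5 n30408 = n64618 := rfl
def n64619 : Q := act 6 n30408
theorem D64619 : act 6 n30408 = n64619 := rfl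
theorem F100541 : act 4 n64619 = n30410 := d10_1 D64619 (iv6 D30410) D30408
def n64620 : Q := act 4 n30409
theorem D64620 : act 4 n30409 = n64620 := rfl
theorem F100542 : act 6 n64620 = n63887 := d10_2 F48843 D64620 (iv4 D63887)
def n64621 : Q := act 1 n30411
theorem D64621 : act 1 n30411 = n64621 := rfl
def n64622 : Q := act 3 n30411
theorem D64622 : act 3 n30411 = n64622 := rfl
theorem F100543 : act 6 n64622 = n61415 := d7_2 (iv6 F48844) D64622 (iv3 D61415)
def n64623 : Q := act 5 n30411
theorem D64623 : act 5 n30411 = n64623 := rfl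
def n64624 : Q := act 7 n30413
theorem D64624 : act 7 n30413 = n64624 := rfl
theorem F100544 : act 2 n64624 = n30419 := d4_1 D64624 (iv7 D30419) (iv2 F48846)
theorem F100545 : act 1 n30418 = n64624 := d15_1 D30418 (iv7 D64624) F48846
theorem F100546 : act 1 n64624 = n30417 := d15_0 (iv0 D30417) D30419 (iv2 F100544)
def n64625 : Q := act 0 n30414
theorem D64625 : act 0 n30414 = n64625 := rfl
def n64626 : Q := act 1 n30414
theorem D64626 : act 1 n30414 = n64626 := rfl
def n64627 : Q := act 2 n30414
theorem D64627 : act 2 n30414 = n64627 := rfl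
theorem F100547 : act 4 n64627 = n30422 := d1_2 (iv4 F48847) D64627 (iv2 D30422)
def n64628 : Q := act 5 n30414
theorem D64628 : act 5 n30414 = n64628 := rfl
theorem F100548 : act 3 n64628 = n30415 := d6_1 D64628 (iv5 D30415) D30414
def n64629 : Q := act 6 n30414
theorem D64629 : act 6 n30414 = n64629 := rfl
theorem F100549 : act 3 n64629 = n30416 := d7_1 D64629 (iv6 D30416) D30414
theorem F100550 : act 4 n64629 = n30424 := d10_1 D64629 (iv6 D30424) (iv4 F48847)
def n64630 : Q := act 6 n30415
theorem D64630 : act 6 n30415 = n64630 := rfl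
def n64631 : Q := act 0 n30416
theorem D64631 : act 0 n30416 = n64631 := rfl
def n64632 : Q := act 1 n30416
theorem D64632 : act 1 n30416 = n64632 := rfl
def n64633 : Q := act 5 n30416
theorem D64633 : act 5 n30416 = n64633 := rfl
def n64634 : Q := act 7 n30416
theorem D64634 : act 7 n30416 = n64634 := rfl
theorem F100551 : act 4 n64634 = n30419 := d11_1 D64634 (iv7 D30419) (iv4 F48848)
def n64635 : Q := act 2 n30417
theorem D64635 : act 2 n30417 = n64635 := rfl
theorem F100552 : act 7 n30418 = n64635 := d15_2 (iv0 D30417) D30418 (iv2 D64635)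
def n64636 : Q := act 3 n30417
theorem D64636 : act 3 n30417 = n64636 := rfl
def n64637 : Q := act 4 n30417
theorem D64637 : act 4 n30417 = n64637 := rfl
def n64638 : Q := act 6 n30417
theorem D64638 : act 6 n30417 = n64638 := rfl
theorem F100553 : act 0 n64638 = n52329 := d21_10 (iv5 D52329) (iv1 D25412) D25413 F40193 (iv1 F23455) D25301 F39958 D49178 (iv5 F82456) D64638
def n64639 : Q := act 7 n30417
theorem D64639 : act 7 n30417 = n64639 := rfl
theorem F100554 : act 2 n64639 = n30418 := d4_1 D64639 F100552 (iv2 D64635)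
def n64640 : Q := act 3 n30418
theorem D64640 : act 3 n30418 = n64640 := rfl
def n64641 : Q := act 4 n30418
theorem D64641 : act 4 n30418 = n64641 := rfl
def n64642 : Q := act 5 n30418
theorem D64642 : act 5 n30418 = n64642 := rfl
def n64643 : Q := act 6 n30418
theorem D64643 : act 6 n30418 = n64643 := rfl
def n64644 : Q := act 2 n30420
theorem D64644 : act 2 n30420 = n64644 := rfl
theorem F100555 : act 7 n30421 = n64644 := d15_2 (iv0 D30420) D30421 (iv2 D64644)
def n64645 : Q := act 3 n30420
theorem D64645 : act 3 n30420 = n64645 := rfl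
def n64646 : Q := act 4 n30420
theorem D64646 : act 4 n30420 = n64646 := rfl
def n64647 : Q := act 5 n30420
theorem D64647 : act 5 n30420 = n64647 := rfl
def n64648 : Q := act 6 n30420
theorem D64648 : act 6 n30420 = n64648 := rfl
def n64649 : Q := act 7 n30420
theorem D64649 : act 7 n30420 = n64649 := rfl
theorem F100556 : act 2 n64649 = n30421 := d4_1 D64649 F100555 (iv2 D64644)
def n64650 : Q := act 3 n30421
theorem D64650 : act 3 n30421 = n64650 := rfl
def n64651 : Q := act 4 n30421
theorem D64651 : act 4 n30421 = n64651 := rfl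
theorem F100557 : act 3 n31138 = n64651 := d20_5 (iv4 D13691) (iv1 F22226) D23817 F37133 D31138 (iv4 D64651) (iv1 D30421) (iv4 F48847) (iv3 D30414) F24101
def n64652 : Q := act 5 n30421
theorem D64652 : act 5 n30421 = n64652 := rfl
def n64653 : Q := act 6 n30421
theorem D64653 : act 6 n30421 = n64653 := rfl
def n64654 : Q := act 5 n30422
theorem D64654 : act 5 n30422 = n64654 := rfl
theorem F100558 : act 2 n64654 = n30423 := d2_1 D64654 (iv5 D30423) D30422
def n64655 : Q := act 6 n30422
theorem D64655 : act 6 n30422 = n64655 := rfl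
theorem F100559 : act 2 n64655 = n30424 := d3_1 D64655 (iv6 D30424) D30422
def n64656 : Q := act 0 n30423
theorem D64656 : act 0 n30423 = n64656 := rfl
def n64657 : Q := act 1 n30423
theorem D64657 : act 1 n30423 = n64657 := rfl
def n64658 : Q := act 4 n30423
theorem D64658 : act 4 n30423 = n64658 := rfl
def n64659 : Q := act 6 n30423
theorem D64659 : act 6 n30423 = n64659 := rfl
theorem F100560 : act 3 n64659 = n30425 := d7_1 D64659 (iv6 D30425) (iv3 F48850)
def n64662 : Q := act 5 n30424
theorem D64662 : act 5 n30424 = n64662 := rfl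
theorem F100561 : act 3 n64662 = n30428 := d6_1 D64662 (iv5 D30428) (iv3 F48851)
def n64663 : Q := act 7 n30424
theorem D64663 : act 7 n30424 = n64663 := rfl
theorem F100562 : act 3 n64663 = n30429 := d8_1 D64663 (iv7 D30429) (iv3 F48851)
def n64664 : Q := act 0 n30425
theorem D64664 : act 0 n30425 = n64664 := rfl
def n64665 : Q := act 1 n30425
theorem D64665 : act 1 n30425 = n64665 := rfl
def n64666 : Q := act 5 n30425
theorem D64666 : act 5 n30425 = n64666 := rfl
theorem F100563 : act 6 n64666 = n30428 := d12_2 D30425 D64666 (iv5 D30428) (iv6 D14451) D14450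
def n64667 : Q := act 7 n30425
theorem D64667 : act 7 n30425 = n64667 := rfl
def n64668 : Q := act 2 n30426
theorem D64668 : act 2 n30426 = n64668 := rfl
theorem F100564 : act 7 n30427 = n64668 := d15_2 (iv0 D30426) D30427 (iv2 D64668)
def n64669 : Q := act 3 n30426
theorem D64669 : act 3 n30426 = n64669 := rfl
def n64670 : Q := act 4 n30426
theorem D64670 : act 4 n30426 = n64670 := rfl
def n64671 : Q := act 5 n30426
theorem D64671 : act 5 n30426 = n64671 := rfl
def n64672 : Q := act 6 n30426
theorem D64672 : act 6 n30426 = n64672 := rfl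
def n64673 : Q := act 7 n30426
theorem D64673 : act 7 n30426 = n64673 := rfl
theorem F100565 : act 2 n64673 = n30427 := d4_1 D64673 F100564 (iv2 D64668)
def n64674 : Q := act 3 n30427
theorem D64674 : act 3 n30427 = n64674 := rfl
def n64675 : Q := act 4 n30427
theorem D64675 : act 4 n30427 = n64675 := rfl
def n64676 : Q := act 5 n30427
theorem D64676 : act 5 n30427 = n64676 := rfl
def n64677 : Q := act 6 n30427
theorem D64677 : act 6 n30427 = n64677 := rfl
def n64678 : Q := act 0 n30428
theorem D64678 : act 0 n30428 = n64678 := rfl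
def n64679 : Q := act 1 n30428
theorem D64679 : act 1 n30428 = n64679 := rfl
theorem F100566 : act 5 n64679 = n64126 := d17_7 D30222 F48857 (iv1 D30441) (iv5 D14455) (iv4 F24103) D30428 D64679 (iv0 D64126) F48613
def n64680 : Q := act 4 n30428
theorem D64680 : act 4 n30428 = n64680 := rfl
def n64681 : Q := act 7 n30428
theorem D64681 : act 7 n30428 = n64681 := rfl
theorem F100567 : act 5 n64681 = n30429 := d13_1 D64681 (iv7 D30429) D30428
def n64686 : Q := act 6 n30431
theorem D64686 : act 6 n30431 = n64686 := rfl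
theorem F100568 : act 3 n64686 = n30434 := d7_1 D64686 (iv6 D30434) D30431
def n64687 : Q := act 0 n30432
theorem D64687 : act 0 n30432 = n64687 := rfl
theorem F100569 : act 1 n30437 = n64687 := d15_0 (iv0 D64687) F99911 F99909
def n64688 : Q := act 1 n30432
theorem D64688 : act 1 n30432 = n64688 := rfl
theorem F100570 : act 1 n64688 = n30437 := d15_1 D64688 (iv7 F99908) F99912
def n64689 : Q := act 3 n30432
theorem D64689 : act 3 n30432 = n64689 := rfl
def n64690 : Q := act 5 n30432
theorem D64690 : act 5 n30432 = n64690 := rfl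
def n64691 : Q := act 6 n30432
theorem D64691 : act 6 n30432 = n64691 := rfl
theorem F100571 : act 4 n64691 = n30434 := d10_1 D64691 (iv6 D30434) D30432
def n64692 : Q := act 1 n30434
theorem D64692 : act 1 n30434 = n64692 := rfl
theorem F100572 : act 7 n64692 = n30515 := d15_2 (iv0 F99648) D64692 F99760
theorem F100573 : act 5 n50596 = n64692 := d21_0 (iv1 D64692) F81352 F84132 (iv1 D50436) (iv6 D24584) (iv5 F20284) (iv1 F22287) F22285 D24646 D50596
theorem F100574 : act 6 n63745 = n64692 := d21_3 (iv5 D30083) D30081 D63745 (iv1 D64692) (iv6 D30434) (iv5 F84129) (iv1 F83985) F83981 F99120 (iv1 D63750)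
theorem F100575 : act 2 n64692 = n50617 := d3_1 F100574 (iv6 F98867) F99773
theorem F100576 : act 1 n64175 = n30515 := d15_1 (iv0 F99892) (iv7 F100572) F100575
def n64697 : Q := act 3 n30437
theorem D64697 : act 3 n30437 = n64697 := rfl
def n64698 : Q := act 5 n30437
theorem D64698 : act 5 n30437 = n64698 := rfl
def n64699 : Q := act 3 n30440
theorem D64699 : act 3 n30440 = n64699 := rfl
theorem F100578 : act 6 n64699 = n64406 := d7_2 (iv6 F48855) D64699 F100327
def n64700 : Q := act 4 n30440
theorem D64700 : act 4 n30440 = n64700 := rfl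
theorem F100579 : act 6 n64700 = n64411 := d10_2 (iv6 F48855) D64700 (iv4 D64411)
def n64701 : Q := act 3 n30441
theorem D64701 : act 3 n30441 = n64701 := rfl
def n64702 : Q := act 4 n30441
theorem D64702 : act 4 n30441 = n64702 := rfl
def n64703 : Q := act 6 n30441
theorem D64703 : act 6 n30441 = n64703 := rfl
theorem F100581 : act 5 n64703 = n64401 := d12_1 D64703 (iv6 D64401) (iv5 D30325) (iv6 F48753) F48857
theorem F100582 : act 7 n64703 = n64401 := d14_2 (iv7 F99843) D64703 (iv6 D64401) F99839 (iv6 F53433)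
theorem F100583 : act 0 n64703 = n53367 := d21_10 (iv5 D53367) (iv1 D25859) F20334 (iv6 D12273) (iv1 F20289) D25789 F40754 D30222 F48857 D64703
theorem F100584 : act 1 n53228 = n53367 := d15_0 (iv0 F100583) F100582 F100326
theorem F100585 : act 0 n53362 = n64703 := d21_1 D53362 F100581 (iv6 D64401) F48752 (iv6 D24137) (iv5 D11335) F10114 (iv5 F8945) D12273 D25858
def n64704 : Q := act 0 n30442
theorem D64704 : act 0 n30442 = n64704 := rfl
def n64705 : Q := act 1 n30442
theorem D64705 : act 1 n30442 = n64705 := rfl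
def n64706 : Q := act 3 n30442
theorem D64706 : act 3 n30442 = n64706 := rfl
def n64707 : Q := act 5 n30442
theorem D64707 : act 5 n30442 = n64707 := rfl
def n64708 : Q := act 7 n30442
theorem D64708 : act 7 n30442 = n64708 := rfl
theorem F100586 : act 4 n64708 = n30443 := d11_1 D64708 (iv7 D30443) D30442
def n64709 : Q := act 2 n30444
theorem D64709 : act 2 n30444 = n64709 := rfl
theorem F100587 : act 7 n30445 = n64709 := d15_2 (iv0 D30444) D30445 (iv2 D64709)
def n64710 : Q := act 3 n30444
theorem D64710 : act 3 n30444 = n64710 := rfl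
theorem F100588 : act 4 n64710 = n59583 := d20_6 (iv4 D24833) (iv1 F24109) (iv4 D14459) D14458 D30444 D64710 (iv1 D59583) (iv4 F48537) (iv3 D30173) (iv1 F38875)
def n64711 : Q := act 4 n30444
theorem D64711 : act 4 n30444 = n64711 := rfl
def n64712 : Q := act 5 n30444
theorem D64712 : act 5 n30444 = n64712 := rfl
theorem F100589 : act 4 n64712 = n59198 := d19_2 D30444 D64712 (iv3 D59198) (iv1 D28114) (iv5 D13419) (iv4 D6375) F4317 D2738 (iv5 F5079) (iv4 D2255) (iv3 F3602) D5442 F8269 (iv4 F8848) (iv3 F20029) F39412 F38843 (iv4 D14459) D14458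
def n64713 : Q := act 6 n30444
theorem D64713 : act 6 n30444 = n64713 := rfl
def n64714 : Q := act 7 n30444
theorem D64714 : act 7 n30444 = n64714 := rfl
theorem F100590 : act 2 n64714 = n30445 := d4_1 D64714 F100587 (iv2 D64709)
def n64715 : Q := act 3 n30445
theorem D64715 : act 3 n30445 = n64715 := rfl
def n64716 : Q := act 4 n30445
theorem D64716 : act 4 n30445 = n64716 := rfl
def n64717 : Q := act 5 n30445
theorem D64717 : act 5 n30445 = n64717 := rfl
def n64718 : Q := act 6 n30445
theorem D64718 : act 6 n30445 = n64718 := rfl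
def n64719 : Q := act 4 n30446
theorem D64719 : act 4 n30446 = n64719 := rfl
theorem F100591 : act 2 n64719 = n30447 := d1_1 D64719 (iv4 D30447) D30446
def n64720 : Q := act 5 n30446
theorem D64720 : act 5 n30446 = n64720 := rfl
theorem F100592 : act 2 n64720 = n30448 := d2_1 D64720 (iv5 D30448) D30446
def n64721 : Q := act 6 n30446
theorem D64721 : act 6 n30446 = n64721 := rfl
theorem F100593 : act 2 n64721 = n30449 := d3_1 D64721 (iv6 D30449) D30446
def n64722 : Q := act 0 n30447
theorem D64722 : act 0 n30447 = n64722 := rfl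
theorem F100594 : act 3 n64722 = n31078 := d20_5 (iv4 F38279) F48866 F48864 (iv3 F48865) D64722 (iv4 D31078) (iv1 D14696) (iv4 F24368) (iv3 D14689) D14687
def n64723 : Q := act 1 n30447
theorem D64723 : act 1 n30447 = n64723 := rfl
theorem F100595 : act 4 n64645 = n64723 := d20_6 F23939 (iv1 F11097) D6907 D14449 D30420 D64645 (iv1 D64723) (iv4 D30447) (iv3 D14458) (iv1 F23942)
def n64724 : Q := act 5 n30447
theorem D64724 : act 5 n30447 = n64724 := rfl
theorem F100596 : act 3 n64724 = n63312 := d6_1 D64724 (iv5 D63312) (iv3 F48865)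
def n64725 : Q := act 6 n30447
theorem D64725 : act 6 n30447 = n64725 := rfl
theorem F100597 : act 3 n64725 = n63313 := d7_1 D64725 (iv6 D63313) (iv3 F48865)
theorem F100598 : act 4 n64725 = n30449 := d10_1 D64725 (iv6 D30449) D30447
def n64726 : Q := act 0 n30448
theorem D64726 : act 0 n30448 = n64726 := rfl
def n64727 : Q := act 1 n30448
theorem D64727 : act 1 n30448 = n64727 := rfl
def n64728 : Q := act 4 n30448
theorem D64728 : act 4 n30448 = n64728 := rfl
def n64729 : Q := act 6 n30448
theorem D64729 : act 6 n30448 = n64729 := rfl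
theorem F100599 : act 3 n64729 = n30454 := d7_1 D64729 (iv6 D30454) (iv3 F48859)
def n64730 : Q := act 0 n30449
theorem D64730 : act 0 n30449 = n64730 := rfl
def n64731 : Q := act 1 n30449
theorem D64731 : act 1 n30449 = n64731 := rfl
def n64732 : Q := act 5 n30449
theorem D64732 : act 5 n30449 = n64732 := rfl
def n64733 : Q := act 7 n30449
theorem D64733 : act 7 n30449 = n64733 := rfl
theorem F100601 : act 3 n64733 = n30458 := d8_1 D64733 (iv7 D30458) (iv3 F48860)
def n64734 : Q := act 6 n30450
theorem D64734 : act 6 n30450 = n64734 := rfl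
theorem F100602 : act 2 n64734 = n60451 := d3_1 D64734 (iv6 D60451) (iv2 F48861)
theorem F100603 : act 3 n64734 = n30451 := d7_1 D64734 (iv6 D30451) D30450
theorem F100604 : act 4 n64734 = n63313 := d10_1 D64734 (iv6 D63313) (iv4 F48864)
theorem F100605 : act 5 n64734 = n60506 := d12_1 D64734 (iv6 D60506) (iv5 F46368) D30716 (iv5 F49182)
theorem F100606 : act 0 n53521 = n63313 := d18_2 (iv1 F78104) D53521 (iv4 F100604) F100605 (iv4 F98710) F98712 F98355 F95962 F95959
def n64735 : Q := act 0 n30451
theorem D64735 : act 0 n30451 = n64735 := rfl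
def n64736 : Q := act 1 n30451
theorem D64736 : act 1 n30451 = n64736 := rfl
def n64737 : Q := act 7 n30451
theorem D64737 : act 7 n30451 = n64737 := rfl
theorem F100607 : act 4 n64737 = n30458 := d11_1 D64737 (iv7 D30458) (iv4 F48867)
theorem F100608 : act 5 n64737 = n60554 := d13_1 D64737 F96852 F96453
theorem F100609 : act 1 n64595 = n64737 := d15_1 (iv0 F100529) (iv7 D64737) (iv2 F76888)
def n64738 : Q := act 3 n30452
theorem D64738 : act 3 n30452 = n64738 := rfl
theorem F100610 : act 5 n64738 = n63921 := d6_2 (iv5 F48868) D64738 (iv3 D63921)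
def n64739 : Q := act 6 n30452
theorem D64739 : act 6 n30452 = n64739 := rfl
theorem F100612 : act 2 n64739 = n64329 := d3_1 D64739 (iv6 D64329) F48870
def n64740 : Q := act 3 n30453
theorem D64740 : act 3 n30453 = n64740 := rfl
theorem F100613 : act 5 n64740 = n50559 := d6_2 F48875 D64740 (iv3 D50559)
theorem F100614 : act 7 n64740 = n64327 := d8_2 (iv7 F48873) D64740 F100286
def n64741 : Q := act 6 n30453
theorem D64741 : act 6 n30453 = n64741 := rfl
def n64742 : Q := act 0 n30454
theorem D64742 : act 0 n30454 = n64742 := rfl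
def n64743 : Q := act 1 n30454
theorem D64743 : act 1 n30454 = n64743 := rfl
def n64744 : Q := act 5 n30454
theorem D64744 : act 5 n30454 = n64744 := rfl
theorem F100616 : act 6 n64744 = n30457 := d12_2 D30454 D64744 (iv5 D30457) (iv6 D14461) D14460
def n64745 : Q := act 7 n30454
theorem D64745 : act 7 n30454 = n64745 := rfl
def n64746 : Q := act 0 n30457
theorem D64746 : act 0 n30457 = n64746 := rfl
theorem F100617 : act 5 n64746 = n64108 := d17_3 F97744 D30457 D64746 F99728 F48607 (iv0 F40725) (iv5 D14443) D14442 D30408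
def n64747 : Q := act 1 n30457
theorem D64747 : act 1 n30457 = n64747 := rfl
theorem F100618 : act 5 n64503 = n64747 := d21_6 (iv5 F45796) F45797 F45760 D59496 F93923 D64503 (iv1 D64747) (iv5 D30457) (iv6 D14461) (iv1 F23942)
def n64749 : Q := act 7 n30457
theorem D64749 : act 7 n30457 = n64749 := rfl
theorem F100619 : act 5 n64749 = n30458 := d13_1 D64749 (iv7 D30458) D30457
def n64750 : Q := act 2 n30459
theorem D64750 : act 2 n30459 = n64750 := rfl
theorem F100620 : act 7 n30460 = n64750 := d15_2 (iv0 D30459) D30460 (iv2 D64750)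
def n64751 : Q := act 3 n30459
theorem D64751 : act 3 n30459 = n64751 := rfl
def n64752 : Q := act 4 n30459
theorem D64752 : act 4 n30459 = n64752 := rfl
def n64753 : Q := act 5 n30459
theorem D64753 : act 5 n30459 = n64753 := rfl
def n64754 : Q := act 6 n30459
theorem D64754 : act 6 n30459 = n64754 := rfl
def n64755 : Q := act 7 n30459
theorem D64755 : act 7 n30459 = n64755 := rfl
theorem F100621 : act 2 n64755 = n30460 := d4_1 D64755 F100620 (iv2 D64750)
def n64756 : Q := act 3 n30460
theorem D64756 : act 3 n30460 = n64756 := rfl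
def n64757 : Q := act 4 n30460
theorem D64757 : act 4 n30460 = n64757 := rfl
def n64758 : Q := act 5 n30460
theorem D64758 : act 5 n30460 = n64758 := rfl
def n64759 : Q := act 6 n30460
theorem D64759 : act 6 n30460 = n64759 := rfl
def n64760 : Q := act 4 n30461
theorem D64760 : act 4 n30461 = n64760 := rfl
theorem F100622 : act 2 n64760 = n30462 := d1_1 D64760 (iv4 D30462) D30461
def n64761 : Q := act 5 n30461
theorem D64761 : act 5 n30461 = n64761 := rfl
theorem F100623 : act 2 n64761 = n30463 := d2_1 D64761 (iv5 D30463) D30461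
def n64762 : Q := act 6 n30461
theorem D64762 : act 6 n30461 = n64762 := rfl
theorem F100624 : act 2 n64762 = n30464 := d3_1 D64762 (iv6 D30464) D30461
def n64763 : Q := act 0 n30462
theorem D64763 : act 0 n30462 = n64763 := rfl
def n64764 : Q := act 1 n30462
theorem D64764 : act 1 n30462 = n64764 := rfl
theorem F100625 : act 4 n64561 = n64764 := d20_6 (iv4 D3109) D3107 D6902 D14433 D30388 D64561 (iv1 D64764) (iv4 D30462) (iv3 D14463) (iv1 D6911)
theorem F100626 : act 0 n31220 = n64561 := d20_10 F100625 (iv1 D64764) (iv4 D30462) (iv3 D14463) (iv1 D6911) D6912 F11188 D7026 D14740 D31220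
def n64765 : Q := act 5 n30462
theorem D64765 : act 5 n30462 = n64765 := rfl
def n64766 : Q := act 6 n30462
theorem D64766 : act 6 n30462 = n64766 := rfl
theorem F100627 : act 4 n64766 = n30464 := d10_1 D64766 (iv6 D30464) D30462
def n64767 : Q := act 0 n30463
theorem D64767 : act 0 n30463 = n64767 := rfl
def n64768 : Q := act 1 n30463
theorem D64768 : act 1 n30463 = n64768 := rfl
def n64769 : Q := act 4 n30463
theorem D64769 : act 4 n30463 = n64769 := rfl
def n64770 : Q := act 6 n30463
theorem D64770 : act 6 n30463 = n64770 := rfl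
theorem F100628 : act 3 n64770 = n30466 := d7_1 D64770 (iv6 D30466) (iv3 F48876)
def n64771 : Q := act 0 n30464
theorem D64771 : act 0 n30464 = n64771 := rfl
def n64772 : Q := act 1 n30464
theorem D64772 : act 1 n30464 = n64772 := rfl
def n64773 : Q := act 5 n30464
theorem D64773 : act 5 n30464 = n64773 := rfl
theorem F100629 : act 3 n64773 = n30469 := d6_1 D64773 (iv5 D30469) (iv3 F48877)
def n64774 : Q := act 7 n30464
theorem D64774 : act 7 n30464 = n64774 := rfl
theorem F100630 : act 3 n64774 = n30470 := d8_1 D64774 (iv7 D30470) (iv3 F48877)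
def n64775 : Q := act 0 n30465
theorem D64775 : act 0 n30465 = n64775 := rfl
def n64776 : Q := act 1 n30465
theorem D64776 : act 1 n30465 = n64776 := rfl
def n64777 : Q := act 7 n30465
theorem D64777 : act 7 n30465 = n64777 := rfl
theorem F100631 : act 4 n64777 = n30470 := d11_1 D64777 (iv7 D30470) (iv4 F48878)
def n64778 : Q := act 0 n30466
theorem D64778 : act 0 n30466 = n64778 := rfl
def n64779 : Q := act 1 n30466
theorem D64779 : act 1 n30466 = n64779 := rfl
def n64780 : Q := act 5 n30466
theorem D64780 : act 5 n30466 = n64780 := rfl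
theorem F100632 : act 6 n64780 = n30469 := d12_2 D30466 D64780 (iv5 D30469) (iv6 D14466) D14465
def n64781 : Q := act 7 n30466
theorem D64781 : act 7 n30466 = n64781 := rfl
def n64792 : Q := act 0 n30469
theorem D64792 : act 0 n30469 = n64792 := rfl
def n64793 : Q := act 1 n30469
theorem D64793 : act 1 n30469 = n64793 := rfl
def n64794 : Q := act 4 n30469
theorem D64794 : act 4 n30469 = n64794 := rfl
def n64795 : Q := act 7 n30469
theorem D64795 : act 7 n30469 = n64795 := rfl
theorem F100635 : act 5 n64795 = n30470 := d13_1 D64795 (iv7 D30470) D30469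
def n64796 : Q := act 5 n30471
theorem D64796 : act 5 n30471 = n64796 := rfl
theorem F100636 : act 2 n64796 = n30489 := d2_1 D64796 F48892 F48879
theorem F100637 : act 7 n64796 = n30484 := d13_2 (iv7 F48881) D64796 (iv5 D30484)
theorem F100638 : act 1 n30486 = n64796 := d15_1 D30486 F100637 F48889
theorem F100639 : act 1 n64796 = n30485 := d15_0 (iv0 D30485) D30489 (iv2 F100636)
def n64797 : Q := act 6 n30471
theorem D64797 : act 6 n30471 = n64797 := rfl
theorem F100640 : act 2 n64797 = n30490 := d3_1 D64797 (iv6 D30490) F48879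
theorem F100641 : act 4 n64797 = n31204 := d10_1 D64797 (iv6 D31204) (iv4 F48880)
def n64798 : Q := act 0 n30472
theorem D64798 : act 0 n30472 = n64798 := rfl
def n64799 : Q := act 1 n30472
theorem D64799 : act 1 n30472 = n64799 := rfl
def n64800 : Q := act 3 n30472
theorem D64800 : act 3 n30472 = n64800 := rfl
theorem F100644 : act 7 n64800 = n30478 := d8_2 F48883 D64800 (iv3 D30478)
def n64801 : Q := act 4 n30472
theorem D64801 : act 4 n30472 = n64801 := rfl
theorem F100645 : act 2 n64801 = n30474 := d1_1 D64801 (iv4 D30474) D30472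
theorem F100646 : act 7 n64801 = n30479 := d11_2 F48883 D64801 (iv4 D30479)
theorem F100647 : act 3 n59729 = n64801 := d8_3 F100646 (iv3 F48885) F94110
def n64802 : Q := act 5 n30472
theorem D64802 : act 5 n30472 = n64802 := rfl
theorem F100648 : act 2 n64802 = n30475 := d2_1 D64802 (iv5 D30475) D30472
theorem F100649 : act 7 n64802 = n30480 := d13_2 F48883 D64802 (iv5 D30480)
def n64803 : Q := act 6 n30472
theorem D64803 : act 6 n30472 = n64803 := rfl
theorem F100650 : act 2 n64803 = n30476 := d3_1 D64803 (iv6 D30476) D30472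
def n64804 : Q := act 0 n30473
theorem D64804 : act 0 n30473 = n64804 := rfl
def n64805 : Q := act 1 n30473
theorem D64805 : act 1 n30473 = n64805 := rfl
def n64806 : Q := act 2 n30473
theorem D64806 : act 2 n30473 = n64806 := rfl
def n64807 : Q := act 5 n30473
theorem D64807 : act 5 n30473 = n64807 := rfl
theorem F100651 : act 3 n64807 = n30475 := d6_1 D64807 (iv5 D30475) D30473
def n64808 : Q := act 6 n30473
theorem D64808 : act 6 n30473 = n64808 := rfl
theorem F100652 : act 3 n64808 = n30476 := d7_1 D64808 (iv6 D30476) D30473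
def n64809 : Q := act 7 n30473
theorem D64809 : act 7 n30473 = n64809 := rfl
theorem F100653 : act 3 n64809 = n30477 := d8_1 D64809 (iv7 D30477) D30473
def n64810 : Q := act 0 n30474
theorem D64810 : act 0 n30474 = n64810 := rfl
theorem F100654 : act 4 n64810 = n64650 := d20_2 D30474 D64810 (iv3 D64650) (iv1 D30421) (iv3 D14449) (iv4 D6907) (iv1 D3108) D3109 D6912 D14467
def n64811 : Q := act 1 n30474
theorem D64811 : act 1 n30474 = n64811 := rfl
theorem F100655 : act 1 n64811 = n30479 := d15_1 D64811 (iv7 F100646) F100645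
def n64812 : Q := act 3 n30474
theorem D64812 : act 3 n30474 = n64812 := rfl
theorem F100656 : act 2 n64812 = n59730 := d0_1 D64812 (iv3 D59730) D59729 F100647 F100645
theorem F100657 : act 0 n64812 = n30981 := d20_4 (iv4 F11188) D14467 D30474 D64812 (iv3 D30981) D30982 F49553 (iv4 D31237) (iv3 D14744) (iv1 D7027)
def n64813 : Q := act 5 n30474
theorem D64813 : act 5 n30474 = n64813 := rfl
def n64814 : Q := act 6 n30474
theorem D64814 : act 6 n30474 = n64814 := rfl
theorem F100658 : act 4 n64814 = n30476 := d10_1 D64814 (iv6 D30476) D30474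
def n64815 : Q := act 7 n30474
theorem D64815 : act 7 n30474 = n64815 := rfl
theorem F100659 : act 2 n64815 = n30479 := d4_1 D64815 (iv7 F100646) F100645
theorem F100660 : act 4 n64815 = n30477 := d11_1 D64815 (iv7 D30477) D30474
theorem F100661 : act 1 n30479 = n64810 := d15_0 (iv0 D64810) D64815 F100659
def n64816 : Q := act 0 n30475
theorem D64816 : act 0 n30475 = n64816 := rfl
def n64817 : Q := act 1 n30475
theorem D64817 : act 1 n30475 = n64817 := rfl
theorem F100662 : act 1 n64817 = n30480 := d15_1 D64817 (iv7 F100649) F100648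
def n64818 : Q := act 4 n30475
theorem D64818 : act 4 n30475 = n64818 := rfl
def n64819 : Q := act 6 n30475
theorem D64819 : act 6 n30475 = n64819 := rfl
def n64820 : Q := act 7 n30475
theorem D64820 : act 7 n30475 = n64820 := rfl
theorem F100663 : act 2 n64820 = n30480 := d4_1 D64820 (iv7 F100649) F100648
theorem F100664 : act 5 n64820 = n30477 := d13_1 D64820 (iv7 D30477) D30475
theorem F100665 : act 1 n30480 = n64816 := d15_0 (iv0 D64816) D64820 F100663
def n64821 : Q := act 0 n30476
theorem D64821 : act 0 n30476 = n64821 := rfl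
def n64822 : Q := act 1 n30476
theorem D64822 : act 1 n30476 = n64822 := rfl
def n64823 : Q := act 5 n30476
theorem D64823 : act 5 n30476 = n64823 := rfl
def n64824 : Q := act 7 n30476
theorem D64824 : act 7 n30476 = n64824 := rfl
def n64825 : Q := act 6 n30477
theorem D64825 : act 6 n30477 = n64825 := rfl
theorem F100666 : act 2 n64825 = n30481 := d3_1 D64825 (iv6 D30481) (iv2 F48884)
def n64826 : Q := act 0 n30478
theorem D64826 : act 0 n30478 = n64826 := rfl
theorem F100667 : act 4 n64826 = n59582 := d20_0 (iv1 F100475) F100473 (iv3 F99529) (iv1 F99533) D64650 (iv4 F100654) (iv1 F100661) (iv4 D30479) D30478 D64826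
def n64827 : Q := act 1 n30478
theorem D64827 : act 1 n30478 = n64827 := rfl
def n64828 : Q := act 2 n30478
theorem D64828 : act 2 n30478 = n64828 := rfl
def n64829 : Q := act 4 n30478
theorem D64829 : act 4 n30478 = n64829 := rfl
theorem F100668 : act 3 n64829 = n59735 := d5_1 D64829 (iv4 D59735) F48885 (iv4 D30479) D30478
theorem F100669 : act 0 n64562 = n64829 := d20_1 D64562 (iv4 D64829) (iv3 D30478) (iv1 D14468) (iv3 D6912) (iv4 D3109) D3107 D6902 D14433 D30388
theorem F100670 : act 0 n64829 = n64567 := d20_10 (iv4 D64567) (iv1 D30389) (iv4 F48811) (iv3 D30378) F24075 (iv3 F45787) F45788 (iv1 F45841) D59735 (iv3 F100668)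
def n64830 : Q := act 5 n30478
theorem D64830 : act 5 n30478 = n64830 := rfl
theorem F100671 : act 3 n64830 = n30480 := d6_1 D64830 (iv5 D30480) D30478
def n64831 : Q := act 6 n30478
theorem D64831 : act 6 n30478 = n64831 := rfl
theorem F100672 : act 3 n64831 = n30481 := d7_1 D64831 (iv6 D30481) D30478
def n64832 : Q := act 5 n30479
theorem D64832 : act 5 n30479 = n64832 := rfl
theorem F100673 : act 3 n64832 = n59736 := d6_1 D64832 (iv5 D59736) F48885
def n64833 : Q := act 6 n30479
theorem D64833 : act 6 n30479 = n64833 := rfl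
theorem F100674 : act 3 n64833 = n59737 := d7_1 D64833 (iv6 D59737) F48885
theorem F100675 : act 4 n64833 = n30481 := d10_1 D64833 (iv6 D30481) D30479
def n64834 : Q := act 4 n30480
theorem D64834 : act 4 n30480 = n64834 := rfl
def n64835 : Q := act 6 n30480
theorem D64835 : act 6 n30480 = n64835 := rfl
def n64836 : Q := act 0 n30481
theorem D64836 : act 0 n30481 = n64836 := rfl
def n64837 : Q := act 1 n30481
theorem D64837 : act 1 n30481 = n64837 := rfl
def n64838 : Q := act 5 n30481
theorem D64838 : act 5 n30481 = n64838 := rfl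
def n64839 : Q := act 7 n30481
theorem D64839 : act 7 n30481 = n64839 := rfl
def n64840 : Q := act 2 n30482
theorem D64840 : act 2 n30482 = n64840 := rfl
theorem F100676 : act 4 n64840 = n59694 := d1_2 F48887 D64840 (iv2 D59694)
theorem F100677 : act 7 n30483 = n64840 := d15_2 (iv0 D30482) D30483 (iv2 D64840)
def n64841 : Q := act 3 n30482
theorem D64841 : act 3 n30482 = n64841 := rfl
theorem F100678 : act 4 n64841 = n59700 := d5_2 F48887 D64841 (iv3 D59700) (iv4 D28329) D28328
def n64843 : Q := act 6 n30482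
theorem D64843 : act 6 n30482 = n64843 := rfl
theorem F100679 : act 4 n64843 = n59696 := d10_1 D64843 (iv6 D59696) F48887
def n64844 : Q := act 7 n30482
theorem D64844 : act 7 n30482 = n64844 := rfl
theorem F100680 : act 2 n64844 = n30483 := d4_1 D64844 F100677 (iv2 D64840)
theorem F100681 : act 4 n64844 = n59697 := d11_1 D64844 (iv7 D59697) F48887
def n64845 : Q := act 3 n30483
theorem D64845 : act 3 n30483 = n64845 := rfl
theorem F100682 : act 4 n64845 = n51053 := d20_6 (iv4 D14319) (iv1 F11096) (iv4 F11189) (iv3 F24113) (iv1 F48888) D64845 (iv1 D51053) (iv4 F80499) (iv3 D51050) F38874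
def n64846 : Q := act 4 n30483
theorem D64846 : act 4 n30483 = n64846 := rfl
theorem F100683 : act 2 n64846 = n59697 := d1_1 D64846 (iv4 F100681) F100680
theorem F100684 : act 7 n64846 = n59694 := d11_2 (iv7 F100677) D64846 (iv4 F100676)
theorem F100685 : act 1 n59693 = n64846 := d15_1 D59693 F100684 (iv2 D59694)
theorem F100686 : act 3 n59716 = n64846 := d0_0 F100683 F94092 F45839 D28333 D59716
theorem F100687 : act 1 n64846 = n59692 := d15_0 (iv0 D59692) D59697 (iv2 F100683)
theorem F100688 : act 0 n59716 = n53599 := d20_10 F84559 (iv1 D49569) F37901 (iv3 D12318) (iv1 F9001) (iv3 F11278) (iv4 F24114) (iv1 F48888) D64846 (iv3 F100686)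
def n64849 : Q := act 0 n30484
theorem D64849 : act 0 n30484 = n64849 := rfl
theorem F100689 : act 1 n30489 = n64849 := d15_0 (iv0 D64849) (iv7 F100637) F100636
def n64850 : Q := act 1 n30484
theorem D64850 : act 1 n30484 = n64850 := rfl
theorem F100690 : act 1 n64850 = n30489 := d15_1 D64850 (iv7 D30489) (iv2 F48889)
def n64851 : Q := act 4 n30484
theorem D64851 : act 4 n30484 = n64851 := rfl
theorem F100691 : act 2 n64851 = n30487 := d1_1 D64851 (iv4 D30487) (iv2 F48889)
def n64852 : Q := act 6 n30484
theorem D64852 : act 6 n30484 = n64852 := rfl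
theorem F100692 : act 2 n64852 = n30488 := d3_1 D64852 (iv6 D30488) (iv2 F48889)
def n64853 : Q := act 2 n30485
theorem D64853 : act 2 n30485 = n64853 := rfl
theorem F100693 : act 7 n30486 = n64853 := d15_2 (iv0 D30485) D30486 (iv2 D64853)
def n64854 : Q := act 3 n30485
theorem D64854 : act 3 n30485 = n64854 := rfl
def n64855 : Q := act 4 n30485
theorem D64855 : act 4 n30485 = n64855 := rfl
def n64856 : Q := act 5 n30485
theorem D64856 : act 5 n30485 = n64856 := rfl
def n64857 : Q := act 6 n30485
theorem D64857 : act 6 n30485 = n64857 := rfl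
def n64858 : Q := act 7 n30485
theorem D64858 : act 7 n30485 = n64858 := rfl
theorem F100694 : act 2 n64858 = n30486 := d4_1 D64858 F100693 (iv2 D64853)
def n64859 : Q := act 3 n30486
theorem D64859 : act 3 n30486 = n64859 := rfl
def n64860 : Q := act 4 n30486
theorem D64860 : act 4 n30486 = n64860 := rfl
def n64861 : Q := act 5 n30486
theorem D64861 : act 5 n30486 = n64861 := rfl
def n64862 : Q := act 6 n30486
theorem D64862 : act 6 n30486 = n64862 := rfl
def n64863 : Q := act 0 n30487
theorem D64863 : act 0 n30487 = n64863 := rfl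
def n64864 : Q := act 1 n30487
theorem D64864 : act 1 n30487 = n64864 := rfl
def n64865 : Q := act 3 n30487
theorem D64865 : act 3 n30487 = n64865 := rfl
theorem F100695 : act 4 n64865 = n30497 := d5_2 D30487 D64865 (iv3 D30497) (iv4 D14474) (iv3 F24112)
def n64866 : Q := act 5 n30487
theorem D64866 : act 5 n30487 = n64866 := rfl
def n64867 : Q := act 6 n30487
theorem D64867 : act 6 n30487 = n64867 := rfl
theorem F100696 : act 4 n64867 = n30488 := d10_1 D64867 (iv6 D30488) D30487
def n64868 : Q := act 7 n30487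
theorem D64868 : act 7 n30487 = n64868 := rfl
theorem F100697 : act 4 n64868 = n30489 := d11_1 D64868 (iv7 D30489) D30487
def n64869 : Q := act 0 n30488
theorem D64869 : act 0 n30488 = n64869 := rfl
def n64870 : Q := act 1 n30488
theorem D64870 : act 1 n30488 = n64870 := rfl
def n64871 : Q := act 7 n30488
theorem D64871 : act 7 n30488 = n64871 := rfl
theorem F100698 : act 3 n64871 = n30501 := d8_1 D64871 (iv7 D30501) (iv3 F48890)
def n64872 : Q := act 6 n30489
theorem D64872 : act 6 n30489 = n64872 := rfl
theorem F100699 : act 3 n64872 = n30502 := d7_1 D64872 (iv6 D30502) (iv3 F48891)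
def n64873 : Q := act 0 n30490
theorem D64873 : act 0 n30490 = n64873 := rfl
def n64874 : Q := act 1 n30490
theorem D64874 : act 1 n30490 = n64874 := rfl
def n64875 : Q := act 5 n30490
theorem D64875 : act 5 n30490 = n64875 := rfl
theorem F100700 : act 3 n64875 = n30505 := d6_1 D64875 (iv5 D30505) (iv3 F48893)
def n64876 : Q := act 0 n30492
theorem D64876 : act 0 n30492 = n64876 := rfl
def n64877 : Q := act 1 n30492
theorem D64877 : act 1 n30492 = n64877 := rfl
def n64878 : Q := act 2 n30492
theorem D64878 : act 2 n30492 = n64878 := rfl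
def n64879 : Q := act 4 n30492
theorem D64879 : act 4 n30492 = n64879 := rfl
def n64880 : Q := act 6 n30492
theorem D64880 : act 6 n30492 = n64880 := rfl
theorem F100701 : act 3 n64880 = n30493 := d7_1 D64880 (iv6 D30493) D30492
def n64881 : Q := act 0 n30493
theorem D64881 : act 0 n30493 = n64881 := rfl
def n64882 : Q := act 1 n30493
theorem D64882 : act 1 n30493 = n64882 := rfl
def n64883 : Q := act 5 n30493
theorem D64883 : act 5 n30493 = n64883 := rfl
def n64884 : Q := act 7 n30493
theorem D64884 : act 7 n30493 = n64884 := rfl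
def n64885 : Q := act 0 n30495
theorem D64885 : act 0 n30495 = n64885 := rfl
def n64886 : Q := act 1 n30495
theorem D64886 : act 1 n30495 = n64886 := rfl
def n64887 : Q := act 2 n30495
theorem D64887 : act 2 n30495 = n64887 := rfl
def n64888 : Q := act 4 n30495
theorem D64888 : act 4 n30495 = n64888 := rfl
def n64889 : Q := act 6 n30495
theorem D64889 : act 6 n30495 = n64889 := rfl
theorem F100702 : act 3 n64889 = n30496 := d7_1 D64889 (iv6 D30496) D30495
def n64890 : Q := act 0 n30496
theorem D64890 : act 0 n30496 = n64890 := rfl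
def n64891 : Q := act 1 n30496
theorem D64891 : act 1 n30496 = n64891 := rfl
def n64892 : Q := act 5 n30496
theorem D64892 : act 5 n30496 = n64892 := rfl
def n64893 : Q := act 7 n30496
theorem D64893 : act 7 n30496 = n64893 := rfl
def n64894 : Q := act 0 n30497
theorem D64894 : act 0 n30497 = n64894 := rfl
def n64895 : Q := act 1 n30497
theorem D64895 : act 1 n30497 = n64895 := rfl
def n64896 : Q := act 2 n30497
theorem D64896 : act 2 n30497 = n64896 := rfl
def n64897 : Q := act 6 n30497
theorem D64897 : act 6 n30497 = n64897 := rfl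
theorem F100703 : act 3 n64897 = n30498 := d7_1 D64897 (iv6 D30498) D30497
def n64898 : Q := act 0 n30498
theorem D64898 : act 0 n30498 = n64898 := rfl
def n64899 : Q := act 1 n30498
theorem D64899 : act 1 n30498 = n64899 := rfl
def n64900 : Q := act 5 n30498
theorem D64900 : act 5 n30498 = n64900 := rfl
def n64901 : Q := act 7 n30498
theorem D64901 : act 7 n30498 = n64901 := rfl
theorem F100704 : act 4 n64901 = n30501 := d11_1 D64901 (iv7 D30501) (iv4 F48897)
def n64902 : Q := act 2 n30499
theorem D64902 : act 2 n30499 = n64902 := rfl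
theorem F100705 : act 7 n30500 = n64902 := d15_2 (iv0 D30499) D30500 (iv2 D64902)
def n64903 : Q := act 3 n30499
theorem D64903 : act 3 n30499 = n64903 := rfl
def n64904 : Q := act 4 n30499
theorem D64904 : act 4 n30499 = n64904 := rfl
def n64905 : Q := act 5 n30499
theorem D64905 : act 5 n30499 = n64905 := rfl
def n64906 : Q := act 6 n30499
theorem D64906 : act 6 n30499 = n64906 := rfl
def n64907 : Q := act 7 n30499
theorem D64907 : act 7 n30499 = n64907 := rfl
theorem F100706 : act 2 n64907 = n30500 := d4_1 D64907 F100705 (iv2 D64902)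
def n64908 : Q := act 3 n30500
theorem D64908 : act 3 n30500 = n64908 := rfl
def n64909 : Q := act 4 n30500
theorem D64909 : act 4 n30500 = n64909 := rfl
def n64910 : Q := act 5 n30500
theorem D64910 : act 5 n30500 = n64910 := rfl
def n64911 : Q := act 6 n30500
theorem D64911 : act 6 n30500 = n64911 := rfl
def n64912 : Q := act 6 n30501
theorem D64912 : act 6 n30501 = n64912 := rfl
theorem F100707 : act 7 n64912 = n30502 := d14_2 D30501 D64912 (iv6 D30502) (iv7 D14476) D14475
def n64913 : Q := act 0 n30502
theorem D64913 : act 0 n30502 = n64913 := rfl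
def n64914 : Q := act 1 n30502
theorem D64914 : act 1 n30502 = n64914 := rfl
def n64915 : Q := act 5 n30502
theorem D64915 : act 5 n30502 = n64915 := rfl
theorem F100708 : act 6 n64915 = n30505 := d12_2 D30502 D64915 (iv5 D30505) (iv6 D14477) (iv5 F24115)
def n64916 : Q := act 2 n30503
theorem D64916 : act 2 n30503 = n64916 := rfl
theorem F100709 : act 7 n30504 = n64916 := d15_2 (iv0 D30503) D30504 (iv2 D64916)
def n64917 : Q := act 3 n30503
theorem D64917 : act 3 n30503 = n64917 := rfl
def n64918 : Q := act 4 n30503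
theorem D64918 : act 4 n30503 = n64918 := rfl
theorem F100710 : act 0 n31712 = n64918 := d20_10 (iv4 D64918) (iv1 F99424) F99421 (iv3 F53418) (iv1 F53421) D53365 (iv4 F100228) (iv1 D51244) F39068 (iv3 F50015)
theorem F100711 : act 1 n62007 = n64918 := d15_0 (iv0 F100710) (iv7 F92817) (iv2 F96593)
def n64919 : Q := act 5 n30503
theorem D64919 : act 5 n30503 = n64919 := rfl
def n64920 : Q := act 6 n30503
theorem D64920 : act 6 n30503 = n64920 := rfl
def n64921 : Q := act 7 n30503
theorem D64921 : act 7 n30503 = n64921 := rfl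
theorem F100712 : act 2 n64921 = n30504 := d4_1 D64921 F100709 (iv2 D64916)
def n64922 : Q := act 3 n30504
theorem D64922 : act 3 n30504 = n64922 := rfl
def n64923 : Q := act 4 n30504
theorem D64923 : act 4 n30504 = n64923 := rfl
theorem F100713 : act 3 n49955 = n64923 := d20_5 D14768 (iv1 F94128) F38227 (iv3 F38174) D49955 (iv4 D64923) (iv1 D30504) F24116 F11190 D7035
def n64924 : Q := act 5 n30504
theorem D64924 : act 5 n30504 = n64924 := rfl
def n64925 : Q := act 6 n30504
theorem D64925 : act 6 n30504 = n64925 := rfl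
def n64926 : Q := act 0 n30505
theorem D64926 : act 0 n30505 = n64926 := rfl
def n64927 : Q := act 1 n30505
theorem D64927 : act 1 n30505 = n64927 := rfl
def n64928 : Q := act 4 n30505
theorem D64928 : act 4 n30505 = n64928 := rfl
def n64929 : Q := act 0 n30507
theorem D64929 : act 0 n30507 = n64929 := rfl
def n64930 : Q := act 1 n30507
theorem D64930 : act 1 n30507 = n64930 := rfl
def n64931 : Q := act 2 n30507
theorem D64931 : act 2 n30507 = n64931 := rfl
def n64932 : Q := act 4 n30507
theorem D64932 : act 4 n30507 = n64932 := rfl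
theorem F100714 : act 7 n64932 = n59621 := d11_2 (iv7 F99747) D64932 (iv4 F99645)
theorem F100715 : act 0 n59435 = n64932 := d20_7 (iv4 F99421) (iv1 F99423) D64923 (iv3 F100713) (iv1 F79007) F76830 (iv4 F93820) (iv4 D64932) (iv3 D30507) (iv1 F48471)
theorem F100716 : act 2 n64932 = n59620 := d15_3 (iv0 D59620) D59621 (iv7 F100714)
theorem F100717 : act 4 n59620 = n64931 := d1_2 D64932 F100716 (iv2 D64931)
def n64933 : Q := act 5 n30507
theorem D64933 : act 5 n30507 = n64933 := rfl
theorem F100718 : act 3 n64933 = n30509 := d6_1 D64933 (iv5 D30509) D30507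
def n64934 : Q := act 6 n30507
theorem D64934 : act 6 n30507 = n64934 := rfl
theorem F100719 : act 3 n64934 = n30510 := d7_1 D64934 (iv6 D30510) D30507
theorem F100720 : act 5 n63747 = n64934 := d6_0 F100719 F48900 D63747
def n64935 : Q := act 0 n30508
theorem D64935 : act 0 n30508 = n64935 := rfl
theorem F100721 : act 1 n30513 = n64935 := d15_0 (iv0 D64935) F99748 (iv2 F99759)
def n64936 : Q := act 1 n30508
theorem D64936 : act 1 n30508 = n64936 := rfl
theorem F100722 : act 1 n64936 = n30513 := d15_1 D64936 (iv7 F99790) (iv2 F99791)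
def n64937 : Q := act 3 n30508
theorem D64937 : act 3 n30508 = n64937 := rfl
def n64938 : Q := act 5 n30508
theorem D64938 : act 5 n30508 = n64938 := rfl
def n64939 : Q := act 6 n30508
theorem D64939 : act 6 n30508 = n64939 := rfl
theorem F100723 : act 4 n64939 = n30510 := d10_1 D64939 (iv6 D30510) D30508
def n64940 : Q := act 0 n30509
theorem D64940 : act 0 n30509 = n64940 := rfl
theorem F100724 : act 5 n64940 = n63943 := d21_2 D30509 D64940 (iv6 D63943) (iv1 D30155) (iv6 D14312) (iv5 D6834) (iv1 F4821) (iv5 F4841) D6915 D14478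
theorem F100725 : act 6 n64940 = n53298 := d21_5 D30409 F99513 F99115 F97748 D64940 (iv5 F84139) (iv1 F53437) F48858 (iv6 F48531) (iv1 F48533)
theorem F100726 : act 2 n64136 = n64940 := d15_3 (iv0 D64940) (iv0 F48899) (iv7 F99826)
theorem F100727 : act 1 n30514 = n64940 := d15_0 (iv0 D64940) F99749 (iv2 F99754)
theorem F100728 : act 7 n64940 = n63943 := d15_2 F99758 F100727 (iv2 F99829)
def n64941 : Q := act 4 n30509
theorem D64941 : act 4 n30509 = n64941 := rfl
def n64942 : Q := act 0 n30512
theorem D64942 : act 0 n30512 = n64942 := rfl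
def n64943 : Q := act 1 n30512
theorem D64943 : act 1 n30512 = n64943 := rfl
def n64944 : Q := act 2 n30512
theorem D64944 : act 2 n30512 = n64944 := rfl
def n64945 : Q := act 4 n30512
theorem D64945 : act 4 n30512 = n64945 := rfl
def n64946 : Q := act 5 n30512
theorem D64946 : act 5 n30512 = n64946 := rfl
theorem F100729 : act 3 n64946 = n30514 := d6_1 D64946 (iv5 D30514) D30512
theorem F100730 : act 6 n64320 = n64946 := d7_0 F100729 (iv6 F48905) D64320
def n64947 : Q := act 6 n30512
theorem D64947 : act 6 n30512 = n64947 := rfl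
theorem F100731 : act 3 n64947 = n30515 := d7_1 D64947 (iv6 D30515) D30512
theorem F100732 : act 5 n50620 = n64947 := d6_0 F100731 F48906 D50620
def n64948 : Q := act 3 n30513
theorem D64948 : act 3 n30513 = n64948 := rfl
def n64949 : Q := act 5 n30513
theorem D64949 : act 5 n30513 = n64949 := rfl
def n64950 : Q := act 6 n30513
theorem D64950 : act 6 n30513 = n64950 := rfl
theorem F100733 : act 4 n64950 = n30515 := d10_1 D64950 (iv6 D30515) D30513
def n64951 : Q := act 4 n30514
theorem D64951 : act 4 n30514 = n64951 := rfl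
theorem F100734 : act 6 n64951 = n64321 := d10_2 F48905 D64951 (iv4 D64321)
def n64952 : Q := act 3 n30516
theorem D64952 : act 3 n30516 = n64952 := rfl
theorem F100735 : act 4 n64952 = n61243 := d5_2 D30516 D64952 (iv3 D61243) (iv4 D28994) F24120
def n64953 : Q := act 5 n30516
theorem D64953 : act 5 n30516 = n64953 := rfl
theorem F100737 : act 4 n64953 = n63103 := d16_2 D30516 D64953 F98402 (iv4 D61347) F46685 F38349 F24123 F24122 F24119
theorem F100738 : act 0 n64953 = n51272 := d17_2 F98220 D64953 (iv5 D51272) F39079 F38964 (iv0 F38443) D31404 F49668 D62953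
theorem F100739 : act 1 n64953 = n51275 := d17_6 (iv1 F19249) F11938 D12278 (iv5 F24117) D30516 D64953 (iv5 D51275) F39127 F39126
def n64954 : Q := act 6 n30516
theorem D64954 : act 6 n30516 = n64954 := rfl
theorem F100740 : act 2 n64954 = n63432 := d3_1 D64954 F98760 (iv2 F48907)
theorem F100741 : act 4 n64954 = n30517 := d10_1 D64954 (iv6 D30517) D30516
def n64955 : Q := act 0 n30517
theorem D64955 : act 0 n30517 = n64955 := rfl
theorem F100742 : act 1 n63433 = n64955 := d15_0 (iv0 D64955) (iv7 F84370) (iv2 F98761)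
def n64956 : Q := act 1 n30517
theorem D64956 : act 1 n30517 = n64956 := rfl
theorem F100743 : act 1 n64956 = n63433 := d15_1 D64956 (iv7 D63433) (iv2 F48908)
theorem F100744 : act 5 n63475 = n64956 := d21_6 F47410 (iv1 F39108) F19259 D14237 D29981 D63475 (iv1 D64956) F48910 (iv6 D29922) (iv1 F47412)
theorem F100745 : act 6 n64956 = n30676 := d12_2 D63475 F100744 (iv5 F79712) (iv6 D50337) (iv5 F81134)
theorem F100746 : act 7 n64956 = n63430 := d13_2 (iv7 F98807) F100744 F98756
theorem F100747 : act 2 n63430 = n64955 := d15_3 (iv0 D64955) D64956 F100746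
theorem F100748 : act 2 n64956 = n63431 := d15_3 F98759 (iv0 F98758) (iv7 F100746)
theorem F100749 : act 6 n63431 = n50279 := d3_2 (iv6 F100745) F100748 (iv2 F81226)
theorem F100750 : act 7 n63431 = n64955 := d4_2 (iv7 F100746) F100748 (iv2 F100747)
def n64957 : Q := act 3 n30518
theorem D64957 : act 3 n30518 = n64957 := rfl
theorem F100751 : act 7 n64957 = n63434 := d8_2 (iv7 F48911) D64957 (iv3 D63434)
def n64958 : Q := act 5 n30518
theorem D64958 : act 5 n30518 = n64958 := rfl
theorem F100752 : act 4 n64958 = n62523 := d9_1 D64958 (iv5 D62523) (iv4 D29547) F23416 (iv4 F20348) (iv5 F24117) D30516 D64953 F100737 F98402 (iv4 D61347) F46685 F38349 F24123 D30518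
theorem F100754 : act 0 n64958 = n51275 := d17_2 F78600 D64958 (iv5 D51275) F39123 (iv5 F38967) F79334 F79332 (iv0 D49733) D49734
theorem F100755 : act 1 n64958 = n51272 := d17_6 D11834 (iv5 F37753) (iv1 F37755) F24123 D30518 D64958 (iv5 D51272) (iv0 D24930) (iv4 D11835)
theorem F100756 : act 0 n53470 = n51112 := d21_4 D51272 (iv1 F100755) (iv5 D64958) (iv6 F84372) (iv6 D51112) D51111 F80630 (iv5 D29774) F23633 D24930
def n64959 : Q := act 3 n30519
theorem D64959 : act 3 n30519 = n64959 := rfl
def n64960 : Q := act 5 n30519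
theorem D64960 : act 5 n30519 = n64960 := rfl
theorem F100757 : act 4 n64960 = n63000 := d16_2 (iv4 F48912) D64960 (iv5 D63000) F47968 F46943 F40224 F47955 (iv7 F49666) F49664
def n64961 : Q := act 6 n30519
theorem D64961 : act 6 n30519 = n64961 := rfl
theorem F100760 : act 4 n64961 = n62984 := d10_1 D64961 (iv6 D62984) (iv4 F48912)
def n64962 : Q := act 3 n30520
theorem D64962 : act 3 n30520 = n64962 := rfl
def n64963 : Q := act 5 n30520
theorem D64963 : act 5 n30520 = n64963 := rfl
theorem F100761 : act 4 n64963 = n62997 := d9_1 D64963 (iv5 D62997) F47965 F46937 (iv4 F38327) (iv5 F47952) (iv4 F48912) D64960 F100757 (iv5 D63000) F47968 F46943 F40224 F47955 (iv4 F48915)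
theorem F100762 : act 0 n64963 = n34173 := d17_2 (iv1 F48914) D64963 (iv5 D34173) (iv4 D16543) F11938 D12279 F24123 F24121 D24940
theorem F100763 : act 1 n64963 = n51266 := d17_6 D51074 F80545 (iv1 F79328) F47955 (iv4 F48915) D64963 (iv5 D51266) F53724 F53723
def n64964 : Q := act 0 n30521
theorem D64964 : act 0 n30521 = n64964 := rfl
def n64965 : Q := act 1 n30521
theorem D64965 : act 1 n30521 = n64965 := rfl
def n64966 : Q := act 2 n30521
theorem D64966 : act 2 n30521 = n64966 := rfl
theorem F100764 : act 4 n64966 = n30532 := d1_2 (iv4 F48916) D64966 (iv2 D30532)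
def n64967 : Q := act 5 n30521
theorem D64967 : act 5 n30521 = n64967 := rfl
theorem F100765 : act 3 n64967 = n30522 := d6_1 D64967 (iv5 D30522) D30521
def n64968 : Q := act 6 n30521
theorem D64968 : act 6 n30521 = n64968 := rfl
theorem F100766 : act 3 n64968 = n30523 := d7_1 D64968 (iv6 D30523) D30521
theorem F100767 : act 4 n64968 = n30534 := d10_1 D64968 (iv6 D30534) (iv4 F48916)
def n64969 : Q := act 0 n30522
theorem D64969 : act 0 n30522 = n64969 := rfl
theorem F100768 : act 5 n64969 = n30565 := d17_1 D64969 (iv1 F48987) D51298 (iv4 F96502) (iv5 D61902) F46991 D29788 D62975 F98270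
theorem F100769 : act 4 n64969 = n51086 := d18_1 D64969 F80578 F80890 F80889 (iv4 D29815) F47953 (iv4 F48912) (iv0 D30519) D30522
theorem F100770 : act 1 n51295 = n64969 := d15_0 (iv0 D64969) (iv7 F53590) (iv2 F80912)
def n64970 : Q := act 6 n30522
theorem D64970 : act 6 n30522 = n64970 := rfl
def n64971 : Q := act 0 n30523
theorem D64971 : act 0 n30523 = n64971 := rfl
def n64972 : Q := act 1 n30523
theorem D64972 : act 1 n30523 = n64972 := rfl
def n64973 : Q := act 5 n30523
theorem D64973 : act 5 n30523 = n64973 := rfl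
def n64974 : Q := act 7 n30523
theorem D64974 : act 7 n30523 = n64974 := rfl
theorem F100771 : act 4 n64974 = n30526 := d11_1 D64974 (iv7 D30526) (iv4 F48917)
def n64975 : Q := act 2 n30524
theorem D64975 : act 2 n30524 = n64975 := rfl
theorem F100772 : act 6 n64975 = n30701 := d3_2 (iv6 F49145) D64975 (iv2 D30701)
theorem F100773 : act 7 n30525 = n64975 := d15_2 (iv0 D30524) D30525 (iv2 D64975)
def n64976 : Q := act 3 n30524
theorem D64976 : act 3 n30524 = n64976 := rfl
theorem F100774 : act 6 n64976 = n30702 := d7_2 (iv6 F49145) D64976 (iv3 D30702)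
def n64977 : Q := act 4 n30524
theorem D64977 : act 4 n30524 = n64977 := rfl
theorem F100775 : act 6 n64977 = n30703 := d10_2 (iv6 F49145) D64977 (iv4 D30703)
def n64978 : Q := act 7 n30524
theorem D64978 : act 7 n30524 = n64978 := rfl
theorem F100776 : act 2 n64978 = n30525 := d4_1 D64978 F100773 (iv2 D64975)
def n64979 : Q := act 3 n30525
theorem D64979 : act 3 n30525 = n64979 := rfl
def n64980 : Q := act 4 n30525
theorem D64980 : act 4 n30525 = n64980 := rfl
def n64981 : Q := act 6 n30525
theorem D64981 : act 6 n30525 = n64981 := rfl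
theorem F100777 : act 5 n64981 = n30709 := d12_1 D64981 (iv6 D30709) D30708 (iv6 F79260) F79261
theorem F100778 : act 7 n64981 = n30709 := d14_2 (iv7 F100773) D64981 (iv6 D30709) F49143 (iv6 F100772)
def n64982 : Q := act 0 n30527
theorem D64982 : act 0 n30527 = n64982 := rfl
theorem F100779 : act 1 n62689 = n64982 := d15_0 (iv0 D64982) F48920 D62689
def n64983 : Q := act 1 n30527
theorem D64983 : act 1 n30527 = n64983 := rfl
def n64984 : Q := act 2 n30527
theorem D64984 : act 2 n30527 = n64984 := rfl
theorem F100780 : act 7 n64984 = n62689 := d4_2 (iv7 F48920) D64984 (iv2 D62689)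
theorem F100781 : act 1 n64984 = n62687 := d15_0 (iv0 D62687) (iv7 F48920) D64984
theorem F100782 : act 1 n64983 = n62689 := d15_1 D64983 (iv7 F100780) (iv2 D64984)
theorem F100783 : act 1 n62688 = n64984 := d15_1 D62688 F100780 (iv2 D62689)
def n64985 : Q := act 0 n30528
theorem D64985 : act 0 n30528 = n64985 := rfl
def n64986 : Q := act 1 n30528
theorem D64986 : act 1 n30528 = n64986 := rfl
def n64987 : Q := act 2 n30528
theorem D64987 : act 2 n30528 = n64987 := rfl
theorem F100785 : act 7 n64987 = n60895 := d4_2 (iv7 F48921) D64987 (iv2 D60895)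
theorem F100786 : act 1 n64987 = n60893 := d15_0 (iv0 D60893) (iv7 F48921) D64987
theorem F100787 : act 1 n64986 = n60895 := d15_1 D64986 (iv7 F100785) (iv2 D64987)
def n64988 : Q := act 4 n30528
theorem D64988 : act 4 n30528 = n64988 := rfl
theorem F100789 : act 3 n64988 = n31513 := d5_1 D64988 (iv4 D31513) F24507 (iv4 F24131) D30528
theorem F100790 : act 7 n64988 = n60852 := d11_2 (iv7 F48921) D64988 F95408
def n64989 : Q := act 5 n30528
theorem D64989 : act 5 n30528 = n64989 := rfl
theorem F100791 : act 3 n64989 = n30529 := d6_1 D64989 (iv5 D30529) D30528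
theorem F100792 : act 7 n64989 = n60896 := d13_2 (iv7 F48921) D64989 (iv5 D60896)
def n64990 : Q := act 6 n30529
theorem D64990 : act 6 n30529 = n64990 := rfl
theorem F100793 : act 2 n64990 = n62822 := d3_1 D64990 (iv6 D62822) (iv2 F48922)
theorem F100794 : act 4 n64990 = n31708 := d10_1 D64990 (iv6 D31708) (iv4 F48923)
def n64991 : Q := act 2 n30530
theorem D64991 : act 2 n30530 = n64991 := rfl
theorem F100795 : act 7 n30531 = n64991 := d15_2 (iv0 D30530) D30531 (iv2 D64991)
def n64992 : Q := act 3 n30530
theorem D64992 : act 3 n30530 = n64992 := rfl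
def n64993 : Q := act 4 n30530
theorem D64993 : act 4 n30530 = n64993 := rfl
def n64994 : Q := act 5 n30530
theorem D64994 : act 5 n30530 = n64994 := rfl
def n64995 : Q := act 6 n30530
theorem D64995 : act 6 n30530 = n64995 := rfl
def n64996 : Q := act 7 n30530
theorem D64996 : act 7 n30530 = n64996 := rfl
theorem F100796 : act 2 n64996 = n30531 := d4_1 D64996 F100795 (iv2 D64991)
def n64997 : Q := act 3 n30531
theorem D64997 : act 3 n30531 = n64997 := rfl
def n64998 : Q := act 4 n30531
theorem D64998 : act 4 n30531 = n64998 := rfl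
def n64999 : Q := act 5 n30531
theorem D64999 : act 5 n30531 = n64999 := rfl
def n65000 : Q := act 6 n30531
theorem D65000 : act 6 n30531 = n65000 := rfl
def n65001 : Q := act 5 n30532
theorem D65001 : act 5 n30532 = n65001 := rfl
theorem F100797 : act 2 n65001 = n30533 := d2_1 D65001 (iv5 D30533) D30532
def n65002 : Q := act 6 n30532
theorem D65002 : act 6 n30532 = n65002 := rfl
theorem F100798 : act 2 n65002 = n30534 := d3_1 D65002 (iv6 D30534) D30532
def n65003 : Q := act 0 n30533
theorem D65003 : act 0 n30533 = n65003 := rfl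
theorem F100799 : act 3 n65003 = n62884 := d20_5 (iv4 F12033) (iv1 F18699) (iv4 F24132) (iv3 F48935) D65003 (iv4 D62884) (iv1 D29755) (iv4 F47805) (iv3 D29733) F26540
def n65004 : Q := act 1 n30533
theorem D65004 : act 1 n30533 = n65004 := rfl
def n65005 : Q := act 4 n30533
theorem D65005 : act 4 n30533 = n65005 := rfl
theorem F100800 : act 3 n65005 = n49817 := d5_1 D65005 (iv4 D49817) F38072 (iv4 F24132) (iv3 F48935)
def n65006 : Q := act 6 n30533
theorem D65006 : act 6 n30533 = n65006 := rfl
theorem F100801 : act 3 n65006 = n30535 := d7_1 D65006 (iv6 D30535) (iv3 F48935)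
def n65007 : Q := act 0 n30534
theorem D65007 : act 0 n30534 = n65007 := rfl
def n65008 : Q := act 1 n30534
theorem D65008 : act 1 n30534 = n65008 := rfl
def n65009 : Q := act 5 n30534
theorem D65009 : act 5 n30534 = n65009 := rfl
def n65010 : Q := act 7 n30534
theorem D65010 : act 7 n30534 = n65010 := rfl
theorem F100803 : act 3 n65010 = n30539 := d8_1 D65010 (iv7 D30539) (iv3 F48936)
def n65011 : Q := act 0 n30535
theorem D65011 : act 0 n30535 = n65011 := rfl
def n65012 : Q := act 1 n30535
theorem D65012 : act 1 n30535 = n65012 := rfl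
def n65013 : Q := act 5 n30535
theorem D65013 : act 5 n30535 = n65013 := rfl
theorem F100804 : act 6 n65013 = n30538 := d12_2 D30535 D65013 (iv5 D30538) (iv6 D14488) D14487
def n65014 : Q := act 7 n30535
theorem D65014 : act 7 n30535 = n65014 := rfl
theorem F100805 : act 4 n65014 = n49821 := d11_1 D65014 (iv7 D49821) (iv4 F48937)
def n65015 : Q := act 3 n30536
theorem D65015 : act 3 n30536 = n65015 := rfl
def n65016 : Q := act 3 n30537
theorem D65016 : act 3 n30537 = n65016 := rfl
def n65017 : Q := act 6 n30537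
theorem D65017 : act 6 n30537 = n65017 := rfl
theorem F100807 : act 4 n65017 = n34252 := d10_1 D65017 (iv6 D34252) (iv4 F53666)
theorem F100808 : act 7 n65017 = n30798 := d14_2 F53675 D65017 (iv6 D30798) F53679 D31490
theorem F100809 : act 0 n53835 = n65017 := d18_2 F41129 D53835 F100807 F53899 (iv4 F53685) F94134 (iv4 D31344) F49589 F49586
theorem F100810 : act 1 n53843 = n65017 := d15_0 (iv0 F100809) F84863 (iv2 F84877)
theorem F100811 : act 1 n31501 = n53843 := d15_0 F100810 F100808 (iv2 F53690)
theorem E8980 : n30978 = n26026 := (c18_3 (iv1 F37158) (iv4 F38056) (iv1 F49409) (iv4 D26026) D26027 D53843 F100810 F100807 (iv0 F53902) F49799)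
theorem E8981 : n53831 = n14661 := (((iv1 F84856)).symm.trans (sb E8980 (iv1 D30978)))
theorem E8982 : n53830 = n24282 := ((F84855).symm.trans (sb E8980 F49409))
theorem E8983 : n30977 = n26022 := ((D30977).symm.trans (sb E8981 (iv1 D53831)))
theorem F100812 : act 1 n14661 = n26026 := (sb E8981 F84856)
theorem F100813 : act 0 n24282 = n26026 := (sb E8982 (iv1 F84855))
theorem F100814 : act 0 n26022 = n24282 := (sb E8983 (iv1 F49408))
theorem F100815 : act 1 n26022 = n14661 := (sb E8983 (iv0 D30977))
theorem F100816 : act 0 n31501 = n53835 := d18_2 F49716 (iv4 F49798) (iv4 D53835) (iv5 D26023) D26022 F100815 F24347 D23831 (iv5 F49714)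
def n65023 : Q := act 4 n30541
theorem D65023 : act 4 n30541 = n65023 := rfl
theorem F100821 : act 6 n65023 = n30806 := d10_2 (iv6 F48941) D65023 (iv4 D30806)
def n65024 : Q := act 3 n30542
theorem D65024 : act 3 n30542 = n65024 := rfl
def n65029 : Q := act 6 n30544
theorem D65029 : act 6 n30544 = n65029 := rfl
theorem F100824 : act 3 n65029 = n30546 := d7_1 D65029 (iv6 D30546) D30544
theorem F100825 : act 5 n65029 = n30815 := d12_1 D65029 (iv6 D30815) F24246 (iv6 F48941) (iv5 F48945)
def n65030 : Q := act 3 n30545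
theorem D65030 : act 3 n30545 = n65030 := rfl
def n65031 : Q := act 6 n30545
theorem D65031 : act 6 n30545 = n65031 := rfl
theorem F100827 : act 4 n65031 = n30546 := d10_1 D65031 (iv6 D30546) D30545
theorem F100828 : act 7 n65031 = n30818 := d14_2 F53557 D65031 (iv6 D30818) F48960 (iv6 F53556)
theorem F100829 : act 0 n65031 = n59802 := d21_10 F94144 (iv1 D53822) (iv5 D26020) (iv6 D12332) (iv1 F9012) D7025 D14735 D31200 F53806 D65031
theorem F100830 : act 1 n53446 = n59802 := d15_0 (iv0 F100829) F100828 (iv2 F84325)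
def n65032 : Q := act 3 n30547
theorem D65032 : act 3 n30547 = n65032 := rfl
def n65033 : Q := act 5 n30547
theorem D65033 : act 5 n30547 = n65033 := rfl
theorem F100831 : act 4 n65033 = n63444 := d9_1 D65033 F98783 (iv4 D63032) (iv5 D29817) F23690 D14173 D29825 D63049 (iv4 F98774) F98773 (iv4 D62026) F47047 F38761 F24201 D30547
theorem F100832 : act 0 n65033 = n50128 := d17_2 F48966 D65033 (iv5 D50128) F38359 F38167 (iv0 F38726) F48118 F48117 D29938
theorem F100833 : act 1 n65033 = n50125 := d17_6 (iv1 F19432) F11932 (iv1 F24180) F24201 D30547 D65033 (iv5 D50125) (iv0 D24448) (iv4 D11549)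
def n65034 : Q := act 3 n30548
theorem D65034 : act 3 n30548 = n65034 := rfl
def n65035 : Q := act 5 n30548
theorem D65035 : act 5 n30548 = n65035 := rfl
theorem F100834 : act 4 n65035 = n61332 := d16_2 F78949 D65035 (iv5 D61332) (iv4 D29033) F23076 (iv4 F26139) D34130 F53569 F78951
theorem F100835 : act 0 n65035 = n50119 := d17_2 D30548 D65035 (iv5 D50119) (iv4 D24446) (iv5 F19424) D14538 F24201 (iv0 D14492) D14493
theorem F100836 : act 1 n65035 = n34149 := d17_6 D14220 (iv5 F38994) (iv1 F80261) F80258 F78949 D65035 (iv5 D34149) (iv0 F26167) (iv4 D14222)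
def n65036 : Q := act 6 n30548
theorem D65036 : act 6 n30548 = n65036 := rfl
theorem F100837 : act 2 n65036 = n30875 := d3_1 D65036 F93315 F53575
theorem F100838 : act 4 n65036 = n50262 := d10_1 D65036 (iv6 F80263) F78949
theorem F100839 : act 0 n65036 = n30830 := d21_4 D34149 (iv1 F100836) (iv5 D65035) D65036 (iv6 D30830) D30829 (iv1 F84244) F84246 F40974 F26167
theorem F100840 : act 1 n65036 = n30877 := d15_1 (iv0 F100839) (iv7 D30877) (iv2 F49262)
theorem E8984 : n50356 = n50311 := ((c18_2 (iv1 F79484) D50311 (iv1 D50356) (iv4 F79730) F79731 (iv4 F100838) F100840 F49328 F49265 (iv5 F79481))).symm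
theorem F100841 : act 0 n50311 = n24553 := (sb E8984 (iv1 D50356))
def n65037 : Q := act 3 n30549
theorem D65037 : act 3 n30549 = n65037 := rfl
theorem F100842 : act 4 n65037 = n61253 := d5_2 F53572 D65037 (iv3 D61253) F46630 (iv3 F53568)
def n65038 : Q := act 5 n30549
theorem D65038 : act 5 n30549 = n65038 := rfl
theorem F100843 : act 4 n65038 = n63484 := d9_1 D65038 F98813 F95122 F47410 (iv4 F80257) F80258 F78949 D65035 F100834 (iv5 D61332) (iv4 D29033) F23076 (iv4 F26139) D34130 F53572
theorem F100844 : act 0 n65038 = n34149 := d17_2 (iv1 F48968) D65038 (iv5 D34149) (iv4 D16535) F11932 (iv0 F23682) D14173 (iv0 F23691) D24420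
theorem F100845 : act 1 n65038 = n50119 := d17_6 (iv1 F48073) (iv5 F38943) (iv1 F38946) D34130 F53572 D65038 (iv5 D50119) F53628 F53626
def n65039 : Q := act 6 n30549
theorem D65039 : act 6 n30549 = n65039 := rfl
def n65040 : Q := act 0 n30550
theorem D65040 : act 0 n30550 = n65040 := rfl
def n65041 : Q := act 1 n30550
theorem D65041 : act 1 n30550 = n65041 := rfl
def n65042 : Q := act 2 n30550
theorem D65042 : act 2 n30550 = n65042 := rfl
theorem F100846 : act 4 n65042 = n30557 := d1_2 (iv4 F48969) D65042 (iv2 D30557)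
def n65043 : Q := act 5 n30550
theorem D65043 : act 5 n30550 = n65043 := rfl
theorem F100847 : act 3 n65043 = n30551 := d6_1 D65043 (iv5 D30551) D30550
def n65044 : Q := act 6 n30550
theorem D65044 : act 6 n30550 = n65044 := rfl
theorem F100848 : act 3 n65044 = n30552 := d7_1 D65044 (iv6 D30552) D30550
theorem F100849 : act 4 n65044 = n30559 := d10_1 D65044 (iv6 D30559) (iv4 F48969)
def n65045 : Q := act 6 n30551
theorem D65045 : act 6 n30551 = n65045 := rfl
def n65046 : Q := act 0 n30552
theorem D65046 : act 0 n30552 = n65046 := rfl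
def n65047 : Q := act 5 n30552
theorem D65047 : act 5 n30552 = n65047 := rfl
def n65048 : Q := act 7 n30552
theorem D65048 : act 7 n30552 = n65048 := rfl
theorem F100850 : act 4 n65048 = n30554 := d11_1 D65048 (iv7 D30554) (iv4 F48970)
theorem F100851 : act 1 n30861 = n65048 := d15_1 (iv0 F79357) (iv7 D65048) (iv2 F79355)
theorem E8985 : n63487 = n63456 := ((c18_2 (iv1 F98608) D63456 (iv1 D63487) (iv4 F79250) (iv5 F98673) F98672 F100851 F100850 F79365 (iv5 F98606))).symm
theorem F100852 : act 0 n63456 = n29986 := (sb E8985 (iv1 D63487))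
def n65049 : Q := act 4 n30553
theorem D65049 : act 4 n30553 = n65049 := rfl
theorem F100853 : act 7 n65049 = n30850 := d11_2 (iv7 F79364) D65049 F49312
def n65050 : Q := act 2 n30555
theorem D65050 : act 2 n30555 = n65050 := rfl
theorem F100854 : act 7 n30556 = n65050 := d15_2 (iv0 D30555) D30556 (iv2 D65050)
def n65051 : Q := act 3 n30555
theorem D65051 : act 3 n30555 = n65051 := rfl
def n65052 : Q := act 4 n30555
theorem D65052 : act 4 n30555 = n65052 := rfl
def n65053 : Q := act 5 n30555
theorem D65053 : act 5 n30555 = n65053 := rfl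
def n65054 : Q := act 6 n30555
theorem D65054 : act 6 n30555 = n65054 := rfl
def n65055 : Q := act 7 n30555
theorem D65055 : act 7 n30555 = n65055 := rfl
theorem F100855 : act 2 n65055 = n30556 := d4_1 D65055 F100854 (iv2 D65050)
def n65056 : Q := act 3 n30556
theorem D65056 : act 3 n30556 = n65056 := rfl
def n65057 : Q := act 4 n30556
theorem D65057 : act 4 n30556 = n65057 := rfl
def n65058 : Q := act 5 n30556
theorem D65058 : act 5 n30556 = n65058 := rfl
def n65059 : Q := act 6 n30556
theorem D65059 : act 6 n30556 = n65059 := rfl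
def n65060 : Q := act 5 n30557
theorem D65060 : act 5 n30557 = n65060 := rfl
theorem F100856 : act 2 n65060 = n30558 := d2_1 D65060 (iv5 D30558) D30557
def n65061 : Q := act 6 n30557
theorem D65061 : act 6 n30557 = n65061 := rfl
theorem F100857 : act 2 n65061 = n30559 := d3_1 D65061 (iv6 D30559) D30557
def n65062 : Q := act 0 n30558
theorem D65062 : act 0 n30558 = n65062 := rfl
def n65063 : Q := act 1 n30558
theorem D65063 : act 1 n30558 = n65063 := rfl
def n65064 : Q := act 4 n30558
theorem D65064 : act 4 n30558 = n65064 := rfl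
theorem F100858 : act 3 n65064 = n49811 := d5_1 D65064 (iv4 D49811) F38063 (iv4 F24141) (iv3 F48973)
def n65066 : Q := act 0 n30559
theorem D65066 : act 0 n30559 = n65066 := rfl
def n65067 : Q := act 1 n30559
theorem D65067 : act 1 n30559 = n65067 := rfl
def n65068 : Q := act 5 n30559
theorem D65068 : act 5 n30559 = n65068 := rfl
theorem F100860 : act 3 n65068 = n30562 := d6_1 D65068 (iv5 D30562) (iv3 F48974)
def n65069 : Q := act 7 n30559
theorem D65069 : act 7 n30559 = n65069 := rfl
theorem F100861 : act 3 n65069 = n30563 := d8_1 D65069 (iv7 D30563) (iv3 F48974)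
def n65071 : Q := act 1 n30560
theorem D65071 : act 1 n30560 = n65071 := rfl
def n65072 : Q := act 5 n30560
theorem D65072 : act 5 n30560 = n65072 := rfl
theorem F100862 : act 6 n65072 = n30562 := d12_2 D30560 D65072 (iv5 D30562) (iv6 D14498) D14497
def n65073 : Q := act 7 n30560
theorem D65073 : act 7 n30560 = n65073 := rfl
theorem F100863 : act 4 n65073 = n49815 := d11_1 D65073 (iv7 D49815) (iv4 F48975)
def n65074 : Q := act 3 n30561
theorem D65074 : act 3 n30561 = n65074 := rfl
theorem F100864 : act 7 n65074 = n30762 := d8_2 (iv7 F49757) D65074 F49217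
def n65075 : Q := act 5 n30561
theorem D65075 : act 5 n30561 = n65075 := rfl
theorem F100865 : act 7 n65075 = n30764 := d13_2 (iv7 F49757) D65075 (iv5 D30764)
def n65076 : Q := act 0 n30562
theorem D65076 : act 0 n30562 = n65076 := rfl
theorem F100866 : act 5 n65076 = n31015 := d17_3 F24484 D30562 D65076 F49435 (iv5 F46460) (iv0 D28822) F22987 (iv0 F11984) (iv4 F24483)
def n65077 : Q := act 1 n30562
theorem D65077 : act 1 n30562 = n65077 := rfl
def n65078 : Q := act 4 n30562
theorem D65078 : act 4 n30562 = n65078 := rfl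
def n65079 : Q := act 7 n30562
theorem D65079 : act 7 n30562 = n65079 := rfl
theorem F100867 : act 5 n65079 = n30563 := d13_1 D65079 (iv7 D30563) D30562
def n65080 : Q := act 3 n30564
theorem D65080 : act 3 n30564 = n65080 := rfl
theorem F100868 : act 7 n65080 = n30743 := d8_2 (iv7 F48985) D65080 F49201
def n65081 : Q := act 5 n30564
theorem D65081 : act 5 n30564 = n65081 := rfl
theorem F100869 : act 7 n65081 = n30746 := d13_2 (iv7 F48985) D65081 (iv5 D30746)
def n65082 : Q := act 3 n30565
theorem D65082 : act 3 n30565 = n65082 := rfl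
def n65083 : Q := act 6 n30565
theorem D65083 : act 6 n30565 = n65083 := rfl
theorem F100870 : act 4 n65083 = n62983 := d10_1 D65083 (iv6 D62983) (iv4 F48986)
theorem F100871 : act 7 n65083 = n30948 := d14_2 (iv7 F53727) D65083 (iv6 D30948) (iv7 F38963) F53726
def n65084 : Q := act 0 n30566
theorem D65084 : act 0 n30566 = n65084 := rfl
def n65085 : Q := act 1 n30566
theorem D65085 : act 1 n30566 = n65085 := rfl
def n65086 : Q := act 2 n30566
theorem D65086 : act 2 n30566 = n65086 := rfl
theorem F100872 : act 4 n65086 = n30574 := d1_2 (iv4 F48988) D65086 (iv2 D30574)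
def n65087 : Q := act 5 n30566
theorem D65087 : act 5 n30566 = n65087 := rfl
theorem F100873 : act 3 n65087 = n30567 := d6_1 D65087 (iv5 D30567) D30566
def n65088 : Q := act 6 n30566
theorem D65088 : act 6 n30566 = n65088 := rfl
theorem F100874 : act 3 n65088 = n30568 := d7_1 D65088 (iv6 D30568) D30566
theorem F100875 : act 4 n65088 = n30576 := d10_1 D65088 (iv6 D30576) (iv4 F48988)
def n65089 : Q := act 0 n30567
theorem D65089 : act 0 n30567 = n65089 := rfl
theorem F100876 : act 5 n65089 = n34132 := d17_1 D65089 (iv1 F53581) D51260 F80851 F53565 F53564 D62991 F98299 F98259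
theorem F100877 : act 4 n65089 = n63060 := d18_1 D65089 (iv1 D63060) (iv4 F80881) (iv5 D51275) F39123 (iv0 F47950) (iv4 F48986) (iv0 D30565) D30567
theorem F100878 : act 1 n51298 = n65089 := d15_0 (iv0 D65089) (iv7 F53734) (iv2 F80919)
theorem F100879 : act 2 n64963 = n65089 := d1_3 F100877 (iv2 F98379) (iv4 F100761)
theorem F100880 : act 7 n64960 = n65089 := d11_0 F100877 F98377 (iv4 F100757)
def n65090 : Q := act 1 n30567
theorem D65090 : act 1 n30567 = n65090 := rfl
theorem F100881 : act 1 n65090 = n51298 := d15_1 D65090 F80920 F80867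
theorem F100882 : act 7 n65090 = n64963 := d15_2 (iv0 D65089) D65090 F100879
theorem F100883 : act 5 n65090 = n34133 := d17_7 (iv1 F23760) (iv5 D14232) F23756 F20353 D14501 D30567 D65090 F53582 (iv4 D24926)
theorem F100884 : act 4 n65090 = n63059 := d17_9 (iv1 F98373) (iv5 D29837) (iv1 F38931) D51086 (iv4 F100769) F100768 (iv0 D30565) D30567 D65090
def n65091 : Q := act 6 n30567
theorem D65091 : act 6 n30567 = n65091 := rfl
def n65092 : Q := act 0 n30568
theorem D65092 : act 0 n30568 = n65092 := rfl
def n65093 : Q := act 1 n30568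
theorem D65093 : act 1 n30568 = n65093 := rfl
def n65094 : Q := act 5 n30568
theorem D65094 : act 5 n30568 = n65094 := rfl
def n65095 : Q := act 7 n30568
theorem D65095 : act 7 n30568 = n65095 := rfl
theorem F100886 : act 4 n65095 = n30571 := d11_1 D65095 (iv7 D30571) (iv4 F48989)
def n65096 : Q := act 2 n30569
theorem D65096 : act 2 n30569 = n65096 := rfl
theorem F100887 : act 7 n30570 = n65096 := d15_2 (iv0 D30569) D30570 (iv2 D65096)
def n65097 : Q := act 3 n30569
theorem D65097 : act 3 n30569 = n65097 := rfl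
def n65098 : Q := act 4 n30569
theorem D65098 : act 4 n30569 = n65098 := rfl
def n65099 : Q := act 5 n30569
theorem D65099 : act 5 n30569 = n65099 := rfl
theorem F100888 : act 0 n51447 = n65099 := d21_1 F81223 (iv5 D65099) (iv6 F95819) (iv1 D53579) (iv6 D25947) F20430 F24202 D11603 (iv6 F38498) D50278
def n65100 : Q := act 7 n30569
theorem D65100 : act 7 n30569 = n65100 := rfl
theorem F100889 : act 2 n65100 = n30570 := d4_1 D65100 F100887 (iv2 D65096)
def n65101 : Q := act 3 n30570
theorem D65101 : act 3 n30570 = n65101 := rfl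
def n65102 : Q := act 4 n30570
theorem D65102 : act 4 n30570 = n65102 := rfl
def n65103 : Q := act 6 n30570
theorem D65103 : act 6 n30570 = n65103 := rfl
theorem F100890 : act 5 n65103 = n50204 := d12_1 D65103 F79768 (iv5 D50410) D50411 F79769
def n65104 : Q := act 2 n30572
theorem D65104 : act 2 n30572 = n65104 := rfl
theorem F100891 : act 7 n30573 = n65104 := d15_2 (iv0 D30572) D30573 (iv2 D65104)
def n65105 : Q := act 3 n30572
theorem D65105 : act 3 n30572 = n65105 := rfl
def n65106 : Q := act 4 n30572
theorem D65106 : act 4 n30572 = n65106 := rfl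
def n65107 : Q := act 5 n30572
theorem D65107 : act 5 n30572 = n65107 := rfl
def n65108 : Q := act 6 n30572
theorem D65108 : act 6 n30572 = n65108 := rfl
def n65109 : Q := act 7 n30572
theorem D65109 : act 7 n30572 = n65109 := rfl
def n65110 : Q := act 3 n30573
theorem D65110 : act 3 n30573 = n65110 := rfl
def n65111 : Q := act 4 n30573
theorem D65111 : act 4 n30573 = n65111 := rfl
def n65112 : Q := act 5 n30573
theorem D65112 : act 5 n30573 = n65112 := rfl
def n65113 : Q := act 6 n30573
theorem D65113 : act 6 n30573 = n65113 := rfl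
def n65114 : Q := act 5 n30574
theorem D65114 : act 5 n30574 = n65114 := rfl
theorem F100893 : act 2 n65114 = n30575 := d2_1 D65114 (iv5 D30575) D30574
def n65115 : Q := act 6 n30574
theorem D65115 : act 6 n30574 = n65115 := rfl
theorem F100894 : act 2 n65115 = n30576 := d3_1 D65115 (iv6 D30576) D30574
def n65116 : Q := act 0 n30575
theorem D65116 : act 0 n30575 = n65116 := rfl
def n65117 : Q := act 1 n30575
theorem D65117 : act 1 n30575 = n65117 := rfl
def n65118 : Q := act 4 n30575
theorem D65118 : act 4 n30575 = n65118 := rfl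
theorem F100895 : act 3 n65118 = n49824 := d5_1 D65118 (iv4 D49824) F38085 (iv4 F24149) (iv3 F48992)
def n65119 : Q := act 6 n30575
theorem D65119 : act 6 n30575 = n65119 := rfl
theorem F100896 : act 3 n65119 = n30577 := d7_1 D65119 (iv6 D30577) (iv3 F48992)
def n65120 : Q := act 0 n30576
theorem D65120 : act 0 n30576 = n65120 := rfl
def n65121 : Q := act 1 n30576
theorem D65121 : act 1 n30576 = n65121 := rfl
def n65122 : Q := act 5 n30576
theorem D65122 : act 5 n30576 = n65122 := rfl
theorem F100897 : act 3 n65122 = n30580 := d6_1 D65122 (iv5 D30580) (iv3 F48993)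
def n65123 : Q := act 7 n30576
theorem D65123 : act 7 n30576 = n65123 := rfl
def n65124 : Q := act 0 n30577
theorem D65124 : act 0 n30577 = n65124 := rfl
def n65125 : Q := act 1 n30577
theorem D65125 : act 1 n30577 = n65125 := rfl
def n65126 : Q := act 5 n30577
theorem D65126 : act 5 n30577 = n65126 := rfl
theorem F100899 : act 6 n65126 = n30580 := d12_2 D30577 D65126 (iv5 D30580) (iv6 D14505) D14504
def n65127 : Q := act 7 n30577
theorem D65127 : act 7 n30577 = n65127 := rfl
theorem F100900 : act 4 n65127 = n49828 := d11_1 D65127 (iv7 D49828) (iv4 F48994)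
def n65128 : Q := act 3 n30578
theorem D65128 : act 3 n30578 = n65128 := rfl
theorem F100901 : act 6 n65128 = n31101 := d7_2 (iv6 F53546) D65128 (iv3 D31101)
def n65129 : Q := act 5 n30578
theorem D65129 : act 5 n30578 = n65129 := rfl
def n65130 : Q := act 3 n30579
theorem D65130 : act 3 n30579 = n65130 := rfl
def n65131 : Q := act 5 n30579
theorem D65131 : act 5 n30579 = n65131 := rfl
def n65132 : Q := act 6 n30579
theorem D65132 : act 6 n30579 = n65132 := rfl
theorem F100902 : act 4 n65132 = n49783 := d10_1 D65132 (iv6 D49783) (iv4 F48995)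
theorem F100903 : act 7 n65132 = n31099 := d14_2 F78679 D65132 (iv6 D31099) (iv7 F78658) (iv6 F53669)
theorem F100904 : act 5 n30919 = n65132 := d21_2 D14636 D30919 (iv6 D65132) (iv1 D30579) (iv6 D14505) D14504 (iv1 F47792) F47789 (iv6 F47795) (iv1 D14635)
theorem F100905 : act 1 n65132 = n31343 := d17_8 (iv1 F49008) F49005 F39347 F39343 (iv4 F40954) (iv5 F84404) F84407 F100904 F49595
theorem F100906 : act 1 n50655 = n65132 := d15_0 F100905 (iv7 F81708) F81707
def n65133 : Q := act 1 n30580
theorem D65133 : act 1 n30580 = n65133 := rfl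
theorem F100907 : act 7 n65133 = n31423 := d15_2 F49213 D65133 F49707
theorem F100908 : act 5 n65133 = n31424 := d17_7 F38643 F38639 (iv1 F19617) F19615 (iv4 F24150) D30580 D65133 F49712 (iv4 D30736)
def n65134 : Q := act 4 n30580
theorem D65134 : act 4 n30580 = n65134 := rfl
def n65135 : Q := act 7 n30580
theorem D65135 : act 7 n30580 = n65135 := rfl
theorem F100909 : act 5 n65135 = n30581 := d13_1 D65135 (iv7 D30581) D30580
theorem F100910 : act 0 n31423 = n65135 := d17_2 (iv1 D31422) D31423 F100909 F48996 F24152 (iv0 D11667) D11668 D24641 (iv4 F49699)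
def n65136 : Q := act 0 n30583
theorem D65136 : act 0 n30583 = n65136 := rfl
def n65137 : Q := act 1 n30583
theorem D65137 : act 1 n30583 = n65137 := rfl
def n65138 : Q := act 2 n30583
theorem D65138 : act 2 n30583 = n65138 := rfl
theorem F100911 : act 6 n65138 = n31121 := d3_2 (iv6 F48999) D65138 (iv2 D31121)
def n65139 : Q := act 4 n30583
theorem D65139 : act 4 n30583 = n65139 := rfl
theorem F100912 : act 6 n65139 = n31122 := d10_2 (iv6 F48999) D65139 (iv4 D31122)
def n65140 : Q := act 5 n30583
theorem D65140 : act 5 n30583 = n65140 := rfl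
theorem F100913 : act 3 n65140 = n30585 := d6_1 D65140 (iv5 D30585) D30583
theorem F100914 : act 7 n65140 = n51914 := d13_2 F53712 D65140 (iv5 F81948)
def n65141 : Q := act 3 n30584
theorem D65141 : act 3 n30584 = n65141 := rfl
theorem F100915 : act 6 n65141 = n31123 := d7_2 (iv6 F49000) D65141 (iv3 D31123)
def n65142 : Q := act 5 n30584
theorem D65142 : act 5 n30584 = n65142 := rfl
def n65143 : Q := act 4 n30585
theorem D65143 : act 4 n30585 = n65143 := rfl
theorem F100917 : act 0 n65143 = n51802 := d17_0 F81798 (iv1 D50578) (iv5 D24636) F19004 D11668 D24641 (iv5 F39584) (iv0 F49001) D65143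
def n65146 : Q := act 2 n30587
theorem D65146 : act 2 n30587 = n65146 := rfl
def n65147 : Q := act 4 n30587
theorem D65147 : act 4 n30587 = n65147 := rfl
def n65148 : Q := act 6 n30587
theorem D65148 : act 6 n30587 = n65148 := rfl
theorem F100919 : act 3 n65148 = n30589 := d7_1 D65148 (iv6 D30589) D30587
theorem F100921 : act 7 n65148 = n31113 := d14_2 F53701 D65148 (iv6 D31113) (iv7 F49033) (iv6 F53700)
def n65149 : Q := act 3 n30588
theorem D65149 : act 3 n30588 = n65149 := rfl
def n65150 : Q := act 5 n30588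
theorem D65150 : act 5 n30588 = n65150 := rfl
def n65151 : Q := act 6 n30588
theorem D65151 : act 6 n30588 = n65151 := rfl
theorem F100922 : act 4 n65151 = n30589 := d10_1 D65151 (iv6 D30589) D30588
theorem F100923 : act 7 n65151 = n31118 := d14_2 F53704 D65151 (iv6 D31118) F49035 (iv6 F53703)
theorem F100924 : act 5 n31763 = n65151 := d21_2 D14942 D31763 (iv6 D65151) F49004 (iv6 D14519) D14518 (iv1 F47636) F47633 (iv6 F24323) F47637
theorem F100925 : act 1 n65151 = n59008 := d17_8 F50077 (iv5 D31781) (iv1 F38784) F38780 (iv4 F41265) (iv5 F85089) F85095 F100924 (iv4 D59008)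
theorem F100926 : act 1 n59001 = n65151 := d15_0 F100925 (iv7 F93446) F93445
def n65152 : Q := act 0 n30590
theorem D65152 : act 0 n30590 = n65152 := rfl
def n65153 : Q := act 1 n30590
theorem D65153 : act 1 n30590 = n65153 := rfl
def n65154 : Q := act 2 n30590
theorem D65154 : act 2 n30590 = n65154 := rfl
theorem F100927 : act 4 n65154 = n30598 := d1_2 (iv4 F49037) D65154 (iv2 D30598)
def n65155 : Q := act 5 n30590
theorem D65155 : act 5 n30590 = n65155 := rfl
theorem F100928 : act 3 n65155 = n30591 := d6_1 D65155 (iv5 D30591) D30590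
def n65156 : Q := act 6 n30590
theorem D65156 : act 6 n30590 = n65156 := rfl
theorem F100929 : act 3 n65156 = n30592 := d7_1 D65156 (iv6 D30592) D30590
def n65157 : Q := act 0 n30591
theorem D65157 : act 0 n30591 = n65157 := rfl
theorem F100931 : act 5 n65157 = n34105 := d17_1 D65157 (iv1 F53517) D50114 F79351 (iv5 D29953) D29951 D63394 F98709 F98598
theorem F100932 : act 4 n65157 = n62530 := d18_1 D65157 (iv1 F98615) F98613 (iv5 D50125) (iv4 F48062) (iv0 D29917) D29918 F48070 D30591
theorem F100933 : act 1 n50074 = n65157 := d15_0 (iv0 D65157) (iv7 F53634) (iv2 F79268)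
theorem F100934 : act 2 n65038 = n65157 := d1_3 F100932 F98814 (iv4 F100843)
theorem F100935 : act 7 n65035 = n65157 := d11_0 F100932 F97500 (iv4 F100834)
def n65158 : Q := act 1 n30591
theorem D65158 : act 1 n30591 = n65158 := rfl
theorem F100936 : act 1 n65158 = n50074 := d15_1 D65158 (iv7 F79374) F79372
theorem F100937 : act 7 n65158 = n65038 := d15_2 (iv0 D65157) D65158 F100934
theorem F100938 : act 5 n65158 = n34106 := d17_7 (iv1 F24213) (iv5 D14557) (iv1 D6955) (iv5 F11203) D14509 D30591 D65158 F53518 (iv4 D24442)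
theorem F100939 : act 4 n65158 = n63385 := d17_9 F98690 (iv5 D60580) F46409 (iv5 F48189) (iv4 F98573) (iv5 D63326) F48070 D30591 D65158
theorem F100940 : act 2 n65035 = n65158 := d1_3 F100939 F98689 (iv4 F100834)
def n65159 : Q := act 6 n30591
theorem D65159 : act 6 n30591 = n65159 := rfl
def n65160 : Q := act 0 n30592
theorem D65160 : act 0 n30592 = n65160 := rfl
def n65161 : Q := act 1 n30592
theorem D65161 : act 1 n30592 = n65161 := rfl
def n65162 : Q := act 5 n30592
theorem D65162 : act 5 n30592 = n65162 := rfl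
def n65163 : Q := act 7 n30592
theorem D65163 : act 7 n30592 = n65163 := rfl
theorem F100941 : act 4 n65163 = n30595 := d11_1 D65163 (iv7 D30595) (iv4 F49038)
def n65164 : Q := act 2 n30593
theorem D65164 : act 2 n30593 = n65164 := rfl
theorem F100942 : act 7 n30594 = n65164 := d15_2 (iv0 D30593) D30594 (iv2 D65164)
def n65165 : Q := act 3 n30593
theorem D65165 : act 3 n30593 = n65165 := rfl
def n65166 : Q := act 4 n30593
theorem D65166 : act 4 n30593 = n65166 := rfl
def n65167 : Q := act 6 n30593
theorem D65167 : act 6 n30593 = n65167 := rfl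
theorem F100943 : act 5 n65167 = n62994 := d21_6 (iv5 D14557) (iv1 D6955) (iv5 F11203) D14510 D30593 D65167 (iv1 D62994) F47964 (iv6 D24443) (iv1 F24213)
def n65168 : Q := act 7 n30593
theorem D65168 : act 7 n30593 = n65168 := rfl
theorem F100944 : act 2 n65168 = n30594 := d4_1 D65168 F100942 (iv2 D65164)
def n65169 : Q := act 3 n30594
theorem D65169 : act 3 n30594 = n65169 := rfl
def n65170 : Q := act 4 n30594
theorem D65170 : act 4 n30594 = n65170 := rfl
def n65171 : Q := act 2 n30596
theorem D65171 : act 2 n30596 = n65171 := rfl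
theorem F100945 : act 7 n30597 = n65171 := d15_2 (iv0 D30596) D30597 (iv2 D65171)
def n65172 : Q := act 3 n30596
theorem D65172 : act 3 n30596 = n65172 := rfl
def n65173 : Q := act 4 n30596
theorem D65173 : act 4 n30596 = n65173 := rfl
def n65174 : Q := act 5 n30596
theorem D65174 : act 5 n30596 = n65174 := rfl
def n65175 : Q := act 6 n30596
theorem D65175 : act 6 n30596 = n65175 := rfl
def n65176 : Q := act 7 n30596
theorem D65176 : act 7 n30596 = n65176 := rfl
theorem F100946 : act 2 n65176 = n30597 := d4_1 D65176 F100945 (iv2 D65171)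
def n65177 : Q := act 3 n30597
theorem D65177 : act 3 n30597 = n65177 := rfl
def n65178 : Q := act 4 n30597
theorem D65178 : act 4 n30597 = n65178 := rfl
def n65179 : Q := act 5 n30597
theorem D65179 : act 5 n30597 = n65179 := rfl
def n65180 : Q := act 6 n30597
theorem D65180 : act 6 n30597 = n65180 := rfl
def n65181 : Q := act 5 n30598
theorem D65181 : act 5 n30598 = n65181 := rfl
theorem F100947 : act 2 n65181 = n30599 := d2_1 D65181 (iv5 D30599) D30598
def n65182 : Q := act 6 n30598
theorem D65182 : act 6 n30598 = n65182 := rfl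
def n65183 : Q := act 0 n30599
theorem D65183 : act 0 n30599 = n65183 := rfl
def n65184 : Q := act 1 n30599
theorem D65184 : act 1 n30599 = n65184 := rfl
def n65185 : Q := act 4 n30599
theorem D65185 : act 4 n30599 = n65185 := rfl
theorem F100949 : act 3 n65185 = n49822 := d5_1 D65185 (iv4 D49822) F38076 (iv4 F24155) (iv3 F49041)
def n65186 : Q := act 6 n30599
theorem D65186 : act 6 n30599 = n65186 := rfl
theorem F100950 : act 3 n65186 = n30601 := d7_1 D65186 (iv6 D30601) (iv3 F49041)
def n65192 : Q := act 1 n30601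
theorem D65192 : act 1 n30601 = n65192 := rfl
def n65193 : Q := act 5 n30601
theorem D65193 : act 5 n30601 = n65193 := rfl
theorem F100953 : act 6 n65193 = n30604 := d12_2 D30601 D65193 (iv5 D30604) (iv6 D14513) D14512
def n65194 : Q := act 7 n30601
theorem D65194 : act 7 n30601 = n65194 := rfl
theorem F100954 : act 4 n65194 = n32262 := d11_1 D65194 (iv7 D32262) (iv4 F49043)
def n65195 : Q := act 3 n30602
theorem D65195 : act 3 n30602 = n65195 := rfl
def n65196 : Q := act 6 n30602
theorem D65196 : act 6 n30602 = n65196 := rfl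
theorem F100955 : act 4 n65196 = n49785 := d10_1 D65196 (iv6 D49785) (iv4 F53759)
theorem F100956 : act 7 n65196 = n31015 := d14_2 (iv7 F76949) D65196 (iv6 D31015) (iv7 F76946) (iv6 F49828)
theorem F100957 : act 1 n31332 = n65196 := d15_1 F95840 F100956 (iv2 F84471)
theorem F100958 : act 1 n65196 = n63180 := d15_1 F100957 F98441 F84860
def n65197 : Q := act 3 n30603
theorem D65197 : act 3 n30603 = n65197 := rfl
theorem F100959 : act 6 n65197 = n31009 := d7_2 (iv6 F53688) D65197 (iv3 D31009)
def n65204 : Q := act 6 n30607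
theorem D65204 : act 6 n30607 = n65204 := rfl
theorem F100963 : act 3 n65204 = n30609 := d7_1 D65204 (iv6 D30609) D30607
theorem F100964 : act 7 n65204 = n31033 := d14_2 F53772 D65204 (iv6 D31033) F49082 (iv6 F53771)
def n65205 : Q := act 3 n30608
theorem D65205 : act 3 n30608 = n65205 := rfl
def n65206 : Q := act 6 n30608
theorem D65206 : act 6 n30608 = n65206 := rfl
theorem F100966 : act 4 n65206 = n30609 := d10_1 D65206 (iv6 D30609) D30608
theorem F100967 : act 7 n65206 = n31036 := d14_2 F53775 D65206 (iv6 D31036) F49081 (iv6 F53774)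
theorem F100968 : act 1 n60973 = n65206 := d15_1 F96724 F100967 (iv2 F84516)
theorem F100969 : act 1 n65206 = n60963 := d15_1 F100968 F95503 (iv2 F95511)
def n65209 : Q := act 2 n30611
theorem D65209 : act 2 n30611 = n65209 := rfl
theorem F100970 : act 6 n65209 = n31022 := d3_2 (iv6 F49083) D65209 (iv2 D31022)
def n65210 : Q := act 4 n30611
theorem D65210 : act 4 n30611 = n65210 := rfl
theorem F100971 : act 6 n65210 = n31023 := d10_2 (iv6 F49083) D65210 (iv4 D31023)
def n65212 : Q := act 2 n30613
theorem D65212 : act 2 n30613 = n65212 := rfl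
theorem F100973 : act 7 n30614 = n65212 := d15_2 (iv0 D30613) D30614 (iv2 D65212)
def n65213 : Q := act 3 n30613
theorem D65213 : act 3 n30613 = n65213 := rfl
def n65214 : Q := act 4 n30613
theorem D65214 : act 4 n30613 = n65214 := rfl
def n65215 : Q := act 5 n30613
theorem D65215 : act 5 n30613 = n65215 := rfl
def n65216 : Q := act 6 n30613
theorem D65216 : act 6 n30613 = n65216 := rfl
def n65217 : Q := act 7 n30613
theorem D65217 : act 7 n30613 = n65217 := rfl
theorem F100974 : act 2 n65217 = n30614 := d4_1 D65217 F100973 (iv2 D65212)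
def n65218 : Q := act 3 n30614
theorem D65218 : act 3 n30614 = n65218 := rfl
def n65219 : Q := act 4 n30614
theorem D65219 : act 4 n30614 = n65219 := rfl
def n65220 : Q := act 5 n30614
theorem D65220 : act 5 n30614 = n65220 := rfl
def n65221 : Q := act 6 n30614
theorem D65221 : act 6 n30614 = n65221 := rfl
def n65222 : Q := act 4 n30615
theorem D65222 : act 4 n30615 = n65222 := rfl
theorem F100975 : act 2 n65222 = n30616 := d1_1 D65222 (iv4 D30616) D30615
def n65224 : Q := act 6 n30615
theorem D65224 : act 6 n30615 = n65224 := rfl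
theorem F100977 : act 2 n65224 = n30618 := d3_1 D65224 (iv6 D30618) D30615
def n65225 : Q := act 0 n30616
theorem D65225 : act 0 n30616 = n65225 := rfl
def n65226 : Q := act 1 n30616
theorem D65226 : act 1 n30616 = n65226 := rfl
theorem F100978 : act 4 n65172 = n65226 := d20_6 F11957 (iv1 F5478) D6931 D14511 D30596 D65172 (iv1 D65226) (iv4 D30616) (iv3 D14517) (iv1 F11959)
def n65227 : Q := act 5 n30616
theorem D65227 : act 5 n30616 = n65227 := rfl
theorem F100979 : act 3 n65227 = n49979 := d6_1 D65227 (iv5 D49979) (iv3 F49085)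
def n65228 : Q := act 6 n30616
theorem D65228 : act 6 n30616 = n65228 := rfl
theorem F100980 : act 3 n65228 = n49980 := d7_1 D65228 (iv6 D49980) (iv3 F49085)
theorem F100981 : act 4 n65228 = n30618 := d10_1 D65228 (iv6 D30618) D30616
def n65229 : Q := act 0 n30617
theorem D65229 : act 0 n30617 = n65229 := rfl
def n65230 : Q := act 1 n30617
theorem D65230 : act 1 n30617 = n65230 := rfl
def n65231 : Q := act 4 n30617
theorem D65231 : act 4 n30617 = n65231 := rfl
theorem F100982 : act 3 n65231 = n31705 := d5_1 D65231 (iv4 D31705) F24547 (iv4 F24158) (iv3 F49086)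
def n65232 : Q := act 6 n30617
theorem D65232 : act 6 n30617 = n65232 := rfl
theorem F100983 : act 3 n65232 = n30619 := d7_1 D65232 (iv6 D30619) (iv3 F49086)
def n65233 : Q := act 0 n30618
theorem D65233 : act 0 n30618 = n65233 := rfl
def n65234 : Q := act 1 n30618
theorem D65234 : act 1 n30618 = n65234 := rfl
def n65235 : Q := act 5 n30618
theorem D65235 : act 5 n30618 = n65235 := rfl
theorem F100984 : act 3 n65235 = n30621 := d6_1 D65235 (iv5 D30621) (iv3 F49087)
def n65236 : Q := act 7 n30618
theorem D65236 : act 7 n30618 = n65236 := rfl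
def n65237 : Q := act 0 n30619
theorem D65237 : act 0 n30619 = n65237 := rfl
def n65238 : Q := act 1 n30619
theorem D65238 : act 1 n30619 = n65238 := rfl
def n65239 : Q := act 5 n30619
theorem D65239 : act 5 n30619 = n65239 := rfl
theorem F100986 : act 6 n65239 = n30621 := d12_2 D30619 D65239 (iv5 D30621) (iv6 D14519) D14518
def n65240 : Q := act 7 n30619
theorem D65240 : act 7 n30619 = n65240 := rfl
theorem F100987 : act 4 n65240 = n31711 := d11_1 D65240 (iv7 D31711) (iv4 F49088)
def n65241 : Q := act 1 n30621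
theorem D65241 : act 1 n30621 = n65241 := rfl
theorem F100988 : act 7 n65241 = n50588 := d15_2 F49197 D65241 F79955
theorem F100989 : act 5 n65241 = n50589 := d17_7 (iv1 F39913) F39909 (iv1 F19848) F19086 (iv4 F24159) D30621 D65241 F79961 F79951
def n65242 : Q := act 4 n30621
theorem D65242 : act 4 n30621 = n65242 := rfl
def n65243 : Q := act 7 n30621
theorem D65243 : act 7 n30621 = n65243 := rfl
theorem F100990 : act 5 n65243 = n30622 := d13_1 D65243 (iv7 D30622) D30621
theorem F100991 : act 0 n50588 = n65243 := d17_2 (iv1 D50586) D50588 F100990 F49089 F38213 (iv0 D12002) D12003 D25282 (iv4 F79944)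
def n65244 : Q := act 2 n30623
theorem D65244 : act 2 n30623 = n65244 := rfl
theorem F100992 : act 7 n30624 = n65244 := d15_2 (iv0 D30623) D30624 (iv2 D65244)
def n65245 : Q := act 3 n30623
theorem D65245 : act 3 n30623 = n65245 := rfl
def n65246 : Q := act 4 n30623
theorem D65246 : act 4 n30623 = n65246 := rfl
def n65247 : Q := act 5 n30623
theorem D65247 : act 5 n30623 = n65247 := rfl
def n65248 : Q := act 6 n30623
theorem D65248 : act 6 n30623 = n65248 := rfl
def n65249 : Q := act 7 n30623
theorem D65249 : act 7 n30623 = n65249 := rfl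
theorem F100993 : act 2 n65249 = n30624 := d4_1 D65249 F100992 (iv2 D65244)
def n65250 : Q := act 3 n30624
theorem D65250 : act 3 n30624 = n65250 := rfl
def n65251 : Q := act 4 n30624
theorem D65251 : act 4 n30624 = n65251 := rfl
def n65252 : Q := act 5 n30624
theorem D65252 : act 5 n30624 = n65252 := rfl
def n65253 : Q := act 6 n30624
theorem D65253 : act 6 n30624 = n65253 := rfl
def n65254 : Q := act 4 n30625
theorem D65254 : act 4 n30625 = n65254 := rfl
theorem F100994 : act 2 n65254 = n30626 := d1_1 D65254 (iv4 D30626) D30625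
def n65255 : Q := act 5 n30625
theorem D65255 : act 5 n30625 = n65255 := rfl
theorem F100995 : act 2 n65255 = n30627 := d2_1 D65255 (iv5 D30627) D30625
def n65256 : Q := act 6 n30625
theorem D65256 : act 6 n30625 = n65256 := rfl
def n65257 : Q := act 0 n30626
theorem D65257 : act 0 n30626 = n65257 := rfl
def n65258 : Q := act 1 n30626
theorem D65258 : act 1 n30626 = n65258 := rfl
theorem F100997 : act 4 n65105 = n65258 := d20_6 (iv4 D3123) D3121 D6928 D14503 D30572 D65105 (iv1 D65258) (iv4 D30626) (iv3 D14520) (iv1 D6934)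
def n65259 : Q := act 5 n30626
theorem D65259 : act 5 n30626 = n65259 := rfl
theorem F100998 : act 3 n65259 = n31410 := d6_1 D65259 (iv5 D31410) (iv3 F49090)
def n65260 : Q := act 6 n30626
theorem D65260 : act 6 n30626 = n65260 := rfl
def n65261 : Q := act 0 n30627
theorem D65261 : act 0 n30627 = n65261 := rfl
def n65262 : Q := act 1 n30627
theorem D65262 : act 1 n30627 = n65262 := rfl
def n65268 : Q := act 0 n30629
theorem D65268 : act 0 n30629 = n65268 := rfl
def n65269 : Q := act 1 n30629
theorem D65269 : act 1 n30629 = n65269 := rfl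
def n65271 : Q := act 7 n30629
theorem D65271 : act 7 n30629 = n65271 := rfl
theorem F101005 : act 4 n65271 = n31824 := d11_1 D65271 (iv7 D31824) (iv4 F49093)
def n65274 : Q := act 6 n30634
theorem D65274 : act 6 n30634 = n65274 := rfl
theorem F101009 : act 2 n65274 = n30652 := d3_1 D65274 (iv6 D30652) F49095
theorem F101010 : act 7 n65274 = n31204 := d14_2 (iv7 F49096) D65274 (iv6 D31204) F24395 (iv6 F24162)
theorem F101011 : act 1 n31279 = n65274 := d15_1 D31279 F101010 F49529
theorem F101012 : act 1 n65274 = n31278 := d15_0 (iv0 D31278) (iv7 F49106) (iv2 F101009)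
def n65275 : Q := act 0 n30635
theorem D65275 : act 0 n30635 = n65275 := rfl
theorem F101013 : act 1 n30640 = n65275 := d15_0 (iv0 D65275) (iv7 F49098) (iv2 F49099)
def n65276 : Q := act 1 n30635
theorem D65276 : act 1 n30635 = n65276 := rfl
def n65277 : Q := act 3 n30635
theorem D65277 : act 3 n30635 = n65277 := rfl
theorem F101015 : act 7 n65277 = n30641 := d8_2 F49098 D65277 (iv3 D30641)
def n65278 : Q := act 4 n30635
theorem D65278 : act 4 n30635 = n65278 := rfl
theorem F101016 : act 2 n65278 = n30637 := d1_1 D65278 (iv4 D30637) D30635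
theorem F101017 : act 7 n65278 = n30642 := d11_2 F49098 D65278 (iv4 D30642)
def n65279 : Q := act 5 n30635
theorem D65279 : act 5 n30635 = n65279 := rfl
theorem F101018 : act 2 n65279 = n30638 := d2_1 D65279 (iv5 D30638) D30635
theorem F101019 : act 7 n65279 = n30643 := d13_2 F49098 D65279 (iv5 D30643)
def n65280 : Q := act 6 n30635
theorem D65280 : act 6 n30635 = n65280 := rfl
theorem F101020 : act 2 n65280 = n30639 := d3_1 D65280 (iv6 D30639) D30635
def n65281 : Q := act 0 n30636
theorem D65281 : act 0 n30636 = n65281 := rfl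
def n65282 : Q := act 1 n30636
theorem D65282 : act 1 n30636 = n65282 := rfl
def n65283 : Q := act 2 n30636
theorem D65283 : act 2 n30636 = n65283 := rfl
def n65284 : Q := act 4 n30636
theorem D65284 : act 4 n30636 = n65284 := rfl
theorem F101021 : act 0 n65284 = n49948 := d20_7 (iv4 D6931) (iv1 D3122) D3123 D6935 D14523 D30636 D65284 F78987 F38221 (iv1 F18789)
theorem F101022 : act 0 n49946 = n65284 := d20_7 (iv4 F100021) (iv1 F100023) D64221 (iv3 F100026) (iv1 D49799) (iv3 F38217) (iv4 F78983) (iv4 D65284) (iv3 D30636) D30634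
def n65285 : Q := act 5 n30636
theorem D65285 : act 5 n30636 = n65285 := rfl
theorem F101023 : act 3 n65285 = n30638 := d6_1 D65285 (iv5 D30638) D30636
def n65286 : Q := act 6 n30636
theorem D65286 : act 6 n30636 = n65286 := rfl
theorem F101024 : act 3 n65286 = n30639 := d7_1 D65286 (iv6 D30639) D30636
def n65287 : Q := act 7 n30636
theorem D65287 : act 7 n30636 = n65287 := rfl
theorem F101025 : act 3 n65287 = n30640 := d8_1 D65287 (iv7 D30640) D30636
def n65288 : Q := act 0 n30637
theorem D65288 : act 0 n30637 = n65288 := rfl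
theorem F101026 : act 4 n65288 = n65177 := d20_2 D30637 D65288 (iv3 D65177) (iv1 D30597) (iv3 D14511) (iv4 D6931) (iv1 D3122) D3123 D6935 D14523
def n65289 : Q := act 1 n30637
theorem D65289 : act 1 n30637 = n65289 := rfl
theorem F101027 : act 1 n65289 = n30642 := d15_1 D65289 (iv7 F101017) F101016
def n65290 : Q := act 3 n30637
theorem D65290 : act 3 n30637 = n65290 := rfl
def n65291 : Q := act 5 n30637
theorem D65291 : act 5 n30637 = n65291 := rfl
def n65292 : Q := act 6 n30637
theorem D65292 : act 6 n30637 = n65292 := rfl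
theorem F101028 : act 4 n65292 = n30639 := d10_1 D65292 (iv6 D30639) D30637
def n65293 : Q := act 7 n30637
theorem D65293 : act 7 n30637 = n65293 := rfl
theorem F101029 : act 2 n65293 = n30642 := d4_1 D65293 (iv7 F101017) F101016
theorem F101030 : act 4 n65293 = n30640 := d11_1 D65293 (iv7 D30640) D30637
theorem F101031 : act 1 n30642 = n65288 := d15_0 (iv0 D65288) D65293 F101029
def n65294 : Q := act 0 n30638
theorem D65294 : act 0 n30638 = n65294 := rfl
def n65295 : Q := act 1 n30638
theorem D65295 : act 1 n30638 = n65295 := rfl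
theorem F101032 : act 1 n65295 = n30643 := d15_1 D65295 (iv7 F101019) F101018
def n65296 : Q := act 4 n30638
theorem D65296 : act 4 n30638 = n65296 := rfl
def n65297 : Q := act 6 n30638
theorem D65297 : act 6 n30638 = n65297 := rfl
def n65298 : Q := act 7 n30638
theorem D65298 : act 7 n30638 = n65298 := rfl
theorem F101033 : act 2 n65298 = n30643 := d4_1 D65298 (iv7 F101019) F101018
theorem F101034 : act 5 n65298 = n30640 := d13_1 D65298 (iv7 D30640) D30638
theorem F101035 : act 1 n30643 = n65294 := d15_0 (iv0 D65294) D65298 F101033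
def n65299 : Q := act 0 n30639
theorem D65299 : act 0 n30639 = n65299 := rfl
def n65300 : Q := act 1 n30639
theorem D65300 : act 1 n30639 = n65300 := rfl
def n65301 : Q := act 5 n30639
theorem D65301 : act 5 n30639 = n65301 := rfl
def n65302 : Q := act 7 n30639
theorem D65302 : act 7 n30639 = n65302 := rfl
def n65303 : Q := act 6 n30640
theorem D65303 : act 6 n30640 = n65303 := rfl
theorem F101036 : act 2 n65303 = n30644 := d3_1 D65303 (iv6 D30644) (iv2 F49099)
def n65304 : Q := act 0 n30641
theorem D65304 : act 0 n30641 = n65304 := rfl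
def n65305 : Q := act 1 n30641
theorem D65305 : act 1 n30641 = n65305 := rfl
def n65306 : Q := act 2 n30641
theorem D65306 : act 2 n30641 = n65306 := rfl
def n65307 : Q := act 4 n30641
theorem D65307 : act 4 n30641 = n65307 := rfl
theorem F101037 : act 0 n65106 = n65307 := d20_1 D65106 (iv4 D65307) (iv3 D30641) (iv1 D14524) (iv3 D6935) (iv4 D3123) D3121 D6928 D14503 D30572
def n65308 : Q := act 5 n30641
theorem D65308 : act 5 n30641 = n65308 := rfl
theorem F101038 : act 3 n65308 = n30643 := d6_1 D65308 (iv5 D30643) D30641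
def n65309 : Q := act 6 n30641
theorem D65309 : act 6 n30641 = n65309 := rfl
theorem F101039 : act 3 n65309 = n30644 := d7_1 D65309 (iv6 D30644) D30641
def n65310 : Q := act 3 n30642
theorem D65310 : act 3 n30642 = n65310 := rfl
def n65311 : Q := act 5 n30642
theorem D65311 : act 5 n30642 = n65311 := rfl
def n65312 : Q := act 6 n30642
theorem D65312 : act 6 n30642 = n65312 := rfl
theorem F101040 : act 4 n65312 = n30644 := d10_1 D65312 (iv6 D30644) D30642
def n65313 : Q := act 4 n30643
theorem D65313 : act 4 n30643 = n65313 := rfl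
def n65314 : Q := act 6 n30643
theorem D65314 : act 6 n30643 = n65314 := rfl
def n65315 : Q := act 0 n30644
theorem D65315 : act 0 n30644 = n65315 := rfl
def n65316 : Q := act 1 n30644
theorem D65316 : act 1 n30644 = n65316 := rfl
def n65317 : Q := act 5 n30644
theorem D65317 : act 5 n30644 = n65317 := rfl
def n65318 : Q := act 7 n30644
theorem D65318 : act 7 n30644 = n65318 := rfl
def n65322 : Q := act 5 n30645
theorem D65322 : act 5 n30645 = n65322 := rfl
def n65325 : Q := act 3 n30646
theorem D65325 : act 3 n30646 = n65325 := rfl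
theorem F101043 : act 4 n65325 = n49945 := d20_6 (iv4 D7683) (iv1 F5472) (iv4 F11209) (iv3 F24164) (iv1 F49101) D65325 (iv1 D49945) F38171 (iv3 D11492) (iv1 F11936)
def n65327 : Q := act 5 n30646
theorem D65327 : act 5 n30646 = n65327 := rfl
def n65329 : Q := act 4 n30647
theorem D65329 : act 4 n30647 = n65329 := rfl
theorem F101044 : act 2 n65329 = n30650 := d1_1 D65329 (iv4 D30650) (iv2 F49102)
def n65330 : Q := act 6 n30647
theorem D65330 : act 6 n30647 = n65330 := rfl
theorem F101045 : act 2 n65330 = n30651 := d3_1 D65330 (iv6 D30651) (iv2 F49102)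
theorem F101046 : act 5 n65330 = n31260 := d12_1 D65330 (iv6 D31260) (iv5 D14750) (iv6 F24162) D30647
def n65331 : Q := act 2 n30648
theorem D65331 : act 2 n30648 = n65331 := rfl
theorem F101047 : act 7 n30649 = n65331 := d15_2 (iv0 D30648) D30649 (iv2 D65331)
def n65332 : Q := act 3 n30648
theorem D65332 : act 3 n30648 = n65332 := rfl
def n65333 : Q := act 4 n30648
theorem D65333 : act 4 n30648 = n65333 := rfl
def n65334 : Q := act 5 n30648
theorem D65334 : act 5 n30648 = n65334 := rfl
def n65335 : Q := act 6 n30648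
theorem D65335 : act 6 n30648 = n65335 := rfl
def n65336 : Q := act 7 n30648
theorem D65336 : act 7 n30648 = n65336 := rfl
theorem F101048 : act 2 n65336 = n30649 := d4_1 D65336 F101047 (iv2 D65331)
def n65337 : Q := act 3 n30649
theorem D65337 : act 3 n30649 = n65337 := rfl
def n65338 : Q := act 4 n30649
theorem D65338 : act 4 n30649 = n65338 := rfl
def n65339 : Q := act 5 n30649
theorem D65339 : act 5 n30649 = n65339 := rfl
def n65340 : Q := act 6 n30649
theorem D65340 : act 6 n30649 = n65340 := rfl
def n65341 : Q := act 0 n30650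
theorem D65341 : act 0 n30650 = n65341 := rfl
def n65342 : Q := act 1 n30650
theorem D65342 : act 1 n30650 = n65342 := rfl
def n65343 : Q := act 5 n30650
theorem D65343 : act 5 n30650 = n65343 := rfl
def n65344 : Q := act 6 n30650
theorem D65344 : act 6 n30650 = n65344 := rfl
theorem F101049 : act 4 n65344 = n30651 := d10_1 D65344 (iv6 D30651) D30650
def n65345 : Q := act 0 n30651
theorem D65345 : act 0 n30651 = n65345 := rfl
def n65346 : Q := act 1 n30651
theorem D65346 : act 1 n30651 = n65346 := rfl
def n65347 : Q := act 7 n30651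
theorem D65347 : act 7 n30651 = n65347 := rfl
theorem F101050 : act 3 n65347 = n30657 := d8_1 D65347 (iv7 D30657) (iv3 F49103)
theorem F101051 : act 5 n65347 = n31277 := d13_1 D65347 (iv7 D31277) (iv5 F49104)
def n65348 : Q := act 0 n30652
theorem D65348 : act 0 n30652 = n65348 := rfl
theorem F101052 : act 1 n31204 = n65348 := d15_0 (iv0 D65348) F49106 (iv2 F49529)
def n65349 : Q := act 1 n30652
theorem D65349 : act 1 n30652 = n65349 := rfl
theorem F101053 : act 1 n65349 = n31204 := d15_1 D65349 (iv7 F101010) F101009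
def n65350 : Q := act 5 n30652
theorem D65350 : act 5 n30652 = n65350 := rfl
theorem F101054 : act 3 n65350 = n30658 := d6_1 D65350 (iv5 D30658) (iv3 F49105)
theorem F101055 : act 7 n65350 = n31280 := d13_2 (iv7 F49106) D65350 (iv5 D31280)
def n65351 : Q := act 0 n30653
theorem D65351 : act 0 n30653 = n65351 := rfl
def n65352 : Q := act 1 n30653
theorem D65352 : act 1 n30653 = n65352 := rfl
def n65353 : Q := act 2 n30653
theorem D65353 : act 2 n30653 = n65353 := rfl
theorem F101056 : act 3 n65353 = n61170 := d0_2 D30653 D65353 F95663 F46600 (iv2 F26223)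
theorem F101057 : act 5 n65353 = n49964 := d2_2 (iv5 F49107) D65353 (iv2 D49964)
def n65354 : Q := act 4 n30653
theorem D65354 : act 4 n30653 = n65354 := rfl
theorem F101058 : act 3 n65354 = n50037 := d5_1 D65354 (iv4 D50037) (iv3 D24404) (iv4 F24166) D30653
theorem F101059 : act 7 n65354 = n61688 := d11_2 F53863 D65354 F96278
def n65355 : Q := act 6 n30653
theorem D65355 : act 6 n30653 = n65355 := rfl
def n65356 : Q := act 0 n30654
theorem D65356 : act 0 n30654 = n65356 := rfl
def n65357 : Q := act 1 n30654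
theorem D65357 : act 1 n30654 = n65357 := rfl
def n65358 : Q := act 5 n30654
theorem D65358 : act 5 n30654 = n65358 := rfl
theorem F101061 : act 6 n65358 = n49966 := d12_2 D30654 D65358 (iv5 D49966) (iv6 D24362) (iv5 F24165)
def n65359 : Q := act 7 n30654
theorem D65359 : act 7 n30654 = n65359 := rfl
theorem F101062 : act 4 n65359 = n50041 := d11_1 D65359 (iv7 D50041) (iv4 F49108)
def n65360 : Q := act 2 n30655
theorem D65360 : act 2 n30655 = n65360 := rfl
theorem F101063 : act 7 n30656 = n65360 := d15_2 (iv0 D30655) D30656 (iv2 D65360)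
def n65361 : Q := act 3 n30655
theorem D65361 : act 3 n30655 = n65361 := rfl
def n65362 : Q := act 4 n30655
theorem D65362 : act 4 n30655 = n65362 := rfl
def n65363 : Q := act 5 n30655
theorem D65363 : act 5 n30655 = n65363 := rfl
def n65364 : Q := act 6 n30655
theorem D65364 : act 6 n30655 = n65364 := rfl
def n65365 : Q := act 7 n30655
theorem D65365 : act 7 n30655 = n65365 := rfl
theorem F101064 : act 2 n65365 = n30656 := d4_1 D65365 F101063 (iv2 D65360)
def n65366 : Q := act 3 n30656
theorem D65366 : act 3 n30656 = n65366 := rfl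
def n65367 : Q := act 4 n30656
theorem D65367 : act 4 n30656 = n65367 := rfl
def n65368 : Q := act 5 n30656
theorem D65368 : act 5 n30656 = n65368 := rfl
def n65369 : Q := act 6 n30656
theorem D65369 : act 6 n30656 = n65369 := rfl
def n65370 : Q := act 4 n30658
theorem D65370 : act 4 n30658 = n65370 := rfl
theorem F101065 : act 7 n65370 = n31321 := d11_2 (iv7 F49110) D65370 (iv4 D31321)
theorem F101066 : act 5 n65370 = n53823 := d16_1 D65370 (iv4 D53823) (iv5 D26020) F20478 F9015 (iv4 F20478) D26020 (iv7 F53873) F53872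
def n65371 : Q := act 0 n30659
theorem D65371 : act 0 n30659 = n65371 := rfl
theorem F101067 : act 1 n30835 = n65371 := d15_0 (iv0 D65371) (iv7 F80429) F80425
def n65372 : Q := act 1 n30659
theorem D65372 : act 1 n30659 = n65372 := rfl
theorem F101068 : act 1 n65372 = n30835 := d15_1 D65372 (iv7 F84330) F84327
def n65373 : Q := act 0 n30660
theorem D65373 : act 0 n30660 = n65373 := rfl
theorem F101069 : act 3 n65373 = n51233 := d20_5 (iv4 D7000) (iv1 F20386) D14533 D30660 D65373 (iv4 D51233) (iv1 D24918) (iv4 F39017) (iv3 D24886) F19178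
theorem F101070 : act 1 n62938 = n65373 := d15_0 (iv0 D65373) F49113 D62938
def n65374 : Q := act 1 n30660
theorem D65374 : act 1 n30660 = n65374 := rfl
def n65375 : Q := act 2 n30660
theorem D65375 : act 2 n30660 = n65375 := rfl
theorem F101071 : act 7 n65375 = n62938 := d4_2 (iv7 F49113) D65375 (iv2 D62938)
theorem F101072 : act 1 n65375 = n62936 := d15_0 (iv0 D62936) (iv7 F49113) D65375
theorem F101073 : act 1 n65374 = n62938 := d15_1 D65374 (iv7 F101071) (iv2 D65375)
theorem F101074 : act 1 n62937 = n65375 := d15_1 D62937 F101071 (iv2 D62938)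
def n65376 : Q := act 5 n30660
theorem D65376 : act 5 n30660 = n65376 := rfl
theorem F101075 : act 3 n65376 = n30661 := d6_1 D65376 (iv5 D30661) D30660
theorem F101076 : act 7 n65376 = n62939 := d13_2 (iv7 F49113) D65376 (iv5 D62939)
def n65377 : Q := act 6 n30660
theorem D65377 : act 6 n30660 = n65377 := rfl
theorem F101077 : act 3 n65377 = n30662 := d7_1 D65377 (iv6 D30662) D30660
def n65378 : Q := act 6 n30661
theorem D65378 : act 6 n30661 = n65378 := rfl
def n65379 : Q := act 0 n30662
theorem D65379 : act 0 n30662 = n65379 := rfl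
theorem F101078 : act 1 n51316 = n65379 := d15_0 (iv0 D65379) (iv7 F80900) (iv2 F80958)
def n65380 : Q := act 1 n30662
theorem D65380 : act 1 n30662 = n65380 := rfl
theorem F101079 : act 1 n65380 = n51316 := d15_1 D65380 (iv7 F84338) F84336
def n65381 : Q := act 5 n30662
theorem D65381 : act 5 n30662 = n65381 := rfl
def n65382 : Q := act 2 n30663
theorem D65382 : act 2 n30663 = n65382 := rfl
theorem F101080 : act 7 n30664 = n65382 := d15_2 (iv0 D30663) D30664 (iv2 D65382)
def n65383 : Q := act 3 n30663
theorem D65383 : act 3 n30663 = n65383 := rfl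
def n65384 : Q := act 4 n30663
theorem D65384 : act 4 n30663 = n65384 := rfl
def n65385 : Q := act 5 n30663
theorem D65385 : act 5 n30663 = n65385 := rfl
theorem F101081 : act 0 n65385 = n64981 := d21_1 D65385 F100777 (iv6 D30709) (iv1 D14551) (iv6 D6953) (iv5 D3135) D3131 D6941 D14534 D30663
theorem F101082 : act 6 n65385 = n64955 := d21_3 F24177 D30663 D65385 (iv1 F100742) F98763 F81170 (iv1 F81019) D51446 F81221 (iv1 D30664)
def n65386 : Q := act 6 n30663
theorem D65386 : act 6 n30663 = n65386 := rfl
theorem F101083 : act 5 n65386 = n62965 := d21_6 (iv5 D3135) D3131 D6941 D14534 D30663 D65386 (iv1 D62965) F47919 (iv6 D14544) (iv1 D6951)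
theorem F101084 : act 0 n65386 = n30970 := d21_1 (iv5 F101083) (iv5 F98694) (iv6 F98854) F98855 (iv6 D63412) (iv5 F79448) (iv1 F79455) (iv5 F79589) F79590 (iv1 F98250)
def n65387 : Q := act 7 n30663
theorem D65387 : act 7 n30663 = n65387 := rfl
theorem F101085 : act 2 n65387 = n30664 := d4_1 D65387 F101080 (iv2 D65382)
def n65390 : Q := act 5 n30664
theorem D65390 : act 5 n30664 = n65390 := rfl
theorem F101086 : act 6 n65390 = n50278 := d12_2 F81221 D65390 F81223 (iv6 D51447) D51446
theorem F101087 : act 0 n64981 = n65390 := d21_10 (iv5 D65390) (iv1 D30664) F24177 (iv6 D14534) (iv1 F20432) D25947 F41010 D50070 F79261 D64981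
def n65391 : Q := act 0 n30665
theorem D65391 : act 0 n30665 = n65391 := rfl
def n65392 : Q := act 1 n30665
theorem D65392 : act 1 n30665 = n65392 := rfl
def n65393 : Q := act 2 n30665
theorem D65393 : act 2 n30665 = n65393 := rfl
theorem F101088 : act 3 n65393 = n30693 := d0_2 D30665 D65393 (iv2 D30693) (iv3 D14547) (iv2 F24178)
def n65394 : Q := act 5 n30665
theorem D65394 : act 5 n30665 = n65394 := rfl
theorem F101089 : act 3 n65394 = n30666 := d6_1 D65394 (iv5 D30666) D30665
def n65395 : Q := act 6 n30665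
theorem D65395 : act 6 n30665 = n65395 := rfl
theorem F101090 : act 3 n65395 = n30667 := d7_1 D65395 (iv6 D30667) D30665
def n65396 : Q := act 6 n30666
theorem D65396 : act 6 n30666 = n65396 := rfl
theorem F101091 : act 2 n65396 = n30696 := d3_1 D65396 (iv6 D30696) (iv2 F49118)
def n65397 : Q := act 0 n30667
theorem D65397 : act 0 n30667 = n65397 := rfl
def n65398 : Q := act 1 n30667
theorem D65398 : act 1 n30667 = n65398 := rfl
theorem F101092 : act 1 n65398 = n30700 := d15_1 D65398 (iv7 D30700) (iv2 F49119)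
def n65399 : Q := act 5 n30667
theorem D65399 : act 5 n30667 = n65399 := rfl
theorem F101093 : act 2 n65399 = n30699 := d2_1 D65399 (iv5 D30699) (iv2 F49119)
def n65400 : Q := act 7 n30667
theorem D65400 : act 7 n30667 = n65400 := rfl
theorem F101094 : act 2 n65400 = n30700 := d4_1 D65400 (iv7 D30700) (iv2 F49119)
theorem F101095 : act 4 n65400 = n30670 := d11_1 D65400 (iv7 D30670) (iv4 F49120)
theorem F101096 : act 1 n30700 = n65397 := d15_0 (iv0 D65397) D65400 F101094
theorem F101097 : act 1 n30698 = n65400 := d15_1 D30698 (iv7 D65400) F49119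
theorem F101098 : act 4 n49639 = n65397 := d20_6 D25889 F53781 F20493 (iv3 F18559) D24205 D49639 (iv1 F101096) F49142 F24192 (iv1 F20370)
theorem F101099 : act 1 n65400 = n30697 := d15_0 (iv0 D30697) D30700 (iv2 F101094)
def n65401 : Q := act 2 n30668
theorem D65401 : act 2 n30668 = n65401 := rfl
theorem F101101 : act 7 n30669 = n65401 := d15_2 (iv0 D30668) D30669 (iv2 D65401)
def n65402 : Q := act 3 n30668
theorem D65402 : act 3 n30668 = n65402 := rfl
theorem F101102 : act 5 n65402 = n53397 := d6_2 (iv5 F49121) D65402 (iv3 D53397)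
def n65403 : Q := act 4 n30668
theorem D65403 : act 4 n30668 = n65403 := rfl
def n65404 : Q := act 7 n30668
theorem D65404 : act 7 n30668 = n65404 := rfl
theorem F101103 : act 2 n65404 = n30669 := d4_1 D65404 F101101 (iv2 D65401)
theorem F101104 : act 5 n65404 = n53393 := d13_1 D65404 (iv7 F84251) (iv5 F49121)
def n65405 : Q := act 3 n30669
theorem D65405 : act 3 n30669 = n65405 := rfl
theorem F101105 : act 5 n65405 = n53394 := d6_2 F49123 D65405 (iv3 D53394)
theorem F101106 : act 4 n65405 = n31389 := d20_6 D14833 (iv1 F49835) F24242 (iv3 F24192) (iv1 F49122) D65405 (iv1 D31389) F24445 F11300 D7065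
def n65406 : Q := act 4 n30669
theorem D65406 : act 4 n30669 = n65406 := rfl
def n65407 : Q := act 6 n30669
theorem D65407 : act 6 n30669 = n65407 := rfl
theorem F101107 : act 0 n65407 = n65385 := d21_10 (iv5 D65385) (iv1 F49116) F39130 (iv6 D24951) (iv1 F19249) D16544 F26185 D25869 F49123 D65407
def n65408 : Q := act 3 n30671
theorem D65408 : act 3 n30671 = n65408 := rfl
theorem F101108 : act 7 n65408 = n51110 := d8_2 (iv7 F49129) D65408 (iv3 D51110)
def n65409 : Q := act 6 n30671
theorem D65409 : act 6 n30671 = n65409 := rfl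
theorem F101109 : act 2 n65409 = n51103 := d3_1 D65409 (iv6 D51103) (iv2 F49131)
theorem F101110 : act 4 n65409 = n51088 := d10_1 D65409 (iv6 D51088) F49130
def n65410 : Q := act 0 n30672
theorem D65410 : act 0 n30672 = n65410 := rfl
def n65411 : Q := act 1 n30672
theorem D65411 : act 1 n30672 = n65411 := rfl
def n65412 : Q := act 2 n30672
theorem D65412 : act 2 n30672 = n65412 := rfl
def n65413 : Q := act 5 n30672
theorem D65413 : act 5 n30672 = n65413 := rfl
theorem F101111 : act 3 n65413 = n30673 := d6_1 D65413 (iv5 D30673) D30672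
def n65414 : Q := act 6 n30672
theorem D65414 : act 6 n30672 = n65414 := rfl
theorem F101112 : act 3 n65414 = n30674 := d7_1 D65414 (iv6 D30674) D30672
def n65415 : Q := act 6 n30673
theorem D65415 : act 6 n30673 = n65415 := rfl
def n65416 : Q := act 0 n30674
theorem D65416 : act 0 n30674 = n65416 := rfl
def n65417 : Q := act 1 n30674
theorem D65417 : act 1 n30674 = n65417 := rfl
def n65418 : Q := act 5 n30674
theorem D65418 : act 5 n30674 = n65418 := rfl
def n65419 : Q := act 7 n30674
theorem D65419 : act 7 n30674 = n65419 := rfl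
theorem F101113 : act 4 n65419 = n30677 := d11_1 D65419 (iv7 D30677) (iv4 F49132)
def n65420 : Q := act 3 n30675
theorem D65420 : act 3 n30675 = n65420 := rfl
def n65421 : Q := act 4 n30675
theorem D65421 : act 4 n30675 = n65421 := rfl
def n65422 : Q := act 5 n30675
theorem D65422 : act 5 n30675 = n65422 := rfl
theorem F101114 : act 2 n65422 = n51447 := d2_1 D65422 (iv5 F81223) F81225
theorem F101115 : act 6 n65422 = n51336 := d21_3 F38405 D30675 D65422 (iv1 D51336) (iv6 D24961) (iv5 F24259) (iv1 F24262) F19292 D24973 F39189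
theorem F101116 : act 0 n51532 = n65422 := d21_10 (iv5 D65422) (iv1 F79660) F79656 (iv6 F79454) (iv1 F79456) D50236 (iv5 F81117) F81291 (iv5 D51531) D51532
theorem E8986 : n51443 = n51336 := ((c3_1 F101115 F81220 D51447 (iv2 F101114))).symm
theorem F101117 : act 2 n51336 = n25004 := (sb E8986 F81220)
theorem F101118 : act 7 n51336 = n25003 := (sb E8986 (iv7 D51443))
theorem E8987 : n51439 = n51335 := (c15_4 (iv0 D51335) D51336 F101118 D51439)
theorem E8988 : n50338 = n50168 := (((F81124).symm.trans (sb E8987 F81216))).symm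
theorem F101120 : act 7 n51335 = n25004 := (sb E8987 (iv7 F81217))
theorem E8989 : n63476 = n51394 := (((F81123).symm.trans (sb E8988 (iv5 F98805)))).symm
theorem F101123 : act 2 n51394 = n29982 := (sb E8989 F98804)
theorem E8990 : n63066 = n62964 := ((((iv6 F98248)).symm.trans (sb E8989 (iv6 F98806)))).symm
theorem F101124 : act 7 n51394 = n29981 := (sb E8989 (iv7 D63476))
theorem F101125 : act 2 n62964 = n29831 := (sb E8990 (iv2 D63066))
theorem F101126 : act 7 n62964 = n29832 := (sb E8990 (iv7 F98381))
theorem E8991 : n63070 = n62965 := (c15_4 F98250 (iv0 F98249) F101126 (iv2 F98383))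
theorem F101127 : act 2 n62965 = n29832 := (sb E8991 F98383)
theorem F101128 : act 7 n62965 = n29831 := (sb E8991 (iv7 D63070))
theorem F101129 : act 7 n63069 = n65386 := d13_2 F101128 D63069 F101083
theorem F101130 : act 2 n63073 = n65386 := d2_3 F101083 F101127 D63073
theorem E8992 : n65382 = n51289 := (c3_4 (iv6 F98384) F101130 (iv6 D65386) D65382)
theorem F101131 : act 2 n51289 = n30663 := (sb E8992 (iv2 D65382))
theorem F101132 : act 7 n51289 = n30664 := (sb E8992 (iv7 F101080))
theorem E8993 : n65387 = n51288 := (c15_4 (iv0 D51288) D51289 F101132 (iv2 F101085))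
theorem F101134 : act 7 n51288 = n30663 := (sb E8993 (iv7 D65387))
theorem E8994 : n63472 = n51393 := (c15_4 (iv0 D51393) D51394 F101124 D63472)
theorem F101135 : act 2 n51393 = n29981 := (sb E8994 (iv2 D63472))
theorem E8995 : n50333 = n50167 := (((F81120).symm.trans (sb E8994 F98800))).symm
theorem F101136 : act 7 n51393 = n29982 := (sb E8994 (iv7 F98801))
theorem F101137 : act 2 n50167 = n24546 := (sb E8995 (iv2 D50333))
theorem F101138 : act 7 n50167 = n24547 := (sb E8995 (iv7 F79711))
def n65423 : Q := act 6 n30675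
theorem D65423 : act 6 n30675 = n65423 := rfl
theorem F101139 : act 2 n65423 = n65390 := d3_1 D65423 F101086 F81225
theorem F101140 : act 7 n65423 = n65385 := d14_2 F81227 D65423 F101082 (iv7 F100750) F100749
theorem F101141 : act 0 n65423 = n30709 := d21_4 (iv5 F81292) F101116 (iv5 D65422) D65423 (iv6 D30709) D30708 (iv1 F78087) (iv5 F53738) F53739 (iv1 F80873)
theorem F101142 : act 5 n65423 = n51288 := d21_6 F11916 (iv1 F19440) (iv5 F19438) D14541 D30675 D65423 (iv1 F80901) F40908 (iv6 D25893) F20385
def n65424 : Q := act 3 n30676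
theorem D65424 : act 3 n30676 = n65424 := rfl
def n65425 : Q := act 4 n30676
theorem D65425 : act 4 n30676 = n65425 := rfl
def n65426 : Q := act 3 n30678
theorem D65426 : act 3 n30678 = n65426 := rfl
theorem F101143 : act 4 n65426 = n30680 := d5_2 D30678 D65426 (iv3 D30680) (iv4 D14543) D14542
def n65427 : Q := act 5 n30678
theorem D65427 : act 5 n30678 = n65427 := rfl
theorem F101144 : act 4 n65427 = n50444 := d16_2 D30678 D65427 (iv5 D50444) F49292 F49290 F39000 (iv5 F38575) F38578 (iv2 F37871)
theorem F101145 : act 0 n65427 = n48821 := d17_2 F76805 D65427 (iv5 D48821) (iv4 D23809) (iv5 F24295) F39826 F39824 F37074 D48777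
theorem F101146 : act 1 n65427 = n48814 := d17_6 (iv1 F37503) (iv5 F39440) (iv1 F39442) F38483 D30678 D65427 (iv5 D48814) (iv0 F48586) (iv4 D30204)
def n65428 : Q := act 6 n30678
theorem D65428 : act 6 n30678 = n65428 := rfl
theorem F101147 : act 4 n65428 = n30679 := d10_1 D65428 (iv6 D30679) D30678
theorem F101148 : act 0 n65428 = n49921 := d21_4 D48814 (iv1 F101146) (iv5 D65427) D65428 (iv6 D49921) D49920 (iv1 F82526) (iv5 D52198) (iv6 F48585) F48586
def n65429 : Q := act 1 n30679
theorem D65429 : act 1 n30679 = n65429 := rfl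
theorem F101149 : act 7 n65429 = n34062 := d15_2 (iv0 F78149) D65429 (iv2 F78147)
def n65430 : Q := act 7 n30679
theorem D65430 : act 7 n30679 = n65430 := rfl
theorem F101150 : act 3 n65430 = n30684 := d8_1 D65430 (iv7 D30684) (iv3 F49133)
def n65431 : Q := act 0 n30680
theorem D65431 : act 0 n30680 = n65431 := rfl
def n65432 : Q := act 1 n30680
theorem D65432 : act 1 n30680 = n65432 := rfl
def n65433 : Q := act 2 n30680
theorem D65433 : act 2 n30680 = n65433 := rfl
def n65434 : Q := act 5 n30680
theorem D65434 : act 5 n30680 = n65434 := rfl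
theorem F101151 : act 3 n65434 = n30681 := d6_1 D65434 (iv5 D30681) D30680
def n65435 : Q := act 6 n30680
theorem D65435 : act 6 n30680 = n65435 := rfl
theorem F101152 : act 3 n65435 = n30682 := d7_1 D65435 (iv6 D30682) D30680
def n65436 : Q := act 6 n30681
theorem D65436 : act 6 n30681 = n65436 := rfl
def n65437 : Q := act 1 n30682
theorem D65437 : act 1 n30682 = n65437 := rfl
def n65438 : Q := act 5 n30682
theorem D65438 : act 5 n30682 = n65438 := rfl
def n65439 : Q := act 7 n30682
theorem D65439 : act 7 n30682 = n65439 := rfl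
theorem F101153 : act 4 n65439 = n30684 := d11_1 D65439 (iv7 D30684) (iv4 F49134)
def n65440 : Q := act 4 n30683
theorem D65440 : act 4 n30683 = n65440 := rfl
theorem F101154 : act 7 n65440 = n51296 := d11_2 (iv7 F49135) D65440 F80916
theorem F101155 : act 1 n30690 = n65440 := d15_1 (iv0 F53625) F101154 F80915
theorem F101156 : act 0 n52146 = n62600 := d20_7 D65440 (iv1 F101155) (iv4 F50021) F50020 F45118 F45117 (iv4 F82432) (iv4 D62600) (iv3 F82466) (iv1 F53597)
def n65441 : Q := act 0 n30685
theorem D65441 : act 0 n30685 = n65441 := rfl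
def n65442 : Q := act 1 n30685
theorem D65442 : act 1 n30685 = n65442 := rfl
def n65443 : Q := act 2 n30685
theorem D65443 : act 2 n30685 = n65443 := rfl
def n65444 : Q := act 5 n30685
theorem D65444 : act 5 n30685 = n65444 := rfl
theorem F101157 : act 3 n65444 = n30686 := d6_1 D65444 (iv5 D30686) D30685
def n65445 : Q := act 6 n30685
theorem D65445 : act 6 n30685 = n65445 := rfl
theorem F101158 : act 3 n65445 = n30687 := d7_1 D65445 (iv6 D30687) D30685
def n65446 : Q := act 6 n30686
theorem D65446 : act 6 n30686 = n65446 := rfl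
def n65447 : Q := act 0 n30687
theorem D65447 : act 0 n30687 = n65447 := rfl
def n65448 : Q := act 1 n30687
theorem D65448 : act 1 n30687 = n65448 := rfl
def n65449 : Q := act 5 n30687
theorem D65449 : act 5 n30687 = n65449 := rfl
theorem F101159 : act 0 n65094 = n65449 := d21_7 (iv5 F80664) (iv1 D51139) (iv5 D24887) (iv6 F38969) F38970 D30568 D65094 (iv5 D65449) (iv6 D30687) (iv1 F39219)
def n65450 : Q := act 7 n30687
theorem D65450 : act 7 n30687 = n65450 := rfl
def n65451 : Q := act 0 n30688
theorem D65451 : act 0 n30688 = n65451 := rfl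
def n65452 : Q := act 1 n30688
theorem D65452 : act 1 n30688 = n65452 := rfl
def n65453 : Q := act 2 n30688
theorem D65453 : act 2 n30688 = n65453 := rfl
def n65454 : Q := act 5 n30688
theorem D65454 : act 5 n30688 = n65454 := rfl
theorem F101160 : act 3 n65454 = n30689 := d6_1 D65454 (iv5 D30689) D30688
def n65455 : Q := act 6 n30688
theorem D65455 : act 6 n30688 = n65455 := rfl
theorem F101161 : act 3 n65455 = n30690 := d7_1 D65455 (iv6 D30690) D30688
def n65456 : Q := act 6 n30689
theorem D65456 : act 6 n30689 = n65456 := rfl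
def n65457 : Q := act 5 n30690
theorem D65457 : act 5 n30690 = n65457 := rfl
def n65458 : Q := act 7 n30690
theorem D65458 : act 7 n30690 = n65458 := rfl
def n65459 : Q := act 2 n30691
theorem D65459 : act 2 n30691 = n65459 := rfl
theorem F101162 : act 7 n30692 = n65459 := d15_2 (iv0 D30691) D30692 (iv2 D65459)
def n65460 : Q := act 3 n30691
theorem D65460 : act 3 n30691 = n65460 := rfl
theorem F101163 : act 4 n65460 = n59501 := d20_6 (iv4 D14543) (iv1 D6951) D6952 D14547 D30691 D65460 (iv1 D59501) (iv4 F93902) (iv3 D59490) F45750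
def n65461 : Q := act 4 n30691
theorem D65461 : act 4 n30691 = n65461 := rfl
def n65462 : Q := act 5 n30691
theorem D65462 : act 5 n30691 = n65462 := rfl
def n65463 : Q := act 6 n30691
theorem D65463 : act 6 n30691 = n65463 := rfl
def n65464 : Q := act 7 n30691
theorem D65464 : act 7 n30691 = n65464 := rfl
theorem F101164 : act 2 n65464 = n30692 := d4_1 D65464 F101162 (iv2 D65459)
def n65465 : Q := act 3 n30692
theorem D65465 : act 3 n30692 = n65465 := rfl
def n65466 : Q := act 5 n30692
theorem D65466 : act 5 n30692 = n65466 := rfl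
def n65467 : Q := act 6 n30692
theorem D65467 : act 6 n30692 = n65467 := rfl
def n65468 : Q := act 5 n30693
theorem D65468 : act 5 n30693 = n65468 := rfl
theorem F101165 : act 2 n65468 = n30694 := d2_1 D65468 (iv5 D30694) D30693
def n65469 : Q := act 6 n30693
theorem D65469 : act 6 n30693 = n65469 := rfl
theorem F101166 : act 2 n65469 = n30695 := d3_1 D65469 (iv6 D30695) D30693
theorem F101167 : act 4 n65469 = n30777 := d10_1 D65469 (iv6 D30777) (iv4 F49138)
def n65470 : Q := act 0 n30694
theorem D65470 : act 0 n30694 = n65470 := rfl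
def n65471 : Q := act 1 n30694
theorem D65471 : act 1 n30694 = n65471 := rfl
def n65472 : Q := act 4 n30694
theorem D65472 : act 4 n30694 = n65472 := rfl
def n65473 : Q := act 6 n30694
theorem D65473 : act 6 n30694 = n65473 := rfl
theorem F101168 : act 3 n65473 = n30696 := d7_1 D65473 (iv6 D30696) (iv3 F49139)
def n65474 : Q := act 0 n30695
theorem D65474 : act 0 n30695 = n65474 := rfl
def n65475 : Q := act 1 n30695
theorem D65475 : act 1 n30695 = n65475 := rfl
def n65476 : Q := act 5 n30695
theorem D65476 : act 5 n30695 = n65476 := rfl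
theorem F101169 : act 3 n65476 = n30699 := d6_1 D65476 (iv5 D30699) (iv3 F49140)
def n65477 : Q := act 7 n30695
theorem D65477 : act 7 n30695 = n65477 := rfl
theorem F101171 : act 4 n65477 = n30785 := d11_1 D65477 (iv7 D30785) (iv4 F49141)
def n65478 : Q := act 0 n30696
theorem D65478 : act 0 n30696 = n65478 := rfl
def n65479 : Q := act 1 n30696
theorem D65479 : act 1 n30696 = n65479 := rfl
def n65480 : Q := act 5 n30696
theorem D65480 : act 5 n30696 = n65480 := rfl
theorem F101172 : act 6 n65480 = n30699 := d12_2 D30696 D65480 (iv5 D30699) (iv6 D14549) D14548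
def n65481 : Q := act 7 n30696
theorem D65481 : act 7 n30696 = n65481 := rfl
def n65482 : Q := act 2 n30697
theorem D65482 : act 2 n30697 = n65482 := rfl
theorem F101173 : act 7 n30698 = n65482 := d15_2 (iv0 D30697) D30698 (iv2 D65482)
def n65483 : Q := act 3 n30697
theorem D65483 : act 3 n30697 = n65483 := rfl
def n65484 : Q := act 4 n30697
theorem D65484 : act 4 n30697 = n65484 := rfl
def n65485 : Q := act 5 n30697
theorem D65485 : act 5 n30697 = n65485 := rfl
def n65486 : Q := act 6 n30697
theorem D65486 : act 6 n30697 = n65486 := rfl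
def n65487 : Q := act 7 n30697
theorem D65487 : act 7 n30697 = n65487 := rfl
theorem F101174 : act 2 n65487 = n30698 := d4_1 D65487 F101173 (iv2 D65482)
def n65488 : Q := act 3 n30698
theorem D65488 : act 3 n30698 = n65488 := rfl
def n65489 : Q := act 5 n30698
theorem D65489 : act 5 n30698 = n65489 := rfl
def n65490 : Q := act 6 n30698
theorem D65490 : act 6 n30698 = n65490 := rfl
def n65491 : Q := act 0 n30699
theorem D65491 : act 0 n30699 = n65491 := rfl
def n65492 : Q := act 1 n30699
theorem D65492 : act 1 n30699 = n65492 := rfl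
def n65493 : Q := act 4 n30699
theorem D65493 : act 4 n30699 = n65493 := rfl
def n65494 : Q := act 7 n30699
theorem D65494 : act 7 n30699 = n65494 := rfl
theorem F101175 : act 5 n65494 = n30700 := d13_1 D65494 (iv7 D30700) D30699
def n65496 : Q := act 1 n30701
theorem D65496 : act 1 n30701 = n65496 := rfl
theorem F101177 : act 1 n65496 = n30705 := d15_1 D65496 (iv7 D30705) D30701
def n65497 : Q := act 3 n30701
theorem D65497 : act 3 n30701 = n65497 := rfl
theorem F101178 : act 7 n65497 = n30706 := d8_2 F49143 D65497 (iv3 D30706)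
def n65498 : Q := act 4 n30701
theorem D65498 : act 4 n30701 = n65498 := rfl
theorem F101179 : act 2 n65498 = n30703 := d1_1 D65498 (iv4 D30703) D30701
theorem F101180 : act 7 n65498 = n30707 := d11_2 F49143 D65498 (iv4 D30707)
def n65499 : Q := act 5 n30701
theorem D65499 : act 5 n30701 = n65499 := rfl
theorem F101181 : act 2 n65499 = n30704 := d2_1 D65499 (iv5 D30704) D30701
theorem F101182 : act 7 n65499 = n30708 := d13_2 F49143 D65499 (iv5 D30708)
def n65500 : Q := act 0 n30702
theorem D65500 : act 0 n30702 = n65500 := rfl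
def n65501 : Q := act 1 n30702
theorem D65501 : act 1 n30702 = n65501 := rfl
def n65502 : Q := act 2 n30702
theorem D65502 : act 2 n30702 = n65502 := rfl
def n65503 : Q := act 4 n30702
theorem D65503 : act 4 n30702 = n65503 := rfl
theorem F101183 : act 0 n65503 = n31391 := d20_7 F53683 (iv1 D14583) F11233 (iv3 F11217) D14550 D30702 D65503 F49657 F24448 (iv1 F20494)
theorem F101184 : act 0 n31355 = n65503 := d20_7 (iv4 F101095) (iv1 F101097) (iv4 F80735) (iv3 D51177) (iv1 D24901) (iv3 F24424) (iv4 F49619) (iv4 D65503) (iv3 D30702) (iv1 F49127)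
def n65504 : Q := act 5 n30702
theorem D65504 : act 5 n30702 = n65504 := rfl
theorem F101185 : act 3 n65504 = n30704 := d6_1 D65504 (iv5 D30704) D30702
theorem F101186 : act 4 n65504 = n49635 := d18_5 (iv1 D31357) (iv4 F49619) F101184 (iv4 D65503) D65504 F80727 F80724 F39049 F49622
def n65505 : Q := act 7 n30702
theorem D65505 : act 7 n30702 = n65505 := rfl
theorem F101187 : act 3 n65505 = n30705 := d8_1 D65505 (iv7 D30705) D30702
def n65506 : Q := act 0 n30703
theorem D65506 : act 0 n30703 = n65506 := rfl
def n65507 : Q := act 1 n30703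
theorem D65507 : act 1 n30703 = n65507 := rfl
theorem F101188 : act 1 n65507 = n30707 := d15_1 D65507 (iv7 F101180) F101179
def n65508 : Q := act 3 n30703
theorem D65508 : act 3 n30703 = n65508 := rfl
def n65509 : Q := act 5 n30703
theorem D65509 : act 5 n30703 = n65509 := rfl
def n65510 : Q := act 7 n30703
theorem D65510 : act 7 n30703 = n65510 := rfl
theorem F101189 : act 2 n65510 = n30707 := d4_1 D65510 (iv7 F101180) F101179
theorem F101190 : act 4 n65510 = n30705 := d11_1 D65510 (iv7 D30705) D30703
theorem F101191 : act 1 n30707 = n65506 := d15_0 (iv0 D65506) D65510 F101189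
def n65511 : Q := act 4 n30704
theorem D65511 : act 4 n30704 = n65511 := rfl
def n65512 : Q := act 6 n30704
theorem D65512 : act 6 n30704 = n65512 := rfl
def n65513 : Q := act 7 n30704
theorem D65513 : act 7 n30704 = n65513 := rfl
theorem F101193 : act 5 n65513 = n30705 := d13_1 D65513 (iv7 D30705) D30704
def n65514 : Q := act 6 n30705
theorem D65514 : act 6 n30705 = n65514 := rfl
theorem F101194 : act 2 n65514 = n30709 := d3_1 D65514 (iv6 D30709) (iv2 F49147)
theorem F101195 : act 1 n65514 = n65390 := d15_0 (iv0 F101087) F100778 (iv2 F101194)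
def n65515 : Q := act 0 n30706
theorem D65515 : act 0 n30706 = n65515 := rfl
def n65516 : Q := act 1 n30706
theorem D65516 : act 1 n30706 = n65516 := rfl
def n65517 : Q := act 2 n30706
theorem D65517 : act 2 n30706 = n65517 := rfl
def n65518 : Q := act 4 n30706
theorem D65518 : act 4 n30706 = n65518 := rfl
def n65519 : Q := act 5 n30706
theorem D65519 : act 5 n30706 = n65519 := rfl
theorem F101196 : act 3 n65519 = n30708 := d6_1 D65519 (iv5 D30708) D30706
def n65520 : Q := act 6 n30706
theorem D65520 : act 6 n30706 = n65520 := rfl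
theorem F101197 : act 3 n65520 = n30709 := d7_1 D65520 (iv6 D30709) D30706
def n65521 : Q := act 3 n30707
theorem D65521 : act 3 n30707 = n65521 := rfl
def n65522 : Q := act 5 n30707
theorem D65522 : act 5 n30707 = n65522 := rfl
def n65523 : Q := act 6 n30707
theorem D65523 : act 6 n30707 = n65523 := rfl
theorem F101198 : act 4 n65523 = n30709 := d10_1 D65523 (iv6 D30709) D30707
def n65524 : Q := act 4 n30708
theorem D65524 : act 4 n30708 = n65524 := rfl
def n65525 : Q := act 0 n30709
theorem D65525 : act 0 n30709 = n65525 := rfl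
theorem F101199 : act 6 n65525 = n63430 := d21_5 F39115 F49148 (iv5 D30708) D30709 D65525 F98756 F98757 (iv5 D30964) D30965 (iv1 F79380)
theorem F101200 : act 5 n65525 = n51289 := d21_0 (iv1 D51289) F39081 (iv6 D24935) (iv1 F19240) D24945 F39115 F49148 (iv5 D30708) D30709 D65525
theorem F101201 : act 2 n65385 = n65525 := d15_3 (iv0 D65525) (iv0 F101141) F101140
theorem F101202 : act 7 n65525 = n65390 := d4_2 F101140 F101201 (iv2 F101139)
theorem E8996 : n65514 = n65407 := ((c15_1 (iv0 F101107) F101195 (iv7 F101202) (iv2 F101201))).symm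
theorem F101203 : act 1 n65407 = n65390 := (sb E8996 F101195)
theorem F101204 : act 2 n65407 = n30709 := (sb E8996 F101194)
theorem E8997 : n30705 = n30669 := ((((iv6 D65407)).symm.trans (sb E8996 (iv6 D65514)))).symm
theorem E8998 : n65496 = n14536 := ((((iv1 D30669)).symm.trans (sb E8997 (iv1 F101177)))).symm
theorem E9000 : n65404 = n14551 := (((iv2 F101103)).symm.trans (sb E8997 F49147))
theorem E9001 : n65505 = n65405 := (((D65405).symm.trans (sb E8997 (iv3 F101187)))).symm
theorem E9002 : n65510 = n65406 := (((D65406).symm.trans (sb E8997 (iv4 F101190)))).symm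
theorem E9003 : n65513 = n25869 := ((((iv5 F49123)).symm.trans (sb E8997 (iv5 F101193)))).symm
theorem E9004 : n65401 = n14550 := ((F101101).symm.trans (sb E8997 (iv7 D30705)))
theorem E9005 : n30701 = n30668 := (((D30668).symm.trans (sb E8998 (iv1 D65496)))).symm
theorem F101205 : act 2 n14551 = n30669 := (sb E9000 F101103)
theorem E9006 : n53393 = n30708 := (((D30708).symm.trans (sb E9000 F101104))).symm
theorem F101206 : act 7 n65405 = n30702 := (sb E9001 (iv7 D65505))
theorem F101207 : act 2 n65406 = n30707 := (sb E9002 F101189)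
theorem F101208 : act 7 n65406 = n30703 := (sb E9002 (iv7 D65510))
theorem E9007 : n53396 = n30704 := ((D53396).symm.trans (sb E9003 (iv7 D65513)))
theorem F101209 : act 7 n14550 = n30669 := (sb E9004 (iv7 F101101))
theorem F101210 : act 2 n30668 = n14550 := (sb E9005 (iv2 D30701))
theorem E9008 : n65497 = n65402 := (((D65402).symm.trans (sb E9005 D65497))).symm
theorem E9009 : n65498 = n65403 := (((D65403).symm.trans (sb E9005 D65498))).symm
theorem E9010 : n65499 = n25870 := (((F49121).symm.trans (sb E9005 D65499))).symm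
theorem E9011 : n64975 = n51262 := ((((iv6 F80854)).symm.trans (sb E9005 (iv6 F100772)))).symm
theorem F101211 : act 7 n30668 = n14551 := (sb E9005 (iv7 F49143))
theorem F101212 : act 2 n30708 = n25869 := (sb E9006 (iv2 D53393))
theorem F101213 : act 7 n30704 = n25869 := (sb E9007 (iv7 D53396))
theorem F101214 : act 7 n65402 = n30706 := (sb E9008 F101178)
theorem F101215 : act 2 n65403 = n30703 := (sb E9009 F101179)
theorem F101216 : act 7 n65403 = n30707 := (sb E9009 F101180)
theorem F101217 : act 2 n25870 = n30704 := (sb E9010 F101181)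
theorem F101218 : act 7 n25870 = n30708 := (sb E9010 F101182)
theorem F101219 : act 2 n51262 = n30524 := (sb E9011 (iv2 D64975))
theorem F101220 : act 7 n51262 = n30525 := (sb E9011 (iv7 F100773))
theorem F101221 : act 7 n50070 = n34111 := d13_2 F101220 (iv5 F79261) (iv5 F80855)
theorem E9012 : n64978 = n51263 := (c15_4 F80856 F80862 F101220 (iv2 F100776))
theorem F101222 : act 2 n51263 = n30525 := (sb E9012 F100776)
theorem F101223 : act 7 n51263 = n30524 := (sb E9012 (iv7 D64978))
theorem F101224 : act 7 n50071 = n34110 := d13_2 F101223 F79263 F80857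
theorem F101225 : act 2 n34110 = n50070 := d15_3 (iv0 D50070) D50071 F101224
theorem F101226 : act 2 n50071 = n34111 := d4_1 (iv7 F101224) (iv7 F101221) (iv2 F101225)
theorem F101227 : act 7 n65519 = n53397 := d8_2 F101218 (iv3 F101196) (iv3 D53397)
theorem F101228 : act 7 n65524 = n53398 := d11_2 F101218 D65524 (iv4 D53398)
theorem F101229 : act 2 n65511 = n53398 := d1_3 (iv4 D53398) F101217 D65511
theorem F101230 : act 2 n65512 = n53399 := d3_3 (iv6 D53399) F101217 D65512
theorem F101231 : act 7 n53394 = n65504 := d8_2 F101213 D53394 F101185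
theorem F101232 : act 7 n53395 = n65511 := d11_2 F101213 D53395 (iv4 D65511)
theorem F101233 : act 2 n65524 = n53395 := d4_3 F101232 F101229 (iv7 F101228)
theorem F101234 : act 7 n49635 = n51169 := d11_2 F101231 F101186 (iv4 F84252)
theorem F101235 : act 2 n51169 = n49634 := d15_3 (iv0 D49634) D49635 F101234
theorem F101236 : act 2 n49635 = n51170 := d15_3 F80721 F80726 (iv7 F101234)
theorem F101237 : act 7 n51170 = n49634 := d4_2 (iv7 F101234) F101236 (iv2 F101235)
theorem F101238 : act 7 n65503 = n31389 := d11_2 F101206 D65503 (iv4 F101106)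
theorem F101239 : act 2 n65503 = n31388 := d15_3 (iv0 D31388) D31389 (iv7 F101238)
theorem F101240 : act 4 n31388 = n65502 := d1_2 D65503 F101239 (iv2 D65502)
theorem F101241 : act 0 n50411 = n51447 := d21_1 (iv5 F79769) (iv5 F81223) (iv6 F101086) (iv1 F101203) (iv6 D65407) (iv5 F49123) (iv1 F78089) (iv5 F80927) F80928 (iv1 F80877)
def n65526 : Q := act 3 n30711
theorem D65526 : act 3 n30711 = n65526 := rfl
theorem F101242 : act 7 n65526 = n65032 := d8_2 (iv7 F49156) D65526 (iv3 D65032)
def n65527 : Q := act 5 n30711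
theorem D65527 : act 5 n30711 = n65527 := rfl
theorem F101243 : act 2 n65527 = n63049 := d2_1 D65527 (iv5 D63049) (iv2 F49155)
theorem F101244 : act 7 n65527 = n65033 := d13_2 (iv7 F49156) D65527 (iv5 D65033)
theorem F101245 : act 4 n65527 = n63394 := d16_2 D30711 D65527 (iv5 D63394) F48155 (iv5 F46368) (iv4 D14556) D14557 F24211 (iv2 F24197)
theorem F101246 : act 0 n65527 = n50080 := d17_2 F95115 D65527 (iv5 D50080) F38366 (iv5 F38994) (iv0 F46509) D34130 F53571 D60504
theorem F101247 : act 1 n65527 = n50083 := d17_6 (iv1 F19437) F11203 D6954 D14554 D30711 D65527 (iv5 D50083) F38364 F38362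
def n65528 : Q := act 6 n30711
theorem D65528 : act 6 n30711 = n65528 := rfl
theorem F101248 : act 2 n65528 = n63046 := d3_1 D65528 F98359 (iv2 F49155)
theorem F101249 : act 4 n65528 = n30712 := d10_1 D65528 (iv6 D30712) D30711
def n65529 : Q := act 0 n30712
theorem D65529 : act 0 n30712 = n65529 := rfl
theorem F101250 : act 1 n63047 = n65529 := d15_0 (iv0 D65529) (iv7 F49331) (iv2 F98360)
def n65530 : Q := act 1 n30712
theorem D65530 : act 1 n30712 = n65530 := rfl
theorem F101251 : act 1 n65530 = n63047 := d15_1 D65530 (iv7 D63047) (iv2 F49157)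
theorem F101252 : act 5 n63094 = n65530 := d21_6 F46685 (iv1 F38351) F18865 D14179 D29839 D63094 (iv1 D65530) F49158 (iv6 D29783) (iv1 F46687)
theorem F101253 : act 6 n65530 = n53372 := d12_2 D63094 F101252 (iv5 F84201) (iv6 D51468) F79597
theorem F101254 : act 7 n65530 = n63044 := d13_2 F98793 F101252 (iv5 F98794)
theorem F101255 : act 2 n63044 = n65529 := d15_3 (iv0 D65529) D65530 F101254
theorem F101256 : act 2 n65530 = n63045 := d15_3 F98358 F98363 (iv7 F101254)
theorem F101257 : act 6 n63045 = n30856 := d3_2 (iv6 F101253) F101256 (iv2 F84205)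
theorem F101258 : act 7 n63045 = n65529 := d4_2 (iv7 F101254) F101256 (iv2 F101255)
def n65531 : Q := act 3 n30717
theorem D65531 : act 3 n30717 = n65531 := rfl
theorem F101259 : act 7 n65531 = n63048 := d8_2 (iv7 F49185) D65531 (iv3 D63048)
def n65532 : Q := act 5 n30717
theorem D65532 : act 5 n30717 = n65532 := rfl
theorem F101260 : act 2 n65532 = n65033 := d2_1 D65532 (iv5 D65033) (iv2 F49184)
theorem F101261 : act 4 n65532 = n63391 := d9_1 D65532 (iv5 D63391) F48152 F46364 (iv4 D14553) D14554 D30711 D65527 F101245 (iv5 D63394) F48155 (iv5 F46368) (iv4 D14556) D14557 D30717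
theorem F101262 : act 7 n65532 = n63049 := d13_2 (iv7 F49185) D65532 (iv5 D63049)
theorem F101263 : act 0 n65532 = n50083 := d17_2 F78956 D65532 (iv5 D50083) (iv4 F38945) (iv5 F38943) F80262 F80258 (iv0 D49914) D49915
theorem F101264 : act 1 n65532 = n50080 := d17_6 D11525 (iv5 F24187) (iv1 F24188) D14557 D30717 D65532 (iv5 D50080) (iv0 D24424) (iv4 D11527)
def n65533 : Q := act 3 n30718
theorem D65533 : act 3 n30718 = n65533 := rfl
theorem F101265 : act 4 n65533 = n51110 := d5_2 (iv4 F49186) D65533 (iv3 D51110) (iv4 D24877) (iv3 F38997)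
def n65534 : Q := act 6 n30718
theorem D65534 : act 6 n30718 = n65534 := rfl
theorem F101266 : act 4 n65534 = n51107 := d10_1 D65534 (iv6 D51107) (iv4 F49186)
theorem F101267 : act 0 n30926 = n65534 := d20_1 D30926 F101266 F80621 (iv1 F93914) (iv3 D31737) D31738 F82146 F82142 (iv3 F40804) (iv1 F40805)
def n65535 : Q := act 0 n30719
theorem D65535 : act 0 n30719 = n65535 := rfl
def n65536 : Q := act 1 n30719
theorem D65536 : act 1 n30719 = n65536 := rfl
def n65537 : Q := act 2 n30719
theorem D65537 : act 2 n30719 = n65537 := rfl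
theorem F101268 : act 4 n65537 = n30727 := d1_2 (iv4 F49187) D65537 (iv2 D30727)
def n65538 : Q := act 5 n30719
theorem D65538 : act 5 n30719 = n65538 := rfl
theorem F101269 : act 3 n65538 = n30720 := d6_1 D65538 (iv5 D30720) D30719
def n65539 : Q := act 6 n30719
theorem D65539 : act 6 n30719 = n65539 := rfl
theorem F101270 : act 3 n65539 = n30721 := d7_1 D65539 (iv6 D30721) D30719
theorem F101271 : act 4 n65539 = n30729 := d10_1 D65539 (iv6 D30729) (iv4 F49187)
def n65540 : Q := act 6 n30720
theorem D65540 : act 6 n30720 = n65540 := rfl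
def n65541 : Q := act 0 n30721
theorem D65541 : act 0 n30721 = n65541 := rfl
def n65542 : Q := act 1 n30721
theorem D65542 : act 1 n30721 = n65542 := rfl
def n65543 : Q := act 5 n30721
theorem D65543 : act 5 n30721 = n65543 := rfl
def n65544 : Q := act 7 n30721
theorem D65544 : act 7 n30721 = n65544 := rfl
theorem F101272 : act 4 n65544 = n30724 := d11_1 D65544 (iv7 D30724) (iv4 F49190)
def n65545 : Q := act 3 n30722
theorem D65545 : act 3 n30722 = n65545 := rfl
def n65546 : Q := act 4 n30722
theorem D65546 : act 4 n30722 = n65546 := rfl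
def n65547 : Q := act 5 n30722
theorem D65547 : act 5 n30722 = n65547 := rfl
theorem F101273 : act 2 n65547 = n51720 := d2_1 D65547 (iv5 F84032) (iv2 F99258)
theorem F101274 : act 7 n65547 = n51784 := d13_2 (iv7 F99256) D65547 F84035
theorem F101275 : act 6 n65547 = n51695 := d21_3 (iv5 F24221) D30722 D65547 (iv1 D51695) (iv6 D25109) (iv5 F22361) (iv1 F22473) (iv5 F22585) D25047 F39309
def n65548 : Q := act 6 n30722
theorem D65548 : act 6 n30722 = n65548 := rfl
theorem F101276 : act 2 n65548 = n53367 := d3_1 D65548 F84190 (iv2 F99258)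
theorem F101277 : act 7 n65548 = n53362 := d14_2 (iv7 F99256) D65548 (iv6 F95939) F99253 F99208
theorem F101278 : act 5 n65548 = n34103 := d21_6 (iv5 F19651) (iv1 D11922) (iv5 F11219) D14560 D30722 D65548 (iv1 F53514) F40769 (iv6 D25795) (iv1 F20297)
theorem F101279 : act 0 n65548 = n64401 := d21_1 (iv5 F101278) (iv5 F100581) (iv6 D64703) (iv1 D30441) (iv6 F26058) (iv5 D16488) (iv1 F11890) (iv5 F11903) D16515 D34103
def n65549 : Q := act 3 n30723
theorem D65549 : act 3 n30723 = n65549 := rfl
def n65550 : Q := act 4 n30723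
theorem D65550 : act 4 n30723 = n65550 := rfl
def n65551 : Q := act 5 n30723
theorem D65551 : act 5 n30723 = n65551 := rfl
theorem F101280 : act 2 n65551 = n51784 := d2_1 D65551 F84035 F99255
theorem F101281 : act 6 n65551 = n51765 := d12_2 F99246 D65551 F81744 D63838 F99243
theorem F101282 : act 7 n65551 = n51720 := d13_2 F99257 D65551 (iv5 F84032)
def n65552 : Q := act 2 n30725
theorem D65552 : act 2 n30725 = n65552 := rfl
theorem F101283 : act 7 n30726 = n65552 := d15_2 (iv0 D30725) D30726 (iv2 D65552)
def n65553 : Q := act 3 n30725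
theorem D65553 : act 3 n30725 = n65553 := rfl
def n65554 : Q := act 4 n30725
theorem D65554 : act 4 n30725 = n65554 := rfl
def n65555 : Q := act 5 n30725
theorem D65555 : act 5 n30725 = n65555 := rfl
def n65556 : Q := act 6 n30725
theorem D65556 : act 6 n30725 = n65556 := rfl
def n65557 : Q := act 7 n30725
theorem D65557 : act 7 n30725 = n65557 := rfl
theorem F101284 : act 2 n65557 = n30726 := d4_1 D65557 F101283 (iv2 D65552)
def n65558 : Q := act 3 n30726
theorem D65558 : act 3 n30726 = n65558 := rfl
def n65559 : Q := act 4 n30726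
theorem D65559 : act 4 n30726 = n65559 := rfl
def n65560 : Q := act 5 n30726
theorem D65560 : act 5 n30726 = n65560 := rfl
def n65561 : Q := act 6 n30726
theorem D65561 : act 6 n30726 = n65561 := rfl
def n65562 : Q := act 5 n30727
theorem D65562 : act 5 n30727 = n65562 := rfl
theorem F101285 : act 2 n65562 = n30728 := d2_1 D65562 (iv5 D30728) D30727
def n65563 : Q := act 6 n30727
theorem D65563 : act 6 n30727 = n65563 := rfl
theorem F101286 : act 2 n65563 = n30729 := d3_1 D65563 (iv6 D30729) D30727
def n65564 : Q := act 0 n30728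
theorem D65564 : act 0 n30728 = n65564 := rfl
def n65565 : Q := act 1 n30728
theorem D65565 : act 1 n30728 = n65565 := rfl
def n65566 : Q := act 4 n30728
theorem D65566 : act 4 n30728 = n65566 := rfl
theorem F101287 : act 3 n65566 = n31540 := d5_1 D65566 (iv4 D31540) F24517 (iv4 F24222) (iv3 F49193)
def n65567 : Q := act 6 n30728
theorem D65567 : act 6 n30728 = n65567 := rfl
theorem F101288 : act 3 n65567 = n30730 := d7_1 D65567 (iv6 D30730) (iv3 F49193)
def n65568 : Q := act 0 n30729
theorem D65568 : act 0 n30729 = n65568 := rfl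
def n65569 : Q := act 1 n30729
theorem D65569 : act 1 n30729 = n65569 := rfl
def n65570 : Q := act 5 n30729
theorem D65570 : act 5 n30729 = n65570 := rfl
theorem F101289 : act 3 n65570 = n30733 := d6_1 D65570 (iv5 D30733) (iv3 F49194)
def n65571 : Q := act 7 n30729
theorem D65571 : act 7 n30729 = n65571 := rfl
theorem F101290 : act 3 n65571 = n30734 := d8_1 D65571 (iv7 D30734) (iv3 F49194)
def n65572 : Q := act 0 n30730
theorem D65572 : act 0 n30730 = n65572 := rfl
theorem F101291 : act 6 n65572 = n65368 := d21_5 F11279 (iv1 F11221) D14562 D30730 D65572 (iv5 D65368) (iv1 D30656) F24171 (iv6 D7033) D7031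
def n65573 : Q := act 1 n30730
theorem D65573 : act 1 n30730 = n65573 := rfl
def n65574 : Q := act 5 n30730
theorem D65574 : act 5 n30730 = n65574 := rfl
theorem F101292 : act 6 n65574 = n30733 := d12_2 D30730 D65574 (iv5 D30733) (iv6 D14563) D14562
def n65575 : Q := act 7 n30730
theorem D65575 : act 7 n30730 = n65575 := rfl
theorem F101293 : act 4 n65575 = n31544 := d11_1 D65575 (iv7 D31544) (iv4 F49195)
def n65576 : Q := act 3 n30731
theorem D65576 : act 3 n30731 = n65576 := rfl
def n65577 : Q := act 5 n30731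
theorem D65577 : act 5 n30731 = n65577 := rfl
def n65578 : Q := act 6 n30731
theorem D65578 : act 6 n30731 = n65578 := rfl
theorem F101294 : act 2 n65578 = n59802 := d3_1 D65578 F94143 (iv2 F79950)
theorem F101295 : act 4 n65578 = n31427 := d10_1 D65578 (iv6 D31427) (iv4 F79951)
theorem F101296 : act 7 n65578 = n59794 := d14_2 (iv7 F79952) D65578 (iv6 F95427) (iv7 F96921) F96920
theorem F101297 : act 5 n65578 = n31320 := d21_6 D12322 (iv1 F24224) (iv5 D14562) D14563 D30731 D65578 (iv1 D31320) (iv5 D14765) (iv6 D7034) (iv1 F9002)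
theorem F101298 : act 2 n31320 = n53822 := d2_1 F101297 (iv5 F94144) (iv2 F101294)
theorem F101299 : act 7 n31320 = n53821 := d13_2 (iv7 F101296) F101297 F94156
theorem E9013 : n31311 = n23830 := (c17_10 (iv1 F37158) F18674 (iv1 F37159) (iv5 F49714) (iv4 F101295) F101297 F53874 (iv5 D34235) F26236 D31311)
theorem E9014 : n48880 = n14763 := ((D48880).symm.trans (sb E9013 (iv4 D31311)))
theorem E9015 : n31309 = n26018 := ((D31309).symm.trans (sb E9014 F94146))
theorem F101300 : act 4 n14763 = n23830 := (sb E9014 (iv4 D48880))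
theorem E9016 : n60973 = n31313 := (((D31313).symm.trans (sb E9014 (iv6 F95512)))).symm
theorem E9017 : n31314 = n26019 := ((D31314).symm.trans (sb E9014 (iv7 F94150)))
theorem F101301 : act 2 n26018 = n14763 := (sb E9015 (iv2 D31309))
theorem E9018 : n48882 = n14764 := (((iv7 F94148)).symm.trans (sb E9015 (iv7 F49578)))
theorem F101302 : act 0 n31313 = n53574 := (sb E9016 (iv1 F96724))
theorem F101303 : act 1 n31313 = n65206 := (sb E9016 F100968)
theorem F101304 : act 2 n31313 = n53815 := (sb E9016 F95511)
theorem F101305 : act 4 n31313 = n28908 := (sb E9016 (iv4 D60973))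
theorem F101306 : act 7 n31313 = n62241 := (sb E9016 (iv7 F97035))
theorem F101307 : act 7 n26019 = n14763 := (sb E9017 (iv7 D31314))
theorem F101308 : act 2 n14764 = n26019 := (sb E9018 (iv2 F94149))
theorem E9019 : n31316 = n23831 := ((D31316).symm.trans (sb E9018 (iv4 D48882)))
theorem E9020 : n59008 = n31318 := (((D31318).symm.trans (sb E9018 (iv6 F93204)))).symm
theorem F101309 : act 7 n14764 = n26018 := (sb E9018 F94148)
theorem F101310 : act 4 n23831 = n14764 := (sb E9019 (iv4 D31316))
theorem F101311 : act 0 n31318 = n65151 := (sb E9020 (iv1 F100925))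
theorem F101312 : act 1 n31318 = n53638 := (sb E9020 F93205)
theorem F101313 : act 2 n31318 = n53820 := (sb E9020 (iv2 F94153))
theorem F101314 : act 4 n31318 = n28041 := (sb E9020 (iv4 D59008))
theorem F101315 : act 7 n31318 = n59239 := (sb E9020 (iv7 F93446))
theorem F101316 : act 0 n64932 = n49772 := d20_7 F101310 (iv1 D14764) F11285 (iv3 F11190) D14478 D30507 D64932 F78631 F38035 (iv1 F37159)
theorem E9021 : n64935 = n64153 := (c20_2 D30508 D64935 F99865 F92815 (iv1 F45139) (iv3 F100181) F101310 (iv1 D14764) F11285 (iv3 F11190) D14478)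
theorem F101317 : act 0 n64153 = n30513 := (sb E9021 (iv1 F100721))
theorem F101318 : act 1 n64153 = n30508 := (sb E9021 (iv0 D64935))
theorem F101319 : act 0 n51143 = n31325 := d20_7 (iv4 F26233) (iv1 F26235) (iv4 F101310) F100181 (iv1 D24925) (iv3 F39023) (iv4 F80678) (iv4 D31325) (iv3 D14767) (iv1 F11964)
theorem E9022 : n64936 = n63963 := ((c15_4 F100722 (iv0 F101317) F99866 (iv2 F99526))).symm
theorem F101320 : act 0 n63963 = n30508 := (sb E9022 (iv1 D64936))
theorem F101321 : act 1 n63963 = n30513 := (sb E9022 F100722)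
theorem F101323 : act 7 n53812 = n31315 := d8_2 F101309 D53812 (iv3 D31315)
theorem F101324 : act 7 n53814 = n31317 := d13_2 F101309 D53814 (iv5 D31317)
theorem F101325 : act 2 n53819 = n31317 := d2_3 (iv5 D31317) F101308 D53819
theorem F101326 : act 7 n31310 = n53817 := d8_2 F101307 D31310 (iv3 D53817)
theorem F101327 : act 7 n31312 = n53819 := d13_2 F101307 D31312 (iv5 D53819)
theorem F101328 : act 2 n53814 = n31312 := d4_3 F101327 F101325 (iv7 F101324)
theorem F101329 : act 2 n53821 = n31319 := d15_3 (iv0 D31319) D31320 F101299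
theorem F101330 : act 7 n53822 = n31319 := d4_2 (iv7 F101299) F101298 (iv2 F101329)
theorem F101331 : act 1 n65031 = n59794 := d15_1 (iv0 F100829) (iv7 F101296) F101294
theorem F101332 : act 0 n65578 = n30818 := d18_2 F53901 (iv4 F101295) F49240 (iv5 F48946) (iv4 F100827) F101331 (iv4 D59794) (iv0 F45847) (iv5 F53899)
def n65579 : Q := act 3 n30732
theorem D65579 : act 3 n30732 = n65579 := rfl
def n65580 : Q := act 5 n30732
theorem D65580 : act 5 n30732 = n65580 := rfl
def n65581 : Q := act 0 n30733
theorem D65581 : act 0 n30733 = n65581 := rfl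
theorem F101333 : act 5 n65581 = n34200 := d17_3 (iv1 D30732) D30733 D65581 F53823 F38040 (iv0 D11762) (iv5 F11309) D14813 (iv4 F49196)
theorem F101334 : act 2 n65243 = n65581 := d15_3 (iv0 D65581) F49197 D65243
theorem F101335 : act 7 n65581 = n34199 := d4_2 D65243 F101334 F53821
theorem F101336 : act 1 n65241 = n65581 := d15_1 D65241 F101335 F53821
def n65582 : Q := act 4 n30733
theorem D65582 : act 4 n30733 = n65582 := rfl
theorem F101337 : act 1 n65582 = n65134 := d18_6 (iv1 F49711) (iv4 D30738) (iv1 D14565) (iv4 F24225) D30733 D65582 (iv4 D65134) D65133 F100908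
def n65583 : Q := act 7 n30733
theorem D65583 : act 7 n30733 = n65583 := rfl
theorem F101338 : act 2 n65583 = n65241 := d4_1 D65583 F100988 F79955
theorem F101339 : act 5 n65583 = n30734 := d13_1 D65583 (iv7 D30734) D30733
theorem F101340 : act 1 n34199 = n65583 := d15_1 F79956 (iv7 D65583) (iv2 F79955)
theorem F101341 : act 1 n65583 = n65243 := d15_1 F101340 (iv7 D65243) (iv2 F53821)
def n65584 : Q := act 0 n30735
theorem D65584 : act 0 n30735 = n65584 := rfl
def n65585 : Q := act 1 n30735
theorem D65585 : act 1 n30735 = n65585 := rfl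
def n65586 : Q := act 2 n30735
theorem D65586 : act 2 n30735 = n65586 := rfl
def n65587 : Q := act 4 n30735
theorem D65587 : act 4 n30735 = n65587 := rfl
def n65588 : Q := act 3 n30736
theorem D65588 : act 3 n30736 = n65588 := rfl
def n65589 : Q := act 5 n30736
theorem D65589 : act 5 n30736 = n65589 := rfl
def n65592 : Q := act 2 n30737
theorem D65592 : act 2 n30737 = n65592 := rfl
def n65594 : Q := act 3 n30738
theorem D65594 : act 3 n30738 = n65594 := rfl
def n65595 : Q := act 5 n30738
theorem D65595 : act 5 n30738 = n65595 := rfl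
def n65596 : Q := act 2 n30739
theorem D65596 : act 2 n30739 = n65596 := rfl
theorem F101342 : act 7 n30740 = n65596 := d15_2 (iv0 D30739) D30740 (iv2 D65596)
def n65597 : Q := act 3 n30739
theorem D65597 : act 3 n30739 = n65597 := rfl
def n65598 : Q := act 4 n30739
theorem D65598 : act 4 n30739 = n65598 := rfl
def n65599 : Q := act 5 n30739
theorem D65599 : act 5 n30739 = n65599 := rfl
def n65600 : Q := act 6 n30739
theorem D65600 : act 6 n30739 = n65600 := rfl
def n65601 : Q := act 7 n30739
theorem D65601 : act 7 n30739 = n65601 := rfl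
theorem F101343 : act 2 n65601 = n30740 := d4_1 D65601 F101342 (iv2 D65596)
def n65602 : Q := act 3 n30740
theorem D65602 : act 3 n30740 = n65602 := rfl
def n65603 : Q := act 4 n30740
theorem D65603 : act 4 n30740 = n65603 := rfl
def n65604 : Q := act 5 n30740
theorem D65604 : act 5 n30740 = n65604 := rfl
def n65605 : Q := act 6 n30740
theorem D65605 : act 6 n30740 = n65605 := rfl
def n65606 : Q := act 5 n30741
theorem D65606 : act 5 n30741 = n65606 := rfl
theorem F101344 : act 2 n65606 = n30742 := d2_1 D65606 (iv5 D30742) D30741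
def n65607 : Q := act 6 n30741
theorem D65607 : act 6 n30741 = n65607 := rfl
theorem F101345 : act 2 n65607 = n30743 := d3_1 D65607 (iv6 D30743) D30741
def n65608 : Q := act 0 n30742
theorem D65608 : act 0 n30742 = n65608 := rfl
def n65609 : Q := act 1 n30742
theorem D65609 : act 1 n30742 = n65609 := rfl
def n65610 : Q := act 4 n30742
theorem D65610 : act 4 n30742 = n65610 := rfl
theorem F101346 : act 3 n65610 = n31524 := d5_1 D65610 (iv4 D31524) F24515 (iv4 F24227) (iv3 F49200)
def n65611 : Q := act 6 n30742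
theorem D65611 : act 6 n30742 = n65611 := rfl
theorem F101347 : act 3 n65611 = n30744 := d7_1 D65611 (iv6 D30744) (iv3 F49200)
def n65612 : Q := act 0 n30743
theorem D65612 : act 0 n30743 = n65612 := rfl
def n65613 : Q := act 1 n30743
theorem D65613 : act 1 n30743 = n65613 := rfl
def n65614 : Q := act 5 n30743
theorem D65614 : act 5 n30743 = n65614 := rfl
theorem F101348 : act 3 n65614 = n30746 := d6_1 D65614 (iv5 D30746) (iv3 F49201)
def n65615 : Q := act 0 n30744
theorem D65615 : act 0 n30744 = n65615 := rfl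
theorem F101349 : act 6 n65615 = n49036 := d21_5 F11283 (iv1 F11224) D14568 D30744 D65615 (iv5 F77403) (iv1 D32285) (iv5 D15223) (iv6 D7214) (iv1 F11282)
theorem F101350 : act 2 n60421 = n65615 := d3_3 F101349 F77399 D60421
theorem F101351 : act 4 n31560 = n65615 := d10_3 F101349 (iv4 D49036) (iv6 F49892)
def n65616 : Q := act 1 n30744
theorem D65616 : act 1 n30744 = n65616 := rfl
theorem F101352 : act 7 n65616 = n60421 := d15_2 (iv0 D65615) D65616 F101350
theorem F101353 : act 4 n31561 = n65616 := d11_3 F101352 F94928 (iv7 F49894)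
theorem E9023 : n61762 = n61206 := ((c18_7 (iv1 F50179) F101353 (iv1 D65616) F49202 F24516 (iv4 F46607) D61206 (iv4 D61762) F47824 (iv5 F50177))).symm
theorem F101354 : act 4 n61206 = n29275 := (sb E9023 (iv4 D61762))
def n65617 : Q := act 5 n30744
theorem D65617 : act 5 n30744 = n65617 := rfl
theorem F101355 : act 6 n65617 = n30746 := d12_2 D30744 D65617 (iv5 D30746) (iv6 D14569) D14568
def n65618 : Q := act 7 n30744
theorem D65618 : act 7 n30744 = n65618 := rfl
theorem F101356 : act 4 n65618 = n31527 := d11_1 D65618 (iv7 D31527) (iv4 F49202)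
def n65619 : Q := act 3 n30745
theorem D65619 : act 3 n30745 = n65619 := rfl
theorem F101357 : act 7 n65619 = n49977 := d8_2 (iv7 F49203) D65619 F79058
def n65620 : Q := act 5 n30745
theorem D65620 : act 5 n30745 = n65620 := rfl
theorem F101358 : act 7 n65620 = n49978 := d13_2 (iv7 F49203) D65620 (iv5 D49978)
def n65621 : Q := act 0 n30746
theorem D65621 : act 0 n30746 = n65621 := rfl
theorem F101359 : act 5 n65621 = n62241 := d17_3 (iv1 D30745) D30746 D65621 (iv4 D62241) (iv5 D29453) (iv0 D14005) (iv5 F11314) D14821 F49204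
def n65622 : Q := act 1 n30746
theorem D65622 : act 1 n30746 = n65622 := rfl
theorem F101360 : act 5 n53815 = n65622 := d21_6 (iv5 F11279) (iv1 F11281) (iv5 F9011) D12332 D26018 D53815 (iv1 D65622) (iv5 D30746) (iv6 D14569) F11223
def n65623 : Q := act 4 n30746
theorem D65623 : act 4 n30746 = n65623 := rfl
def n65624 : Q := act 2 n30747
theorem D65624 : act 2 n30747 = n65624 := rfl
theorem F101361 : act 5 n65624 = n59952 := d2_2 (iv5 F94441) D65624 (iv2 D59952)
theorem F101362 : act 7 n30748 = n65624 := d15_2 (iv0 D30747) D30748 (iv2 D65624)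
theorem E9024 : n59959 = n30748 := (c13_4 F101362 F101361 (iv7 F94438) D59959)
theorem F101363 : act 5 n30748 = n28473 := (sb E9024 (iv5 D59959))
def n65625 : Q := act 3 n30747
theorem D65625 : act 3 n30747 = n65625 := rfl
theorem F101364 : act 5 n65625 = n59953 := d6_2 (iv5 F94441) D65625 (iv3 D59953)
def n65626 : Q := act 4 n30747
theorem D65626 : act 4 n30747 = n65626 := rfl
def n65627 : Q := act 6 n30747
theorem D65627 : act 6 n30747 = n65627 := rfl
def n65628 : Q := act 7 n30747
theorem D65628 : act 7 n30747 = n65628 := rfl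
theorem F101365 : act 2 n65628 = n30748 := d4_1 D65628 F101362 (iv2 D65624)
theorem F101366 : act 5 n65628 = n59956 := d13_1 D65628 (iv7 D59956) (iv5 F94441)
def n65629 : Q := act 3 n30748
theorem D65629 : act 3 n30748 = n65629 := rfl
theorem F101367 : act 5 n65629 = n59957 := d6_2 (iv5 F101363) D65629 (iv3 D59957)
def n65630 : Q := act 4 n30748
theorem D65630 : act 4 n30748 = n65630 := rfl
def n65631 : Q := act 6 n30748
theorem D65631 : act 6 n30748 = n65631 := rfl
def n65632 : Q := act 4 n30749
theorem D65632 : act 4 n30749 = n65632 := rfl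
theorem F101368 : act 2 n65632 = n30750 := d1_1 D65632 (iv4 D30750) D30749
def n65633 : Q := act 5 n30749
theorem D65633 : act 5 n30749 = n65633 := rfl
theorem F101369 : act 2 n65633 = n30751 := d2_1 D65633 (iv5 D30751) D30749
def n65634 : Q := act 6 n30749
theorem D65634 : act 6 n30749 = n65634 := rfl
theorem F101370 : act 2 n65634 = n30752 := d3_1 D65634 (iv6 D30752) D30749
def n65635 : Q := act 0 n30750
theorem D65635 : act 0 n30750 = n65635 := rfl
def n65636 : Q := act 1 n30750
theorem D65636 : act 1 n30750 = n65636 := rfl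
theorem F101371 : act 4 n65597 = n65636 := d20_6 (iv4 D3159) (iv1 F4896) D6961 D14567 D30739 D65597 (iv1 D65636) (iv4 D30750) (iv3 D14570) (iv1 F11227)
def n65637 : Q := act 5 n30750
theorem D65637 : act 5 n30750 = n65637 := rfl
theorem F101372 : act 3 n65637 = n52059 := d6_1 D65637 (iv5 D52059) (iv3 F49209)
def n65638 : Q := act 6 n30750
theorem D65638 : act 6 n30750 = n65638 := rfl
theorem F101373 : act 3 n65638 = n52057 := d7_1 D65638 F82272 (iv3 F49209)
theorem F101374 : act 4 n65638 = n30752 := d10_1 D65638 (iv6 D30752) D30750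
def n65639 : Q := act 0 n30751
theorem D65639 : act 0 n30751 = n65639 := rfl
def n65640 : Q := act 1 n30751
theorem D65640 : act 1 n30751 = n65640 := rfl
def n65641 : Q := act 4 n30751
theorem D65641 : act 4 n30751 = n65641 := rfl
theorem F101375 : act 3 n65641 = n31856 := d5_1 D65641 (iv4 D31856) (iv3 D14997) (iv4 F24231) (iv3 F49210)
def n65642 : Q := act 6 n30751
theorem D65642 : act 6 n30751 = n65642 := rfl
theorem F101376 : act 3 n65642 = n30753 := d7_1 D65642 (iv6 D30753) (iv3 F49210)
def n65643 : Q := act 0 n30752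
theorem D65643 : act 0 n30752 = n65643 := rfl
def n65644 : Q := act 1 n30752
theorem D65644 : act 1 n30752 = n65644 := rfl
def n65645 : Q := act 5 n30752
theorem D65645 : act 5 n30752 = n65645 := rfl
theorem F101377 : act 3 n65645 = n30755 := d6_1 D65645 (iv5 D30755) (iv3 F49211)
def n65646 : Q := act 7 n30752
theorem D65646 : act 7 n30752 = n65646 := rfl
theorem F101378 : act 3 n65646 = n30756 := d8_1 D65646 (iv7 D30756) (iv3 F49211)
def n65647 : Q := act 0 n30753
theorem D65647 : act 0 n30753 = n65647 := rfl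
def n65648 : Q := act 1 n30753
theorem D65648 : act 1 n30753 = n65648 := rfl
def n65649 : Q := act 5 n30753
theorem D65649 : act 5 n30753 = n65649 := rfl
theorem F101379 : act 6 n65649 = n30755 := d12_2 D30753 D65649 (iv5 D30755) (iv6 D14572) D14571
def n65650 : Q := act 7 n30753
theorem D65650 : act 7 n30753 = n65650 := rfl
theorem F101380 : act 4 n65650 = n31860 := d11_1 D65650 (iv7 D31860) (iv4 F49212)
def n65651 : Q := act 0 n30755
theorem D65651 : act 0 n30755 = n65651 := rfl
theorem F101382 : act 2 n65135 = n65651 := d15_3 (iv0 D65651) F49213 D65135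
theorem F101383 : act 7 n65651 = n34162 := d4_2 D65135 F101382 F53653
def n65652 : Q := act 4 n30755
theorem D65652 : act 4 n30755 = n65652 := rfl
def n65653 : Q := act 7 n30755
theorem D65653 : act 7 n30755 = n65653 := rfl
theorem F101385 : act 2 n65653 = n65133 := d4_1 D65653 F100907 F49707
theorem F101386 : act 5 n65653 = n30756 := d13_1 D65653 (iv7 D30756) D30755
theorem F101387 : act 1 n34162 = n65653 := d15_1 (iv0 F53654) (iv7 D65653) (iv2 F49707)
theorem F101388 : act 1 n65653 = n65135 := d15_1 F101387 (iv7 D65135) (iv2 F53653)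
def n65654 : Q := act 2 n30757
theorem D65654 : act 2 n30757 = n65654 := rfl
theorem F101389 : act 7 n30758 = n65654 := d15_2 (iv0 D30757) D30758 (iv2 D65654)
def n65655 : Q := act 3 n30757
theorem D65655 : act 3 n30757 = n65655 := rfl
def n65656 : Q := act 4 n30757
theorem D65656 : act 4 n30757 = n65656 := rfl
def n65657 : Q := act 5 n30757
theorem D65657 : act 5 n30757 = n65657 := rfl
def n65658 : Q := act 6 n30757
theorem D65658 : act 6 n30757 = n65658 := rfl
def n65659 : Q := act 7 n30757
theorem D65659 : act 7 n30757 = n65659 := rfl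
theorem F101390 : act 2 n65659 = n30758 := d4_1 D65659 F101389 (iv2 D65654)
def n65660 : Q := act 3 n30758
theorem D65660 : act 3 n30758 = n65660 := rfl
def n65661 : Q := act 4 n30758
theorem D65661 : act 4 n30758 = n65661 := rfl
def n65662 : Q := act 5 n30758
theorem D65662 : act 5 n30758 = n65662 := rfl
def n65663 : Q := act 6 n30758
theorem D65663 : act 6 n30758 = n65663 := rfl
def n65664 : Q := act 4 n30759
theorem D65664 : act 4 n30759 = n65664 := rfl
theorem F101391 : act 2 n65664 = n30760 := d1_1 D65664 (iv4 D30760) D30759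
def n65665 : Q := act 5 n30759
theorem D65665 : act 5 n30759 = n65665 := rfl
theorem F101392 : act 2 n65665 = n30761 := d2_1 D65665 (iv5 D30761) D30759
def n65666 : Q := act 6 n30759
theorem D65666 : act 6 n30759 = n65666 := rfl
theorem F101393 : act 2 n65666 = n30762 := d3_1 D65666 (iv6 D30762) D30759
def n65667 : Q := act 0 n30760
theorem D65667 : act 0 n30760 = n65667 := rfl
def n65668 : Q := act 1 n30760
theorem D65668 : act 1 n30760 = n65668 := rfl
theorem F101394 : act 4 n65553 = n65668 := d20_6 (iv4 D3146) D3144 D6958 D14561 D30725 D65553 (iv1 D65668) (iv4 D30760) (iv3 D14573) (iv1 D6964)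
def n65669 : Q := act 5 n30760
theorem D65669 : act 5 n30760 = n65669 := rfl
def n65670 : Q := act 6 n30760
theorem D65670 : act 6 n30760 = n65670 := rfl
theorem F101396 : act 3 n65670 = n53845 := d7_1 D65670 (iv6 D53845) (iv3 F49215)
theorem F101397 : act 4 n65670 = n30762 := d10_1 D65670 (iv6 D30762) D30760
def n65671 : Q := act 0 n30761
theorem D65671 : act 0 n30761 = n65671 := rfl
def n65672 : Q := act 1 n30761
theorem D65672 : act 1 n30761 = n65672 := rfl
def n65673 : Q := act 4 n30761
theorem D65673 : act 4 n30761 = n65673 := rfl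
theorem F101398 : act 3 n65673 = n31864 := d5_1 D65673 (iv4 D31864) (iv3 D14999) (iv4 F24235) (iv3 F49216)
def n65674 : Q := act 6 n30761
theorem D65674 : act 6 n30761 = n65674 := rfl
theorem F101399 : act 3 n65674 = n30763 := d7_1 D65674 (iv6 D30763) (iv3 F49216)
def n65675 : Q := act 0 n30762
theorem D65675 : act 0 n30762 = n65675 := rfl
def n65676 : Q := act 1 n30762
theorem D65676 : act 1 n30762 = n65676 := rfl
def n65677 : Q := act 5 n30762
theorem D65677 : act 5 n30762 = n65677 := rfl
theorem F101400 : act 3 n65677 = n30764 := d6_1 D65677 (iv5 D30764) (iv3 F49217)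
def n65678 : Q := act 1 n30763
theorem D65678 : act 1 n30763 = n65678 := rfl
theorem F101401 : act 7 n65678 = n55210 := d15_2 (iv0 F53298) D65678 F87343
theorem F101402 : act 4 n31526 = n65678 := d11_3 F101401 F87344 (iv7 F53108)
theorem E9025 : n62158 = n61413 := (c18_7 (iv1 F50361) F101402 (iv1 D65678) F49218 F24638 (iv4 F47147) D62158 (iv4 D61413) F47476 (iv5 F50358))
theorem F101403 : act 0 n61413 = n29423 := (sb E9025 (iv1 D62158))
theorem F101404 : act 1 n61413 = n60877 := (sb E9025 F96889)
def n65679 : Q := act 5 n30763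
theorem D65679 : act 5 n30763 = n65679 := rfl
theorem F101405 : act 6 n65679 = n30764 := d12_2 D30763 D65679 (iv5 D30764) (iv6 D14575) D14574
def n65680 : Q := act 7 n30763
theorem D65680 : act 7 n30763 = n65680 := rfl
theorem F101406 : act 4 n65680 = n31867 := d11_1 D65680 (iv7 D31867) (iv4 F49218)
def n65681 : Q := act 0 n30764
theorem D65681 : act 0 n30764 = n65681 := rfl
theorem F101407 : act 5 n65681 = n63561 := d17_3 (iv1 F48977) D30764 D65681 (iv4 D63561) (iv5 D30011) (iv0 D14246) (iv5 F11225) F24147 (iv4 F48976)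
def n65682 : Q := act 1 n30764
theorem D65682 : act 1 n30764 = n65682 := rfl
theorem F101408 : act 5 n53834 = n65682 := d21_6 D6966 (iv1 F11232) (iv5 F11263) D14661 (iv1 F100815) D53834 (iv1 D65682) (iv5 D30764) (iv6 D14575) (iv1 D6964)
def n65683 : Q := act 4 n30764
theorem D65683 : act 4 n30764 = n65683 := rfl
def n65686 : Q := act 3 n30766
theorem D65686 : act 3 n30766 = n65686 := rfl
theorem F101411 : act 7 n65686 = n30772 := d8_2 F49220 D65686 (iv3 D30772)
def n65687 : Q := act 4 n30766
theorem D65687 : act 4 n30766 = n65687 := rfl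
theorem F101412 : act 2 n65687 = n30768 := d1_1 D65687 (iv4 D30768) D30766
theorem F101413 : act 7 n65687 = n30773 := d11_2 F49220 D65687 (iv4 D30773)
def n65688 : Q := act 5 n30766
theorem D65688 : act 5 n30766 = n65688 := rfl
theorem F101414 : act 2 n65688 = n30769 := d2_1 D65688 (iv5 D30769) D30766
theorem F101415 : act 7 n65688 = n30774 := d13_2 F49220 D65688 (iv5 D30774)
def n65690 : Q := act 0 n30767
theorem D65690 : act 0 n30767 = n65690 := rfl
def n65691 : Q := act 1 n30767
theorem D65691 : act 1 n30767 = n65691 := rfl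
def n65692 : Q := act 2 n30767
theorem D65692 : act 2 n30767 = n65692 := rfl
def n65693 : Q := act 5 n30767
theorem D65693 : act 5 n30767 = n65693 := rfl
theorem F101417 : act 3 n65693 = n30769 := d6_1 D65693 (iv5 D30769) D30767
def n65694 : Q := act 6 n30767
theorem D65694 : act 6 n30767 = n65694 := rfl
theorem F101418 : act 3 n65694 = n30770 := d7_1 D65694 (iv6 D30770) D30767
def n65695 : Q := act 7 n30767
theorem D65695 : act 7 n30767 = n65695 := rfl
theorem F101419 : act 3 n65695 = n30771 := d8_1 D65695 (iv7 D30771) D30767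
def n65696 : Q := act 0 n30768
theorem D65696 : act 0 n30768 = n65696 := rfl
theorem F101420 : act 4 n65696 = n65602 := d20_2 D30768 D65696 (iv3 D65602) (iv1 D30740) (iv3 D14567) (iv4 D6961) (iv1 D3145) D3146 D6965 D14576
def n65697 : Q := act 1 n30768
theorem D65697 : act 1 n30768 = n65697 := rfl
theorem F101421 : act 1 n65697 = n30773 := d15_1 D65697 (iv7 F101413) F101412
def n65698 : Q := act 3 n30768
theorem D65698 : act 3 n30768 = n65698 := rfl
def n65699 : Q := act 5 n30768
theorem D65699 : act 5 n30768 = n65699 := rfl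
def n65700 : Q := act 6 n30768
theorem D65700 : act 6 n30768 = n65700 := rfl
theorem F101422 : act 4 n65700 = n30770 := d10_1 D65700 (iv6 D30770) D30768
def n65701 : Q := act 7 n30768
theorem D65701 : act 7 n30768 = n65701 := rfl
theorem F101423 : act 2 n65701 = n30773 := d4_1 D65701 (iv7 F101413) F101412
theorem F101424 : act 4 n65701 = n30771 := d11_1 D65701 (iv7 D30771) D30768
theorem F101425 : act 1 n30773 = n65696 := d15_0 (iv0 D65696) D65701 F101423
def n65702 : Q := act 0 n30769
theorem D65702 : act 0 n30769 = n65702 := rfl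
def n65703 : Q := act 1 n30769
theorem D65703 : act 1 n30769 = n65703 := rfl
def n65704 : Q := act 4 n30769
theorem D65704 : act 4 n30769 = n65704 := rfl
def n65705 : Q := act 6 n30769
theorem D65705 : act 6 n30769 = n65705 := rfl
def n65706 : Q := act 7 n30769
theorem D65706 : act 7 n30769 = n65706 := rfl
theorem F101427 : act 2 n65706 = n30774 := d4_1 D65706 (iv7 F101415) F101414
theorem F101428 : act 5 n65706 = n30771 := d13_1 D65706 (iv7 D30771) D30769
theorem F101429 : act 1 n30774 = n65702 := d15_0 (iv0 D65702) D65706 F101427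
def n65707 : Q := act 0 n30770
theorem D65707 : act 0 n30770 = n65707 := rfl
def n65708 : Q := act 1 n30770
theorem D65708 : act 1 n30770 = n65708 := rfl
def n65709 : Q := act 5 n30770
theorem D65709 : act 5 n30770 = n65709 := rfl
def n65710 : Q := act 7 n30770
theorem D65710 : act 7 n30770 = n65710 := rfl
def n65711 : Q := act 6 n30771
theorem D65711 : act 6 n30771 = n65711 := rfl
theorem F101430 : act 2 n65711 = n30775 := d3_1 D65711 (iv6 D30775) (iv2 F49221)
def n65712 : Q := act 0 n30772
theorem D65712 : act 0 n30772 = n65712 := rfl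
def n65713 : Q := act 1 n30772
theorem D65713 : act 1 n30772 = n65713 := rfl
def n65714 : Q := act 2 n30772
theorem D65714 : act 2 n30772 = n65714 := rfl
def n65715 : Q := act 4 n30772
theorem D65715 : act 4 n30772 = n65715 := rfl
theorem F101431 : act 0 n65554 = n65715 := d20_1 D65554 (iv4 D65715) (iv3 D30772) (iv1 D14577) (iv3 D6965) (iv4 D3146) D3144 D6958 D14561 D30725
def n65716 : Q := act 5 n30772
theorem D65716 : act 5 n30772 = n65716 := rfl
theorem F101432 : act 3 n65716 = n30774 := d6_1 D65716 (iv5 D30774) D30772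
def n65717 : Q := act 6 n30772
theorem D65717 : act 6 n30772 = n65717 := rfl
theorem F101433 : act 3 n65717 = n30775 := d7_1 D65717 (iv6 D30775) D30772
def n65718 : Q := act 3 n30773
theorem D65718 : act 3 n30773 = n65718 := rfl
theorem F101434 : act 0 n51110 = n65718 := d20_4 F38991 (iv1 F38990) D24877 D51110 (iv3 D65718) (iv4 D30773) (iv1 D14577) (iv4 F24190) (iv3 D14547) D14545
def n65719 : Q := act 5 n30773
theorem D65719 : act 5 n30773 = n65719 := rfl
def n65720 : Q := act 6 n30773
theorem D65720 : act 6 n30773 = n65720 := rfl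
theorem F101435 : act 4 n65720 = n30775 := d10_1 D65720 (iv6 D30775) D30773
def n65721 : Q := act 4 n30774
theorem D65721 : act 4 n30774 = n65721 := rfl
def n65722 : Q := act 6 n30774
theorem D65722 : act 6 n30774 = n65722 := rfl
def n65723 : Q := act 0 n30775
theorem D65723 : act 0 n30775 = n65723 := rfl
def n65724 : Q := act 1 n30775
theorem D65724 : act 1 n30775 = n65724 := rfl
def n65725 : Q := act 5 n30775
theorem D65725 : act 5 n30775 = n65725 := rfl
def n65726 : Q := act 7 n30775
theorem D65726 : act 7 n30775 = n65726 := rfl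
def n65727 : Q := act 4 n30776
theorem D65727 : act 4 n30776 = n65727 := rfl
theorem F101436 : act 2 n65727 = n30780 := d1_1 D65727 (iv4 D30780) (iv2 F49222)
def n65728 : Q := act 6 n30776
theorem D65728 : act 6 n30776 = n65728 := rfl
theorem F101437 : act 2 n65728 = n30781 := d3_1 D65728 (iv6 D30781) (iv2 F49222)
def n65729 : Q := act 0 n30777
theorem D65729 : act 0 n30777 = n65729 := rfl
def n65730 : Q := act 1 n30777
theorem D65730 : act 1 n30777 = n65730 := rfl
theorem F101438 : act 1 n65730 = n30785 := d15_1 D65730 (iv7 D30785) (iv2 F49223)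
def n65731 : Q := act 5 n30777
theorem D65731 : act 5 n30777 = n65731 := rfl
theorem F101439 : act 2 n65731 = n30784 := d2_1 D65731 (iv5 D30784) (iv2 F49223)
def n65732 : Q := act 7 n30777
theorem D65732 : act 7 n30777 = n65732 := rfl
theorem F101440 : act 2 n65732 = n30785 := d4_1 D65732 (iv7 D30785) (iv2 F49223)
theorem F101441 : act 1 n30785 = n65729 := d15_0 (iv0 D65729) D65732 F101440
theorem F101442 : act 1 n30783 = n65732 := d15_1 D30783 (iv7 D65732) F49223
theorem F101443 : act 1 n65732 = n30782 := d15_0 (iv0 D30782) D30785 (iv2 F101440)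
def n65733 : Q := act 2 n30778
theorem D65733 : act 2 n30778 = n65733 := rfl
theorem F101444 : act 7 n30779 = n65733 := d15_2 (iv0 D30778) D30779 (iv2 D65733)
def n65734 : Q := act 3 n30778
theorem D65734 : act 3 n30778 = n65734 := rfl
def n65735 : Q := act 4 n30778
theorem D65735 : act 4 n30778 = n65735 := rfl
def n65736 : Q := act 5 n30778
theorem D65736 : act 5 n30778 = n65736 := rfl
def n65737 : Q := act 6 n30778
theorem D65737 : act 6 n30778 = n65737 := rfl
def n65738 : Q := act 7 n30778
theorem D65738 : act 7 n30778 = n65738 := rfl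
theorem F101445 : act 2 n65738 = n30779 := d4_1 D65738 F101444 (iv2 D65733)
def n65739 : Q := act 3 n30779
theorem D65739 : act 3 n30779 = n65739 := rfl
def n65740 : Q := act 4 n30779
theorem D65740 : act 4 n30779 = n65740 := rfl
def n65741 : Q := act 5 n30779
theorem D65741 : act 5 n30779 = n65741 := rfl
def n65742 : Q := act 6 n30779
theorem D65742 : act 6 n30779 = n65742 := rfl
def n65743 : Q := act 0 n30780
theorem D65743 : act 0 n30780 = n65743 := rfl
def n65744 : Q := act 1 n30780
theorem D65744 : act 1 n30780 = n65744 := rfl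
def n65745 : Q := act 5 n30780
theorem D65745 : act 5 n30780 = n65745 := rfl
theorem F101446 : act 3 n65745 = n32244 := d6_1 D65745 (iv5 D32244) (iv3 F49224)
def n65746 : Q := act 6 n30780
theorem D65746 : act 6 n30780 = n65746 := rfl
theorem F101447 : act 3 n65746 = n32245 := d7_1 D65746 (iv6 D32245) (iv3 F49224)
def n65749 : Q := act 5 n30781
theorem D65749 : act 5 n30781 = n65749 := rfl
theorem F101450 : act 6 n65749 = n30784 := d12_2 D30781 D65749 (iv5 D30784) (iv6 D14580) D14579
def n65750 : Q := act 7 n30781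
theorem D65750 : act 7 n30781 = n65750 := rfl
theorem F101451 : act 3 n65750 = n30789 := d8_1 D65750 (iv7 D30789) (iv3 F49225)
def n65751 : Q := act 2 n30782
theorem D65751 : act 2 n30782 = n65751 := rfl
theorem F101452 : act 7 n30783 = n65751 := d15_2 (iv0 D30782) D30783 (iv2 D65751)
def n65752 : Q := act 3 n30782
theorem D65752 : act 3 n30782 = n65752 := rfl
def n65753 : Q := act 4 n30782
theorem D65753 : act 4 n30782 = n65753 := rfl
def n65754 : Q := act 5 n30782
theorem D65754 : act 5 n30782 = n65754 := rfl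
def n65755 : Q := act 6 n30782
theorem D65755 : act 6 n30782 = n65755 := rfl
def n65756 : Q := act 7 n30782
theorem D65756 : act 7 n30782 = n65756 := rfl
theorem F101453 : act 2 n65756 = n30783 := d4_1 D65756 F101452 (iv2 D65751)
def n65757 : Q := act 3 n30783
theorem D65757 : act 3 n30783 = n65757 := rfl
def n65758 : Q := act 4 n30783
theorem D65758 : act 4 n30783 = n65758 := rfl
def n65759 : Q := act 5 n30783
theorem D65759 : act 5 n30783 = n65759 := rfl
def n65760 : Q := act 6 n30783
theorem D65760 : act 6 n30783 = n65760 := rfl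
def n65762 : Q := act 1 n30784
theorem D65762 : act 1 n30784 = n65762 := rfl
def n65764 : Q := act 7 n30784
theorem D65764 : act 7 n30784 = n65764 := rfl
theorem F101455 : act 5 n65764 = n30785 := d13_1 D65764 (iv7 D30785) D30784
def n65765 : Q := act 2 n30786
theorem D65765 : act 2 n30786 = n65765 := rfl
theorem F101456 : act 7 n30787 = n65765 := d15_2 (iv0 D30786) D30787 (iv2 D65765)
def n65767 : Q := act 4 n30786
theorem D65767 : act 4 n30786 = n65767 := rfl
def n65769 : Q := act 6 n30786
theorem D65769 : act 6 n30786 = n65769 := rfl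
def n65770 : Q := act 7 n30786
theorem D65770 : act 7 n30786 = n65770 := rfl
def n65772 : Q := act 4 n30787
theorem D65772 : act 4 n30787 = n65772 := rfl
def n65773 : Q := act 5 n30787
theorem D65773 : act 5 n30787 = n65773 := rfl
def n65774 : Q := act 6 n30787
theorem D65774 : act 6 n30787 = n65774 := rfl
def n65775 : Q := act 0 n30788
theorem D65775 : act 0 n30788 = n65775 := rfl
def n65776 : Q := act 1 n30788
theorem D65776 : act 1 n30788 = n65776 := rfl
def n65780 : Q := act 1 n30791
theorem D65780 : act 1 n30791 = n65780 := rfl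
def n65783 : Q := act 5 n30791
theorem D65783 : act 5 n30791 = n65783 := rfl
theorem F101461 : act 3 n65783 = n30793 := d6_1 D65783 (iv5 D30793) D30791
def n65787 : Q := act 0 n30795
theorem D65787 : act 0 n30795 = n65787 := rfl
def n65790 : Q := act 4 n30795
theorem D65790 : act 4 n30795 = n65790 := rfl
theorem F101467 : act 3 n65790 = n53872 := d5_1 D65790 (iv4 D53872) (iv3 D26043) F53683 D30795
def n65791 : Q := act 5 n30795
theorem D65791 : act 5 n30795 = n65791 := rfl
theorem F101468 : act 3 n65791 = n30797 := d6_1 D65791 (iv5 D30797) D30795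
def n65794 : Q := act 6 n30797
theorem D65794 : act 6 n30797 = n65794 := rfl
def n65795 : Q := act 5 n30798
theorem D65795 : act 5 n30798 = n65795 := rfl
theorem F101472 : act 1 n65795 = n53833 := d17_6 D23830 (iv5 F49799) F53902 F53899 (iv4 F53685) D65795 (iv5 D53833) F100815 F24347
def n65809 : Q := act 3 n30803
theorem D65809 : act 3 n30803 = n65809 := rfl
def n65810 : Q := act 4 n30803
theorem D65810 : act 4 n30803 = n65810 := rfl
def n65819 : Q := act 0 n30806
theorem D65819 : act 0 n30806 = n65819 := rfl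
def n65820 : Q := act 1 n30806
theorem D65820 : act 1 n30806 = n65820 := rfl
def n65822 : Q := act 5 n30806
theorem D65822 : act 5 n30806 = n65822 := rfl
def n65827 : Q := act 1 n30810
theorem D65827 : act 1 n30810 = n65827 := rfl
theorem F101484 : act 1 n65827 = n30817 := d15_1 D65827 (iv7 F84310) F84309
theorem F101486 : act 5 n65827 = n34209 := d17_7 F26203 F26198 (iv1 F20375) (iv5 F11234) D14588 D30810 D65827 F53845 (iv4 D30608)
def n65831 : Q := act 3 n30811
theorem D65831 : act 3 n30811 = n65831 := rfl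
def n65836 : Q := act 3 n30812
theorem D65836 : act 3 n30812 = n65836 := rfl
def n65844 : Q := act 3 n30814
theorem D65844 : act 3 n30814 = n65844 := rfl
theorem F101495 : act 4 n65844 = n30816 := d5_2 D30814 D65844 (iv3 D30816) (iv4 D14591) D14590
def n65853 : Q := act 6 n30816
theorem D65853 : act 6 n30816 = n65853 := rfl
theorem F101498 : act 3 n65853 = n30818 := d7_1 D65853 (iv6 D30818) D30816
def n65856 : Q := act 0 n30818
theorem D65856 : act 0 n30818 = n65856 := rfl
theorem F101502 : act 5 n65856 = n31319 := d17_1 D65856 (iv1 F53875) (iv5 D34235) F26233 F11961 F11964 D14769 (iv0 F24409) (iv4 F49240)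
theorem F101503 : act 4 n65856 = n31502 := d18_3 F39633 (iv4 F49240) D65856 F49799 (iv4 F101300) (iv0 D14763) F11285 D7036 D14774
def n65857 : Q := act 5 n30818
theorem D65857 : act 5 n30818 = n65857 := rfl
theorem F101507 : act 0 n65857 = n53819 := d17_2 F101332 D65857 (iv5 D53819) (iv4 F94151) D28357 F49805 (iv5 D31503) (iv0 F49716) (iv4 F101295)
theorem F101508 : act 1 n65857 = n53814 := d17_6 D12333 D26023 F48949 F48946 (iv4 F49240) D65857 (iv5 D53814) (iv0 D26018) F20478
def n65858 : Q := act 0 n30819
theorem D65858 : act 0 n30819 = n65858 := rfl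
theorem F101509 : act 1 n61477 = n65858 := d15_0 (iv0 D65858) F49241 D61477
def n65859 : Q := act 1 n30819
theorem D65859 : act 1 n30819 = n65859 := rfl
def n65860 : Q := act 2 n30819
theorem D65860 : act 2 n30819 = n65860 := rfl
theorem F101510 : act 3 n65860 = n64984 := d0_2 D30819 D65860 (iv2 D64984) (iv3 D30527) (iv2 F24247)
theorem F101511 : act 7 n65860 = n61477 := d4_2 (iv7 F49241) D65860 (iv2 D61477)
theorem F101512 : act 1 n65860 = n61475 := d15_0 (iv0 D61475) (iv7 F49241) D65860
theorem F101513 : act 1 n65859 = n61477 := d15_1 D65859 (iv7 F101511) (iv2 D65860)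
theorem F101514 : act 1 n61476 = n65860 := d15_1 D61476 F101511 (iv2 D61477)
def n65861 : Q := act 0 n30820
theorem D65861 : act 0 n30820 = n65861 := rfl
theorem F101515 : act 1 n63319 = n65861 := d15_0 (iv0 D65861) F49242 D63319
def n65862 : Q := act 1 n30820
theorem D65862 : act 1 n30820 = n65862 := rfl
theorem F101516 : act 4 n59594 = n65862 := d20_6 (iv4 D13498) (iv1 D6421) D6422 D13503 D28284 D59594 (iv1 D65862) (iv4 F93939) (iv3 D59515) (iv1 F45769)
def n65863 : Q := act 2 n30820
theorem D65863 : act 2 n30820 = n65863 := rfl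
theorem F101517 : act 7 n65863 = n63319 := d4_2 (iv7 F49242) D65863 (iv2 D63319)
theorem F101518 : act 1 n65863 = n63317 := d15_0 (iv0 D63317) (iv7 F49242) D65863
theorem F101519 : act 1 n65862 = n63319 := d15_1 D65862 (iv7 F101517) (iv2 D65863)
theorem F101520 : act 1 n63318 = n65863 := d15_1 D63318 F101517 (iv2 D63319)
def n65864 : Q := act 6 n30820
theorem D65864 : act 6 n30820 = n65864 := rfl
theorem F101521 : act 3 n65864 = n30821 := d7_1 D65864 (iv6 D30821) D30820
def n65865 : Q := act 0 n30821
theorem D65865 : act 0 n30821 = n65865 := rfl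
theorem F101522 : act 1 n50095 = n65865 := d15_0 (iv0 D65865) (iv7 F79425) F79423
def n65866 : Q := act 1 n30821
theorem D65866 : act 1 n30821 = n65866 := rfl
theorem F101523 : act 1 n65866 = n50095 := d15_1 D65866 F79292 F78128
def n65867 : Q := act 5 n30821
theorem D65867 : act 5 n30821 = n65867 := rfl
def n65868 : Q := act 2 n30822
theorem D65868 : act 2 n30822 = n65868 := rfl
theorem F101524 : act 7 n30823 = n65868 := d15_2 (iv0 D30822) D30823 (iv2 D65868)
def n65871 : Q := act 5 n30822
theorem D65871 : act 5 n30822 = n65871 := rfl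
theorem F101525 : act 6 n65871 = n63044 := d12_2 F98792 D65871 (iv5 F98794) (iv6 D63458) D63457
theorem F101526 : act 0 n53399 = n65871 := d21_10 (iv5 D65871) (iv1 F49244) F38307 (iv6 D24429) (iv1 F18852) D24447 F38357 D30668 F49121 D53399
def n65872 : Q := act 7 n30822
theorem D65872 : act 7 n30822 = n65872 := rfl
theorem F101527 : act 2 n65872 = n30823 := d4_1 D65872 F101524 (iv2 D65868)
def n65873 : Q := act 3 n30823
theorem D65873 : act 3 n30823 = n65873 := rfl
def n65874 : Q := act 4 n30823
theorem D65874 : act 4 n30823 = n65874 := rfl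
def n65875 : Q := act 5 n30823
theorem D65875 : act 5 n30823 = n65875 := rfl
theorem F101528 : act 6 n65875 = n53371 := d21_3 F38307 (iv1 F49245) D65875 (iv1 F84206) (iv6 F79358) (iv5 F98606) (iv1 F98608) D63457 F98792 (iv1 F49244)
def n65876 : Q := act 6 n30823
theorem D65876 : act 6 n30823 = n65876 := rfl
theorem F101529 : act 5 n65876 = n50162 := d21_6 (iv5 D7673) F19490 (iv5 F18838) D24429 (iv1 F49245) D65876 (iv1 D50162) F38413 (iv6 F24301) (iv1 F24212)
theorem F101530 : act 0 n31065 = n65876 := d21_10 F101529 (iv1 D50162) F38413 (iv6 F24301) (iv1 F24212) D16517 F26113 D25951 F80864 D31065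
def n65877 : Q := act 3 n30824
theorem D65877 : act 3 n30824 = n65877 := rfl
theorem F101531 : act 4 n65877 = n64516 := d5_2 D30824 D65877 (iv3 D64516) F48803 F39202
def n65878 : Q := act 6 n30824
theorem D65878 : act 6 n30824 = n65878 := rfl
theorem F101532 : act 2 n65878 = n30842 := d3_1 D65878 (iv6 D30842) (iv2 F49246)
theorem F101533 : act 4 n65878 = n30825 := d10_1 D65878 (iv6 D30825) D30824
theorem F101534 : act 0 n51367 = n65878 := d21_4 D51345 (iv1 F81091) (iv5 D51366) D51367 (iv6 D65878) (iv5 F79524) (iv1 D50182) (iv5 D24471) (iv6 F19272) D24964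
theorem E9026 : n65448 = n65425 := (c18_7 (iv1 F39190) (iv4 F81093) F101534 F101533 (iv5 F80616) F80615 D65448 (iv4 D65425) F79659 F79656)
theorem F101535 : act 0 n65425 = n30687 := (sb E9026 (iv1 D65448))
def n65879 : Q := act 0 n30825
theorem D65879 : act 0 n30825 = n65879 := rfl
def n65880 : Q := act 7 n30825
theorem D65880 : act 7 n30825 = n65880 := rfl
theorem F101536 : act 2 n65880 = n30846 := d4_1 D65880 (iv7 D30846) (iv2 F49248)
theorem F101537 : act 1 n30846 = n65879 := d15_0 (iv0 D65879) D65880 F101536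
theorem F101538 : act 1 n30844 = n65880 := d15_1 D30844 (iv7 D65880) F49248
theorem F101539 : act 7 n65879 = n30844 := d15_2 F80310 F101537 (iv2 F80307)
theorem F101540 : act 3 n58844 = n65879 := d8_3 F101539 (iv3 F82841) (iv7 F93043)
theorem F101541 : act 2 n65879 = n30843 := d15_3 (iv0 D30843) D30844 (iv7 F101539)
theorem F101542 : act 3 n30843 = n50907 := d0_2 F101540 F101541 F80315 D51026 F93042
theorem F101543 : act 7 n30843 = n50902 := d4_2 (iv7 F101539) F101541 F80307
theorem F101544 : act 1 n65880 = n30843 := d15_1 F101538 F101543 F80307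
theorem F101545 : act 4 n51664 = n58844 := d20_2 (iv4 F39434) D51664 F101540 (iv1 F101537) F49304 (iv4 F94234) (iv1 F94236) (iv4 D52311) F40188 F39309
theorem F101546 : act 7 n50536 = n51664 := d11_0 F101545 F93043 F82842
def n65881 : Q := act 0 n30828
theorem D65881 : act 0 n30828 = n65881 := rfl
def n65882 : Q := act 1 n30828
theorem D65882 : act 1 n30828 = n65882 := rfl
def n65883 : Q := act 2 n30828
theorem D65883 : act 2 n30828 = n65883 := rfl
theorem F101547 : act 3 n65883 = n30867 := d0_2 D30828 D65883 (iv2 D30867) (iv3 D14619) (iv2 F24256)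
def n65884 : Q := act 5 n30828
theorem D65884 : act 5 n30828 = n65884 := rfl
theorem F101548 : act 3 n65884 = n30829 := d6_1 D65884 (iv5 D30829) D30828
def n65885 : Q := act 6 n30828
theorem D65885 : act 6 n30828 = n65885 := rfl
theorem F101549 : act 3 n65885 = n30830 := d7_1 D65885 (iv6 D30830) D30828
def n65886 : Q := act 6 n30829
theorem D65886 : act 6 n30829 = n65886 := rfl
theorem F101550 : act 2 n65886 = n30873 := d3_1 D65886 (iv6 D30873) (iv2 F49261)
def n65887 : Q := act 0 n30830
theorem D65887 : act 0 n30830 = n65887 := rfl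
theorem F101551 : act 4 n65887 = n53934 := d20_2 (iv4 F49263) D65887 (iv3 D53934) (iv1 F78433) F78424 (iv4 F78443) (iv1 F78444) (iv4 F50038) F39784 F38527
theorem F101552 : act 7 n30875 = n65887 := d11_0 F101551 F93313 F93314
theorem F101553 : act 0 n65887 = n30877 := d20_7 D24672 F46772 F20548 (iv3 F20545) D26077 D53934 (iv4 F101551) F49328 F24304 (iv1 F19018)
theorem F101554 : act 2 n65887 = n30874 := d15_3 (iv0 D30874) D30875 F101552
theorem F101555 : act 7 n65036 = n30874 := d4_2 (iv7 F101552) (iv2 F100837) (iv2 F101554)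
def n65888 : Q := act 5 n30830
theorem D65888 : act 5 n30830 = n65888 := rfl
theorem F101556 : act 2 n65888 = n30876 := d2_1 D65888 (iv5 D30876) (iv2 F49262)
def n65889 : Q := act 7 n30830
theorem D65889 : act 7 n30830 = n65889 := rfl
theorem F101557 : act 2 n65889 = n30877 := d4_1 D65889 (iv7 D30877) (iv2 F49262)
theorem F101558 : act 4 n65889 = n30832 := d11_1 D65889 (iv7 D30832) (iv4 F49263)
theorem F101559 : act 1 n30875 = n65889 := d15_1 D30875 (iv7 D65889) F49262
theorem F101560 : act 1 n65889 = n30874 := d15_1 F101559 (iv7 F101555) F100837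
def n65890 : Q := act 4 n30831
theorem D65890 : act 4 n30831 = n65890 := rfl
theorem F101561 : act 2 n65890 = n30879 := d1_1 D65890 (iv4 D30879) (iv2 F49268)
theorem F101562 : act 7 n65890 = n30882 := d11_2 (iv7 F49267) D65890 (iv4 D30882)
def n65891 : Q := act 6 n30833
theorem D65891 : act 6 n30833 = n65891 := rfl
theorem F101563 : act 2 n65891 = n51917 := d3_1 D65891 (iv6 D51917) (iv2 F49272)
theorem F101564 : act 3 n65891 = n30835 := d7_1 D65891 (iv6 D30835) (iv3 F49273)
theorem F101565 : act 4 n65891 = n50600 := d10_1 D65891 (iv6 D50600) (iv4 F49276)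
theorem F101566 : act 5 n65891 = n65891 := d12_1 D65891 (iv6 D65891) (iv5 D30833) F24268 D30833
theorem F101567 : act 7 n65891 = n51918 := d14_2 (iv7 F49274) D65891 (iv6 D51918) F39643 (iv6 F45093)
def n65892 : Q := act 3 n30834
theorem D65892 : act 3 n30834 = n65892 := rfl
theorem F101568 : act 4 n65892 = n50599 := d5_2 D30834 D65892 (iv3 D50599) (iv4 F49276) F49273
theorem F101569 : act 7 n65892 = n50291 := d8_2 (iv7 F49279) D65892 (iv3 D50291)
theorem F101570 : act 0 n65892 = n50819 := d20_4 D24551 (iv1 F38811) D30834 D65892 (iv3 D50819) (iv4 D24724) (iv1 D11697) (iv4 F18957) (iv3 D11617) D11615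
def n65893 : Q := act 5 n30834
theorem D65893 : act 5 n30834 = n65893 := rfl
theorem F101571 : act 2 n65893 = n50221 := d2_1 D65893 F79574 (iv2 F49278)
theorem F101572 : act 4 n65893 = n30870 := d9_1 D65893 F49326 (iv4 F38279) (iv5 D24412) F18829 D14213 D29930 D63353 F98651 F49327 (iv4 F24416) (iv5 D14776) F11287 D14603 D30834
theorem F101573 : act 7 n65893 = n50222 := d13_2 (iv7 F49279) D65893 F79577
theorem F101574 : act 0 n65893 = n50153 := d17_2 (iv1 F49281) D65893 (iv5 D50153) (iv4 D24461) (iv5 D11557) F8206 (iv5 F8216) F18872 D24464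
theorem F101575 : act 1 n65893 = n50147 := d17_6 (iv1 F37741) (iv5 D24096) F18481 D14603 D30834 D65893 (iv5 D50147) (iv0 F49285) (iv4 D30836)
def n65894 : Q := act 6 n30834
theorem D65894 : act 6 n30834 = n65894 := rfl
theorem F101576 : act 2 n65894 = n50290 := d3_1 D65894 (iv6 D50290) (iv2 F49278)
theorem F101577 : act 4 n65894 = n30835 := d10_1 D65894 (iv6 D30835) D30834
def n65895 : Q := act 3 n30836
theorem D65895 : act 3 n30836 = n65895 := rfl
theorem F101578 : act 4 n65895 = n51936 := d5_2 D30836 D65895 (iv3 D51936) (iv4 D25201) F38834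
theorem F101579 : act 7 n65895 = n50210 := d8_2 (iv7 F49284) D65895 (iv3 D50210)
def n65896 : Q := act 1 n30837
theorem D65896 : act 1 n30837 = n65896 := rfl
theorem F101580 : act 7 n65896 = n51109 := d15_2 (iv0 F93897) D65896 (iv2 F93894)
theorem F101581 : act 3 n52079 = n65896 := d8_3 F101580 F80627 (iv7 F82306)
theorem F101582 : act 6 n58796 = n65896 := d14_5 F101580 (iv6 D51109) F39002 D27957 D58796
def n65897 : Q := act 7 n30837
theorem D65897 : act 7 n30837 = n65897 := rfl
theorem F101583 : act 3 n65897 = n51940 := d8_1 D65897 (iv7 D51940) (iv3 F49287)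
theorem F101584 : act 5 n65897 = n63370 := d13_1 D65897 (iv7 D63370) (iv5 F49288)
def n65898 : Q := act 6 n30838
theorem D65898 : act 6 n30838 = n65898 := rfl
theorem F101585 : act 2 n65898 = n51929 := d3_1 D65898 (iv6 D51929) (iv2 F49289)
theorem F101586 : act 3 n65898 = n30840 := d7_1 D65898 (iv6 D30840) D30838
theorem F101587 : act 4 n65898 = n50445 := d10_1 D65898 (iv6 D50445) F49292
theorem F101588 : act 5 n65898 = n51107 := d12_1 D65898 (iv6 D51107) (iv5 D24873) D24874 (iv5 F49290)
def n65899 : Q := act 3 n30839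
theorem D65899 : act 3 n30839 = n65899 := rfl
theorem F101589 : act 4 n65899 = n50443 := d5_2 D30839 D65899 (iv3 D50443) F49292 (iv3 D30838)
theorem F101590 : act 7 n65899 = n50213 := d8_2 (iv7 F49296) D65899 (iv3 D50213)
def n65900 : Q := act 6 n30839
theorem D65900 : act 6 n30839 = n65900 := rfl
theorem F101591 : act 2 n65900 = n50212 := d3_1 D65900 (iv6 D50212) (iv2 F49295)
theorem F101592 : act 4 n65900 = n30840 := d10_1 D65900 (iv6 D30840) D30839
def n65901 : Q := act 0 n30840
theorem D65901 : act 0 n30840 = n65901 := rfl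
def n65902 : Q := act 1 n30840
theorem D65902 : act 1 n30840 = n65902 := rfl
def n65903 : Q := act 7 n30840
theorem D65903 : act 7 n30840 = n65903 := rfl
theorem F101593 : act 5 n65903 = n51115 := d13_1 D65903 (iv7 D51115) (iv5 F49299)
def n65904 : Q := act 0 n30841
theorem D65904 : act 0 n30841 = n65904 := rfl
def n65905 : Q := act 1 n30841
theorem D65905 : act 1 n30841 = n65905 := rfl
def n65906 : Q := act 2 n30841
theorem D65906 : act 2 n30841 = n65906 := rfl
theorem F101594 : act 4 n65906 = n59822 := d1_2 (iv4 F49300) D65906 (iv2 D59822)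
def n65907 : Q := act 6 n30841
theorem D65907 : act 6 n30841 = n65907 := rfl
theorem F101595 : act 3 n65907 = n30842 := d7_1 D65907 (iv6 D30842) D30841
theorem F101596 : act 4 n65907 = n59824 := d10_1 D65907 (iv6 D59824) (iv4 F49300)
def n65908 : Q := act 5 n30842
theorem D65908 : act 5 n30842 = n65908 := rfl
def n65909 : Q := act 7 n30842
theorem D65909 : act 7 n30842 = n65909 := rfl
theorem F101597 : act 4 n65909 = n30846 := d11_1 D65909 (iv7 D30846) (iv4 F49301)
theorem F101598 : act 1 n51367 = n65909 := d15_1 (iv0 F101534) (iv7 D65909) (iv2 F101532)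
def n65910 : Q := act 4 n30843
theorem D65910 : act 4 n30843 = n65910 := rfl
theorem F101599 : act 7 n65910 = n50273 := d11_2 (iv7 F101543) D65910 F81208
theorem F101600 : act 0 n65910 = n50275 := d20_1 D65910 F79650 (iv3 F79633) (iv1 F81147) F81143 (iv4 F92989) F92990 F45881 (iv3 F24273) D30843
theorem F101601 : act 0 n50154 = n65910 := d20_1 (iv4 F79462) (iv4 D65910) F101542 (iv1 F80316) F38839 (iv4 F38852) (iv1 F39353) F39351 (iv3 F39187) F39189
theorem F101602 : act 2 n65910 = n50272 := d15_3 (iv0 D50272) D50273 (iv7 F101599)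
theorem F101603 : act 4 n50272 = n65879 := d1_2 D65910 F101602 F101541
theorem F101604 : act 7 n50272 = n51373 := d4_2 (iv7 F101599) F101602 (iv2 F81207)
def n65911 : Q := act 5 n30843
theorem D65911 : act 5 n30843 = n65911 := rfl
theorem F101605 : act 7 n65911 = n51093 := d13_2 (iv7 F101543) D65911 F80597
def n65912 : Q := act 6 n30843
theorem D65912 : act 6 n30843 = n65912 := rfl
theorem F101606 : act 3 n65912 = n52037 := d7_1 D65912 F82237 (iv3 F101542)
theorem F101607 : act 7 n65912 = n52031 := d14_2 (iv7 F101543) D65912 (iv6 D52031) F39844 D50902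
def n65913 : Q := act 5 n30844
theorem D65913 : act 5 n30844 = n65913 := rfl
theorem F101608 : act 2 n65913 = n51093 := d2_1 D65913 F80597 F80307
theorem F101609 : act 3 n65913 = n52139 := d6_1 D65913 (iv5 F82843) F82841
theorem F101610 : act 6 n65913 = n51074 := d12_2 F49311 D65913 F80545 F79325 F45186
theorem F101611 : act 4 n51304 = n65913 := d10_3 F101610 F80546 D51304
theorem F101612 : act 0 n65102 = n51304 := d18_2 (iv1 F80877) D65102 F101611 (iv5 D65913) (iv4 F81102) F98655 F79650 F79465 (iv5 F80876)
def n65914 : Q := act 0 n30845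
theorem D65914 : act 0 n30845 = n65914 := rfl
def n65915 : Q := act 1 n30845
theorem D65915 : act 1 n30845 = n65915 := rfl
def n65916 : Q := act 7 n30845
theorem D65916 : act 7 n30845 = n65916 := rfl
theorem F101613 : act 3 n65916 = n49624 := d8_1 D65916 (iv7 D49624) (iv3 F49302)
theorem F101614 : act 5 n65916 = n30846 := d13_1 D65916 (iv7 D30846) D30845
theorem F101615 : act 6 n63029 = n65916 := d21_5 (iv5 D29795) (iv1 F23675) D14168 D29816 D63029 F101614 (iv1 F80310) (iv5 F80597) (iv6 D51093) (iv1 F47951)
theorem F101616 : act 3 n31718 = n63029 := d7_3 F101615 F101613 F78372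
theorem F101617 : act 7 n31715 = n63029 := d14_0 F101615 (iv7 D65916) F49303 (iv7 F24575) D31715
theorem F101618 : act 4 n63029 = n65458 := d11_1 F101617 (iv7 D65458) (iv4 F50021)
theorem F101619 : act 5 n63029 = n61906 := d13_1 F101617 (iv7 D61906) (iv5 F50022)
def n65917 : Q := act 0 n30848
theorem D65917 : act 0 n30848 = n65917 := rfl
def n65918 : Q := act 1 n30848
theorem D65918 : act 1 n30848 = n65918 := rfl
def n65919 : Q := act 2 n30848
theorem D65919 : act 2 n30848 = n65919 := rfl
def n65920 : Q := act 5 n30848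
theorem D65920 : act 5 n30848 = n65920 := rfl
theorem F101620 : act 3 n65920 = n30849 := d6_1 D65920 (iv5 D30849) D30848
def n65921 : Q := act 6 n30848
theorem D65921 : act 6 n30848 = n65921 := rfl
theorem F101621 : act 3 n65921 = n30850 := d7_1 D65921 (iv6 D30850) D30848
def n65922 : Q := act 6 n30849
theorem D65922 : act 6 n30849 = n65922 := rfl
def n65923 : Q := act 0 n30850
theorem D65923 : act 0 n30850 = n65923 := rfl
theorem F101622 : act 4 n65923 = n49916 := d20_2 (iv4 F49312) D65923 F78959 (iv1 F82276) F49733 (iv4 F49760) (iv1 F49762) F48976 (iv3 F48971) (iv1 F48972)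
theorem F101623 : act 6 n65923 = n49915 := d21_5 D63312 F98537 (iv5 D30849) D30850 D65923 (iv5 F79406) (iv1 D50136) (iv5 D24451) (iv6 F23713) D29913
theorem F101624 : act 2 n63363 = n65923 := d3_3 F101623 F78954 D63363
def n65924 : Q := act 1 n30850
theorem D65924 : act 1 n30850 = n65924 := rfl
theorem F101625 : act 7 n65924 = n63363 := d15_2 (iv0 D65923) D65924 F101624
theorem F101626 : act 4 n63367 = n65924 := d11_3 F101625 F98667 D63367
def n65925 : Q := act 5 n30850
theorem D65925 : act 5 n30850 = n65925 := rfl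
def n65926 : Q := act 0 n30852
theorem D65926 : act 0 n30852 = n65926 := rfl
def n65927 : Q := act 1 n30852
theorem D65927 : act 1 n30852 = n65927 := rfl
def n65928 : Q := act 2 n30852
theorem D65928 : act 2 n30852 = n65928 := rfl
def n65929 : Q := act 5 n30852
theorem D65929 : act 5 n30852 = n65929 := rfl
theorem F101627 : act 3 n65929 = n30853 := d6_1 D65929 (iv5 D30853) D30852
def n65930 : Q := act 6 n30852
theorem D65930 : act 6 n30852 = n65930 := rfl
theorem F101628 : act 3 n65930 = n30854 := d7_1 D65930 (iv6 D30854) D30852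
def n65931 : Q := act 6 n30853
theorem D65931 : act 6 n30853 = n65931 := rfl
def n65932 : Q := act 0 n30854
theorem D65932 : act 0 n30854 = n65932 := rfl
def n65933 : Q := act 1 n30854
theorem D65933 : act 1 n30854 = n65933 := rfl
def n65934 : Q := act 5 n30854
theorem D65934 : act 5 n30854 = n65934 := rfl
def n65935 : Q := act 7 n30854
theorem D65935 : act 7 n30854 = n65935 := rfl
theorem F101629 : act 4 n65935 = n30857 := d11_1 D65935 (iv7 D30857) (iv4 F49314)
def n65938 : Q := act 6 n30855
theorem D65938 : act 6 n30855 = n65938 := rfl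
theorem F101631 : act 5 n65938 = n49404 := d12_1 D65938 (iv6 F79693) (iv5 D50312) D50313 (iv5 F79694)
theorem F101632 : act 7 n65938 = n65871 := d14_2 F84202 D65938 F101525 (iv7 F101254) F101253
theorem E9027 : n65872 = n49404 := (c13_3 F101632 (iv5 D65871) D65872 (iv5 F101631))
theorem F101633 : act 2 n49404 = n30823 := (sb E9027 F101527)
theorem F101634 : act 7 n49404 = n30822 := (sb E9027 (iv7 D65872))
theorem E9028 : n65868 = n49403 := (c15_4 (iv0 D49403) D49404 F101634 D65868)
theorem F101636 : act 7 n49403 = n30823 := (sb E9028 (iv7 F101524))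
theorem F101637 : act 2 n65876 = n50312 := d3_3 F79693 F101633 D65876
theorem E9029 : n50309 = n50162 := (c2_4 (iv5 F101529) F101637 (iv5 D50312) (iv2 F79692))
theorem F101638 : act 2 n50162 = n24536 := (sb E9029 F79692)
theorem F101639 : act 7 n50162 = n24535 := (sb E9029 (iv7 D50309))
theorem F101640 : act 7 n50308 = n65876 := d13_2 F101639 D50308 F101529
theorem E9030 : n50305 = n50161 := (c15_4 (iv0 D50161) D50162 F101639 D50305)
theorem F101641 : act 2 n50161 = n24535 := (sb E9030 (iv2 D50305))
theorem E9031 : n51469 = n51342 := (((F81174).symm.trans (sb E9030 F81241))).symm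
theorem F101642 : act 7 n50161 = n24536 := (sb E9030 (iv7 F79691))
theorem E9032 : n63095 = n50238 := (((F81173).symm.trans (sb E9031 (iv5 F98398)))).symm
theorem E9033 : n63450 = n63336 := ((((iv6 F98602)).symm.trans (sb E9032 (iv6 F98786)))).symm
theorem F101646 : act 7 n50238 = n29839 := (sb E9032 (iv7 D63095))
theorem F101648 : act 7 n63336 = n29975 := (sb E9033 (iv7 F98787))
theorem E9034 : n63454 = n63337 := (c15_4 F98604 (iv0 F98603) F101648 (iv2 F98791))
theorem F101649 : act 2 n63337 = n29975 := (sb E9034 F98791)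
theorem F101650 : act 7 n63337 = n29974 := (sb E9034 (iv7 D63454))
theorem E9035 : n63091 = n50237 := (c15_4 (iv0 D50237) D50238 F101646 D63091)
theorem F101651 : act 2 n50237 = n29839 := (sb E9035 (iv2 D63091))
theorem E9036 : n51465 = n51341 := ((((iv5 F81028)).symm.trans (sb E9035 F98394))).symm
theorem F101652 : act 7 n50237 = n29840 := (sb E9035 (iv7 F98395))
theorem F101653 : act 2 n51341 = n25012 := (sb E9036 (iv2 D51465))
theorem F101654 : act 7 n51341 = n25013 := (sb E9036 (iv7 F81238))
def n65939 : Q := act 3 n30856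
theorem D65939 : act 3 n30856 = n65939 := rfl
def n65940 : Q := act 4 n30856
theorem D65940 : act 4 n30856 = n65940 := rfl
def n65941 : Q := act 5 n30856
theorem D65941 : act 5 n30856 = n65941 := rfl
theorem F101655 : act 2 n65941 = n51468 := d2_1 D65941 F84201 F84205
theorem F101656 : act 6 n65941 = n51341 := d21_3 (iv5 F84209) (iv1 F84211) D65941 (iv1 F81034) (iv6 F81017) (iv5 F81170) (iv1 F81172) (iv5 F81191) (iv6 D51422) (iv1 F81001)
theorem F101657 : act 0 n65941 = n51537 := d21_4 D24497 D50237 (iv5 F81028) (iv6 F101656) (iv6 D51537) D51536 F81295 F81117 (iv6 D50236) (iv1 D24496)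
def n65942 : Q := act 0 n30858
theorem D65942 : act 0 n30858 = n65942 := rfl
def n65943 : Q := act 1 n30858
theorem D65943 : act 1 n30858 = n65943 := rfl
def n65944 : Q := act 2 n30858
theorem D65944 : act 2 n30858 = n65944 := rfl
def n65945 : Q := act 5 n30858
theorem D65945 : act 5 n30858 = n65945 := rfl
theorem F101658 : act 3 n65945 = n30860 := d6_1 D65945 (iv5 D30860) D30858
def n65946 : Q := act 6 n30858
theorem D65946 : act 6 n30858 = n65946 := rfl
theorem F101659 : act 3 n65946 = n30861 := d7_1 D65946 (iv6 D30861) D30858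
def n65947 : Q := act 6 n30860
theorem D65947 : act 6 n30860 = n65947 := rfl
def n65948 : Q := act 5 n30861
theorem D65948 : act 5 n30861 = n65948 := rfl
def n65949 : Q := act 7 n30861
theorem D65949 : act 7 n30861 = n65949 := rfl
def n65950 : Q := act 0 n30862
theorem D65950 : act 0 n30862 = n65950 := rfl
def n65951 : Q := act 1 n30862
theorem D65951 : act 1 n30862 = n65951 := rfl
def n65952 : Q := act 2 n30862
theorem D65952 : act 2 n30862 = n65952 := rfl
def n65953 : Q := act 5 n30862
theorem D65953 : act 5 n30862 = n65953 := rfl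
theorem F101660 : act 3 n65953 = n30863 := d6_1 D65953 (iv5 D30863) D30862
def n65954 : Q := act 6 n30862
theorem D65954 : act 6 n30862 = n65954 := rfl
theorem F101661 : act 3 n65954 = n30864 := d7_1 D65954 (iv6 D30864) D30862
def n65955 : Q := act 6 n30863
theorem D65955 : act 6 n30863 = n65955 := rfl
def n65956 : Q := act 0 n30864
theorem D65956 : act 0 n30864 = n65956 := rfl
def n65957 : Q := act 1 n30864
theorem D65957 : act 1 n30864 = n65957 := rfl
def n65958 : Q := act 5 n30864
theorem D65958 : act 5 n30864 = n65958 := rfl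
def n65959 : Q := act 7 n30864
theorem D65959 : act 7 n30864 = n65959 := rfl
def n65960 : Q := act 2 n30865
theorem D65960 : act 2 n30865 = n65960 := rfl
theorem F101662 : act 7 n30866 = n65960 := d15_2 (iv0 D30865) D30866 (iv2 D65960)
def n65961 : Q := act 3 n30865
theorem D65961 : act 3 n30865 = n65961 := rfl
def n65962 : Q := act 4 n30865
theorem D65962 : act 4 n30865 = n65962 := rfl
def n65963 : Q := act 5 n30865
theorem D65963 : act 5 n30865 = n65963 := rfl
def n65964 : Q := act 6 n30865
theorem D65964 : act 6 n30865 = n65964 := rfl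
def n65965 : Q := act 7 n30865
theorem D65965 : act 7 n30865 = n65965 := rfl
theorem F101663 : act 2 n65965 = n30866 := d4_1 D65965 F101662 (iv2 D65960)
def n65966 : Q := act 3 n30866
theorem D65966 : act 3 n30866 = n65966 := rfl
def n65967 : Q := act 5 n30866
theorem D65967 : act 5 n30866 = n65967 := rfl
def n65968 : Q := act 6 n30866
theorem D65968 : act 6 n30866 = n65968 := rfl
def n65969 : Q := act 5 n30867
theorem D65969 : act 5 n30867 = n65969 := rfl
theorem F101664 : act 2 n65969 = n30868 := d2_1 D65969 (iv5 D30868) D30867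
def n65970 : Q := act 6 n30867
theorem D65970 : act 6 n30867 = n65970 := rfl
theorem F101665 : act 2 n65970 = n30869 := d3_1 D65970 (iv6 D30869) D30867
theorem F101666 : act 4 n65970 = n30901 := d10_1 D65970 (iv6 D30901) (iv4 F49322)
def n65971 : Q := act 0 n30868
theorem D65971 : act 0 n30868 = n65971 := rfl
def n65972 : Q := act 1 n30868
theorem D65972 : act 1 n30868 = n65972 := rfl
def n65973 : Q := act 4 n30868
theorem D65973 : act 4 n30868 = n65973 := rfl
def n65974 : Q := act 6 n30868
theorem D65974 : act 6 n30868 = n65974 := rfl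
theorem F101667 : act 3 n65974 = n30873 := d7_1 D65974 (iv6 D30873) (iv3 F49323)
def n65975 : Q := act 0 n30869
theorem D65975 : act 0 n30869 = n65975 := rfl
def n65976 : Q := act 1 n30869
theorem D65976 : act 1 n30869 = n65976 := rfl
def n65977 : Q := act 5 n30869
theorem D65977 : act 5 n30869 = n65977 := rfl
theorem F101668 : act 3 n65977 = n30876 := d6_1 D65977 (iv5 D30876) (iv3 F49324)
def n65978 : Q := act 7 n30869
theorem D65978 : act 7 n30869 = n65978 := rfl
theorem F101669 : act 3 n65978 = n30877 := d8_1 D65978 (iv7 D30877) (iv3 F49324)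
theorem F101670 : act 4 n65978 = n30909 := d11_1 D65978 (iv7 D30909) (iv4 F49325)
def n65979 : Q := act 3 n30870
theorem D65979 : act 3 n30870 = n65979 := rfl
theorem F101671 : act 5 n65979 = n31046 := d6_2 (iv5 F49326) D65979 (iv3 D31046)
def n65980 : Q := act 6 n30870
theorem D65980 : act 6 n30870 = n65980 := rfl
def n65981 : Q := act 3 n30871
theorem D65981 : act 3 n30871 = n65981 := rfl
theorem F101672 : act 5 n65981 = n31047 := d6_2 (iv5 F49327) D65981 (iv3 D31047)
def n65982 : Q := act 6 n30871
theorem D65982 : act 6 n30871 = n65982 := rfl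
def n65983 : Q := act 0 n30873
theorem D65983 : act 0 n30873 = n65983 := rfl
def n65984 : Q := act 1 n30873
theorem D65984 : act 1 n30873 = n65984 := rfl
def n65985 : Q := act 5 n30873
theorem D65985 : act 5 n30873 = n65985 := rfl
theorem F101673 : act 6 n65985 = n30876 := d12_2 D30873 D65985 (iv5 D30876) (iv6 D14621) D14620
def n65986 : Q := act 7 n30873
theorem D65986 : act 7 n30873 = n65986 := rfl
def n65987 : Q := act 3 n30874
theorem D65987 : act 3 n30874 = n65987 := rfl
def n65988 : Q := act 4 n30874
theorem D65988 : act 4 n30874 = n65988 := rfl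
theorem F101674 : act 2 n65988 = n53934 := d1_1 D65988 (iv4 F101551) F101554
theorem F101675 : act 7 n65988 = n50262 := d11_2 F101555 D65988 (iv4 F100838)
theorem F101676 : act 1 n50264 = n65988 := d15_1 F93312 F101675 (iv2 F93308)
theorem E9037 : n53934 = n50261 := (c15_4 (iv0 D50261) D50262 (iv7 F101675) F101674)
theorem F101677 : act 2 n50261 = n65988 := (sb E9037 (iv2 F101674))
theorem F101678 : act 3 n50261 = n26077 := (sb E9037 (iv3 D53934))
theorem F101679 : act 4 n50261 = n65887 := (sb E9037 (iv4 F101551))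
theorem F101680 : act 5 n50261 = n59137 := (sb E9037 (iv5 F93317))
theorem F101681 : act 7 n50261 = n59136 := (sb E9037 F93313)
theorem F101682 : act 1 n65988 = n48805 := d15_0 (iv0 F93311) (iv7 F101681) F101677
def n65989 : Q := act 5 n30874
theorem D65989 : act 5 n30874 = n65989 := rfl
def n65990 : Q := act 6 n30874
theorem D65990 : act 6 n30874 = n65990 := rfl
def n65991 : Q := act 3 n30875
theorem D65991 : act 3 n30875 = n65991 := rfl
def n65992 : Q := act 5 n30875
theorem D65992 : act 5 n30875 = n65992 := rfl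
def n65993 : Q := act 0 n30876
theorem D65993 : act 0 n30876 = n65993 := rfl
def n65994 : Q := act 1 n30876
theorem D65994 : act 1 n30876 = n65994 := rfl
def n65995 : Q := act 4 n30876
theorem D65995 : act 4 n30876 = n65995 := rfl
def n65996 : Q := act 7 n30876
theorem D65996 : act 7 n30876 = n65996 := rfl
theorem F101683 : act 5 n65996 = n30877 := d13_1 D65996 (iv7 D30877) D30876
def n65997 : Q := act 0 n30879
theorem D65997 : act 0 n30879 = n65997 := rfl
theorem F101684 : act 1 n30882 = n65997 := d15_0 (iv0 D65997) (iv7 F79697) F79695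
def n65998 : Q := act 3 n30879
theorem D65998 : act 3 n30879 = n65998 := rfl
def n65999 : Q := act 5 n30879
theorem D65999 : act 5 n30879 = n65999 := rfl
def n66000 : Q := act 6 n30879
theorem D66000 : act 6 n30879 = n66000 := rfl
theorem F101685 : act 4 n66000 = n30880 := d10_1 D66000 (iv6 D30880) D30879
theorem F101686 : act 7 n66000 = n65528 := d14_2 F79697 D66000 (iv6 D65528) F49156 (iv6 F79696)
def n66001 : Q := act 3 n30882
theorem D66001 : act 3 n30882 = n66001 := rfl
theorem F101687 : act 6 n66001 = n65531 := d7_2 (iv6 F49336) D66001 (iv3 D65531)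
def n66002 : Q := act 5 n30882
theorem D66002 : act 5 n30882 = n66002 := rfl
def n66003 : Q := act 2 n30883
theorem D66003 : act 2 n30883 = n66003 := rfl
theorem F101688 : act 7 n30884 = n66003 := d15_2 (iv0 D30883) D30884 (iv2 D66003)
def n66004 : Q := act 3 n30883
theorem D66004 : act 3 n30883 = n66004 := rfl
def n66005 : Q := act 4 n30883
theorem D66005 : act 4 n30883 = n66005 := rfl
def n66006 : Q := act 5 n30883
theorem D66006 : act 5 n30883 = n66006 := rfl
theorem F101689 : act 6 n66006 = n50077 := d12_2 (iv6 F79765) D66006 (iv5 F79766) (iv6 D50406) D50405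
theorem F101690 : act 0 n66006 = n50308 := d21_1 D66006 (iv5 D50308) (iv6 F79595) (iv1 D25013) (iv6 D11880) (iv5 F24206) (iv1 D6986) D6987 (iv6 F24303) D30883
def n66007 : Q := act 7 n30883
theorem D66007 : act 7 n30883 = n66007 := rfl
theorem F101691 : act 2 n66007 = n30884 := d4_1 D66007 F101688 (iv2 D66003)
def n66008 : Q := act 3 n30884
theorem D66008 : act 3 n30884 = n66008 := rfl
def n66009 : Q := act 4 n30884
theorem D66009 : act 4 n30884 = n66009 := rfl
def n66010 : Q := act 5 n30884
theorem D66010 : act 5 n30884 = n66010 := rfl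
theorem F101692 : act 6 n66010 = n31043 := d21_3 (iv5 F81081) (iv1 F81084) D66010 (iv1 F49454) (iv6 F40982) (iv5 F46733) D61465 F95953 (iv6 D30880) (iv1 F49271)
theorem F101693 : act 0 n50308 = n66010 := d21_10 (iv5 D66010) (iv1 D30884) (iv5 D14624) (iv6 D6984) D6981 D14614 F24297 D29974 D63453 F98790
theorem F101694 : act 6 n30884 = n51590 := d21_3 D50308 F101693 (iv5 D66010) (iv1 D51590) (iv6 D25059) F19596 F19428 (iv5 D11608) D11609 D24535
theorem F101695 : act 1 n50312 = n66010 := d15_0 (iv0 F101693) F101640 F101637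
def n66011 : Q := act 0 n30885
theorem D66011 : act 0 n30885 = n66011 := rfl
def n66012 : Q := act 1 n30885
theorem D66012 : act 1 n30885 = n66012 := rfl
def n66013 : Q := act 3 n30885
theorem D66013 : act 3 n30885 = n66013 := rfl
theorem F101696 : act 4 n66013 = n30935 := d5_2 D30885 D66013 (iv3 D30935) (iv4 D14645) (iv3 F24302)
theorem F101697 : act 6 n66013 = n30888 := d7_2 (iv6 F49337) D66013 (iv3 D30888)
def n66014 : Q := act 5 n30885
theorem D66014 : act 5 n30885 = n66014 := rfl
def n66015 : Q := act 7 n30885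
theorem D66015 : act 7 n30885 = n66015 := rfl
theorem F101698 : act 4 n66015 = n30886 := d11_1 D66015 (iv7 D30886) D30885
theorem F101699 : act 6 n66015 = n50276 := d14_1 D66015 F81094 (iv6 D51367) F39185 (iv6 F49337)
def n66016 : Q := act 3 n30887
theorem D66016 : act 3 n30887 = n66016 := rfl
def n66017 : Q := act 6 n30887
theorem D66017 : act 6 n30887 = n66017 := rfl
theorem F101700 : act 4 n66017 = n59488 := d10_1 D66017 (iv6 D59488) (iv4 F49345)
theorem F101701 : act 0 n50209 = n66017 := d21_4 D50171 (iv1 F79564) (iv5 D50208) D50209 (iv6 D66017) (iv5 F81061) (iv1 D51356) (iv5 D24967) F19272 D24468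
def n66018 : Q := act 0 n30888
theorem D66018 : act 0 n30888 = n66018 := rfl
def n66019 : Q := act 1 n30888
theorem D66019 : act 1 n30888 = n66019 := rfl
def n66020 : Q := act 2 n30888
theorem D66020 : act 2 n30888 = n66020 := rfl
theorem F101702 : act 4 n66020 = n30940 := d1_2 (iv4 F49346) D66020 (iv2 D30940)
def n66021 : Q := act 5 n30888
theorem D66021 : act 5 n30888 = n66021 := rfl
theorem F101703 : act 3 n66021 = n30889 := d6_1 D66021 (iv5 D30889) D30888
def n66022 : Q := act 6 n30889
theorem D66022 : act 6 n30889 = n66022 := rfl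
def n66025 : Q := act 3 n30890
theorem D66025 : act 3 n30890 = n66025 := rfl
theorem F101706 : act 7 n66025 = n30896 := d8_2 F49349 D66025 (iv3 D30896)
def n66026 : Q := act 4 n30890
theorem D66026 : act 4 n30890 = n66026 := rfl
theorem F101707 : act 2 n66026 = n30892 := d1_1 D66026 (iv4 D30892) D30890
theorem F101708 : act 7 n66026 = n30897 := d11_2 F49349 D66026 (iv4 D30897)
def n66027 : Q := act 5 n30890
theorem D66027 : act 5 n30890 = n66027 := rfl
theorem F101709 : act 2 n66027 = n30893 := d2_1 D66027 (iv5 D30893) D30890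
theorem F101710 : act 7 n66027 = n30898 := d13_2 F49349 D66027 (iv5 D30898)
def n66029 : Q := act 0 n30891
theorem D66029 : act 0 n30891 = n66029 := rfl
def n66030 : Q := act 1 n30891
theorem D66030 : act 1 n30891 = n66030 := rfl
def n66031 : Q := act 2 n30891
theorem D66031 : act 2 n30891 = n66031 := rfl
def n66032 : Q := act 5 n30891
theorem D66032 : act 5 n30891 = n66032 := rfl
theorem F101712 : act 3 n66032 = n30893 := d6_1 D66032 (iv5 D30893) D30891
def n66033 : Q := act 6 n30891
theorem D66033 : act 6 n30891 = n66033 := rfl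
theorem F101713 : act 3 n66033 = n30894 := d7_1 D66033 (iv6 D30894) D30891
def n66034 : Q := act 7 n30891
theorem D66034 : act 7 n30891 = n66034 := rfl
theorem F101714 : act 3 n66034 = n30895 := d8_1 D66034 (iv7 D30895) D30891
def n66035 : Q := act 0 n30892
theorem D66035 : act 0 n30892 = n66035 := rfl
theorem F101715 : act 4 n66035 = n65558 := d20_2 D30892 D66035 (iv3 D65558) (iv1 D30726) (iv3 D14561) (iv4 D6958) (iv1 F4899) D3159 D6989 D14628
def n66036 : Q := act 1 n30892
theorem D66036 : act 1 n30892 = n66036 := rfl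
theorem F101716 : act 1 n66036 = n30897 := d15_1 D66036 (iv7 F101708) F101707
def n66037 : Q := act 3 n30892
theorem D66037 : act 3 n30892 = n66037 := rfl
def n66038 : Q := act 5 n30892
theorem D66038 : act 5 n30892 = n66038 := rfl
def n66039 : Q := act 6 n30892
theorem D66039 : act 6 n30892 = n66039 := rfl
theorem F101717 : act 4 n66039 = n30894 := d10_1 D66039 (iv6 D30894) D30892
def n66040 : Q := act 7 n30892
theorem D66040 : act 7 n30892 = n66040 := rfl
theorem F101718 : act 2 n66040 = n30897 := d4_1 D66040 (iv7 F101708) F101707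
theorem F101719 : act 4 n66040 = n30895 := d11_1 D66040 (iv7 D30895) D30892
theorem F101720 : act 1 n30897 = n66035 := d15_0 (iv0 D66035) D66040 F101718
def n66041 : Q := act 0 n30893
theorem D66041 : act 0 n30893 = n66041 := rfl
def n66042 : Q := act 1 n30893
theorem D66042 : act 1 n30893 = n66042 := rfl
def n66043 : Q := act 4 n30893
theorem D66043 : act 4 n30893 = n66043 := rfl
def n66044 : Q := act 6 n30893
theorem D66044 : act 6 n30893 = n66044 := rfl
def n66045 : Q := act 7 n30893
theorem D66045 : act 7 n30893 = n66045 := rfl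
theorem F101722 : act 2 n66045 = n30898 := d4_1 D66045 (iv7 F101710) F101709
theorem F101723 : act 5 n66045 = n30895 := d13_1 D66045 (iv7 D30895) D30893
theorem F101724 : act 1 n30898 = n66041 := d15_0 (iv0 D66041) D66045 F101722
def n66046 : Q := act 0 n30894
theorem D66046 : act 0 n30894 = n66046 := rfl
def n66047 : Q := act 1 n30894
theorem D66047 : act 1 n30894 = n66047 := rfl
def n66048 : Q := act 5 n30894
theorem D66048 : act 5 n30894 = n66048 := rfl
def n66049 : Q := act 7 n30894
theorem D66049 : act 7 n30894 = n66049 := rfl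
def n66050 : Q := act 6 n30895
theorem D66050 : act 6 n30895 = n66050 := rfl
theorem F101725 : act 2 n66050 = n30899 := d3_1 D66050 (iv6 D30899) (iv2 F49350)
def n66051 : Q := act 0 n30896
theorem D66051 : act 0 n30896 = n66051 := rfl
def n66052 : Q := act 1 n30896
theorem D66052 : act 1 n30896 = n66052 := rfl
def n66053 : Q := act 2 n30896
theorem D66053 : act 2 n30896 = n66053 := rfl
def n66054 : Q := act 4 n30896
theorem D66054 : act 4 n30896 = n66054 := rfl
theorem F101726 : act 0 n65598 = n66054 := d20_1 D65598 (iv4 D66054) (iv3 D30896) (iv1 D14629) (iv3 D6989) (iv4 D3159) (iv1 F4896) D6961 D14567 D30739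
def n66055 : Q := act 5 n30896
theorem D66055 : act 5 n30896 = n66055 := rfl
theorem F101727 : act 3 n66055 = n30898 := d6_1 D66055 (iv5 D30898) D30896
def n66056 : Q := act 6 n30896
theorem D66056 : act 6 n30896 = n66056 := rfl
theorem F101728 : act 3 n66056 = n30899 := d7_1 D66056 (iv6 D30899) D30896
def n66057 : Q := act 3 n30897
theorem D66057 : act 3 n30897 = n66057 := rfl
def n66058 : Q := act 5 n30897
theorem D66058 : act 5 n30897 = n66058 := rfl
def n66059 : Q := act 6 n30897
theorem D66059 : act 6 n30897 = n66059 := rfl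
theorem F101729 : act 4 n66059 = n30899 := d10_1 D66059 (iv6 D30899) D30897
def n66060 : Q := act 4 n30898
theorem D66060 : act 4 n30898 = n66060 := rfl
def n66061 : Q := act 6 n30898
theorem D66061 : act 6 n30898 = n66061 := rfl
def n66062 : Q := act 0 n30899
theorem D66062 : act 0 n30899 = n66062 := rfl
def n66063 : Q := act 1 n30899
theorem D66063 : act 1 n30899 = n66063 := rfl
def n66064 : Q := act 5 n30899
theorem D66064 : act 5 n30899 = n66064 := rfl
def n66065 : Q := act 7 n30899
theorem D66065 : act 7 n30899 = n66065 := rfl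
def n66066 : Q := act 4 n30900
theorem D66066 : act 4 n30900 = n66066 := rfl
theorem F101730 : act 2 n66066 = n30904 := d1_1 D66066 (iv4 D30904) (iv2 F49351)
def n66067 : Q := act 6 n30900
theorem D66067 : act 6 n30900 = n66067 := rfl
theorem F101731 : act 2 n66067 = n30905 := d3_1 D66067 (iv6 D30905) (iv2 F49351)
def n66068 : Q := act 0 n30901
theorem D66068 : act 0 n30901 = n66068 := rfl
def n66069 : Q := act 1 n30901
theorem D66069 : act 1 n30901 = n66069 := rfl
theorem F101732 : act 1 n66069 = n30909 := d15_1 D66069 (iv7 D30909) (iv2 F49352)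
def n66070 : Q := act 5 n30901
theorem D66070 : act 5 n30901 = n66070 := rfl
theorem F101733 : act 2 n66070 = n30908 := d2_1 D66070 (iv5 D30908) (iv2 F49352)
def n66071 : Q := act 7 n30901
theorem D66071 : act 7 n30901 = n66071 := rfl
theorem F101734 : act 2 n66071 = n30909 := d4_1 D66071 (iv7 D30909) (iv2 F49352)
theorem F101735 : act 1 n30909 = n66068 := d15_0 (iv0 D66068) D66071 F101734
theorem F101736 : act 1 n30907 = n66071 := d15_1 D30907 (iv7 D66071) F49352
theorem F101737 : act 1 n66071 = n30906 := d15_0 (iv0 D30906) D30909 (iv2 F101734)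
def n66072 : Q := act 2 n30902
theorem D66072 : act 2 n30902 = n66072 := rfl
theorem F101738 : act 7 n30903 = n66072 := d15_2 (iv0 D30902) D30903 (iv2 D66072)
def n66073 : Q := act 3 n30902
theorem D66073 : act 3 n30902 = n66073 := rfl
def n66074 : Q := act 4 n30902
theorem D66074 : act 4 n30902 = n66074 := rfl
def n66075 : Q := act 5 n30902
theorem D66075 : act 5 n30902 = n66075 := rfl
def n66076 : Q := act 6 n30902
theorem D66076 : act 6 n30902 = n66076 := rfl
def n66077 : Q := act 7 n30902
theorem D66077 : act 7 n30902 = n66077 := rfl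
theorem F101739 : act 2 n66077 = n30903 := d4_1 D66077 F101738 (iv2 D66072)
def n66078 : Q := act 3 n30903
theorem D66078 : act 3 n30903 = n66078 := rfl
def n66079 : Q := act 4 n30903
theorem D66079 : act 4 n30903 = n66079 := rfl
def n66080 : Q := act 5 n30903
theorem D66080 : act 5 n30903 = n66080 := rfl
def n66081 : Q := act 6 n30903
theorem D66081 : act 6 n30903 = n66081 := rfl
def n66082 : Q := act 0 n30904
theorem D66082 : act 0 n30904 = n66082 := rfl
def n66083 : Q := act 1 n30904
theorem D66083 : act 1 n30904 = n66083 := rfl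
def n66084 : Q := act 5 n30904
theorem D66084 : act 5 n30904 = n66084 := rfl
theorem F101740 : act 3 n66084 = n32220 := d6_1 D66084 (iv5 D32220) (iv3 F49353)
def n66085 : Q := act 6 n30904
theorem D66085 : act 6 n30904 = n66085 := rfl
theorem F101741 : act 3 n66085 = n32221 := d7_1 D66085 (iv6 D32221) (iv3 F49353)
theorem F101742 : act 4 n66085 = n30905 := d10_1 D66085 (iv6 D30905) D30904
def n66086 : Q := act 0 n30905
theorem D66086 : act 0 n30905 = n66086 := rfl
def n66087 : Q := act 1 n30905
theorem D66087 : act 1 n30905 = n66087 := rfl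
def n66088 : Q := act 5 n30905
theorem D66088 : act 5 n30905 = n66088 := rfl
theorem F101743 : act 3 n66088 = n30912 := d6_1 D66088 (iv5 D30912) (iv3 F49354)
theorem F101744 : act 6 n66088 = n30908 := d12_2 D30905 D66088 (iv5 D30908) (iv6 D14632) D14631
def n66089 : Q := act 7 n30905
theorem D66089 : act 7 n30905 = n66089 := rfl
def n66090 : Q := act 2 n30906
theorem D66090 : act 2 n30906 = n66090 := rfl
theorem F101746 : act 7 n30907 = n66090 := d15_2 (iv0 D30906) D30907 (iv2 D66090)
def n66091 : Q := act 3 n30906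
theorem D66091 : act 3 n30906 = n66091 := rfl
def n66092 : Q := act 4 n30906
theorem D66092 : act 4 n30906 = n66092 := rfl
def n66093 : Q := act 5 n30906
theorem D66093 : act 5 n30906 = n66093 := rfl
def n66094 : Q := act 6 n30906
theorem D66094 : act 6 n30906 = n66094 := rfl
def n66095 : Q := act 7 n30906
theorem D66095 : act 7 n30906 = n66095 := rfl
theorem F101747 : act 2 n66095 = n30907 := d4_1 D66095 F101746 (iv2 D66090)
def n66096 : Q := act 3 n30907
theorem D66096 : act 3 n30907 = n66096 := rfl
def n66097 : Q := act 4 n30907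
theorem D66097 : act 4 n30907 = n66097 := rfl
def n66098 : Q := act 5 n30907
theorem D66098 : act 5 n30907 = n66098 := rfl
def n66099 : Q := act 6 n30907
theorem D66099 : act 6 n30907 = n66099 := rfl
def n66100 : Q := act 0 n30908
theorem D66100 : act 0 n30908 = n66100 := rfl
def n66101 : Q := act 1 n30908
theorem D66101 : act 1 n30908 = n66101 := rfl
def n66102 : Q := act 4 n30908
theorem D66102 : act 4 n30908 = n66102 := rfl
def n66103 : Q := act 7 n30908
theorem D66103 : act 7 n30908 = n66103 := rfl
theorem F101748 : act 3 n66103 = n30922 := d8_1 D66103 (iv7 D30922) (iv3 F49355)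
theorem F101749 : act 5 n66103 = n30909 := d13_1 D66103 (iv7 D30909) D30908
def n66104 : Q := act 2 n30910
theorem D66104 : act 2 n30910 = n66104 := rfl
theorem F101750 : act 7 n30911 = n66104 := d15_2 (iv0 D30910) D30911 (iv2 D66104)
def n66106 : Q := act 4 n30910
theorem D66106 : act 4 n30910 = n66106 := rfl
def n66107 : Q := act 5 n30910
theorem D66107 : act 5 n30910 = n66107 := rfl
def n66108 : Q := act 6 n30910
theorem D66108 : act 6 n30910 = n66108 := rfl
def n66109 : Q := act 7 n30910
theorem D66109 : act 7 n30910 = n66109 := rfl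
def n66110 : Q := act 3 n30911
theorem D66110 : act 3 n30911 = n66110 := rfl
def n66111 : Q := act 4 n30911
theorem D66111 : act 4 n30911 = n66111 := rfl
def n66112 : Q := act 5 n30911
theorem D66112 : act 5 n30911 = n66112 := rfl
def n66113 : Q := act 6 n30911
theorem D66113 : act 6 n30911 = n66113 := rfl
def n66114 : Q := act 0 n30912
theorem D66114 : act 0 n30912 = n66114 := rfl
def n66115 : Q := act 1 n30912
theorem D66115 : act 1 n30912 = n66115 := rfl
def n66116 : Q := act 4 n30912
theorem D66116 : act 4 n30912 = n66116 := rfl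
theorem F101752 : act 6 n66116 = n30921 := d10_2 (iv6 F49357) D66116 (iv4 D30921)
def n66117 : Q := act 7 n30912
theorem D66117 : act 7 n30912 = n66117 := rfl
theorem F101753 : act 5 n66117 = n30913 := d13_1 D66117 (iv7 D30913) D30912
def n66118 : Q := act 0 n30914
theorem D66118 : act 0 n30914 = n66118 := rfl
def n66119 : Q := act 1 n30914
theorem D66119 : act 1 n30914 = n66119 := rfl
def n66120 : Q := act 2 n30914
theorem D66120 : act 2 n30914 = n66120 := rfl
def n66121 : Q := act 4 n30914
theorem D66121 : act 4 n30914 = n66121 := rfl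
theorem F101754 : act 3 n66121 = n53960 := d5_1 D66121 (iv4 D53960) (iv3 D26088) (iv4 F47798) D30914
def n66122 : Q := act 5 n30914
theorem D66122 : act 5 n30914 = n66122 := rfl
theorem F101755 : act 3 n66122 = n30915 := d6_1 D66122 (iv5 D30915) D30914
def n66123 : Q := act 6 n30914
theorem D66123 : act 6 n30914 = n66123 := rfl
theorem F101756 : act 3 n66123 = n30916 := d7_1 D66123 (iv6 D30916) D30914
theorem F101757 : act 7 n66123 = n60892 := d14_2 F50070 D66123 F95440 (iv7 F48921) (iv6 F50069)
def n66124 : Q := act 0 n30915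
theorem D66124 : act 0 n30915 = n66124 := rfl
theorem F101758 : act 5 n66124 = n51761 := d17_3 D14634 D30915 D66124 (iv4 D51761) (iv5 D25133) F19686 (iv5 F20409) (iv0 D6992) (iv4 F11255)
theorem F101759 : act 1 n30918 = n66124 := d15_0 (iv0 D66124) (iv7 F50072) F50071
def n66125 : Q := act 1 n30915
theorem D66125 : act 1 n30915 = n66125 := rfl
theorem F101760 : act 1 n66125 = n30918 := d15_1 D66125 (iv7 F50064) F50063
theorem F101761 : act 5 n51751 = n66125 := d17_5 (iv1 F20405) F11257 D11935 D25129 D51751 F101760 (iv5 D30918) F40957 F40954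
def n66126 : Q := act 4 n30915
theorem D66126 : act 4 n30915 = n66126 := rfl
theorem F101762 : act 5 n66126 = n51841 := d16_1 D66126 (iv4 D51841) (iv5 D25165) F19710 F20551 (iv4 F47794) D30918 (iv7 F50064) F50063
def n66127 : Q := act 6 n30915
theorem D66127 : act 6 n30915 = n66127 := rfl
def n66128 : Q := act 0 n30917
theorem D66128 : act 0 n30917 = n66128 := rfl
def n66129 : Q := act 1 n30917
theorem D66129 : act 1 n30917 = n66129 := rfl
def n66130 : Q := act 2 n30917
theorem D66130 : act 2 n30917 = n66130 := rfl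
def n66131 : Q := act 4 n30917
theorem D66131 : act 4 n30917 = n66131 := rfl
theorem F101763 : act 3 n66131 = n53962 := d5_1 D66131 (iv4 D53962) (iv3 D26091) (iv4 F47794) D30917
def n66132 : Q := act 5 n30917
theorem D66132 : act 5 n30917 = n66132 := rfl
theorem F101764 : act 3 n66132 = n30918 := d6_1 D66132 (iv5 D30918) D30917
def n66133 : Q := act 4 n30918
theorem D66133 : act 4 n30918 = n66133 := rfl
def n66134 : Q := act 6 n30918
theorem D66134 : act 6 n30918 = n66134 := rfl
theorem F101765 : act 5 n66134 = n62822 := d12_1 D66134 (iv6 D62822) F47789 (iv6 F47795) D30918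
def n66136 : Q := act 4 n30919
theorem D66136 : act 4 n30919 = n66136 := rfl
theorem F101766 : act 1 n66136 = n53956 := d18_6 (iv1 F94152) F94154 F78647 (iv4 F100902) (iv5 F100904) D66136 (iv4 D53956) D53955 (iv5 F85085)
def n66139 : Q := act 4 n30920
theorem D66139 : act 4 n30920 = n66139 := rfl
theorem F101767 : act 0 n66139 = n53956 := d18_2 (iv1 F84406) D66139 (iv4 D53956) (iv5 D26086) F20548 D12367 (iv4 F47794) F40957 (iv5 F84404)
def n66141 : Q := act 0 n30921
theorem D66141 : act 0 n30921 = n66141 := rfl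
theorem F101768 : act 4 n66141 = n31763 := d18_3 (iv1 D30920) D30921 D66141 F100924 F100922 F49008 (iv4 F49595) F84594 F84591
def n66142 : Q := act 1 n30921
theorem D66142 : act 1 n30921 = n66142 := rfl
theorem F101769 : act 4 n66142 = n31764 := d18_7 (iv1 F47638) (iv4 D14642) (iv1 D6993) (iv4 F11255) D14636 D30921 D66142 F85091 F85089
def n66143 : Q := act 3 n30921
theorem D66143 : act 3 n30921 = n66143 := rfl
def n66144 : Q := act 5 n30921
theorem D66144 : act 5 n30921 = n66144 := rfl
def n66145 : Q := act 7 n30921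
theorem D66145 : act 7 n30921 = n66145 := rfl
theorem F101772 : act 4 n66145 = n30922 := d11_1 D66145 (iv7 D30922) D30921
def n66146 : Q := act 6 n30922
theorem D66146 : act 6 n30922 = n66146 := rfl
def n66147 : Q := act 0 n30923
theorem D66147 : act 0 n30923 = n66147 := rfl
def n66148 : Q := act 1 n30923
theorem D66148 : act 1 n30923 = n66148 := rfl
def n66149 : Q := act 2 n30923
theorem D66149 : act 2 n30923 = n66149 := rfl
def n66150 : Q := act 5 n30923
theorem D66150 : act 5 n30923 = n66150 := rfl
theorem F101773 : act 3 n66150 = n30924 := d6_1 D66150 (iv5 D30924) D30923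
def n66151 : Q := act 6 n30923
theorem D66151 : act 6 n30923 = n66151 := rfl
theorem F101774 : act 3 n66151 = n30925 := d7_1 D66151 (iv6 D30925) D30923
theorem F101775 : act 7 n66151 = n62686 := d14_2 F80019 D66151 F97795 (iv7 F48920) (iv6 F80018)
def n66152 : Q := act 0 n30924
theorem D66152 : act 0 n30924 = n66152 := rfl
theorem F101776 : act 5 n66152 = n53820 := d17_3 (iv1 F47640) D30924 D66152 F94154 (iv5 D28132) F22327 F22245 (iv0 D7118) (iv4 F11438)
theorem F101777 : act 1 n30928 = n66152 := d15_0 (iv0 D66152) (iv7 F80021) F80020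
def n66153 : Q := act 1 n30924
theorem D66153 : act 1 n30924 = n66153 := rfl
theorem F101778 : act 1 n66153 = n30928 := d15_1 D66153 (iv7 F84410) F84409
theorem F101779 : act 5 n59239 = n66153 := d17_5 (iv1 F20556) F11440 D13425 D28128 D59239 F101778 (iv5 D30928) F47638 F41265
def n66154 : Q := act 4 n30924
theorem D66154 : act 4 n30924 = n66154 := rfl
theorem F101780 : act 5 n66154 = n51742 := d16_1 D66154 (iv4 D51742) (iv5 D25124) F19685 (iv5 F11257) D14642 D30928 (iv7 F84410) F84409
def n66155 : Q := act 6 n30924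
theorem D66155 : act 6 n30924 = n66155 := rfl
def n66156 : Q := act 1 n30926
theorem D66156 : act 1 n30926 = n66156 := rfl
def n66157 : Q := act 3 n30926
theorem D66157 : act 3 n30926 = n66157 := rfl
theorem F101781 : act 4 n66157 = n30927 := d5_2 D30926 D66157 (iv3 D30927) (iv4 D14642) D14641
theorem F101782 : act 6 n66157 = n64422 := d7_2 (iv6 F49364) D66157 (iv3 D64422)
def n66158 : Q := act 5 n30926
theorem D66158 : act 5 n30926 = n66158 := rfl
def n66159 : Q := act 0 n30927
theorem D66159 : act 0 n30927 = n66159 := rfl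
def n66160 : Q := act 1 n30927
theorem D66160 : act 1 n30927 = n66160 := rfl
def n66161 : Q := act 2 n30927
theorem D66161 : act 2 n30927 = n66161 := rfl
theorem F101783 : act 6 n66161 = n65860 := d3_2 (iv6 F49365) D66161 (iv2 D65860)
def n66162 : Q := act 5 n30927
theorem D66162 : act 5 n30927 = n66162 := rfl
theorem F101784 : act 3 n66162 = n30928 := d6_1 D66162 (iv5 D30928) D30927
def n66163 : Q := act 4 n30928
theorem D66163 : act 4 n30928 = n66163 := rfl
def n66164 : Q := act 6 n30928
theorem D66164 : act 6 n30928 = n66164 := rfl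
theorem F101785 : act 5 n66164 = n62709 := d12_1 D66164 (iv6 D62709) F47633 (iv6 F24323) D30928
def n66169 : Q := act 3 n30930
theorem D66169 : act 3 n30930 = n66169 := rfl
def n66170 : Q := act 5 n30930
theorem D66170 : act 5 n30930 = n66170 := rfl
def n66171 : Q := act 0 n30931
theorem D66171 : act 0 n30931 = n66171 := rfl
def n66172 : Q := act 1 n30931
theorem D66172 : act 1 n30931 = n66172 := rfl
def n66173 : Q := act 2 n30931
theorem D66173 : act 2 n30931 = n66173 := rfl
def n66174 : Q := act 4 n30931
theorem D66174 : act 4 n30931 = n66174 := rfl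
def n66175 : Q := act 3 n30932
theorem D66175 : act 3 n30932 = n66175 := rfl
def n66176 : Q := act 5 n30932
theorem D66176 : act 5 n30932 = n66176 := rfl
def n66177 : Q := act 3 n30933
theorem D66177 : act 3 n30933 = n66177 := rfl
def n66178 : Q := act 5 n30933
theorem D66178 : act 5 n30933 = n66178 := rfl
def n66179 : Q := act 3 n30934
theorem D66179 : act 3 n30934 = n66179 := rfl
def n66181 : Q := act 0 n30935
theorem D66181 : act 0 n30935 = n66181 := rfl
def n66182 : Q := act 1 n30935
theorem D66182 : act 1 n30935 = n66182 := rfl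
def n66183 : Q := act 2 n30935
theorem D66183 : act 2 n30935 = n66183 := rfl
theorem F101794 : act 6 n66183 = n30940 := d3_2 (iv6 F49368) D66183 (iv2 D30940)
def n66184 : Q := act 5 n30935
theorem D66184 : act 5 n30935 = n66184 := rfl
theorem F101795 : act 3 n66184 = n30936 := d6_1 D66184 (iv5 D30936) D30935
def n66185 : Q := act 7 n30935
theorem D66185 : act 7 n30935 = n66185 := rfl
theorem F101796 : act 3 n66185 = n30937 := d8_1 D66185 (iv7 D30937) D30935
theorem F101797 : act 6 n66185 = n50581 := d14_1 D66185 F81453 (iv6 D51601) F39349 (iv6 F49368)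
def n66186 : Q := act 4 n30936
theorem D66186 : act 4 n30936 = n66186 := rfl
theorem F101798 : act 1 n66186 = n51742 := d18_6 (iv1 F80387) (iv4 D30932) (iv1 D14644) D14645 D30936 D66186 (iv4 D51742) D51741 F81684
def n66188 : Q := act 3 n30938
theorem D66188 : act 3 n30938 = n66188 := rfl
def n66189 : Q := act 4 n30938
theorem D66189 : act 4 n30938 = n66189 := rfl
def n66197 : Q := act 0 n30941
theorem D66197 : act 0 n30941 = n66197 := rfl
def n66198 : Q := act 1 n30941
theorem D66198 : act 1 n30941 = n66198 := rfl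
def n66199 : Q := act 2 n30941
theorem D66199 : act 2 n30941 = n66199 := rfl
theorem F101801 : act 3 n66199 = n30951 := d0_2 D30941 D66199 (iv2 D30951) (iv3 D14652) (iv2 F24327)
def n66200 : Q := act 5 n30941
theorem D66200 : act 5 n30941 = n66200 := rfl
theorem F101802 : act 3 n66200 = n30942 := d6_1 D66200 (iv5 D30942) D30941
def n66201 : Q := act 6 n30941
theorem D66201 : act 6 n30941 = n66201 := rfl
theorem F101803 : act 3 n66201 = n30943 := d7_1 D66201 (iv6 D30943) D30941
def n66202 : Q := act 6 n30942
theorem D66202 : act 6 n30942 = n66202 := rfl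
theorem F101804 : act 2 n66202 = n30956 := d3_1 D66202 (iv6 D30956) (iv2 F49372)
def n66203 : Q := act 0 n30943
theorem D66203 : act 0 n30943 = n66203 := rfl
def n66204 : Q := act 1 n30943
theorem D66204 : act 1 n30943 = n66204 := rfl
theorem F101805 : act 1 n66204 = n30960 := d15_1 D66204 (iv7 D30960) (iv2 F49375)
def n66205 : Q := act 5 n30943
theorem D66205 : act 5 n30943 = n66205 := rfl
theorem F101806 : act 2 n66205 = n30959 := d2_1 D66205 (iv5 D30959) (iv2 F49375)
def n66206 : Q := act 7 n30943
theorem D66206 : act 7 n30943 = n66206 := rfl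
theorem F101807 : act 2 n66206 = n30960 := d4_1 D66206 (iv7 D30960) (iv2 F49375)
theorem F101808 : act 4 n66206 = n30946 := d11_1 D66206 (iv7 D30946) (iv4 F49376)
theorem F101809 : act 1 n30960 = n66203 := d15_0 (iv0 D66203) D66206 F101807
theorem F101810 : act 1 n30958 = n66206 := d15_1 D30958 (iv7 D66206) F49375
theorem F101811 : act 4 n59633 = n66203 := d20_6 D25943 F46731 F20453 (iv3 F22655) D28297 D59633 (iv1 F101809) F49393 F24343 (iv1 F20420)
theorem F101812 : act 1 n66206 = n30957 := d15_0 (iv0 D30957) D30960 (iv2 F101807)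
def n66207 : Q := act 2 n30944
theorem D66207 : act 2 n30944 = n66207 := rfl
def n66208 : Q := act 3 n30944
theorem D66208 : act 3 n30944 = n66208 := rfl
def n66209 : Q := act 4 n30944
theorem D66209 : act 4 n30944 = n66209 := rfl
def n66210 : Q := act 5 n30944
theorem D66210 : act 5 n30944 = n66210 := rfl
theorem F101814 : act 0 n66210 = n63475 := d21_1 D66210 F100744 F100745 (iv1 D30676) (iv6 D14541) F19438 F24331 (iv5 D14649) D14650 D30944
def n66211 : Q := act 7 n30944
theorem D66211 : act 7 n30944 = n66211 := rfl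
def n66212 : Q := act 3 n30945
theorem D66212 : act 3 n30945 = n66212 := rfl
def n66213 : Q := act 4 n30945
theorem D66213 : act 4 n30945 = n66213 := rfl
def n66214 : Q := act 6 n30945
theorem D66214 : act 6 n30945 = n66214 := rfl
theorem F101816 : act 5 n66214 = n61334 := d12_1 D66214 F98427 (iv5 D63153) D63154 F98428
theorem F101817 : act 0 n66214 = n63069 := d21_4 (iv5 F100744) F98803 F98428 D66214 F98382 (iv5 D51442) (iv1 F81020) (iv5 F81170) (iv6 F98763) (iv1 F100743)
theorem F101818 : act 0 n63073 = n66214 := d21_10 F101816 F98702 F98699 (iv6 F80861) (iv1 F80863) D64981 F100777 D65525 F101200 (iv6 F98384)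
def n66215 : Q := act 0 n30947
theorem D66215 : act 0 n30947 = n66215 := rfl
def n66216 : Q := act 1 n30947
theorem D66216 : act 1 n30947 = n66216 := rfl
theorem F101819 : act 4 n64025 = n66216 := d20_6 (iv4 D14324) (iv1 D6841) D6842 D14328 D30186 D64025 (iv1 D66216) (iv4 F99523) (iv3 D63962) (iv1 F48522)
def n66217 : Q := act 2 n30947
theorem D66217 : act 2 n30947 = n66217 := rfl
def n66218 : Q := act 6 n30947
theorem D66218 : act 6 n30947 = n66218 := rfl
theorem F101820 : act 3 n66218 = n30948 := d7_1 D66218 (iv6 D30948) D30947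
def n66219 : Q := act 0 n30948
theorem D66219 : act 0 n30948 = n66219 := rfl
def n66220 : Q := act 1 n30948
theorem D66220 : act 1 n30948 = n66220 := rfl
def n66221 : Q := act 5 n30948
theorem D66221 : act 5 n30948 = n66221 := rfl
def n66222 : Q := act 2 n30949
theorem D66222 : act 2 n30949 = n66222 := rfl
theorem F101821 : act 7 n30950 = n66222 := d15_2 (iv0 D30949) D30950 (iv2 D66222)
def n66223 : Q := act 3 n30949
theorem D66223 : act 3 n30949 = n66223 := rfl
theorem F101822 : act 4 n66223 = n59547 := d20_6 (iv4 D14150) F19320 D7000 D14652 D30949 D66223 (iv1 D59547) (iv4 F93960) (iv3 D59540) F45775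
def n66224 : Q := act 4 n30949
theorem D66224 : act 4 n30949 = n66224 := rfl
def n66225 : Q := act 5 n30949
theorem D66225 : act 5 n30949 = n66225 := rfl
def n66226 : Q := act 6 n30949
theorem D66226 : act 6 n30949 = n66226 := rfl
def n66227 : Q := act 7 n30949
theorem D66227 : act 7 n30949 = n66227 := rfl
theorem F101823 : act 2 n66227 = n30950 := d4_1 D66227 F101821 (iv2 D66222)
def n66228 : Q := act 3 n30950
theorem D66228 : act 3 n30950 = n66228 := rfl
def n66229 : Q := act 5 n30950
theorem D66229 : act 5 n30950 = n66229 := rfl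
def n66230 : Q := act 6 n30950
theorem D66230 : act 6 n30950 = n66230 := rfl
def n66231 : Q := act 5 n30951
theorem D66231 : act 5 n30951 = n66231 := rfl
theorem F101824 : act 2 n66231 = n30952 := d2_1 D66231 (iv5 D30952) D30951
def n66232 : Q := act 6 n30951
theorem D66232 : act 6 n30951 = n66232 := rfl
theorem F101825 : act 2 n66232 = n30953 := d3_1 D66232 (iv6 D30953) D30951
theorem F101826 : act 4 n66232 = n30991 := d10_1 D66232 (iv6 D30991) (iv4 F49382)
def n66233 : Q := act 0 n30952
theorem D66233 : act 0 n30952 = n66233 := rfl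
def n66234 : Q := act 1 n30952
theorem D66234 : act 1 n30952 = n66234 := rfl
def n66235 : Q := act 4 n30952
theorem D66235 : act 4 n30952 = n66235 := rfl
def n66236 : Q := act 6 n30952
theorem D66236 : act 6 n30952 = n66236 := rfl
theorem F101827 : act 3 n66236 = n30956 := d7_1 D66236 (iv6 D30956) (iv3 F49383)
def n66237 : Q := act 0 n30953
theorem D66237 : act 0 n30953 = n66237 := rfl
def n66238 : Q := act 1 n30953
theorem D66238 : act 1 n30953 = n66238 := rfl
def n66239 : Q := act 5 n30953
theorem D66239 : act 5 n30953 = n66239 := rfl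
theorem F101828 : act 3 n66239 = n30959 := d6_1 D66239 (iv5 D30959) (iv3 F49384)
def n66240 : Q := act 7 n30953
theorem D66240 : act 7 n30953 = n66240 := rfl
theorem F101829 : act 3 n66240 = n30960 := d8_1 D66240 (iv7 D30960) (iv3 F49384)
theorem F101830 : act 4 n66240 = n30999 := d11_1 D66240 (iv7 D30999) (iv4 F49385)
def n66241 : Q := act 3 n30954
theorem D66241 : act 3 n30954 = n66241 := rfl
theorem F101831 : act 5 n66241 = n53454 := d6_2 (iv5 F49386) D66241 (iv3 D53454)
theorem F101832 : act 7 n66241 = n65444 := d8_2 F49388 D66241 F101157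
def n66242 : Q := act 6 n30954
theorem D66242 : act 6 n30954 = n66242 := rfl
theorem F101833 : act 2 n66242 = n65456 := d3_1 D66242 (iv6 D65456) F49387
theorem F101834 : act 4 n66242 = n66022 := d10_1 D66242 (iv6 D66022) F49389
def n66243 : Q := act 3 n30955
theorem D66243 : act 3 n30955 = n66243 := rfl
theorem F101835 : act 5 n66243 = n53456 := d6_2 (iv5 F49391) D66243 (iv3 D53456)
theorem F101836 : act 7 n66243 = n65454 := d8_2 (iv7 F49390) D66243 F101160
def n66244 : Q := act 6 n30955
theorem D66244 : act 6 n30955 = n66244 := rfl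
theorem F101837 : act 2 n66244 = n65446 := d3_1 D66244 (iv6 D65446) F49392
def n66245 : Q := act 0 n30956
theorem D66245 : act 0 n30956 = n66245 := rfl
def n66246 : Q := act 1 n30956
theorem D66246 : act 1 n30956 = n66246 := rfl
def n66247 : Q := act 5 n30956
theorem D66247 : act 5 n30956 = n66247 := rfl
theorem F101838 : act 6 n66247 = n30959 := d12_2 D30956 D66247 (iv5 D30959) (iv6 D14654) D14653
def n66248 : Q := act 7 n30956
theorem D66248 : act 7 n30956 = n66248 := rfl
def n66249 : Q := act 2 n30957
theorem D66249 : act 2 n30957 = n66249 := rfl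
theorem F101839 : act 7 n30958 = n66249 := d15_2 (iv0 D30957) D30958 (iv2 D66249)
def n66250 : Q := act 3 n30957
theorem D66250 : act 3 n30957 = n66250 := rfl
def n66251 : Q := act 4 n30957
theorem D66251 : act 4 n30957 = n66251 := rfl
theorem F101840 : act 3 n64735 = n66251 := d20_5 D53521 F100606 (iv4 F100604) F100603 D64735 (iv4 D66251) (iv1 F101812) F101808 (iv3 F78101) (iv1 F78104)
def n66252 : Q := act 5 n30957
theorem D66252 : act 5 n30957 = n66252 := rfl
def n66253 : Q := act 6 n30957
theorem D66253 : act 6 n30957 = n66253 := rfl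
def n66254 : Q := act 7 n30957
theorem D66254 : act 7 n30957 = n66254 := rfl
theorem F101841 : act 2 n66254 = n30958 := d4_1 D66254 F101839 (iv2 D66249)
def n66255 : Q := act 3 n30958
theorem D66255 : act 3 n30958 = n66255 := rfl
def n66256 : Q := act 5 n30958
theorem D66256 : act 5 n30958 = n66256 := rfl
def n66257 : Q := act 6 n30958
theorem D66257 : act 6 n30958 = n66257 := rfl
def n66258 : Q := act 0 n30959
theorem D66258 : act 0 n30959 = n66258 := rfl
theorem F101842 : act 5 n66258 = n64961 := d21_8 D51295 F80914 (iv5 D51096) F38969 F19178 D14654 D30959 D66258 (iv6 D64961) (iv1 F48913)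
theorem E9038 : n51206 = n51120 := (c17_10 (iv1 D51120) D51121 F80641 (iv5 F98295) (iv4 F100760) (iv5 F101842) (iv0 D66258) (iv5 D30959) D30958 (iv4 F80785))
theorem F101843 : act 3 n51120 = n24910 := (sb E9038 (iv3 D51206))
theorem F101844 : act 4 n51120 = n30958 := (sb E9038 F80785)
def n66259 : Q := act 1 n30959
theorem D66259 : act 1 n30959 = n66259 := rfl
def n66260 : Q := act 4 n30959
theorem D66260 : act 4 n30959 = n66260 := rfl
def n66261 : Q := act 7 n30959
theorem D66261 : act 7 n30959 = n66261 := rfl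
theorem F101845 : act 5 n66261 = n30960 := d13_1 D66261 (iv7 D30960) D30959
def n66262 : Q := act 0 n30961
theorem D66262 : act 0 n30961 = n66262 := rfl
theorem F101846 : act 1 n30966 = n66262 := d15_0 (iv0 D66262) (iv7 F49394) (iv2 F49395)
def n66264 : Q := act 3 n30961
theorem D66264 : act 3 n30961 = n66264 := rfl
theorem F101848 : act 7 n66264 = n30967 := d8_2 F49394 D66264 (iv3 D30967)
def n66265 : Q := act 4 n30961
theorem D66265 : act 4 n30961 = n66265 := rfl
theorem F101849 : act 2 n66265 = n30963 := d1_1 D66265 (iv4 D30963) D30961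
theorem F101850 : act 7 n66265 = n30968 := d11_2 F49394 D66265 (iv4 D30968)
theorem F101851 : act 1 n30963 = n62946 := d15_0 (iv0 F98753) (iv7 F101850) F101849
def n66266 : Q := act 5 n30961
theorem D66266 : act 5 n30961 = n66266 := rfl
theorem F101852 : act 2 n66266 = n30964 := d2_1 D66266 (iv5 D30964) D30961
theorem F101853 : act 7 n66266 = n30969 := d13_2 F49394 D66266 (iv5 D30969)
theorem F101854 : act 1 n63074 = n30969 := d15_1 (iv0 F98757) (iv7 F101853) F101852
def n66267 : Q := act 6 n30961
theorem D66267 : act 6 n30961 = n66267 := rfl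
theorem F101855 : act 2 n66267 = n30965 := d3_1 D66267 (iv6 D30965) D30961
theorem F101856 : act 7 n51300 = n66267 := d15_2 (iv0 F79379) (iv0 F80924) F101855
def n66268 : Q := act 0 n30962
theorem D66268 : act 0 n30962 = n66268 := rfl
def n66269 : Q := act 1 n30962
theorem D66269 : act 1 n30962 = n66269 := rfl
def n66270 : Q := act 2 n30962
theorem D66270 : act 2 n30962 = n66270 := rfl
def n66271 : Q := act 4 n30962
theorem D66271 : act 4 n30962 = n66271 := rfl
theorem F101857 : act 0 n51188 = n66271 := d20_7 (iv4 F101808) (iv1 F101810) (iv4 F101844) F101843 (iv1 D24910) (iv3 F39054) (iv4 F80757) (iv4 D66271) (iv3 D30962) (iv1 F49381)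
def n66272 : Q := act 5 n30962
theorem D66272 : act 5 n30962 = n66272 := rfl
theorem F101858 : act 3 n66272 = n30964 := d6_1 D66272 (iv5 D30964) D30962
def n66273 : Q := act 6 n30962
theorem D66273 : act 6 n30962 = n66273 := rfl
theorem F101859 : act 3 n66273 = n30965 := d7_1 D66273 (iv6 D30965) D30962
def n66274 : Q := act 7 n30962
theorem D66274 : act 7 n30962 = n66274 := rfl
theorem F101860 : act 3 n66274 = n30966 := d8_1 D66274 (iv7 D30966) D30962
def n66275 : Q := act 0 n30963
theorem D66275 : act 0 n30963 = n66275 := rfl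
def n66276 : Q := act 3 n30963
theorem D66276 : act 3 n30963 = n66276 := rfl
def n66277 : Q := act 5 n30963
theorem D66277 : act 5 n30963 = n66277 := rfl
def n66278 : Q := act 6 n30963
theorem D66278 : act 6 n30963 = n66278 := rfl
theorem F101861 : act 4 n66278 = n30965 := d10_1 D66278 (iv6 D30965) D30963
def n66279 : Q := act 7 n30963
theorem D66279 : act 7 n30963 = n66279 := rfl
theorem F101862 : act 2 n66279 = n30968 := d4_1 D66279 (iv7 F101850) F101849
theorem F101863 : act 4 n66279 = n30966 := d11_1 D66279 (iv7 D30966) D30963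
theorem F101864 : act 1 n30968 = n66275 := d15_0 (iv0 D66275) D66279 F101862
theorem F101865 : act 7 n66275 = n51118 := d15_2 (iv0 F98753) F101864 (iv2 F98205)
theorem F101866 : act 4 n51122 = n66275 := d11_3 F101865 F80638 D51122
theorem E9039 : n59534 = n13509 := (c20_6 D30963 D66275 (iv4 F101866) (iv3 F93783) (iv1 F93786) D59534 (iv4 F46539) (iv1 D14671) F11269 (iv3 F11262) D14656)
theorem E9040 : n28306 = n28266 := ((D28306).symm.trans (sb E9039 (iv3 D59534)))
theorem F101867 : act 3 n28266 = n13509 := (sb E9040 (iv3 D28306))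
theorem E9045 : n59652 = n59536 := (((D59536).symm.trans (sb E9040 D59652))).symm
theorem E9046 : n59653 = n59537 := (((D59537).symm.trans (sb E9040 D59653))).symm
theorem E9047 : n59529 = n48851 := ((F93955).symm.trans (sb E9040 F76953))
theorem F101868 : act 3 n59536 = n28308 := (sb E9045 F94042)
theorem E9048 : n59403 = n28987 := (((iv6 F93957)).symm.trans (sb E9045 (iv6 F94043)))
theorem F101869 : act 3 n59537 = n28309 := (sb E9046 F94044)
theorem E9049 : n60829 = n60743 := (((iv5 F95392)).symm.trans (sb E9046 (iv5 F95342)))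
theorem F101870 : act 2 n48851 = n28265 := (sb E9047 (iv2 D59529))
theorem F101871 : act 7 n48851 = n28266 := (sb E9047 (iv7 F93955))
theorem E9050 : n61226 = n29364 := ((D61226).symm.trans (sb E9048 (iv1 F93748)))
theorem E9051 : n61227 = n28209 := ((D61227).symm.trans (sb E9048 (iv0 D59403)))
theorem F101872 : act 6 n28987 = n59536 := (sb E9048 F93957)
theorem F101873 : act 0 n60743 = n62025 := (sb E9049 (iv1 F96648))
theorem F101874 : act 1 n60743 = n28856 := (sb E9049 (iv0 D60829))
theorem F101875 : act 5 n60743 = n59537 := (sb E9049 F95392)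
theorem E9052 : n62482 = n59404 := ((((iv1 F93749)).symm.trans (sb E9050 (iv1 F97370)))).symm
theorem F101876 : act 1 n29364 = n28987 := (sb E9050 (iv0 D61226))
theorem F101877 : act 0 n28209 = n28987 := (sb E9051 (iv1 D61227))
theorem F101878 : act 2 n59404 = n29530 := (sb E9052 (iv2 D62482))
theorem F101879 : act 3 n59404 = n61228 := (sb E9052 F97368)
theorem F101880 : act 7 n59404 = n61228 := (sb E9052 F97369)
theorem E9053 : n66269 = n52201 := ((c20_4 D59535 F98731 (iv4 F48810) (iv3 F82536) (iv1 D66269) (iv3 D30962) D30963 D66275 (iv4 F101866) (iv3 F93783) (iv1 F93786))).symm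
theorem F101881 : act 0 n52201 = n30962 := (sb E9053 (iv1 D66269))
theorem F101882 : act 0 n63533 = n63053 := d20_1 D63533 F98369 F80561 F101877 (iv3 D28987) D28988 (iv1 F98511) F23798 (iv3 F23765) D30001
theorem F101883 : act 0 n63187 = n63681 := d20_7 (iv4 F23798) F98510 (iv4 D28988) D28987 (iv1 F101876) (iv3 F93663) (iv4 F98447) (iv4 D63681) (iv3 D30052) (iv1 F23800)
theorem F101884 : act 0 n60727 = n61230 := d21_10 (iv5 D61230) (iv1 F101876) F47027 (iv6 D29364) F23255 D28911 F46558 D50891 F80286 D60727
theorem F101885 : act 1 n63160 = n63681 := d15_0 (iv0 F101883) (iv7 F98904) F98902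
theorem F101886 : act 2 n62066 = n60830 := d15_3 F96647 (iv0 F101873) (iv7 F96734)
theorem E9054 : n59644 = n59530 := ((c0_3 D48851 F101870 D59530 (iv2 D59644) (iv3 D28302) (iv2 F76941))).symm
theorem F101887 : act 2 n59530 = n28302 := (sb E9054 (iv2 D59644))
theorem F101888 : act 2 n49754 = n31509 := d3_3 (iv6 F76925) F101870 F93887
theorem F101889 : act 2 n49786 = n49936 := d2_3 F93885 F101888 (iv5 F78695)
theorem F101890 : act 3 n49754 = n49936 := d0_2 D31509 (iv2 F101888) (iv2 F101889) (iv3 D49786) F76943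
theorem E9055 : n59530 = n48816 := ((c7_3 F93887 F101890 (iv6 F93886) (iv3 D59530))).symm
theorem F101891 : act 2 n48816 = n28302 := (sb E9055 F101887)
theorem F101892 : act 3 n48816 = n28265 := (sb E9055 (iv3 D59530))
theorem E9056 : n48854 = n48817 := ((c15_2 (iv0 D48816) D48817 F76967 (iv2 F101891))).symm
theorem F101893 : act 3 n48817 = n23820 := (sb E9056 (iv3 D48854))
theorem F101894 : act 5 n48817 = n62485 := (sb E9056 F97378)
theorem F101895 : act 7 n48817 = n28302 := (sb E9056 F76967)
theorem E9057 : n59368 = n29530 := (c21_5 (iv5 D13969) (iv1 F10765) D13750 D28849 (iv1 F93644) D62485 (iv5 F101894) (iv1 D48817) (iv5 F46493) (iv6 D28854) (iv1 F23266))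
theorem E9058 : n62480 = n28194 := ((D62480).symm.trans (sb E9057 (iv1 D59368)))
theorem E9059 : n62481 = n28849 := ((D62481).symm.trans (sb E9057 F93644))
theorem E9060 : n61228 = n59367 := (((D59367).symm.trans (sb E9058 (iv1 F97367)))).symm
theorem F101896 : act 1 n28194 = n29530 := (sb E9058 (iv0 D62480))
theorem F101897 : act 0 n28849 = n29530 := (sb E9059 (iv1 D62481))
theorem F101898 : act 2 n59367 = n28987 := (sb E9060 (iv2 D61228))
theorem F101899 : act 3 n59367 = n59404 := (sb E9060 (iv3 F101879))
theorem F101900 : act 7 n59367 = n59404 := (sb E9060 (iv7 F101880))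
theorem F101901 : act 0 n63152 = n63437 := d20_1 D63152 F98769 F79255 F101897 (iv3 D29530) D29531 (iv1 F98504) F23707 (iv3 F23696) D29859
theorem F101902 : act 0 n63569 = n63304 := d20_7 (iv4 F23707) F98503 (iv4 D29531) D29530 (iv1 F101896) (iv3 F93589) (iv4 F98903) (iv4 D63304) (iv3 D29909) (iv1 F23708)
theorem F101903 : act 0 n62053 = n62484 := d21_10 (iv5 D62484) (iv1 F101896) F45597 (iv6 D28194) (iv1 F22421) D28203 F45627 D51926 F81977 D62053
theorem E9061 : n62115 = n62065 := (c21_5 (iv5 F22422) (iv1 F23856) (iv5 F23311) D29408 D62115 F97376 (iv5 D62484) (iv1 F101896) F45597 (iv6 D28194) (iv1 F22421))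
theorem F101904 : act 0 n62065 = n60698 := (sb E9061 (iv1 F96826))
theorem F101905 : act 1 n62065 = n29408 := (sb E9061 (iv0 D62115))
theorem F101906 : act 2 n60745 = n62116 := d15_3 F96822 (iv0 F101904) F96732
theorem F101907 : act 3 n62116 = n60830 := d0_2 D60745 F101906 (iv2 F101886) (iv3 D62066) (iv2 F76965)
theorem F101908 : act 6 n62116 = n60830 := d3_2 F96733 F101906 (iv2 F101886)
theorem F101909 : act 1 n63541 = n63304 := d15_0 (iv0 F101902) F98904 (iv2 F98861)
theorem F101911 : act 0 n50112 = n60685 := d20_10 F98525 (iv1 D63148) F48010 F23696 D14203 D29909 D63304 (iv1 F101909) F98862 F93604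
theorem F101912 : act 1 n51080 = n60685 := d15_0 (iv0 F101911) (iv7 F80582) F80580
theorem E9062 : n64008 = n53561 := (c20_8 (iv4 F24361) (iv1 F40994) (iv4 F47154) (iv3 F101893) (iv1 D48817) (iv3 F76889) F76890 D64008 (iv4 D53561) (iv3 D25938) (iv1 F20426))
theorem F101913 : act 0 n53561 = n30458 := (sb E9062 (iv1 F99594))
theorem F101914 : act 1 n53561 = n30181 := (sb E9062 (iv0 D64008))
theorem F101915 : act 2 n31031 = n64009 := d15_3 F99590 (iv0 F101913) F84492
theorem F101916 : act 4 n64009 = n31030 := d1_2 D31031 F101915 (iv2 D31030)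
theorem E9063 : n49935 = n31505 := (c15_2 F93884 F93888 (iv7 F78697) F101889)
theorem F101917 : act 0 n31505 = n59485 := (sb E9063 (iv1 F93888))
theorem F101918 : act 1 n31505 = n24352 := (sb E9063 (iv0 D49935))
theorem E9064 : n49784 = n49753 := (((iv5 F78688)).symm.trans (sb E9063 (iv5 F93889)))
theorem F101919 : act 3 n49753 = n24273 := (sb E9064 (iv3 D49784))
theorem F101920 : act 5 n49753 = n31505 := (sb E9064 F78688)
theorem F101921 : act 7 n49753 = n31509 := (sb E9064 F78689)
theorem F101922 : act 0 n66278 = n51307 := d20_1 (iv4 F101861) F80946 F78616 D49753 F101919 (iv4 F53759) (iv1 F53760) F53755 (iv3 F53737) F79379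
theorem F101923 : act 1 n50197 = n65511 := d18_6 F79379 (iv4 F101861) F101922 F80946 F78617 (iv4 F79556) (iv4 D65511) F49146 (iv5 F53738)
theorem F101924 : act 1 n65524 = n50197 := d15_0 F101923 (iv7 F101232) (iv2 F101233)
theorem E9065 : n59480 = n26040 := (c20_5 D65511 (iv1 F101923) F79556 (iv3 F76801) F93876 (iv3 D26040) F53680 (iv1 F40893) F40889 (iv3 F40869) (iv1 F49146))
theorem E9066 : n53866 = n48776 := ((D53866).symm.trans (sb E9065 (iv0 F93876)))
theorem E9067 : n28242 = n26043 := ((((iv5 F41167)).symm.trans (sb E9065 (iv5 D59480)))).symm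
theorem E9068 : n59566 = n34250 := ((((iv6 F53895)).symm.trans (sb E9065 (iv6 F93984)))).symm
theorem F101925 : act 0 n48776 = n26040 := (sb E9066 (iv1 D53866))
theorem E9069 : n59476 = n31496 := (((iv0 F93872)).symm.trans (sb E9066 F84910))
theorem E9070 : n53869 = n13482 := ((D53869).symm.trans (sb E9067 (iv1 D28242)))
theorem E9071 : n59410 = n53870 := (((D53870).symm.trans (sb E9067 F93766))).symm
theorem E9075 : n59481 = n53873 := (((D53873).symm.trans (sb E9067 D59481))).symm
theorem F101926 : act 0 n34250 = n49913 := (sb E9068 (iv1 F93993))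
theorem F101927 : act 1 n34250 = n28276 := (sb E9068 (iv0 D59566))
theorem E9077 : n49731 = n34251 := ((((iv5 F53896)).symm.trans (sb E9068 F93985))).symm
theorem F101928 : act 0 n31496 = n48776 := (sb E9069 F93872)
theorem E9078 : n53865 = n48802 := ((F84906).symm.trans (sb E9069 F93874))
theorem E9079 : n31482 = n28241 := ((F49796).symm.trans (sb E9069 (iv5 D59476)))
theorem F101929 : act 1 n13482 = n26043 := (sb E9070 (iv0 D53869))
theorem F101930 : act 2 n53870 = n28244 := (sb E9071 F93761)
theorem F101931 : act 3 n53870 = n51106 := (sb E9071 F93762)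
theorem F101932 : act 5 n53870 = n49937 := (sb E9071 F93763)
theorem F101933 : act 6 n53870 = n28259 := (sb E9071 F93764)
theorem F101934 : act 7 n53870 = n28211 := (sb E9071 (iv7 D59410))
theorem F101935 : act 0 n53873 = n59626 := (sb E9075 F94032)
theorem F101936 : act 0 n34251 = n24253 := (sb E9077 (iv1 D49731))
theorem F101937 : act 0 n48802 = n31496 := (sb E9078 (iv1 F84906))
theorem F101938 : act 1 n48802 = n26040 := (sb E9078 (iv0 D53865))
theorem F101939 : act 0 n28241 = n53870 := (sb E9079 (iv1 F84918))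
theorem F101940 : act 2 n28241 = n14832 := (sb E9079 (iv2 D31482))
theorem E9080 : n59474 = n53867 := ((D59474).symm.trans (sb E9079 (iv3 F84907)))
theorem F101941 : act 5 n28241 = n31496 := (sb E9079 (iv5 F49796))
theorem F101942 : act 7 n28241 = n53871 := (sb E9079 (iv7 F84916))
theorem F101943 : act 3 n53867 = n28241 := (sb E9080 (iv3 D59474))
theorem F101944 : act 2 n31483 = n59475 := d1_3 (iv4 D59475) F101940 D31483
theorem F101945 : act 2 n31484 = n49730 := d3_3 F93873 F101940 D31484
theorem F101946 : act 2 n59567 = n49968 := d2_3 F79033 F101945 F93987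
theorem F101947 : act 4 n65506 = n51106 := d20_2 D30703 D65506 (iv3 F101931) (iv1 D53870) (iv3 D26043) F53683 (iv1 D14583) F11233 (iv3 F11217) D14550
theorem F101948 : act 7 n51103 = n65506 := d11_0 F101947 (iv7 D51106) (iv4 F80619)
theorem E9081 : n65507 = n65409 := ((c15_4 F101188 F101191 (iv7 F101948) (iv2 F101109))).symm
theorem F101949 : act 0 n65409 = n30703 := (sb E9081 (iv1 D65507))
theorem F101950 : act 1 n65409 = n30707 := (sb E9081 F101188)
theorem F101951 : act 0 n65170 = n50084 := d18_2 (iv1 F79389) D65170 F79279 (iv5 F80584) (iv4 F101110) F101950 (iv4 D30707) F49126 (iv5 F79386)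
theorem E9082 : n65820 = n59438 := ((c20_7 (iv4 F40889) (iv1 F40892) (iv4 F53683) D26043 (iv1 F101929) (iv3 F45680) (iv4 F93825) (iv1 D65820) (iv4 D30806) (iv3 D14587) (iv1 F20376))).symm
theorem F101952 : act 0 n59438 = n30806 := (sb E9082 (iv1 D65820))
theorem F101953 : act 4 n59469 = n65519 := d20_2 (iv4 F45727) D59469 F101196 (iv1 F78087) F40869 (iv4 F40889) (iv1 F40892) (iv4 F53683) D26043 (iv1 F101929)
theorem E9083 : n53558 = n14444 := (c20_5 (iv4 F20453) (iv1 F47164) (iv4 D25939) D25938 D53558 (iv3 F48821) (iv4 F100487) (iv1 F100490) (iv4 D59535) F101867 (iv1 D13509))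
theorem E9084 : n31030 = n30170 := ((((iv1 F48529)).symm.trans (sb E9083 (iv1 F84486)))).symm
theorem E9085 : n30169 = n25938 := ((F48532).symm.trans (sb E9083 (iv0 D53558)))
theorem E9086 : n53559 = n14321 := ((((iv1 D30170)).symm.trans (sb E9084 (iv1 F84490)))).symm
theorem E9087 : n14680 = n14442 := (((F99933).symm.trans (sb E9084 (iv2 D31030)))).symm
theorem E9088 : n63979 = n53568 := ((D63979).symm.trans (sb E9084 (iv3 F84503)))
theorem E9089 : n64009 = n63980 := (((D63980).symm.trans (sb E9084 (iv4 F101916)))).symm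
theorem E9090 : n53560 = n14441 := ((((iv7 F99936)).symm.trans (sb E9084 (iv7 F84488)))).symm
theorem F101954 : act 0 n25938 = n14444 := (sb E9085 (iv1 F48532))
theorem E9092 : n63976 = n53561 := (((D53561).symm.trans (sb E9085 D63976))).symm
theorem E9093 : n63977 = n53562 := (((D53562).symm.trans (sb E9085 D63977))).symm
theorem E9094 : n53230 = n34190 := ((((iv6 F53771)).symm.trans (sb E9085 F99388))).symm
theorem F101955 : act 0 n14321 = n25938 := (sb E9086 (iv1 D53559))
theorem E9097 : n30407 = n7008 := ((D30407).symm.trans (sb E9087 (iv3 D14680)))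
theorem E9098 : n31031 = n30408 := (((D30408).symm.trans (sb E9087 D31031))).symm
theorem E9099 : n31032 = n30409 := (((D30409).symm.trans (sb E9087 D31032))).symm
theorem E9100 : n31033 = n30410 := (((D30410).symm.trans (sb E9087 D31033))).symm
theorem F101956 : act 7 n14442 = n25938 := (sb E9087 F49082)
theorem F101957 : act 3 n53568 = n30170 := (sb E9088 (iv3 D63979))
theorem E9101 : n31022 = n30402 := ((F84504).symm.trans (sb E9088 F99998))
theorem F101958 : act 0 n63980 = n30181 := (sb E9089 (iv1 D64009))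
theorem F101959 : act 1 n63980 = n30458 := (sb E9089 F99590)
theorem F101960 : act 2 n14441 = n25938 := (sb E9090 (iv2 D53560))
theorem F101961 : act 2 n53561 = n30403 := (sb E9092 F100000)
theorem F101962 : act 0 n53562 = n63579 := (sb E9093 F99737)
theorem F101963 : act 1 n53562 = n63555 := (sb E9093 (iv0 F99731))
theorem F101964 : act 2 n53562 = n30404 := (sb E9093 F99993)
theorem F101965 : act 0 n34190 = n25811 := (sb E9094 (iv1 D53230))
theorem F101966 : act 1 n34190 = n30245 := (sb E9094 F84069)
theorem F101967 : act 2 n34190 = n30244 := (sb E9094 F99937)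
theorem E9102 : n30611 = n30332 := ((F53770).symm.trans (sb E9094 F99386))
theorem E9103 : n30607 = n30243 := ((F53772).symm.trans (sb E9094 F99938))
theorem F101968 : act 3 n7008 = n14442 := (sb E9097 (iv3 D30407))
theorem E9108 : n64615 = n14682 := (((D14682).symm.trans (sb E9097 D64615))).symm
theorem E9109 : n64616 = n14683 := (((D14683).symm.trans (sb E9097 D64616))).symm
theorem F101969 : act 7 n30408 = n53561 := (sb E9098 (iv7 F84492))
theorem E9110 : n30134 = n30052 := (((iv6 F48843)).symm.trans (sb E9099 (iv6 F49441)))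
theorem F101970 : act 7 n30409 = n53562 := (sb E9099 (iv7 F84495))
theorem E9111 : n62633 = n62528 := (((iv5 F97690)).symm.trans (sb E9100 (iv5 F97496)))
theorem E9112 : n65204 = n64189 := ((((iv7 F99929)).symm.trans (sb E9100 (iv7 F100964)))).symm
theorem E9115 : n64604 = n14675 := ((D64604).symm.trans (sb E9101 (iv2 D31022)))
theorem E9116 : n65209 = n64191 := ((((iv6 F100009)).symm.trans (sb E9101 (iv6 F100970)))).symm
theorem F101971 : act 7 n30402 = n53568 := (sb E9101 (iv7 F84504))
theorem E9119 : n64191 = n34084 := ((((iv2 F99944)).symm.trans (sb E9102 (tr D65209 E9116)))).symm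
theorem E9120 : n64415 = n14515 := ((D64415).symm.trans (sb E9102 (iv3 D30611)))
theorem E9121 : n65210 = n64416 := (((D64416).symm.trans (sb E9102 D65210))).symm
theorem F101972 : act 5 n30332 = n34190 := (sb E9102 (iv5 F53770))
theorem E9122 : n49519 = n14675 := ((F99387).symm.trans (sb E9102 F49083))
theorem E9123 : n34187 = n34083 := ((((iv7 F99939)).symm.trans (sb E9102 (iv7 F53762)))).symm
theorem E9127 : n64187 = n14514 := ((D64187).symm.trans (sb E9103 (iv3 D30607)))
theorem F101973 : act 7 n30243 = n34190 := (sb E9103 (iv7 F53772))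
theorem F101974 : act 3 n14682 = n30409 := (sb E9108 F100538)
theorem F101975 : act 3 n14683 = n30410 := (sb E9109 F100540)
theorem E9130 : n63678 = n25775 := ((D63678).symm.trans (sb E9110 (iv1 F48440)))
theorem E9131 : n63679 = n14303 := ((D63679).symm.trans (sb E9110 (iv0 D30134)))
theorem E9132 : n63680 = n30099 := ((D63680).symm.trans (sb E9110 F99953))
theorem E9133 : n63887 = n63681 := (((D63681).symm.trans (sb E9110 D63887))).symm
theorem E9134 : n63888 = n63682 := (((D63682).symm.trans (sb E9110 D63888))).symm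
theorem F101976 : act 6 n30052 = n30409 := (sb E9110 F48843)
theorem E9135 : n30100 = n29909 := ((((iv7 F49072)).symm.trans (sb E9110 F99954))).symm
theorem F101977 : act 0 n62528 = n61303 := (sb E9111 (iv1 F97695))
theorem F101978 : act 1 n62528 = n29620 := (sb E9111 (iv0 D62633))
theorem F101979 : act 2 n62528 = n61301 := (sb E9111 (iv2 F99932))
theorem F101980 : act 5 n62528 = n30410 := (sb E9111 F97690)
theorem E9136 : n61346 = n61302 := ((F97497).symm.trans (sb E9111 F99930))
theorem F101981 : act 3 n64189 = n30609 := (sb E9112 F100963)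
theorem F101984 : act 2 n14675 = n30402 := (sb E9115 (iv2 D64604))
theorem F101985 : act 3 n34084 = n30244 := (sb E9119 (iv3 D64191))
theorem E9137 : n30402 = n25827 := ((((iv6 F81363)).symm.trans (sb E9119 F100009))).symm
theorem F101986 : act 3 n14515 = n30332 := (sb E9120 (iv3 D64415))
theorem F101987 : act 6 n64416 = n31023 := (sb E9121 F100971)
theorem E9138 : n31020 = n25830 := ((D31020).symm.trans (sb E9122 (iv1 F78284)))
theorem E9139 : n31021 = n24170 := ((D31021).symm.trans (sb E9122 (iv0 D49519)))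
theorem F101988 : act 6 n14675 = n30332 := (sb E9122 (iv6 F99387))
theorem E9140 : n25942 = n25828 := (((iv7 F49064)).symm.trans (sb E9122 F99946))
theorem F101989 : act 3 n34083 = n16548 := (sb E9123 (iv3 D34187))
theorem F101990 : act 3 n14514 = n30243 := (sb E9127 (iv3 D64187))
theorem E9142 : n63303 = n30135 := ((((iv1 F48441)).symm.trans (sb E9130 (iv1 F99001)))).symm
theorem F101991 : act 1 n25775 = n30052 := (sb E9130 (iv0 D63678))
theorem F101992 : act 0 n14303 = n30052 := (sb E9131 (iv1 D63679))
theorem E9143 : n63302 = n25785 := ((((iv1 F48365)).symm.trans (sb E9132 (iv1 F99006)))).symm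
theorem E9144 : n63301 = n14286 := ((((iv0 D30099)).symm.trans (sb E9132 F99004))).symm
theorem F101993 : act 2 n30099 = n30052 := (sb E9132 (iv2 D63680))
theorem E9145 : n63789 = n30135 := ((D63789).symm.trans (sb E9132 (tr F99002 E9142)))
theorem F101994 : act 2 n63681 = n63790 := (sb E9133 (iv2 F99990))
theorem F101995 : act 6 n63681 = n64620 := (sb E9133 (iv6 F100542))
theorem E9146 : n63795 = n63304 := (((F99007).symm.trans (sb E9133 (iv7 F99956)))).symm
theorem F101996 : act 1 n63682 = n62522 := (sb E9134 (iv0 F99360))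
theorem F101997 : act 2 n63682 = n63791 := (sb E9134 (iv2 F99964))
theorem E9147 : n63796 = n63305 := (((F99010).symm.trans (sb E9134 (iv7 F99957)))).symm
theorem E9148 : n53570 = n53277 := ((F84511).symm.trans (sb E9135 (iv6 F84122)))
theorem F101998 : act 3 n61302 = n29038 := (sb E9136 (iv3 D61346))
theorem E9149 : n62529 = n62495 := ((((iv6 F99925)).symm.trans (sb E9136 (iv6 F97498)))).symm
theorem F101999 : act 7 n61302 = n62528 := (sb E9136 (iv7 F97497))
theorem F102000 : act 2 n25827 = n14675 := (sb E9137 (iv2 F101984))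
theorem E9152 : n53271 = n14441 := ((D53271).symm.trans (sb E9137 (iv3 D30402)))
theorem E9154 : n64606 = n53273 := (((D53273).symm.trans (sb E9137 D64606))).symm
theorem E9155 : n53568 = n49520 := ((((iv7 F99948)).symm.trans (sb E9137 F101971))).symm
theorem F102001 : act 1 n25830 = n14675 := (sb E9138 (iv0 D31020))
theorem F102002 : act 0 n24170 = n14675 := (sb E9139 (iv1 D31021))
theorem E9156 : n53275 = n12306 := ((D53275).symm.trans (sb E9140 (iv3 D25942)))
theorem E9157 : n53569 = n53276 := (((D53276).symm.trans (sb E9140 D53569))).symm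
theorem E9158 : n53571 = n53278 := (((D53278).symm.trans (sb E9140 D53571))).symm
theorem F102003 : act 7 n25828 = n14675 := (sb E9140 F49064)
theorem F102004 : act 2 n30135 = n29909 := (sb E9142 (iv2 D63303))
theorem F102005 : act 0 n25785 = n29909 := (sb E9143 (iv1 D63302))
theorem F102006 : act 1 n14286 = n29909 := (sb E9144 (iv0 D63301))
theorem E9159 : n63890 = n30099 := ((D63890).symm.trans (sb E9145 (iv3 D63789)))
theorem F102007 : act 2 n63304 = n63891 := (sb E9146 F99997)
theorem F102008 : act 0 n63305 = n63731 := (sb E9147 (iv1 F99965))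
theorem F102009 : act 1 n63305 = n61330 := (sb E9147 (iv0 F99156))
theorem F102010 : act 2 n63305 = n63892 := (sb E9147 (iv2 F99962))
theorem E9160 : n61420 = n61344 := (((F98515).symm.trans (sb E9147 F99155))).symm
theorem F102011 : act 3 n53277 = n25944 := (sb E9148 F84509)
theorem F102012 : act 6 n53277 = n29909 := (sb E9148 (iv6 F84511))
theorem F102013 : act 7 n53277 = n31024 := (sb E9148 F84510)
theorem F102014 : act 3 n62495 = n29550 := (sb E9149 (iv3 D62529))
theorem F102015 : act 3 n14441 = n25827 := (sb E9152 (iv3 D53271))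
theorem F102016 : act 3 n53273 = n30404 := (sb E9154 F100532)
theorem F102017 : act 3 n49520 = n30170 := (sb E9155 F101957)
theorem F102018 : act 3 n12306 = n25828 := (sb E9156 (iv3 D53275))
theorem F102019 : act 7 n53276 = n31023 := (sb E9157 F84508)
theorem F102020 : act 3 n53278 = n25945 := (sb E9158 F84512)
theorem F102021 : act 3 n30099 = n30135 := (sb E9159 (iv3 D63890))
theorem F102022 : act 0 n61344 = n62496 := (sb E9160 (iv1 F97431))
theorem F102023 : act 1 n61344 = n29076 := (sb E9160 (iv0 D61420))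
theorem F102024 : act 2 n61344 = n62494 := (sb E9160 F99959)
theorem F102025 : act 5 n61344 = n53278 := (sb E9160 F95920)
theorem F102026 : act 7 n61344 = n62495 := (sb E9160 (iv7 F99958))
theorem F102027 : act 0 n53177 = n31023 := d20_7 (iv4 F40997) (iv1 F41000) F46539 (iv3 F101867) (iv1 D28266) (iv3 F45767) (iv4 F83991) (iv4 D31023) (iv3 D14675) (iv1 F20428)
theorem F102028 : act 3 n62494 = n61301 := d0_2 D61344 F102024 (iv2 F101979) (iv3 D62528) (iv2 F49055)
theorem F102029 : act 3 n63791 = n63892 := d7_3 F99363 F102028 (iv6 F99150)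
theorem F102030 : act 3 n62634 = n61421 := d8_3 F99961 F102028 (iv7 F100006)
theorem F102031 : act 3 n63893 = n63792 := d7_3 (iv6 D63792) F102021 D63893
theorem F102032 : act 2 n31023 = n53310 := d15_3 (iv0 D53310) (iv0 F97707) F102019
theorem E9161 : n53310 = n53272 := (c1_2 D31023 F102032 (iv4 D53272) F102000)
theorem F102033 : act 1 n53272 = n25842 := (sb E9161 (iv0 D53310))
theorem F102034 : act 2 n53272 = n31023 := (sb E9161 (iv2 F102032))
theorem F102035 : act 0 n53250 = n59645 := d20_7 F37138 (iv1 F46732) (iv4 D25943) F102018 (iv1 D25828) (iv3 F40810) (iv4 F84099) (iv4 D59645) (iv3 D28302) (iv1 F37143)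
theorem F102036 : act 0 n51089 = n59633 := d20_10 F101811 (iv1 F101809) F49393 F24343 (iv1 F20420) F102018 D53276 F97707 (iv4 F84155) F84154
theorem F102037 : act 0 n59634 = n49529 := d20_1 D59634 F78290 (iv3 F78281) (iv1 F78285) (iv3 F102018) D25943 F46731 F20453 (iv3 F22655) D28297
theorem F102038 : act 2 n31024 = n53273 := d0_5 F102016 (iv2 F101964) F84493 (iv2 F49067) (iv3 F49439)
theorem E9162 : n64736 = n59637 := ((c20_10 F48867 (iv1 F100005) (iv4 D30403) F102015 (iv1 F78286) F78281 (iv4 F78290) (iv1 F96436) (iv4 D59638) D59637 (iv1 D64736))).symm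
theorem F102039 : act 0 n59637 = n30451 := (sb E9162 (iv1 D64736))
theorem F102040 : act 0 n63313 = n53517 := d20_7 (iv4 F78290) (iv1 F96436) (iv4 D59638) D59637 F102039 (iv3 F100603) F100604 (iv4 D53517) (iv3 F95185) (iv1 F77660)
theorem F102041 : act 1 n63196 = n31024 := d15_1 (iv0 F99365) (iv7 F102013) (iv2 F99950)
theorem F102042 : act 1 n31024 = n63174 := d15_1 F102041 (iv7 F99249) (iv2 F99254)
theorem F102043 : act 1 n63174 = n63893 := d15_1 F102042 (iv7 F99949) (iv2 F102038)
theorem F102044 : act 1 n63891 = n63160 := d15_0 F101885 F99007 F102007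
theorem F102045 : act 1 n63569 = n63790 := d15_1 (iv0 F101902) (iv7 F99996) (iv2 F102007)
theorem F102046 : act 1 n63790 = n63541 := d15_1 F102045 F98863 (iv2 F98902)
theorem F102047 : act 1 n63187 = n63891 := d15_0 F102044 (iv7 F98863) F98861
theorem F102048 : act 0 n62250 = n61229 := d20_7 (iv4 F23047) D28984 (iv4 F98521) D29909 (iv1 F102006) (iv3 F48306) (iv4 F97057) (iv4 D61229) (iv3 D28987) (iv1 F23048)
theorem F102049 : act 4 n63785 = n60690 := d20_2 (iv4 F48364) D63785 (iv3 D60690) (iv1 D28803) F22976 (iv4 F23047) D28984 (iv4 F98521) D29909 (iv1 F102006)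
theorem F102050 : act 4 n49349 = n61995 := d20_0 (iv1 F96584) F95110 F46358 (iv1 F46439) D60690 (iv4 F102049) (iv1 F99144) F83952 F40743 D49349
theorem F102051 : act 1 n62182 = n61229 := d15_0 (iv0 F102048) F97058 (iv2 F96945)
theorem E9163 : n63532 = n49371 := ((c20_5 D61229 (iv1 F102051) F96946 F48597 D49371 (iv3 D63532) D63533 F101882 F98369 F80561 F101877)).symm
theorem F102052 : act 3 n49371 = n30001 := (sb E9163 (iv3 D63532))
theorem F102053 : act 4 n49371 = n60682 := (sb E9163 F98848)
theorem F102054 : act 3 n63535 = n49538 := d7_3 (iv6 F78293) F102052 D63535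
theorem E9164 : n49536 = n49384 := (c6_4 (iv5 F98851) F102054 (iv5 D49538) D49536)
theorem F102055 : act 3 n49384 = n24174 := (sb E9164 (iv3 D49536))
theorem E9165 : n49573 = n49537 := ((c20_7 (iv4 F46741) (iv1 F41001) F40997 (iv3 F40981) (iv1 F78099) F102055 D49537 (iv1 D49573) F37903 F22655 D13508)).symm
theorem F102056 : act 0 n49537 = n24186 := (sb E9165 (iv1 D49573))
theorem F102057 : act 1 n49537 = n51199 := (sb E9165 F80780)
theorem F102058 : act 0 n60686 = n49348 := d20_1 D60686 F78016 (iv3 F40743) F102005 (iv3 D29909) F98521 (iv1 F46608) F23047 (iv3 F22976) D28802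
theorem E9166 : n51207 = n49527 := (c20_1 D51207 (iv1 D49527) F37886 (iv3 F37884) F102002 (iv3 D14675) D14676 F47160 F41059 (iv3 F45809) (iv1 F45812))
theorem F102059 : act 4 n49527 = n24910 := (sb E9166 (iv4 D51207))
theorem F102060 : act 0 n62000 = n60586 := d20_1 D62000 F95205 F48375 F101992 (iv3 D30052) F98841 (iv1 F47353) F23408 (iv3 F23245) D29360
theorem F102061 : act 0 n60980 = n62483 := d20_7 (iv4 F23408) D29527 (iv4 F98841) D30052 (iv1 F101991) (iv3 F83834) (iv4 F95528) (iv4 D62483) (iv3 D29530) (iv1 F23410)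
theorem F102062 : act 4 n63883 = n62003 := d20_2 (iv4 F83862) (iv1 F99356) (iv3 D62003) (iv1 D29361) F23245 (iv4 F23408) D29527 (iv4 F98841) D30052 (iv1 F101991)
theorem F102063 : act 3 n49349 = n63713 := d20_3 (iv4 F47016) D61995 (iv4 F102050) (iv1 F99074) F83834 (iv4 F83862) (iv1 F99356) F102062 (iv3 D62003) (iv1 D29361)
theorem F102064 : act 4 n49372 = n60681 := d20_0 (iv1 F95276) F77876 (iv3 F46358) (iv1 F47019) D62003 (iv4 F102062) (iv1 D63883) F48439 (iv3 F48375) (iv1 F78060)
theorem F102065 : act 3 n49372 = n63700 := d20_3 (iv4 F46437) D60681 (iv4 F102064) (iv1 D63700) F48306 (iv4 F48364) D63785 F102049 (iv3 D60690) (iv1 D28803)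
theorem F102066 : act 0 n62004 = n49370 := d20_1 D62004 F78058 (iv3 F48597) (iv1 F99048) (iv3 F102065) F102064 (iv1 F95276) F77876 (iv3 F46358) (iv1 F47019)
theorem F102067 : act 1 n62004 = n60586 := d15_1 (iv0 F102066) F95206 (iv2 F78057)
theorem F102068 : act 0 n62003 = n59339 := d20_10 (iv4 F98862) (iv1 F102046) (iv4 D63790) F102021 (iv1 D30135) (iv3 F48375) (iv4 F95205) (iv1 F102067) (iv4 D62004) D62003
theorem F102069 : act 1 n62003 = n59333 := d15_1 (iv0 F102068) (iv7 F93665) F93662
theorem F102070 : act 1 n60899 = n62483 := d15_0 (iv0 F102061) (iv7 F97058) F97056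
theorem E9167 : n63151 = n49350 := ((c20_5 D62483 (iv1 F102070) F95444 (iv3 F78034) (iv1 F78037) (iv3 D63151) D63152 F101901 F98769 F79255 F101897)).symm
theorem F102071 : act 3 n49350 = n29859 := (sb E9167 (iv3 D63151))
theorem F102072 : act 4 n49350 = n61996 := (sb E9167 F98505)
theorem E9168 : n64412 = n53229 := ((c0_2 F101990 (iv2 F99940) (iv3 D64412) F99943 F101989 F49062)).symm
theorem F102073 : act 3 n53229 = n30331 := (sb E9168 (iv3 D64412))
theorem F102074 : act 4 n64617 = n31034 := d5_4 (iv4 D14681) F101968 D30408 D64617 (iv3 D31034)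
theorem F102075 : act 4 n64537 = n48851 := d20_8 (iv4 F41059) (iv1 F47606) (iv4 D14681) F101968 (iv1 D14442) (iv3 F24082) (iv4 F48817) D64537 (iv3 D48851) (iv1 F37141)
theorem E9169 : n64590 = n51201 := (c20_3 (iv4 F24085) D30396 D64590 (iv3 D51201) (iv1 F45813) F45809 (iv4 F41059) (iv1 F47606) (iv4 D14681) F101968 (iv1 D14442))
theorem F102076 : act 4 n51201 = n30396 := (sb E9169 (iv4 D64590))
theorem F102077 : act 4 n51197 = n64547 := d20_2 (iv4 F78325) (iv1 F80773) (iv3 D64547) (iv1 D30382) F24082 (iv4 F24085) D30396 (iv4 F102076) (iv3 D51201) (iv1 F45813)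
theorem F102078 : act 2 n59531 = n64537 := d1_3 F102075 F101870 D59531
theorem F102079 : act 7 n59535 = n64537 := d11_0 F102075 F101871 D59535
theorem E9170 : n59578 = n59531 := ((c15_4 (iv0 D59578) (iv0 F98731) F102079 (iv2 F102078))).symm
theorem F102080 : act 0 n59531 = n64540 := (sb E9170 (iv1 F100491))
theorem F102081 : act 1 n59531 = n28280 := (sb E9170 (iv0 D59578))
theorem F102082 : act 2 n59535 = n64538 := d15_3 F100484 F100489 (iv7 F102079)
theorem F102083 : act 4 n64538 = n59533 := d1_2 D59535 F102082 F93956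
theorem F102084 : act 7 n64538 = n59531 := d4_2 (iv7 F102079) F102082 F102078
theorem F102085 : act 4 n60554 = n62651 := d18_5 F101955 D53561 F101913 (iv4 F100607) F100608 (iv0 D62651) F47586 (iv0 F47382) F47381
theorem F102086 : act 7 n62651 = n61425 := d11_2 (iv7 F96852) F102085 (iv4 F96452)
theorem F102087 : act 4 n63971 = n59637 := d20_2 (iv4 F48833) (iv1 F99538) (iv3 D59637) (iv1 D28298) F22655 (iv4 F20453) (iv1 F47164) (iv4 D25939) D25938 F101954
def n66280 : Q := act 0 n30964
theorem D66280 : act 0 n30964 = n66280 := rfl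
theorem F102088 : act 5 n66280 = n63431 := d21_2 D30964 D66280 F100749 (iv1 D50279) F38498 (iv5 D11603) (iv1 F20387) (iv5 D7001) D7002 D14656
theorem F102089 : act 6 n66280 = n51393 := d21_5 (iv5 D25925) D25923 D53518 F84435 D66280 F81120 (iv1 F79496) (iv5 F79721) F79722 (iv1 F47992)
theorem F102090 : act 2 n63475 = n66280 := d15_3 (iv0 D66280) (iv0 F98757) (iv7 F98807)
theorem F102091 : act 0 n66280 = n30969 := d21_4 (iv5 F38417) D50167 (iv5 F81120) (iv6 F102089) (iv6 F49396) D63539 F98855 F98721 (iv6 D63019) (iv1 D29809)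
def n66281 : Q := act 4 n30964
theorem D66281 : act 4 n30964 = n66281 := rfl
def n66282 : Q := act 7 n30964
theorem D66282 : act 7 n30964 = n66282 := rfl
theorem F102092 : act 2 n66282 = n30969 := d4_1 D66282 (iv7 F101853) F101852
theorem F102093 : act 5 n66282 = n30966 := d13_1 D66282 (iv7 D30966) D30964
theorem F102094 : act 6 n63536 = n66282 := d3_0 F102092 (iv6 F49396) (iv2 F98853)
theorem F102095 : act 7 n53518 = n63535 := d14_4 D63536 F102094 (iv7 D66282) (iv6 F84435) (iv6 D63535)
theorem E9171 : n53519 = n49384 := ((c13_2 F102095 F98851 (iv7 D53519) D53518)).symm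
theorem F102096 : act 2 n49384 = n25924 := (sb E9171 F84436)
theorem F102097 : act 7 n49384 = n25923 := (sb E9171 (iv7 D53519))
theorem E9172 : n49530 = n49172 := ((c8_2 F102097 (iv3 F95185) (iv7 F78291) (iv3 F102055))).symm
theorem F102098 : act 2 n49172 = n24173 := (sb E9172 (iv2 D49530))
theorem F102099 : act 7 n49172 = n24174 := (sb E9172 (iv7 F78291))
theorem E9173 : n53515 = n49383 := (c15_4 (iv0 D49383) D49384 F102097 D53515)
theorem F102100 : act 2 n49383 = n25923 := (sb E9173 (iv2 D53515))
theorem F102101 : act 7 n49383 = n25924 := (sb E9173 (iv7 F84433))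
theorem E9174 : n65168 = n50122 := ((c3_3 F80931 F102100 F79384 F100944)).symm
theorem F102102 : act 2 n50122 = n30594 := (sb E9174 F100944)
theorem F102103 : act 7 n50122 = n30593 := (sb E9174 (iv7 D65168))
theorem F102104 : act 7 n34175 = n30965 := d13_2 F102103 F80934 F79378
theorem E9175 : n65164 = n50121 := (c15_4 (iv0 D50121) D50122 F102103 D65164)
theorem F102105 : act 2 n50121 = n30593 := (sb E9175 (iv2 D65164))
theorem F102106 : act 7 n50121 = n30594 := (sb E9175 (iv7 F100942))
theorem E9176 : n66267 = n34176 := ((c13_2 F102106 (iv5 F80930) (iv7 F101856) F80923)).symm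
theorem F102107 : act 2 n34176 = n30965 := (sb E9176 F101855)
theorem E9177 : n30961 = n30944 := ((((iv6 F80932)).symm.trans (sb E9176 (iv6 D66267)))).symm
theorem F102108 : act 7 n34176 = n51300 := (sb E9176 (iv7 F101856))
theorem E9178 : n66262 = n14659 := ((((iv1 F49379)).symm.trans (sb E9177 D66262))).symm
theorem E9180 : n66207 = n14656 := ((D66207).symm.trans (sb E9177 (iv2 D30961)))
theorem E9181 : n66264 = n66208 := (((D66208).symm.trans (sb E9177 D66264))).symm
theorem E9182 : n66265 = n66209 := (((D66209).symm.trans (sb E9177 D66265))).symm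
theorem E9183 : n66266 = n66210 := (((D66210).symm.trans (sb E9177 D66266))).symm
theorem E9184 : n66211 = n14657 := ((D66211).symm.trans (sb E9177 (iv7 F49394)))
theorem E9185 : n30966 = n30945 := ((((iv1 F49377)).symm.trans (sb E9178 (iv1 F101846)))).symm
theorem F102109 : act 2 n14656 = n30944 := (sb E9180 (iv2 D66207))
theorem F102110 : act 7 n66208 = n30967 := (sb E9181 F101848)
theorem F102111 : act 2 n66209 = n30963 := (sb E9182 F101849)
theorem F102112 : act 7 n66209 = n30968 := (sb E9182 F101850)
theorem F102113 : act 2 n66210 = n30964 := (sb E9183 F101852)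
theorem F102114 : act 7 n66210 = n30969 := (sb E9183 F101853)
theorem F102115 : act 7 n14657 = n30944 := (sb E9184 (iv7 D66211))
theorem F102116 : act 2 n30945 = n14657 := (sb E9185 F49395)
theorem E9186 : n66274 = n66212 := (((D66212).symm.trans (sb E9185 (iv3 F101860)))).symm
theorem E9187 : n66279 = n66213 := (((D66213).symm.trans (sb E9185 (iv4 F101863)))).symm
theorem E9188 : n66282 = n63154 := ((((iv5 F98428)).symm.trans (sb E9185 (iv5 F102093)))).symm
theorem F102117 : act 7 n30945 = n14656 := (sb E9185 (iv7 D30966))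
theorem F102118 : act 7 n66212 = n30962 := (sb E9186 (iv7 D66274))
theorem F102119 : act 2 n66213 = n30968 := (sb E9187 F101862)
theorem F102120 : act 7 n66213 = n30963 := (sb E9187 (iv7 D66279))
theorem F102121 : act 2 n63154 = n30969 := (sb E9188 F102092)
theorem E9189 : n63536 = n29859 := ((((iv6 D63154)).symm.trans (sb E9188 (iv6 F102094)))).symm
theorem F102122 : act 7 n63154 = n30964 := (sb E9188 (iv7 D66282))
theorem E9190 : n63150 = n30002 := ((D63150).symm.trans (sb E9189 F98853))
theorem E9191 : n63155 = n30001 := ((D63155).symm.trans (sb E9189 (iv7 D63536)))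
theorem F102123 : act 2 n30002 = n29859 := (sb E9190 (iv2 D63150))
theorem E9192 : n63531 = n29860 := ((F98847).symm.trans (sb E9190 (iv7 F98425)))
theorem F102124 : act 7 n30001 = n29859 := (sb E9191 (iv7 D63155))
theorem F102125 : act 2 n29860 = n30001 := (sb E9192 (iv2 D63531))
theorem F102126 : act 7 n29860 = n30002 := (sb E9192 (iv7 F98847))
theorem F102127 : act 7 n63537 = n63156 := d8_2 F102126 D63537 (iv3 D63156)
theorem F102128 : act 7 n63538 = n63157 := d11_2 F102126 D63538 (iv4 D63157)
theorem F102129 : act 7 n63539 = n63158 := d13_2 F102126 D63539 (iv5 D63158)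
theorem F102130 : act 2 n63158 = n63534 := d15_3 (iv0 F98850) (iv0 F98855) F102129
theorem F102131 : act 2 n63539 = n63153 := d15_3 (iv0 F98426) (iv0 F98723) (iv7 F102129)
theorem F102132 : act 2 n61334 = n63387 := d3_3 (iv6 F98854) F102131 (iv6 F98427)
theorem F102133 : act 7 n63153 = n63534 := d4_2 (iv7 F102129) F102131 (iv2 F102130)
theorem F102134 : act 2 n30970 = n66214 := d2_3 F101816 F102132 F98694
theorem F102135 : act 7 n63388 = n61334 := d15_2 (iv0 D63387) D63388 F102132
theorem F102136 : act 7 n61335 = n63387 := d15_2 (iv0 D61334) D61335 (iv2 F102132)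
theorem F102137 : act 2 n63388 = n61335 := d4_3 F102136 (iv2 F102132) (iv7 F102135)
theorem F102138 : act 2 n62525 = n62993 := d3_3 (iv6 F98430) F102130 F98849
theorem F102139 : act 7 n62994 = n62525 := d15_2 (iv0 D62993) D62994 F102138
theorem F102140 : act 7 n62526 = n62993 := d15_2 (iv0 D62525) D62526 (iv2 F102138)
theorem F102141 : act 2 n62994 = n62526 := d4_3 F102140 (iv2 F102138) (iv7 F102139)
theorem F102142 : act 6 n61335 = n62526 := d14_5 F102140 (iv6 F98430) (iv7 F102129) F98854 (iv7 F102136)
theorem F102143 : act 6 n62994 = n63388 := d3_2 F102142 (iv2 F102141) F102137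
theorem F102144 : act 2 n63533 = n63157 := d1_3 (iv4 D63157) F102125 D63533
theorem F102145 : act 2 n63535 = n53522 := d3_3 (iv6 F84437) F102125 D63535
theorem F102146 : act 7 n49350 = n49371 := d8_2 F102124 (iv3 F102071) F102052
theorem F102147 : act 7 n63152 = n63533 := d11_2 F102124 D63152 (iv4 D63533)
theorem F102148 : act 2 n63538 = n63152 := d4_3 F102147 F102144 (iv7 F102128)
theorem F102149 : act 1 n63157 = n63437 := d15_0 (iv0 F101901) F102147 F102144
theorem F102150 : act 1 n63538 = n63053 := d15_0 (iv0 F101882) (iv7 F102147) (iv2 F102148)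
theorem F102151 : act 7 n60682 = n61996 := d11_2 F102146 F102053 (iv4 F102072)
theorem F102152 : act 2 n49371 = n49349 := d15_3 (iv0 D49349) D49350 F102146
theorem F102153 : act 2 n49350 = n49372 := d15_3 F78060 F78059 (iv7 F102146)
theorem F102154 : act 2 n63700 = n63537 := d0_3 (iv3 F102071) F102153 F102065 (iv3 D63537) F102123
theorem F102155 : act 2 n60681 = n61996 := d1_3 (iv4 F102072) F102153 F102064
theorem F102156 : act 7 n49372 = n49349 := d4_2 (iv7 F102146) F102153 (iv2 F102152)
theorem F102157 : act 7 n63713 = n63700 := d8_2 F102156 F102063 (iv3 F102065)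
theorem F102158 : act 7 n61995 = n60681 := d11_2 F102156 F102050 (iv4 F102064)
theorem F102159 : act 2 n60682 = n61995 := d4_3 F102158 F102155 (iv7 F102151)
theorem F102160 : act 2 n63156 = n63713 := d4_3 F102157 F102154 F102127
theorem E9193 : n63714 = n63537 := ((c15_4 F99075 F99074 F102157 F102154)).symm
theorem F102161 : act 0 n63537 = n30071 := (sb E9193 (iv1 D63714))
theorem F102162 : act 1 n63537 = n53111 := (sb E9193 F99075)
theorem E9194 : n63699 = n63156 := ((c15_4 (iv0 D63699) D63700 (iv7 F102157) (iv2 F102160))).symm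
theorem F102163 : act 0 n63156 = n30211 := (sb E9194 (iv1 F99047))
theorem F102164 : act 1 n63156 = n30064 := (sb E9194 (iv0 D63699))
theorem F102165 : act 2 n51300 = n34175 := d4_1 F102108 F102104 (iv2 F102107)
theorem F102166 : act 7 n49537 = n51196 := d11_2 F102099 D49537 (iv4 F95186)
theorem E9195 : n49535 = n49173 := (c15_4 F77654 F77660 F102099 (iv2 F78292))
theorem F102167 : act 2 n49173 = n24174 := (sb E9195 F78292)
theorem F102168 : act 7 n49173 = n24173 := (sb E9195 (iv7 D49535))
theorem F102169 : act 2 n51196 = n49572 := d15_3 (iv0 D49572) (iv0 F102056) F102166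
theorem F102170 : act 2 n49537 = n51197 := d15_3 F80773 F80779 (iv7 F102166)
theorem E9196 : n64547 = n49173 := (c1_3 D49537 F102170 F102077 F102167)
theorem F102171 : act 3 n49173 = n30382 := (sb E9196 (iv3 D64547))
theorem F102172 : act 4 n49173 = n51197 := (sb E9196 (iv4 F102077))
theorem F102173 : act 7 n51197 = n49572 := d4_2 (iv7 F102166) F102170 (iv2 F102169)
theorem E9197 : n49572 = n49532 := (c11_1 F102173 (iv4 D49532) (iv7 F102168) F102172)
theorem F102174 : act 0 n49532 = n51199 := (sb E9197 (iv1 F80781))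
theorem F102175 : act 1 n49532 = n24186 := (sb E9197 (iv0 D49572))
theorem F102176 : act 2 n49532 = n51196 := (sb E9197 (iv2 F102169))
theorem F102177 : act 7 n49532 = n51197 := (sb E9197 (iv7 F102173))
theorem E9198 : n64528 = n49531 := ((c20_4 (iv4 F37903) (iv1 F102175) (iv4 D49532) D49531 (iv1 F100467) F48821 (iv4 F48833) (iv1 F99538) F102087 (iv3 D59637) (iv1 D28298))).symm
theorem F102178 : act 0 n49531 = n30384 := (sb E9198 (iv1 F100467))
theorem F102179 : act 1 n49531 = n30377 := (sb E9198 (iv0 D64528))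
theorem E9199 : n64546 = n53520 := (c0_2 F102171 (iv2 F100494) (iv3 D53520) (iv2 F102096) F102055 (iv2 F102167))
theorem F102180 : act 2 n53520 = n30382 := (sb E9199 F100494)
theorem F102181 : act 7 n53520 = n30381 := (sb E9199 (iv7 D64546))
theorem E9200 : n64541 = n49531 := (c8_3 (iv7 F102168) F102171 F100492 (iv3 D49531))
theorem F102182 : act 2 n49531 = n30381 := (sb E9200 (iv2 D64541))
theorem F102183 : act 7 n49531 = n30382 := (sb E9200 (iv7 F100492))
theorem E9201 : n64529 = n53520 := ((c15_4 F100463 (iv0 F102178) F102183 (iv2 F102180))).symm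
theorem F102184 : act 0 n53520 = n30377 := (sb E9201 (iv1 D64529))
theorem F102185 : act 1 n53520 = n30384 := (sb E9201 F100463)
theorem F102186 : act 4 n64735 = n63970 := d20_0 (iv1 F99543) F48833 (iv3 F48821) (iv1 F102185) (iv3 D53520) D53521 F100606 (iv4 F100604) F100603 D64735
theorem E9202 : n64542 = n49383 := (c0_3 D49531 F102182 D64542 F102100 (iv3 F95185) F102098)
theorem F102187 : act 3 n49383 = n30381 := (sb E9202 (iv3 D64542))
theorem E9203 : n65169 = n64545 := ((c7_3 F80931 F102187 D64545 (iv3 D65169))).symm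
theorem F102188 : act 3 n64545 = n30594 := (sb E9203 (iv3 D65169))
theorem E9204 : n64543 = n59525 := ((c20_2 (iv4 F45771) D59525 (iv4 D64543) (iv3 F102187) (iv1 F78103) F40981 (iv4 F40997) (iv1 F41000) F46539 (iv3 F101867) (iv1 D28266))).symm
theorem F102189 : act 4 n59525 = n30381 := (sb E9204 (iv4 D64543))
theorem F102190 : act 3 n34176 = n64304 := d6_3 (iv5 F100493) F102188 (iv5 F80930)
theorem F102191 : act 6 n64304 = n66208 := d7_2 F80932 F102190 (iv3 D66208)
def n66283 : Q := act 0 n30967
theorem D66283 : act 0 n30967 = n66283 := rfl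
def n66284 : Q := act 1 n30967
theorem D66284 : act 1 n30967 = n66284 := rfl
def n66285 : Q := act 2 n30967
theorem D66285 : act 2 n30967 = n66285 := rfl
def n66286 : Q := act 4 n30967
theorem D66286 : act 4 n30967 = n66286 := rfl
def n66287 : Q := act 5 n30967
theorem D66287 : act 5 n30967 = n66287 := rfl
theorem F102192 : act 3 n66287 = n30969 := d6_1 D66287 (iv5 D30969) D30967
theorem F102193 : act 6 n63537 = n66287 := d7_0 F102192 (iv6 F49396) D63537
theorem E9205 : n66283 = n49169 := (c21_8 (iv5 D14335) F20243 (iv5 F40699) D53111 (iv1 F102162) F102193 (iv5 D66287) D66283 (iv5 F98330) (iv6 D63020) (iv1 F47974))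
theorem F102194 : act 1 n49169 = n30967 := (sb E9205 (iv0 D66283))
theorem E9206 : n66284 = n53254 := ((c21_1 F95936 (iv1 D66284) D66287 (iv6 F102193) F102161 (iv6 D30071) F23826 (iv1 F11061) D14264 D30059 (iv1 F98739))).symm
theorem F102195 : act 0 n53254 = n30967 := (sb E9206 (iv1 D66284))
def n66288 : Q := act 6 n30967
theorem D66288 : act 6 n30967 = n66288 := rfl
theorem F102196 : act 3 n66288 = n30970 := d7_1 D66288 (iv6 D30970) D30967
def n66289 : Q := act 3 n30968
theorem D66289 : act 3 n30968 = n66289 := rfl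
def n66290 : Q := act 5 n30968
theorem D66290 : act 5 n30968 = n66290 := rfl
def n66291 : Q := act 6 n30968
theorem D66291 : act 6 n30968 = n66291 := rfl
theorem F102197 : act 4 n66291 = n30970 := d10_1 D66291 (iv6 D30970) D30968
def n66292 : Q := act 4 n30969
theorem D66292 : act 4 n30969 = n66292 := rfl
theorem F102198 : act 6 n66292 = n63538 := d10_2 F49396 D66292 (iv4 D63538)
def n66293 : Q := act 0 n30970
theorem D66293 : act 0 n30970 = n66293 := rfl
theorem F102200 : act 2 n63069 = n66293 := d15_3 (iv0 D66293) (iv0 F101084) (iv7 F101129)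
theorem F102201 : act 7 n66293 = n63073 := d4_2 (iv7 F101129) F102200 F101130
def n66294 : Q := act 7 n30970
theorem D66294 : act 7 n30970 = n66294 := rfl
theorem F102202 : act 5 n66294 = n61335 := d13_1 D66294 F102136 F98694
theorem F102203 : act 6 n66294 = n51300 := d14_1 D66294 (iv7 F102108) (iv6 F80932) (iv7 F102115) D30970
theorem F102204 : act 1 n63073 = n66294 := d15_1 (iv0 F101818) (iv7 D66294) F102134
theorem F102205 : act 1 n66294 = n63069 := d15_1 F102204 F101129 (iv2 F101130)
def n66295 : Q := act 0 n30971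
theorem D66295 : act 0 n30971 = n66295 := rfl
theorem F102206 : act 6 n66295 = n50104 := d21_5 D61902 F96503 (iv5 D61349) (iv6 F49397) D66295 (iv5 F98626) (iv1 D63347) (iv5 D29927) F23732 (iv1 F46991)
theorem F102207 : act 4 n50105 = n66295 := d10_3 F102206 (iv4 D50104) D50105
def n66296 : Q := act 1 n30971
theorem D66296 : act 1 n30971 = n66296 := rfl
def n66297 : Q := act 3 n30971
theorem D66297 : act 3 n30971 = n66297 := rfl
theorem F102208 : act 4 n66297 = n31038 := d5_2 D30971 D66297 (iv3 D31038) (iv4 D14684) (iv3 F24341)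
theorem F102209 : act 6 n66297 = n61348 := d7_2 (iv6 F49397) D66297 (iv3 D61348)
def n66298 : Q := act 5 n30971
theorem D66298 : act 5 n30971 = n66298 := rfl
def n66299 : Q := act 2 n30972
theorem D66299 : act 2 n30972 = n66299 := rfl
def n66300 : Q := act 4 n30972
theorem D66300 : act 4 n30972 = n66300 := rfl
def n66301 : Q := act 5 n30972
theorem D66301 : act 5 n30972 = n66301 := rfl
def n66302 : Q := act 6 n30972
theorem D66302 : act 6 n30972 = n66302 := rfl
def n66303 : Q := act 7 n30972
theorem D66303 : act 7 n30972 = n66303 := rfl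
def n66304 : Q := act 3 n30973
theorem D66304 : act 3 n30973 = n66304 := rfl
def n66305 : Q := act 4 n30973
theorem D66305 : act 4 n30973 = n66305 := rfl
def n66306 : Q := act 5 n30973
theorem D66306 : act 5 n30973 = n66306 := rfl
def n66307 : Q := act 6 n30973
theorem D66307 : act 6 n30973 = n66307 := rfl
def n66308 : Q := act 4 n30974
theorem D66308 : act 4 n30974 = n66308 := rfl
theorem F102212 : act 2 n66308 = n30975 := d1_1 D66308 (iv4 D30975) D30974
theorem F102213 : act 7 n66308 = n48835 := d11_2 (iv7 F49401) D66308 F76905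
theorem F102214 : act 0 n66308 = n48834 := d20_1 D66308 (iv4 F76904) (iv3 D31255) (iv1 D14749) (iv3 F20460) (iv4 F40838) D53337 (iv4 F84177) (iv3 D48862) (iv1 F49402)
theorem F102215 : act 1 n66308 = n48833 := d15_0 (iv0 D48833) (iv7 F49406) (iv2 F102212)
def n66309 : Q := act 6 n30974
theorem D66309 : act 6 n30974 = n66309 := rfl
theorem F102216 : act 2 n66309 = n30976 := d3_1 D66309 (iv6 D30976) D30974
theorem F102217 : act 3 n66309 = n59685 := d7_1 D66309 (iv6 D59685) (iv3 F49399)
def n66310 : Q := act 0 n30975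
theorem D66310 : act 0 n30975 = n66310 := rfl
theorem F102218 : act 1 n48835 = n66310 := d15_0 (iv0 D66310) F49406 D48835
def n66311 : Q := act 5 n30975
theorem D66311 : act 5 n30975 = n66311 := rfl
theorem F102219 : act 3 n66311 = n48841 := d6_1 D66311 F76914 (iv3 F49405)
theorem F102220 : act 7 n66311 = n48836 := d13_2 (iv7 F49406) D66311 (iv5 D48836)
def n66312 : Q := act 6 n30975
theorem D66312 : act 6 n30975 = n66312 := rfl
theorem F102221 : act 3 n66312 = n48842 := d7_1 D66312 (iv6 D48842) (iv3 F49405)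
theorem F102222 : act 4 n66312 = n30976 := d10_1 D66312 (iv6 D30976) D30975
def n66313 : Q := act 0 n30976
theorem D66313 : act 0 n30976 = n66313 := rfl
def n66314 : Q := act 1 n30976
theorem D66314 : act 1 n30976 = n66314 := rfl
def n66315 : Q := act 5 n30976
theorem D66315 : act 5 n30976 = n66315 := rfl
theorem F102223 : act 3 n66315 = n30979 := d6_1 D66315 (iv5 D30979) (iv3 F49407)
theorem F102224 : act 6 n66315 = n59964 := d12_2 D30976 D66315 (iv5 D59964) (iv6 D28475) (iv5 F24344)
def n66316 : Q := act 0 n30979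
theorem D66316 : act 0 n30979 = n66316 := rfl
theorem F102225 : act 5 n66316 = n53835 := d17_3 (iv1 F100812) D30979 D66316 (iv4 D53835) (iv5 D26023) (iv0 D12333) F9015 D12334 D26026
theorem F102226 : act 1 n49809 = n66316 := d15_0 (iv0 D66316) (iv7 F79107) F79105
theorem F102227 : act 2 n59780 = n66316 := d2_3 F102225 F84862 (iv5 F94132)
theorem F102228 : act 7 n59781 = n66316 := d13_0 F102225 F84863 F94127
def n66317 : Q := act 1 n30979
theorem D66317 : act 1 n30979 = n66317 := rfl
theorem F102229 : act 1 n66317 = n49809 := d15_1 D66317 F78712 (iv2 F49410)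
theorem F102230 : act 7 n66317 = n59780 := d15_2 (iv0 D66316) D66317 F102227
theorem F102231 : act 5 n66317 = n53843 := d17_7 F53901 F49714 (iv1 D23831) F18127 (iv4 F24347) D30979 D66317 F100810 F100807
theorem F102232 : act 2 n59781 = n66317 := d2_3 F102231 F84877 F94127
def n66318 : Q := act 4 n30979
theorem D66318 : act 4 n30979 = n66318 := rfl
theorem F102233 : act 2 n66318 = n59782 := d1_1 D66318 (iv4 D59782) (iv2 F49410)
theorem F102234 : act 6 n66318 = n59966 := d10_2 (iv6 F49411) D66318 (iv4 D59966)
def n66319 : Q := act 0 n30980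
theorem D66319 : act 0 n30980 = n66319 := rfl
theorem F102235 : act 1 n30985 = n66319 := d15_0 (iv0 D66319) (iv7 F49412) (iv2 F49413)
def n66321 : Q := act 3 n30980
theorem D66321 : act 3 n30980 = n66321 := rfl
theorem F102237 : act 7 n66321 = n30986 := d8_2 F49412 D66321 (iv3 D30986)
def n66322 : Q := act 4 n30980
theorem D66322 : act 4 n30980 = n66322 := rfl
theorem F102238 : act 2 n66322 = n30982 := d1_1 D66322 (iv4 D30982) D30980
theorem F102239 : act 7 n66322 = n30987 := d11_2 F49412 D66322 (iv4 D30987)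
def n66323 : Q := act 5 n30980
theorem D66323 : act 5 n30980 = n66323 := rfl
theorem F102240 : act 2 n66323 = n30983 := d2_1 D66323 (iv5 D30983) D30980
theorem F102241 : act 7 n66323 = n30988 := d13_2 F49412 D66323 (iv5 D30988)
def n66324 : Q := act 6 n30980
theorem D66324 : act 6 n30980 = n66324 := rfl
theorem F102242 : act 2 n66324 = n30984 := d3_1 D66324 (iv6 D30984) D30980
def n66325 : Q := act 0 n30981
theorem D66325 : act 0 n30981 = n66325 := rfl
def n66326 : Q := act 2 n30981
theorem D66326 : act 2 n30981 = n66326 := rfl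
def n66327 : Q := act 5 n30981
theorem D66327 : act 5 n30981 = n66327 := rfl
theorem F102243 : act 3 n66327 = n30983 := d6_1 D66327 (iv5 D30983) D30981
def n66328 : Q := act 6 n30981
theorem D66328 : act 6 n30981 = n66328 := rfl
theorem F102244 : act 3 n66328 = n30984 := d7_1 D66328 (iv6 D30984) D30981
def n66329 : Q := act 7 n30981
theorem D66329 : act 7 n30981 = n66329 := rfl
theorem F102245 : act 3 n66329 = n30985 := d8_1 D66329 (iv7 D30985) D30981
def n66330 : Q := act 1 n30982
theorem D66330 : act 1 n30982 = n66330 := rfl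
theorem F102246 : act 1 n66330 = n30987 := d15_1 D66330 (iv7 F102239) F102238
def n66331 : Q := act 3 n30982
theorem D66331 : act 3 n30982 = n66331 := rfl
theorem F102247 : act 0 n66331 = n51233 := d20_10 (iv4 D51233) (iv1 D24918) (iv4 F39017) (iv3 D24886) F19178 D14652 F24334 D14662 D30982 D66331
def n66332 : Q := act 5 n30982
theorem D66332 : act 5 n30982 = n66332 := rfl
def n66333 : Q := act 6 n30982
theorem D66333 : act 6 n30982 = n66333 := rfl
theorem F102248 : act 4 n66333 = n30984 := d10_1 D66333 (iv6 D30984) D30982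
def n66334 : Q := act 7 n30982
theorem D66334 : act 7 n30982 = n66334 := rfl
theorem F102249 : act 2 n66334 = n30987 := d4_1 D66334 (iv7 F102239) F102238
theorem F102250 : act 4 n66334 = n30985 := d11_1 D66334 (iv7 D30985) D30982
theorem F102251 : act 1 n30987 = n31237 := d15_0 (iv0 F49553) D66334 F102249
theorem F102252 : act 0 n30986 = n53329 := d20_10 (iv4 D53329) D53326 F84170 F41086 (iv1 F24396) D14744 D31237 (iv1 F102251) (iv4 D30987) D30986
def n66336 : Q := act 1 n30983
theorem D66336 : act 1 n30983 = n66336 := rfl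
theorem F102253 : act 1 n66336 = n30988 := d15_1 D66336 (iv7 F102241) F102240
def n66339 : Q := act 7 n30983
theorem D66339 : act 7 n30983 = n66339 := rfl
theorem F102255 : act 5 n66339 = n30985 := d13_1 D66339 (iv7 D30985) D30983
def n66340 : Q := act 0 n30984
theorem D66340 : act 0 n30984 = n66340 := rfl
def n66341 : Q := act 1 n30984
theorem D66341 : act 1 n30984 = n66341 := rfl
def n66342 : Q := act 5 n30984
theorem D66342 : act 5 n30984 = n66342 := rfl
def n66343 : Q := act 7 n30984
theorem D66343 : act 7 n30984 = n66343 := rfl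
def n66345 : Q := act 1 n30986
theorem D66345 : act 1 n30986 = n66345 := rfl
def n66346 : Q := act 2 n30986
theorem D66346 : act 2 n30986 = n66346 := rfl
def n66347 : Q := act 4 n30986
theorem D66347 : act 4 n30986 = n66347 := rfl
theorem F102258 : act 0 n53758 = n66347 := d20_1 D53758 (iv4 D66347) (iv3 D30986) (iv1 D14663) (iv3 D7004) (iv4 D3165) (iv1 F3836) (iv4 F9010) (iv3 F20463) (iv1 F41093)
def n66348 : Q := act 5 n30986
theorem D66348 : act 5 n30986 = n66348 := rfl
theorem F102259 : act 3 n66348 = n30988 := d6_1 D66348 (iv5 D30988) D30986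
def n66349 : Q := act 6 n30986
theorem D66349 : act 6 n30986 = n66349 := rfl
def n66350 : Q := act 3 n30987
theorem D66350 : act 3 n30987 = n66350 := rfl
theorem F102261 : act 0 n51124 = n66350 := d20_4 F38962 (iv1 F38953) D24883 D51124 (iv3 D66350) (iv4 D30987) (iv1 D14663) (iv4 F24334) (iv3 D14652) D14651
def n66351 : Q := act 5 n30987
theorem D66351 : act 5 n30987 = n66351 := rfl
def n66352 : Q := act 6 n30987
theorem D66352 : act 6 n30987 = n66352 := rfl
def n66355 : Q := act 0 n30989
theorem D66355 : act 0 n30989 = n66355 := rfl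
def n66359 : Q := act 4 n30990
theorem D66359 : act 4 n30990 = n66359 := rfl
theorem F102263 : act 2 n66359 = n30994 := d1_1 D66359 (iv4 D30994) (iv2 F49414)
def n66360 : Q := act 6 n30990
theorem D66360 : act 6 n30990 = n66360 := rfl
theorem F102264 : act 2 n66360 = n30995 := d3_1 D66360 (iv6 D30995) (iv2 F49414)
def n66361 : Q := act 0 n30991
theorem D66361 : act 0 n30991 = n66361 := rfl
def n66362 : Q := act 1 n30991
theorem D66362 : act 1 n30991 = n66362 := rfl
theorem F102265 : act 1 n66362 = n30999 := d15_1 D66362 (iv7 D30999) (iv2 F49415)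
def n66363 : Q := act 5 n30991
theorem D66363 : act 5 n30991 = n66363 := rfl
theorem F102266 : act 2 n66363 = n30998 := d2_1 D66363 (iv5 D30998) (iv2 F49415)
def n66364 : Q := act 7 n30991
theorem D66364 : act 7 n30991 = n66364 := rfl
theorem F102267 : act 2 n66364 = n30999 := d4_1 D66364 (iv7 D30999) (iv2 F49415)
theorem F102268 : act 1 n30999 = n66361 := d15_0 (iv0 D66361) D66364 F102267
theorem F102269 : act 1 n30997 = n66364 := d15_1 D30997 (iv7 D66364) F49415
theorem F102270 : act 1 n66364 = n30996 := d15_0 (iv0 D30996) D30999 (iv2 F102267)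
def n66365 : Q := act 2 n30992
theorem D66365 : act 2 n30992 = n66365 := rfl
def n66366 : Q := act 3 n30992
theorem D66366 : act 3 n30992 = n66366 := rfl
def n66367 : Q := act 4 n30992
theorem D66367 : act 4 n30992 = n66367 := rfl
def n66368 : Q := act 5 n30992
theorem D66368 : act 5 n30992 = n66368 := rfl
def n66369 : Q := act 6 n30992
theorem D66369 : act 6 n30992 = n66369 := rfl
def n66370 : Q := act 7 n30992
theorem D66370 : act 7 n30992 = n66370 := rfl
def n66371 : Q := act 3 n30993
theorem D66371 : act 3 n30993 = n66371 := rfl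
def n66372 : Q := act 4 n30993
theorem D66372 : act 4 n30993 = n66372 := rfl
def n66373 : Q := act 5 n30993
theorem D66373 : act 5 n30993 = n66373 := rfl
def n66374 : Q := act 6 n30993
theorem D66374 : act 6 n30993 = n66374 := rfl
def n66375 : Q := act 0 n30994
theorem D66375 : act 0 n30994 = n66375 := rfl
def n66376 : Q := act 1 n30994
theorem D66376 : act 1 n30994 = n66376 := rfl
def n66377 : Q := act 5 n30994
theorem D66377 : act 5 n30994 = n66377 := rfl
theorem F102273 : act 3 n66377 = n32037 := d6_1 D66377 (iv5 D32037) (iv3 F49416)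
def n66378 : Q := act 6 n30994
theorem D66378 : act 6 n30994 = n66378 := rfl
theorem F102274 : act 3 n66378 = n32038 := d7_1 D66378 (iv6 D32038) (iv3 F49416)
theorem F102275 : act 4 n66378 = n30995 := d10_1 D66378 (iv6 D30995) D30994
def n66379 : Q := act 0 n30995
theorem D66379 : act 0 n30995 = n66379 := rfl
def n66380 : Q := act 1 n30995
theorem D66380 : act 1 n30995 = n66380 := rfl
def n66381 : Q := act 5 n30995
theorem D66381 : act 5 n30995 = n66381 := rfl
theorem F102276 : act 3 n66381 = n31006 := d6_1 D66381 (iv5 D31006) (iv3 F49417)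
theorem F102277 : act 6 n66381 = n30998 := d12_2 D30995 D66381 (iv5 D30998) (iv6 D14666) D14665
def n66382 : Q := act 7 n30995
theorem D66382 : act 7 n30995 = n66382 := rfl
theorem F102278 : act 3 n66382 = n31007 := d8_1 D66382 (iv7 D31007) (iv3 F49417)
def n66383 : Q := act 2 n30996
theorem D66383 : act 2 n30996 = n66383 := rfl
theorem F102279 : act 7 n30997 = n66383 := d15_2 (iv0 D30996) D30997 (iv2 D66383)
def n66384 : Q := act 3 n30996
theorem D66384 : act 3 n30996 = n66384 := rfl
def n66385 : Q := act 4 n30996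
theorem D66385 : act 4 n30996 = n66385 := rfl
def n66386 : Q := act 5 n30996
theorem D66386 : act 5 n30996 = n66386 := rfl
def n66387 : Q := act 6 n30996
theorem D66387 : act 6 n30996 = n66387 := rfl
def n66388 : Q := act 7 n30996
theorem D66388 : act 7 n30996 = n66388 := rfl
theorem F102280 : act 2 n66388 = n30997 := d4_1 D66388 F102279 (iv2 D66383)
def n66389 : Q := act 3 n30997
theorem D66389 : act 3 n30997 = n66389 := rfl
def n66390 : Q := act 4 n30997
theorem D66390 : act 4 n30997 = n66390 := rfl
def n66391 : Q := act 5 n30997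
theorem D66391 : act 5 n30997 = n66391 := rfl
def n66392 : Q := act 6 n30997
theorem D66392 : act 6 n30997 = n66392 := rfl
def n66393 : Q := act 0 n30998
theorem D66393 : act 0 n30998 = n66393 := rfl
def n66394 : Q := act 1 n30998
theorem D66394 : act 1 n30998 = n66394 := rfl
def n66395 : Q := act 4 n30998
theorem D66395 : act 4 n30998 = n66395 := rfl
def n66396 : Q := act 7 n30998
theorem D66396 : act 7 n30998 = n66396 := rfl
theorem F102281 : act 3 n66396 = n31019 := d8_1 D66396 (iv7 D31019) (iv3 F49418)
theorem F102282 : act 5 n66396 = n30999 := d13_1 D66396 (iv7 D30999) D30998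
def n66397 : Q := act 0 n31000
theorem D66397 : act 0 n31000 = n66397 := rfl
theorem F102283 : act 1 n65633 = n66397 := d15_0 (iv0 D66397) F49421 (iv2 F101369)
def n66398 : Q := act 1 n31000
theorem D66398 : act 1 n31000 = n66398 := rfl
def n66399 : Q := act 2 n31000
theorem D66399 : act 2 n31000 = n66399 := rfl
theorem F102284 : act 3 n66399 = n65665 := d0_2 D31000 D66399 F101392 F49216 F24353
theorem F102285 : act 5 n66399 = n31440 := d2_2 (iv5 F49420) D66399 (iv2 D31440)
theorem F102286 : act 7 n66399 = n65633 := d4_2 (iv7 F49421) D66399 F101369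
theorem F102287 : act 1 n66399 = n65639 := d15_0 (iv0 D65639) (iv7 F49421) D66399
theorem F102288 : act 1 n66398 = n65633 := d15_1 D66398 (iv7 F102286) (iv2 D66399)
theorem F102289 : act 1 n65640 = n66399 := d15_1 D65640 F102286 F101369
def n66400 : Q := act 4 n31000
theorem D66400 : act 4 n31000 = n66400 := rfl
theorem F102290 : act 3 n66400 = n31558 := d5_1 D66400 (iv4 D31558) F24518 (iv4 F24351) D31000
theorem F102291 : act 7 n66400 = n65641 := d11_2 (iv7 F49421) D66400 (iv4 D65641)
def n66401 : Q := act 6 n31000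
theorem D66401 : act 6 n31000 = n66401 := rfl
theorem F102292 : act 3 n66401 = n31001 := d7_1 D66401 (iv6 D31001) D31000
def n66402 : Q := act 1 n31001
theorem D66402 : act 1 n31001 = n66402 := rfl
theorem F102293 : act 1 n66402 = n65680 := d15_1 D66402 (iv7 D65680) (iv2 F49422)
theorem F102294 : act 7 n66402 = n33964 := d15_2 (iv0 F87345) D66402 (iv2 F87343)
theorem F102295 : act 2 n65678 = n66402 := d4_3 F102294 (iv2 F87343) (iv7 F101401)
theorem F102296 : act 4 n31985 = n66402 := d11_3 F102294 F53297 (iv7 F53107)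
theorem E9207 : n62572 = n60875 := ((c18_7 (iv1 F50356) F102296 (iv1 D66402) F49423 F24519 (iv4 F46514) D60875 (iv4 D62572) F47472 (iv5 F49871))).symm
theorem F102297 : act 4 n60875 = n29584 := (sb E9207 (iv4 D62572))
theorem F102298 : act 1 n65680 = n55210 := d15_1 F102293 (iv7 F101401) F102295
theorem E9208 : n62567 = n60874 := (c18_2 D29583 D62567 (iv1 F96897) F96893 (iv5 F50177) (iv4 F101406) F102298 F87344 (iv0 F42741) F24711)
theorem F102299 : act 4 n60874 = n29583 := (sb E9208 (iv4 D62567))
def n66403 : Q := act 5 n31001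
theorem D66403 : act 5 n31001 = n66403 := rfl
theorem F102300 : act 2 n66403 = n65679 := d2_1 D66403 (iv5 D65679) (iv2 F49422)
theorem F102301 : act 6 n66403 = n31443 := d12_2 D31001 D66403 (iv5 D31443) (iv6 D14820) (iv5 F24350)
def n66404 : Q := act 7 n31001
theorem D66404 : act 7 n31001 = n66404 := rfl
theorem F102303 : act 4 n66404 = n31562 := d11_1 D66404 (iv7 D31562) (iv4 F49423)
theorem F102305 : act 1 n65678 = n66404 := d15_1 D65678 (iv7 D66404) F49422
theorem F102306 : act 1 n66404 = n33964 := d15_1 F102305 (iv7 F102294) (iv2 F102295)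
theorem E9209 : n62157 = n61408 := ((c18_2 D29069 D61408 (iv1 F96895) F95420 (iv5 F49895) (iv4 F102303) F102306 F53297 (iv0 F25900) F24516)).symm
theorem F102307 : act 0 n61408 = n60877 := (sb E9209 (iv1 F96895))
theorem F102308 : act 1 n61408 = n29423 := (sb E9209 (iv0 D62157))
def n66405 : Q := act 0 n31002
theorem D66405 : act 0 n31002 = n66405 := rfl
def n66406 : Q := act 1 n31002
theorem D66406 : act 1 n31002 = n66406 := rfl
def n66407 : Q := act 2 n31002
theorem D66407 : act 2 n31002 = n66407 := rfl
theorem F102310 : act 3 n66407 = n65633 := d0_2 D31002 D66407 F101369 F49210 F24359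
theorem F102312 : act 7 n66407 = n65665 := d4_2 (iv7 F49425) D66407 F101392
theorem F102313 : act 1 n66407 = n65671 := d15_0 (iv0 D65671) (iv7 F49425) D66407
theorem F102314 : act 1 n66406 = n65665 := d15_1 D66406 (iv7 F102312) (iv2 D66407)
theorem F102315 : act 1 n65672 = n66407 := d15_1 D65672 F102312 F101392
def n66408 : Q := act 4 n31002
theorem D66408 : act 4 n31002 = n66408 := rfl
theorem F102316 : act 3 n66408 = n31578 := d5_1 D66408 (iv4 D31578) F24521 (iv4 F24358) D31002
def n66409 : Q := act 6 n31002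
theorem D66409 : act 6 n31002 = n66409 := rfl
theorem F102318 : act 3 n66409 = n31003 := d7_1 D66409 (iv6 D31003) D31002
def n66410 : Q := act 0 n31003
theorem D66410 : act 0 n31003 = n66410 := rfl
def n66411 : Q := act 1 n31003
theorem D66411 : act 1 n31003 = n66411 := rfl
theorem F102319 : act 1 n66411 = n65650 := d15_1 D66411 (iv7 D65650) (iv2 F49426)
def n66412 : Q := act 5 n31003
theorem D66412 : act 5 n31003 = n66412 := rfl
theorem F102320 : act 2 n66412 = n65649 := d2_1 D66412 (iv5 D65649) (iv2 F49426)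
theorem F102321 : act 6 n66412 = n31423 := d12_2 D31003 D66412 (iv5 D31423) (iv6 D14811) (iv5 F24357)
def n66413 : Q := act 7 n31003
theorem D66413 : act 7 n31003 = n66413 := rfl
theorem F102322 : act 2 n66413 = n65650 := d4_1 D66413 (iv7 D65650) (iv2 F49426)
theorem F102323 : act 4 n66413 = n31582 := d11_1 D66413 (iv7 D31582) (iv4 F49427)
theorem F102325 : act 1 n65650 = n66410 := d15_0 (iv0 D66410) D66413 F102322
theorem F102326 : act 1 n65648 = n66413 := d15_1 D65648 (iv7 D66413) F49426
theorem F102327 : act 1 n66413 = n65647 := d15_0 (iv0 D65647) D65650 (iv2 F102322)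
def n66414 : Q := act 2 n31004
theorem D66414 : act 2 n31004 = n66414 := rfl
theorem F102328 : act 7 n31005 = n66414 := d15_2 (iv0 D31004) D31005 (iv2 D66414)
def n66415 : Q := act 3 n31004
theorem D66415 : act 3 n31004 = n66415 := rfl
def n66416 : Q := act 4 n31004
theorem D66416 : act 4 n31004 = n66416 := rfl
def n66417 : Q := act 5 n31004
theorem D66417 : act 5 n31004 = n66417 := rfl
def n66418 : Q := act 6 n31004
theorem D66418 : act 6 n31004 = n66418 := rfl
theorem F102329 : act 5 n66418 = n66115 := d21_6 (iv5 D6429) F5486 D7005 D14669 D31004 D66418 (iv1 D66115) (iv5 D30912) (iv6 D14633) F11253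
def n66419 : Q := act 7 n31004
theorem D66419 : act 7 n31004 = n66419 := rfl
theorem F102330 : act 2 n66419 = n31005 := d4_1 D66419 F102328 (iv2 D66414)
def n66420 : Q := act 3 n31005
theorem D66420 : act 3 n31005 = n66420 := rfl
def n66421 : Q := act 4 n31005
theorem D66421 : act 4 n31005 = n66421 := rfl
def n66422 : Q := act 5 n31005
theorem D66422 : act 5 n31005 = n66422 := rfl
def n66423 : Q := act 6 n31005
theorem D66423 : act 6 n31005 = n66423 := rfl
def n66424 : Q := act 0 n31006
theorem D66424 : act 0 n31006 = n66424 := rfl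
def n66425 : Q := act 1 n31006
theorem D66425 : act 1 n31006 = n66425 := rfl
def n66426 : Q := act 4 n31006
theorem D66426 : act 4 n31006 = n66426 := rfl
theorem F102331 : act 6 n66426 = n31018 := d10_2 (iv6 F49428) D66426 (iv4 D31018)
def n66427 : Q := act 7 n31006
theorem D66427 : act 7 n31006 = n66427 := rfl
theorem F102332 : act 5 n66427 = n31007 := d13_1 D66427 (iv7 D31007) D31006
def n66428 : Q := act 0 n31009
theorem D66428 : act 0 n31009 = n66428 := rfl
def n66429 : Q := act 1 n31009
theorem D66429 : act 1 n31009 = n66429 := rfl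
def n66430 : Q := act 2 n31009
theorem D66430 : act 2 n31009 = n66430 := rfl
def n66431 : Q := act 4 n31009
theorem D66431 : act 4 n31009 = n66431 := rfl
theorem F102333 : act 3 n66431 = n59645 := d5_1 D66431 (iv4 D59645) (iv3 D28302) (iv4 F46741) D31009
def n66432 : Q := act 5 n31009
theorem D66432 : act 5 n31009 = n66432 := rfl
def n66433 : Q := act 0 n31010
theorem D66433 : act 0 n31010 = n66433 := rfl
theorem F102335 : act 5 n66433 = n60891 := d17_3 D14670 D31010 D66433 F95438 (iv5 F48026) (iv0 F48028) (iv5 D14677) (iv0 D7007) (iv4 F11269)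
theorem F102336 : act 1 n31014 = n66433 := d15_0 (iv0 D66433) (iv7 F84470) F84469
def n66434 : Q := act 1 n31010
theorem D66434 : act 1 n31010 = n66434 := rfl
theorem F102337 : act 1 n66434 = n31014 := d15_1 D66434 (iv7 F84467) F84466
theorem F102338 : act 5 n66434 = n60890 := d17_7 D28879 (iv5 F47219) F47227 (iv5 D28304) (iv4 F46741) D31010 D66434 (iv0 D60890) (iv4 D28881)
def n66435 : Q := act 4 n31010
theorem D66435 : act 4 n31010 = n66435 := rfl
def n66437 : Q := act 0 n31013
theorem D66437 : act 0 n31013 = n66437 := rfl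
def n66438 : Q := act 1 n31013
theorem D66438 : act 1 n31013 = n66438 := rfl
def n66439 : Q := act 2 n31013
theorem D66439 : act 2 n31013 = n66439 := rfl
def n66440 : Q := act 4 n31013
theorem D66440 : act 4 n31013 = n66440 := rfl
theorem F102339 : act 3 n66440 = n59535 := d5_1 D66440 (iv4 D59535) F101867 (iv4 F46539) D31013
def n66441 : Q := act 5 n31013
theorem D66441 : act 5 n31013 = n66441 := rfl
def n66442 : Q := act 6 n31013
theorem D66442 : act 6 n31013 = n66442 := rfl
theorem F102341 : act 3 n66442 = n31015 := d7_1 D66442 (iv6 D31015) D31013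
def n66443 : Q := act 4 n31014
theorem D66443 : act 4 n31014 = n66443 := rfl
def n66445 : Q := act 3 n31016
theorem D66445 : act 3 n31016 = n66445 := rfl
theorem F102342 : act 5 n66445 = n62171 := d6_2 (iv5 F49436) D66445 (iv3 D62171)
def n66446 : Q := act 4 n31016
theorem D66446 : act 4 n31016 = n66446 := rfl
theorem F102343 : act 1 n66446 = n53671 := d18_6 (iv1 F96923) (iv4 D62170) (iv1 D29429) D29430 (iv5 F49436) D66446 (iv4 D53671) D53670 (iv5 F84678)
def n66447 : Q := act 6 n31016
theorem D66447 : act 6 n31016 = n66447 := rfl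
theorem F102344 : act 5 n66447 = n61644 := d12_1 D66447 F96207 F46858 (iv6 F47171) (iv5 F49436)
def n66448 : Q := act 3 n31017
theorem D66448 : act 3 n31017 = n66448 := rfl
theorem F102345 : act 5 n66448 = n66123 := d6_2 F49437 D66448 F101756
def n66449 : Q := act 4 n31017
theorem D66449 : act 4 n31017 = n66449 := rfl
theorem F102346 : act 5 n66449 = n62163 := d16_1 D66449 (iv4 D62163) (iv5 D29424) F23322 D13996 D29430 (iv5 F49436) (iv7 F84478) F84480
theorem F102347 : act 0 n66449 = n53671 := d18_2 (iv1 F84484) D66449 (iv4 D53671) (iv5 D25979) F20453 D13509 (iv4 F46539) F41000 (iv5 F84483)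
def n66450 : Q := act 6 n31017
theorem D66450 : act 6 n31017 = n66450 := rfl
theorem F102348 : act 5 n66450 = n66127 := d12_1 D66450 (iv6 D66127) (iv5 D30915) D30916 F49437
def n66451 : Q := act 0 n31018
theorem D66451 : act 0 n31018 = n66451 := rfl
theorem F102349 : act 4 n66451 = n31158 := d18_3 (iv1 D31017) D31018 D66451 F49509 (iv4 D29097) D29096 D61473 F95978 F49437
def n66452 : Q := act 1 n31018
theorem D66452 : act 1 n31018 = n66452 := rfl
theorem F102350 : act 4 n66452 = n31159 := d18_7 (iv1 F47606) (iv4 D14681) (iv1 D7008) (iv4 F11269) D14672 D31018 D66452 F84683 F84682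
theorem F102351 : act 5 n61463 = n66452 := d16_1 D61463 F102350 (iv5 F49510) F49362 F24319 (iv4 F47601) (iv5 F97776) (iv7 D62680) F47599
def n66453 : Q := act 3 n31018
theorem D66453 : act 3 n31018 = n66453 := rfl
def n66454 : Q := act 5 n31018
theorem D66454 : act 5 n31018 = n66454 := rfl
theorem F102352 : act 4 n66454 = n61469 := d16_2 D31018 D66454 (iv5 D61469) (iv4 D29094) F23515 (iv4 F40997) (iv5 F84483) (iv7 D53557) F40995
def n66455 : Q := act 7 n31018
theorem D66455 : act 7 n31018 = n66455 := rfl
theorem F102353 : act 4 n66455 = n31019 := d11_1 D66455 (iv7 D31019) D31018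
def n66456 : Q := act 6 n31019
theorem D66456 : act 6 n31019 = n66456 := rfl
def n66457 : Q := act 0 n31023
theorem D66457 : act 0 n31023 = n66457 := rfl
def n66458 : Q := act 3 n31023
theorem D66458 : act 3 n31023 = n66458 := rfl
theorem F102354 : act 4 n66458 = n31025 := d5_2 D31023 D66458 (iv3 D31025) (iv4 D14676) D14675
def n66459 : Q := act 5 n31023
theorem D66459 : act 5 n31023 = n66459 := rfl
def n66460 : Q := act 4 n31024
theorem D66460 : act 4 n31024 = n66460 := rfl
def n66461 : Q := act 0 n31025
theorem D66461 : act 0 n31025 = n66461 := rfl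
def n66462 : Q := act 1 n31025
theorem D66462 : act 1 n31025 = n66462 := rfl
def n66463 : Q := act 2 n31025
theorem D66463 : act 2 n31025 = n66463 := rfl
def n66464 : Q := act 5 n31025
theorem D66464 : act 5 n31025 = n66464 := rfl
def n66469 : Q := act 3 n31027
theorem D66469 : act 3 n31027 = n66469 := rfl
def n66470 : Q := act 5 n31027
theorem D66470 : act 5 n31027 = n66470 := rfl
theorem F102360 : act 0 n66470 = n60885 := d17_2 (iv1 F95509) D66470 (iv5 D60885) (iv4 D28878) (iv5 F23332) F37141 D48852 (iv0 F76928) (iv4 F95508)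
theorem F102361 : act 1 n66470 = n60753 := d17_6 (iv1 F23511) (iv5 D7009) D7007 D14677 D31027 D66470 (iv5 D60753) F47603 F47601
def n66471 : Q := act 0 n31034
theorem D66471 : act 0 n31034 = n66471 := rfl
def n66472 : Q := act 1 n31034
theorem D66472 : act 1 n31034 = n66472 := rfl
def n66473 : Q := act 2 n31034
theorem D66473 : act 2 n31034 = n66473 := rfl
def n66474 : Q := act 5 n31034
theorem D66474 : act 5 n31034 = n66474 := rfl
def n66475 : Q := act 6 n31034
theorem D66475 : act 6 n31034 = n66475 := rfl
theorem F102363 : act 3 n66475 = n31036 := d7_1 D66475 (iv6 D31036) D31034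
def n66476 : Q := act 4 n31035
theorem D66476 : act 4 n31035 = n66476 := rfl
def n66478 : Q := act 5 n31036
theorem D66478 : act 5 n31036 = n66478 := rfl
theorem F102364 : act 1 n66478 = n49978 := d17_6 F20361 (iv5 F23419) D29549 F47401 (iv4 F49443) D66478 (iv5 D49978) (iv0 F40874) F40873
def n66479 : Q := act 3 n31037
theorem D66479 : act 3 n31037 = n66479 := rfl
theorem F102365 : act 6 n66479 = n62474 := d7_2 (iv6 F98842) D66479 (iv3 D62474)
def n66480 : Q := act 5 n31037
theorem D66480 : act 5 n31037 = n66480 := rfl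
theorem F102366 : act 0 n66480 = n60753 := d17_2 (iv1 F95570) D66480 (iv5 D60753) F46467 F22991 D23820 (iv5 F47362) (iv0 F47363) (iv4 F95569)
theorem F102367 : act 1 n66480 = n60885 := d17_6 D13849 F23515 (iv1 F20427) D14682 D31037 D66480 (iv5 D60885) F47159 F23121
def n66481 : Q := act 0 n31038
theorem D66481 : act 0 n31038 = n66481 := rfl
def n66482 : Q := act 1 n31038
theorem D66482 : act 1 n31038 = n66482 := rfl
def n66483 : Q := act 2 n31038
theorem D66483 : act 2 n31038 = n66483 := rfl
theorem F102368 : act 6 n66483 = n61352 := d3_2 (iv6 F49445) D66483 (iv2 D61352)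
def n66484 : Q := act 5 n31038
theorem D66484 : act 5 n31038 = n66484 := rfl
theorem F102369 : act 3 n66484 = n31039 := d6_1 D66484 (iv5 D31039) D31038
def n66485 : Q := act 0 n31039
theorem D66485 : act 0 n31039 = n66485 := rfl
theorem F102370 : act 5 n66485 = n59647 := d17_3 (iv1 F46538) D31039 D66485 (iv4 D59647) (iv5 D28304) (iv0 D13508) D13510 F23019 (iv4 F46515)
def n66486 : Q := act 1 n31039
theorem D66486 : act 1 n31039 = n66486 := rfl
theorem F102373 : act 5 n66486 = n59654 := d17_7 F48027 (iv5 D14682) (iv1 D7008) D7009 D14684 D31039 D66486 F97114 F97110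
def n66487 : Q := act 4 n31039
theorem D66487 : act 4 n31039 = n66487 := rfl
def n66488 : Q := act 6 n31039
theorem D66488 : act 6 n31039 = n66488 := rfl
theorem F102374 : act 5 n66488 = n60940 := d12_1 D66488 (iv6 D60940) F46534 (iv6 F24365) D31039
def n66489 : Q := act 0 n31040
theorem D66489 : act 0 n31040 = n66489 := rfl
theorem F102375 : act 3 n66489 = n64716 := d20_5 F37771 (iv1 F19208) D14685 D31040 D66489 (iv4 D64716) (iv1 D30445) D30447 F48865 (iv1 F48051)
def n66490 : Q := act 1 n31040
theorem D66490 : act 1 n31040 = n66490 := rfl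
def n66491 : Q := act 2 n31040
theorem D66491 : act 2 n31040 = n66491 := rfl
theorem F102376 : act 3 n66491 = n31051 := d0_2 D31040 D66491 (iv2 D31051) (iv3 D14689) (iv2 F24366)
def n66492 : Q := act 5 n31040
theorem D66492 : act 5 n31040 = n66492 := rfl
theorem F102377 : act 3 n66492 = n31041 := d6_1 D66492 (iv5 D31041) D31040
def n66493 : Q := act 6 n31040
theorem D66493 : act 6 n31040 = n66493 := rfl
theorem F102378 : act 3 n66493 = n31042 := d7_1 D66493 (iv6 D31042) D31040
def n66494 : Q := act 6 n31041
theorem D66494 : act 6 n31041 = n66494 := rfl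
theorem F102379 : act 2 n66494 = n31056 := d3_1 D66494 (iv6 D31056) (iv2 F49446)
def n66495 : Q := act 0 n31042
theorem D66495 : act 0 n31042 = n66495 := rfl
def n66496 : Q := act 1 n31042
theorem D66496 : act 1 n31042 = n66496 := rfl
theorem F102380 : act 1 n66496 = n31060 := d15_1 D66496 (iv7 D31060) (iv2 F49450)
def n66497 : Q := act 5 n31042
theorem D66497 : act 5 n31042 = n66497 := rfl
theorem F102381 : act 2 n66497 = n31059 := d2_1 D66497 (iv5 D31059) (iv2 F49450)
def n66498 : Q := act 7 n31042
theorem D66498 : act 7 n31042 = n66498 := rfl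
theorem F102382 : act 2 n66498 = n31060 := d4_1 D66498 (iv7 D31060) (iv2 F49450)
theorem F102383 : act 4 n66498 = n31045 := d11_1 D66498 (iv7 D31045) (iv4 F49451)
theorem F102384 : act 1 n31060 = n66495 := d15_0 (iv0 D66495) D66498 F102382
theorem F102385 : act 1 n31058 = n66498 := d15_1 D31058 (iv7 D66498) F49450
theorem F102386 : act 4 n59670 = n66495 := d20_6 D25970 F53800 F20459 (iv3 F22663) D28316 D59670 (iv1 F102384) F49467 F24370 (iv1 F20442)
theorem F102387 : act 1 n66498 = n31057 := d15_0 (iv0 D31057) D31060 (iv2 F102382)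
def n66499 : Q := act 2 n31043
theorem D66499 : act 2 n31043 = n66499 := rfl
def n66500 : Q := act 3 n31043
theorem D66500 : act 3 n31043 = n66500 := rfl
def n66501 : Q := act 4 n31043
theorem D66501 : act 4 n31043 = n66501 := rfl
def n66502 : Q := act 7 n31043
theorem D66502 : act 7 n31043 = n66502 := rfl
def n66503 : Q := act 3 n31044
theorem D66503 : act 3 n31044 = n66503 := rfl
theorem F102390 : act 4 n66503 = n51214 := d20_6 (iv4 F53674) (iv1 F41033) F24374 (iv3 F24370) (iv1 F49452) D66503 (iv1 D51214) F39062 F19210 D23822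
def n66504 : Q := act 4 n31044
theorem D66504 : act 4 n31044 = n66504 := rfl
def n66505 : Q := act 0 n31046
theorem D66505 : act 0 n31046 = n66505 := rfl
def n66506 : Q := act 1 n31046
theorem D66506 : act 1 n31046 = n66506 := rfl
def n66507 : Q := act 2 n31046
theorem D66507 : act 2 n31046 = n66507 := rfl
def n66508 : Q := act 0 n31047
theorem D66508 : act 0 n31047 = n66508 := rfl
def n66509 : Q := act 1 n31047
theorem D66509 : act 1 n31047 = n66509 := rfl
def n66510 : Q := act 2 n31047
theorem D66510 : act 2 n31047 = n66510 := rfl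
def n66511 : Q := act 6 n31047
theorem D66511 : act 6 n31047 = n66511 := rfl
theorem F102391 : act 3 n66511 = n31048 := d7_1 D66511 (iv6 D31048) D31047
def n66512 : Q := act 0 n31048
theorem D66512 : act 0 n31048 = n66512 := rfl
def n66513 : Q := act 1 n31048
theorem D66513 : act 1 n31048 = n66513 := rfl
def n66514 : Q := act 5 n31048
theorem D66514 : act 5 n31048 = n66514 := rfl
def n66515 : Q := act 2 n31049
theorem D66515 : act 2 n31049 = n66515 := rfl
theorem F102392 : act 7 n31050 = n66515 := d15_2 (iv0 D31049) D31050 (iv2 D66515)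
def n66516 : Q := act 3 n31049
theorem D66516 : act 3 n31049 = n66516 := rfl
def n66517 : Q := act 5 n31049
theorem D66517 : act 5 n31049 = n66517 := rfl
def n66518 : Q := act 6 n31049
theorem D66518 : act 6 n31049 = n66518 := rfl
def n66519 : Q := act 7 n31049
theorem D66519 : act 7 n31049 = n66519 := rfl
theorem F102393 : act 2 n66519 = n31050 := d4_1 D66519 F102392 (iv2 D66515)
def n66520 : Q := act 3 n31050
theorem D66520 : act 3 n31050 = n66520 := rfl
def n66521 : Q := act 5 n31050
theorem D66521 : act 5 n31050 = n66521 := rfl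
def n66522 : Q := act 6 n31050
theorem D66522 : act 6 n31050 = n66522 := rfl
def n66523 : Q := act 5 n31051
theorem D66523 : act 5 n31051 = n66523 := rfl
theorem F102394 : act 2 n66523 = n31052 := d2_1 D66523 (iv5 D31052) D31051
def n66524 : Q := act 6 n31051
theorem D66524 : act 6 n31051 = n66524 := rfl
theorem F102395 : act 2 n66524 = n31053 := d3_1 D66524 (iv6 D31053) D31051
theorem F102396 : act 4 n66524 = n31082 := d10_1 D66524 (iv6 D31082) (iv4 F49457)
def n66525 : Q := act 0 n31052
theorem D66525 : act 0 n31052 = n66525 := rfl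
def n66526 : Q := act 1 n31052
theorem D66526 : act 1 n31052 = n66526 := rfl
def n66527 : Q := act 4 n31052
theorem D66527 : act 4 n31052 = n66527 := rfl
def n66528 : Q := act 6 n31052
theorem D66528 : act 6 n31052 = n66528 := rfl
theorem F102397 : act 3 n66528 = n31056 := d7_1 D66528 (iv6 D31056) (iv3 F49458)
def n66529 : Q := act 0 n31053
theorem D66529 : act 0 n31053 = n66529 := rfl
def n66530 : Q := act 1 n31053
theorem D66530 : act 1 n31053 = n66530 := rfl
def n66531 : Q := act 5 n31053
theorem D66531 : act 5 n31053 = n66531 := rfl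
theorem F102398 : act 3 n66531 = n31059 := d6_1 D66531 (iv5 D31059) (iv3 F49459)
def n66532 : Q := act 7 n31053
theorem D66532 : act 7 n31053 = n66532 := rfl
theorem F102399 : act 3 n66532 = n31060 := d8_1 D66532 (iv7 D31060) (iv3 F49459)
theorem F102400 : act 4 n66532 = n31090 := d11_1 D66532 (iv7 D31090) (iv4 F49460)
def n66533 : Q := act 3 n31054
theorem D66533 : act 3 n31054 = n66533 := rfl
theorem F102401 : act 5 n66533 = n53377 := d6_2 (iv5 F49461) D66533 (iv3 D53377)
theorem F102402 : act 7 n66533 = n65945 := d8_2 F49463 D66533 F101658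
def n66534 : Q := act 6 n31054
theorem D66534 : act 6 n31054 = n66534 := rfl
def n66535 : Q := act 3 n31055
theorem D66535 : act 3 n31055 = n66535 := rfl
theorem F102404 : act 5 n66535 = n53379 := d6_2 (iv5 F49465) D66535 (iv3 D53379)
theorem F102405 : act 7 n66535 = n65953 := d8_2 (iv7 F49464) D66535 F101660
def n66536 : Q := act 6 n31055
theorem D66536 : act 6 n31055 = n66536 := rfl
theorem F102406 : act 2 n66536 = n65947 := d3_1 D66536 (iv6 D65947) F49466
def n66537 : Q := act 0 n31056
theorem D66537 : act 0 n31056 = n66537 := rfl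
def n66538 : Q := act 1 n31056
theorem D66538 : act 1 n31056 = n66538 := rfl
def n66539 : Q := act 5 n31056
theorem D66539 : act 5 n31056 = n66539 := rfl
theorem F102407 : act 6 n66539 = n31059 := d12_2 D31056 D66539 (iv5 D31059) (iv6 D14691) D14690
def n66540 : Q := act 7 n31056
theorem D66540 : act 7 n31056 = n66540 := rfl
def n66541 : Q := act 2 n31057
theorem D66541 : act 2 n31057 = n66541 := rfl
theorem F102408 : act 7 n31058 = n66541 := d15_2 (iv0 D31057) D31058 (iv2 D66541)
def n66542 : Q := act 3 n31057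
theorem D66542 : act 3 n31057 = n66542 := rfl
def n66543 : Q := act 4 n31057
theorem D66543 : act 4 n31057 = n66543 := rfl
def n66544 : Q := act 5 n31057
theorem D66544 : act 5 n31057 = n66544 := rfl
def n66545 : Q := act 6 n31057
theorem D66545 : act 6 n31057 = n66545 := rfl
def n66546 : Q := act 7 n31057
theorem D66546 : act 7 n31057 = n66546 := rfl
theorem F102409 : act 2 n66546 = n31058 := d4_1 D66546 F102408 (iv2 D66541)
def n66547 : Q := act 3 n31058
theorem D66547 : act 3 n31058 = n66547 := rfl
def n66548 : Q := act 4 n31058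
theorem D66548 : act 4 n31058 = n66548 := rfl
theorem F102410 : act 3 n66548 = n59660 := d20_3 (iv4 F102383) (iv1 F102385) D66548 (iv1 D59660) F45822 F37979 D49581 (iv4 F80812) (iv3 D31062) (iv1 F49456)
def n66549 : Q := act 5 n31058
theorem D66549 : act 5 n31058 = n66549 := rfl
def n66550 : Q := act 6 n31058
theorem D66550 : act 6 n31058 = n66550 := rfl
def n66551 : Q := act 0 n31059
theorem D66551 : act 0 n31059 = n66551 := rfl
def n66552 : Q := act 1 n31059
theorem D66552 : act 1 n31059 = n66552 := rfl
def n66553 : Q := act 4 n31059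
theorem D66553 : act 4 n31059 = n66553 := rfl
def n66554 : Q := act 7 n31059
theorem D66554 : act 7 n31059 = n66554 := rfl
theorem F102411 : act 5 n66554 = n31060 := d13_1 D66554 (iv7 D31060) D31059
def n66555 : Q := act 0 n31061
theorem D66555 : act 0 n31061 = n66555 := rfl
theorem F102412 : act 1 n31066 = n66555 := d15_0 (iv0 D66555) (iv7 F49468) (iv2 F49469)
def n66557 : Q := act 3 n31061
theorem D66557 : act 3 n31061 = n66557 := rfl
theorem F102414 : act 7 n66557 = n31067 := d8_2 F49468 D66557 (iv3 D31067)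
def n66558 : Q := act 4 n31061
theorem D66558 : act 4 n31061 = n66558 := rfl
theorem F102415 : act 2 n66558 = n31063 := d1_1 D66558 (iv4 D31063) D31061
theorem F102416 : act 7 n66558 = n31068 := d11_2 F49468 D66558 (iv4 D31068)
def n66559 : Q := act 6 n31061
theorem D66559 : act 6 n31061 = n66559 := rfl
theorem F102417 : act 2 n66559 = n31065 := d3_1 D66559 (iv6 D31065) D31061
def n66562 : Q := act 2 n31062
theorem D66562 : act 2 n31062 = n66562 := rfl
def n66563 : Q := act 6 n31062
theorem D66563 : act 6 n31062 = n66563 := rfl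
theorem F102418 : act 3 n66563 = n31065 := d7_1 D66563 (iv6 D31065) D31062
def n66564 : Q := act 7 n31062
theorem D66564 : act 7 n31062 = n66564 := rfl
theorem F102419 : act 3 n66564 = n31066 := d8_1 D66564 (iv7 D31066) D31062
def n66565 : Q := act 0 n31063
theorem D66565 : act 0 n31063 = n66565 := rfl
def n66566 : Q := act 1 n31063
theorem D66566 : act 1 n31063 = n66566 := rfl
theorem F102420 : act 1 n66566 = n31068 := d15_1 D66566 (iv7 F102416) F102415
def n66567 : Q := act 3 n31063
theorem D66567 : act 3 n31063 = n66567 := rfl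
def n66568 : Q := act 5 n31063
theorem D66568 : act 5 n31063 = n66568 := rfl
def n66569 : Q := act 6 n31063
theorem D66569 : act 6 n31063 = n66569 := rfl
theorem F102421 : act 4 n66569 = n31065 := d10_1 D66569 (iv6 D31065) D31063
def n66570 : Q := act 7 n31063
theorem D66570 : act 7 n31063 = n66570 := rfl
theorem F102422 : act 2 n66570 = n31068 := d4_1 D66570 (iv7 F102416) F102415
theorem F102423 : act 4 n66570 = n31066 := d11_1 D66570 (iv7 D31066) D31063
theorem F102424 : act 1 n31068 = n66565 := d15_0 (iv0 D66565) D66570 F102422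
def n66571 : Q := act 1 n31065
theorem D66571 : act 1 n31065 = n66571 := rfl
theorem F102425 : act 7 n66571 = n50312 := d15_2 (iv0 F101530) D66571 (iv2 F101637)
theorem F102426 : act 5 n50161 = n66571 := d21_0 (iv1 D66571) F81078 F84554 (iv1 D50205) (iv6 D24487) F19313 F24218 (iv5 F24217) D24465 D50161
theorem F102427 : act 2 n66571 = n50308 := d2_1 F102426 (iv5 D50308) (iv2 F101641)
theorem F102428 : act 1 n66006 = n50312 := d15_1 (iv0 F101690) (iv7 F102425) F102427
def n66572 : Q := act 7 n31065
theorem D66572 : act 7 n31065 = n66572 := rfl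
def n66573 : Q := act 6 n31066
theorem D66573 : act 6 n31066 = n66573 := rfl
theorem F102429 : act 2 n66573 = n31070 := d3_1 D66573 (iv6 D31070) (iv2 F49469)
theorem F102430 : act 7 n50077 = n66573 := d15_2 F84551 D50077 F102429
theorem E9210 : n66572 = n66006 := (c14_5 F102430 (iv6 D66573) (iv7 D31066) D31065 D66572 F101689)
theorem F102431 : act 7 n66006 = n31065 := (sb E9210 (iv7 D66572))
theorem E9211 : n66007 = n51363 := ((c13_2 F102431 F81078 (iv7 D66007) D66006)).symm
theorem F102432 : act 2 n51363 = n30884 := (sb E9211 F101691)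
theorem F102433 : act 7 n51363 = n30883 := (sb E9211 (iv7 D66007))
theorem E9212 : n66559 = n66010 := (c15_4 (iv0 F101693) (iv0 F101690) F102431 (iv2 F102417))
theorem F102434 : act 2 n66010 = n31065 := (sb E9212 F102417)
theorem E9213 : n31061 = n31043 := (((F101692).symm.trans (sb E9212 (iv6 D66559)))).symm
theorem E9214 : n66555 = n14694 := ((((iv1 F49454)).symm.trans (sb E9213 D66555))).symm
theorem E9216 : n66499 = n14692 := ((D66499).symm.trans (sb E9213 (iv2 D31061)))
theorem E9217 : n66557 = n66500 := (((D66500).symm.trans (sb E9213 D66557))).symm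
theorem E9218 : n66558 = n66501 := (((D66501).symm.trans (sb E9213 D66558))).symm
theorem E9219 : n53591 = n53578 := ((((iv5 F84523)).symm.trans (sb E9213 (iv5 F84546)))).symm
theorem E9220 : n66502 = n14693 := ((D66502).symm.trans (sb E9213 (iv7 F49468)))
theorem E9221 : n31066 = n31044 := ((((iv1 F49452)).symm.trans (sb E9214 (iv1 F102412)))).symm
theorem F102435 : act 2 n14692 = n31043 := (sb E9216 (iv2 D66499))
theorem F102436 : act 7 n66500 = n31067 := (sb E9217 F102414)
theorem F102437 : act 2 n66501 = n31063 := (sb E9218 F102415)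
theorem F102438 : act 7 n66501 = n31068 := (sb E9218 F102416)
theorem F102439 : act 2 n53578 = n25951 := (sb E9219 (iv2 D53591))
theorem F102440 : act 7 n53578 = n25952 := (sb E9219 (iv7 F84547))
theorem F102441 : act 7 n14693 = n31043 := (sb E9220 (iv7 D66502))
theorem F102442 : act 2 n31044 = n14693 := (sb E9221 F49469)
theorem E9222 : n66564 = n66503 := (((D66503).symm.trans (sb E9221 (iv3 F102419)))).symm
theorem E9223 : n66570 = n66504 := (((D66504).symm.trans (sb E9221 (iv4 F102423)))).symm
theorem E9224 : n53595 = n53579 := (((F95818).symm.trans (sb E9221 (iv5 F84556)))).symm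
theorem E9225 : n66573 = n34151 := ((((iv6 F95820)).symm.trans (sb E9221 D66573))).symm
theorem F102443 : act 7 n31044 = n14692 := (sb E9221 (iv7 D31066))
theorem F102444 : act 7 n66503 = n31062 := (sb E9222 (iv7 D66564))
theorem F102445 : act 2 n66504 = n31068 := (sb E9223 F102422)
theorem F102446 : act 7 n66504 = n31063 := (sb E9223 (iv7 D66570))
theorem F102447 : act 2 n53579 = n25952 := (sb E9224 F84555)
theorem F102448 : act 7 n53579 = n25951 := (sb E9224 (iv7 D53595))
theorem F102449 : act 2 n34151 = n31070 := (sb E9225 F102429)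
theorem F102450 : act 7 n34151 = n50077 := (sb E9225 (iv7 F102430))
theorem F102451 : act 2 n50077 = n34152 := d15_3 F79274 F79275 F102450
theorem F102452 : act 7 n31070 = n34152 := d4_2 (iv7 F102450) F102449 (iv2 F102451)
theorem F102453 : act 2 n51537 = n50406 := d2_3 F79766 F102451 (iv5 F81297)
theorem E9226 : n50402 = n25037 := (c3_4 D51537 F102453 (iv6 D50406) D50402)
theorem E9227 : n51533 = n24568 := (((iv2 F81294)).symm.trans (sb E9226 (iv2 D50402)))
theorem E9228 : n51528 = n24569 := ((F81290).symm.trans (sb E9226 (iv7 F79763)))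
theorem F102454 : act 2 n24568 = n25037 := (sb E9227 F81294)
theorem E9229 : n50407 = n25036 := ((D50407).symm.trans (sb E9227 (iv7 D51533)))
theorem F102455 : act 7 n24569 = n25037 := (sb E9228 (iv7 F81290))
theorem F102456 : act 2 n25036 = n24569 := (sb E9229 F79767)
theorem F102457 : act 7 n25036 = n24568 := (sb E9229 (iv7 D50407))
theorem F102458 : act 7 n50403 = n51529 := d8_2 F102457 D50403 (iv3 D51529)
theorem F102459 : act 7 n50404 = n51530 := d11_2 F102457 D50404 (iv4 D51530)
theorem F102460 : act 7 n50405 = n51531 := d13_2 F102457 D50405 (iv5 D51531)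
theorem F102461 : act 7 n51589 = n50205 := d14_2 F102460 (iv6 F81425) (iv6 F84554) F102433 F79765
theorem F102462 : act 2 n50205 = n51590 := d15_3 F81427 F81426 F102461
theorem F102463 : act 2 n51589 = n50204 := d15_3 (iv0 D50204) D50205 (iv7 F102461)
theorem F102464 : act 2 n50410 = n51531 := d3_3 (iv6 F81425) F102463 F79768
theorem F102465 : act 7 n50204 = n51590 := d4_2 (iv7 F102461) F102463 (iv2 F102462)
theorem F102466 : act 7 n51536 = n50410 := d15_2 (iv0 F81291) (iv0 F81295) F102464
theorem F102467 : act 2 n51536 = n50405 := d4_3 F102460 (iv2 F102464) (iv7 F102466)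
theorem E9230 : n66003 = n51362 := (c3_4 (iv6 F81296) F102467 (iv6 F79765) D66003)
theorem F102468 : act 2 n51362 = n30883 := (sb E9230 (iv2 D66003))
theorem F102469 : act 7 n51362 = n30884 := (sb E9230 (iv7 F101688))
theorem F102470 : act 7 n58961 = n59204 := d11_2 F102458 F93166 (iv4 F93407)
theorem F102471 : act 2 n59204 = n58960 := d15_3 (iv0 D58960) D58961 F102470
theorem F102472 : act 2 n58961 = n59203 := d15_3 (iv0 D59203) D59204 (iv7 F102470)
theorem F102473 : act 7 n59203 = n58960 := d4_2 (iv7 F102470) F102472 (iv2 F102471)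
theorem F102474 : act 2 n50409 = n51530 := d1_3 (iv4 D51530) F102456 D50409
theorem F102475 : act 2 n50411 = n51532 := d3_3 (iv6 D51532) F102456 D50411
theorem E9231 : n65100 = n51269 := ((c2_3 (iv5 F79769) F102475 F81292 F100889)).symm
theorem F102476 : act 2 n51269 = n30570 := (sb E9231 F100889)
theorem F102477 : act 7 n51269 = n30569 := (sb E9231 (iv7 D65100))
theorem F102478 : act 7 n65099 = n51532 := d13_2 F102477 D65099 F81292
theorem E9232 : n65096 = n51268 := (c15_4 (iv0 D51268) D51269 F102477 D65096)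
theorem F102479 : act 2 n51268 = n30569 := (sb E9232 (iv2 D65096))
theorem F102480 : act 7 n51268 = n30570 := (sb E9232 (iv7 F100887))
theorem F102481 : act 7 n51534 = n50408 := d8_2 F102455 D51534 (iv3 D50408)
theorem F102482 : act 7 n51535 = n50409 := d11_2 F102455 D51535 (iv4 D50409)
theorem F102483 : act 2 n50404 = n51535 := d4_3 F102482 F102474 (iv7 F102459)
theorem F102484 : act 7 n49581 = n51214 := d11_2 F102444 F80812 (iv4 F102390)
theorem F102485 : act 2 n51214 = n49582 := d15_3 F80810 F80811 F102484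
theorem F102486 : act 2 n49581 = n51213 := d15_3 (iv0 D51213) D51214 (iv7 F102484)
theorem F102487 : act 4 n51213 = n66562 := d1_2 F80812 F102486 (iv2 D66562)
theorem F102488 : act 7 n51213 = n49582 := d4_2 (iv7 F102484) F102486 (iv2 F102485)
def n66574 : Q := act 0 n31067
theorem D66574 : act 0 n31067 = n66574 := rfl
def n66575 : Q := act 1 n31067
theorem D66575 : act 1 n31067 = n66575 := rfl
def n66576 : Q := act 2 n31067
theorem D66576 : act 2 n31067 = n66576 := rfl
def n66577 : Q := act 4 n31067
theorem D66577 : act 4 n31067 = n66577 := rfl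
def n66578 : Q := act 6 n31067
theorem D66578 : act 6 n31067 = n66578 := rfl
theorem F102489 : act 3 n66578 = n31070 := d7_1 D66578 (iv6 D31070) D31067
def n66579 : Q := act 3 n31068
theorem D66579 : act 3 n31068 = n66579 := rfl
def n66580 : Q := act 5 n31068
theorem D66580 : act 5 n31068 = n66580 := rfl
def n66581 : Q := act 6 n31068
theorem D66581 : act 6 n31068 = n66581 := rfl
theorem F102490 : act 4 n66581 = n31070 := d10_1 D66581 (iv6 D31070) D31068
def n66582 : Q := act 5 n31070
theorem D66582 : act 5 n31070 = n66582 := rfl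
theorem F102491 : act 7 n66582 = n51537 := d13_2 (iv7 F102452) D66582 F81297
theorem F102492 : act 0 n66582 = n51468 := d21_1 D66582 F84201 (iv6 F101253) (iv1 D65530) (iv6 D30712) (iv5 D14554) (iv1 F24189) F24187 D24423 (iv1 F84551)
def n66584 : Q := act 1 n31071
theorem D66584 : act 1 n31071 = n66584 := rfl
theorem F102494 : act 1 n66584 = n31076 := d15_1 D66584 (iv7 D31076) D31071
def n66585 : Q := act 3 n31071
theorem D66585 : act 3 n31071 = n66585 := rfl
theorem F102495 : act 7 n66585 = n31077 := d8_2 F49470 D66585 (iv3 D31077)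
def n66586 : Q := act 4 n31071
theorem D66586 : act 4 n31071 = n66586 := rfl
theorem F102496 : act 2 n66586 = n31073 := d1_1 D66586 (iv4 D31073) D31071
theorem F102497 : act 7 n66586 = n31078 := d11_2 F49470 D66586 (iv4 D31078)
def n66587 : Q := act 5 n31071
theorem D66587 : act 5 n31071 = n66587 := rfl
theorem F102498 : act 2 n66587 = n31074 := d2_1 D66587 (iv5 D31074) D31071
theorem F102499 : act 7 n66587 = n31079 := d13_2 F49470 D66587 (iv5 D31079)
def n66589 : Q := act 0 n31072
theorem D66589 : act 0 n31072 = n66589 := rfl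
def n66590 : Q := act 1 n31072
theorem D66590 : act 1 n31072 = n66590 := rfl
def n66591 : Q := act 2 n31072
theorem D66591 : act 2 n31072 = n66591 := rfl
def n66592 : Q := act 5 n31072
theorem D66592 : act 5 n31072 = n66592 := rfl
theorem F102501 : act 3 n66592 = n31074 := d6_1 D66592 (iv5 D31074) D31072
def n66593 : Q := act 6 n31072
theorem D66593 : act 6 n31072 = n66593 := rfl
def n66594 : Q := act 7 n31072
theorem D66594 : act 7 n31072 = n66594 := rfl
theorem F102503 : act 3 n66594 = n31076 := d8_1 D66594 (iv7 D31076) D31072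
def n66595 : Q := act 0 n31073
theorem D66595 : act 0 n31073 = n66595 := rfl
theorem F102504 : act 4 n66595 = n53752 := d20_2 D31073 D66595 (iv3 D53752) (iv1 F41092) F20463 F9010 (iv1 F3835) D3170 D7014 D14695
def n66596 : Q := act 1 n31073
theorem D66596 : act 1 n31073 = n66596 := rfl
theorem F102505 : act 1 n66596 = n31078 := d15_1 D66596 (iv7 F102497) F102496
def n66597 : Q := act 3 n31073
theorem D66597 : act 3 n31073 = n66597 := rfl
def n66598 : Q := act 5 n31073
theorem D66598 : act 5 n31073 = n66598 := rfl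
def n66599 : Q := act 6 n31073
theorem D66599 : act 6 n31073 = n66599 := rfl
def n66600 : Q := act 7 n31073
theorem D66600 : act 7 n31073 = n66600 := rfl
theorem F102507 : act 2 n66600 = n31078 := d4_1 D66600 (iv7 F102497) F102496
theorem F102508 : act 4 n66600 = n31076 := d11_1 D66600 (iv7 D31076) D31073
theorem F102509 : act 1 n31078 = n66595 := d15_0 (iv0 D66595) D66600 F102507
theorem E9233 : n59692 = n31077 := ((c20_10 (iv4 D64846) (iv1 D30483) F24111 (iv3 F20460) D26003 D53752 (iv4 F102504) (iv1 F102509) (iv4 D31078) D31077 (iv1 F100687))).symm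
theorem F102510 : act 0 n31077 = n64846 := (sb E9233 (iv1 F100687))
theorem F102511 : act 1 n31077 = n28328 := (sb E9233 (iv0 D59692))
theorem F102512 : act 4 n53714 = n59699 := d20_6 (iv4 F49542) (iv1 F49547) (iv4 D14745) D14744 D31234 F84748 (iv1 D59699) (iv4 D28329) D28328 (iv1 F102511)
theorem F102513 : act 2 n66585 = n59693 := d15_3 F100685 (iv0 F102510) (iv7 F102495)
theorem F102514 : act 3 n59693 = n66591 := d0_2 D66585 F102513 (iv2 D66591) (iv3 D31072) D31071
theorem F102515 : act 4 n53686 = n66591 := d20_2 D25984 D53686 (iv3 F102514) (iv1 D59693) (iv3 D28328) D28329 D59698 F94093 (iv3 D53679) (iv1 D25982)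
theorem F102516 : act 2 n31139 = n53686 := d1_3 F102515 (iv2 D66591) F49493
theorem F102517 : act 7 n53687 = n31139 := d15_2 (iv0 D53686) D53687 F102516
theorem F102518 : act 7 n31138 = n53686 := d15_2 (iv0 F84690) F84691 (iv2 F102516)
theorem F102519 : act 2 n53687 = n31138 := d4_3 F102518 (iv2 F102516) (iv7 F102517)
theorem E9234 : n66594 = n53526 := (c11_3 F102517 (iv4 F49493) D66594 F84701)
theorem E9235 : n31076 = n25927 := ((((iv3 D53526)).symm.trans (sb E9234 F102503))).symm
theorem F102520 : act 7 n53526 = n31072 := (sb E9234 (iv7 D66594))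
theorem E9236 : n66584 = n14697 := ((((iv1 F40983)).symm.trans (sb E9235 (iv1 F102494)))).symm
theorem E9238 : n53525 = n14696 := ((D53525).symm.trans (sb E9235 F49471))
theorem E9239 : n66600 = n53527 := (((D53527).symm.trans (sb E9235 (iv4 F102508)))).symm
theorem E9240 : n53530 = n14695 := ((D53530).symm.trans (sb E9235 (iv7 D31076)))
theorem E9241 : n31071 = n25928 := ((((iv1 F40987)).symm.trans (sb E9236 (iv1 D66584)))).symm
theorem F102521 : act 2 n14696 = n25927 := (sb E9238 (iv2 D53525))
theorem F102522 : act 2 n53527 = n31078 := (sb E9239 F102507)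
theorem F102523 : act 7 n53527 = n31073 := (sb E9239 (iv7 D66600))
theorem F102524 : act 7 n14695 = n25927 := (sb E9240 (iv7 D53530))
theorem F102525 : act 2 n25928 = n14695 := (sb E9241 (iv2 D31071))
theorem E9242 : n66585 = n53531 := (((D53531).symm.trans (sb E9241 D66585))).symm
theorem E9243 : n66586 = n53532 := (((D53532).symm.trans (sb E9241 D66586))).symm
theorem E9244 : n66587 = n53533 := (((D53533).symm.trans (sb E9241 D66587))).symm
theorem F102526 : act 7 n25928 = n14696 := (sb E9241 (iv7 F49470))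
theorem F102527 : act 2 n53531 = n59693 := (sb E9242 F102513)
theorem F102528 : act 7 n53531 = n31077 := (sb E9242 F102495)
theorem F102529 : act 2 n53532 = n31073 := (sb E9243 F102496)
theorem F102530 : act 7 n53532 = n31078 := (sb E9243 F102497)
theorem F102531 : act 2 n53533 = n31074 := (sb E9244 F102498)
theorem F102532 : act 7 n53533 = n31079 := (sb E9244 F102499)
theorem F102534 : act 1 n53532 = n53739 := d15_0 (iv0 F84765) F102523 (iv2 F102529)
theorem E9246 : n64811 = n53531 := ((c20_10 (iv4 D30474) D30471 F48880 (iv3 F41086) (iv1 F41089) D25999 D53739 (iv1 F102534) (iv4 D53532) D53531 (iv1 D64811))).symm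
theorem F102535 : act 0 n53531 = n30474 := (sb E9246 (iv1 D64811))
theorem F102536 : act 1 n53531 = n30479 := (sb E9246 F100655)
theorem F102537 : act 7 n64810 = n59693 := d15_2 F102536 F100661 (iv2 F102527)
theorem F102538 : act 2 n31077 = n64810 := d4_3 F102537 (iv2 F102527) F102528
theorem F102539 : act 2 n64650 = n31218 := d1_3 F49542 F102538 F100654
theorem F102540 : act 7 n31219 = n64650 := d15_2 (iv0 D31218) D31219 F102539
theorem F102541 : act 3 n64644 = n31219 := d8_3 F102540 (iv3 D64650) F100555
theorem F102542 : act 4 n59693 = n31219 := d11_3 F102540 (iv4 F100654) F102537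
theorem E9247 : n64644 = n63965 := (c20_4 D64846 (iv1 F100685) F102542 (iv3 F102541) (iv1 D63965) (iv3 D30166) (iv4 D14319) (iv1 F11096) (iv4 F11189) (iv3 F24113) (iv1 F48888))
theorem F102543 : act 2 n63965 = n30420 := (sb E9247 (iv2 D64644))
theorem F102544 : act 3 n63965 = n31219 := (sb E9247 F102541)
theorem F102545 : act 7 n63965 = n30421 := (sb E9247 (iv7 F100555))
theorem E9248 : n64649 = n63964 := (c15_4 (iv0 D63964) D63965 F102545 (iv2 F100556))
theorem F102546 : act 2 n63964 = n30421 := (sb E9248 F100556)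
theorem F102547 : act 7 n63964 = n30420 := (sb E9248 (iv7 D64649))
theorem F102548 : act 7 n53528 = n31074 := d13_2 F102524 D53528 (iv5 D31074)
theorem F102550 : act 2 n53529 = n31080 := d3_3 (iv6 D31080) F102521 D53529
def n66602 : Q := act 1 n31074
theorem D66602 : act 1 n31074 = n66602 := rfl
theorem F102552 : act 1 n66602 = n31079 := d15_1 D66602 (iv7 F102532) F102531
def n66605 : Q := act 0 n31075
theorem D66605 : act 0 n31075 = n66605 := rfl
def n66607 : Q := act 5 n31075
theorem D66607 : act 5 n31075 = n66607 := rfl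
def n66609 : Q := act 5 n31077
theorem D66609 : act 5 n31077 = n66609 := rfl
theorem F102553 : act 3 n66609 = n31079 := d6_1 D66609 (iv5 D31079) D31077
def n66610 : Q := act 6 n31077
theorem D66610 : act 6 n31077 = n66610 := rfl
theorem F102554 : act 3 n66610 = n31080 := d7_1 D66610 (iv6 D31080) D31077
def n66611 : Q := act 5 n31078
theorem D66611 : act 5 n31078 = n66611 := rfl
def n66612 : Q := act 6 n31078
theorem D66612 : act 6 n31078 = n66612 := rfl
theorem F102555 : act 4 n66612 = n31080 := d10_1 D66612 (iv6 D31080) D31078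
def n66615 : Q := act 0 n31080
theorem D66615 : act 0 n31080 = n66615 := rfl
def n66616 : Q := act 1 n31080
theorem D66616 : act 1 n31080 = n66616 := rfl
def n66617 : Q := act 5 n31080
theorem D66617 : act 5 n31080 = n66617 := rfl
def n66618 : Q := act 7 n31080
theorem D66618 : act 7 n31080 = n66618 := rfl
def n66619 : Q := act 4 n31081
theorem D66619 : act 4 n31081 = n66619 := rfl
theorem F102556 : act 2 n66619 = n31085 := d1_1 D66619 (iv4 D31085) (iv2 F49472)
def n66620 : Q := act 6 n31081
theorem D66620 : act 6 n31081 = n66620 := rfl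
theorem F102557 : act 2 n66620 = n31086 := d3_1 D66620 (iv6 D31086) (iv2 F49472)
def n66621 : Q := act 0 n31082
theorem D66621 : act 0 n31082 = n66621 := rfl
def n66622 : Q := act 1 n31082
theorem D66622 : act 1 n31082 = n66622 := rfl
theorem F102558 : act 1 n66622 = n31090 := d15_1 D66622 (iv7 D31090) (iv2 F49473)
def n66623 : Q := act 5 n31082
theorem D66623 : act 5 n31082 = n66623 := rfl
def n66624 : Q := act 7 n31082
theorem D66624 : act 7 n31082 = n66624 := rfl
theorem F102560 : act 2 n66624 = n31090 := d4_1 D66624 (iv7 D31090) (iv2 F49473)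
theorem F102561 : act 1 n31090 = n66621 := d15_0 (iv0 D66621) D66624 F102560
theorem F102563 : act 1 n66624 = n31087 := d15_0 (iv0 D31087) D31090 (iv2 F102560)
def n66625 : Q := act 2 n31083
theorem D66625 : act 2 n31083 = n66625 := rfl
theorem F102564 : act 7 n31084 = n66625 := d15_2 (iv0 D31083) D31084 (iv2 D66625)
def n66626 : Q := act 3 n31083
theorem D66626 : act 3 n31083 = n66626 := rfl
def n66627 : Q := act 4 n31083
theorem D66627 : act 4 n31083 = n66627 := rfl
def n66628 : Q := act 5 n31083
theorem D66628 : act 5 n31083 = n66628 := rfl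
def n66629 : Q := act 6 n31083
theorem D66629 : act 6 n31083 = n66629 := rfl
def n66630 : Q := act 7 n31083
theorem D66630 : act 7 n31083 = n66630 := rfl
theorem F102565 : act 2 n66630 = n31084 := d4_1 D66630 F102564 (iv2 D66625)
def n66631 : Q := act 3 n31084
theorem D66631 : act 3 n31084 = n66631 := rfl
def n66632 : Q := act 4 n31084
theorem D66632 : act 4 n31084 = n66632 := rfl
def n66633 : Q := act 5 n31084
theorem D66633 : act 5 n31084 = n66633 := rfl
def n66634 : Q := act 6 n31084
theorem D66634 : act 6 n31084 = n66634 := rfl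
def n66635 : Q := act 0 n31085
theorem D66635 : act 0 n31085 = n66635 := rfl
def n66636 : Q := act 1 n31085
theorem D66636 : act 1 n31085 = n66636 := rfl
def n66637 : Q := act 5 n31085
theorem D66637 : act 5 n31085 = n66637 := rfl
theorem F102566 : act 3 n66637 = n31965 := d6_1 D66637 (iv5 D31965) (iv3 F49474)
def n66638 : Q := act 6 n31085
theorem D66638 : act 6 n31085 = n66638 := rfl
theorem F102567 : act 3 n66638 = n31966 := d7_1 D66638 (iv6 D31966) (iv3 F49474)
theorem F102568 : act 4 n66638 = n31086 := d10_1 D66638 (iv6 D31086) D31085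
def n66639 : Q := act 0 n31086
theorem D66639 : act 0 n31086 = n66639 := rfl
def n66640 : Q := act 1 n31086
theorem D66640 : act 1 n31086 = n66640 := rfl
def n66641 : Q := act 5 n31086
theorem D66641 : act 5 n31086 = n66641 := rfl
def n66642 : Q := act 7 n31086
theorem D66642 : act 7 n31086 = n66642 := rfl
theorem F102571 : act 3 n66642 = n31094 := d8_1 D66642 (iv7 D31094) (iv3 F49475)
def n66643 : Q := act 2 n31087
theorem D66643 : act 2 n31087 = n66643 := rfl
theorem F102572 : act 7 n31088 = n66643 := d15_2 (iv0 D31087) D31088 (iv2 D66643)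
def n66644 : Q := act 3 n31087
theorem D66644 : act 3 n31087 = n66644 := rfl
def n66645 : Q := act 4 n31087
theorem D66645 : act 4 n31087 = n66645 := rfl
def n66646 : Q := act 5 n31087
theorem D66646 : act 5 n31087 = n66646 := rfl
def n66647 : Q := act 6 n31087
theorem D66647 : act 6 n31087 = n66647 := rfl
def n66648 : Q := act 7 n31087
theorem D66648 : act 7 n31087 = n66648 := rfl
theorem F102573 : act 2 n66648 = n31088 := d4_1 D66648 F102572 (iv2 D66643)
def n66649 : Q := act 3 n31088
theorem D66649 : act 3 n31088 = n66649 := rfl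
def n66650 : Q := act 4 n31088
theorem D66650 : act 4 n31088 = n66650 := rfl
def n66651 : Q := act 5 n31088
theorem D66651 : act 5 n31088 = n66651 := rfl
def n66652 : Q := act 6 n31088
theorem D66652 : act 6 n31088 = n66652 := rfl
def n66656 : Q := act 7 n31089
theorem D66656 : act 7 n31089 = n66656 := rfl
theorem F102574 : act 3 n66656 = n31108 := d8_1 D66656 (iv7 D31108) (iv3 F49476)
def n66657 : Q := act 2 n31091
theorem D66657 : act 2 n31091 = n66657 := rfl
theorem F102576 : act 7 n31092 = n66657 := d15_2 (iv0 D31091) D31092 (iv2 D66657)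
def n66659 : Q := act 4 n31091
theorem D66659 : act 4 n31091 = n66659 := rfl
def n66661 : Q := act 6 n31091
theorem D66661 : act 6 n31091 = n66661 := rfl
theorem F102577 : act 5 n66661 = n65776 := d21_6 (iv5 F11263) (iv1 F11266) D7015 D14700 D31091 D66661 (iv1 D65776) (iv5 D30788) (iv6 D14581) (iv1 F11232)
theorem F102578 : act 0 n33923 = n66661 := d17_0 F102577 (iv1 D65776) (iv5 D30788) F24241 D15215 D32261 (iv5 F51187) (iv0 F51188) (iv4 F53277)
def n66664 : Q := act 4 n31092
theorem D66664 : act 4 n31092 = n66664 := rfl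
def n66665 : Q := act 5 n31092
theorem D66665 : act 5 n31092 = n66665 := rfl
def n66666 : Q := act 6 n31092
theorem D66666 : act 6 n31092 = n66666 := rfl
def n66667 : Q := act 0 n31093
theorem D66667 : act 0 n31093 = n66667 := rfl
def n66668 : Q := act 1 n31093
theorem D66668 : act 1 n31093 = n66668 := rfl
def n66670 : Q := act 7 n31093
theorem D66670 : act 7 n31093 = n66670 := rfl
theorem F102581 : act 5 n66670 = n31094 := d13_1 D66670 (iv7 D31094) D31093
def n66671 : Q := act 0 n31096
theorem D66671 : act 0 n31096 = n66671 := rfl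
def n66672 : Q := act 1 n31096
theorem D66672 : act 1 n31096 = n66672 := rfl
def n66673 : Q := act 2 n31096
theorem D66673 : act 2 n31096 = n66673 := rfl
def n66674 : Q := act 4 n31096
theorem D66674 : act 4 n31096 = n66674 := rfl
theorem F102582 : act 3 n66674 = n59679 := d5_1 D66674 (iv4 D59679) (iv3 D28320) F53697 D31096
def n66675 : Q := act 5 n31096
theorem D66675 : act 5 n31096 = n66675 := rfl
theorem F102583 : act 3 n66675 = n31098 := d6_1 D66675 (iv5 D31098) D31096
def n66676 : Q := act 6 n31096
theorem D66676 : act 6 n31096 = n66676 := rfl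
theorem F102584 : act 3 n66676 = n31099 := d7_1 D66676 (iv6 D31099) D31096
def n66679 : Q := act 0 n31101
theorem D66679 : act 0 n31101 = n66679 := rfl
def n66680 : Q := act 1 n31101
theorem D66680 : act 1 n31101 = n66680 := rfl
def n66681 : Q := act 2 n31101
theorem D66681 : act 2 n31101 = n66681 := rfl
def n66682 : Q := act 4 n31101
theorem D66682 : act 4 n31101 = n66682 := rfl
theorem F102585 : act 3 n66682 = n59684 := d5_1 D66682 (iv4 D59684) (iv3 D28324) F53663 D31101
def n66683 : Q := act 5 n31101
theorem D66683 : act 5 n31101 = n66683 := rfl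
theorem F102586 : act 3 n66683 = n31103 := d6_1 D66683 (iv5 D31103) D31101
def n66697 : Q := act 6 n31108
theorem D66697 : act 6 n31108 = n66697 := rfl
def n66712 : Q := act 3 n31112
theorem D66712 : act 3 n31112 = n66712 := rfl
theorem F102603 : act 4 n66712 = n31116 := d5_2 D31112 D66712 (iv3 D31116) (iv4 D14707) D14706
def n66717 : Q := act 0 n31116
theorem D66717 : act 0 n31116 = n66717 := rfl
def n66718 : Q := act 1 n31116
theorem D66718 : act 1 n31116 = n66718 := rfl
def n66719 : Q := act 2 n31116
theorem D66719 : act 2 n31116 = n66719 := rfl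
def n66721 : Q := act 6 n31116
theorem D66721 : act 6 n31116 = n66721 := rfl
theorem F102606 : act 3 n66721 = n31118 := d7_1 D66721 (iv6 D31118) D31116
def n66735 : Q := act 4 n31121
theorem D66735 : act 4 n31121 = n66735 := rfl
theorem F102612 : act 2 n66735 = n31122 := d1_1 D66735 (iv4 D31122) D31121
def n66736 : Q := act 0 n31122
theorem D66736 : act 0 n31122 = n66736 := rfl
def n66737 : Q := act 1 n31122
theorem D66737 : act 1 n31122 = n66737 := rfl
def n66738 : Q := act 3 n31122
theorem D66738 : act 3 n31122 = n66738 := rfl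
theorem F102613 : act 4 n66738 = n31123 := d5_2 D31122 D66738 (iv3 D31123) (iv4 D14712) D14711
def n66739 : Q := act 5 n31122
theorem D66739 : act 5 n31122 = n66739 := rfl
def n66740 : Q := act 0 n31123
theorem D66740 : act 0 n31123 = n66740 := rfl
def n66742 : Q := act 2 n31123
theorem D66742 : act 2 n31123 = n66742 := rfl
def n66746 : Q := act 0 n31125
theorem D66746 : act 0 n31125 = n66746 := rfl
theorem F102615 : act 1 n31130 = n66746 := d15_0 (iv0 D66746) (iv7 F49488) (iv2 F49489)
def n66748 : Q := act 3 n31125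
theorem D66748 : act 3 n31125 = n66748 := rfl
theorem F102617 : act 7 n66748 = n31131 := d8_2 F49488 D66748 (iv3 D31131)
def n66749 : Q := act 4 n31125
theorem D66749 : act 4 n31125 = n66749 := rfl
theorem F102618 : act 2 n66749 = n31127 := d1_1 D66749 (iv4 D31127) D31125
theorem F102619 : act 7 n66749 = n31132 := d11_2 F49488 D66749 (iv4 D31132)
def n66750 : Q := act 5 n31125
theorem D66750 : act 5 n31125 = n66750 := rfl
theorem F102620 : act 2 n66750 = n31128 := d2_1 D66750 (iv5 D31128) D31125
theorem F102621 : act 7 n66750 = n31133 := d13_2 F49488 D66750 (iv5 D31133)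
def n66751 : Q := act 6 n31125
theorem D66751 : act 6 n31125 = n66751 := rfl
theorem F102622 : act 2 n66751 = n31129 := d3_1 D66751 (iv6 D31129) D31125
def n66752 : Q := act 0 n31126
theorem D66752 : act 0 n31126 = n66752 := rfl
def n66753 : Q := act 1 n31126
theorem D66753 : act 1 n31126 = n66753 := rfl
def n66754 : Q := act 2 n31126
theorem D66754 : act 2 n31126 = n66754 := rfl
def n66755 : Q := act 5 n31126
theorem D66755 : act 5 n31126 = n66755 := rfl
theorem F102623 : act 3 n66755 = n31128 := d6_1 D66755 (iv5 D31128) D31126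
def n66756 : Q := act 6 n31126
theorem D66756 : act 6 n31126 = n66756 := rfl
theorem F102624 : act 3 n66756 = n31129 := d7_1 D66756 (iv6 D31129) D31126
def n66757 : Q := act 7 n31126
theorem D66757 : act 7 n31126 = n66757 := rfl
theorem F102625 : act 3 n66757 = n31130 := d8_1 D66757 (iv7 D31130) D31126
def n66758 : Q := act 0 n31127
theorem D66758 : act 0 n31127 = n66758 := rfl
theorem F102626 : act 4 n66758 = n48867 := d20_2 D31127 D66758 (iv3 D48867) (iv1 D23826) (iv3 D11167) (iv4 D5102) D5100 F8236 D7020 D14713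
def n66759 : Q := act 1 n31127
theorem D66759 : act 1 n31127 = n66759 := rfl
theorem F102627 : act 1 n66759 = n31132 := d15_1 D66759 (iv7 F102619) F102618
def n66760 : Q := act 3 n31127
theorem D66760 : act 3 n31127 = n66760 := rfl
def n66761 : Q := act 5 n31127
theorem D66761 : act 5 n31127 = n66761 := rfl
def n66762 : Q := act 6 n31127
theorem D66762 : act 6 n31127 = n66762 := rfl
theorem F102628 : act 4 n66762 = n31129 := d10_1 D66762 (iv6 D31129) D31127
def n66763 : Q := act 7 n31127
theorem D66763 : act 7 n31127 = n66763 := rfl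
theorem F102629 : act 2 n66763 = n31132 := d4_1 D66763 (iv7 F102619) F102618
theorem F102630 : act 4 n66763 = n31130 := d11_1 D66763 (iv7 D31130) D31127
theorem F102631 : act 1 n31132 = n66758 := d15_0 (iv0 D66758) D66763 F102629
theorem F102632 : act 0 n31131 = n59595 := d20_10 (iv4 D59595) D59592 F94009 (iv3 F49399) (iv1 F49404) D48867 (iv4 F102626) (iv1 F102631) (iv4 D31132) D31131
def n66764 : Q := act 0 n31128
theorem D66764 : act 0 n31128 = n66764 := rfl
def n66765 : Q := act 1 n31128
theorem D66765 : act 1 n31128 = n66765 := rfl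
def n66766 : Q := act 4 n31128
theorem D66766 : act 4 n31128 = n66766 := rfl
def n66767 : Q := act 6 n31128
theorem D66767 : act 6 n31128 = n66767 := rfl
def n66768 : Q := act 7 n31128
theorem D66768 : act 7 n31128 = n66768 := rfl
theorem F102634 : act 2 n66768 = n31133 := d4_1 D66768 (iv7 F102621) F102620
theorem F102635 : act 5 n66768 = n31130 := d13_1 D66768 (iv7 D31130) D31128
theorem F102636 : act 1 n31133 = n66764 := d15_0 (iv0 D66764) D66768 F102634
def n66769 : Q := act 0 n31129
theorem D66769 : act 0 n31129 = n66769 := rfl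
def n66770 : Q := act 1 n31129
theorem D66770 : act 1 n31129 = n66770 := rfl
def n66771 : Q := act 5 n31129
theorem D66771 : act 5 n31129 = n66771 := rfl
def n66772 : Q := act 7 n31129
theorem D66772 : act 7 n31129 = n66772 := rfl
def n66774 : Q := act 1 n31131
theorem D66774 : act 1 n31131 = n66774 := rfl
def n66775 : Q := act 2 n31131
theorem D66775 : act 2 n31131 = n66775 := rfl
def n66776 : Q := act 4 n31131
theorem D66776 : act 4 n31131 = n66776 := rfl
theorem F102638 : act 0 n59735 = n66776 := d20_1 D59735 (iv4 D66776) (iv3 D31131) (iv1 D14714) (iv3 D7020) (iv4 F8236) (iv1 F7594) (iv4 F10470) (iv3 F22665) (iv1 F45841)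
def n66777 : Q := act 5 n31131
theorem D66777 : act 5 n31131 = n66777 := rfl
theorem F102639 : act 3 n66777 = n31133 := d6_1 D66777 (iv5 D31133) D31131
def n66779 : Q := act 3 n31132
theorem D66779 : act 3 n31132 = n66779 := rfl
theorem F102641 : act 0 n60456 = n66779 := d20_4 (iv4 D31346) F37483 (iv4 F46312) D60456 (iv3 D66779) (iv4 D31132) (iv1 D14714) D14716 (iv3 F37133) (iv1 F49604)
def n66780 : Q := act 5 n31132
theorem D66780 : act 5 n31132 = n66780 := rfl
def n66781 : Q := act 6 n31132
theorem D66781 : act 6 n31132 = n66781 := rfl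
def n66782 : Q := act 4 n31133
theorem D66782 : act 4 n31133 = n66782 := rfl
def n66783 : Q := act 6 n31133
theorem D66783 : act 6 n31133 = n66783 := rfl
def n66788 : Q := act 3 n31135
theorem D66788 : act 3 n31135 = n66788 := rfl
theorem F102643 : act 2 n66788 = n51186 := d0_1 D66788 (iv3 D51186) F39052 F37133 (iv2 F49490)
theorem F102644 : act 4 n66788 = n51194 := d5_2 D31135 D66788 F80766 F78318 F41046
def n66789 : Q := act 5 n31135
theorem D66789 : act 5 n31135 = n66789 := rfl
theorem F102645 : act 2 n66789 = n31140 := d2_1 D66789 (iv5 D31140) (iv2 F49490)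
def n66790 : Q := act 6 n31135
theorem D66790 : act 6 n31135 = n66790 := rfl
theorem F102646 : act 2 n66790 = n31141 := d3_1 D66790 (iv6 D31141) (iv2 F49490)
theorem F102647 : act 4 n66790 = n31137 := d10_1 D66790 (iv6 D31137) D31135
def n66791 : Q := act 4 n31136
theorem D66791 : act 4 n31136 = n66791 := rfl
theorem F102648 : act 2 n66791 = n31144 := d1_1 D66791 (iv4 D31144) (iv2 F49491)
def n66792 : Q := act 6 n31136
theorem D66792 : act 6 n31136 = n66792 := rfl
theorem F102649 : act 2 n66792 = n31145 := d3_1 D66792 (iv6 D31145) (iv2 F49491)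
def n66793 : Q := act 0 n31137
theorem D66793 : act 0 n31137 = n66793 := rfl
def n66794 : Q := act 1 n31137
theorem D66794 : act 1 n31137 = n66794 := rfl
theorem F102650 : act 1 n66794 = n31149 := d15_1 D66794 (iv7 D31149) (iv2 F49492)
def n66795 : Q := act 5 n31137
theorem D66795 : act 5 n31137 = n66795 := rfl
theorem F102651 : act 2 n66795 = n31148 := d2_1 D66795 (iv5 D31148) (iv2 F49492)
def n66796 : Q := act 7 n31137
theorem D66796 : act 7 n31137 = n66796 := rfl
theorem F102652 : act 2 n66796 = n31149 := d4_1 D66796 (iv7 D31149) (iv2 F49492)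
theorem F102653 : act 1 n31149 = n66793 := d15_0 (iv0 D66793) D66796 F102652
theorem F102654 : act 1 n31147 = n66796 := d15_1 D31147 (iv7 D66796) F49492
theorem F102655 : act 1 n66796 = n31146 := d15_0 (iv0 D31146) D31149 (iv2 F102652)
def n66797 : Q := act 4 n31138
theorem D66797 : act 4 n31138 = n66797 := rfl
theorem F102656 : act 2 n66797 = n53526 := d1_1 D66797 F84701 F102519
theorem F102657 : act 3 n66797 = n64810 := d5_1 D66797 F100654 (iv3 D64650) D64651 (iv3 F100557)
theorem F102658 : act 7 n66797 = n66591 := d11_2 (iv7 F102518) D66797 (iv4 F102515)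
theorem F102659 : act 1 n66590 = n66797 := d15_1 D66590 F102658 (iv2 D66591)
theorem F102660 : act 1 n66797 = n66589 := d15_0 (iv0 D66589) (iv7 F102520) (iv2 F102656)
def n66798 : Q := act 5 n31138
theorem D66798 : act 5 n31138 = n66798 := rfl
def n66799 : Q := act 6 n31138
theorem D66799 : act 6 n31138 = n66799 := rfl
def n66800 : Q := act 3 n31139
theorem D66800 : act 3 n31139 = n66800 := rfl
theorem F102661 : act 4 n66800 = n66597 := d5_2 F49493 D66800 (iv3 D66597) (iv4 D31073) D31072
def n66801 : Q := act 5 n31139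
theorem D66801 : act 5 n31139 = n66801 := rfl
def n66802 : Q := act 6 n31139
theorem D66802 : act 6 n31139 = n66802 := rfl
def n66803 : Q := act 0 n31140
theorem D66803 : act 0 n31140 = n66803 := rfl
def n66804 : Q := act 1 n31140
theorem D66804 : act 1 n31140 = n66804 := rfl
def n66805 : Q := act 4 n31140
theorem D66805 : act 4 n31140 = n66805 := rfl
def n66806 : Q := act 6 n31140
theorem D66806 : act 6 n31140 = n66806 := rfl
def n66807 : Q := act 0 n31141
theorem D66807 : act 0 n31141 = n66807 := rfl
def n66808 : Q := act 1 n31141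
theorem D66808 : act 1 n31141 = n66808 := rfl
def n66809 : Q := act 5 n31141
theorem D66809 : act 5 n31141 = n66809 := rfl
def n66810 : Q := act 7 n31141
theorem D66810 : act 7 n31141 = n66810 := rfl
theorem F102663 : act 4 n66810 = n31149 := d11_1 D66810 (iv7 D31149) (iv4 F49494)
def n66811 : Q := act 2 n31142
theorem D66811 : act 2 n31142 = n66811 := rfl
theorem F102664 : act 7 n31143 = n66811 := d15_2 (iv0 D31142) D31143 (iv2 D66811)
def n66812 : Q := act 3 n31142
theorem D66812 : act 3 n31142 = n66812 := rfl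
def n66813 : Q := act 4 n31142
theorem D66813 : act 4 n31142 = n66813 := rfl
def n66814 : Q := act 5 n31142
theorem D66814 : act 5 n31142 = n66814 := rfl
def n66815 : Q := act 6 n31142
theorem D66815 : act 6 n31142 = n66815 := rfl
def n66816 : Q := act 7 n31142
theorem D66816 : act 7 n31142 = n66816 := rfl
theorem F102665 : act 2 n66816 = n31143 := d4_1 D66816 F102664 (iv2 D66811)
def n66817 : Q := act 3 n31143
theorem D66817 : act 3 n31143 = n66817 := rfl
def n66818 : Q := act 4 n31143
theorem D66818 : act 4 n31143 = n66818 := rfl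
def n66819 : Q := act 5 n31143
theorem D66819 : act 5 n31143 = n66819 := rfl
def n66820 : Q := act 6 n31143
theorem D66820 : act 6 n31143 = n66820 := rfl
def n66821 : Q := act 0 n31144
theorem D66821 : act 0 n31144 = n66821 := rfl
def n66822 : Q := act 1 n31144
theorem D66822 : act 1 n31144 = n66822 := rfl
theorem F102666 : act 4 n66626 = n66822 := d20_6 F24380 (iv1 D7173) (iv4 F11273) (iv3 F24371) D31083 D66626 (iv1 D66822) (iv4 D31144) F24377 D14719
def n66823 : Q := act 5 n31144
theorem D66823 : act 5 n31144 = n66823 := rfl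
theorem F102667 : act 3 n66823 = n31797 := d6_1 D66823 F50100 (iv3 F49495)
def n66824 : Q := act 6 n31144
theorem D66824 : act 6 n31144 = n66824 := rfl
theorem F102668 : act 3 n66824 = n31895 := d7_1 D66824 (iv6 D31895) (iv3 F49495)
theorem F102669 : act 4 n66824 = n31145 := d10_1 D66824 (iv6 D31145) D31144
def n66825 : Q := act 0 n31145
theorem D66825 : act 0 n31145 = n66825 := rfl
def n66826 : Q := act 1 n31145
theorem D66826 : act 1 n31145 = n66826 := rfl
def n66827 : Q := act 5 n31145
theorem D66827 : act 5 n31145 = n66827 := rfl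
theorem F102670 : act 3 n66827 = n31156 := d6_1 D66827 (iv5 D31156) (iv3 F49496)
theorem F102671 : act 6 n66827 = n31148 := d12_2 D31145 D66827 (iv5 D31148) (iv6 D14718) D14717
def n66828 : Q := act 7 n31145
theorem D66828 : act 7 n31145 = n66828 := rfl
theorem F102672 : act 3 n66828 = n31157 := d8_1 D66828 (iv7 D31157) (iv3 F49496)
def n66829 : Q := act 2 n31146
theorem D66829 : act 2 n31146 = n66829 := rfl
theorem F102673 : act 7 n31147 = n66829 := d15_2 (iv0 D31146) D31147 (iv2 D66829)
def n66830 : Q := act 3 n31146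
theorem D66830 : act 3 n31146 = n66830 := rfl
def n66831 : Q := act 4 n31146
theorem D66831 : act 4 n31146 = n66831 := rfl
def n66832 : Q := act 5 n31146
theorem D66832 : act 5 n31146 = n66832 := rfl
def n66833 : Q := act 6 n31146
theorem D66833 : act 6 n31146 = n66833 := rfl
def n66834 : Q := act 7 n31146
theorem D66834 : act 7 n31146 = n66834 := rfl
theorem F102674 : act 2 n66834 = n31147 := d4_1 D66834 F102673 (iv2 D66829)
def n66835 : Q := act 3 n31147
theorem D66835 : act 3 n31147 = n66835 := rfl
def n66836 : Q := act 4 n31147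
theorem D66836 : act 4 n31147 = n66836 := rfl
def n66837 : Q := act 5 n31147
theorem D66837 : act 5 n31147 = n66837 := rfl
def n66838 : Q := act 6 n31147
theorem D66838 : act 6 n31147 = n66838 := rfl
def n66839 : Q := act 0 n31148
theorem D66839 : act 0 n31148 = n66839 := rfl
def n66840 : Q := act 1 n31148
theorem D66840 : act 1 n31148 = n66840 := rfl
def n66841 : Q := act 4 n31148
theorem D66841 : act 4 n31148 = n66841 := rfl
def n66842 : Q := act 7 n31148
theorem D66842 : act 7 n31148 = n66842 := rfl
theorem F102675 : act 3 n66842 = n31161 := d8_1 D66842 (iv7 D31161) (iv3 F49497)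
theorem F102676 : act 5 n66842 = n31149 := d13_1 D66842 (iv7 D31149) D31148
def n66843 : Q := act 0 n31150
theorem D66843 : act 0 n31150 = n66843 := rfl
theorem F102677 : act 1 n65562 = n66843 := d15_0 (iv0 D66843) F49500 (iv2 F101285)
def n66844 : Q := act 1 n31150
theorem D66844 : act 1 n31150 = n66844 := rfl
def n66845 : Q := act 2 n31150
theorem D66845 : act 2 n31150 = n66845 := rfl
theorem F102678 : act 3 n66845 = n65606 := d0_2 D31150 D66845 F101344 F49200 F24382
theorem F102679 : act 5 n66845 = n53402 := d2_2 (iv5 F49499) D66845 (iv2 D53402)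
theorem F102680 : act 7 n66845 = n65562 := d4_2 (iv7 F49500) D66845 F101285
theorem F102681 : act 1 n66845 = n65564 := d15_0 (iv0 D65564) (iv7 F49500) D66845
theorem F102682 : act 1 n66844 = n65562 := d15_1 D66844 (iv7 F102680) (iv2 D66845)
theorem F102683 : act 1 n65565 = n66845 := d15_1 D65565 F102680 F101285
def n66846 : Q := act 4 n31150
theorem D66846 : act 4 n31150 = n66846 := rfl
theorem F102684 : act 3 n66846 = n31983 := d5_1 D66846 (iv4 D31983) (iv3 D15086) (iv4 F24380) D31150
theorem F102685 : act 7 n66846 = n65566 := d11_2 (iv7 F49500) D66846 (iv4 D65566)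
def n66847 : Q := act 6 n31150
theorem D66847 : act 6 n31150 = n66847 := rfl
theorem F102686 : act 3 n66847 = n31151 := d7_1 D66847 (iv6 D31151) D31150
def n66848 : Q := act 1 n31151
theorem D66848 : act 1 n31151 = n66848 := rfl
theorem F102687 : act 1 n66848 = n65618 := d15_1 D66848 (iv7 D65618) (iv2 F49501)
theorem F102688 : act 7 n66848 = n65615 := d15_2 (iv0 F94929) D66848 (iv2 F101350)
theorem F102689 : act 2 n65616 = n66848 := d4_3 F102688 (iv2 F101350) (iv7 F101352)
theorem F102690 : act 4 n31866 = n66848 := d11_3 F102688 (iv4 F101351) (iv7 F50173)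
theorem E9249 : n62857 = n62460 := ((c18_7 (iv1 F50172) F102690 (iv1 D66848) F49502 F24711 (iv4 F47344) D62460 (iv4 D62857) F47820 (iv5 F49895))).symm
theorem F102691 : act 4 n62460 = n29744 := (sb E9249 (iv4 D62857))
theorem F102692 : act 1 n65618 = n60421 := d15_1 F102687 (iv7 F101352) F102689
theorem E9250 : n62852 = n62459 := (c18_2 D29743 D62852 (iv1 F97356) F95681 (iv5 F49871) (iv4 F101356) F102692 F94928 (iv0 F46239) F24638)
theorem F102693 : act 4 n62459 = n29743 := (sb E9250 (iv4 D62852))
def n66849 : Q := act 5 n31151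
theorem D66849 : act 5 n31151 = n66849 := rfl
theorem F102694 : act 2 n66849 = n65617 := d2_1 D66849 (iv5 D65617) (iv2 F49501)
theorem F102695 : act 6 n66849 = n53404 := d12_2 D31151 D66849 (iv5 D53404) (iv6 D25873) (iv5 F24379)
def n66850 : Q := act 7 n31151
theorem D66850 : act 7 n31151 = n66850 := rfl
theorem F102697 : act 4 n66850 = n31986 := d11_1 D66850 (iv7 D31986) (iv4 F49502)
theorem F102698 : act 6 n66850 = n65575 := d14_1 D66850 (iv7 D65575) (iv6 D30730) F24383 D31151
theorem F102699 : act 1 n65616 = n66850 := d15_1 D65616 (iv7 D66850) F49501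
theorem F102700 : act 1 n66850 = n65615 := d15_1 F102699 (iv7 F102688) (iv2 F102689)
theorem E9251 : n61757 = n61205 := (c18_2 D29274 D61757 (iv1 F97358) F97354 (iv5 F50358) (iv4 F102697) F102700 (iv4 F101351) (iv0 D31560) F24519)
theorem F102701 : act 4 n61205 = n29274 := (sb E9251 (iv4 D61757))
def n66851 : Q := act 0 n31152
theorem D66851 : act 0 n31152 = n66851 := rfl
theorem F102702 : act 1 n65606 = n66851 := d15_0 (iv0 D66851) F49504 (iv2 F101344)
def n66852 : Q := act 1 n31152
theorem D66852 : act 1 n31152 = n66852 := rfl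
def n66853 : Q := act 2 n31152
theorem D66853 : act 2 n31152 = n66853 := rfl
theorem F102703 : act 3 n66853 = n65562 := d0_2 D31152 D66853 F101285 F49193 F24388
theorem F102704 : act 5 n66853 = n50592 := d2_2 (iv5 F49503) D66853 (iv2 D50592)
theorem F102705 : act 7 n66853 = n65606 := d4_2 (iv7 F49504) D66853 F101344
theorem F102706 : act 1 n66853 = n65608 := d15_0 (iv0 D65608) (iv7 F49504) D66853
theorem F102708 : act 1 n65609 = n66853 := d15_1 D65609 F102705 F101344
def n66854 : Q := act 4 n31152
theorem D66854 : act 4 n31152 = n66854 := rfl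
theorem F102709 : act 3 n66854 = n31975 := d5_1 D66854 (iv4 D31975) (iv3 D15084) (iv4 F24387) D31152
theorem F102710 : act 7 n66854 = n65610 := d11_2 (iv7 F49504) D66854 (iv4 D65610)
def n66855 : Q := act 6 n31152
theorem D66855 : act 6 n31152 = n66855 := rfl
theorem F102711 : act 3 n66855 = n31153 := d7_1 D66855 (iv6 D31153) D31152
def n66856 : Q := act 0 n31153
theorem D66856 : act 0 n31153 = n66856 := rfl
def n66857 : Q := act 1 n31153
theorem D66857 : act 1 n31153 = n66857 := rfl
theorem F102712 : act 1 n66857 = n65575 := d15_1 D66857 (iv7 D65575) (iv2 F49505)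
def n66858 : Q := act 5 n31153
theorem D66858 : act 5 n31153 = n66858 := rfl
theorem F102713 : act 2 n66858 = n65574 := d2_1 D66858 (iv5 D65574) (iv2 F49505)
theorem F102714 : act 6 n66858 = n50588 := d12_2 D31153 D66858 (iv5 D50588) F38637 (iv5 F24386)
def n66859 : Q := act 7 n31153
theorem D66859 : act 7 n31153 = n66859 := rfl
theorem F102715 : act 2 n66859 = n65575 := d4_1 D66859 (iv7 D65575) (iv2 F49505)
theorem F102716 : act 4 n66859 = n31979 := d11_1 D66859 (iv7 D31979) (iv4 F49506)
theorem F102717 : act 6 n66859 = n65618 := d14_1 D66859 (iv7 D65618) (iv6 D30744) (iv7 F24385) D31153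
theorem F102718 : act 1 n65575 = n66856 := d15_0 (iv0 D66856) D66859 F102715
theorem F102719 : act 1 n65573 = n66859 := d15_1 D65573 (iv7 D66859) F49505
theorem F102720 : act 1 n66859 = n65572 := d15_0 (iv0 D65572) D65575 (iv2 F102715)
def n66860 : Q := act 2 n31154
theorem D66860 : act 2 n31154 = n66860 := rfl
theorem F102721 : act 7 n31155 = n66860 := d15_2 (iv0 D31154) D31155 (iv2 D66860)
def n66861 : Q := act 3 n31154
theorem D66861 : act 3 n31154 = n66861 := rfl
def n66862 : Q := act 4 n31154
theorem D66862 : act 4 n31154 = n66862 := rfl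
def n66863 : Q := act 5 n31154
theorem D66863 : act 5 n31154 = n66863 := rfl
def n66864 : Q := act 6 n31154
theorem D66864 : act 6 n31154 = n66864 := rfl
def n66865 : Q := act 7 n31154
theorem D66865 : act 7 n31154 = n66865 := rfl
theorem F102722 : act 2 n66865 = n31155 := d4_1 D66865 F102721 (iv2 D66860)
def n66866 : Q := act 3 n31155
theorem D66866 : act 3 n31155 = n66866 := rfl
def n66867 : Q := act 4 n31155
theorem D66867 : act 4 n31155 = n66867 := rfl
def n66868 : Q := act 5 n31155
theorem D66868 : act 5 n31155 = n66868 := rfl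
def n66869 : Q := act 6 n31155
theorem D66869 : act 6 n31155 = n66869 := rfl
def n66870 : Q := act 0 n31156
theorem D66870 : act 0 n31156 = n66870 := rfl
def n66871 : Q := act 1 n31156
theorem D66871 : act 1 n31156 = n66871 := rfl
def n66872 : Q := act 4 n31156
theorem D66872 : act 4 n31156 = n66872 := rfl
theorem F102723 : act 6 n66872 = n31160 := d10_2 (iv6 F49507) D66872 (iv4 D31160)
def n66873 : Q := act 7 n31156
theorem D66873 : act 7 n31156 = n66873 := rfl
theorem F102724 : act 5 n66873 = n31157 := d13_1 D66873 (iv7 D31157) D31156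
def n66874 : Q := act 3 n31158
theorem D66874 : act 3 n31158 = n66874 := rfl
theorem F102725 : act 5 n66874 = n61474 := d6_2 (iv5 F49509) D66874 (iv3 D61474)
def n66875 : Q := act 6 n31158
theorem D66875 : act 6 n31158 = n66875 := rfl
theorem F102726 : act 5 n66875 = n61479 := d12_1 D66875 (iv6 D61479) (iv5 D29099) (iv6 F46746) (iv5 F49509)
def n66876 : Q := act 3 n31159
theorem D66876 : act 3 n31159 = n66876 := rfl
theorem F102727 : act 5 n66876 = n66151 := d6_2 F49510 D66876 F101774
def n66877 : Q := act 6 n31159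
theorem D66877 : act 6 n31159 = n66877 := rfl
theorem F102728 : act 5 n66877 = n66155 := d12_1 D66877 (iv6 D66155) (iv5 D30924) D30925 F49510
def n66878 : Q := act 0 n31160
theorem D66878 : act 0 n31160 = n66878 := rfl
theorem F102729 : act 4 n66878 = n53554 := d18_3 (iv1 D31159) D31160 D66878 F84473 (iv4 D28881) D28880 D60889 F95433 F49510
theorem F102730 : act 2 n66446 = n66878 := d1_3 F102729 (iv2 F84474) D66446
theorem F102731 : act 7 n66449 = n66878 := d11_0 F102729 (iv7 F84475) D66449
def n66879 : Q := act 1 n31160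
theorem D66879 : act 1 n31160 = n66879 := rfl
theorem F102732 : act 7 n66879 = n66446 := d15_2 (iv0 D66878) D66879 F102730
theorem F102733 : act 4 n66879 = n53555 := d18_7 (iv1 F40994) (iv4 F47154) (iv1 D23820) F18120 D14724 D31160 D66879 F84477 F49438
theorem F102734 : act 2 n66449 = n66879 := d1_3 F102733 F84480 D66449
theorem F102735 : act 5 n60882 = n66879 := d16_1 D60882 F102733 (iv5 F84479) F50066 F24607 (iv4 F47150) (iv5 F96904) (iv7 D62164) F47148
def n66880 : Q := act 3 n31160
theorem D66880 : act 3 n31160 = n66880 := rfl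
def n66881 : Q := act 5 n31160
theorem D66881 : act 5 n31160 = n66881 := rfl
theorem F102736 : act 4 n66881 = n60885 := d16_2 D31160 D66881 (iv5 D60885) (iv4 D28878) (iv5 F23332) (iv4 F41059) (iv5 F84682) (iv7 D53672) F41057
def n66882 : Q := act 7 n31160
theorem D66882 : act 7 n31160 = n66882 := rfl
theorem F102737 : act 4 n66882 = n31161 := d11_1 D66882 (iv7 D31161) D31160
theorem F102738 : act 1 n66449 = n66882 := d15_1 (iv0 F102347) (iv7 D66882) (iv2 F84680)
theorem F102739 : act 1 n66882 = n66446 := d15_1 F102738 (iv7 F102732) (iv2 F102734)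
def n66883 : Q := act 6 n31161
theorem D66883 : act 6 n31161 = n66883 := rfl
def n66885 : Q := act 1 n31162
theorem D66885 : act 1 n31162 = n66885 := rfl
theorem F102741 : act 1 n66885 = n31167 := d15_1 D66885 (iv7 D31167) D31162
def n66886 : Q := act 3 n31162
theorem D66886 : act 3 n31162 = n66886 := rfl
theorem F102742 : act 7 n66886 = n31168 := d8_2 F49512 D66886 (iv3 D31168)
def n66887 : Q := act 4 n31162
theorem D66887 : act 4 n31162 = n66887 := rfl
theorem F102743 : act 2 n66887 = n31164 := d1_1 D66887 (iv4 D31164) D31162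
theorem F102744 : act 7 n66887 = n31169 := d11_2 F49512 D66887 (iv4 D31169)
def n66888 : Q := act 5 n31162
theorem D66888 : act 5 n31162 = n66888 := rfl
theorem F102745 : act 2 n66888 = n31165 := d2_1 D66888 (iv5 D31165) D31162
theorem F102746 : act 7 n66888 = n31170 := d13_2 F49512 D66888 (iv5 D31170)
def n66890 : Q := act 0 n31163
theorem D66890 : act 0 n31163 = n66890 := rfl
def n66891 : Q := act 1 n31163
theorem D66891 : act 1 n31163 = n66891 := rfl
def n66892 : Q := act 2 n31163
theorem D66892 : act 2 n31163 = n66892 := rfl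
def n66893 : Q := act 5 n31163
theorem D66893 : act 5 n31163 = n66893 := rfl
theorem F102748 : act 3 n66893 = n31165 := d6_1 D66893 (iv5 D31165) D31163
def n66894 : Q := act 6 n31163
theorem D66894 : act 6 n31163 = n66894 := rfl
def n66895 : Q := act 7 n31163
theorem D66895 : act 7 n31163 = n66895 := rfl
theorem F102750 : act 3 n66895 = n31167 := d8_1 D66895 (iv7 D31167) D31163
def n66896 : Q := act 0 n31164
theorem D66896 : act 0 n31164 = n66896 := rfl
theorem F102751 : act 4 n66896 = n59730 := d20_2 D31164 D66896 (iv3 D59730) (iv1 F45840) F22665 F10470 (iv1 F7590) (iv4 F7601) D7023 D14726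
def n66897 : Q := act 1 n31164
theorem D66897 : act 1 n31164 = n66897 := rfl
theorem F102752 : act 1 n66897 = n31169 := d15_1 D66897 (iv7 F102744) F102743
theorem F102753 : act 4 n66897 = n59716 := d20_2 D31169 (iv1 F102752) F100686 (iv1 F100685) F102514 (iv4 F102515) (iv1 F84699) (iv4 D31135) (iv3 F41046) (iv1 F41050)
theorem E9252 : n31211 = n31168 := (c20_5 F102542 (iv1 D31219) (iv4 D14740) D14739 D31211 (iv3 D31168) D31169 (iv1 F102752) F102753 F100686 (iv1 F100685))
theorem F102754 : act 1 n31168 = n14739 := (sb E9252 (iv0 D31211))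
theorem F102755 : act 2 n59717 = n66897 := d1_3 F102753 (iv2 D59716) D59717
theorem F102756 : act 3 n51053 = n66897 := d5_5 F102753 F100686 (iv4 D64846) D64845 F100682
theorem E9253 : n66890 = n53752 := (c20_11 (iv4 F102504) (iv1 F102509) (iv4 D31078) D31077 F102510 (iv3 F100686) (iv4 F102753) (iv1 D66897) (iv4 D31164) D31163 D66890)
theorem F102757 : act 1 n53752 = n31163 := (sb E9253 (iv0 D66890))
def n66898 : Q := act 3 n31164
theorem D66898 : act 3 n31164 = n66898 := rfl
def n66899 : Q := act 5 n31164
theorem D66899 : act 5 n31164 = n66899 := rfl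
def n66900 : Q := act 6 n31164
theorem D66900 : act 6 n31164 = n66900 := rfl
def n66901 : Q := act 7 n31164
theorem D66901 : act 7 n31164 = n66901 := rfl
theorem F102759 : act 2 n66901 = n31169 := d4_1 D66901 (iv7 F102744) F102743
theorem F102760 : act 4 n66901 = n31167 := d11_1 D66901 (iv7 D31167) D31164
theorem F102761 : act 1 n31169 = n66896 := d15_0 (iv0 D66896) D66901 F102759
theorem F102762 : act 7 n66896 = n59717 := d15_2 F102752 F102761 F102755
theorem E9254 : n59730 = n59688 := ((c11_3 F102762 (iv4 D59717) (iv7 F94084) (iv4 F102751))).symm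
theorem F102763 : act 2 n59688 = n64812 := (sb E9254 (iv2 F100656))
theorem E9255 : n28337 = n28327 := ((((iv3 D59688)).symm.trans (sb E9254 (iv3 D59730)))).symm
theorem F102764 : act 4 n59688 = n66896 := (sb E9254 (iv4 F102751))
theorem E9256 : n59686 = n13522 := ((D59686).symm.trans (sb E9255 (iv1 F45840)))
theorem E9257 : n59687 = n13520 := ((D59687).symm.trans (sb E9255 (iv0 D28337)))
theorem E9258 : n59729 = n13518 := ((((iv2 D28327)).symm.trans (sb E9255 D59729))).symm
theorem E9263 : n28338 = n28332 := (((iv1 F45841)).symm.trans (sb E9256 (iv1 F94082)))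
theorem F102765 : act 1 n13522 = n28327 := (sb E9256 (iv0 D59686))
theorem F102766 : act 0 n13520 = n28327 := (sb E9257 (iv1 D59687))
theorem E9264 : n64801 = n28328 := (((D28328).symm.trans (sb E9258 F100647))).symm
theorem F102767 : act 0 n28332 = n13520 := (sb E9263 (iv1 D28338))
theorem F102768 : act 1 n28332 = n13522 := (sb E9263 F45841)
theorem E9265 : n59697 = n30479 := (((iv3 F94092)).symm.trans (sb E9263 F48885))
theorem E9266 : n59735 = n59703 := ((((iv4 F94097)).symm.trans (sb E9263 D59735))).symm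
theorem E9267 : n59736 = n59708 := ((((iv5 F94101)).symm.trans (sb E9263 D59736))).symm
theorem E9268 : n59737 = n59713 := (((D59713).symm.trans (sb E9263 D59737))).symm
theorem E9269 : n59694 = n30474 := ((D59694).symm.trans (sb E9264 F100645))
theorem E9270 : n30482 = n30472 := ((F48887).symm.trans (sb E9264 (iv4 D64801)))
theorem E9271 : n64846 = n64815 := ((((iv2 F100659)).symm.trans (sb E9265 (iv2 F100683)))).symm
theorem F102769 : act 3 n30479 = n28332 := (sb E9265 F94092)
theorem F102770 : act 7 n30479 = n28328 := (sb E9265 (iv7 D59697))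
theorem F102771 : act 0 n59703 = n66776 := (sb E9266 F102638)
theorem F102772 : act 3 n59703 = n64829 := (sb E9266 (iv3 F100668))
theorem F102773 : act 3 n59708 = n64832 := (sb E9267 (iv3 F100673))
theorem F102774 : act 3 n59713 = n64833 := (sb E9268 (iv3 F100674))
theorem F102775 : act 2 n30474 = n28328 := (sb E9269 (iv2 D59694))
theorem E9274 : n64798 = n14471 := ((D64798).symm.trans (sb E9270 (iv1 F48886)))
theorem E9275 : n64799 = n14469 := ((D64799).symm.trans (sb E9270 (iv0 D30482)))
theorem E9276 : n64841 = n64800 := (((D64800).symm.trans (sb E9270 D64841))).symm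
theorem F102776 : act 4 n30472 = n28328 := (sb E9270 (iv4 F48887))
theorem E9278 : n64843 = n64803 := (((D64803).symm.trans (sb E9270 D64843))).symm
theorem F102777 : act 0 n64815 = n59693 := (sb E9271 (iv1 F100685))
theorem F102778 : act 1 n64815 = n31077 := (sb E9271 (iv0 F102510))
theorem F102779 : act 3 n64815 = n59716 := (sb E9271 (iv3 F100686))
theorem E9279 : n30483 = n30477 := (((F100660).symm.trans (sb E9271 (iv4 D64846)))).symm
theorem F102780 : act 1 n14471 = n30472 := (sb E9274 (iv0 D64798))
theorem F102781 : act 0 n14469 = n30472 := (sb E9275 (iv1 D64799))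
theorem F102782 : act 4 n64800 = n59700 := (sb E9276 F100678)
theorem F102783 : act 4 n64803 = n59696 := (sb E9278 F100679)
theorem F102784 : act 0 n30477 = n14469 := (sb E9279 (iv1 D30483))
theorem F102785 : act 1 n30477 = n14471 := (sb E9279 F48888)
theorem E9280 : n64845 = n64809 := ((((iv3 F100653)).symm.trans (sb E9279 D64845))).symm
theorem F102786 : act 4 n64809 = n51053 := (sb E9280 F100682)
theorem F102787 : act 7 n51053 = n51240 := d11_2 D64809 F102786 (iv4 F80831)
theorem F102788 : act 2 n51240 = n51052 := d15_3 (iv0 D51052) D51053 F102787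
theorem F102789 : act 2 n51053 = n51239 := d15_3 (iv0 D51239) D51240 (iv7 F102787)
theorem F102790 : act 7 n51239 = n51052 := d4_2 (iv7 F102787) F102789 (iv2 F102788)
theorem F102791 : act 4 n51052 = n64806 := d1_2 F80831 F102788 (iv2 D64806)
theorem F102792 : act 2 n59696 = n64814 := d1_1 F102783 F100658 (iv2 F100650)
theorem F102793 : act 7 n59700 = n64829 := d11_2 (iv7 F100644) F102782 (iv4 D64829)
theorem F102794 : act 7 n59716 = n64812 := d8_2 D64815 F102779 (iv3 D64812)
theorem F102795 : act 1 n59688 = n53599 := d15_0 (iv0 F100688) F102794 (iv2 F102763)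
theorem E9283 : n59715 = n30981 := (c15_1 D59715 (iv0 F100657) (iv7 F102794) (iv2 D59716))
theorem E9284 : n66325 = n28333 := ((D66325).symm.trans (sb E9283 (iv1 D59715)))
theorem F102796 : act 1 n28333 = n30981 := (sb E9284 (iv0 D66325))
theorem F102797 : act 2 n66329 = n59714 := d15_3 (iv0 D59714) F102796 D66329
theorem F102798 : act 3 n59714 = n66346 := d0_2 (iv3 F102245) F102797 (iv2 D66346) (iv3 D30986) (iv2 F49413)
theorem F102799 : act 7 n59714 = n66326 := d4_2 D66329 F102797 (iv2 D66326)
theorem F102800 : act 1 n64812 = n59714 := d15_1 (iv0 F100657) F102799 (iv2 D66326)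
theorem F102801 : act 4 n53721 = n66346 := d20_2 D26000 (iv1 F84753) (iv3 F102798) (iv1 F102800) (iv3 D64812) (iv4 D30474) D30471 F48880 (iv3 F41086) (iv1 F41089)
theorem F102802 : act 2 n66347 = n53721 := d1_3 F102801 (iv2 D66346) D66347
theorem E9285 : n53713 = n53679 := (c20_11 (iv4 F94093) (iv1 F94098) (iv4 D28334) D28333 D59714 F102798 (iv4 F102801) (iv1 D53721) (iv4 D25995) D25994 D53713)
theorem F102803 : act 1 n53679 = n25994 := (sb E9285 (iv0 D53713))
theorem F102804 : act 7 n53720 = n66347 := d15_2 F84753 F84757 F102802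
theorem E9286 : n66321 = n53604 := (c11_3 F102804 (iv4 D66347) (iv7 F102237) (iv4 F84752))
theorem E9287 : n30980 = n25955 := ((((iv3 D53604)).symm.trans (sb E9286 (iv3 D66321)))).symm
theorem F102805 : act 7 n53604 = n30986 := (sb E9286 F102237)
theorem E9288 : n66319 = n12312 := ((((iv1 D25955)).symm.trans (sb E9287 D66319))).symm
theorem E9290 : n53603 = n14662 := (((iv2 F84560)).symm.trans (sb E9287 (iv2 D30980)))
theorem E9291 : n66322 = n53605 := (((D53605).symm.trans (sb E9287 D66322))).symm
theorem E9292 : n66323 = n53606 := (((D53606).symm.trans (sb E9287 D66323))).symm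
theorem E9293 : n66324 = n53607 := (((D53607).symm.trans (sb E9287 D66324))).symm
theorem E9294 : n53598 = n14663 := ((F84558).symm.trans (sb E9287 (iv7 F49412)))
theorem E9295 : n30985 = n25954 := (((D25954).symm.trans (sb E9288 (iv1 F102235)))).symm
theorem F102806 : act 2 n14662 = n25955 := (sb E9290 F84560)
theorem F102807 : act 2 n53605 = n30982 := (sb E9291 F102238)
theorem F102808 : act 7 n53605 = n30987 := (sb E9291 F102239)
theorem F102809 : act 2 n53606 = n30983 := (sb E9292 F102240)
theorem F102811 : act 2 n53607 = n30984 := (sb E9293 F102242)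
theorem F102812 : act 7 n14663 = n25955 := (sb E9294 (iv7 F84558))
theorem F102813 : act 2 n25954 = n14663 := (sb E9295 F49413)
theorem E9296 : n66329 = n53599 := (((D53599).symm.trans (sb E9295 (iv3 F102245)))).symm
theorem E9297 : n66334 = n53600 := (((D53600).symm.trans (sb E9295 (iv4 F102250)))).symm
theorem E9298 : n66339 = n53601 := (((D53601).symm.trans (sb E9295 (iv5 F102255)))).symm
theorem F102814 : act 7 n25954 = n14662 := (sb E9295 (iv7 D30985))
theorem F102815 : act 2 n53599 = n59714 := (sb E9296 F102797)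
theorem F102816 : act 7 n53599 = n30981 := (sb E9296 (iv7 D66329))
theorem F102817 : act 2 n53600 = n30987 := (sb E9297 F102249)
theorem F102818 : act 7 n53600 = n30982 := (sb E9297 (iv7 D66334))
theorem F102820 : act 7 n53601 = n30983 := (sb E9298 (iv7 D66339))
theorem F102822 : act 7 n31176 = n49569 := d11_2 F102816 F49517 (iv4 F84559)
theorem F102823 : act 1 n66326 = n59688 := d15_0 F102795 F102816 D66326
theorem F102824 : act 1 n59716 = n66326 := d15_0 F102823 F94084 D59716
theorem F102825 : act 4 n49568 = n66326 := d20_0 (iv1 F102824) (iv4 F102753) (iv3 F102756) (iv1 D51053) (iv3 D24834) (iv4 D11769) F10468 (iv4 F18542) D24185 D49568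
theorem F102826 : act 2 n31176 = n49568 := d1_3 F102825 (iv2 D66326) F49517
theorem F102827 : act 7 n31175 = n49568 := d11_0 F102825 (iv7 F102799) F94104
theorem F102828 : act 0 n66776 = n59689 := d20_7 (iv4 F102825) (iv1 F78317) (iv4 D31172) (iv3 F41065) (iv1 F41069) D31131 D66776 (iv4 D59689) D59688 (iv1 F102823)
theorem F102829 : act 2 n49569 = n31175 := d4_3 F102827 (iv2 F102826) F102822
theorem F102830 : act 0 n66346 = n48862 := d20_10 F84177 (iv1 F84176) F40841 F20463 (iv1 F9012) D7023 D14729 D31175 (iv4 F94104) F102798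
theorem F102831 : act 2 n59695 = n64813 := d2_3 (iv5 D64813) F102775 D59695
theorem F102832 : act 7 n64832 = n59695 := d8_2 D59708 F102773 F94090
def n66902 : Q := act 0 n31165
theorem D66902 : act 0 n31165 = n66902 := rfl
def n66903 : Q := act 1 n31165
theorem D66903 : act 1 n31165 = n66903 := rfl
theorem F102833 : act 1 n66903 = n31170 := d15_1 D66903 (iv7 F102746) F102745
def n66904 : Q := act 4 n31165
theorem D66904 : act 4 n31165 = n66904 := rfl
def n66905 : Q := act 6 n31165
theorem D66905 : act 6 n31165 = n66905 := rfl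
def n66906 : Q := act 7 n31165
theorem D66906 : act 7 n31165 = n66906 := rfl
theorem F102834 : act 2 n66906 = n31170 := d4_1 D66906 (iv7 F102746) F102745
theorem F102835 : act 5 n66906 = n31167 := d13_1 D66906 (iv7 D31167) D31165
theorem F102836 : act 1 n31170 = n66902 := d15_0 (iv0 D66902) D66906 F102834
def n66907 : Q := act 0 n31166
theorem D66907 : act 0 n31166 = n66907 := rfl
def n66911 : Q := act 6 n31167
theorem D66911 : act 6 n31167 = n66911 := rfl
theorem F102837 : act 2 n66911 = n31171 := d3_1 D66911 (iv6 D31171) (iv2 F49513)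
def n66912 : Q := act 0 n31168
theorem D66912 : act 0 n31168 = n66912 := rfl
theorem F102838 : act 4 n66912 = n66310 := d20_0 (iv1 F102218) F76905 F37153 F102766 D59688 F102764 (iv1 F102761) (iv4 D31169) D31168 D66912
theorem F102839 : act 2 n31217 = n66912 := d15_3 (iv0 D66912) F102754 D31217
theorem F102840 : act 3 n66912 = n31236 := d0_2 (iv3 F49541) F102839 (iv2 D31236) (iv3 D14744) (iv2 F24398)
theorem F102841 : act 7 n66912 = n31213 := d4_2 D31217 F102839 (iv2 D31213)
theorem F102842 : act 1 n31212 = n66912 := d15_1 D31212 F102841 (iv2 D31213)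
theorem F102843 : act 2 n66886 = n31212 := d15_3 F102842 (iv0 D66912) (iv7 F102742)
theorem E9300 : n66892 = n53736 := ((c0_3 D66886 F102843 (iv3 F84764) (iv2 D66892) (iv3 D31163) D31162)).symm
theorem F102844 : act 2 n53736 = n31163 := (sb E9300 (iv2 D66892))
theorem E9301 : n66515 = n53506 := ((c1_3 (iv4 F84763) F102844 F84421 (iv2 D66515))).symm
theorem F102845 : act 2 n53506 = n31049 := (sb E9301 (iv2 D66515))
theorem F102846 : act 7 n53506 = n31050 := (sb E9301 (iv7 F102392))
theorem E9302 : n66895 = n53737 := ((c15_2 (iv0 D53736) D53737 (iv7 D66895) (iv2 F102844))).symm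
theorem F102847 : act 3 n53737 = n31167 := (sb E9302 F102750)
theorem F102848 : act 7 n53737 = n31163 := (sb E9302 (iv7 D66895))
theorem E9303 : n53737 = n53646 := ((c11_4 F102848 F84421 F102846 (iv4 F84645))).symm
theorem F102849 : act 0 n53646 = n25999 := (sb E9303 (iv1 D53737))
theorem E9304 : n31167 = n25971 := ((((iv3 D53646)).symm.trans (sb E9303 F102847))).symm
theorem F102850 : act 7 n53646 = n31163 := (sb E9303 F102848)
theorem E9305 : n66885 = n14728 := ((((iv1 F41045)).symm.trans (sb E9304 (iv1 F102741)))).symm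
theorem E9307 : n53645 = n14727 := ((D53645).symm.trans (sb E9304 F49513))
theorem E9308 : n66901 = n53647 := (((D53647).symm.trans (sb E9304 (iv4 F102760)))).symm
theorem E9309 : n66906 = n53648 := (((D53648).symm.trans (sb E9304 (iv5 F102835)))).symm
theorem E9310 : n66911 = n53649 := (((D53649).symm.trans (sb E9304 D66911))).symm
theorem E9311 : n53650 = n14726 := ((D53650).symm.trans (sb E9304 (iv7 D31167)))
theorem E9312 : n31162 = n25972 := ((((iv1 F41049)).symm.trans (sb E9305 (iv1 D66885)))).symm
theorem F102851 : act 2 n14727 = n25971 := (sb E9307 (iv2 D53645))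
theorem F102852 : act 2 n53647 = n31169 := (sb E9308 F102759)
theorem F102853 : act 7 n53647 = n31164 := (sb E9308 (iv7 D66901))
theorem F102854 : act 2 n53648 = n31170 := (sb E9309 F102834)
theorem F102855 : act 7 n53648 = n31165 := (sb E9309 (iv7 D66906))
theorem F102856 : act 2 n53649 = n31171 := (sb E9310 F102837)
theorem F102857 : act 7 n14726 = n25971 := (sb E9311 (iv7 D53650))
theorem F102858 : act 2 n25972 = n14726 := (sb E9312 (iv2 D31162))
theorem E9313 : n66886 = n53651 := (((D53651).symm.trans (sb E9312 D66886))).symm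
theorem E9314 : n66887 = n53652 := (((D53652).symm.trans (sb E9312 D66887))).symm
theorem E9315 : n66888 = n53653 := (((D53653).symm.trans (sb E9312 D66888))).symm
theorem F102859 : act 7 n25972 = n14727 := (sb E9312 (iv7 F49512))
theorem F102860 : act 2 n53651 = n31212 := (sb E9313 F102843)
theorem F102861 : act 7 n53651 = n31168 := (sb E9313 F102742)
theorem F102862 : act 2 n53652 = n31164 := (sb E9314 F102743)
theorem F102863 : act 7 n53652 = n31169 := (sb E9314 F102744)
theorem F102864 : act 2 n53653 = n31165 := (sb E9315 F102745)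
theorem F102865 : act 7 n53653 = n31170 := (sb E9315 F102746)
theorem F102867 : act 1 n53652 = n59717 := d15_0 (iv0 F94105) F102853 (iv2 F102862)
theorem E9317 : n66519 = n53505 := (c15_4 (iv0 D53505) D53506 F102846 (iv2 F102393))
theorem F102868 : act 2 n53505 = n31050 := (sb E9317 F102393)
theorem F102869 : act 7 n53505 = n31049 := (sb E9317 (iv7 D66519))
theorem F102870 : act 0 n31236 = n53674 := d20_10 F84686 (iv1 D30950) F24334 (iv3 D7004) D7003 D14660 D30975 D66310 (iv4 F102838) F102840
def n66913 : Q := act 2 n31168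
theorem D66913 : act 2 n31168 = n66913 := rfl
theorem F102871 : act 7 n66913 = n31212 := d4_2 F102861 D66913 (iv2 F102860)
def n66914 : Q := act 4 n31168
theorem D66914 : act 4 n31168 = n66914 := rfl
theorem F102872 : act 0 n48863 = n66914 := d20_1 D48863 (iv4 D66914) (iv3 D31168) (iv1 D14727) (iv3 D7023) F7601 (iv1 D5101) D5102 D11167 D23825
def n66915 : Q := act 5 n31168
theorem D66915 : act 5 n31168 = n66915 := rfl
theorem F102873 : act 3 n66915 = n31170 := d6_1 D66915 (iv5 D31170) D31168
def n66916 : Q := act 6 n31168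
theorem D66916 : act 6 n31168 = n66916 := rfl
theorem F102874 : act 3 n66916 = n31171 := d7_1 D66916 (iv6 D31171) D31168
def n66917 : Q := act 3 n31169
theorem D66917 : act 3 n31169 = n66917 := rfl
theorem F102875 : act 7 n66917 = n49550 := d8_2 F102863 D66917 F84647
theorem F102876 : act 0 n49170 = n66917 := d20_4 (iv4 D11249) D11247 D23994 D49170 (iv3 D66917) (iv4 D31169) (iv1 D14727) D14729 F24390 F19204
theorem F102877 : act 1 n49552 = n66917 := d15_0 (iv0 F102876) F77651 D49552
def n66918 : Q := act 5 n31169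
theorem D66918 : act 5 n31169 = n66918 := rfl
def n66919 : Q := act 6 n31169
theorem D66919 : act 6 n31169 = n66919 := rfl
theorem F102878 : act 4 n66919 = n31171 := d10_1 D66919 (iv6 D31171) D31169
def n66920 : Q := act 4 n31170
theorem D66920 : act 4 n31170 = n66920 := rfl
def n66921 : Q := act 6 n31170
theorem D66921 : act 6 n31170 = n66921 := rfl
def n66922 : Q := act 0 n31171
theorem D66922 : act 0 n31171 = n66922 := rfl
def n66923 : Q := act 1 n31171
theorem D66923 : act 1 n31171 = n66923 := rfl
def n66924 : Q := act 5 n31171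
theorem D66924 : act 5 n31171 = n66924 := rfl
def n66925 : Q := act 7 n31171
theorem D66925 : act 7 n31171 = n66925 := rfl
def n66926 : Q := act 6 n31172
theorem D66926 : act 6 n31172 = n66926 := rfl
theorem F102879 : act 2 n66926 = n31177 := d3_1 D66926 (iv6 D31177) (iv2 F49514)
theorem F102880 : act 4 n66926 = n31174 := d10_1 D66926 (iv6 D31174) D31172
def n66927 : Q := act 4 n31173
theorem D66927 : act 4 n31173 = n66927 := rfl
theorem F102881 : act 2 n66927 = n31180 := d1_1 D66927 (iv4 D31180) (iv2 F49515)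
def n66928 : Q := act 6 n31173
theorem D66928 : act 6 n31173 = n66928 := rfl
theorem F102882 : act 2 n66928 = n31181 := d3_1 D66928 (iv6 D31181) (iv2 F49515)
def n66929 : Q := act 0 n31174
theorem D66929 : act 0 n31174 = n66929 := rfl
def n66930 : Q := act 1 n31174
theorem D66930 : act 1 n31174 = n66930 := rfl
theorem F102883 : act 1 n66930 = n31185 := d15_1 D66930 (iv7 D31185) (iv2 F49516)
def n66931 : Q := act 5 n31174
theorem D66931 : act 5 n31174 = n66931 := rfl
def n66932 : Q := act 7 n31174
theorem D66932 : act 7 n31174 = n66932 := rfl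
theorem F102885 : act 2 n66932 = n31185 := d4_1 D66932 (iv7 D31185) (iv2 F49516)
theorem F102886 : act 1 n31185 = n66929 := d15_0 (iv0 D66929) D66932 F102885
theorem F102887 : act 1 n31183 = n66932 := d15_1 D31183 (iv7 D66932) F49516
theorem F102888 : act 1 n66932 = n31182 := d15_0 (iv0 D31182) D31185 (iv2 F102885)
def n66933 : Q := act 3 n31175
theorem D66933 : act 3 n31175 = n66933 := rfl
def n66934 : Q := act 5 n31175
theorem D66934 : act 5 n31175 = n66934 := rfl
def n66935 : Q := act 6 n31175
theorem D66935 : act 6 n31175 = n66935 := rfl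
def n66936 : Q := act 3 n31176
theorem D66936 : act 3 n31176 = n66936 := rfl
theorem F102889 : act 4 n66936 = n66331 := d5_2 F49517 D66936 (iv3 D66331) (iv4 D30982) D30981
theorem F102890 : act 0 n51228 = n66331 := d20_1 D51228 (iv4 F102889) (iv3 D66936) (iv1 D31176) F24390 (iv4 D11824) (iv1 D5538) D5539 D11826 D24917
theorem F102891 : act 0 n66898 = n51227 := d20_4 (iv4 D14729) D14726 D31164 D66898 (iv3 D51227) D51228 F102890 (iv4 F102889) (iv3 D66936) (iv1 D31176)
def n66937 : Q := act 5 n31176
theorem D66937 : act 5 n31176 = n66937 := rfl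
def n66938 : Q := act 6 n31176
theorem D66938 : act 6 n31176 = n66938 := rfl
theorem F102892 : act 4 n66938 = n66328 := d10_1 D66938 (iv6 D66328) F49517
def n66939 : Q := act 0 n31177
theorem D66939 : act 0 n31177 = n66939 := rfl
def n66940 : Q := act 1 n31177
theorem D66940 : act 1 n31177 = n66940 := rfl
def n66941 : Q := act 5 n31177
theorem D66941 : act 5 n31177 = n66941 := rfl
theorem F102893 : act 3 n66941 = n51215 := d6_1 D66941 (iv5 D51215) (iv3 F49518)
def n66942 : Q := act 7 n31177
theorem D66942 : act 7 n31177 = n66942 := rfl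
theorem F102894 : act 3 n66942 = n51216 := d8_1 D66942 (iv7 D51216) (iv3 F49518)
theorem F102895 : act 4 n66942 = n31185 := d11_1 D66942 (iv7 D31185) (iv4 F49519)
def n66943 : Q := act 2 n31178
theorem D66943 : act 2 n31178 = n66943 := rfl
theorem F102896 : act 7 n31179 = n66943 := d15_2 (iv0 D31178) D31179 (iv2 D66943)
def n66944 : Q := act 3 n31178
theorem D66944 : act 3 n31178 = n66944 := rfl
def n66945 : Q := act 4 n31178
theorem D66945 : act 4 n31178 = n66945 := rfl
def n66946 : Q := act 5 n31178
theorem D66946 : act 5 n31178 = n66946 := rfl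
def n66947 : Q := act 6 n31178
theorem D66947 : act 6 n31178 = n66947 := rfl
def n66948 : Q := act 7 n31178
theorem D66948 : act 7 n31178 = n66948 := rfl
theorem F102897 : act 2 n66948 = n31179 := d4_1 D66948 F102896 (iv2 D66943)
def n66949 : Q := act 3 n31179
theorem D66949 : act 3 n31179 = n66949 := rfl
def n66950 : Q := act 4 n31179
theorem D66950 : act 4 n31179 = n66950 := rfl
def n66951 : Q := act 5 n31179
theorem D66951 : act 5 n31179 = n66951 := rfl
def n66952 : Q := act 6 n31179
theorem D66952 : act 6 n31179 = n66952 := rfl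
def n66953 : Q := act 0 n31180
theorem D66953 : act 0 n31180 = n66953 := rfl
def n66954 : Q := act 1 n31180
theorem D66954 : act 1 n31180 = n66954 := rfl
theorem F102898 : act 4 n66366 = n66954 := d20_6 F24387 (iv1 F11502) (iv4 F11268) (iv3 F24348) D30992 D66366 (iv1 D66954) (iv4 D31180) F24391 (iv1 F24384)
def n66955 : Q := act 5 n31180
theorem D66955 : act 5 n31180 = n66955 := rfl
theorem F102899 : act 3 n66955 = n31848 := d6_1 D66955 (iv5 D31848) (iv3 F49520)
def n66956 : Q := act 6 n31180
theorem D66956 : act 6 n31180 = n66956 := rfl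
theorem F102900 : act 3 n66956 = n31849 := d7_1 D66956 (iv6 D31849) (iv3 F49520)
theorem F102901 : act 4 n66956 = n31181 := d10_1 D66956 (iv6 D31181) D31180
def n66957 : Q := act 0 n31181
theorem D66957 : act 0 n31181 = n66957 := rfl
def n66958 : Q := act 1 n31181
theorem D66958 : act 1 n31181 = n66958 := rfl
def n66959 : Q := act 5 n31181
theorem D66959 : act 5 n31181 = n66959 := rfl
def n66960 : Q := act 7 n31181
theorem D66960 : act 7 n31181 = n66960 := rfl
theorem F102904 : act 3 n66960 = n31189 := d8_1 D66960 (iv7 D31189) (iv3 F49521)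
def n66961 : Q := act 2 n31182
theorem D66961 : act 2 n31182 = n66961 := rfl
theorem F102905 : act 7 n31183 = n66961 := d15_2 (iv0 D31182) D31183 (iv2 D66961)
def n66962 : Q := act 3 n31182
theorem D66962 : act 3 n31182 = n66962 := rfl
def n66963 : Q := act 4 n31182
theorem D66963 : act 4 n31182 = n66963 := rfl
def n66964 : Q := act 5 n31182
theorem D66964 : act 5 n31182 = n66964 := rfl
def n66965 : Q := act 6 n31182
theorem D66965 : act 6 n31182 = n66965 := rfl
def n66966 : Q := act 7 n31182
theorem D66966 : act 7 n31182 = n66966 := rfl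
theorem F102906 : act 2 n66966 = n31183 := d4_1 D66966 F102905 (iv2 D66961)
def n66967 : Q := act 3 n31183
theorem D66967 : act 3 n31183 = n66967 := rfl
def n66968 : Q := act 4 n31183
theorem D66968 : act 4 n31183 = n66968 := rfl
def n66969 : Q := act 5 n31183
theorem D66969 : act 5 n31183 = n66969 := rfl
def n66970 : Q := act 6 n31183
theorem D66970 : act 6 n31183 = n66970 := rfl
def n66974 : Q := act 7 n31184
theorem D66974 : act 7 n31184 = n66974 := rfl
theorem F102907 : act 3 n66974 = n31203 := d8_1 D66974 (iv7 D31203) (iv3 F49522)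
theorem F102908 : act 5 n66974 = n31185 := d13_1 D66974 (iv7 D31185) D31184
def n66975 : Q := act 2 n31186
theorem D66975 : act 2 n31186 = n66975 := rfl
theorem F102909 : act 7 n31187 = n66975 := d15_2 (iv0 D31186) D31187 (iv2 D66975)
def n66976 : Q := act 3 n31186
theorem D66976 : act 3 n31186 = n66976 := rfl
def n66977 : Q := act 4 n31186
theorem D66977 : act 4 n31186 = n66977 := rfl
def n66978 : Q := act 5 n31186
theorem D66978 : act 5 n31186 = n66978 := rfl
def n66979 : Q := act 6 n31186
theorem D66979 : act 6 n31186 = n66979 := rfl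
def n66980 : Q := act 7 n31186
theorem D66980 : act 7 n31186 = n66980 := rfl
theorem F102910 : act 2 n66980 = n31187 := d4_1 D66980 F102909 (iv2 D66975)
def n66981 : Q := act 3 n31187
theorem D66981 : act 3 n31187 = n66981 := rfl
def n66982 : Q := act 4 n31187
theorem D66982 : act 4 n31187 = n66982 := rfl
def n66983 : Q := act 5 n31187
theorem D66983 : act 5 n31187 = n66983 := rfl
def n66984 : Q := act 6 n31187
theorem D66984 : act 6 n31187 = n66984 := rfl
def n66986 : Q := act 1 n31188
theorem D66986 : act 1 n31188 = n66986 := rfl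
def n66988 : Q := act 7 n31188
theorem D66988 : act 7 n31188 = n66988 := rfl
theorem F102912 : act 5 n66988 = n31189 := d13_1 D66988 (iv7 D31189) D31188
def n66989 : Q := act 3 n31200
theorem D66989 : act 3 n31200 = n66989 := rfl
theorem F102913 : act 5 n66989 = n65030 := d6_2 (iv5 F53806) D66989 (iv3 D65030)
def n66999 : Q := act 5 n31204
theorem D66999 : act 5 n31204 = n66999 := rfl
theorem F102928 : act 2 n66999 = n31280 := d2_1 D66999 (iv5 D31280) (iv2 F49529)
def n67010 : Q := act 0 n31207
theorem D67010 : act 0 n31207 = n67010 := rfl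
theorem F102931 : act 1 n31236 = n67010 := d15_0 (iv0 D67010) F49532 D31236
def n67011 : Q := act 1 n31207
theorem D67011 : act 1 n31207 = n67011 := rfl
def n67012 : Q := act 2 n31207
theorem D67012 : act 2 n31207 = n67012 := rfl
theorem F102932 : act 3 n67012 = n31213 := d0_2 D31207 D67012 (iv2 D31213) (iv3 D14739) D14738
theorem F102933 : act 7 n67012 = n31236 := d4_2 (iv7 F49532) D67012 (iv2 D31236)
theorem F102934 : act 1 n67012 = n31234 := d15_0 (iv0 D31234) (iv7 F49532) D67012
theorem E9318 : n67011 = n53674 := (c15_1 D67011 (iv0 F102870) (iv7 F102933) (iv2 D67012))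
theorem F102935 : act 0 n53674 = n31207 := (sb E9318 (iv1 D67011))
theorem F102936 : act 4 n31213 = n48833 := d20_6 D28334 (iv1 F94094) (iv4 F102512) (iv3 F84748) (iv1 F102934) F102932 (iv1 F102215) (iv4 D66308) F49399 (iv1 F45837)
theorem F102937 : act 4 n67012 = n66330 := d20_0 (iv1 D66330) (iv4 D30982) D30981 (iv1 F102796) (iv3 D28333) D28334 (iv1 F94094) (iv4 F102512) (iv3 F84748) (iv1 F102934)
theorem F102938 : act 0 n53651 = n31213 := d20_4 D59717 (iv1 F102867) (iv4 D53652) D53651 (iv3 F102932) F102937 (iv1 D66330) (iv4 D30982) D30981 (iv1 F102796)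
theorem F102939 : act 1 n53651 = n31217 := d15_1 (iv0 F102938) (iv7 D31217) D31213
theorem F102940 : act 1 n66913 = n31213 := d15_0 (iv0 F102938) F102861 D66913
theorem F102941 : act 1 n31217 = n66913 := d15_0 F102940 (iv7 F102841) (iv2 F102839)
theorem F102942 : act 2 n48833 = n31214 := d1_1 F102936 (iv4 D31214) D31213
theorem F102943 : act 7 n48833 = n66310 := d11_2 F102841 F102936 (iv4 F102838)
theorem E9319 : n67012 = n66753 := (c20_4 (iv4 F37129) D48833 (iv4 F102936) (iv3 F102932) (iv1 D66753) (iv3 D31126) D31127 D66758 F102626 (iv3 D48867) (iv1 D23826))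
theorem F102944 : act 1 n66753 = n31234 := (sb E9319 F102934)
theorem F102945 : act 2 n66753 = n31207 := (sb E9319 (iv2 D67012))
theorem F102946 : act 3 n66753 = n31213 := (sb E9319 F102932)
theorem F102947 : act 4 n66753 = n66330 := (sb E9319 F102937)
theorem F102948 : act 7 n66753 = n31236 := (sb E9319 F102933)
theorem E9320 : n31235 = n31126 := (c15_1 D31235 D66753 F102948 (iv2 D31236))
theorem E9321 : n66752 = n14744 := ((D66752).symm.trans (sb E9320 (iv1 D31235)))
theorem F102949 : act 1 n14744 = n31126 := (sb E9321 (iv0 D66752))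
theorem F102950 : act 2 n66757 = n31234 := d15_3 (iv0 D31234) F102949 D66757
theorem E9322 : n66775 = n53714 := ((c0_3 (iv3 F102625) F102950 F84748 (iv2 D66775) (iv3 D31131) (iv2 F49489))).symm
theorem F102951 : act 2 n53714 = n31131 := (sb E9322 (iv2 D66775))
theorem F102952 : act 7 n31234 = n66754 := d4_2 D66757 F102950 (iv2 D66754)
theorem F102953 : act 2 n66776 = n59699 := d1_3 (iv4 F102512) F102951 D66776
theorem F102954 : act 7 n59698 = n66776 := d15_2 F94094 F94098 F102953
theorem E9323 : n66748 = n53679 := (c11_3 F102954 (iv4 D66776) (iv7 F102617) (iv4 F94093))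
theorem E9324 : n31125 = n25982 := ((((iv3 D53679)).symm.trans (sb E9323 (iv3 D66748)))).symm
theorem F102955 : act 7 n53679 = n31131 := (sb E9323 F102617)
theorem E9325 : n66746 = n12321 := ((((iv1 D25982)).symm.trans (sb E9324 D66746))).symm
theorem E9327 : n53678 = n14713 := (((iv2 F84687)).symm.trans (sb E9324 (iv2 D31125)))
theorem E9328 : n66749 = n53680 := (((D53680).symm.trans (sb E9324 D66749))).symm
theorem E9329 : n66750 = n53681 := (((D53681).symm.trans (sb E9324 D66750))).symm
theorem E9330 : n66751 = n53682 := (((D53682).symm.trans (sb E9324 D66751))).symm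
theorem E9331 : n53673 = n14714 := ((F84685).symm.trans (sb E9324 (iv7 F49488)))
theorem E9332 : n31130 = n25981 := (((D25981).symm.trans (sb E9325 (iv1 F102615)))).symm
theorem F102956 : act 2 n14713 = n25982 := (sb E9327 F84687)
theorem F102957 : act 2 n53680 = n31127 := (sb E9328 F102618)
theorem F102958 : act 7 n53680 = n31132 := (sb E9328 F102619)
theorem F102959 : act 2 n53681 = n31128 := (sb E9329 F102620)
theorem F102960 : act 7 n53681 = n31133 := (sb E9329 F102621)
theorem F102961 : act 2 n53682 = n31129 := (sb E9330 F102622)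
theorem F102962 : act 7 n14714 = n25982 := (sb E9331 (iv7 F84685))
theorem F102963 : act 2 n25981 = n14714 := (sb E9332 F49489)
theorem E9333 : n66757 = n53674 := (((D53674).symm.trans (sb E9332 (iv3 F102625)))).symm
theorem E9334 : n66763 = n53675 := (((D53675).symm.trans (sb E9332 (iv4 F102630)))).symm
theorem E9335 : n66768 = n53676 := (((D53676).symm.trans (sb E9332 (iv5 F102635)))).symm
theorem F102964 : act 7 n25981 = n14713 := (sb E9332 (iv7 D31130))
theorem F102965 : act 2 n53674 = n31234 := (sb E9333 F102950)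
theorem F102966 : act 7 n53674 = n31126 := (sb E9333 (iv7 D66757))
theorem F102967 : act 2 n53675 = n31132 := (sb E9334 F102629)
theorem F102968 : act 7 n53675 = n31127 := (sb E9334 (iv7 D66763))
theorem F102969 : act 2 n53676 = n31133 := (sb E9335 F102634)
theorem F102970 : act 7 n53676 = n31128 := (sb E9335 (iv7 D66768))
theorem E9337 : n66222 = n53582 := ((c11_2 F102966 F84534 (iv7 F101821) (iv4 F84686))).symm
theorem F102972 : act 2 n53582 = n30949 := (sb E9337 (iv2 D66222))
theorem F102973 : act 7 n53582 = n30950 := (sb E9337 (iv7 F101821))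
theorem E9338 : n67010 = n66754 := ((c15_4 (iv0 D67010) (iv0 F102935) F102966 D66754)).symm
theorem F102974 : act 0 n66754 = n31236 := (sb E9338 (iv1 F102931))
theorem F102975 : act 1 n66754 = n31207 := (sb E9338 (iv0 D67010))
theorem E9339 : n66227 = n53581 := (c15_4 (iv0 D53581) D53582 F102973 (iv2 F101823))
theorem F102976 : act 2 n53581 = n30950 := (sb E9339 F101823)
theorem F102977 : act 7 n53581 = n30949 := (sb E9339 (iv7 D66227))
theorem E9340 : n66754 = n66224 := ((c11_2 F102977 D66224 (iv7 F102952) F84533)).symm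
theorem F102978 : act 0 n66224 = n31236 := (sb E9340 F102974)
theorem F102979 : act 1 n66224 = n31207 := (sb E9340 F102975)
theorem F102980 : act 2 n66224 = n31126 := (sb E9340 (iv2 D66754))
theorem F102981 : act 7 n66224 = n31234 := (sb E9340 (iv7 F102952))
theorem F102982 : act 2 n66310 = n48834 := d15_3 (iv0 F102214) F102215 F102943
theorem F102983 : act 7 n31214 = n48834 := d4_2 (iv7 F102943) F102942 (iv2 F102982)
theorem E9341 : n31255 = n31217 := (c11_2 F102983 (iv4 F76904) (iv7 D31217) D31214)
theorem E9342 : n14749 = n14743 := (((F49541).symm.trans (sb E9341 (iv3 D31255)))).symm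
theorem F102984 : act 4 n31217 = n48834 := (sb E9341 F76904)
theorem E9343 : n31206 = n7028 := (((iv1 F49531)).symm.trans (sb E9342 (iv1 D14749)))
theorem E9344 : n31205 = n7030 := ((F49530).symm.trans (sb E9342 F24400))
theorem E9350 : n14748 = n14738 := ((D14748).symm.trans (sb E9343 (iv1 D31206)))
theorem F102985 : act 1 n7028 = n14743 := (sb E9343 F49531)
theorem F102986 : act 0 n7030 = n14743 := (sb E9344 (iv1 F49530))
theorem F102987 : act 0 n14738 = n7030 := (sb E9350 (iv1 F24399))
theorem F102988 : act 1 n14738 = n7028 := (sb E9350 (iv0 D14748))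
theorem E9362 : n31251 = n31208 := (((D31208).symm.trans (sb E9350 D31251))).symm
theorem F102989 : act 3 n31208 = n64557 := (sb E9362 (iv3 F100504))
theorem F102990 : act 7 n64557 = n31240 := d8_2 (iv7 F49534) F102989 (iv3 D31240)
def n67013 : Q := act 4 n31207
theorem D67013 : act 4 n31207 = n67013 := rfl
theorem F102991 : act 2 n67013 = n66330 := d1_1 D67013 (iv4 F102947) F102945
theorem F102992 : act 7 n67013 = n31237 := d11_2 (iv7 F49532) D67013 (iv4 D31237)
theorem F102993 : act 0 n53600 = n67013 := d20_1 D53600 (iv4 D67013) (iv3 D31207) F102987 F11278 F5000 (iv1 F3830) D5843 D12312 D25954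
theorem F102994 : act 1 n53605 = n67013 := d15_0 (iv0 F102993) F102818 (iv2 F102807)
def n67014 : Q := act 5 n31207
theorem D67014 : act 5 n31207 = n67014 := rfl
theorem F102995 : act 3 n67014 = n31209 := d6_1 D67014 (iv5 D31209) D31207
theorem F102996 : act 7 n67014 = n31238 := d13_2 (iv7 F49532) D67014 (iv5 D31238)
def n67015 : Q := act 6 n31207
theorem D67015 : act 6 n31207 = n67015 := rfl
theorem F102997 : act 3 n67015 = n31210 := d7_1 D67015 (iv6 D31210) D31207
def n67016 : Q := act 0 n31208
theorem D67016 : act 0 n31208 = n67016 := rfl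
theorem F102998 : act 1 n31223 = n67016 := d15_0 (iv0 D67016) F49534 (iv2 F49545)
def n67017 : Q := act 1 n31208
theorem D67017 : act 1 n31208 = n67017 := rfl
theorem F102999 : act 1 n67017 = n31223 := d15_1 D67017 (iv7 D31223) (iv2 F49533)
theorem F103000 : act 4 n53531 = n67017 := d20_6 (iv4 D66224) (iv1 F84537) F84535 F41018 (iv1 F40987) D53531 (iv1 D67017) (iv4 D31208) D31207 (iv1 F102979)
theorem F103001 : act 2 n67017 = n31219 := d1_1 F103000 (iv4 F102542) (iv2 F102527)
theorem F103002 : act 7 n67017 = n31218 := d11_2 (iv7 F102528) F103000 F49542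
theorem E9365 : n67016 = n64650 := ((c15_4 (iv0 D67016) D67017 F103002 (iv2 F102539))).symm
theorem F103003 : act 0 n64650 = n31223 := (sb E9365 (iv1 F102998))
theorem F103004 : act 1 n64650 = n31208 := (sb E9365 (iv0 D67016))
def n67018 : Q := act 5 n31208
theorem D67018 : act 5 n31208 = n67018 := rfl
theorem F103005 : act 2 n67018 = n31221 := d2_1 D67018 (iv5 D31221) (iv2 F49533)
theorem F103006 : act 7 n67018 = n31241 := d13_2 (iv7 F49534) D67018 (iv5 D31241)
def n67019 : Q := act 6 n31208
theorem D67019 : act 6 n31208 = n67019 := rfl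
theorem F103007 : act 2 n67019 = n31222 := d3_1 D67019 (iv6 D31222) (iv2 F49533)
theorem F103008 : act 4 n67019 = n31210 := d10_1 D67019 (iv6 D31210) D31208
def n67020 : Q := act 0 n31209
theorem D67020 : act 0 n31209 = n67020 := rfl
theorem F103009 : act 1 n31228 = n67020 := d15_0 (iv0 D67020) F49536 (iv2 F49549)
def n67021 : Q := act 1 n31209
theorem D67021 : act 1 n31209 = n67021 := rfl
theorem F103010 : act 1 n67021 = n31228 := d15_1 D67021 (iv7 D31228) (iv2 F49535)
def n67022 : Q := act 4 n31209
theorem D67022 : act 4 n31209 = n67022 := rfl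
theorem F103011 : act 2 n67022 = n31226 := d1_1 D67022 (iv4 D31226) (iv2 F49535)
theorem F103012 : act 7 n67022 = n31243 := d11_2 (iv7 F49536) D67022 (iv4 D31243)
def n67023 : Q := act 6 n31209
theorem D67023 : act 6 n31209 = n67023 := rfl
theorem F103013 : act 2 n67023 = n31227 := d3_1 D67023 (iv6 D31227) (iv2 F49535)
def n67024 : Q := act 0 n31210
theorem D67024 : act 0 n31210 = n67024 := rfl
def n67025 : Q := act 1 n31210
theorem D67025 : act 1 n31210 = n67025 := rfl
theorem F103014 : act 1 n67025 = n31232 := d15_1 D67025 (iv7 D31232) (iv2 F49537)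
def n67026 : Q := act 5 n31210
theorem D67026 : act 5 n31210 = n67026 := rfl
theorem F103015 : act 2 n67026 = n31231 := d2_1 D67026 (iv5 D31231) (iv2 F49537)
def n67027 : Q := act 7 n31210
theorem D67027 : act 7 n31210 = n67027 := rfl
theorem F103016 : act 2 n67027 = n31232 := d4_1 D67027 (iv7 D31232) (iv2 F49537)
theorem F103017 : act 6 n67027 = n31248 := d14_1 D67027 (iv7 D31248) (iv6 D14747) F24397 D31210
theorem F103018 : act 1 n31232 = n67024 := d15_0 (iv0 D67024) D67027 F103016
theorem F103019 : act 1 n31230 = n67027 := d15_1 D31230 (iv7 D67027) F49537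
def n67028 : Q := act 4 n31212
theorem D67028 : act 4 n31212 = n67028 := rfl
def n67029 : Q := act 5 n31212
theorem D67029 : act 5 n31212 = n67029 := rfl
theorem F103021 : act 0 n67029 = n31262 := d18_0 F94395 (iv1 D59920) F45985 (iv5 F24344) D30975 (iv0 F49538) (iv4 D31214) D31212 D67029
def n67030 : Q := act 6 n31212
theorem D67030 : act 6 n31212 = n67030 := rfl
def n67031 : Q := act 5 n31213
theorem D67031 : act 5 n31213 = n67031 := rfl
theorem F103022 : act 2 n67031 = n31215 := d2_1 D67031 (iv5 D31215) D31213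
def n67032 : Q := act 6 n31213
theorem D67032 : act 6 n31213 = n67032 := rfl
theorem F103023 : act 2 n67032 = n31216 := d3_1 D67032 (iv6 D31216) D31213
def n67033 : Q := act 3 n31214
theorem D67033 : act 3 n31214 = n67033 := rfl
theorem F103024 : act 4 n67033 = n31220 := d5_2 D31214 D67033 (iv3 D31220) (iv4 D14740) D14739
def n67034 : Q := act 5 n31214
theorem D67034 : act 5 n31214 = n67034 := rfl
def n67035 : Q := act 6 n31214
theorem D67035 : act 6 n31214 = n67035 := rfl
theorem F103025 : act 4 n67035 = n31216 := d10_1 D67035 (iv6 D31216) D31214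
def n67036 : Q := act 0 n31215
theorem D67036 : act 0 n31215 = n67036 := rfl
def n67037 : Q := act 1 n31215
theorem D67037 : act 1 n31215 = n67037 := rfl
def n67038 : Q := act 4 n31215
theorem D67038 : act 4 n31215 = n67038 := rfl
def n67039 : Q := act 6 n31215
theorem D67039 : act 6 n31215 = n67039 := rfl
theorem F103026 : act 3 n67039 = n31227 := d7_1 D67039 (iv6 D31227) (iv3 F49539)
def n67040 : Q := act 7 n31215
theorem D67040 : act 7 n31215 = n67040 := rfl
theorem F103027 : act 3 n67040 = n31228 := d8_1 D67040 (iv7 D31228) (iv3 F49539)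
theorem F103028 : act 5 n67040 = n31217 := d13_1 D67040 (iv7 D31217) D31215
def n67041 : Q := act 0 n31216
theorem D67041 : act 0 n31216 = n67041 := rfl
def n67042 : Q := act 1 n31216
theorem D67042 : act 1 n31216 = n67042 := rfl
def n67043 : Q := act 5 n31216
theorem D67043 : act 5 n31216 = n67043 := rfl
theorem F103029 : act 3 n67043 = n31231 := d6_1 D67043 (iv5 D31231) (iv3 F49540)
def n67044 : Q := act 7 n31216
theorem D67044 : act 7 n31216 = n67044 := rfl
theorem F103030 : act 3 n67044 = n31232 := d8_1 D67044 (iv7 D31232) (iv3 F49540)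
def n67045 : Q := act 6 n31217
theorem D67045 : act 6 n31217 = n67045 := rfl
theorem F103031 : act 3 n67045 = n31233 := d7_1 D67045 (iv6 D31233) (iv3 F49541)
def n67046 : Q := act 3 n31218
theorem D67046 : act 3 n31218 = n67046 := rfl
theorem F103032 : act 4 n67046 = n64722 := d5_2 (iv4 F49542) D67046 F100594 (iv4 D31078) D31077
def n67047 : Q := act 5 n31218
theorem D67047 : act 5 n31218 = n67047 := rfl
def n67048 : Q := act 6 n31218
theorem D67048 : act 6 n31218 = n67048 := rfl
theorem F103033 : act 4 n67048 = n66610 := d10_1 D67048 (iv6 D66610) (iv4 F49542)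
def n67049 : Q := act 5 n31219
theorem D67049 : act 5 n31219 = n67049 := rfl
def n67050 : Q := act 6 n31219
theorem D67050 : act 6 n31219 = n67050 := rfl
def n67051 : Q := act 1 n31220
theorem D67051 : act 1 n31220 = n67051 := rfl
theorem F103034 : act 4 n64763 = n67051 := d20_0 (iv1 D67051) (iv4 F103024) (iv3 D67033) F49538 F49405 F37130 (iv1 F37076) D48781 F76817 D64763
def n67052 : Q := act 2 n31220
theorem D67052 : act 2 n31220 = n67052 := rfl
def n67053 : Q := act 5 n31220
theorem D67053 : act 5 n31220 = n67053 := rfl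
theorem F103035 : act 3 n67053 = n31221 := d6_1 D67053 (iv5 D31221) D31220
def n67054 : Q := act 6 n31220
theorem D67054 : act 6 n31220 = n67054 := rfl
theorem F103036 : act 3 n67054 = n31222 := d7_1 D67054 (iv6 D31222) D31220
def n67055 : Q := act 7 n31220
theorem D67055 : act 7 n31220 = n67055 := rfl
theorem F103037 : act 3 n67055 = n31223 := d8_1 D67055 (iv7 D31223) D31220
def n67056 : Q := act 0 n31221
theorem D67056 : act 0 n31221 = n67056 := rfl
def n67057 : Q := act 1 n31221
theorem D67057 : act 1 n31221 = n67057 := rfl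
theorem F103038 : act 1 n67057 = n31241 := d15_1 D67057 (iv7 F103006) F103005
def n67058 : Q := act 4 n31221
theorem D67058 : act 4 n31221 = n67058 := rfl
def n67059 : Q := act 6 n31221
theorem D67059 : act 6 n31221 = n67059 := rfl
def n67060 : Q := act 7 n31221
theorem D67060 : act 7 n31221 = n67060 := rfl
theorem F103039 : act 2 n67060 = n31241 := d4_1 D67060 (iv7 F103006) F103005
theorem F103040 : act 5 n67060 = n31223 := d13_1 D67060 (iv7 D31223) D31221
theorem F103041 : act 1 n31241 = n67056 := d15_0 (iv0 D67056) D67060 F103039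
def n67061 : Q := act 0 n31222
theorem D67061 : act 0 n31222 = n67061 := rfl
def n67062 : Q := act 1 n31222
theorem D67062 : act 1 n31222 = n67062 := rfl
def n67063 : Q := act 5 n31222
theorem D67063 : act 5 n31222 = n67063 := rfl
def n67064 : Q := act 7 n31222
theorem D67064 : act 7 n31222 = n67064 := rfl
theorem F103042 : act 4 n67064 = n31232 := d11_1 D67064 (iv7 D31232) (iv4 F49544)
def n67065 : Q := act 6 n31223
theorem D67065 : act 6 n31223 = n67065 := rfl
theorem F103043 : act 2 n67065 = n31242 := d3_1 D67065 (iv6 D31242) (iv2 F49545)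
theorem F103044 : act 4 n67065 = n31233 := d10_1 D67065 (iv6 D31233) (iv4 F49546)
def n67067 : Q := act 3 n31224
theorem D67067 : act 3 n31224 = n67067 := rfl
def n67068 : Q := act 4 n31224
theorem D67068 : act 4 n31224 = n67068 := rfl
def n67069 : Q := act 5 n31224
theorem D67069 : act 5 n31224 = n67069 := rfl
def n67070 : Q := act 6 n31224
theorem D67070 : act 6 n31224 = n67070 := rfl
def n67072 : Q := act 3 n31225
theorem D67072 : act 3 n31225 = n67072 := rfl
def n67076 : Q := act 0 n31226
theorem D67076 : act 0 n31226 = n67076 := rfl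
def n67077 : Q := act 1 n31226
theorem D67077 : act 1 n31226 = n67077 := rfl
theorem F103047 : act 1 n67077 = n31243 := d15_1 D67077 (iv7 F103012) F103011
def n67078 : Q := act 3 n31226
theorem D67078 : act 3 n31226 = n67078 := rfl
def n67079 : Q := act 5 n31226
theorem D67079 : act 5 n31226 = n67079 := rfl
def n67080 : Q := act 6 n31226
theorem D67080 : act 6 n31226 = n67080 := rfl
theorem F103048 : act 4 n67080 = n31227 := d10_1 D67080 (iv6 D31227) D31226
def n67081 : Q := act 7 n31226
theorem D67081 : act 7 n31226 = n67081 := rfl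
theorem F103049 : act 2 n67081 = n31243 := d4_1 D67081 (iv7 F103012) F103011
theorem F103050 : act 4 n67081 = n31228 := d11_1 D67081 (iv7 D31228) D31226
theorem F103051 : act 1 n31243 = n67076 := d15_0 (iv0 D67076) D67081 F103049
def n67082 : Q := act 0 n31227
theorem D67082 : act 0 n31227 = n67082 := rfl
def n67083 : Q := act 1 n31227
theorem D67083 : act 1 n31227 = n67083 := rfl
def n67084 : Q := act 5 n31227
theorem D67084 : act 5 n31227 = n67084 := rfl
theorem F103052 : act 6 n67084 = n31231 := d12_2 D31227 D67084 (iv5 D31231) (iv6 D14742) D14741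
def n67085 : Q := act 7 n31227
theorem D67085 : act 7 n31227 = n67085 := rfl
def n67086 : Q := act 6 n31228
theorem D67086 : act 6 n31228 = n67086 := rfl
theorem F103053 : act 2 n67086 = n31244 := d3_1 D67086 (iv6 D31244) (iv2 F49549)
def n67087 : Q := act 2 n31229
theorem D67087 : act 2 n31229 = n67087 := rfl
theorem F103054 : act 7 n31230 = n67087 := d15_2 (iv0 D31229) D31230 (iv2 D67087)
def n67088 : Q := act 3 n31229
theorem D67088 : act 3 n31229 = n67088 := rfl
def n67089 : Q := act 4 n31229
theorem D67089 : act 4 n31229 = n67089 := rfl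
def n67090 : Q := act 5 n31229
theorem D67090 : act 5 n31229 = n67090 := rfl
def n67091 : Q := act 6 n31229
theorem D67091 : act 6 n31229 = n67091 := rfl
def n67092 : Q := act 7 n31229
theorem D67092 : act 7 n31229 = n67092 := rfl
def n67094 : Q := act 4 n31230
theorem D67094 : act 4 n31230 = n67094 := rfl
def n67097 : Q := act 0 n31231
theorem D67097 : act 0 n31231 = n67097 := rfl
def n67098 : Q := act 1 n31231
theorem D67098 : act 1 n31231 = n67098 := rfl
def n67099 : Q := act 4 n31231
theorem D67099 : act 4 n31231 = n67099 := rfl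
def n67100 : Q := act 7 n31231
theorem D67100 : act 7 n31231 = n67100 := rfl
theorem F103056 : act 5 n67100 = n31232 := d13_1 D67100 (iv7 D31232) D31231
def n67101 : Q := act 6 n31232
theorem D67101 : act 6 n31232 = n67101 := rfl
theorem F103057 : act 2 n67101 = n31248 := d3_1 D67101 (iv6 F103017) F103016
theorem F103058 : act 7 n67101 = n31233 := d14_2 D31232 D67101 (iv6 D31233) (iv7 D14743) D14742
theorem F103059 : act 1 n31246 = n67101 := d15_1 D31246 F103058 F49552
def n67102 : Q := act 0 n31233
theorem D67102 : act 0 n31233 = n67102 := rfl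
theorem F103061 : act 1 n31248 = n67102 := d15_0 (iv0 D67102) (iv7 F103058) F103057
def n67103 : Q := act 1 n31233
theorem D67103 : act 1 n31233 = n67103 := rfl
theorem F103062 : act 1 n67103 = n31248 := d15_1 D67103 (iv7 D31248) (iv2 F49552)
def n67104 : Q := act 5 n31233
theorem D67104 : act 5 n31233 = n67104 := rfl
theorem F103063 : act 2 n67104 = n31247 := d2_1 D67104 (iv5 D31247) (iv2 F49552)
def n67105 : Q := act 5 n31234
theorem D67105 : act 5 n31234 = n67105 := rfl
def n67106 : Q := act 6 n31234
theorem D67106 : act 6 n31234 = n67106 := rfl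
def n67107 : Q := act 4 n31236
theorem D67107 : act 4 n31236 = n67107 := rfl
theorem F103064 : act 2 n67107 = n31237 := d1_1 D67107 (iv4 D31237) D31236
theorem F103065 : act 7 n67107 = n66330 := d11_2 F102948 D67107 (iv4 F102947)
theorem F103066 : act 3 n67107 = n62948 := d20_3 D66224 F102978 D67107 (iv1 D62948) (iv3 D29778) (iv4 D14150) F19320 D7000 D14652 D30949
theorem F103067 : act 0 n67107 = n53600 := d20_7 F102764 (iv1 F102761) (iv4 D31169) D31168 D66912 F102840 D67107 (iv4 D53600) D53599 (iv1 F102795)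
theorem F103068 : act 0 n53605 = n67107 := d20_1 D53605 (iv4 D67107) (iv3 F102840) (iv1 F102842) (iv3 F84764) F84763 (iv1 F84425) F84423 F40984 (iv1 F41021)
def n67108 : Q := act 5 n31236
theorem D67108 : act 5 n31236 = n67108 := rfl
theorem F103069 : act 2 n67108 = n31238 := d2_1 D67108 (iv5 D31238) D31236
def n67109 : Q := act 6 n31236
theorem D67109 : act 6 n31236 = n67109 := rfl
theorem F103070 : act 2 n67109 = n31239 := d3_1 D67109 (iv6 D31239) D31236
def n67110 : Q := act 3 n31237
theorem D67110 : act 3 n31237 = n67110 := rfl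
theorem F103071 : act 4 n67110 = n31240 := d5_2 D31237 D67110 (iv3 D31240) (iv4 D14745) D14744
def n67111 : Q := act 5 n31237
theorem D67111 : act 5 n31237 = n67111 := rfl
def n67112 : Q := act 6 n31237
theorem D67112 : act 6 n31237 = n67112 := rfl
theorem F103072 : act 4 n67112 = n31239 := d10_1 D67112 (iv6 D31239) D31237
def n67113 : Q := act 0 n31238
theorem D67113 : act 0 n31238 = n67113 := rfl
def n67114 : Q := act 1 n31238
theorem D67114 : act 1 n31238 = n67114 := rfl
def n67115 : Q := act 4 n31238
theorem D67115 : act 4 n31238 = n67115 := rfl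
theorem F103073 : act 1 n67115 = n66367 := d18_6 D14662 D30982 F49553 (iv4 D31237) D31238 D67115 (iv4 D66367) (iv0 D30992) (iv5 D14665)
theorem E9366 : n67072 = n14720 := (c20_6 D66367 (iv1 F103073) (iv4 D67115) F49554 (iv1 F49548) D67072 F24387 (iv1 F11502) (iv4 F11268) (iv3 F24348) D30992)
theorem E9367 : n31225 = n31152 := (((D31152).symm.trans (sb E9366 (iv3 D67072)))).symm
theorem E9368 : n66851 = n14741 := ((D66851).symm.trans (sb E9367 (iv1 D31225)))
theorem E9369 : n66852 = n14746 := ((D66852).symm.trans (sb E9367 F49548))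
theorem E9375 : n65606 = n31224 := (((D31224).symm.trans (sb E9368 (iv1 F102702)))).symm
theorem F103074 : act 1 n14741 = n31152 := (sb E9368 (iv0 D66851))
theorem F103075 : act 0 n14746 = n31152 := (sb E9369 (iv1 D66852))
theorem F103076 : act 2 n31224 = n30742 := (sb E9375 F101344)
theorem E9376 : n67067 = n66845 := ((D67067).symm.trans (sb E9375 (iv3 F102678)))
theorem E9377 : n67069 = n30741 := ((D67069).symm.trans (sb E9375 (iv5 D65606)))
theorem F103077 : act 7 n31224 = n66853 := (sb E9375 (iv7 F102705))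
theorem F103078 : act 3 n66845 = n31224 := (sb E9376 (iv3 D67067))
theorem F103079 : act 5 n30741 = n31224 := (sb E9377 (iv5 D67069))
theorem F103080 : act 5 n64816 = n64326 := d17_3 D14467 D30475 D64816 F100285 F103079 (iv0 D31224) (iv5 D14741) (iv0 D7026) (iv4 F11188)
theorem F103081 : act 2 n64327 = n64816 := d2_3 F103080 (iv2 D64326) D64327
theorem E9378 : n64817 = n64740 := (c15_2 (iv0 D64816) D64817 F100614 F103081)
theorem F103082 : act 0 n64740 = n30475 := (sb E9378 (iv1 D64817))
theorem F103083 : act 1 n64740 = n30480 := (sb E9378 F100662)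
theorem F103084 : act 2 n65610 = n67068 := d1_3 (iv4 D67068) F103076 D65610
theorem F103085 : act 2 n65611 = n67070 := d3_3 (iv6 D67070) F103076 D65611
theorem F103086 : act 0 n67038 = n66400 := d20_7 F11273 D7172 (iv4 F24387) D31152 (iv1 F103074) (iv3 F49539) D67038 (iv4 D66400) (iv3 D31000) (iv1 F24352)
theorem F103087 : act 4 n67076 = n66631 := d20_2 D31226 D67076 (iv3 D66631) (iv1 D31084) F24371 F11273 D7172 (iv4 F24387) D31152 (iv1 F103074)
theorem F103088 : act 1 n66631 = n59695 := d18_8 (iv1 F102511) (iv4 F49542) (iv1 F49547) (iv4 D14745) D14746 D31243 F103051 F103087 (iv5 D59695)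
def n67116 : Q := act 6 n31238
theorem D67116 : act 6 n31238 = n67116 := rfl
theorem F103089 : act 3 n67116 = n31244 := d7_1 D67116 (iv6 D31244) (iv3 F49554)
def n67117 : Q := act 0 n31239
theorem D67117 : act 0 n31239 = n67117 := rfl
def n67118 : Q := act 1 n31239
theorem D67118 : act 1 n31239 = n67118 := rfl
def n67119 : Q := act 5 n31239
theorem D67119 : act 5 n31239 = n67119 := rfl
theorem F103090 : act 3 n67119 = n31247 := d6_1 D67119 (iv5 D31247) (iv3 F49555)
def n67120 : Q := act 7 n31239
theorem D67120 : act 7 n31239 = n67120 := rfl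
theorem F103091 : act 3 n67120 = n31248 := d8_1 D67120 (iv7 D31248) (iv3 F49555)
def n67121 : Q := act 2 n31240
theorem D67121 : act 2 n31240 = n67121 := rfl
def n67122 : Q := act 5 n31240
theorem D67122 : act 5 n31240 = n67122 := rfl
theorem F103092 : act 3 n67122 = n31241 := d6_1 D67122 (iv5 D31241) D31240
def n67123 : Q := act 6 n31240
theorem D67123 : act 6 n31240 = n67123 := rfl
theorem F103093 : act 3 n67123 = n31242 := d7_1 D67123 (iv6 D31242) D31240
def n67124 : Q := act 4 n31241
theorem D67124 : act 4 n31241 = n67124 := rfl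
def n67125 : Q := act 6 n31241
theorem D67125 : act 6 n31241 = n67125 := rfl
def n67126 : Q := act 0 n31242
theorem D67126 : act 0 n31242 = n67126 := rfl
def n67127 : Q := act 1 n31242
theorem D67127 : act 1 n31242 = n67127 := rfl
def n67128 : Q := act 5 n31242
theorem D67128 : act 5 n31242 = n67128 := rfl
def n67129 : Q := act 7 n31242
theorem D67129 : act 7 n31242 = n67129 := rfl
theorem F103094 : act 4 n67129 = n31248 := d11_1 D67129 (iv7 D31248) (iv4 F49556)
def n67130 : Q := act 3 n31243
theorem D67130 : act 3 n31243 = n67130 := rfl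
def n67131 : Q := act 5 n31243
theorem D67131 : act 5 n31243 = n67131 := rfl
def n67132 : Q := act 6 n31243
theorem D67132 : act 6 n31243 = n67132 := rfl
theorem F103095 : act 4 n67132 = n31244 := d10_1 D67132 (iv6 D31244) D31243
def n67133 : Q := act 0 n31244
theorem D67133 : act 0 n31244 = n67133 := rfl
def n67134 : Q := act 1 n31244
theorem D67134 : act 1 n31244 = n67134 := rfl
def n67135 : Q := act 5 n31244
theorem D67135 : act 5 n31244 = n67135 := rfl
theorem F103096 : act 6 n67135 = n31247 := d12_2 D31244 D67135 (iv5 D31247) (iv6 D14747) D14746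
def n67136 : Q := act 7 n31244
theorem D67136 : act 7 n31244 = n67136 := rfl
def n67137 : Q := act 2 n31245
theorem D67137 : act 2 n31245 = n67137 := rfl
theorem F103097 : act 7 n31246 = n67137 := d15_2 (iv0 D31245) D31246 (iv2 D67137)
def n67139 : Q := act 4 n31245
theorem D67139 : act 4 n31245 = n67139 := rfl
def n67140 : Q := act 5 n31245
theorem D67140 : act 5 n31245 = n67140 := rfl
def n67142 : Q := act 7 n31245
theorem D67142 : act 7 n31245 = n67142 := rfl
theorem F103098 : act 2 n67142 = n31246 := d4_1 D67142 F103097 (iv2 D67137)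
def n67143 : Q := act 3 n31246
theorem D67143 : act 3 n31246 = n67143 := rfl
def n67144 : Q := act 4 n31246
theorem D67144 : act 4 n31246 = n67144 := rfl
def n67145 : Q := act 5 n31246
theorem D67145 : act 5 n31246 = n67145 := rfl
def n67146 : Q := act 6 n31246
theorem D67146 : act 6 n31246 = n67146 := rfl
def n67147 : Q := act 0 n31247
theorem D67147 : act 0 n31247 = n67147 := rfl
def n67149 : Q := act 4 n31247
theorem D67149 : act 4 n31247 = n67149 := rfl
def n67150 : Q := act 7 n31247
theorem D67150 : act 7 n31247 = n67150 := rfl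
theorem F103099 : act 5 n67150 = n31248 := d13_1 D67150 (iv7 D31248) D31247
def n67151 : Q := act 3 n31259
theorem D67151 : act 3 n31259 = n67151 := rfl
def n67152 : Q := act 5 n31259
theorem D67152 : act 5 n31259 = n67152 := rfl
theorem F103100 : act 2 n67152 = n31273 := d2_1 D67152 (iv5 D31273) (iv2 F49559)
def n67153 : Q := act 6 n31259
theorem D67153 : act 6 n31259 = n67153 := rfl
theorem F103101 : act 2 n67153 = n31274 := d3_1 D67153 (iv6 D31274) (iv2 F49559)
theorem F103102 : act 4 n67153 = n31260 := d10_1 D67153 (iv6 D31260) D31259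
def n67154 : Q := act 0 n31260
theorem D67154 : act 0 n31260 = n67154 := rfl
def n67155 : Q := act 1 n31260
theorem D67155 : act 1 n31260 = n67155 := rfl
theorem F103103 : act 1 n67155 = n31277 := d15_1 D67155 (iv7 D31277) (iv2 F49560)
def n67156 : Q := act 7 n31260
theorem D67156 : act 7 n31260 = n67156 := rfl
theorem F103104 : act 2 n67156 = n31277 := d4_1 D67156 (iv7 D31277) (iv2 F49560)
theorem F103105 : act 1 n31277 = n67154 := d15_0 (iv0 D67154) D67156 F103104
theorem F103106 : act 1 n31276 = n67156 := d15_1 D31276 (iv7 D67156) F49560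
theorem F103107 : act 1 n67156 = n31275 := d15_0 (iv0 D31275) D31277 (iv2 F103104)
def n67159 : Q := act 3 n31261
theorem D67159 : act 3 n31261 = n67159 := rfl
theorem F103110 : act 7 n67159 = n31267 := d8_2 F49561 D67159 (iv3 D31267)
def n67160 : Q := act 4 n31261
theorem D67160 : act 4 n31261 = n67160 := rfl
theorem F103111 : act 2 n67160 = n31263 := d1_1 D67160 (iv4 D31263) D31261
theorem F103112 : act 7 n67160 = n31268 := d11_2 F49561 D67160 (iv4 D31268)
def n67161 : Q := act 5 n31261
theorem D67161 : act 5 n31261 = n67161 := rfl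
theorem F103113 : act 2 n67161 = n31264 := d2_1 D67161 (iv5 D31264) D31261
theorem F103114 : act 7 n67161 = n31269 := d13_2 F49561 D67161 (iv5 D31269)
def n67163 : Q := act 0 n31262
theorem D67163 : act 0 n31262 = n67163 := rfl
def n67164 : Q := act 2 n31262
theorem D67164 : act 2 n31262 = n67164 := rfl
def n67165 : Q := act 5 n31262
theorem D67165 : act 5 n31262 = n67165 := rfl
theorem F103116 : act 3 n67165 = n31264 := d6_1 D67165 (iv5 D31264) D31262
def n67166 : Q := act 6 n31262
theorem D67166 : act 6 n31262 = n67166 := rfl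
def n67167 : Q := act 7 n31262
theorem D67167 : act 7 n31262 = n67167 := rfl
theorem F103118 : act 3 n67167 = n31266 := d8_1 D67167 (iv7 D31266) D31262
def n67168 : Q := act 0 n31263
theorem D67168 : act 0 n31263 = n67168 := rfl
theorem F103119 : act 4 n67168 = n66609 := d18_3 D14751 D31263 D67168 (iv5 D66609) (iv4 F49542) (iv0 D31218) (iv4 D14740) (iv0 D7026) D7029
theorem E9379 : n66602 = n14631 := (c20_5 D31263 D67168 F103119 F102553 (iv1 F102552) F24315 F11252 (iv1 F9175) F9172 (iv3 F11277) D14751)
theorem E9380 : n31074 = n30902 := (((D30902).symm.trans (sb E9379 (iv1 D66602)))).symm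
theorem E9381 : n31079 = n30903 := (((D30903).symm.trans (sb E9379 F102552))).symm
theorem E9383 : n66072 = n53533 := ((D66072).symm.trans (sb E9380 (iv2 F102531)))
theorem E9384 : n66592 = n66073 := (((D66073).symm.trans (sb E9380 (iv3 F102501)))).symm
theorem E9386 : n66075 = n14695 := ((D66075).symm.trans (sb E9380 (iv5 D31074)))
theorem E9388 : n66077 = n53528 := ((D66077).symm.trans (sb E9380 (iv7 F102548)))
theorem E9389 : n66609 = n66078 := (((D66078).symm.trans (sb E9381 (iv3 F102553)))).symm
theorem E9391 : n66080 = n14696 := ((D66080).symm.trans (sb E9381 (iv5 D31079)))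
theorem F103120 : act 2 n53533 = n30902 := (sb E9383 (iv2 D66072))
theorem F103121 : act 7 n53533 = n30903 := (sb E9383 (iv7 F101738))
theorem F103122 : act 5 n66073 = n31072 := (sb E9384 (iv5 D66592))
theorem F103123 : act 5 n14695 = n30902 := (sb E9386 (iv5 D66075))
theorem F103124 : act 2 n53528 = n30903 := (sb E9388 F101739)
theorem F103125 : act 7 n53528 = n30902 := (sb E9388 (iv7 D66077))
theorem F103126 : act 4 n66078 = n67168 := (sb E9389 (iv4 F103119))
theorem F103127 : act 5 n66078 = n31077 := (sb E9389 (iv5 D66609))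
theorem F103128 : act 5 n14696 = n30903 := (sb E9391 (iv5 D66080))
theorem E9393 : n66521 = n65972 := ((c17_7 (iv1 F40988) F103128 (iv1 D30903) (iv5 D14631) (iv4 F24299) D30868 D65972 (iv5 D66521) F84426 F84423)).symm
theorem F103129 : act 5 n65972 = n31050 := (sb E9393 (iv5 D66521))
def n67169 : Q := act 1 n31263
theorem D67169 : act 1 n31263 = n67169 := rfl
theorem F103130 : act 1 n67169 = n31268 := d15_1 D67169 (iv7 F103112) F103111
def n67170 : Q := act 3 n31263
theorem D67170 : act 3 n31263 = n67170 := rfl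
def n67171 : Q := act 5 n31263
theorem D67171 : act 5 n31263 = n67171 := rfl
def n67172 : Q := act 6 n31263
theorem D67172 : act 6 n31263 = n67172 := rfl
def n67173 : Q := act 7 n31263
theorem D67173 : act 7 n31263 = n67173 := rfl
theorem F103132 : act 2 n67173 = n31268 := d4_1 D67173 (iv7 F103112) F103111
theorem F103133 : act 4 n67173 = n31266 := d11_1 D67173 (iv7 D31266) D31263
theorem F103134 : act 1 n31268 = n67168 := d15_0 (iv0 D67168) D67173 F103132
def n67175 : Q := act 1 n31264
theorem D67175 : act 1 n31264 = n67175 := rfl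
theorem F103135 : act 1 n67175 = n31269 := d15_1 D67175 (iv7 F103114) F103113
def n67178 : Q := act 7 n31264
theorem D67178 : act 7 n31264 = n67178 := rfl
theorem F103136 : act 2 n67178 = n31269 := d4_1 D67178 (iv7 F103114) F103113
theorem F103137 : act 5 n67178 = n31266 := d13_1 D67178 (iv7 D31266) D31264
def n67182 : Q := act 7 n31265
theorem D67182 : act 7 n31265 = n67182 := rfl
def n67184 : Q := act 0 n31267
theorem D67184 : act 0 n31267 = n67184 := rfl
def n67185 : Q := act 1 n31267
theorem D67185 : act 1 n31267 = n67185 := rfl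
def n67186 : Q := act 2 n31267
theorem D67186 : act 2 n31267 = n67186 := rfl
def n67187 : Q := act 4 n31267
theorem D67187 : act 4 n31267 = n67187 := rfl
theorem F103140 : act 0 n65735 = n67187 := d20_1 D65735 (iv4 D67187) (iv3 D31267) (iv1 D14752) F11277 (iv4 F9172) (iv1 F9174) (iv4 F11230) (iv3 F24239) D30778
theorem F103141 : act 5 n31267 = n65602 := d18_4 D30778 D65735 F103140 (iv4 D67187) (iv4 F101420) (iv0 D65696) (iv4 D30768) (iv0 D14576) D14579
theorem E9394 : n65604 = n14752 := (c6_3 F103141 (iv3 D65602) D65604 D31267)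
theorem E9395 : n31269 = n30740 := ((D31269).symm.trans (sb E9394 (iv5 D65604)))
theorem E9396 : n67175 = n14567 := ((((iv1 D30740)).symm.trans (sb E9395 (iv1 F103135)))).symm
theorem E9398 : n67178 = n65601 := ((((iv2 F101343)).symm.trans (sb E9395 (iv2 F103136)))).symm
theorem F103142 : act 5 n30740 = n14752 := (sb E9395 (iv5 D31269))
theorem E9400 : n31264 = n30739 := (((D30739).symm.trans (sb E9396 (iv1 D67175)))).symm
theorem F103143 : act 5 n65601 = n31266 := (sb E9398 F103137)
theorem E9401 : n67165 = n65597 := (((D65597).symm.trans (sb E9400 (iv3 F103116)))).symm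
theorem E9403 : n65599 = n14751 := ((D65599).symm.trans (sb E9400 (iv5 D31264)))
theorem F103145 : act 5 n65597 = n31262 := (sb E9401 (iv5 D67165))
theorem F103146 : act 5 n14751 = n30739 := (sb E9403 (iv5 D65599))
theorem E9405 : n64856 = n64324 := ((c17_1 D64324 (iv5 D64856) (iv1 F100639) (iv5 D64796) F48880 (iv5 F41646) F41648 F103146 (iv0 D30739) (iv4 F48729))).symm
theorem F103147 : act 5 n64324 = n30485 := (sb E9405 (iv5 D64856))
def n67188 : Q := act 6 n31267
theorem D67188 : act 6 n31267 = n67188 := rfl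
theorem F103148 : act 3 n67188 = n31270 := d7_1 D67188 (iv6 D31270) D31267
def n67189 : Q := act 3 n31268
theorem D67189 : act 3 n31268 = n67189 := rfl
def n67190 : Q := act 5 n31268
theorem D67190 : act 5 n31268 = n67190 := rfl
def n67192 : Q := act 0 n31270
theorem D67192 : act 0 n31270 = n67192 := rfl
def n67193 : Q := act 1 n31270
theorem D67193 : act 1 n31270 = n67193 := rfl
def n67194 : Q := act 5 n31270
theorem D67194 : act 5 n31270 = n67194 := rfl
def n67196 : Q := act 2 n31271
theorem D67196 : act 2 n31271 = n67196 := rfl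
theorem F103150 : act 7 n31272 = n67196 := d15_2 (iv0 D31271) D31272 (iv2 D67196)
def n67197 : Q := act 3 n31271
theorem D67197 : act 3 n31271 = n67197 := rfl
def n67198 : Q := act 4 n31271
theorem D67198 : act 4 n31271 = n67198 := rfl
def n67199 : Q := act 5 n31271
theorem D67199 : act 5 n31271 = n67199 := rfl
def n67200 : Q := act 6 n31271
theorem D67200 : act 6 n31271 = n67200 := rfl
def n67201 : Q := act 7 n31271
theorem D67201 : act 7 n31271 = n67201 := rfl
theorem F103151 : act 2 n67201 = n31272 := d4_1 D67201 F103150 (iv2 D67196)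
def n67202 : Q := act 3 n31272
theorem D67202 : act 3 n31272 = n67202 := rfl
def n67203 : Q := act 4 n31272
theorem D67203 : act 4 n31272 = n67203 := rfl
theorem F103152 : act 3 n48926 = n67203 := d20_5 F11280 (iv1 F7635) D11180 D23856 D48926 (iv4 D67203) (iv1 D31272) (iv4 D14753) F11277 D7031
def n67204 : Q := act 5 n31272
theorem D67204 : act 5 n31272 = n67204 := rfl
def n67205 : Q := act 6 n31272
theorem D67205 : act 6 n31272 = n67205 := rfl
def n67206 : Q := act 0 n31273
theorem D67206 : act 0 n31273 = n67206 := rfl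
def n67207 : Q := act 1 n31273
theorem D67207 : act 1 n31273 = n67207 := rfl
def n67208 : Q := act 4 n31273
theorem D67208 : act 4 n31273 = n67208 := rfl
def n67209 : Q := act 6 n31273
theorem D67209 : act 6 n31273 = n67209 := rfl
def n67210 : Q := act 0 n31274
theorem D67210 : act 0 n31274 = n67210 := rfl
def n67211 : Q := act 1 n31274
theorem D67211 : act 1 n31274 = n67211 := rfl
def n67212 : Q := act 5 n31274
theorem D67212 : act 5 n31274 = n67212 := rfl
def n67213 : Q := act 7 n31274
theorem D67213 : act 7 n31274 = n67213 := rfl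
theorem F103153 : act 4 n67213 = n31277 := d11_1 D67213 (iv7 D31277) (iv4 F49563)
def n67214 : Q := act 2 n31275
theorem D67214 : act 2 n31275 = n67214 := rfl
theorem F103154 : act 7 n31276 = n67214 := d15_2 (iv0 D31275) D31276 (iv2 D67214)
def n67215 : Q := act 3 n31275
theorem D67215 : act 3 n31275 = n67215 := rfl
def n67216 : Q := act 4 n31275
theorem D67216 : act 4 n31275 = n67216 := rfl
def n67217 : Q := act 5 n31275
theorem D67217 : act 5 n31275 = n67217 := rfl
def n67218 : Q := act 6 n31275
theorem D67218 : act 6 n31275 = n67218 := rfl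
def n67219 : Q := act 7 n31275
theorem D67219 : act 7 n31275 = n67219 := rfl
theorem F103155 : act 2 n67219 = n31276 := d4_1 D67219 F103154 (iv2 D67214)
def n67220 : Q := act 3 n31276
theorem D67220 : act 3 n31276 = n67220 := rfl
def n67221 : Q := act 4 n31276
theorem D67221 : act 4 n31276 = n67221 := rfl
def n67222 : Q := act 5 n31276
theorem D67222 : act 5 n31276 = n67222 := rfl
def n67223 : Q := act 6 n31276
theorem D67223 : act 6 n31276 = n67223 := rfl
def n67224 : Q := act 2 n31278
theorem D67224 : act 2 n31278 = n67224 := rfl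
theorem F103156 : act 7 n31279 = n67224 := d15_2 (iv0 D31278) D31279 (iv2 D67224)
def n67225 : Q := act 3 n31278
theorem D67225 : act 3 n31278 = n67225 := rfl
def n67226 : Q := act 4 n31278
theorem D67226 : act 4 n31278 = n67226 := rfl
def n67227 : Q := act 5 n31278
theorem D67227 : act 5 n31278 = n67227 := rfl
def n67228 : Q := act 6 n31278
theorem D67228 : act 6 n31278 = n67228 := rfl
def n67229 : Q := act 7 n31278
theorem D67229 : act 7 n31278 = n67229 := rfl
theorem F103157 : act 2 n67229 = n31279 := d4_1 D67229 F103156 (iv2 D67224)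
def n67230 : Q := act 3 n31279
theorem D67230 : act 3 n31279 = n67230 := rfl
def n67231 : Q := act 4 n31279
theorem D67231 : act 4 n31279 = n67231 := rfl
def n67232 : Q := act 5 n31279
theorem D67232 : act 5 n31279 = n67232 := rfl
def n67233 : Q := act 6 n31279
theorem D67233 : act 6 n31279 = n67233 := rfl
def n67234 : Q := act 0 n31280
theorem D67234 : act 0 n31280 = n67234 := rfl
def n67235 : Q := act 1 n31280
theorem D67235 : act 1 n31280 = n67235 := rfl
def n67236 : Q := act 4 n31280
theorem D67236 : act 4 n31280 = n67236 := rfl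
def n67238 : Q := act 3 n31281
theorem D67238 : act 3 n31281 = n67238 := rfl
def n67247 : Q := act 4 n31283
theorem D67247 : act 4 n31283 = n67247 := rfl
theorem F103160 : act 2 n67247 = n31284 := d1_1 D67247 (iv4 D31284) D31283
def n67248 : Q := act 6 n31283
theorem D67248 : act 6 n31283 = n67248 := rfl
def n67249 : Q := act 0 n31284
theorem D67249 : act 0 n31284 = n67249 := rfl
def n67250 : Q := act 1 n31284
theorem D67250 : act 1 n31284 = n67250 := rfl
theorem F103162 : act 4 n66073 = n67250 := d20_6 (iv4 D3321) D3319 (iv4 F11252) (iv3 F24315) D30902 D66073 (iv1 D67250) (iv4 D31284) (iv3 D14756) (iv1 F11281)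
def n67251 : Q := act 5 n31284
theorem D67251 : act 5 n31284 = n67251 := rfl
theorem F103163 : act 3 n67251 = n31807 := d6_1 D67251 (iv5 D31807) (iv3 F49567)
theorem F103164 : act 7 n67251 = n31889 := d13_2 F84824 D67251 F84825
def n67252 : Q := act 6 n31284
theorem D67252 : act 6 n31284 = n67252 := rfl
theorem F103165 : act 3 n67252 = n31808 := d7_1 D67252 (iv6 D31808) (iv3 F49567)
theorem F103166 : act 4 n67252 = n31285 := d10_1 D67252 (iv6 D31285) D31284
def n67255 : Q := act 5 n31285
theorem D67255 : act 5 n31285 = n67255 := rfl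
theorem F103168 : act 6 n67255 = n31459 := d12_2 D31285 D67255 (iv5 D31459) (iv6 D14826) (iv5 F24404)
def n67256 : Q := act 7 n31285
theorem D67256 : act 7 n31285 = n67256 := rfl
theorem F103169 : act 3 n67256 = n31289 := d8_1 D67256 (iv7 D31289) (iv3 F49568)
def n67257 : Q := act 2 n31286
theorem D67257 : act 2 n31286 = n67257 := rfl
theorem F103170 : act 7 n31287 = n67257 := d15_2 (iv0 D31286) D31287 (iv2 D67257)
def n67259 : Q := act 4 n31286
theorem D67259 : act 4 n31286 = n67259 := rfl
def n67261 : Q := act 6 n31286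
theorem D67261 : act 6 n31286 = n67261 := rfl
def n67262 : Q := act 7 n31286
theorem D67262 : act 7 n31286 = n67262 := rfl
theorem F103171 : act 2 n67262 = n31287 := d4_1 D67262 F103170 (iv2 D67257)
def n67263 : Q := act 3 n31287
theorem D67263 : act 3 n31287 = n67263 := rfl
def n67264 : Q := act 4 n31287
theorem D67264 : act 4 n31287 = n67264 := rfl
def n67266 : Q := act 6 n31287
theorem D67266 : act 6 n31287 = n67266 := rfl
def n67270 : Q := act 7 n31288
theorem D67270 : act 7 n31288 = n67270 := rfl
theorem F103174 : act 5 n67270 = n31289 := d13_1 D67270 (iv7 D31289) D31288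
def n67281 : Q := act 4 n31292
theorem D67281 : act 4 n31292 = n67281 := rfl
theorem F103177 : act 2 n67281 = n31293 := d1_1 D67281 (iv4 D31293) D31292
def n67282 : Q := act 6 n31292
theorem D67282 : act 6 n31292 = n67282 := rfl
theorem F103178 : act 2 n67282 = n31294 := d3_1 D67282 (iv6 D31294) D31292
def n67283 : Q := act 0 n31293
theorem D67283 : act 0 n31293 = n67283 := rfl
def n67284 : Q := act 1 n31293
theorem D67284 : act 1 n31293 = n67284 := rfl
theorem F103179 : act 4 n65734 = n67284 := d20_6 (iv4 F9172) (iv1 F9174) (iv4 F11230) (iv3 F24239) D30778 D65734 (iv1 D67284) (iv4 D31293) (iv3 D14758) (iv1 D7032)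
def n67285 : Q := act 5 n31293
theorem D67285 : act 5 n31293 = n67285 := rfl
theorem F103180 : act 3 n67285 = n31641 := d6_1 D67285 (iv5 D31641) (iv3 F49572)
def n67286 : Q := act 6 n31293
theorem D67286 : act 6 n31293 = n67286 := rfl
theorem F103181 : act 3 n67286 = n31642 := d7_1 D67286 (iv6 D31642) (iv3 F49572)
theorem F103182 : act 4 n67286 = n31294 := d10_1 D67286 (iv6 D31294) D31293
def n67287 : Q := act 0 n31294
theorem D67287 : act 0 n31294 = n67287 := rfl
def n67288 : Q := act 1 n31294
theorem D67288 : act 1 n31294 = n67288 := rfl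
def n67289 : Q := act 5 n31294
theorem D67289 : act 5 n31294 = n67289 := rfl
theorem F103183 : act 3 n67289 = n31297 := d6_1 D67289 (iv5 D31297) (iv3 F49573)
theorem F103184 : act 6 n67289 = n31761 := d12_2 D31294 D67289 (iv5 D31761) (iv6 D14939) (iv5 F24406)
def n67290 : Q := act 7 n31294
theorem D67290 : act 7 n31294 = n67290 := rfl
def n67291 : Q := act 2 n31295
theorem D67291 : act 2 n31295 = n67291 := rfl
theorem F103186 : act 7 n31296 = n67291 := d15_2 (iv0 D31295) D31296 (iv2 D67291)
def n67292 : Q := act 3 n31295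
theorem D67292 : act 3 n31295 = n67292 := rfl
def n67293 : Q := act 4 n31295
theorem D67293 : act 4 n31295 = n67293 := rfl
def n67294 : Q := act 5 n31295
theorem D67294 : act 5 n31295 = n67294 := rfl
def n67295 : Q := act 6 n31295
theorem D67295 : act 6 n31295 = n67295 := rfl
def n67296 : Q := act 7 n31295
theorem D67296 : act 7 n31295 = n67296 := rfl
theorem F103187 : act 2 n67296 = n31296 := d4_1 D67296 F103186 (iv2 D67291)
def n67297 : Q := act 3 n31296
theorem D67297 : act 3 n31296 = n67297 := rfl
def n67298 : Q := act 4 n31296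
theorem D67298 : act 4 n31296 = n67298 := rfl
def n67299 : Q := act 5 n31296
theorem D67299 : act 5 n31296 = n67299 := rfl
def n67300 : Q := act 6 n31296
theorem D67300 : act 6 n31296 = n67300 := rfl
def n67301 : Q := act 0 n31297
theorem D67301 : act 0 n31297 = n67301 := rfl
def n67302 : Q := act 1 n31297
theorem D67302 : act 1 n31297 = n67302 := rfl
theorem F103188 : act 5 n66864 = n67302 := d21_6 (iv5 D3175) D3172 D7021 D14721 D31154 D66864 (iv1 D67302) (iv5 D31297) (iv6 D14759) (iv1 D7032)
def n67303 : Q := act 4 n31297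
theorem D67303 : act 4 n31297 = n67303 := rfl
theorem F103189 : act 6 n67303 = n31765 := d10_2 (iv6 F49574) D67303 (iv4 D31765)
def n67304 : Q := act 7 n31297
theorem D67304 : act 7 n31297 = n67304 := rfl
theorem F103190 : act 5 n67304 = n31298 := d13_1 D67304 (iv7 D31298) D31297
def n67307 : Q := act 3 n31299
theorem D67307 : act 3 n31299 = n67307 := rfl
theorem F103193 : act 7 n67307 = n31305 := d8_2 F49576 D67307 (iv3 D31305)
def n67308 : Q := act 4 n31299
theorem D67308 : act 4 n31299 = n67308 := rfl
theorem F103194 : act 2 n67308 = n31301 := d1_1 D67308 (iv4 D31301) D31299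
theorem F103195 : act 7 n67308 = n31306 := d11_2 F49576 D67308 (iv4 D31306)
def n67309 : Q := act 5 n31299
theorem D67309 : act 5 n31299 = n67309 := rfl
theorem F103196 : act 2 n67309 = n31302 := d2_1 D67309 (iv5 D31302) D31299
theorem F103197 : act 7 n67309 = n31307 := d13_2 F49576 D67309 (iv5 D31307)
def n67311 : Q := act 0 n31300
theorem D67311 : act 0 n31300 = n67311 := rfl
def n67312 : Q := act 1 n31300
theorem D67312 : act 1 n31300 = n67312 := rfl
def n67313 : Q := act 2 n31300
theorem D67313 : act 2 n31300 = n67313 := rfl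
def n67314 : Q := act 4 n31300
theorem D67314 : act 4 n31300 = n67314 := rfl
def n67315 : Q := act 5 n31300
theorem D67315 : act 5 n31300 = n67315 := rfl
theorem F103199 : act 3 n67315 = n31302 := d6_1 D67315 (iv5 D31302) D31300
def n67316 : Q := act 6 n31300
theorem D67316 : act 6 n31300 = n67316 := rfl
theorem F103200 : act 3 n67316 = n31303 := d7_1 D67316 (iv6 D31303) D31300
def n67317 : Q := act 7 n31300
theorem D67317 : act 7 n31300 = n67317 := rfl
def n67319 : Q := act 1 n31301
theorem D67319 : act 1 n31301 = n67319 := rfl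
theorem F103202 : act 1 n67319 = n31306 := d15_1 D67319 (iv7 F103195) F103194
def n67322 : Q := act 6 n31301
theorem D67322 : act 6 n31301 = n67322 := rfl
theorem F103203 : act 4 n67322 = n31303 := d10_1 D67322 (iv6 D31303) D31301
def n67324 : Q := act 0 n31302
theorem D67324 : act 0 n31302 = n67324 := rfl
theorem F103207 : act 5 n67324 = n66984 := d21_2 D31302 D67324 (iv6 D66984) (iv1 D31187) (iv6 D14732) (iv5 D7024) (iv1 D3173) D3175 D7033 D14760
def n67325 : Q := act 1 n31302
theorem D67325 : act 1 n31302 = n67325 := rfl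
theorem F103208 : act 1 n67325 = n31307 := d15_1 D67325 (iv7 F103197) F103196
def n67326 : Q := act 4 n31302
theorem D67326 : act 4 n31302 = n67326 := rfl
def n67327 : Q := act 6 n31302
theorem D67327 : act 6 n31302 = n67327 := rfl
def n67328 : Q := act 7 n31302
theorem D67328 : act 7 n31302 = n67328 := rfl
theorem F103209 : act 2 n67328 = n31307 := d4_1 D67328 (iv7 F103197) F103196
theorem F103211 : act 1 n31307 = n67324 := d15_0 (iv0 D67324) D67328 F103209
def n67329 : Q := act 0 n31303
theorem D67329 : act 0 n31303 = n67329 := rfl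
def n67330 : Q := act 1 n31303
theorem D67330 : act 1 n31303 = n67330 := rfl
def n67331 : Q := act 5 n31303
theorem D67331 : act 5 n31303 = n67331 := rfl
theorem F103212 : act 0 n67331 = n66849 := d21_7 (iv5 D7024) (iv1 D3173) D3175 D7033 D14760 D31303 D67331 (iv5 D66849) (iv6 D31151) (iv1 F24381)
def n67332 : Q := act 7 n31303
theorem D67332 : act 7 n31303 = n67332 := rfl
def n67333 : Q := act 6 n31304
theorem D67333 : act 6 n31304 = n67333 := rfl
theorem F103213 : act 2 n67333 = n31308 := d3_1 D67333 (iv6 D31308) (iv2 F49577)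
def n67334 : Q := act 0 n31305
theorem D67334 : act 0 n31305 = n67334 := rfl
def n67335 : Q := act 1 n31305
theorem D67335 : act 1 n31305 = n67335 := rfl
def n67336 : Q := act 2 n31305
theorem D67336 : act 2 n31305 = n67336 := rfl
def n67337 : Q := act 4 n31305
theorem D67337 : act 4 n31305 = n67337 := rfl
def n67338 : Q := act 5 n31305
theorem D67338 : act 5 n31305 = n67338 := rfl
theorem F103214 : act 3 n67338 = n31307 := d6_1 D67338 (iv5 D31307) D31305
def n67339 : Q := act 6 n31305
theorem D67339 : act 6 n31305 = n67339 := rfl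
theorem F103215 : act 3 n67339 = n31308 := d7_1 D67339 (iv6 D31308) D31305
def n67342 : Q := act 6 n31306
theorem D67342 : act 6 n31306 = n67342 := rfl
theorem F103216 : act 4 n67342 = n31308 := d10_1 D67342 (iv6 D31308) D31306
def n67343 : Q := act 4 n31307
theorem D67343 : act 4 n31307 = n67343 := rfl
def n67344 : Q := act 6 n31307
theorem D67344 : act 6 n31307 = n67344 := rfl
theorem F103217 : act 0 n61479 = n67344 := d21_4 F24165 (iv1 F23125) D29099 D61479 (iv6 D67344) (iv5 D31307) (iv1 D14761) (iv5 F24171) (iv6 D14530) D14528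
def n67345 : Q := act 0 n31308
theorem D67345 : act 0 n31308 = n67345 := rfl
def n67346 : Q := act 1 n31308
theorem D67346 : act 1 n31308 = n67346 := rfl
def n67347 : Q := act 5 n31308
theorem D67347 : act 5 n31308 = n67347 := rfl
theorem F103218 : act 0 n66863 = n67347 := d21_1 D66863 (iv5 D67347) (iv6 D31308) (iv1 D14761) (iv6 D7033) (iv5 D3175) D3172 D7021 D14721 D31154
def n67348 : Q := act 7 n31308
theorem D67348 : act 7 n31308 = n67348 := rfl
def n67350 : Q := act 1 n31310
theorem D67350 : act 1 n31310 = n67350 := rfl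
def n67351 : Q := act 2 n31310
theorem D67351 : act 2 n31310 = n67351 := rfl
def n67352 : Q := act 4 n31310
theorem D67352 : act 4 n31310 = n67352 := rfl
def n67353 : Q := act 5 n31310
theorem D67353 : act 5 n31310 = n67353 := rfl
theorem F103219 : act 3 n67353 = n31312 := d6_1 D67353 (iv5 D31312) D31310
def n67354 : Q := act 6 n31310
theorem D67354 : act 6 n31310 = n67354 := rfl
theorem F103220 : act 3 n67354 = n31313 := d7_1 D67354 (iv6 D31313) D31310
def n67355 : Q := act 0 n31312
theorem D67355 : act 0 n31312 = n67355 := rfl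
theorem F103222 : act 1 n31317 = n67355 := d15_0 (iv0 D67355) F101327 F101325
def n67356 : Q := act 1 n31312
theorem D67356 : act 1 n31312 = n67356 := rfl
theorem F103224 : act 1 n67356 = n31317 := d15_1 D67356 (iv7 F101324) F101328
def n67357 : Q := act 4 n31312
theorem D67357 : act 4 n31312 = n67357 := rfl
def n67358 : Q := act 6 n31312
theorem D67358 : act 6 n31312 = n67358 := rfl
def n67359 : Q := act 5 n31313
theorem D67359 : act 5 n31313 = n67359 := rfl
theorem F103227 : act 2 n67359 = n65622 := d2_1 D67359 (iv5 F101360) (iv2 F101304)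
theorem F103228 : act 7 n67359 = n65621 := d13_2 (iv7 F101306) D67359 F101359
theorem F103229 : act 0 n67359 = n53404 := d17_2 (iv1 F101303) D67359 (iv5 D53404) F40873 F20360 D14189 (iv5 F24410) (iv0 F49047) (iv4 F100966)
theorem F103230 : act 1 n67359 = n65081 := d17_6 F24487 F24486 (iv1 F23354) D28908 (iv4 F101305) D67359 (iv5 D65081) F53620 F38205
def n67360 : Q := act 0 n31315
theorem D67360 : act 0 n31315 = n67360 := rfl
def n67361 : Q := act 1 n31315
theorem D67361 : act 1 n31315 = n67361 := rfl
def n67362 : Q := act 2 n31315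
theorem D67362 : act 2 n31315 = n67362 := rfl
def n67363 : Q := act 4 n31315
theorem D67363 : act 4 n31315 = n67363 := rfl
theorem F103231 : act 3 n67363 = n51256 := d5_1 D67363 (iv4 D51256) (iv3 F100181) F101310 D31315
def n67364 : Q := act 5 n31315
theorem D67364 : act 5 n31315 = n67364 := rfl
theorem F103232 : act 3 n67364 = n31317 := d6_1 D67364 (iv5 D31317) D31315
def n67365 : Q := act 6 n31315
theorem D67365 : act 6 n31315 = n67365 := rfl
theorem F103233 : act 3 n67365 = n31318 := d7_1 D67365 (iv6 D31318) D31315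
def n67366 : Q := act 4 n31317
theorem D67366 : act 4 n31317 = n67366 := rfl
def n67367 : Q := act 6 n31317
theorem D67367 : act 6 n31317 = n67367 := rfl
def n67368 : Q := act 5 n31318
theorem D67368 : act 5 n31318 = n67368 := rfl
theorem F103234 : act 2 n67368 = n66152 := d2_1 D67368 F101776 (iv2 F101313)
theorem F103235 : act 7 n67368 = n66153 := d13_2 (iv7 F101315) D67368 (iv5 F101779)
theorem F103236 : act 0 n67368 = n50665 := d17_2 (iv1 F101312) D67368 (iv5 D50665) (iv4 D24672) (iv5 D11680) D11679 (iv5 F24413) (iv0 F41040) (iv4 F84630)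
theorem F103237 : act 1 n67368 = n53500 := d17_6 D12366 (iv5 F22329) (iv1 F22332) D28041 (iv4 F101314) D67368 (iv5 D53500) F46775 F20548
def n67369 : Q := act 3 n31319
theorem D67369 : act 3 n31319 = n67369 := rfl
def n67370 : Q := act 4 n31319
theorem D67370 : act 4 n31319 = n67370 := rfl
theorem F103238 : act 5 n67370 = n67366 := d16_1 D67370 (iv4 D67366) (iv5 D31317) (iv4 F101310) (iv5 F49714) (iv4 F101295) F101297 F101299 F101329
theorem F103239 : act 1 n67370 = n66318 := d18_6 (iv1 F100811) F49798 D31502 (iv4 F101503) F101502 D67370 (iv4 D66318) D66317 F102231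
def n67371 : Q := act 6 n31319
theorem D67371 : act 6 n31319 = n67371 := rfl
def n67372 : Q := act 3 n31320
theorem D67372 : act 3 n31320 = n67372 := rfl
def n67373 : Q := act 4 n31320
theorem D67373 : act 4 n31320 = n67373 := rfl
theorem F103240 : act 5 n67373 = n67357 := d9_2 F101297 D67373 (iv4 D67357) (iv5 D31312) F101300 (iv5 F49799) (iv4 F101503) F101502 D67370 F103238 (iv4 D67366) (iv5 D31317) (iv4 F101310) (iv5 F49714) (iv4 F101295)
theorem F103241 : act 0 n67373 = n66318 := d18_2 (iv1 F53874) D67373 (iv4 D66318) (iv5 D30979) F24347 D23831 F101310 F26235 D34235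
def n67374 : Q := act 6 n31320
theorem D67374 : act 6 n31320 = n67374 := rfl
def n67375 : Q := act 0 n31321
theorem D67375 : act 0 n31321 = n67375 := rfl
theorem F103242 : act 4 n67375 = n59780 := d18_3 (iv1 D31320) D31321 D67375 F94132 (iv4 D31334) (iv0 F24409) (iv4 F49240) (iv0 F101332) F101297
def n67376 : Q := act 1 n31321
theorem D67376 : act 1 n31321 = n67376 := rfl
def n67377 : Q := act 3 n31321
theorem D67377 : act 3 n31321 = n67377 := rfl
def n67378 : Q := act 5 n31321
theorem D67378 : act 5 n31321 = n67378 := rfl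
theorem F103244 : act 2 n67378 = n65370 := d2_1 D67378 F101066 F84842
theorem F103245 : act 7 n67378 = n53823 := d13_2 F101065 D67378 (iv5 F101066)
theorem F103246 : act 4 n67378 = n34235 := d16_2 D31321 D67378 (iv5 D34235) F26233 F11961 (iv4 F26233) D34235 F53873 F41122
theorem F103247 : act 0 n67375 = n67378 := d18_2 D59780 (iv4 F103242) F103246 (iv5 D34235) F26233 F11964 D14768 (iv0 F94129) D28350
theorem F103248 : act 1 n67376 = n67378 := d15_1 D67376 F103245 F84842
def n67389 : Q := act 4 n31324
theorem D67389 : act 4 n31324 = n67389 := rfl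
theorem F103251 : act 2 n67389 = n31325 := d1_1 D67389 (iv4 D31325) D31324
def n67390 : Q := act 5 n31324
theorem D67390 : act 5 n31324 = n67390 := rfl
def n67391 : Q := act 6 n31324
theorem D67391 : act 6 n31324 = n67391 := rfl
theorem F103253 : act 2 n67391 = n31327 := d3_1 D67391 (iv6 D31327) D31324
theorem F103254 : act 5 n63183 = n67391 := d2_0 F103253 (iv5 F49582) D63183
def n67392 : Q := act 0 n31325
theorem D67392 : act 0 n31325 = n67392 := rfl
def n67393 : Q := act 3 n31325
theorem D67393 : act 3 n31325 = n67393 := rfl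
theorem F103255 : act 4 n67393 = n31330 := d5_2 D31325 D67393 (iv3 D31330) (iv4 D14768) D14767
def n67394 : Q := act 5 n31325
theorem D67394 : act 5 n31325 = n67394 := rfl
def n67395 : Q := act 6 n31325
theorem D67395 : act 6 n31325 = n67395 := rfl
theorem F103256 : act 4 n67395 = n31327 := d10_1 D67395 (iv6 D31327) D31325
def n67396 : Q := act 0 n31326
theorem D67396 : act 0 n31326 = n67396 := rfl
def n67397 : Q := act 1 n31326
theorem D67397 : act 1 n31326 = n67397 := rfl
def n67398 : Q := act 4 n31326
theorem D67398 : act 4 n31326 = n67398 := rfl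
def n67399 : Q := act 0 n31327
theorem D67399 : act 0 n31327 = n67399 := rfl
def n67400 : Q := act 1 n31327
theorem D67400 : act 1 n31327 = n67400 := rfl
def n67401 : Q := act 0 n31330
theorem D67401 : act 0 n31330 = n67401 := rfl
def n67402 : Q := act 1 n31330
theorem D67402 : act 1 n31330 = n67402 := rfl
def n67403 : Q := act 2 n31330
theorem D67403 : act 2 n31330 = n67403 := rfl
def n67404 : Q := act 5 n31330
theorem D67404 : act 5 n31330 = n67404 := rfl
theorem F103257 : act 3 n67404 = n31331 := d6_1 D67404 (iv5 D31331) D31330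
def n67405 : Q := act 6 n31330
theorem D67405 : act 6 n31330 = n67405 := rfl
theorem F103258 : act 3 n67405 = n31332 := d7_1 D67405 (iv6 D31332) D31330
def n67406 : Q := act 0 n31331
theorem D67406 : act 0 n31331 = n67406 := rfl
theorem F103259 : act 5 n67406 = n31501 := d17_3 F94129 D31331 D67406 F49798 D31503 (iv0 F49804) (iv5 D28353) (iv0 D13525) (iv4 F22666)
theorem F103260 : act 1 n31342 = n67406 := d15_0 (iv0 D67406) (iv7 F84876) F84875
def n67409 : Q := act 6 n31331
theorem D67409 : act 6 n31331 = n67409 := rfl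
def n67410 : Q := act 5 n31332
theorem D67410 : act 5 n31332 = n67410 := rfl
theorem F103266 : act 2 n67410 = n65682 := d2_1 D67410 (iv5 F101408) F84860
theorem F103267 : act 7 n67410 = n65681 := d13_2 F98885 D67410 F101407
theorem F103268 : act 0 n67410 = n31443 := d17_2 (iv1 F100957) D67410 (iv5 D31443) F24483 F11314 D14006 (iv5 F45848) (iv0 F78693) (iv4 F100955)
theorem F103269 : act 1 n67410 = n65075 := d17_6 D14499 F24145 (iv1 F23775) (iv5 F24410) (iv4 F49585) D67410 (iv5 D65075) (iv0 D30561) F24144
def n67411 : Q := act 3 n31333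
theorem D67411 : act 3 n31333 = n67411 := rfl
theorem F103270 : act 5 n67411 = n53443 := d6_2 (iv5 F49586) D67411 F84320
def n67412 : Q := act 4 n31333
theorem D67412 : act 4 n31333 = n67412 := rfl
theorem F103276 : act 0 n67412 = n65578 := d17_0 F101297 (iv1 D31320) (iv5 D14765) F11285 F5001 D7036 D14774 F49589 D67412
theorem F103277 : act 1 n67412 = n65856 := d18_6 (iv1 F49805) D59802 (iv1 F100830) F84326 (iv5 F49586) D67412 F101503 (iv0 D31502) D31503
def n67413 : Q := act 0 n31334
theorem D67413 : act 0 n31334 = n67413 := rfl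
theorem F103278 : act 4 n67413 = n31503 := d18_3 F24409 D31334 D67413 (iv5 D31503) (iv4 F49798) F100811 (iv4 D53843) (iv0 F48948) F48946
theorem F103279 : act 6 n67413 = n34121 := d21_5 D31014 (iv1 F102337) F102338 F95434 D67413 (iv5 F84602) (iv1 F84605) F49483 (iv6 F40998) (iv1 F41000)
theorem F103281 : act 1 n31344 = n67413 := d15_0 (iv0 D67413) (iv7 F84879) F84877
theorem F103282 : act 7 n67413 = n31501 := d15_2 F94134 F103281 F53690
def n67414 : Q := act 3 n31334
theorem D67414 : act 3 n31334 = n67414 := rfl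
def n67425 : Q := act 4 n31337
theorem D67425 : act 4 n31337 = n67425 := rfl
theorem F103285 : act 2 n67425 = n31338 := d1_1 D67425 (iv4 D31338) D31337
def n67426 : Q := act 5 n31337
theorem D67426 : act 5 n31337 = n67426 := rfl
theorem F103286 : act 2 n67426 = n31339 := d2_1 D67426 (iv5 D31339) D31337
theorem F103287 : act 6 n65586 = n67426 := d3_0 F103286 (iv6 F49592) D65586
def n67427 : Q := act 6 n31337
theorem D67427 : act 6 n31337 = n67427 := rfl
theorem F103288 : act 2 n67427 = n31340 := d3_1 D67427 (iv6 D31340) D31337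
theorem F103289 : act 5 n50658 = n67427 := d2_0 F103288 (iv5 F49594) D50658
def n67428 : Q := act 0 n31338
theorem D67428 : act 0 n31338 = n67428 := rfl
def n67429 : Q := act 1 n31338
theorem D67429 : act 1 n31338 = n67429 := rfl
def n67430 : Q := act 3 n31338
theorem D67430 : act 3 n31338 = n67430 := rfl
theorem F103290 : act 4 n67430 = n31341 := d5_2 D31338 D67430 (iv3 D31341) (iv4 D14773) D14772
def n67431 : Q := act 5 n31338
theorem D67431 : act 5 n31338 = n67431 := rfl
def n67432 : Q := act 6 n31338
theorem D67432 : act 6 n31338 = n67432 := rfl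
theorem F103291 : act 4 n67432 = n31340 := d10_1 D67432 (iv6 D31340) D31338
def n67433 : Q := act 0 n31339
theorem D67433 : act 0 n31339 = n67433 := rfl
def n67434 : Q := act 1 n31339
theorem D67434 : act 1 n31339 = n67434 := rfl
def n67435 : Q := act 4 n31339
theorem D67435 : act 4 n31339 = n67435 := rfl
theorem F103292 : act 6 n67435 = n65587 := d10_2 F49592 D67435 (iv4 D65587)
def n67436 : Q := act 0 n31340
theorem D67436 : act 0 n31340 = n67436 := rfl
def n67437 : Q := act 1 n31340
theorem D67437 : act 1 n31340 = n67437 := rfl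
def n67438 : Q := act 0 n31341
theorem D67438 : act 0 n31341 = n67438 := rfl
def n67439 : Q := act 1 n31341
theorem D67439 : act 1 n31341 = n67439 := rfl
def n67440 : Q := act 2 n31341
theorem D67440 : act 2 n31341 = n67440 := rfl
def n67441 : Q := act 5 n31341
theorem D67441 : act 5 n31341 = n67441 := rfl
def n67442 : Q := act 6 n31341
theorem D67442 : act 6 n31341 = n67442 := rfl
theorem F103294 : act 3 n67442 = n31343 := d7_1 D67442 (iv6 D31343) D31341
def n67444 : Q := act 6 n31342
theorem D67444 : act 6 n31342 = n67444 := rfl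
def n67445 : Q := act 5 n31343
theorem D67445 : act 5 n31343 = n67445 := rfl
theorem F103296 : act 2 n67445 = n66124 := d2_1 D67445 F101758 F81731
theorem F103297 : act 7 n67445 = n66125 := d13_2 F81708 D67445 (iv5 F101761)
theorem F103298 : act 0 n67445 = n31777 := d17_2 (iv1 F84594) D67445 (iv5 D31777) (iv4 D14948) F11440 D13426 D28132 (iv0 F76972) (iv4 F84590)
theorem F103299 : act 1 n67445 = n31773 := d17_6 D12298 (iv5 F20407) (iv1 F19690) (iv5 F24413) (iv4 F49595) D67445 (iv5 D31773) F48930 F20401
def n67446 : Q := act 3 n31344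
theorem D67446 : act 3 n31344 = n67446 := rfl
theorem F103300 : act 6 n67446 = n65588 := d7_2 (iv6 F49596) D67446 (iv3 D65588)
def n67447 : Q := act 0 n31345
theorem D67447 : act 0 n31345 = n67447 := rfl
theorem F103301 : act 1 n63327 = n67447 := d15_0 (iv0 D67447) F49600 (iv2 F98576)
def n67448 : Q := act 1 n31345
theorem D67448 : act 1 n31345 = n67448 := rfl
theorem F103302 : act 1 n67448 = n63327 := d15_1 D67448 F98578 F79544
def n67449 : Q := act 3 n31346
theorem D67449 : act 3 n31346 = n67449 := rfl
theorem F103303 : act 7 n67449 = n52202 := d8_2 (iv7 F49602) D67449 (iv3 D52202)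
def n67450 : Q := act 6 n31346
theorem D67450 : act 6 n31346 = n67450 := rfl
theorem F103304 : act 2 n67450 = n59663 := d3_1 D67450 (iv6 D59663) (iv2 F49601)
theorem F103305 : act 4 n67450 = n31347 := d10_1 D67450 (iv6 D31347) D31346
theorem F103306 : act 7 n67450 = n52213 := d14_2 (iv7 F49602) D67450 (iv6 D52213) (iv7 D25359) (iv6 F40076)
def n67451 : Q := act 0 n31348
theorem D67451 : act 0 n31348 = n67451 := rfl
theorem F103307 : act 1 n60461 = n67451 := d15_0 (iv0 D67451) F49609 D60461
def n67452 : Q := act 1 n31348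
theorem D67452 : act 1 n31348 = n67452 := rfl
def n67453 : Q := act 2 n31348
theorem D67453 : act 2 n31348 = n67453 := rfl
theorem F103308 : act 4 n67453 = n66510 := d1_2 (iv4 F49608) D67453 (iv2 D66510)
theorem F103309 : act 7 n67453 = n60461 := d4_2 (iv7 F49609) D67453 (iv2 D60461)
theorem F103310 : act 1 n67453 = n60459 := d15_0 (iv0 D60459) (iv7 F49609) D67453
theorem F103311 : act 1 n67452 = n60461 := d15_1 D67452 (iv7 F103309) (iv2 D67453)
theorem F103312 : act 1 n60460 = n67453 := d15_1 D60460 F103309 (iv2 D60461)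
def n67454 : Q := act 5 n31348
theorem D67454 : act 5 n31348 = n67454 := rfl
theorem F103313 : act 3 n67454 = n31349 := d6_1 D67454 (iv5 D31349) D31348
theorem F103314 : act 7 n67454 = n60462 := d13_2 (iv7 F49609) D67454 (iv5 D60462)
def n67455 : Q := act 6 n31348
theorem D67455 : act 6 n31348 = n67455 := rfl
theorem F103315 : act 3 n67455 = n31350 := d7_1 D67455 (iv6 D31350) D31348
theorem F103316 : act 4 n67455 = n66511 := d10_1 D67455 (iv6 D66511) (iv4 F49608)
def n67456 : Q := act 6 n31349
theorem D67456 : act 6 n31349 = n67456 := rfl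
def n67457 : Q := act 0 n31350
theorem D67457 : act 0 n31350 = n67457 := rfl
theorem F103317 : act 1 n52155 = n67457 := d15_0 (iv0 D67457) (iv7 F82367) (iv2 F82444)
def n67458 : Q := act 1 n31350
theorem D67458 : act 1 n31350 = n67458 := rfl
theorem F103318 : act 1 n67458 = n52155 := d15_1 D67458 (iv7 F85009) F85007
def n67459 : Q := act 5 n31350
theorem D67459 : act 5 n31350 = n67459 := rfl
def n67460 : Q := act 2 n31351
theorem D67460 : act 2 n31351 = n67460 := rfl
theorem F103319 : act 7 n31352 = n67460 := d15_2 (iv0 D31351) D31352 (iv2 D67460)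
def n67461 : Q := act 3 n31351
theorem D67461 : act 3 n31351 = n67461 := rfl
def n67462 : Q := act 4 n31351
theorem D67462 : act 4 n31351 = n67462 := rfl
def n67463 : Q := act 5 n31351
theorem D67463 : act 5 n31351 = n67463 := rfl
def n67464 : Q := act 6 n31351
theorem D67464 : act 6 n31351 = n67464 := rfl
theorem F103320 : act 5 n67464 = n60487 := d21_6 (iv5 D3215) D3212 D7040 D14779 D31351 D67464 (iv1 D60487) F46341 (iv6 D14790) (iv1 D7050)
def n67465 : Q := act 7 n31351
theorem D67465 : act 7 n31351 = n67465 := rfl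
theorem F103321 : act 2 n67465 = n31352 := d4_1 D67465 F103319 (iv2 D67460)
def n67468 : Q := act 5 n31352
theorem D67468 : act 5 n31352 = n67468 := rfl
theorem F103322 : act 6 n67468 = n53915 := d12_2 F93323 D67468 (iv5 F93325) (iv6 D59146) D59145
def n67469 : Q := act 0 n31353
theorem D67469 : act 0 n31353 = n67469 := rfl
def n67470 : Q := act 1 n31353
theorem D67470 : act 1 n31353 = n67470 := rfl
def n67471 : Q := act 2 n31353
theorem D67471 : act 2 n31353 = n67471 := rfl
theorem F103323 : act 3 n67471 = n31381 := d0_2 D31353 D67471 (iv2 D31381) (iv3 D14793) (iv2 F24422)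
theorem F103324 : act 4 n67471 = n51167 := d1_2 (iv4 F49615) D67471 (iv2 D51167)
def n67472 : Q := act 5 n31353
theorem D67472 : act 5 n31353 = n67472 := rfl
theorem F103325 : act 3 n67472 = n31354 := d6_1 D67472 (iv5 D31354) D31353
def n67473 : Q := act 6 n31353
theorem D67473 : act 6 n31353 = n67473 := rfl
theorem F103326 : act 3 n67473 = n31355 := d7_1 D67473 (iv6 D31355) D31353
theorem F103327 : act 4 n67473 = n51168 := d10_1 D67473 (iv6 D51168) (iv4 F49615)
def n67474 : Q := act 6 n31354
theorem D67474 : act 6 n31354 = n67474 := rfl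
theorem F103328 : act 2 n67474 = n31387 := d3_1 D67474 (iv6 D31387) (iv2 F49616)
theorem F103329 : act 4 n67474 = n53930 := d10_1 D67474 (iv6 D53930) (iv4 F49617)
def n67475 : Q := act 1 n31355
theorem D67475 : act 1 n31355 = n67475 := rfl
theorem F103330 : act 1 n67475 = n31391 := d15_1 D67475 (iv7 D31391) (iv2 F49618)
theorem F103331 : act 7 n67475 = n31388 := d15_2 (iv0 F101184) D67475 (iv2 F101239)
theorem F103332 : act 2 n31389 = n67475 := d4_3 F103331 (iv2 F101239) F101238
def n67476 : Q := act 5 n31355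
theorem D67476 : act 5 n31355 = n67476 := rfl
theorem F103333 : act 2 n67476 = n31390 := d2_1 D67476 (iv5 D31390) (iv2 F49618)
def n67477 : Q := act 7 n31355
theorem D67477 : act 7 n31355 = n67477 := rfl
theorem F103334 : act 2 n67477 = n31391 := d4_1 D67477 (iv7 D31391) (iv2 F49618)
theorem F103335 : act 4 n67477 = n31358 := d11_1 D67477 (iv7 D31358) (iv4 F49619)
theorem F103336 : act 1 n31389 = n67477 := d15_1 D31389 (iv7 D67477) F49618
theorem F103337 : act 1 n67477 = n31388 := d15_1 F103336 (iv7 F103331) (iv2 F103332)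
def n67478 : Q := act 2 n31356
theorem D67478 : act 2 n31356 = n67478 := rfl
theorem F103339 : act 7 n31357 = n67478 := d15_2 (iv0 D31356) D31357 (iv2 D67478)
def n67479 : Q := act 3 n31356
theorem D67479 : act 3 n31356 = n67479 := rfl
theorem F103340 : act 5 n67479 = n49642 := d6_2 (iv5 F49620) D67479 (iv3 D49642)
def n67480 : Q := act 4 n31356
theorem D67480 : act 4 n31356 = n67480 := rfl
def n67481 : Q := act 7 n31356
theorem D67481 : act 7 n31356 = n67481 := rfl
theorem F103341 : act 2 n67481 = n31357 := d4_1 D67481 F103339 (iv2 D67478)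
theorem F103342 : act 5 n67481 = n49638 := d13_1 D67481 (iv7 F78408) (iv5 F49620)
def n67482 : Q := act 3 n31357
theorem D67482 : act 3 n31357 = n67482 := rfl
theorem F103343 : act 5 n67482 = n49639 := d6_2 F49622 D67482 (iv3 D49639)
theorem F103344 : act 4 n67482 = n53390 := d20_6 D25886 F53783 F24489 (iv3 F24448) (iv1 F49621) D67482 (iv1 D53390) F40868 F20346 D12286
def n67483 : Q := act 4 n31357
theorem D67483 : act 4 n31357 = n67483 := rfl
def n67484 : Q := act 6 n31357
theorem D67484 : act 6 n31357 = n67484 := rfl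
theorem F103345 : act 0 n67484 = n67463 := d21_10 (iv5 D67463) (iv1 F49613) F40004 (iv6 D25327) (iv1 F19892) (iv6 F37931) (iv5 D24207) D24205 F49622 D67484
def n67485 : Q := act 0 n31359
theorem D67485 : act 0 n31359 = n67485 := rfl
def n67486 : Q := act 1 n31359
theorem D67486 : act 1 n31359 = n67486 := rfl
def n67487 : Q := act 7 n31359
theorem D67487 : act 7 n31359 = n67487 := rfl
theorem F103346 : act 3 n67487 = n31365 := d8_1 D67487 (iv7 D31365) (iv3 F49628)
theorem F103347 : act 4 n67487 = n65959 := d11_1 D67487 (iv7 D65959) (iv4 F49629)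
theorem F103348 : act 5 n67487 = n65896 := d13_1 D67487 F101580 F80628
theorem F103349 : act 6 n63364 = n67487 := d21_5 F48072 (iv1 F23718) D14218 D29939 D63364 F103348 (iv1 D65896) F49288 (iv6 D29941) (iv1 F48074)
theorem F103350 : act 3 n34260 = n63364 := d7_3 F103349 F103346 F53922
theorem F103351 : act 7 n50195 = n63364 := d14_0 F103349 (iv7 D67487) (iv6 D31359) (iv7 F40859) D50195
theorem F103352 : act 5 n63364 = n60584 := d13_1 F103351 (iv7 D60584) (iv5 F79554)
def n67488 : Q := act 0 n31360
theorem D67488 : act 0 n31360 = n67488 := rfl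
def n67489 : Q := act 1 n31360
theorem D67489 : act 1 n31360 = n67489 := rfl
def n67490 : Q := act 2 n31360
theorem D67490 : act 2 n31360 = n67490 := rfl
theorem F103353 : act 4 n67490 = n65952 := d1_2 (iv4 F49630) D67490 (iv2 D65952)
def n67491 : Q := act 5 n31360
theorem D67491 : act 5 n31360 = n67491 := rfl
theorem F103354 : act 3 n67491 = n31361 := d6_1 D67491 (iv5 D31361) D31360
def n67492 : Q := act 6 n31360
theorem D67492 : act 6 n31360 = n67492 := rfl
theorem F103355 : act 3 n67492 = n31362 := d7_1 D67492 (iv6 D31362) D31360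
theorem F103356 : act 4 n67492 = n65954 := d10_1 D67492 (iv6 D65954) (iv4 F49630)
def n67493 : Q := act 6 n31361
theorem D67493 : act 6 n31361 = n67493 := rfl
def n67494 : Q := act 0 n31362
theorem D67494 : act 0 n31362 = n67494 := rfl
def n67495 : Q := act 1 n31362
theorem D67495 : act 1 n31362 = n67495 := rfl
def n67496 : Q := act 5 n31362
theorem D67496 : act 5 n31362 = n67496 := rfl
def n67497 : Q := act 7 n31362
theorem D67497 : act 7 n31362 = n67497 := rfl
theorem F103357 : act 4 n67497 = n31365 := d11_1 D67497 (iv7 D31365) (iv4 F49631)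
def n67498 : Q := act 3 n31363
theorem D67498 : act 3 n31363 = n67498 := rfl
def n67499 : Q := act 4 n31363
theorem D67499 : act 4 n31363 = n67499 := rfl
def n67500 : Q := act 5 n31363
theorem D67500 : act 5 n31363 = n67500 := rfl
theorem F103358 : act 2 n67500 = n59146 := d2_1 D67500 F93325 F93328
theorem F103359 : act 6 n67500 = n49074 := d21_3 F45157 D31363 D67500 (iv1 D49074) (iv6 D23941) (iv5 F18596) (iv1 F18601) (iv5 F19077) D24778 F45158
theorem F103360 : act 0 n59210 = n67500 := d21_10 (iv5 D67500) (iv1 F85034) F85030 (iv6 F92894) (iv1 F92896) D58832 F93006 F93412 (iv5 D59209) D59210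
theorem E9406 : n59142 = n49074 := ((c3_1 F103359 F93322 D59146 (iv2 F103358))).symm
theorem F103361 : act 2 n49074 = n28094 := (sb E9406 F93322)
theorem F103362 : act 7 n49074 = n28093 := (sb E9406 (iv7 D59142))
theorem E9407 : n59138 = n49073 := (c15_4 (iv0 D49073) D49074 F103362 D59138)
theorem F103363 : act 2 n49073 = n28093 := (sb E9407 (iv2 D59138))
theorem E9408 : n58907 = n58783 := ((((iv6 F92925)).symm.trans (sb E9407 F93318))).symm
theorem F103364 : act 7 n49073 = n28094 := (sb E9407 (iv7 F93319))
theorem F103365 : act 2 n58783 = n28003 := (sb E9408 F93121)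
theorem E9409 : n61945 = n49263 := ((((iv5 F92924)).symm.trans (sb E9408 (iv5 F96542)))).symm
theorem F103366 : act 7 n58783 = n28002 := (sb E9408 (iv7 D58907))
theorem F103367 : act 2 n49263 = n29343 := (sb E9409 F96541)
theorem E9410 : n60599 = n60486 := ((((iv6 F95070)).symm.trans (sb E9409 (iv6 F96543)))).symm
theorem F103368 : act 7 n49263 = n29342 := (sb E9409 (iv7 D61945))
theorem F103369 : act 2 n60486 = n28775 := (sb E9410 (iv2 D60599))
theorem F103370 : act 7 n60486 = n28776 := (sb E9410 (iv7 F95220))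
theorem E9411 : n60603 = n60487 := (c15_4 F95072 (iv0 F95071) F103370 (iv2 F95222))
theorem F103371 : act 2 n60487 = n28776 := (sb E9411 F95222)
theorem F103372 : act 7 n60487 = n28775 := (sb E9411 (iv7 D60603))
theorem F103373 : act 7 n60602 = n67464 := d13_2 F103372 D60602 F103320
theorem F103374 : act 2 n60606 = n67464 := d2_3 F103320 F103371 D60606
theorem E9412 : n67460 = n52109 := (c3_4 (iv6 F95223) F103374 (iv6 D67464) D67460)
theorem F103375 : act 2 n52109 = n31351 := (sb E9412 (iv2 D67460))
theorem F103376 : act 7 n52109 = n31352 := (sb E9412 (iv7 F103319))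
theorem E9413 : n67465 = n52108 := (c15_4 (iv0 D52108) D52109 F103376 (iv2 F103321))
theorem F103377 : act 2 n52108 = n31352 := (sb E9413 F103321)
theorem F103378 : act 7 n52108 = n31351 := (sb E9413 (iv7 D67465))
theorem E9414 : n61941 = n49262 := (c15_4 (iv0 D49262) D49263 F103368 D61941)
theorem F103379 : act 2 n49262 = n29342 := (sb E9414 (iv2 D61941))
theorem E9415 : n58903 = n58782 := ((((iv5 F92922)).symm.trans (sb E9414 F96537))).symm
theorem F103380 : act 7 n49262 = n29343 := (sb E9414 (iv7 F96538))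
theorem F103381 : act 2 n58782 = n28002 := (sb E9415 (iv2 D58903))
theorem F103382 : act 7 n58782 = n28003 := (sb E9415 (iv7 F93119))
def n67501 : Q := act 6 n31363
theorem D67501 : act 6 n31363 = n67501 := rfl
theorem F103383 : act 2 n67501 = n67468 := d3_1 D67501 F103322 F93328
theorem F103384 : act 0 n67501 = n31399 := d21_4 (iv5 F93413) F103360 (iv5 D67500) D67501 (iv6 D31399) (iv5 F39040) (iv1 F39047) (iv5 F78412) (iv6 F79066) (iv1 F82347)
theorem F103385 : act 5 n67501 = n52108 := d21_6 F11970 F24470 (iv5 F22179) D14787 D31363 D67501 (iv1 F82368) F41223 (iv6 D26066) (iv1 F20539)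
theorem F103386 : act 7 n67463 = n67501 := d13_0 F103385 F103378 D67463
def n67502 : Q := act 3 n31364
theorem D67502 : act 3 n31364 = n67502 := rfl
def n67503 : Q := act 4 n31364
theorem D67503 : act 4 n31364 = n67503 := rfl
theorem F103387 : act 0 n67503 = n31375 := d18_2 (iv1 F85033) D67503 F82625 (iv5 D52254) (iv4 F82616) (iv0 F82617) F80394 F45257 (iv5 F85030)
def n67504 : Q := act 6 n31364
theorem D67504 : act 6 n31364 = n67504 := rfl
theorem F103388 : act 5 n67504 = n61944 := d12_1 D67504 (iv6 D61944) (iv5 F77844) D58906 F93120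
theorem F103389 : act 7 n61896 = n67504 := d13_0 F103388 F96544 (iv5 F96489)
theorem F103390 : act 0 n61899 = n67504 := d21_1 (iv5 F96495) F103388 (iv6 D61944) (iv1 F77843) F77840 (iv5 F50025) (iv1 F78387) (iv5 F95138) F95139 (iv1 F77804)
theorem F103391 : act 0 n67504 = n49249 := d21_7 F37564 F22687 F18022 D13960 D29342 D61944 (iv5 F103388) (iv5 D49249) (iv6 D24034) (iv1 F37562)
theorem F103392 : act 2 n67504 = n61897 := d15_3 F96491 (iv0 F96490) F103389
theorem F103393 : act 6 n61897 = n53916 := d3_2 D67504 F103392 (iv2 F93327)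
def n67505 : Q := act 3 n31366
theorem D67505 : act 3 n31366 = n67505 := rfl
theorem F103394 : act 4 n67505 = n31368 := d5_2 D31366 D67505 (iv3 D31368) (iv4 D14789) D14788
theorem F103395 : act 7 n67505 = n53204 := d8_2 (iv7 F49633) D67505 (iv3 D53204)
def n67506 : Q := act 6 n31366
theorem D67506 : act 6 n31366 = n67506 := rfl
theorem F103396 : act 2 n67506 = n53209 := d3_1 D67506 (iv6 D53209) (iv2 F49632)
theorem F103397 : act 4 n67506 = n31367 := d10_1 D67506 (iv6 D31367) D31366
def n67507 : Q := act 1 n31367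
theorem D67507 : act 1 n31367 = n67507 := rfl
theorem F103398 : act 7 n67507 = n49918 := d15_2 (iv0 F98343) D67507 (iv2 F98341)
def n67508 : Q := act 7 n31367
theorem D67508 : act 7 n31367 = n67508 := rfl
theorem F103399 : act 3 n67508 = n31372 := d8_1 D67508 (iv7 D31372) (iv3 F49636)
def n67509 : Q := act 0 n31368
theorem D67509 : act 0 n31368 = n67509 := rfl
def n67510 : Q := act 1 n31368
theorem D67510 : act 1 n31368 = n67510 := rfl
def n67511 : Q := act 2 n31368
theorem D67511 : act 2 n31368 = n67511 := rfl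
def n67512 : Q := act 5 n31368
theorem D67512 : act 5 n31368 = n67512 := rfl
theorem F103400 : act 3 n67512 = n31369 := d6_1 D67512 (iv5 D31369) D31368
def n67513 : Q := act 6 n31368
theorem D67513 : act 6 n31368 = n67513 := rfl
theorem F103401 : act 3 n67513 = n31370 := d7_1 D67513 (iv6 D31370) D31368
def n67514 : Q := act 6 n31369
theorem D67514 : act 6 n31369 = n67514 := rfl
def n67515 : Q := act 1 n31370
theorem D67515 : act 1 n31370 = n67515 := rfl
theorem F103402 : act 7 n67515 = n52157 := d15_2 (iv0 F95002) D67515 F82448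
theorem F103403 : act 2 n62599 = n67515 := d4_3 F103402 F82448 D62599
theorem F103404 : act 4 n52160 = n67515 := d11_3 F103402 F82449 D52160
theorem F103405 : act 1 n67515 = n62597 := d15_0 (iv0 D62597) D62599 F103403
theorem F103406 : act 7 n62597 = n53910 := d15_2 D67515 F103405 F85015
theorem F103407 : act 4 n34260 = n62597 := d20_0 (iv1 F103405) (iv4 F103404) F82458 (iv1 F48615) F24025 (iv4 F24230) F27063 F27062 (iv3 F27060) D34260
theorem F103408 : act 6 n62597 = n67497 := d10_2 F53922 F103407 F103357
def n67516 : Q := act 5 n31370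
theorem D67516 : act 5 n31370 = n67516 := rfl
def n67517 : Q := act 7 n31370
theorem D67517 : act 7 n31370 = n67517 := rfl
theorem F103409 : act 2 n67517 = n62597 := d4_1 D67517 F103406 F85015
theorem F103410 : act 4 n67517 = n31372 := d11_1 D67517 (iv7 D31372) (iv4 F49637)
theorem F103411 : act 1 n62599 = n67517 := d15_1 F97615 (iv7 D67517) (iv2 F85015)
theorem F103412 : act 1 n67517 = n52157 := d15_1 F103411 (iv7 F103402) (iv2 F103403)
def n67518 : Q := act 4 n31371
theorem D67518 : act 4 n31371 = n67518 := rfl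
theorem F103413 : act 7 n67518 = n52146 := d11_2 (iv7 F49638) D67518 F82432
theorem F103414 : act 1 n31378 = n67518 := d15_1 (iv0 F80755) F103413 F82431
theorem F103415 : act 0 n51296 = n65458 := d20_1 (iv4 F80916) (iv4 F101618) (iv3 F101616) (iv1 F78387) (iv3 F78390) D67518 (iv1 F103414) (iv4 F82455) F82454 F40922
def n67519 : Q := act 0 n31373
theorem D67519 : act 0 n31373 = n67519 := rfl
def n67520 : Q := act 1 n31373
theorem D67520 : act 1 n31373 = n67520 := rfl
def n67521 : Q := act 2 n31373
theorem D67521 : act 2 n31373 = n67521 := rfl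
def n67522 : Q := act 4 n31373
theorem D67522 : act 4 n31373 = n67522 := rfl
theorem F103416 : act 3 n67522 = n50424 := d5_1 D67522 (iv4 D50424) (iv3 F40138) F40141 D31373
def n67523 : Q := act 5 n31373
theorem D67523 : act 5 n31373 = n67523 := rfl
theorem F103417 : act 3 n67523 = n31374 := d6_1 D67523 (iv5 D31374) D31373
def n67524 : Q := act 6 n31373
theorem D67524 : act 6 n31373 = n67524 := rfl
theorem F103418 : act 3 n67524 = n31375 := d7_1 D67524 (iv6 D31375) D31373
def n67525 : Q := act 6 n31374
theorem D67525 : act 6 n31374 = n67525 := rfl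
theorem F103419 : act 4 n67525 = n67514 := d10_1 D67525 (iv6 D67514) (iv4 F49639)
def n67526 : Q := act 0 n31375
theorem D67526 : act 0 n31375 = n67526 := rfl
def n67527 : Q := act 5 n31375
theorem D67527 : act 5 n31375 = n67527 := rfl
def n67528 : Q := act 7 n31375
theorem D67528 : act 7 n31375 = n67528 := rfl
def n67529 : Q := act 0 n31376
theorem D67529 : act 0 n31376 = n67529 := rfl
def n67530 : Q := act 1 n31376
theorem D67530 : act 1 n31376 = n67530 := rfl
def n67531 : Q := act 2 n31376
theorem D67531 : act 2 n31376 = n67531 := rfl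
def n67532 : Q := act 5 n31376
theorem D67532 : act 5 n31376 = n67532 := rfl
theorem F103420 : act 3 n67532 = n31377 := d6_1 D67532 (iv5 D31377) D31376
def n67533 : Q := act 6 n31376
theorem D67533 : act 6 n31376 = n67533 := rfl
theorem F103421 : act 3 n67533 = n31378 := d7_1 D67533 (iv6 D31378) D31376
def n67534 : Q := act 6 n31377
theorem D67534 : act 6 n31377 = n67534 := rfl
theorem F103422 : act 4 n67534 = n67493 := d10_1 D67534 (iv6 D67493) (iv4 F49641)
def n67535 : Q := act 5 n31378
theorem D67535 : act 5 n31378 = n67535 := rfl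
def n67536 : Q := act 2 n31379
theorem D67536 : act 2 n31379 = n67536 := rfl
theorem F103423 : act 7 n31380 = n67536 := d15_2 (iv0 D31379) D31380 (iv2 D67536)
theorem F103424 : act 4 n67536 = n66034 := d11_1 F103423 (iv7 D66034) F49643
def n67537 : Q := act 4 n31379
theorem D67537 : act 4 n31379 = n67537 := rfl
theorem F103425 : act 2 n67537 = n66034 := d1_1 D67537 (iv4 F103424) (iv2 D67536)
theorem F103426 : act 3 n66053 = n67537 := d0_0 F103425 F101714 F49350 D30896 D66053
theorem F103427 : act 7 n66031 = n67537 := d4_0 F103425 (iv7 D66034) D66031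
theorem F103428 : act 1 n67537 = n66029 := d15_0 (iv0 D66029) D66034 (iv2 F103425)
theorem F103429 : act 1 n66030 = n67537 := d15_1 D66030 (iv7 F103427) (iv2 D66031)
theorem F103430 : act 4 n64472 = n66053 := d5_0 F103426 (iv4 D67537) F100418 (iv4 D64473) D64472
theorem F103431 : act 2 n66054 = n64472 := d1_3 F103430 (iv2 D66053) D66054
def n67538 : Q := act 5 n31379
theorem D67538 : act 5 n31379 = n67538 := rfl
def n67539 : Q := act 6 n31379
theorem D67539 : act 6 n31379 = n67539 := rfl
def n67540 : Q := act 7 n31379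
theorem D67540 : act 7 n31379 = n67540 := rfl
theorem F103432 : act 2 n67540 = n31380 := d4_1 D67540 F103423 (iv2 D67536)
theorem F103433 : act 4 n67540 = n66031 := d11_1 D67540 F103427 (iv4 D67537)
def n67541 : Q := act 3 n31380
theorem D67541 : act 3 n31380 = n67541 := rfl
theorem F103434 : act 4 n67541 = n66037 := d5_2 F49643 D67541 (iv3 D66037) (iv4 D30892) D30891
def n67542 : Q := act 5 n31380
theorem D67542 : act 5 n31380 = n67542 := rfl
def n67543 : Q := act 6 n31380
theorem D67543 : act 6 n31380 = n67543 := rfl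
theorem F103435 : act 4 n67543 = n66033 := d10_1 D67543 (iv6 D66033) F49643
def n67544 : Q := act 5 n31381
theorem D67544 : act 5 n31381 = n67544 := rfl
theorem F103436 : act 2 n67544 = n31382 := d2_1 D67544 (iv5 D31382) D31381
def n67545 : Q := act 6 n31381
theorem D67545 : act 6 n31381 = n67545 := rfl
theorem F103437 : act 2 n67545 = n31383 := d3_1 D67545 (iv6 D31383) D31381
theorem F103438 : act 4 n67545 = n31456 := d10_1 D67545 (iv6 D31456) (iv4 F49644)
def n67546 : Q := act 0 n31382
theorem D67546 : act 0 n31382 = n67546 := rfl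
def n67547 : Q := act 1 n31382
theorem D67547 : act 1 n31382 = n67547 := rfl
def n67548 : Q := act 4 n31382
theorem D67548 : act 4 n31382 = n67548 := rfl
def n67549 : Q := act 6 n31382
theorem D67549 : act 6 n31382 = n67549 := rfl
theorem F103439 : act 3 n67549 = n31387 := d7_1 D67549 (iv6 D31387) (iv3 F49645)
def n67550 : Q := act 0 n31383
theorem D67550 : act 0 n31383 = n67550 := rfl
def n67551 : Q := act 1 n31383
theorem D67551 : act 1 n31383 = n67551 := rfl
def n67552 : Q := act 5 n31383
theorem D67552 : act 5 n31383 = n67552 := rfl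
theorem F103440 : act 3 n67552 = n31390 := d6_1 D67552 (iv5 D31390) (iv3 F49646)
def n67553 : Q := act 7 n31383
theorem D67553 : act 7 n31383 = n67553 := rfl
theorem F103442 : act 4 n67553 = n31460 := d11_1 D67553 (iv7 D31460) (iv4 F49647)
def n67554 : Q := act 3 n31384
theorem D67554 : act 3 n31384 = n67554 := rfl
theorem F103443 : act 5 n67554 = n67449 := d6_2 (iv5 F49648) D67554 (iv3 D67449)
def n67555 : Q := act 6 n31384
theorem D67555 : act 6 n31384 = n67555 := rfl
theorem F103444 : act 4 n67555 = n60475 := d10_1 D67555 (iv6 D60475) F49649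
def n67556 : Q := act 3 n31385
theorem D67556 : act 3 n31385 = n67556 := rfl
theorem F103445 : act 5 n67556 = n52181 := d6_2 (iv5 F49650) D67556 (iv3 D52181)
def n67557 : Q := act 6 n31385
theorem D67557 : act 6 n31385 = n67557 := rfl
theorem F103447 : act 5 n67557 = n52193 := d12_1 D67557 (iv6 D52193) (iv5 D25349) (iv6 F40054) (iv5 F49650)
def n67558 : Q := act 3 n31386
theorem D67558 : act 3 n31386 = n67558 := rfl
theorem F103448 : act 5 n67558 = n49653 := d6_2 (iv5 F49654) D67558 (iv3 D49653)
theorem F103449 : act 7 n67558 = n67472 := d8_2 (iv7 F49653) D67558 F103325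
def n67559 : Q := act 6 n31386
theorem D67559 : act 6 n31386 = n67559 := rfl
theorem F103450 : act 2 n67559 = n53930 := d3_1 D67559 (iv6 D53930) (iv2 F49652)
theorem F103451 : act 4 n67559 = n31387 := d10_1 D67559 (iv6 D31387) D31386
def n67560 : Q := act 0 n31387
theorem D67560 : act 0 n31387 = n67560 := rfl
def n67561 : Q := act 1 n31387
theorem D67561 : act 1 n31387 = n67561 := rfl
def n67562 : Q := act 5 n31387
theorem D67562 : act 5 n31387 = n67562 := rfl
theorem F103452 : act 6 n67562 = n31390 := d12_2 D31387 D67562 (iv5 D31390) (iv6 D14795) D14794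
def n67563 : Q := act 7 n31387
theorem D67563 : act 7 n31387 = n67563 := rfl
def n67564 : Q := act 3 n31388
theorem D67564 : act 3 n31388 = n67564 := rfl
def n67565 : Q := act 5 n31388
theorem D67565 : act 5 n31388 = n67565 := rfl
def n67566 : Q := act 6 n31388
theorem D67566 : act 6 n31388 = n67566 := rfl
def n67567 : Q := act 3 n31389
theorem D67567 : act 3 n31389 = n67567 := rfl
def n67568 : Q := act 5 n31389
theorem D67568 : act 5 n31389 = n67568 := rfl
def n67569 : Q := act 6 n31389
theorem D67569 : act 6 n31389 = n67569 := rfl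
def n67570 : Q := act 0 n31390
theorem D67570 : act 0 n31390 = n67570 := rfl
def n67571 : Q := act 1 n31390
theorem D67571 : act 1 n31390 = n67571 := rfl
def n67572 : Q := act 4 n31390
theorem D67572 : act 4 n31390 = n67572 := rfl
def n67573 : Q := act 7 n31390
theorem D67573 : act 7 n31390 = n67573 := rfl
theorem F103453 : act 5 n67573 = n31391 := d13_1 D67573 (iv7 D31391) D31390
def n67575 : Q := act 1 n31392
theorem D67575 : act 1 n31392 = n67575 := rfl
theorem F103455 : act 1 n67575 = n31396 := d15_1 D67575 (iv7 D31396) D31392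
def n67576 : Q := act 3 n31392
theorem D67576 : act 3 n31392 = n67576 := rfl
theorem F103456 : act 7 n67576 = n31397 := d8_2 F49658 D67576 (iv3 D31397)
def n67577 : Q := act 4 n31392
theorem D67577 : act 4 n31392 = n67577 := rfl
theorem F103457 : act 2 n67577 = n31394 := d1_1 D67577 (iv4 D31394) D31392
theorem F103458 : act 7 n67577 = n31398 := d11_2 F49658 D67577 (iv4 D31398)
def n67578 : Q := act 6 n31392
theorem D67578 : act 6 n31392 = n67578 := rfl
theorem F103459 : act 2 n67578 = n31395 := d3_1 D67578 (iv6 D31395) D31392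
theorem F103460 : act 7 n49960 = n67578 := d15_2 (iv0 F49659) D49960 F103459
def n67579 : Q := act 0 n31393
theorem D67579 : act 0 n31393 = n67579 := rfl
def n67580 : Q := act 1 n31393
theorem D67580 : act 1 n31393 = n67580 := rfl
def n67581 : Q := act 2 n31393
theorem D67581 : act 2 n31393 = n67581 := rfl
def n67582 : Q := act 4 n31393
theorem D67582 : act 4 n31393 = n67582 := rfl
theorem F103461 : act 1 n67582 = n49378 := d18_6 (iv1 F49127) (iv4 F101095) (iv1 F101097) (iv4 F80735) F80734 D67582 F78083 (iv0 F49144) (iv5 D30704)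
theorem F103462 : act 0 n67582 = n53392 := d20_7 D14591 (iv1 F53788) F11315 (iv3 F11300) D14796 D31393 D67582 F84249 F40869 (iv1 F20375)
def n67583 : Q := act 6 n31393
theorem D67583 : act 6 n31393 = n67583 := rfl
theorem F103463 : act 3 n67583 = n31395 := d7_1 D67583 (iv6 D31395) D31393
def n67584 : Q := act 7 n31393
theorem D67584 : act 7 n31393 = n67584 := rfl
theorem F103464 : act 3 n67584 = n31396 := d8_1 D67584 (iv7 D31396) D31393
def n67585 : Q := act 0 n31394
theorem D67585 : act 0 n31394 = n67585 := rfl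
theorem F103465 : act 4 n67585 = n65836 := d20_2 D31394 D67585 (iv3 D65836) (iv1 D30812) (iv3 D14590) D14591 (iv1 F53788) F11315 (iv3 F11300) D14796
def n67586 : Q := act 1 n31394
theorem D67586 : act 1 n31394 = n67586 := rfl
theorem F103466 : act 1 n67586 = n31398 := d15_1 D67586 (iv7 F103458) F103457
def n67587 : Q := act 3 n31394
theorem D67587 : act 3 n31394 = n67587 := rfl
def n67588 : Q := act 5 n31394
theorem D67588 : act 5 n31394 = n67588 := rfl
def n67589 : Q := act 6 n31394
theorem D67589 : act 6 n31394 = n67589 := rfl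
theorem F103467 : act 4 n67589 = n31395 := d10_1 D67589 (iv6 D31395) D31394
def n67590 : Q := act 7 n31394
theorem D67590 : act 7 n31394 = n67590 := rfl
theorem F103468 : act 2 n67590 = n31398 := d4_1 D67590 (iv7 F103458) F103457
theorem F103469 : act 4 n67590 = n31396 := d11_1 D67590 (iv7 D31396) D31394
theorem F103470 : act 1 n31398 = n67585 := d15_0 (iv0 D67585) D67590 F103468
def n67591 : Q := act 7 n31395
theorem D67591 : act 7 n31395 = n67591 := rfl
theorem F103471 : act 2 n67591 = n49960 := d4_1 D67591 F103460 F103459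
def n67592 : Q := act 6 n31396
theorem D67592 : act 6 n31396 = n67592 := rfl
theorem F103472 : act 2 n67592 = n31399 := d3_1 D67592 (iv6 D31399) (iv2 F49660)
def n67593 : Q := act 0 n31397
theorem D67593 : act 0 n31397 = n67593 := rfl
def n67594 : Q := act 1 n31397
theorem D67594 : act 1 n31397 = n67594 := rfl
def n67595 : Q := act 2 n31397
theorem D67595 : act 2 n31397 = n67595 := rfl
def n67596 : Q := act 4 n31397
theorem D67596 : act 4 n31397 = n67596 := rfl
theorem F103473 : act 0 n65810 = n67596 := d20_1 D65810 (iv4 D67596) (iv3 D31397) (iv1 D14797) F11300 (iv4 F11315) (iv1 F53791) (iv4 D14588) D14587 D30803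
def n67597 : Q := act 6 n31397
theorem D67597 : act 6 n31397 = n67597 := rfl
theorem F103474 : act 3 n67597 = n31399 := d7_1 D67597 (iv6 D31399) D31397
def n67598 : Q := act 3 n31398
theorem D67598 : act 3 n31398 = n67598 := rfl
def n67599 : Q := act 5 n31398
theorem D67599 : act 5 n31398 = n67599 := rfl
def n67600 : Q := act 6 n31398
theorem D67600 : act 6 n31398 = n67600 := rfl
theorem F103475 : act 4 n67600 = n31399 := d10_1 D67600 (iv6 D31399) D31398
def n67601 : Q := act 0 n31399
theorem D67601 : act 0 n31399 = n67601 := rfl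
theorem F103476 : act 5 n67601 = n52109 := d21_0 (iv1 D52109) F39954 (iv6 D25299) (iv1 F19869) (iv6 F39043) (iv5 D24902) D24900 F39040 D31399 D67601
theorem F103477 : act 2 n67463 = n67601 := d15_3 (iv0 D67601) (iv0 F103384) (iv7 F103386)
theorem F103478 : act 7 n67601 = n67468 := d4_2 (iv7 F103386) F103477 (iv2 F103383)
theorem F103479 : act 1 n67484 = n67468 := d15_1 (iv0 F103345) (iv7 F103478) (iv2 F103477)
theorem F103480 : act 0 n58972 = n59146 := d21_1 (iv5 F93175) F93325 (iv6 F103322) (iv1 F103479) (iv6 D67484) (iv5 F49622) (iv1 F39049) (iv5 F80740) (iv6 F82351) (iv1 F82352)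
theorem F103481 : act 6 n61896 = n67601 := d14_5 F103478 F103322 F93326 D67504 (iv7 F103389)
def n67602 : Q := act 5 n31399
theorem D67602 : act 5 n31399 = n67602 := rfl
theorem F103482 : act 6 n67602 = n49960 := d12_2 D31399 D67602 (iv5 F80687) F80686 F39040
theorem F103483 : act 0 n67463 = n67602 := d21_1 D67463 (iv5 D67602) (iv6 D31399) (iv1 D14797) (iv6 D7052) (iv5 D3215) D3212 D7040 D14779 D31351
theorem F103484 : act 1 n67468 = n67602 := d15_0 (iv0 F103483) F103386 F103383
theorem F103485 : act 7 n31399 = n67602 := d14_0 F103482 F103460 (iv6 D67578) (iv7 F49658) D31399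
theorem E9416 : n67592 = n67484 := (c15_4 F103479 F103484 (iv7 F103485) (iv2 F103472))
theorem F103486 : act 2 n67484 = n31399 := (sb E9416 F103472)
theorem E9417 : n31396 = n31357 := ((((iv6 D67484)).symm.trans (sb E9416 (iv6 D67592)))).symm
theorem E9418 : n67575 = n14781 := ((((iv1 D31357)).symm.trans (sb E9417 (iv1 F103455)))).symm
theorem E9420 : n67481 = n14797 := (((iv2 F103341)).symm.trans (sb E9417 F49660))
theorem E9421 : n67584 = n67482 := (((D67482).symm.trans (sb E9417 (iv3 F103464)))).symm
theorem E9422 : n67590 = n67483 := (((D67483).symm.trans (sb E9417 (iv4 F103469)))).symm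
theorem E9423 : n51173 = n24205 := ((((iv5 F49622)).symm.trans (sb E9417 (iv5 F80729)))).symm
theorem E9424 : n67478 = n14796 := ((F103339).symm.trans (sb E9417 (iv7 D31396)))
theorem E9425 : n31392 = n31356 := (((D31356).symm.trans (sb E9418 (iv1 D67575)))).symm
theorem F103487 : act 2 n14797 = n31357 := (sb E9420 F103341)
theorem E9426 : n49638 = n24900 := ((((iv5 F39040)).symm.trans (sb E9420 F103342))).symm
theorem F103488 : act 7 n67482 = n31393 := (sb E9421 (iv7 D67584))
theorem F103489 : act 2 n67483 = n31398 := (sb E9422 F103468)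
theorem F103490 : act 7 n67483 = n31394 := (sb E9422 (iv7 D67590))
theorem E9427 : n49641 = n24901 := ((D49641).symm.trans (sb E9423 (iv7 F80730)))
theorem F103491 : act 7 n14796 = n31357 := (sb E9424 (iv7 F103339))
theorem F103492 : act 2 n31356 = n14796 := (sb E9425 (iv2 D31392))
theorem E9428 : n67576 = n67479 := (((D67479).symm.trans (sb E9425 D67576))).symm
theorem E9429 : n67577 = n67480 := (((D67480).symm.trans (sb E9425 D67577))).symm
theorem E9430 : n51176 = n24206 := (((F49620).symm.trans (sb E9425 (iv5 F80733)))).symm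
theorem E9431 : n67578 = n52088 := ((((iv6 F82329)).symm.trans (sb E9425 D67578))).symm
theorem F103493 : act 7 n31356 = n14797 := (sb E9425 (iv7 F49658))
theorem F103494 : act 2 n24900 = n24205 := (sb E9426 (iv2 D49638))
theorem F103495 : act 7 n24901 = n24205 := (sb E9427 (iv7 D49641))
theorem F103496 : act 7 n67479 = n31397 := (sb E9428 F103456)
theorem F103497 : act 2 n67480 = n31394 := (sb E9429 F103457)
theorem F103498 : act 7 n67480 = n31398 := (sb E9429 F103458)
theorem F103499 : act 2 n24206 = n24901 := (sb E9430 F80732)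
theorem F103500 : act 7 n24206 = n24900 := (sb E9430 (iv7 D51176))
theorem F103501 : act 2 n52088 = n31395 := (sb E9431 F103459)
theorem F103502 : act 7 n52088 = n49960 := (sb E9431 (iv7 F103460))
theorem F103503 : act 7 n51149 = n34242 := d13_2 F103502 (iv5 F80687) (iv5 F82330)
theorem E9432 : n67591 = n52089 := (c15_4 F82331 F82337 F103502 (iv2 F103471))
theorem F103504 : act 2 n52089 = n49960 := (sb E9432 F103471)
theorem F103505 : act 7 n52089 = n31395 := (sb E9432 (iv7 D67591))
theorem F103506 : act 7 n51150 = n34241 := d13_2 F103505 F80689 F82332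
theorem F103507 : act 2 n34241 = n51149 := d15_3 (iv0 D51149) D51150 F103506
theorem F103508 : act 2 n51150 = n34242 := d4_1 (iv7 F103506) (iv7 F103503) (iv2 F103507)
theorem F103509 : act 7 n51174 = n49642 := d8_2 F103500 D51174 (iv3 D49642)
theorem F103510 : act 7 n51175 = n49643 := d11_2 F103500 D51175 (iv4 D49643)
theorem F103511 : act 2 n51178 = n49643 := d1_3 (iv4 D49643) F103499 D51178
theorem F103512 : act 2 n51179 = n49644 := d3_3 (iv6 D49644) F103499 D51179
theorem F103513 : act 7 n49639 = n51177 := d8_2 F103495 D49639 (iv3 D51177)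
theorem F103514 : act 7 n49640 = n51178 := d11_2 F103495 D49640 (iv4 D51178)
theorem F103515 : act 2 n51175 = n49640 := d4_3 F103514 F103511 (iv7 F103510)
theorem E9433 : n65482 = n65397 := (c11_3 F103513 F80735 F101173 (iv4 F101098))
theorem F103516 : act 2 n65397 = n30697 := (sb E9433 (iv2 D65482))
theorem F103517 : act 7 n65397 = n30698 := (sb E9433 (iv7 F101173))
theorem E9434 : n65487 = n65398 := (c15_4 F101092 F101096 F103517 (iv2 F101174))
theorem F103518 : act 2 n65398 = n30698 := (sb E9434 F101174)
theorem F103519 : act 7 n65398 = n30697 := (sb E9434 (iv7 D65487))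
theorem F103520 : act 2 n65484 = n49639 := d1_3 F101098 F103516 D65484
theorem F103521 : act 7 n67582 = n53390 := d11_2 F103488 D67582 (iv4 F103344)
theorem F103522 : act 2 n67582 = n53389 := d15_3 (iv0 D53389) D53390 (iv7 F103521)
theorem F103523 : act 4 n53389 = n67581 := d1_2 D67582 F103522 (iv2 D67581)
def n67603 : Q := act 2 n31400
theorem D67603 : act 2 n31400 = n67603 := rfl
theorem F103524 : act 7 n31401 = n67603 := d15_2 (iv0 D31400) D31401 (iv2 D67603)
def n67604 : Q := act 3 n31400
theorem D67604 : act 3 n31400 = n67604 := rfl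
def n67605 : Q := act 4 n31400
theorem D67605 : act 4 n31400 = n67605 := rfl
def n67606 : Q := act 6 n31400
theorem D67606 : act 6 n31400 = n67606 := rfl
theorem F103525 : act 5 n67606 = n60521 := d21_6 (iv5 D14805) (iv1 D7054) D7055 (iv6 F24447) D31400 D67606 (iv1 D60521) F46375 (iv6 D27932) (iv1 F24464)
theorem F103526 : act 0 n67606 = n51253 := d21_10 F80845 (iv1 D49256) (iv5 F37925) (iv6 D24202) (iv1 D11367) D11369 D24207 D49645 (iv5 F80744) D67606
theorem F103527 : act 0 n60960 = n67606 := d21_4 (iv5 F45166) F100259 D59238 (iv6 F95500) (iv6 D67606) F80744 (iv1 F80743) F80740 F39046 (iv1 F37970)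
theorem F103528 : act 6 n60521 = n61849 := d21_3 D60960 F103527 F103525 (iv1 D61849) (iv6 D29307) F23227 (iv1 F36951) F36948 D24038 (iv1 F100247)
def n67607 : Q := act 7 n31400
theorem D67607 : act 7 n31400 = n67607 := rfl
theorem F103529 : act 2 n67607 = n31401 := d4_1 D67607 F103524 (iv2 D67603)
theorem F103530 : act 6 n51200 = n67607 := d3_0 F103529 F82354 D51200
theorem F103531 : act 7 n67606 = n51209 := d14_4 F80782 F103530 (iv7 D67607) D67606 (iv6 D51209)
theorem F103532 : act 7 n62056 = n60521 := d13_2 F103531 (iv5 F96701) (iv5 F103525)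
theorem F103533 : act 2 n51209 = n59640 := d15_3 (iv0 F96449) (iv0 F103526) F103531
theorem F103534 : act 2 n60520 = n62056 := d2_3 F96701 F103533 (iv5 F95137)
theorem E9435 : n59636 = n24910 := (c3_4 D51209 F103533 (iv6 D59640) (iv2 F94037))
theorem E9436 : n51205 = n28298 := (((iv2 F80784)).symm.trans (sb E9435 F94037))
theorem E9437 : n51200 = n28297 := ((F80782).symm.trans (sb E9435 (iv7 D59636)))
theorem F103535 : act 2 n28298 = n24910 := (sb E9436 F80784)
theorem E9438 : n59632 = n24909 := ((F94036).symm.trans (sb E9436 (iv7 D51205)))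
theorem E9439 : n67607 = n58746 := ((((iv6 F92828)).symm.trans (sb E9437 F103530))).symm
theorem F103536 : act 7 n28297 = n24910 := (sb E9437 (iv7 F80782))
theorem F103537 : act 2 n24909 = n28297 := (sb E9438 (iv2 D59632))
theorem F103538 : act 7 n24909 = n28298 := (sb E9438 (iv7 F94036))
theorem F103539 : act 2 n58746 = n31401 := (sb E9439 F103529)
theorem F103540 : act 7 n58746 = n31400 := (sb E9439 (iv7 D67607))
theorem F103541 : act 7 n49645 = n51181 := d13_2 F103540 F80744 F92826
theorem E9440 : n67603 = n58745 := (c15_4 (iv0 D58745) D58746 F103540 D67603)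
theorem F103542 : act 2 n58745 = n31400 := (sb E9440 (iv2 D67603))
theorem F103543 : act 7 n58745 = n31401 := (sb E9440 (iv7 F103524))
theorem F103544 : act 7 n49646 = n51180 := d13_2 F103543 F82353 (iv5 F92823)
theorem F103545 : act 2 n51180 = n49645 := d15_3 (iv0 D49645) D49646 F103544
theorem F103546 : act 2 n49646 = n51181 := d4_1 (iv7 F103544) (iv7 F103541) (iv2 F103545)
theorem F103547 : act 2 n48847 = n51189 := d3_3 F82355 F103546 (iv6 F92827)
theorem F103548 : act 7 n51190 = n48847 := d15_2 (iv0 D51189) D51190 F103547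
theorem F103549 : act 7 n48848 = n51189 := d15_2 (iv0 D48847) D48848 (iv2 F103547)
theorem F103550 : act 2 n51190 = n48848 := d4_3 F103549 (iv2 F103547) (iv7 F103548)
theorem F103551 : act 2 n62006 = n60688 := d2_3 F95280 F103550 (iv5 F96592)
theorem E9441 : n60684 = n29361 := (c3_4 D62006 F103551 (iv6 D60688) D60684)
theorem E9442 : n62002 = n28802 := (((iv2 F96589)).symm.trans (sb E9441 (iv2 D60684)))
theorem E9443 : n61998 = n28803 := ((F96587).symm.trans (sb E9441 (iv7 F95278)))
theorem F103552 : act 2 n28802 = n29361 := (sb E9442 F96589)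
theorem E9444 : n60689 = n29360 := ((D60689).symm.trans (sb E9442 (iv7 D62002)))
theorem F103553 : act 7 n28803 = n29361 := (sb E9443 (iv7 F96587))
theorem F103554 : act 2 n29360 = n28803 := (sb E9444 F95281)
theorem F103555 : act 7 n29360 = n28802 := (sb E9444 (iv7 D60689))
theorem F103556 : act 7 n60685 = n61999 := d8_2 F103555 D60685 (iv3 D61999)
theorem F103557 : act 7 n60686 = n62000 := d11_2 F103555 D60686 (iv4 D62000)
theorem F103558 : act 7 n60687 = n62001 := d13_2 F103555 D60687 (iv5 D62001)
theorem F103559 : act 7 n61849 = n60731 := d14_4 F103558 (iv6 F96702) F103532 F103528 F95334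
theorem F103560 : act 2 n60731 = n61848 := d15_3 (iv0 D61848) D61849 F103559
theorem F103561 : act 2 n61849 = n60732 := d15_3 F96415 (iv0 F96416) (iv7 F103559)
theorem F103562 : act 7 n60732 = n61848 := d4_2 (iv7 F103559) F103561 (iv2 F103560)
theorem F103563 : act 2 n62005 = n60687 := d3_3 (iv6 F95334) F103560 (iv6 F96591)
theorem F103564 : act 7 n60692 = n62005 := d15_2 (iv0 F95279) (iv0 F96448) F103563
theorem F103565 : act 2 n60692 = n62001 := d4_3 (iv7 F103558) (iv2 F103563) (iv7 F103564)
theorem F103566 : act 2 n60686 = n62004 := d15_3 F102067 (iv0 F102060) (iv7 F103557)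
theorem F103567 : act 7 n63529 = n63148 := d11_2 F103556 (iv4 F98838) (iv4 F98525)
theorem F103568 : act 2 n63148 = n63528 := d15_3 (iv0 D63528) D63529 F103567
theorem F103569 : act 2 n63529 = n63147 := d15_3 (iv0 D63147) D63148 (iv7 F103567)
theorem F103570 : act 7 n63147 = n63528 := d4_2 (iv7 F103567) F103569 (iv2 F103568)
theorem F103571 : act 2 n60691 = n62000 := d1_3 (iv4 D62000) F103554 D60691
theorem F103572 : act 2 n59639 = n51208 := d3_3 (iv6 F80786) F103554 (iv6 F94038)
theorem F103573 : act 7 n51203 = n59639 := d15_2 (iv0 F95231) (iv0 F100277) F103572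
theorem F103574 : act 7 n62004 = n60691 := d4_0 F103571 (iv7 F103557) F103566
theorem F103575 : act 1 n62000 = n49370 := d15_0 (iv0 F102066) F103574 F103571
theorem F103576 : act 1 n60691 = n49348 := d15_0 (iv0 F102058) F103557 (iv2 F103571)
theorem F103577 : act 0 n61999 = n50066 := d20_10 (iv4 F98769) (iv1 F102149) (iv4 D63157) D63156 F102163 F48597 (iv4 F78058) (iv1 F103575) (iv4 D62000) D61999
theorem F103578 : act 1 n61999 = n51087 := d15_1 (iv0 F103577) F80582 F79347
theorem F103579 : act 7 n62003 = n60690 := d8_2 F103553 D62003 (iv3 D60690)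
theorem F103580 : act 7 n63785 = n63883 := d11_2 F103579 (iv4 F102049) F102062
theorem F103581 : act 2 n63883 = n63786 := d15_3 F99145 F99144 F103580
theorem F103582 : act 2 n63785 = n63882 := d15_3 (iv0 D63882) D63883 (iv7 F103580)
theorem F103583 : act 7 n63882 = n63786 := d4_2 (iv7 F103580) F103582 (iv2 F103581)
theorem F103584 : act 7 n59637 = n51201 := d8_2 F103538 D59637 (iv3 D51201)
theorem F103585 : act 7 n59638 = n51202 := d11_2 F103538 D59638 (iv4 D51202)
theorem E9445 : n64593 = n63971 := (c11_3 F103584 F102076 D64593 F102087)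
theorem F103586 : act 2 n63971 = n30397 := (sb E9445 F100527)
theorem F103587 : act 7 n63971 = n30396 := (sb E9445 (iv7 D64593))
theorem F103588 : act 2 n51201 = n64735 := d15_3 (iv0 D64735) (iv0 F102039) F103584
theorem F103589 : act 2 n66251 = n59633 := d0_3 D51201 F103588 F101840 (iv3 D59633) (iv2 F103537)
theorem E9446 : n64588 = n63970 := ((c1_3 (iv4 F102076) F103588 F102186 (iv2 D64588))).symm
theorem F103590 : act 2 n63970 = n30396 := (sb E9446 (iv2 D64588))
theorem F103591 : act 7 n63970 = n30397 := (sb E9446 (iv7 F100526))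
theorem F103592 : act 7 n64595 = n64735 := d11_2 F103591 D64595 F102186
theorem F103593 : act 2 n59637 = n64595 := d4_3 F103592 (iv2 F103588) (iv7 F103584)
theorem F103594 : act 1 n51201 = n48811 := d15_0 (iv0 F100529) F103592 (iv2 F103588)
theorem F103595 : act 1 n64737 = n51201 := d15_1 F100609 (iv7 F103584) F103593
theorem E9447 : n51202 = n49526 := ((c20_8 F100607 (iv1 F101959) (iv4 D63980) (iv3 F102017) (iv1 D49520) F37884 (iv4 F37886) D49526 (iv4 D51202) D51201 (iv1 F103595))).symm
theorem F103596 : act 4 n49526 = n24909 := (sb E9447 (iv4 D51202))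
theorem F103597 : act 7 n49526 = n59638 := (sb E9447 (iv7 F103585))
theorem F103598 : act 2 n59634 = n49526 := d1_3 F103596 F103537 D59634
theorem F103599 : act 7 n49527 = n59634 := d15_2 (iv0 D49526) D49527 F103598
theorem F103600 : act 2 n49527 = n59638 := d4_3 (iv7 F103597) (iv2 F103598) (iv7 F103599)
theorem F103601 : act 1 n59634 = n49171 := d15_0 (iv0 F96435) (iv7 F103597) (iv2 F103598)
theorem F103602 : act 0 n59633 = n51122 := d20_10 F101866 (iv1 F101864) (iv4 D30968) D30967 (iv1 F102194) F77647 (iv4 F77653) (iv1 F103601) (iv4 D59634) D59633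
theorem E9448 : n66249 = n66203 := ((c1_3 D66251 F103589 F101811 (iv2 D66249))).symm
theorem F103603 : act 2 n66203 = n30957 := (sb E9448 (iv2 D66249))
theorem F103604 : act 7 n66203 = n30958 := (sb E9448 (iv7 F101839))
theorem F103605 : act 7 n51120 = n59633 := d11_2 F103604 (iv4 F101844) F101811
theorem E9449 : n66254 = n66204 := (c15_4 F101805 F101809 F103604 (iv2 F101841))
theorem F103606 : act 2 n66204 = n30958 := (sb E9449 F101841)
theorem F103607 : act 7 n66204 = n30957 := (sb E9449 (iv7 D66254))
theorem E9450 : n66251 = n51119 := (c15_4 (iv0 D51119) D51120 F103605 (iv2 F103589))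
theorem F103608 : act 2 n51119 = n59633 := (sb E9450 F103589)
theorem F103609 : act 3 n51119 = n64735 := (sb E9450 (iv3 F101840))
theorem F103610 : act 4 n51119 = n30957 := (sb E9450 (iv4 D66251))
theorem F103611 : act 2 n59635 = n51203 := d2_3 (iv5 D51203) F103537 D59635
theorem F103612 : act 7 n51208 = n59635 := d4_0 F103611 F103573 F103572
theorem F103613 : act 1 n61927 = n59639 := d15_1 (iv0 F96531) (iv7 F103573) (iv2 F103611)
theorem F103614 : act 7 n62057 = n60520 := d15_2 (iv0 D62056) D62057 F103534
theorem F103615 : act 2 n62057 = n60521 := d4_3 (iv7 F103532) (iv2 F103534) (iv7 F103614)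
theorem F103616 : act 6 n60732 = n62057 := d3_0 F103615 F103528 F103561
def n67608 : Q := act 3 n31401
theorem D67608 : act 3 n31401 = n67608 := rfl
theorem F103617 : act 6 n67608 = n51201 := d7_2 (iv6 F82354) D67608 (iv3 D51201)
theorem F103618 : act 4 n64592 = n67608 := d10_3 F103617 F102076 D64592
def n67609 : Q := act 4 n31401
theorem D67609 : act 4 n31401 = n67609 := rfl
theorem F103619 : act 6 n67609 = n49526 := d10_2 (iv6 F82354) D67609 F103596
def n67610 : Q := act 0 n31402
theorem D67610 : act 0 n31402 = n67610 := rfl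
def n67611 : Q := act 1 n31402
theorem D67611 : act 1 n31402 = n67611 := rfl
def n67612 : Q := act 5 n31402
theorem D67612 : act 5 n31402 = n67612 := rfl
def n67613 : Q := act 7 n31402
theorem D67613 : act 7 n31402 = n67613 := rfl
theorem F103620 : act 4 n67613 = n31403 := d11_1 D67613 (iv7 D31403) D31402
def n67614 : Q := act 6 n31404
theorem D67614 : act 6 n31404 = n67614 := rfl
theorem F103621 : act 2 n67614 = n62984 := d3_1 D67614 (iv6 D62984) (iv2 F49664)
theorem F103622 : act 3 n67614 = n31406 := d7_1 D67614 (iv6 D31406) (iv3 F49665)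
theorem F103623 : act 5 n67614 = n50060 := d12_1 D67614 (iv6 D50060) (iv5 D24415) (iv6 F24449) D31404
def n67615 : Q := act 3 n31405
theorem D67615 : act 3 n31405 = n67615 := rfl
def n67616 : Q := act 5 n31405
theorem D67616 : act 5 n31405 = n67616 := rfl
theorem F103624 : act 2 n67616 = n60578 := d2_1 D67616 (iv5 D60578) (iv2 F49669)
theorem F103625 : act 0 n67616 = n49423 := d17_2 F77628 D67616 (iv5 D49423) (iv4 D24124) D24125 F37805 D28761 F46402 D49162
theorem F103626 : act 1 n67616 = n49429 := d17_6 (iv1 F22157) (iv5 D7055) D7053 D14802 D31405 D67616 (iv5 D49429) F45134 F45133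
def n67617 : Q := act 6 n31405
theorem D67617 : act 6 n31405 = n67617 := rfl
theorem F103627 : act 2 n67617 = n60576 := d3_1 D67617 F95192 (iv2 F49669)
theorem F103628 : act 4 n67617 = n31406 := d10_1 D67617 (iv6 D31406) D31405
def n67618 : Q := act 0 n31406
theorem D67618 : act 0 n31406 = n67618 := rfl
theorem F103629 : act 6 n67618 = n51252 := d21_5 (iv5 D7055) D7053 D14802 D31406 D67618 (iv5 D51252) (iv1 F45140) F45137 (iv6 D27939) (iv1 F22157)
theorem F103630 : act 2 n60574 = n67618 := d15_3 (iv0 D67618) (iv0 F100278) (iv7 F100206)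
theorem F103631 : act 1 n49666 = n67618 := d15_0 (iv0 D67618) (iv7 F50040) (iv2 F78454)
theorem F103632 : act 7 n67618 = n60575 := d15_2 (iv0 F100279) F103631 (iv2 F100232)
def n67619 : Q := act 3 n31409
theorem D67619 : act 3 n31409 = n67619 := rfl
theorem F103633 : act 7 n67619 = n60577 := d8_2 (iv7 F49682) D67619 (iv3 D60577)
def n67620 : Q := act 5 n31409
theorem D67620 : act 5 n31409 = n67620 := rfl
theorem F103634 : act 7 n67620 = n60578 := d13_2 (iv7 F49682) D67620 (iv5 D60578)
theorem F103635 : act 0 n67620 = n49429 := d17_2 F53454 D67620 (iv5 D49429) (iv4 D24127) (iv5 F24000) D30278 (iv5 F53440) (iv0 D34058) D34059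
theorem F103636 : act 1 n67620 = n49423 := d17_6 D11813 (iv5 F24433) (iv1 F24434) D14805 D31409 D67620 (iv5 D49423) (iv0 F37802) (iv4 D11815)
def n67621 : Q := act 0 n31410
theorem D67621 : act 0 n31410 = n67621 := rfl
theorem F103637 : act 5 n67621 = n34236 := d17_3 (iv1 F37814) D31410 D67621 F53876 F37776 F24461 (iv5 F26099) F26101 (iv4 F37813)
theorem F103638 : act 4 n67621 = n67620 := d18_1 D67621 F103635 (iv4 F92839) (iv5 D58749) F45122 (iv0 D23990) D23991 F37489 D31410
theorem F103639 : act 0 n67621 = n51153 := d18_0 F80698 D67621 F103638 (iv5 D67620) (iv4 D31409) F24464 D27931 F53877 (iv5 F103637)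
def n67622 : Q := act 1 n31410
theorem D67622 : act 1 n31410 = n67622 := rfl
theorem F103640 : act 1 n67622 = n51153 := d15_1 D67622 F80697 F78163
theorem F103641 : act 5 n67622 = n34237 := d17_7 (iv1 F24464) (iv5 D14805) (iv1 D7054) D7055 D14807 D31410 D67622 F53878 (iv4 D27931)
theorem F103642 : act 4 n67622 = n67616 := d17_9 F103625 (iv5 D49423) (iv1 F45135) (iv5 F92870) F92869 (iv5 D49166) F37489 D31410 D67622
def n67623 : Q := act 6 n31410
theorem D67623 : act 6 n31410 = n67623 := rfl
def n67624 : Q := act 0 n31411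
theorem D67624 : act 0 n31411 = n67624 := rfl
theorem F103643 : act 1 n65664 = n67624 := d15_0 (iv0 D67624) F49684 (iv2 F101391)
def n67625 : Q := act 1 n31411
theorem D67625 : act 1 n31411 = n67625 := rfl
def n67626 : Q := act 2 n31411
theorem D67626 : act 2 n31411 = n67626 := rfl
theorem F103644 : act 4 n67626 = n31419 := d1_2 (iv4 F49683) D67626 (iv2 D31419)
theorem F103645 : act 7 n67626 = n65664 := d4_2 (iv7 F49684) D67626 F101391
theorem F103646 : act 1 n67626 = n65667 := d15_0 (iv0 D65667) (iv7 F49684) D67626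
theorem F103648 : act 1 n65668 = n67626 := d15_1 D65668 F103645 F101391
def n67627 : Q := act 5 n31411
theorem D67627 : act 5 n31411 = n67627 := rfl
theorem F103649 : act 3 n67627 = n31412 := d6_1 D67627 (iv5 D31412) D31411
theorem F103650 : act 7 n67627 = n65669 := d13_2 (iv7 F49684) D67627 (iv5 D65669)
def n67628 : Q := act 6 n31411
theorem D67628 : act 6 n31411 = n67628 := rfl
theorem F103651 : act 3 n67628 = n31413 := d7_1 D67628 (iv6 D31413) D31411
theorem F103652 : act 4 n67628 = n31420 := d10_1 D67628 (iv6 D31420) (iv4 F49683)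
def n67629 : Q := act 6 n31412
theorem D67629 : act 6 n31412 = n67629 := rfl
theorem F103653 : act 4 n67629 = n64739 := d10_1 D67629 (iv6 D64739) (iv4 F49685)
def n67630 : Q := act 0 n31413
theorem D67630 : act 0 n31413 = n67630 := rfl
def n67631 : Q := act 1 n31413
theorem D67631 : act 1 n31413 = n67631 := rfl
theorem F103654 : act 4 n67631 = n64247 := d18_7 (iv1 F82678) (iv4 F81158) F81157 F38838 (iv5 F24474) (iv4 F49688) D67631 F100094 F100091
theorem E9451 : n64322 = n64247 := (c20_6 (iv4 F79951) (iv1 F79961) F79958 (iv3 F79927) (iv1 F79931) D64322 (iv4 F103654) (iv1 D67631) F49688 F24473 D14812)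
theorem F103655 : act 3 n64247 = n30297 := (sb E9451 (iv3 D64322))
def n67632 : Q := act 5 n31413
theorem D67632 : act 5 n31413 = n67632 := rfl
def n67633 : Q := act 7 n31413
theorem D67633 : act 7 n31413 = n67633 := rfl
theorem F103656 : act 4 n67633 = n31416 := d11_1 D67633 (iv7 D31416) (iv4 F49688)
def n67634 : Q := act 2 n31414
theorem D67634 : act 2 n31414 = n67634 := rfl
theorem F103657 : act 7 n31415 = n67634 := d15_2 (iv0 D31414) D31415 (iv2 D67634)
def n67635 : Q := act 3 n31414
theorem D67635 : act 3 n31414 = n67635 := rfl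
def n67636 : Q := act 4 n31414
theorem D67636 : act 4 n31414 = n67636 := rfl
def n67637 : Q := act 5 n31414
theorem D67637 : act 5 n31414 = n67637 := rfl
theorem F103658 : act 6 n67637 = n59217 := d21_3 (iv5 F24474) D31414 D67637 (iv1 D59217) (iv6 D28119) F22321 (iv1 F19859) F20281 D24758 F38753
def n67638 : Q := act 6 n31414
theorem D67638 : act 6 n31414 = n67638 := rfl
theorem F103659 : act 5 n67638 = n49773 := d21_6 (iv5 F26054) (iv1 D11758) (iv5 F11304) D14809 D31414 D67638 (iv1 F78633) F45674 (iv6 D28222) (iv1 F22612)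
def n67639 : Q := act 7 n31414
theorem D67639 : act 7 n31414 = n67639 := rfl
theorem F103660 : act 2 n67639 = n31415 := d4_1 D67639 F103657 (iv2 D67634)
def n67640 : Q := act 3 n31415
theorem D67640 : act 3 n31415 = n67640 := rfl
def n67641 : Q := act 4 n31415
theorem D67641 : act 4 n31415 = n67641 := rfl
theorem F103661 : act 0 n67641 = n64280 := d18_2 (iv1 F93852) D67641 F100087 F48694 (iv4 F82675) (iv0 F94238) F80311 D50906 (iv5 F93850)
def n67642 : Q := act 5 n31415
theorem D67642 : act 5 n31415 = n67642 := rfl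
theorem F103662 : act 6 n67642 = n59249 := d21_3 (iv5 F93850) (iv1 F93852) D67642 (iv1 F93473) F45500 F45303 D31767 (iv5 F80299) (iv6 F80300) (iv1 F80312)
def n67643 : Q := act 6 n31415
theorem D67643 : act 6 n31415 = n67643 := rfl
def n67644 : Q := act 2 n31417
theorem D67644 : act 2 n31417 = n67644 := rfl
theorem F103663 : act 7 n31418 = n67644 := d15_2 (iv0 D31417) D31418 (iv2 D67644)
def n67645 : Q := act 3 n31417
theorem D67645 : act 3 n31417 = n67645 := rfl
theorem F103664 : act 4 n67645 = n64325 := d20_6 (iv4 D3219) D3217 D7058 D14810 D31417 D67645 (iv1 D64325) F48729 (iv3 D14567) F11223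
theorem F103665 : act 0 n66053 = n67645 := d20_10 F103664 (iv1 D64325) F48729 (iv3 D14567) F11223 D7063 (iv4 F24444) D31379 D67537 (iv3 F103426)
def n67646 : Q := act 4 n31417
theorem D67646 : act 4 n31417 = n67646 := rfl
def n67647 : Q := act 5 n31417
theorem D67647 : act 5 n31417 = n67647 := rfl
def n67648 : Q := act 6 n31417
theorem D67648 : act 6 n31417 = n67648 := rfl
def n67649 : Q := act 7 n31417
theorem D67649 : act 7 n31417 = n67649 := rfl
theorem F103666 : act 2 n67649 = n31418 := d4_1 D67649 F103663 (iv2 D67644)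
def n67650 : Q := act 3 n31418
theorem D67650 : act 3 n31418 = n67650 := rfl
def n67651 : Q := act 4 n31418
theorem D67651 : act 4 n31418 = n67651 := rfl
def n67652 : Q := act 5 n31418
theorem D67652 : act 5 n31418 = n67652 := rfl
def n67653 : Q := act 6 n31418
theorem D67653 : act 6 n31418 = n67653 := rfl
def n67654 : Q := act 6 n31419
theorem D67654 : act 6 n31419 = n67654 := rfl
theorem F103667 : act 2 n67654 = n31420 := d3_1 D67654 (iv6 D31420) D31419
theorem F103668 : act 3 n67654 = n65634 := d7_1 D67654 (iv6 D65634) (iv3 F49692)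
def n67655 : Q := act 0 n31420
theorem D67655 : act 0 n31420 = n67655 := rfl
def n67656 : Q := act 1 n31420
theorem D67656 : act 1 n31420 = n67656 := rfl
def n67657 : Q := act 5 n31420
theorem D67657 : act 5 n31420 = n67657 := rfl
theorem F103669 : act 3 n67657 = n31423 := d6_1 D67657 (iv5 D31423) (iv3 F49697)
def n67658 : Q := act 7 n31420
theorem D67658 : act 7 n31420 = n67658 := rfl
theorem F103670 : act 3 n67658 = n31424 := d8_1 D67658 (iv7 D31424) (iv3 F49697)
theorem F103671 : act 6 n67658 = n65074 := d14_1 D67658 F100864 (iv6 D30762) (iv7 F24475) D31420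
def n67659 : Q := act 3 n31421
theorem D67659 : act 3 n31421 = n67659 := rfl
theorem F103672 : act 7 n67659 = n65594 := d8_2 (iv7 F49704) D67659 (iv3 D65594)
def n67660 : Q := act 5 n31421
theorem D67660 : act 5 n31421 = n67660 := rfl
theorem F103673 : act 2 n67660 = n65589 := d2_1 D67660 (iv5 D65589) F49702
theorem F103674 : act 7 n67660 = n65595 := d13_2 (iv7 F49704) D67660 (iv5 D65595)
theorem F103676 : act 1 n67660 = n65131 := d17_6 (iv1 F26181) (iv5 F38715) F39510 F39508 (iv4 F49703) D67660 (iv5 D65131) F53659 F53656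
def n67661 : Q := act 3 n31422
theorem D67661 : act 3 n31422 = n67661 := rfl
theorem F103677 : act 7 n67661 = n65588 := d8_2 F49701 D67661 (iv3 D65588)
def n67662 : Q := act 5 n31422
theorem D67662 : act 5 n31422 = n67662 := rfl
theorem F103678 : act 2 n67662 = n65595 := d2_1 D67662 (iv5 D65595) F49700
theorem F103679 : act 7 n67662 = n65589 := d13_2 F49701 D67662 (iv5 D65589)
theorem F103680 : act 0 n67662 = n65131 := d17_2 (iv1 F49698) D67662 (iv5 D65131) F48995 (iv5 F45519) (iv0 F45521) F45323 F39912 (iv4 F49214)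
def n67663 : Q := act 4 n31423
theorem D67663 : act 4 n31423 = n67663 := rfl
theorem F103682 : act 2 n67663 = n65652 := d1_1 D67663 (iv4 D65652) (iv2 F49707)
theorem F103683 : act 1 n67663 = n65242 := d18_6 (iv1 F79960) F49196 (iv1 D14813) (iv4 F24477) D31423 D67663 (iv4 D65242) D65241 F100989
def n67664 : Q := act 4 n31425
theorem D67664 : act 4 n31425 = n67664 := rfl
def n67665 : Q := act 0 n31428
theorem D67665 : act 0 n31428 = n67665 := rfl
def n67667 : Q := act 2 n31428
theorem D67667 : act 2 n31428 = n67667 := rfl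
theorem F103684 : act 3 n67667 = n31723 := d0_2 D31428 D67667 (iv2 F93346) F100157 (iv2 F45453)
def n67669 : Q := act 3 n31429
theorem D67669 : act 3 n31429 = n67669 := rfl
theorem F103685 : act 4 n67669 = n64250 := d5_2 D31429 D67669 (iv3 D64250) F48650 F41139
def n67670 : Q := act 5 n31429
theorem D67670 : act 5 n31429 = n67670 := rfl
theorem F103686 : act 2 n67670 = n31433 := d2_1 D67670 (iv5 D31433) (iv2 F49717)
theorem F103687 : act 4 n67670 = n51646 := d9_1 D67670 (iv5 D51646) (iv4 D25090) F19641 F10130 D11998 D25273 D52059 F82278 (iv5 D51643) (iv4 D25088) (iv5 F22279) (iv4 F39823) F39824 D31429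
theorem F103688 : act 0 n67670 = n48831 := d17_2 (iv1 F49719) D67670 (iv5 D48831) (iv4 F37893) F37889 F45380 F45377 (iv0 D24154) D24156
theorem F103689 : act 1 n67670 = n48828 := d17_6 D11160 F37093 (iv1 F39827) F39824 D31429 D67670 (iv5 D48828) (iv0 D23811) (iv4 D11162)
def n67671 : Q := act 6 n31429
theorem D67671 : act 6 n31429 = n67671 := rfl
theorem F103690 : act 2 n67671 = n31434 := d3_1 D67671 (iv6 D31434) (iv2 F49717)
theorem F103691 : act 4 n67671 = n31430 := d10_1 D67671 (iv6 D31430) D31429
def n67672 : Q := act 1 n31430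
theorem D67672 : act 1 n31430 = n67672 := rfl
theorem F103692 : act 1 n67672 = n31437 := d15_1 D67672 (iv7 D31437) (iv2 F49720)
theorem F103693 : act 7 n67672 = n31435 := d15_2 (iv0 F49722) D67672 (iv2 F49731)
theorem F103694 : act 5 n60698 = n67672 := d21_0 (iv1 D67672) F49721 (iv6 D29433) (iv1 F23340) D28849 F46484 F101897 D62484 (iv6 F97376) F101904
theorem F103695 : act 2 n67672 = n31436 := d2_1 F103694 (iv5 F96824) F96823
theorem F103696 : act 6 n67672 = n49913 := d12_2 F95301 F103694 (iv5 F93795) F93796 (iv5 F95300)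
theorem E9452 : n59559 = n48823 := ((c21_11 (iv5 D59559) (iv1 F93799) F93795 (iv6 F103696) (iv1 D67672) (iv6 D31430) (iv5 F39824) (iv1 F39826) F24295 D23810 D48823)).symm
theorem F103697 : act 5 n48823 = n28274 := (sb E9452 (iv5 D59559))
def n67673 : Q := act 7 n31430
theorem D67673 : act 7 n31430 = n67673 := rfl
theorem F103698 : act 2 n67673 = n31437 := d4_1 D67673 (iv7 D31437) (iv2 F49720)
theorem F103699 : act 5 n67673 = n62180 := d13_1 D67673 (iv7 D62180) (iv5 F49721)
theorem F103700 : act 1 n31436 = n67673 := d15_1 D31436 (iv7 D67673) F49720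
theorem F103701 : act 1 n67673 = n31435 := d15_1 F103700 (iv7 F103693) F103695
def n67674 : Q := act 3 n31431
theorem D67674 : act 3 n31431 = n67674 := rfl
theorem F103702 : act 4 n67674 = n53165 := d5_2 (iv4 F49724) D67674 (iv3 D53165) (iv4 D25786) (iv3 F37859)
theorem F103703 : act 7 n67674 = n53190 := d8_2 (iv7 F49723) D67674 (iv3 D53190)
def n67675 : Q := act 6 n31431
theorem D67675 : act 6 n31431 = n67675 := rfl
theorem F103704 : act 2 n67675 = n49492 := d3_1 D67675 (iv6 D49492) F49725
theorem F103705 : act 4 n67675 = n49487 := d10_1 D67675 (iv6 D49487) (iv4 F49724)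
theorem F103706 : act 0 n67675 = n31770 := d20_1 (iv4 F103705) (iv4 D31770) (iv3 D14944) (iv1 F20560) (iv3 F41253) (iv4 F85067) (iv1 F95725) F95723 (iv3 F95715) F95717
def n67676 : Q := act 0 n31432
theorem D67676 : act 0 n31432 = n67676 := rfl
theorem F103707 : act 1 n65632 = n67676 := d15_0 (iv0 D67676) F49727 (iv2 F101368)
def n67677 : Q := act 1 n31432
theorem D67677 : act 1 n31432 = n67677 := rfl
def n67678 : Q := act 2 n31432
theorem D67678 : act 2 n31432 = n67678 := rfl
theorem F103708 : act 4 n67678 = n31440 := d1_2 (iv4 F49726) D67678 (iv2 D31440)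
theorem F103709 : act 7 n67678 = n65632 := d4_2 (iv7 F49727) D67678 F101368
theorem F103710 : act 1 n67678 = n65635 := d15_0 (iv0 D65635) (iv7 F49727) D67678
theorem F103711 : act 1 n67677 = n65632 := d15_1 D67677 (iv7 F103709) (iv2 D67678)
theorem F103712 : act 1 n65636 = n67678 := d15_1 D65636 F103709 F101368
def n67679 : Q := act 5 n31432
theorem D67679 : act 5 n31432 = n67679 := rfl
theorem F103713 : act 3 n67679 = n31433 := d6_1 D67679 (iv5 D31433) D31432
theorem F103714 : act 7 n67679 = n65637 := d13_2 (iv7 F49727) D67679 (iv5 D65637)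
def n67680 : Q := act 6 n31432
theorem D67680 : act 6 n31432 = n67680 := rfl
theorem F103715 : act 3 n67680 = n31434 := d7_1 D67680 (iv6 D31434) D31432
theorem F103716 : act 4 n67680 = n31441 := d10_1 D67680 (iv6 D31441) (iv4 F49726)
def n67681 : Q := act 6 n31433
theorem D67681 : act 6 n31433 = n67681 := rfl
def n67682 : Q := act 0 n31434
theorem D67682 : act 0 n31434 = n67682 := rfl
def n67683 : Q := act 1 n31434
theorem D67683 : act 1 n31434 = n67683 := rfl
def n67684 : Q := act 5 n31434
theorem D67684 : act 5 n31434 = n67684 := rfl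
def n67685 : Q := act 7 n31434
theorem D67685 : act 7 n31434 = n67685 := rfl
theorem F103717 : act 4 n67685 = n31437 := d11_1 D67685 (iv7 D31437) (iv4 F49728)
def n67686 : Q := act 4 n31435
theorem D67686 : act 4 n31435 = n67686 := rfl
theorem F103718 : act 2 n67686 = n49921 := d1_1 D67686 F78967 F49731
theorem F103719 : act 6 n67686 = n49889 := d10_2 (iv6 F49729) D67686 (iv4 D49889)
def n67687 : Q := act 3 n31436
theorem D67687 : act 3 n31436 = n67687 := rfl
theorem F103720 : act 6 n67687 = n63360 := d7_2 F93992 D67687 F98662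
theorem F103721 : act 7 n67687 = n49916 := d8_2 (iv7 F49732) D67687 F78959
theorem F103722 : act 2 n63367 = n67687 := d4_3 F103721 F78958 D63367
theorem F103723 : act 1 n63365 = n67687 := d15_1 D63365 F103721 F78958
theorem F103724 : act 1 n67687 = n63364 := d15_1 F103723 (iv7 F103351) (iv2 F98670)
def n67688 : Q := act 4 n31436
theorem D67688 : act 4 n31436 = n67688 := rfl
theorem F103725 : act 7 n67688 = n49921 := d11_2 (iv7 F49732) D67688 F78967
def n67689 : Q := act 2 n31438
theorem D67689 : act 2 n31438 = n67689 := rfl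
theorem F103726 : act 7 n31439 = n67689 := d15_2 (iv0 D31438) D31439 (iv2 D67689)
def n67690 : Q := act 3 n31438
theorem D67690 : act 3 n31438 = n67690 := rfl
theorem F103727 : act 4 n67690 = n65536 := d20_6 (iv4 D3269) (iv1 F5019) D7061 D14819 D31438 D67690 (iv1 D65536) F49187 (iv3 D14561) F11220
def n67691 : Q := act 4 n31438
theorem D67691 : act 4 n31438 = n67691 := rfl
def n67692 : Q := act 5 n31438
theorem D67692 : act 5 n31438 = n67692 := rfl
def n67693 : Q := act 6 n31438
theorem D67693 : act 6 n31438 = n67693 := rfl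
def n67694 : Q := act 7 n31438
theorem D67694 : act 7 n31438 = n67694 := rfl
def n67695 : Q := act 3 n31439
theorem D67695 : act 3 n31439 = n67695 := rfl
def n67696 : Q := act 4 n31439
theorem D67696 : act 4 n31439 = n67696 := rfl
def n67697 : Q := act 5 n31439
theorem D67697 : act 5 n31439 = n67697 := rfl
def n67698 : Q := act 6 n31439
theorem D67698 : act 6 n31439 = n67698 := rfl
def n67699 : Q := act 6 n31440
theorem D67699 : act 6 n31440 = n67699 := rfl
theorem F103729 : act 2 n67699 = n31441 := d3_1 D67699 (iv6 D31441) D31440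
theorem F103730 : act 3 n67699 = n65666 := d7_1 D67699 (iv6 D65666) (iv3 F49736)
def n67700 : Q := act 0 n31441
theorem D67700 : act 0 n31441 = n67700 := rfl
def n67701 : Q := act 1 n31441
theorem D67701 : act 1 n31441 = n67701 := rfl
def n67702 : Q := act 5 n31441
theorem D67702 : act 5 n31441 = n67702 := rfl
theorem F103731 : act 3 n67702 = n31443 := d6_1 D67702 (iv5 D31443) (iv3 F49741)
def n67703 : Q := act 7 n31441
theorem D67703 : act 7 n31441 = n67703 := rfl
theorem F103732 : act 3 n67703 = n31444 := d8_1 D67703 (iv7 D31444) (iv3 F49741)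
theorem F103733 : act 6 n67703 = n65646 := d14_1 D67703 (iv7 D65646) (iv6 D30752) (iv7 F24481) D31441
def n67704 : Q := act 3 n31442
theorem D67704 : act 3 n31442 = n67704 := rfl
theorem F103734 : act 6 n67704 = n65010 := d7_2 F49746 D67704 F100803
theorem F103735 : act 7 n67704 = n34143 := d8_2 (iv7 F49743) D67704 F53611
def n67705 : Q := act 5 n31442
theorem D67705 : act 5 n31442 = n67705 := rfl
theorem F103737 : act 7 n67705 = n34145 := d13_2 (iv7 F49743) D67705 (iv5 D34145)
theorem F103738 : act 1 n67705 = n65076 := d17_6 (iv1 F48211) (iv5 F47401) F47402 F46683 F49745 D67705 F100866 (iv0 F95838) F84861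
def n67706 : Q := act 0 n31443
theorem D67706 : act 0 n31443 = n67706 := rfl
theorem F103740 : act 5 n67706 = n63180 := d17_3 (iv1 D31442) D31443 D67706 (iv4 D63180) (iv5 D29869) (iv0 D14188) (iv5 F20360) F26164 F49745
theorem F103741 : act 2 n65681 = n67706 := d15_3 (iv0 D67706) (iv0 F103268) F103267
theorem F103742 : act 7 n67706 = n65682 := d4_2 F103267 F103741 (iv2 F103266)
theorem F103743 : act 1 n65075 = n67706 := d15_1 F103269 F103742 (iv2 F103266)
def n67707 : Q := act 4 n31443
theorem D67707 : act 4 n31443 = n67707 := rfl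
theorem F103744 : act 2 n67707 = n65683 := d1_1 D67707 (iv4 D65683) (iv2 F49758)
def n67708 : Q := act 7 n31443
theorem D67708 : act 7 n31443 = n67708 := rfl
theorem F103745 : act 2 n67708 = n65075 := d4_1 D67708 F100865 (iv2 F49758)
theorem F103746 : act 5 n67708 = n31444 := d13_1 D67708 (iv7 D31444) D31443
theorem F103747 : act 1 n65682 = n67708 := d15_1 D65682 (iv7 D67708) F49758
theorem F103748 : act 1 n67708 = n65681 := d15_1 F103747 (iv7 F103267) F103266
def n67709 : Q := act 4 n31445
theorem D67709 : act 4 n31445 = n67709 := rfl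
theorem F103749 : act 7 n67709 = n49973 := d11_2 (iv7 F49764) D67709 F79050
theorem F103750 : act 1 n31726 = n67709 := d15_1 (iv0 F92822) F103749 (iv2 F92820)
theorem E9453 : n61956 = n61925 := ((c18_2 (iv1 F77825) D61925 (iv1 D61956) F47001 (iv5 F39772) (iv4 F50032) F103750 (iv4 D67709) F78394 F78392)).symm
theorem F103751 : act 0 n61925 = n29347 := (sb E9453 (iv1 D61956))
theorem E9454 : n61955 = n61921 := ((c15_4 (iv0 D61955) (iv0 F103751) F100215 F100235)).symm
theorem F103752 : act 1 n61921 = n29347 := (sb E9454 (iv0 D61955))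
def n67712 : Q := act 3 n31446
theorem D67712 : act 3 n31446 = n67712 := rfl
theorem F103755 : act 7 n67712 = n31452 := d8_2 F49766 D67712 (iv3 D31452)
def n67713 : Q := act 4 n31446
theorem D67713 : act 4 n31446 = n67713 := rfl
theorem F103756 : act 2 n67713 = n31448 := d1_1 D67713 (iv4 D31448) D31446
theorem F103757 : act 7 n67713 = n31453 := d11_2 F49766 D67713 (iv4 D31453)
def n67714 : Q := act 5 n31446
theorem D67714 : act 5 n31446 = n67714 := rfl
theorem F103758 : act 2 n67714 = n31449 := d2_1 D67714 (iv5 D31449) D31446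
theorem F103759 : act 7 n67714 = n31454 := d13_2 F49766 D67714 (iv5 D31454)
def n67716 : Q := act 0 n31447
theorem D67716 : act 0 n31447 = n67716 := rfl
def n67717 : Q := act 1 n31447
theorem D67717 : act 1 n31447 = n67717 := rfl
def n67718 : Q := act 2 n31447
theorem D67718 : act 2 n31447 = n67718 := rfl
def n67719 : Q := act 5 n31447
theorem D67719 : act 5 n31447 = n67719 := rfl
theorem F103761 : act 3 n67719 = n31449 := d6_1 D67719 (iv5 D31449) D31447
def n67720 : Q := act 6 n31447
theorem D67720 : act 6 n31447 = n67720 := rfl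
theorem F103762 : act 3 n67720 = n31450 := d7_1 D67720 (iv6 D31450) D31447
def n67721 : Q := act 7 n31447
theorem D67721 : act 7 n31447 = n67721 := rfl
theorem F103763 : act 3 n67721 = n31451 := d8_1 D67721 (iv7 D31451) D31447
def n67722 : Q := act 0 n31448
theorem D67722 : act 0 n31448 = n67722 := rfl
theorem F103764 : act 4 n67722 = n67695 := d20_2 D31448 D67722 (iv3 D67695) (iv1 D31439) (iv3 D14819) (iv4 D7061) (iv1 D3218) D3219 D7063 D14823
def n67723 : Q := act 1 n31448
theorem D67723 : act 1 n31448 = n67723 := rfl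
theorem F103765 : act 1 n67723 = n31453 := d15_1 D67723 (iv7 F103757) F103756
def n67724 : Q := act 3 n31448
theorem D67724 : act 3 n31448 = n67724 := rfl
def n67725 : Q := act 5 n31448
theorem D67725 : act 5 n31448 = n67725 := rfl
def n67726 : Q := act 6 n31448
theorem D67726 : act 6 n31448 = n67726 := rfl
theorem F103766 : act 4 n67726 = n31450 := d10_1 D67726 (iv6 D31450) D31448
def n67727 : Q := act 7 n31448
theorem D67727 : act 7 n31448 = n67727 := rfl
theorem F103767 : act 2 n67727 = n31453 := d4_1 D67727 (iv7 F103757) F103756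
theorem F103768 : act 4 n67727 = n31451 := d11_1 D67727 (iv7 D31451) D31448
theorem F103769 : act 1 n31453 = n67722 := d15_0 (iv0 D67722) D67727 F103767
def n67728 : Q := act 0 n31449
theorem D67728 : act 0 n31449 = n67728 := rfl
def n67729 : Q := act 1 n31449
theorem D67729 : act 1 n31449 = n67729 := rfl
theorem F103770 : act 1 n67729 = n31454 := d15_1 D67729 (iv7 F103759) F103758
def n67730 : Q := act 4 n31449
theorem D67730 : act 4 n31449 = n67730 := rfl
def n67731 : Q := act 6 n31449
theorem D67731 : act 6 n31449 = n67731 := rfl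
def n67732 : Q := act 7 n31449
theorem D67732 : act 7 n31449 = n67732 := rfl
theorem F103771 : act 2 n67732 = n31454 := d4_1 D67732 (iv7 F103759) F103758
theorem F103772 : act 5 n67732 = n31451 := d13_1 D67732 (iv7 D31451) D31449
theorem F103773 : act 1 n31454 = n67728 := d15_0 (iv0 D67728) D67732 F103771
def n67733 : Q := act 0 n31450
theorem D67733 : act 0 n31450 = n67733 := rfl
def n67734 : Q := act 1 n31450
theorem D67734 : act 1 n31450 = n67734 := rfl
def n67735 : Q := act 5 n31450
theorem D67735 : act 5 n31450 = n67735 := rfl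
def n67736 : Q := act 7 n31450
theorem D67736 : act 7 n31450 = n67736 := rfl
def n67737 : Q := act 6 n31451
theorem D67737 : act 6 n31451 = n67737 := rfl
theorem F103774 : act 2 n67737 = n31455 := d3_1 D67737 (iv6 D31455) (iv2 F49767)
def n67738 : Q := act 0 n31452
theorem D67738 : act 0 n31452 = n67738 := rfl
theorem F103775 : act 4 n67738 = n65667 := d20_0 (iv1 F103646) F103644 F49692 (iv1 F49739) D67695 (iv4 F103764) (iv1 F103769) (iv4 D31453) D31452 D67738
def n67739 : Q := act 1 n31452
theorem D67739 : act 1 n31452 = n67739 := rfl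
def n67740 : Q := act 2 n31452
theorem D67740 : act 2 n31452 = n67740 := rfl
def n67741 : Q := act 4 n31452
theorem D67741 : act 4 n31452 = n67741 := rfl
theorem F103776 : act 0 n67646 = n67741 := d20_1 D67646 (iv4 D67741) (iv3 D31452) (iv1 D14824) (iv3 D7063) (iv4 D3219) D3217 D7058 D14810 D31417
def n67742 : Q := act 5 n31452
theorem D67742 : act 5 n31452 = n67742 := rfl
theorem F103777 : act 3 n67742 = n31454 := d6_1 D67742 (iv5 D31454) D31452
def n67743 : Q := act 6 n31452
theorem D67743 : act 6 n31452 = n67743 := rfl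
theorem F103778 : act 3 n67743 = n31455 := d7_1 D67743 (iv6 D31455) D31452
def n67744 : Q := act 3 n31453
theorem D67744 : act 3 n31453 = n67744 := rfl
theorem F103779 : act 0 n64434 = n67744 := d20_4 (iv4 F40141) F40139 D30340 D64434 (iv3 D67744) (iv4 D31453) (iv1 D14824) (iv4 F24444) (iv3 D14793) D14791
def n67745 : Q := act 5 n31453
theorem D67745 : act 5 n31453 = n67745 := rfl
def n67746 : Q := act 6 n31453
theorem D67746 : act 6 n31453 = n67746 := rfl
theorem F103780 : act 4 n67746 = n31455 := d10_1 D67746 (iv6 D31455) D31453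
def n67747 : Q := act 4 n31454
theorem D67747 : act 4 n31454 = n67747 := rfl
def n67748 : Q := act 6 n31454
theorem D67748 : act 6 n31454 = n67748 := rfl
def n67749 : Q := act 0 n31455
theorem D67749 : act 0 n31455 = n67749 := rfl
def n67750 : Q := act 1 n31455
theorem D67750 : act 1 n31455 = n67750 := rfl
def n67751 : Q := act 5 n31455
theorem D67751 : act 5 n31455 = n67751 := rfl
def n67752 : Q := act 7 n31455
theorem D67752 : act 7 n31455 = n67752 := rfl
def n67754 : Q := act 1 n31456
theorem D67754 : act 1 n31456 = n67754 := rfl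
theorem F103781 : act 1 n67754 = n31460 := d15_1 D67754 (iv7 D31460) (iv2 F49768)
def n67755 : Q := act 5 n31456
theorem D67755 : act 5 n31456 = n67755 := rfl
theorem F103782 : act 2 n67755 = n31459 := d2_1 D67755 (iv5 D31459) (iv2 F49768)
def n67756 : Q := act 7 n31456
theorem D67756 : act 7 n31456 = n67756 := rfl
theorem F103783 : act 2 n67756 = n31460 := d4_1 D67756 (iv7 D31460) (iv2 F49768)
theorem F103786 : act 1 n67756 = n31457 := d15_0 (iv0 D31457) D31460 (iv2 F103783)
def n67758 : Q := act 3 n31457
theorem D67758 : act 3 n31457 = n67758 := rfl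
def n67770 : Q := act 7 n31459
theorem D67770 : act 7 n31459 = n67770 := rfl
theorem F103790 : act 5 n67770 = n31460 := d13_1 D67770 (iv7 D31460) D31459
def n67780 : Q := act 6 n31474
theorem D67780 : act 6 n31474 = n67780 := rfl
def n67782 : Q := act 3 n31480
theorem D67782 : act 3 n31480 = n67782 := rfl
def n67783 : Q := act 4 n31480
theorem D67783 : act 4 n31480 = n67783 := rfl
def n67791 : Q := act 0 n31483
theorem D67791 : act 0 n31483 = n67791 := rfl
def n67792 : Q := act 1 n31483
theorem D67792 : act 1 n31483 = n67792 := rfl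
theorem F103805 : act 4 n65831 = n67792 := d20_6 (iv4 F41159) F53789 (iv4 D14591) D14590 D30811 D65831 (iv1 D67792) (iv4 D31483) (iv3 D14832) (iv1 F20500)
def n67793 : Q := act 3 n31483
theorem D67793 : act 3 n31483 = n67793 := rfl
theorem F103806 : act 4 n67793 = n31488 := d5_2 D31483 D67793 (iv3 D31488) (iv4 D14833) D14832
def n67794 : Q := act 5 n31483
theorem D67794 : act 5 n31483 = n67794 := rfl
def n67795 : Q := act 6 n31483
theorem D67795 : act 6 n31483 = n67795 := rfl
theorem F103808 : act 4 n67795 = n31484 := d10_1 D67795 (iv6 D31484) D31483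
def n67796 : Q := act 0 n31484
theorem D67796 : act 0 n31484 = n67796 := rfl
def n67797 : Q := act 1 n31484
theorem D67797 : act 1 n31484 = n67797 := rfl
def n67802 : Q := act 6 n31488
theorem D67802 : act 6 n31488 = n67802 := rfl
theorem F103817 : act 3 n67802 = n31490 := d7_1 D67802 (iv6 D31490) D31488
def n67805 : Q := act 2 n31494
theorem D67805 : act 2 n31494 = n67805 := rfl
theorem F103825 : act 7 n31495 = n67805 := d15_2 (iv0 D31494) D31495 (iv2 D67805)
def n67810 : Q := act 7 n31494
theorem D67810 : act 7 n31494 = n67810 := rfl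
theorem F103826 : act 2 n67810 = n31495 := d4_1 D67810 F103825 (iv2 D67805)
def n67811 : Q := act 3 n31495
theorem D67811 : act 3 n31495 = n67811 := rfl
def n67812 : Q := act 4 n31495
theorem D67812 : act 4 n31495 = n67812 := rfl
def n67813 : Q := act 5 n31495
theorem D67813 : act 5 n31495 = n67813 := rfl
def n67814 : Q := act 6 n31495
theorem D67814 : act 6 n31495 = n67814 := rfl
def n67815 : Q := act 4 n31496
theorem D67815 : act 4 n31496 = n67815 := rfl
theorem F103827 : act 2 n67815 = n31497 := d1_1 D67815 (iv4 D31497) D31496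
def n67816 : Q := act 6 n31496
theorem D67816 : act 6 n31496 = n67816 := rfl
theorem F103828 : act 2 n67816 = n31498 := d3_1 D67816 (iv6 D31498) D31496
def n67817 : Q := act 0 n31497
theorem D67817 : act 0 n31497 = n67817 := rfl
def n67818 : Q := act 1 n31497
theorem D67818 : act 1 n31497 = n67818 := rfl
theorem F103829 : act 4 n65809 = n67818 := d20_6 (iv4 F11315) (iv1 F53791) (iv4 D14588) D14587 D30803 D65809 (iv1 D67818) (iv4 D31497) (iv3 D14836) (iv1 D7066)
def n67819 : Q := act 3 n31497
theorem D67819 : act 3 n31497 = n67819 := rfl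
theorem F103830 : act 4 n67819 = n31499 := d5_2 D31497 D67819 (iv3 D31499) (iv4 D14837) D14836
def n67820 : Q := act 5 n31497
theorem D67820 : act 5 n31497 = n67820 := rfl
def n67821 : Q := act 6 n31497
theorem D67821 : act 6 n31497 = n67821 := rfl
theorem F103832 : act 4 n67821 = n31498 := d10_1 D67821 (iv6 D31498) D31497
def n67822 : Q := act 0 n31498
theorem D67822 : act 0 n31498 = n67822 := rfl
def n67823 : Q := act 1 n31498
theorem D67823 : act 1 n31498 = n67823 := rfl
def n67824 : Q := act 5 n31498
theorem D67824 : act 5 n31498 = n67824 := rfl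
theorem F103833 : act 3 n67824 = n31503 := d6_1 D67824 (iv5 D31503) (iv3 F49797)
theorem F103834 : act 6 n67824 = n49968 := d12_2 D31498 D67824 F79033 (iv6 D31484) (iv5 F24494)
theorem F103835 : act 7 n31498 = n67824 := d14_0 F103834 F79034 F53895 F49815 D31498
def n67829 : Q := act 6 n31499
theorem D67829 : act 6 n31499 = n67829 := rfl
theorem F103844 : act 3 n67829 = n31501 := d7_1 D67829 (iv6 D31501) D31499
def n67831 : Q := act 6 n31500
theorem D67831 : act 6 n31500 = n67831 := rfl
def n67832 : Q := act 3 n31502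
theorem D67832 : act 3 n31502 = n67832 := rfl
theorem F103851 : act 5 n67832 = n48879 := d6_2 (iv5 F49799) D67832 (iv3 D48879)
theorem F103852 : act 6 n67832 = n62167 := d7_2 (iv6 F49801) D67832 (iv3 D62167)
theorem F103853 : act 7 n67832 = n59799 := d8_2 (iv7 F49802) D67832 F94141
def n67833 : Q := act 2 n31505
theorem D67833 : act 2 n31505 = n67833 := rfl
theorem F103854 : act 7 n67833 = n49936 := d4_2 F78697 D67833 (iv2 F101889)
def n67834 : Q := act 4 n31505
theorem D67834 : act 4 n31505 = n67834 := rfl
theorem F103855 : act 0 n49943 = n67834 := d20_7 (iv4 F53842) (iv1 F53844) (iv4 D30612) F101986 (iv1 D30332) (iv3 F48659) (iv4 F78982) (iv4 D67834) (iv3 D31505) F38051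
def n67835 : Q := act 6 n31505
theorem D67835 : act 6 n31505 = n67835 := rfl
theorem F103856 : act 3 n67835 = n31507 := d7_1 D67835 (iv6 D31507) D31505
theorem F103857 : act 5 n67835 = n60697 := d21_6 F78882 F39769 F22600 D24352 (iv1 F101918) D67835 (iv1 D60697) (iv5 F49730) F49729 (iv1 F78880)
theorem E9455 : n60745 = n60697 := ((c6_1 F103857 (iv3 D60745) (iv5 F49823) (iv3 F103856))).symm
theorem F103858 : act 2 n60697 = n62116 := (sb E9455 F101906)
theorem F103859 : act 3 n60697 = n28823 := (sb E9455 (iv3 D60745))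
theorem F103860 : act 6 n60697 = n62066 := (sb E9455 (iv6 F96733))
theorem F103861 : act 7 n60697 = n62065 := (sb E9455 (iv7 F96732))
theorem F103862 : act 2 n62065 = n60696 := d15_3 (iv0 D60696) D60697 F103861
theorem F103863 : act 7 n62116 = n60696 := d4_2 (iv7 F103861) F103858 (iv2 F103862)
def n67836 : Q := act 3 n31506
theorem D67836 : act 3 n31506 = n67836 := rfl
theorem F103865 : act 7 n67836 = n65197 := d8_2 (iv7 F76948) D67836 (iv3 D65197)
def n67837 : Q := act 6 n31506
theorem D67837 : act 6 n31506 = n67837 := rfl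
theorem F103867 : act 4 n67837 = n31507 := d10_1 D67837 (iv6 D31507) D31506
theorem F103868 : act 7 n67837 = n53553 := d14_2 (iv7 F76948) D67837 (iv6 D53553) F76939 (iv6 F53688)
theorem F103869 : act 0 n67837 = n53834 := d21_4 D14584 D30799 F53686 D67837 (iv6 D53834) D53833 (iv1 F101472) (iv5 D65795) (iv6 D30798) (iv1 D14583)
theorem F103870 : act 5 n67837 = n65077 := d21_6 D30529 F48925 (iv5 D16546) D16547 (iv1 F53757) D67837 (iv1 D65077) (iv5 D30562) (iv6 D14498) (iv1 F24129)
theorem F103871 : act 0 n63561 = n67837 := d17_0 F103870 (iv1 D65077) (iv5 D30562) F24144 (iv5 F23419) D29550 (iv5 F53766) (iv0 F53769) D63561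
def n67838 : Q := act 0 n31509
theorem D67838 : act 0 n31509 = n67838 := rfl
def n67839 : Q := act 1 n31509
theorem D67839 : act 1 n31509 = n67839 := rfl
def n67840 : Q := act 4 n31509
theorem D67840 : act 4 n31509 = n67840 := rfl
theorem F103872 : act 6 n67840 = n64537 := d10_2 F76925 D67840 F102075
def n67841 : Q := act 3 n31510
theorem D67841 : act 3 n31510 = n67841 := rfl
theorem F103874 : act 6 n67841 = n53549 := d7_2 (iv6 F49828) D67841 (iv3 D53549)
theorem F103875 : act 7 n67841 = n65195 := d8_2 F76949 D67841 (iv3 D65195)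
def n67842 : Q := act 5 n31513
theorem D67842 : act 5 n31513 = n67842 := rfl
theorem F103876 : act 7 n67842 = n60853 := d13_2 (iv7 F49848) D67842 (iv5 D60853)
theorem F103877 : act 4 n67842 = n61299 := d16_2 D31513 D67842 (iv5 D61299) (iv4 D29021) F23070 (iv4 F23011) (iv5 F38025) (iv7 F49845) F49843
theorem F103878 : act 1 n67842 = n63570 := d17_6 D24244 F38009 (iv1 D14843) D14845 D31513 D67842 F98907 F48619 (iv4 D24245)
def n67843 : Q := act 3 n31514
theorem D67843 : act 3 n31514 = n67843 := rfl
theorem F103879 : act 4 n67843 = n59804 := d5_2 F55379 D67843 (iv3 F94164) (iv4 D34972) D34971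
theorem F103880 : act 6 n67843 = n51057 := d7_2 (iv6 F55493) D67843 (iv3 D51057)
def n67844 : Q := act 3 n31515
theorem D67844 : act 3 n31515 = n67844 := rfl
theorem F103881 : act 4 n67844 = n31590 := d5_2 F84932 D67844 (iv3 F49912) F41183 D53875
theorem F103882 : act 7 n67844 = n32347 := d8_2 F82789 D67844 F82793
theorem F103883 : act 0 n67844 = n32349 := d20_4 F50618 (iv1 F84935) F84932 D67844 F51373 F24847 (iv1 F12519) D16960 (iv3 F54580) (iv1 F56607)
theorem F103884 : act 0 n32343 = n67844 := d20_4 F94186 (iv1 D34963) (iv4 F55187) F55186 (iv3 D67844) (iv4 F84932) F84931 (iv4 F56604) F56603 D59810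
theorem F103885 : act 2 n32346 = n67844 := d15_3 (iv0 F103884) (iv0 F97650) (iv7 F97652)
def n67845 : Q := act 6 n31515
theorem D67845 : act 6 n31515 = n67845 := rfl
theorem F103886 : act 7 n67845 = n51061 := d14_2 F82789 D67845 (iv6 D51061) (iv7 F79123) (iv6 F82792)
theorem F103887 : act 0 n67845 = n31686 := d21_4 D25517 D52561 F83073 D67845 F49966 D32620 (iv1 F62303) F83051 (iv6 D52553) F54330
def n67846 : Q := act 5 n31516
theorem D67846 : act 5 n31516 = n67846 := rfl
theorem F103889 : act 7 n67846 = n35968 := d13_2 (iv7 F49853) D67846 (iv5 D35968)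
theorem F103890 : act 0 n67846 = n52543 := d17_2 (iv1 F82782) D67846 (iv5 D52543) F54328 D28406 D59850 F94294 F85129 F82783
theorem F103891 : act 1 n67846 = n52551 := d17_6 (iv1 F26927) (iv5 F41571) F49868 (iv5 D31523) (iv4 F49851) D67846 F83047 F54331 F20060
def n67847 : Q := act 4 n31517
theorem D67847 : act 4 n31517 = n67847 := rfl
theorem F103892 : act 0 n67847 = n54115 := d18_2 (iv1 F49856) D67847 (iv4 D54115) (iv5 D26187) (iv4 D12419) (iv0 D5908) (iv4 F8853) D12127 D25513
theorem F103893 : act 1 n67847 = n54128 := d18_6 F50462 (iv4 D31522) (iv1 D14849) (iv4 F24510) D31517 D67847 (iv4 D54128) (iv0 F56601) (iv5 D35921)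
def n67848 : Q := act 6 n31517
theorem D67848 : act 6 n31517 = n67848 := rfl
theorem F103894 : act 3 n67848 = n31519 := d7_1 D67848 (iv6 D31519) (iv3 F49855)
theorem F103895 : act 5 n67848 = n61291 := d12_1 D67848 (iv6 D61291) (iv5 D29017) (iv6 F24511) D31517
def n67849 : Q := act 3 n31518
theorem D67849 : act 3 n31518 = n67849 := rfl
theorem F103896 : act 5 n67849 = n59819 := d6_2 (iv5 F49857) D67849 (iv3 D59819)
def n67850 : Q := act 6 n31518
theorem D67850 : act 6 n31518 = n67850 := rfl
theorem F103897 : act 4 n67850 = n31519 := d10_1 D67850 (iv6 D31519) D31518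
def n67851 : Q := act 0 n31519
theorem D67851 : act 0 n31519 = n67851 := rfl
theorem F103898 : act 6 n67851 = n48767 := d21_5 F36984 F18186 D14847 D31519 D67851 (iv5 D48767) (iv1 D23782) (iv5 F36996) (iv6 D23753) D23750
def n67852 : Q := act 1 n31519
theorem D67852 : act 1 n31519 = n67852 := rfl
def n67853 : Q := act 7 n31519
theorem D67853 : act 7 n31519 = n67853 := rfl
theorem F103899 : act 5 n67853 = n61296 := d13_1 D67853 (iv7 D61296) (iv5 F49860)
def n67854 : Q := act 5 n31521
theorem D67854 : act 5 n31521 = n67854 := rfl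
def n67855 : Q := act 5 n31522
theorem D67855 : act 5 n31522 = n67855 := rfl
theorem F103900 : act 3 n67855 = n32362 := d6_1 D67855 (iv5 D32362) (iv3 F49864)
def n67856 : Q := act 4 n31523
theorem D67856 : act 4 n31523 = n67856 := rfl
theorem F103901 : act 2 n67856 = n31524 := d1_1 D67856 (iv4 D31524) (iv2 F49865)
theorem F103902 : act 7 n67856 = n35976 := d11_2 (iv7 F49866) D67856 (iv4 D35976)
def n67857 : Q := act 6 n31523
theorem D67857 : act 6 n31523 = n67857 := rfl
theorem F103904 : act 2 n67857 = n31525 := d3_1 D67857 (iv6 D31525) (iv2 F49865)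
theorem F103905 : act 5 n67857 = n54840 := d12_1 D67857 (iv6 D54840) F42472 (iv6 F24514) D31523
theorem F103906 : act 0 n67857 = n55031 := d21_4 (iv5 F41539) (iv1 F41180) D31523 D67857 (iv6 D55031) (iv5 D26601) (iv1 D12711) (iv5 F20697) (iv6 D12433) D12430
def n67858 : Q := act 0 n31524
theorem D67858 : act 0 n31524 = n67858 := rfl
theorem F103907 : act 4 n67858 = n52547 := d18_3 (iv1 F41453) D31524 D67858 (iv5 D52547) (iv4 D25507) (iv0 D12126) F8853 D5909 D12425
theorem F103908 : act 1 n35976 = n67858 := d15_0 (iv0 D67858) (iv7 F50331) (iv2 F56695)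
theorem F103909 : act 2 n59851 = n67858 := d1_3 F103907 F83039 D59851
theorem F103910 : act 5 n54184 = n67858 := d17_3 (iv1 D26209) D26211 D54184 F103907 (iv5 D52547) (iv0 F40342) (iv5 F50448) (iv0 F85505) (iv4 D54176)
def n67859 : Q := act 1 n31524
theorem D67859 : act 1 n31524 = n67859 := rfl
theorem F103911 : act 1 n67859 = n35976 := d15_1 D67859 (iv7 F103902) F103901
theorem F103912 : act 7 n67859 = n59851 := d15_2 (iv0 D67858) D67859 F103909
theorem F103913 : act 4 n52556 = n67859 := d20_6 (iv4 F20438) (iv1 F24233) F24231 D14997 (iv1 F54316) (iv3 F83061) (iv1 D67859) (iv4 D31524) F24515 F11325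
theorem F103914 : act 5 n54185 = n67859 := d17_7 (iv1 F41572) (iv5 D12425) (iv1 D5909) D5911 D12432 D26211 D54185 F103911 (iv4 D35976)
def n67860 : Q := act 5 n31524
theorem D67860 : act 5 n31524 = n67860 := rfl
def n67861 : Q := act 6 n31524
theorem D67861 : act 6 n31524 = n67861 := rfl
theorem F103915 : act 4 n67861 = n31525 := d10_1 D67861 (iv6 D31525) D31524
def n67862 : Q := act 0 n31525
theorem D67862 : act 0 n31525 = n67862 := rfl
theorem F103916 : act 6 n67862 = n54908 := d21_5 (iv5 F41591) (iv1 D14849) D14851 D31525 D67862 (iv5 D54908) (iv1 D26558) (iv5 F41602) (iv6 D26202) D26199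
def n67863 : Q := act 1 n31525
theorem D67863 : act 1 n31525 = n67863 := rfl
def n67864 : Q := act 7 n31525
theorem D67864 : act 7 n31525 = n67864 := rfl
theorem F103917 : act 3 n67864 = n31527 := d8_1 D67864 (iv7 D31527) (iv3 F49869)
theorem F103918 : act 5 n67864 = n61405 := d13_1 D67864 (iv7 D61405) (iv5 F49870)
def n67865 : Q := act 3 n31526
theorem D67865 : act 3 n31526 = n67865 := rfl
theorem F103919 : act 7 n67865 = n55203 := d8_2 (iv7 F53108) D67865 F87334
def n67866 : Q := act 0 n31540
theorem D67866 : act 0 n31540 = n67866 := rfl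
theorem F103920 : act 4 n67866 = n32400 := d18_3 (iv1 F50757) D31540 D67866 (iv5 F54314) F45957 F54309 F10528 F24778 D15132
theorem F103921 : act 2 n59876 = n67866 := d1_3 F103920 F54322 D59876
theorem F103922 : act 7 n59855 = n67866 := d11_0 F103920 F54323 D59855
def n67867 : Q := act 1 n31540
theorem D67867 : act 1 n31540 = n67867 := rfl
theorem F103923 : act 7 n67867 = n59876 := d15_2 (iv0 D67866) D67867 F103921
theorem F103924 : act 4 n32401 = n67867 := d20_6 (iv4 F20417) (iv1 F24237) F24235 D14999 (iv1 F50926) F51451 (iv1 D67867) (iv4 D31540) F24517 F11327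
theorem F103925 : act 2 n67867 = n59855 := d1_1 F103924 (iv4 D59855) F54325
def n67868 : Q := act 5 n31540
theorem D67868 : act 5 n31540 = n67868 := rfl
theorem F103926 : act 0 n67868 = n32175 := d17_2 (iv1 D67867) D67868 (iv5 D32175) D32174 F51134 (iv0 D15293) D15295 D32401 F103924
theorem F103927 : act 1 n67868 = n32180 := d17_6 (iv1 F24736) F50818 (iv1 D14854) D14856 D31540 D67868 (iv5 D32180) F50687 (iv4 D32064)
def n67869 : Q := act 6 n31540
theorem D67869 : act 6 n31540 = n67869 := rfl
theorem F103928 : act 4 n67869 = n31541 := d10_1 D67869 (iv6 D31541) D31540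
def n67870 : Q := act 0 n31541
theorem D67870 : act 0 n31541 = n67870 := rfl
def n67871 : Q := act 1 n31541
theorem D67871 : act 1 n31541 = n67871 := rfl
def n67872 : Q := act 7 n31541
theorem D67872 : act 7 n31541 = n67872 := rfl
theorem F103929 : act 3 n67872 = n31544 := d8_1 D67872 (iv7 D31544) (iv3 F49883)
def n67873 : Q := act 2 n31542
theorem D67873 : act 2 n31542 = n67873 := rfl
theorem F103930 : act 7 n31543 = n67873 := d15_2 (iv0 D31542) D31543 (iv2 D67873)
def n67874 : Q := act 3 n31542
theorem D67874 : act 3 n31542 = n67874 := rfl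
def n67875 : Q := act 4 n31542
theorem D67875 : act 4 n31542 = n67875 := rfl
def n67876 : Q := act 5 n31542
theorem D67876 : act 5 n31542 = n67876 := rfl
def n67877 : Q := act 6 n31542
theorem D67877 : act 6 n31542 = n67877 := rfl
theorem F103931 : act 5 n67877 = n54315 := d21_6 F5307 (iv1 F7611) D7075 D14857 D31542 D67877 (iv1 D54315) (iv5 D26255) (iv6 D12445) (iv1 F9174)
def n67878 : Q := act 7 n31542
theorem D67878 : act 7 n31542 = n67878 := rfl
theorem F103932 : act 2 n67878 = n31543 := d4_1 D67878 F103930 (iv2 D67873)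
def n67879 : Q := act 3 n31543
theorem D67879 : act 3 n31543 = n67879 := rfl
def n67880 : Q := act 4 n31543
theorem D67880 : act 4 n31543 = n67880 := rfl
def n67881 : Q := act 5 n31543
theorem D67881 : act 5 n31543 = n67881 := rfl
theorem F103933 : act 6 n35980 = n67881 := d21_5 (iv5 D24384) (iv1 F20819) (iv5 F20820) D17418 D35980 (iv5 D67881) (iv1 D31543) (iv5 F41975) (iv6 D26322) (iv1 F38235)
def n67882 : Q := act 6 n31543
theorem D67882 : act 6 n31543 = n67882 := rfl
def n67883 : Q := act 5 n31547
theorem D67883 : act 5 n31547 = n67883 := rfl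
theorem F103934 : act 2 n67883 = n32179 := d2_1 D67883 F54266 (iv2 F55529)
theorem F103935 : act 7 n67883 = n32174 := d13_2 (iv7 F55530) D67883 F51134
theorem F103936 : act 1 n67883 = n31802 := d17_6 (iv1 F54300) (iv5 F22734) (iv1 F45977) (iv5 F50947) D31547 D67883 F50105 (iv0 F50302) F54303
theorem F103937 : act 4 n67883 = n32143 := d18_5 (iv1 D26047) F20501 D14858 D31547 D67883 F51099 F24811 F24802 (iv5 F50957)
def n67884 : Q := act 4 n31555
theorem D67884 : act 4 n31555 = n67884 := rfl
theorem F103938 : act 2 n67884 = n31558 := d1_1 D67884 (iv4 D31558) (iv2 F49889)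
theorem F103939 : act 7 n67884 = n59857 := d11_2 F50765 D67884 (iv4 D59857)
theorem F103940 : act 0 n67884 = n32079 := d17_0 (iv5 F53381) F94412 F94411 F45987 F22734 F54300 D28402 F54307 D67884
def n67885 : Q := act 6 n31555
theorem D67885 : act 6 n31555 = n67885 := rfl
theorem F103941 : act 2 n67885 = n31559 := d3_1 D67885 (iv6 D31559) (iv2 F49889)
theorem F103942 : act 5 n67885 = n60105 := d12_1 D67885 (iv6 D60105) F50876 F45535 D31555
theorem F103943 : act 0 n67885 = n60332 := d21_4 (iv5 F50824) (iv1 F41182) D31555 D67885 (iv6 D60332) (iv5 D28655) (iv1 D13659) (iv5 F22732) (iv6 D13570) D13567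
def n67886 : Q := act 5 n31558
theorem D67886 : act 5 n31558 = n67886 := rfl
theorem F103944 : act 1 n67886 = n51550 := d17_6 D28445 F50964 (iv1 D14859) D14861 D31558 D67886 (iv5 F81344) F51116 (iv4 D28447)
def n67887 : Q := act 6 n31558
theorem D67887 : act 6 n31558 = n67887 := rfl
theorem F103945 : act 4 n67887 = n31559 := d10_1 D67887 (iv6 D31559) D31558
def n67888 : Q := act 0 n31559
theorem D67888 : act 0 n31559 = n67888 := rfl
theorem F103946 : act 6 n67888 = n60190 := d21_5 F50964 (iv1 D14859) D14861 D31559 D67888 (iv5 D60190) (iv1 D28610) (iv5 F45981) (iv6 D28448) D28445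
def n67889 : Q := act 1 n31559
theorem D67889 : act 1 n31559 = n67889 := rfl
def n67890 : Q := act 7 n31559
theorem D67890 : act 7 n31559 = n67890 := rfl
theorem F103947 : act 3 n67890 = n31562 := d8_1 D67890 (iv7 D31562) (iv3 F49890)
theorem F103948 : act 5 n67890 = n61754 := d13_1 D67890 (iv7 D61754) (iv5 F49891)
def n67891 : Q := act 3 n31560
theorem D67891 : act 3 n31560 = n67891 := rfl
theorem F103949 : act 6 n67891 = n49034 := d7_2 (iv6 F49892) D67891 F77396
def n67892 : Q := act 5 n31560
theorem D67892 : act 5 n31560 = n67892 := rfl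
theorem F103950 : act 2 n67892 = n60422 := d2_1 D67892 (iv5 D60422) F49893
theorem F103951 : act 6 n67892 = n32816 := d12_2 (iv6 F49892) D67892 F51958 (iv6 D23921) D23920
theorem F103952 : act 7 n67892 = n62811 := d13_2 F50173 D67892 F98020
theorem F103953 : act 0 n62875 = n32700 := d21_1 D62875 (iv5 F51965) (iv6 D32819) D32816 (iv6 F103951) (iv5 D67892) (iv1 F50180) F50177 F47822 (iv1 F47835)
theorem E9456 : n62909 = n62876 := (c21_5 F51958 (iv1 F47870) (iv5 D29764) D29765 D62909 (iv6 D62876) D62875 F103953 (iv5 F51965) (iv6 D32819) D32816)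
theorem F103954 : act 0 n62876 = n61815 := (sb E9456 (iv1 F98152))
theorem F103955 : act 1 n62876 = n29765 := (sb E9456 (iv0 D62909))
def n67893 : Q := act 3 n31561
theorem D67893 : act 3 n31561 = n67893 := rfl
theorem F103956 : act 7 n67893 = n60415 := d8_2 (iv7 F49894) D67893 F94925
def n67894 : Q := act 6 n31561
theorem D67894 : act 6 n31561 = n67894 := rfl
theorem F103957 : act 2 n67894 = n60392 := d3_1 D67894 F94906 (iv2 F50174)
theorem F103958 : act 7 n67894 = n49029 := d14_2 (iv7 F49894) D67894 (iv6 D49029) (iv7 F44679) D28692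
theorem F103959 : act 1 n60391 = n67894 := d15_1 D60391 F103958 F77386
theorem F103960 : act 1 n60392 = n31872 := d15_0 (iv0 F77387) (iv7 F103958) F103957
def n67895 : Q := act 5 n31564
theorem D67895 : act 5 n31564 = n67895 := rfl
def n67896 : Q := act 6 n31564
theorem D67896 : act 6 n31564 = n67896 := rfl
theorem F103962 : act 4 n67896 = n31566 := d10_1 D67896 (iv6 D31566) D31564
theorem F103963 : act 0 n67896 = n35036 := d20_1 (iv4 F103962) F55648 (iv3 F55594) (iv1 F55597) F38087 F18708 F12084 F12081 D14894 (iv1 F77018)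
def n67897 : Q := act 5 n31569
theorem D67897 : act 5 n31569 = n67897 := rfl
def n67898 : Q := act 4 n31572
theorem D67898 : act 4 n31572 = n67898 := rfl
theorem F103964 : act 2 n67898 = n31578 := d1_1 D67898 (iv4 D31578) (iv2 F49898)
theorem F103965 : act 1 n67898 = n31973 := d18_6 (iv1 F50650) D32370 F51408 F27758 D31572 D67898 (iv4 D31973) F50316 (iv5 F50315)
def n67899 : Q := act 6 n31572
theorem D67899 : act 6 n31572 = n67899 := rfl
theorem F103966 : act 2 n67899 = n31579 := d3_1 D67899 (iv6 D31579) (iv2 F49898)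
theorem F103967 : act 3 n67899 = n59858 := d7_1 D67899 (iv6 D59858) F50763
theorem F103968 : act 5 n67899 = n60117 := d12_1 D67899 (iv6 D60117) F46147 (iv6 F27755) D31572
def n67900 : Q := act 6 n31573
theorem D67900 : act 6 n31573 = n67900 := rfl
theorem F103969 : act 3 n67900 = n32355 := d7_1 D67900 (iv6 D32355) (iv3 F49899)
theorem F103970 : act 4 n67900 = n34403 := d10_1 D67900 (iv6 D34403) (iv4 F49900)
theorem F103971 : act 7 n67900 = n60444 := d14_2 F51407 D67900 F94963 F46644 (iv6 F51406)
theorem F103972 : act 0 n31681 = n67900 := d18_2 F77104 D31681 F103970 (iv5 F54572) D55236 (iv0 F87409) (iv4 D54499) (iv0 F78831) (iv5 D49849)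
def n67901 : Q := act 3 n31574
theorem D67901 : act 3 n31574 = n67901 := rfl
theorem F103973 : act 2 n67901 = n32356 := d0_1 D67901 (iv3 D32356) (iv2 F27717) (iv3 F51405) F51404
theorem F103974 : act 4 n67901 = n52673 := d5_2 F50522 D67901 (iv3 F83236) (iv4 D31521) (iv3 F50521)
theorem F103975 : act 6 n67901 = n61283 := d7_2 F78498 D67901 F95758
theorem F103976 : act 0 n67901 = n49116 := d20_10 F82962 (iv1 F77474) F77411 F76609 F45892 (iv3 F55424) F55425 (iv1 F43632) F50522 D67901
def n67902 : Q := act 0 n31575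
theorem D67902 : act 0 n31575 = n67902 := rfl
theorem F103977 : act 5 n67902 = n31953 := d17_3 (iv1 D31574) D31575 D67902 F50299 (iv5 F50330) (iv0 F52355) (iv5 D27011) D27010 F50522
theorem F103978 : act 2 n48693 = n67902 := d15_3 (iv0 D67902) (iv0 F85414) F85413
theorem F103979 : act 3 n67902 = n32358 := d0_2 (iv3 F76628) F103978 F55222 (iv3 F65470) (iv2 F68248)
theorem F103980 : act 7 n67902 = n31952 := d4_2 F85413 F103978 (iv2 F85412)
def n67903 : Q := act 4 n31575
theorem D67903 : act 4 n31575 = n67903 := rfl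
def n67904 : Q := act 6 n31575
theorem D67904 : act 6 n31575 = n67904 := rfl
theorem F103981 : act 3 n67904 = n52523 := d7_1 D67904 (iv6 D52523) (iv3 F49902)
theorem F103982 : act 5 n67904 = n33060 := d12_1 D67904 (iv6 D33060) F35191 F26707 D31575
def n67905 : Q := act 4 n31576
theorem D67905 : act 4 n31576 = n67905 := rfl
theorem F103983 : act 2 n67905 = n48904 := d1_1 D67905 (iv4 D48904) F54339
theorem F103984 : act 7 n67905 = n48894 := d11_2 F54340 D67905 (iv4 D48894)
theorem F103985 : act 1 n67905 = n34996 := d18_6 D15080 D31971 (iv1 F77066) F77064 (iv5 F54342) D67905 (iv4 D34996) (iv0 F41343) (iv5 D15082)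
def n67906 : Q := act 6 n31576
theorem D67906 : act 6 n31576 = n67906 := rfl
theorem F103986 : act 2 n67906 = n48905 := d3_1 D67906 (iv6 D48905) F54339
theorem F103987 : act 3 n67906 = n59877 := d7_1 D67906 (iv6 D59877) (iv3 F54341)
def n67907 : Q := act 3 n31577
theorem D67907 : act 3 n31577 = n67907 := rfl
theorem F103988 : act 2 n67907 = n59853 := d0_1 D67907 F94298 F54325 (iv3 F51451) (iv2 F54337)
theorem F103989 : act 5 n67907 = n48886 := d6_2 F54336 D67907 (iv3 D48886)
theorem F103990 : act 7 n67907 = n48899 := d8_2 (iv7 F54338) D67907 F77082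
def n67908 : Q := act 4 n31577
theorem D67908 : act 4 n31577 = n67908 := rfl
theorem F103991 : act 2 n67908 = n48894 := d1_1 D67908 (iv4 D48894) (iv2 F54337)
theorem F103992 : act 7 n67908 = n48904 := d11_2 (iv7 F54338) D67908 (iv4 D48904)
theorem F103993 : act 0 n67908 = n34996 := d18_2 (iv1 F50168) D67908 (iv4 D34996) (iv5 D16986) (iv4 F27857) (iv0 F55394) (iv4 D31569) F39938 (iv5 F50164)
def n67909 : Q := act 6 n31577
theorem D67909 : act 6 n31577 = n67909 := rfl
theorem F103994 : act 2 n67909 = n48895 := d3_1 D67909 (iv6 D48895) (iv2 F54337)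
def n67910 : Q := act 0 n31578
theorem D67910 : act 0 n31578 = n67910 := rfl
theorem F103995 : act 4 n67910 = n31974 := d18_3 (iv1 D31577) D31578 D67910 F50330 (iv4 F50299) F50301 F36983 (iv0 F54334) F54336
theorem F103996 : act 7 n31973 = n67910 := d11_0 F103995 (iv7 D31974) D31973
def n67911 : Q := act 5 n31578
theorem D67911 : act 5 n31578 = n67911 := rfl
def n67912 : Q := act 6 n31578
theorem D67912 : act 6 n31578 = n67912 := rfl
theorem F103997 : act 4 n67912 = n31579 := d10_1 D67912 (iv6 D31579) D31578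
def n67913 : Q := act 0 n31579
theorem D67913 : act 0 n31579 = n67913 := rfl
def n67914 : Q := act 1 n31579
theorem D67914 : act 1 n31579 = n67914 := rfl
def n67915 : Q := act 7 n31579
theorem D67915 : act 7 n31579 = n67915 := rfl
theorem F103998 : act 3 n67915 = n31582 := d8_1 D67915 (iv7 D31582) (iv3 F49903)
def n67916 : Q := act 2 n31580
theorem D67916 : act 2 n31580 = n67916 := rfl
theorem F103999 : act 7 n31581 = n67916 := d15_2 (iv0 D31580) D31581 (iv2 D67916)
def n67917 : Q := act 3 n31580
theorem D67917 : act 3 n31580 = n67917 := rfl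
def n67918 : Q := act 4 n31580
theorem D67918 : act 4 n31580 = n67918 := rfl
def n67919 : Q := act 5 n31580
theorem D67919 : act 5 n31580 = n67919 := rfl
def n67920 : Q := act 6 n31580
theorem D67920 : act 6 n31580 = n67920 := rfl
theorem F104000 : act 5 n67920 = n59996 := d21_6 (iv5 D3276) (iv1 F5027) D7079 D14868 D31580 D67920 (iv1 D59996) (iv5 D28487) (iv6 D13578) (iv1 F10531)
def n67921 : Q := act 7 n31580
theorem D67921 : act 7 n31580 = n67921 := rfl
theorem F104001 : act 2 n67921 = n31581 := d4_1 D67921 F103999 (iv2 D67916)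
def n67922 : Q := act 3 n31581
theorem D67922 : act 3 n31581 = n67922 := rfl
def n67923 : Q := act 4 n31581
theorem D67923 : act 4 n31581 = n67923 := rfl
def n67924 : Q := act 5 n31581
theorem D67924 : act 5 n31581 = n67924 := rfl
theorem F104002 : act 6 n32683 = n67924 := d21_5 (iv5 D12540) (iv1 F9262) F25799 D15568 D32683 (iv5 D67924) (iv1 D31581) F26878 (iv6 D15806) (iv1 F20892)
def n67925 : Q := act 6 n31581
theorem D67925 : act 6 n31581 = n67925 := rfl
def n67926 : Q := act 5 n31590
theorem D67926 : act 5 n31590 = n67926 := rfl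
theorem F104003 : act 3 n67926 = n32174 := d6_1 D67926 F51134 F49912
theorem F104004 : act 0 n67926 = n31630 := d17_2 (iv1 F85125) D67926 F50444 F24723 D32023 (iv0 F82811) (iv5 D52451) F45890 (iv4 F85121)
def n67927 : Q := act 6 n31590
theorem D67927 : act 6 n31590 = n67927 := rfl
theorem F104005 : act 3 n67927 = n32394 := d7_1 D67927 (iv6 D32394) F49912
theorem F104006 : act 0 n67927 = n31648 := d20_4 (iv4 F41210) (iv1 F84941) F84937 (iv3 F104005) (iv3 D31648) D31649 F95990 F95989 F54462 F54104
def n67928 : Q := act 5 n31591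
theorem D67928 : act 5 n31591 = n67928 := rfl
theorem F104007 : act 2 n67928 = n31592 := d2_1 D67928 (iv5 D31592) D31591
theorem F104008 : act 3 n67928 = n59850 := d6_1 D67928 F94294 F85126
theorem F104009 : act 1 n67928 = n48899 := d17_6 (iv1 D15109) D15110 D32024 F82883 F50627 D67928 (iv5 D48899) F77028 F24723
theorem F104010 : act 4 n67928 = n32035 := d18_5 (iv1 F26918) (iv4 F20021) D25454 F50627 D67928 (iv0 D32035) (iv4 D15114) D15113 F41437
theorem F104011 : act 1 n48899 = n31840 := d15_1 F104009 (iv7 F50619) (iv2 F104007)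
theorem F104012 : act 1 n59853 = n67928 := d15_0 F104009 (iv7 F103990) F103988
def n67929 : Q := act 6 n31591
theorem D67929 : act 6 n31591 = n67929 := rfl
theorem F104013 : act 2 n67929 = n31593 := d3_1 D67929 (iv6 D31593) D31591
theorem F104014 : act 4 n67929 = n52450 := d10_1 D67929 (iv6 D52450) F50627
theorem F104015 : act 7 n67929 = n32447 := d14_2 F85123 D67929 (iv6 D32447) (iv7 F41895) (iv6 F85122)
theorem F104016 : act 0 n67929 = n32452 := d21_10 F96222 (iv1 D61652) (iv5 D29218) D29219 F77093 (iv6 D48900) D48899 (iv1 F104009) (iv5 D67928) D67929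
theorem F104017 : act 5 n61696 = n67929 := d21_2 D62761 (iv1 F97917) (iv6 D67929) (iv1 F85119) F85118 (iv5 F96131) F96132 (iv5 D29238) F46897 F54252
theorem F104018 : act 1 n67929 = n32451 := d15_1 (iv0 F104016) (iv7 F93547) F93545
def n67930 : Q := act 0 n31592
theorem D67930 : act 0 n31592 = n67930 := rfl
def n67931 : Q := act 1 n31592
theorem D67931 : act 1 n31592 = n67931 := rfl
theorem F104019 : act 5 n67931 = n48897 := d17_7 (iv1 F40272) D32016 (iv1 F82888) F82890 (iv4 F45891) D31592 D67931 F77075 F50119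
theorem F104020 : act 3 n32400 = n67931 := d20_9 F85266 (iv1 D54041) (iv4 D26144) F20657 (iv1 F11328) (iv3 F24517) D31540 D67866 F103920 (iv1 D67931)
theorem F104021 : act 2 n67931 = n48899 := d0_1 F104020 F77082 F54339 F54341 (iv2 F54322)
theorem F104022 : act 7 n67931 = n59853 := d8_2 (iv7 F54323) F104020 F94298
theorem E9457 : n67930 = n67907 := ((c15_4 (iv0 D67930) D67931 F104022 (iv2 F103988))).symm
theorem F104023 : act 1 n67907 = n31592 := (sb E9457 (iv0 D67930))
def n67932 : Q := act 6 n31592
theorem D67932 : act 6 n31592 = n67932 := rfl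
theorem F104024 : act 3 n67932 = n31604 := d7_1 D67932 (iv6 D31604) (iv3 F49913)
theorem F104025 : act 5 n67932 = n61698 := d12_1 D67932 (iv6 D61698) (iv5 F50559) (iv6 D31593) D31592
def n67933 : Q := act 6 n31596
theorem D67933 : act 6 n31596 = n67933 := rfl
theorem F104026 : act 3 n67933 = n34318 := d7_1 D67933 F54470 F49921
theorem F104027 : act 7 n67933 = n34314 := d14_2 F50959 D67933 (iv6 D34314) (iv7 F51535) F51532
theorem F104028 : act 1 n31649 = n67933 := d15_1 (iv0 F95990) F104027 (iv2 F95987)
theorem F104029 : act 1 n67933 = n31654 := d15_1 F104028 F55630 F55625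
def n67934 : Q := act 6 n31598
theorem D67934 : act 6 n31598 = n67934 := rfl
def n67935 : Q := act 0 n31603
theorem D67935 : act 0 n31603 = n67935 := rfl
theorem F104030 : act 4 n67935 = n32067 := d18_3 F50471 D31603 D67935 (iv5 D32067) F24777 (iv0 F24775) F24765 (iv0 D12390) D12393
theorem F104031 : act 1 n31619 = n67935 := d15_0 (iv0 D67935) F50620 F50621
theorem F104032 : act 7 n32110 = n67935 := d11_0 F104030 F50696 D32110
def n67936 : Q := act 1 n31603
theorem D67936 : act 1 n31603 = n67936 := rfl
theorem F104033 : act 1 n67936 = n31619 := d15_1 D67936 F50612 (iv2 F50614)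
theorem F104034 : act 4 n67936 = n32108 := d18_7 D34978 F55388 (iv1 D31596) (iv4 D14871) D14872 D31603 D67936 (iv0 F55400) (iv5 D34979)
theorem F104035 : act 2 n32110 = n67936 := d1_3 F104034 F51051 D32110
def n67937 : Q := act 3 n31603
theorem D67937 : act 3 n31603 = n67937 := rfl
def n67938 : Q := act 5 n31603
theorem D67938 : act 5 n31603 = n67938 := rfl
def n67939 : Q := act 6 n31603
theorem D67939 : act 6 n31603 = n67939 := rfl
theorem F104036 : act 4 n67939 = n31604 := d10_1 D67939 (iv6 D31604) D31603
def n67940 : Q := act 0 n31604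
theorem D67940 : act 0 n31604 = n67940 := rfl
def n67941 : Q := act 1 n31604
theorem D67941 : act 1 n31604 = n67941 := rfl
def n67942 : Q := act 7 n31604
theorem D67942 : act 7 n31604 = n67942 := rfl
theorem F104037 : act 5 n67942 = n61706 := d13_1 D67942 (iv7 D61706) (iv5 F50560)
def n67943 : Q := act 6 n31611
theorem D67943 : act 6 n31611 = n67943 := rfl
theorem F104038 : act 3 n67943 = n32582 := d7_1 D67943 (iv6 F93555) F82784
def n67944 : Q := act 5 n31613
theorem D67944 : act 5 n31613 = n67944 := rfl
theorem F104039 : act 2 n67944 = n31615 := d2_1 D67944 (iv5 D31615) D31613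
theorem F104040 : act 7 n67944 = n59850 := d13_2 F85128 D67944 F94294
theorem F104041 : act 0 n67944 = n52556 := d17_2 (iv1 F55396) D67944 (iv5 D52556) (iv4 D25512) D25513 (iv0 F82944) (iv5 D35968) F49850 (iv4 F55379)
theorem F104042 : act 1 n67944 = n52547 := d17_6 F50130 D52502 F83164 (iv5 D52636) F50618 D67944 (iv5 D52547) (iv0 F40342) D31833
def n67945 : Q := act 0 n31615
theorem D67945 : act 0 n31615 = n67945 := rfl
theorem F104043 : act 5 n67945 = n52548 := d17_3 F49934 D31615 D67945 F83043 (iv5 F83047) F83048 (iv5 D52445) D52444 (iv4 F82790)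
theorem F104044 : act 2 n52556 = n67945 := d15_3 (iv0 D67945) (iv0 F50916) (iv7 F83062)
theorem F104045 : act 1 n59850 = n67945 := d15_0 (iv0 D67945) F50611 F94295
theorem F104046 : act 7 n67945 = n52547 := d15_2 D59850 F104045 F83039
theorem F104047 : act 3 n59870 = n67945 := d8_3 F104046 F83040 (iv7 F94330)
def n67946 : Q := act 6 n31615
theorem D67946 : act 6 n31615 = n67946 := rfl
theorem F104048 : act 3 n67946 = n31620 := d7_1 D67946 (iv6 D31620) (iv3 F49935)
theorem F104049 : act 5 n67946 = n32439 := d12_1 D67946 (iv6 D32439) (iv5 D15334) F50465 D31615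
def n67947 : Q := act 6 n31617
theorem D67947 : act 6 n31617 = n67947 := rfl
theorem F104050 : act 3 n67947 = n31958 := d7_1 D67947 (iv6 D31958) (iv3 F50469)
theorem F104051 : act 5 n67947 = n32441 := d12_1 D67947 (iv6 D32441) (iv5 D15340) F50470 D31617
def n67948 : Q := act 3 n31619
theorem D67948 : act 3 n31619 = n67948 := rfl
def n67949 : Q := act 5 n31619
theorem D67949 : act 5 n31619 = n67949 := rfl
def n67950 : Q := act 6 n31619
theorem D67950 : act 6 n31619 = n67950 := rfl
theorem F104052 : act 4 n67950 = n31620 := d10_1 D67950 (iv6 D31620) D31619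
def n67951 : Q := act 0 n31620
theorem D67951 : act 0 n31620 = n67951 := rfl
def n67952 : Q := act 1 n31620
theorem D67952 : act 1 n31620 = n67952 := rfl
def n67953 : Q := act 7 n31620
theorem D67953 : act 7 n31620 = n67953 := rfl
theorem F104053 : act 5 n67953 = n32444 := d13_1 D67953 (iv7 D32444) F50623
def n67954 : Q := act 3 n31625
theorem D67954 : act 3 n31625 = n67954 := rfl
def n67955 : Q := act 5 n31625
theorem D67955 : act 5 n31625 = n67955 := rfl
theorem F104054 : act 2 n67955 = n31641 := d2_1 D67955 (iv5 D31641) (iv2 F49938)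
theorem F104055 : act 4 n67955 = n53977 := d16_2 D31625 D67955 (iv5 D53977) (iv4 D26106) (iv5 D12372) F9100 D12372 F20569 (iv2 F24524)
def n67956 : Q := act 6 n31625
theorem D67956 : act 6 n31625 = n67956 := rfl
theorem F104056 : act 2 n67956 = n31642 := d3_1 D67956 (iv6 D31642) (iv2 F49938)
theorem F104057 : act 4 n67956 = n31626 := d10_1 D67956 (iv6 D31626) D31625
def n67957 : Q := act 0 n31626
theorem D67957 : act 0 n31626 = n67957 := rfl
def n67958 : Q := act 1 n31626
theorem D67958 : act 1 n31626 = n67958 := rfl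
theorem F104058 : act 1 n67958 = n31646 := d15_1 D67958 (iv7 D31646) (iv2 F49939)
def n67959 : Q := act 7 n31626
theorem D67959 : act 7 n31626 = n67959 := rfl
theorem F104059 : act 2 n67959 = n31646 := d4_1 D67959 (iv7 D31646) (iv2 F49939)
theorem F104060 : act 1 n31646 = n67957 := d15_0 (iv0 D67957) D67959 F104059
theorem F104061 : act 1 n31644 = n67959 := d15_1 D31644 (iv7 D67959) F49939
theorem F104062 : act 1 n67959 = n31643 := d15_0 (iv0 D31643) D31646 (iv2 F104059)
def n67960 : Q := act 3 n31627
theorem D67960 : act 3 n31627 = n67960 := rfl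
theorem F104063 : act 4 n67960 = n52651 := d5_2 F55627 D67960 F83198 F55634 (iv3 F55626)
theorem F104064 : act 5 n67960 = n54470 := d6_2 F50644 D67960 (iv3 D54470)
theorem F104065 : act 6 n67960 = n32469 := d7_2 (iv6 F50642) D67960 (iv3 D32469)
theorem F104066 : act 7 n67960 = n31653 := d8_2 (iv7 F50643) D67960 (iv3 D31653)
def n67961 : Q := act 3 n31628
theorem D67961 : act 3 n31628 = n67961 := rfl
theorem F104067 : act 5 n67961 = n54467 := d6_2 (iv5 F50602) D67961 (iv3 D54467)
theorem F104068 : act 6 n67961 = n31653 := d7_2 (iv6 F50603) D67961 (iv3 D31653)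
theorem F104069 : act 7 n67961 = n31648 := d8_2 (iv7 F50639) D67961 (iv3 D31648)
theorem F104070 : act 4 n67961 = n52458 := d20_6 (iv4 D12355) (iv1 F9080) (iv4 F11337) (iv3 F24529) (iv1 F49941) D67961 (iv1 D52458) F40249 F37160 (iv1 F20532)
def n67962 : Q := act 4 n31628
theorem D67962 : act 4 n31628 = n67962 := rfl
theorem F104071 : act 2 n67962 = n31654 := d1_1 D67962 (iv4 D31654) (iv2 F50638)
theorem F104072 : act 6 n67962 = n31654 := d10_2 (iv6 F50603) D67962 (iv4 D31654)
theorem F104073 : act 7 n67962 = n31649 := d11_2 (iv7 F50639) D67962 (iv4 D31649)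
theorem F104074 : act 5 n67962 = n33515 := d17_5 (iv1 D12562) D12563 D26341 (iv5 F50602) D67962 (iv0 D33515) (iv5 D16192) D16191 F51000
theorem F104075 : act 0 n34314 = n67962 := d20_10 (iv4 D67962) (iv1 D31628) F24526 F26689 (iv1 F21194) (iv3 F27935) F27936 (iv1 F54105) F47459 (iv3 F54462)
theorem F104076 : act 3 n60445 = n67962 := d20_5 F12708 F10569 D13683 D28707 D60445 (iv4 D67962) (iv1 D31628) F24526 F26689 (iv1 F21194)
def n67963 : Q := act 0 n31630
theorem D67963 : act 0 n31630 = n67963 := rfl
def n67964 : Q := act 2 n31630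
theorem D67964 : act 2 n31630 = n67964 := rfl
theorem F104077 : act 4 n67964 = n54212 := d1_2 (iv4 F51180) D67964 (iv2 F85548)
theorem F104078 : act 5 n67964 = n31826 := d2_2 (iv5 F50444) D67964 (iv2 D31826)
def n67965 : Q := act 6 n31630
theorem D67965 : act 6 n31630 = n67965 := rfl
theorem F104079 : act 3 n67965 = n31633 := d7_1 D67965 (iv6 D31633) D31630
def n67966 : Q := act 1 n31631
theorem D67966 : act 1 n31631 = n67966 := rfl
theorem F104080 : act 1 n67966 = n31636 := d15_1 D67966 (iv7 F85153) F85152
def n67967 : Q := act 3 n31631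
theorem D67967 : act 3 n31631 = n67967 := rfl
def n67968 : Q := act 5 n31631
theorem D67968 : act 5 n31631 = n67968 := rfl
def n67969 : Q := act 6 n31631
theorem D67969 : act 6 n31631 = n67969 := rfl
theorem F104081 : act 4 n67969 = n31633 := d10_1 D67969 (iv6 D31633) D31631
def n67970 : Q := act 0 n31633
theorem D67970 : act 0 n31633 = n67970 := rfl
def n67971 : Q := act 1 n31633
theorem D67971 : act 1 n31633 = n67971 := rfl
def n67972 : Q := act 7 n31633
theorem D67972 : act 7 n31633 = n67972 := rfl
def n67973 : Q := act 4 n31635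
theorem D67973 : act 4 n31635 = n67973 := rfl
theorem F104082 : act 2 n67973 = n54155 := d1_1 D67973 (iv4 F94292) F94290
theorem F104083 : act 7 n67973 = n54154 := d11_2 F85150 D67973 F85485
theorem F104084 : act 0 n67973 = n54139 := d18_2 F85505 D67973 (iv4 D54139) (iv5 F41591) D31522 (iv0 F50462) F50464 (iv0 F49934) (iv5 F85503)
theorem F104085 : act 1 n67973 = n54142 := d18_6 (iv1 F26927) (iv4 F41566) F50131 (iv4 D31833) (iv5 F50448) D67973 (iv4 D54142) F41595 F20699
def n67974 : Q := act 6 n31635
theorem D67974 : act 6 n31635 = n67974 := rfl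
theorem F104086 : act 3 n67974 = n31638 := d7_1 D67974 (iv6 D31638) D31635
theorem F104087 : act 5 n67974 = n32477 := d12_1 D67974 (iv6 D32477) F24951 (iv6 F41349) (iv5 F50448)
def n67975 : Q := act 3 n31636
theorem D67975 : act 3 n31636 = n67975 := rfl
def n67976 : Q := act 5 n31636
theorem D67976 : act 5 n31636 = n67976 := rfl
def n67977 : Q := act 6 n31636
theorem D67977 : act 6 n31636 = n67977 := rfl
theorem F104088 : act 4 n67977 = n31638 := d10_1 D67977 (iv6 D31638) D31636
def n67978 : Q := act 0 n31638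
theorem D67978 : act 0 n31638 = n67978 := rfl
def n67979 : Q := act 1 n31638
theorem D67979 : act 1 n31638 = n67979 := rfl
def n67980 : Q := act 7 n31638
theorem D67980 : act 7 n31638 = n67980 := rfl
theorem F104089 : act 5 n67980 = n32481 := d13_1 D67980 (iv7 D32481) (iv5 F50450)
def n67981 : Q := act 3 n31639
theorem D67981 : act 3 n31639 = n67981 := rfl
def n67982 : Q := act 5 n31639
theorem D67982 : act 5 n31639 = n67982 := rfl
theorem F104090 : act 4 n67982 = n67976 := d16_2 (iv4 F50631) D67982 (iv5 D67976) (iv4 D31636) (iv5 F50449) D14984 D31835 (iv7 F50241) F50239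
theorem F104091 : act 1 n67982 = n31848 := d17_6 F85134 (iv5 D32067) (iv1 F24795) D31828 (iv4 F50631) D67982 (iv5 D31848) D31847 F85136
def n67983 : Q := act 6 n31639
theorem D67983 : act 6 n31639 = n67983 := rfl
def n67984 : Q := act 3 n31640
theorem D67984 : act 3 n31640 = n67984 := rfl
def n67985 : Q := act 5 n31640
theorem D67985 : act 5 n31640 = n67985 := rfl
theorem F104092 : act 4 n67985 = n67968 := d9_1 D67985 (iv5 D67968) (iv4 D31631) F50442 D14979 D31828 (iv4 F50631) D67982 F104090 (iv5 D67976) (iv4 D31636) (iv5 F50449) D14984 D31835 F50515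
theorem F104093 : act 0 n67985 = n31848 := d17_2 F85139 D67985 (iv5 D31848) (iv4 D14991) (iv5 D7133) D7131 F50449 F41289 D53967
def n67986 : Q := act 6 n31640
theorem D67986 : act 6 n31640 = n67986 := rfl
def n67987 : Q := act 0 n31641
theorem D67987 : act 0 n31641 = n67987 := rfl
theorem F104094 : act 5 n67987 = n54011 := d17_3 (iv1 D31640) D31641 D67987 F85201 (iv5 D31598) D31596 (iv5 F51082) F51085 F50515
theorem F104095 : act 4 n67949 = n67987 := d16_2 D31619 D67949 F104094 F85201 (iv5 D31598) (iv4 D14871) D14872 (iv7 F50461) F50460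
def n67988 : Q := act 1 n31641
theorem D67988 : act 1 n31641 = n67988 := rfl
theorem F104096 : act 5 n67988 = n54012 := d17_7 F50473 (iv5 D14877) (iv1 D7081) D7083 D14883 D31641 D67988 F85205 (iv4 D31838)
theorem F104097 : act 4 n67938 = n67988 := d9_15 F104096 F85207 (iv5 D31617) (iv4 D14876) D14877 D31619 D67949 F104095 F104094 F85201 (iv5 D31598) (iv4 D14871) D14872 D31603 D67938
def n67989 : Q := act 4 n31641
theorem D67989 : act 4 n31641 = n67989 := rfl
theorem F104098 : act 2 n67989 = n53977 := d1_1 D67989 (iv4 F104055) F104054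
theorem F104099 : act 7 n67989 = n67955 := d11_2 F85163 D67989 F104055
theorem F104100 : act 5 n67989 = n53967 := d16_3 D14883 D31641 D67989 (iv4 D53967) (iv5 D26103) F20563 D26103 F41288 F24524
theorem F104101 : act 0 n67989 = n67988 := d18_2 (iv1 D67988) D67989 (iv4 F104097) (iv5 D67938) (iv4 D31603) (iv0 F50471) D26129 D54012 (iv5 F104096)
theorem F104102 : act 1 n67989 = n67987 := d18_8 (iv1 F85202) (iv4 D31838) F50473 D31619 D67949 F104095 (iv0 D67987) D67989 F104094
def n67990 : Q := act 6 n31641
theorem D67990 : act 6 n31641 = n67990 := rfl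
def n67991 : Q := act 0 n31642
theorem D67991 : act 0 n31642 = n67991 := rfl
def n67992 : Q := act 1 n31642
theorem D67992 : act 1 n31642 = n67992 := rfl
def n67993 : Q := act 5 n31642
theorem D67993 : act 5 n31642 = n67993 := rfl
def n67994 : Q := act 7 n31642
theorem D67994 : act 7 n31642 = n67994 := rfl
theorem F104103 : act 4 n67994 = n31646 := d11_1 D67994 (iv7 D31646) (iv4 F49944)
def n67995 : Q := act 2 n31643
theorem D67995 : act 2 n31643 = n67995 := rfl
theorem F104104 : act 7 n31644 = n67995 := d15_2 (iv0 D31643) D31644 (iv2 D67995)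
def n67996 : Q := act 3 n31643
theorem D67996 : act 3 n31643 = n67996 := rfl
def n67997 : Q := act 4 n31643
theorem D67997 : act 4 n31643 = n67997 := rfl
def n67998 : Q := act 5 n31643
theorem D67998 : act 5 n31643 = n67998 := rfl
def n67999 : Q := act 6 n31643
theorem D67999 : act 6 n31643 = n67999 := rfl
theorem F104105 : act 5 n67999 = n31851 := d21_6 (iv5 D14877) (iv1 D7081) D7083 D14884 D31643 D67999 (iv1 D31851) (iv5 F50138) (iv6 D31839) F50473
def n68000 : Q := act 7 n31643
theorem D68000 : act 7 n31643 = n68000 := rfl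
theorem F104106 : act 2 n68000 = n31644 := d4_1 D68000 F104104 (iv2 D67995)
def n68001 : Q := act 3 n31644
theorem D68001 : act 3 n31644 = n68001 := rfl
def n68002 : Q := act 4 n31644
theorem D68002 : act 4 n31644 = n68002 := rfl
def n68003 : Q := act 5 n31644
theorem D68003 : act 5 n31644 = n68003 := rfl
def n68004 : Q := act 6 n31644
theorem D68004 : act 6 n31644 = n68004 := rfl
def n68005 : Q := act 0 n31645
theorem D68005 : act 0 n31645 = n68005 := rfl
def n68006 : Q := act 1 n31645
theorem D68006 : act 1 n31645 = n68006 := rfl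
def n68008 : Q := act 7 n31645
theorem D68008 : act 7 n31645 = n68008 := rfl
theorem F104109 : act 5 n68008 = n31646 := d13_1 D68008 (iv7 D31646) D31645
def n68009 : Q := act 0 n31648
theorem D68009 : act 0 n31648 = n68009 := rfl
def n68010 : Q := act 2 n31648
theorem D68010 : act 2 n31648 = n68010 := rfl
theorem F104110 : act 6 n68010 = n32506 := d3_2 (iv6 F50636) D68010 (iv2 D32506)
theorem F104111 : act 4 n52457 = n68010 := d10_3 F104110 (iv4 F51583) (iv6 F82821)
def n68011 : Q := act 4 n31648
theorem D68011 : act 4 n31648 = n68011 := rfl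
theorem F104112 : act 2 n68011 = n52457 := d1_1 D68011 F104111 (iv2 D68010)
theorem F104113 : act 6 n68011 = n32507 := d10_2 (iv6 F50636) D68011 (iv4 D32507)
theorem F104114 : act 7 n68011 = n52458 := d11_2 F104069 D68011 (iv4 F104070)
theorem F104115 : act 0 n68011 = n34300 := d20_1 D68011 F54429 F27092 (iv1 F12017) D14900 (iv4 F41210) (iv1 F84941) F84937 (iv3 F104005) F104006
theorem F104116 : act 0 n52452 = n68011 := d20_1 (iv4 F82813) (iv4 D68011) (iv3 D31648) (iv1 F26693) (iv3 D16460) (iv4 D7632) D7631 D16458 (iv3 F52518) (iv1 F52519)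
theorem F104117 : act 5 n68011 = n33243 := d17_1 F104116 (iv1 D33243) (iv5 D16048) F11748 D7509 D16079 D33295 (iv0 F52533) (iv4 F82813)
def n68012 : Q := act 5 n31648
theorem D68012 : act 5 n31648 = n68012 := rfl
theorem F104118 : act 3 n68012 = n31650 := d6_1 D68012 (iv5 D31650) D31648
theorem F104119 : act 7 n68012 = n54467 := d13_2 F104069 D68012 (iv5 F104067)
theorem F104120 : act 1 n68012 = n60350 := d17_6 (iv1 F42597) D55036 (iv1 F87032) (iv5 F104117) (iv4 D68011) D68012 (iv5 D60350) (iv0 F52473) (iv4 D33238)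
theorem F104121 : act 4 n68012 = n33298 := d18_5 (iv1 F52519) (iv4 F82813) F104116 (iv4 D68011) D68012 F87036 (iv4 D55037) F42601 D33291
theorem F104122 : act 0 n68012 = n48962 := d21_7 D33216 (iv1 F52452) (iv5 D32434) D32435 F54123 (iv6 F50636) D68012 (iv5 D48962) (iv6 D23888) F37229
def n68013 : Q := act 5 n31649
theorem D68013 : act 5 n31649 = n68013 := rfl
theorem F104123 : act 2 n68013 = n33516 := d2_1 D68013 (iv5 F55629) F55625
theorem F104124 : act 3 n68013 = n33970 := d6_1 D68013 F55608 F55607
theorem F104125 : act 7 n68013 = n33515 := d13_2 F104073 D68013 (iv5 F104074)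
theorem F104126 : act 1 n68013 = n33518 := d17_6 (iv1 F27207) (iv5 F42012) (iv1 F50634) (iv5 D31650) D31649 D68013 F52837 F51004 F25154
theorem F104127 : act 0 n68013 = n33506 := d21_1 D68013 (iv5 D33506) (iv6 D16187) F11813 (iv6 F41351) D31835 (iv1 F51085) F51082 D67933 (iv1 F104028)
def n68014 : Q := act 4 n31650
theorem D68014 : act 4 n31650 = n68014 := rfl
theorem F104128 : act 2 n68014 = n54471 := d1_1 D68014 (iv4 D54471) (iv2 F50645)
theorem F104129 : act 7 n68014 = n54468 := d11_2 (iv7 F50640) D68014 (iv4 D54468)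
theorem F104130 : act 0 n68014 = n33517 := d18_2 (iv1 F50634) D68014 (iv4 D33517) (iv5 D16192) (iv4 F25721) F50776 F50244 F41382 (iv5 F42012)
def n68015 : Q := act 6 n31650
theorem D68015 : act 6 n31650 = n68015 := rfl
theorem F104132 : act 5 n68015 = n32513 := d12_1 D68015 (iv6 D32513) (iv5 D15388) F50633 D31650
def n68016 : Q := act 0 n31653
theorem D68016 : act 0 n31653 = n68016 := rfl
def n68017 : Q := act 1 n31653
theorem D68017 : act 1 n31653 = n68017 := rfl
def n68018 : Q := act 2 n31653
theorem D68018 : act 2 n31653 = n68018 := rfl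
def n68019 : Q := act 4 n31653
theorem D68019 : act 4 n31653 = n68019 := rfl
theorem F104133 : act 6 n68019 = n52458 := d10_2 F104068 D68019 (iv4 F104070)
theorem F104134 : act 7 n68019 = n52651 := d11_2 F104066 D68019 (iv4 F104063)
theorem F104135 : act 0 n68019 = n60450 := d20_7 F11601 F5435 D7632 D16460 (iv1 F26690) D31653 D68019 F94989 (iv3 D28710) (iv1 F23112)
theorem F104136 : act 3 n31675 = n68017 := d20_9 D68019 F104135 F94989 (iv3 D28710) (iv1 F23112) (iv3 F24996) (iv4 F27936) D35097 (iv4 F55767) (iv1 D68017)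
theorem F104137 : act 6 n68017 = n32452 := d7_2 (iv6 F54150) F104136 (iv3 F55498)
theorem F104138 : act 4 n51061 = n68017 := d10_3 F104137 F51527 D51061
theorem F104139 : act 0 n55618 = n51061 := d20_7 F84991 (iv1 F54472) (iv4 F54547) F54546 F52858 (iv3 F54112) (iv4 F87981) F104138 (iv3 F104136) (iv1 F84993)
theorem F104140 : act 0 n51061 = n52467 := d20_7 F18130 F9456 F11584 D14893 D31675 F104136 (iv4 F104138) F82838 (iv3 D26064) F20535
def n68020 : Q := act 5 n31653
theorem D68020 : act 5 n31653 = n68020 := rfl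
theorem F104141 : act 3 n68020 = n31655 := d6_1 D68020 (iv5 D31655) D31653
theorem F104142 : act 7 n68020 = n54470 := d13_2 F104066 D68020 (iv5 F104064)
def n68021 : Q := act 4 n31655
theorem D68021 : act 4 n31655 = n68021 := rfl
theorem F104143 : act 2 n68021 = n54468 := d1_1 D68021 (iv4 D54468) F50647
theorem F104144 : act 7 n68021 = n54471 := d11_2 (iv7 F50646) D68021 (iv4 D54471)
theorem F104145 : act 1 n68021 = n33517 := d18_6 F55628 (iv4 F95989) F95991 (iv4 D31654) D31655 D68021 (iv4 D33517) D33516 (iv5 F55629)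
def n68022 : Q := act 6 n31655
theorem D68022 : act 6 n31655 = n68022 := rfl
theorem F104146 : act 2 n68022 = n54469 := d3_1 D68022 (iv6 D54469) F50647
theorem F104147 : act 5 n68022 = n54469 := d12_1 D68022 (iv6 D54469) (iv5 F50602) F50603 D31655
def n68023 : Q := act 0 n31659
theorem D68023 : act 0 n31659 = n68023 := rfl
theorem F104148 : act 4 n68023 = n32998 := d18_3 F50494 D31659 D68023 (iv5 D32998) F25370 F27201 F9277 D12562 D26340
def n68024 : Q := act 1 n31659
theorem D68024 : act 1 n31659 = n68024 := rfl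
theorem F104149 : act 4 n33514 = n68024 := d20_6 D26353 (iv1 F52154) (iv4 D32977) D32976 F86461 F86459 (iv1 D68024) (iv4 D31659) F24528 (iv1 F20938)
def n68025 : Q := act 3 n31659
theorem D68025 : act 3 n31659 = n68025 := rfl
theorem F104150 : act 4 n68025 = n31683 := d5_2 D31659 D68025 (iv3 D31683) (iv4 D14896) (iv3 F24528)
def n68026 : Q := act 5 n31659
theorem D68026 : act 5 n31659 = n68026 := rfl
def n68027 : Q := act 7 n31659
theorem D68027 : act 7 n31659 = n68027 := rfl
theorem F104151 : act 4 n68027 = n31660 := d11_1 D68027 (iv7 D31660) D31659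
def n68028 : Q := act 6 n31660
theorem D68028 : act 6 n31660 = n68028 := rfl
theorem F104152 : act 3 n68028 = n31685 := d7_1 D68028 (iv6 D31685) (iv3 F49950)
theorem F104153 : act 5 n68028 = n31706 := d12_1 D68028 (iv6 D31706) (iv5 D14905) (iv6 F24531) (iv5 F49951)
def n68031 : Q := act 3 n31661
theorem D68031 : act 3 n31661 = n68031 := rfl
theorem F104156 : act 7 n68031 = n31667 := d8_2 F49952 D68031 (iv3 D31667)
def n68032 : Q := act 4 n31661
theorem D68032 : act 4 n31661 = n68032 := rfl
theorem F104157 : act 2 n68032 = n31663 := d1_1 D68032 (iv4 D31663) D31661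
theorem F104158 : act 7 n68032 = n31668 := d11_2 F49952 D68032 (iv4 D31668)
def n68033 : Q := act 5 n31661
theorem D68033 : act 5 n31661 = n68033 := rfl
theorem F104159 : act 2 n68033 = n31664 := d2_1 D68033 (iv5 D31664) D31661
theorem F104160 : act 7 n68033 = n31669 := d13_2 F49952 D68033 (iv5 D31669)
def n68034 : Q := act 6 n31661
theorem D68034 : act 6 n31661 = n68034 := rfl
theorem F104161 : act 2 n68034 = n31665 := d3_1 D68034 (iv6 D31665) D31661
def n68035 : Q := act 0 n31662
theorem D68035 : act 0 n31662 = n68035 := rfl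
def n68036 : Q := act 1 n31662
theorem D68036 : act 1 n31662 = n68036 := rfl
def n68037 : Q := act 2 n31662
theorem D68037 : act 2 n31662 = n68037 := rfl
def n68038 : Q := act 4 n31662
theorem D68038 : act 4 n31662 = n68038 := rfl
def n68039 : Q := act 5 n31662
theorem D68039 : act 5 n31662 = n68039 := rfl
theorem F104162 : act 3 n68039 = n31664 := d6_1 D68039 (iv5 D31664) D31662
def n68040 : Q := act 6 n31662
theorem D68040 : act 6 n31662 = n68040 := rfl
theorem F104163 : act 3 n68040 = n31665 := d7_1 D68040 (iv6 D31665) D31662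
def n68041 : Q := act 7 n31662
theorem D68041 : act 7 n31662 = n68041 := rfl
def n68042 : Q := act 0 n31663
theorem D68042 : act 0 n31663 = n68042 := rfl
def n68043 : Q := act 1 n31663
theorem D68043 : act 1 n31663 = n68043 := rfl
theorem F104165 : act 1 n68043 = n31668 := d15_1 D68043 (iv7 F104158) F104157
def n68045 : Q := act 5 n31663
theorem D68045 : act 5 n31663 = n68045 := rfl
def n68046 : Q := act 6 n31663
theorem D68046 : act 6 n31663 = n68046 := rfl
theorem F104166 : act 4 n68046 = n31665 := d10_1 D68046 (iv6 D31665) D31663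
def n68047 : Q := act 7 n31663
theorem D68047 : act 7 n31663 = n68047 := rfl
theorem F104167 : act 2 n68047 = n31668 := d4_1 D68047 (iv7 F104158) F104157
theorem F104169 : act 1 n31668 = n68042 := d15_0 (iv0 D68042) D68047 F104167
def n68048 : Q := act 0 n31664
theorem D68048 : act 0 n31664 = n68048 := rfl
theorem F104170 : act 5 n68048 = n67925 := d21_2 D31664 D68048 (iv6 D67925) (iv1 D31581) (iv6 D14868) (iv5 D7079) (iv1 D3230) D3232 D7085 D14889
def n68049 : Q := act 1 n31664
theorem D68049 : act 1 n31664 = n68049 := rfl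
def n68050 : Q := act 4 n31664
theorem D68050 : act 4 n31664 = n68050 := rfl
def n68051 : Q := act 6 n31664
theorem D68051 : act 6 n31664 = n68051 := rfl
def n68052 : Q := act 7 n31664
theorem D68052 : act 7 n31664 = n68052 := rfl
theorem F104172 : act 2 n68052 = n31669 := d4_1 D68052 (iv7 F104160) F104159
theorem F104173 : act 5 n68052 = n31666 := d13_1 D68052 (iv7 D31666) D31664
theorem F104174 : act 1 n31669 = n68048 := d15_0 (iv0 D68048) D68052 F104172
theorem F104175 : act 0 n31670 = n62853 := d21_10 (iv5 D62853) (iv1 F47823) (iv5 F49895) (iv6 F50158) (iv1 F50160) D67925 (iv5 F104170) (iv1 F104174) (iv5 D31669) D31670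
def n68053 : Q := act 0 n31665
theorem D68053 : act 0 n31665 = n68053 := rfl
def n68054 : Q := act 1 n31665
theorem D68054 : act 1 n31665 = n68054 := rfl
def n68055 : Q := act 7 n31665
theorem D68055 : act 7 n31665 = n68055 := rfl
def n68056 : Q := act 6 n31666
theorem D68056 : act 6 n31666 = n68056 := rfl
theorem F104176 : act 2 n68056 = n31670 := d3_1 D68056 (iv6 D31670) (iv2 F49953)
def n68057 : Q := act 0 n31667
theorem D68057 : act 0 n31667 = n68057 := rfl
def n68058 : Q := act 1 n31667
theorem D68058 : act 1 n31667 = n68058 := rfl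
def n68059 : Q := act 2 n31667
theorem D68059 : act 2 n31667 = n68059 := rfl
def n68060 : Q := act 4 n31667
theorem D68060 : act 4 n31667 = n68060 := rfl
def n68061 : Q := act 5 n31667
theorem D68061 : act 5 n31667 = n68061 := rfl
theorem F104177 : act 3 n68061 = n31669 := d6_1 D68061 (iv5 D31669) D31667
def n68062 : Q := act 6 n31667
theorem D68062 : act 6 n31667 = n68062 := rfl
theorem F104178 : act 3 n68062 = n31670 := d7_1 D68062 (iv6 D31670) D31667
def n68064 : Q := act 5 n31668
theorem D68064 : act 5 n31668 = n68064 := rfl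
def n68065 : Q := act 6 n31668
theorem D68065 : act 6 n31668 = n68065 := rfl
theorem F104179 : act 4 n68065 = n31670 := d10_1 D68065 (iv6 D31670) D31668
def n68066 : Q := act 4 n31669
theorem D68066 : act 4 n31669 = n68066 := rfl
def n68067 : Q := act 1 n31670
theorem D68067 : act 1 n31670 = n68067 := rfl
def n68068 : Q := act 5 n31670
theorem D68068 : act 5 n31670 = n68068 := rfl
theorem F104180 : act 0 n68068 = n61639 := d21_7 (iv5 F94905) (iv1 F54375) F50118 (iv6 F41206) (iv1 F41208) D31670 D68068 F96205 D67894 (iv1 F103959)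
theorem F104181 : act 0 n67892 = n68068 := d21_1 D67892 (iv5 D68068) (iv6 D31670) (iv1 D14890) (iv6 D7085) (iv5 D3232) D3229 D7077 D14862 D31560
theorem E9458 : n62922 = n62854 := ((c21_4 (iv5 D68068) F104175 (iv5 D62853) D62854 (iv1 D62922) (iv6 D29768) (iv5 F24964) (iv1 F46249) (iv5 F51958) (iv6 F103951) F104181)).symm
theorem F104182 : act 0 n62854 = n29768 := (sb E9458 (iv1 D62922))
theorem F104183 : act 1 n62854 = n61826 := (sb E9458 F98170)
theorem F104184 : act 5 n31809 = n62912 := d21_8 F98076 (iv1 D54366) F41819 (iv6 D13885) D13883 D29177 F46835 D31809 F98151 (iv1 F104183)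
theorem F104185 : act 7 n62911 = n31809 := d13_0 F104184 (iv7 D62912) D62911
def n68069 : Q := act 7 n31670
theorem D68069 : act 7 n31670 = n68069 := rfl
def n68070 : Q := act 3 n31671
theorem D68070 : act 3 n31671 = n68070 := rfl
theorem F104186 : act 6 n68070 = n32897 := d7_2 (iv6 F49954) D68070 F52080
def n68071 : Q := act 4 n31671
theorem D68071 : act 4 n31671 = n68071 := rfl
theorem F104187 : act 6 n68071 = n32899 := d10_2 (iv6 F49954) D68071 (iv4 D32899)
theorem F104188 : act 0 n54232 = n68071 := d21_4 F25331 (iv1 F45869) (iv5 F52157) (iv6 F85569) F104187 (iv5 F52091) (iv1 F52571) F52569 F42351 (iv1 F25332)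
def n68072 : Q := act 5 n31671
theorem D68072 : act 5 n31671 = n68072 := rfl
theorem F104189 : act 2 n68072 = n60387 := d2_1 D68072 F94899 F57680
theorem F104190 : act 6 n68072 = n32900 := d12_2 (iv6 F49954) D68072 (iv5 D32900) (iv6 D15843) D15842
theorem F104191 : act 7 n68072 = n54023 := d13_2 F84981 D68072 F85226
theorem F104192 : act 0 n53990 = n50053 := d21_1 D53990 F79224 (iv6 D49029) (iv1 F52084) (iv6 F104190) (iv5 D68072) (iv1 F84989) F84987 F41206 (iv1 F41295)
theorem E9459 : n59974 = n53991 := (c21_5 (iv5 D32900) (iv1 F46005) (iv5 D28480) D28481 D59974 (iv6 D53991) D53990 F104192 F79224 (iv6 D49029) (iv1 F52084))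
theorem F104193 : act 1 n53991 = n28481 := (sb E9459 (iv0 D59974))
def n68073 : Q := act 3 n31672
theorem D68073 : act 3 n31672 = n68073 := rfl
def n68074 : Q := act 4 n31672
theorem D68074 : act 4 n31672 = n68074 := rfl
def n68075 : Q := act 6 n31672
theorem D68075 : act 6 n31672 = n68075 := rfl
def n68076 : Q := act 0 n31673
theorem D68076 : act 0 n31673 = n68076 := rfl
theorem F104195 : act 6 n68076 = n33321 := d21_5 (iv5 F25357) (iv1 F41215) F41213 (iv6 F49955) D68076 F52555 F52102 (iv5 D32911) F25324 D15868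
theorem F104196 : act 4 n32236 = n68076 := d10_3 F104195 (iv4 D33321) (iv6 F51174)
def n68077 : Q := act 1 n31673
theorem D68077 : act 1 n31673 = n68077 := rfl
def n68080 : Q := act 7 n31673
theorem D68080 : act 7 n31673 = n68080 := rfl
theorem F104198 : act 4 n68080 = n31674 := d11_1 D68080 (iv7 D31674) D31673
def n68081 : Q := act 6 n31674
theorem D68081 : act 6 n31674 = n68081 := rfl
theorem F104199 : act 5 n68081 = n31711 := d12_1 D68081 (iv6 F54374) F54373 F41297 (iv5 F49956)
theorem F104200 : act 7 n68081 = n31685 := d14_2 D31674 D68081 (iv6 D31685) (iv7 D14897) (iv6 F24532)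
def n68082 : Q := act 4 n31680
theorem D68082 : act 4 n31680 = n68082 := rfl
theorem F104201 : act 2 n68082 = n31681 := d1_1 D68082 (iv4 D31681) D31680
theorem F104202 : act 0 n60444 = n68082 := d20_7 (iv4 F79154) (iv1 D35098) F27936 F24996 (iv1 F22835) D28707 (iv4 F94961) (iv4 D68082) (iv3 F84990) (iv1 F84994)
def n68083 : Q := act 6 n31680
theorem D68083 : act 6 n31680 = n68083 := rfl
theorem F104203 : act 2 n68083 = n31682 := d3_1 D68083 (iv6 D31682) D31680
theorem F104204 : act 7 n68083 = n32575 := d14_2 (iv7 F55722) D68083 (iv6 D32575) (iv7 F27909) D35080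
theorem F104205 : act 0 n68083 = n32582 := d21_10 F93556 (iv1 D34834) (iv5 D16885) (iv6 D7868) D7865 D16876 D34823 (iv1 F55057) F52117 D68083
theorem F104206 : act 5 n60124 = n68083 := d21_2 D28573 D60124 (iv6 D68083) (iv1 F55737) (iv6 F77098) F77095 (iv1 F77094) F37188 (iv6 F27652) F50934
theorem F104207 : act 0 n32581 = n68083 := d21_4 D13890 D29197 (iv5 F54344) (iv6 F55712) (iv6 D68083) (iv5 F52117) (iv1 F77278) F77276 F54220 (iv1 D13887)
def n68084 : Q := act 5 n31681
theorem D68084 : act 5 n31681 = n68084 := rfl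
theorem F104208 : act 3 n68084 = n34416 := d6_1 D68084 F54605 (iv3 F49958)
theorem F104209 : act 7 n68084 = n52860 := d13_2 (iv7 F55288) D68084 F83505
theorem F104210 : act 0 n68084 = n33969 := d17_2 F94978 D68084 (iv5 D33969) (iv4 D16424) D16425 D33971 (iv5 F55657) F94977 F94972
theorem F104211 : act 1 n68084 = n48746 := d17_6 (iv1 D23895) D23896 F53311 F25330 D31681 D68084 (iv5 D48746) F50279 (iv4 F50897)
def n68085 : Q := act 0 n31683
theorem D68085 : act 0 n31683 = n68085 := rfl
def n68086 : Q := act 1 n31683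
theorem D68086 : act 1 n31683 = n68086 := rfl
def n68087 : Q := act 2 n31683
theorem D68087 : act 2 n31683 = n68087 := rfl
def n68089 : Q := act 6 n31684
theorem D68089 : act 6 n31684 = n68089 := rfl
theorem F104213 : act 4 n68089 = n31685 := d10_1 D68089 (iv6 D31685) (iv4 F49961)
def n68090 : Q := act 0 n31685
theorem D68090 : act 0 n31685 = n68090 := rfl
theorem F104214 : act 6 n68090 = n62932 := d21_5 F20949 (iv1 F12689) (iv5 F24538) D31685 D68090 (iv5 D62932) (iv1 D29771) (iv5 F25346) (iv6 D15873) (iv1 F20947)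
def n68091 : Q := act 1 n31685
theorem D68091 : act 1 n31685 = n68091 := rfl
def n68092 : Q := act 0 n31686
theorem D68092 : act 0 n31686 = n68092 := rfl
theorem F104215 : act 2 n51061 = n68092 := d15_3 (iv0 D68092) (iv0 F103887) F103886
theorem F104216 : act 6 n68092 = n51059 := d3_2 D51061 F104215 F80521
def n68093 : Q := act 5 n31686
theorem D68093 : act 5 n31686 = n68093 := rfl
theorem F104217 : act 2 n68093 = n52915 := d2_1 D68093 (iv5 F87982) F87980
theorem F104218 : act 3 n68093 = n31687 := d6_1 D68093 (iv5 D31687) D31686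
theorem F104219 : act 7 n68093 = n52858 := d13_2 F82839 D68093 F83503
theorem F104220 : act 1 n68093 = n52917 := d17_6 (iv1 F26806) (iv5 F42507) (iv1 F42508) F25603 (iv4 F49965) D68093 F83616 F50924 F25510
theorem F104221 : act 0 n68093 = n52899 := d21_1 D68093 (iv5 D52899) (iv6 D25680) F37265 (iv6 F20057) D25517 D52561 F83073 D67845 F103887
def n68094 : Q := act 6 n31687
theorem D68094 : act 6 n31687 = n68094 := rfl
theorem F104222 : act 2 n68094 = n52861 := d3_1 D68094 (iv6 D52861) (iv2 F49967)
theorem F104223 : act 5 n68094 = n32621 := d12_1 D68094 (iv6 D32621) (iv5 D15442) (iv6 F24541) D31687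
def n68095 : Q := act 4 n31688
theorem D68095 : act 4 n31688 = n68095 := rfl
theorem F104224 : act 2 n68095 = n53101 := d1_1 D68095 F83808 F49971
theorem F104225 : act 3 n68095 = n43427 := d5_1 D68095 (iv4 D43427) D43426 (iv4 F94972) F94971
theorem F104226 : act 6 n68095 = n55279 := d10_2 (iv6 F49972) D68095 F87484
theorem F104227 : act 0 n68095 = n68019 := d20_1 D68095 (iv4 D68019) (iv3 D31653) (iv1 D14886) F11335 F5028 D3234 D7092 D14899 D31688
def n68096 : Q := act 0 n31705
theorem D68096 : act 0 n31705 = n68096 := rfl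
theorem F104228 : act 4 n68096 = n33119 := d18_3 F50561 D31705 D68096 (iv5 D33119) F50573 (iv0 F50569) F10703 (iv0 F50575) (iv5 F46885)
theorem F104229 : act 1 n61384 = n68096 := d15_0 (iv0 D68096) (iv7 F54368) (iv2 F95877)
theorem F104230 : act 2 n61658 = n68096 := d1_3 F104228 F52337 D61658
theorem F104231 : act 7 n61676 = n68096 := d11_0 F104228 F52339 D61676
def n68097 : Q := act 1 n31705
theorem D68097 : act 1 n31705 = n68097 := rfl
theorem F104232 : act 1 n68097 = n61384 := d15_1 D68097 (iv7 F96152) F96151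
theorem F104233 : act 7 n68097 = n61658 := d15_2 (iv0 D68096) D68097 F104230
theorem F104234 : act 4 n68097 = n61660 := d18_7 (iv1 F50488) F49924 (iv1 F50481) F11385 D14905 D31705 D68097 F96242 F96102
theorem F104235 : act 2 n61676 = n68097 := d1_3 F104234 F96238 D61676
def n68098 : Q := act 5 n31705
theorem D68098 : act 5 n31705 = n68098 := rfl
theorem F104236 : act 0 n68098 = n61720 := d17_2 (iv1 D68097) D68098 (iv5 D61720) (iv4 F85858) (iv5 D54384) F50490 D34313 F96241 (iv4 F104234)
theorem F104237 : act 1 n68098 = n61717 := d17_6 D13908 F50482 (iv1 F50481) D14905 D31705 D68098 (iv5 D61717) (iv0 D29259) (iv4 D13910)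
def n68099 : Q := act 6 n31705
theorem D68099 : act 6 n31705 = n68099 := rfl
theorem F104238 : act 4 n68099 = n31706 := d10_1 D68099 (iv6 D31706) D31705
def n68100 : Q := act 0 n31706
theorem D68100 : act 0 n31706 = n68100 := rfl
theorem F104239 : act 6 n68100 = n32785 := d21_5 F50482 (iv1 F50481) D14905 D31706 D68100 (iv5 D32785) (iv1 D15691) (iv5 F23172) (iv6 D13911) D13908
def n68101 : Q := act 1 n31706
theorem D68101 : act 1 n31706 = n68101 := rfl
def n68102 : Q := act 7 n31706
theorem D68102 : act 7 n31706 = n68102 := rfl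
theorem F104240 : act 3 n68102 = n31711 := d8_1 D68102 (iv7 D31711) (iv3 F50010)
def n68103 : Q := act 4 n31707
theorem D68103 : act 4 n31707 = n68103 := rfl
theorem F104243 : act 1 n68103 = n61557 := d18_6 F53962 (iv4 F11773) (iv1 F53958) (iv4 F26244) (iv5 F50011) D68103 (iv4 D61557) (iv0 D29148) (iv5 D13874)
def n68104 : Q := act 6 n31707
theorem D68104 : act 6 n31707 = n68104 := rfl
theorem F104244 : act 3 n68104 = n31708 := d7_1 D68104 (iv6 D31708) D31707
theorem F104245 : act 5 n68104 = n32595 := d12_1 D68104 (iv6 D32595) (iv5 F28410) F28411 (iv5 F50011)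
def n68105 : Q := act 0 n31708
theorem D68105 : act 0 n31708 = n68105 := rfl
theorem F104246 : act 6 n68105 = n32432 := d21_5 (iv5 D7703) D7701 (iv5 F24548) D31708 D68105 (iv5 D32432) (iv1 D15323) (iv5 F18714) (iv6 D11449) (iv1 F11977)
theorem F104247 : act 2 n62823 = n68105 := d3_3 F104246 (iv2 F51916) (iv6 F98048)
theorem F104248 : act 0 n68105 = n62825 := d21_4 F38270 (iv1 F25188) D32432 (iv6 F104246) F98050 F96208 (iv1 F47768) (iv5 F78868) (iv6 D49876) (iv1 F38273)
theorem F104249 : act 7 n62824 = n68105 := d15_2 (iv0 D62823) D62824 (iv2 F104247)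
def n68106 : Q := act 1 n31708
theorem D68106 : act 1 n31708 = n68106 := rfl
theorem F104250 : act 1 n68106 = n62825 := d15_1 D68106 (iv7 D62825) (iv2 F50013)
theorem F104251 : act 7 n68106 = n62823 := d15_2 (iv0 D68105) D68106 F104247
theorem F104252 : act 2 n62824 = n68106 := d4_3 F104251 F104247 (iv7 F104249)
def n68107 : Q := act 7 n31708
theorem D68107 : act 7 n31708 = n68107 := rfl
theorem F104253 : act 2 n68107 = n62825 := d4_1 D68107 (iv7 D62825) (iv2 F50013)
theorem F104254 : act 5 n68107 = n32600 := d13_1 D68107 (iv7 D32600) (iv5 F50014)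
theorem F104255 : act 6 n68107 = n62816 := d14_1 D68107 (iv7 D62816) F47770 (iv7 F24550) D31708
theorem F104256 : act 1 n62824 = n68107 := d15_1 D62824 (iv7 D68107) F50013
theorem F104257 : act 1 n68107 = n62823 := d15_1 F104256 (iv7 F104251) (iv2 F104252)
def n68108 : Q := act 3 n31709
theorem D68108 : act 3 n31709 = n68108 := rfl
def n68109 : Q := act 4 n31709
theorem D68109 : act 4 n31709 = n68109 := rfl
def n68110 : Q := act 5 n31709
theorem D68110 : act 5 n31709 = n68110 := rfl
theorem F104258 : act 7 n68110 = n54480 := d13_2 (iv7 F86025) D68110 F86023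
def n68111 : Q := act 3 n31710
theorem D68111 : act 3 n31710 = n68111 := rfl
def n68112 : Q := act 4 n31710
theorem D68112 : act 4 n31710 = n68112 := rfl
def n68113 : Q := act 6 n31710
theorem D68113 : act 6 n31710 = n68113 := rfl
theorem F104260 : act 5 n68113 = n35711 := d12_1 D68113 F56399 F43882 D32904 F52093
theorem F104261 : act 0 n50053 = n53985 := d21_10 (iv5 D53985) (iv1 F41298) (iv5 F50118) (iv6 F54383) (iv1 F54385) D68113 F104260 (iv1 F56400) F38267 D50053
theorem F104262 : act 7 n35710 = n68113 := d13_0 F104260 (iv7 D35711) D35710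
theorem F104263 : act 0 n32432 = n68113 := d17_2 (iv1 F25188) D32432 F104260 F56398 (iv5 F43796) (iv0 F43798) (iv5 D17694) F13146 (iv4 F25185)
theorem F104264 : act 1 n32430 = n68113 := d17_6 (iv1 F29883) (iv5 F29896) F29898 (iv5 D17064) (iv4 F43128) D32430 F104260 F56401 F46233
def n68114 : Q := act 1 n31712
theorem D68114 : act 1 n31712 = n68114 := rfl
theorem F104265 : act 1 n68114 = n62007 := d15_1 D68114 F96595 F93827
def n68115 : Q := act 4 n31714
theorem D68115 : act 4 n31714 = n68115 := rfl
theorem F104266 : act 2 n68115 = n51256 := d1_1 D68115 (iv4 D51256) (iv2 F100220)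
theorem F104267 : act 7 n68115 = n51251 := d11_2 (iv7 F100221) D68115 (iv4 D51251)
def n68116 : Q := act 5 n31714
theorem D68116 : act 5 n31714 = n68116 := rfl
theorem F104268 : act 2 n68116 = n51257 := d2_1 D68116 (iv5 D51257) (iv2 F100220)
theorem F104269 : act 7 n68116 = n51252 := d13_2 (iv7 F100221) D68116 (iv5 D51252)
theorem F104270 : act 6 n68116 = n49622 := d21_3 F39034 (iv1 F50019) D68116 (iv1 F78373) (iv6 F78393) F78392 (iv1 F77825) (iv5 F100216) (iv6 D59788) (iv1 F100217)
theorem F104271 : act 1 n49644 = n68116 := d15_1 (iv0 F100229) F104269 (iv2 F100241)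
def n68117 : Q := act 6 n31714
theorem D68117 : act 6 n31714 = n68117 := rfl
theorem F104272 : act 2 n68117 = n51258 := d3_1 D68117 (iv6 D51258) (iv2 F100220)
theorem F104273 : act 7 n68117 = n58880 := d14_2 (iv7 F100221) D68117 (iv6 F96526) (iv7 F100263) (iv6 D51253)
theorem F104274 : act 5 n68117 = n58779 := d21_6 (iv5 D7697) (iv1 F19457) (iv5 F19184) D24897 (iv1 F50019) D68117 (iv1 D58779) F45166 (iv6 F24592) (iv1 F24463)
theorem F104275 : act 0 n51221 = n68117 := d21_10 F104274 (iv1 D58779) F45166 (iv6 F24592) (iv1 F24463) D16567 F26238 D28316 F82339 D51221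
def n68118 : Q := act 0 n31716
theorem D68118 : act 0 n31716 = n68118 := rfl
def n68119 : Q := act 1 n31716
theorem D68119 : act 1 n31716 = n68119 := rfl
def n68120 : Q := act 2 n31716
theorem D68120 : act 2 n31716 = n68120 := rfl
theorem F104276 : act 4 n68120 = n65453 := d1_2 (iv4 F50023) D68120 (iv2 D65453)
def n68121 : Q := act 6 n31716
theorem D68121 : act 6 n31716 = n68121 := rfl
theorem F104277 : act 3 n68121 = n31717 := d7_1 D68121 (iv6 D31717) D31716
theorem F104278 : act 4 n68121 = n65455 := d10_1 D68121 (iv6 D65455) (iv4 F50023)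
def n68122 : Q := act 0 n31717
theorem D68122 : act 0 n31717 = n68122 := rfl
theorem F104279 : act 4 n68122 = n34060 := d20_2 (iv4 F50024) D68122 F53457 D34066 (iv3 F53463) D34146 (iv1 F53619) (iv4 F49204) D31445 (iv1 F49765)
theorem F104280 : act 6 n68122 = n34059 := d21_5 F37507 (iv1 F37923) F37920 D31717 D68122 (iv5 F92860) (iv1 D58760) (iv5 D27937) F22154 (iv1 F37509)
theorem F104281 : act 2 n49417 = n68122 := d3_3 F104280 F53452 D49417
def n68123 : Q := act 1 n31717
theorem D68123 : act 1 n31717 = n68123 := rfl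
theorem F104282 : act 7 n68123 = n49417 := d15_2 (iv0 D68122) D68123 F104281
theorem F104283 : act 4 n49420 = n68123 := d11_3 F104282 F78151 D49420
theorem F104284 : act 4 n61916 = n49359 := d18_7 (iv1 F82123) F104283 (iv1 D68123) F50024 F24580 (iv4 F46996) D61916 F78039 (iv5 F82121)
def n68124 : Q := act 5 n31717
theorem D68124 : act 5 n31717 = n68124 := rfl
def n68125 : Q := act 7 n31717
theorem D68125 : act 7 n31717 = n68125 := rfl
theorem F104285 : act 4 n68125 = n31718 := d11_1 D68125 (iv7 D31718) (iv4 F50024)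
def n68126 : Q := act 0 n31719
theorem D68126 : act 0 n31719 = n68126 := rfl
def n68127 : Q := act 1 n31719
theorem D68127 : act 1 n31719 = n68127 := rfl
def n68128 : Q := act 7 n31719
theorem D68128 : act 7 n31719 = n68128 := rfl
theorem F104286 : act 3 n68128 = n31724 := d8_1 D68128 (iv7 D31724) (iv3 F50026)
theorem F104287 : act 4 n68128 = n64341 := d11_1 D68128 (iv7 D64341) (iv4 F50027)
theorem F104288 : act 5 n68128 = n52473 := d13_1 D68128 (iv7 D52473) (iv5 F50028)
def n68129 : Q := act 0 n31720
theorem D68129 : act 0 n31720 = n68129 := rfl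
def n68130 : Q := act 1 n31720
theorem D68130 : act 1 n31720 = n68130 := rfl
def n68131 : Q := act 2 n31720
theorem D68131 : act 2 n31720 = n68131 := rfl
theorem F104289 : act 4 n68131 = n64335 := d1_2 (iv4 F50029) D68131 (iv2 D64335)
def n68132 : Q := act 6 n31720
theorem D68132 : act 6 n31720 = n68132 := rfl
theorem F104290 : act 3 n68132 = n31721 := d7_1 D68132 (iv6 D31721) D31720
theorem F104291 : act 4 n68132 = n64337 := d10_1 D68132 (iv6 D64337) (iv4 F50029)
def n68133 : Q := act 0 n31721
theorem D68133 : act 0 n31721 = n68133 := rfl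
def n68134 : Q := act 1 n31721
theorem D68134 : act 1 n31721 = n68134 := rfl
theorem F104292 : act 4 n68134 = n49459 := d18_7 (iv1 F76519) D52311 F93090 F40266 (iv5 F24585) (iv4 F50030) D68134 F82130 F82127
def n68135 : Q := act 5 n31721
theorem D68135 : act 5 n31721 = n68135 := rfl
def n68136 : Q := act 7 n31721
theorem D68136 : act 7 n31721 = n68136 := rfl
theorem F104293 : act 4 n68136 = n31724 := d11_1 D68136 (iv7 D31724) (iv4 F50030)
def n68137 : Q := act 4 n31723
theorem D68137 : act 4 n31723 = n68137 := rfl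
theorem F104294 : act 0 n68137 = n31728 := d18_2 (iv1 F78374) D68137 F50033 F39775 (iv4 F76512) F82856 (iv4 D52482) F45888 (iv5 F78371)
def n68138 : Q := act 5 n31723
theorem D68138 : act 5 n31723 = n68138 := rfl
theorem F104295 : act 2 n68138 = n59157 := d2_1 D68138 F93340 F93346
theorem F104296 : act 6 n68138 = n49077 := d21_3 (iv5 F78371) (iv1 F78374) D68138 (iv1 F77462) (iv6 F77451) F78429 (iv1 F78426) (iv5 F80357) F80358 (iv1 F45889)
theorem F104297 : act 0 n68138 = n59215 := d21_4 D27972 D58833 F93008 (iv6 F104296) (iv6 D59215) D59214 F93416 (iv5 F93006) (iv6 D58832) (iv1 D27971)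
def n68139 : Q := act 0 n31725
theorem D68139 : act 0 n31725 = n68139 := rfl
def n68140 : Q := act 1 n31725
theorem D68140 : act 1 n31725 = n68140 := rfl
def n68141 : Q := act 2 n31725
theorem D68141 : act 2 n31725 = n68141 := rfl
def n68142 : Q := act 6 n31725
theorem D68142 : act 6 n31725 = n68142 := rfl
theorem F104298 : act 3 n68142 = n31726 := d7_1 D68142 (iv6 D31726) D31725
def n68143 : Q := act 5 n31726
theorem D68143 : act 5 n31726 = n68143 := rfl
def n68144 : Q := act 7 n31726
theorem D68144 : act 7 n31726 = n68144 := rfl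
theorem F104299 : act 4 n68144 = n51996 := d11_1 D68144 (iv7 D51996) (iv4 F50032)
def n68145 : Q := act 0 n31727
theorem D68145 : act 0 n31727 = n68145 := rfl
def n68146 : Q := act 1 n31727
theorem D68146 : act 1 n31727 = n68146 := rfl
def n68147 : Q := act 2 n31727
theorem D68147 : act 2 n31727 = n68147 := rfl
def n68148 : Q := act 6 n31727
theorem D68148 : act 6 n31727 = n68148 := rfl
theorem F104300 : act 3 n68148 = n31728 := d7_1 D68148 (iv6 D31728) D31727
def n68149 : Q := act 0 n31728
theorem D68149 : act 0 n31728 = n68149 := rfl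
def n68150 : Q := act 5 n31728
theorem D68150 : act 5 n31728 = n68150 := rfl
def n68151 : Q := act 7 n31728
theorem D68151 : act 7 n31728 = n68151 := rfl
theorem F104301 : act 4 n68151 = n51999 := d11_1 D68151 (iv7 D51999) (iv4 F50033)
def n68152 : Q := act 2 n31729
theorem D68152 : act 2 n31729 = n68152 := rfl
theorem F104302 : act 7 n31730 = n68152 := d15_2 (iv0 D31729) D31730 (iv2 D68152)
theorem F104303 : act 4 n68152 = n65695 := d11_1 F104302 (iv7 D65695) F50034
def n68153 : Q := act 3 n31729
theorem D68153 : act 3 n31729 = n68153 := rfl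
def n68154 : Q := act 4 n31729
theorem D68154 : act 4 n31729 = n68154 := rfl
theorem F104304 : act 2 n68154 = n65695 := d1_1 D68154 (iv4 F104303) (iv2 D68152)
theorem F104305 : act 3 n65714 = n68154 := d0_0 F104304 F101419 F49221 D30772 D65714
theorem F104306 : act 7 n65692 = n68154 := d4_0 F104304 (iv7 D65695) D65692
theorem F104307 : act 1 n68154 = n65690 := d15_0 (iv0 D65690) D65695 (iv2 F104304)
theorem F104308 : act 1 n65691 = n68154 := d15_1 D65691 (iv7 F104306) (iv2 D65692)
theorem F104309 : act 0 n65714 = n67690 := d20_10 F103727 (iv1 D65536) F49187 (iv3 D14561) F11220 D7116 (iv4 F24590) D31729 D68154 (iv3 F104305)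
def n68155 : Q := act 5 n31729
theorem D68155 : act 5 n31729 = n68155 := rfl
def n68156 : Q := act 6 n31729
theorem D68156 : act 6 n31729 = n68156 := rfl
def n68157 : Q := act 7 n31729
theorem D68157 : act 7 n31729 = n68157 := rfl
theorem F104310 : act 2 n68157 = n31730 := d4_1 D68157 F104302 (iv2 D68152)
theorem F104311 : act 4 n68157 = n65692 := d11_1 D68157 F104306 (iv4 D68154)
def n68158 : Q := act 3 n31730
theorem D68158 : act 3 n31730 = n68158 := rfl
theorem F104312 : act 4 n68158 = n65698 := d5_2 F50034 D68158 (iv3 D65698) (iv4 D30768) D30767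
def n68159 : Q := act 5 n31730
theorem D68159 : act 5 n31730 = n68159 := rfl
def n68160 : Q := act 6 n31730
theorem D68160 : act 6 n31730 = n68160 := rfl
theorem F104313 : act 4 n68160 = n65694 := d10_1 D68160 (iv6 D65694) F50034
def n68161 : Q := act 6 n31731
theorem D68161 : act 6 n31731 = n68161 := rfl
theorem F104314 : act 2 n68161 = n31732 := d3_1 D68161 (iv6 D31732) D31731
theorem F104315 : act 4 n68161 = n31758 := d10_1 D68161 (iv6 D31758) (iv4 F50035)
def n68162 : Q := act 0 n31732
theorem D68162 : act 0 n31732 = n68162 := rfl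
def n68163 : Q := act 1 n31732
theorem D68163 : act 1 n31732 = n68163 := rfl
def n68164 : Q := act 5 n31732
theorem D68164 : act 5 n31732 = n68164 := rfl
theorem F104316 : act 3 n68164 = n31735 := d6_1 D68164 (iv5 D31735) (iv3 F50036)
def n68165 : Q := act 7 n31732
theorem D68165 : act 7 n31732 = n68165 := rfl
theorem F104317 : act 3 n68165 = n31736 := d8_1 D68165 (iv7 D31736) (iv3 F50036)
theorem F104318 : act 4 n68165 = n31762 := d11_1 D68165 (iv7 D31762) (iv4 F50037)
def n68166 : Q := act 3 n31733
theorem D68166 : act 3 n31733 = n68166 := rfl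
def n68167 : Q := act 5 n31733
theorem D68167 : act 5 n31733 = n68167 := rfl
def n68168 : Q := act 6 n31733
theorem D68168 : act 6 n31733 = n68168 := rfl
theorem F104319 : act 4 n68168 = n52010 := d10_1 D68168 (iv6 D52010) (iv4 F78255)
def n68169 : Q := act 3 n31734
theorem D68169 : act 3 n31734 = n68169 := rfl
def n68170 : Q := act 5 n31734
theorem D68170 : act 5 n31734 = n68170 := rfl
def n68171 : Q := act 0 n31735
theorem D68171 : act 0 n31735 = n68171 := rfl
def n68172 : Q := act 1 n31735
theorem D68172 : act 1 n31735 = n68172 := rfl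
def n68173 : Q := act 4 n31735
theorem D68173 : act 4 n31735 = n68173 := rfl
def n68174 : Q := act 7 n31735
theorem D68174 : act 7 n31735 = n68174 := rfl
theorem F104320 : act 5 n68174 = n31736 := d13_1 D68174 (iv7 D31736) D31735
def n68175 : Q := act 4 n31737
theorem D68175 : act 4 n31737 = n68175 := rfl
theorem F104321 : act 7 n68175 = n53465 := d11_2 F78459 D68175 (iv4 F84365)
theorem F104322 : act 0 n68175 = n53467 := d20_1 D68175 F84367 F40937 (iv1 F20405) D14641 D30926 F101267 F101266 F80621 (iv1 F93914)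
theorem F104323 : act 0 n51408 = n68175 := d20_7 (iv4 F78443) (iv1 F78444) (iv4 F50038) F39784 F38527 (iv3 F39221) (iv4 F81168) (iv4 D68175) (iv3 D31737) (iv1 F37971)
theorem F104324 : act 2 n68175 = n53464 := d15_3 (iv0 D53464) D53465 (iv7 F104321)
theorem F104325 : act 4 n53464 = n59493 := d1_2 D68175 F104324 (iv2 F93912)
def n68176 : Q := act 6 n31737
theorem D68176 : act 6 n31737 = n68176 := rfl
theorem F104326 : act 3 n68176 = n31739 := d7_1 D68176 (iv6 D31739) D31737
theorem F104327 : act 7 n68176 = n67614 := d14_2 F78459 D68176 (iv6 D67614) F49666 (iv6 F78458)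
def n68177 : Q := act 3 n31738
theorem D68177 : act 3 n31738 = n68177 := rfl
def n68178 : Q := act 5 n31738
theorem D68178 : act 5 n31738 = n68178 := rfl
def n68179 : Q := act 6 n31738
theorem D68179 : act 6 n31738 = n68179 := rfl
theorem F104328 : act 4 n68179 = n31739 := d10_1 D68179 (iv6 D31739) D31738
theorem F104329 : act 7 n68179 = n67617 := d14_2 F78462 D68179 (iv6 D67617) (iv7 F78134) (iv6 F78461)
def n68180 : Q := act 3 n31741
theorem D68180 : act 3 n31741 = n68180 := rfl
theorem F104330 : act 4 n68180 = n64494 := d5_2 D31741 D68180 (iv3 D64494) F99495 (iv3 D31740)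
theorem F104331 : act 6 n68180 = n67619 := d7_2 (iv6 F50042) D68180 (iv3 D67619)
def n68181 : Q := act 5 n31741
theorem D68181 : act 5 n31741 = n68181 := rfl
def n68182 : Q := act 2 n31742
theorem D68182 : act 2 n31742 = n68182 := rfl
theorem F104332 : act 7 n31743 = n68182 := d15_2 (iv0 D31742) D31743 (iv2 D68182)
def n68183 : Q := act 3 n31742
theorem D68183 : act 3 n31742 = n68183 := rfl
def n68184 : Q := act 4 n31742
theorem D68184 : act 4 n31742 = n68184 := rfl
def n68185 : Q := act 5 n31742
theorem D68185 : act 5 n31742 = n68185 := rfl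
theorem F104333 : act 6 n68185 = n51156 := d12_2 F93169 D68185 (iv5 F93171) (iv6 D58967) D58966
theorem F104334 : act 0 n68185 = n58880 := d21_1 D68185 (iv5 D58880) F78435 (iv1 D28101) (iv6 D13415) (iv5 F11432) (iv1 D7113) D7114 (iv6 F24594) D31742
theorem F104335 : act 1 n68185 = n51258 := d15_1 (iv0 F104334) F100167 (iv2 F100237)
def n68186 : Q := act 7 n31742
theorem D68186 : act 7 n31742 = n68186 := rfl
theorem F104336 : act 2 n68186 = n31743 := d4_1 D68186 F104332 (iv2 D68182)
def n68187 : Q := act 3 n31743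
theorem D68187 : act 3 n31743 = n68187 := rfl
def n68188 : Q := act 4 n31743
theorem D68188 : act 4 n31743 = n68188 := rfl
theorem F104337 : act 0 n68188 = n49511 := d18_2 (iv1 F78469) D68188 (iv4 D49511) (iv5 D24166) (iv4 F37877) (iv0 F82148) (iv4 D31741) F37970 (iv5 F78467)
def n68189 : Q := act 5 n31743
theorem D68189 : act 5 n31743 = n68189 := rfl
theorem F104338 : act 6 n68189 = n49675 := d21_3 (iv5 F78467) (iv1 F78469) D68189 (iv1 F78479) (iv6 F45810) (iv5 F80788) (iv1 F80790) (iv5 F80792) (iv6 D31739) (iv1 F37971)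
theorem F104339 : act 0 n58880 = n68189 := d21_10 (iv5 D68189) (iv1 D31743) (iv5 D14931) (iv6 D7111) D7108 D14921 F24580 D29335 D61922 F96526
theorem F104340 : act 6 n31743 = n50941 := d21_3 D58880 F104339 (iv5 D68189) (iv1 D50941) (iv6 D24771) F19069 D12362 F22196 D13359 D27993
theorem F104341 : act 1 n51258 = n68189 := d15_0 (iv0 F104339) (iv7 F104273) F104272
def n68190 : Q := act 0 n31744
theorem D68190 : act 0 n31744 = n68190 := rfl
def n68191 : Q := act 1 n31744
theorem D68191 : act 1 n31744 = n68191 := rfl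
theorem F104342 : act 4 n68191 = n52012 := d18_7 (iv1 F39779) F50038 (iv1 D31734) F24591 D14931 D31744 D68191 F82163 F78265
theorem F104343 : act 3 n51363 = n52012 := d20_5 D31780 F50074 F49370 (iv3 F49338) (iv1 F81077) (iv4 F104342) (iv1 D68191) (iv4 D31744) F24593 D14949
theorem E9460 : n66563 = n49562 := ((c6_3 F81078 F104343 (iv5 F82164) F102418)).symm
theorem F104344 : act 3 n49562 = n31065 := (sb E9460 F102418)
theorem E9461 : n31062 = n24182 := ((((iv6 D49562)).symm.trans (sb E9460 (iv6 D66563)))).symm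
theorem E9464 : n66562 = n49558 := (((D49558).symm.trans (sb E9461 D66562))).symm
theorem E9465 : n49559 = n14692 := ((D49559).symm.trans (sb E9461 (iv3 D31062)))
theorem E9466 : n49581 = n49560 := (((D49560).symm.trans (sb E9461 F80812))).symm
theorem E9467 : n53592 = n49561 := (((D49561).symm.trans (sb E9461 (iv5 F84552)))).symm
theorem E9468 : n66503 = n49563 := (((D49563).symm.trans (sb E9461 (iv7 F102444)))).symm
theorem F104345 : act 4 n49558 = n51213 := (sb E9464 (iv4 F102487))
theorem F104346 : act 3 n14692 = n24182 := (sb E9465 (iv3 D49559))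
theorem F104347 : act 0 n49560 = n51216 := (sb E9466 (iv1 F80811))
theorem F104348 : act 1 n49560 = n24188 := (sb E9466 (iv0 D49581))
theorem F104349 : act 2 n49560 = n51213 := (sb E9466 F102486)
theorem F104350 : act 7 n49560 = n51214 := (sb E9466 F102484)
theorem F104351 : act 3 n49561 = n25951 := (sb E9467 (iv3 D53592))
theorem F104352 : act 3 n49563 = n31044 := (sb E9468 (iv3 D66503))
theorem F104353 : act 4 n49563 = n51214 := (sb E9468 F102390)
theorem F104354 : act 7 n52012 = n66004 := d8_2 (iv7 F102433) F104343 (iv3 D66004)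
theorem F104355 : act 2 n66004 = n52011 := d15_3 (iv0 D52011) D52012 F104354
theorem E9469 : n49582 = n49565 := (c1_2 F104353 F102485 (iv4 D49565) (iv2 F78316))
theorem F104356 : act 0 n49565 = n24188 := (sb E9469 (iv1 D49582))
theorem F104357 : act 1 n49565 = n51216 := (sb E9469 F80810)
theorem F104358 : act 2 n49565 = n51214 := (sb E9469 (iv2 F102485))
theorem F104359 : act 7 n49565 = n51213 := (sb E9469 (iv7 F102488))
theorem F104360 : act 1 n52087 = n61273 := d18_6 (iv1 F77673) D49565 F104356 (iv4 F37979) (iv5 F39942) (iv4 F82328) (iv4 D61273) F82376 F82374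
theorem E9470 : n66576 = n49564 := (c0_4 F104352 F102442 D31067 D66576 (iv3 D49564) (iv2 F78316))
theorem F104361 : act 2 n49564 = n31067 := (sb E9470 (iv2 D66576))
theorem F104362 : act 0 n59684 = n49546 := d20_7 D49560 F104347 F80807 F39063 (iv1 F37150) D28324 D59684 F78309 F37898 D24182
def n68192 : Q := act 3 n31744
theorem D68192 : act 3 n31744 = n68192 := rfl
theorem F104363 : act 4 n68192 = n31786 := d5_2 D31744 D68192 (iv3 D31786) (iv4 D14951) (iv3 F24593)
theorem F104364 : act 6 n68192 = n31746 := d7_2 (iv6 F50043) D68192 (iv3 D31746)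
def n68193 : Q := act 5 n31744
theorem D68193 : act 5 n31744 = n68193 := rfl
def n68194 : Q := act 7 n31744
theorem D68194 : act 7 n31744 = n68194 := rfl
theorem F104365 : act 4 n68194 = n31745 := d11_1 D68194 (iv7 D31745) D31744
theorem F104366 : act 6 n68194 = n52081 := d14_1 D68194 F82314 (iv6 D50953) F38785 (iv6 F50043)
def n68195 : Q := act 0 n31746
theorem D68195 : act 0 n31746 = n68195 := rfl
def n68196 : Q := act 1 n31746
theorem D68196 : act 1 n31746 = n68196 := rfl
def n68197 : Q := act 2 n31746
theorem D68197 : act 2 n31746 = n68197 := rfl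
theorem F104367 : act 4 n68197 = n31791 := d1_2 (iv4 F50048) D68197 (iv2 D31791)
def n68198 : Q := act 5 n31746
theorem D68198 : act 5 n31746 = n68198 := rfl
theorem F104368 : act 3 n68198 = n31747 := d6_1 D68198 (iv5 D31747) D31746
def n68199 : Q := act 6 n31747
theorem D68199 : act 6 n31747 = n68199 := rfl
theorem F104369 : act 4 n68199 = n52504 := d10_1 D68199 (iv6 D52504) (iv4 F50049)
def n68202 : Q := act 3 n31748
theorem D68202 : act 3 n31748 = n68202 := rfl
theorem F104372 : act 7 n68202 = n31754 := d8_2 F50052 D68202 (iv3 D31754)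
def n68203 : Q := act 4 n31748
theorem D68203 : act 4 n31748 = n68203 := rfl
theorem F104373 : act 2 n68203 = n31750 := d1_1 D68203 (iv4 D31750) D31748
theorem F104374 : act 7 n68203 = n31755 := d11_2 F50052 D68203 (iv4 D31755)
def n68204 : Q := act 5 n31748
theorem D68204 : act 5 n31748 = n68204 := rfl
theorem F104375 : act 2 n68204 = n31751 := d2_1 D68204 (iv5 D31751) D31748
theorem F104376 : act 7 n68204 = n31756 := d13_2 F50052 D68204 (iv5 D31756)
def n68206 : Q := act 0 n31749
theorem D68206 : act 0 n31749 = n68206 := rfl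
def n68207 : Q := act 1 n31749
theorem D68207 : act 1 n31749 = n68207 := rfl
def n68208 : Q := act 2 n31749
theorem D68208 : act 2 n31749 = n68208 := rfl
def n68209 : Q := act 5 n31749
theorem D68209 : act 5 n31749 = n68209 := rfl
theorem F104378 : act 3 n68209 = n31751 := d6_1 D68209 (iv5 D31751) D31749
def n68210 : Q := act 6 n31749
theorem D68210 : act 6 n31749 = n68210 := rfl
theorem F104379 : act 3 n68210 = n31752 := d7_1 D68210 (iv6 D31752) D31749
def n68211 : Q := act 7 n31749
theorem D68211 : act 7 n31749 = n68211 := rfl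
theorem F104380 : act 3 n68211 = n31753 := d8_1 D68211 (iv7 D31753) D31749
def n68212 : Q := act 0 n31750
theorem D68212 : act 0 n31750 = n68212 := rfl
theorem F104381 : act 4 n68212 = n67650 := d20_2 D31750 D68212 (iv3 D67650) (iv1 D31418) (iv3 D14810) (iv4 D7058) (iv1 F5018) D3269 D7116 D14936
def n68213 : Q := act 1 n31750
theorem D68213 : act 1 n31750 = n68213 := rfl
theorem F104382 : act 1 n68213 = n31755 := d15_1 D68213 (iv7 F104374) F104373
def n68214 : Q := act 3 n31750
theorem D68214 : act 3 n31750 = n68214 := rfl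
def n68215 : Q := act 5 n31750
theorem D68215 : act 5 n31750 = n68215 := rfl
def n68216 : Q := act 6 n31750
theorem D68216 : act 6 n31750 = n68216 := rfl
theorem F104383 : act 4 n68216 = n31752 := d10_1 D68216 (iv6 D31752) D31750
def n68217 : Q := act 7 n31750
theorem D68217 : act 7 n31750 = n68217 := rfl
theorem F104384 : act 2 n68217 = n31755 := d4_1 D68217 (iv7 F104374) F104373
theorem F104385 : act 4 n68217 = n31753 := d11_1 D68217 (iv7 D31753) D31750
theorem F104386 : act 1 n31755 = n68212 := d15_0 (iv0 D68212) D68217 F104384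
def n68218 : Q := act 0 n31751
theorem D68218 : act 0 n31751 = n68218 := rfl
def n68219 : Q := act 1 n31751
theorem D68219 : act 1 n31751 = n68219 := rfl
theorem F104387 : act 1 n68219 = n31756 := d15_1 D68219 (iv7 F104376) F104375
def n68220 : Q := act 4 n31751
theorem D68220 : act 4 n31751 = n68220 := rfl
def n68221 : Q := act 6 n31751
theorem D68221 : act 6 n31751 = n68221 := rfl
def n68222 : Q := act 7 n31751
theorem D68222 : act 7 n31751 = n68222 := rfl
theorem F104388 : act 2 n68222 = n31756 := d4_1 D68222 (iv7 F104376) F104375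
theorem F104389 : act 5 n68222 = n31753 := d13_1 D68222 (iv7 D31753) D31751
theorem F104390 : act 1 n31756 = n68218 := d15_0 (iv0 D68218) D68222 F104388
def n68223 : Q := act 0 n31752
theorem D68223 : act 0 n31752 = n68223 := rfl
def n68224 : Q := act 1 n31752
theorem D68224 : act 1 n31752 = n68224 := rfl
def n68225 : Q := act 5 n31752
theorem D68225 : act 5 n31752 = n68225 := rfl
def n68226 : Q := act 7 n31752
theorem D68226 : act 7 n31752 = n68226 := rfl
def n68227 : Q := act 6 n31753
theorem D68227 : act 6 n31753 = n68227 := rfl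
theorem F104391 : act 2 n68227 = n31757 := d3_1 D68227 (iv6 D31757) (iv2 F50053)
def n68228 : Q := act 0 n31754
theorem D68228 : act 0 n31754 = n68228 := rfl
theorem F104392 : act 4 n68228 = n65635 := d20_0 (iv1 F103710) F103708 F49736 (iv1 F49695) D67650 (iv4 F104381) (iv1 F104386) (iv4 D31755) D31754 D68228
def n68229 : Q := act 1 n31754
theorem D68229 : act 1 n31754 = n68229 := rfl
def n68230 : Q := act 2 n31754
theorem D68230 : act 2 n31754 = n68230 := rfl
def n68231 : Q := act 4 n31754
theorem D68231 : act 4 n31754 = n68231 := rfl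
theorem F104393 : act 0 n67691 = n68231 := d20_1 D67691 (iv4 D68231) (iv3 D31754) (iv1 D14937) (iv3 D7116) (iv4 D3269) (iv1 F5019) D7061 D14819 D31438
def n68232 : Q := act 5 n31754
theorem D68232 : act 5 n31754 = n68232 := rfl
theorem F104394 : act 3 n68232 = n31756 := d6_1 D68232 (iv5 D31756) D31754
def n68233 : Q := act 6 n31754
theorem D68233 : act 6 n31754 = n68233 := rfl
theorem F104395 : act 3 n68233 = n31757 := d7_1 D68233 (iv6 D31757) D31754
def n68234 : Q := act 5 n31755
theorem D68234 : act 5 n31755 = n68234 := rfl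
def n68235 : Q := act 6 n31755
theorem D68235 : act 6 n31755 = n68235 := rfl
theorem F104396 : act 4 n68235 = n31757 := d10_1 D68235 (iv6 D31757) D31755
def n68236 : Q := act 4 n31756
theorem D68236 : act 4 n31756 = n68236 := rfl
def n68237 : Q := act 6 n31756
theorem D68237 : act 6 n31756 = n68237 := rfl
def n68238 : Q := act 0 n31757
theorem D68238 : act 0 n31757 = n68238 := rfl
def n68239 : Q := act 1 n31757
theorem D68239 : act 1 n31757 = n68239 := rfl
def n68240 : Q := act 5 n31757
theorem D68240 : act 5 n31757 = n68240 := rfl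
def n68241 : Q := act 7 n31757
theorem D68241 : act 7 n31757 = n68241 := rfl
def n68242 : Q := act 0 n31758
theorem D68242 : act 0 n31758 = n68242 := rfl
def n68243 : Q := act 1 n31758
theorem D68243 : act 1 n31758 = n68243 := rfl
theorem F104397 : act 1 n68243 = n31762 := d15_1 D68243 (iv7 D31762) (iv2 F50054)
def n68244 : Q := act 5 n31758
theorem D68244 : act 5 n31758 = n68244 := rfl
theorem F104398 : act 2 n68244 = n31761 := d2_1 D68244 (iv5 D31761) (iv2 F50054)
def n68245 : Q := act 7 n31758
theorem D68245 : act 7 n31758 = n68245 := rfl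
theorem F104399 : act 2 n68245 = n31762 := d4_1 D68245 (iv7 D31762) (iv2 F50054)
theorem F104400 : act 1 n31762 = n68242 := d15_0 (iv0 D68242) D68245 F104399
theorem F104401 : act 1 n31760 = n68245 := d15_1 D31760 (iv7 D68245) F50054
theorem F104402 : act 1 n68245 = n31759 := d15_0 (iv0 D31759) D31762 (iv2 F104399)
def n68246 : Q := act 2 n31759
theorem D68246 : act 2 n31759 = n68246 := rfl
theorem F104403 : act 7 n31760 = n68246 := d15_2 (iv0 D31759) D31760 (iv2 D68246)
def n68247 : Q := act 3 n31759
theorem D68247 : act 3 n31759 = n68247 := rfl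
def n68248 : Q := act 4 n31759
theorem D68248 : act 4 n31759 = n68248 := rfl
def n68249 : Q := act 5 n31759
theorem D68249 : act 5 n31759 = n68249 := rfl
def n68250 : Q := act 6 n31759
theorem D68250 : act 6 n31759 = n68250 := rfl
def n68251 : Q := act 7 n31759
theorem D68251 : act 7 n31759 = n68251 := rfl
theorem F104404 : act 2 n68251 = n31760 := d4_1 D68251 F104403 (iv2 D68246)
def n68252 : Q := act 3 n31760
theorem D68252 : act 3 n31760 = n68252 := rfl
def n68253 : Q := act 4 n31760
theorem D68253 : act 4 n31760 = n68253 := rfl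
def n68254 : Q := act 5 n31760
theorem D68254 : act 5 n31760 = n68254 := rfl
def n68255 : Q := act 6 n31760
theorem D68255 : act 6 n31760 = n68255 := rfl
def n68256 : Q := act 0 n31761
theorem D68256 : act 0 n31761 = n68256 := rfl
def n68257 : Q := act 1 n31761
theorem D68257 : act 1 n31761 = n68257 := rfl
def n68258 : Q := act 4 n31761
theorem D68258 : act 4 n31761 = n68258 := rfl
def n68259 : Q := act 7 n31761
theorem D68259 : act 7 n31761 = n68259 := rfl
theorem F104405 : act 3 n68259 = n31766 := d8_1 D68259 (iv7 D31766) (iv3 F50055)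
theorem F104406 : act 5 n68259 = n31762 := d13_1 D68259 (iv7 D31762) D31761
def n68260 : Q := act 3 n31763
theorem D68260 : act 3 n31763 = n68260 := rfl
def n68261 : Q := act 6 n31763
theorem D68261 : act 6 n31763 = n68261 := rfl
def n68262 : Q := act 3 n31764
theorem D68262 : act 3 n31764 = n68262 := rfl
def n68264 : Q := act 0 n31765
theorem D68264 : act 0 n31765 = n68264 := rfl
def n68265 : Q := act 1 n31765
theorem D68265 : act 1 n31765 = n68265 := rfl
theorem F104407 : act 4 n68265 = n53496 := d18_7 (iv1 F48928) (iv4 D14948) (iv1 D7119) (iv4 F11438) D14942 D31765 D68265 F84400 F49361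
theorem F104408 : act 2 n66139 = n68265 := d1_3 F104407 (iv2 F84592) D66139
theorem F104409 : act 7 n66136 = n68265 := d11_0 F104407 (iv7 F84596) D66136
theorem F104410 : act 2 n66136 = n68264 := d15_3 (iv0 D68264) D68265 (iv7 F104409)
theorem F104411 : act 4 n68264 = n53495 := d1_2 D66136 F104410 F84597
theorem F104412 : act 7 n68264 = n66139 := d4_2 (iv7 F104409) F104410 F104408
def n68266 : Q := act 3 n31765
theorem D68266 : act 3 n31765 = n68266 := rfl
def n68267 : Q := act 5 n31765
theorem D68267 : act 5 n31765 = n68267 := rfl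
def n68268 : Q := act 7 n31765
theorem D68268 : act 7 n31765 = n68268 := rfl
theorem F104415 : act 4 n68268 = n31766 := d11_1 D68268 (iv7 D31766) D31765
theorem F104416 : act 1 n66139 = n68268 := d15_1 (iv0 F101767) (iv7 D68268) (iv2 F85087)
theorem F104417 : act 1 n68268 = n66136 := d15_1 F104416 F104409 (iv2 F104408)
def n68269 : Q := act 6 n31766
theorem D68269 : act 6 n31766 = n68269 := rfl
def n68270 : Q := act 4 n31767
theorem D68270 : act 4 n31767 = n68270 := rfl
def n68271 : Q := act 4 n31769
theorem D68271 : act 4 n31769 = n68271 := rfl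
theorem F104418 : act 2 n68271 = n31770 := d1_1 D68271 (iv4 D31770) D31769
theorem F104419 : act 0 n49492 = n68271 := d20_7 (iv4 F93933) F100410 (iv4 D64462) (iv3 F53447) (iv1 D24165) (iv3 F37872) (iv4 F78244) (iv4 D68271) (iv3 F85102) (iv1 F85105)
def n68272 : Q := act 6 n31769
theorem D68272 : act 6 n31769 = n68272 := rfl
theorem F104420 : act 2 n68272 = n31771 := d3_1 D68272 (iv6 D31771) D31769
theorem F104421 : act 5 n68272 = n59379 := d12_1 D68272 F93675 F93613 F93472 F93181
theorem F104422 : act 7 n68272 = n49904 := d14_2 F76878 D68272 (iv6 D49904) (iv7 F78881) (iv6 F78885)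
theorem F104423 : act 1 n62133 = n68272 := d15_1 D62133 F104422 F78938
theorem F104424 : act 1 n68272 = n62132 := d15_0 (iv0 D62132) (iv7 F50060) (iv2 F104420)
def n68273 : Q := act 0 n31770
theorem D68273 : act 0 n31770 = n68273 := rfl
theorem F104425 : act 4 n68273 = n49496 := d20_8 F50038 (iv1 D31734) F24591 F11425 D7118 D14944 D31770 D68273 F78249 (iv1 F39779)
theorem F104426 : act 7 n49492 = n68273 := d11_0 F104425 (iv7 D49496) (iv4 F78244)
def n68274 : Q := act 3 n31770
theorem D68274 : act 3 n31770 = n68274 := rfl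
theorem F104427 : act 4 n68274 = n31772 := d5_2 D31770 D68274 (iv3 D31772) (iv4 D14945) D14944
theorem F104428 : act 7 n68274 = n66131 := d8_2 F85112 D68274 F101763
def n68275 : Q := act 5 n31770
theorem D68275 : act 5 n31770 = n68275 := rfl
def n68276 : Q := act 6 n31770
theorem D68276 : act 6 n31770 = n68276 := rfl
theorem F104429 : act 4 n68276 = n31771 := d10_1 D68276 (iv6 D31771) D31770
theorem F104430 : act 7 n68276 = n62134 := d14_2 F85112 D68276 F96855 (iv7 F78941) (iv6 F85111)
def n68277 : Q := act 0 n31771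
theorem D68277 : act 0 n31771 = n68277 := rfl
theorem F104431 : act 5 n68277 = n62264 := d21_8 F93699 (iv1 F81984) D51964 (iv6 F82065) (iv1 F93614) (iv6 F47135) (iv5 F50059) D68277 (iv6 D62264) F93703
theorem F104432 : act 1 n49904 = n68277 := d15_0 (iv0 D68277) F50060 (iv2 F78938)
def n68278 : Q := act 1 n31771
theorem D68278 : act 1 n31771 = n68278 := rfl
theorem F104433 : act 1 n68278 = n49904 := d15_1 D68278 (iv7 F104422) F104420
theorem F104434 : act 5 n62201 = n68278 := d21_6 (iv5 D50930) (iv1 F80293) (iv5 F95523) (iv6 F96940) (iv1 F96941) D62201 (iv1 D68278) F50059 F47135 (iv1 F80343)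
def n68279 : Q := act 0 n31772
theorem D68279 : act 0 n31772 = n68279 := rfl
theorem F104435 : act 1 n66130 = n68279 := d15_0 (iv0 D68279) F50062 D66130
def n68280 : Q := act 1 n31772
theorem D68280 : act 1 n31772 = n68280 := rfl
def n68281 : Q := act 2 n31772
theorem D68281 : act 2 n31772 = n68281 := rfl
theorem F104436 : act 3 n68281 = n66120 := d0_2 D31772 D68281 (iv2 D66120) (iv3 D30914) F47797
theorem F104437 : act 7 n68281 = n66130 := d4_2 (iv7 F50062) D68281 (iv2 D66130)
theorem F104438 : act 1 n68281 = n66128 := d15_0 (iv0 D66128) (iv7 F50062) D68281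
theorem F104439 : act 1 n68280 = n66130 := d15_1 D68280 (iv7 F104437) (iv2 D68281)
theorem F104440 : act 1 n66129 = n68281 := d15_1 D66129 F104437 (iv2 D66130)
def n68282 : Q := act 5 n31772
theorem D68282 : act 5 n31772 = n68282 := rfl
theorem F104441 : act 3 n68282 = n31773 := d6_1 D68282 (iv5 D31773) D31772
theorem F104442 : act 7 n68282 = n66132 := d13_2 (iv7 F50062) D68282 (iv5 D66132)
def n68283 : Q := act 6 n31772
theorem D68283 : act 6 n31772 = n68283 := rfl
theorem F104443 : act 3 n68283 = n31774 := d7_1 D68283 (iv6 D31774) D31772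
theorem F104444 : act 7 n68283 = n62171 := d14_2 (iv7 F50062) D68283 F96924 (iv7 F53531) F53530
def n68284 : Q := act 1 n31773
theorem D68284 : act 1 n31773 = n68284 := rfl
theorem F104445 : act 1 n68284 = n31777 := d15_1 D68284 F50072 (iv2 F50063)
theorem F104446 : act 7 n68284 = n66124 := d15_2 F103299 D68284 (iv2 F103296)
theorem F104447 : act 5 n68284 = n50655 := d17_7 F78646 (iv5 D28128) (iv1 F22331) F22245 D14945 D31773 D68284 F100906 F100902
theorem F104448 : act 2 n66125 = n68284 := d2_3 F104447 (iv2 F81707) F101761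
def n68285 : Q := act 4 n31773
theorem D68285 : act 4 n31773 = n68285 := rfl
theorem F104449 : act 2 n68285 = n66126 := d1_1 D68285 (iv4 D66126) (iv2 F50063)
theorem F104450 : act 7 n68285 = n66133 := d11_2 (iv7 F50064) D68285 (iv4 D66133)
theorem F104451 : act 5 n68285 = n50757 := d16_1 D68285 (iv4 D50757) (iv5 D24705) F19022 (iv5 F11440) D14948 D31777 F50072 (iv2 F50063)
def n68286 : Q := act 6 n31773
theorem D68286 : act 6 n31773 = n68286 := rfl
def n68287 : Q := act 3 n31775
theorem D68287 : act 3 n31775 = n68287 := rfl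
theorem F104454 : act 6 n68287 = n64988 := d7_2 (iv6 F50068) D68287 F100789
theorem F104455 : act 7 n68287 = n66121 := d8_2 F85106 D68287 F101754
def n68288 : Q := act 5 n31775
theorem D68288 : act 5 n31775 = n68288 := rfl
def n68289 : Q := act 0 n31776
theorem D68289 : act 0 n31776 = n68289 := rfl
def n68290 : Q := act 1 n31776
theorem D68290 : act 1 n31776 = n68290 := rfl
def n68291 : Q := act 2 n31776
theorem D68291 : act 2 n31776 = n68291 := rfl
theorem F104458 : act 6 n68291 = n64987 := d3_2 (iv6 F50069) D68291 (iv2 D64987)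
theorem F104459 : act 7 n68291 = n66120 := d4_2 (iv7 F50070) D68291 (iv2 D66120)
theorem F104460 : act 1 n68291 = n66118 := d15_0 (iv0 D66118) (iv7 F50070) D68291
theorem F104461 : act 1 n68290 = n66120 := d15_1 D68290 (iv7 F104459) (iv2 D68291)
theorem F104462 : act 1 n66119 = n68291 := d15_1 D66119 F104459 (iv2 D66120)
def n68292 : Q := act 5 n31776
theorem D68292 : act 5 n31776 = n68292 := rfl
theorem F104463 : act 3 n68292 = n31777 := d6_1 D68292 (iv5 D31777) D31776
theorem F104464 : act 7 n68292 = n66122 := d13_2 (iv7 F50070) D68292 (iv5 D66122)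
def n68293 : Q := act 4 n31777
theorem D68293 : act 4 n31777 = n68293 := rfl
theorem F104465 : act 2 n68293 = n66133 := d1_1 D68293 (iv4 D66133) (iv2 F50071)
theorem F104466 : act 7 n68293 = n66126 := d11_2 (iv7 F50072) D68293 (iv4 D66126)
def n68294 : Q := act 6 n31777
theorem D68294 : act 6 n31777 = n68294 := rfl
theorem F104467 : act 2 n68294 = n66134 := d3_1 D68294 (iv6 D66134) (iv2 F50071)
theorem F104468 : act 5 n68294 = n64990 := d12_1 D68294 (iv6 D64990) (iv5 D30529) (iv6 F24611) D31777
def n68295 : Q := act 0 n31779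
theorem D68295 : act 0 n31779 = n68295 := rfl
def n68296 : Q := act 1 n31779
theorem D68296 : act 1 n31779 = n68296 := rfl
def n68297 : Q := act 2 n31779
theorem D68297 : act 2 n31779 = n68297 := rfl
def n68298 : Q := act 4 n31779
theorem D68298 : act 4 n31779 = n68298 := rfl
def n68299 : Q := act 5 n31779
theorem D68299 : act 5 n31779 = n68299 := rfl
theorem F104469 : act 3 n68299 = n31781 := d6_1 D68299 (iv5 D31781) D31779
theorem F104470 : act 6 n68299 = n49986 := d12_2 (iv6 F93282) D68299 F93284 (iv6 D59115) D59114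
def n68300 : Q := act 3 n31780
theorem D68300 : act 3 n31780 = n68300 := rfl
def n68301 : Q := act 5 n31780
theorem D68301 : act 5 n31780 = n68301 := rfl
def n68302 : Q := act 4 n31781
theorem D68302 : act 4 n31781 = n68302 := rfl
theorem F104476 : act 2 n68302 = n65132 := d1_1 D68302 F100902 F78662
theorem F104477 : act 6 n68302 = n34161 := d10_2 (iv6 F50075) D68302 F53652
theorem F104479 : act 5 n68302 = n53495 := d17_5 (iv1 D7119) D7120 D14949 D31781 D68302 (iv0 D53495) (iv5 D25913) (iv0 F48927) (iv4 D14948)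
theorem F104480 : act 0 n68302 = n51751 := d17_0 F101761 (iv1 D66125) (iv5 D30915) F47798 (iv5 F22329) F22333 D28037 (iv0 F50076) D68302
theorem F104481 : act 1 n68302 = n51761 := d18_6 (iv1 D25063) (iv4 F39339) (iv1 F78687) (iv4 D31780) D31781 D68302 (iv4 D51761) (iv0 F39506) F39341
def n68303 : Q := act 0 n31783
theorem D68303 : act 0 n31783 = n68303 := rfl
def n68304 : Q := act 1 n31783
theorem D68304 : act 1 n31783 = n68304 := rfl
def n68305 : Q := act 2 n31783
theorem D68305 : act 2 n31783 = n68305 := rfl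
def n68306 : Q := act 4 n31783
theorem D68306 : act 4 n31783 = n68306 := rfl
def n68308 : Q := act 5 n31784
theorem D68308 : act 5 n31784 = n68308 := rfl
def n68309 : Q := act 0 n31786
theorem D68309 : act 0 n31786 = n68309 := rfl
def n68310 : Q := act 1 n31786
theorem D68310 : act 1 n31786 = n68310 := rfl
def n68311 : Q := act 2 n31786
theorem D68311 : act 2 n31786 = n68311 := rfl
theorem F104488 : act 6 n68311 = n31791 := d3_2 (iv6 F50082) D68311 (iv2 D31791)
def n68312 : Q := act 5 n31786
theorem D68312 : act 5 n31786 = n68312 := rfl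
theorem F104489 : act 3 n68312 = n31787 := d6_1 D68312 (iv5 D31787) D31786
def n68313 : Q := act 7 n31786
theorem D68313 : act 7 n31786 = n68313 := rfl
theorem F104490 : act 3 n68313 = n31788 := d8_1 D68313 (iv7 D31788) D31786
def n68314 : Q := act 4 n31787
theorem D68314 : act 4 n31787 = n68314 := rfl
theorem F104492 : act 1 n68314 = n50757 := d18_6 (iv1 F50081) (iv4 D31784) (iv1 D14950) D14951 D31787 D68314 (iv4 D50757) D50756 F80137
def n68323 : Q := act 5 n31790
theorem D68323 : act 5 n31790 = n68323 := rfl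
def n68325 : Q := act 5 n31793
theorem D68325 : act 5 n31793 = n68325 := rfl
theorem F104495 : act 2 n68325 = n31794 := d2_1 D68325 (iv5 D31794) D31793
theorem F104496 : act 3 n68325 = n59873 := d6_1 D68325 F94340 F55366
theorem F104497 : act 7 n68325 = n32386 := d13_2 (iv7 F50088) D68325 (iv5 D32386)
theorem F104498 : act 0 n68325 = n32401 := d17_2 (iv1 F50089) D68325 F51450 F54303 D28402 F54307 (iv5 D31555) F41182 (iv4 F41183)
theorem F104499 : act 1 n68325 = n32400 := d17_6 (iv1 F24759) D15162 (iv1 F51018) F51020 (iv4 F50086) D68325 (iv5 F54314) F54313 F26587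
theorem F104500 : act 4 n68325 = n32095 := d18_5 (iv1 F41177) (iv4 F41170) (iv1 F45910) (iv4 F50086) D68325 F51035 (iv4 D15164) F24763 F50753
def n68326 : Q := act 4 n31794
theorem D68326 : act 4 n31794 = n68326 := rfl
theorem F104501 : act 2 n68326 = n32095 := d1_1 D68326 (iv4 F104500) F104495
theorem F104502 : act 7 n68326 = n32094 := d11_2 (iv7 F50093) D68326 F51034
theorem F104503 : act 0 n68326 = n32071 := d18_2 F51031 D68326 (iv4 D32071) (iv5 D15132) (iv4 F24780) (iv0 F26797) (iv4 F41303) F45943 D28429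
theorem F104504 : act 1 n68326 = n32099 := d18_6 D14853 D31529 F49873 F27115 D31794 D68326 F51041 (iv0 F50756) (iv5 D14856)
def n68327 : Q := act 6 n31794
theorem D68327 : act 6 n31794 = n68327 := rfl
theorem F104505 : act 3 n68327 = n31796 := d7_1 D68327 (iv6 D31796) (iv3 F50092)
theorem F104506 : act 5 n68327 = n50036 := d12_1 D68327 (iv6 D50036) F38252 (iv6 F26632) D31794
def n68328 : Q := act 3 n31795
theorem D68328 : act 3 n31795 = n68328 := rfl
theorem F104507 : act 5 n68328 = n34976 := d6_2 (iv5 F50096) D68328 (iv3 D34976)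
theorem F104508 : act 7 n68328 = n32404 := d8_2 (iv7 F50095) D68328 (iv3 D32404)
def n68329 : Q := act 6 n31795
theorem D68329 : act 6 n31795 = n68329 := rfl
theorem F104509 : act 4 n68329 = n31796 := d10_1 D68329 (iv6 D31796) D31795
def n68330 : Q := act 0 n31796
theorem D68330 : act 0 n31796 = n68330 := rfl
def n68331 : Q := act 1 n31796
theorem D68331 : act 1 n31796 = n68331 := rfl
def n68332 : Q := act 7 n31796
theorem D68332 : act 7 n31796 = n68332 := rfl
theorem F104510 : act 5 n68332 = n50054 := d13_1 D68332 F79227 (iv5 F50098)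
theorem F104511 : act 6 n68332 = n32403 := d14_1 D68332 (iv7 D32403) F24881 (iv7 F26638) D31796
def n68333 : Q := act 6 n31797
theorem D68333 : act 6 n31797 = n68333 := rfl
theorem F104512 : act 2 n68333 = n31808 := d3_1 D68333 (iv6 D31808) (iv2 F50099)
theorem F104513 : act 4 n68333 = n31798 := d10_1 D68333 (iv6 D31798) D31797
def n68334 : Q := act 0 n31798
theorem D68334 : act 0 n31798 = n68334 := rfl
theorem F104514 : act 2 n31809 = n68334 := d15_3 (iv0 D68334) (iv0 F98148) F104185
theorem F104515 : act 5 n68334 = n61815 := d2_2 (iv5 F104184) F104514 (iv2 F98150)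
theorem F104516 : act 7 n68334 = n31810 := d4_2 F104185 F104514 (iv2 F98146)
theorem F104517 : act 1 n31811 = n68334 := d15_1 (iv0 F98149) F104516 (iv2 F98146)
theorem E9471 : n61825 = n61759 := (c21_11 F96345 (iv1 D32609) F24981 (iv6 D14109) (iv1 F23100) D29058 (iv5 F50102) D68334 F104515 (iv6 F98172) (iv1 F98174))
theorem F104518 : act 0 n61759 = n29298 := (sb E9471 (iv1 D61825))
theorem F104519 : act 1 n61759 = n62923 := (sb E9471 F98174)
def n68335 : Q := act 7 n31798
theorem D68335 : act 7 n31798 = n68335 := rfl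
theorem F104521 : act 5 n68335 = n61388 := d13_1 D68335 (iv7 D61388) (iv5 F50102)
theorem F104522 : act 1 n31810 = n68335 := d15_1 D31810 (iv7 D68335) F50101
theorem F104523 : act 1 n68335 = n31809 := d15_1 F104522 (iv7 F104185) F98146
def n68336 : Q := act 6 n31799
theorem D68336 : act 6 n31799 = n68336 := rfl
theorem F104524 : act 3 n68336 = n31801 := d7_1 D68336 (iv6 D31801) D31799
theorem F104525 : act 5 n68336 = n32674 := d12_1 D68336 (iv6 D32674) F25793 (iv6 F26511) (iv5 F50103)
def n68337 : Q := act 3 n31800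
theorem D68337 : act 3 n31800 = n68337 := rfl
def n68338 : Q := act 6 n31800
theorem D68338 : act 6 n31800 = n68338 := rfl
theorem F104526 : act 4 n68338 = n31801 := d10_1 D68338 (iv6 D31801) D31800
def n68339 : Q := act 1 n31801
theorem D68339 : act 1 n31801 = n68339 := rfl
theorem F104527 : act 7 n68339 = n55611 := d15_2 (iv0 F54990) D68339 F87963
def n68340 : Q := act 7 n31801
theorem D68340 : act 7 n31801 = n68340 := rfl
theorem F104528 : act 5 n68340 = n32679 := d13_1 D68340 (iv7 D32679) (iv5 F50104)
def n68341 : Q := act 6 n31802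
theorem D68341 : act 6 n31802 = n68341 := rfl
theorem F104529 : act 3 n68341 = n31804 := d7_1 D68341 (iv6 D31804) D31802
theorem F104530 : act 5 n68341 = n32931 := d12_1 D68341 (iv6 D32931) (iv5 D15859) (iv6 F24640) (iv5 F50105)
def n68342 : Q := act 3 n31803
theorem D68342 : act 3 n31803 = n68342 := rfl
def n68343 : Q := act 6 n31803
theorem D68343 : act 6 n31803 = n68343 := rfl
theorem F104531 : act 4 n68343 = n31804 := d10_1 D68343 (iv6 D31804) D31803
def n68344 : Q := act 0 n31804
theorem D68344 : act 0 n31804 = n68344 := rfl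
def n68345 : Q := act 1 n31804
theorem D68345 : act 1 n31804 = n68345 := rfl
def n68346 : Q := act 7 n31804
theorem D68346 : act 7 n31804 = n68346 := rfl
theorem F104532 : act 5 n68346 = n32936 := d13_1 D68346 (iv7 D32936) (iv5 F50106)
def n68347 : Q := act 3 n31805
theorem D68347 : act 3 n31805 = n68347 := rfl
def n68348 : Q := act 6 n31805
theorem D68348 : act 6 n31805 = n68348 := rfl
theorem F104533 : act 4 n68348 = n31894 := d10_1 D68348 (iv6 D31894) (iv4 F50107)
def n68349 : Q := act 3 n31806
theorem D68349 : act 3 n31806 = n68349 := rfl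
def n68350 : Q := act 6 n31806
theorem D68350 : act 6 n31806 = n68350 := rfl
theorem F104534 : act 4 n68350 = n31892 := d10_1 D68350 (iv6 D31892) (iv4 F50108)
def n68351 : Q := act 6 n31807
theorem D68351 : act 6 n31807 = n68351 := rfl
theorem F104535 : act 2 n68351 = n31895 := d3_1 D68351 (iv6 D31895) (iv2 F50109)
theorem F104536 : act 4 n68351 = n31890 := d10_1 D68351 (iv6 D31890) (iv4 F50111)
def n68352 : Q := act 0 n31808
theorem D68352 : act 0 n31808 = n68352 := rfl
def n68353 : Q := act 1 n31808
theorem D68353 : act 1 n31808 = n68353 := rfl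
def n68354 : Q := act 5 n31808
theorem D68354 : act 5 n31808 = n68354 := rfl
def n68355 : Q := act 7 n31808
theorem D68355 : act 7 n31808 = n68355 := rfl
theorem F104537 : act 4 n68355 = n31811 := d11_1 D68355 (iv7 D31811) (iv4 F50113)
def n68356 : Q := act 3 n31809
theorem D68356 : act 3 n31809 = n68356 := rfl
def n68357 : Q := act 4 n31809
theorem D68357 : act 4 n31809 = n68357 := rfl
def n68358 : Q := act 6 n31809
theorem D68358 : act 6 n31809 = n68358 := rfl
def n68359 : Q := act 3 n31810
theorem D68359 : act 3 n31810 = n68359 := rfl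
theorem F104538 : act 5 n68359 = n61810 := d6_2 F50114 D68359 F96378
def n68360 : Q := act 4 n31810
theorem D68360 : act 4 n31810 = n68360 := rfl
def n68362 : Q := act 1 n31812
theorem D68362 : act 1 n31812 = n68362 := rfl
theorem F104540 : act 1 n68362 = n31817 := d15_1 D68362 (iv7 D31817) D31812
def n68363 : Q := act 3 n31812
theorem D68363 : act 3 n31812 = n68363 := rfl
theorem F104541 : act 7 n68363 = n31818 := d8_2 F50116 D68363 (iv3 D31818)
def n68364 : Q := act 4 n31812
theorem D68364 : act 4 n31812 = n68364 := rfl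
theorem F104542 : act 2 n68364 = n31814 := d1_1 D68364 (iv4 D31814) D31812
theorem F104543 : act 7 n68364 = n31819 := d11_2 F50116 D68364 (iv4 D31819)
def n68365 : Q := act 5 n31812
theorem D68365 : act 5 n31812 = n68365 := rfl
theorem F104544 : act 2 n68365 = n31815 := d2_1 D68365 (iv5 D31815) D31812
theorem F104545 : act 7 n68365 = n31820 := d13_2 F50116 D68365 (iv5 D31820)
def n68366 : Q := act 6 n31812
theorem D68366 : act 6 n31812 = n68366 := rfl
theorem F104546 : act 2 n68366 = n31816 := d3_1 D68366 (iv6 D31816) D31812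
def n68367 : Q := act 0 n31813
theorem D68367 : act 0 n31813 = n68367 := rfl
def n68368 : Q := act 1 n31813
theorem D68368 : act 1 n31813 = n68368 := rfl
def n68369 : Q := act 2 n31813
theorem D68369 : act 2 n31813 = n68369 := rfl
def n68370 : Q := act 4 n31813
theorem D68370 : act 4 n31813 = n68370 := rfl
def n68372 : Q := act 6 n31813
theorem D68372 : act 6 n31813 = n68372 := rfl
theorem F104548 : act 3 n68372 = n31816 := d7_1 D68372 (iv6 D31816) D31813
def n68373 : Q := act 7 n31813
theorem D68373 : act 7 n31813 = n68373 := rfl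
theorem F104549 : act 3 n68373 = n31817 := d8_1 D68373 (iv7 D31817) D31813
def n68374 : Q := act 0 n31814
theorem D68374 : act 0 n31814 = n68374 := rfl
def n68375 : Q := act 1 n31814
theorem D68375 : act 1 n31814 = n68375 := rfl
theorem F104550 : act 1 n68375 = n31819 := d15_1 D68375 (iv7 F104543) F104542
def n68378 : Q := act 6 n31814
theorem D68378 : act 6 n31814 = n68378 := rfl
theorem F104551 : act 4 n68378 = n31816 := d10_1 D68378 (iv6 D31816) D31814
def n68379 : Q := act 7 n31814
theorem D68379 : act 7 n31814 = n68379 := rfl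
theorem F104552 : act 2 n68379 = n31819 := d4_1 D68379 (iv7 F104543) F104542
theorem F104553 : act 4 n68379 = n31817 := d11_1 D68379 (iv7 D31817) D31814
theorem F104554 : act 1 n31819 = n68374 := d15_0 (iv0 D68374) D68379 F104552
def n68380 : Q := act 0 n31815
theorem D68380 : act 0 n31815 = n68380 := rfl
theorem F104555 : act 5 n68380 = n67894 := d21_2 D31815 D68380 (iv6 D67894) (iv1 D31561) (iv6 D14862) (iv5 D7077) (iv1 F5026) D3276 D7128 D14973
theorem F104556 : act 6 n61638 = n68380 := d12_0 F104555 (iv6 D67894) (iv5 F96205) (iv6 D61639) D61638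
theorem F104557 : act 7 n50053 = n68380 := d13_0 F104555 F103958 (iv5 F79224)
theorem F104558 : act 1 n31820 = n68380 := d15_1 (iv0 F94901) (iv7 F104557) F79223
theorem F104559 : act 0 n31821 = n59976 := d21_10 F94459 (iv1 F52005) F52001 (iv6 F50178) (iv1 F50179) D67894 (iv5 F104555) (iv1 F104558) (iv5 D31820) D31821
def n68381 : Q := act 4 n31815
theorem D68381 : act 4 n31815 = n68381 := rfl
def n68382 : Q := act 6 n31815
theorem D68382 : act 6 n31815 = n68382 := rfl
def n68383 : Q := act 7 n31815
theorem D68383 : act 7 n31815 = n68383 := rfl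
theorem F104560 : act 2 n68383 = n31820 := d4_1 D68383 (iv7 F104545) F104544
theorem F104561 : act 5 n68383 = n31817 := d13_1 D68383 (iv7 D31817) D31815
def n68384 : Q := act 0 n31816
theorem D68384 : act 0 n31816 = n68384 := rfl
def n68385 : Q := act 1 n31816
theorem D68385 : act 1 n31816 = n68385 := rfl
theorem F104562 : act 6 n61758 = n68385 := d21_3 F24519 D29274 D61758 (iv1 D68385) (iv6 D31816) D31815 D68380 F104555 (iv6 D67894) (iv1 D31561)
def n68386 : Q := act 7 n31816
theorem D68386 : act 7 n31816 = n68386 := rfl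
def n68387 : Q := act 6 n31817
theorem D68387 : act 6 n31817 = n68387 := rfl
theorem F104563 : act 2 n68387 = n31821 := d3_1 D68387 (iv6 D31821) (iv2 F50117)
def n68388 : Q := act 0 n31818
theorem D68388 : act 0 n31818 = n68388 := rfl
def n68389 : Q := act 1 n31818
theorem D68389 : act 1 n31818 = n68389 := rfl
def n68390 : Q := act 2 n31818
theorem D68390 : act 2 n31818 = n68390 := rfl
def n68391 : Q := act 4 n31818
theorem D68391 : act 4 n31818 = n68391 := rfl
def n68392 : Q := act 5 n31818
theorem D68392 : act 5 n31818 = n68392 := rfl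
theorem F104564 : act 3 n68392 = n31820 := d6_1 D68392 (iv5 D31820) D31818
def n68393 : Q := act 6 n31818
theorem D68393 : act 6 n31818 = n68393 := rfl
theorem F104565 : act 3 n68393 = n31821 := d7_1 D68393 (iv6 D31821) D31818
def n68394 : Q := act 3 n31819
theorem D68394 : act 3 n31819 = n68394 := rfl
def n68395 : Q := act 5 n31819
theorem D68395 : act 5 n31819 = n68395 := rfl
def n68396 : Q := act 6 n31819
theorem D68396 : act 6 n31819 = n68396 := rfl
theorem F104566 : act 4 n68396 = n31821 := d10_1 D68396 (iv6 D31821) D31819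
def n68398 : Q := act 5 n31821
theorem D68398 : act 5 n31821 = n68398 := rfl
theorem F104567 : act 0 n67919 = n68398 := d21_1 D67919 (iv5 D68398) (iv6 D31821) (iv1 D14974) (iv6 D7128) (iv5 D3276) (iv1 F5027) D7079 D14868 D31580
def n68399 : Q := act 7 n31821
theorem D68399 : act 7 n31821 = n68399 := rfl
def n68400 : Q := act 2 n31822
theorem D68400 : act 2 n31822 = n68400 := rfl
theorem F104568 : act 7 n31823 = n68400 := d15_2 (iv0 D31822) D31823 (iv2 D68400)
def n68401 : Q := act 3 n31822
theorem D68401 : act 3 n31822 = n68401 := rfl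
def n68402 : Q := act 4 n31822
theorem D68402 : act 4 n31822 = n68402 := rfl
def n68403 : Q := act 5 n31822
theorem D68403 : act 5 n31822 = n68403 := rfl
theorem F104569 : act 0 n68403 = n49029 := d21_1 D68403 (iv5 F79224) (iv6 D50053) (iv1 D24409) (iv6 D11508) (iv5 D5365) (iv1 F5501) D7129 (iv6 F24621) D31822
theorem F104570 : act 1 n68403 = n60392 := d15_1 (iv0 F104569) (iv7 D60392) (iv2 F77386)
def n68404 : Q := act 6 n31822
theorem D68404 : act 6 n31822 = n68404 := rfl
theorem F104571 : act 5 n68404 = n34016 := d21_6 (iv5 D5365) (iv1 F5501) D7129 (iv6 F24621) D31822 D68404 (iv1 D34016) (iv5 F38261) (iv6 D24405) (iv1 D11506)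
def n68405 : Q := act 7 n31822
theorem D68405 : act 7 n31822 = n68405 := rfl
theorem F104572 : act 2 n68405 = n31823 := d4_1 D68405 F104568 (iv2 D68400)
def n68406 : Q := act 3 n31823
theorem D68406 : act 3 n31823 = n68406 := rfl
def n68407 : Q := act 4 n31823
theorem D68407 : act 4 n31823 = n68407 := rfl
def n68408 : Q := act 6 n31823
theorem D68408 : act 6 n31823 = n68408 := rfl
def n68409 : Q := act 6 n31828
theorem D68409 : act 6 n31828 = n68409 := rfl
theorem F104573 : act 4 n68409 = n67983 := d10_1 D68409 (iv6 D67983) F50631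
def n68410 : Q := act 5 n31833
theorem D68410 : act 5 n31833 = n68410 := rfl
theorem F104574 : act 2 n68410 = n54112 := d2_1 D68410 (iv5 D54112) (iv2 F50126)
theorem F104575 : act 3 n68410 = n54064 := d6_1 D68410 (iv5 D54064) (iv3 F50127)
theorem F104576 : act 7 n68410 = n54111 := d13_2 (iv7 F50129) D68410 (iv5 D54111)
theorem F104577 : act 0 n68410 = n67855 := d17_2 F50131 D68410 (iv5 D67855) (iv4 D31522) F41591 (iv0 D26199) (iv5 D12429) (iv0 F26926) (iv4 F41566)
theorem F104578 : act 1 n68410 = n67854 := d17_6 (iv1 F85130) (iv5 F85503) F85505 F50448 D31833 D68410 (iv5 D67854) F82863 (iv4 F85127)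
def n68411 : Q := act 6 n31835
theorem D68411 : act 6 n31835 = n68411 := rfl
theorem F104579 : act 3 n68411 = n54066 := d7_1 D68411 (iv6 D54066) (iv3 F50133)
theorem F104580 : act 4 n68411 = n67986 := d10_1 D68411 (iv6 D67986) (iv4 F50515)
theorem F104581 : act 5 n68411 = n32748 := d12_1 D68411 (iv6 D32748) (iv5 D15668) (iv6 F41351) D31835
def n68412 : Q := act 3 n31838
theorem D68412 : act 3 n31838 = n68412 := rfl
theorem F104582 : act 4 n68412 = n31889 := d5_2 D31838 D68412 (iv3 D31889) (iv4 D15010) (iv3 F26628)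
def n68413 : Q := act 5 n31838
theorem D68413 : act 5 n31838 = n68413 := rfl
theorem F104583 : act 2 n68413 = n31848 := d2_1 D68413 (iv5 D31848) (iv2 F50135)
theorem F104584 : act 4 n68413 = n54013 := d16_2 D31838 D68413 (iv5 D54013) (iv4 D26129) (iv5 D12393) F9128 D12393 F20630 (iv2 F24625)
def n68414 : Q := act 6 n31838
theorem D68414 : act 6 n31838 = n68414 := rfl
theorem F104585 : act 2 n68414 = n31849 := d3_1 D68414 (iv6 D31849) (iv2 F50135)
theorem F104586 : act 4 n68414 = n31839 := d10_1 D68414 (iv6 D31839) D31838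
def n68415 : Q := act 0 n31839
theorem D68415 : act 0 n31839 = n68415 := rfl
def n68416 : Q := act 1 n31839
theorem D68416 : act 1 n31839 = n68416 := rfl
theorem F104587 : act 1 n68416 = n31852 := d15_1 D68416 (iv7 D31852) (iv2 F50136)
def n68417 : Q := act 7 n31839
theorem D68417 : act 7 n31839 = n68417 := rfl
theorem F104588 : act 2 n68417 = n31852 := d4_1 D68417 (iv7 D31852) (iv2 F50136)
theorem F104589 : act 3 n68417 = n31881 := d8_1 D68417 (iv7 D31881) (iv3 F50137)
theorem F104590 : act 5 n68417 = n31852 := d13_1 D68417 (iv7 D31852) (iv5 F50138)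
theorem F104591 : act 1 n31852 = n68415 := d15_0 (iv0 D68415) D68417 F104588
theorem F104592 : act 1 n31851 = n68417 := d15_1 D31851 (iv7 D68417) F50136
theorem F104593 : act 1 n68417 = n31850 := d15_0 (iv0 D31850) D31852 (iv2 F104588)
def n68418 : Q := act 2 n31840
theorem D68418 : act 2 n31840 = n68418 := rfl
theorem F104594 : act 3 n68418 = n67944 := d0_2 D31840 D68418 F104039 F49935 (iv2 F50460)
theorem F104595 : act 4 n68418 = n54040 := d1_2 (iv4 F50665) D68418 (iv2 F85268)
theorem F104596 : act 5 n68418 = n53964 := d2_2 F50407 D68418 (iv2 D53964)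
theorem F104597 : act 7 n68418 = n67928 := d4_2 F50619 D68418 F104007
theorem F104598 : act 1 n68418 = n67907 := d15_0 F104023 F50619 D68418
theorem F104599 : act 1 n67931 = n68418 := d15_0 F104598 F103990 (iv2 F104021)
def n68419 : Q := act 6 n31840
theorem D68419 : act 6 n31840 = n68419 := rfl
theorem F104600 : act 3 n68419 = n31842 := d7_1 D68419 (iv6 D31842) D31840
theorem F104601 : act 5 n68419 = n32762 := d12_1 D68419 (iv6 D32762) (iv5 F27264) (iv6 F50408) F50407
def n68420 : Q := act 1 n31841
theorem D68420 : act 1 n31841 = n68420 := rfl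
theorem F104602 : act 1 n68420 = n31844 := d15_1 D68420 (iv7 F50612) (iv2 F50621)
theorem F104603 : act 7 n68420 = n67936 := d15_2 F51059 D68420 (iv2 F104035)
theorem F104604 : act 4 n68420 = n32087 := d18_7 D31595 F49916 (iv1 F50410) F50411 (iv5 F50412) D31841 D68420 F51017 (iv5 D31598)
theorem F104605 : act 2 n67935 = n68420 := d1_3 F104604 F50727 (iv4 F104030)
def n68421 : Q := act 3 n31841
theorem D68421 : act 3 n31841 = n68421 := rfl
theorem F104606 : act 7 n68421 = n67937 := d8_2 F50620 D68421 (iv3 D67937)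
def n68422 : Q := act 5 n31841
theorem D68422 : act 5 n31841 = n68422 := rfl
theorem F104607 : act 2 n68422 = n67949 := d2_1 D68422 (iv5 D67949) (iv2 F50621)
theorem F104608 : act 7 n68422 = n67938 := d13_2 F50620 D68422 (iv5 D67938)
def n68423 : Q := act 6 n31841
theorem D68423 : act 6 n31841 = n68423 := rfl
theorem F104609 : act 2 n68423 = n67950 := d3_1 D68423 (iv6 D67950) (iv2 F50621)
theorem F104610 : act 4 n68423 = n31842 := d10_1 D68423 (iv6 D31842) D31841
def n68424 : Q := act 0 n31842
theorem D68424 : act 0 n31842 = n68424 := rfl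
def n68425 : Q := act 1 n31842
theorem D68425 : act 1 n31842 = n68425 := rfl
theorem F104611 : act 1 n68425 = n67953 := d15_1 D68425 (iv7 D67953) F50622
def n68426 : Q := act 7 n31842
theorem D68426 : act 7 n31842 = n68426 := rfl
theorem F104612 : act 2 n68426 = n67953 := d4_1 D68426 (iv7 D67953) F50622
theorem F104613 : act 5 n68426 = n32767 := d13_1 D68426 (iv7 D32767) (iv5 F50140)
theorem F104614 : act 6 n68426 = n67942 := d14_1 D68426 (iv7 D67942) (iv6 D31604) (iv7 F50461) D31842
theorem F104615 : act 1 n67953 = n68424 := d15_0 (iv0 D68424) D68426 F104612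
theorem F104616 : act 1 n67952 = n68426 := d15_1 D67952 (iv7 D68426) (iv2 F50622)
theorem F104617 : act 1 n68426 = n67951 := d15_0 (iv0 D67951) D67953 (iv2 F104612)
def n68427 : Q := act 4 n31843
theorem D68427 : act 4 n31843 = n68427 := rfl
theorem F104618 : act 2 n68427 = n54119 := d1_1 D68427 F94296 (iv2 F94295)
theorem F104619 : act 7 n68427 = n54118 := d11_2 F50611 D68427 F85433
theorem F104620 : act 0 n68427 = n54048 := d18_2 (iv1 F84934) D68427 (iv4 D54048) (iv5 D26146) (iv4 F40283) (iv0 F50130) (iv4 D31833) (iv0 F45975) D52556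
theorem F104621 : act 1 n68427 = n54123 := d18_6 D26049 (iv4 F83158) (iv1 F83160) F56604 (iv5 F50613) D68427 F85438 F41573 F24705
def n68428 : Q := act 6 n31843
theorem D68428 : act 6 n31843 = n68428 := rfl
theorem F104622 : act 3 n68428 = n31845 := d7_1 D68428 (iv6 D31845) D31843
def n68429 : Q := act 3 n31844
theorem D68429 : act 3 n31844 = n68429 := rfl
theorem F104623 : act 7 n68429 = n67948 := d8_2 F50612 D68429 (iv3 D67948)
def n68430 : Q := act 5 n31844
theorem D68430 : act 5 n31844 = n68430 := rfl
theorem F104624 : act 2 n68430 = n67938 := d2_1 D68430 (iv5 D67938) F50614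
theorem F104625 : act 7 n68430 = n67949 := d13_2 F50612 D68430 (iv5 D67949)
def n68431 : Q := act 6 n31844
theorem D68431 : act 6 n31844 = n68431 := rfl
theorem F104626 : act 2 n68431 = n67939 := d3_1 D68431 (iv6 D67939) F50614
theorem F104627 : act 4 n68431 = n31845 := d10_1 D68431 (iv6 D31845) D31844
def n68432 : Q := act 0 n31845
theorem D68432 : act 0 n31845 = n68432 := rfl
def n68433 : Q := act 1 n31845
theorem D68433 : act 1 n31845 = n68433 := rfl
theorem F104628 : act 1 n68433 = n67942 := d15_1 D68433 (iv7 D67942) F50615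
def n68434 : Q := act 7 n31845
theorem D68434 : act 7 n31845 = n68434 := rfl
theorem F104629 : act 2 n68434 = n67942 := d4_1 D68434 (iv7 D67942) F50615
theorem F104630 : act 6 n68434 = n67953 := d14_1 D68434 (iv7 D67953) (iv6 D31620) (iv7 F50476) D31845
theorem F104631 : act 1 n67942 = n68432 := d15_0 (iv0 D68432) D68434 F104629
theorem F104632 : act 1 n67941 = n68434 := d15_1 D67941 (iv7 D68434) (iv2 F50615)
theorem F104633 : act 1 n68434 = n67940 := d15_0 (iv0 D67940) D67942 (iv2 F104629)
def n68435 : Q := act 3 n31846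
theorem D68435 : act 3 n31846 = n68435 := rfl
def n68436 : Q := act 5 n31846
theorem D68436 : act 5 n31846 = n68436 := rfl
theorem F104634 : act 2 n68436 = n67988 := d2_1 D68436 F104096 (iv2 F85208)
theorem F104635 : act 7 n68436 = n67987 := d13_2 (iv7 F85204) D68436 F104094
theorem F104636 : act 4 n68436 = n68430 := d16_2 F55402 D68436 (iv5 D68430) (iv4 D31844) F50419 D26100 D53966 F85133 (iv2 F55397)
theorem F104637 : act 0 n68436 = n67955 := d17_2 D31846 D68436 (iv5 D67955) (iv4 D31625) (iv5 D14879) F20561 (iv5 F50412) (iv0 D14989) D14991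
theorem F104638 : act 1 n68436 = n53977 := d17_6 (iv1 F51050) (iv5 F50965) (iv1 F50410) D34979 F55402 D68436 (iv5 D53977) D53976 (iv4 F85161)
def n68437 : Q := act 6 n31846
theorem D68437 : act 6 n31846 = n68437 := rfl
def n68438 : Q := act 3 n31847
theorem D68438 : act 3 n31847 = n68438 := rfl
def n68439 : Q := act 5 n31847
theorem D68439 : act 5 n31847 = n68439 := rfl
theorem F104639 : act 2 n68439 = n67987 := d2_1 D68439 F104094 (iv2 F85203)
theorem F104640 : act 4 n68439 = n68422 := d9_1 D68439 (iv5 D68422) (iv4 D31841) F50412 (iv4 F50411) D34979 F55402 D68436 F104636 (iv5 D68430) (iv4 D31844) F50419 D26100 D53966 (iv4 F85136)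
theorem F104641 : act 7 n68439 = n67988 := d13_2 F85206 D68439 F104096
theorem F104642 : act 0 n68439 = n53977 := d17_2 F85197 D68439 (iv5 D53977) (iv4 D26106) (iv5 D12372) D12370 (iv5 F50419) F41386 D54009
theorem F104643 : act 0 n67955 = n68439 := d18_2 F104642 (iv4 F104055) F104640 (iv5 D68422) (iv4 D31841) (iv0 D14989) D14991 D31847 D68439
def n68440 : Q := act 6 n31847
theorem D68440 : act 6 n31847 = n68440 := rfl
def n68441 : Q := act 4 n31848
theorem D68441 : act 4 n31848 = n68441 := rfl
theorem F104644 : act 2 n68441 = n54013 := d1_1 D68441 (iv4 F104584) F104583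
theorem F104645 : act 7 n68441 = n68413 := d11_2 F85209 D68441 F104584
theorem F104646 : act 5 n68441 = n54009 := d16_3 D14991 D31848 D68441 (iv4 D54009) (iv5 D26126) F20624 D26126 F41385 F24625
theorem F104647 : act 0 n68441 = n67985 := d17_0 (iv5 D67985) (iv1 D31640) D31641 D67989 F104100 F85140 D67982 F104091 D68441
theorem F104648 : act 1 n68441 = n67982 := d18_8 (iv1 F85140) (iv4 D53967) (iv1 F41289) D31636 D67976 (iv4 F104090) F104091 D68441 (iv5 D67982)
def n68442 : Q := act 6 n31848
theorem D68442 : act 6 n31848 = n68442 := rfl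
def n68443 : Q := act 0 n31849
theorem D68443 : act 0 n31849 = n68443 := rfl
def n68444 : Q := act 1 n31849
theorem D68444 : act 1 n31849 = n68444 := rfl
def n68445 : Q := act 5 n31849
theorem D68445 : act 5 n31849 = n68445 := rfl
def n68446 : Q := act 7 n31849
theorem D68446 : act 7 n31849 = n68446 := rfl
theorem F104649 : act 4 n68446 = n31852 := d11_1 D68446 (iv7 D31852) (iv4 F50141)
def n68447 : Q := act 2 n31850
theorem D68447 : act 2 n31850 = n68447 := rfl
theorem F104650 : act 7 n31851 = n68447 := d15_2 (iv0 D31850) D31851 (iv2 D68447)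
def n68448 : Q := act 3 n31850
theorem D68448 : act 3 n31850 = n68448 := rfl
def n68449 : Q := act 4 n31850
theorem D68449 : act 4 n31850 = n68449 := rfl
def n68450 : Q := act 5 n31850
theorem D68450 : act 5 n31850 = n68450 := rfl
def n68451 : Q := act 6 n31850
theorem D68451 : act 6 n31850 = n68451 := rfl
def n68452 : Q := act 7 n31850
theorem D68452 : act 7 n31850 = n68452 := rfl
theorem F104651 : act 2 n68452 = n31851 := d4_1 D68452 F104650 (iv2 D68447)
def n68453 : Q := act 3 n31851
theorem D68453 : act 3 n31851 = n68453 := rfl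
def n68454 : Q := act 4 n31851
theorem D68454 : act 4 n31851 = n68454 := rfl
def n68455 : Q := act 6 n31851
theorem D68455 : act 6 n31851 = n68455 := rfl
def n68456 : Q := act 0 n31856
theorem D68456 : act 0 n31856 = n68456 := rfl
theorem F104652 : act 4 n68456 = n32091 := d18_3 F54306 D31856 D68456 F51028 F24758 F24782 (iv4 F10528) F54300 D28402
theorem F104653 : act 2 n32114 = n68456 := d15_3 (iv0 D68456) (iv0 F50983) (iv7 F51064)
theorem F104654 : act 1 n67884 = n68456 := d15_0 (iv0 D68456) F50154 (iv2 F103938)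
theorem F104655 : act 7 n68456 = n32089 := d15_2 (iv0 F103940) F104654 F51023
def n68457 : Q := act 5 n31856
theorem D68457 : act 5 n31856 = n68457 := rfl
theorem F104656 : act 7 n68457 = n67886 := d13_2 (iv7 F50154) D68457 (iv5 D67886)
theorem F104657 : act 0 n68457 = n59916 := d17_2 F50983 D68457 (iv5 D59916) F51112 F51109 F49874 (iv5 F50661) F50749 D32079
theorem F104658 : act 1 n68457 = n50530 := d17_6 (iv1 F45931) (iv5 F50886) (iv1 D26051) (iv5 F24632) D31856 D68457 (iv5 F79906) (iv0 F94279) (iv4 D59844)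
def n68458 : Q := act 6 n31856
theorem D68458 : act 6 n31856 = n68458 := rfl
theorem F104659 : act 4 n68458 = n31857 := d10_1 D68458 (iv6 D31857) D31856
def n68459 : Q := act 0 n31857
theorem D68459 : act 0 n31857 = n68459 := rfl
def n68460 : Q := act 1 n31857
theorem D68460 : act 1 n31857 = n68460 := rfl
def n68461 : Q := act 7 n31857
theorem D68461 : act 7 n31857 = n68461 := rfl
theorem F104660 : act 3 n68461 = n31860 := d8_1 D68461 (iv7 D31860) (iv3 F50155)
theorem F104661 : act 6 n68461 = n67890 := d14_1 D68461 (iv7 D67890) (iv6 D31559) (iv7 F24633) D31857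
def n68462 : Q := act 2 n31858
theorem D68462 : act 2 n31858 = n68462 := rfl
theorem F104662 : act 7 n31859 = n68462 := d15_2 (iv0 D31858) D31859 (iv2 D68462)
def n68463 : Q := act 3 n31858
theorem D68463 : act 3 n31858 = n68463 := rfl
def n68464 : Q := act 4 n31858
theorem D68464 : act 4 n31858 = n68464 := rfl
def n68465 : Q := act 5 n31858
theorem D68465 : act 5 n31858 = n68465 := rfl
def n68466 : Q := act 6 n31858
theorem D68466 : act 6 n31858 = n68466 := rfl
def n68467 : Q := act 7 n31858
theorem D68467 : act 7 n31858 = n68467 := rfl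
theorem F104663 : act 2 n68467 = n31859 := d4_1 D68467 F104662 (iv2 D68462)
def n68468 : Q := act 3 n31859
theorem D68468 : act 3 n31859 = n68468 := rfl
def n68469 : Q := act 4 n31859
theorem D68469 : act 4 n31859 = n68469 := rfl
def n68470 : Q := act 5 n31859
theorem D68470 : act 5 n31859 = n68470 := rfl
theorem F104664 : act 6 n54322 = n68470 := d21_5 (iv5 D5963) D5960 (iv5 F26441) D26259 D54322 (iv5 D68470) (iv1 D31859) (iv5 F26490) (iv6 D15548) (iv1 F26533)
def n68471 : Q := act 6 n31859
theorem D68471 : act 6 n31859 = n68471 := rfl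
def n68472 : Q := act 4 n31863
theorem D68472 : act 4 n31863 = n68472 := rfl
theorem F104665 : act 2 n68472 = n31864 := d1_1 D68472 (iv4 D31864) D31863
theorem F104666 : act 7 n68472 = n67898 := d11_2 (iv7 F50165) D68472 (iv4 D67898)
theorem F104667 : act 0 n68472 = n54109 := d18_2 (iv1 F50166) D68472 (iv4 D54109) (iv5 D26182) D26181 (iv0 F41550) F36979 (iv0 F54294) (iv5 F54342)
theorem F104668 : act 1 n68472 = n67910 := d18_6 (iv1 F50525) (iv4 F49900) (iv1 F55243) F55240 (iv5 F50164) D68472 F103995 (iv0 F52355) (iv5 D27011)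
def n68473 : Q := act 6 n31863
theorem D68473 : act 6 n31863 = n68473 := rfl
theorem F104669 : act 2 n68473 = n31865 := d3_1 D68473 (iv6 D31865) D31863
theorem F104670 : act 3 n68473 = n67885 := d7_1 D68473 (iv6 D67885) (iv3 F50163)
theorem F104671 : act 5 n68473 = n62844 := d12_1 D68473 (iv6 D62844) F47813 F45528 (iv5 F50164)
def n68474 : Q := act 1 n31864
theorem D68474 : act 1 n31864 = n68474 := rfl
theorem F104672 : act 1 n68474 = n67898 := d15_1 D68474 (iv7 F104666) F104665
theorem F104673 : act 7 n68474 = n54109 := d15_2 (iv0 F50326) D68474 F85415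
theorem F104674 : act 4 n68474 = n34995 := d18_7 D16984 (iv4 F55232) (iv1 F55235) F39801 (iv5 F24635) D31864 D68474 (iv0 D34995) (iv5 D16986)
theorem F104675 : act 2 n67910 = n68474 := d1_3 F104674 (iv2 F55446) (iv4 F103995)
def n68475 : Q := act 5 n31864
theorem D68475 : act 5 n31864 = n68475 := rfl
theorem F104676 : act 7 n68475 = n67911 := d13_2 (iv7 F50169) D68475 (iv5 D67911)
def n68476 : Q := act 6 n31864
theorem D68476 : act 6 n31864 = n68476 := rfl
theorem F104677 : act 4 n68476 = n31865 := d10_1 D68476 (iv6 D31865) D31864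
def n68477 : Q := act 0 n31865
theorem D68477 : act 0 n31865 = n68477 := rfl
def n68478 : Q := act 1 n31865
theorem D68478 : act 1 n31865 = n68478 := rfl
def n68479 : Q := act 7 n31865
theorem D68479 : act 7 n31865 = n68479 := rfl
theorem F104678 : act 3 n68479 = n31867 := d8_1 D68479 (iv7 D31867) (iv3 F50170)
theorem F104679 : act 5 n68479 = n62849 := d13_1 D68479 (iv7 D62849) (iv5 F50171)
theorem F104680 : act 6 n68479 = n67915 := d14_1 D68479 (iv7 D67915) (iv6 D31579) (iv7 F24636) D31865
def n68480 : Q := act 3 n31866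
theorem D68480 : act 3 n31866 = n68480 := rfl
theorem F104681 : act 7 n68480 = n67891 := d8_2 (iv7 F50173) D68480 (iv3 D67891)
def n68482 : Q := act 1 n31868
theorem D68482 : act 1 n31868 = n68482 := rfl
theorem F104683 : act 1 n68482 = n31873 := d15_1 D68482 (iv7 D31873) D31868
def n68483 : Q := act 3 n31868
theorem D68483 : act 3 n31868 = n68483 := rfl
theorem F104684 : act 7 n68483 = n31874 := d8_2 F50181 D68483 (iv3 D31874)
def n68484 : Q := act 4 n31868
theorem D68484 : act 4 n31868 = n68484 := rfl
theorem F104685 : act 2 n68484 = n31870 := d1_1 D68484 (iv4 D31870) D31868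
theorem F104686 : act 7 n68484 = n31875 := d11_2 F50181 D68484 (iv4 D31875)
def n68485 : Q := act 5 n31868
theorem D68485 : act 5 n31868 = n68485 := rfl
theorem F104687 : act 2 n68485 = n31871 := d2_1 D68485 (iv5 D31871) D31868
theorem F104688 : act 7 n68485 = n31876 := d13_2 F50181 D68485 (iv5 D31876)
def n68486 : Q := act 6 n31868
theorem D68486 : act 6 n31868 = n68486 := rfl
theorem F104689 : act 2 n68486 = n31872 := d3_1 D68486 (iv6 D31872) D31868
theorem F104690 : act 5 n68405 = n68486 := d2_0 F104689 F50182 (iv2 F104572)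
theorem F104691 : act 7 n68403 = n68486 := d15_2 (iv0 F77387) (iv0 F104569) F104689
def n68487 : Q := act 0 n31869
theorem D68487 : act 0 n31869 = n68487 := rfl
def n68488 : Q := act 1 n31869
theorem D68488 : act 1 n31869 = n68488 := rfl
def n68489 : Q := act 2 n31869
theorem D68489 : act 2 n31869 = n68489 := rfl
def n68490 : Q := act 4 n31869
theorem D68490 : act 4 n31869 = n68490 := rfl
def n68491 : Q := act 5 n31869
theorem D68491 : act 5 n31869 = n68491 := rfl
theorem F104692 : act 3 n68491 = n31871 := d6_1 D68491 (iv5 D31871) D31869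
def n68492 : Q := act 6 n31869
theorem D68492 : act 6 n31869 = n68492 := rfl
theorem F104693 : act 3 n68492 = n31872 := d7_1 D68492 (iv6 D31872) D31869
theorem F104694 : act 5 n68406 = n68492 := d6_0 F104693 F50182 D68406
def n68493 : Q := act 7 n31869
theorem D68493 : act 7 n31869 = n68493 := rfl
theorem F104695 : act 3 n68493 = n31873 := d8_1 D68493 (iv7 D31873) D31869
def n68494 : Q := act 0 n31870
theorem D68494 : act 0 n31870 = n68494 := rfl
def n68495 : Q := act 1 n31870
theorem D68495 : act 1 n31870 = n68495 := rfl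
def n68498 : Q := act 6 n31870
theorem D68498 : act 6 n31870 = n68498 := rfl
theorem F104697 : act 4 n68498 = n31872 := d10_1 D68498 (iv6 D31872) D31870
def n68499 : Q := act 7 n31870
theorem D68499 : act 7 n31870 = n68499 := rfl
theorem F104698 : act 2 n68499 = n31875 := d4_1 D68499 (iv7 F104686) F104685
theorem F104699 : act 4 n68499 = n31873 := d11_1 D68499 (iv7 D31873) D31870
theorem F104700 : act 1 n31875 = n68494 := d15_0 (iv0 D68494) D68499 F104698
def n68500 : Q := act 1 n31871
theorem D68500 : act 1 n31871 = n68500 := rfl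
theorem F104701 : act 1 n68500 = n31876 := d15_1 D68500 (iv7 F104688) F104687
theorem F104702 : act 7 n68500 = n55584 := d15_2 (iv0 F77156) D68500 F87904
theorem F104703 : act 5 n59984 = n68500 := d13_3 F104702 F87905 D59984
def n68501 : Q := act 4 n31871
theorem D68501 : act 4 n31871 = n68501 := rfl
def n68502 : Q := act 6 n31871
theorem D68502 : act 6 n31871 = n68502 := rfl
theorem F104704 : act 5 n68502 = n68408 := d12_1 D68502 (iv6 D68408) (iv5 F50182) (iv6 D31872) D31871
def n68503 : Q := act 7 n31871
theorem D68503 : act 7 n31871 = n68503 := rfl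
theorem F104705 : act 2 n68503 = n31876 := d4_1 D68503 (iv7 F104688) F104687
theorem F104706 : act 5 n68503 = n31873 := d13_1 D68503 (iv7 D31873) D31871
def n68504 : Q := act 7 n31872
theorem D68504 : act 7 n31872 = n68504 := rfl
theorem F104708 : act 5 n68504 = n68400 := d13_1 D68504 (iv7 F104568) (iv5 F50182)
def n68505 : Q := act 6 n31873
theorem D68505 : act 6 n31873 = n68505 := rfl
theorem F104709 : act 2 n68505 = n31877 := d3_1 D68505 (iv6 D31877) (iv2 F50183)
def n68506 : Q := act 0 n31874
theorem D68506 : act 0 n31874 = n68506 := rfl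
def n68507 : Q := act 1 n31874
theorem D68507 : act 1 n31874 = n68507 := rfl
def n68508 : Q := act 2 n31874
theorem D68508 : act 2 n31874 = n68508 := rfl
def n68509 : Q := act 4 n31874
theorem D68509 : act 4 n31874 = n68509 := rfl
def n68510 : Q := act 5 n31874
theorem D68510 : act 5 n31874 = n68510 := rfl
theorem F104710 : act 3 n68510 = n31876 := d6_1 D68510 (iv5 D31876) D31874
def n68511 : Q := act 6 n31874
theorem D68511 : act 6 n31874 = n68511 := rfl
theorem F104711 : act 3 n68511 = n31877 := d7_1 D68511 (iv6 D31877) D31874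
def n68512 : Q := act 3 n31875
theorem D68512 : act 3 n31875 = n68512 := rfl
def n68514 : Q := act 6 n31875
theorem D68514 : act 6 n31875 = n68514 := rfl
theorem F104712 : act 4 n68514 = n31877 := d10_1 D68514 (iv6 D31877) D31875
def n68515 : Q := act 4 n31876
theorem D68515 : act 4 n31876 = n68515 := rfl
def n68516 : Q := act 0 n31877
theorem D68516 : act 0 n31877 = n68516 := rfl
def n68517 : Q := act 1 n31877
theorem D68517 : act 1 n31877 = n68517 := rfl
def n68518 : Q := act 5 n31877
theorem D68518 : act 5 n31877 = n68518 := rfl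
theorem F104713 : act 6 n68518 = n58552 := d12_2 D31877 D68518 (iv5 F92492) F84974 (iv5 D31876)
theorem F104714 : act 0 n59988 = n68518 := d21_1 D59988 (iv5 D68518) (iv6 D31877) (iv1 D15002) (iv6 D7137) (iv5 D3285) F5183 (iv5 F10530) D13578 D28485
theorem F104715 : act 0 n68518 = n59993 := d21_10 (iv5 D59993) (iv1 D28486) D28487 F46007 (iv1 F25976) D34022 F53357 D53886 F92492 (iv6 F104713)
def n68519 : Q := act 7 n31877
theorem D68519 : act 7 n31877 = n68519 := rfl
theorem F104716 : act 6 n68519 = n68403 := d14_1 D68519 F104691 (iv6 D68486) (iv7 F50181) D31877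
theorem F104717 : act 0 n68519 = n67920 := d21_4 D14975 D31822 D68403 (iv6 F104716) (iv6 D67920) D67919 F104567 (iv5 D68398) (iv6 D31821) (iv1 D14974)
theorem F104718 : act 1 n68505 = n67920 := d15_0 (iv0 F104717) (iv7 D68519) (iv2 F104709)
def n68520 : Q := act 2 n31878
theorem D68520 : act 2 n31878 = n68520 := rfl
theorem F104719 : act 7 n31879 = n68520 := d15_2 (iv0 D31878) D31879 (iv2 D68520)
def n68521 : Q := act 3 n31878
theorem D68521 : act 3 n31878 = n68521 := rfl
def n68522 : Q := act 4 n31878
theorem D68522 : act 4 n31878 = n68522 := rfl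
def n68523 : Q := act 6 n31878
theorem D68523 : act 6 n31878 = n68523 := rfl
theorem F104720 : act 5 n68523 = n61595 := d21_6 F26681 (iv1 D7139) D7140 (iv6 F24639) D31878 D68523 (iv1 D61595) F46835 (iv6 D14969) D14966
def n68524 : Q := act 7 n31878
theorem D68524 : act 7 n31878 = n68524 := rfl
theorem F104721 : act 2 n68524 = n31879 := d4_1 D68524 F104719 (iv2 D68520)
def n68525 : Q := act 3 n31879
theorem D68525 : act 3 n31879 = n68525 := rfl
def n68526 : Q := act 4 n31879
theorem D68526 : act 4 n31879 = n68526 := rfl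
def n68527 : Q := act 6 n31879
theorem D68527 : act 6 n31879 = n68527 := rfl
def n68528 : Q := act 0 n31880
theorem D68528 : act 0 n31880 = n68528 := rfl
def n68529 : Q := act 1 n31880
theorem D68529 : act 1 n31880 = n68529 := rfl
def n68530 : Q := act 3 n31880
theorem D68530 : act 3 n31880 = n68530 := rfl
theorem F104722 : act 6 n68530 = n31889 := d7_2 (iv6 F50184) D68530 (iv3 D31889)
def n68531 : Q := act 5 n31880
theorem D68531 : act 5 n31880 = n68531 := rfl
def n68532 : Q := act 7 n31880
theorem D68532 : act 7 n31880 = n68532 := rfl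
theorem F104723 : act 4 n68532 = n31881 := d11_1 D68532 (iv7 D31881) D31880
def n68533 : Q := act 6 n31881
theorem D68533 : act 6 n31881 = n68533 := rfl
theorem F104724 : act 2 n68533 = n31899 := d3_1 D68533 (iv6 F85178) F85175
theorem F104725 : act 7 n68533 = n31890 := d14_2 D31881 D68533 (iv6 D31890) (iv7 D15011) (iv6 F24639)
theorem F104726 : act 1 n31897 = n68533 := d15_1 D31897 F104725 F50198
theorem F104727 : act 1 n68533 = n31896 := d15_0 (iv0 D31896) D31899 (iv2 F104724)
def n68534 : Q := act 6 n31885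
theorem D68534 : act 6 n31885 = n68534 := rfl
theorem F104728 : act 3 n68534 = n31887 := d7_1 D68534 (iv6 D31887) D31885
theorem F104729 : act 5 n68534 = n49867 := d12_1 D68534 (iv6 D49867) F38102 (iv6 F27828) (iv5 F50186)
def n68535 : Q := act 3 n31886
theorem D68535 : act 3 n31886 = n68535 := rfl
theorem F104730 : act 5 n68535 = n32404 := d6_2 (iv5 F50190) D68535 (iv3 D32404)
theorem F104731 : act 7 n68535 = n34976 := d8_2 (iv7 F50189) D68535 (iv3 D34976)
def n68536 : Q := act 6 n31886
theorem D68536 : act 6 n31886 = n68536 := rfl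
theorem F104732 : act 2 n68536 = n68329 := d3_1 D68536 (iv6 D68329) (iv2 F50188)
theorem F104733 : act 4 n68536 = n31887 := d10_1 D68536 (iv6 D31887) D31886
def n68537 : Q := act 0 n31887
theorem D68537 : act 0 n31887 = n68537 := rfl
def n68538 : Q := act 1 n31887
theorem D68538 : act 1 n31887 = n68538 := rfl
theorem F104734 : act 1 n68538 = n68332 := d15_1 D68538 (iv7 D68332) (iv2 F50192)
def n68539 : Q := act 7 n31887
theorem D68539 : act 7 n31887 = n68539 := rfl
theorem F104735 : act 2 n68539 = n68332 := d4_1 D68539 (iv7 D68332) (iv2 F50192)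
theorem F104736 : act 5 n68539 = n49879 := d13_1 D68539 F78871 (iv5 F50193)
theorem F104737 : act 6 n68539 = n32809 := d14_1 D68539 (iv7 D32809) F25202 (iv7 F24641) D31887
theorem F104738 : act 1 n68332 = n68537 := d15_0 (iv0 D68537) D68539 F104735
theorem F104739 : act 1 n68331 = n68539 := d15_1 D68331 (iv7 D68539) F50192
theorem F104740 : act 1 n68539 = n68330 := d15_0 (iv0 D68330) D68332 (iv2 F104735)
def n68540 : Q := act 3 n31888
theorem D68540 : act 3 n31888 = n68540 := rfl
theorem F104741 : act 5 n68540 = n32376 := d6_2 (iv5 F50196) D68540 (iv3 D32376)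
theorem F104742 : act 7 n68540 = n34409 := d8_2 (iv7 F50195) D68540 (iv3 D34409)
def n68541 : Q := act 6 n31888
theorem D68541 : act 6 n31888 = n68541 := rfl
theorem F104743 : act 4 n68541 = n32002 := d10_1 D68541 (iv6 D32002) (iv4 F50197)
theorem F104744 : act 5 n68541 = n58480 := d12_1 D68541 (iv6 D58480) F44935 F27564 (iv5 F50196)
theorem F104745 : act 7 n68541 = n39493 := d14_2 (iv7 F50195) D68541 (iv6 D39493) F43098 F43096
def n68542 : Q := act 0 n31889
theorem D68542 : act 0 n31889 = n68542 := rfl
def n68543 : Q := act 1 n31889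
theorem D68543 : act 1 n31889 = n68543 := rfl
def n68544 : Q := act 2 n31889
theorem D68544 : act 2 n31889 = n68544 := rfl
def n68545 : Q := act 0 n31890
theorem D68545 : act 0 n31890 = n68545 := rfl
theorem F104746 : act 1 n31899 = n68545 := d15_0 (iv0 D68545) (iv7 F104725) F104724
def n68546 : Q := act 1 n31890
theorem D68546 : act 1 n31890 = n68546 := rfl
theorem F104747 : act 1 n68546 = n31899 := d15_1 D68546 (iv7 D31899) (iv2 F50198)
def n68547 : Q := act 4 n31891
theorem D68547 : act 4 n31891 = n68547 := rfl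
def n68548 : Q := act 6 n31891
theorem D68548 : act 6 n31891 = n68548 := rfl
theorem F104748 : act 5 n68548 = n32988 := d12_1 D68548 (iv6 D32988) (iv5 D15883) (iv6 F24656) D31891
def n68549 : Q := act 0 n31892
theorem D68549 : act 0 n31892 = n68549 := rfl
def n68550 : Q := act 1 n31892
theorem D68550 : act 1 n31892 = n68550 := rfl
def n68551 : Q := act 7 n31892
theorem D68551 : act 7 n31892 = n68551 := rfl
theorem F104749 : act 5 n68551 = n32996 := d13_1 D68551 (iv7 D32996) (iv5 F50199)
def n68552 : Q := act 6 n31893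
theorem D68552 : act 6 n31893 = n68552 := rfl
theorem F104750 : act 3 n68552 = n31894 := d7_1 D68552 (iv6 D31894) (iv3 F50200)
theorem F104751 : act 5 n68552 = n33381 := d12_1 D68552 (iv6 D33381) (iv5 D16117) (iv6 F26811) D31893
def n68553 : Q := act 1 n31894
theorem D68553 : act 1 n31894 = n68553 := rfl
theorem F104752 : act 7 n68553 = n55546 := d15_2 (iv0 F54943) D68553 F87841
def n68554 : Q := act 7 n31894
theorem D68554 : act 7 n31894 = n68554 := rfl
theorem F104753 : act 5 n68554 = n35979 := d13_1 D68554 (iv7 D35979) (iv5 F50201)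
def n68555 : Q := act 0 n31895
theorem D68555 : act 0 n31895 = n68555 := rfl
def n68556 : Q := act 1 n31895
theorem D68556 : act 1 n31895 = n68556 := rfl
def n68557 : Q := act 5 n31895
theorem D68557 : act 5 n31895 = n68557 := rfl
def n68558 : Q := act 7 n31895
theorem D68558 : act 7 n31895 = n68558 := rfl
theorem F104754 : act 4 n68558 = n31899 := d11_1 D68558 (iv7 D31899) (iv4 F50202)
def n68559 : Q := act 2 n31896
theorem D68559 : act 2 n31896 = n68559 := rfl
theorem F104755 : act 7 n31897 = n68559 := d15_2 (iv0 D31896) D31897 (iv2 D68559)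
def n68560 : Q := act 3 n31896
theorem D68560 : act 3 n31896 = n68560 := rfl
def n68561 : Q := act 4 n31896
theorem D68561 : act 4 n31896 = n68561 := rfl
def n68562 : Q := act 5 n31896
theorem D68562 : act 5 n31896 = n68562 := rfl
def n68563 : Q := act 6 n31896
theorem D68563 : act 6 n31896 = n68563 := rfl
theorem F104756 : act 5 n68563 = n60437 := d21_6 F26893 F26526 D7156 D15044 D31896 D68563 (iv1 D60437) (iv5 F54596) (iv6 D34411) F27323
def n68564 : Q := act 7 n31896
theorem D68564 : act 7 n31896 = n68564 := rfl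
theorem F104757 : act 2 n68564 = n31897 := d4_1 D68564 F104755 (iv2 D68559)
def n68565 : Q := act 3 n31897
theorem D68565 : act 3 n31897 = n68565 := rfl
def n68566 : Q := act 4 n31897
theorem D68566 : act 4 n31897 = n68566 := rfl
def n68567 : Q := act 5 n31897
theorem D68567 : act 5 n31897 = n68567 := rfl
theorem F104758 : act 6 n32616 = n68567 := d21_5 (iv5 D7958) F10685 (iv5 F11590) D15440 D32616 (iv5 D68567) (iv1 D31897) D31898 F50204 F26551
def n68568 : Q := act 6 n31897
theorem D68568 : act 6 n31897 = n68568 := rfl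
def n68569 : Q := act 1 n31898
theorem D68569 : act 1 n31898 = n68569 := rfl
theorem F104759 : act 7 n68569 = n36373 := d15_2 (iv0 F51608) D68569 F57119
def n68570 : Q := act 4 n31898
theorem D68570 : act 4 n31898 = n68570 := rfl
theorem F104760 : act 2 n68570 = n45222 := d1_1 D68570 F71291 F51626
theorem F104761 : act 6 n68570 = n31900 := d10_2 (iv6 F50204) D68570 (iv4 D31900)
def n68571 : Q := act 7 n31898
theorem D68571 : act 7 n31898 = n68571 := rfl
theorem F104762 : act 3 n68571 = n31914 := d8_1 D68571 (iv7 D31914) (iv3 F50203)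
theorem F104763 : act 5 n68571 = n31899 := d13_1 D68571 (iv7 D31899) D31898
theorem F104764 : act 6 n68571 = n31914 := d14_1 D68571 (iv7 D31914) F24682 (iv7 F26554) (iv6 F50204)
theorem F104765 : act 0 n36373 = n68571 := d21_4 F24967 (iv1 F30467) D17559 D36373 F104764 F50216 (iv1 F41404) D54026 F85231 (iv1 F41769)
def n68572 : Q := act 0 n31902
theorem D68572 : act 0 n31902 = n68572 := rfl
def n68573 : Q := act 1 n31902
theorem D68573 : act 1 n31902 = n68573 := rfl
def n68574 : Q := act 2 n31902
theorem D68574 : act 2 n31902 = n68574 := rfl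
def n68575 : Q := act 4 n31902
theorem D68575 : act 4 n31902 = n68575 := rfl
def n68576 : Q := act 5 n31902
theorem D68576 : act 5 n31902 = n68576 := rfl
def n68577 : Q := act 6 n31902
theorem D68577 : act 6 n31902 = n68577 := rfl
theorem F104767 : act 3 n68577 = n31905 := d7_1 D68577 (iv6 D31905) D31902
theorem F104768 : act 5 n68073 = n68577 := d6_0 F104767 F50212 D68073
def n68578 : Q := act 0 n31903
theorem D68578 : act 0 n31903 = n68578 := rfl
theorem F104769 : act 1 n31908 = n68578 := d15_0 (iv0 D68578) (iv7 F85229) F85228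
def n68579 : Q := act 1 n31903
theorem D68579 : act 1 n31903 = n68579 := rfl
theorem F104770 : act 1 n68579 = n31908 := d15_1 D68579 (iv7 F85222) F85221
def n68580 : Q := act 3 n31903
theorem D68580 : act 3 n31903 = n68580 := rfl
def n68581 : Q := act 5 n31903
theorem D68581 : act 5 n31903 = n68581 := rfl
def n68582 : Q := act 6 n31903
theorem D68582 : act 6 n31903 = n68582 := rfl
theorem F104771 : act 4 n68582 = n31905 := d10_1 D68582 (iv6 D31905) D31903
def n68583 : Q := act 0 n31904
theorem D68583 : act 0 n31904 = n68583 := rfl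
theorem F104772 : act 5 n68583 = n67342 := d17_3 D15049 D31904 D68583 F103216 D67347 (iv0 F103218) (iv5 D66863) (iv0 D31154) F24389
theorem E9472 : n67319 = n13578 := (c21_5 D31904 D68583 F104772 (iv6 D67342) (iv1 F103202) (iv6 D13578) F10530 (iv1 F5181) D3300 D7158 D15049)
theorem E9473 : n31301 = n28485 := (((D28485).symm.trans (sb E9472 (iv1 D67319)))).symm
theorem E9474 : n31306 = n28486 := (((D28486).symm.trans (sb E9472 F103202))).symm
theorem E9476 : n67308 = n59985 := (((D59985).symm.trans (sb E9473 (iv2 F103194)))).symm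
theorem E9478 : n59987 = n14760 := ((D59987).symm.trans (sb E9473 (iv4 D31301)))
theorem E9480 : n67322 = n59989 := (((D59989).symm.trans (sb E9473 D67322))).symm
theorem E9483 : n59992 = n14761 := ((D59992).symm.trans (sb E9474 (iv4 D31306)))
theorem E9485 : n67342 = n59994 := (((D59994).symm.trans (sb E9474 D67342))).symm
theorem F104773 : act 4 n59985 = n31299 := (sb E9476 (iv4 D67308))
theorem F104774 : act 4 n14760 = n28485 := (sb E9478 (iv4 D59987))
theorem F104775 : act 4 n59989 = n31303 := (sb E9480 F103203)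
theorem F104777 : act 4 n14761 = n28486 := (sb E9483 (iv4 D59992))
theorem F104778 : act 4 n59994 = n31308 := (sb E9485 F103216)
theorem F104779 : act 5 n59994 = n68583 := (sb E9485 (iv5 F104772))
theorem F104780 : act 1 n31909 = n68583 := d15_0 (iv0 D68583) (iv7 F85232) F85230
theorem E9486 : n68384 = n59994 := (c21_11 F104779 (iv1 F104780) (iv5 D31909) (iv6 F52090) (iv1 D28679) D28681 (iv5 F78870) F94913 (iv5 D31815) D31816 D68384)
theorem F104781 : act 1 n59994 = n31816 := (sb E9486 (iv0 D68384))
theorem E9487 : n65367 = n49881 := ((c18_7 (iv1 F41118) F104777 (iv1 D28486) (iv4 F37157) (iv5 F38225) F38224 D49881 (iv4 D65367) F53870 F53868)).symm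
theorem F104782 : act 4 n49881 = n30656 := (sb E9487 (iv4 D65367))
theorem F104783 : act 5 n67326 = n68537 := d17_5 (iv1 D30656) F24171 D14760 D31302 D67326 (iv0 D68537) F50193 D49881 F104782
theorem F104784 : act 4 n67920 = n65368 := d17_4 (iv1 F77162) F77159 (iv1 F94466) (iv5 F104000) (iv5 D65368) F53870 F53868 F41119 F104774
theorem E9488 : n65362 = n49880 := ((c18_7 D14760 F104774 (iv1 F77162) F77158 (iv5 F78711) (iv4 F79226) F79229 (iv4 D65362) (iv0 D30655) F24171)).symm
theorem F104785 : act 4 n49880 = n30655 := (sb E9488 (iv4 D65362))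
theorem F104786 : act 5 n67343 = n68538 := d17_5 (iv1 F53871) F53868 (iv1 F41118) D31307 D67343 F104734 F104510 F79229 F104785
theorem F104787 : act 6 n62814 = n67343 := d21_5 F18815 F10942 D14116 (iv6 F47770) D62814 F104786 (iv1 D68538) F50193 (iv6 D24322) (iv1 F18813)
theorem F104788 : act 4 n67344 = n62814 := d10_3 F104787 (iv4 D67343) D67344
theorem E9489 : n67918 = n65572 := ((c10_3 D67920 F104784 (iv6 F101291) (iv4 D67918))).symm
theorem F104789 : act 4 n65572 = n31580 := (sb E9489 (iv4 D67918))
def n68584 : Q := act 1 n31904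
theorem D68584 : act 1 n31904 = n68584 := rfl
theorem F104790 : act 1 n68584 = n31909 := d15_1 D68584 (iv7 F85224) F85223
theorem F104791 : act 6 n68584 = n32609 := d21_5 F57051 (iv1 F51922) (iv5 D32539) F50214 (iv1 F104790) (iv5 F96345) F104518 (iv5 F57063) (iv6 D36328) D36325
theorem F104792 : act 5 n68385 = n68584 := d12_5 F104791 (iv5 F96345) (iv6 D61759) D61758 F104562
def n68585 : Q := act 4 n31904
theorem D68585 : act 4 n31904 = n68585 := rfl
def n68586 : Q := act 6 n31904
theorem D68586 : act 6 n31904 = n68586 := rfl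
theorem F104793 : act 5 n68586 = n68075 := d12_1 D68586 (iv6 D68075) (iv5 F50212) (iv6 D31905) D31904
def n68587 : Q := act 0 n31905
theorem D68587 : act 0 n31905 = n68587 := rfl
theorem F104795 : act 1 n68072 = n68587 := d15_0 (iv0 D68587) (iv7 F94900) (iv2 F104189)
def n68588 : Q := act 1 n31905
theorem D68588 : act 1 n31905 = n68588 := rfl
theorem F104796 : act 1 n68588 = n68072 := d15_1 D68588 F104191 F85225
def n68589 : Q := act 0 n31907
theorem D68589 : act 0 n31907 = n68589 := rfl
def n68590 : Q := act 1 n31907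
theorem D68590 : act 1 n31907 = n68590 := rfl
def n68591 : Q := act 2 n31907
theorem D68591 : act 2 n31907 = n68591 := rfl
def n68592 : Q := act 4 n31907
theorem D68592 : act 4 n31907 = n68592 := rfl
def n68593 : Q := act 5 n31907
theorem D68593 : act 5 n31907 = n68593 := rfl
theorem F104797 : act 3 n68593 = n31909 := d6_1 D68593 (iv5 D31909) D31907
theorem F104798 : act 6 n32537 = n68593 := d7_0 F104797 (iv6 F50214) D32537
def n68594 : Q := act 3 n31908
theorem D68594 : act 3 n31908 = n68594 := rfl
def n68595 : Q := act 5 n31908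
theorem D68595 : act 5 n31908 = n68595 := rfl
def n68596 : Q := act 4 n31909
theorem D68596 : act 4 n31909 = n68596 := rfl
theorem F104799 : act 6 n68596 = n32538 := d10_2 F50214 D68596 (iv4 D32538)
def n68597 : Q := act 2 n31911
theorem D68597 : act 2 n31911 = n68597 := rfl
theorem F104800 : act 7 n31912 = n68597 := d15_2 (iv0 D31911) D31912 (iv2 D68597)
def n68598 : Q := act 3 n31911
theorem D68598 : act 3 n31911 = n68598 := rfl
def n68599 : Q := act 4 n31911
theorem D68599 : act 4 n31911 = n68599 := rfl
def n68600 : Q := act 5 n31911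
theorem D68600 : act 5 n31911 = n68600 := rfl
def n68601 : Q := act 6 n31911
theorem D68601 : act 6 n31911 = n68601 := rfl
theorem F104801 : act 5 n68601 = n54319 := d21_6 F20791 F12706 D7161 (iv6 F24682) D31911 D68601 (iv1 D54319) F41696 (iv6 D15440) (iv1 F20789)
def n68602 : Q := act 7 n31911
theorem D68602 : act 7 n31911 = n68602 := rfl
theorem F104802 : act 2 n68602 = n31912 := d4_1 D68602 F104800 (iv2 D68597)
def n68603 : Q := act 3 n31912
theorem D68603 : act 3 n31912 = n68603 := rfl
def n68604 : Q := act 4 n31912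
theorem D68604 : act 4 n31912 = n68604 := rfl
def n68605 : Q := act 6 n31912
theorem D68605 : act 6 n31912 = n68605 := rfl
def n68606 : Q := act 0 n31913
theorem D68606 : act 0 n31913 = n68606 := rfl
def n68607 : Q := act 1 n31913
theorem D68607 : act 1 n31913 = n68607 := rfl
def n68608 : Q := act 3 n31913
theorem D68608 : act 3 n31913 = n68608 := rfl
theorem F104803 : act 2 n68608 = n45433 := d0_1 D68608 F71693 F34138 (iv3 F52029) F52028
theorem F104804 : act 6 n68608 = n31919 := d7_2 (iv6 F50215) D68608 (iv3 D31919)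
def n68609 : Q := act 5 n31913
theorem D68609 : act 5 n31913 = n68609 := rfl
def n68610 : Q := act 7 n31913
theorem D68610 : act 7 n31913 = n68610 := rfl
theorem F104805 : act 4 n68610 = n31914 := d11_1 D68610 (iv7 D31914) D31913
def n68611 : Q := act 1 n31923
theorem D68611 : act 1 n31923 = n68611 := rfl
theorem F104806 : act 1 n68611 = n32107 := d15_1 D68611 F51048 (iv2 F50239)
theorem F104807 : act 7 n68611 = n32162 := d15_2 F51050 D68611 (iv2 D32162)
theorem F104808 : act 5 n68611 = n34978 := d17_7 (iv1 F20561) D14879 (iv1 F41292) F50429 (iv4 F24693) D31923 D68611 (iv0 D34978) F50411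
theorem F104809 : act 3 n32150 = n68611 := d20_3 D13569 D28459 F51112 (iv1 D68611) F50240 D31930 (iv1 F94387) (iv4 D59906) (iv3 D28455) (iv1 D13568)
theorem F104810 : act 2 n68611 = n32136 := d0_1 F104809 (iv3 D32136) F50004 D15177 D32150
theorem F104811 : act 4 n67966 = n68611 := d20_2 D31636 (iv1 F104080) (iv3 F104809) (iv1 F51111) F50716 (iv4 F84964) (iv1 F84965) (iv4 D31797) (iv3 F41287) (iv1 F41289)
def n68612 : Q := act 6 n31923
theorem D68612 : act 6 n31923 = n68612 := rfl
theorem F104812 : act 2 n68612 = n68409 := d3_1 D68612 (iv6 D68409) (iv2 F50239)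
theorem F104813 : act 3 n68612 = n31931 := d7_1 D68612 (iv6 D31931) (iv3 F50240)
def n68613 : Q := act 5 n31924
theorem D68613 : act 5 n31924 = n68613 := rfl
theorem F104814 : act 2 n68613 = n33514 := d2_1 D68613 (iv5 D33514) F50998
theorem F104815 : act 3 n68613 = n31932 := d6_1 D68613 (iv5 D31932) (iv3 F50243)
theorem F104816 : act 7 n68613 = n32998 := d13_2 (iv7 F50245) D68613 (iv5 D32998)
def n68614 : Q := act 5 n31925
theorem D68614 : act 5 n31925 = n68614 := rfl
def n68615 : Q := act 0 n31926
theorem D68615 : act 0 n31926 = n68615 := rfl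
theorem F104817 : act 5 n68615 = n59810 := d17_3 (iv1 D31925) D31926 D68615 F94186 F55361 (iv0 F84944) F84942 F77040 F77039
theorem F104818 : act 1 n31935 = n68615 := d15_0 (iv0 D68615) (iv7 F85295) F85294
def n68616 : Q := act 1 n31926
theorem D68616 : act 1 n31926 = n68616 := rfl
theorem F104819 : act 1 n68616 = n31935 := d15_1 D68616 (iv7 F85309) F85308
theorem F104820 : act 5 n68616 = n59811 := d17_7 (iv1 D13534) (iv5 F11532) F50537 (iv5 D15062) D15061 D31926 D68616 F94192 (iv4 D28370)
def n68617 : Q := act 4 n31926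
theorem D68617 : act 4 n31926 = n68617 := rfl
theorem F104821 : act 1 n68617 = n52584 := d18_6 (iv1 D15073) (iv4 D7169) D7166 D15061 D31926 D68617 (iv4 D52584) F50545 (iv5 D31946)
def n68618 : Q := act 6 n31926
theorem D68618 : act 6 n31926 = n68618 := rfl
def n68619 : Q := act 5 n31927
theorem D68619 : act 5 n31927 = n68619 := rfl
theorem F104822 : act 3 n68619 = n33241 := d6_1 D68619 (iv5 D33241) (iv3 F50250)
theorem F104823 : act 7 n68619 = n33005 := d13_2 (iv7 F50249) D68619 (iv5 D33005)
def n68620 : Q := act 1 n31930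
theorem D68620 : act 1 n31930 = n68620 := rfl
theorem F104824 : act 1 n68620 = n31936 := d15_1 D68620 (iv7 F85311) F85310
def n68621 : Q := act 3 n31930
theorem D68621 : act 3 n31930 = n68621 := rfl
def n68622 : Q := act 5 n31930
theorem D68622 : act 5 n31930 = n68622 := rfl
def n68623 : Q := act 6 n31930
theorem D68623 : act 6 n31930 = n68623 := rfl
theorem F104825 : act 4 n68623 = n31931 := d10_1 D68623 (iv6 D31931) D31930
def n68624 : Q := act 0 n31931
theorem D68624 : act 0 n31931 = n68624 := rfl
def n68625 : Q := act 1 n31931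
theorem D68625 : act 1 n31931 = n68625 := rfl
def n68626 : Q := act 5 n31931
theorem D68626 : act 5 n31931 = n68626 := rfl
theorem F104826 : act 6 n68626 = n31932 := d12_2 D31931 D68626 (iv5 D31932) (iv6 D15063) D15062
def n68627 : Q := act 7 n31931
theorem D68627 : act 7 n31931 = n68627 := rfl
def n68628 : Q := act 4 n31932
theorem D68628 : act 4 n31932 = n68628 := rfl
theorem F104827 : act 7 n68628 = n33016 := d11_2 (iv7 F50258) D68628 (iv4 D33016)
def n68629 : Q := act 5 n31933
theorem D68629 : act 5 n31933 = n68629 := rfl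
def n68630 : Q := act 4 n31934
theorem D68630 : act 4 n31934 = n68630 := rfl
def n68631 : Q := act 6 n31934
theorem D68631 : act 6 n31934 = n68631 := rfl
theorem F104828 : act 3 n68631 = n31937 := d7_1 D68631 (iv6 D31937) (iv3 F50260)
theorem F104829 : act 5 n68631 = n33019 := d12_1 D68631 (iv6 D33019) (iv5 D15917) (iv6 F41339) D31934
def n68632 : Q := act 4 n31935
theorem D68632 : act 4 n31935 = n68632 := rfl
theorem F104830 : act 0 n68632 = n52584 := d18_2 (iv1 F104818) D68632 (iv4 D52584) F40357 F22679 D13534 D28370 F94188 (iv5 F104817)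
def n68633 : Q := act 6 n31935
theorem D68633 : act 6 n31935 = n68633 := rfl
theorem F104831 : act 5 n68633 = n33021 := d12_1 D68633 (iv6 D33021) (iv5 D15919) (iv6 F41340) D31935
def n68634 : Q := act 3 n31936
theorem D68634 : act 3 n31936 = n68634 := rfl
def n68635 : Q := act 5 n31936
theorem D68635 : act 5 n31936 = n68635 := rfl
def n68636 : Q := act 6 n31936
theorem D68636 : act 6 n31936 = n68636 := rfl
theorem F104832 : act 4 n68636 = n31937 := d10_1 D68636 (iv6 D31937) D31936
def n68637 : Q := act 0 n31937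
theorem D68637 : act 0 n31937 = n68637 := rfl
def n68638 : Q := act 1 n31937
theorem D68638 : act 1 n31937 = n68638 := rfl
def n68639 : Q := act 7 n31937
theorem D68639 : act 7 n31937 = n68639 := rfl
theorem F104833 : act 5 n68639 = n33027 := d13_1 D68639 (iv7 D33027) (iv5 F50261)
def n68640 : Q := act 5 n31938
theorem D68640 : act 5 n31938 = n68640 := rfl
theorem F104834 : act 2 n68640 = n48690 := d2_1 D68640 (iv5 D48690) (iv2 F50262)
theorem F104835 : act 3 n68640 = n31939 := d6_1 D68640 (iv5 D31939) D31938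
theorem F104836 : act 7 n68640 = n42373 := d13_2 (iv7 F50263) D68640 (iv5 D42373)
theorem F104837 : act 0 n68640 = n52536 := d21_1 D68640 F82955 (iv6 F82957) F55117 (iv6 D23963) (iv5 F20210) (iv1 F41850) (iv5 D25633) (iv6 F55130) (iv1 F50265)
theorem F104838 : act 1 n68640 = n52535 := d15_0 (iv0 D52535) (iv7 F76624) (iv2 F104834)
def n68641 : Q := act 4 n31939
theorem D68641 : act 4 n31939 = n68641 := rfl
theorem F104839 : act 2 n68641 = n31949 := d1_1 D68641 (iv4 D31949) (iv2 F50266)
def n68642 : Q := act 6 n31939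
theorem D68642 : act 6 n31939 = n68642 := rfl
theorem F104840 : act 2 n68642 = n31950 := d3_1 D68642 (iv6 D31950) (iv2 F50266)
def n68643 : Q := act 3 n31940
theorem D68643 : act 3 n31940 = n68643 := rfl
def n68644 : Q := act 5 n31940
theorem D68644 : act 5 n31940 = n68644 := rfl
theorem F104841 : act 2 n68644 = n31965 := d2_1 D68644 (iv5 D31965) (iv2 F50267)
def n68645 : Q := act 6 n31940
theorem D68645 : act 6 n31940 = n68645 := rfl
theorem F104842 : act 2 n68645 = n31966 := d3_1 D68645 (iv6 D31966) (iv2 F50267)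
theorem F104843 : act 4 n68645 = n31941 := d10_1 D68645 (iv6 D31941) D31940
def n68646 : Q := act 0 n31941
theorem D68646 : act 0 n31941 = n68646 := rfl
def n68647 : Q := act 1 n31941
theorem D68647 : act 1 n31941 = n68647 := rfl
theorem F104844 : act 1 n68647 = n31970 := d15_1 D68647 (iv7 D31970) (iv2 F50268)
def n68648 : Q := act 7 n31941
theorem D68648 : act 7 n31941 = n68648 := rfl
theorem F104845 : act 2 n68648 = n31970 := d4_1 D68648 (iv7 D31970) (iv2 F50268)
theorem F104846 : act 1 n31970 = n68646 := d15_0 (iv0 D68646) D68648 F104845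
theorem F104847 : act 1 n31968 = n68648 := d15_1 D31968 (iv7 D68648) F50268
theorem F104848 : act 1 n68648 = n31967 := d15_0 (iv0 D31967) D31970 (iv2 F104845)
def n68649 : Q := act 5 n31942
theorem D68649 : act 5 n31942 = n68649 := rfl
theorem F104849 : act 2 n68649 = n53877 := d2_1 D68649 F84942 (iv2 F50269)
theorem F104850 : act 3 n68649 = n59854 := d6_1 D68649 (iv5 D59854) (iv3 F50270)
theorem F104851 : act 7 n68649 = n59869 := d13_2 (iv7 F50271) D68649 (iv5 D59869)
theorem F104852 : act 1 n68649 = n34968 := d17_6 F27742 (iv5 F40357) F50281 (iv5 D31943) D31942 D68649 (iv5 D34968) (iv0 D16970) (iv4 F27741)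
theorem F104853 : act 4 n68649 = n32218 := d18_5 (iv1 D7167) D7169 D15072 D31942 D68649 (iv0 D32218) (iv4 D15202) (iv0 F50538) (iv5 D15067)
theorem F104854 : act 0 n68649 = n34973 := d21_1 D68649 (iv5 D34973) (iv6 F54350) (iv1 D28164) F22374 (iv5 F24635) (iv1 F50926) (iv5 D23841) D23842 F50927
def n68650 : Q := act 0 n31943
theorem D68650 : act 0 n31943 = n68650 := rfl
theorem F104855 : act 5 n68650 = n34892 := d17_3 D15072 D31943 D68650 (iv4 F55198) (iv5 F41631) F50536 (iv5 D15062) (iv0 D7166) D7169
theorem F104856 : act 2 n48702 = n68650 := d15_3 (iv0 D68650) (iv0 F50281) (iv7 F76642)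
theorem F104857 : act 1 n31946 = n68650 := d15_0 (iv0 D68650) (iv7 F85332) F85330
theorem F104858 : act 7 n68650 = n52583 := d15_2 F50545 F104857 (iv2 D52583)
theorem F104859 : act 3 n68650 = n52592 := d0_2 D48702 F104856 (iv2 D52592) (iv3 D25526) F36991
def n68651 : Q := act 4 n31943
theorem D68651 : act 4 n31943 = n68651 := rfl
def n68652 : Q := act 6 n31943
theorem D68652 : act 6 n31943 = n68652 := rfl
def n68653 : Q := act 5 n31944
theorem D68653 : act 5 n31944 = n68653 := rfl
theorem F104860 : act 2 n68653 = n52786 := d2_1 D68653 (iv5 D52786) (iv2 F50275)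
theorem F104861 : act 3 n68653 = n52914 := d6_1 D68653 (iv5 D52914) F50903
theorem F104862 : act 7 n68653 = n33054 := d13_2 (iv7 F50278) D68653 (iv5 D33054)
theorem F104863 : act 1 n68653 = n53088 := d17_6 D35085 (iv5 F77108) F77268 (iv5 D48976) F50897 D68653 (iv5 F94962) (iv0 F94964) F55287
def n68654 : Q := act 5 n31945
theorem D68654 : act 5 n31945 = n68654 := rfl
theorem F104864 : act 2 n68654 = n52513 := d2_1 D68654 (iv5 D52513) (iv2 F50284)
theorem F104865 : act 3 n68654 = n31946 := d6_1 D68654 (iv5 D31946) D31945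
theorem F104866 : act 7 n68654 = n52512 := d13_2 (iv7 F50287) D68654 (iv5 D52512)
theorem F104867 : act 0 n68654 = n34877 := d17_2 (iv1 F50289) D68654 (iv5 D34877) (iv4 D16908) D16909 (iv0 F27711) F26388 (iv0 F26922) (iv4 F40330)
theorem F104868 : act 1 n68654 = n34880 := d17_6 (iv1 F12519) (iv5 F12521) D12113 (iv5 F27903) (iv4 F50285) D68654 (iv5 D34880) (iv0 F27721) F24847
def n68655 : Q := act 4 n31946
theorem D68655 : act 4 n31946 = n68655 := rfl
def n68656 : Q := act 6 n31946
theorem D68656 : act 6 n31946 = n68656 := rfl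
theorem F104869 : act 5 n68656 = n33056 := d12_1 D68656 (iv6 D33056) (iv5 D15941) (iv6 F26625) D31946
def n68657 : Q := act 3 n31947
theorem D68657 : act 3 n31947 = n68657 := rfl
theorem F104870 : act 2 n68657 = n32348 := d0_1 D68657 F51371 (iv2 F27745) (iv3 F55202) F55201
theorem F104871 : act 5 n68657 = n32343 := d6_2 (iv5 F55188) D68657 (iv3 F55186)
theorem F104872 : act 7 n68657 = n59837 := d8_2 F85342 D68657 F94257
theorem F104873 : act 0 n52552 = n68657 := d17_2 (iv1 F56680) D52552 F104871 F51364 (iv5 F41437) F41436 (iv5 D26142) F20654 D15097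
theorem F104874 : act 1 n52554 = n68657 := d17_6 (iv1 F85124) (iv5 F104596) (iv1 F104599) F104019 F77077 D52554 F104871 (iv0 F97650) F97649
def n68658 : Q := act 4 n31947
theorem D68658 : act 4 n31947 = n68658 := rfl
def n68659 : Q := act 6 n31947
theorem D68659 : act 6 n31947 = n68659 := rfl
def n68660 : Q := act 4 n31948
theorem D68660 : act 4 n31948 = n68660 := rfl
def n68661 : Q := act 6 n31948
theorem D68661 : act 6 n31948 = n68661 := rfl
def n68662 : Q := act 0 n31949
theorem D68662 : act 0 n31949 = n68662 := rfl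
def n68663 : Q := act 1 n31949
theorem D68663 : act 1 n31949 = n68663 := rfl
def n68664 : Q := act 3 n31949
theorem D68664 : act 3 n31949 = n68664 := rfl
theorem F104875 : act 4 n68664 = n52343 := d5_2 D31949 D68664 F82727 F40201 (iv3 F24699)
def n68665 : Q := act 5 n31949
theorem D68665 : act 5 n31949 = n68665 := rfl
def n68666 : Q := act 6 n31949
theorem D68666 : act 6 n31949 = n68666 := rfl
theorem F104876 : act 4 n68666 = n31950 := d10_1 D68666 (iv6 D31950) D31949
def n68667 : Q := act 0 n31950
theorem D68667 : act 0 n31950 = n68667 := rfl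
def n68668 : Q := act 1 n31950
theorem D68668 : act 1 n31950 = n68668 := rfl
def n68669 : Q := act 5 n31950
theorem D68669 : act 5 n31950 = n68669 := rfl
theorem F104877 : act 3 n68669 = n52526 := d6_1 D68669 (iv5 D52526) (iv3 F50290)
theorem F104878 : act 6 n68669 = n31952 := d12_2 D31950 D68669 (iv5 D31952) (iv6 D15075) D15074
def n68670 : Q := act 7 n31950
theorem D68670 : act 7 n31950 = n68670 := rfl
theorem F104879 : act 3 n68670 = n52527 := d8_1 D68670 (iv7 D52527) (iv3 F50290)
def n68671 : Q := act 5 n31951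
theorem D68671 : act 5 n31951 = n68671 := rfl
theorem F104880 : act 2 n68671 = n48699 := d2_1 D68671 F76637 F50293
theorem F104881 : act 3 n68671 = n52541 := d6_1 D68671 (iv5 D52541) (iv3 F50292)
theorem F104882 : act 7 n68671 = n48694 := d13_2 (iv7 F50294) D68671 (iv5 D48694)
theorem F104883 : act 0 n68671 = n48696 := d17_2 D31951 D68671 F76633 (iv4 F50522) (iv5 F85457) (iv0 F85460) (iv5 D31972) (iv0 D15080) (iv4 F24701)
theorem F104884 : act 1 n68671 = n48695 := d17_6 D14863 (iv5 F77016) F77015 (iv5 D48885) (iv4 F50291) D68671 F85306 (iv0 D31573) (iv4 D14866)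
def n68672 : Q := act 4 n31952
theorem D68672 : act 4 n31952 = n68672 := rfl
def n68673 : Q := act 1 n31956
theorem D68673 : act 1 n31956 = n68673 := rfl
theorem F104885 : act 1 n68673 = n31960 := d15_1 D68673 (iv7 F85353) F85352
theorem F104886 : act 4 n68673 = n34974 := d18_7 (iv1 F55370) D34972 F56596 F56594 F50467 D31956 D68673 F94343 F94340
def n68674 : Q := act 3 n31956
theorem D68674 : act 3 n31956 = n68674 := rfl
def n68675 : Q := act 5 n31956
theorem D68675 : act 5 n31956 = n68675 := rfl
def n68676 : Q := act 6 n31956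
theorem D68676 : act 6 n31956 = n68676 := rfl
theorem F104887 : act 4 n68676 = n31958 := d10_1 D68676 (iv6 D31958) D31956
def n68677 : Q := act 0 n31958
theorem D68677 : act 0 n31958 = n68677 := rfl
def n68678 : Q := act 1 n31958
theorem D68678 : act 1 n31958 = n68678 := rfl
def n68679 : Q := act 7 n31958
theorem D68679 : act 7 n31958 = n68679 := rfl
def n68680 : Q := act 4 n31959
theorem D68680 : act 4 n31959 = n68680 := rfl
theorem F104888 : act 7 n68680 = n55994 := d11_2 (iv7 F50314) D68680 (iv4 D55994)
theorem F104889 : act 0 n68680 = n67908 := d18_2 (iv1 F55450) D68680 (iv4 D67908) (iv5 F54336) D48887 (iv0 F77032) (iv4 D31933) F41559 (iv5 F55448)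
theorem F104890 : act 1 n68680 = n67905 := d18_6 D14863 D31564 (iv1 F88624) F88621 F50315 D68680 (iv4 D67905) (iv0 D31576) (iv5 D14867)
def n68681 : Q := act 6 n31959
theorem D68681 : act 6 n31959 = n68681 := rfl
theorem F104891 : act 3 n68681 = n31962 := d7_1 D68681 (iv6 D31962) D31959
def n68682 : Q := act 3 n31960
theorem D68682 : act 3 n31960 = n68682 := rfl
def n68683 : Q := act 5 n31960
theorem D68683 : act 5 n31960 = n68683 := rfl
def n68684 : Q := act 6 n31960
theorem D68684 : act 6 n31960 = n68684 := rfl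
theorem F104892 : act 4 n68684 = n31962 := d10_1 D68684 (iv6 D31962) D31960
def n68685 : Q := act 0 n31962
theorem D68685 : act 0 n31962 = n68685 := rfl
def n68686 : Q := act 1 n31962
theorem D68686 : act 1 n31962 = n68686 := rfl
def n68687 : Q := act 5 n31962
theorem D68687 : act 5 n31962 = n68687 := rfl
theorem F104893 : act 2 n68687 = n33137 := d2_1 D68687 (iv5 F85351) F85350
theorem F104894 : act 6 n68687 = n33047 := d12_2 D31962 D68687 F52255 (iv6 F50554) F50553
def n68688 : Q := act 7 n31962
theorem D68688 : act 7 n31962 = n68688 := rfl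
def n68689 : Q := act 3 n31963
theorem D68689 : act 3 n31963 = n68689 := rfl
def n68690 : Q := act 5 n31963
theorem D68690 : act 5 n31963 = n68690 := rfl
theorem F104895 : act 1 n68690 = n54238 := d17_6 F84944 (iv5 F55361) (iv1 D34963) D34964 F55364 D68690 (iv5 D54238) D54237 (iv4 F85582)
def n68691 : Q := act 6 n31963
theorem D68691 : act 6 n31963 = n68691 := rfl
def n68692 : Q := act 3 n31964
theorem D68692 : act 3 n31964 = n68692 := rfl
theorem F104896 : act 4 n68692 = n68535 := d5_2 F50319 D68692 (iv3 D68535) (iv4 D31886) D31885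
def n68693 : Q := act 5 n31964
theorem D68693 : act 5 n31964 = n68693 := rfl
theorem F104897 : act 0 n68693 = n54238 := d17_2 F85326 D68693 (iv5 D54238) (iv4 D26229) F20705 D23835 F50553 F41490 D54073
def n68694 : Q := act 6 n31964
theorem D68694 : act 6 n31964 = n68694 := rfl
theorem F104898 : act 4 n68694 = n68534 := d10_1 D68694 (iv6 D68534) F50319
def n68695 : Q := act 0 n31965
theorem D68695 : act 0 n31965 = n68695 := rfl
theorem F104899 : act 5 n68695 = n32218 := d17_3 (iv1 D31964) D31965 D68695 (iv4 F104853) (iv5 D68649) (iv0 F50927) D48896 (iv0 F77072) F50319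
def n68696 : Q := act 1 n31965
theorem D68696 : act 1 n31965 = n68696 := rfl
theorem F104900 : act 5 n68696 = n32219 := d17_7 (iv1 F50539) (iv5 D15067) (iv1 D7167) D7170 D15078 D31965 D68696 (iv0 F85576) (iv4 D54234)
def n68697 : Q := act 4 n31965
theorem D68697 : act 4 n31965 = n68697 := rfl
def n68698 : Q := act 6 n31965
theorem D68698 : act 6 n31965 = n68698 := rfl
def n68699 : Q := act 0 n31966
theorem D68699 : act 0 n31966 = n68699 := rfl
def n68700 : Q := act 1 n31966
theorem D68700 : act 1 n31966 = n68700 := rfl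
def n68701 : Q := act 5 n31966
theorem D68701 : act 5 n31966 = n68701 := rfl
def n68702 : Q := act 7 n31966
theorem D68702 : act 7 n31966 = n68702 := rfl
theorem F104901 : act 4 n68702 = n31970 := d11_1 D68702 (iv7 D31970) (iv4 F50320)
def n68703 : Q := act 2 n31967
theorem D68703 : act 2 n31967 = n68703 := rfl
theorem F104902 : act 7 n31968 = n68703 := d15_2 (iv0 D31967) D31968 (iv2 D68703)
def n68704 : Q := act 3 n31967
theorem D68704 : act 3 n31967 = n68704 := rfl
def n68705 : Q := act 4 n31967
theorem D68705 : act 4 n31967 = n68705 := rfl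
def n68706 : Q := act 5 n31967
theorem D68706 : act 5 n31967 = n68706 := rfl
def n68707 : Q := act 6 n31967
theorem D68707 : act 6 n31967 = n68707 := rfl
def n68708 : Q := act 7 n31967
theorem D68708 : act 7 n31967 = n68708 := rfl
theorem F104903 : act 2 n68708 = n31968 := d4_1 D68708 F104902 (iv2 D68703)
def n68709 : Q := act 3 n31968
theorem D68709 : act 3 n31968 = n68709 := rfl
def n68710 : Q := act 4 n31968
theorem D68710 : act 4 n31968 = n68710 := rfl
def n68711 : Q := act 5 n31968
theorem D68711 : act 5 n31968 = n68711 := rfl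
def n68712 : Q := act 6 n31968
theorem D68712 : act 6 n31968 = n68712 := rfl
def n68713 : Q := act 0 n31969
theorem D68713 : act 0 n31969 = n68713 := rfl
def n68714 : Q := act 1 n31969
theorem D68714 : act 1 n31969 = n68714 := rfl
def n68715 : Q := act 4 n31969
theorem D68715 : act 4 n31969 = n68715 := rfl
theorem F104904 : act 6 n68715 = n31973 := d10_2 (iv6 F50322) D68715 (iv4 D31973)
def n68716 : Q := act 7 n31969
theorem D68716 : act 7 n31969 = n68716 := rfl
theorem F104905 : act 3 n68716 = n32000 := d8_1 D68716 (iv7 D32000) (iv3 F50321)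
theorem F104906 : act 5 n68716 = n31970 := d13_1 D68716 (iv7 D31970) D31969
def n68717 : Q := act 5 n31971
theorem D68717 : act 5 n31971 = n68717 := rfl
theorem F104907 : act 3 n68717 = n32023 := d6_1 D68717 (iv5 D32023) (iv3 F50324)
def n68718 : Q := act 4 n31972
theorem D68718 : act 4 n31972 = n68718 := rfl
def n68719 : Q := act 6 n31972
theorem D68719 : act 6 n31972 = n68719 := rfl
theorem F104908 : act 3 n68719 = n68409 := d7_1 D68719 (iv6 D68409) (iv3 F50325)
def n68720 : Q := act 3 n31973
theorem D68720 : act 3 n31973 = n68720 := rfl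
theorem F104909 : act 4 n68720 = n32003 := d5_2 D31973 D68720 (iv3 D32003) (iv4 D15093) (iv3 F24703)
def n68721 : Q := act 5 n31973
theorem D68721 : act 5 n31973 = n68721 := rfl
theorem F104910 : act 1 n68721 = n48919 := d17_6 (iv1 F85461) (iv5 D31934) F41471 D15082 D31973 D68721 (iv5 D48919) D48917 (iv4 F85459)
def n68722 : Q := act 6 n31974
theorem D68722 : act 6 n31974 = n68722 := rfl
theorem F104911 : act 3 n68722 = n32006 := d7_1 D68722 (iv6 D32006) (iv3 F50329)
def n68723 : Q := act 0 n31975
theorem D68723 : act 0 n31975 = n68723 := rfl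
theorem F104912 : act 4 n68723 = n67945 := d18_3 F41452 D31975 D68723 F104043 F83043 F54331 F20060 (iv0 F26924) D26146
theorem F104913 : act 2 n67859 = n68723 := d15_3 (iv0 D68723) (iv0 F94293) (iv7 F103912)
def n68724 : Q := act 5 n31975
theorem D68724 : act 5 n31975 = n68724 := rfl
theorem F104916 : act 7 n68724 = n67860 := d13_2 (iv7 F50331) D68724 (iv5 D67860)
theorem F104917 : act 0 n68724 = n54173 := d17_2 F94293 D68724 (iv5 D54173) D54172 F85495 (iv0 D31611) D31615 (iv0 F50916) D59851
theorem F104918 : act 1 n68724 = n54177 := d17_6 (iv1 F41534) F41535 F27311 (iv5 F24705) D31975 D68724 (iv5 D54177) F85401 (iv4 D54105)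
def n68725 : Q := act 6 n31975
theorem D68725 : act 6 n31975 = n68725 := rfl
theorem F104919 : act 4 n68725 = n31976 := d10_1 D68725 (iv6 D31976) D31975
def n68726 : Q := act 0 n31976
theorem D68726 : act 0 n31976 = n68726 := rfl
def n68727 : Q := act 1 n31976
theorem D68727 : act 1 n31976 = n68727 := rfl
def n68728 : Q := act 7 n31976
theorem D68728 : act 7 n31976 = n68728 := rfl
theorem F104920 : act 3 n68728 = n31979 := d8_1 D68728 (iv7 D31979) (iv3 F50332)
theorem F104921 : act 5 n68728 = n33251 := d13_1 D68728 (iv7 D33251) (iv5 F50333)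
theorem F104922 : act 6 n68728 = n67864 := d14_1 D68728 (iv7 D67864) (iv6 D31525) (iv7 F24706) D31976
theorem F104923 : act 0 n55031 = n67864 := d21_4 F85476 (iv1 F42527) D26601 D55031 (iv6 F104922) F104921 (iv1 F56686) (iv5 F85522) (iv6 D54198) (iv1 F85479)
def n68729 : Q := act 2 n31977
theorem D68729 : act 2 n31977 = n68729 := rfl
theorem F104924 : act 7 n31978 = n68729 := d15_2 (iv0 D31977) D31978 (iv2 D68729)
def n68730 : Q := act 3 n31977
theorem D68730 : act 3 n31977 = n68730 := rfl
def n68731 : Q := act 4 n31977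
theorem D68731 : act 4 n31977 = n68731 := rfl
def n68732 : Q := act 5 n31977
theorem D68732 : act 5 n31977 = n68732 := rfl
def n68733 : Q := act 6 n31977
theorem D68733 : act 6 n31977 = n68733 := rfl
theorem F104925 : act 5 n68733 = n32337 := d21_6 F9164 (iv1 F9068) (iv5 F11501) D15085 D31977 D68733 (iv1 D32337) (iv5 D15238) (iv6 D7218) (iv1 F9162)
def n68734 : Q := act 7 n31977
theorem D68734 : act 7 n31977 = n68734 := rfl
def n68735 : Q := act 3 n31978
theorem D68735 : act 3 n31978 = n68735 := rfl
def n68736 : Q := act 4 n31978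
theorem D68736 : act 4 n31978 = n68736 := rfl
def n68737 : Q := act 5 n31978
theorem D68737 : act 5 n31978 = n68737 := rfl
theorem F104927 : act 6 n56000 = n68737 := d21_5 F25133 (iv1 F18694) (iv5 F21501) D27016 D56000 (iv5 D68737) (iv1 D31978) (iv5 F25141) (iv6 D15645) (iv1 F25132)
def n68738 : Q := act 6 n31978
theorem D68738 : act 6 n31978 = n68738 := rfl
def n68739 : Q := act 4 n31982
theorem D68739 : act 4 n31982 = n68739 := rfl
theorem F104928 : act 2 n68739 = n31983 := d1_1 D68739 (iv4 D31983) D31982
theorem F104929 : act 7 n68739 = n32092 := d11_2 F50754 D68739 (iv4 D32092)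
theorem F104930 : act 0 n68739 = n67867 := d18_2 (iv1 F50759) D68739 (iv4 F103924) F51450 F54303 (iv0 F54301) F10524 (iv0 F24781) (iv5 F24762)
theorem F104931 : act 1 n68739 = n67866 := d18_6 D15293 F41183 (iv1 F41182) (iv4 F41173) (iv5 F50349) D68739 F103920 (iv0 D32400) (iv5 D15295)
def n68740 : Q := act 6 n31982
theorem D68740 : act 6 n31982 = n68740 := rfl
theorem F104932 : act 2 n68740 = n31984 := d3_1 D68740 (iv6 D31984) D31982
theorem F104933 : act 3 n68740 = n67857 := d7_1 D68740 (iv6 D67857) (iv3 F50348)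
theorem F104934 : act 5 n68740 = n33494 := d12_1 D68740 (iv6 D33494) F50969 (iv6 F41174) (iv5 F50349)
theorem F104935 : act 0 n68740 = n33738 := d21_4 F50821 (iv1 F41176) (iv5 F50349) D68740 (iv6 D33738) (iv5 D16294) (iv1 D7581) (iv5 F11527) (iv6 D7206) D7203
def n68741 : Q := act 5 n31983
theorem D68741 : act 5 n31983 = n68741 := rfl
theorem F104936 : act 7 n68741 = n67868 := d13_2 (iv7 F50353) D68741 (iv5 D67868)
def n68742 : Q := act 6 n31983
theorem D68742 : act 6 n31983 = n68742 := rfl
theorem F104937 : act 4 n68742 = n31984 := d10_1 D68742 (iv6 D31984) D31983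
def n68743 : Q := act 0 n31984
theorem D68743 : act 0 n31984 = n68743 := rfl
theorem F104938 : act 6 n68743 = n33583 := d21_5 (iv5 F50957) (iv1 D26047) (iv5 F24708) D31984 D68743 (iv5 D33583) (iv1 D16225) (iv5 F24806) (iv6 D15175) D15172
def n68744 : Q := act 1 n31984
theorem D68744 : act 1 n31984 = n68744 := rfl
def n68745 : Q := act 7 n31984
theorem D68745 : act 7 n31984 = n68745 := rfl
theorem F104939 : act 3 n68745 = n31986 := d8_1 D68745 (iv7 D31986) (iv3 F50354)
theorem F104940 : act 5 n68745 = n62564 := d13_1 D68745 (iv7 D62564) (iv5 F50355)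
theorem F104941 : act 6 n68745 = n67872 := d14_1 D68745 (iv7 D67872) (iv6 D31541) (iv7 F24709) D31984
def n68746 : Q := act 3 n31985
theorem D68746 : act 3 n31985 = n68746 := rfl
theorem F104942 : act 7 n68746 = n33951 := d8_2 (iv7 F53107) D68746 F53291
def n68748 : Q := act 1 n31987
theorem D68748 : act 1 n31987 = n68748 := rfl
theorem F104944 : act 1 n68748 = n31992 := d15_1 D68748 (iv7 D31992) D31987
def n68749 : Q := act 3 n31987
theorem D68749 : act 3 n31987 = n68749 := rfl
theorem F104945 : act 7 n68749 = n31993 := d8_2 F50363 D68749 (iv3 D31993)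
def n68750 : Q := act 4 n31987
theorem D68750 : act 4 n31987 = n68750 := rfl
theorem F104946 : act 2 n68750 = n31989 := d1_1 D68750 (iv4 D31989) D31987
theorem F104947 : act 7 n68750 = n31994 := d11_2 F50363 D68750 (iv4 D31994)
def n68751 : Q := act 5 n31987
theorem D68751 : act 5 n31987 = n68751 := rfl
theorem F104948 : act 2 n68751 = n31990 := d2_1 D68751 (iv5 D31990) D31987
theorem F104949 : act 7 n68751 = n31995 := d13_2 F50363 D68751 (iv5 D31995)
def n68752 : Q := act 6 n31987
theorem D68752 : act 6 n31987 = n68752 := rfl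
theorem F104950 : act 2 n68752 = n31991 := d3_1 D68752 (iv6 D31991) D31987
theorem F104951 : act 7 n33924 = n68752 := d15_2 (iv0 F51188) D33924 F104950
def n68753 : Q := act 0 n31988
theorem D68753 : act 0 n31988 = n68753 := rfl
def n68754 : Q := act 1 n31988
theorem D68754 : act 1 n31988 = n68754 := rfl
def n68755 : Q := act 2 n31988
theorem D68755 : act 2 n31988 = n68755 := rfl
def n68756 : Q := act 4 n31988
theorem D68756 : act 4 n31988 = n68756 := rfl
def n68757 : Q := act 5 n31988
theorem D68757 : act 5 n31988 = n68757 := rfl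
theorem F104952 : act 3 n68757 = n31990 := d6_1 D68757 (iv5 D31990) D31988
def n68758 : Q := act 6 n31988
theorem D68758 : act 6 n31988 = n68758 := rfl
theorem F104953 : act 3 n68758 = n31991 := d7_1 D68758 (iv6 D31991) D31988
def n68759 : Q := act 7 n31988
theorem D68759 : act 7 n31988 = n68759 := rfl
theorem F104954 : act 3 n68759 = n31992 := d8_1 D68759 (iv7 D31992) D31988
def n68761 : Q := act 1 n31989
theorem D68761 : act 1 n31989 = n68761 := rfl
theorem F104955 : act 1 n68761 = n31994 := d15_1 D68761 (iv7 F104947) F104946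
def n68764 : Q := act 6 n31989
theorem D68764 : act 6 n31989 = n68764 := rfl
theorem F104956 : act 4 n68764 = n31991 := d10_1 D68764 (iv6 D31991) D31989
def n68765 : Q := act 7 n31989
theorem D68765 : act 7 n31989 = n68765 := rfl
theorem F104957 : act 2 n68765 = n31994 := d4_1 D68765 (iv7 F104947) F104946
theorem F104958 : act 4 n68765 = n31992 := d11_1 D68765 (iv7 D31992) D31989
def n68766 : Q := act 1 n31990
theorem D68766 : act 1 n31990 = n68766 := rfl
theorem F104960 : act 1 n68766 = n31995 := d15_1 D68766 (iv7 F104949) F104948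
theorem F104961 : act 7 n68766 = n54302 := d15_2 (iv0 F51346) D68766 F85690
theorem F104962 : act 5 n54303 = n68766 := d13_3 F104961 (iv5 D54302) D54303
def n68767 : Q := act 4 n31990
theorem D68767 : act 4 n31990 = n68767 := rfl
def n68768 : Q := act 6 n31990
theorem D68768 : act 6 n31990 = n68768 := rfl
def n68769 : Q := act 7 n31990
theorem D68769 : act 7 n31990 = n68769 := rfl
theorem F104963 : act 2 n68769 = n31995 := d4_1 D68769 (iv7 F104949) F104948
theorem F104964 : act 5 n68769 = n31992 := d13_1 D68769 (iv7 D31992) D31990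
def n68771 : Q := act 6 n31992
theorem D68771 : act 6 n31992 = n68771 := rfl
theorem F104966 : act 2 n68771 = n31996 := d3_1 D68771 (iv6 D31996) (iv2 F50364)
def n68772 : Q := act 0 n31993
theorem D68772 : act 0 n31993 = n68772 := rfl
def n68773 : Q := act 1 n31993
theorem D68773 : act 1 n31993 = n68773 := rfl
def n68774 : Q := act 2 n31993
theorem D68774 : act 2 n31993 = n68774 := rfl
def n68775 : Q := act 4 n31993
theorem D68775 : act 4 n31993 = n68775 := rfl
def n68776 : Q := act 5 n31993
theorem D68776 : act 5 n31993 = n68776 := rfl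
theorem F104967 : act 3 n68776 = n31995 := d6_1 D68776 (iv5 D31995) D31993
def n68777 : Q := act 6 n31993
theorem D68777 : act 6 n31993 = n68777 := rfl
theorem F104968 : act 3 n68777 = n31996 := d7_1 D68777 (iv6 D31996) D31993
def n68780 : Q := act 6 n31994
theorem D68780 : act 6 n31994 = n68780 := rfl
theorem F104969 : act 4 n68780 = n31996 := d10_1 D68780 (iv6 D31996) D31994
def n68781 : Q := act 4 n31995
theorem D68781 : act 4 n31995 = n68781 := rfl
def n68782 : Q := act 6 n31995
theorem D68782 : act 6 n31995 = n68782 := rfl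
theorem F104970 : act 5 n68782 = n58416 := d21_6 (iv5 D7844) D7842 D16799 (iv6 F51345) F51347 D68782 (iv1 D58416) (iv5 F54949) (iv6 D34708) (iv1 D16806)
theorem F104971 : act 0 n32369 = n68782 := d21_4 (iv5 D7232) D7230 D15268 D32369 (iv6 D68782) (iv5 D31995) (iv1 D15089) D15090 F24712 F11553
def n68783 : Q := act 0 n31996
theorem D68783 : act 0 n31996 = n68783 := rfl
theorem F104972 : act 5 n68783 = n32336 := d21_0 (iv1 F51351) (iv5 F41680) (iv6 D26252) (iv1 F20716) D15234 D32324 F51347 (iv5 D31995) D31996 D68783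
def n68784 : Q := act 1 n31996
theorem D68784 : act 1 n31996 = n68784 := rfl
def n68785 : Q := act 5 n31996
theorem D68785 : act 5 n31996 = n68785 := rfl
theorem F104973 : act 6 n68785 = n58416 := d12_2 D31996 D68785 (iv5 F104970) (iv6 D68782) (iv5 D31995)
theorem E9490 : n68784 = n68733 := ((c21_1 (iv5 F104925) (iv1 D68784) D68785 F104973 (iv1 D58416) (iv6 D27800) (iv5 D13266) (iv1 F9809) (iv5 F13649) D18715 (iv1 F51352))).symm
theorem F104974 : act 0 n68733 = n31996 := (sb E9490 (iv1 D68784))
theorem F104975 : act 0 n54307 = n68785 := d21_1 D54307 (iv5 D68785) (iv6 D31996) (iv1 D15089) (iv6 D7174) (iv5 D3308) (iv1 F3947) (iv5 F9173) D12445 D26253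
theorem E9491 : n68780 = n66984 := (c17_5 D26253 D54307 F104975 (iv5 D68785) (iv4 F104969) (iv5 F103207) (iv0 D67324) (iv5 D31302) (iv0 D14760) (iv4 F20719))
theorem F104976 : act 4 n66984 = n31996 := (sb E9491 F104969)
theorem E9492 : n31994 = n31187 := ((((iv6 D66984)).symm.trans (sb E9491 (iv6 D68780)))).symm
theorem E9493 : n68761 = n14732 := ((((iv1 D31187)).symm.trans (sb E9492 (iv1 F104955)))).symm
theorem E9495 : n68765 = n66980 := ((((iv2 F102910)).symm.trans (sb E9492 (iv2 F104957)))).symm
theorem E9497 : n66982 = n15089 := ((D66982).symm.trans (sb E9492 (iv4 D31994)))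
theorem E9499 : n68750 = n66975 := (((F102909).symm.trans (sb E9492 (iv7 F104947)))).symm
theorem E9500 : n31989 = n31186 := (((D31186).symm.trans (sb E9493 (iv1 D68761)))).symm
theorem F104977 : act 4 n66980 = n31992 := (sb E9495 F104958)
theorem F104978 : act 4 n15089 = n31187 := (sb E9497 (iv4 D66982))
theorem F104979 : act 4 n66975 = n31987 := (sb E9499 (iv4 D68750))
theorem E9502 : n66977 = n15088 := ((D66977).symm.trans (sb E9500 (iv4 D31989)))
theorem E9504 : n68764 = n66979 := (((D66979).symm.trans (sb E9500 D68764))).symm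
theorem F104980 : act 4 n15088 = n31186 := (sb E9502 (iv4 D66977))
theorem F104981 : act 4 n66979 = n31991 := (sb E9504 F104956)
theorem F104982 : act 4 n68525 = n68700 := d20_6 F104980 (iv1 F84722) F84718 (iv3 F85176) (iv1 F85180) D68525 (iv1 D68700) F50320 F24702 D15088
theorem F104983 : act 4 n68529 = n31998 := d18_7 (iv1 F41460) F104978 (iv1 D31187) F24393 D15003 D31880 D68529 F85291 F85289
theorem F104984 : act 0 n68785 = n54312 := d21_10 (iv5 D54312) (iv1 D26254) D26255 F41687 (iv1 F20722) D16444 (iv5 F51403) F104971 F104970 (iv6 F104973)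
def n68786 : Q := act 7 n31996
theorem D68786 : act 7 n31996 = n68786 := rfl
theorem F104985 : act 6 n68786 = n33924 := d14_1 D68786 F104951 (iv6 D68752) (iv7 F50363) D31996
theorem F104986 : act 0 n68786 = n67877 := d21_10 F103931 (iv1 D54315) (iv5 D26255) (iv6 D12445) (iv1 F9174) D7212 D15215 D32260 F53279 (iv6 F104985)
theorem F104987 : act 1 n68771 = n67877 := d15_0 (iv0 F104986) (iv7 D68786) (iv2 F104966)
def n68787 : Q := act 2 n31997
theorem D68787 : act 2 n31997 = n68787 := rfl
theorem F104988 : act 7 n31998 = n68787 := d15_2 (iv0 D31997) D31998 (iv2 D68787)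
def n68788 : Q := act 3 n31997
theorem D68788 : act 3 n31997 = n68788 := rfl
def n68789 : Q := act 4 n31997
theorem D68789 : act 4 n31997 = n68789 := rfl
def n68790 : Q := act 6 n31997
theorem D68790 : act 6 n31997 = n68790 := rfl
theorem F104989 : act 5 n68790 = n61538 := d21_6 (iv5 D15018) F11554 D7177 (iv6 F24712) D31997 D68790 (iv1 D61538) (iv5 F54588) (iv6 D34408) F27317
def n68791 : Q := act 7 n31997
theorem D68791 : act 7 n31997 = n68791 := rfl
theorem F104990 : act 2 n68791 = n31998 := d4_1 D68791 F104988 (iv2 D68787)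
def n68792 : Q := act 3 n31998
theorem D68792 : act 3 n31998 = n68792 := rfl
def n68793 : Q := act 6 n31998
theorem D68793 : act 6 n31998 = n68793 := rfl
theorem F104991 : act 0 n34705 = n68793 := d21_4 (iv5 D39636) (iv1 F30424) F30426 D34705 (iv6 D68793) (iv5 F85558) F85954 D54302 F85691 (iv1 F60520)
def n68794 : Q := act 0 n31999
theorem D68794 : act 0 n31999 = n68794 := rfl
def n68795 : Q := act 1 n31999
theorem D68795 : act 1 n31999 = n68795 := rfl
def n68796 : Q := act 3 n31999
theorem D68796 : act 3 n31999 = n68796 := rfl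
theorem F104992 : act 6 n68796 = n32003 := d7_2 (iv6 F50365) D68796 (iv3 D32003)
def n68797 : Q := act 5 n31999
theorem D68797 : act 5 n31999 = n68797 := rfl
def n68798 : Q := act 7 n31999
theorem D68798 : act 7 n31999 = n68798 := rfl
theorem F104993 : act 4 n68798 = n32000 := d11_1 D68798 (iv7 D32000) D31999
def n68799 : Q := act 6 n32000
theorem D68799 : act 6 n32000 = n68799 := rfl
theorem F104994 : act 7 n68799 = n32006 := d14_2 D32000 D68799 (iv6 D32006) (iv7 D15094) (iv6 F24712)
def n68800 : Q := act 6 n32001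
theorem D68800 : act 6 n32001 = n68800 := rfl
theorem F104995 : act 3 n68800 = n32002 := d7_1 D68800 (iv6 D32002) D32001
theorem F104996 : act 5 n68800 = n34331 := d12_1 D68800 (iv6 D34331) F27113 D16624 (iv5 F50367)
def n68801 : Q := act 0 n32002
theorem D68801 : act 0 n32002 = n68801 := rfl
theorem F104997 : act 1 n34712 = n68801 := d15_0 (iv0 D68801) (iv7 F87861) F87858
def n68802 : Q := act 1 n32002
theorem D68802 : act 1 n32002 = n68802 := rfl
theorem F104998 : act 1 n68802 = n34712 := d15_1 D68802 F54957 F51427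
def n68803 : Q := act 0 n32003
theorem D68803 : act 0 n32003 = n68803 := rfl
theorem F104999 : act 3 n68803 = n66818 := d20_5 F50197 (iv1 D15092) D15093 D32003 D68803 (iv4 D66818) (iv1 D31143) D31144 F49495 (iv1 F50194)
def n68804 : Q := act 1 n32003
theorem D68804 : act 1 n32003 = n68804 := rfl
def n68805 : Q := act 2 n32003
theorem D68805 : act 2 n32003 = n68805 := rfl
def n68806 : Q := act 5 n32003
theorem D68806 : act 5 n32003 = n68806 := rfl
theorem F105000 : act 3 n68806 = n32004 := d6_1 D68806 (iv5 D32004) D32003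
def n68807 : Q := act 7 n32003
theorem D68807 : act 7 n32003 = n68807 := rfl
theorem F105001 : act 3 n68807 = n32005 := d8_1 D68807 (iv7 D32005) D32003
def n68808 : Q := act 6 n32004
theorem D68808 : act 6 n32004 = n68808 := rfl
theorem F105002 : act 4 n68808 = n32369 := d10_1 D68808 (iv6 D32369) (iv4 F50371)
def n68809 : Q := act 6 n32005
theorem D68809 : act 6 n32005 = n68809 := rfl
theorem F105003 : act 4 n68809 = n32006 := d10_1 D68809 (iv6 D32006) (iv4 F50374)
def n68810 : Q := act 0 n32006
theorem D68810 : act 0 n32006 = n68810 := rfl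
def n68811 : Q := act 1 n32006
theorem D68811 : act 1 n32006 = n68811 := rfl
def n68812 : Q := act 0 n32009
theorem D68812 : act 0 n32009 = n68812 := rfl
theorem F105004 : act 1 n32013 = n68812 := d15_0 (iv0 D68812) (iv7 F85242) F85240
theorem F105005 : act 5 n68812 = n32346 := d17_7 D15263 (iv5 F41615) (iv1 F41618) (iv5 D15103) D15102 D32013 F105004 (iv0 D32346) F24843
def n68813 : Q := act 4 n32009
theorem D68813 : act 4 n32009 = n68813 := rfl
theorem F105006 : act 1 n68813 = n59830 := d18_6 (iv1 D15109) (iv4 D7182) D7179 D15097 D32009 D68813 (iv4 D59830) (iv0 F50399) (iv5 D32023)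
def n68814 : Q := act 6 n32009
theorem D68814 : act 6 n32009 = n68814 := rfl
theorem F105007 : act 5 n68814 = n33181 := d12_1 D68814 (iv6 D33181) (iv5 D16006) (iv6 F26972) D32009
def n68815 : Q := act 0 n32010
theorem D68815 : act 0 n32010 = n68815 := rfl
theorem F105008 : act 1 n32014 = n68815 := d15_0 (iv0 D68815) (iv7 F85244) F85243
def n68816 : Q := act 1 n32010
theorem D68816 : act 1 n32010 = n68816 := rfl
theorem F105009 : act 1 n68816 = n32014 := d15_1 D68816 (iv7 F85251) F85250
def n68817 : Q := act 3 n32010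
theorem D68817 : act 3 n32010 = n68817 := rfl
def n68818 : Q := act 5 n32010
theorem D68818 : act 5 n32010 = n68818 := rfl
def n68819 : Q := act 6 n32010
theorem D68819 : act 6 n32010 = n68819 := rfl
theorem F105010 : act 4 n68819 = n32011 := d10_1 D68819 (iv6 D32011) D32010
def n68820 : Q := act 0 n32011
theorem D68820 : act 0 n32011 = n68820 := rfl
def n68821 : Q := act 1 n32011
theorem D68821 : act 1 n32011 = n68821 := rfl
def n68822 : Q := act 7 n32011
theorem D68822 : act 7 n32011 = n68822 := rfl
theorem F105011 : act 5 n68822 = n33188 := d13_1 D68822 (iv7 D33188) (iv5 F50379)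
def n68823 : Q := act 6 n32012
theorem D68823 : act 6 n32012 = n68823 := rfl
theorem F105012 : act 3 n68823 = n32015 := d7_1 D68823 (iv6 D32015) (iv3 F50380)
theorem F105013 : act 5 n68823 = n33551 := d12_1 D68823 (iv6 D33551) (iv5 D16215) (iv6 F50797) D32012
def n68824 : Q := act 4 n32013
theorem D68824 : act 4 n32013 = n68824 := rfl
theorem F105014 : act 0 n68824 = n59830 := d18_2 (iv1 F105004) D68824 (iv4 D59830) (iv5 D28387) F22704 D13545 D28391 F51376 (iv5 F105005)
def n68825 : Q := act 6 n32013
theorem D68825 : act 6 n32013 = n68825 := rfl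
theorem F105015 : act 3 n68825 = n68652 := d7_1 D68825 (iv6 D68652) (iv3 F50381)
def n68826 : Q := act 3 n32014
theorem D68826 : act 3 n32014 = n68826 := rfl
def n68827 : Q := act 5 n32014
theorem D68827 : act 5 n32014 = n68827 := rfl
def n68828 : Q := act 6 n32014
theorem D68828 : act 6 n32014 = n68828 := rfl
theorem F105016 : act 4 n68828 = n32015 := d10_1 D68828 (iv6 D32015) D32014
def n68829 : Q := act 0 n32015
theorem D68829 : act 0 n32015 = n68829 := rfl
def n68830 : Q := act 1 n32015
theorem D68830 : act 1 n32015 = n68830 := rfl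
def n68831 : Q := act 7 n32015
theorem D68831 : act 7 n32015 = n68831 := rfl
def n68832 : Q := act 4 n32016
theorem D68832 : act 4 n32016 = n68832 := rfl
theorem F105017 : act 2 n68832 = n32026 := d1_1 D68832 (iv4 D32026) (iv2 F50382)
def n68833 : Q := act 3 n32017
theorem D68833 : act 3 n32017 = n68833 := rfl
def n68834 : Q := act 5 n32017
theorem D68834 : act 5 n32017 = n68834 := rfl
theorem F105018 : act 2 n68834 = n32037 := d2_1 D68834 (iv5 D32037) (iv2 F50383)
def n68835 : Q := act 6 n32017
theorem D68835 : act 6 n32017 = n68835 := rfl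
theorem F105019 : act 2 n68835 = n32038 := d3_1 D68835 (iv6 D32038) (iv2 F50383)
theorem F105020 : act 4 n68835 = n32018 := d10_1 D68835 (iv6 D32018) D32017
def n68836 : Q := act 0 n32018
theorem D68836 : act 0 n32018 = n68836 := rfl
def n68837 : Q := act 1 n32018
theorem D68837 : act 1 n32018 = n68837 := rfl
theorem F105021 : act 1 n68837 = n32042 := d15_1 D68837 (iv7 D32042) (iv2 F50384)
def n68838 : Q := act 5 n32018
theorem D68838 : act 5 n32018 = n68838 := rfl
theorem F105022 : act 2 n68838 = n32041 := d2_1 D68838 (iv5 D32041) (iv2 F50384)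
theorem F105023 : act 6 n68838 = n32019 := d12_2 D32018 D68838 (iv5 D32019) (iv6 D15107) D15106
def n68839 : Q := act 7 n32018
theorem D68839 : act 7 n32018 = n68839 := rfl
theorem F105024 : act 2 n68839 = n32042 := d4_1 D68839 (iv7 D32042) (iv2 F50384)
theorem F105025 : act 1 n32042 = n68836 := d15_0 (iv0 D68836) D68839 F105024
theorem F105026 : act 1 n32040 = n68839 := d15_1 D32040 (iv7 D68839) F50384
theorem F105027 : act 1 n68839 = n32039 := d15_0 (iv0 D32039) D32042 (iv2 F105024)
def n68840 : Q := act 4 n32019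
theorem D68840 : act 4 n32019 = n68840 := rfl
theorem F105028 : act 2 n68840 = n32045 := d1_1 D68840 (iv4 D32045) (iv2 F50385)
def n68841 : Q := act 5 n32020
theorem D68841 : act 5 n32020 = n68841 := rfl
theorem F105029 : act 3 n68841 = n32022 := d6_1 D68841 (iv5 D32022) D32020
def n68842 : Q := act 5 n32021
theorem D68842 : act 5 n32021 = n68842 := rfl
theorem F105030 : act 2 n68842 = n53969 := d2_1 D68842 F85143 (iv2 F50390)
theorem F105031 : act 3 n68842 = n59849 := d6_1 D68842 (iv5 D59849) (iv3 F50393)
theorem F105032 : act 7 n68842 = n67964 := d13_2 (iv7 F50392) D68842 F104078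
theorem F105033 : act 1 n68842 = n48913 := d17_6 (iv1 D28385) D28387 F50518 (iv5 D32022) D32021 D68842 F77127 F55395 F45891
theorem F105034 : act 4 n68842 = n32242 := d18_5 (iv1 D7180) D7182 D15108 D32021 D68842 (iv0 D32242) (iv4 D15211) (iv0 F28390) (iv5 D15103)
theorem F105035 : act 0 n68842 = n67926 := d21_7 D68012 F104122 (iv5 D48962) (iv6 D23888) F37229 (iv6 F50391) D68842 (iv5 D67926) D67927 F104006
theorem E9505 : n67963 = n48913 := ((c15_1 F105033 (iv0 D67963) (iv7 F85144) (iv2 F105030))).symm
theorem F105036 : act 1 n48913 = n31630 := (sb E9505 (iv0 D67963))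
def n68843 : Q := act 4 n32022
theorem D68843 : act 4 n32022 = n68843 := rfl
def n68844 : Q := act 6 n32022
theorem D68844 : act 6 n32022 = n68844 := rfl
theorem F105037 : act 5 n68844 = n33218 := d12_1 D68844 (iv6 D33218) (iv5 D16037) (iv6 F41368) D32022
def n68845 : Q := act 4 n32023
theorem D68845 : act 4 n32023 = n68845 := rfl
def n68846 : Q := act 6 n32023
theorem D68846 : act 6 n32023 = n68846 := rfl
def n68847 : Q := act 3 n32024
theorem D68847 : act 3 n32024 = n68847 := rfl
theorem F105038 : act 5 n68847 = n52448 := d6_2 (iv5 F82883) D68847 (iv3 D52448)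
theorem F105039 : act 7 n68847 = n52674 := d8_2 (iv7 F82887) D68847 F83238
theorem F105040 : act 0 n43381 = n68847 := d17_2 (iv1 D43380) D43381 F105038 F82805 D52485 F82933 (iv5 D42354) D42353 F68150
def n68848 : Q := act 4 n32024
theorem D68848 : act 4 n32024 = n68848 := rfl
def n68849 : Q := act 6 n32024
theorem D68849 : act 6 n32024 = n68849 := rfl
def n68850 : Q := act 4 n32025
theorem D68850 : act 4 n32025 = n68850 := rfl
def n68851 : Q := act 6 n32025
theorem D68851 : act 6 n32025 = n68851 := rfl
def n68852 : Q := act 0 n32026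
theorem D68852 : act 0 n32026 = n68852 := rfl
def n68853 : Q := act 1 n32026
theorem D68853 : act 1 n32026 = n68853 := rfl
theorem F105041 : act 4 n68853 = n68657 := d18_7 F56679 (iv4 D15102) (iv1 D7180) D7182 D15110 D32026 D68853 (iv0 F104873) (iv5 D52552)
def n68854 : Q := act 3 n32026
theorem D68854 : act 3 n32026 = n68854 := rfl
theorem F105042 : act 4 n68854 = n59838 := d5_2 D32026 D68854 (iv3 D59838) (iv4 D28392) (iv3 F24724)
def n68855 : Q := act 5 n32026
theorem D68855 : act 5 n32026 = n68855 := rfl
def n68856 : Q := act 6 n32026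
theorem D68856 : act 6 n32026 = n68856 := rfl
theorem F105043 : act 4 n68856 = n32027 := d10_1 D68856 (iv6 D32027) D32026
def n68857 : Q := act 0 n32027
theorem D68857 : act 0 n32027 = n68857 := rfl
def n68858 : Q := act 1 n32027
theorem D68858 : act 1 n32027 = n68858 := rfl
def n68859 : Q := act 7 n32027
theorem D68859 : act 7 n32027 = n68859 := rfl
theorem F105044 : act 3 n68859 = n59842 := d8_1 D68859 (iv7 D59842) (iv3 F50401)
def n68860 : Q := act 4 n32028
theorem D68860 : act 4 n32028 = n68860 := rfl
theorem F105045 : act 2 n68860 = n54019 := d1_1 D68860 F85216 (iv2 F65401)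
theorem F105046 : act 3 n68860 = n61650 := d5_1 D68860 F96217 (iv3 D42282) F31797 (iv3 F50403)
theorem F105047 : act 6 n68860 = n52882 := d10_2 F78714 D68860 F83557
theorem F105048 : act 7 n68860 = n61650 := d11_2 F65288 D68860 F96217
theorem F105049 : act 0 n68860 = n52557 := d18_2 D32028 D68860 F83064 (iv5 F74311) (iv4 D47064) (iv0 F35163) (iv4 F32538) F32576 F31815
theorem F105050 : act 0 n48900 = n68860 := d20_10 (iv4 D68860) (iv1 F50405) (iv4 F41575) (iv3 F68236) F68239 (iv3 F78730) F78731 F77092 F77088 (iv3 F77083)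
def n68861 : Q := act 0 n32030
theorem D68861 : act 0 n32030 = n68861 := rfl
theorem F105051 : act 4 n68861 = n67907 := d18_3 D15112 D32030 D68861 F103989 F77023 F56680 (iv4 D15097) (iv0 D7179) D7183
theorem F105052 : act 1 n32033 = n68861 := d15_0 (iv0 D68861) (iv7 F51402) F51401
def n68862 : Q := act 1 n32030
theorem D68862 : act 1 n32030 = n68862 := rfl
theorem F105053 : act 1 n68862 = n32033 := d15_1 D68862 (iv7 F85262) F85261
theorem F105054 : act 4 n68862 = n67931 := d18_7 (iv1 F85125) (iv4 F103881) F103883 F51374 F41442 D32030 D68862 F104599 F104596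
def n68863 : Q := act 3 n32030
theorem D68863 : act 3 n32030 = n68863 := rfl
def n68864 : Q := act 5 n32030
theorem D68864 : act 5 n32030 = n68864 := rfl
def n68865 : Q := act 6 n32030
theorem D68865 : act 6 n32030 = n68865 := rfl
theorem F105055 : act 4 n68865 = n32031 := d10_1 D68865 (iv6 D32031) D32030
def n68866 : Q := act 0 n32031
theorem D68866 : act 0 n32031 = n68866 := rfl
def n68867 : Q := act 1 n32031
theorem D68867 : act 1 n32031 = n68867 := rfl
def n68868 : Q := act 7 n32031
theorem D68868 : act 7 n32031 = n68868 := rfl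
theorem F105056 : act 3 n68868 = n34712 := d8_1 D68868 F54957 F51428
theorem F105057 : act 6 n68868 = n34687 := d14_1 D68868 (iv7 D34687) F27559 (iv7 F41440) D32031
def n68869 : Q := act 3 n32033
theorem D68869 : act 3 n32033 = n68869 := rfl
def n68870 : Q := act 5 n32033
theorem D68870 : act 5 n32033 = n68870 := rfl
def n68871 : Q := act 6 n32033
theorem D68871 : act 6 n32033 = n68871 := rfl
theorem F105058 : act 2 n68871 = n34686 := d3_1 D68871 F54933 F51401
theorem F105059 : act 4 n68871 = n32034 := d10_1 D68871 (iv6 D32034) D32033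
def n68872 : Q := act 0 n32034
theorem D68872 : act 0 n32034 = n68872 := rfl
def n68873 : Q := act 7 n32034
theorem D68873 : act 7 n32034 = n68873 := rfl
theorem F105060 : act 2 n68873 = n34687 := d4_1 D68873 (iv7 D34687) (iv2 F50663)
theorem F105061 : act 5 n68873 = n34673 := d13_1 D68873 (iv7 D34673) (iv5 F50664)
theorem F105062 : act 1 n34687 = n68872 := d15_0 (iv0 D68872) D68873 F105060
theorem F105063 : act 1 n34685 = n68873 := d15_1 D34685 (iv7 D68873) F50663
theorem F105064 : act 1 n68873 = n34684 := d15_0 (iv0 D34684) D34687 (iv2 F105060)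
def n68874 : Q := act 3 n32035
theorem D68874 : act 3 n32035 = n68874 := rfl
def n68875 : Q := act 5 n32035
theorem D68875 : act 5 n32035 = n68875 := rfl
def n68876 : Q := act 6 n32035
theorem D68876 : act 6 n32035 = n68876 := rfl
def n68877 : Q := act 3 n32036
theorem D68877 : act 3 n32036 = n68877 := rfl
theorem F105065 : act 4 n68877 = n68421 := d5_2 F50665 D68877 (iv3 D68421) (iv4 D31841) D31840
def n68878 : Q := act 5 n32036
theorem D68878 : act 5 n32036 = n68878 := rfl
theorem F105066 : act 0 n68878 = n54214 := d17_2 F85256 D68878 (iv5 D54214) (iv4 D26220) F20702 F26918 (iv5 F41437) F41436 D54036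
def n68879 : Q := act 6 n32036
theorem D68879 : act 6 n32036 = n68879 := rfl
theorem F105067 : act 4 n68879 = n68419 := d10_1 D68879 (iv6 D68419) F50665
def n68880 : Q := act 0 n32037
theorem D68880 : act 0 n32037 = n68880 := rfl
theorem F105068 : act 5 n68880 = n32242 := d17_3 (iv1 D32036) D32037 D68880 (iv4 F105034) (iv5 D68842) (iv0 F77027) D48899 F104011 F50665
def n68881 : Q := act 1 n32037
theorem D68881 : act 1 n32037 = n68881 := rfl
theorem F105069 : act 5 n68881 = n32243 := d17_7 (iv1 F41618) (iv5 D15103) (iv1 D7180) D7183 D15114 D32037 D68881 (iv0 F85540) (iv4 D54210)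
def n68882 : Q := act 4 n32037
theorem D68882 : act 4 n32037 = n68882 := rfl
def n68883 : Q := act 6 n32037
theorem D68883 : act 6 n32037 = n68883 := rfl
def n68884 : Q := act 0 n32038
theorem D68884 : act 0 n32038 = n68884 := rfl
def n68885 : Q := act 1 n32038
theorem D68885 : act 1 n32038 = n68885 := rfl
def n68886 : Q := act 5 n32038
theorem D68886 : act 5 n32038 = n68886 := rfl
def n68887 : Q := act 7 n32038
theorem D68887 : act 7 n32038 = n68887 := rfl
theorem F105070 : act 4 n68887 = n32042 := d11_1 D68887 (iv7 D32042) (iv4 F50666)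
def n68888 : Q := act 2 n32039
theorem D68888 : act 2 n32039 = n68888 := rfl
theorem F105071 : act 7 n32040 = n68888 := d15_2 (iv0 D32039) D32040 (iv2 D68888)
def n68889 : Q := act 3 n32039
theorem D68889 : act 3 n32039 = n68889 := rfl
def n68890 : Q := act 4 n32039
theorem D68890 : act 4 n32039 = n68890 := rfl
def n68891 : Q := act 5 n32039
theorem D68891 : act 5 n32039 = n68891 := rfl
def n68892 : Q := act 6 n32039
theorem D68892 : act 6 n32039 = n68892 := rfl
def n68893 : Q := act 7 n32039
theorem D68893 : act 7 n32039 = n68893 := rfl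
theorem F105072 : act 2 n68893 = n32040 := d4_1 D68893 F105071 (iv2 D68888)
def n68894 : Q := act 3 n32040
theorem D68894 : act 3 n32040 = n68894 := rfl
def n68895 : Q := act 4 n32040
theorem D68895 : act 4 n32040 = n68895 := rfl
def n68896 : Q := act 5 n32040
theorem D68896 : act 5 n32040 = n68896 := rfl
def n68897 : Q := act 6 n32040
theorem D68897 : act 6 n32040 = n68897 := rfl
def n68898 : Q := act 0 n32041
theorem D68898 : act 0 n32041 = n68898 := rfl
theorem F105073 : act 6 n68898 = n54930 := d21_5 (iv5 F43292) (iv1 D15117) D15118 (iv6 F50668) D68898 (iv5 D54930) (iv1 D26566) D26567 (iv6 F42849) (iv1 F43291)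
def n68899 : Q := act 1 n32041
theorem D68899 : act 1 n32041 = n68899 := rfl
def n68900 : Q := act 4 n32041
theorem D68900 : act 4 n32041 = n68900 := rfl
theorem F105074 : act 6 n68900 = n32045 := d10_2 (iv6 F50668) D68900 (iv4 D32045)
def n68901 : Q := act 7 n32041
theorem D68901 : act 7 n32041 = n68901 := rfl
theorem F105075 : act 3 n68901 = n32059 := d8_1 D68901 (iv7 D32059) (iv3 F50667)
theorem F105076 : act 5 n68901 = n32042 := d13_1 D68901 (iv7 D32042) D32041
def n68902 : Q := act 4 n32044
theorem D68902 : act 4 n32044 = n68902 := rfl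
theorem F105077 : act 2 n68902 = n54376 := d1_1 D68902 (iv4 D54376) (iv2 F50672)
theorem F105078 : act 7 n68902 = n55619 := d11_2 (iv7 F50670) D68902 (iv4 D55619)
def n68903 : Q := act 6 n32044
theorem D68903 : act 6 n32044 = n68903 := rfl
theorem F105079 : act 2 n68903 = n54377 := d3_1 D68903 (iv6 D54377) (iv2 F50672)
theorem F105080 : act 5 n68903 = n33296 := d12_1 D68903 (iv6 D33296) D33295 F52532 F50671
def n68904 : Q := act 0 n32045
theorem D68904 : act 0 n32045 = n68904 := rfl
theorem F105081 : act 5 n68904 = n37560 := d17_3 F74424 F72633 D68904 F58445 F30970 F35164 D47065 F74317 D47152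
theorem F105082 : act 3 n37561 = n68904 := d6_3 F105081 (iv3 D37560) D37561
def n68905 : Q := act 1 n32045
theorem D68905 : act 1 n32045 = n68905 := rfl
theorem F105083 : act 4 n32508 = n68905 := d20_6 D15457 F33978 F33975 F51591 (iv1 F51589) (iv3 F51585) (iv1 D68905) (iv4 D32045) F24728 F20643
theorem F105084 : act 5 n68905 = n47128 := d16_3 (iv4 D32507) D32508 F105083 (iv4 D47128) (iv5 D22675) (iv4 F32538) (iv5 F67742) F67743 (iv2 F51582)
def n68906 : Q := act 3 n32045
theorem D68906 : act 3 n32045 = n68906 := rfl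
theorem F105085 : act 4 n68906 = n32060 := d5_2 D32045 D68906 (iv3 D32060) (iv4 D15124) (iv3 F24728)
def n68907 : Q := act 0 n32047
theorem D68907 : act 0 n32047 = n68907 := rfl
def n68909 : Q := act 2 n32047
theorem D68909 : act 2 n32047 = n68909 := rfl
def n68910 : Q := act 4 n32047
theorem D68910 : act 4 n32047 = n68910 := rfl
def n68911 : Q := act 5 n32047
theorem D68911 : act 5 n32047 = n68911 := rfl
theorem F105086 : act 3 n68911 = n32049 := d6_1 D68911 (iv5 D32049) D32047
def n68912 : Q := act 6 n32047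
theorem D68912 : act 6 n32047 = n68912 := rfl
theorem F105087 : act 3 n68912 = n32050 := d7_1 D68912 (iv6 D32050) D32047
def n68914 : Q := act 1 n32048
theorem D68914 : act 1 n32048 = n68914 := rfl
theorem F105089 : act 1 n68914 = n32053 := d15_1 D68914 (iv7 F85377) F85376
def n68917 : Q := act 6 n32048
theorem D68917 : act 6 n32048 = n68917 := rfl
theorem F105090 : act 4 n68917 = n32050 := d10_1 D68917 (iv6 D32050) D32048
def n68918 : Q := act 0 n32049
theorem D68918 : act 0 n32049 = n68918 := rfl
theorem F105091 : act 5 n68918 = n54313 := d21_2 D32049 D68918 (iv6 D54313) (iv1 D26254) (iv6 D12445) F9173 (iv1 F3946) D3312 D7185 D15120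
theorem F105092 : act 1 n32054 = n68918 := d15_0 (iv0 D68918) (iv7 F85389) F85387
theorem F105093 : act 0 n32254 = n54313 := d21_10 (iv5 F105091) (iv1 F105092) (iv5 D32054) (iv6 F51223) (iv1 D26661) D26663 (iv5 F54516) F87313 (iv5 D32253) D32254
def n68919 : Q := act 1 n32049
theorem D68919 : act 1 n32049 = n68919 := rfl
theorem F105094 : act 1 n68919 = n32054 := d15_1 D68919 (iv7 F85379) F85378
def n68920 : Q := act 4 n32049
theorem D68920 : act 4 n32049 = n68920 := rfl
def n68921 : Q := act 6 n32049
theorem D68921 : act 6 n32049 = n68921 := rfl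
theorem F105095 : act 7 n68921 = n33816 := d14_2 F85389 D68921 (iv6 D33816) (iv7 F42664) (iv6 F85388)
def n68922 : Q := act 0 n32050
theorem D68922 : act 0 n32050 = n68922 := rfl
theorem F105096 : act 1 n33915 = n68922 := d15_0 (iv0 D68922) (iv7 F87272) F87270
def n68923 : Q := act 1 n32050
theorem D68923 : act 1 n32050 = n68923 := rfl
theorem F105097 : act 1 n68923 = n33915 := d15_1 D68923 (iv7 F85381) F85380
def n68924 : Q := act 0 n32052
theorem D68924 : act 0 n32052 = n68924 := rfl
def n68925 : Q := act 1 n32052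
theorem D68925 : act 1 n32052 = n68925 := rfl
def n68926 : Q := act 2 n32052
theorem D68926 : act 2 n32052 = n68926 := rfl
def n68927 : Q := act 4 n32052
theorem D68927 : act 4 n32052 = n68927 := rfl
def n68928 : Q := act 5 n32052
theorem D68928 : act 5 n32052 = n68928 := rfl
theorem F105098 : act 3 n68928 = n32054 := d6_1 D68928 (iv5 D32054) D32052
theorem F105099 : act 6 n33812 = n68928 := d7_0 F105098 (iv6 F50675) D33812
def n68930 : Q := act 5 n32053
theorem D68930 : act 5 n32053 = n68930 := rfl
theorem F105100 : act 0 n67347 = n68930 := d21_7 (iv5 F85618) F85622 F51198 (iv6 F41116) (iv1 F41118) D31308 D67347 (iv5 D68930) (iv6 F87279) F87281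
theorem F105101 : act 4 n32254 = n67346 := d17_9 (iv1 D67346) D67347 F105100 (iv5 D68930) (iv4 D32053) D32054 F105092 F105091 (iv0 F105093)
theorem F105102 : act 6 n67346 = n32252 := d10_2 D32254 F105101 (iv4 D32252)
def n68931 : Q := act 4 n32054
theorem D68931 : act 4 n32054 = n68931 := rfl
def n68932 : Q := act 2 n32056
theorem D68932 : act 2 n32056 = n68932 := rfl
theorem F105104 : act 7 n32057 = n68932 := d15_2 (iv0 D32056) D32057 (iv2 D68932)
def n68933 : Q := act 3 n32056
theorem D68933 : act 3 n32056 = n68933 := rfl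
def n68934 : Q := act 4 n32056
theorem D68934 : act 4 n32056 = n68934 := rfl
def n68935 : Q := act 5 n32056
theorem D68935 : act 5 n32056 = n68935 := rfl
theorem F105105 : act 6 n68935 = n32310 := d21_3 D15122 D32056 D68935 (iv1 D32310) (iv6 D15229) D15228 D32306 (iv5 F51222) F51223 (iv1 D15121)
def n68936 : Q := act 6 n32056
theorem D68936 : act 6 n32056 = n68936 := rfl
theorem F105106 : act 5 n68936 = n56004 := d21_6 F21310 F20642 D7187 (iv6 F24730) D32056 D68936 (iv1 D56004) F43655 (iv6 D17026) (iv1 F21308)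
def n68937 : Q := act 7 n32056
theorem D68937 : act 7 n32056 = n68937 := rfl
theorem F105107 : act 2 n68937 = n32057 := d4_1 D68937 F105104 (iv2 D68932)
def n68938 : Q := act 3 n32057
theorem D68938 : act 3 n32057 = n68938 := rfl
def n68939 : Q := act 4 n32057
theorem D68939 : act 4 n32057 = n68939 := rfl
def n68940 : Q := act 6 n32057
theorem D68940 : act 6 n32057 = n68940 := rfl
def n68941 : Q := act 0 n32058
theorem D68941 : act 0 n32058 = n68941 := rfl
def n68942 : Q := act 1 n32058
theorem D68942 : act 1 n32058 = n68942 := rfl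
def n68943 : Q := act 3 n32058
theorem D68943 : act 3 n32058 = n68943 := rfl
theorem F105108 : act 6 n68943 = n32060 := d7_2 (iv6 F50676) D68943 (iv3 D32060)
def n68944 : Q := act 5 n32058
theorem D68944 : act 5 n32058 = n68944 := rfl
def n68945 : Q := act 7 n32058
theorem D68945 : act 7 n32058 = n68945 := rfl
theorem F105109 : act 4 n68945 = n32059 := d11_1 D68945 (iv7 D32059) D32058
def n68946 : Q := act 6 n32059
theorem D68946 : act 6 n32059 = n68946 := rfl
theorem F105110 : act 7 n68946 = n32063 := d14_2 D32059 D68946 (iv6 D32063) (iv7 D15125) (iv6 F24730)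
theorem F105111 : act 0 n55091 = n68946 := d21_4 F25854 (iv1 F21118) D26624 D55091 (iv6 D68946) F50677 (iv1 F41520) D54099 F85388 (iv1 F42662)
def n68947 : Q := act 2 n32060
theorem D68947 : act 2 n32060 = n68947 := rfl
theorem F105112 : act 5 n68947 = n37296 := d2_2 F71214 D68947 (iv2 F71217)
theorem F105113 : act 0 n37229 = n68947 := d19_0 F105112 F58254 F56866 (iv1 F56845) F56847 F28865 (iv3 F14060) (iv1 F21821) F21823 F13885 (iv3 D4011) (iv1 D1740) (iv5 F1897) D2047 F3339 D4948 (iv5 F16011) (iv4 F29071) (iv3 F58187)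
def n68948 : Q := act 7 n32060
theorem D68948 : act 7 n32060 = n68948 := rfl
theorem F105114 : act 3 n68948 = n32062 := d8_1 D68948 (iv7 D32062) D32060
theorem F105115 : act 5 n68948 = n37297 := d13_1 D68948 (iv7 F71215) F71214
theorem F105116 : act 1 n37229 = n68948 := d15_1 (iv0 F105113) (iv7 D68948) D68947
def n68949 : Q := act 6 n32061
theorem D68949 : act 6 n32061 = n68949 := rfl
theorem F105117 : act 2 n68949 = n54849 := d3_1 D68949 (iv6 D54849) (iv2 F50678)
theorem F105118 : act 4 n68949 = n32724 := d10_1 D68949 (iv6 D32724) (iv4 F50679)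
def n68950 : Q := act 6 n32062
theorem D68950 : act 6 n32062 = n68950 := rfl
theorem F105119 : act 4 n68950 = n32063 := d10_1 D68950 (iv6 D32063) (iv4 F50682)
def n68951 : Q := act 1 n32063
theorem D68951 : act 1 n32063 = n68951 := rfl
theorem F105120 : act 7 n68951 = n55091 := d15_2 (iv0 F53141) D68951 F87127
def n68952 : Q := act 3 n32064
theorem D68952 : act 3 n32064 = n68952 := rfl
theorem F105121 : act 7 n68952 = n32144 := d8_2 (iv7 F50686) D68952 (iv3 D32144)
def n68953 : Q := act 6 n32064
theorem D68953 : act 6 n32064 = n68953 := rfl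
theorem F105122 : act 2 n68953 = n32196 := d3_1 D68953 (iv6 D32196) (iv2 F50685)
theorem F105123 : act 4 n68953 = n32065 := d10_1 D68953 (iv6 D32065) D32064
def n68954 : Q := act 0 n32065
theorem D68954 : act 0 n32065 = n68954 := rfl
def n68955 : Q := act 1 n32065
theorem D68955 : act 1 n32065 = n68955 := rfl
theorem F105124 : act 1 n68955 = n32207 := d15_1 D68955 F51146 (iv2 F50689)
def n68956 : Q := act 5 n32065
theorem D68956 : act 5 n32065 = n68956 := rfl
theorem F105125 : act 2 n68956 = n32210 := d2_1 D68956 (iv5 D32210) (iv2 F50689)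
theorem F105126 : act 3 n68956 = n33287 := d6_1 D68956 (iv5 F85405) F85404
theorem F105127 : act 6 n68956 = n32066 := d12_2 D32065 D68956 (iv5 D32066) (iv6 D15127) D15126
def n68957 : Q := act 7 n32065
theorem D68957 : act 7 n32065 = n68957 := rfl
theorem F105128 : act 2 n68957 = n32207 := d4_1 D68957 F51146 (iv2 F50689)
theorem F105129 : act 6 n68957 = n32149 := d14_1 D68957 (iv7 D32149) (iv6 D15175) (iv7 F24735) D32065
theorem F105130 : act 1 n32207 = n68954 := d15_0 (iv0 D68954) D68957 F105128
theorem F105131 : act 1 n32209 = n68957 := d15_1 D32209 (iv7 D68957) F50689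
theorem F105132 : act 1 n68957 = n32208 := d15_0 (iv0 D32208) (iv7 F51146) (iv2 F105128)
def n68958 : Q := act 4 n32066
theorem D68958 : act 4 n32066 = n68958 := rfl
theorem F105133 : act 2 n68958 = n32215 := d1_1 D68958 (iv4 D32215) (iv2 F50690)
theorem F105134 : act 7 n68958 = n33359 := d11_2 (iv7 F50692) D68958 (iv4 D33359)
theorem F105135 : act 1 n68958 = n33756 := d18_6 D26349 (iv4 F42093) F45937 F45934 D32066 D68958 F86059 (iv0 D54489) (iv5 D26352)
theorem F105136 : act 1 n33757 = n68958 := d15_1 D33757 F105134 F52594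
def n68959 : Q := act 6 n32067
theorem D68959 : act 6 n32067 = n68959 := rfl
theorem F105137 : act 3 n68959 = n32072 := d7_1 D68959 (iv6 D32072) (iv3 F50695)
def n68960 : Q := act 0 n32071
theorem D68960 : act 0 n32071 = n68960 := rfl
theorem F105138 : act 4 n68960 = n32386 := d18_3 F50758 D32071 D68960 (iv5 D32386) (iv4 F27138) (iv0 F50811) (iv4 F50816) F41178 (iv5 F50349)
theorem F105139 : act 2 n32094 = n68960 := d15_3 (iv0 D68960) (iv0 F104503) F104502
theorem F105140 : act 1 n32099 = n68960 := d15_0 (iv0 D68960) F50701 (iv2 F51040)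
theorem F105141 : act 7 n68960 = n32095 := d15_2 F104504 F105140 (iv2 F104501)
def n68961 : Q := act 3 n32071
theorem D68961 : act 3 n32071 = n68961 := rfl
theorem F105142 : act 7 n68961 = n32117 := d8_2 (iv7 F50701) D68961 (iv3 D32117)
def n68962 : Q := act 5 n32071
theorem D68962 : act 5 n32071 = n68962 := rfl
theorem F105143 : act 2 n68962 = n32097 := d2_1 D68962 (iv5 D32097) (iv2 F50700)
theorem F105144 : act 7 n68962 = n32118 := d13_2 (iv7 F50701) D68962 (iv5 D32118)
def n68963 : Q := act 6 n32071
theorem D68963 : act 6 n32071 = n68963 := rfl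
theorem F105145 : act 2 n68963 = n32098 := d3_1 D68963 (iv6 D32098) (iv2 F50700)
theorem F105146 : act 4 n68963 = n32072 := d10_1 D68963 (iv6 D32072) D32071
def n68964 : Q := act 0 n32072
theorem D68964 : act 0 n32072 = n68964 := rfl
def n68965 : Q := act 1 n32072
theorem D68965 : act 1 n32072 = n68965 := rfl
def n68966 : Q := act 7 n32072
theorem D68966 : act 7 n32072 = n68966 := rfl
theorem F105148 : act 2 n68966 = n32102 := d4_1 D68966 (iv7 D32102) (iv2 F50702)
theorem F105149 : act 6 n68966 = n32123 := d14_1 D68966 (iv7 D32123) (iv6 D15165) (iv7 F24748) D32072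
theorem F105150 : act 1 n32102 = n68964 := d15_0 (iv0 D68964) D68966 F105148
theorem F105151 : act 1 n32101 = n68966 := d15_1 D32101 (iv7 D68966) F50702
theorem F105152 : act 1 n68966 = n32100 := d15_0 (iv0 D32100) D32102 (iv2 F105148)
def n68967 : Q := act 6 n32079
theorem D68967 : act 6 n32079 = n68967 := rfl
theorem F105153 : act 4 n68967 = n32080 := d10_1 D68967 (iv6 D32080) D32079
def n68968 : Q := act 0 n32080
theorem D68968 : act 0 n32080 = n68968 := rfl
def n68969 : Q := act 1 n32080
theorem D68969 : act 1 n32080 = n68969 := rfl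
def n68970 : Q := act 7 n32080
theorem D68970 : act 7 n32080 = n68970 := rfl
theorem F105154 : act 3 n68970 = n32102 := d8_1 D68970 (iv7 D32102) (iv3 F50711)
theorem F105155 : act 5 n68970 = n32102 := d13_1 D68970 (iv7 D32102) (iv5 F51010)
def n68971 : Q := act 4 n32084
theorem D68971 : act 4 n32084 = n68971 := rfl
theorem F105156 : act 2 n68971 = n59897 := d1_1 D68971 F94378 (iv2 F50715)
theorem F105157 : act 7 n68971 = n59898 := d11_2 (iv7 F50717) D68971 F94381
theorem F105158 : act 0 n68971 = n59887 := d18_2 (iv1 F51111) D68971 (iv4 D59887) (iv5 F50947) D31547 (iv0 F49886) (iv4 F27115) (iv0 F49873) (iv5 F51109)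
theorem F105159 : act 1 n68971 = n59885 := d18_6 F54301 (iv4 F54303) F50302 F26587 D32084 D68971 (iv4 D59885) (iv0 D28445) (iv5 D13566)
def n68972 : Q := act 6 n32084
theorem D68972 : act 6 n32084 = n68972 := rfl
theorem F105160 : act 2 n68972 = n68823 := d3_1 D68972 (iv6 D68823) (iv2 F50715)
theorem F105161 : act 3 n68972 = n54006 := d7_1 D68972 (iv6 D54006) (iv3 F50716)
theorem F105162 : act 5 n68972 = n54538 := d12_1 D68972 (iv6 D54538) (iv5 D26374) (iv6 F26808) D32084
def n68973 : Q := act 5 n32085
theorem D68973 : act 5 n32085 = n68973 := rfl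
theorem F105163 : act 2 n68973 = n53880 := d2_1 D68973 F84952 (iv2 F50718)
theorem F105164 : act 3 n68973 = n59869 := d6_1 D68973 (iv5 D59869) (iv3 F50719)
theorem F105165 : act 7 n68973 = n59854 := d13_2 (iv7 F50721) D68973 (iv5 D59854)
theorem F105166 : act 0 n68973 = n48910 := d17_2 F54312 D68973 F77118 (iv4 D31552) (iv5 F50964) (iv0 D28445) (iv5 D13566) (iv0 F54308) (iv4 F45957)
theorem F105167 : act 1 n68973 = n67883 := d17_6 (iv1 F50812) (iv5 F51089) (iv1 F51093) (iv5 D32086) D32085 D68973 (iv5 D67883) (iv0 F49886) (iv4 F27115)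
theorem F105168 : act 4 n68973 = n32154 := d18_5 (iv1 F11518) D7197 (iv1 F24754) D32085 D68973 F51120 (iv4 D15183) F24736 (iv5 D15126)
def n68974 : Q := act 4 n32086
theorem D68974 : act 4 n32086 = n68974 := rfl
theorem F105169 : act 2 n68974 = n59898 := d1_1 D68974 F94381 (iv2 F50724)
theorem F105170 : act 7 n68974 = n59897 := d11_2 (iv7 F50726) D68974 F94378
theorem F105172 : act 1 n68974 = n59887 := d18_6 (iv1 F54309) (iv4 F45957) F54312 (iv4 D32085) D32086 D68974 (iv4 D59887) F45977 F22734
def n68975 : Q := act 6 n32086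
theorem D68975 : act 6 n32086 = n68975 := rfl
theorem F105173 : act 2 n68975 = n68552 := d3_1 D68975 (iv6 D68552) (iv2 F50724)
theorem F105174 : act 3 n68975 = n54035 := d7_1 D68975 (iv6 D54035) (iv3 F50725)
theorem F105175 : act 5 n68975 = n33407 := d12_1 D68975 (iv6 D33407) (iv5 D16131) (iv6 F26817) D32086
def n68976 : Q := act 6 n32087
theorem D68976 : act 6 n32087 = n68976 := rfl
theorem F105176 : act 2 n68976 = n68959 := d3_1 D68976 (iv6 D68959) (iv2 F50727)
theorem F105177 : act 3 n68976 = n32090 := d7_1 D68976 (iv6 D32090) (iv3 F50728)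
theorem F105178 : act 5 n68976 = n68959 := d12_1 D68976 (iv6 D68959) (iv5 D32067) (iv6 F50744) D32087
def n68977 : Q := act 4 n32088
theorem D68977 : act 4 n32088 = n68977 := rfl
theorem F105179 : act 2 n68977 = n59860 := d1_1 D68977 F94316 F51021
theorem F105180 : act 7 n68977 = n59859 := d11_2 (iv7 F51019) D68977 F94311
theorem F105181 : act 0 n68977 = n59847 := d18_2 (iv1 F51018) D68977 (iv4 D59847) (iv5 D28402) (iv4 F54303) (iv0 F50722) (iv4 D32085) F24754 D15162
theorem F105182 : act 1 n68977 = n59864 := d18_6 D26050 (iv4 F41183) (iv1 F50089) F50086 (iv5 F51020) D68977 F94323 F54316 F24632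
def n68978 : Q := act 6 n32088
theorem D68978 : act 6 n32088 = n68978 := rfl
theorem F105183 : act 2 n68978 = n68800 := d3_1 D68978 (iv6 D68800) F51021
theorem F105184 : act 3 n68978 = n54039 := d7_1 D68978 (iv6 D54039) F51022
def n68979 : Q := act 3 n32089
theorem D68979 : act 3 n32089 = n68979 := rfl
def n68980 : Q := act 6 n32089
theorem D68980 : act 6 n32089 = n68980 := rfl
theorem F105185 : act 2 n68980 = n68967 := d3_1 D68980 (iv6 D68967) (iv2 F51023)
theorem F105186 : act 4 n68980 = n32090 := d10_1 D68980 (iv6 D32090) D32089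
def n68981 : Q := act 0 n32090
theorem D68981 : act 0 n32090 = n68981 := rfl
def n68982 : Q := act 1 n32090
theorem D68982 : act 1 n32090 = n68982 := rfl
theorem F105187 : act 1 n68982 = n68970 := d15_1 D68982 (iv7 D68970) (iv2 F51025)
def n68983 : Q := act 7 n32090
theorem D68983 : act 7 n32090 = n68983 := rfl
theorem F105188 : act 2 n68983 = n68970 := d4_1 D68983 (iv7 D68970) (iv2 F51025)
theorem F105189 : act 5 n68983 = n68966 := d13_1 D68983 (iv7 D68966) (iv5 F51026)
theorem F105190 : act 1 n68970 = n68981 := d15_0 (iv0 D68981) D68983 F105188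
theorem F105191 : act 1 n68969 = n68983 := d15_1 D68969 (iv7 D68983) F51025
theorem F105192 : act 1 n68983 = n68968 := d15_0 (iv0 D68968) D68970 (iv2 F105188)
def n68984 : Q := act 6 n32091
theorem D68984 : act 6 n32091 = n68984 := rfl
theorem F105193 : act 2 n68984 = n32115 := d3_1 D68984 (iv6 D32115) (iv2 F51027)
def n68985 : Q := act 3 n32092
theorem D68985 : act 3 n32092 = n68985 := rfl
def n68986 : Q := act 5 n32092
theorem D68986 : act 5 n32092 = n68986 := rfl
theorem F105194 : act 2 n68986 = n67868 := d2_1 D68986 (iv5 D67868) (iv2 F51032)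
theorem F105195 : act 4 n68986 = n67886 := d16_2 D32092 D68986 (iv5 D67886) (iv4 D31558) (iv5 D14861) (iv4 F20501) (iv5 F24708) F24709 (iv2 F50751)
def n68987 : Q := act 6 n32092
theorem D68987 : act 6 n32092 = n68987 := rfl
theorem F105196 : act 2 n68987 = n67869 := d3_1 D68987 (iv6 D67869) (iv2 F51032)
theorem F105197 : act 4 n68987 = n32093 := d10_1 D68987 (iv6 D32093) D32092
def n68988 : Q := act 0 n32093
theorem D68988 : act 0 n32093 = n68988 := rfl
def n68989 : Q := act 1 n32093
theorem D68989 : act 1 n32093 = n68989 := rfl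
theorem F105198 : act 1 n68989 = n67872 := d15_1 D68989 (iv7 D67872) (iv2 F51033)
def n68990 : Q := act 7 n32093
theorem D68990 : act 7 n32093 = n68990 := rfl
theorem F105199 : act 2 n68990 = n67872 := d4_1 D68990 (iv7 D67872) (iv2 F51033)
theorem F105200 : act 1 n67872 = n68988 := d15_0 (iv0 D68988) D68990 F105199
theorem F105201 : act 1 n67871 = n68990 := d15_1 D67871 (iv7 D68990) F51033
theorem F105202 : act 1 n68990 = n67870 := d15_0 (iv0 D67870) D67872 (iv2 F105199)
def n68991 : Q := act 3 n32094
theorem D68991 : act 3 n32094 = n68991 := rfl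
theorem F105203 : act 4 n68991 = n32404 := d5_2 (iv4 F51034) D68991 (iv3 D32404) (iv4 D15302) (iv3 F24878)
def n68992 : Q := act 5 n32094
theorem D68992 : act 5 n32094 = n68992 := rfl
theorem F105204 : act 1 n68992 = n51011 := d17_8 (iv1 F103944) (iv5 D67886) (iv1 F51024) (iv5 F94400) F94402 (iv5 D32118) F51042 D68992 (iv4 F81342)
def n68993 : Q := act 6 n32094
theorem D68993 : act 6 n32094 = n68993 := rfl
theorem F105205 : act 4 n68993 = n32391 := d10_1 D68993 F51446 (iv4 F51034)
def n68994 : Q := act 3 n32095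
theorem D68994 : act 3 n32095 = n68994 := rfl
def n68995 : Q := act 5 n32095
theorem D68995 : act 5 n32095 = n68995 := rfl
theorem F105206 : act 0 n68995 = n51011 := d17_2 (iv1 F51035) D68995 (iv5 F80466) (iv4 D32140) (iv5 F27101) F50810 (iv5 F24708) (iv0 F50760) D15164
def n68996 : Q := act 6 n32095
theorem D68996 : act 6 n32095 = n68996 := rfl
def n68997 : Q := act 6 n32096
theorem D68997 : act 6 n32096 = n68997 := rfl
theorem F105207 : act 3 n68997 = n32098 := d7_1 D68997 (iv6 D32098) D32096
def n68998 : Q := act 0 n32097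
theorem D68998 : act 0 n32097 = n68998 := rfl
theorem F105208 : act 5 n68998 = n32153 := d17_1 D68998 (iv1 F51119) D32166 (iv4 F94394) (iv5 D59916) (iv0 D28459) D28462 (iv0 F81304) F81302
theorem F105209 : act 1 n32118 = n68998 := d15_0 (iv0 D68998) (iv7 F93192) (iv2 F93193)
def n68999 : Q := act 1 n32097
theorem D68999 : act 1 n32097 = n68999 := rfl
theorem F105210 : act 1 n68999 = n32118 := d15_1 D68999 (iv7 F105144) F105143
theorem F105211 : act 5 n68999 = n32154 := d17_7 (iv1 D7204) (iv5 D3317) D3314 D7193 D15148 D32097 D68999 F51120 (iv4 D15183)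
def n69000 : Q := act 6 n32097
theorem D69000 : act 6 n32097 = n69000 := rfl
theorem F105212 : act 3 n69000 = n59252 := d7_1 D69000 (iv6 D59252) (iv3 F51038)
def n69001 : Q := act 0 n32098
theorem D69001 : act 0 n32098 = n69001 := rfl
def n69002 : Q := act 1 n32098
theorem D69002 : act 1 n32098 = n69002 := rfl
def n69003 : Q := act 5 n32098
theorem D69003 : act 5 n32098 = n69003 := rfl
def n69004 : Q := act 7 n32098
theorem D69004 : act 7 n32098 = n69004 := rfl
theorem F105213 : act 4 n69004 = n32102 := d11_1 D69004 (iv7 D32102) (iv4 F51039)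
def n69005 : Q := act 6 n32099
theorem D69005 : act 6 n32099 = n69005 := rfl
theorem F105214 : act 2 n69005 = n32119 := d3_1 D69005 (iv6 D32119) (iv2 F51040)
theorem F105215 : act 4 n69005 = n32103 := d10_1 D69005 (iv6 D32103) (iv4 F51041)
def n69006 : Q := act 2 n32100
theorem D69006 : act 2 n32100 = n69006 := rfl
theorem F105216 : act 7 n32101 = n69006 := d15_2 (iv0 D32100) D32101 (iv2 D69006)
def n69007 : Q := act 3 n32100
theorem D69007 : act 3 n32100 = n69007 := rfl
def n69008 : Q := act 4 n32100
theorem D69008 : act 4 n32100 = n69008 := rfl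
def n69009 : Q := act 5 n32100
theorem D69009 : act 5 n32100 = n69009 := rfl
def n69010 : Q := act 6 n32100
theorem D69010 : act 6 n32100 = n69010 := rfl
def n69011 : Q := act 7 n32100
theorem D69011 : act 7 n32100 = n69011 := rfl
theorem F105217 : act 2 n69011 = n32101 := d4_1 D69011 F105216 (iv2 D69006)
def n69013 : Q := act 4 n32101
theorem D69013 : act 4 n32101 = n69013 := rfl
def n69014 : Q := act 5 n32101
theorem D69014 : act 5 n32101 = n69014 := rfl
def n69015 : Q := act 6 n32101
theorem D69015 : act 6 n32101 = n69015 := rfl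
def n69016 : Q := act 6 n32102
theorem D69016 : act 6 n32102 = n69016 := rfl
theorem F105218 : act 2 n69016 = n32123 := d3_1 D69016 (iv6 F105149) F105148
theorem F105219 : act 7 n69016 = n32103 := d14_2 D32102 D69016 (iv6 D32103) (iv7 D15150) D15149
theorem F105220 : act 1 n32121 = n69016 := d15_1 D32121 F105219 F51043
def n69017 : Q := act 0 n32103
theorem D69017 : act 0 n32103 = n69017 := rfl
def n69018 : Q := act 1 n32103
theorem D69018 : act 1 n32103 = n69018 := rfl
theorem F105223 : act 1 n69018 = n32123 := d15_1 D69018 (iv7 D32123) (iv2 F51043)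
def n69019 : Q := act 5 n32103
theorem D69019 : act 5 n32103 = n69019 := rfl
theorem F105224 : act 2 n69019 = n32122 := d2_1 D69019 (iv5 D32122) (iv2 F51043)

end Cfsg.Agent.Helper17.ONTC
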