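import Cfsg.Agent.Helper17.ONTC.Facts14

set_option autoImplicit false
set_option linter.all false

noncomputable section

namespace Cfsg.Agent.Helper17.ONTC

theorem F105225 : act 6 n69019 = n32106 := d12_2 D32103 D69019 (iv5 D32106) (iv6 D15155) (iv5 F24762)
theorem F105226 : act 4 n34884 = n69019 := d10_3 F105225 F54192 D34884
def n69020 : Q := act 6 n32107
theorem D69020 : act 6 n32107 = n69020 := rfl
theorem F105227 : act 2 n69020 = n68411 := d3_1 D69020 (iv6 D68411) (iv2 F51047)
theorem F105228 : act 5 n69020 = n33504 := d12_1 D69020 (iv6 D33504) (iv5 D16184) (iv6 F41334) D32107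
def n69021 : Q := act 6 n32108
theorem D69021 : act 6 n32108 = n69021 := rfl
theorem F105229 : act 2 n69021 = n32111 := d3_1 D69021 (iv6 D32111) (iv2 F51051)
theorem F105230 : act 3 n69021 = n68984 := d7_1 D69021 (iv6 D68984) (iv3 F51052)
def n69022 : Q := act 5 n32109
theorem D69022 : act 5 n32109 = n69022 := rfl
theorem F105231 : act 2 n69022 = n32113 := d2_1 D69022 (iv5 D32113) (iv2 F51055)
theorem F105232 : act 3 n69022 = n32135 := d6_1 D69022 F51079 (iv3 F51056)
theorem F105233 : act 7 n69022 = n32113 := d13_2 (iv7 F51058) D69022 (iv5 D32113)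
theorem F105234 : act 0 n69022 = n32510 := d17_2 (iv1 F54353) D69022 (iv5 D32510) (iv4 D15387) D15388 F51589 F51588 F46891 (iv4 F46880)
theorem F105235 : act 1 n69022 = n32510 := d17_6 F51695 D35028 F55624 (iv5 D32113) (iv4 F51057) D69022 (iv5 D32510) (iv0 F54087) F54089
def n69023 : Q := act 3 n32110
theorem D69023 : act 3 n32110 = n69023 := rfl
theorem F105236 : act 4 n69023 = n32117 := d5_2 D32110 D69023 (iv3 D32117) (iv4 D15164) (iv3 F24767)
def n69024 : Q := act 5 n32110
theorem D69024 : act 5 n32110 = n69024 := rfl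
theorem F105237 : act 0 n69024 = n67976 := d17_2 (iv1 F51059) D69024 (iv5 D67976) (iv4 D31636) (iv5 F50449) F20628 D26126 F41389 D31841
theorem F105238 : act 1 n69024 = n67968 := d17_6 (iv1 D68611) (iv5 D31923) F24794 D15160 D32110 D69024 (iv5 D67968) D67966 F104811
def n69025 : Q := act 6 n32110
theorem D69025 : act 6 n32110 = n69025 := rfl
theorem F105239 : act 4 n69025 = n32111 := d10_1 D69025 (iv6 D32111) D32110
def n69026 : Q := act 0 n32111
theorem D69026 : act 0 n32111 = n69026 := rfl
def n69027 : Q := act 1 n32111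
theorem D69027 : act 1 n32111 = n69027 := rfl
def n69028 : Q := act 5 n32111
theorem D69028 : act 5 n32111 = n69028 := rfl
theorem F105240 : act 3 n69028 = n32122 := d6_1 D69028 (iv5 D32122) (iv3 F51061)
theorem F105241 : act 6 n69028 = n32113 := d12_2 D32111 D69028 (iv5 D32113) (iv6 D15161) D15160
def n69029 : Q := act 7 n32111
theorem D69029 : act 7 n32111 = n69029 := rfl
theorem F105242 : act 3 n69029 = n32123 := d8_1 D69029 (iv7 D32123) (iv3 F51061)
def n69030 : Q := act 5 n32112
theorem D69030 : act 5 n32112 = n69030 := rfl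
theorem F105243 : act 2 n69030 = n35042 := d2_1 D69030 F55660 (iv2 F54354)
theorem F105244 : act 3 n69030 = n33128 := d6_1 D69030 (iv5 D33128) (iv3 F54355)
theorem F105245 : act 7 n69030 = n35042 := d13_2 (iv7 F54358) D69030 F55660
theorem F105246 : act 4 n69030 = n32517 := d16_2 (iv4 F54356) D69030 F51594 D45074 F70961 (iv4 D32515) (iv5 F41399) F50566 (iv2 F50565)
def n69031 : Q := act 4 n32113
theorem D69031 : act 4 n32113 = n69031 := rfl
theorem F105247 : act 3 n69031 = n35947 := d5_1 D69031 (iv4 D35947) (iv3 F54191) (iv4 D32134) (iv3 F51063)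
theorem F105248 : act 0 n69031 = n32512 := d18_2 F55624 D69031 (iv4 D32512) (iv5 D15388) D15387 (iv0 F54087) F54089 (iv0 F51696) D35028
theorem F105249 : act 5 n69031 = n44638 := d18_4 D45076 F70964 F55624 D69031 (iv4 F71414) F71418 (iv4 D45074) (iv0 D21520) D21521
theorem F105250 : act 1 n69031 = n32512 := d18_6 F46890 (iv4 F46880) (iv1 F54353) F51057 D32113 D69031 (iv4 D32512) F51589 F51588
def n69032 : Q := act 6 n32114
theorem D69032 : act 6 n32114 = n69032 := rfl
theorem F105251 : act 4 n69032 = n32115 := d10_1 D69032 (iv6 D32115) D32114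
def n69033 : Q := act 0 n32115
theorem D69033 : act 0 n32115 = n69033 := rfl
def n69034 : Q := act 1 n32115
theorem D69034 : act 1 n32115 = n69034 := rfl
def n69035 : Q := act 5 n32115
theorem D69035 : act 5 n32115 = n69035 := rfl
theorem F105252 : act 3 n69035 = n69019 := d6_1 D69035 (iv5 D69019) (iv3 F51066)
theorem F105253 : act 6 n69035 = n32116 := d12_2 D32115 D69035 (iv5 D32116) (iv6 D15163) D15162
theorem F105254 : act 4 n52624 = n69035 := d10_3 F105253 F54028 D52624
def n69036 : Q := act 7 n32115
theorem D69036 : act 7 n32115 = n69036 := rfl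
theorem F105255 : act 3 n69036 = n69016 := d8_1 D69036 F105219 (iv3 F51066)
theorem F105256 : act 6 n69036 = n68970 := d14_1 D69036 (iv7 D68970) (iv6 D32080) F24786 D32115
def n69037 : Q := act 0 n32117
theorem D69037 : act 0 n32117 = n69037 := rfl
def n69038 : Q := act 1 n32117
theorem D69038 : act 1 n32117 = n69038 := rfl
def n69039 : Q := act 2 n32117
theorem D69039 : act 2 n32117 = n69039 := rfl
theorem F105257 : act 3 n69039 = n51019 := d0_2 D32117 D69039 F82054 (iv3 F82052) F51040
theorem F105258 : act 5 n52221 = n69039 := d6_0 F105257 F80478 D52221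
def n69040 : Q := act 5 n32117
theorem D69040 : act 5 n32117 = n69040 := rfl
theorem F105259 : act 2 n69040 = n52221 := d2_1 D69040 F105258 (iv2 D69039)
theorem F105260 : act 3 n69040 = n32118 := d6_1 D69040 (iv5 D32118) D32117
theorem F105261 : act 4 n52264 = n69040 := d1_0 F105259 F82571 D52264
theorem F105262 : act 6 n52242 = n69040 := d3_0 F105259 F82572 D52242
def n69041 : Q := act 6 n32117
theorem D69041 : act 6 n32117 = n69041 := rfl
theorem F105263 : act 3 n69041 = n32119 := d7_1 D69041 (iv6 D32119) D32117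
def n69042 : Q := act 6 n32118
theorem D69042 : act 6 n32118 = n69042 := rfl
theorem F105264 : act 2 n69042 = n52220 := d3_1 D69042 (iv6 F93191) (iv2 F93193)
theorem F105265 : act 3 n69042 = n52242 := d7_1 D69042 F105262 F105260
theorem F105266 : act 4 n69042 = n64069 := d10_1 D69042 F99662 F94402
def n69043 : Q := act 0 n32119
theorem D69043 : act 0 n32119 = n69043 := rfl
def n69044 : Q := act 1 n32119
theorem D69044 : act 1 n32119 = n69044 := rfl
def n69045 : Q := act 5 n32119
theorem D69045 : act 5 n32119 = n69045 := rfl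
def n69046 : Q := act 7 n32119
theorem D69046 : act 7 n32119 = n69046 := rfl
theorem F105267 : act 4 n69046 = n32123 := d11_1 D69046 (iv7 D32123) (iv4 F51069)
def n69047 : Q := act 2 n32120
theorem D69047 : act 2 n32120 = n69047 := rfl
theorem F105268 : act 7 n32121 = n69047 := d15_2 (iv0 D32120) D32121 (iv2 D69047)
def n69051 : Q := act 6 n32120
theorem D69051 : act 6 n32120 = n69051 := rfl
def n69052 : Q := act 7 n32120
theorem D69052 : act 7 n32120 = n69052 := rfl
theorem F105269 : act 2 n69052 = n32121 := d4_1 D69052 F105268 (iv2 D69047)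
def n69053 : Q := act 3 n32121
theorem D69053 : act 3 n32121 = n69053 := rfl
def n69054 : Q := act 4 n32121
theorem D69054 : act 4 n32121 = n69054 := rfl
def n69055 : Q := act 5 n32121
theorem D69055 : act 5 n32121 = n69055 := rfl
theorem F105270 : act 6 n33618 = n69055 := d21_5 (iv5 D15455) (iv1 F54072) D16648 F27285 D33618 (iv5 D69055) (iv1 D32121) D32122 F51070 F54071
def n69056 : Q := act 6 n32121
theorem D69056 : act 6 n32121 = n69056 := rfl
def n69057 : Q := act 0 n32122
theorem D69057 : act 0 n32122 = n69057 := rfl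
def n69058 : Q := act 1 n32122
theorem D69058 : act 1 n32122 = n69058 := rfl
def n69059 : Q := act 4 n32122
theorem D69059 : act 4 n32122 = n69059 := rfl
theorem F105271 : act 2 n69059 = n34884 := d1_1 D69059 F105226 F105224
theorem F105272 : act 6 n69059 = n32134 := d10_2 (iv6 F51070) D69059 (iv4 D32134)
theorem F105273 : act 3 n35948 = n69059 := d7_3 F105272 F54191 D35948
def n69060 : Q := act 7 n32122
theorem D69060 : act 7 n32122 = n69060 := rfl
theorem F105274 : act 5 n69060 = n32123 := d13_1 D69060 (iv7 D32123) D32122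
def n69061 : Q := act 4 n32131
theorem D69061 : act 4 n32131 = n69061 := rfl
theorem F105275 : act 2 n69061 = n35059 := d1_1 D69061 (iv4 D35059) (iv2 F54365)
theorem F105276 : act 5 n69061 = n52621 := d9_2 D32131 D69061 (iv4 D52621) (iv5 F51649) (iv4 D32594) (iv5 F28410) F28409 (iv5 F43300) F43299 (iv5 F42810) F42809 (iv5 F77582) (iv4 F85798) F85799 F54184
theorem F105277 : act 7 n69061 = n52928 := d11_2 F54536 D69061 F83642
theorem F105278 : act 0 n69061 = n52875 := d17_0 (iv5 D52875) (iv1 D25664) D25665 (iv4 F41849) (iv5 D26284) (iv0 F54085) D34360 (iv0 F54525) D69061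
theorem F105279 : act 1 n69061 = n52812 := d18_6 (iv1 F54175) F56716 (iv1 F56714) F54184 D32131 D69061 F83446 (iv0 F54172) F41816
theorem F105280 : act 3 n69061 = n52937 := d20_9 F83190 (iv1 D52645) (iv4 D25551) F20090 (iv1 F18273) (iv3 F37457) (iv4 F54530) F54532 D69061 (iv1 F83656)
def n69062 : Q := act 6 n32131
theorem D69062 : act 6 n32131 = n69062 := rfl
theorem F105281 : act 2 n69062 = n35060 := d3_1 D69062 (iv6 D35060) (iv2 F54365)
theorem F105282 : act 5 n69062 = n33485 := d12_1 D69062 (iv6 D33485) (iv5 D16169) (iv6 F50988) D32131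
def n69063 : Q := act 6 n32133
theorem D69063 : act 6 n32133 = n69063 := rfl
theorem F105283 : act 2 n69063 = n54371 := d3_1 D69063 (iv6 D54371) (iv2 F54214)
theorem F105284 : act 3 n69063 = n55620 := d7_1 D69063 (iv6 D55620) (iv3 F54215)
theorem F105285 : act 5 n69063 = n33561 := d12_1 D69063 (iv6 D33561) D33560 F52857 F51077
def n69064 : Q := act 6 n32135
theorem D69064 : act 6 n32135 = n69064 := rfl
theorem F105286 : act 2 n69064 = n69035 := d3_1 D69064 F105253 (iv2 F51078)
theorem F105287 : act 5 n69064 = n68984 := d12_1 D69064 (iv6 D68984) F51028 F50748 (iv5 F51079)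
def n69065 : Q := act 4 n32136
theorem D69065 : act 4 n32136 = n69065 := rfl
theorem F105288 : act 2 n69065 = n67966 := d1_1 D69065 F104811 F104810
theorem F105289 : act 7 n69065 = n32163 := d11_2 (iv7 F51083) D69065 (iv4 D32163)
theorem F105290 : act 0 n69065 = n53973 := d18_2 (iv1 F51085) D69065 (iv4 D53973) F50429 (iv4 F24693) (iv0 F24755) (iv4 F24777) F24797 D31835
def n69066 : Q := act 6 n32136
theorem D69066 : act 6 n32136 = n69066 := rfl
theorem F105292 : act 3 n69066 = n32138 := d7_1 D69066 (iv6 D32138) D32136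
def n69067 : Q := act 0 n32137
theorem D69067 : act 0 n32137 = n69067 := rfl
theorem F105293 : act 4 n69067 = n59854 := d18_3 D15172 D32137 D69067 (iv5 D59854) F45951 F26978 F24780 (iv0 F24779) D7202
theorem F105294 : act 1 n32140 = n69067 := d15_0 (iv0 D69067) F51087 (iv2 F51095)
theorem F105295 : act 2 n32153 = n69067 := d1_3 F105293 F94300 (iv4 F51118)
theorem F105296 : act 7 n32154 = n69067 := d11_0 F105293 (iv7 F105165) F105168
def n69068 : Q := act 1 n32137
theorem D69068 : act 1 n32137 = n69068 := rfl
theorem F105297 : act 1 n69068 = n32140 := d15_1 D69068 F51096 (iv2 F51086)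
theorem F105298 : act 7 n69068 = n32153 := d15_2 (iv0 D69067) D69068 F105295
theorem F105299 : act 4 n69068 = n53880 := d18_7 (iv1 D15294) (iv4 F12056) D16664 F41170 F50957 D32137 D69068 (iv0 F84954) F54266
theorem F105300 : act 2 n32154 = n69068 := d1_3 F105299 (iv2 F105163) F105168
def n69069 : Q := act 3 n32137
theorem D69069 : act 3 n32137 = n69069 := rfl
theorem F105301 : act 7 n69069 = n32165 := d8_2 (iv7 F51087) D69069 (iv3 D32165)
def n69070 : Q := act 5 n32137
theorem D69070 : act 5 n32137 = n69070 := rfl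
theorem F105302 : act 2 n69070 = n32156 := d2_1 D69070 (iv5 D32156) (iv2 F51086)
theorem F105303 : act 7 n69070 = n32166 := d13_2 (iv7 F51087) D69070 (iv5 D32166)
theorem F105304 : act 0 n69070 = n68995 := d17_2 (iv1 D69068) D69070 (iv5 D68995) (iv4 F104500) (iv5 D68325) F50089 (iv5 F51134) F84955 (iv4 F105299)
theorem F105305 : act 1 n69070 = n68992 := d17_6 D15146 F50753 (iv1 F41177) F50957 D32137 D69070 (iv5 D68992) (iv0 D32094) (iv4 D15148)
def n69071 : Q := act 6 n32137
theorem D69071 : act 6 n32137 = n69071 := rfl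
theorem F105306 : act 2 n69071 = n32157 := d3_1 D69071 (iv6 D32157) (iv2 F51086)
theorem F105307 : act 4 n69071 = n32138 := d10_1 D69071 (iv6 D32138) D32137
def n69072 : Q := act 0 n32138
theorem D69072 : act 0 n32138 = n69072 := rfl
def n69073 : Q := act 1 n32138
theorem D69073 : act 1 n32138 = n69073 := rfl
theorem F105308 : act 1 n69073 = n32161 := d15_1 D69073 (iv7 D32161) (iv2 F51088)
def n69074 : Q := act 5 n32138
theorem D69074 : act 5 n32138 = n69074 := rfl
theorem F105309 : act 2 n69074 = n32160 := d2_1 D69074 (iv5 D32160) (iv2 F51088)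
theorem F105310 : act 6 n69074 = n32973 := d12_2 D32138 D69074 (iv5 F54469) F54470 F50957
def n69075 : Q := act 7 n32138
theorem D69075 : act 7 n32138 = n69075 := rfl
theorem F105311 : act 2 n69075 = n32161 := d4_1 D69075 (iv7 D32161) (iv2 F51088)
theorem F105312 : act 6 n69075 = n32171 := d14_1 D69075 (iv7 D32171) (iv6 D15185) (iv7 F50005) D32138
theorem F105313 : act 1 n32161 = n69072 := d15_0 (iv0 D69072) D69075 F105311
theorem F105314 : act 1 n32159 = n69075 := d15_1 D32159 (iv7 D69075) F51088
theorem F105315 : act 1 n69075 = n32158 := d15_0 (iv0 D32158) D32161 (iv2 F105311)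
def n69076 : Q := act 6 n32139
theorem D69076 : act 6 n32139 = n69076 := rfl
theorem F105316 : act 3 n69076 = n32141 := d7_1 D69076 (iv6 D32141) D32139
theorem F105317 : act 4 n69076 = n59918 := d10_1 D69076 (iv6 D59918) (iv4 F51091)
theorem F105318 : act 5 n69076 = n61481 := d12_1 D69076 (iv6 D61481) (iv5 D29101) D29102 (iv5 F51089)
def n69077 : Q := act 6 n32140
theorem D69077 : act 6 n32140 = n69077 := rfl
theorem F105319 : act 2 n69077 = n32167 := d3_1 D69077 (iv6 D32167) (iv2 F51095)
theorem F105320 : act 4 n69077 = n32141 := d10_1 D69077 (iv6 D32141) D32140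
def n69078 : Q := act 0 n32141
theorem D69078 : act 0 n32141 = n69078 := rfl
def n69079 : Q := act 1 n32141
theorem D69079 : act 1 n32141 = n69079 := rfl
def n69080 : Q := act 7 n32141
theorem D69080 : act 7 n32141 = n69080 := rfl
theorem F105322 : act 2 n69080 = n32171 := d4_1 D69080 (iv7 D32171) (iv2 F51097)
theorem F105323 : act 6 n69080 = n32161 := d14_1 D69080 (iv7 D32161) (iv6 D15180) (iv7 F50002) D32141
theorem F105324 : act 1 n32171 = n69078 := d15_0 (iv0 D69078) D69080 F105322
theorem F105325 : act 1 n32169 = n69080 := d15_1 D32169 (iv7 D69080) F51097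
theorem F105326 : act 1 n69080 = n32168 := d15_0 (iv0 D32168) D32171 (iv2 F105322)
def n69081 : Q := act 3 n32142
theorem D69081 : act 3 n32142 = n69081 := rfl
theorem F105327 : act 7 n69081 = n32178 := d8_2 (iv7 F77122) D69081 (iv3 D32178)
def n69082 : Q := act 5 n32142
theorem D69082 : act 5 n32142 = n69082 := rfl
theorem F105328 : act 2 n69082 = n32175 := d2_1 D69082 (iv5 D32175) (iv2 F77121)
theorem F105329 : act 7 n69082 = n32180 := d13_2 (iv7 F77122) D69082 (iv5 D32180)
theorem F105330 : act 0 n69082 = n68741 := d17_2 D32142 D69082 (iv5 D68741) (iv4 D31983) F24708 D26047 F50957 (iv0 D15172) D15174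
theorem F105331 : act 1 n69082 = n68986 := d17_6 (iv1 F51441) (iv5 D32386) (iv1 F50151) (iv5 F77118) F77120 D69082 (iv5 D68986) (iv0 F94304) (iv4 D59855)
def n69083 : Q := act 6 n32142
theorem D69083 : act 6 n32142 = n69083 := rfl
theorem F105332 : act 2 n69083 = n32176 := d3_1 D69083 (iv6 D32176) (iv2 F77121)
def n69084 : Q := act 3 n32143
theorem D69084 : act 3 n32143 = n69084 := rfl
theorem F105333 : act 7 n69084 = n32173 := d8_2 (iv7 F77125) D69084 (iv3 D32173)
def n69085 : Q := act 5 n32143
theorem D69085 : act 5 n32143 = n69085 := rfl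
theorem F105334 : act 2 n69085 = n32180 := d2_1 D69085 (iv5 D32180) (iv2 F77124)
theorem F105335 : act 7 n69085 = n32175 := d13_2 (iv7 F77125) D69085 (iv5 D32175)
theorem F105336 : act 0 n69085 = n68986 := d17_2 (iv1 F51099) D69085 (iv5 D68986) (iv4 D32092) F50753 (iv0 F50809) F27101 F24803 (iv4 F24811)
theorem F105337 : act 1 n69085 = n68741 := d17_6 F51031 (iv5 D31794) F49886 D67883 F103937 D69085 (iv5 D68741) (iv0 F94349) (iv4 D59876)
def n69086 : Q := act 6 n32143
theorem D69086 : act 6 n32143 = n69086 := rfl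
theorem F105338 : act 2 n69086 = n32181 := d3_1 D69086 (iv6 D32181) (iv2 F77124)
def n69087 : Q := act 0 n32144
theorem D69087 : act 0 n32144 = n69087 := rfl
def n69088 : Q := act 1 n32144
theorem D69088 : act 1 n32144 = n69088 := rfl
def n69089 : Q := act 2 n32144
theorem D69089 : act 2 n32144 = n69089 := rfl
theorem F105339 : act 3 n69089 = n32184 := d0_2 D32144 D69089 (iv2 D32184) (iv3 D15188) (iv2 F24804)
def n69090 : Q := act 5 n32144
theorem D69090 : act 5 n32144 = n69090 := rfl
theorem F105340 : act 3 n69090 = n32145 := d6_1 D69090 (iv5 D32145) D32144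
def n69091 : Q := act 6 n32144
theorem D69091 : act 6 n32144 = n69091 := rfl
theorem F105341 : act 3 n69091 = n32146 := d7_1 D69091 (iv6 D32146) D32144
def n69092 : Q := act 0 n32145
theorem D69092 : act 0 n32145 = n69092 := rfl
theorem F105342 : act 5 n69092 = n67867 := d17_3 (iv1 D32143) D32145 D69092 (iv4 F103924) F51450 (iv0 F50722) D68973 F105167 F103937
theorem F105343 : act 1 n32191 = n69092 := d15_0 (iv0 D69092) (iv7 F94408) F94404
theorem F105344 : act 3 n51822 = n69092 := d19_19 (iv1 F105343) F51140 F24811 F11528 (iv1 F9162) F9164 (iv4 D5112) (iv3 F7623) (iv1 F11399) (iv5 F18324) F18323 F11435 (iv1 F7724) F7725 (iv4 F8570) D11948 D25167 (iv5 F81881) D51822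
theorem F105345 : act 2 n32187 = n69092 := d2_3 F105342 F103925 F94303
theorem F105346 : act 7 n32188 = n69092 := d13_0 F105342 F103923 F94348
theorem F105347 : act 7 n51822 = n50761 := d8_2 F105346 (iv3 F105344) F81307
theorem E9506 : n50764 = n25158 := (c11_3 F105347 (iv4 D50761) D50764 D51822)
theorem E9507 : n51820 = n24708 := ((D51820).symm.trans (sb E9506 F80141))
theorem E9508 : n50740 = n25167 := (((F81881).symm.trans (sb E9506 F81311))).symm
theorem F105348 : act 2 n24708 = n25158 := (sb E9507 (iv2 D51820))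
theorem E9510 : n51843 = n24699 := ((((iv5 F81312)).symm.trans (sb E9507 (iv5 F81882)))).symm
theorem E9511 : n50759 = n25159 := ((F80140).symm.trans (sb E9507 (iv7 F81842)))
theorem E9512 : n51848 = n24698 := ((D51848).symm.trans (sb E9508 (iv7 D50740)))
theorem F105350 : act 2 n24699 = n25167 := (sb E9510 (iv2 D51843))
theorem E9513 : n50735 = n25168 := ((F80123).symm.trans (sb E9510 (iv7 F81870)))
theorem F105351 : act 2 n25159 = n24707 := (sb E9511 (iv2 D50759))
theorem F105352 : act 7 n25159 = n24708 := (sb E9511 (iv7 F80140))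
theorem F105353 : act 7 n24698 = n25167 := (sb E9512 (iv7 D51848))
theorem F105354 : act 2 n25168 = n24698 := (sb E9513 (iv2 D50735))
theorem F105355 : act 7 n25168 = n24699 := (sb E9513 (iv7 F80123))
theorem F105356 : act 7 n50741 = n51849 := d8_2 F105355 D50741 (iv3 D51849)
theorem F105357 : act 7 n50742 = n51850 := d11_2 F105355 D50742 (iv4 D51850)
theorem F105358 : act 7 n51826 = n50765 := d13_2 F105356 F81885 F81313
theorem F105359 : act 2 n50737 = n51850 := d1_3 (iv4 D51850) F105354 D50737
theorem F105360 : act 2 n50739 = n51852 := d3_3 (iv6 D51852) F105354 D50739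
theorem F105361 : act 7 n51844 = n50736 := d8_2 F105353 D51844 (iv3 D50736)
theorem F105362 : act 7 n51845 = n50737 := d11_2 F105353 D51845 (iv4 D50737)
theorem F105363 : act 2 n50742 = n51845 := d4_3 F105362 F105359 (iv7 F105357)
theorem F105364 : act 1 n50742 = n59306 := d15_0 (iv0 F93529) (iv7 F105362) (iv2 F105363)
theorem F105365 : act 0 n50741 = n58935 := d20_10 (iv4 D58935) D58932 F93143 (iv3 F45334) (iv1 F45336) D28153 D59306 (iv1 F105364) (iv4 D50742) D50741
theorem F105366 : act 7 n51771 = n50603 := d11_2 F105361 F81761 (iv4 F81871)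
theorem F105367 : act 7 n50760 = n51821 := d13_2 F105361 (iv5 F81310) (iv5 F81880)
theorem F105368 : act 7 n50676 = n51701 := d11_2 F105367 F81843 (iv4 F81634)
theorem F105369 : act 2 n51701 = n50675 := d15_3 (iv0 D50675) D50676 F105368
theorem F105370 : act 2 n50676 = n51700 := d15_3 (iv0 D51700) D51701 (iv7 F105368)
theorem F105371 : act 7 n51700 = n50675 := d4_2 (iv7 F105368) F105370 (iv2 F105369)
theorem F105372 : act 2 n51894 = n50760 := d1_3 F81634 F105369 (iv4 F81931)
theorem F105373 : act 2 n51826 = n50791 := d0_5 (iv3 F81932) F105372 (iv3 D50760) (iv2 F105351) D51826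
theorem E9514 : n51895 = n51821 := (c15_2 (iv0 D51894) D51895 (iv7 F105367) (iv2 F105372))
theorem F105374 : act 0 n51821 = n25182 := (sb E9514 (iv1 D51895))
theorem F105375 : act 2 n50603 = n51770 := d15_3 (iv0 D51770) D51771 F105366
theorem F105376 : act 2 n51771 = n50602 := d15_3 (iv0 D50602) D50603 (iv7 F105366)
theorem F105377 : act 7 n50602 = n51770 := d4_2 (iv7 F105366) F105376 (iv2 F105375)
theorem F105378 : act 2 n50813 = n51844 := d1_3 F81871 F105375 (iv4 F81760)
theorem F105379 : act 2 n50741 = n51872 := d0_5 (iv3 F81916) F105378 (iv3 D51844) (iv2 F105350) D50741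
theorem E9515 : n50814 = n50736 := (c15_2 (iv0 D50813) D50814 (iv7 F105361) (iv2 F105378))
theorem F105380 : act 0 n50736 = n24723 := (sb E9515 (iv1 D50814))
theorem F105381 : act 7 n50766 = n51827 := d11_2 F105352 D50766 (iv4 D51827)
theorem F105382 : act 2 n50761 = n51827 := d1_3 (iv4 D51827) F105351 D50761
theorem F105384 : act 2 n50766 = n51822 := d4_3 F105347 F105382 (iv7 F105381)
theorem F105385 : act 1 n51827 = n59073 := d15_0 (iv0 F93254) F105347 F105382
theorem F105386 : act 0 n51826 = n59184 := d20_10 (iv4 D59184) (iv1 F93266) (iv4 D59094) F45334 (iv1 F45328) D28065 D59073 (iv1 F105385) (iv4 D51827) D51826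
theorem F105388 : act 2 n51824 = n50768 := d3_3 (iv6 D50768) F105348 D51824
def n69093 : Q := act 1 n32145
theorem D69093 : act 1 n32145 = n69093 := rfl
theorem F105389 : act 1 n69093 = n32191 := d15_1 D69093 (iv7 D32191) (iv2 F51100)
theorem F105390 : act 7 n69093 = n32187 := d15_2 (iv0 D69092) D69093 F105345
theorem F105391 : act 5 n69093 = n67866 := d17_7 F50756 F24762 F24781 D7202 D15174 D32145 D69093 (iv0 D67866) (iv4 D31540)
theorem F105392 : act 2 n32188 = n69093 := d2_3 F105391 (iv2 F103921) F94348
def n69094 : Q := act 6 n32145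
theorem D69094 : act 6 n32145 = n69094 := rfl
theorem F105393 : act 2 n69094 = n32190 := d3_1 D69094 (iv6 D32190) (iv2 F51100)
def n69095 : Q := act 0 n32146
theorem D69095 : act 0 n32146 = n69095 := rfl
def n69096 : Q := act 1 n32146
theorem D69096 : act 1 n32146 = n69096 := rfl
theorem F105394 : act 1 n69096 = n32195 := d15_1 D69096 (iv7 D32195) (iv2 F51101)
def n69097 : Q := act 5 n32146
theorem D69097 : act 5 n32146 = n69097 := rfl
theorem F105395 : act 2 n69097 = n32194 := d2_1 D69097 (iv5 D32194) (iv2 F51101)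
def n69098 : Q := act 7 n32146
theorem D69098 : act 7 n32146 = n69098 := rfl
theorem F105396 : act 2 n69098 = n32195 := d4_1 D69098 (iv7 D32195) (iv2 F51101)
theorem F105397 : act 4 n69098 = n32149 := d11_1 D69098 (iv7 D32149) (iv4 F51102)
theorem F105398 : act 1 n32195 = n69095 := d15_0 (iv0 D69095) D69098 F105396
theorem F105399 : act 1 n32193 = n69098 := d15_1 D32193 (iv7 D69098) F51101
theorem F105400 : act 1 n69098 = n32192 := d15_0 (iv0 D32192) D32195 (iv2 F105396)
def n69099 : Q := act 2 n32147
theorem D69099 : act 2 n32147 = n69099 := rfl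
def n69100 : Q := act 3 n32147
theorem D69100 : act 3 n32147 = n69100 := rfl
def n69101 : Q := act 4 n32147
theorem D69101 : act 4 n32147 = n69101 := rfl
def n69102 : Q := act 5 n32147
theorem D69102 : act 5 n32147 = n69102 := rfl
def n69103 : Q := act 6 n32147
theorem D69103 : act 6 n32147 = n69103 := rfl
def n69104 : Q := act 7 n32147
theorem D69104 : act 7 n32147 = n69104 := rfl
def n69105 : Q := act 3 n32148
theorem D69105 : act 3 n32148 = n69105 := rfl
theorem F105403 : act 4 n69105 = n59929 := d20_6 (iv4 F43130) (iv1 F41658) F24826 (iv3 F24812) (iv1 F51103) D69105 (iv1 D59929) F45986 F22731 D13575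
def n69106 : Q := act 4 n32148
theorem D69106 : act 4 n32148 = n69106 := rfl
def n69107 : Q := act 6 n32148
theorem D69107 : act 6 n32148 = n69107 := rfl
def n69108 : Q := act 6 n32150
theorem D69108 : act 6 n32150 = n69108 := rfl
theorem F105404 : act 2 n69108 = n32152 := d3_1 D69108 (iv6 D32152) D32150
theorem F105405 : act 4 n69108 = n59917 := d10_1 D69108 (iv6 D59917) F51112
theorem F105406 : act 5 n69108 = n33755 := d12_1 D69108 (iv6 D33755) (iv5 F54100) F54101 (iv5 F51109)
def n69109 : Q := act 6 n32151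
theorem D69109 : act 6 n32151 = n69109 := rfl
theorem F105407 : act 2 n69109 = n59917 := d3_1 D69109 (iv6 D59917) (iv2 F51113)
theorem F105408 : act 4 n69109 = n32152 := d10_1 D69109 (iv6 D32152) D32151
def n69110 : Q := act 0 n32152
theorem D69110 : act 0 n32152 = n69110 := rfl
def n69111 : Q := act 1 n32152
theorem D69111 : act 1 n32152 = n69111 := rfl
def n69112 : Q := act 5 n32152
theorem D69112 : act 5 n32152 = n69112 := rfl
theorem F105409 : act 2 n69112 = n33755 := d2_1 D69112 (iv5 F105406) F105404
theorem F105410 : act 3 n69112 = n32160 := d6_1 D69112 (iv5 D32160) (iv3 F51117)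
theorem F105411 : act 6 n69112 = n32213 := d12_2 D32152 D69112 (iv5 F54550) (iv6 D34383) F50823
def n69113 : Q := act 7 n32152
theorem D69113 : act 7 n32152 = n69113 := rfl
theorem F105412 : act 3 n69113 = n32161 := d8_1 D69113 (iv7 D32161) (iv3 F51117)
def n69114 : Q := act 3 n32153
theorem D69114 : act 3 n32153 = n69114 := rfl
theorem F105413 : act 4 n69114 = n68342 := d5_2 (iv4 F51118) D69114 (iv3 D68342) (iv4 D31803) D31802
def n69115 : Q := act 6 n32153
theorem D69115 : act 6 n32153 = n69115 := rfl
theorem F105414 : act 4 n69115 = n68341 := d10_1 D69115 (iv6 D68341) (iv4 F51118)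
def n69116 : Q := act 3 n32154
theorem D69116 : act 3 n32154 = n69116 := rfl
def n69117 : Q := act 6 n32154
theorem D69117 : act 6 n32154 = n69117 := rfl
def n69118 : Q := act 6 n32155
theorem D69118 : act 6 n32155 = n69118 := rfl
theorem F105415 : act 3 n69118 = n32157 := d7_1 D69118 (iv6 D32157) D32155
def n69119 : Q := act 0 n32156
theorem D69119 : act 0 n32156 = n69119 := rfl
theorem F105416 : act 5 n69119 = n68326 := d17_3 (iv1 D32154) D32156 D69119 (iv4 D68326) (iv5 D31794) (iv0 F50150) (iv5 F77118) (iv0 F105166) F105168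
theorem F105417 : act 1 n32166 = n69119 := d15_0 (iv0 D69119) (iv7 F80465) F80467
theorem F105418 : act 2 n68995 = n69119 := d2_3 F105416 F104501 D68995
theorem F105419 : act 7 n68992 = n69119 := d13_0 F105416 F104502 D68992
def n69120 : Q := act 1 n32156
theorem D69120 : act 1 n32156 = n69120 := rfl
theorem F105420 : act 1 n69120 = n32166 := d15_1 D69120 (iv7 F105303) F105302
theorem F105421 : act 7 n69120 = n68995 := d15_2 (iv0 D69119) D69120 F105418
theorem F105422 : act 5 n69120 = n68960 := d17_7 (iv1 F50757) (iv5 D14856) D14853 (iv5 F50821) D15178 D32156 D69120 (iv0 D68960) (iv4 D32071)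
theorem F105423 : act 2 n68992 = n69120 := d2_3 F105422 (iv2 F105139) D68992
def n69121 : Q := act 6 n32156
theorem D69121 : act 6 n32156 = n69121 := rfl
theorem F105424 : act 3 n69121 = n51944 := d7_1 D69121 (iv6 D51944) (iv3 F51123)
def n69122 : Q := act 0 n32157
theorem D69122 : act 0 n32157 = n69122 := rfl
def n69123 : Q := act 1 n32157
theorem D69123 : act 1 n32157 = n69123 := rfl
def n69124 : Q := act 5 n32157
theorem D69124 : act 5 n32157 = n69124 := rfl
def n69125 : Q := act 7 n32157
theorem D69125 : act 7 n32157 = n69125 := rfl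
theorem F105425 : act 4 n69125 = n32161 := d11_1 D69125 (iv7 D32161) (iv4 F51124)
def n69126 : Q := act 2 n32158
theorem D69126 : act 2 n32158 = n69126 := rfl
theorem F105426 : act 7 n32159 = n69126 := d15_2 (iv0 D32158) D32159 (iv2 D69126)
def n69127 : Q := act 3 n32158
theorem D69127 : act 3 n32158 = n69127 := rfl
def n69128 : Q := act 4 n32158
theorem D69128 : act 4 n32158 = n69128 := rfl
def n69129 : Q := act 5 n32158
theorem D69129 : act 5 n32158 = n69129 := rfl
def n69130 : Q := act 6 n32158
theorem D69130 : act 6 n32158 = n69130 := rfl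
theorem F105427 : act 5 n69130 = n68982 := d21_6 (iv5 D14856) D14853 (iv5 F50821) D15180 D32158 D69130 (iv1 D68982) F51026 (iv6 D32072) (iv1 F50757)
def n69131 : Q := act 7 n32158
theorem D69131 : act 7 n32158 = n69131 := rfl
theorem F105428 : act 2 n69131 = n32159 := d4_1 D69131 F105426 (iv2 D69126)
def n69132 : Q := act 3 n32159
theorem D69132 : act 3 n32159 = n69132 := rfl
def n69133 : Q := act 4 n32159
theorem D69133 : act 4 n32159 = n69133 := rfl
def n69134 : Q := act 5 n32159
theorem D69134 : act 5 n32159 = n69134 := rfl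
def n69135 : Q := act 6 n32159
theorem D69135 : act 6 n32159 = n69135 := rfl
def n69136 : Q := act 0 n32160
theorem D69136 : act 0 n32160 = n69136 := rfl
theorem F105429 : act 6 n69136 = n33544 := d21_5 F25602 (iv1 F54098) (iv5 F86166) (iv6 F86171) D69136 (iv5 D33544) (iv1 D16204) D16205 F25763 F54107
def n69137 : Q := act 1 n32160
theorem D69137 : act 1 n32160 = n69137 := rfl
theorem F105430 : act 5 n69051 = n69137 := d21_6 (iv5 D15126) (iv1 F11518) D7198 D15165 D32120 D69051 (iv1 D69137) (iv5 D32160) (iv6 D15180) (iv1 F24737)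
def n69138 : Q := act 4 n32160
theorem D69138 : act 4 n32160 = n69138 := rfl
theorem F105431 : act 6 n69138 = n60359 := d10_2 (iv6 F86171) D69138 F94882
def n69139 : Q := act 7 n32160
theorem D69139 : act 7 n32160 = n69139 := rfl
theorem F105432 : act 5 n69139 = n32161 := d13_1 D69139 (iv7 D32161) D32160
def n69140 : Q := act 4 n32162
theorem D69140 : act 4 n32162 = n69140 := rfl
theorem F105433 : act 2 n69140 = n32163 := d1_1 D69140 (iv4 D32163) D32162
theorem F105434 : act 7 n69140 = n67966 := d11_2 F104807 D69140 F104811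
theorem F105435 : act 0 n69140 = n53970 := d18_2 (iv1 F51126) D69140 (iv4 D53970) F50426 (iv4 F24765) (iv0 D15156) (iv4 F24791) F24790 D31828
theorem F105436 : act 1 n69140 = n53973 := d18_6 (iv1 F20566) D26100 F49918 (iv4 F49916) (iv5 F51125) D69140 (iv4 D53973) F41292 (iv5 D14879)
def n69141 : Q := act 6 n32162
theorem D69141 : act 6 n32162 = n69141 := rfl
theorem F105437 : act 2 n69141 = n32164 := d3_1 D69141 (iv6 D32164) D32162
def n69142 : Q := act 3 n32163
theorem D69142 : act 3 n32163 = n69142 := rfl
theorem F105438 : act 4 n69142 = n32165 := d5_2 D32163 D69142 (iv3 D32165) (iv4 D15183) D15182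
def n69143 : Q := act 5 n32163
theorem D69143 : act 5 n32163 = n69143 := rfl
theorem F105439 : act 0 n69143 = n67949 := d17_2 (iv1 F51130) D69143 (iv5 D67949) (iv4 D31619) (iv5 D14877) F20567 D26103 F41290 D31631
theorem F105440 : act 1 n69143 = n67938 := d17_6 (iv1 F85135) (iv5 D53966) F49918 F50965 D32163 D69143 (iv5 D67938) D67936 F104034
def n69144 : Q := act 6 n32163
theorem D69144 : act 6 n32163 = n69144 := rfl
theorem F105441 : act 4 n69144 = n32164 := d10_1 D69144 (iv6 D32164) D32163
def n69145 : Q := act 0 n32164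
theorem D69145 : act 0 n32164 = n69145 := rfl
def n69146 : Q := act 1 n32164
theorem D69146 : act 1 n32164 = n69146 := rfl
def n69147 : Q := act 5 n32164
theorem D69147 : act 5 n32164 = n69147 := rfl
theorem F105442 : act 3 n69147 = n32170 := d6_1 D69147 (iv5 D32170) (iv3 F51131)
theorem F105443 : act 6 n69147 = n61657 := d12_2 D32164 D69147 F96231 F51532 F50965
def n69148 : Q := act 7 n32164
theorem D69148 : act 7 n32164 = n69148 := rfl
theorem F105444 : act 3 n69148 = n32171 := d8_1 D69148 (iv7 D32171) (iv3 F51131)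
def n69149 : Q := act 0 n32165
theorem D69149 : act 0 n32165 = n69149 := rfl
def n69150 : Q := act 1 n32165
theorem D69150 : act 1 n32165 = n69150 := rfl
def n69151 : Q := act 2 n32165
theorem D69151 : act 2 n32165 = n69151 := rfl
theorem F105445 : act 3 n69151 = n51942 := d0_2 D32165 D69151 F82024 F80468 F51095
theorem F105446 : act 5 n51941 = n69151 := d6_0 F105445 (iv5 D51942) D51941
def n69152 : Q := act 5 n32165
theorem D69152 : act 5 n32165 = n69152 := rfl
theorem F105447 : act 2 n69152 = n51941 := d2_1 D69152 F105446 (iv2 D69151)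
theorem F105448 : act 3 n69152 = n32166 := d6_1 D69152 (iv5 D32166) D32165
def n69153 : Q := act 6 n32165
theorem D69153 : act 6 n32165 = n69153 := rfl
theorem F105449 : act 3 n69153 = n32167 := d7_1 D69153 (iv6 D32167) D32165
def n69154 : Q := act 6 n32166
theorem D69154 : act 6 n32166 = n69154 := rfl
def n69155 : Q := act 0 n32167
theorem D69155 : act 0 n32167 = n69155 := rfl
def n69156 : Q := act 1 n32167
theorem D69156 : act 1 n32167 = n69156 := rfl
def n69157 : Q := act 5 n32167
theorem D69157 : act 5 n32167 = n69157 := rfl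
def n69158 : Q := act 7 n32167
theorem D69158 : act 7 n32167 = n69158 := rfl
theorem F105450 : act 4 n69158 = n32171 := d11_1 D69158 (iv7 D32171) (iv4 F51132)
def n69159 : Q := act 2 n32168
theorem D69159 : act 2 n32168 = n69159 := rfl
theorem F105451 : act 7 n32169 = n69159 := d15_2 (iv0 D32168) D32169 (iv2 D69159)
def n69160 : Q := act 3 n32168
theorem D69160 : act 3 n32168 = n69160 := rfl
def n69161 : Q := act 4 n32168
theorem D69161 : act 4 n32168 = n69161 := rfl
def n69162 : Q := act 5 n32168
theorem D69162 : act 5 n32168 = n69162 := rfl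
def n69163 : Q := act 6 n32168
theorem D69163 : act 6 n32168 = n69163 := rfl
def n69164 : Q := act 7 n32168
theorem D69164 : act 7 n32168 = n69164 := rfl
theorem F105452 : act 2 n69164 = n32169 := d4_1 D69164 F105451 (iv2 D69159)
def n69165 : Q := act 3 n32169
theorem D69165 : act 3 n32169 = n69165 := rfl
def n69166 : Q := act 4 n32169
theorem D69166 : act 4 n32169 = n69166 := rfl
def n69167 : Q := act 5 n32169
theorem D69167 : act 5 n32169 = n69167 := rfl
def n69168 : Q := act 6 n32169
theorem D69168 : act 6 n32169 = n69168 := rfl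
def n69169 : Q := act 0 n32170
theorem D69169 : act 0 n32170 = n69169 := rfl
def n69170 : Q := act 1 n32170
theorem D69170 : act 1 n32170 = n69170 := rfl
theorem F105453 : act 5 n69010 = n69170 := d21_6 (iv5 D3317) D3314 D7193 D15149 D32100 D69010 (iv1 D69170) (iv5 D32170) (iv6 D15185) (iv1 D7204)
theorem F105454 : act 0 n33721 = n69010 := d21_10 F105453 (iv1 D69170) (iv5 D32170) (iv6 D15185) (iv1 D7204) D7206 F11527 D7580 D16289 D33721
def n69171 : Q := act 4 n32170
theorem D69171 : act 4 n32170 = n69171 := rfl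
theorem F105455 : act 6 n69171 = n61587 := d10_2 F54441 D69171 F96135
def n69172 : Q := act 7 n32170
theorem D69172 : act 7 n32170 = n69172 := rfl
theorem F105456 : act 5 n69172 = n32171 := d13_1 D69172 (iv7 D32171) D32170
def n69173 : Q := act 0 n32173
theorem D69173 : act 0 n32173 = n69173 := rfl
theorem F105457 : act 5 n69173 = n52334 := d19_1 D69173 F82715 (iv3 D25417) F20001 D23945 F37374 (iv3 F77429) (iv1 F77431) (iv5 D34956) (iv4 D16960) F12522 (iv1 D6069) F4078 (iv4 F5323) (iv3 F11559) D15293 (iv5 F51134) (iv4 D32174) D32173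
theorem F105458 : act 3 n69173 = n52335 := d20_5 F105299 (iv1 F84955) (iv4 D32174) D32173 D69173 (iv4 F100461) (iv1 F100462) (iv4 F80469) F80468 (iv1 F105297)
def n69174 : Q := act 1 n32173
theorem D69174 : act 1 n32173 = n69174 := rfl
def n69175 : Q := act 2 n32173
theorem D69175 : act 2 n32173 = n69175 := rfl
def n69176 : Q := act 4 n32173
theorem D69176 : act 4 n32173 = n69176 := rfl
def n69177 : Q := act 5 n32173
theorem D69177 : act 5 n32173 = n69177 := rfl
theorem F105459 : act 3 n69177 = n32175 := d6_1 D69177 (iv5 D32175) D32173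
def n69178 : Q := act 6 n32173
theorem D69178 : act 6 n32173 = n69178 := rfl
theorem F105460 : act 3 n69178 = n32176 := d7_1 D69178 (iv6 D32176) D32173
def n69179 : Q := act 6 n32174
theorem D69179 : act 6 n32174 = n69179 := rfl
theorem F105461 : act 4 n69179 = n32176 := d10_1 D69179 (iv6 D32176) D32174
def n69180 : Q := act 0 n32175
theorem D69180 : act 0 n32175 = n69180 := rfl
theorem F105462 : act 5 n69180 = n68739 := d17_3 D15186 D32175 D69180 (iv4 D68739) F50349 F41176 (iv5 F50821) (iv0 D7203) D7205
theorem F105463 : act 4 n69180 = n68457 := d18_1 D69180 F104657 F94394 (iv5 D32166) (iv4 D15183) F24736 D32064 F50688 D32175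
theorem F105464 : act 2 n68741 = n69180 := d15_3 (iv0 D69180) (iv0 F103926) (iv7 F104936)
theorem F105465 : act 1 n32180 = n69180 := d15_0 (iv0 D69180) (iv7 F105335) F105334
theorem F105466 : act 7 n69180 = n68986 := d15_2 F103927 F105465 F105194
theorem F105467 : act 3 n59900 = n50541 := d20_3 (iv4 F105463) (iv1 F105465) (iv4 F94383) (iv1 D50541) (iv3 D24624) (iv4 D11659) D11657 D24620 D50530 (iv1 F104658)
theorem F105468 : act 3 n51971 = n32180 := d5_5 (iv4 F94383) F105467 (iv4 F82081) (iv3 D51970) D51971
theorem F105469 : act 5 n50541 = n59899 := d6_2 D59900 F105467 (iv3 D59899)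
theorem E9516 : n51678 = n24632 := (c17_8 (iv1 F81394) F105469 F94382 (iv5 D51703) F39477 F19682 D25101 D51678 F39360 (iv4 F81390))
theorem E9517 : n50568 = n25101 := ((D50568).symm.trans (sb E9516 (iv5 D51678)))
theorem F105470 : act 5 n25101 = n24632 := (sb E9517 (iv5 D50568))
theorem F105471 : act 5 n50565 = n51675 := d2_2 F105470 (iv2 F79936) F81592
theorem F105472 : act 5 n50566 = n51676 := d6_2 F105470 D50566 (iv3 D51676)
theorem F105473 : act 5 n50560 = n51670 := d13_3 (iv7 F81591) F105470 F79935
theorem E9518 : n51673 = n24631 := (c2_3 F105473 (iv2 D51670) D51673 D50560)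
theorem E9519 : n50563 = n25100 := ((D50563).symm.trans (sb E9518 (iv5 D51673)))
theorem F105474 : act 5 n25100 = n24631 := (sb E9519 (iv5 D50563))
theorem F105475 : act 5 n50561 = n51671 := d6_2 F105474 D50561 (iv3 D51671)
theorem F105476 : act 5 n51970 = n50960 := d18_4 (iv1 F39358) (iv4 F81390) (iv1 F81394) (iv4 F82081) F81558 F81562 F79824 F39444 F105474
theorem E9520 : n50962 = n25218 := (c6_3 F105476 (iv3 D50960) D50962 D51970)
theorem E9521 : n51972 = n24781 := ((D51972).symm.trans (sb E9520 (iv5 D50962)))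
theorem F105477 : act 5 n24781 = n25218 := (sb E9521 (iv5 D51972))
theorem F105478 : act 5 n51969 = n50959 := d2_2 F105477 D51969 (iv2 D50959)
theorem F105479 : act 5 n51974 = n50964 := d13_3 (iv7 D50964) F105477 D51974
theorem E9522 : n50967 = n25219 := (c2_3 F105479 F80408 D50967 (iv2 F82082))
theorem E9523 : n51977 = n24782 := ((D51977).symm.trans (sb E9522 (iv5 D50967)))
theorem F105480 : act 5 n24782 = n25219 := (sb E9523 (iv5 D51977))
theorem F105481 : act 5 n51975 = n50965 := d6_2 F105480 D51975 (iv3 D50965)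
theorem F105482 : act 5 n32178 = n51971 := d6_0 F105468 (iv5 D32180) D32178
def n69181 : Q := act 6 n32175
theorem D69181 : act 6 n32175 = n69181 := rfl
def n69182 : Q := act 0 n32176
theorem D69182 : act 0 n32176 = n69182 := rfl
def n69183 : Q := act 1 n32176
theorem D69183 : act 1 n32176 = n69183 := rfl
def n69184 : Q := act 5 n32176
theorem D69184 : act 5 n32176 = n69184 := rfl
def n69185 : Q := act 7 n32176
theorem D69185 : act 7 n32176 = n69185 := rfl
def n69186 : Q := act 0 n32178
theorem D69186 : act 0 n32178 = n69186 := rfl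
def n69187 : Q := act 1 n32178
theorem D69187 : act 1 n32178 = n69187 := rfl
def n69188 : Q := act 2 n32178
theorem D69188 : act 2 n32178 = n69188 := rfl
def n69189 : Q := act 4 n32178
theorem D69189 : act 4 n32178 = n69189 := rfl
def n69190 : Q := act 6 n32178
theorem D69190 : act 6 n32178 = n69190 := rfl
theorem F105483 : act 3 n69190 = n32181 := d7_1 D69190 (iv6 D32181) D32178
def n69191 : Q := act 6 n32179
theorem D69191 : act 6 n32179 = n69191 := rfl
theorem F105484 : act 4 n69191 = n32181 := d10_1 D69191 (iv6 D32181) D32179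
theorem F105485 : act 5 n69191 = n62800 := d12_1 D69191 (iv6 D62800) (iv5 F54222) F54262 (iv5 F54266)
def n69192 : Q := act 6 n32180
theorem D69192 : act 6 n32180 = n69192 := rfl
def n69193 : Q := act 0 n32181
theorem D69193 : act 0 n32181 = n69193 := rfl
def n69194 : Q := act 1 n32181
theorem D69194 : act 1 n32181 = n69194 := rfl
def n69195 : Q := act 5 n32181
theorem D69195 : act 5 n32181 = n69195 := rfl
def n69196 : Q := act 7 n32181
theorem D69196 : act 7 n32181 = n69196 := rfl
def n69197 : Q := act 3 n32182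
theorem D69197 : act 3 n32182 = n69197 := rfl
def n69198 : Q := act 4 n32182
theorem D69198 : act 4 n32182 = n69198 := rfl
theorem F105486 : act 2 n69198 = n59953 := d1_1 D69198 F94439 F84786
def n69199 : Q := act 5 n32182
theorem D69199 : act 5 n32182 = n69199 := rfl
theorem F105487 : act 2 n69199 = n50997 := d2_1 D69199 (iv5 F84783) F84786
def n69200 : Q := act 6 n32182
theorem D69200 : act 6 n32182 = n69200 := rfl
def n69201 : Q := act 4 n32183
theorem D69201 : act 4 n32183 = n69201 := rfl
theorem F105488 : act 7 n69201 = n59953 := d11_2 F84784 D69201 F94439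
theorem F105489 : act 3 n48872 = n69201 := d20_5 F11284 (iv1 F10532) (iv4 F18125) (iv3 F37154) D48872 (iv4 D69201) (iv1 D32183) F24809 (iv3 D7213) (iv1 F11282)
theorem E9524 : n59956 = n48872 := (c8_1 D59956 F105489 F105488 (iv3 D59953))
theorem F105490 : act 2 n48872 = n28473 := (sb E9524 F94443)
theorem F105491 : act 5 n48872 = n65628 := (sb E9524 (iv5 F101366))
theorem F105492 : act 7 n48872 = n28472 := (sb E9524 (iv7 D59956))
theorem E9525 : n59952 = n48873 := (c15_4 F76985 F76984 F105492 D59952)
theorem F105493 : act 2 n48873 = n28472 := (sb E9525 (iv2 D59952))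
theorem F105494 : act 5 n48873 = n65624 := (sb E9525 (iv5 F101361))
theorem F105495 : act 7 n48873 = n28473 := (sb E9525 (iv7 F94438))
def n69202 : Q := act 6 n32183
theorem D69202 : act 6 n32183 = n69202 := rfl
def n69203 : Q := act 5 n32184
theorem D69203 : act 5 n32184 = n69203 := rfl
theorem F105496 : act 2 n69203 = n32185 := d2_1 D69203 (iv5 D32185) D32184
def n69204 : Q := act 6 n32184
theorem D69204 : act 6 n32184 = n69204 := rfl
theorem F105497 : act 2 n69204 = n32186 := d3_1 D69204 (iv6 D32186) D32184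
theorem F105498 : act 4 n69204 = n32273 := d10_1 D69204 (iv6 D32273) (iv4 F51136)
def n69205 : Q := act 0 n32185
theorem D69205 : act 0 n32185 = n69205 := rfl
theorem F105499 : act 2 n51919 = n69205 := d15_3 (iv0 D69205) (iv0 F78877) (iv7 F81962)
def n69206 : Q := act 4 n32185
theorem D69206 : act 4 n32185 = n69206 := rfl
def n69207 : Q := act 6 n32185
theorem D69207 : act 6 n32185 = n69207 := rfl
theorem F105500 : act 3 n69207 = n32190 := d7_1 D69207 (iv6 D32190) (iv3 F51137)
def n69208 : Q := act 0 n32186
theorem D69208 : act 0 n32186 = n69208 := rfl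
def n69209 : Q := act 1 n32186
theorem D69209 : act 1 n32186 = n69209 := rfl
def n69210 : Q := act 5 n32186
theorem D69210 : act 5 n32186 = n69210 := rfl
theorem F105501 : act 3 n69210 = n32194 := d6_1 D69210 (iv5 D32194) (iv3 F51138)
def n69211 : Q := act 7 n32186
theorem D69211 : act 7 n32186 = n69211 := rfl
theorem F105502 : act 3 n69211 = n32195 := d8_1 D69211 (iv7 D32195) (iv3 F51138)
theorem F105503 : act 4 n69211 = n32277 := d11_1 D69211 (iv7 D32277) (iv4 F51139)
def n69212 : Q := act 3 n32187
theorem D69212 : act 3 n32187 = n69212 := rfl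
def n69213 : Q := act 6 n32187
theorem D69213 : act 6 n32187 = n69213 := rfl
def n69214 : Q := act 6 n32188
theorem D69214 : act 6 n32188 = n69214 := rfl
def n69215 : Q := act 3 n32189
theorem D69215 : act 3 n32189 = n69215 := rfl
def n69216 : Q := act 6 n32189
theorem D69216 : act 6 n32189 = n69216 := rfl
theorem F105504 : act 4 n69216 = n32190 := d10_1 D69216 (iv6 D32190) D32189
def n69217 : Q := act 0 n32190
theorem D69217 : act 0 n32190 = n69217 := rfl
def n69218 : Q := act 1 n32190
theorem D69218 : act 1 n32190 = n69218 := rfl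
def n69219 : Q := act 5 n32190
theorem D69219 : act 5 n32190 = n69219 := rfl
theorem F105505 : act 6 n69219 = n32194 := d12_2 D32190 D69219 (iv5 D32194) (iv6 D15190) D15189
def n69220 : Q := act 7 n32190
theorem D69220 : act 7 n32190 = n69220 := rfl
def n69221 : Q := act 6 n32191
theorem D69221 : act 6 n32191 = n69221 := rfl
def n69222 : Q := act 2 n32192
theorem D69222 : act 2 n32192 = n69222 := rfl
theorem F105506 : act 7 n32193 = n69222 := d15_2 (iv0 D32192) D32193 (iv2 D69222)
def n69223 : Q := act 3 n32192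
theorem D69223 : act 3 n32192 = n69223 := rfl
def n69224 : Q := act 4 n32192
theorem D69224 : act 4 n32192 = n69224 := rfl
def n69225 : Q := act 5 n32192
theorem D69225 : act 5 n32192 = n69225 := rfl
def n69226 : Q := act 6 n32192
theorem D69226 : act 6 n32192 = n69226 := rfl
def n69227 : Q := act 7 n32192
theorem D69227 : act 7 n32192 = n69227 := rfl
theorem F105507 : act 2 n69227 = n32193 := d4_1 D69227 F105506 (iv2 D69222)
def n69228 : Q := act 3 n32193
theorem D69228 : act 3 n32193 = n69228 := rfl
def n69229 : Q := act 4 n32193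
theorem D69229 : act 4 n32193 = n69229 := rfl
def n69230 : Q := act 5 n32193
theorem D69230 : act 5 n32193 = n69230 := rfl
def n69231 : Q := act 6 n32193
theorem D69231 : act 6 n32193 = n69231 := rfl
def n69232 : Q := act 0 n32194
theorem D69232 : act 0 n32194 = n69232 := rfl
def n69233 : Q := act 1 n32194
theorem D69233 : act 1 n32194 = n69233 := rfl
def n69234 : Q := act 4 n32194
theorem D69234 : act 4 n32194 = n69234 := rfl
def n69235 : Q := act 7 n32194
theorem D69235 : act 7 n32194 = n69235 := rfl
theorem F105508 : act 5 n69235 = n32195 := d13_1 D69235 (iv7 D32195) D32194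
def n69236 : Q := act 6 n32195
theorem D69236 : act 6 n32195 = n69236 := rfl
theorem F105509 : act 4 n69236 = n32207 := d10_1 D69236 (iv6 D32207) (iv4 F51141)
theorem F105510 : act 7 n69236 = n32196 := d14_2 D32195 D69236 (iv6 D32196) (iv7 D15191) D15190
def n69237 : Q := act 0 n32196
theorem D69237 : act 0 n32196 = n69237 := rfl
def n69238 : Q := act 1 n32196
theorem D69238 : act 1 n32196 = n69238 := rfl
def n69239 : Q := act 5 n32196
theorem D69239 : act 5 n32196 = n69239 := rfl
def n69240 : Q := act 0 n32197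
theorem D69240 : act 0 n32197 = n69240 := rfl
theorem F105511 : act 1 n32202 = n69240 := d15_0 (iv0 D69240) (iv7 F51143) (iv2 F51144)
def n69242 : Q := act 3 n32197
theorem D69242 : act 3 n32197 = n69242 := rfl
theorem F105513 : act 7 n69242 = n32203 := d8_2 F51143 D69242 (iv3 D32203)
def n69243 : Q := act 4 n32197
theorem D69243 : act 4 n32197 = n69243 := rfl
theorem F105514 : act 2 n69243 = n32199 := d1_1 D69243 (iv4 D32199) D32197
theorem F105515 : act 7 n69243 = n32204 := d11_2 F51143 D69243 (iv4 D32204)
def n69244 : Q := act 5 n32197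
theorem D69244 : act 5 n32197 = n69244 := rfl
theorem F105516 : act 2 n69244 = n32200 := d2_1 D69244 (iv5 D32200) D32197
theorem F105517 : act 7 n69244 = n32205 := d13_2 F51143 D69244 (iv5 D32205)
def n69245 : Q := act 6 n32197
theorem D69245 : act 6 n32197 = n69245 := rfl
theorem F105518 : act 2 n69245 = n32201 := d3_1 D69245 (iv6 D32201) D32197
def n69246 : Q := act 0 n32198
theorem D69246 : act 0 n32198 = n69246 := rfl
def n69247 : Q := act 1 n32198
theorem D69247 : act 1 n32198 = n69247 := rfl
def n69248 : Q := act 2 n32198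
theorem D69248 : act 2 n32198 = n69248 := rfl
def n69249 : Q := act 4 n32198
theorem D69249 : act 4 n32198 = n69249 := rfl
theorem F105519 : act 0 n69249 = n59931 := d20_7 (iv4 F37328) (iv1 D15222) F11534 (iv3 F11526) D15192 D32198 D69249 F94413 F45988 (iv1 F37193)
theorem F105520 : act 5 n69247 = n33706 := d18_9 (iv1 D33706) D33708 F52963 F46212 (iv5 F45989) (iv4 F94413) (iv0 F105519) (iv4 D69249) D69247
def n69250 : Q := act 5 n32198
theorem D69250 : act 5 n32198 = n69250 := rfl
theorem F105521 : act 3 n69250 = n32200 := d6_1 D69250 (iv5 D32200) D32198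
def n69251 : Q := act 6 n32198
theorem D69251 : act 6 n32198 = n69251 := rfl
theorem F105522 : act 3 n69251 = n32201 := d7_1 D69251 (iv6 D32201) D32198
def n69252 : Q := act 7 n32198
theorem D69252 : act 7 n32198 = n69252 := rfl
theorem F105523 : act 3 n69252 = n32202 := d8_1 D69252 (iv7 D32202) D32198
def n69253 : Q := act 0 n32199
theorem D69253 : act 0 n32199 = n69253 := rfl
def n69254 : Q := act 1 n32199
theorem D69254 : act 1 n32199 = n69254 := rfl
theorem F105524 : act 1 n69254 = n32204 := d15_1 D69254 (iv7 F105515) F105514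
def n69255 : Q := act 3 n32199
theorem D69255 : act 3 n32199 = n69255 := rfl
def n69256 : Q := act 5 n32199
theorem D69256 : act 5 n32199 = n69256 := rfl
def n69257 : Q := act 6 n32199
theorem D69257 : act 6 n32199 = n69257 := rfl
theorem F105525 : act 4 n69257 = n32201 := d10_1 D69257 (iv6 D32201) D32199
def n69258 : Q := act 7 n32199
theorem D69258 : act 7 n32199 = n69258 := rfl
theorem F105526 : act 2 n69258 = n32204 := d4_1 D69258 (iv7 F105515) F105514
theorem F105527 : act 4 n69258 = n32202 := d11_1 D69258 (iv7 D32202) D32199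
theorem F105528 : act 1 n32204 = n69253 := d15_0 (iv0 D69253) D69258 F105526
def n69259 : Q := act 0 n32200
theorem D69259 : act 0 n32200 = n69259 := rfl
theorem F105529 : act 5 n69259 = n69056 := d21_2 D32200 D69259 (iv6 D69056) (iv1 D32121) (iv6 D15165) (iv5 D7198) (iv1 D3315) D3317 D7206 D15192
def n69260 : Q := act 1 n32200
theorem D69260 : act 1 n32200 = n69260 := rfl
theorem F105530 : act 1 n69260 = n32205 := d15_1 D69260 (iv7 F105517) F105516
def n69261 : Q := act 4 n32200
theorem D69261 : act 4 n32200 = n69261 := rfl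
def n69262 : Q := act 6 n32200
theorem D69262 : act 6 n32200 = n69262 := rfl
theorem F105531 : act 0 n69262 = n33461 := d21_4 (iv5 F11527) D15192 D32200 D69262 (iv6 D33461) D33460 F52982 (iv5 D33741) (iv6 D16295) (iv1 D7581)
def n69263 : Q := act 7 n32200
theorem D69263 : act 7 n32200 = n69263 := rfl
theorem F105532 : act 2 n69263 = n32205 := d4_1 D69263 (iv7 F105517) F105516
theorem F105533 : act 5 n69263 = n32202 := d13_1 D69263 (iv7 D32202) D32200
theorem F105534 : act 1 n32205 = n69259 := d15_0 (iv0 D69259) D69263 F105532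
def n69264 : Q := act 0 n32201
theorem D69264 : act 0 n32201 = n69264 := rfl
def n69265 : Q := act 1 n32201
theorem D69265 : act 1 n32201 = n69265 := rfl
def n69266 : Q := act 5 n32201
theorem D69266 : act 5 n32201 = n69266 := rfl
theorem F105535 : act 0 n69266 = n33414 := d21_7 (iv5 D7198) (iv1 D3315) D3317 D7206 D15192 D32201 D69266 F52685 (iv6 D32093) (iv1 F24763)
def n69267 : Q := act 7 n32201
theorem D69267 : act 7 n32201 = n69267 := rfl
def n69268 : Q := act 6 n32202
theorem D69268 : act 6 n32202 = n69268 := rfl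
theorem F105536 : act 2 n69268 = n32206 := d3_1 D69268 (iv6 D32206) (iv2 F51144)
def n69269 : Q := act 0 n32203
theorem D69269 : act 0 n32203 = n69269 := rfl
def n69270 : Q := act 1 n32203
theorem D69270 : act 1 n32203 = n69270 := rfl
def n69271 : Q := act 2 n32203
theorem D69271 : act 2 n32203 = n69271 := rfl
def n69272 : Q := act 4 n32203
theorem D69272 : act 4 n32203 = n69272 := rfl
def n69273 : Q := act 5 n32203
theorem D69273 : act 5 n32203 = n69273 := rfl
theorem F105537 : act 3 n69273 = n32205 := d6_1 D69273 (iv5 D32205) D32203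
def n69274 : Q := act 6 n32203
theorem D69274 : act 6 n32203 = n69274 := rfl
theorem F105538 : act 3 n69274 = n32206 := d7_1 D69274 (iv6 D32206) D32203
def n69275 : Q := act 3 n32204
theorem D69275 : act 3 n32204 = n69275 := rfl
def n69276 : Q := act 5 n32204
theorem D69276 : act 5 n32204 = n69276 := rfl
def n69277 : Q := act 6 n32204
theorem D69277 : act 6 n32204 = n69277 := rfl
theorem F105539 : act 4 n69277 = n32206 := d10_1 D69277 (iv6 D32206) D32204
def n69278 : Q := act 4 n32205
theorem D69278 : act 4 n32205 = n69278 := rfl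
def n69279 : Q := act 0 n32206
theorem D69279 : act 0 n32206 = n69279 := rfl
theorem F105540 : act 5 n69279 = n68981 := d21_0 (iv1 F105190) F105155 D69016 (iv1 F105220) D69056 (iv5 F105529) (iv1 F105534) (iv5 D32205) D32206 D69279
def n69280 : Q := act 1 n32206
theorem D69280 : act 1 n32206 = n69280 := rfl
def n69281 : Q := act 5 n32206
theorem D69281 : act 5 n32206 = n69281 := rfl
theorem F105541 : act 0 n69009 = n69281 := d21_1 D69009 (iv5 D69281) (iv6 D32206) (iv1 D15193) (iv6 D7206) (iv5 D3317) D3314 D7193 D15149 D32100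
def n69282 : Q := act 7 n32206
theorem D69282 : act 7 n32206 = n69282 := rfl
def n69283 : Q := act 2 n32208
theorem D69283 : act 2 n32208 = n69283 := rfl
theorem F105542 : act 7 n32209 = n69283 := d15_2 (iv0 D32208) D32209 (iv2 D69283)
def n69284 : Q := act 3 n32208
theorem D69284 : act 3 n32208 = n69284 := rfl
def n69285 : Q := act 4 n32208
theorem D69285 : act 4 n32208 = n69285 := rfl
def n69286 : Q := act 5 n32208
theorem D69286 : act 5 n32208 = n69286 := rfl
def n69287 : Q := act 6 n32208
theorem D69287 : act 6 n32208 = n69287 := rfl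
def n69288 : Q := act 7 n32208
theorem D69288 : act 7 n32208 = n69288 := rfl
theorem F105543 : act 2 n69288 = n32209 := d4_1 D69288 F105542 (iv2 D69283)
def n69289 : Q := act 3 n32209
theorem D69289 : act 3 n32209 = n69289 := rfl
def n69290 : Q := act 4 n32209
theorem D69290 : act 4 n32209 = n69290 := rfl
def n69291 : Q := act 5 n32209
theorem D69291 : act 5 n32209 = n69291 := rfl
def n69292 : Q := act 6 n32209
theorem D69292 : act 6 n32209 = n69292 := rfl
def n69293 : Q := act 0 n32210
theorem D69293 : act 0 n32210 = n69293 := rfl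
def n69294 : Q := act 1 n32210
theorem D69294 : act 1 n32210 = n69294 := rfl
def n69295 : Q := act 4 n32210
theorem D69295 : act 4 n32210 = n69295 := rfl
theorem F105544 : act 6 n69295 = n32215 := d10_2 (iv6 F51148) D69295 (iv4 D32215)
def n69296 : Q := act 5 n32211
theorem D69296 : act 5 n32211 = n69296 := rfl
theorem F105545 : act 2 n69296 = n33518 := d2_1 D69296 F52837 (iv2 F51149)
theorem F105546 : act 3 n69296 = n32212 := d6_1 D69296 (iv5 D32212) D32211
theorem F105547 : act 7 n69296 = n33506 := d13_2 (iv7 F51151) D69296 (iv5 D33506)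
theorem F105548 : act 0 n69296 = n33516 := d17_2 (iv1 F51153) D69296 (iv5 F55629) F55627 (iv5 F50644) F42009 (iv5 D16452) (iv0 F27200) (iv4 F25370)
theorem F105549 : act 1 n69296 = n33515 := d17_6 F95991 (iv5 F86522) F95992 F52837 (iv4 F51150) D69296 (iv5 F104074) (iv0 F104075) (iv4 F95989)
def n69297 : Q := act 4 n32212
theorem D69297 : act 4 n32212 = n69297 := rfl
theorem F105550 : act 2 n69297 = n33745 := d1_1 D69297 (iv4 D33745) (iv2 F51155)
theorem F105551 : act 7 n69297 = n33747 := d11_2 (iv7 F51156) D69297 (iv4 D33747)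
theorem F105552 : act 0 n69297 = n60157 := d18_2 (iv1 F52845) D69297 (iv4 D60157) F54161 F54113 (iv0 F52858) (iv4 F54099) F97543 F97540
theorem F105553 : act 1 n69297 = n54507 := d18_6 (iv1 F50831) F20934 D15874 F27008 D32212 D69297 (iv4 D54507) F54115 (iv5 D13629)
def n69298 : Q := act 6 n32212
theorem D69298 : act 6 n32212 = n69298 := rfl
theorem F105554 : act 2 n69298 = n33746 := d3_1 D69298 (iv6 D33746) (iv2 F51155)
theorem F105555 : act 5 n69298 = n34322 := d12_1 D69298 (iv6 D34322) (iv5 F50805) (iv6 F50806) D32212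
def n69299 : Q := act 4 n32213
theorem D69299 : act 4 n32213 = n69299 := rfl
theorem F105556 : act 2 n69299 = n33753 := d1_1 D69299 (iv4 D33753) F51163
theorem F105557 : act 7 n69299 = n33750 := d11_2 (iv7 F51162) D69299 (iv4 D33750)
theorem F105558 : act 0 n69299 = n54491 := d18_2 D32213 D69299 (iv4 D54491) (iv5 D26352) F20934 F50793 (iv4 F11786) (iv0 F50791) D15198
theorem F105559 : act 1 n69299 = n60155 := d18_6 (iv1 F84993) F84991 (iv1 F54472) (iv4 F54547) F54550 D69299 (iv4 D60155) F86056 F86055
def n69300 : Q := act 3 n32214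
theorem D69300 : act 3 n32214 = n69300 := rfl
theorem F105560 : act 5 n69300 = n61483 := d6_2 F51159 D69300 F95988
theorem F105561 : act 7 n69300 = n33752 := d8_2 F51161 D69300 (iv3 D33752)
theorem F105562 : act 1 n33514 = n69300 := d17_6 (iv1 F26693) D34020 F53349 (iv5 D26340) (iv4 F51000) D33514 F105560 (iv0 F95990) (iv4 D31649)
theorem F105563 : act 0 n32998 = n69300 := d21_1 D32998 F105560 (iv6 D61483) F50648 (iv6 D15357) D15356 (iv1 F25718) (iv5 D7552) D7553 (iv1 F50997)
def n69301 : Q := act 4 n32214
theorem D69301 : act 4 n32214 = n69301 := rfl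
theorem F105564 : act 2 n69301 = n33750 := d1_1 D69301 (iv4 D33750) (iv2 F51160)
theorem F105565 : act 7 n69301 = n33753 := d11_2 F51161 D69301 (iv4 D33753)
theorem F105566 : act 0 n69301 = n60155 := d18_2 (iv1 F51158) D69301 (iv4 D60155) (iv5 D28595) (iv4 F50839) F50792 F27008 F24816 D16106
theorem F105567 : act 1 n69301 = n54491 := d18_6 F54147 (iv4 F41216) F54459 F54455 F51159 D69301 (iv4 D54491) D54490 F86062
def n69302 : Q := act 6 n32214
theorem D69302 : act 6 n32214 = n69302 := rfl
theorem F105568 : act 2 n69302 = n33751 := d3_1 D69302 (iv6 D33751) (iv2 F51160)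
theorem F105569 : act 5 n69302 = n61485 := d12_1 D69302 (iv6 D61485) (iv5 D29105) D29106 F51159
def n69303 : Q := act 0 n32215
theorem D69303 : act 0 n32215 = n69303 := rfl
theorem F105570 : act 4 n69303 = n32928 := d18_3 (iv1 D32214) D32215 D69303 F84940 F84937 F79147 F53343 (iv0 F54103) F51159
theorem F105571 : act 1 n33359 = n69303 := d15_0 (iv0 D69303) F51164 (iv2 F52594)
theorem F105572 : act 2 n33757 = n69303 := d1_3 F105570 F86063 (iv4 F86064)
theorem F105573 : act 7 n33756 = n69303 := d11_0 F105570 F86058 (iv4 F86059)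
def n69304 : Q := act 1 n32215
theorem D69304 : act 1 n32215 = n69304 := rfl
theorem F105574 : act 1 n69304 = n33359 := d15_1 D69304 (iv7 F105134) F105133
theorem F105575 : act 7 n69304 = n33757 := d15_2 (iv0 D69303) D69304 F105572
theorem F105576 : act 4 n69304 = n32929 := d18_7 (iv1 F50860) (iv4 F50867) (iv1 D28470) F22736 D15198 D32215 D69304 (iv0 F86053) (iv5 D54488)
theorem F105577 : act 2 n33756 = n69304 := d1_3 F105576 F86057 (iv4 F86059)
def n69305 : Q := act 3 n32215
theorem D69305 : act 3 n32215 = n69305 := rfl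
theorem F105578 : act 4 n69305 = n32339 := d5_2 D32215 D69305 (iv3 D32339) (iv4 D15239) (iv3 F24817)
theorem F105579 : act 7 n69305 = n33758 := d8_2 (iv7 F51164) D69305 (iv3 D33758)
def n69306 : Q := act 5 n32215
theorem D69306 : act 5 n32215 = n69306 := rfl
theorem F105580 : act 7 n69306 = n33759 := d13_2 (iv7 F51164) D69306 (iv5 D33759)
def n69307 : Q := act 3 n32216
theorem D69307 : act 3 n32216 = n69307 := rfl
def n69308 : Q := act 5 n32216
theorem D69308 : act 5 n32216 = n69308 := rfl
theorem F105581 : act 2 n69308 = n32220 := d2_1 D69308 (iv5 D32220) (iv2 F51165)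
theorem F105582 : act 1 n69308 = n68690 := d17_6 D15076 (iv5 F50467) (iv1 F37166) (iv5 F24819) D32216 D69308 (iv5 D68690) (iv0 D31963) (iv4 D15078)
def n69309 : Q := act 6 n32216
theorem D69309 : act 6 n32216 = n69309 := rfl
theorem F105583 : act 2 n69309 = n32221 := d3_1 D69309 (iv6 D32221) (iv2 F51165)
theorem F105584 : act 4 n69309 = n32217 := d10_1 D69309 (iv6 D32217) D32216
def n69310 : Q := act 0 n32217
theorem D69310 : act 0 n32217 = n69310 := rfl
def n69311 : Q := act 1 n32217
theorem D69311 : act 1 n32217 = n69311 := rfl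
theorem F105585 : act 1 n69311 = n32225 := d15_1 D69311 (iv7 D32225) (iv2 F51166)
def n69312 : Q := act 5 n32217
theorem D69312 : act 5 n32217 = n69312 := rfl
theorem F105586 : act 2 n69312 = n32224 := d2_1 D69312 (iv5 D32224) (iv2 F51166)
theorem F105587 : act 6 n69312 = n59815 := d12_2 D32217 D69312 (iv5 D59815) (iv6 D28373) (iv5 F24819)
def n69313 : Q := act 7 n32217
theorem D69313 : act 7 n32217 = n69313 := rfl
theorem F105588 : act 2 n69313 = n32225 := d4_1 D69313 (iv7 D32225) (iv2 F51166)
theorem F105589 : act 1 n32225 = n69310 := d15_0 (iv0 D69310) D69313 F105588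
theorem F105590 : act 1 n32223 = n69313 := d15_1 D32223 (iv7 D69313) F51166
theorem F105591 : act 1 n69313 = n32222 := d15_0 (iv0 D32222) D32225 (iv2 F105588)
def n69314 : Q := act 3 n32218
theorem D69314 : act 3 n32218 = n69314 := rfl
def n69315 : Q := act 6 n32218
theorem D69315 : act 6 n32218 = n69315 := rfl
def n69316 : Q := act 3 n32219
theorem D69316 : act 3 n32219 = n69316 := rfl
theorem F105592 : act 4 n69316 = n68337 := d5_2 F51167 D69316 (iv3 D68337) (iv4 D31800) D31799
def n69317 : Q := act 6 n32219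
theorem D69317 : act 6 n32219 = n69317 := rfl
theorem F105593 : act 4 n69317 = n68336 := d10_1 D69317 (iv6 D68336) F51167
def n69318 : Q := act 0 n32220
theorem D69318 : act 0 n32220 = n69318 := rfl
theorem F105594 : act 5 n69318 = n54084 := d17_3 (iv1 D32219) D32220 D69318 (iv4 F94341) F94340 (iv0 F55371) D34968 (iv0 F79158) F51167
theorem F105595 : act 2 n68693 = n69318 := d2_3 F105594 (iv2 F85357) D68693
theorem F105596 : act 7 n68690 = n69318 := d13_0 F105594 F85359 D68690
theorem F105597 : act 1 n68693 = n69308 := d15_0 F105582 F105596 (iv2 F105595)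
def n69319 : Q := act 1 n32220
theorem D69319 : act 1 n32220 = n69319 := rfl
theorem F105598 : act 7 n69319 = n68693 := d15_2 (iv0 D69318) D69319 F105595
theorem F105599 : act 5 n69319 = n34975 := d17_7 (iv1 F41513) F50532 (iv1 D13534) (iv5 F11532) D15202 D32220 D69319 F55383 (iv4 D31940)
theorem F105600 : act 2 n68690 = n69319 := d2_3 F105599 F55381 D68690
def n69320 : Q := act 4 n32220
theorem D69320 : act 4 n32220 = n69320 := rfl
def n69321 : Q := act 6 n32220
theorem D69321 : act 6 n32220 = n69321 := rfl
def n69322 : Q := act 0 n32221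
theorem D69322 : act 0 n32221 = n69322 := rfl
def n69323 : Q := act 1 n32221
theorem D69323 : act 1 n32221 = n69323 := rfl
def n69324 : Q := act 5 n32221
theorem D69324 : act 5 n32221 = n69324 := rfl
def n69325 : Q := act 7 n32221
theorem D69325 : act 7 n32221 = n69325 := rfl
theorem F105601 : act 4 n69325 = n32225 := d11_1 D69325 (iv7 D32225) (iv4 F51168)
def n69326 : Q := act 2 n32222
theorem D69326 : act 2 n32222 = n69326 := rfl
theorem F105602 : act 7 n32223 = n69326 := d15_2 (iv0 D32222) D32223 (iv2 D69326)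
def n69327 : Q := act 3 n32222
theorem D69327 : act 3 n32222 = n69327 := rfl
def n69328 : Q := act 4 n32222
theorem D69328 : act 4 n32222 = n69328 := rfl
def n69329 : Q := act 5 n32222
theorem D69329 : act 5 n32222 = n69329 := rfl
def n69330 : Q := act 6 n32222
theorem D69330 : act 6 n32222 = n69330 := rfl
def n69331 : Q := act 7 n32222
theorem D69331 : act 7 n32222 = n69331 := rfl
theorem F105603 : act 2 n69331 = n32223 := d4_1 D69331 F105602 (iv2 D69326)
def n69332 : Q := act 3 n32223
theorem D69332 : act 3 n32223 = n69332 := rfl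
def n69333 : Q := act 4 n32223
theorem D69333 : act 4 n32223 = n69333 := rfl
def n69334 : Q := act 5 n32223
theorem D69334 : act 5 n32223 = n69334 := rfl
def n69335 : Q := act 6 n32223
theorem D69335 : act 6 n32223 = n69335 := rfl
def n69336 : Q := act 0 n32224
theorem D69336 : act 0 n32224 = n69336 := rfl
def n69337 : Q := act 1 n32224
theorem D69337 : act 1 n32224 = n69337 := rfl
def n69338 : Q := act 4 n32224
theorem D69338 : act 4 n32224 = n69338 := rfl
theorem F105604 : act 6 n69338 = n59817 := d10_2 (iv6 F51170) D69338 (iv4 D59817)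
def n69339 : Q := act 7 n32224
theorem D69339 : act 7 n32224 = n69339 := rfl
theorem F105606 : act 5 n69339 = n32225 := d13_1 D69339 (iv7 D32225) D32224
def n69341 : Q := act 1 n32226
theorem D69341 : act 1 n32226 = n69341 := rfl
theorem F105608 : act 1 n69341 = n32231 := d15_1 D69341 (iv7 D32231) D32226
def n69342 : Q := act 3 n32226
theorem D69342 : act 3 n32226 = n69342 := rfl
theorem F105609 : act 7 n69342 = n32232 := d8_2 F51172 D69342 (iv3 D32232)
def n69343 : Q := act 4 n32226
theorem D69343 : act 4 n32226 = n69343 := rfl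
theorem F105610 : act 2 n69343 = n32228 := d1_1 D69343 (iv4 D32228) D32226
theorem F105611 : act 7 n69343 = n32233 := d11_2 F51172 D69343 (iv4 D32233)
def n69344 : Q := act 5 n32226
theorem D69344 : act 5 n32226 = n69344 := rfl
theorem F105612 : act 2 n69344 = n32229 := d2_1 D69344 (iv5 D32229) D32226
theorem F105613 : act 7 n69344 = n32234 := d13_2 F51172 D69344 (iv5 D32234)
def n69345 : Q := act 6 n32226
theorem D69345 : act 6 n32226 = n69345 := rfl
theorem F105614 : act 2 n69345 = n32230 := d3_1 D69345 (iv6 D32230) D32226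
theorem F105615 : act 7 n32322 = n69345 := d15_2 F85957 F85698 F105614
def n69346 : Q := act 0 n32227
theorem D69346 : act 0 n32227 = n69346 := rfl
def n69347 : Q := act 1 n32227
theorem D69347 : act 1 n32227 = n69347 := rfl
def n69348 : Q := act 2 n32227
theorem D69348 : act 2 n32227 = n69348 := rfl
def n69349 : Q := act 4 n32227
theorem D69349 : act 4 n32227 = n69349 := rfl
def n69350 : Q := act 5 n32227
theorem D69350 : act 5 n32227 = n69350 := rfl
theorem F105616 : act 3 n69350 = n32229 := d6_1 D69350 (iv5 D32229) D32227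
def n69351 : Q := act 6 n32227
theorem D69351 : act 6 n32227 = n69351 := rfl
theorem F105617 : act 3 n69351 = n32230 := d7_1 D69351 (iv6 D32230) D32227
def n69352 : Q := act 7 n32227
theorem D69352 : act 7 n32227 = n69352 := rfl
theorem F105618 : act 3 n69352 = n32231 := d8_1 D69352 (iv7 D32231) D32227
def n69354 : Q := act 1 n32228
theorem D69354 : act 1 n32228 = n69354 := rfl
theorem F105619 : act 1 n69354 = n32233 := d15_1 D69354 (iv7 F105611) F105610
def n69357 : Q := act 6 n32228
theorem D69357 : act 6 n32228 = n69357 := rfl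
theorem F105620 : act 4 n69357 = n32230 := d10_1 D69357 (iv6 D32230) D32228
def n69358 : Q := act 7 n32228
theorem D69358 : act 7 n32228 = n69358 := rfl
theorem F105622 : act 4 n69358 = n32231 := d11_1 D69358 (iv7 D32231) D32228
def n69359 : Q := act 0 n32229
theorem D69359 : act 0 n32229 = n69359 := rfl
theorem F105624 : act 5 n69359 = n67882 := d21_2 D32229 D69359 (iv6 D67882) (iv1 D31543) (iv6 D14857) (iv5 D7075) F5025 (iv5 F5306) D7210 D15204
def n69360 : Q := act 1 n32229
theorem D69360 : act 1 n32229 = n69360 := rfl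
theorem F105625 : act 1 n69360 = n32234 := d15_1 D69360 (iv7 F105613) F105612
def n69361 : Q := act 4 n32229
theorem D69361 : act 4 n32229 = n69361 := rfl
def n69362 : Q := act 6 n32229
theorem D69362 : act 6 n32229 = n69362 := rfl
def n69363 : Q := act 7 n32229
theorem D69363 : act 7 n32229 = n69363 := rfl
theorem F105626 : act 2 n69363 = n32234 := d4_1 D69363 (iv7 F105613) F105612
theorem F105627 : act 5 n69363 = n32231 := d13_1 D69363 (iv7 D32231) D32229
theorem F105628 : act 1 n32234 = n69359 := d15_0 (iv0 D69359) D69363 F105626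
theorem F105629 : act 0 n32235 = n62568 := d21_10 (iv5 D62568) (iv1 F47475) (iv5 F49871) (iv6 F50336) (iv1 F50338) D67882 (iv5 F105624) (iv1 F105628) (iv5 D32234) D32235
def n69364 : Q := act 7 n32230
theorem D69364 : act 7 n32230 = n69364 := rfl
theorem F105630 : act 2 n69364 = n32322 := d4_1 D69364 F105615 F105614
def n69365 : Q := act 6 n32231
theorem D69365 : act 6 n32231 = n69365 := rfl
theorem F105631 : act 2 n69365 = n32235 := d3_1 D69365 (iv6 D32235) (iv2 F51173)
def n69366 : Q := act 0 n32232
theorem D69366 : act 0 n32232 = n69366 := rfl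
def n69367 : Q := act 1 n32232
theorem D69367 : act 1 n32232 = n69367 := rfl
def n69368 : Q := act 2 n32232
theorem D69368 : act 2 n32232 = n69368 := rfl
def n69369 : Q := act 4 n32232
theorem D69369 : act 4 n32232 = n69369 := rfl
def n69370 : Q := act 5 n32232
theorem D69370 : act 5 n32232 = n69370 := rfl
theorem F105632 : act 3 n69370 = n32234 := d6_1 D69370 (iv5 D32234) D32232
def n69371 : Q := act 6 n32232
theorem D69371 : act 6 n32232 = n69371 := rfl
theorem F105633 : act 3 n69371 = n32235 := d7_1 D69371 (iv6 D32235) D32232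
def n69374 : Q := act 6 n32233
theorem D69374 : act 6 n32233 = n69374 := rfl
theorem F105634 : act 4 n69374 = n32235 := d10_1 D69374 (iv6 D32235) D32233
def n69375 : Q := act 4 n32234
theorem D69375 : act 4 n32234 = n69375 := rfl
def n69376 : Q := act 1 n32235
theorem D69376 : act 1 n32235 = n69376 := rfl
def n69377 : Q := act 5 n32235
theorem D69377 : act 5 n32235 = n69377 := rfl
theorem F105635 : act 0 n69377 = n61574 := d21_7 (iv5 F87300) (iv1 F54418) F51189 (iv6 F41625) (iv1 F41627) D32235 D69377 F96123 (iv6 F53280) (iv1 F87299)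
theorem F105636 : act 0 n33965 = n69377 := d21_1 D33965 (iv5 D69377) (iv6 D32235) (iv1 D15205) (iv6 D7210) F5306 (iv1 F7629) D7073 D14852 F25900
theorem F105637 : act 0 n62569 = n54620 := d21_4 (iv5 D69377) F105629 (iv5 D62568) D62569 (iv6 D54620) (iv5 F42162) F42199 D16419 (iv6 F53299) F105636
def n69378 : Q := act 7 n32235
theorem D69378 : act 7 n32235 = n69378 := rfl
theorem F105638 : act 6 n69378 = n32322 := d14_1 D69378 F105615 (iv6 D69345) (iv7 F51172) D32235
theorem F105639 : act 0 n69378 = n32330 := d21_10 F51349 (iv1 D29070) (iv5 F24516) (iv6 D14852) F11325 D12404 D26149 D54059 (iv5 F85292) (iv6 F105638)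
theorem F105640 : act 1 n69365 = n32330 := d15_0 (iv0 F105639) (iv7 D69378) (iv2 F105631)
def n69379 : Q := act 3 n32236
theorem D69379 : act 3 n32236 = n69379 := rfl
theorem F105641 : act 6 n69379 = n33319 := d7_2 (iv6 F51174) D69379 F52553
def n69380 : Q := act 3 n32237
theorem D69380 : act 3 n32237 = n69380 := rfl
theorem F105642 : act 5 n69380 = n68912 := d6_2 F51175 D69380 F105087
def n69381 : Q := act 4 n32237
theorem D69381 : act 4 n32237 = n69381 := rfl
def n69382 : Q := act 6 n32237
theorem D69382 : act 6 n32237 = n69382 := rfl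
theorem F105643 : act 5 n69382 = n68921 := d12_1 D69382 (iv6 D68921) (iv5 D32049) D32050 F51175
theorem F105644 : act 7 n69382 = n33311 := d14_2 (iv7 F85562) D69382 (iv6 D33311) (iv7 F42327) (iv6 F85560)
def n69383 : Q := act 0 n32238
theorem D69383 : act 0 n32238 = n69383 := rfl
theorem F105645 : act 6 n69383 = n36781 := d21_5 (iv5 F42052) (iv1 F52160) F52157 (iv6 F51176) D69383 F57678 (iv1 F52566) (iv5 D33329) F25600 D16100
theorem F105646 : act 2 n68071 = n69383 := d3_3 F105645 F57677 (iv6 F104187)
theorem F105647 : act 4 n36782 = n69383 := d10_3 F105645 (iv4 D36781) D36782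
theorem F105648 : act 7 n69383 = n68074 := d11_2 F57682 F105647 (iv4 D68074)
theorem F105649 : act 1 n54232 = n68074 := d15_1 (iv0 F104188) (iv7 F105648) (iv2 F105646)
theorem E9526 : n68043 = n25910 := (c18_3 (iv1 F41208) D31668 (iv1 F104165) F40950 D26224 D54232 F105649 (iv4 D68074) F84988 F84987)
theorem E9527 : n53491 = n31663 := ((D53491).symm.trans (sb E9526 (iv1 D68043)))
theorem E9529 : n68042 = n30913 := ((D68042).symm.trans (sb E9527 (iv1 F84397)))
theorem F105650 : act 1 n31663 = n25910 := (sb E9527 (iv0 D53491))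
theorem F105652 : act 0 n30913 = n31668 := (sb E9529 (iv1 F104169))
theorem F105653 : act 1 n30913 = n31663 := (sb E9529 (iv0 D68042))
theorem F105654 : act 5 n68046 = n66668 := d21_6 F24357 F11307 D12296 D25910 (iv1 F105650) D68046 (iv1 D66668) (iv5 D31093) (iv6 D14700) (iv1 F24355)
def n69384 : Q := act 1 n32238
theorem D69384 : act 1 n32238 = n69384 := rfl
theorem F105655 : act 7 n69384 = n68071 := d15_2 (iv0 D69383) D69384 F105646
theorem F105656 : act 2 n68074 = n69384 := d4_3 F105655 F105646 F105648
theorem F105657 : act 4 n53899 = n69384 := d11_3 F105655 (iv4 D68071) (iv7 F84981)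
theorem E9530 : n66111 = n26058 := (c18_8 (iv1 F84980) F105657 (iv1 D69384) (iv4 D32238) (iv5 D15206) (iv4 F24317) D30911 D66111 F41202 (iv5 F49956))
theorem E9531 : n53896 = n30911 := ((D53896).symm.trans (sb E9530 (iv4 D66111)))
theorem F105658 : act 4 n30911 = n26058 := (sb E9531 (iv4 D53896))
theorem F105660 : act 4 n53898 = n66113 := d10_3 (iv6 D66113) F105658 D53898
theorem F105661 : act 4 n53889 = n66104 := d11_3 (iv7 F101750) F105658 F84977
theorem E9532 : n66106 = n26057 := (c1_3 F105661 (iv2 D66104) D66106 D53889)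
theorem E9533 : n53891 = n30910 := ((D53891).symm.trans (sb E9532 (iv4 D66106)))
theorem F105662 : act 4 n30910 = n26057 := (sb E9533 (iv4 D53891))
theorem F105663 : act 4 n53893 = n66108 := d10_3 (iv6 D66108) F105662 D53893
def n69388 : Q := act 6 n32239
theorem D69388 : act 6 n32239 = n69388 := rfl
theorem F105668 : act 5 n69388 = n49828 := d12_1 D69388 F78761 F54417 F41640 (iv5 F51177)
theorem F105669 : act 7 n69388 = n32978 := d14_2 D32239 D69388 (iv6 D32978) (iv7 F25350) (iv6 F24821)
def n69389 : Q := act 3 n32240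
theorem D69389 : act 3 n32240 = n69389 := rfl
def n69390 : Q := act 5 n32240
theorem D69390 : act 5 n32240 = n69390 := rfl
theorem F105670 : act 2 n69390 = n32244 := d2_1 D69390 (iv5 D32244) (iv2 F51178)
theorem F105671 : act 1 n69390 = n68875 := d17_6 D15112 (iv5 F41442) (iv1 F26895) (iv5 F24822) D32240 D69390 (iv5 D68875) (iv0 D32035) (iv4 D15114)
theorem F105672 : act 1 n68875 = n54214 := d15_1 F105671 F85551 (iv2 F105670)
def n69391 : Q := act 6 n32240
theorem D69391 : act 6 n32240 = n69391 := rfl
theorem F105673 : act 2 n69391 = n32245 := d3_1 D69391 (iv6 D32245) (iv2 F51178)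
theorem F105674 : act 4 n69391 = n32241 := d10_1 D69391 (iv6 D32241) D32240
def n69392 : Q := act 0 n32241
theorem D69392 : act 0 n32241 = n69392 := rfl
def n69393 : Q := act 1 n32241
theorem D69393 : act 1 n32241 = n69393 := rfl
theorem F105675 : act 1 n69393 = n32249 := d15_1 D69393 (iv7 D32249) (iv2 F51179)
def n69394 : Q := act 7 n32241
theorem D69394 : act 7 n32241 = n69394 := rfl
theorem F105676 : act 2 n69394 = n32249 := d4_1 D69394 (iv7 D32249) (iv2 F51179)
theorem F105677 : act 1 n32249 = n69392 := d15_0 (iv0 D69392) D69394 F105676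
theorem F105678 : act 1 n32247 = n69394 := d15_1 D32247 (iv7 D69394) F51179
theorem F105679 : act 1 n69394 = n32246 := d15_0 (iv0 D32246) D32249 (iv2 F105676)
def n69395 : Q := act 3 n32242
theorem D69395 : act 3 n32242 = n69395 := rfl
def n69396 : Q := act 6 n32242
theorem D69396 : act 6 n32242 = n69396 := rfl
def n69397 : Q := act 3 n32243
theorem D69397 : act 3 n32243 = n69397 := rfl
theorem F105680 : act 4 n69397 = n67967 := d5_2 F51180 D69397 (iv3 D67967) (iv4 D31631) D31630
def n69398 : Q := act 6 n32243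
theorem D69398 : act 6 n32243 = n69398 := rfl
theorem F105681 : act 4 n69398 = n67965 := d10_1 D69398 (iv6 D67965) F51180
def n69399 : Q := act 0 n32244
theorem D69399 : act 0 n32244 = n69399 := rfl
theorem F105682 : act 5 n69399 = n54040 := d17_3 (iv1 D32243) D32244 D69399 (iv4 F104595) F104596 F85124 (iv5 F77127) F105036 F51180
theorem F105683 : act 2 n68878 = n69399 := d2_3 F105682 (iv2 F85268) D68878
theorem F105684 : act 7 n68875 = n69399 := d13_0 F105682 (iv7 F85270) D68875
theorem F105685 : act 1 n68878 = n69390 := d15_0 F105671 F105684 (iv2 F105683)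
def n69400 : Q := act 1 n32244
theorem D69400 : act 1 n32244 = n69400 := rfl
theorem F105686 : act 7 n69400 = n68878 := d15_2 (iv0 D69399) D69400 F105683
theorem F105687 : act 5 n69400 = n54041 := d17_7 (iv1 F41443) (iv5 F41446) (iv1 D13545) (iv5 F11533) D15211 D32244 D69400 F85265 (iv4 D32017)
theorem F105688 : act 2 n68875 = n69400 := d2_3 F105687 F85269 D68875
def n69401 : Q := act 4 n32244
theorem D69401 : act 4 n32244 = n69401 := rfl
def n69402 : Q := act 6 n32244
theorem D69402 : act 6 n32244 = n69402 := rfl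
def n69403 : Q := act 0 n32245
theorem D69403 : act 0 n32245 = n69403 := rfl
def n69404 : Q := act 1 n32245
theorem D69404 : act 1 n32245 = n69404 := rfl
def n69405 : Q := act 5 n32245
theorem D69405 : act 5 n32245 = n69405 := rfl
def n69406 : Q := act 7 n32245
theorem D69406 : act 7 n32245 = n69406 := rfl
theorem F105689 : act 4 n69406 = n32249 := d11_1 D69406 (iv7 D32249) (iv4 F51181)
def n69407 : Q := act 2 n32246
theorem D69407 : act 2 n32246 = n69407 := rfl
theorem F105690 : act 7 n32247 = n69407 := d15_2 (iv0 D32246) D32247 (iv2 D69407)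
def n69408 : Q := act 3 n32246
theorem D69408 : act 3 n32246 = n69408 := rfl
def n69409 : Q := act 4 n32246
theorem D69409 : act 4 n32246 = n69409 := rfl
def n69410 : Q := act 5 n32246
theorem D69410 : act 5 n32246 = n69410 := rfl
def n69411 : Q := act 6 n32246
theorem D69411 : act 6 n32246 = n69411 := rfl
def n69412 : Q := act 7 n32246
theorem D69412 : act 7 n32246 = n69412 := rfl
theorem F105691 : act 2 n69412 = n32247 := d4_1 D69412 F105690 (iv2 D69407)
def n69413 : Q := act 3 n32247
theorem D69413 : act 3 n32247 = n69413 := rfl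
def n69414 : Q := act 4 n32247
theorem D69414 : act 4 n32247 = n69414 := rfl
def n69415 : Q := act 5 n32247
theorem D69415 : act 5 n32247 = n69415 := rfl
theorem F105692 : act 6 n54829 = n69415 := d21_5 (iv5 D14099) (iv1 F26674) D12666 (iv6 F42467) D54829 (iv5 D69415) (iv1 D32247) D32248 F51183 F38078
def n69416 : Q := act 6 n32247
theorem D69416 : act 6 n32247 = n69416 := rfl
def n69417 : Q := act 0 n32248
theorem D69417 : act 0 n32248 = n69417 := rfl
def n69418 : Q := act 1 n32248
theorem D69418 : act 1 n32248 = n69418 := rfl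
def n69419 : Q := act 4 n32248
theorem D69419 : act 4 n32248 = n69419 := rfl
theorem F105693 : act 6 n69419 = n49822 := d10_2 (iv6 F51183) D69419 (iv4 D49822)
def n69420 : Q := act 7 n32248
theorem D69420 : act 7 n32248 = n69420 := rfl
theorem F105695 : act 5 n69420 = n32249 := d13_1 D69420 (iv7 D32249) D32248
def n69421 : Q := act 0 n32250
theorem D69421 : act 0 n32250 = n69421 := rfl
theorem F105696 : act 1 n32255 = n69421 := d15_0 (iv0 D69421) (iv7 F51185) (iv2 F51186)
def n69423 : Q := act 3 n32250
theorem D69423 : act 3 n32250 = n69423 := rfl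
theorem F105698 : act 7 n69423 = n32256 := d8_2 F51185 D69423 (iv3 D32256)
def n69424 : Q := act 4 n32250
theorem D69424 : act 4 n32250 = n69424 := rfl
theorem F105699 : act 2 n69424 = n32252 := d1_1 D69424 (iv4 D32252) D32250
theorem F105700 : act 7 n69424 = n32257 := d11_2 F51185 D69424 (iv4 D32257)
def n69425 : Q := act 5 n32250
theorem D69425 : act 5 n32250 = n69425 := rfl
theorem F105701 : act 2 n69425 = n32253 := d2_1 D69425 (iv5 D32253) D32250
theorem F105702 : act 7 n69425 = n32258 := d13_2 F51185 D69425 (iv5 D32258)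
def n69426 : Q := act 6 n32250
theorem D69426 : act 6 n32250 = n69426 := rfl
theorem F105703 : act 2 n69426 = n32254 := d3_1 D69426 (iv6 D32254) D32250
def n69428 : Q := act 1 n32251
theorem D69428 : act 1 n32251 = n69428 := rfl
def n69429 : Q := act 2 n32251
theorem D69429 : act 2 n32251 = n69429 := rfl
def n69430 : Q := act 4 n32251
theorem D69430 : act 4 n32251 = n69430 := rfl
def n69431 : Q := act 5 n32251
theorem D69431 : act 5 n32251 = n69431 := rfl
theorem F105704 : act 3 n69431 = n32253 := d6_1 D69431 (iv5 D32253) D32251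
def n69432 : Q := act 6 n32251
theorem D69432 : act 6 n32251 = n69432 := rfl
theorem F105705 : act 3 n69432 = n32254 := d7_1 D69432 (iv6 D32254) D32251
def n69433 : Q := act 7 n32251
theorem D69433 : act 7 n32251 = n69433 := rfl
theorem F105706 : act 3 n69433 = n32255 := d8_1 D69433 (iv7 D32255) D32251
def n69434 : Q := act 0 n32252
theorem D69434 : act 0 n32252 = n69434 := rfl
def n69438 : Q := act 7 n32252
theorem D69438 : act 7 n32252 = n69438 := rfl
theorem F105708 : act 2 n69438 = n32257 := d4_1 D69438 (iv7 F105700) F105699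
theorem F105709 : act 4 n69438 = n32255 := d11_1 D69438 (iv7 D32255) D32252
theorem F105710 : act 1 n32257 = n69434 := d15_0 (iv0 D69434) D69438 F105708
def n69439 : Q := act 0 n32253
theorem D69439 : act 0 n32253 = n69439 := rfl
theorem F105711 : act 5 n69439 = n33926 := d21_2 D32253 D69439 F53280 (iv1 D31526) (iv6 D14852) (iv5 D7073) F5024 (iv5 F5307) D7212 D15213
theorem F105712 : act 6 n61573 = n69439 := d12_0 F105711 F53280 (iv5 F96123) (iv6 D61574) D61573
theorem F105714 : act 0 n69439 = n32258 := d21_7 (iv5 F85951) (iv1 F85953) F85944 (iv6 F50359) (iv1 F50361) (iv6 F53280) (iv5 F105711) (iv5 D32258) D32259 F87274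
def n69440 : Q := act 4 n32253
theorem D69440 : act 4 n32253 = n69440 := rfl
def n69441 : Q := act 6 n32253
theorem D69441 : act 6 n32253 = n69441 := rfl
def n69442 : Q := act 7 n32253
theorem D69442 : act 7 n32253 = n69442 := rfl
theorem F105715 : act 2 n69442 = n32258 := d4_1 D69442 (iv7 F105702) F105701
theorem F105716 : act 5 n69442 = n32255 := d13_1 D69442 (iv7 D32255) D32253
def n69443 : Q := act 1 n32254
theorem D69443 : act 1 n32254 = n69443 := rfl
theorem F105717 : act 6 n61409 = n69443 := d21_3 F24516 D29069 D61409 (iv1 D69443) (iv6 D32254) D32253 D69439 F105711 F53280 (iv1 D31526)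
def n69444 : Q := act 7 n32254
theorem D69444 : act 7 n32254 = n69444 := rfl
def n69445 : Q := act 6 n32255
theorem D69445 : act 6 n32255 = n69445 := rfl
theorem F105718 : act 2 n69445 = n32259 := d3_1 D69445 (iv6 D32259) (iv2 F51186)
theorem F105719 : act 7 n32310 = n69445 := d15_2 F87275 D32310 F105718
theorem E9534 : n69444 = n68935 := (c14_5 F105719 (iv6 D69445) (iv7 D32255) D32254 D69444 F105105)
theorem F105720 : act 7 n68935 = n32254 := (sb E9534 (iv7 D69444))
theorem E9535 : n68937 = n54101 := ((c13_2 F105720 F85391 (iv7 D68937) D68935)).symm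
theorem F105721 : act 2 n54101 = n32057 := (sb E9535 F105107)
theorem F105722 : act 7 n54101 = n32056 := (sb E9535 (iv7 D68937))
theorem E9536 : n68932 = n54100 := (c15_4 (iv0 D54100) D54101 F105722 D68932)
theorem F105723 : act 2 n54100 = n32056 := (sb E9536 (iv2 D68932))
theorem F105724 : act 7 n54100 = n32057 := (sb E9536 (iv7 F105104))
theorem E9537 : n69426 = n54247 := ((c2_3 F85391 F105721 (iv5 F85593) F105703)).symm
theorem F105725 : act 2 n54247 = n32254 := (sb E9537 F105703)
theorem E9538 : n32250 = n26231 := ((((iv6 D54247)).symm.trans (sb E9537 (iv6 D69426)))).symm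
theorem E9539 : n69421 = n15216 := ((((iv1 F41641)).symm.trans (sb E9538 D69421))).symm
theorem E9541 : n54243 = n15213 := ((D54243).symm.trans (sb E9538 (iv2 D32250)))
theorem E9542 : n69423 = n54244 := (((D54244).symm.trans (sb E9538 D69423))).symm
theorem E9543 : n69424 = n54245 := (((D54245).symm.trans (sb E9538 D69424))).symm
theorem E9544 : n69425 = n54246 := (((D54246).symm.trans (sb E9538 D69425))).symm
theorem E9545 : n54248 = n15214 := ((D54248).symm.trans (sb E9538 (iv7 F51185)))
theorem E9546 : n32255 = n26232 := ((((iv1 F41638)).symm.trans (sb E9539 (iv1 F105696)))).symm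
theorem F105726 : act 2 n15213 = n26231 := (sb E9541 (iv2 D54243))
theorem F105727 : act 7 n54244 = n32256 := (sb E9542 F105698)
theorem F105729 : act 7 n54245 = n32257 := (sb E9543 F105700)
theorem F105730 : act 2 n54246 = n32253 := (sb E9544 F105701)
theorem F105731 : act 7 n54246 = n32258 := (sb E9544 F105702)
theorem F105732 : act 7 n15214 = n26231 := (sb E9545 (iv7 D54248))
theorem F105733 : act 2 n26232 = n15214 := (sb E9546 F51186)
theorem E9547 : n69433 = n54249 := (((D54249).symm.trans (sb E9546 (iv3 F105706)))).symm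
theorem E9548 : n69438 = n54250 := (((D54250).symm.trans (sb E9546 (iv4 F105709)))).symm
theorem E9549 : n69442 = n54251 := (((D54251).symm.trans (sb E9546 (iv5 F105716)))).symm
theorem E9550 : n69445 = n54252 := (((D54252).symm.trans (sb E9546 D69445))).symm
theorem F105734 : act 7 n26232 = n15213 := (sb E9546 (iv7 D32255))
theorem F105735 : act 7 n54249 = n32251 := (sb E9547 (iv7 D69433))
theorem F105736 : act 2 n54250 = n32257 := (sb E9548 F105708)
theorem F105738 : act 2 n54251 = n32258 := (sb E9549 F105715)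
theorem F105739 : act 7 n54251 = n32253 := (sb E9549 (iv7 D69442))
theorem F105740 : act 2 n54252 = n32259 := (sb E9550 F105718)
theorem F105741 : act 7 n54252 = n32310 := (sb E9550 (iv7 F105719))
theorem F105742 : act 2 n32310 = n54288 := d15_3 F85661 F85668 F105741
theorem F105743 : act 7 n32259 = n54288 := d4_2 (iv7 F105741) F105740 (iv2 F105742)
theorem F105744 : act 2 n34334 = n49813 := d3_3 F85596 F105738 (iv6 F54491)
theorem F105745 : act 7 n49814 = n34334 := d15_2 (iv0 D49813) D49814 F105744
theorem F105746 : act 7 n34335 = n49813 := d15_2 (iv0 D34334) D34335 (iv2 F105744)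
theorem F105747 : act 2 n49814 = n34335 := d4_3 F105746 (iv2 F105744) (iv7 F105745)
def n69446 : Q := act 0 n32256
theorem D69446 : act 0 n32256 = n69446 := rfl
def n69447 : Q := act 1 n32256
theorem D69447 : act 1 n32256 = n69447 := rfl
def n69448 : Q := act 2 n32256
theorem D69448 : act 2 n32256 = n69448 := rfl
def n69449 : Q := act 4 n32256
theorem D69449 : act 4 n32256 = n69449 := rfl
def n69450 : Q := act 5 n32256
theorem D69450 : act 5 n32256 = n69450 := rfl
theorem F105748 : act 3 n69450 = n32258 := d6_1 D69450 (iv5 D32258) D32256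
def n69451 : Q := act 6 n32256
theorem D69451 : act 6 n32256 = n69451 := rfl
theorem F105749 : act 3 n69451 = n32259 := d7_1 D69451 (iv6 D32259) D32256
def n69454 : Q := act 6 n32257
theorem D69454 : act 6 n32257 = n69454 := rfl
theorem F105750 : act 4 n69454 = n32259 := d10_1 D69454 (iv6 D32259) D32257
def n69455 : Q := act 4 n32258
theorem D69455 : act 4 n32258 = n69455 := rfl
def n69456 : Q := act 5 n32259
theorem D69456 : act 5 n32259 = n69456 := rfl
theorem F105751 : act 0 n67876 = n69456 := d21_1 D67876 (iv5 D69456) (iv6 D32259) (iv1 D15214) (iv6 D7212) F5307 (iv1 F7611) D7075 D14857 D31542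
def n69457 : Q := act 2 n32260
theorem D69457 : act 2 n32260 = n69457 := rfl
theorem F105753 : act 7 n32261 = n69457 := d15_2 (iv0 D32260) D32261 (iv2 D69457)
def n69458 : Q := act 3 n32260
theorem D69458 : act 3 n32260 = n69458 := rfl
def n69459 : Q := act 4 n32260
theorem D69459 : act 4 n32260 = n69459 := rfl
def n69460 : Q := act 6 n32260
theorem D69460 : act 6 n32260 = n69460 := rfl
theorem F105754 : act 5 n69460 = n33980 := d21_6 (iv5 D6042) F8092 D11439 (iv6 F24824) D32260 D69460 (iv1 D33980) (iv5 F38075) (iv6 D24290) F18698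
theorem F105755 : act 0 n55331 = n69460 := d21_4 F21211 D12792 D26737 D55331 (iv6 D69460) F53279 (iv1 D33924) D33925 F53278 F25895
def n69461 : Q := act 7 n32260
theorem D69461 : act 7 n32260 = n69461 := rfl
theorem F105756 : act 2 n69461 = n32261 := d4_1 D69461 F105753 (iv2 D69457)
theorem F105757 : act 5 n69461 = n68752 := d13_1 D69461 (iv7 F104951) (iv5 F53279)
def n69462 : Q := act 3 n32261
theorem D69462 : act 3 n32261 = n69462 := rfl
theorem F105758 : act 5 n69462 = n68758 := d6_2 F51187 D69462 F104953
def n69463 : Q := act 4 n32261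
theorem D69463 : act 4 n32261 = n69463 := rfl
def n69464 : Q := act 6 n32261
theorem D69464 : act 6 n32261 = n69464 := rfl
theorem F105759 : act 5 n69464 = n68768 := d12_1 D69464 (iv6 D68768) (iv5 D31990) D31991 F51187
def n69466 : Q := act 1 n32263
theorem D69466 : act 1 n32263 = n69466 := rfl
theorem F105761 : act 1 n69466 = n32268 := d15_1 D69466 (iv7 D32268) D32263
def n69467 : Q := act 3 n32263
theorem D69467 : act 3 n32263 = n69467 := rfl
theorem F105762 : act 7 n69467 = n32269 := d8_2 F51190 D69467 (iv3 D32269)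
def n69468 : Q := act 4 n32263
theorem D69468 : act 4 n32263 = n69468 := rfl
theorem F105763 : act 2 n69468 = n32265 := d1_1 D69468 (iv4 D32265) D32263
theorem F105764 : act 7 n69468 = n32270 := d11_2 F51190 D69468 (iv4 D32270)
def n69469 : Q := act 5 n32263
theorem D69469 : act 5 n32263 = n69469 := rfl
theorem F105765 : act 2 n69469 = n32266 := d2_1 D69469 (iv5 D32266) D32263
theorem F105766 : act 7 n69469 = n32271 := d13_2 F51190 D69469 (iv5 D32271)
def n69470 : Q := act 6 n32263
theorem D69470 : act 6 n32263 = n69470 := rfl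
theorem F105767 : act 2 n69470 = n32267 := d3_1 D69470 (iv6 D32267) D32263
def n69471 : Q := act 0 n32264
theorem D69471 : act 0 n32264 = n69471 := rfl
def n69472 : Q := act 1 n32264
theorem D69472 : act 1 n32264 = n69472 := rfl
def n69473 : Q := act 2 n32264
theorem D69473 : act 2 n32264 = n69473 := rfl
def n69474 : Q := act 5 n32264
theorem D69474 : act 5 n32264 = n69474 := rfl
theorem F105768 : act 3 n69474 = n32266 := d6_1 D69474 (iv5 D32266) D32264
def n69476 : Q := act 7 n32264
theorem D69476 : act 7 n32264 = n69476 := rfl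
theorem F105770 : act 3 n69476 = n32268 := d8_1 D69476 (iv7 D32268) D32264
def n69477 : Q := act 0 n32265
theorem D69477 : act 0 n32265 = n69477 := rfl
theorem F105771 : act 4 n69477 = n66348 := d18_3 D15217 D32265 D69477 (iv5 D66348) D66347 (iv0 F102258) (iv4 D53758) F41093 F20464
theorem E9551 : n66336 = n14579 := (c20_5 D32265 D69477 F105771 F102259 (iv1 F102253) F24239 F11230 (iv1 D3320) D3321 D7213 D15217)
theorem E9552 : n30983 = n30778 := (((D30778).symm.trans (sb E9551 (iv1 D66336)))).symm
theorem E9553 : n30988 = n30779 := (((D30779).symm.trans (sb E9551 F102253))).symm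
theorem E9555 : n65733 = n53606 := ((D65733).symm.trans (sb E9552 (iv2 F102809)))
theorem E9556 : n66327 = n65734 := (((D65734).symm.trans (sb E9552 (iv3 F102243)))).symm
theorem E9558 : n65736 = n14662 := ((D65736).symm.trans (sb E9552 (iv5 D30983)))
theorem E9560 : n65738 = n53601 := ((D65738).symm.trans (sb E9552 (iv7 F102820)))
theorem E9561 : n66348 = n65739 := (((D65739).symm.trans (sb E9553 (iv3 F102259)))).symm
theorem E9563 : n65741 = n14663 := ((D65741).symm.trans (sb E9553 (iv5 D30988)))
theorem F105772 : act 2 n53606 = n30778 := (sb E9555 (iv2 D65733))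
theorem F105773 : act 7 n53606 = n30779 := (sb E9555 (iv7 F101444))
theorem F105774 : act 5 n65734 = n30981 := (sb E9556 (iv5 D66327))
theorem F105775 : act 5 n14662 = n30778 := (sb E9558 (iv5 D65736))
theorem F105776 : act 2 n53601 = n30779 := (sb E9560 F101445)
theorem F105777 : act 7 n53601 = n30778 := (sb E9560 (iv7 D65738))
theorem F105778 : act 4 n65739 = n69477 := (sb E9561 (iv4 F105771))
theorem F105779 : act 5 n65739 = n30986 := (sb E9561 (iv5 D66348))
theorem F105780 : act 5 n14663 = n30779 := (sb E9563 (iv5 D65741))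
theorem E9565 : n66229 = n65471 := ((c17_7 (iv1 F41022) F105780 (iv1 D30779) (iv5 D14579) (iv4 F24190) D30694 D65471 (iv5 D66229) F84539 F84535)).symm
theorem F105781 : act 5 n65471 = n30950 := (sb E9565 (iv5 D66229))
def n69478 : Q := act 1 n32265
theorem D69478 : act 1 n32265 = n69478 := rfl
theorem F105782 : act 1 n69478 = n32270 := d15_1 D69478 (iv7 F105764) F105763
def n69479 : Q := act 3 n32265
theorem D69479 : act 3 n32265 = n69479 := rfl
theorem F105783 : act 0 n69479 = n50773 := d20_4 F24809 D15217 D32265 D69479 F80145 (iv4 F81613) F81615 (iv4 F81993) F81994 (iv1 D32183)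
theorem F105784 : act 5 n51946 = n69479 := d17_1 F82035 F105783 (iv5 D50773) (iv4 D24710) (iv5 F19088) D24782 F105480 F39727 (iv4 F80474)
theorem E9566 : n65555 = n15217 := (c19_18 F105783 (iv5 D50773) (iv4 D24710) (iv3 D11694) (iv1 D5428) D5430 F8247 (iv3 F8492) (iv1 F19268) (iv5 F19269) (iv4 F11915) F11914 (iv1 F7600) F4881 D6958 D14561 D30725 D65555 D32265 D69479)
theorem E9567 : n32266 = n30725 := ((D32266).symm.trans (sb E9566 (iv5 D65555)))
theorem E9568 : n69469 = n65552 := (((D65552).symm.trans (sb E9567 (iv2 F105765)))).symm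
theorem E9569 : n69474 = n65553 := (((D65553).symm.trans (sb E9567 (iv3 F105768)))).symm
theorem F105785 : act 5 n30725 = n15217 := (sb E9567 (iv5 D32266))
theorem F105786 : act 5 n65552 = n32263 := (sb E9568 (iv5 D69469))
theorem E9570 : n32271 = n30726 := ((((iv7 F101283)).symm.trans (sb E9568 F105766))).symm
theorem F105787 : act 5 n65553 = n32264 := (sb E9569 (iv5 D69474))
theorem E9571 : n65560 = n15218 := ((D65560).symm.trans (sb E9570 (iv5 D32271)))
theorem F105788 : act 5 n15218 = n30726 := (sb E9571 (iv5 D65560))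
theorem F105789 : act 5 n65557 = n32268 := d2_2 F105788 (iv2 F101284) F51191
theorem F105790 : act 5 n65558 = n32269 := d6_2 F105788 D65558 (iv3 D32269)
def n69480 : Q := act 5 n32265
theorem D69480 : act 5 n32265 = n69480 := rfl
theorem F105791 : act 3 n69480 = n51946 := d6_1 D69480 F105784 (iv3 D69479)
def n69481 : Q := act 6 n32265
theorem D69481 : act 6 n32265 = n69481 := rfl
def n69482 : Q := act 7 n32265
theorem D69482 : act 7 n32265 = n69482 := rfl
theorem F105793 : act 2 n69482 = n32270 := d4_1 D69482 (iv7 F105764) F105763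
theorem F105794 : act 4 n69482 = n32268 := d11_1 D69482 (iv7 D32268) D32265
theorem F105795 : act 1 n32270 = n69477 := d15_0 (iv0 D69477) D69482 F105793
def n69488 : Q := act 0 n32269
theorem D69488 : act 0 n32269 = n69488 := rfl
def n69489 : Q := act 1 n32269
theorem D69489 : act 1 n32269 = n69489 := rfl
def n69490 : Q := act 2 n32269
theorem D69490 : act 2 n32269 = n69490 := rfl
def n69491 : Q := act 4 n32269
theorem D69491 : act 4 n32269 = n69491 := rfl
theorem F105797 : act 1 n69491 = n66074 := d18_6 D14628 D30892 D66035 F101715 F105790 D69491 (iv4 D66074) (iv0 D30902) (iv5 D14631)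
def n69492 : Q := act 6 n32269
theorem D69492 : act 6 n32269 = n69492 := rfl
def n69493 : Q := act 3 n32270
theorem D69493 : act 3 n32270 = n69493 := rfl
def n69494 : Q := act 5 n32270
theorem D69494 : act 5 n32270 = n69494 := rfl
def n69495 : Q := act 6 n32270
theorem D69495 : act 6 n32270 = n69495 := rfl
def n69500 : Q := act 0 n32273
theorem D69500 : act 0 n32273 = n69500 := rfl
def n69501 : Q := act 1 n32273
theorem D69501 : act 1 n32273 = n69501 := rfl
theorem F105800 : act 1 n69501 = n32277 := d15_1 D69501 (iv7 D32277) (iv2 F51192)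
def n69502 : Q := act 5 n32273
theorem D69502 : act 5 n32273 = n69502 := rfl
theorem F105801 : act 2 n69502 = n32276 := d2_1 D69502 (iv5 D32276) (iv2 F51192)
def n69503 : Q := act 7 n32273
theorem D69503 : act 7 n32273 = n69503 := rfl
theorem F105802 : act 2 n69503 = n32277 := d4_1 D69503 (iv7 D32277) (iv2 F51192)
theorem F105803 : act 1 n32277 = n69500 := d15_0 (iv0 D69500) D69503 F105802
theorem F105804 : act 1 n32275 = n69503 := d15_1 D32275 (iv7 D69503) F51192
theorem F105805 : act 1 n69503 = n32274 := d15_0 (iv0 D32274) D32277 (iv2 F105802)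
def n69504 : Q := act 2 n32274
theorem D69504 : act 2 n32274 = n69504 := rfl
theorem F105806 : act 7 n32275 = n69504 := d15_2 (iv0 D32274) D32275 (iv2 D69504)
def n69505 : Q := act 3 n32274
theorem D69505 : act 3 n32274 = n69505 := rfl
def n69506 : Q := act 4 n32274
theorem D69506 : act 4 n32274 = n69506 := rfl
def n69507 : Q := act 5 n32274
theorem D69507 : act 5 n32274 = n69507 := rfl
def n69508 : Q := act 6 n32274
theorem D69508 : act 6 n32274 = n69508 := rfl
def n69509 : Q := act 7 n32274
theorem D69509 : act 7 n32274 = n69509 := rfl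
def n69510 : Q := act 3 n32275
theorem D69510 : act 3 n32275 = n69510 := rfl
def n69511 : Q := act 4 n32275
theorem D69511 : act 4 n32275 = n69511 := rfl
def n69512 : Q := act 5 n32275
theorem D69512 : act 5 n32275 = n69512 := rfl
def n69513 : Q := act 6 n32275
theorem D69513 : act 6 n32275 = n69513 := rfl
def n69514 : Q := act 0 n32276
theorem D69514 : act 0 n32276 = n69514 := rfl
def n69515 : Q := act 1 n32276
theorem D69515 : act 1 n32276 = n69515 := rfl
def n69516 : Q := act 4 n32276
theorem D69516 : act 4 n32276 = n69516 := rfl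
def n69517 : Q := act 7 n32276
theorem D69517 : act 7 n32276 = n69517 := rfl
theorem F105809 : act 5 n69517 = n32277 := d13_1 D69517 (iv7 D32277) D32276
def n69518 : Q := act 0 n32278
theorem D69518 : act 0 n32278 = n69518 := rfl
def n69519 : Q := act 1 n32278
theorem D69519 : act 1 n32278 = n69519 := rfl
def n69520 : Q := act 2 n32278
theorem D69520 : act 2 n32278 = n69520 := rfl
def n69521 : Q := act 4 n32278
theorem D69521 : act 4 n32278 = n69521 := rfl
def n69522 : Q := act 5 n32278
theorem D69522 : act 5 n32278 = n69522 := rfl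
theorem F105810 : act 3 n69522 = n32279 := d6_1 D69522 (iv5 D32279) D32278
def n69523 : Q := act 6 n32278
theorem D69523 : act 6 n32278 = n69523 := rfl
theorem F105811 : act 3 n69523 = n32280 := d7_1 D69523 (iv6 D32280) D32278
def n69524 : Q := act 0 n32279
theorem D69524 : act 0 n32279 = n69524 := rfl
theorem F105812 : act 5 n69524 = n55173 := d17_3 D15221 D32279 D69524 (iv4 D55173) F51222 (iv0 D32306) (iv5 D15228) (iv0 D7215) (iv4 F11534)
theorem E9572 : n68914 = n14721 := (c21_5 D32279 D69524 F105812 F87279 (iv1 F105089) (iv6 D14721) (iv5 D7021) (iv1 F9013) F9011 D7214 D15221)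
theorem E9573 : n32048 = n31154 := (((D31154).symm.trans (sb E9572 (iv1 D68914)))).symm
theorem E9574 : n32053 = n31155 := (((D31155).symm.trans (sb E9572 F105089))).symm
theorem E9576 : n66860 = n54094 := ((D66860).symm.trans (sb E9573 (iv2 F85376)))
theorem E9578 : n66862 = n15120 := ((D66862).symm.trans (sb E9573 (iv4 D32048)))
theorem E9580 : n68917 = n66864 := (((D66864).symm.trans (sb E9573 D68917))).symm
theorem E9581 : n66865 = n54098 := ((D66865).symm.trans (sb E9573 (iv7 F85386)))
theorem E9583 : n66867 = n15121 := ((D66867).symm.trans (sb E9574 (iv4 D32053)))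
theorem E9584 : n68930 = n66868 := (((D66868).symm.trans (sb E9574 D68930))).symm
theorem E9585 : n66869 = n55173 := ((D66869).symm.trans (sb E9574 (iv6 F87279)))
theorem F105813 : act 2 n54094 = n31154 := (sb E9576 (iv2 D66860))
theorem F105814 : act 7 n54094 = n31155 := (sb E9576 (iv7 F102721))
theorem F105815 : act 4 n15120 = n31154 := (sb E9578 (iv4 D66862))
theorem F105816 : act 4 n66864 = n32050 := (sb E9580 F105090)
theorem F105817 : act 2 n54098 = n31155 := (sb E9581 F102722)
theorem F105818 : act 7 n54098 = n31154 := (sb E9581 (iv7 D66865))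
theorem F105819 : act 4 n15121 = n31155 := (sb E9583 (iv4 D66867))
theorem F105820 : act 1 n66868 = n67347 := (sb E9584 (iv0 F105100))
theorem F105821 : act 6 n55173 = n31155 := (sb E9585 (iv6 D66869))
theorem F105822 : act 1 n32282 = n69524 := d15_0 (iv0 D69524) (iv7 F85615) F85613
theorem E9586 : n68939 = n68607 := ((c18_7 (iv1 F41526) F105819 (iv1 D31155) F24389 D15051 D31913 D68607 (iv4 D68939) F85397 F85395)).symm
theorem F105823 : act 4 n68607 = n32057 := (sb E9586 (iv4 D68939))
def n69525 : Q := act 1 n32279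
theorem D69525 : act 1 n32279 = n69525 := rfl
theorem F105824 : act 1 n69525 = n32282 := d15_1 D69525 (iv7 F85608) F85607
theorem F105825 : act 5 n69525 = n55170 := d17_7 D28678 F46224 D36783 F57683 (iv4 F41661) D32279 D69525 F87269 (iv4 D28680)
def n69526 : Q := act 6 n32279
theorem D69526 : act 6 n32279 = n69526 := rfl
def n69527 : Q := act 0 n32280
theorem D69527 : act 0 n32280 = n69527 := rfl
def n69528 : Q := act 1 n32280
theorem D69528 : act 1 n32280 = n69528 := rfl
def n69529 : Q := act 5 n32280
theorem D69529 : act 5 n32280 = n69529 := rfl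
theorem F105826 : act 0 n69529 = n66858 := d21_7 (iv5 D7021) (iv1 F9013) F9011 D7214 D15221 D32280 D69529 (iv5 D66858) (iv6 D31153) (iv1 D14720)
theorem F105827 : act 4 n69528 = n32310 := d17_9 (iv1 D32310) D32311 F51340 F25141 (iv4 F49506) D66858 (iv0 F105826) (iv5 D69529) D69528
def n69530 : Q := act 7 n32280
theorem D69530 : act 7 n32280 = n69530 := rfl
def n69531 : Q := act 0 n32281
theorem D69531 : act 0 n32281 = n69531 := rfl
def n69532 : Q := act 1 n32281
theorem D69532 : act 1 n32281 = n69532 := rfl
def n69533 : Q := act 2 n32281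
theorem D69533 : act 2 n32281 = n69533 := rfl
def n69534 : Q := act 4 n32281
theorem D69534 : act 4 n32281 = n69534 := rfl
def n69535 : Q := act 5 n32281
theorem D69535 : act 5 n32281 = n69535 := rfl
theorem F105828 : act 3 n69535 = n32282 := d6_1 D69535 (iv5 D32282) D32281
def n69536 : Q := act 6 n32281
theorem D69536 : act 6 n32281 = n69536 := rfl
theorem F105829 : act 3 n69536 = n32283 := d7_1 D69536 (iv6 D32283) D32281
def n69537 : Q := act 6 n32282
theorem D69537 : act 6 n32282 = n69537 := rfl
def n69538 : Q := act 0 n32283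
theorem D69538 : act 0 n32283 = n69538 := rfl
def n69539 : Q := act 1 n32283
theorem D69539 : act 1 n32283 = n69539 := rfl
def n69540 : Q := act 5 n32283
theorem D69540 : act 5 n32283 = n69540 := rfl
theorem F105830 : act 1 n69540 = n66978 := d17_6 D15001 D31871 F77156 (iv5 F77155) F77154 D69540 (iv5 D66978) (iv0 D31186) F24393
def n69541 : Q := act 7 n32283
theorem D69541 : act 7 n32283 = n69541 := rfl
def n69544 : Q := act 3 n32285
theorem D69544 : act 3 n32285 = n69544 := rfl
def n69546 : Q := act 3 n32286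
theorem D69546 : act 3 n32286 = n69546 := rfl
theorem F105831 : act 5 n69546 = n39782 := d6_2 (iv5 F51195) D69546 (iv3 D39782)
theorem F105832 : act 7 n69546 = n39861 := d8_2 F51196 D69546 F60653
def n69547 : Q := act 6 n32287
theorem D69547 : act 6 n32287 = n69547 := rfl
theorem F105833 : act 4 n69547 = n35166 := d10_1 D69547 F55904 (iv4 F51197)
theorem F105834 : act 5 n69547 = n55299 := d12_1 D69547 F87517 F53868 F41116 (iv5 F51198)
theorem F105835 : act 7 n69547 = n55298 := d14_2 D32287 D69547 F87514 F53873 F41123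
def n69548 : Q := act 2 n32294
theorem D69548 : act 2 n32294 = n69548 := rfl
def n69549 : Q := act 3 n32294
theorem D69549 : act 3 n32294 = n69549 := rfl
def n69550 : Q := act 4 n32294
theorem D69550 : act 4 n32294 = n69550 := rfl
def n69551 : Q := act 5 n32294
theorem D69551 : act 5 n32294 = n69551 := rfl
def n69552 : Q := act 6 n32294
theorem D69552 : act 6 n32294 = n69552 := rfl
def n69553 : Q := act 7 n32294
theorem D69553 : act 7 n32294 = n69553 := rfl
def n69554 : Q := act 3 n32295
theorem D69554 : act 3 n32295 = n69554 := rfl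
def n69555 : Q := act 4 n32295
theorem D69555 : act 4 n32295 = n69555 := rfl
def n69556 : Q := act 5 n32295
theorem D69556 : act 5 n32295 = n69556 := rfl
def n69558 : Q := act 4 n32296
theorem D69558 : act 4 n32296 = n69558 := rfl
theorem F105838 : act 2 n69558 = n32297 := d1_1 D69558 (iv4 D32297) D32296
def n69559 : Q := act 5 n32296
theorem D69559 : act 5 n32296 = n69559 := rfl
theorem F105839 : act 2 n69559 = n32298 := d2_1 D69559 (iv5 D32298) D32296
def n69560 : Q := act 6 n32296
theorem D69560 : act 6 n32296 = n69560 := rfl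
theorem F105840 : act 2 n69560 = n32299 := d3_1 D69560 (iv6 D32299) D32296
def n69561 : Q := act 0 n32297
theorem D69561 : act 0 n32297 = n69561 := rfl
def n69562 : Q := act 1 n32297
theorem D69562 : act 1 n32297 = n69562 := rfl
def n69563 : Q := act 3 n32297
theorem D69563 : act 3 n32297 = n69563 := rfl
theorem F105841 : act 4 n69563 = n32302 := d5_2 D32297 D69563 (iv3 D32302) (iv4 D15227) D15226
def n69564 : Q := act 5 n32297
theorem D69564 : act 5 n32297 = n69564 := rfl
def n69565 : Q := act 6 n32297
theorem D69565 : act 6 n32297 = n69565 := rfl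
theorem F105842 : act 4 n69565 = n32299 := d10_1 D69565 (iv6 D32299) D32297
def n69566 : Q := act 0 n32298
theorem D69566 : act 0 n32298 = n69566 := rfl
def n69567 : Q := act 1 n32298
theorem D69567 : act 1 n32298 = n69567 := rfl
def n69568 : Q := act 4 n32298
theorem D69568 : act 4 n32298 = n69568 := rfl
def n69569 : Q := act 6 n32298
theorem D69569 : act 6 n32298 = n69569 := rfl
theorem F105843 : act 3 n69569 = n32307 := d7_1 D69569 (iv6 D32307) (iv3 F51209)
theorem F105844 : act 7 n69569 = n34700 := d14_2 F85679 D69569 (iv6 D34700) F51334 F85680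
def n69570 : Q := act 0 n32299
theorem D69570 : act 0 n32299 = n69570 := rfl
def n69571 : Q := act 1 n32299
theorem D69571 : act 1 n32299 = n69571 := rfl
def n69572 : Q := act 5 n32299
theorem D69572 : act 5 n32299 = n69572 := rfl
theorem F105845 : act 3 n69572 = n32311 := d6_1 D69572 (iv5 D32311) (iv3 F51210)
def n69573 : Q := act 7 n32299
theorem D69573 : act 7 n32299 = n69573 := rfl
theorem F105846 : act 3 n69573 = n32312 := d8_1 D69573 (iv7 D32312) (iv3 F51210)
def n69574 : Q := act 3 n32301
theorem D69574 : act 3 n32301 = n69574 := rfl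
theorem F105848 : act 7 n69574 = n48929 := d8_2 (iv7 F51214) D69574 F77144
def n69575 : Q := act 5 n32301
theorem D69575 : act 5 n32301 = n69575 := rfl
theorem F105850 : act 4 n69575 = n35632 := d9_1 D69575 (iv5 D35632) (iv4 D17266) (iv5 D8095) F5673 (iv5 F10529) (iv4 F22738) D28477 D59966 F94447 F56479 F28288 (iv4 F18167) (iv5 F37197) (iv4 F51212)
theorem F105851 : act 7 n69575 = n48930 := d13_2 (iv7 F51214) D69575 (iv5 D48930)
theorem F105852 : act 0 n69575 = n33963 := d17_2 D32301 D69575 (iv5 D33963) (iv4 D16415) (iv5 D7612) F9361 (iv5 F20714) F20717 D15227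
def n69576 : Q := act 0 n32302
theorem D69576 : act 0 n32302 = n69576 := rfl
def n69577 : Q := act 1 n32302
theorem D69577 : act 1 n32302 = n69577 := rfl
def n69578 : Q := act 2 n32302
theorem D69578 : act 2 n32302 = n69578 := rfl
def n69579 : Q := act 5 n32302
theorem D69579 : act 5 n32302 = n69579 := rfl
theorem F105854 : act 3 n69579 = n32303 := d6_1 D69579 (iv5 D32303) D32302
def n69580 : Q := act 6 n32302
theorem D69580 : act 6 n32302 = n69580 := rfl
theorem F105855 : act 3 n69580 = n32304 := d7_1 D69580 (iv6 D32304) D32302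
def n69581 : Q := act 0 n32303
theorem D69581 : act 0 n32303 = n69581 := rfl
theorem F105856 : act 5 n69581 = n55175 := d17_3 (iv1 F51204) D32303 D69581 F87289 F77374 F57693 (iv5 D28480) (iv0 D13575) (iv4 F22738)
theorem E9587 : n54025 = n31005 := (c21_4 D32303 D69581 F105856 (iv6 F87291) (iv1 D31005) (iv6 D14669) (iv5 D7005) D7003 F11263 D13574 (iv1 F51204))
theorem E9588 : n66419 = n31908 := (((iv2 F102330)).symm.trans (sb E9587 F85228))
theorem E9589 : n66421 = n26134 := ((D66421).symm.trans (sb E9587 (iv4 D54025)))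
theorem E9590 : n66423 = n55175 := ((D66423).symm.trans (sb E9587 F87291))
theorem E9591 : n66414 = n31903 := ((F102328).symm.trans (sb E9587 F85229))
theorem F105857 : act 2 n31908 = n31005 := (sb E9588 F102330)
theorem E9592 : n54021 = n31004 := (((iv7 F85222)).symm.trans (sb E9588 (iv7 D66419)))
theorem F105858 : act 4 n26134 = n31005 := (sb E9589 (iv4 D66421))
theorem F105859 : act 6 n55175 = n31005 := (sb E9590 (iv6 D66423))
theorem F105860 : act 7 n31903 = n31005 := (sb E9591 (iv7 F102328))
theorem F105861 : act 2 n31004 = n31903 := (sb E9592 F85221)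
theorem E9593 : n66416 = n26133 := ((D66416).symm.trans (sb E9592 (iv4 D54021)))
theorem F105862 : act 7 n31004 = n31908 := (sb E9592 F85222)
theorem F105863 : act 4 n26133 = n31004 := (sb E9593 (iv4 D66416))
theorem F105865 : act 4 n66418 = n54023 := d10_3 (iv6 D54023) F105863 D66418
theorem F105866 : act 2 n68582 = n66418 := d1_3 F105865 F85225 (iv4 F104771)
theorem F105867 : act 7 n68594 = n66415 := d8_2 F105862 D68594 (iv3 D66415)
theorem F105868 : act 7 n68595 = n66417 := d13_2 F105862 D68595 (iv5 D66417)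
theorem F105869 : act 2 n68581 = n66417 := d2_3 (iv5 D66417) F105861 D68581
theorem F105871 : act 7 n66422 = n68581 := d13_2 F105860 D66422 (iv5 D68581)
theorem F105872 : act 2 n68595 = n66422 := d4_3 F105871 F105869 (iv7 F105868)
theorem F105873 : act 4 n68942 = n54028 := d18_7 (iv1 F41404) F105858 (iv1 D31005) F24360 D15122 D32058 D68942 F85233 F50216
def n69582 : Q := act 1 n32303
theorem D69582 : act 1 n32303 = n69582 := rfl
def n69583 : Q := act 6 n32303
theorem D69583 : act 6 n32303 = n69583 := rfl
def n69584 : Q := act 0 n32304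
theorem D69584 : act 0 n32304 = n69584 := rfl
def n69585 : Q := act 1 n32304
theorem D69585 : act 1 n32304 = n69585 := rfl
def n69586 : Q := act 5 n32304
theorem D69586 : act 5 n32304 = n69586 := rfl
theorem F105876 : act 0 n69586 = n66412 := d21_7 (iv5 D7005) D7003 F11263 D13574 (iv1 F51204) D32304 D69586 (iv5 D66412) (iv6 D31003) (iv1 D14668)
theorem F105877 : act 4 n69585 = n59975 := d17_9 (iv1 D59975) F51999 (iv1 D32841) (iv5 F26878) (iv4 F49427) D66412 (iv0 F105876) (iv5 D69586) D69585
def n69587 : Q := act 7 n32304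
theorem D69587 : act 7 n32304 = n69587 := rfl
theorem F105878 : act 4 n69587 = n32312 := d11_1 D69587 (iv7 D32312) (iv4 F51217)
def n69588 : Q := act 3 n32306
theorem D69588 : act 3 n32306 = n69588 := rfl
theorem F105879 : act 5 n69588 = n55172 := d6_2 F51222 D69588 (iv3 D55172)
theorem F105880 : act 7 n69588 = n33320 := d8_2 (iv7 F51224) D69588 F52554
def n69589 : Q := act 3 n32310
theorem D69589 : act 3 n32310 = n69589 := rfl
def n69590 : Q := act 5 n32310
theorem D69590 : act 5 n32310 = n69590 := rfl
theorem F105881 : act 6 n69590 = n56004 := d12_2 F105105 D69590 (iv5 F105106) (iv6 D68936) D68935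
def n69591 : Q := act 4 n32311
theorem D69591 : act 4 n32311 = n69591 := rfl
def n69592 : Q := act 2 n32313
theorem D69592 : act 2 n32313 = n69592 := rfl
theorem F105882 : act 7 n32314 = n69592 := d15_2 (iv0 D32313) D32314 (iv2 D69592)
def n69597 : Q := act 7 n32313
theorem D69597 : act 7 n32313 = n69597 := rfl
theorem F105883 : act 2 n69597 = n32314 := d4_1 D69597 F105882 (iv2 D69592)
def n69598 : Q := act 3 n32314
theorem D69598 : act 3 n32314 = n69598 := rfl
def n69599 : Q := act 4 n32314
theorem D69599 : act 4 n32314 = n69599 := rfl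
def n69600 : Q := act 5 n32314
theorem D69600 : act 5 n32314 = n69600 := rfl
def n69601 : Q := act 6 n32314
theorem D69601 : act 6 n32314 = n69601 := rfl
def n69602 : Q := act 4 n32315
theorem D69602 : act 4 n32315 = n69602 := rfl
theorem F105884 : act 2 n69602 = n32316 := d1_1 D69602 (iv4 D32316) D32315
def n69603 : Q := act 5 n32315
theorem D69603 : act 5 n32315 = n69603 := rfl
theorem F105885 : act 2 n69603 = n32317 := d2_1 D69603 (iv5 D32317) D32315
theorem F105886 : act 6 n34690 = n69603 := d3_0 F105885 (iv6 F51342) D34690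
def n69604 : Q := act 6 n32315
theorem D69604 : act 6 n32315 = n69604 := rfl
theorem F105887 : act 2 n69604 = n32318 := d3_1 D69604 (iv6 D32318) D32315
def n69605 : Q := act 0 n32316
theorem D69605 : act 0 n32316 = n69605 := rfl
def n69606 : Q := act 1 n32316
theorem D69606 : act 1 n32316 = n69606 := rfl
def n69607 : Q := act 3 n32316
theorem D69607 : act 3 n32316 = n69607 := rfl
theorem F105888 : act 4 n69607 = n32319 := d5_2 D32316 D69607 (iv3 D32319) (iv4 D15232) D15231
def n69608 : Q := act 5 n32316
theorem D69608 : act 5 n32316 = n69608 := rfl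
def n69609 : Q := act 6 n32316
theorem D69609 : act 6 n32316 = n69609 := rfl
theorem F105889 : act 4 n69609 = n32318 := d10_1 D69609 (iv6 D32318) D32316
def n69610 : Q := act 0 n32317
theorem D69610 : act 0 n32317 = n69610 := rfl
def n69611 : Q := act 1 n32317
theorem D69611 : act 1 n32317 = n69611 := rfl
def n69612 : Q := act 4 n32317
theorem D69612 : act 4 n32317 = n69612 := rfl
theorem F105890 : act 6 n69612 = n34691 := d10_2 F51342 D69612 (iv4 D34691)
def n69613 : Q := act 0 n32318
theorem D69613 : act 0 n32318 = n69613 := rfl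
def n69614 : Q := act 1 n32318
theorem D69614 : act 1 n32318 = n69614 := rfl
def n69615 : Q := act 5 n32318
theorem D69615 : act 5 n32318 = n69615 := rfl
theorem F105891 : act 3 n69615 = n32324 := d6_1 D69615 (iv5 D32324) (iv3 F51343)
theorem F105892 : act 6 n69615 = n34692 := d12_2 D32318 D69615 (iv5 D34692) F51342 (iv5 D32317)
def n69616 : Q := act 7 n32318
theorem D69616 : act 7 n32318 = n69616 := rfl
theorem F105893 : act 3 n69616 = n32325 := d8_1 D69616 (iv7 D32325) (iv3 F51343)
def n69617 : Q := act 0 n32319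
theorem D69617 : act 0 n32319 = n69617 := rfl
def n69618 : Q := act 1 n32319
theorem D69618 : act 1 n32319 = n69618 := rfl
def n69619 : Q := act 2 n32319
theorem D69619 : act 2 n32319 = n69619 := rfl
def n69620 : Q := act 5 n32319
theorem D69620 : act 5 n32319 = n69620 := rfl
def n69621 : Q := act 6 n32319
theorem D69621 : act 6 n32319 = n69621 := rfl
theorem F105895 : act 3 n69621 = n32321 := d7_1 D69621 (iv6 D32321) D32319
def n69623 : Q := act 0 n32321
theorem D69623 : act 0 n32321 = n69623 := rfl
def n69624 : Q := act 1 n32321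
theorem D69624 : act 1 n32321 = n69624 := rfl
def n69625 : Q := act 5 n32321
theorem D69625 : act 5 n32321 = n69625 := rfl
def n69626 : Q := act 7 n32321
theorem D69626 : act 7 n32321 = n69626 := rfl
theorem F105897 : act 4 n69626 = n32325 := d11_1 D69626 (iv7 D32325) (iv4 F51344)
theorem F105898 : act 1 n68046 = n69626 := d17_8 (iv1 F85955) F85558 (iv1 D31998) (iv5 D15090) (iv4 F24373) D31093 D66668 (iv5 F105654) F105897
theorem F105899 : act 1 n54299 = n68046 := d15_0 F105898 (iv7 D69626) (iv2 F85686)
def n69627 : Q := act 3 n32322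
theorem D69627 : act 3 n32322 = n69627 := rfl
def n69628 : Q := act 4 n32322
theorem D69628 : act 4 n32322 = n69628 := rfl
def n69629 : Q := act 4 n32324
theorem D69629 : act 4 n32324 = n69629 := rfl
theorem F105900 : act 6 n69629 = n34694 := d10_2 (iv6 F51345) D69629 (iv4 D34694)
def n69630 : Q := act 7 n32324
theorem D69630 : act 7 n32324 = n69630 := rfl
theorem F105901 : act 2 n69630 = n68766 := d4_1 D69630 F104961 F85690
theorem F105902 : act 5 n69630 = n32325 := d13_1 D69630 (iv7 D32325) D32324
theorem F105903 : act 6 n69630 = n68553 := d14_1 D69630 F104752 (iv6 D55546) F51332 (iv6 F51345)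
theorem F105904 : act 1 n54052 = n69630 := d15_1 (iv0 F85692) (iv7 D69630) (iv2 F85690)
theorem F105905 : act 0 n54057 = n69630 := d21_1 D54057 F105902 (iv6 F85667) (iv1 F85669) (iv6 F105105) (iv5 D68935) (iv1 F85398) F85395 F41524 (iv1 F41454)
def n69633 : Q := act 3 n32326
theorem D69633 : act 3 n32326 = n69633 := rfl
theorem F105908 : act 7 n69633 = n32332 := d8_2 F51348 D69633 (iv3 D32332)
def n69634 : Q := act 4 n32326
theorem D69634 : act 4 n32326 = n69634 := rfl
theorem F105909 : act 2 n69634 = n32328 := d1_1 D69634 (iv4 D32328) D32326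
theorem F105910 : act 7 n69634 = n32333 := d11_2 F51348 D69634 (iv4 D32333)
def n69635 : Q := act 5 n32326
theorem D69635 : act 5 n32326 = n69635 := rfl
theorem F105911 : act 2 n69635 = n32329 := d2_1 D69635 (iv5 D32329) D32326
theorem F105912 : act 7 n69635 = n32334 := d13_2 F51348 D69635 (iv5 D32334)
def n69636 : Q := act 6 n32326
theorem D69636 : act 6 n32326 = n69636 := rfl
theorem F105913 : act 2 n69636 = n32330 := d3_1 D69636 (iv6 D32330) D32326
theorem F105914 : act 5 n61411 = n69636 := d2_0 F105913 F51349 (iv2 F95902)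
theorem F105915 : act 7 n69636 = n61409 := d13_2 D61411 F105914 (iv5 D61409)
theorem F105916 : act 7 n69443 = n32335 := d14_2 F105915 F105717 (iv6 D32335) F51348 D69636
theorem F105917 : act 1 n69378 = n61409 := d15_1 (iv0 F105639) (iv7 F105915) F105913
theorem F105918 : act 5 n68919 = n69443 := d21_2 D32054 (iv1 F105094) (iv6 F105717) (iv1 F105917) F105638 F85292 (iv1 F85290) F50366 (iv6 F41524) (iv1 F41526)
theorem F105919 : act 6 n35062 = n68919 := d12_0 F105918 (iv6 F105717) (iv5 D61409) D61410 F95901
theorem F105920 : act 0 n61410 = n33167 := d21_7 F87102 (iv1 F53148) (iv5 D33814) F50675 (iv1 F105094) (iv6 F105919) (iv5 F95901) (iv5 F87114) (iv6 D55084) D55081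
theorem F105921 : act 2 n32335 = n54313 := d15_3 (iv0 F105093) D69443 F105916
theorem E9594 : n54309 = n15237 := (c3_4 D32335 F105921 (iv6 D54313) (iv2 F85701))
theorem E9595 : n32331 = n26254 := (((iv2 F51350)).symm.trans (sb E9594 F85701))
theorem E9596 : n32326 = n26253 := ((F51348).symm.trans (sb E9594 (iv7 D54309)))
theorem F105922 : act 2 n26254 = n15237 := (sb E9595 F51350)
theorem E9599 : n54304 = n15236 := ((F85699).symm.trans (sb E9595 (iv7 D32331)))
theorem E9600 : n69633 = n54305 := (((D54305).symm.trans (sb E9596 D69633))).symm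
theorem E9601 : n69634 = n54306 := (((D54306).symm.trans (sb E9596 D69634))).symm
theorem E9602 : n69635 = n54307 := (((D54307).symm.trans (sb E9596 D69635))).symm
theorem E9603 : n69636 = n54308 := (((D54308).symm.trans (sb E9596 D69636))).symm
theorem F105923 : act 7 n26253 = n15237 := (sb E9596 (iv7 F51348))
theorem F105924 : act 2 n15236 = n26253 := (sb E9599 (iv2 D54304))
theorem F105925 : act 7 n15236 = n26254 := (sb E9599 (iv7 F85699))
theorem F105926 : act 7 n54305 = n32332 := (sb E9600 F105908)
theorem F105927 : act 2 n54306 = n32328 := (sb E9601 F105909)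
theorem F105928 : act 7 n54306 = n32333 := (sb E9601 F105910)
theorem F105929 : act 2 n54307 = n32329 := (sb E9602 F105911)
theorem F105930 : act 7 n54307 = n32334 := (sb E9602 F105912)
theorem F105931 : act 2 n54308 = n32330 := (sb E9603 F105913)
theorem E9604 : n61411 = n29584 := (((F85700).symm.trans (sb E9603 (iv5 F105914)))).symm
theorem F105932 : act 7 n54308 = n61409 := (sb E9603 F105915)
theorem E9605 : n62570 = n29070 := (((iv2 F97560)).symm.trans (sb E9604 F95902))
theorem E9606 : n62565 = n29069 := ((F97558).symm.trans (sb E9604 (iv7 D61411)))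
theorem F105933 : act 2 n29070 = n29584 := (sb E9605 F97560)
theorem E9607 : n61406 = n29583 := ((F95900).symm.trans (sb E9605 (iv7 D62570)))
theorem F105934 : act 7 n29069 = n29584 := (sb E9606 (iv7 F97558))
theorem F105935 : act 2 n29583 = n29069 := (sb E9607 (iv2 D61406))
theorem F105936 : act 7 n29583 = n29070 := (sb E9607 (iv7 F95900))
theorem F105937 : act 7 n61412 = n62566 := d8_2 F105936 D61412 (iv3 D62566)
theorem F105938 : act 7 n61413 = n60874 := d11_2 F105936 D61413 F102299
theorem F105939 : act 7 n32330 = n62568 := d13_2 F105936 (iv5 F51349) (iv5 D62568)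
theorem F105940 : act 2 n62568 = n61409 := d4_1 F105939 (iv7 F105932) F105931
theorem F105941 : act 1 n61409 = n69365 := d15_0 F105640 F105939 F105940
theorem E9608 : n69376 = n54308 := (c15_2 (iv0 F105629) D69376 F105932 (iv2 F105940))
theorem F105942 : act 0 n54308 = n32235 := (sb E9608 (iv1 D69376))
theorem F105943 : act 2 n60874 = n61408 := d15_3 F102308 (iv0 F101403) F105938
theorem F105944 : act 2 n61413 = n60875 := d15_3 F96896 F96897 (iv7 F105938)
theorem F105945 : act 7 n60875 = n61408 := d4_2 (iv7 F105938) F105944 (iv2 F105943)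
theorem F105946 : act 2 n61410 = n62569 := d3_3 (iv6 D62569) F105935 D61410
theorem F105947 : act 2 n55634 = n35062 := d2_3 (iv5 F95901) F105946 F97559
theorem F105948 : act 7 n35061 = n55634 := d15_2 F88012 F88013 F105947
theorem F105949 : act 7 n55633 = n35062 := d15_2 F88007 F88011 (iv2 F105947)
theorem F105950 : act 2 n35061 = n55633 := d4_3 F105949 (iv2 F105947) (iv7 F105948)
theorem F105951 : act 7 n62571 = n61407 := d8_2 F105934 D62571 (iv3 D61407)
theorem F105952 : act 2 n62573 = n61414 := d3_3 (iv6 D61414) F105933 D62573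
theorem F105953 : act 2 n32334 = n54312 := d15_3 (iv0 F104984) (iv0 F104975) F105930
theorem F105954 : act 7 n32329 = n54312 := d4_2 (iv7 F105930) F105929 (iv2 F105953)
theorem F105955 : act 7 n54310 = n32327 := d8_2 F105925 D54310 (iv3 D32327)
theorem F105956 : act 7 n54311 = n32328 := d11_2 F105925 D54311 (iv4 D32328)
theorem F105957 : act 2 n32333 = n54311 := d4_3 F105956 (iv2 F105927) F105928
def n69637 : Q := act 0 n32327
theorem D69637 : act 0 n32327 = n69637 := rfl
def n69638 : Q := act 1 n32327
theorem D69638 : act 1 n32327 = n69638 := rfl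
def n69639 : Q := act 2 n32327
theorem D69639 : act 2 n32327 = n69639 := rfl
def n69640 : Q := act 4 n32327
theorem D69640 : act 4 n32327 = n69640 := rfl
def n69641 : Q := act 5 n32327
theorem D69641 : act 5 n32327 = n69641 := rfl
theorem F105958 : act 3 n69641 = n32329 := d6_1 D69641 (iv5 D32329) D32327
def n69642 : Q := act 6 n32327
theorem D69642 : act 6 n32327 = n69642 := rfl
theorem F105959 : act 3 n69642 = n32330 := d7_1 D69642 (iv6 D32330) D32327
theorem F105960 : act 5 n61412 = n69642 := d6_0 F105959 F51349 D61412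
def n69643 : Q := act 0 n32328
theorem D69643 : act 0 n32328 = n69643 := rfl
theorem F105961 : act 1 n32333 = n69643 := d15_0 (iv0 D69643) (iv7 F105956) (iv2 F105957)
def n69644 : Q := act 1 n32328
theorem D69644 : act 1 n32328 = n69644 := rfl
theorem F105962 : act 1 n69644 = n32333 := d15_1 D69644 (iv7 F105928) F105927
def n69645 : Q := act 3 n32328
theorem D69645 : act 3 n32328 = n69645 := rfl
def n69646 : Q := act 5 n32328
theorem D69646 : act 5 n32328 = n69646 := rfl
def n69647 : Q := act 6 n32328
theorem D69647 : act 6 n32328 = n69647 := rfl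
theorem F105963 : act 4 n69647 = n32330 := d10_1 D69647 (iv6 D32330) D32328
def n69648 : Q := act 0 n32329
theorem D69648 : act 0 n32329 = n69648 := rfl
theorem F105964 : act 5 n69648 = n54058 := d21_2 D32329 D69648 (iv6 D54058) (iv1 D26148) (iv6 D12404) (iv5 D5903) (iv1 F3945) (iv5 F5309) D7218 D15236
theorem F105965 : act 1 n32334 = n69648 := d15_0 (iv0 D69648) F105954 (iv2 F105953)
theorem F105966 : act 0 n32335 = n68935 := d21_10 (iv5 D68935) (iv1 F85398) F85395 F41524 (iv1 F41454) D54058 (iv5 F105964) (iv1 F105965) (iv5 D32334) D32335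
def n69649 : Q := act 1 n32329
theorem D69649 : act 1 n32329 = n69649 := rfl
theorem F105967 : act 1 n69649 = n32334 := d15_1 D69649 (iv7 F105930) F105929
theorem F105968 : act 6 n33980 = n69649 := d21_9 (iv5 D32329) (iv1 F41683) F41680 (iv6 D18715) (iv1 F22062) D27820 (iv5 F87564) F105755 F105754 (iv1 D69649)
theorem F105969 : act 5 n69649 = n68786 := d12_1 F105968 F104985 (iv5 F53279) D69460 F105754
theorem F105970 : act 7 n68785 = n69649 := d13_0 F105969 (iv7 D68786) D68785
theorem F105971 : act 0 n54247 = n32335 := d21_4 D33925 F85592 (iv5 D54246) D54247 (iv6 D32335) D32334 (iv1 F105967) F105969 F104985 (iv1 D33924)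
theorem F105972 : act 2 n68785 = n69648 := d15_3 (iv0 D69648) D69649 (iv7 F105970)
theorem E9609 : n68771 = n54058 := ((c2_3 D68785 F105972 F105964 F104966)).symm
theorem F105973 : act 1 n54058 = n67877 := (sb E9609 F104987)
theorem F105974 : act 2 n54058 = n31996 := (sb E9609 F104966)
theorem E9610 : n31992 = n26148 := ((((iv6 D54058)).symm.trans (sb E9609 (iv6 D68771)))).symm
theorem E9611 : n68748 = n12404 := ((((iv1 D26148)).symm.trans (sb E9610 (iv1 F104944)))).symm
theorem E9613 : n54054 = n15089 := (((iv2 F85283)).symm.trans (sb E9610 F50364))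
theorem E9614 : n68759 = n54055 := (((D54055).symm.trans (sb E9610 (iv3 F104954)))).symm
theorem E9615 : n66980 = n54056 := (((D54056).symm.trans (sb E9610 (iv4 F104977)))).symm
theorem E9616 : n68769 = n54057 := (((D54057).symm.trans (sb E9610 (iv5 F104964)))).symm
theorem E9617 : n54049 = n15088 := ((F85280).symm.trans (sb E9610 (iv7 D31992)))
theorem E9618 : n31987 = n26147 := (((D26147).symm.trans (sb E9611 (iv1 D68748)))).symm
theorem F105975 : act 2 n15089 = n26148 := (sb E9613 F85283)
theorem F105976 : act 7 n54055 = n31988 := (sb E9614 (iv7 D68759))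
theorem F105978 : act 7 n54056 = n31186 := (sb E9615 (iv7 D66980))
theorem F105979 : act 2 n54057 = n31995 := (sb E9616 F104963)
theorem F105980 : act 7 n54057 = n31990 := (sb E9616 (iv7 D68769))
theorem F105981 : act 7 n15088 = n26148 := (sb E9617 (iv7 F85280))
theorem F105982 : act 2 n26147 = n15088 := (sb E9618 (iv2 D31987))
theorem E9619 : n68749 = n54050 := (((D54050).symm.trans (sb E9618 D68749))).symm
theorem E9620 : n66975 = n54051 := (((D54051).symm.trans (sb E9618 (iv4 F104979)))).symm
theorem E9621 : n68751 = n54052 := (((D54052).symm.trans (sb E9618 D68751))).symm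
theorem E9622 : n68752 = n54053 := (((D54053).symm.trans (sb E9618 D68752))).symm
theorem F105983 : act 7 n26147 = n15089 := (sb E9618 (iv7 F50363))
theorem F105984 : act 7 n54050 = n31993 := (sb E9619 F104945)
theorem F105985 : act 2 n54051 = n31186 := (sb E9620 (iv2 D66975))
theorem F105987 : act 2 n54052 = n31990 := (sb E9621 F104948)
theorem F105988 : act 7 n54052 = n31995 := (sb E9621 F104949)
theorem F105989 : act 2 n54053 = n31991 := (sb E9622 F104950)
theorem E9623 : n69461 = n34295 := (((F85281).symm.trans (sb E9622 (iv5 F105757)))).symm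
theorem F105990 : act 7 n54053 = n33924 := (sb E9622 (iv7 F104951))
theorem F105991 : act 2 n34295 = n32261 := (sb E9623 F105756)
theorem F105992 : act 7 n34295 = n32260 := (sb E9623 (iv7 D69461))
theorem E9624 : n69457 = n34294 := (c15_4 (iv0 D34294) D34295 F105992 D69457)
theorem F105993 : act 2 n34294 = n32260 := (sb E9624 (iv2 D69457))
theorem F105994 : act 7 n34294 = n32261 := (sb E9624 (iv7 F105753))
theorem F105997 : act 6 n69648 = n39424 := d21_3 (iv5 F103931) (iv1 F105973) (iv5 F105964) (iv1 D39424) (iv6 D18682) (iv5 D8764) (iv1 F9811) (iv5 F22066) D27826 (iv1 F85703)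
theorem F105998 : act 0 n69590 = n67876 := d21_1 D69590 (iv5 D67876) D67877 (iv1 F105973) (iv6 D54058) D54057 F105905 F105902 (iv6 F85667) (iv1 F85669)
theorem F105999 : act 2 n39424 = n58416 := d3_1 F105997 (iv6 F104973) F105972
theorem F106000 : act 7 n58415 = n39424 := d15_2 F92269 F92272 F105999
theorem F106001 : act 7 n39423 = n58416 := d15_2 F92273 F92274 (iv2 F105999)
theorem F106002 : act 2 n58415 = n39423 := d4_3 F106001 (iv2 F105999) (iv7 F106000)
def n69650 : Q := act 4 n32329
theorem D69650 : act 4 n32329 = n69650 := rfl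
def n69651 : Q := act 6 n32329
theorem D69651 : act 6 n32329 = n69651 := rfl
theorem F106003 : act 5 n69651 = n61414 := d12_1 D69651 (iv6 D61414) (iv5 F51349) (iv6 D32330) D32329
theorem F106004 : act 0 n39415 = n69651 := d21_4 (iv5 F42955) (iv1 F43211) F29946 D39415 (iv6 D69651) (iv5 D32329) (iv1 F41683) F41680 (iv6 D18715) (iv1 F22062)
def n69652 : Q := act 0 n32332
theorem D69652 : act 0 n32332 = n69652 := rfl
def n69653 : Q := act 1 n32332
theorem D69653 : act 1 n32332 = n69653 := rfl
def n69654 : Q := act 2 n32332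
theorem D69654 : act 2 n32332 = n69654 := rfl
def n69655 : Q := act 4 n32332
theorem D69655 : act 4 n32332 = n69655 := rfl
def n69656 : Q := act 5 n32332
theorem D69656 : act 5 n32332 = n69656 := rfl
theorem F106005 : act 3 n69656 = n32334 := d6_1 D69656 (iv5 D32334) D32332
def n69657 : Q := act 6 n32332
theorem D69657 : act 6 n32332 = n69657 := rfl
theorem F106006 : act 3 n69657 = n32335 := d7_1 D69657 (iv6 D32335) D32332
def n69658 : Q := act 3 n32333
theorem D69658 : act 3 n32333 = n69658 := rfl
def n69659 : Q := act 5 n32333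
theorem D69659 : act 5 n32333 = n69659 := rfl
def n69660 : Q := act 6 n32333
theorem D69660 : act 6 n32333 = n69660 := rfl
theorem F106007 : act 4 n69660 = n32335 := d10_1 D69660 (iv6 D32335) D32333
def n69661 : Q := act 4 n32334
theorem D69661 : act 4 n32334 = n69661 := rfl
def n69662 : Q := act 6 n32334
theorem D69662 : act 6 n32334 = n69662 := rfl
theorem F106008 : act 0 n33974 = n69662 := d21_4 (iv5 F27307) F27306 (iv5 F25904) D33974 (iv6 D69662) (iv5 D32334) (iv1 D15237) D15238 F24831 (iv1 F21161)
def n69663 : Q := act 5 n32335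
theorem D69663 : act 5 n32335 = n69663 := rfl
theorem F106009 : act 2 n69663 = n68918 := d2_1 D69663 F105091 (iv2 F105921)
theorem F106010 : act 7 n69663 = n68919 := d13_2 F105916 D69663 F105918
theorem F106011 : act 0 n69663 = n54099 := d21_1 D69663 (iv5 D54099) F53265 (iv1 D16397) D16399 D33925 F85592 (iv5 D54246) D54247 F105971
theorem F106012 : act 0 n54095 = n69663 := d21_1 D54095 (iv5 D69663) (iv6 D32335) (iv1 D15237) (iv6 D7218) F5309 (iv1 F3940) D5906 D12413 D26173
def n69664 : Q := act 2 n32336
theorem D69664 : act 2 n32336 = n69664 := rfl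
theorem F106013 : act 7 n32337 = n69664 := d15_2 (iv0 D32336) D32337 (iv2 D69664)
def n69665 : Q := act 3 n32336
theorem D69665 : act 3 n32336 = n69665 := rfl
def n69666 : Q := act 4 n32336
theorem D69666 : act 4 n32336 = n69666 := rfl
def n69667 : Q := act 6 n32336
theorem D69667 : act 6 n32336 = n69667 := rfl
theorem F106014 : act 5 n69667 = n54750 := d21_6 (iv5 D12745) (iv1 F9363) D7219 (iv6 F24831) D32336 D69667 (iv1 D54750) D54751 F86596 (iv1 D26680)
def n69668 : Q := act 7 n32336
theorem D69668 : act 7 n32336 = n69668 := rfl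
theorem F106015 : act 2 n69668 = n32337 := d4_1 D69668 F106013 (iv2 D69664)
def n69669 : Q := act 3 n32337
theorem D69669 : act 3 n32337 = n69669 := rfl
def n69670 : Q := act 4 n32337
theorem D69670 : act 4 n32337 = n69670 := rfl
def n69671 : Q := act 6 n32337
theorem D69671 : act 6 n32337 = n69671 := rfl
def n69672 : Q := act 0 n32338
theorem D69672 : act 0 n32338 = n69672 := rfl
theorem F106016 : act 1 n39494 = n69672 := d15_0 (iv0 D69672) (iv7 F92378) F92376
def n69673 : Q := act 1 n32338
theorem D69673 : act 1 n32338 = n69673 := rfl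
theorem F106017 : act 1 n69673 = n39494 := d15_1 D69673 F60396 F53334
def n69674 : Q := act 3 n32338
theorem D69674 : act 3 n32338 = n69674 := rfl
theorem F106018 : act 6 n69674 = n32339 := d7_2 (iv6 F51353) D69674 (iv3 D32339)
def n69675 : Q := act 0 n32339
theorem D69675 : act 0 n32339 = n69675 := rfl
theorem F106019 : act 1 n34008 = n69675 := d15_0 (iv0 D69675) F51355 D34008
def n69676 : Q := act 1 n32339
theorem D69676 : act 1 n32339 = n69676 := rfl
def n69677 : Q := act 2 n32339
theorem D69677 : act 2 n32339 = n69677 := rfl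
theorem F106020 : act 5 n69677 = n55249 := d2_2 (iv5 F51354) D69677 (iv2 D55249)
theorem F106021 : act 7 n69677 = n34008 := d4_2 (iv7 F51355) D69677 (iv2 D34008)
theorem F106022 : act 1 n69677 = n34006 := d15_0 (iv0 D34006) (iv7 F51355) D69677
theorem F106023 : act 1 n69676 = n34008 := d15_1 D69676 (iv7 F106021) (iv2 D69677)
theorem F106024 : act 1 n34007 = n69677 := d15_1 D34007 F106021 (iv2 D34008)
def n69678 : Q := act 1 n32340
theorem D69678 : act 1 n32340 = n69678 := rfl
theorem F106025 : act 1 n69678 = n34881 := d15_1 D69678 (iv7 F83117) F83114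
theorem F106026 : act 4 n69678 = n49115 := d18_7 F83447 F83446 (iv1 F54176) (iv4 F54177) F54179 (iv4 F51356) D69678 (iv0 F77542) F42810
theorem F106027 : act 5 n69678 = n52876 := d18_9 (iv1 D52876) (iv4 F41849) F54195 F54192 (iv5 D16915) F12496 D16913 (iv4 F51356) D69678
theorem F106028 : act 3 n34852 = n69678 := d19_19 (iv1 D69678) (iv5 F55674) (iv4 D35059) (iv3 D17019) (iv1 D7945) (iv5 D3597) F2760 (iv3 F2750) D3582 (iv5 F26285) F10373 (iv3 D5144) (iv1 F3800) D5769 (iv4 F8899) (iv3 F20187) D25642 F65521 D34852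
def n69679 : Q := act 5 n32341
theorem D69679 : act 5 n32341 = n69679 := rfl
theorem F106029 : act 2 n69679 = n44011 := d2_1 D69679 F69243 (iv2 F51358)
theorem F106030 : act 0 n69679 = n44058 := d17_2 (iv1 F55279) D69679 (iv5 F82940) F82939 F41412 F43297 F43296 F41855 (iv4 F55277)
theorem F106031 : act 4 n69679 = n40368 := d17_4 (iv1 F65441) F65439 (iv1 F55279) D69679 (iv5 F62312) (iv0 D41073) (iv5 D19333) D19330 D41069
theorem F106032 : act 1 n69679 = n44047 := d17_8 (iv1 F64042) D45993 (iv1 F73764) (iv5 D46669) (iv4 F51670) (iv5 D32620) (iv0 F54159) D69679 F69348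
def n69680 : Q := act 4 n32342
theorem D69680 : act 4 n32342 = n69680 := rfl
theorem F106033 : act 2 n69680 = n32344 := d1_1 D69680 (iv4 D32344) (iv2 F51359)
theorem F106034 : act 5 n69680 = n45164 := d9_2 D32342 D69680 F71174 (iv5 D26730) (iv4 D12790) (iv5 D6047) (iv4 F9391) D12764 D26706 (iv5 F71168) F71167 (iv5 D34577) F27534 F12395 (iv4 F24835)
theorem F106035 : act 7 n69680 = n52885 := d11_2 (iv7 F51360) D69680 (iv4 D52885)
theorem F106036 : act 0 n69680 = n45117 := d17_0 (iv5 D45117) D45115 F71076 F40628 F20207 (iv0 F37261) D25661 (iv0 F51361) D69680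
theorem F106037 : act 1 n69680 = n54799 := d18_6 (iv1 F28364) (iv4 D12779) (iv1 F11549) (iv4 F24835) D32342 D69680 F86712 (iv0 F56619) (iv5 D35931)
def n69681 : Q := act 6 n32342
theorem D69681 : act 6 n32342 = n69681 := rfl
theorem F106038 : act 2 n69681 = n32345 := d3_1 D69681 (iv6 D32345) (iv2 F51359)
def n69682 : Q := act 6 n32344
theorem D69682 : act 6 n32344 = n69682 := rfl
theorem F106039 : act 4 n69682 = n32345 := d10_1 D69682 (iv6 D32345) D32344
def n69683 : Q := act 0 n32345
theorem D69683 : act 0 n32345 = n69683 := rfl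
def n69684 : Q := act 1 n32345
theorem D69684 : act 1 n32345 = n69684 := rfl
def n69685 : Q := act 5 n32345
theorem D69685 : act 5 n32345 = n69685 := rfl
theorem F106040 : act 3 n69685 = n32352 := d6_1 D69685 (iv5 D32352) (iv3 F51369)
theorem F106041 : act 6 n69685 = n32348 := d12_2 D32345 D69685 (iv5 D32348) (iv6 D15244) D15243
def n69686 : Q := act 7 n32345
theorem D69686 : act 7 n32345 = n69686 := rfl
theorem F106042 : act 3 n69686 = n32353 := d8_1 D69686 (iv7 D32353) (iv3 F51369)
theorem F106043 : act 6 n69686 = n55265 := d14_1 D69686 (iv7 D55265) (iv6 D26707) (iv7 F24841) D32345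
def n69687 : Q := act 3 n32346
theorem D69687 : act 3 n32346 = n69687 := rfl
theorem F106044 : act 4 n69687 = n59803 := d5_2 F82319 D69687 F94158 (iv4 D52085) D52084
def n69688 : Q := act 6 n32346
theorem D69688 : act 6 n32346 = n69688 := rfl
theorem F106045 : act 7 n69688 = n61288 := d14_2 (iv7 F97652) D69688 (iv6 D61288) F78773 D62615
def n69689 : Q := act 0 n32348
theorem D69689 : act 0 n32348 = n69689 := rfl
theorem F106046 : act 5 n69689 = n48898 := d17_3 (iv1 D32347) D32348 D69689 (iv4 D48898) D48899 F104011 (iv5 F50407) D53963 (iv4 F85115)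
theorem F106047 : act 2 n52554 = n69689 := d2_3 F106046 F77078 D52554
theorem F106048 : act 7 n52552 = n69689 := d13_0 F106046 F77079 D52552
theorem F106049 : act 1 n59837 = n69689 := d17_6 (iv1 F20651) D15106 (iv1 F41443) (iv5 F41446) D28391 D59837 F106046 (iv0 F77081) (iv4 D26138)
def n69690 : Q := act 1 n32348
theorem D69690 : act 1 n32348 = n69690 := rfl
theorem F106050 : act 1 n69690 = n59837 := d15_1 D69690 (iv7 F104872) F104870
theorem F106051 : act 7 n69690 = n52554 := d15_2 (iv0 D69689) D69690 F106047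
theorem F106052 : act 5 n69690 = n52542 := d17_7 (iv1 D12400) D12402 F26928 (iv5 D15265) (iv4 F24843) D32348 D69690 (iv0 F83026) (iv4 D26140)
theorem F106053 : act 2 n52552 = n69690 := d2_3 F106052 F83022 D52552
theorem F106054 : act 3 n52543 = n69690 := d6_3 F106052 (iv3 D52542) D52543
def n69691 : Q := act 4 n32348
theorem D69691 : act 4 n32348 = n69691 := rfl
theorem F106055 : act 2 n69691 = n68853 := d1_1 D69691 F105041 F104870
theorem F106056 : act 0 n69691 = n68832 := d18_2 (iv1 D69690) D69691 (iv4 D68832) (iv5 D32016) (iv4 D15105) F20651 D26138 (iv0 F83025) (iv5 F106052)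
theorem F106057 : act 1 n69691 = n52499 := d18_6 (iv1 D28385) F22704 F26913 (iv4 F24843) D32348 D69691 (iv4 D52499) D52498 F82890
def n69692 : Q := act 7 n32348
theorem D69692 : act 7 n32348 = n69692 := rfl
theorem F106058 : act 2 n69692 = n59837 := d4_1 D69692 (iv7 F104872) F104870
theorem F106059 : act 3 n69692 = n32361 := d8_1 D69692 (iv7 D32361) (iv3 F51371)
theorem F106060 : act 5 n69692 = n32349 := d13_1 D69692 (iv7 D32349) D32348
theorem F106061 : act 1 n52552 = n69692 := d15_1 (iv0 F104873) (iv7 D69692) (iv2 F104870)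
theorem F106062 : act 1 n69692 = n52554 := d15_1 F106061 (iv7 F106051) (iv2 F106053)
theorem F106063 : act 4 n68852 = n69692 := d18_3 (iv1 D32025) D32026 D68852 F106060 F51374 (iv0 F26894) (iv4 F20021) D25455 (iv5 F50400)
theorem F106064 : act 7 n69691 = n68852 := d11_0 F106063 (iv7 D69692) D69691
def n69693 : Q := act 2 n32350
theorem D69693 : act 2 n32350 = n69693 := rfl
theorem F106065 : act 7 n32351 = n69693 := d15_2 (iv0 D32350) D32351 (iv2 D69693)
def n69694 : Q := act 3 n32350
theorem D69694 : act 3 n32350 = n69694 := rfl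
def n69695 : Q := act 4 n32350
theorem D69695 : act 4 n32350 = n69695 := rfl
def n69696 : Q := act 5 n32350
theorem D69696 : act 5 n32350 = n69696 := rfl
def n69697 : Q := act 6 n32350
theorem D69697 : act 6 n32350 = n69697 := rfl
theorem F106066 : act 5 n69697 = n48707 := d21_6 (iv5 D7881) F5608 D7221 D15245 D32350 D69697 (iv1 D48707) F36996 (iv6 D11137) (iv1 F12478)
def n69698 : Q := act 7 n32350
theorem D69698 : act 7 n32350 = n69698 := rfl
theorem F106067 : act 2 n69698 = n32351 := d4_1 D69698 F106065 (iv2 D69693)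
def n69699 : Q := act 3 n32351
theorem D69699 : act 3 n32351 = n69699 := rfl
def n69700 : Q := act 4 n32351
theorem D69700 : act 4 n32351 = n69700 := rfl
def n69701 : Q := act 5 n32351
theorem D69701 : act 5 n32351 = n69701 := rfl
def n69702 : Q := act 6 n32351
theorem D69702 : act 6 n32351 = n69702 := rfl
def n69703 : Q := act 0 n32352
theorem D69703 : act 0 n32352 = n69703 := rfl
def n69704 : Q := act 1 n32352
theorem D69704 : act 1 n32352 = n69704 := rfl
theorem F106068 : act 5 n53014 = n69704 := d21_6 (iv5 D5776) (iv1 F5588) (iv5 F8907) D12216 D25729 D53014 (iv1 D69704) (iv5 D32352) (iv6 D15245) F11540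
def n69705 : Q := act 4 n32352
theorem D69705 : act 4 n32352 = n69705 := rfl
theorem F106069 : act 6 n69705 = n32360 := d10_2 (iv6 F51377) D69705 (iv4 D32360)
def n69706 : Q := act 7 n32352
theorem D69706 : act 7 n32352 = n69706 := rfl
theorem F106070 : act 5 n69706 = n32353 := d13_1 D69706 (iv7 D32353) D32352
def n69707 : Q := act 4 n32354
theorem D69707 : act 4 n32354 = n69707 := rfl
def n69708 : Q := act 6 n32354
theorem D69708 : act 6 n32354 = n69708 := rfl
def n69709 : Q := act 1 n32356
theorem D69709 : act 1 n32356 = n69709 := rfl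
theorem F106071 : act 4 n49038 = n69709 := d20_0 (iv1 D69709) (iv4 F51390) (iv3 D32363) F24851 (iv3 F27038) F20019 (iv1 F11398) D11204 D23923 D49038
def n69710 : Q := act 5 n32356
theorem D69710 : act 5 n32356 = n69710 := rfl
theorem F106072 : act 3 n69710 = n32357 := d6_1 D69710 (iv5 D32357) D32356
def n69711 : Q := act 4 n32357
theorem D69711 : act 4 n32357 = n69711 := rfl
def n69712 : Q := act 6 n32357
theorem D69712 : act 6 n32357 = n69712 := rfl
theorem F106073 : act 5 n69712 = n61285 := d12_1 D69712 (iv6 D61285) (iv5 D29013) (iv6 F24846) D32357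
def n69713 : Q := act 4 n32358
theorem D69713 : act 4 n32358 = n69713 := rfl
theorem F106074 : act 7 n69713 = n52528 := d11_2 F51384 D69713 (iv4 D52528)
theorem F106075 : act 5 n69713 = n69711 := d16_1 D69713 (iv4 D69711) (iv5 D32357) (iv4 F24845) (iv5 F21459) (iv4 F36969) (iv5 F51385) (iv7 F55223) (iv2 F55222)
theorem F106076 : act 1 n69713 = n52630 := d18_6 D25485 F40293 F27342 (iv4 F40330) (iv5 F51383) D69713 (iv4 D52630) F40378 (iv5 D25486)
def n69714 : Q := act 6 n32358
theorem D69714 : act 6 n32358 = n69714 := rfl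
theorem F106077 : act 2 n69714 = n42392 := d3_1 D69714 F65463 (iv2 F55222)
theorem F106078 : act 5 n69714 = n42389 := d12_1 D69714 (iv6 D42389) (iv5 F56708) F56706 (iv5 F51383)
def n69715 : Q := act 3 n32359
theorem D69715 : act 3 n32359 = n69715 := rfl
theorem F106079 : act 5 n69715 = n42396 := d6_2 (iv5 F51385) D69715 F65472
theorem F106080 : act 7 n69715 = n42395 := d8_2 F55223 D69715 F65470
def n69716 : Q := act 4 n32359
theorem D69716 : act 4 n32359 = n69716 := rfl
theorem F106081 : act 2 n69716 = n52528 := d1_1 D69716 (iv4 D52528) F51386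
theorem F106082 : act 5 n69716 = n69707 := d9_2 (iv5 F51385) D69716 (iv4 D69707) (iv5 D32354) F24844 (iv5 F22712) (iv4 F40330) (iv5 F51383) D69713 F106075 (iv4 D69711) (iv5 D32357) (iv4 F24845) (iv5 F21459) (iv4 F36969)
theorem F106083 : act 0 n69716 = n52630 := d18_2 (iv1 F55229) D69716 (iv4 D52630) (iv5 D25541) F20075 D12915 F24845 F27749 (iv5 F55228)
def n69717 : Q := act 6 n32359
theorem D69717 : act 6 n32359 = n69717 := rfl
theorem F106084 : act 2 n69717 = n52526 := d3_1 D69717 F82947 F51386
theorem F106085 : act 5 n69717 = n48691 := d12_1 D69717 (iv6 D48691) (iv5 D23742) D23743 (iv5 F51385)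
def n69718 : Q := act 0 n32360
theorem D69718 : act 0 n32360 = n69718 := rfl
theorem F106086 : act 4 n69718 = n34872 := d18_3 (iv1 D32359) D32360 D69718 F55146 F40300 (iv0 F20044) D15014 (iv0 F36970) (iv5 F51385)
theorem F106087 : act 7 n52511 = n69718 := d11_0 F106086 (iv7 F55148) D52511
def n69719 : Q := act 1 n32360
theorem D69719 : act 1 n32360 = n69719 := rfl
theorem F106088 : act 4 n69719 = n34873 := d18_7 (iv1 F37702) (iv4 D15251) (iv1 D7224) (iv4 F11542) D15248 D32360 D69719 (iv0 F78011) (iv5 D49335)
theorem F106089 : act 2 n52511 = n69719 := d1_3 F106088 (iv2 F55150) D52511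
def n69720 : Q := act 3 n32360
theorem D69720 : act 3 n32360 = n69720 := rfl
def n69721 : Q := act 5 n32360
theorem D69721 : act 5 n32360 = n69721 := rfl
theorem F106090 : act 4 n69721 = n34901 := d16_2 D32360 D69721 F55228 F27747 F12526 (iv4 F27747) (iv5 F55228) (iv7 D34901) F27745
theorem F106091 : act 7 n69721 = n34900 := d16_8 (iv4 D32360) (iv5 D15248) F11542 F5315 (iv4 F11542) D15248 D32360 D69721 F55225
theorem F106092 : act 1 n69719 = n69721 := d15_1 D69719 F106091 F55225
theorem F106093 : act 1 n69721 = n69718 := d15_1 F106092 (iv7 F106087) F106089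
def n69722 : Q := act 7 n32360
theorem D69722 : act 7 n32360 = n69722 := rfl
theorem F106094 : act 2 n69722 = n69721 := d4_1 D69722 F106091 F55225
theorem F106095 : act 4 n69722 = n32361 := d11_1 D69722 (iv7 D32361) D32360
theorem F106096 : act 5 n69722 = n34900 := d13_1 D69722 (iv7 F106091) (iv5 D69721)
theorem F106097 : act 1 n52511 = n69722 := d15_1 (iv0 F82912) (iv7 D69722) (iv2 F55225)
def n69723 : Q := act 6 n32361
theorem D69723 : act 6 n32361 = n69723 := rfl
theorem F106098 : act 5 n69723 = n51073 := d12_1 D69723 (iv6 D51073) F38891 (iv6 F24848) (iv5 F51387)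
def n69724 : Q := act 4 n32362
theorem D69724 : act 4 n32362 = n69724 := rfl
theorem F106099 : act 5 n69724 = n69719 := d16_1 D69724 F106088 F55149 F36963 F18037 D15251 D32364 (iv7 F55328) F55327
def n69725 : Q := act 6 n32362
theorem D69725 : act 6 n32362 = n69725 := rfl
def n69726 : Q := act 5 n32363
theorem D69726 : act 5 n32363 = n69726 := rfl
theorem F106100 : act 3 n69726 = n32364 := d6_1 D69726 (iv5 D32364) D32363
def n69727 : Q := act 4 n32364
theorem D69727 : act 4 n32364 = n69727 := rfl
theorem F106101 : act 5 n69727 = n69718 := d9_2 D32364 D69727 F106086 F55146 F40300 F20043 D15250 D32362 D69724 F106099 F106088 F55149 F36963 F18037 D15251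
def n69728 : Q := act 6 n32364
theorem D69728 : act 6 n32364 = n69728 := rfl
theorem F106102 : act 5 n69728 = n61278 := d12_1 D69728 (iv6 D61278) (iv5 D29009) (iv6 F24850) D32364
def n69729 : Q := act 6 n32365
theorem D69729 : act 6 n32365 = n69729 := rfl
theorem F106103 : act 2 n69729 = n35929 := d3_1 D69729 F56614 (iv2 F51393)
theorem F106104 : act 5 n69729 = n35924 := d12_1 D69729 (iv6 D35924) (iv5 D17391) (iv6 F26654) D32365
def n69730 : Q := act 6 n32366
theorem D69730 : act 6 n32366 = n69730 := rfl
theorem F106105 : act 2 n69730 = n42180 := d3_1 D69730 F65111 (iv2 F51395)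
theorem F106106 : act 3 n69730 = n35953 := d7_1 D69730 (iv6 D35953) (iv3 F51396)
theorem F106107 : act 5 n69730 = n42178 := d12_1 D69730 (iv6 D42178) (iv5 F40425) F40426 D32366
def n69731 : Q := act 0 n32368
theorem D69731 : act 0 n32368 = n69731 := rfl
theorem F106108 : act 4 n69731 = n48899 := d18_3 F26928 D32368 D69731 (iv5 D48899) D48898 (iv0 F77081) (iv4 D26138) (iv0 D12399) D12402
theorem F106109 : act 1 n54038 = n69731 := d15_0 (iv0 D69731) F51402 (iv2 F85261)
theorem F106110 : act 2 n68862 = n69731 := d1_3 F106108 (iv2 F104021) (iv4 F105054)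
theorem F106111 : act 7 n68861 = n69731 := d11_0 F106108 (iv7 F103990) (iv4 F105051)
def n69732 : Q := act 1 n32368
theorem D69732 : act 1 n32368 = n69732 := rfl
theorem F106112 : act 1 n69732 = n54038 := d15_1 D69732 F85262 (iv2 F51401)
theorem F106113 : act 7 n69732 = n68862 := d15_2 (iv0 D69731) D69732 F106110
theorem F106114 : act 4 n69732 = n59853 := d18_7 (iv1 F85119) (iv4 F85115) (iv1 D32347) F24843 D15265 D32368 D69732 F104012 (iv5 D67928)
theorem F106115 : act 2 n68861 = n69732 := d1_3 F106114 (iv2 F103988) (iv4 F105051)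
def n69733 : Q := act 3 n32368
theorem D69733 : act 3 n32368 = n69733 := rfl
theorem F106116 : act 4 n69733 = n32376 := d5_2 D32368 D69733 (iv3 D32376) (iv4 D15272) (iv3 F24855)
theorem F106117 : act 7 n69733 = n68863 := d8_2 (iv7 F51402) D69733 (iv3 D68863)
def n69734 : Q := act 5 n32368
theorem D69734 : act 5 n32368 = n69734 := rfl
theorem F106118 : act 2 n69734 = n68870 := d2_1 D69734 (iv5 D68870) (iv2 F51401)
theorem F106119 : act 7 n69734 = n68864 := d13_2 (iv7 F51402) D69734 (iv5 D68864)
def n69735 : Q := act 1 n32369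
theorem D69735 : act 1 n32369 = n69735 := rfl
theorem F106120 : act 5 n58415 = n69735 := d21_0 (iv1 D69735) F51403 (iv6 D16444) (iv1 D7625) (iv6 F9805) (iv5 D6298) D6296 D13266 D27800 D58415
theorem F106121 : act 6 n33979 = n58415 := d21_5 (iv5 D3459) D3457 D7617 D16429 D33979 F106120 (iv1 D69735) F51403 (iv6 D16444) (iv1 D7625)
def n69736 : Q := act 7 n32369
theorem D69736 : act 7 n32369 = n69736 := rfl
theorem F106122 : act 5 n69736 = n34001 := d13_1 D69736 (iv7 D34001) (iv5 F51403)
def n69737 : Q := act 5 n32370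
theorem D69737 : act 5 n32370 = n69737 := rfl
theorem F106123 : act 2 n69737 = n48696 := d2_1 D69737 F76633 (iv2 F51404)
theorem F106124 : act 3 n69737 = n34880 := d6_1 D69737 (iv5 D34880) (iv3 F51405)
theorem F106125 : act 7 n69737 = n48695 := d13_2 (iv7 F51407) D69737 F85306
theorem F106126 : act 0 n69737 = n48694 := d17_2 F51409 D69737 (iv5 D48694) F36979 D23850 D48907 (iv5 F77112) F54268 (iv4 F39801)
theorem F106127 : act 1 n69737 = n48699 := d17_6 (iv1 F41545) D54067 F85303 (iv5 D32371) D32370 D69737 F76637 (iv0 F41549) (iv4 D26181)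
def n69738 : Q := act 4 n32371
theorem D69738 : act 4 n32371 = n69738 := rfl
theorem F106128 : act 2 n69738 = n48917 := d1_1 D69738 (iv4 F85459) F85456
theorem F106129 : act 7 n69738 = n48916 := d11_2 F54566 D69738 F77128
theorem F106130 : act 0 n69738 = n48908 := d18_2 F85303 D69738 (iv4 D48908) (iv5 D23850) (iv4 F36979) F50300 F50299 F41546 D54067
theorem F106131 : act 1 n69738 = n48921 := d18_6 (iv1 D25288) (iv4 F39801) F51409 (iv4 D32370) D32371 D69738 F77133 F77094 (iv5 F77095)
def n69739 : Q := act 6 n32371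
theorem D69739 : act 6 n32371 = n69739 := rfl
theorem F106132 : act 3 n69739 = n32373 := d7_1 D69739 (iv6 D32373) (iv3 F51410)
theorem F106133 : act 5 n69739 = n61392 := d12_1 D69739 (iv6 D61392) (iv5 D29062) (iv6 F24858) D32371
def n69740 : Q := act 3 n32372
theorem D69740 : act 3 n32372 = n69740 := rfl
def n69741 : Q := act 6 n32372
theorem D69741 : act 6 n32372 = n69741 := rfl
theorem F106134 : act 4 n69741 = n32373 := d10_1 D69741 (iv6 D32373) D32372
def n69742 : Q := act 0 n32373
theorem D69742 : act 0 n32373 = n69742 := rfl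
def n69743 : Q := act 1 n32373
theorem D69743 : act 1 n32373 = n69743 := rfl
theorem F106135 : act 6 n39629 = n69743 := d21_3 (iv5 F30426) F30423 D39629 (iv1 D69743) (iv6 D32373) (iv5 D15270) (iv1 D7231) D7232 (iv6 F12397) D16805
theorem F106136 : act 5 n54618 = n69743 := d21_6 (iv5 D6703) (iv1 F4983) D5987 (iv6 F20983) D26414 D54618 (iv1 D69743) F51413 (iv6 D29063) F23113
def n69744 : Q := act 7 n32373
theorem D69744 : act 7 n32373 = n69744 := rfl
theorem F106137 : act 5 n69744 = n61395 := d13_1 D69744 (iv7 D61395) (iv5 F51413)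
def n69745 : Q := act 3 n32374
theorem D69745 : act 3 n32374 = n69745 := rfl
theorem F106138 : act 4 n69745 = n54130 := d5_2 D32374 D69745 (iv3 D54130) (iv4 D26195) F26898
theorem F106139 : act 5 n69745 = n69740 := d6_2 (iv5 F51415) D69745 (iv3 D69740)
theorem F106140 : act 7 n69745 = n54063 := d8_2 (iv7 F51416) D69745 (iv3 D54063)
def n69746 : Q := act 6 n32374
theorem D69746 : act 6 n32374 = n69746 := rfl
theorem F106141 : act 2 n69746 = n68809 := d3_1 D69746 (iv6 D68809) (iv2 F51414)
theorem F106142 : act 4 n69746 = n32375 := d10_1 D69746 (iv6 D32375) D32374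
def n69747 : Q := act 0 n32375
theorem D69747 : act 0 n32375 = n69747 := rfl
def n69748 : Q := act 1 n32375
theorem D69748 : act 1 n32375 = n69748 := rfl
theorem F106143 : act 1 n69748 = n68799 := d15_1 D69748 F104994 (iv2 F51419)
def n69749 : Q := act 7 n32375
theorem D69749 : act 7 n32375 = n69749 := rfl
theorem F106144 : act 2 n69749 = n68799 := d4_1 D69749 F104994 (iv2 F51419)
theorem F106145 : act 3 n69749 = n54136 := d8_1 D69749 (iv7 D54136) (iv3 F51420)
theorem F106146 : act 5 n69749 = n68946 := d13_1 D69749 F105110 (iv5 F51421)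
theorem F106147 : act 6 n69749 = n54062 := d14_1 D69749 (iv7 D54062) F41456 (iv7 F24861) D32375
theorem F106148 : act 1 n68799 = n69747 := d15_0 (iv0 D69747) D69749 F106144
theorem F106149 : act 1 n68811 = n69749 := d15_1 D68811 (iv7 D69749) F51419
theorem F106150 : act 1 n69749 = n68810 := d15_0 (iv0 D68810) (iv7 F104994) (iv2 F106144)
def n69750 : Q := act 0 n32376
theorem D69750 : act 0 n32376 = n69750 := rfl
def n69751 : Q := act 1 n32376
theorem D69751 : act 1 n32376 = n69751 := rfl
def n69752 : Q := act 2 n32376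
theorem D69752 : act 2 n32376 = n69752 := rfl
def n69753 : Q := act 7 n32376
theorem D69753 : act 7 n32376 = n69753 := rfl
theorem F106151 : act 3 n69753 = n32377 := d8_1 D69753 (iv7 D32377) D32376
theorem F106152 : act 4 n69753 = n68863 := d11_1 D69753 (iv7 F106117) F106116
theorem F106153 : act 5 n69753 = n34409 := d13_1 D69753 (iv7 F104742) F104741
def n69754 : Q := act 6 n32377
theorem D69754 : act 6 n32377 = n69754 := rfl
theorem F106154 : act 2 n69754 = n68541 := d3_1 D69754 (iv6 D68541) (iv2 F51422)
theorem F106155 : act 4 n69754 = n32378 := d10_1 D69754 (iv6 D32378) (iv4 F51423)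
theorem F106156 : act 5 n69754 = n39494 := d12_1 D69754 (iv6 D39494) (iv5 F43097) F43096 (iv5 F51424)
theorem F106157 : act 7 n69754 = n58479 := d14_2 D32377 D69754 (iv6 D58479) F44932 F27564
def n69755 : Q := act 0 n32378
theorem D69755 : act 0 n32378 = n69755 := rfl
theorem F106158 : act 1 n55552 = n69755 := d15_0 (iv0 D69755) (iv7 F54957) (iv2 F87858)
def n69756 : Q := act 1 n32378
theorem D69756 : act 1 n32378 = n69756 := rfl
theorem F106159 : act 1 n69756 = n55552 := d15_1 D69756 F87861 (iv2 F51427)
def n69757 : Q := act 4 n32383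
theorem D69757 : act 4 n32383 = n69757 := rfl
theorem F106160 : act 2 n69757 = n52812 := d1_1 D69757 F83446 F53370
theorem F106161 : act 7 n69757 = n52875 := d11_2 F55750 D69757 F83546
theorem F106162 : act 5 n69757 = n49121 := d16_1 D69757 F77562 D52812 F83446 (iv5 D34027) F54125 D32549 F54163 F53370
theorem F106163 : act 0 n69757 = n35059 := d17_0 F55674 F55122 (iv5 F83475) F83476 (iv5 F56711) (iv0 D35993) F28410 (iv0 F54523) D69757
theorem F106164 : act 1 n69757 = n52928 := d18_6 D16646 F54077 (iv1 F27928) F54135 D32383 D69757 F83642 (iv0 D34362) (iv5 D16648)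
def n69758 : Q := act 3 n32384
theorem D69758 : act 3 n32384 = n69758 := rfl
theorem F106165 : act 2 n69758 = n36644 := d0_1 D69758 (iv3 D36644) F28729 (iv3 F24876) (iv2 F51435)
theorem F106166 : act 7 n69758 = n60062 := d8_2 (iv7 F51436) D69758 (iv3 D60062)
def n69759 : Q := act 6 n32384
theorem D69759 : act 6 n32384 = n69759 := rfl
theorem F106167 : act 2 n69759 = n32388 := d3_1 D69759 (iv6 D32388) (iv2 F51435)
theorem F106168 : act 4 n69759 = n32385 := d10_1 D69759 (iv6 D32385) D32384
def n69760 : Q := act 0 n32385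
theorem D69760 : act 0 n32385 = n69760 := rfl
theorem F106169 : act 6 n69760 = n59941 := d21_5 (iv5 F25821) (iv1 F11861) D15287 D32385 D69760 (iv5 D59941) (iv1 D28466) F22732 (iv6 D6491) D6488
theorem F106170 : act 0 n69760 = n32392 := d21_4 (iv5 F94373) (iv1 F94375) D59941 (iv6 F106169) (iv6 F51911) (iv5 F79179) (iv1 F94862) (iv5 D60319) (iv6 D28651) (iv1 F46180)
def n69761 : Q := act 1 n32385
theorem D69761 : act 1 n32385 = n69761 := rfl
theorem F106171 : act 1 n69761 = n32392 := d15_1 D69761 (iv7 D32392) (iv2 F51438)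
def n69762 : Q := act 5 n32385
theorem D69762 : act 5 n32385 = n69762 := rfl
theorem F106172 : act 2 n69762 = n32391 := d2_1 D69762 (iv5 D32391) (iv2 F51438)
theorem F106173 : act 6 n69762 = n32386 := d12_2 D32385 D69762 (iv5 D32386) (iv6 D15288) D15287
def n69763 : Q := act 7 n32385
theorem D69763 : act 7 n32385 = n69763 := rfl
theorem F106174 : act 2 n69763 = n32392 := d4_1 D69763 (iv7 D32392) (iv2 F51438)
theorem F106175 : act 6 n69763 = n60066 := d14_1 D69763 (iv7 D60066) (iv6 D28533) F25732 D32385
theorem F106176 : act 1 n32390 = n69763 := d15_1 D32390 (iv7 D69763) F51438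
theorem F106177 : act 1 n69763 = n32389 := d15_0 (iv0 D32389) D32392 (iv2 F106174)
def n69764 : Q := act 6 n32387
theorem D69764 : act 6 n32387 = n69764 := rfl
theorem F106178 : act 3 n69764 = n36653 := d7_1 D69764 (iv6 D36653) (iv3 F51442)
def n69765 : Q := act 0 n32388
theorem D69765 : act 0 n32388 = n69765 := rfl
def n69766 : Q := act 1 n32388
theorem D69766 : act 1 n32388 = n69766 := rfl
def n69767 : Q := act 5 n32388
theorem D69767 : act 5 n32388 = n69767 := rfl
theorem F106179 : act 3 n69767 = n36656 := d6_1 D69767 (iv5 D36656) (iv3 F51443)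
def n69768 : Q := act 7 n32388
theorem D69768 : act 7 n32388 = n69768 := rfl
theorem F106180 : act 3 n69768 = n36657 := d8_1 D69768 (iv7 D36657) (iv3 F51443)
theorem F106181 : act 4 n69768 = n32392 := d11_1 D69768 (iv7 D32392) (iv4 F51444)
def n69769 : Q := act 2 n32389
theorem D69769 : act 2 n32389 = n69769 := rfl
theorem F106182 : act 7 n32390 = n69769 := d15_2 (iv0 D32389) D32390 (iv2 D69769)
def n69770 : Q := act 3 n32389
theorem D69770 : act 3 n32389 = n69770 := rfl
def n69771 : Q := act 4 n32389
theorem D69771 : act 4 n32389 = n69771 := rfl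
def n69772 : Q := act 5 n32389
theorem D69772 : act 5 n32389 = n69772 := rfl
def n69773 : Q := act 6 n32389
theorem D69773 : act 6 n32389 = n69773 := rfl
theorem F106183 : act 5 n69773 = n59894 := d21_6 F25820 (iv1 D7237) D7239 D15292 D32389 D69773 (iv1 D59894) F45981 (iv6 D13642) D13639
def n69774 : Q := act 7 n32389
theorem D69774 : act 7 n32389 = n69774 := rfl
theorem F106184 : act 2 n69774 = n32390 := d4_1 D69774 F106182 (iv2 D69769)
def n69775 : Q := act 3 n32390
theorem D69775 : act 3 n32390 = n69775 := rfl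
def n69776 : Q := act 4 n32390
theorem D69776 : act 4 n32390 = n69776 := rfl
def n69777 : Q := act 5 n32390
theorem D69777 : act 5 n32390 = n69777 := rfl
def n69778 : Q := act 6 n32390
theorem D69778 : act 6 n32390 = n69778 := rfl
def n69779 : Q := act 0 n32391
theorem D69779 : act 0 n32391 = n69779 := rfl
def n69780 : Q := act 1 n32391
theorem D69780 : act 1 n32391 = n69780 := rfl
def n69781 : Q := act 7 n32391
theorem D69781 : act 7 n32391 = n69781 := rfl
theorem F106185 : act 3 n69781 = n32403 := d8_1 D69781 (iv7 D32403) (iv3 F51445)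
theorem F106186 : act 5 n69781 = n32392 := d13_1 D69781 (iv7 D32392) D32391
def n69782 : Q := act 6 n32400
theorem D69782 : act 6 n32400 = n69782 := rfl
theorem F106187 : act 2 n69782 = n59877 := d3_1 D69782 (iv6 D59877) (iv2 F54322)
def n69783 : Q := act 6 n32401
theorem D69783 : act 6 n32401 = n69783 := rfl
theorem F106188 : act 2 n69783 = n59856 := d3_1 D69783 (iv6 D59856) F54325
theorem F106189 : act 3 n69783 = n48895 := d7_1 D69783 (iv6 D48895) F51451
theorem F106190 : act 5 n69783 = n59848 := d12_1 D69783 (iv6 D59848) (iv5 D28402) (iv6 F54304) (iv5 F51450)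
def n69784 : Q := act 3 n32402
theorem D69784 : act 3 n32402 = n69784 := rfl
theorem F106191 : act 6 n69784 = n32404 := d7_2 (iv6 F51452) D69784 (iv3 D32404)
def n69785 : Q := act 0 n32404
theorem D69785 : act 0 n32404 = n69785 := rfl
def n69786 : Q := act 1 n32404
theorem D69786 : act 1 n32404 = n69786 := rfl
def n69787 : Q := act 2 n32404
theorem D69787 : act 2 n32404 = n69787 := rfl
def n69788 : Q := act 6 n32405
theorem D69788 : act 6 n32405 = n69788 := rfl
theorem F106192 : act 5 n69788 = n46133 := d12_1 D69788 (iv6 D46133) (iv5 F54144) (iv6 D32406) D32405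
def n69789 : Q := act 4 n32409
theorem D69789 : act 4 n32409 = n69789 := rfl
theorem F106193 : act 2 n69789 = n33529 := d1_1 D69789 (iv4 F56749) F55354
theorem F106194 : act 3 n69789 = n52683 := d5_1 D69789 (iv4 F83440) (iv3 F83544) F83546 F55749
theorem F106195 : act 5 n69789 = n33528 := d16_7 (iv4 F74335) F74336 F64270 (iv5 F54144) F51456 D32409 D69789 (iv7 F74077) (iv2 F74075)
theorem F106196 : act 0 n69789 = n35046 := d17_0 (iv5 F89996) F89998 D58289 F92151 F55732 F50222 (iv5 F85786) F85788 D69789
theorem F106197 : act 1 n69789 = n35043 := d18_6 D7940 D17005 (iv1 F54143) F51456 D32409 D69789 (iv4 D35043) (iv0 D17013) (iv5 D7942)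
def n69790 : Q := act 6 n32410
theorem D69790 : act 6 n32410 = n69790 := rfl
def n69791 : Q := act 4 n32411
theorem D69791 : act 4 n32411 = n69791 := rfl
theorem F106198 : act 2 n69791 = n32416 := d1_1 D69791 (iv4 D32416) (iv2 F51457)
theorem F106200 : act 1 n69791 = n48944 := d18_6 F28350 (iv4 D16962) (iv1 F12536) D15313 D32411 D69791 (iv4 D48944) (iv0 F56590) (iv5 D35917)
def n69792 : Q := act 6 n32411
theorem D69792 : act 6 n32411 = n69792 := rfl
theorem F106201 : act 2 n69792 = n32417 := d3_1 D69792 (iv6 D32417) (iv2 F51457)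
theorem F106202 : act 3 n69792 = n52886 := d7_1 D69792 (iv6 D52886) (iv3 F51458)
def n69793 : Q := act 3 n32412
theorem D69793 : act 3 n32412 = n69793 := rfl
theorem F106203 : act 2 n69793 = n36680 := d0_1 D69793 (iv3 D36680) F28747 (iv3 F24898) (iv2 F51461)
theorem F106204 : act 4 n69793 = n60062 := d5_2 D32412 D69793 (iv3 D60062) (iv4 D28532) F25730
def n69794 : Q := act 6 n32412
theorem D69794 : act 6 n32412 = n69794 := rfl
theorem F106205 : act 2 n69794 = n32425 := d3_1 D69794 (iv6 D32425) (iv2 F51461)
theorem F106206 : act 4 n69794 = n32413 := d10_1 D69794 (iv6 D32413) D32412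
def n69795 : Q := act 0 n32413
theorem D69795 : act 0 n32413 = n69795 := rfl
def n69796 : Q := act 1 n32413
theorem D69796 : act 1 n32413 = n69796 := rfl
theorem F106207 : act 1 n69796 = n32428 := d15_1 D69796 (iv7 D32428) (iv2 F51462)
def n69797 : Q := act 7 n32413
theorem D69797 : act 7 n32413 = n69797 := rfl
theorem F106208 : act 2 n69797 = n32428 := d4_1 D69797 (iv7 D32428) (iv2 F51462)
theorem F106209 : act 3 n69797 = n60066 := d8_1 D69797 (iv7 D60066) (iv3 F51463)
theorem F106210 : act 1 n32428 = n69795 := d15_0 (iv0 D69795) D69797 F106208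
theorem F106211 : act 1 n32427 = n69797 := d15_1 D32427 (iv7 D69797) F51462
theorem F106212 : act 1 n69797 = n32426 := d15_0 (iv0 D32426) D32428 (iv2 F106208)
def n69798 : Q := act 6 n32415
theorem D69798 : act 6 n32415 = n69798 := rfl
theorem F106213 : act 2 n69798 = n48745 := d3_1 D69798 (iv6 D48745) F51469
def n69799 : Q := act 0 n32416
theorem D69799 : act 0 n32416 = n69799 := rfl
theorem F106214 : act 4 n69799 = n34821 := d18_3 F43053 D32416 D69799 (iv5 D34821) (iv4 D16874) (iv0 D7865) (iv4 F12406) (iv0 F21060) D26488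
theorem F106215 : act 2 n32560 = n69799 := d15_3 (iv0 D69799) (iv0 F55773) F55772
def n69800 : Q := act 5 n32416
theorem D69800 : act 5 n32416 = n69800 := rfl
theorem F106217 : act 3 n69800 = n37268 := d6_1 D69800 F58219 (iv3 F51471)
theorem F106218 : act 4 n69800 = n36823 := d16_2 D32416 D69800 F57746 (iv4 D32798) F25192 (iv4 F27730) D34888 F55182 F51457
theorem F106219 : act 1 n69800 = n32838 := d17_6 (iv1 F40653) (iv5 F37309) (iv1 D15316) D15317 D32416 D69800 F51994 F83677 F83674
def n69801 : Q := act 6 n32416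
theorem D69801 : act 6 n32416 = n69801 := rfl
theorem F106220 : act 3 n69801 = n69682 := d7_1 D69801 (iv6 D69682) (iv3 F51471)
theorem F106221 : act 4 n69801 = n32417 := d10_1 D69801 (iv6 D32417) D32416
def n69802 : Q := act 0 n32417
theorem D69802 : act 0 n32417 = n69802 := rfl
def n69803 : Q := act 1 n32417
theorem D69803 : act 1 n32417 = n69803 := rfl
def n69804 : Q := act 7 n32417
theorem D69804 : act 7 n32417 = n69804 := rfl
theorem F106222 : act 3 n69804 = n35909 := d8_1 D69804 (iv7 D35909) (iv3 F51472)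
def n69805 : Q := act 6 n32418
theorem D69805 : act 6 n32418 = n69805 := rfl
theorem F106223 : act 2 n69805 = n48971 := d3_1 D69805 (iv6 D48971) (iv2 F51473)
theorem F106224 : act 4 n69805 = n32419 := d10_1 D69805 (iv6 D32419) D32418
def n69808 : Q := act 5 n32419
theorem D69808 : act 5 n32419 = n69808 := rfl
theorem F106226 : act 2 n69808 = n48974 := d2_1 D69808 (iv5 D48974) (iv2 F51475)
theorem F106227 : act 3 n69808 = n60128 := d6_1 D69808 (iv5 D60128) (iv3 F51476)
theorem F106228 : act 6 n69808 = n34823 := d12_2 D32419 D69808 (iv5 D34823) (iv6 D16876) (iv5 F43048)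
def n69809 : Q := act 7 n32419
theorem D69809 : act 7 n32419 = n69809 := rfl
theorem F106229 : act 2 n69809 = n48975 := d4_1 D69809 (iv7 D48975) (iv2 F51475)
theorem F106230 : act 3 n69809 = n60129 := d8_1 D69809 (iv7 D60129) (iv3 F51476)
theorem F106231 : act 6 n69809 = n48956 := d14_1 D69809 (iv7 D48956) (iv6 D23880) (iv7 F43049) D32419
theorem F106233 : act 1 n48973 = n69809 := d15_1 D48973 (iv7 D69809) F51475
theorem F106234 : act 1 n69809 = n48972 := d15_0 (iv0 D48972) D48975 (iv2 F106229)
def n69810 : Q := act 6 n32420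
theorem D69810 : act 6 n32420 = n69810 := rfl
theorem F106235 : act 2 n69810 = n60054 := d3_1 D69810 (iv6 D60054) (iv2 F51477)
theorem F106236 : act 3 n69810 = n32422 := d7_1 D69810 (iv6 D32422) D32420
def n69811 : Q := act 3 n32421
theorem D69811 : act 3 n32421 = n69811 := rfl
theorem F106237 : act 7 n69811 = n48969 := d8_2 (iv7 F51481) D69811 (iv3 D48969)
theorem F106238 : act 0 n36565 = n69811 := d20_4 (iv4 D9007) D9006 D19161 (iv3 F57434) (iv3 D69811) (iv4 D32421) (iv1 D15319) D15320 F24898 (iv1 F14057)
def n69812 : Q := act 5 n32421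
theorem D69812 : act 5 n32421 = n69812 := rfl
theorem F106239 : act 2 n69812 = n48951 := d2_1 D69812 (iv5 D48951) (iv2 F51480)
theorem F106240 : act 7 n69812 = n48970 := d13_2 (iv7 F51481) D69812 (iv5 D48970)
theorem F106241 : act 3 n57471 = n69812 := d0_0 F106239 F77218 F42680 D33767 (iv2 F90645)
theorem F106242 : act 5 n69811 = n57471 := d6_0 F106241 (iv5 D69812) D69811
def n69813 : Q := act 6 n32421
theorem D69813 : act 6 n32421 = n69813 := rfl
theorem F106243 : act 2 n69813 = n48952 := d3_1 D69813 (iv6 D48952) (iv2 F51480)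
theorem F106244 : act 4 n69813 = n32422 := d10_1 D69813 (iv6 D32422) D32421
def n69815 : Q := act 1 n32422
theorem D69815 : act 1 n32422 = n69815 := rfl
theorem F106245 : act 1 n69815 = n48956 := d15_1 D69815 (iv7 D48956) (iv2 F51482)
def n69816 : Q := act 7 n32422
theorem D69816 : act 7 n32422 = n69816 := rfl
theorem F106246 : act 2 n69816 = n48956 := d4_1 D69816 (iv7 D48956) (iv2 F51482)
theorem F106247 : act 6 n69816 = n48975 := d14_1 D69816 (iv7 D48975) (iv6 D23893) (iv7 F43052) D32422
theorem F106249 : act 1 n48954 = n69816 := d15_1 D48954 (iv7 D69816) F51482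
theorem F106250 : act 1 n69816 = n48953 := d15_0 (iv0 D48953) D48956 (iv2 F106246)
def n69817 : Q := act 3 n32423
theorem D69817 : act 3 n32423 = n69817 := rfl
theorem F106251 : act 2 n69817 = n36118 := d0_1 D69817 F56866 (iv2 F43353) F51936 (iv2 F51938)
theorem F106252 : act 4 n69817 = n45189 := d5_2 (iv4 F51797) D69817 (iv3 F71213) F50679 D32723
theorem F106253 : act 5 n69817 = n36117 := d6_2 F61039 D69817 (iv3 F61043)
def n69818 : Q := act 6 n32423
theorem D69818 : act 6 n32423 = n69818 := rfl
def n69819 : Q := act 4 n32424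
theorem D69819 : act 4 n32424 = n69819 := rfl
theorem F106254 : act 0 n69819 = n32838 := d17_0 F51994 F51662 D48754 F76780 (iv5 D40139) F37317 (iv5 F56769) F56770 D69819
def n69820 : Q := act 6 n32424
theorem D69820 : act 6 n32424 = n69820 := rfl
theorem F106255 : act 3 n69820 = n36685 := d7_1 D69820 (iv6 D36685) (iv3 F51483)
def n69821 : Q := act 0 n32425
theorem D69821 : act 0 n32425 = n69821 := rfl
def n69822 : Q := act 1 n32425
theorem D69822 : act 1 n32425 = n69822 := rfl
def n69823 : Q := act 5 n32425
theorem D69823 : act 5 n32425 = n69823 := rfl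
theorem F106256 : act 3 n69823 = n36688 := d6_1 D69823 (iv5 D36688) (iv3 F51485)
def n69824 : Q := act 7 n32425
theorem D69824 : act 7 n32425 = n69824 := rfl
theorem F106257 : act 3 n69824 = n36689 := d8_1 D69824 (iv7 D36689) (iv3 F51485)
theorem F106258 : act 4 n69824 = n32428 := d11_1 D69824 (iv7 D32428) (iv4 F51486)
def n69825 : Q := act 2 n32426
theorem D69825 : act 2 n32426 = n69825 := rfl
theorem F106259 : act 7 n32427 = n69825 := d15_2 (iv0 D32426) D32427 (iv2 D69825)
def n69826 : Q := act 3 n32426
theorem D69826 : act 3 n32426 = n69826 := rfl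
def n69827 : Q := act 4 n32426
theorem D69827 : act 4 n32426 = n69827 := rfl
def n69828 : Q := act 5 n32426
theorem D69828 : act 5 n32426 = n69828 := rfl
def n69829 : Q := act 6 n32426
theorem D69829 : act 6 n32426 = n69829 := rfl
def n69830 : Q := act 7 n32426
theorem D69830 : act 7 n32426 = n69830 := rfl
theorem F106260 : act 2 n69830 = n32427 := d4_1 D69830 F106259 (iv2 D69825)
def n69831 : Q := act 3 n32427
theorem D69831 : act 3 n32427 = n69831 := rfl
def n69832 : Q := act 4 n32427
theorem D69832 : act 4 n32427 = n69832 := rfl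
def n69833 : Q := act 5 n32427
theorem D69833 : act 5 n32427 = n69833 := rfl
def n69834 : Q := act 6 n32427
theorem D69834 : act 6 n32427 = n69834 := rfl
def n69836 : Q := act 1 n32429
theorem D69836 : act 1 n32429 = n69836 := rfl
def n69837 : Q := act 2 n32429
theorem D69837 : act 2 n32429 = n69837 := rfl
def n69838 : Q := act 4 n32429
theorem D69838 : act 4 n32429 = n69838 := rfl
theorem F106261 : act 3 n69838 = n35147 := d5_1 D69838 (iv4 D35147) (iv3 D17062) (iv4 F43128) D32429
def n69839 : Q := act 5 n32429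
theorem D69839 : act 5 n32429 = n69839 := rfl
theorem F106262 : act 3 n69839 = n32430 := d6_1 D69839 (iv5 D32430) D32429
def n69840 : Q := act 4 n32430
theorem D69840 : act 4 n32430 = n69840 := rfl
def n69841 : Q := act 6 n32430
theorem D69841 : act 6 n32430 = n69841 := rfl
theorem F106263 : act 5 n69841 = n60428 := d12_1 D69841 (iv6 D60428) (iv5 F46261) (iv6 F43129) D32430
def n69843 : Q := act 1 n32431
theorem D69843 : act 1 n32431 = n69843 := rfl
def n69844 : Q := act 2 n32431
theorem D69844 : act 2 n32431 = n69844 := rfl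
def n69845 : Q := act 4 n32431
theorem D69845 : act 4 n32431 = n69845 := rfl
theorem F106264 : act 3 n69845 = n35153 := d5_1 D69845 (iv4 D35153) (iv3 D17066) (iv4 F43174) D32431
def n69846 : Q := act 5 n32431
theorem D69846 : act 5 n32431 = n69846 := rfl
theorem F106265 : act 3 n69846 = n32432 := d6_1 D69846 (iv5 D32432) D32431
def n69847 : Q := act 6 n32431
theorem D69847 : act 6 n32431 = n69847 := rfl
theorem F106266 : act 3 n69847 = n32433 := d7_1 D69847 (iv6 D32433) D32431
def n69848 : Q := act 4 n32432
theorem D69848 : act 4 n32432 = n69848 := rfl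
def n69849 : Q := act 6 n32434
theorem D69849 : act 6 n32434 = n69849 := rfl
theorem F106267 : act 2 n69849 = n40222 := d3_1 D69849 (iv6 D40222) (iv2 F51489)
theorem F106268 : act 3 n69849 = n33658 := d7_1 D69849 (iv6 D33658) (iv3 F51490)
def n69850 : Q := act 1 n32435
theorem D69850 : act 1 n32435 = n69850 := rfl
theorem F106269 : act 1 n69850 = n32445 := d15_1 D69850 (iv7 F55339) F55336
theorem F106270 : act 7 n69850 = n32506 := d15_2 (iv0 F54123) D69850 (iv2 D32506)
theorem F106271 : act 4 n43236 = n69850 := d20_0 (iv1 D69850) F55297 F55298 F54159 (iv3 D15441) (iv4 D7290) (iv1 F12642) (iv4 F20096) (iv3 F40423) F67745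
theorem F106272 : act 3 n32506 = n69850 := d20_3 (iv4 F20093) D25553 F51583 (iv1 D69850) F54124 (iv4 F54125) (iv1 F54129) (iv4 F54077) F54076 (iv1 D12849)
theorem F106273 : act 2 n69850 = n32469 := d0_1 F106272 (iv3 D32469) F35045 D15386 D32506
def n69851 : Q := act 5 n32435
theorem D69851 : act 5 n32435 = n69851 := rfl
theorem F106274 : act 3 n69851 = n32549 := d6_1 D69851 (iv5 D32549) (iv3 F54124)
theorem F106275 : act 0 n69851 = n32514 := d17_2 (iv1 D69850) D69851 (iv5 F85217) F85216 F65399 (iv0 D20424) D20426 (iv0 F67744) F106271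
def n69852 : Q := act 6 n32436
theorem D69852 : act 6 n32436 = n69852 := rfl
theorem F106276 : act 2 n69852 = n32439 := d3_1 D69852 (iv6 D32439) (iv2 F51492)
theorem F106277 : act 3 n69852 = n60041 := d7_1 D69852 (iv6 D60041) (iv3 F51493)
theorem F106278 : act 4 n69852 = n33261 := d10_1 D69852 (iv6 D33261) (iv4 F51495)
def n69853 : Q := act 6 n32438
theorem D69853 : act 6 n32438 = n69853 := rfl
theorem F106279 : act 2 n69853 = n48961 := d3_1 D69853 (iv6 D48961) (iv2 F51503)
theorem F106280 : act 3 n69853 = n60060 := d7_1 D69853 (iv6 D60060) F51502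
def n69854 : Q := act 0 n32439
theorem D69854 : act 0 n32439 = n69854 := rfl
def n69855 : Q := act 1 n32439
theorem D69855 : act 1 n32439 = n69855 := rfl
def n69856 : Q := act 7 n32439
theorem D69856 : act 7 n32439 = n69856 := rfl
theorem F106281 : act 3 n69856 = n32444 := d8_1 D69856 (iv7 D32444) (iv3 F51506)
def n69857 : Q := act 5 n32440
theorem D69857 : act 5 n32440 = n69857 := rfl
theorem F106282 : act 3 n69857 = n34360 := d6_1 D69857 (iv5 D34360) (iv3 F51507)
theorem F106283 : act 6 n69857 = n58287 := d12_2 D32440 D69857 (iv5 D58287) (iv6 D27765) (iv5 F26845)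
theorem F106284 : act 0 n69857 = n69030 := d17_2 (iv1 F54088) D69857 (iv5 D69030) F54356 F41399 (iv0 D15395) (iv5 D7270) (iv0 F26580) D15387
theorem F106285 : act 1 n69857 = n69030 := d17_8 (iv1 F51595) (iv5 F26946) D22980 (iv5 F70137) F70138 (iv5 D32510) (iv0 F54087) D69857 F105246
def n69858 : Q := act 0 n32441
theorem D69858 : act 0 n32441 = n69858 := rfl
def n69859 : Q := act 1 n32441
theorem D69859 : act 1 n32441 = n69859 := rfl
def n69860 : Q := act 7 n32441
theorem D69860 : act 7 n32441 = n69860 := rfl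
def n69861 : Q := act 2 n32442
theorem D69861 : act 2 n32442 = n69861 := rfl
def n69862 : Q := act 3 n32442
theorem D69862 : act 3 n32442 = n69862 := rfl
def n69863 : Q := act 4 n32442
theorem D69863 : act 4 n32442 = n69863 := rfl
def n69864 : Q := act 5 n32442
theorem D69864 : act 5 n32442 = n69864 := rfl
def n69865 : Q := act 6 n32442
theorem D69865 : act 6 n32442 = n69865 := rfl
theorem F106287 : act 5 n69865 = n67979 := d21_6 (iv5 D3339) D3336 D7255 D15343 D32442 D69865 (iv1 D67979) F50450 (iv6 D15376) (iv1 D7265)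
def n69866 : Q := act 7 n32442
theorem D69866 : act 7 n32442 = n69866 := rfl
def n69871 : Q := act 5 n32445
theorem D69871 : act 5 n32445 = n69871 := rfl
theorem F106289 : act 3 n69871 = n32572 := d6_1 D69871 (iv5 D32572) (iv3 F54152)
theorem F106290 : act 0 n32514 = n69871 := d19_0 (iv5 D69871) F51508 F65144 (iv1 F65143) (iv5 D19924) F14613 (iv3 D9397) (iv1 F6336) D9741 F15215 F27046 D25494 F40315 (iv4 F34015) D45329 F71416 F70961 (iv4 D32515) D32514
def n69872 : Q := act 6 n32446
theorem D69872 : act 6 n32446 = n69872 := rfl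
theorem F106291 : act 2 n69872 = n32450 := d3_1 D69872 (iv6 D32450) (iv2 F51509)
def n69873 : Q := act 5 n32447
theorem D69873 : act 5 n32447 = n69873 := rfl
theorem F106292 : act 2 n69873 = n32453 := d2_1 D69873 (iv5 D32453) (iv2 F51514)
theorem F106293 : act 3 n69873 = n60050 := d6_1 D69873 F94574 F56574
theorem F106294 : act 7 n69873 = n61696 := d13_2 F104015 D69873 F104017
theorem F106295 : act 0 n69873 = n50025 := d21_7 (iv5 F24948) F51512 F37315 (iv6 F50913) (iv1 F41889) D32447 D69873 F79169 (iv6 D28523) F22786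
theorem F106296 : act 0 n61611 = n69873 := d21_7 F25981 (iv1 F42538) F41920 D26327 F77245 F77244 D61611 (iv5 D69873) (iv6 D32447) F28343
def n69874 : Q := act 6 n32449
theorem D69874 : act 6 n32449 = n69874 := rfl
theorem F106297 : act 2 n69874 = n52903 := d3_1 D69874 (iv6 D52903) F51520
theorem F106298 : act 3 n69874 = n60113 := d7_1 D69874 (iv6 D60113) (iv3 F51524)
theorem F106299 : act 4 n69874 = n55307 := d10_1 D69874 (iv6 D55307) (iv4 F51519)
def n69875 : Q := act 0 n32450
theorem D69875 : act 0 n32450 = n69875 := rfl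
def n69876 : Q := act 1 n32450
theorem D69876 : act 1 n32450 = n69876 := rfl
def n69877 : Q := act 5 n32450
theorem D69877 : act 5 n32450 = n69877 := rfl
theorem F106300 : act 3 n69877 = n32460 := d6_1 D69877 (iv5 D32460) (iv3 F51525)
theorem F106301 : act 6 n69877 = n32453 := d12_2 D32450 D69877 (iv5 D32453) (iv6 D15355) D15354
def n69878 : Q := act 7 n32450
theorem D69878 : act 7 n32450 = n69878 := rfl
theorem F106302 : act 3 n69878 = n32461 := d8_1 D69878 (iv7 D32461) (iv3 F51525)
def n69879 : Q := act 1 n32453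
theorem D69879 : act 1 n32453 = n69879 := rfl
theorem F106303 : act 1 n69879 = n61696 := d15_1 D69879 (iv7 F106294) F106292
theorem F106304 : act 7 n69879 = n50025 := d15_2 F97915 D69879 (iv2 F97912)
theorem F106305 : act 5 n69879 = n60055 := d18_9 (iv1 F94589) F50577 (iv1 D25309) F19878 D12599 D26402 D54597 (iv4 F86282) D69879
theorem F106306 : act 3 n50023 = n69879 := d20_9 F86282 (iv1 D54597) (iv4 D26402) F20978 (iv1 F10875) (iv3 F23447) D29581 D62558 F97546 (iv1 D69879)
theorem F106307 : act 2 n69879 = n61611 := d0_1 F106306 F96170 (iv2 F54228) (iv3 F54241) F79165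
theorem F106308 : act 4 n69879 = n55287 := d20_6 (iv4 F24141) F24142 (iv4 F18823) (iv3 F38251) (iv1 F79160) F106306 (iv1 D55287) (iv4 D26719) F21205 (iv1 F18691)
def n69880 : Q := act 0 n32454
theorem D69880 : act 0 n32454 = n69880 := rfl
def n69881 : Q := act 1 n32454
theorem D69881 : act 1 n32454 = n69881 := rfl
def n69882 : Q := act 5 n32454
theorem D69882 : act 5 n32454 = n69882 := rfl
theorem F106309 : act 3 n69882 = n33079 := d6_1 D69882 (iv5 D33079) (iv3 F51530)
theorem F106310 : act 6 n69882 = n32456 := d12_2 D32454 D69882 (iv5 D32456) (iv6 D15357) D15356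
def n69883 : Q := act 7 n32454
theorem D69883 : act 7 n32454 = n69883 := rfl
theorem F106311 : act 3 n69883 = n33080 := d8_1 D69883 (iv7 D33080) (iv3 F51530)
def n69884 : Q := act 0 n32457
theorem D69884 : act 0 n32457 = n69884 := rfl
def n69885 : Q := act 1 n32457
theorem D69885 : act 1 n32457 = n69885 := rfl
def n69886 : Q := act 5 n32457
theorem D69886 : act 5 n32457 = n69886 := rfl
def n69887 : Q := act 7 n32457
theorem D69887 : act 7 n32457 = n69887 := rfl
theorem F106312 : act 4 n69887 = n32461 := d11_1 D69887 (iv7 D32461) (iv4 F51537)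
def n69888 : Q := act 2 n32458
theorem D69888 : act 2 n32458 = n69888 := rfl
theorem F106313 : act 7 n32459 = n69888 := d15_2 (iv0 D32458) D32459 (iv2 D69888)
def n69892 : Q := act 6 n32458
theorem D69892 : act 6 n32458 = n69892 := rfl
def n69893 : Q := act 7 n32458
theorem D69893 : act 7 n32458 = n69893 := rfl
theorem F106314 : act 2 n69893 = n32459 := d4_1 D69893 F106313 (iv2 D69888)
def n69894 : Q := act 3 n32459
theorem D69894 : act 3 n32459 = n69894 := rfl
def n69895 : Q := act 4 n32459
theorem D69895 : act 4 n32459 = n69895 := rfl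
def n69896 : Q := act 5 n32459
theorem D69896 : act 5 n32459 = n69896 := rfl
def n69897 : Q := act 6 n32459
theorem D69897 : act 6 n32459 = n69897 := rfl
def n69898 : Q := act 0 n32460
theorem D69898 : act 0 n32460 = n69898 := rfl
def n69899 : Q := act 1 n32460
theorem D69899 : act 1 n32460 = n69899 := rfl
theorem F106315 : act 1 n69899 = n61714 := d15_1 D69899 (iv7 D61714) (iv2 F51538)
def n69900 : Q := act 4 n32460
theorem D69900 : act 4 n32460 = n69900 := rfl
theorem F106316 : act 2 n69900 = n61711 := d1_1 D69900 F96309 (iv2 F51538)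
theorem F106317 : act 6 n69900 = n32462 := d10_2 (iv6 F51539) D69900 (iv4 D32462)
def n69901 : Q := act 7 n32460
theorem D69901 : act 7 n32460 = n69901 := rfl
theorem F106318 : act 2 n69901 = n61714 := d4_1 D69901 (iv7 D61714) (iv2 F51538)
theorem F106319 : act 5 n69901 = n32461 := d13_1 D69901 (iv7 D32461) D32460
theorem F106320 : act 6 n69901 = n61706 := d14_1 D69901 (iv7 D61706) (iv6 D29255) F38258 (iv6 F51539)
theorem F106321 : act 1 n61714 = n69898 := d15_0 (iv0 D69898) D69901 F106318
theorem F106322 : act 1 n61713 = n69901 := d15_1 D61713 (iv7 D69901) F51538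
theorem F106323 : act 1 n69901 = n61712 := d15_0 (iv0 D61712) D61714 (iv2 F106318)
def n69902 : Q := act 0 n32462
theorem D69902 : act 0 n32462 = n69902 := rfl
theorem F106324 : act 4 n69902 = n33363 := d18_3 (iv1 F27206) D32462 D69902 (iv5 D33363) (iv4 F25674) F53950 F46882 F50576 (iv5 F23174)
theorem F106325 : act 1 n61684 = n69902 := d15_0 (iv0 D69902) F51541 (iv2 F96266)
theorem F106326 : act 2 n61700 = n69902 := d1_3 F106324 (iv2 F52669) (iv4 F96300)
theorem F106327 : act 7 n61699 = n69902 := d11_0 F106324 (iv7 F96000) (iv4 F96297)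
def n69903 : Q := act 1 n32462
theorem D69903 : act 1 n32462 = n69903 := rfl
theorem F106328 : act 1 n69903 = n61684 := d15_1 D69903 F96267 (iv2 F51540)
theorem F106329 : act 7 n69903 = n61700 := d15_2 (iv0 D69902) D69903 F106326
theorem F106330 : act 4 n69903 = n34320 := d18_7 F50487 (iv4 F46757) F50648 F24935 D15362 D32462 D69903 F96316 F96313
theorem F106331 : act 2 n61699 = n69903 := d1_3 F106330 (iv2 F95998) (iv4 F96297)
def n69904 : Q := act 3 n32462
theorem D69904 : act 3 n32462 = n69904 := rfl
theorem F106332 : act 7 n69904 = n61701 := d8_2 (iv7 F51541) D69904 (iv3 D61701)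
def n69905 : Q := act 5 n32462
theorem D69905 : act 5 n32462 = n69905 := rfl
theorem F106333 : act 2 n69905 = n61710 := d2_1 D69905 (iv5 D61710) (iv2 F51540)
theorem F106334 : act 7 n69905 = n61702 := d13_2 (iv7 F51541) D69905 (iv5 D61702)
def n69906 : Q := act 6 n32463
theorem D69906 : act 6 n32463 = n69906 := rfl
theorem F106335 : act 2 n69906 = n39085 := d3_1 D69906 (iv6 D39085) (iv2 F51542)
theorem F106336 : act 3 n69906 = n32464 := d7_1 D69906 (iv6 D32464) D32463
def n69907 : Q := act 0 n32464
theorem D69907 : act 0 n32464 = n69907 := rfl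
def n69908 : Q := act 1 n32464
theorem D69908 : act 1 n32464 = n69908 := rfl
theorem F106337 : act 1 n69908 = n32489 := d15_1 D69908 (iv7 D32489) (iv2 F51543)
def n69909 : Q := act 5 n32464
theorem D69909 : act 5 n32464 = n69909 := rfl
theorem F106338 : act 2 n69909 = n32488 := d2_1 D69909 (iv5 D32488) (iv2 F51543)
def n69910 : Q := act 7 n32464
theorem D69910 : act 7 n32464 = n69910 := rfl
theorem F106339 : act 2 n69910 = n32489 := d4_1 D69910 (iv7 D32489) (iv2 F51543)
theorem F106340 : act 4 n69910 = n32468 := d11_1 D69910 (iv7 D32468) (iv4 F51544)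
theorem F106341 : act 1 n32489 = n69907 := d15_0 (iv0 D69907) D69910 F106339
theorem F106342 : act 1 n32487 = n69910 := d15_1 D32487 (iv7 D69910) F51543
theorem F106343 : act 4 n33779 = n69907 := d20_6 (iv4 D8249) (iv1 D3711) (iv4 F5430) (iv3 F11828) D16325 D33779 (iv1 F106341) F51571 F24958 (iv1 F30467)
theorem F106344 : act 1 n69910 = n32486 := d15_0 (iv0 D32486) D32489 (iv2 F106339)
def n69911 : Q := act 2 n32465
theorem D69911 : act 2 n32465 = n69911 := rfl
def n69912 : Q := act 3 n32465
theorem D69912 : act 3 n32465 = n69912 := rfl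
def n69913 : Q := act 4 n32465
theorem D69913 : act 4 n32465 = n69913 := rfl
def n69914 : Q := act 5 n32465
theorem D69914 : act 5 n32465 = n69914 := rfl
def n69915 : Q := act 7 n32465
theorem D69915 : act 7 n32465 = n69915 := rfl
def n69916 : Q := act 3 n32466
theorem D69916 : act 3 n32466 = n69916 := rfl
theorem F106347 : act 4 n69916 = n55058 := d20_6 F42637 (iv1 F9792) (iv4 F11579) (iv3 F24958) (iv1 F51545) D69916 (iv1 D55058) F42628 F21117 D12721
def n69917 : Q := act 4 n32466
theorem D69917 : act 4 n32466 = n69917 := rfl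
def n69918 : Q := act 5 n32466
theorem D69918 : act 5 n32466 = n69918 := rfl
def n69919 : Q := act 6 n32466
theorem D69919 : act 6 n32466 = n69919 := rfl
def n69920 : Q := act 0 n32467
theorem D69920 : act 0 n32467 = n69920 := rfl
def n69921 : Q := act 1 n32467
theorem D69921 : act 1 n32467 = n69921 := rfl
theorem F106348 : act 1 n69921 = n32503 := d15_1 D69921 (iv7 D32503) (iv2 F51546)
theorem F106349 : act 5 n54454 = n69921 := d21_6 F27197 (iv1 D5966) D5968 D12560 D26334 D54454 (iv1 D69921) (iv5 D32467) (iv6 D15365) (iv1 F20833)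
def n69922 : Q := act 7 n32467
theorem D69922 : act 7 n32467 = n69922 := rfl
theorem F106350 : act 2 n69922 = n32503 := d4_1 D69922 (iv7 D32503) (iv2 F51546)
theorem F106351 : act 3 n69922 = n32547 := d8_1 D69922 F51616 (iv3 F51547)
theorem F106352 : act 5 n69922 = n32468 := d13_1 D69922 (iv7 D32468) D32467
theorem F106353 : act 6 n69922 = n32503 := d14_1 D69922 (iv7 D32503) F24957 (iv7 F26503) (iv6 F51548)
theorem F106354 : act 1 n32503 = n69920 := d15_0 (iv0 D69920) D69922 F106350
theorem F106355 : act 1 n32501 = n69922 := d15_1 D32501 (iv7 D69922) F51546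
theorem F106356 : act 1 n69922 = n32500 := d15_0 (iv0 D32500) D32503 (iv2 F106350)
def n69923 : Q := act 5 n32469
theorem D69923 : act 5 n32469 = n69923 := rfl
theorem F106357 : act 3 n69923 = n32470 := d6_1 D69923 (iv5 D32470) D32469
theorem F106358 : act 7 n69923 = n32508 := d13_2 (iv7 F51554) D69923 (iv5 D32508)
def n69924 : Q := act 4 n32470
theorem D69924 : act 4 n32470 = n69924 := rfl
theorem F106359 : act 2 n69924 = n32512 := d1_1 D69924 (iv4 D32512) (iv2 F51555)
theorem F106360 : act 7 n69924 = n32512 := d11_2 (iv7 F51556) D69924 (iv4 D32512)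
theorem F106361 : act 5 n69924 = n47978 := d16_1 D69924 (iv4 D47978) (iv5 F70963) F70964 (iv5 D35028) F27872 D32470 F51556 (iv2 F51555)
def n69925 : Q := act 6 n32470
theorem D69925 : act 6 n32470 = n69925 := rfl
theorem F106362 : act 2 n69925 = n32513 := d3_1 D69925 (iv6 D32513) (iv2 F51555)
theorem F106363 : act 5 n69925 = n54472 := d12_1 D69925 (iv6 D54472) F50644 F50642 D32470
def n69926 : Q := act 6 n32471
theorem D69926 : act 6 n32471 = n69926 := rfl
theorem F106364 : act 2 n69926 = n32472 := d3_1 D69926 (iv6 D32472) D32471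
theorem F106365 : act 4 n69926 = n55053 := d10_1 D69926 (iv6 D55053) (iv4 F51559)
def n69927 : Q := act 0 n32472
theorem D69927 : act 0 n32472 = n69927 := rfl
def n69928 : Q := act 1 n32472
theorem D69928 : act 1 n32472 = n69928 := rfl
def n69929 : Q := act 5 n32472
theorem D69929 : act 5 n32472 = n69929 := rfl
theorem F106366 : act 3 n69929 = n32475 := d6_1 D69929 (iv5 D32475) (iv3 F51562)
theorem F106367 : act 6 n69929 = n32743 := d12_2 D32472 D69929 (iv5 D32743) (iv6 D15653) (iv5 F24948)
def n69930 : Q := act 7 n32472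
theorem D69930 : act 7 n32472 = n69930 := rfl
def n69934 : Q := act 5 n32473
theorem D69934 : act 5 n32473 = n69934 := rfl
def n69935 : Q := act 6 n32473
theorem D69935 : act 6 n32473 = n69935 := rfl
theorem F106370 : act 5 n69935 = n68425 := d21_6 (iv5 D3384) D3381 (iv5 F17284) D15372 D32473 D69935 (iv1 D68425) F50140 (iv6 D15685) (iv1 D7376)
def n69941 : Q := act 0 n32475
theorem D69941 : act 0 n32475 = n69941 := rfl
def n69942 : Q := act 1 n32475
theorem D69942 : act 1 n32475 = n69942 := rfl
theorem F106372 : act 5 n69892 = n69942 := d21_6 (iv5 D12503) (iv1 F9227) D7260 D15359 D32458 D69892 (iv1 D69942) (iv5 D32475) (iv6 D15372) (iv1 F20828)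
def n69943 : Q := act 4 n32475
theorem D69943 : act 4 n32475 = n69943 := rfl
theorem F106373 : act 6 n69943 = n32746 := d10_2 (iv6 F51563) D69943 (iv4 D32746)
def n69944 : Q := act 7 n32475
theorem D69944 : act 7 n32475 = n69944 := rfl
def n69945 : Q := act 0 n32477
theorem D69945 : act 0 n32477 = n69945 := rfl
def n69946 : Q := act 1 n32477
theorem D69946 : act 1 n32477 = n69946 := rfl
def n69947 : Q := act 7 n32477
theorem D69947 : act 7 n32477 = n69947 := rfl
theorem F106375 : act 3 n69947 = n32481 := d8_1 D69947 (iv7 D32481) (iv3 F51564)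
def n69948 : Q := act 0 n32478
theorem D69948 : act 0 n32478 = n69948 := rfl
def n69949 : Q := act 1 n32478
theorem D69949 : act 1 n32478 = n69949 := rfl
def n69950 : Q := act 5 n32478
theorem D69950 : act 5 n32478 = n69950 := rfl
def n69951 : Q := act 7 n32478
theorem D69951 : act 7 n32478 = n69951 := rfl
theorem F106376 : act 4 n69951 = n32481 := d11_1 D69951 (iv7 D32481) (iv4 F51565)
def n69956 : Q := act 6 n32479
theorem D69956 : act 6 n32479 = n69956 := rfl
theorem F106378 : act 5 n69956 = n61713 := d21_6 (iv5 D12555) (iv1 F9273) (iv5 F24947) D15376 D32479 D69956 (iv1 D61713) F46919 (iv6 D15680) (iv1 F20910)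
def n69960 : Q := act 5 n32480
theorem D69960 : act 5 n32480 = n69960 := rfl
theorem F106380 : act 6 n67940 = n69960 := d21_5 (iv5 D7083) D7080 D14872 D31604 D67940 (iv5 D69960) (iv1 D32480) (iv5 F50450) (iv6 D31638) (iv1 D14882)
def n69961 : Q := act 6 n32480
theorem D69961 : act 6 n32480 = n69961 := rfl
def n69962 : Q := act 4 n32482
theorem D69962 : act 4 n32482 = n69962 := rfl
theorem F106381 : act 2 n69962 = n40094 := d1_1 D69962 F61436 F61433
theorem F106382 : act 3 n69962 = n39272 := d5_1 D69962 (iv4 D39272) F29903 F25153 D32482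
theorem F106383 : act 7 n69962 = n40095 := d11_2 F61857 D69962 (iv4 F61858)
theorem F106384 : act 5 n69962 = n36139 := d17_5 (iv1 F61853) (iv5 D40744) (iv1 F34486) (iv5 F51566) D69962 (iv0 D36139) D36143 F72243 F72242
theorem F106385 : act 0 n69962 = n40033 := d17_0 F60899 (iv1 F89054) (iv5 F89057) F60876 (iv5 D19308) (iv0 F17196) (iv5 F34499) (iv0 F51567) D69962
theorem F106386 : act 1 n69962 = n36158 := d15_1 (iv0 F106385) (iv7 F57811) (iv2 F60897)
def n69963 : Q := act 6 n32482
theorem D69963 : act 6 n32482 = n69963 := rfl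
theorem F106387 : act 3 n69963 = n32483 := d7_1 D69963 (iv6 D32483) D32482
def n69966 : Q := act 5 n32483
theorem D69966 : act 5 n32483 = n69966 := rfl
def n69967 : Q := act 7 n32483
theorem D69967 : act 7 n32483 = n69967 := rfl
def n69968 : Q := act 0 n32484
theorem D69968 : act 0 n32484 = n69968 := rfl
def n69969 : Q := act 1 n32484
theorem D69969 : act 1 n32484 = n69969 := rfl
def n69970 : Q := act 5 n32484
theorem D69970 : act 5 n32484 = n69970 := rfl
def n69971 : Q := act 7 n32484
theorem D69971 : act 7 n32484 = n69971 := rfl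
def n69972 : Q := act 0 n32485
theorem D69972 : act 0 n32485 = n69972 := rfl
def n69973 : Q := act 1 n32485
theorem D69973 : act 1 n32485 = n69973 := rfl
def n69974 : Q := act 5 n32485
theorem D69974 : act 5 n32485 = n69974 := rfl
theorem F106388 : act 3 n69974 = n39117 := d6_1 D69974 (iv5 D39117) (iv3 F51568)
theorem F106389 : act 6 n69974 = n32488 := d12_2 D32485 D69974 (iv5 D32488) (iv6 D15380) D15379
def n69975 : Q := act 7 n32485
theorem D69975 : act 7 n32485 = n69975 := rfl
theorem F106390 : act 3 n69975 = n39118 := d8_1 D69975 (iv7 D39118) (iv3 F51568)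
def n69976 : Q := act 2 n32486
theorem D69976 : act 2 n32486 = n69976 := rfl
theorem F106391 : act 7 n32487 = n69976 := d15_2 (iv0 D32486) D32487 (iv2 D69976)
def n69977 : Q := act 3 n32486
theorem D69977 : act 3 n32486 = n69977 := rfl
def n69978 : Q := act 4 n32486
theorem D69978 : act 4 n32486 = n69978 := rfl
def n69979 : Q := act 5 n32486
theorem D69979 : act 5 n32486 = n69979 := rfl
def n69980 : Q := act 6 n32486
theorem D69980 : act 6 n32486 = n69980 := rfl
def n69981 : Q := act 7 n32486
theorem D69981 : act 7 n32486 = n69981 := rfl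
theorem F106392 : act 2 n69981 = n32487 := d4_1 D69981 F106391 (iv2 D69976)
def n69982 : Q := act 3 n32487
theorem D69982 : act 3 n32487 = n69982 := rfl
def n69983 : Q := act 4 n32487
theorem D69983 : act 4 n32487 = n69983 := rfl
theorem F106393 : act 3 n33764 = n69983 := d20_5 F41771 (iv1 F9586) (iv4 F11830) (iv3 F25849) (iv1 F53002) (iv4 D69983) (iv1 D32487) F24955 F11574 D7272
def n69984 : Q := act 5 n32487
theorem D69984 : act 5 n32487 = n69984 := rfl
def n69985 : Q := act 6 n32487
theorem D69985 : act 6 n32487 = n69985 := rfl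
def n69986 : Q := act 0 n32488
theorem D69986 : act 0 n32488 = n69986 := rfl
def n69987 : Q := act 1 n32488
theorem D69987 : act 1 n32488 = n69987 := rfl
def n69988 : Q := act 4 n32488
theorem D69988 : act 4 n32488 = n69988 := rfl
def n69989 : Q := act 7 n32488
theorem D69989 : act 7 n32488 = n69989 := rfl
theorem F106394 : act 3 n69989 = n39132 := d8_1 D69989 (iv7 D39132) (iv3 F51569)
theorem F106395 : act 5 n69989 = n32489 := d13_1 D69989 (iv7 D32489) D32488
def n69990 : Q := act 0 n32490
theorem D69990 : act 0 n32490 = n69990 := rfl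
theorem F106396 : act 1 n32495 = n69990 := d15_0 (iv0 D69990) (iv7 F51572) (iv2 F51573)
def n69992 : Q := act 3 n32490
theorem D69992 : act 3 n32490 = n69992 := rfl
theorem F106398 : act 7 n69992 = n32496 := d8_2 F51572 D69992 (iv3 D32496)
def n69993 : Q := act 4 n32490
theorem D69993 : act 4 n32490 = n69993 := rfl
theorem F106399 : act 2 n69993 = n32492 := d1_1 D69993 (iv4 D32492) D32490
theorem F106400 : act 7 n69993 = n32497 := d11_2 F51572 D69993 (iv4 D32497)
def n69994 : Q := act 5 n32490
theorem D69994 : act 5 n32490 = n69994 := rfl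
theorem F106401 : act 2 n69994 = n32493 := d2_1 D69994 (iv5 D32493) D32490
theorem F106402 : act 7 n69994 = n32498 := d13_2 F51572 D69994 (iv5 D32498)
def n69995 : Q := act 6 n32490
theorem D69995 : act 6 n32490 = n69995 := rfl
theorem F106403 : act 2 n69995 = n32494 := d3_1 D69995 (iv6 D32494) D32490
def n69996 : Q := act 0 n32491
theorem D69996 : act 0 n32491 = n69996 := rfl
def n69997 : Q := act 1 n32491
theorem D69997 : act 1 n32491 = n69997 := rfl
def n69998 : Q := act 2 n32491
theorem D69998 : act 2 n32491 = n69998 := rfl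
def n69999 : Q := act 4 n32491
theorem D69999 : act 4 n32491 = n69999 := rfl
theorem F106404 : act 0 n69999 = n55060 := d20_7 (iv4 F42185) (iv1 D3908) (iv4 F5331) (iv3 F11574) D15381 D32491 D69999 F87081 F42631 (iv1 F21125)
theorem F106405 : act 0 n55047 = n69999 := d20_7 (iv4 F106340) (iv1 F106342) D69983 (iv3 F106393) (iv1 D33764) (iv3 F42612) (iv4 F87050) (iv4 D69999) (iv3 D32491) (iv1 F51552)
def n70000 : Q := act 5 n32491
theorem D70000 : act 5 n32491 = n70000 := rfl
theorem F106406 : act 3 n70000 = n32493 := d6_1 D70000 (iv5 D32493) D32491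
def n70001 : Q := act 6 n32491
theorem D70001 : act 6 n32491 = n70001 := rfl
theorem F106407 : act 3 n70001 = n32494 := d7_1 D70001 (iv6 D32494) D32491
def n70002 : Q := act 7 n32491
theorem D70002 : act 7 n32491 = n70002 := rfl
theorem F106408 : act 3 n70002 = n32495 := d8_1 D70002 (iv7 D32495) D32491
def n70003 : Q := act 0 n32492
theorem D70003 : act 0 n32492 = n70003 := rfl
def n70004 : Q := act 1 n32492
theorem D70004 : act 1 n32492 = n70004 := rfl
theorem F106409 : act 1 n70004 = n32497 := d15_1 D70004 (iv7 F106400) F106399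
def n70005 : Q := act 3 n32492
theorem D70005 : act 3 n32492 = n70005 := rfl
def n70006 : Q := act 5 n32492
theorem D70006 : act 5 n32492 = n70006 := rfl
def n70007 : Q := act 6 n32492
theorem D70007 : act 6 n32492 = n70007 := rfl
theorem F106410 : act 4 n70007 = n32494 := d10_1 D70007 (iv6 D32494) D32492
def n70008 : Q := act 7 n32492
theorem D70008 : act 7 n32492 = n70008 := rfl
theorem F106411 : act 2 n70008 = n32497 := d4_1 D70008 (iv7 F106400) F106399
theorem F106412 : act 4 n70008 = n32495 := d11_1 D70008 (iv7 D32495) D32492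
theorem F106413 : act 1 n32497 = n70003 := d15_0 (iv0 D70003) D70008 F106411
def n70009 : Q := act 0 n32493
theorem D70009 : act 0 n32493 = n70009 := rfl
theorem F106414 : act 5 n70009 = n69897 := d21_2 D32493 D70009 (iv6 D69897) (iv1 D32459) (iv6 D15359) (iv5 D7260) (iv1 D3337) D3339 D7267 D15381
def n70010 : Q := act 1 n32493
theorem D70010 : act 1 n32493 = n70010 := rfl
theorem F106415 : act 1 n70010 = n32498 := d15_1 D70010 (iv7 F106402) F106401
def n70011 : Q := act 4 n32493
theorem D70011 : act 4 n32493 = n70011 := rfl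
def n70012 : Q := act 6 n32493
theorem D70012 : act 6 n32493 = n70012 := rfl
def n70013 : Q := act 7 n32493
theorem D70013 : act 7 n32493 = n70013 := rfl
theorem F106416 : act 2 n70013 = n32498 := d4_1 D70013 (iv7 F106402) F106401
theorem F106417 : act 5 n70013 = n32495 := d13_1 D70013 (iv7 D32495) D32493
theorem F106418 : act 1 n32498 = n70009 := d15_0 (iv0 D70009) D70013 F106416
def n70014 : Q := act 0 n32494
theorem D70014 : act 0 n32494 = n70014 := rfl
def n70015 : Q := act 1 n32494
theorem D70015 : act 1 n32494 = n70015 := rfl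
def n70016 : Q := act 7 n32494
theorem D70016 : act 7 n32494 = n70016 := rfl
def n70017 : Q := act 6 n32495
theorem D70017 : act 6 n32495 = n70017 := rfl
theorem F106419 : act 2 n70017 = n32499 := d3_1 D70017 (iv6 D32499) (iv2 F51573)
def n70018 : Q := act 0 n32496
theorem D70018 : act 0 n32496 = n70018 := rfl
def n70019 : Q := act 1 n32496
theorem D70019 : act 1 n32496 = n70019 := rfl
def n70020 : Q := act 2 n32496
theorem D70020 : act 2 n32496 = n70020 := rfl
def n70021 : Q := act 4 n32496
theorem D70021 : act 4 n32496 = n70021 := rfl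
def n70022 : Q := act 5 n32496
theorem D70022 : act 5 n32496 = n70022 := rfl
theorem F106420 : act 3 n70022 = n32498 := d6_1 D70022 (iv5 D32498) D32496
def n70023 : Q := act 6 n32496
theorem D70023 : act 6 n32496 = n70023 := rfl
theorem F106421 : act 3 n70023 = n32499 := d7_1 D70023 (iv6 D32499) D32496
def n70024 : Q := act 3 n32497
theorem D70024 : act 3 n32497 = n70024 := rfl
def n70025 : Q := act 5 n32497
theorem D70025 : act 5 n32497 = n70025 := rfl
def n70026 : Q := act 6 n32497
theorem D70026 : act 6 n32497 = n70026 := rfl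
theorem F106422 : act 4 n70026 = n32499 := d10_1 D70026 (iv6 D32499) D32497
def n70027 : Q := act 4 n32498
theorem D70027 : act 4 n32498 = n70027 := rfl
def n70028 : Q := act 6 n32498
theorem D70028 : act 6 n32498 = n70028 := rfl
theorem F106423 : act 0 n54017 = n70028 := d21_4 (iv5 F41399) (iv1 F41400) D26132 (iv6 F85212) (iv6 D70028) (iv5 D32498) (iv1 D15382) D15383 F24957 D15395
def n70029 : Q := act 0 n32499
theorem D70029 : act 0 n32499 = n70029 := rfl
theorem F106424 : act 5 n70029 = n68424 := d21_0 (iv1 F104615) F104053 (iv6 F51862) (iv1 F51864) D69897 (iv5 F106414) (iv1 F106418) (iv5 D32498) D32499 D70029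
def n70030 : Q := act 1 n32499
theorem D70030 : act 1 n32499 = n70030 := rfl
def n70031 : Q := act 5 n32499
theorem D70031 : act 5 n32499 = n70031 := rfl
theorem F106425 : act 0 n69864 = n70031 := d21_1 D69864 (iv5 D70031) (iv6 D32499) (iv1 D15382) (iv6 D7267) (iv5 D3339) D3336 D7255 D15343 D32442
def n70032 : Q := act 7 n32499
theorem D70032 : act 7 n32499 = n70032 := rfl
def n70033 : Q := act 2 n32500
theorem D70033 : act 2 n32500 = n70033 := rfl
theorem F106426 : act 7 n32501 = n70033 := d15_2 (iv0 D32500) D32501 (iv2 D70033)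
def n70034 : Q := act 3 n32500
theorem D70034 : act 3 n32500 = n70034 := rfl
def n70035 : Q := act 4 n32500
theorem D70035 : act 4 n32500 = n70035 := rfl
def n70036 : Q := act 5 n32500
theorem D70036 : act 5 n32500 = n70036 := rfl
def n70037 : Q := act 6 n32500
theorem D70037 : act 6 n32500 = n70037 := rfl
def n70038 : Q := act 7 n32500
theorem D70038 : act 7 n32500 = n70038 := rfl
theorem F106427 : act 2 n70038 = n32501 := d4_1 D70038 F106426 (iv2 D70033)
def n70039 : Q := act 3 n32501
theorem D70039 : act 3 n32501 = n70039 := rfl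
def n70040 : Q := act 4 n32501
theorem D70040 : act 4 n32501 = n70040 := rfl
def n70041 : Q := act 5 n32501
theorem D70041 : act 5 n32501 = n70041 := rfl
theorem F106428 : act 6 n70041 = n54440 := d21_3 (iv5 F106352) (iv1 F106355) D70041 (iv1 F85989) F42003 (iv5 F46924) (iv1 F96282) (iv5 F96283) (iv6 D32494) (iv1 F51552)
def n70042 : Q := act 6 n32501
theorem D70042 : act 6 n32501 = n70042 := rfl
def n70043 : Q := act 0 n32502
theorem D70043 : act 0 n32502 = n70043 := rfl
def n70044 : Q := act 1 n32502
theorem D70044 : act 1 n32502 = n70044 := rfl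
def n70045 : Q := act 5 n32502
theorem D70045 : act 5 n32502 = n70045 := rfl
theorem F106429 : act 3 n70045 = n47770 := d6_1 D70045 (iv5 D47770) (iv3 F51574)
theorem F106430 : act 6 n70045 = n47766 := d12_2 (iv6 F51575) D70045 (iv5 D47766) (iv6 D22981) F26946
def n70046 : Q := act 7 n32502
theorem D70046 : act 7 n32502 = n70046 := rfl
theorem F106431 : act 3 n70046 = n47771 := d8_1 D70046 (iv7 D47771) (iv3 F51574)
theorem F106432 : act 4 n70046 = n32503 := d11_1 D70046 (iv7 D32503) D32502
def n70047 : Q := act 5 n32506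
theorem D70047 : act 5 n32506 = n70047 := rfl
theorem F106433 : act 2 n70047 = n32508 := d2_1 D70047 (iv5 D32508) D32506
def n70048 : Q := act 0 n32508
theorem D70048 : act 0 n32508 = n70048 := rfl
theorem F106434 : act 3 n70048 = n32578 := d20_5 D69031 F105248 (iv4 D32512) (iv3 F51585) D70048 F55711 F55716 (iv4 D35032) (iv3 F55621) F55624
theorem F106435 : act 5 n70048 = n48900 := d21_2 D32508 D70048 (iv6 D48900) F77027 F50391 D33216 (iv1 F52452) (iv5 D32434) D32435 F54123
theorem F106436 : act 4 n60253 = n70048 := d16_6 F83064 (iv5 F74311) (iv4 D47064) D47065 F74316 D60253 F106435 (iv7 F97969) F97966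
theorem F106437 : act 1 n55619 = n60253 := d18_6 (iv1 F54151) F51508 F54158 (iv4 D26855) D26856 D55619 F106436 (iv0 D70048) (iv5 D32508)
theorem F106438 : act 0 n54376 = n60253 := d20_1 D54376 F106436 F106434 (iv1 D32578) F24974 D15426 (iv1 F50684) F50682 (iv3 F41588) F46707
def n70049 : Q := act 1 n32508
theorem D70049 : act 1 n32508 = n70049 := rfl
theorem F106439 : act 5 n70049 = n52557 := d17_7 (iv1 F50405) (iv5 D20499) D20497 F51580 (iv4 D32507) D32508 D70049 (iv0 F105049) (iv4 D68860)
theorem F106440 : act 3 n32555 = n70049 := d6_3 F106439 F83063 F54317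
def n70050 : Q := act 6 n32508
theorem D70050 : act 6 n32508 = n70050 := rfl
theorem F106441 : act 3 n70050 = n32513 := d7_1 D70050 (iv6 D32513) (iv3 F51585)
def n70051 : Q := act 6 n32510
theorem D70051 : act 6 n32510 = n70051 := rfl
def n70052 : Q := act 6 n32511
theorem D70052 : act 6 n32511 = n70052 := rfl
theorem F106442 : act 2 n70052 = n54017 := d3_1 D70052 F85212 F51590
theorem F106443 : act 3 n70052 = n32559 := d7_1 D70052 (iv6 D32559) F51591
theorem F106444 : act 4 n70052 = n44613 := d10_1 D70052 (iv6 D44613) (iv4 F51593)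
theorem F106445 : act 5 n70052 = n54010 := d12_1 D70052 (iv6 D54010) (iv5 D26126) D26127 (iv5 F51588)
def n70053 : Q := act 3 n32512
theorem D70053 : act 3 n32512 = n70053 := rfl
theorem F106446 : act 5 n70053 = n40974 := d6_2 F75021 D70053 (iv3 F75020)
theorem F106447 : act 0 n40693 = n70053 := d20_4 (iv4 F33895) (iv1 F61815) (iv4 D40695) (iv3 F61808) (iv3 D70053) (iv4 D32512) D32511 F51593 F33457 (iv1 F16469)
def n70054 : Q := act 6 n32512
theorem D70054 : act 6 n32512 = n70054 := rfl
theorem F106448 : act 4 n70054 = n32513 := d10_1 D70054 (iv6 D32513) D32512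
def n70055 : Q := act 0 n32513
theorem D70055 : act 0 n32513 = n70055 := rfl
def n70056 : Q := act 1 n32513
theorem D70056 : act 1 n32513 = n70056 := rfl
def n70057 : Q := act 7 n32513
theorem D70057 : act 7 n32513 = n70057 := rfl
def n70058 : Q := act 2 n32514
theorem D70058 : act 2 n32514 = n70058 := rfl
theorem F106449 : act 5 n70058 = n68860 := d2_2 F85217 D70058 F105045
theorem F106450 : act 4 n70058 = n55625 := d16_0 F89588 F89584 (iv5 F64297) F64296 (iv5 F50659) (iv4 F50657) D61656 F96229 D70058
def n70059 : Q := act 4 n32514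
theorem D70059 : act 4 n32514 = n70059 := rfl
theorem F106451 : act 2 n70059 = n55625 := d1_1 D70059 (iv4 F106450) (iv2 D70058)
theorem F106452 : act 7 n70059 = n55626 := d11_2 F96229 D70059 (iv4 F96230)
theorem F106453 : act 5 n70059 = n41127 := d16_3 (iv4 F85216) F85217 D70059 (iv4 D41127) (iv5 F31389) (iv4 F32380) (iv5 F65287) F65288 F65401
theorem F106454 : act 0 n70059 = n55628 := d18_2 F106275 D70059 F87995 F43296 (iv4 F40424) (iv0 F51579) (iv4 D32507) (iv0 F54123) D69851
theorem F106455 : act 1 n70059 = n55617 := d18_6 (iv1 F41416) (iv4 F31814) D42348 (iv4 F85216) F85217 D70059 (iv4 D55617) (iv0 F43280) (iv5 F41412)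
def n70060 : Q := act 6 n32514
theorem D70060 : act 6 n32514 = n70060 := rfl
theorem F106456 : act 3 n70060 = n32516 := d7_1 D70060 (iv6 D32516) D32514
def n70061 : Q := act 0 n32515
theorem D70061 : act 0 n32515 = n70061 := rfl
theorem F106457 : act 5 n70061 = n44518 := d17_1 D70061 F75023 F75021 (iv4 D32512) (iv5 D15388) (iv0 D7268) D7270 (iv0 F26943) D32515
theorem F106458 : act 1 n32515 = n70061 := d15_0 (iv0 D70061) (iv7 F96255) F96254
theorem F106459 : act 3 n44519 = n70061 := d20_9 (iv4 D32515) F26943 D15397 F26945 F17639 (iv3 F33515) F33517 (iv1 F40469) (iv4 F70035) (iv1 F106458)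
def n70062 : Q := act 3 n32515
theorem D70062 : act 3 n32515 = n70062 := rfl
theorem F106460 : act 5 n70062 = n45322 := d6_2 F70961 D70062 F71391
theorem F106461 : act 0 n40977 = n70062 := d20_4 (iv4 F29087) D37272 F58230 (iv3 F62124) (iv3 D70062) (iv4 D32515) F26943 D15397 F26945 F17639
def n70063 : Q := act 6 n32515
theorem D70063 : act 6 n32515 = n70063 := rfl
theorem F106462 : act 4 n70063 = n32516 := d10_1 D70063 (iv6 D32516) D32515
def n70064 : Q := act 0 n32516
theorem D70064 : act 0 n32516 = n70064 := rfl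
def n70065 : Q := act 1 n32516
theorem D70065 : act 1 n32516 = n70065 := rfl
def n70066 : Q := act 7 n32516
theorem D70066 : act 7 n32516 = n70066 := rfl
def n70067 : Q := act 3 n32517
theorem D70067 : act 3 n32517 = n70067 := rfl
theorem F106463 : act 5 n70067 = n45073 := d6_2 (iv5 F51594) D70067 (iv3 D45073)
def n70068 : Q := act 6 n32517
theorem D70068 : act 6 n32517 = n70068 := rfl
def n70070 : Q := act 3 n32518
theorem D70070 : act 3 n32518 = n70070 := rfl
def n70079 : Q := act 4 n32520
theorem D70079 : act 4 n32520 = n70079 := rfl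
theorem F106466 : act 2 n70079 = n32521 := d1_1 D70079 (iv4 D32521) D32520
def n70080 : Q := act 5 n32520
theorem D70080 : act 5 n32520 = n70080 := rfl
theorem F106467 : act 2 n70080 = n32522 := d2_1 D70080 (iv5 D32522) D32520
def n70081 : Q := act 6 n32520
theorem D70081 : act 6 n32520 = n70081 := rfl
theorem F106468 : act 2 n70081 = n32523 := d3_1 D70081 (iv6 D32523) D32520
theorem F106469 : act 5 n62915 = n70081 := d2_0 F106468 (iv5 F51599) D62915
def n70082 : Q := act 0 n32521
theorem D70082 : act 0 n32521 = n70082 := rfl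
def n70083 : Q := act 1 n32521
theorem D70083 : act 1 n32521 = n70083 := rfl
def n70084 : Q := act 5 n32521
theorem D70084 : act 5 n32521 = n70084 := rfl
def n70085 : Q := act 6 n32521
theorem D70085 : act 6 n32521 = n70085 := rfl
theorem F106471 : act 3 n70085 = n56196 := d7_1 D70085 (iv6 D56196) (iv3 F51596)
theorem F106472 : act 4 n70085 = n32523 := d10_1 D70085 (iv6 D32523) D32521
def n70086 : Q := act 0 n32522
theorem D70086 : act 0 n32522 = n70086 := rfl
def n70087 : Q := act 1 n32522
theorem D70087 : act 1 n32522 = n70087 := rfl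
def n70088 : Q := act 4 n32522
theorem D70088 : act 4 n32522 = n70088 := rfl
def n70089 : Q := act 6 n32522
theorem D70089 : act 6 n32522 = n70089 := rfl
theorem F106474 : act 5 n70089 = n62917 := d12_1 D70089 (iv6 D62917) F51599 (iv6 D32523) D32522
def n70090 : Q := act 0 n32523
theorem D70090 : act 0 n32523 = n70090 := rfl
def n70091 : Q := act 1 n32523
theorem D70091 : act 1 n32523 = n70091 := rfl
def n70092 : Q := act 3 n32524
theorem D70092 : act 3 n32524 = n70092 := rfl
theorem F106475 : act 5 n70092 = n69847 := d6_2 (iv5 F51600) D70092 F106266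
def n70093 : Q := act 4 n32524
theorem D70093 : act 4 n32524 = n70093 := rfl
theorem F106476 : act 0 n70093 = n33809 := d18_2 D32524 D70093 (iv4 D33809) (iv5 D16337) (iv4 F42185) F9793 (iv4 F20780) F20784 D15402
theorem F106477 : act 1 n70093 = n33800 := d18_6 (iv1 D54732) F42324 F29832 (iv4 F51488) (iv5 F51600) D70093 (iv4 D33800) D33799 (iv5 F86551)
def n70094 : Q := act 6 n32524
theorem D70094 : act 6 n32524 = n70094 := rfl
theorem F106478 : act 5 n70094 = n68105 := d12_1 D70094 F104246 (iv5 D32432) D32433 (iv5 F51600)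
def n70095 : Q := act 3 n32525
theorem D70095 : act 3 n32525 = n70095 := rfl
def n70096 : Q := act 4 n32525
theorem D70096 : act 4 n32525 = n70096 := rfl
theorem F106479 : act 0 n70096 = n33800 := d18_2 (iv1 F51603) D70096 (iv4 D33800) (iv5 D16332) (iv4 F42181) (iv0 D3907) (iv4 F5331) D7273 D15407
theorem F106480 : act 1 n70096 = n33809 := d18_6 F52551 F52549 F43139 (iv4 F57635) F57638 D70096 (iv4 D33809) F53031 F53030
def n70097 : Q := act 0 n32526
theorem D70097 : act 0 n32526 = n70097 := rfl
theorem F106481 : act 4 n70097 = n55081 := d18_3 (iv1 D32525) D32526 D70097 F87102 F42958 F43751 (iv4 F28774) D36746 F57638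
theorem F106482 : act 1 n32534 = n70097 := d15_0 (iv0 D70097) (iv7 F57118) F57117
def n70098 : Q := act 1 n32526
theorem D70098 : act 1 n32526 = n70098 := rfl
theorem F106483 : act 1 n70098 = n32534 := d15_1 D70098 (iv7 F57061) F57060
theorem F106484 : act 4 n70098 = n55082 := d18_7 (iv1 D12722) F9351 D6161 (iv4 F41771) D15402 D32526 D70098 F87106 (iv5 D26624)
def n70099 : Q := act 3 n32526
theorem D70099 : act 3 n32526 = n70099 := rfl
def n70100 : Q := act 5 n32526
theorem D70100 : act 5 n32526 = n70100 := rfl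
theorem F106485 : act 4 n70100 = n39267 := d16_2 D32526 D70100 F60231 (iv4 D27096) (iv5 D12979) F41776 D15407 (iv7 F41790) F41794
def n70102 : Q := act 7 n32527
theorem D70102 : act 7 n32527 = n70102 := rfl
theorem F106489 : act 5 n70102 = n62923 := d13_1 D70102 (iv7 D62923) (iv5 F51604)
theorem F106490 : act 6 n70102 = n68569 := d14_1 D70102 F104759 (iv6 D36373) (iv7 F41793) D32527
theorem F106491 : act 1 n61604 = n70102 := d15_1 (iv0 F96164) (iv7 D70102) (iv2 F57062)
def n70103 : Q := act 2 n32528
theorem D70103 : act 2 n32528 = n70103 := rfl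
theorem F106492 : act 7 n32529 = n70103 := d15_2 (iv0 D32528) D32529 (iv2 D70103)
def n70104 : Q := act 3 n32528
theorem D70104 : act 3 n32528 = n70104 := rfl
def n70105 : Q := act 4 n32528
theorem D70105 : act 4 n32528 = n70105 := rfl
def n70108 : Q := act 7 n32528
theorem D70108 : act 7 n32528 = n70108 := rfl
theorem F106493 : act 2 n70108 = n32529 := d4_1 D70108 F106492 (iv2 D70103)
def n70109 : Q := act 3 n32529
theorem D70109 : act 3 n32529 = n70109 := rfl
def n70110 : Q := act 4 n32529
theorem D70110 : act 4 n32529 = n70110 := rfl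
def n70111 : Q := act 5 n32529
theorem D70111 : act 5 n32529 = n70111 := rfl
def n70112 : Q := act 6 n32529
theorem D70112 : act 6 n32529 = n70112 := rfl
def n70113 : Q := act 4 n32530
theorem D70113 : act 4 n32530 = n70113 := rfl
theorem F106494 : act 2 n70113 = n32531 := d1_1 D70113 (iv4 D32531) D32530
def n70114 : Q := act 5 n32530
theorem D70114 : act 5 n32530 = n70114 := rfl
theorem F106495 : act 2 n70114 = n32532 := d2_1 D70114 (iv5 D32532) D32530
def n70115 : Q := act 6 n32530
theorem D70115 : act 6 n32530 = n70115 := rfl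
theorem F106496 : act 2 n70115 = n32533 := d3_1 D70115 (iv6 D32533) D32530
def n70116 : Q := act 0 n32531
theorem D70116 : act 0 n32531 = n70116 := rfl
def n70117 : Q := act 1 n32531
theorem D70117 : act 1 n32531 = n70117 := rfl
def n70118 : Q := act 5 n32531
theorem D70118 : act 5 n32531 = n70118 := rfl
theorem F106497 : act 3 n70118 = n56226 := d6_1 D70118 (iv5 D56226) (iv3 F51605)
def n70119 : Q := act 6 n32531
theorem D70119 : act 6 n32531 = n70119 := rfl
theorem F106498 : act 3 n70119 = n56227 := d7_1 D70119 (iv6 D56227) (iv3 F51605)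
theorem F106499 : act 4 n70119 = n32533 := d10_1 D70119 (iv6 D32533) D32531
def n70120 : Q := act 0 n32532
theorem D70120 : act 0 n32532 = n70120 := rfl
def n70121 : Q := act 1 n32532
theorem D70121 : act 1 n32532 = n70121 := rfl
def n70122 : Q := act 4 n32532
theorem D70122 : act 4 n32532 = n70122 := rfl
def n70123 : Q := act 6 n32532
theorem D70123 : act 6 n32532 = n70123 := rfl
theorem F106500 : act 3 n70123 = n32535 := d7_1 D70123 (iv6 D32535) (iv3 F51606)
def n70124 : Q := act 0 n32533
theorem D70124 : act 0 n32533 = n70124 := rfl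
def n70125 : Q := act 1 n32533
theorem D70125 : act 1 n32533 = n70125 := rfl
def n70126 : Q := act 5 n32533
theorem D70126 : act 5 n32533 = n70126 := rfl
theorem F106501 : act 3 n70126 = n32536 := d6_1 D70126 (iv5 D32536) (iv3 F51607)
def n70127 : Q := act 3 n32534
theorem D70127 : act 3 n32534 = n70127 := rfl
def n70128 : Q := act 5 n32534
theorem D70128 : act 5 n32534 = n70128 := rfl
theorem F106503 : act 0 n70128 = n55096 := d17_2 (iv1 F106482) D70128 (iv5 D55096) (iv4 D26627) (iv5 D12723) D12722 D26624 F87103 (iv4 F106481)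
theorem F106504 : act 1 n70128 = n56258 := d17_6 (iv1 F41812) F41768 (iv1 F20783) D15407 D32534 D70128 F88989 F53162 (iv4 D32538)
def n70129 : Q := act 6 n32534
theorem D70129 : act 6 n32534 = n70129 := rfl
theorem F106505 : act 4 n70129 = n32535 := d10_1 D70129 (iv6 D32535) D32534
def n70130 : Q := act 0 n32535
theorem D70130 : act 0 n32535 = n70130 := rfl
theorem F106506 : act 6 n70130 = n54029 := d21_5 F41768 (iv1 F20783) D15407 D32535 D70130 F85236 (iv1 F41410) D31909 (iv6 F50214) (iv1 F41812)
theorem F106507 : act 5 n70130 = n68533 := d21_0 (iv1 F104726) D68567 (iv6 F104758) (iv1 F85761) F85758 F41768 (iv1 F20783) D15407 D32535 D70130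
theorem F106508 : act 2 n68571 = n70130 := d15_3 (iv0 D70130) (iv0 F51608) D68571
theorem F106509 : act 7 n70130 = n32559 := d4_2 D68571 F106508 F51626
theorem F106510 : act 1 n68569 = n70130 := d15_1 D68569 F106509 F51626
def n70131 : Q := act 5 n32535
theorem D70131 : act 5 n32535 = n70131 := rfl
theorem F106511 : act 6 n70131 = n32536 := d12_2 D32535 D70131 (iv5 D32536) (iv6 D15408) D15407
theorem E9626 : n68053 = n48934 := (c21_2 (iv5 F85174) D68053 F77155 (iv6 D34745) (iv1 F51610) (iv6 F106511) (iv5 D70131) D70130 F106507 (iv6 D68533) (iv1 F85173))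
theorem F106512 : act 1 n48934 = n31665 := (sb E9626 (iv0 D68053))
theorem E9627 : n68054 = n59984 := (c15_2 F106512 D68054 (iv7 D59984) (iv2 F77153))
theorem F106513 : act 0 n59984 = n31665 := (sb E9627 (iv1 D68054))
theorem F106514 : act 7 n68358 = n70131 := d14_0 F106511 (iv7 F60523) (iv6 F98147) F104185 D68358
def n70132 : Q := act 7 n32535
theorem D70132 : act 7 n32535 = n70132 := rfl
theorem F106515 : act 2 n70132 = n68569 := d4_1 D70132 F104759 F57119
theorem F106516 : act 5 n70132 = n68358 := d13_1 D70132 F106514 (iv5 D70131)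
theorem F106517 : act 1 n32559 = n70132 := d15_1 (iv0 F57120) (iv7 D70132) (iv2 F57119)
theorem F106518 : act 1 n70132 = n68571 := d15_1 F106517 (iv7 D68571) (iv2 F51626)
def n70133 : Q := act 4 n32536
theorem D70133 : act 4 n32536 = n70133 := rfl
theorem F106519 : act 5 n70133 = n39419 := d16_1 D70133 F60353 F44975 F28996 F28941 F30379 (iv5 F54971) (iv7 F57122) F57121
theorem F106520 : act 0 n70133 = n55545 := d17_0 F87839 (iv1 F60465) F60463 (iv4 D32402) (iv5 D15299) F30055 D16844 (iv0 F51609) D70133
theorem F106521 : act 1 n70133 = n55538 := d18_6 F29997 F29957 (iv1 F30509) (iv4 F41780) D32536 D70133 (iv4 D55538) (iv0 F60507) (iv5 D39629)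
def n70134 : Q := act 0 n32537
theorem D70134 : act 0 n32537 = n70134 := rfl
def n70135 : Q := act 1 n32537
theorem D70135 : act 1 n32537 = n70135 := rfl
def n70136 : Q := act 2 n32537
theorem D70136 : act 2 n32537 = n70136 := rfl
def n70137 : Q := act 4 n32537
theorem D70137 : act 4 n32537 = n70137 := rfl
def n70138 : Q := act 5 n32537
theorem D70138 : act 5 n32537 = n70138 := rfl
theorem F106522 : act 3 n70138 = n32539 := d6_1 D70138 (iv5 D32539) D32537
theorem F106523 : act 7 n70138 = n36742 := d13_2 F85764 D70138 (iv5 F85763)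
def n70139 : Q := act 3 n32538
theorem D70139 : act 3 n32538 = n70139 := rfl
def n70140 : Q := act 5 n32538
theorem D70140 : act 5 n32538 = n70140 := rfl
theorem F106524 : act 4 n70140 = n39259 := d16_2 D32538 D70140 (iv5 D39259) F41782 (iv5 F21625) (iv4 F41746) F25322 (iv7 F41809) F41810
def n70141 : Q := act 0 n32540
theorem D70141 : act 0 n32540 = n70141 := rfl
def n70142 : Q := act 1 n32540
theorem D70142 : act 1 n32540 = n70142 := rfl
def n70143 : Q := act 2 n32540
theorem D70143 : act 2 n32540 = n70143 := rfl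
def n70144 : Q := act 4 n32540
theorem D70144 : act 4 n32540 = n70144 := rfl
def n70145 : Q := act 6 n32540
theorem D70145 : act 6 n32540 = n70145 := rfl
def n70147 : Q := act 5 n32541
theorem D70147 : act 5 n32541 = n70147 := rfl
theorem F106526 : act 4 n70147 = n39256 := d9_1 D70147 (iv5 D39256) F41786 (iv5 F28830) (iv4 F51612) (iv5 D32539) D32538 D70140 F106524 (iv5 D39259) F41782 (iv5 F21625) (iv4 F41746) F25322 D32541
def n70149 : Q := act 0 n32542
theorem D70149 : act 0 n32542 = n70149 := rfl
theorem F106528 : act 5 n70149 = n54515 := d21_0 (iv1 F86127) F52126 (iv6 F55778) (iv1 F55780) (iv6 F57058) F57057 (iv1 D32891) F25322 D32542 D70149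
def n70150 : Q := act 1 n32542
theorem D70150 : act 1 n32542 = n70150 := rfl
theorem F106529 : act 5 n54516 = n70150 := d21_0 (iv1 D70150) (iv5 F52069) (iv6 D32889) (iv1 F30045) (iv6 F60606) (iv5 D39770) D39769 F92599 F86116 (iv1 F86123)
theorem F106530 : act 6 n70150 = n32598 := d21_3 (iv5 F52126) (iv1 F86123) F106529 (iv1 F85796) F85793 F51658 (iv1 F47744) D61609 (iv6 F96169) (iv1 F55745)
def n70151 : Q := act 3 n32543
theorem D70151 : act 3 n32543 = n70151 := rfl
def n70152 : Q := act 5 n32543
theorem D70152 : act 5 n32543 = n70152 := rfl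
theorem F106531 : act 4 n70152 = n36400 := d16_2 (iv4 F53149) D70152 (iv5 D36400) F42190 (iv5 F13639) (iv4 F29133) F25852 (iv7 F42664) F42665
def n70153 : Q := act 3 n32544
theorem D70153 : act 3 n32544 = n70153 := rfl
def n70154 : Q := act 5 n32544
theorem D70154 : act 5 n32544 = n70154 := rfl
theorem F106532 : act 4 n70154 = n36397 := d9_1 D70154 (iv5 D36397) F43808 D18620 (iv4 F53147) (iv5 D33814) (iv4 F53149) D70152 F106531 (iv5 D36400) F42190 (iv5 F13639) (iv4 F29133) F25852 (iv4 F51614)
def n70156 : Q := act 0 n32545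
theorem D70156 : act 0 n32545 = n70156 := rfl
theorem F106534 : act 5 n70156 = n33800 := d17_3 (iv1 D32544) D32545 D70156 (iv4 D33800) (iv5 D16332) (iv0 D7591) D7593 D16340 (iv4 F51614)
theorem F106535 : act 4 n70156 = n36408 := d18_1 D70156 (iv1 D36408) D36409 (iv5 F87140) F87139 F42667 (iv4 F53149) (iv0 D32543) D32545
def n70157 : Q := act 1 n32545
theorem D70157 : act 1 n32545 = n70157 := rfl
theorem F106537 : act 1 n70157 = n39268 := d15_1 D70157 F85779 F85777
theorem F106538 : act 5 n70157 = n33809 := d17_7 (iv1 F51601) (iv5 D15407) (iv1 D7273) D7274 D15411 D32545 D70157 (iv0 F106476) (iv4 D70093)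
theorem F106539 : act 4 n70157 = n36407 := d17_9 (iv1 F88995) F88993 (iv1 F43815) D36400 (iv4 F106531) (iv5 D70152) (iv0 D32543) D32545 D70157
def n70158 : Q := act 6 n32546
theorem D70158 : act 6 n32546 = n70158 := rfl
theorem F106540 : act 3 n70158 = n38927 := d7_1 D70158 (iv6 F91932) F91930
theorem F106541 : act 4 n70158 = n32547 := d10_1 D70158 (iv6 D32547) (iv4 F51615)
theorem F106542 : act 7 n70158 = n32615 := d14_2 D32546 D70158 (iv6 D32615) (iv7 D15439) (iv6 F24966)
def n70159 : Q := act 4 n32549
theorem D70159 : act 4 n32549 = n70159 := rfl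
theorem F106543 : act 2 n70159 = n52875 := d1_1 D70159 F83546 F55748
theorem F106544 : act 5 n70159 = n48730 := d9_2 D32549 D70159 F76729 D52875 F83546 (iv5 D35092) F54135 D32383 D69757 F106162 F77562 D52812 F83446 (iv5 D34027) F54125
theorem F106545 : act 7 n70159 = n52812 := d11_2 (iv7 F54163) D70159 F83446
theorem F106546 : act 0 n70159 = n52928 := d17_0 F83643 (iv1 F106025) F106027 F83547 (iv5 D28435) D28434 (iv5 F85799) F85801 D70159
theorem F106547 : act 1 n70159 = n35059 := d18_6 (iv1 D15453) (iv4 F12701) F54130 F54125 D32549 D70159 (iv4 D35059) (iv0 F54211) (iv5 D32638)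
theorem F106548 : act 3 n70159 = n34861 := d19_3 D15413 D32549 D70159 (iv1 D34861) (iv5 D16900) (iv4 F18053) (iv3 D11125) F7563 D7887 (iv4 F20080) (iv3 F40380) (iv1 F42490) (iv5 D26536) F26787 F22844 F10574 (iv5 D6081) (iv4 F10684) D7277
def n70160 : Q := act 6 n32549
theorem D70160 : act 6 n32549 = n70160 := rfl
theorem F106549 : act 5 n70160 = n33658 := d12_1 D70160 (iv6 D33658) (iv5 F25989) (iv6 F54121) D32549
def n70161 : Q := act 6 n32554
theorem D70161 : act 6 n32554 = n70161 := rfl
theorem F106550 : act 2 n70161 = n32558 := d3_1 D70161 (iv6 D32558) (iv2 F51619)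
theorem F106551 : act 4 n70161 = n49129 := d10_1 D70161 (iv6 D49129) (iv4 F51624)
theorem F106552 : act 5 n70161 = n60158 := d12_1 D70161 (iv6 D60158) F54161 F49957 D32554
def n70162 : Q := act 4 n32555
theorem D70162 : act 4 n32555 = n70162 := rfl
theorem F106553 : act 2 n70162 = n52876 := d1_1 D70162 F83547 (iv2 F54318)
theorem F106554 : act 7 n70162 = n52827 := d11_2 F55764 D70162 F83476
theorem F106555 : act 5 n70162 = n49115 := d16_1 D70162 (iv4 F106026) F106027 F83547 (iv5 D28435) (iv4 F45971) F54320 F54319 (iv2 F54318)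
theorem F106556 : act 0 n70162 = n49122 := d17_0 (iv5 D49122) D49121 (iv5 F106162) (iv4 D69757) (iv5 D32383) F54128 D35093 F55758 D70162
theorem F106557 : act 1 n70162 = n32644 := d18_6 F53998 (iv4 F28409) D35993 (iv4 F56716) F54317 D70162 (iv4 D32644) (iv0 F54071) (iv5 D15168)
theorem F106558 : act 3 n70162 = n48732 := d19_3 (iv1 F54175) F54317 D70162 (iv1 D48732) (iv5 D23766) F18067 (iv3 D11128) F7570 D7876 F12463 (iv3 F18210) F28372 F28371 F12920 F5698 (iv1 F4141) D6140 (iv4 F10699) (iv3 F23148)
theorem E9628 : n52822 = n48732 := ((c8_2 (iv7 F106554) F106558 (iv7 F83468) D52827)).symm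
theorem F106559 : act 2 n48732 = n25642 := (sb E9628 (iv2 D52822))
theorem E9629 : n34850 = n23961 := (((F76735).symm.trans (sb E9628 F83467))).symm
theorem F106560 : act 7 n48732 = n25643 := (sb E9628 (iv7 F83468))
theorem E9630 : n49114 = n16897 := (((iv2 F77541)).symm.trans (sb E9629 (iv2 D34850)))
theorem E9631 : n49112 = n16898 := ((F77540).symm.trans (sb E9629 (iv7 F55113)))
theorem F106561 : act 2 n16897 = n23961 := (sb E9630 F77541)
theorem E9632 : n34855 = n23960 := ((D34855).symm.trans (sb E9630 (iv7 D49114)))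
theorem F106562 : act 7 n16898 = n23961 := (sb E9631 (iv7 F77540))
theorem F106563 : act 2 n23960 = n16898 := (sb E9632 F55119)
theorem E9633 : n52826 = n48731 := ((((iv5 F76733)).symm.trans (sb E9632 (iv5 F83474)))).symm
theorem F106564 : act 7 n23960 = n16897 := (sb E9632 (iv7 D34855))
theorem F106565 : act 2 n48731 = n25643 := (sb E9633 F83473)
theorem F106566 : act 7 n48731 = n25642 := (sb E9633 (iv7 D52826))
theorem F106567 : act 7 n34851 = n34857 := d8_2 F106564 D34851 F55121
theorem F106568 : act 7 n34852 = n43423 := d11_2 F106564 D34852 (iv4 F68284)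
theorem F106569 : act 7 n55261 = n69678 := d8_2 F106568 F87464 (iv3 F106028)
theorem F106570 : act 2 n43423 = n34857 := d15_3 (iv0 F55123) (iv0 F55117) F106568
theorem F106571 : act 2 n34852 = n34851 := d4_1 (iv7 F106568) F106567 (iv2 F106570)
theorem F106572 : act 2 n49115 = n69678 := d0_5 (iv3 F106028) F106571 (iv3 D34851) F106561 D49115
theorem F106573 : act 2 n49087 = n49039 := d3_3 (iv6 F82957) F106571 (iv6 F82961)
theorem F106574 : act 2 n34854 = n49116 := d1_3 F82962 F106573 F82958
theorem F106575 : act 2 n52536 = n64574 := d2_3 (iv5 F100510) F106573 (iv5 F82955)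
theorem F106576 : act 7 n49038 = n49087 := d15_2 F77480 F77478 F106573
theorem F106577 : act 7 n49088 = n49039 := d15_2 (iv0 D49087) D49088 (iv2 F106573)
theorem F106578 : act 2 n49038 = n49088 := d4_3 F106577 (iv2 F106573) (iv7 F106576)
theorem F106579 : act 7 n49116 = n69709 := d11_2 F106576 (iv4 F82962) (iv4 F106071)
theorem F106580 : act 4 n64570 = n52536 := d1_0 F106575 (iv4 D64574) (iv2 F100508)
theorem F106581 : act 7 n52535 = n64574 := d15_2 (iv0 F104837) F104838 (iv2 F106575)
theorem F106582 : act 4 n63988 = n52535 := d11_3 F106581 (iv4 D64574) (iv7 F99562)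
theorem F106583 : act 5 n49038 = n52535 := d13_3 F106581 (iv5 F100510) (iv7 F106576)
theorem F106584 : act 0 n52841 = n42415 := d21_7 F106583 (iv1 F104838) (iv5 D68640) (iv6 F68253) (iv1 F68254) F83461 D52841 (iv5 D42415) (iv6 F82982) D49038
theorem F106585 : act 3 n64726 = n52537 := d20_5 (iv4 F93944) (iv1 F93945) F45779 (iv3 F48859) D64726 (iv4 D52537) D52535 (iv4 F106582) F99561 (iv1 F48736)
theorem F106586 : act 4 n52315 = n64726 := d5_0 F106585 (iv4 D52537) F40332 (iv4 F40190) (iv3 F82694)
theorem F106587 : act 1 n64359 = n64570 := d17_8 (iv1 D52536) (iv5 D25502) D25500 D52530 F82951 (iv5 D30313) D30311 D64359 F106580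
theorem F106588 : act 4 n43381 = n64359 := d18_5 (iv1 F50264) F68246 (iv1 D43409) F32614 D43381 F106587 F106580 (iv0 F104837) (iv5 D68640)
theorem F106589 : act 2 n64359 = n64572 := d1_1 F106588 F100513 (iv2 F68152)
theorem F106590 : act 6 n64359 = n43390 := d10_2 (iv6 F68153) F106588 (iv4 D43390)
theorem E9634 : n64356 = n63947 := ((c2_3 D64359 F106589 (iv5 F100515) F100306)).symm
theorem F106591 : act 2 n63947 = n30311 := (sb E9634 F100306)
theorem F106592 : act 7 n63947 = n30310 := (sb E9634 (iv7 D64356))
theorem F106593 : act 7 n64573 = n64359 := d15_2 (iv0 D64572) D64573 F106589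
theorem F106594 : act 4 n54113 = n64573 := d11_3 F106593 (iv4 F106588) (iv7 F85422)
theorem F106595 : act 5 n64351 = n64573 := d13_3 F106593 (iv5 D64359) F100305
theorem F106596 : act 2 n64573 = n64354 := d2_1 F106595 (iv5 D64354) D64351
theorem F106597 : act 7 n64354 = n64572 := d4_2 (iv7 F106593) F106596 (iv2 F106589)
theorem F106598 : act 1 n64570 = n64354 := d15_1 F106587 F106597 (iv2 F106589)
theorem F106599 : act 1 n64354 = n63988 := d15_1 F106598 F99562 (iv2 F100508)
theorem F106600 : act 1 n63988 = n64359 := d15_1 F106599 (iv7 F106593) F106596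
theorem E9635 : n64351 = n63948 := (c15_4 F99481 F99477 F106592 D64351)
theorem F106601 : act 2 n63948 = n30310 := (sb E9635 (iv2 D64351))
theorem F106602 : act 5 n63948 = n64573 := (sb E9635 F106595)
theorem F106603 : act 7 n63948 = n30311 := (sb E9635 (iv7 F100305))
theorem F106604 : act 7 n34856 = n49115 := d15_2 F106025 (iv0 F55174) F106572
theorem F106605 : act 2 n34856 = n55261 := d4_3 F106569 (iv2 F106572) (iv7 F106604)
theorem F106606 : act 2 n34858 = n49113 := d3_3 (iv6 D49113) F106563 D34858
def n70163 : Q := act 6 n32555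
theorem D70163 : act 6 n32555 = n70163 := rfl
theorem F106607 : act 2 n70163 = n59883 := d3_1 D70163 F94353 (iv2 F54318)
theorem F106608 : act 5 n70163 = n59868 := d12_1 D70163 (iv6 D59868) F45961 D28423 F54317
def n70164 : Q := act 4 n32556
theorem D70164 : act 4 n32556 = n70164 := rfl
theorem F106609 : act 2 n70164 = n52827 := d1_1 D70164 F83476 (iv2 F55762)
theorem F106610 : act 5 n70164 = n55261 := d9_2 F54320 D70164 (iv4 F87465) (iv5 F83475) F83476 (iv5 F56711) (iv4 F56716) F54317 D70162 F106555 (iv4 F106026) F106027 F83547 (iv5 D28435) (iv4 F45971)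
theorem F106611 : act 7 n70164 = n52876 := d11_2 (iv7 F54319) D70164 F83547
theorem F106612 : act 0 n70164 = n32644 := d17_0 F51703 F76730 (iv5 F106544) (iv4 D70159) (iv5 D32549) (iv0 D15413) D15416 D32556 D70164
theorem F106613 : act 1 n70164 = n49122 := d18_6 F50990 (iv4 F54184) (iv1 D28434) (iv4 F45971) F54320 D70164 F77567 F51076 (iv5 D32116)
def n70165 : Q := act 6 n32556
theorem D70165 : act 6 n32556 = n70165 := rfl
theorem F106614 : act 5 n70165 = n59877 := d12_1 D70165 (iv6 D59877) (iv5 D28429) D28430 F54320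
def n70166 : Q := act 6 n32557
theorem D70166 : act 6 n32557 = n70166 := rfl
theorem F106615 : act 2 n70166 = n49129 := d3_1 D70166 (iv6 D49129) F51622
theorem F106616 : act 3 n70166 = n48965 := d7_1 D70166 (iv6 D48965) F51623
theorem F106617 : act 4 n70166 = n32558 := d10_1 D70166 (iv6 D32558) D32557
def n70167 : Q := act 0 n32558
theorem D70167 : act 0 n32558 = n70167 := rfl
def n70168 : Q := act 1 n32558
theorem D70168 : act 1 n32558 = n70168 := rfl
def n70169 : Q := act 7 n32558
theorem D70169 : act 7 n32558 = n70169 := rfl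
theorem F106618 : act 3 n70169 = n32564 := d8_1 D70169 (iv7 D32564) (iv3 F51625)
def n70170 : Q := act 6 n32560
theorem D70170 : act 6 n32560 = n70170 := rfl
theorem F106619 : act 3 n70170 = n32561 := d7_1 D70170 (iv6 D32561) D32560
theorem F106620 : act 4 n70170 = n48965 := d10_1 D70170 (iv6 D48965) (iv4 F51628)
def n70171 : Q := act 0 n32561
theorem D70171 : act 0 n32561 = n70171 := rfl
def n70172 : Q := act 1 n32561
theorem D70172 : act 1 n32561 = n70172 := rfl
def n70174 : Q := act 7 n32561
theorem D70174 : act 7 n32561 = n70174 := rfl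
theorem F106621 : act 4 n70174 = n32564 := d11_1 D70174 (iv7 D32564) (iv4 F51629)
def n70175 : Q := act 2 n32562
theorem D70175 : act 2 n32562 = n70175 := rfl
theorem F106622 : act 7 n32563 = n70175 := d15_2 (iv0 D32562) D32563 (iv2 D70175)
def n70176 : Q := act 3 n32562
theorem D70176 : act 3 n32562 = n70176 := rfl
def n70177 : Q := act 4 n32562
theorem D70177 : act 4 n32562 = n70177 := rfl
def n70178 : Q := act 5 n32562
theorem D70178 : act 5 n32562 = n70178 := rfl
theorem F106623 : act 0 n70178 = n32889 := d21_1 D70178 F52069 (iv6 D32542) (iv1 D15410) F11578 (iv5 D3344) D3342 D7278 D15419 D32562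
def n70179 : Q := act 7 n32562
theorem D70179 : act 7 n32562 = n70179 := rfl
theorem F106624 : act 2 n70179 = n32563 := d4_1 D70179 F106622 (iv2 D70175)
def n70180 : Q := act 3 n32563
theorem D70180 : act 3 n32563 = n70180 := rfl
def n70181 : Q := act 4 n32563
theorem D70181 : act 4 n32563 = n70181 := rfl
def n70182 : Q := act 5 n32563
theorem D70182 : act 5 n32563 = n70182 := rfl
theorem F106625 : act 0 n32889 = n70182 := d21_10 (iv5 D70182) (iv1 D32563) (iv5 F25336) (iv6 D15867) (iv1 D7440) (iv6 F11710) (iv5 D7428) D7426 D15837 D32889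
theorem F106626 : act 6 n32925 = n70182 := d21_5 (iv5 D3402) D3400 D7433 D15855 D32925 (iv5 D70182) (iv1 D32563) (iv5 F25336) (iv6 D15867) (iv1 D7440)
def n70183 : Q := act 6 n32563
theorem D70183 : act 6 n32563 = n70183 := rfl
def n70184 : Q := act 4 n32572
theorem D70184 : act 4 n32572 = n70184 := rfl
theorem F106627 : act 7 n70184 = n33529 := d11_2 F55355 D70184 (iv4 F56749)
theorem F106628 : act 5 n70184 = n33366 := d16_1 D70184 (iv4 F74335) F74336 F64270 (iv5 F54144) F51456 D32409 (iv7 F55703) F55701
theorem F106629 : act 0 n70184 = n35043 := d18_2 (iv1 F85789) D70184 (iv4 D35043) F55581 D54091 F85371 F72751 F50222 (iv5 F85786)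
theorem F106630 : act 1 n70184 = n35046 := d18_6 (iv1 F27869) D17010 F51635 (iv4 D32571) D32572 D70184 (iv4 D35046) F55618 F55617
theorem F106631 : act 3 n70184 = n33367 := d19_3 (iv1 F27912) D32572 D70184 (iv1 F92109) (iv5 D58262) (iv4 F46088) (iv3 F52269) F52273 (iv5 F50856) F50855 F43600 (iv1 D16913) D16915 (iv4 F54192) (iv3 F51067) (iv1 F51076) (iv5 F51077) F54077 (iv3 F27908)
def n70185 : Q := act 6 n32572
theorem D70185 : act 6 n32572 = n70185 := rfl
def n70186 : Q := act 4 n32574
theorem D70186 : act 4 n32574 = n70186 := rfl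
theorem F106632 : act 2 n70186 = n32579 := d1_1 D70186 (iv4 D32579) (iv2 F51638)
def n70187 : Q := act 6 n32574
theorem D70187 : act 6 n32574 = n70187 := rfl
theorem F106633 : act 2 n70187 = n32580 := d3_1 D70187 (iv6 D32580) (iv2 F51638)
def n70188 : Q := act 5 n32575
theorem D70188 : act 5 n32575 = n70188 := rfl
theorem F106634 : act 2 n70188 = n32583 := d2_1 D70188 (iv5 D32583) (iv2 F51639)
theorem F106635 : act 3 n70188 = n60130 := d6_1 D70188 F94687 F55760
theorem F106636 : act 7 n70188 = n60124 := d13_2 F104204 D70188 F104206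
theorem F106637 : act 0 n70188 = n34832 := d21_1 D70188 (iv5 D34832) F51728 F37259 (iv6 F26511) (iv5 F50103) F79158 (iv5 D34968) D34969 (iv1 F79157)
theorem F106638 : act 0 n34829 = n70188 := d21_1 D34829 (iv5 D70188) (iv6 D32575) (iv1 F54155) (iv6 D16968) (iv5 F30276) (iv1 D8898) F5922 D7868 D16883
def n70189 : Q := act 4 n32577
theorem D70189 : act 4 n32577 = n70189 := rfl
theorem F106639 : act 2 n70189 = n58289 := d1_1 D70189 F92151 (iv2 F55733)
theorem F106640 : act 5 n70189 = n57351 := d16_7 (iv4 F52913) F52914 F68068 F94337 F94335 (iv5 F55718) D70189 F90536 (iv2 D33630)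
theorem F106641 : act 0 n70189 = n35037 := d17_0 (iv5 F74050) (iv1 F74052) (iv5 F106628) (iv4 D70184) (iv5 D32572) F27912 D35079 F55717 D70189
theorem F106642 : act 1 n70189 = n35032 := d18_6 F52344 (iv4 F52353) (iv1 F94339) F94335 (iv5 F55718) D70189 (iv4 D35032) F55592 F51681
theorem F106643 : act 3 n52738 = n70189 := d6_3 F106640 F90538 (iv5 F87746)
def n70190 : Q := act 6 n32577
theorem D70190 : act 6 n32577 = n70190 := rfl
theorem F106644 : act 3 n70190 = n59883 := d7_1 D70190 F94353 F55719
theorem F106645 : act 5 n70190 = n59875 := d12_1 D70190 (iv6 D59875) (iv5 D28427) D28428 (iv5 F55718)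
def n70191 : Q := act 6 n32578
theorem D70191 : act 6 n32578 = n70191 := rfl
theorem F106646 : act 5 n70191 = n48905 := d12_1 D70191 (iv6 D48905) (iv5 D23846) D23847 (iv5 F55710)
def n70192 : Q := act 1 n32579
theorem D70192 : act 1 n32579 = n70192 := rfl
def n70193 : Q := act 3 n32579
theorem D70193 : act 3 n32579 = n70193 := rfl
theorem F106647 : act 4 n70193 = n32584 := d5_2 D32579 D70193 (iv3 D32584) (iv4 D15426) (iv3 F24974)
theorem F106648 : act 7 n70193 = n57574 := d8_2 F55734 D70193 (iv3 F90732)
theorem F106649 : act 0 n70193 = n57268 := d19_4 (iv1 D15421) D15424 D32579 D70193 (iv5 D57268) (iv4 F69994) (iv3 D44479) F33391 D21544 F33895 D21677 (iv1 F56639) F56638 F34095 D34943 F69246 F69243 (iv4 F51508) F54152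
theorem F106650 : act 2 n70193 = n57573 := d15_3 (iv0 D57573) D57574 (iv7 F106648)
def n70194 : Q := act 5 n32579
theorem D70194 : act 5 n32579 = n70194 := rfl
theorem F106651 : act 1 n70194 = n46860 := d17_8 (iv1 F35069) F34697 (iv1 F34696) (iv5 F44595) D46276 (iv5 F85373) F85374 D70194 (iv4 D46860)
theorem F106652 : act 0 n70194 = n46862 := d18_0 (iv4 D46862) (iv1 D22511) D22512 D46865 F74081 F55605 D54092 F85374 D70194
def n70195 : Q := act 6 n32579
theorem D70195 : act 6 n32579 = n70195 := rfl
theorem F106653 : act 4 n70195 = n32580 := d10_1 D70195 (iv6 D32580) D32579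
def n70196 : Q := act 0 n32580
theorem D70196 : act 0 n32580 = n70196 := rfl
def n70197 : Q := act 1 n32580
theorem D70197 : act 1 n32580 = n70197 := rfl
def n70198 : Q := act 5 n32580
theorem D70198 : act 5 n32580 = n70198 := rfl
theorem F106654 : act 3 n70198 = n32588 := d6_1 D70198 (iv5 D32588) (iv3 F51642)
theorem F106655 : act 6 n70198 = n32583 := d12_2 D32580 D70198 (iv5 D32583) (iv6 D15425) D15424
def n70199 : Q := act 7 n32580
theorem D70199 : act 7 n32580 = n70199 := rfl
theorem F106656 : act 3 n70199 = n32589 := d8_1 D70199 (iv7 D32589) (iv3 F51642)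
def n70200 : Q := act 4 n32581
theorem D70200 : act 4 n32581 = n70200 := rfl
theorem F106657 : act 6 n70200 = n35005 := d10_2 (iv6 F55712) D70200 (iv4 F55485)
theorem F106658 : act 0 n70200 = n59816 := d20_1 D70200 (iv4 D59816) (iv3 F55656) (iv1 F55659) F54568 F27304 (iv1 F12454) (iv4 F11588) (iv3 F24975) D32581
theorem F106659 : act 0 n35030 = n70200 := d20_1 (iv4 F55634) (iv4 D70200) (iv3 F55713) F79145 (iv3 D26061) F20521 (iv1 D6441) (iv4 F10498) (iv3 F22689) (iv1 F55632)
def n70201 : Q := act 4 n32582
theorem D70201 : act 4 n32582 = n70201 := rfl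
theorem F106660 : act 6 n70201 = n59811 := d10_2 F93555 D70201 (iv4 F94194)
theorem F106661 : act 0 n70201 = n35030 := d21_4 D31935 (iv1 F104819) F104820 (iv6 F106660) (iv6 D35030) F35032 (iv1 F68069) F94337 (iv6 D59872) F45967
theorem E9636 : n68016 = n67943 := (c20_5 (iv4 F95989) F95991 (iv4 D31654) D31653 D68016 F104038 D70201 F106661 F55634 (iv3 F55626) F55628)
theorem F106662 : act 1 n67943 = n31653 := (sb E9636 (iv0 D68016))
theorem F106663 : act 1 n70201 = n59816 := d15_1 (iv0 F106661) F94209 F73967
def n70202 : Q := act 1 n32583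
theorem D70202 : act 1 n32583 = n70202 := rfl
theorem F106664 : act 1 n70202 = n60124 := d15_1 D70202 (iv7 F106636) F106634
theorem F106665 : act 7 n70202 = n34832 := d15_2 (iv0 F56750) D70202 F55092
theorem F106666 : act 5 n70202 = n34825 := d18_9 (iv1 F55065) F42294 (iv1 D26446) F21019 D12629 D26463 D54719 (iv4 F86526) D70202
theorem F106667 : act 2 n34829 = n70202 := d2_3 F106666 (iv2 F55063) D34829
def n70203 : Q := act 0 n32584
theorem D70203 : act 0 n32584 = n70203 := rfl
def n70204 : Q := act 1 n32584
theorem D70204 : act 1 n32584 = n70204 := rfl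
theorem F106668 : act 3 n37195 = n70204 := d20_3 F33661 (iv1 F33704) (iv4 F58161) (iv1 D70204) (iv3 D32584) (iv4 D15426) (iv1 F24969) (iv4 F33975) F33974 (iv1 F33663)
theorem F106669 : act 5 n70204 = n37266 := d6_2 (iv5 F58160) F106668 (iv3 D37266)
def n70205 : Q := act 2 n32584
theorem D70205 : act 2 n32584 = n70205 := rfl
theorem F106670 : act 3 n70205 = n48944 := d0_2 D32584 D70205 F77195 (iv3 D35099) F27937
theorem F106671 : act 4 n70205 = n57573 := d1_2 F106647 D70205 (iv2 F106650)
def n70207 : Q := act 0 n32585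
theorem D70207 : act 0 n32585 = n70207 := rfl
def n70208 : Q := act 1 n32585
theorem D70208 : act 1 n32585 = n70208 := rfl
def n70209 : Q := act 5 n32585
theorem D70209 : act 5 n32585 = n70209 := rfl
def n70210 : Q := act 7 n32585
theorem D70210 : act 7 n32585 = n70210 := rfl
theorem F106673 : act 4 n70210 = n32589 := d11_1 D70210 (iv7 D32589) (iv4 F51644)
def n70211 : Q := act 3 n32586
theorem D70211 : act 3 n32586 = n70211 := rfl
def n70212 : Q := act 4 n32586
theorem D70212 : act 4 n32586 = n70212 := rfl
def n70213 : Q := act 5 n32586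
theorem D70213 : act 5 n32586 = n70213 := rfl
theorem F106674 : act 7 n70213 = n40245 := d13_2 (iv7 F57641) D70213 F61217
def n70214 : Q := act 6 n32586
theorem D70214 : act 6 n32586 = n70214 := rfl
theorem F106675 : act 5 n70214 = n68106 := d21_6 (iv5 D12477) (iv1 F26333) D7281 D15427 D32586 D70214 (iv1 D68106) F50014 (iv6 D15431) (iv1 F26338)
def n70215 : Q := act 3 n32587
theorem D70215 : act 3 n32587 = n70215 := rfl
def n70216 : Q := act 4 n32587
theorem D70216 : act 4 n32587 = n70216 := rfl
def n70217 : Q := act 0 n32588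
theorem D70217 : act 0 n32588 = n70217 := rfl
theorem F106676 : act 6 n70217 = n59993 := d21_5 (iv5 D16475) (iv1 F21182) D15428 (iv6 F51645) D70217 (iv5 D59993) (iv1 D28486) D28487 F46007 (iv1 F25976)
def n70218 : Q := act 1 n32588
theorem D70218 : act 1 n32588 = n70218 := rfl
def n70219 : Q := act 4 n32588
theorem D70219 : act 4 n32588 = n70219 := rfl
theorem F106677 : act 6 n70219 = n32590 := d10_2 (iv6 F51645) D70219 (iv4 D32590)
def n70220 : Q := act 7 n32588
theorem D70220 : act 7 n32588 = n70220 := rfl
theorem F106678 : act 5 n70220 = n32589 := d13_1 D70220 (iv7 D32589) D32588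
def n70221 : Q := act 3 n32590
theorem D70221 : act 3 n32590 = n70221 := rfl
def n70222 : Q := act 6 n32593
theorem D70222 : act 6 n32593 = n70222 := rfl
theorem F106680 : act 2 n70222 = n32595 := d3_1 D70222 (iv6 D32595) D32593
theorem F106681 : act 4 n70222 = n49136 := d10_1 D70222 (iv6 D49136) F54177
def n70223 : Q := act 6 n32594
theorem D70223 : act 6 n32594 = n70223 := rfl
theorem F106682 : act 2 n70223 = n49136 := d3_1 D70223 (iv6 D49136) (iv2 F54178)
theorem F106683 : act 3 n70223 = n69790 := d7_1 D70223 (iv6 D69790) F51650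
theorem F106684 : act 4 n70223 = n32595 := d10_1 D70223 (iv6 D32595) D32594
theorem F106685 : act 5 n70223 = n49136 := d12_1 D70223 (iv6 D49136) F54179 (iv6 F50912) (iv5 F51649)
def n70224 : Q := act 0 n32595
theorem D70224 : act 0 n32595 = n70224 := rfl
def n70225 : Q := act 1 n32595
theorem D70225 : act 1 n32595 = n70225 := rfl
def n70226 : Q := act 7 n32595
theorem D70226 : act 7 n32595 = n70226 := rfl
theorem F106686 : act 3 n70226 = n32600 := d8_1 D70226 (iv7 D32600) (iv3 F51651)
def n70227 : Q := act 6 n32596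
theorem D70227 : act 6 n32596 = n70227 := rfl
theorem F106687 : act 3 n70227 = n32597 := d7_1 D70227 (iv6 D32597) D32596
theorem F106688 : act 4 n70227 = n69790 := d10_1 D70227 (iv6 D69790) (iv4 F51652)
def n70229 : Q := act 1 n32597
theorem D70229 : act 1 n32597 = n70229 := rfl
def n70231 : Q := act 7 n32597
theorem D70231 : act 7 n32597 = n70231 := rfl
theorem F106689 : act 4 n70231 = n32600 := d11_1 D70231 (iv7 D32600) (iv4 F51653)
def n70232 : Q := act 2 n32598
theorem D70232 : act 2 n32598 = n70232 := rfl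
theorem F106690 : act 7 n32599 = n70232 := d15_2 (iv0 D32598) D32599 (iv2 D70232)
def n70233 : Q := act 3 n32598
theorem D70233 : act 3 n32598 = n70233 := rfl
def n70234 : Q := act 4 n32598
theorem D70234 : act 4 n32598 = n70234 := rfl
def n70235 : Q := act 5 n32598
theorem D70235 : act 5 n32598 = n70235 := rfl
def n70236 : Q := act 7 n32598
theorem D70236 : act 7 n32598 = n70236 := rfl
def n70237 : Q := act 3 n32599
theorem D70237 : act 3 n32599 = n70237 := rfl
def n70238 : Q := act 4 n32599
theorem D70238 : act 4 n32599 = n70238 := rfl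
def n70239 : Q := act 5 n32599
theorem D70239 : act 5 n32599 = n70239 := rfl
theorem F106692 : act 6 n70239 = n49880 := d21_3 F98049 (iv1 F85795) D70239 (iv1 F79229) (iv6 D50054) F38270 (iv1 F25188) D32432 (iv6 F104246) F104248
theorem F106693 : act 0 n68382 = n70239 := d21_10 (iv5 D70239) (iv1 D32599) (iv5 F50014) (iv6 D31708) (iv1 F24549) (iv6 F24621) (iv5 D14975) D14973 D31815 D68382
theorem F106694 : act 4 n65364 = n70239 := d10_3 F106692 F104785 D65364
def n70240 : Q := act 6 n32599
theorem D70240 : act 6 n32599 = n70240 := rfl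
def n70241 : Q := act 6 n32603
theorem D70241 : act 6 n32603 = n70241 := rfl
theorem F106695 : act 2 n70241 = n32605 := d3_1 D70241 (iv6 D32605) D32603
theorem F106696 : act 5 n70241 = n62767 := d12_1 D70241 (iv6 D62767) (iv5 D29694) D29695 (iv5 F51654)
def n70242 : Q := act 6 n32604
theorem D70242 : act 6 n32604 = n70242 := rfl
theorem F106697 : act 4 n70242 = n32605 := d10_1 D70242 (iv6 D32605) D32604
def n70243 : Q := act 0 n32605
theorem D70243 : act 0 n32605 = n70243 := rfl
def n70244 : Q := act 1 n32605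
theorem D70244 : act 1 n32605 = n70244 := rfl
def n70245 : Q := act 7 n32605
theorem D70245 : act 7 n32605 = n70245 := rfl
theorem F106698 : act 3 n70245 = n32610 := d8_1 D70245 (iv7 D32610) (iv3 F51655)
theorem F106699 : act 5 n70245 = n62781 := d13_1 D70245 (iv7 D62781) (iv5 F51656)
def n70246 : Q := act 0 n32606
theorem D70246 : act 0 n32606 = n70246 := rfl
def n70247 : Q := act 2 n32606
theorem D70247 : act 2 n32606 = n70247 := rfl
theorem F106700 : act 3 n70247 = n48753 := d0_2 D32606 D70247 (iv2 F76777) (iv3 D35066) (iv2 F27884)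
def n70248 : Q := act 6 n32606
theorem D70248 : act 6 n32606 = n70248 := rfl
def n70249 : Q := act 0 n32607
theorem D70249 : act 0 n32607 = n70249 := rfl
def n70250 : Q := act 1 n32607
theorem D70250 : act 1 n32607 = n70250 := rfl
def n70252 : Q := act 7 n32607
theorem D70252 : act 7 n32607 = n70252 := rfl
def n70253 : Q := act 2 n32608
theorem D70253 : act 2 n32608 = n70253 := rfl
theorem F106703 : act 7 n32609 = n70253 := d15_2 (iv0 D32608) D32609 (iv2 D70253)
def n70254 : Q := act 3 n32608
theorem D70254 : act 3 n32608 = n70254 := rfl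
def n70255 : Q := act 4 n32608
theorem D70255 : act 4 n32608 = n70255 := rfl
def n70256 : Q := act 6 n32608
theorem D70256 : act 6 n32608 = n70256 := rfl
def n70257 : Q := act 7 n32608
theorem D70257 : act 7 n32608 = n70257 := rfl
theorem F106704 : act 2 n70257 = n32609 := d4_1 D70257 F106703 (iv2 D70253)
def n70258 : Q := act 3 n32609
theorem D70258 : act 3 n32609 = n70258 := rfl
def n70259 : Q := act 4 n32609
theorem D70259 : act 4 n32609 = n70259 := rfl
def n70260 : Q := act 0 n32611
theorem D70260 : act 0 n32611 = n70260 := rfl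
theorem F106705 : act 1 n52940 = n70260 := d15_0 (iv0 D70260) (iv7 F85818) F85816
def n70261 : Q := act 1 n32611
theorem D70261 : act 1 n32611 = n70261 := rfl
def n70262 : Q := act 2 n32611
theorem D70262 : act 2 n32611 = n70262 := rfl
theorem F106706 : act 3 n70262 = n52919 := d0_2 D32611 D70262 F83622 F41823 (iv2 F41824)
theorem F106707 : act 7 n70262 = n52940 := d4_2 F85818 D70262 (iv2 F85816)
theorem F106708 : act 1 n70261 = n52940 := d15_1 D70261 (iv7 F106707) (iv2 D70262)
def n70263 : Q := act 4 n32611
theorem D70263 : act 4 n32611 = n70263 := rfl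
theorem F106709 : act 3 n70263 = n35054 := d5_1 D70263 (iv4 D35054) (iv3 D17017) (iv4 F24982) D32611
def n70264 : Q := act 6 n32611
theorem D70264 : act 6 n32611 = n70264 := rfl
def n70265 : Q := act 0 n32612
theorem D70265 : act 0 n32612 = n70265 := rfl
def n70266 : Q := act 1 n32612
theorem D70266 : act 1 n32612 = n70266 := rfl
def n70268 : Q := act 7 n32612
theorem D70268 : act 7 n32612 = n70268 := rfl
theorem F106711 : act 4 n70268 = n35058 := d11_1 D70268 (iv7 D35058) (iv4 F51659)
def n70269 : Q := act 6 n32613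
theorem D70269 : act 6 n32613 = n70269 := rfl
theorem F106712 : act 2 n70269 = n52942 := d3_1 D70269 (iv6 D52942) (iv2 F51665)
theorem F106713 : act 3 n70269 = n32614 := d7_1 D70269 (iv6 D32614) D32613
theorem F106714 : act 4 n70269 = n52921 := d10_1 D70269 (iv6 D52921) F51661
def n70270 : Q := act 0 n32614
theorem D70270 : act 0 n32614 = n70270 := rfl
def n70271 : Q := act 1 n32614
theorem D70271 : act 1 n32614 = n70271 := rfl
def n70273 : Q := act 7 n32614
theorem D70273 : act 7 n32614 = n70273 := rfl
theorem F106715 : act 4 n70273 = n35063 := d11_1 D70273 (iv7 D35063) (iv4 F51666)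
def n70274 : Q := act 0 n32615
theorem D70274 : act 0 n32615 = n70274 := rfl
def n70275 : Q := act 1 n32615
theorem D70275 : act 1 n32615 = n70275 := rfl
def n70276 : Q := act 5 n32615
theorem D70276 : act 5 n32615 = n70276 := rfl
theorem F106716 : act 3 n70276 = n38926 := d6_1 D70276 (iv5 D38926) (iv3 F51667)
theorem F106717 : act 6 n70276 = n32692 := d12_2 D32615 D70276 (iv5 D32692) (iv6 D15572) (iv5 F26497)
def n70277 : Q := act 2 n32616
theorem D70277 : act 2 n32616 = n70277 := rfl
theorem F106718 : act 7 n32617 = n70277 := d15_2 (iv0 D32616) D32617 (iv2 D70277)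
def n70278 : Q := act 3 n32616
theorem D70278 : act 3 n32616 = n70278 := rfl
def n70279 : Q := act 4 n32616
theorem D70279 : act 4 n32616 = n70279 := rfl
def n70280 : Q := act 5 n32616
theorem D70280 : act 5 n32616 = n70280 := rfl
def n70281 : Q := act 7 n32616
theorem D70281 : act 7 n32616 = n70281 := rfl
theorem F106719 : act 2 n70281 = n32617 := d4_1 D70281 F106718 (iv2 D70277)
def n70282 : Q := act 3 n32617
theorem D70282 : act 3 n32617 = n70282 := rfl
def n70283 : Q := act 4 n32617
theorem D70283 : act 4 n32617 = n70283 := rfl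
def n70284 : Q := act 6 n32617
theorem D70284 : act 6 n32617 = n70284 := rfl
def n70285 : Q := act 6 n32620
theorem D70285 : act 6 n32620 = n70285 := rfl
theorem F106720 : act 3 n70285 = n32621 := d7_1 D70285 (iv6 D32621) (iv3 F51669)
theorem F106721 : act 4 n70285 = n46670 := d10_1 D70285 (iv6 D46670) (iv4 F51670)
def n70286 : Q := act 0 n32621
theorem D70286 : act 0 n32621 = n70286 := rfl
def n70287 : Q := act 1 n32621
theorem D70287 : act 1 n32621 = n70287 := rfl
def n70288 : Q := act 7 n32621
theorem D70288 : act 7 n32621 = n70288 := rfl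
def n70289 : Q := act 6 n32622
theorem D70289 : act 6 n32622 = n70289 := rfl
theorem F106722 : act 2 n70289 = n55984 := d3_1 D70289 (iv6 D55984) (iv2 F51671)
theorem F106723 : act 3 n70289 = n33181 := d7_1 D70289 (iv6 D33181) (iv3 F51672)
def n70290 : Q := act 3 n32623
theorem D70290 : act 3 n32623 = n70290 := rfl
theorem F106724 : act 2 n70290 = n32626 := d0_1 D70290 (iv3 D32626) (iv2 F24993) (iv3 F41588) F51677
theorem F106725 : act 5 n70290 = n43404 := d6_2 (iv5 F51676) D70290 F68236
theorem F106726 : act 7 n70290 = n35031 := d8_2 (iv7 F51679) D70290 F55639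
theorem F106727 : act 4 n70290 = n70192 := d20_6 (iv4 F33975) (iv1 F33977) (iv4 D15449) (iv3 F24989) D32623 D70290 (iv1 D70192) (iv4 D32579) F24974 (iv1 F24969)
theorem F106728 : act 5 n70192 = n46274 := d9_2 (iv5 F106725) F106727 (iv4 D46274) F34602 F31830 F41511 F41510 D26171 D54092 F85373 (iv4 D46276) F44595 (iv4 F17230) D20519 D43404
theorem F106729 : act 1 n35020 = n70290 := d17_8 (iv1 D70192) D70194 F106652 F74071 F55668 F27875 F27868 D35020 F106727
theorem F106730 : act 0 n35023 = n70290 := d18_0 F106727 (iv1 D70192) (iv4 D32579) (iv5 D15424) D15423 (iv0 F27766) F27765 D17000 D35023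
theorem F106731 : act 3 n57277 = n70192 := d6_3 F106728 F72938 D57277
theorem F106732 : act 0 n55363 = n57277 := d20_4 (iv4 F44333) F44334 (iv4 F42982) (iv3 F87624) F106731 (iv4 F106727) (iv1 F106729) (iv4 F90053) F90052 (iv1 F44319)
def n70291 : Q := act 4 n32623
theorem D70291 : act 4 n32623 = n70291 := rfl
theorem F106733 : act 2 n70291 = n54138 := d1_1 D70291 (iv4 D54138) F51677
theorem F106734 : act 7 n70291 = n68840 := d11_2 (iv7 F51679) D70291 (iv4 D68840)
theorem F106735 : act 0 n70291 = n68905 := d17_0 F105084 F74374 (iv5 F87996) F87995 F43296 F41855 F50671 F51678 D70291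
theorem F106736 : act 1 n70291 = n68904 := d15_0 (iv0 D68904) (iv7 F85450) (iv2 F106733)
def n70292 : Q := act 6 n32623
theorem D70292 : act 6 n32623 = n70292 := rfl
theorem F106737 : act 2 n70292 = n54135 := d3_1 D70292 F85444 F51677
theorem F106738 : act 5 n70292 = n54127 := d12_1 D70292 (iv6 D54127) F41571 D26192 (iv5 F51676)
def n70293 : Q := act 0 n32624
theorem D70293 : act 0 n32624 = n70293 := rfl
theorem F106739 : act 1 n68902 = n70293 := d15_0 (iv0 D70293) (iv7 F85832) (iv2 F105077)
def n70294 : Q := act 1 n32624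
theorem D70294 : act 1 n32624 = n70294 := rfl
theorem F106740 : act 1 n70294 = n68902 := d15_1 D70294 F105078 F87983
def n70295 : Q := act 3 n32624
theorem D70295 : act 3 n32624 = n70295 := rfl
theorem F106741 : act 4 n70295 = n32629 := d5_2 D32624 D70295 (iv3 D32629) (iv4 D15449) (iv3 F24989)
def n70296 : Q := act 5 n32624
theorem D70296 : act 5 n32624 = n70296 := rfl
theorem F106742 : act 4 n70296 = n46667 := d16_2 D32624 D70296 (iv5 D46667) (iv4 F65438) F65439 F55277 F50671 F50670 F43282
theorem F106743 : act 3 n52828 = n70294 := d19_19 (iv1 D70294) D70296 F106742 (iv3 F75467) (iv1 D37512) D37513 (iv4 F61720) (iv3 D40605) (iv1 D19176) D19178 (iv4 F30819) F25368 (iv1 F30290) F21129 (iv4 F21469) (iv3 F37422) (iv1 F37427) (iv5 F46143) D52828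
theorem F106744 : act 1 n33415 = n70296 := d18_6 D41516 (iv4 F69348) (iv1 F106032) F106031 (iv5 F62312) (iv4 F62313) F106742 F73759 F34954
def n70297 : Q := act 6 n32624
theorem D70297 : act 6 n32624 = n70297 := rfl
def n70298 : Q := act 0 n32625
theorem D70298 : act 0 n32625 = n70298 := rfl
def n70299 : Q := act 1 n32625
theorem D70299 : act 1 n32625 = n70299 := rfl
def n70300 : Q := act 7 n32625
theorem D70300 : act 7 n32625 = n70300 := rfl
theorem F106746 : act 3 n70300 = n32633 := d8_1 D70300 (iv7 D32633) (iv3 F51680)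
def n70301 : Q := act 4 n32626
theorem D70301 : act 4 n32626 = n70301 := rfl
theorem F106747 : act 2 n70301 = n70192 := d1_1 D70301 (iv4 F106727) F106724
theorem F106748 : act 7 n70301 = n54092 := d11_2 (iv7 F51682) D70301 (iv4 D54092)
theorem F106749 : act 0 n70301 = n70186 := d18_2 F51683 D70301 (iv4 D70186) (iv5 D32574) (iv4 F27773) (iv0 D16935) F12510 D7941 D17011
theorem F106750 : act 1 n70301 = n35083 := d18_6 (iv1 D29703) (iv4 F47733) (iv1 F68224) F68223 (iv5 F51681) D70301 (iv4 D35083) D35082 F55732
def n70302 : Q := act 6 n32626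
theorem D70302 : act 6 n32626 = n70302 := rfl
theorem F106751 : act 3 n70302 = n32628 := d7_1 D70302 (iv6 D32628) D32626
theorem F106752 : act 5 n70302 = n68722 := d12_1 D70302 (iv6 D68722) F50330 (iv6 F41519) (iv5 F51681)
def n70303 : Q := act 3 n32627
theorem D70303 : act 3 n32627 = n70303 := rfl
theorem F106753 : act 7 n70303 = n54104 := d8_2 (iv7 F51685) D70303 (iv3 D54104)
def n70304 : Q := act 6 n32627
theorem D70304 : act 6 n32627 = n70304 := rfl
theorem F106754 : act 2 n70304 = n68950 := d3_1 D70304 (iv6 D68950) (iv2 F51684)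
theorem F106755 : act 4 n70304 = n32628 := d10_1 D70304 (iv6 D32628) D32627
theorem F106756 : act 0 n70304 = n70129 := d21_4 (iv5 F26762) (iv1 F51805) F51802 D70304 (iv6 D70129) D70128 F106503 (iv5 D55096) F42659 (iv1 F24978)
def n70305 : Q := act 1 n32628
theorem D70305 : act 1 n32628 = n70305 := rfl
theorem F106757 : act 1 n70305 = n68946 := d15_1 D70305 F105110 (iv2 F51688)
theorem F106758 : act 7 n70305 = n33810 := d15_2 (iv0 F87128) D70305 (iv2 F87127)
theorem F106759 : act 2 n68951 = n70305 := d4_3 F106758 (iv2 F87127) (iv7 F105120)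
def n70306 : Q := act 7 n32628
theorem D70306 : act 7 n32628 = n70306 := rfl
theorem F106760 : act 2 n70306 = n68946 := d4_1 D70306 F105110 (iv2 F51688)
theorem F106761 : act 5 n70306 = n68799 := d13_1 D70306 F104994 (iv5 F51689)
theorem F106762 : act 6 n70306 = n54103 := d14_1 D70306 (iv7 D54103) F41522 (iv7 F24991) D32628
theorem F106763 : act 1 n68951 = n70306 := d15_1 D68951 (iv7 D70306) F51688
theorem F106764 : act 1 n70306 = n33810 := d15_1 F106763 (iv7 F106758) (iv2 F106759)
def n70307 : Q := act 0 n32629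
theorem D70307 : act 0 n32629 = n70307 := rfl
theorem F106765 : act 1 n52907 = n70307 := d15_0 (iv0 D70307) (iv7 F85836) F85834
def n70308 : Q := act 1 n32629
theorem D70308 : act 1 n32629 = n70308 := rfl
def n70309 : Q := act 2 n32629
theorem D70309 : act 2 n32629 = n70309 := rfl
theorem F106766 : act 3 n70309 = n52872 := d0_2 D32629 D70309 F83538 F41848 F41844
theorem F106767 : act 7 n70309 = n52907 := d4_2 F85836 D70309 (iv2 F85834)
theorem F106768 : act 1 n70308 = n52907 := d15_1 D70308 (iv7 F106767) (iv2 D70309)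
def n70311 : Q := act 0 n32630
theorem D70311 : act 0 n32630 = n70311 := rfl
def n70312 : Q := act 1 n32630
theorem D70312 : act 1 n32630 = n70312 := rfl
def n70314 : Q := act 7 n32630
theorem D70314 : act 7 n32630 = n70314 := rfl
theorem F106770 : act 4 n70314 = n32633 := d11_1 D70314 (iv7 D32633) (iv4 F51690)
def n70315 : Q := act 2 n32631
theorem D70315 : act 2 n32631 = n70315 := rfl
theorem F106771 : act 7 n32632 = n70315 := d15_2 (iv0 D32631) D32632 (iv2 D70315)
def n70316 : Q := act 3 n32631
theorem D70316 : act 3 n32631 = n70316 := rfl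
def n70317 : Q := act 4 n32631
theorem D70317 : act 4 n32631 = n70317 := rfl
def n70318 : Q := act 5 n32631
theorem D70318 : act 5 n32631 = n70318 := rfl
theorem F106772 : act 0 n70318 = n33311 := d21_1 D70318 (iv5 F53152) (iv6 D33816) (iv1 D16340) F11829 (iv5 D3597) (iv1 F10681) D7293 D15450 D32631
def n70319 : Q := act 7 n32631
theorem D70319 : act 7 n32631 = n70319 := rfl
def n70320 : Q := act 3 n32632
theorem D70320 : act 3 n32632 = n70320 := rfl
def n70321 : Q := act 4 n32632
theorem D70321 : act 4 n32632 = n70321 := rfl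
def n70322 : Q := act 5 n32632
theorem D70322 : act 5 n32632 = n70322 := rfl
theorem F106774 : act 0 n33311 = n70322 := d21_10 (iv5 D70322) (iv1 D32632) (iv5 F25604) (iv6 D16099) (iv1 D7516) (iv6 F11753) (iv5 D7513) D7511 D16085 D33311
theorem F106775 : act 6 n32982 = n70322 := d21_5 (iv5 D3429) (iv1 F11597) D7448 D15881 D32982 (iv5 D70322) (iv1 D32632) (iv5 F25604) (iv6 D16099) (iv1 D7516)
def n70323 : Q := act 6 n32632
theorem D70323 : act 6 n32632 = n70323 := rfl
def n70324 : Q := act 5 n32637
theorem D70324 : act 5 n32637 = n70324 := rfl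
theorem F106776 : act 2 n70324 = n69857 := d2_1 D70324 (iv5 D69857) F54091
theorem F106777 : act 3 n70324 = n32638 := d6_1 D70324 (iv5 D32638) D32637
theorem F106778 : act 7 n70324 = n69857 := d13_2 F54092 D70324 (iv5 D69857)
theorem F106779 : act 0 n70324 = n35042 := d17_2 F51696 D70324 F55660 F46880 D29233 (iv0 F46889) (iv5 D15368) (iv0 F26500) (iv4 F27872)
theorem F106780 : act 4 n70324 = n70061 := d17_4 (iv1 F55623) (iv5 D35028) F51696 D70324 F106457 (iv0 F75022) F75021 (iv0 F105248) (iv4 D69031)
theorem F106781 : act 1 n70324 = n35042 := d17_6 D32112 D69030 (iv1 F106285) (iv5 D69857) F54089 D70324 F55660 (iv0 F54352) F51057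
def n70325 : Q := act 6 n32638
theorem D70325 : act 6 n32638 = n70325 := rfl
theorem F106782 : act 2 n70325 = n33591 := d3_1 D70325 (iv6 F54528) F54526
theorem F106783 : act 5 n70325 = n33585 := d12_1 D70325 (iv6 D33585) (iv5 F27165) F54084 D32638
def n70326 : Q := act 4 n32640
theorem D70326 : act 4 n32640 = n70326 := rfl
theorem F106784 : act 2 n70326 = n32644 := d1_1 D70326 (iv4 D32644) (iv2 F51699)
theorem F106785 : act 5 n70326 = n48959 := d9_2 D32640 D70326 F77229 (iv5 F51621) (iv4 D32557) (iv5 D15416) (iv4 F20798) D26284 F41849 (iv5 D25665) (iv4 F37442) F55177 (iv4 F55756) (iv5 D35093) F27925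
theorem F106786 : act 7 n70326 = n49122 := d11_2 (iv7 F54213) D70326 F77567
theorem F106787 : act 0 n70326 = n52876 := d17_0 (iv5 F106027) (iv1 D69678) (iv5 F55674) (iv4 D35059) F27876 (iv0 F54024) (iv5 F51079) F54196 D70326
theorem F106788 : act 1 n70326 = n52827 := d18_6 F54130 F54125 (iv1 F27927) F27925 D32640 D70326 F83476 (iv0 D35095) (iv5 D17039)
theorem F106789 : act 3 n70326 = n35956 := d20_9 D35966 F56674 (iv4 D25588) F20169 (iv1 F12498) (iv3 F27724) (iv4 F54192) (iv1 F54198) D70326 (iv1 F56642)
def n70327 : Q := act 6 n32640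
theorem D70327 : act 6 n32640 = n70327 := rfl
theorem F106790 : act 2 n70327 = n32645 := d3_1 D70327 (iv6 D32645) (iv2 F51699)
theorem F106791 : act 3 n70327 = n68903 := d7_1 D70327 (iv6 D68903) (iv3 F51700)
def n70328 : Q := act 6 n32644
theorem D70328 : act 6 n32644 = n70328 := rfl
theorem F106792 : act 3 n70328 = n52894 := d7_1 D70328 (iv6 D52894) F51704
theorem F106793 : act 4 n70328 = n32645 := d10_1 D70328 (iv6 D32645) D32644
def n70329 : Q := act 0 n32645
theorem D70329 : act 0 n32645 = n70329 := rfl
def n70330 : Q := act 1 n32645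
theorem D70330 : act 1 n32645 = n70330 := rfl
def n70331 : Q := act 5 n32645
theorem D70331 : act 5 n32645 = n70331 := rfl
theorem F106794 : act 3 n70331 = n32653 := d6_1 D70331 (iv5 D32653) (iv3 F51708)
theorem F106795 : act 6 n70331 = n32648 := d12_2 D32645 D70331 (iv5 D32648) (iv6 D15456) D15455
def n70332 : Q := act 7 n32645
theorem D70332 : act 7 n32645 = n70332 := rfl
theorem F106796 : act 3 n70332 = n32654 := d8_1 D70332 (iv7 D32654) (iv3 F51708)
def n70333 : Q := act 3 n32647
theorem D70333 : act 3 n32647 = n70333 := rfl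
theorem F106797 : act 2 n70333 = n67933 := d0_1 D70333 F104026 F54468 (iv3 F54546) F54545
theorem F106798 : act 4 n70333 = n67933 := d5_2 (iv4 F54099) D70333 F104026 (iv4 F54547) F54546
theorem F106799 : act 5 n70333 = n33752 := d6_2 (iv5 F54100) D70333 (iv3 D33752)
theorem F106800 : act 6 n70333 = n34978 := d7_2 (iv6 F54101) D70333 (iv3 F55393)
theorem F106801 : act 7 n70333 = n61483 := d8_2 (iv7 F54102) D70333 F95988
theorem F106802 : act 0 n70333 = n35029 := d20_4 F41210 (iv1 F54098) (iv4 F54099) D70333 F55626 (iv4 F55634) F106659 (iv4 D70200) (iv3 F55713) F79145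
theorem F106803 : act 1 n70333 = n67962 := d15_1 (iv0 F106802) F104073 (iv2 F55625)
theorem F106804 : act 1 n32745 = n33752 := d17_6 (iv1 D31628) (iv5 F46269) F50605 (iv5 D15661) (iv4 F25154) D32745 (iv5 F106799) F106803 (iv4 D67962)
theorem F106805 : act 1 n33752 = n68613 := d15_1 F106804 F104816 F52173
def n70334 : Q := act 4 n32648
theorem D70334 : act 4 n32648 = n70334 := rfl
theorem F106806 : act 2 n70334 = n60160 := d1_1 D70334 F94709 F52528
theorem F106807 : act 7 n70334 = n60159 := d11_2 F54097 D70334 F94708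
theorem F106808 : act 0 n70334 = n60111 := d18_2 (iv1 F54207) D70334 (iv4 D60111) (iv5 D28562) (iv4 F50870) (iv0 D28469) F22736 D15197 D32212
theorem F106809 : act 1 n70334 = n60163 := d18_6 (iv1 F84994) (iv4 F79154) (iv1 D35098) F27936 D32648 D70334 F94711 F86106 F86103
def n70335 : Q := act 6 n32649
theorem D70335 : act 6 n32649 = n70335 := rfl
theorem F106810 : act 2 n70335 = n52909 := d3_1 D70335 (iv6 D52909) F51714
theorem F106811 : act 3 n70335 = n32650 := d7_1 D70335 (iv6 D32650) D32649
theorem F106812 : act 4 n70335 = n52894 := d10_1 D70335 (iv6 D52894) (iv4 F51712)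
def n70336 : Q := act 0 n32650
theorem D70336 : act 0 n32650 = n70336 := rfl
def n70337 : Q := act 1 n32650
theorem D70337 : act 1 n32650 = n70337 := rfl
def n70339 : Q := act 7 n32650
theorem D70339 : act 7 n32650 = n70339 := rfl
theorem F106813 : act 4 n70339 = n32654 := d11_1 D70339 (iv7 D32654) (iv4 F51715)
def n70340 : Q := act 3 n32651
theorem D70340 : act 3 n32651 = n70340 := rfl
def n70341 : Q := act 4 n32651
theorem D70341 : act 4 n32651 = n70341 := rfl
def n70342 : Q := act 6 n32651
theorem D70342 : act 6 n32651 = n70342 := rfl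
theorem F106814 : act 5 n70342 = n62710 := d21_6 F21314 (iv1 F10679) D7302 D15458 D32651 D70342 (iv1 D62710) F47649 (iv6 D17018) (iv1 F21316)
def n70343 : Q := act 3 n32652
theorem D70343 : act 3 n32652 = n70343 := rfl
theorem F106815 : act 5 n70343 = n39467 := d6_2 F51717 D70343 F60384
def n70344 : Q := act 4 n32652
theorem D70344 : act 4 n32652 = n70344 := rfl
def n70345 : Q := act 0 n32653
theorem D70345 : act 0 n32653 = n70345 := rfl
theorem F106817 : act 6 n70345 = n54312 := d21_5 (iv5 F22850) (iv1 F23112) D15459 (iv6 F51716) D70345 (iv5 D54312) (iv1 D26254) D26255 F41687 (iv1 F20722)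
theorem F106818 : act 2 n69662 = n70345 := d3_3 F106817 (iv2 F105953) D69662
def n70346 : Q := act 1 n32653
theorem D70346 : act 1 n32653 = n70346 := rfl
theorem F106819 : act 7 n70346 = n69662 := d15_2 (iv0 D70345) D70346 F106818
def n70347 : Q := act 4 n32653
theorem D70347 : act 4 n32653 = n70347 := rfl
theorem F106820 : act 6 n70347 = n32655 := d10_2 (iv6 F51716) D70347 (iv4 D32655)
def n70348 : Q := act 7 n32653
theorem D70348 : act 7 n32653 = n70348 := rfl
theorem F106821 : act 5 n70348 = n32654 := d13_1 D70348 (iv7 D32654) D32653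
theorem F106822 : act 6 n70348 = n58445 := d14_1 D70348 F92309 F52575 F25908 (iv6 F51716)
def n70349 : Q := act 3 n32655
theorem D70349 : act 3 n32655 = n70349 := rfl
def n70350 : Q := act 6 n32656
theorem D70350 : act 6 n32656 = n70350 := rfl
theorem F106824 : act 2 n70350 = n32658 := d3_1 D70350 (iv6 D32658) (iv2 F51720)
theorem F106825 : act 3 n70350 = n60056 := d7_1 D70350 (iv6 D60056) (iv3 F51721)
theorem F106826 : act 4 n70350 = n33092 := d10_1 D70350 (iv6 D33092) (iv4 F51724)
theorem F106827 : act 5 n70350 = n61766 := d12_1 D70350 (iv6 D61766) F46928 F45543 D32656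
def n70351 : Q := act 6 n32657
theorem D70351 : act 6 n32657 = n70351 := rfl
theorem F106828 : act 2 n70351 = n60032 := d3_1 D70351 (iv6 D60032) (iv2 F51733)
theorem F106829 : act 3 n70351 = n52881 := d7_1 D70351 (iv6 D52881) F51732
def n70352 : Q := act 0 n32658
theorem D70352 : act 0 n32658 = n70352 := rfl
def n70353 : Q := act 1 n32658
theorem D70353 : act 1 n32658 = n70353 := rfl
def n70354 : Q := act 7 n32658
theorem D70354 : act 7 n32658 = n70354 := rfl
theorem F106830 : act 3 n70354 = n32664 := d8_1 D70354 (iv7 D32664) (iv3 F51734)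
theorem F106831 : act 5 n70354 = n61772 := d13_1 D70354 (iv7 D61772) (iv5 F51735)
def n70355 : Q := act 6 n32659
theorem D70355 : act 6 n32659 = n70355 := rfl
theorem F106832 : act 4 n70355 = n34336 := d10_1 D70355 F54493 (iv4 F51739)
def n70356 : Q := act 0 n32660
theorem D70356 : act 0 n32660 = n70356 := rfl
theorem F106833 : act 5 n70356 = n34890 := d17_3 F76767 F55683 D70356 (iv4 D34890) (iv5 D16919) D16917 (iv5 F40644) F40648 D48747
theorem F106834 : act 4 n70356 = n36011 := d18_1 D70356 (iv1 D36011) (iv4 F33966) (iv5 F59962) F59961 (iv0 D25725) (iv4 F40621) (iv0 F55685) F55683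
theorem F106835 : act 3 n70356 = n45163 := d20_5 F16396 F26532 D15532 D32660 D70356 F71167 F54851 (iv4 F51822) (iv3 D32737) (iv1 F26849)
theorem F106836 : act 7 n69800 = n70356 := d8_0 F106835 (iv7 F71170) (iv3 F106217)
theorem F106837 : act 2 n70356 = n69819 := d16_9 (iv4 D69819) (iv5 D32424) (iv4 D15320) (iv5 D7250) D7249 D15317 D32416 D69800 F106836
def n70357 : Q := act 1 n32660
theorem D70357 : act 1 n32660 = n70357 := rfl
theorem F106839 : act 5 n70357 = n69791 := d17_7 (iv1 F55458) (iv5 D34998) F28352 D34959 (iv4 F55682) F55683 D70357 F106200 (iv4 D48944)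
theorem F106840 : act 4 n70357 = n32802 := d17_9 (iv1 F57752) F57750 (iv1 F37303) (iv5 F56835) (iv4 F83681) (iv5 D52951) (iv0 F55685) F55683 D70357
theorem F106841 : act 2 n69800 = n70357 := d1_3 F106840 F57747 (iv4 F106218)
theorem F106842 : act 5 n55423 = n57573 := d19_17 (iv1 F106200) (iv5 F106839) F106840 F51939 (iv1 F30265) (iv5 D18956) (iv4 F13896) (iv3 F30557) F30559 (iv5 D13009) (iv4 D6187) D6186 F9730 (iv5 F21852) (iv4 F21854) D26773 D55423 (iv4 F106671) F106670
def n70358 : Q := act 2 n32660
theorem D70358 : act 2 n32660 = n70358 := rfl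
theorem F106843 : act 4 n70358 = n48997 := d1_2 F61205 D70358 F77332
theorem F106844 : act 5 n70358 = n48753 := d2_2 F55683 D70358 (iv2 F76777)
theorem F106845 : act 1 n70358 = n69800 := d15_0 F106219 F51995 D70358
theorem F106846 : act 1 n69819 = n70358 := d15_0 F106845 F106836 F106837
def n70359 : Q := act 6 n32660
theorem D70359 : act 6 n32660 = n70359 := rfl
def n70360 : Q := act 0 n32661
theorem D70360 : act 0 n32661 = n70360 := rfl
def n70361 : Q := act 1 n32661
theorem D70361 : act 1 n32661 = n70361 := rfl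
def n70363 : Q := act 7 n32661
theorem D70363 : act 7 n32661 = n70363 := rfl
theorem F106848 : act 4 n70363 = n32664 := d11_1 D70363 (iv7 D32664) (iv4 F51740)
def n70365 : Q := act 3 n32662
theorem D70365 : act 3 n32662 = n70365 := rfl
def n70366 : Q := act 4 n32662
theorem D70366 : act 4 n32662 = n70366 := rfl
def n70367 : Q := act 5 n32662
theorem D70367 : act 5 n32662 = n70367 := rfl
theorem F106850 : act 0 n70367 = n32819 := d21_1 D70367 F51965 (iv6 D32700) (iv1 D15574) (iv6 D7342) (iv5 D3370) D3367 D7330 D15533 D32662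
def n70368 : Q := act 6 n32662
theorem D70368 : act 6 n32662 = n70368 := rfl
theorem F106851 : act 5 n70368 = n54496 := d21_6 (iv5 D3370) D3367 D7330 D15533 D32662 D70368 (iv1 D54496) F42042 (iv6 D15568) (iv1 D7340)
theorem F106852 : act 0 n32710 = n70368 := d21_4 (iv5 F26491) D7347 D15594 D32710 (iv6 D70368) D70367 F106850 F51965 (iv6 D32700) (iv1 D15574)
def n70369 : Q := act 7 n32662
theorem D70369 : act 7 n32662 = n70369 := rfl
def n70373 : Q := act 6 n32665
theorem D70373 : act 6 n32665 = n70373 := rfl
theorem F106854 : act 2 n70373 = n32667 := d3_1 D70373 (iv6 D32667) (iv2 F51742)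
theorem F106855 : act 3 n70373 = n60117 := d7_1 D70373 (iv6 D60117) (iv3 F51743)
theorem F106856 : act 4 n70373 = n33441 := d10_1 D70373 (iv6 D33441) (iv4 F51747)
theorem F106857 : act 5 n70373 = n59858 := d12_1 D70373 (iv6 D59858) F50764 F41186 D32665
def n70374 : Q := act 3 n32666
theorem D70374 : act 3 n32666 = n70374 := rfl
theorem F106858 : act 4 n70374 = n32668 := d5_2 D32666 D70374 (iv3 D32668) (iv4 D15547) (iv3 F25090)
theorem F106859 : act 7 n70374 = n33437 := d8_2 (iv7 F51750) D70374 (iv3 D33437)
def n70375 : Q := act 6 n32666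
theorem D70375 : act 6 n32666 = n70375 := rfl
theorem F106860 : act 2 n70375 = n33441 := d3_1 D70375 (iv6 D33441) (iv2 F51749)
theorem F106861 : act 4 n70375 = n32667 := d10_1 D70375 (iv6 D32667) D32666
def n70376 : Q := act 0 n32667
theorem D70376 : act 0 n32667 = n70376 := rfl
def n70377 : Q := act 1 n32667
theorem D70377 : act 1 n32667 = n70377 := rfl
def n70378 : Q := act 7 n32667
theorem D70378 : act 7 n32667 = n70378 := rfl
theorem F106862 : act 3 n70378 = n32672 := d8_1 D70378 (iv7 D32672) (iv3 F51753)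
theorem F106863 : act 5 n70378 = n68461 := d13_1 D70378 (iv7 D68461) (iv5 F51754)
def n70379 : Q := act 0 n32668
theorem D70379 : act 0 n32668 = n70379 := rfl
theorem F106864 : act 2 n40678 = n70379 := d15_3 (iv0 D70379) (iv0 F58217) (iv7 F61780)
theorem F106865 : act 4 n70379 = n55425 := d1_2 (iv4 F61779) F106864 (iv2 D55425)
def n70380 : Q := act 2 n32668
theorem D70380 : act 2 n32668 = n70380 := rfl
def n70381 : Q := act 6 n32668
theorem D70381 : act 6 n32668 = n70381 := rfl
theorem F106866 : act 3 n70381 = n32669 := d7_1 D70381 (iv6 D32669) D32668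
def n70382 : Q := act 0 n32669
theorem D70382 : act 0 n32669 = n70382 := rfl
def n70383 : Q := act 1 n32669
theorem D70383 : act 1 n32669 = n70383 := rfl
def n70384 : Q := act 5 n32669
theorem D70384 : act 5 n32669 = n70384 := rfl
def n70385 : Q := act 7 n32669
theorem D70385 : act 7 n32669 = n70385 := rfl
theorem F106867 : act 4 n70385 = n32672 := d11_1 D70385 (iv7 D32672) (iv4 F51755)
def n70386 : Q := act 3 n32670
theorem D70386 : act 3 n32670 = n70386 := rfl
def n70387 : Q := act 4 n32670
theorem D70387 : act 4 n32670 = n70387 := rfl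
def n70388 : Q := act 6 n32670
theorem D70388 : act 6 n32670 = n70388 := rfl
theorem F106868 : act 5 n70388 = n68339 := d21_6 (iv5 D12469) (iv1 F9199) D7335 D15548 D32670 D70388 (iv1 D68339) F50104 (iv6 D15563) (iv1 F20765)
def n70389 : Q := act 3 n32671
theorem D70389 : act 3 n32671 = n70389 := rfl
def n70390 : Q := act 4 n32671
theorem D70390 : act 4 n32671 = n70390 := rfl
def n70391 : Q := act 0 n32674
theorem D70391 : act 0 n32674 = n70391 := rfl
def n70392 : Q := act 1 n32674
theorem D70392 : act 1 n32674 = n70392 := rfl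
def n70393 : Q := act 7 n32674
theorem D70393 : act 7 n32674 = n70393 := rfl
theorem F106869 : act 3 n70393 = n32679 := d8_1 D70393 (iv7 D32679) (iv3 F51757)
def n70394 : Q := act 2 n32675
theorem D70394 : act 2 n32675 = n70394 := rfl
theorem F106870 : act 4 n70394 = n48970 := d1_2 F53009 D70394 F77261
theorem F106871 : act 5 n70394 = n48944 := d2_2 F55771 D70394 F77195
theorem F106872 : act 1 n70394 = n48754 := d15_0 (iv0 F76781) F56702 D70394
theorem F106873 : act 1 n49005 = n70394 := d15_0 F106872 (iv7 F83682) F83679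
def n70395 : Q := act 6 n32675
theorem D70395 : act 6 n32675 = n70395 := rfl
theorem F106874 : act 3 n70395 = n32676 := d7_1 D70395 (iv6 D32676) D32675
def n70396 : Q := act 0 n32676
theorem D70396 : act 0 n32676 = n70396 := rfl
def n70397 : Q := act 1 n32676
theorem D70397 : act 1 n32676 = n70397 := rfl
def n70398 : Q := act 5 n32676
theorem D70398 : act 5 n32676 = n70398 := rfl
def n70399 : Q := act 7 n32676
theorem D70399 : act 7 n32676 = n70399 := rfl
theorem F106875 : act 4 n70399 = n32679 := d11_1 D70399 (iv7 D32679) (iv4 F51758)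
def n70403 : Q := act 5 n32677
theorem D70403 : act 5 n32677 = n70403 := rfl
def n70407 : Q := act 5 n32678
theorem D70407 : act 5 n32678 = n70407 := rfl
theorem F106878 : act 6 n68330 = n70407 := d21_5 (iv5 D16683) (iv1 F26609) D14962 D31796 D68330 (iv5 D70407) (iv1 D32678) (iv5 F50104) (iv6 D31801) (iv1 F27324)
def n70409 : Q := act 0 n32680
theorem D70409 : act 0 n32680 = n70409 := rfl
def n70410 : Q := act 1 n32680
theorem D70410 : act 1 n32680 = n70410 := rfl
def n70411 : Q := act 7 n32680
theorem D70411 : act 7 n32680 = n70411 := rfl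
theorem F106879 : act 3 n70411 = n32685 := d8_1 D70411 (iv7 D32685) (iv3 F51759)
def n70412 : Q := act 6 n32681
theorem D70412 : act 6 n32681 = n70412 := rfl
theorem F106880 : act 3 n70412 = n32682 := d7_1 D70412 (iv6 D32682) D32681
def n70413 : Q := act 0 n32682
theorem D70413 : act 0 n32682 = n70413 := rfl
def n70414 : Q := act 1 n32682
theorem D70414 : act 1 n32682 = n70414 := rfl
def n70416 : Q := act 7 n32682
theorem D70416 : act 7 n32682 = n70416 := rfl
theorem F106881 : act 4 n70416 = n32685 := d11_1 D70416 (iv7 D32685) (iv4 F51760)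
def n70419 : Q := act 4 n32683
theorem D70419 : act 4 n32683 = n70419 := rfl
def n70420 : Q := act 5 n32683
theorem D70420 : act 5 n32683 = n70420 := rfl
theorem F106883 : act 6 n70420 = n68048 := d12_2 (iv6 F104002) D70420 F104170 (iv6 D67925) D67924
theorem F106884 : act 0 n32907 = n70420 := d21_10 (iv5 D70420) (iv1 F85728) F85724 (iv6 F86095) (iv1 F86097) (iv6 F57628) F57626 (iv1 F41738) (iv5 F41739) D32907
theorem F106885 : act 0 n67925 = n60387 := d21_7 F57626 (iv1 F41738) (iv5 F41739) D32907 F106884 F106883 F104170 F94899 (iv6 D36782) (iv1 F57624)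
theorem F106886 : act 0 n68398 = n67924 := d21_1 D68398 (iv5 D67924) D67925 F106885 (iv6 D60387) F46224 D36783 F57683 D48932 F94902
theorem F106887 : act 1 n67925 = n54023 := d15_1 (iv0 F106885) (iv7 F104191) F104189
def n70423 : Q := act 4 n32684
theorem D70423 : act 4 n32684 = n70423 := rfl
def n70424 : Q := act 5 n32684
theorem D70424 : act 5 n32684 = n70424 := rfl
theorem F106889 : act 6 n32944 = n70424 := d21_5 (iv5 D16596) (iv1 F12014) (iv5 F12083) D15864 D32944 (iv5 D70424) (iv1 D32684) (iv5 F42042) (iv6 D26354) (iv1 F27084)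
def n70425 : Q := act 6 n32684
theorem D70425 : act 6 n32684 = n70425 := rfl
def n70426 : Q := act 0 n32686
theorem D70426 : act 0 n32686 = n70426 := rfl
def n70427 : Q := act 1 n32686
theorem D70427 : act 1 n32686 = n70427 := rfl
def n70428 : Q := act 2 n32686
theorem D70428 : act 2 n32686 = n70428 := rfl
theorem F106890 : act 3 n70428 = n52908 := d0_2 D32686 D70428 F83609 F59397 (iv2 F41714)
theorem F106891 : act 5 n70428 = n52907 := d2_2 F85835 D70428 (iv2 F85834)
def n70429 : Q := act 6 n32686
theorem D70429 : act 6 n32686 = n70429 := rfl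
theorem F106892 : act 3 n70429 = n32687 := d7_1 D70429 (iv6 D32687) D32686
def n70430 : Q := act 0 n32687
theorem D70430 : act 0 n32687 = n70430 := rfl
def n70431 : Q := act 1 n32687
theorem D70431 : act 1 n32687 = n70431 := rfl
def n70432 : Q := act 5 n32687
theorem D70432 : act 5 n32687 = n70432 := rfl
def n70433 : Q := act 7 n32687
theorem D70433 : act 7 n32687 = n70433 := rfl
theorem F106893 : act 4 n70433 = n35979 := d11_1 D70433 (iv7 D35979) (iv4 F51761)
def n70434 : Q := act 0 n32688
theorem D70434 : act 0 n32688 = n70434 := rfl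
theorem F106894 : act 5 n70434 = n52930 := d17_1 D70434 (iv1 F83647) D52941 F83662 (iv5 D26578) (iv0 D12706) D12708 D26586 (iv4 F51762)
theorem F106895 : act 4 n70434 = n35457 := d18_1 D70434 (iv1 F86635) F86636 (iv5 F86713) F86712 (iv0 F56619) (iv4 F83578) (iv0 D52887) (iv5 F51763)
theorem F106896 : act 1 n52908 = n70434 := d15_0 (iv0 D70434) (iv7 F59398) (iv2 F83609)
def n70435 : Q := act 1 n32688
theorem D70435 : act 1 n32688 = n70435 := rfl
theorem F106897 : act 1 n70435 = n52908 := d15_1 D70435 F83611 F59396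
theorem F106898 : act 5 n70435 = n52931 := d17_7 (iv1 D12208) (iv5 D5784) D5781 D12197 D25673 (iv5 F51763) D70435 F83648 (iv4 D25701)
theorem F106899 : act 4 n70435 = n35458 := d18_7 D54765 F86626 F51511 F40606 (iv5 F42578) (iv4 F51762) D70435 (iv0 F86634) (iv5 D54766)
theorem F106900 : act 3 n38907 = n70435 := d20_5 (iv4 D21158) (iv1 D10084) (iv4 F13612) D18482 D38907 F106899 (iv1 D35458) (iv4 F33890) (iv3 D21543) (iv1 F33396)
def n70436 : Q := act 6 n32688
theorem D70436 : act 6 n32688 = n70436 := rfl
theorem F106901 : act 3 n70436 = n32689 := d7_1 D70436 (iv6 D32689) D32688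
theorem F106902 : act 4 n70436 = n54972 := d10_1 D70436 (iv6 D54972) (iv4 F51762)
def n70437 : Q := act 0 n32689
theorem D70437 : act 0 n32689 = n70437 := rfl
def n70438 : Q := act 1 n32689
theorem D70438 : act 1 n32689 = n70438 := rfl
def n70439 : Q := act 5 n32689
theorem D70439 : act 5 n32689 = n70439 := rfl
def n70440 : Q := act 7 n32689
theorem D70440 : act 7 n32689 = n70440 := rfl
theorem F106903 : act 4 n70440 = n35982 := d11_1 D70440 (iv7 D35982) (iv4 F51764)
def n70441 : Q := act 3 n32690
theorem D70441 : act 3 n32690 = n70441 := rfl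
def n70442 : Q := act 5 n32690
theorem D70442 : act 5 n32690 = n70442 := rfl
theorem F106904 : act 4 n70442 = n35737 := d16_2 (iv4 F53215) D70442 (iv5 D35737) F42349 (iv5 F13621) (iv4 F29941) F25871 (iv7 F42710) F42711
def n70443 : Q := act 6 n32690
theorem D70443 : act 6 n32690 = n70443 := rfl
theorem F106905 : act 4 n70443 = n33871 := d10_1 D70443 (iv6 D33871) (iv4 F53215)
def n70444 : Q := act 3 n32691
theorem D70444 : act 3 n32691 = n70444 := rfl
def n70445 : Q := act 5 n32691
theorem D70445 : act 5 n32691 = n70445 := rfl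
theorem F106906 : act 4 n70445 = n35735 := d9_1 D70445 (iv5 D35735) F43479 D18550 (iv4 F53213) (iv5 D33870) (iv4 F53215) D70442 F106904 (iv5 D35737) F42349 (iv5 F13621) (iv4 F29941) F25871 (iv4 F51765)
def n70446 : Q := act 6 n32691
theorem D70446 : act 6 n32691 = n70446 := rfl
theorem F106907 : act 4 n70446 = n33872 := d10_1 D70446 (iv6 D33872) (iv4 F51765)
def n70447 : Q := act 0 n32692
theorem D70447 : act 0 n32692 = n70447 := rfl
theorem F106908 : act 5 n70447 = n33857 := d17_3 (iv1 D32691) D32692 D70447 (iv4 D33857) (iv5 D16366) (iv0 D7600) D7602 D16374 (iv4 F51765)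
theorem F106909 : act 4 n70447 = n35745 := d18_1 D70447 (iv1 D35745) D35746 (iv5 F87233) F87232 F42713 (iv4 F53215) (iv0 D32690) D32692
theorem F106910 : act 1 n39078 = n70447 := d15_0 (iv0 D70447) F91897 F91894
def n70448 : Q := act 1 n32692
theorem D70448 : act 1 n32692 = n70448 := rfl
theorem F106911 : act 1 n70448 = n39078 := d15_1 D70448 F85929 F85927
theorem F106912 : act 4 n70448 = n35744 := d17_9 (iv1 F88401) F88399 (iv1 F43487) D35737 (iv4 F106904) (iv5 D70442) (iv0 D32690) D32692 D70448
theorem F106913 : act 5 n33865 = n70448 := d9_0 F106912 F56419 (iv4 D18527) (iv5 D8701) F42342 D16366 D33857 (iv5 F106908) F106909 F56420 (iv4 D18541) (iv5 D8706) F42346 D16371 D33865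
def n70449 : Q := act 0 n32694
theorem D70449 : act 0 n32694 = n70449 := rfl
def n70450 : Q := act 1 n32694
theorem D70450 : act 1 n32694 = n70450 := rfl
def n70451 : Q := act 2 n32694
theorem D70451 : act 2 n32694 = n70451 := rfl
def n70452 : Q := act 4 n32694
theorem D70452 : act 4 n32694 = n70452 := rfl
theorem F106914 : act 7 n70452 = n55110 := d11_2 F85903 D70452 (iv4 F87175)
theorem F106915 : act 0 n70452 = n55112 := d20_7 (iv4 F42346) (iv1 D3899) (iv4 F5371) (iv3 F11660) D15573 D32694 D70452 F87178 F42689 (iv1 F21144)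
theorem F106916 : act 0 n55101 = n70452 := d20_7 (iv4 F85931) (iv1 F85933) F51765 (iv3 F53172) (iv1 D33827) (iv3 F42673) (iv4 F87160) (iv4 D70452) (iv3 D32694) (iv1 F41969)
theorem F106917 : act 2 n70452 = n55109 := d15_3 (iv0 D55109) D55110 (iv7 F106914)
theorem F106918 : act 4 n55109 = n70451 := d1_2 D70452 F106917 (iv2 D70451)
def n70453 : Q := act 5 n32694
theorem D70453 : act 5 n32694 = n70453 := rfl
theorem F106919 : act 3 n70453 = n32696 := d6_1 D70453 (iv5 D32696) D32694
theorem F106920 : act 7 n70453 = n37012 := d13_2 F85903 D70453 (iv5 F85902)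
def n70454 : Q := act 6 n32694
theorem D70454 : act 6 n32694 = n70454 := rfl
theorem F106921 : act 3 n70454 = n32697 := d7_1 D70454 (iv6 D32697) D32694
def n70455 : Q := act 3 n32695
theorem D70455 : act 3 n32695 = n70455 := rfl
def n70456 : Q := act 5 n32695
theorem D70456 : act 5 n32695 = n70456 := rfl
theorem F106922 : act 4 n70456 = n39069 := d16_2 D32695 D70456 (iv5 D39069) F41952 (iv5 F21718) (iv4 F30462) (iv5 F26498) (iv7 F41966) F41967
def n70457 : Q := act 6 n32695
theorem D70457 : act 6 n32695 = n70457 := rfl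
theorem F106923 : act 4 n70457 = n32697 := d10_1 D70457 (iv6 D32697) D32695
def n70458 : Q := act 0 n32697
theorem D70458 : act 0 n32697 = n70458 := rfl
def n70459 : Q := act 1 n32697
theorem D70459 : act 1 n32697 = n70459 := rfl
def n70460 : Q := act 7 n32697
theorem D70460 : act 7 n32697 = n70460 := rfl
theorem F106925 : act 5 n70460 = n32868 := d13_1 D70460 F87461 (iv5 F87452)
def n70461 : Q := act 0 n32698
theorem D70461 : act 0 n32698 = n70461 := rfl
def n70462 : Q := act 1 n32698
theorem D70462 : act 1 n32698 = n70462 := rfl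
def n70463 : Q := act 2 n32698
theorem D70463 : act 2 n32698 = n70463 := rfl
def n70464 : Q := act 4 n32698
theorem D70464 : act 4 n32698 = n70464 := rfl
def n70465 : Q := act 6 n32698
theorem D70465 : act 6 n32698 = n70465 := rfl
theorem F106926 : act 3 n70465 = n32700 := d7_1 D70465 (iv6 D32700) D32698
def n70466 : Q := act 3 n32699
theorem D70466 : act 3 n32699 = n70466 := rfl
def n70467 : Q := act 5 n32699
theorem D70467 : act 5 n32699 = n70467 := rfl
theorem F106927 : act 4 n70467 = n39067 := d9_1 D70467 (iv5 D39067) F41956 F30499 (iv4 F51770) (iv5 D32696) D32695 D70456 F106922 (iv5 D39069) F41952 (iv5 F21718) (iv4 F30462) (iv5 F26498) D32699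
def n70468 : Q := act 6 n32699
theorem D70468 : act 6 n32699 = n70468 := rfl
theorem F106928 : act 4 n70468 = n32700 := d10_1 D70468 (iv6 D32700) D32699
def n70469 : Q := act 7 n32700
theorem D70469 : act 7 n32700 = n70469 := rfl
theorem F106929 : act 1 n61781 = n70469 := d15_1 (iv0 F96360) (iv7 D70469) (iv2 F85904)
def n70471 : Q := act 3 n32701
theorem D70471 : act 3 n32701 = n70471 := rfl
def n70472 : Q := act 4 n32701
theorem D70472 : act 4 n32701 = n70472 := rfl
def n70473 : Q := act 5 n32701
theorem D70473 : act 5 n32701 = n70473 := rfl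
def n70474 : Q := act 6 n32701
theorem D70474 : act 6 n32701 = n70474 := rfl
def n70476 : Q := act 3 n32702
theorem D70476 : act 3 n32702 = n70476 := rfl
def n70477 : Q := act 4 n32702
theorem D70477 : act 4 n32702 = n70477 := rfl
def n70478 : Q := act 5 n32702
theorem D70478 : act 5 n32702 = n70478 := rfl
def n70480 : Q := act 4 n32703
theorem D70480 : act 4 n32703 = n70480 := rfl
theorem F106932 : act 2 n70480 = n32704 := d1_1 D70480 (iv4 D32704) D32703
theorem F106933 : act 1 n70480 = n40137 := d15_0 (iv0 F85910) F56370 (iv2 F106932)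
def n70481 : Q := act 5 n32703
theorem D70481 : act 5 n32703 = n70481 := rfl
theorem F106934 : act 2 n70481 = n32705 := d2_1 D70481 (iv5 D32705) D32703
def n70482 : Q := act 6 n32703
theorem D70482 : act 6 n32703 = n70482 := rfl
theorem F106935 : act 2 n70482 = n32706 := d3_1 D70482 (iv6 D32706) D32703
def n70483 : Q := act 0 n32704
theorem D70483 : act 0 n32704 = n70483 := rfl
theorem F106936 : act 4 n70483 = n55125 := d20_8 (iv4 F51765) (iv1 D32691) F25105 F11660 D7347 D15592 D32704 D70483 F87185 (iv1 F42709)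
theorem E9637 : n70478 = n70450 := (c18_10 (iv1 D70450) D70452 F106915 F87178 (iv5 F87186) (iv4 F106936) (iv0 D70483) (iv4 D32704) D32702 D70478)
theorem F106937 : act 5 n70450 = n32702 := (sb E9637 (iv5 D70478))
theorem F106938 : act 7 n40137 = n70483 := d11_0 F106936 (iv7 D55125) (iv4 F61030)
def n70484 : Q := act 5 n32704
theorem D70484 : act 5 n32704 = n70484 := rfl
theorem F106939 : act 3 n70484 = n55824 := d6_1 D70484 (iv5 D55824) (iv3 F51773)
def n70485 : Q := act 6 n32704
theorem D70485 : act 6 n32704 = n70485 := rfl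
theorem F106940 : act 3 n70485 = n36771 := d7_1 D70485 F57663 (iv3 F51773)
theorem F106941 : act 4 n70485 = n32706 := d10_1 D70485 (iv6 D32706) D32704
def n70486 : Q := act 0 n32705
theorem D70486 : act 0 n32705 = n70486 := rfl
def n70487 : Q := act 1 n32705
theorem D70487 : act 1 n32705 = n70487 := rfl
def n70488 : Q := act 4 n32705
theorem D70488 : act 4 n32705 = n70488 := rfl
def n70489 : Q := act 6 n32705
theorem D70489 : act 6 n32705 = n70489 := rfl
theorem F106942 : act 3 n70489 = n32710 := d7_1 D70489 (iv6 D32710) (iv3 F51774)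
def n70490 : Q := act 0 n32706
theorem D70490 : act 0 n32706 = n70490 := rfl
def n70491 : Q := act 1 n32706
theorem D70491 : act 1 n32706 = n70491 := rfl
def n70492 : Q := act 3 n32707
theorem D70492 : act 3 n32707 = n70492 := rfl
theorem F106943 : act 5 n70492 = n34778 := d6_2 (iv5 F51776) D70492 F54988
def n70493 : Q := act 4 n32707
theorem D70493 : act 4 n32707 = n70493 := rfl
theorem F106944 : act 0 n70493 = n33865 := d17_0 F106913 (iv1 D70448) (iv5 D32692) F25105 (iv5 F26491) D7348 D15599 F51777 D70493
theorem F106945 : act 1 n70493 = n33857 := d18_6 F85658 F42178 F29760 (iv4 F27591) (iv5 F51776) D70493 (iv4 D33857) D33856 (iv5 F85659)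
def n70494 : Q := act 6 n32707
theorem D70494 : act 6 n32707 = n70494 := rfl
theorem F106946 : act 5 n70494 = n34780 := d12_1 D70494 (iv6 D34780) (iv5 D16844) D16845 (iv5 F51776)
def n70495 : Q := act 3 n32708
theorem D70495 : act 3 n32708 = n70495 := rfl
def n70496 : Q := act 4 n32708
theorem D70496 : act 4 n32708 = n70496 := rfl
theorem F106947 : act 0 n70496 = n33857 := d17_0 (iv5 F106908) (iv1 F106910) (iv5 F85932) F85931 F41938 F20849 D15594 D32708 D70496
theorem F106948 : act 1 n70496 = n33865 := d18_6 F52379 F52377 (iv1 F43253) (iv4 F57947) F57950 D70496 (iv4 D33865) F53202 F53201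
def n70497 : Q := act 0 n32709
theorem D70497 : act 0 n32709 = n70497 := rfl
theorem F106949 : act 4 n70497 = n55126 := d18_3 (iv1 D32708) D32709 D70497 F87190 F43091 F43463 (iv4 F28948) D37016 F57950
theorem F106950 : act 1 n32717 = n70497 := d15_0 (iv0 D70497) (iv7 F56386) F56385
def n70498 : Q := act 1 n32709
theorem D70498 : act 1 n32709 = n70498 := rfl
theorem F106951 : act 1 n70498 = n32717 := d15_1 D70498 (iv7 F56342) F56341
theorem F106952 : act 4 n70498 = n55127 := d18_7 (iv1 D12731) F9355 D6110 (iv4 F41941) D15594 D32709 D70498 F87194 (iv5 D26642)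
theorem F106953 : act 6 n69591 = n70498 := d10_0 F106952 (iv6 F87198) D69591
def n70499 : Q := act 3 n32709
theorem D70499 : act 3 n32709 = n70499 := rfl
def n70500 : Q := act 5 n32709
theorem D70500 : act 5 n32709 = n70500 := rfl
theorem F106954 : act 4 n70500 = n39077 := d16_2 D32709 D70500 F60078 (iv4 D26944) (iv5 D12892) F41950 D15599 (iv7 F41961) F41965
def n70501 : Q := act 6 n32709
theorem D70501 : act 6 n32709 = n70501 := rfl
theorem F106957 : act 4 n70501 = n32710 := d10_1 D70501 (iv6 D32710) D32709
def n70502 : Q := act 1 n32710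
theorem D70502 : act 1 n32710 = n70502 := rfl
theorem F106958 : act 1 n70502 = n54435 := d15_1 D70502 F85971 F56343
theorem F106959 : act 5 n54495 = n70502 := d21_0 (iv1 D70502) (iv5 F86031) (iv6 D54482) (iv1 D26346) F20927 (iv5 D5973) D5971 D12570 D26354 D54495
def n70503 : Q := act 7 n32710
theorem D70503 : act 7 n32710 = n70503 := rfl
theorem F106960 : act 2 n70503 = n54435 := d4_1 D70503 F85971 F56343
theorem F106961 : act 6 n70503 = n54427 := d14_1 D70503 F85959 F41979 (iv7 F41964) D32710
theorem F106962 : act 1 n54435 = n70368 := d15_0 (iv0 F106852) D70503 F106960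
def n70505 : Q := act 3 n32711
theorem D70505 : act 3 n32711 = n70505 := rfl
def n70506 : Q := act 4 n32711
theorem D70506 : act 4 n32711 = n70506 := rfl
def n70507 : Q := act 5 n32711
theorem D70507 : act 5 n32711 = n70507 := rfl
def n70510 : Q := act 3 n32712
theorem D70510 : act 3 n32712 = n70510 := rfl
def n70511 : Q := act 4 n32712
theorem D70511 : act 4 n32712 = n70511 := rfl
def n70512 : Q := act 5 n32712
theorem D70512 : act 5 n32712 = n70512 := rfl
def n70514 : Q := act 4 n32713
theorem D70514 : act 4 n32713 = n70514 := rfl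
theorem F106965 : act 2 n70514 = n32714 := d1_1 D70514 (iv4 D32714) D32713
def n70515 : Q := act 5 n32713
theorem D70515 : act 5 n32713 = n70515 := rfl
theorem F106966 : act 2 n70515 = n32715 := d2_1 D70515 (iv5 D32715) D32713
def n70516 : Q := act 6 n32713
theorem D70516 : act 6 n32713 = n70516 := rfl
theorem F106967 : act 2 n70516 = n32716 := d3_1 D70516 (iv6 D32716) D32713
def n70517 : Q := act 0 n32714
theorem D70517 : act 0 n32714 = n70517 := rfl
def n70518 : Q := act 1 n32714
theorem D70518 : act 1 n32714 = n70518 := rfl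
def n70519 : Q := act 5 n32714
theorem D70519 : act 5 n32714 = n70519 := rfl
theorem F106968 : act 3 n70519 = n55847 := d6_1 D70519 (iv5 D55847) (iv3 F51780)
def n70520 : Q := act 6 n32714
theorem D70520 : act 6 n32714 = n70520 := rfl
theorem F106969 : act 3 n70520 = n55848 := d7_1 D70520 (iv6 D55848) (iv3 F51780)
theorem F106970 : act 4 n70520 = n32716 := d10_1 D70520 (iv6 D32716) D32714
def n70521 : Q := act 0 n32715
theorem D70521 : act 0 n32715 = n70521 := rfl
def n70522 : Q := act 1 n32715
theorem D70522 : act 1 n32715 = n70522 := rfl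
def n70523 : Q := act 4 n32715
theorem D70523 : act 4 n32715 = n70523 := rfl
def n70524 : Q := act 6 n32715
theorem D70524 : act 6 n32715 = n70524 := rfl
theorem F106971 : act 3 n70524 = n32718 := d7_1 D70524 (iv6 D32718) (iv3 F51781)
theorem F106972 : act 7 n54432 = n70524 := d8_0 F106971 (iv7 F51785) D54432
def n70525 : Q := act 0 n32716
theorem D70525 : act 0 n32716 = n70525 := rfl
def n70526 : Q := act 1 n32716
theorem D70526 : act 1 n32716 = n70526 := rfl
def n70527 : Q := act 5 n32716
theorem D70527 : act 5 n32716 = n70527 := rfl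
theorem F106973 : act 3 n70527 = n32720 := d6_1 D70527 (iv5 D32720) (iv3 F51782)
def n70528 : Q := act 3 n32717
theorem D70528 : act 3 n32717 = n70528 := rfl
def n70529 : Q := act 5 n32717
theorem D70529 : act 5 n32717 = n70529 := rfl
theorem F106974 : act 4 n70529 = n39076 := d9_1 D70529 F60074 (iv4 D26937) (iv5 D12888) (iv4 F41941) D15594 D32709 D70500 F106954 F60078 (iv4 D26944) (iv5 D12892) F41950 D15599 D32717
theorem F106975 : act 0 n70529 = n55142 := d17_2 (iv1 F106950) D70529 (iv5 D55142) (iv4 D26646) (iv5 D12732) D12731 D26642 F87191 (iv4 F106949)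
theorem F106976 : act 1 n70529 = n55881 := d17_6 (iv1 F41969) F41938 (iv1 F20848) D15599 D32717 D70529 F88393 F53231 (iv4 D32695)
def n70530 : Q := act 6 n32717
theorem D70530 : act 6 n32717 = n70530 := rfl
theorem F106977 : act 2 n70530 = n54430 := d3_1 D70530 F85968 F56385
theorem F106978 : act 4 n70530 = n32718 := d10_1 D70530 (iv6 D32718) D32717
theorem F106979 : act 7 n54433 = n70530 := d11_0 F106978 (iv7 F51785) D54433
def n70531 : Q := act 5 n32718
theorem D70531 : act 5 n32718 = n70531 := rfl
theorem F106981 : act 6 n70531 = n32720 := d12_2 D32718 D70531 (iv5 D32720) (iv6 D15600) D15599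
theorem F106982 : act 7 n70531 = n54434 := d13_2 F51785 D70531 (iv5 D54434)
def n70532 : Q := act 4 n32720
theorem D70532 : act 4 n32720 = n70532 := rfl
theorem F106983 : act 0 n70532 = n55338 := d18_2 (iv1 F51786) D70532 (iv4 D55338) (iv5 D26741) F42953 F13146 (iv4 F25185) F25189 D32430
theorem F106984 : act 1 n70532 = n55330 := d18_6 (iv1 D26666) (iv4 F41670) (iv1 F30547) (iv4 F41951) D32720 D70532 (iv4 D55330) (iv0 F87311) (iv5 D55182)
def n70533 : Q := act 3 n32721
theorem D70533 : act 3 n32721 = n70533 := rfl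
theorem F106985 : act 4 n70533 = n32727 := d5_2 D32721 D70533 (iv3 D32727) (iv4 D15635) (iv3 F25129)
theorem F106986 : act 7 n70533 = n60070 := d8_2 (iv7 F51788) D70533 (iv3 D60070)
theorem F106987 : act 0 n70533 = n36469 := d20_4 (iv4 D16137) (iv1 F26837) D32721 D70533 (iv3 D36469) (iv4 D17606) F13308 D8321 (iv3 F24876) (iv1 F25735)
def n70534 : Q := act 6 n32721
theorem D70534 : act 6 n32721 = n70534 := rfl
theorem F106988 : act 2 n70534 = n60069 := d3_1 D70534 (iv6 D60069) (iv2 F51787)
theorem F106989 : act 4 n70534 = n32722 := d10_1 D70534 (iv6 D32722) D32721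
def n70535 : Q := act 0 n32722
theorem D70535 : act 0 n32722 = n70535 := rfl
def n70536 : Q := act 1 n32722
theorem D70536 : act 1 n32722 = n70536 := rfl
def n70537 : Q := act 7 n32722
theorem D70537 : act 7 n32722 = n70537 := rfl
theorem F106990 : act 3 n70537 = n32731 := d8_1 D70537 (iv7 D32731) (iv3 F51791)
theorem F106991 : act 5 n70537 = n61495 := d13_1 D70537 (iv7 D61495) (iv5 F51792)
def n70538 : Q := act 6 n32723
theorem D70538 : act 6 n32723 = n70538 := rfl
theorem F106992 : act 2 n70538 = n54780 := d3_1 D70538 (iv6 D54780) (iv2 F51793)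
theorem F106993 : act 3 n70538 = n32724 := d7_1 D70538 (iv6 D32724) D32723
theorem F106994 : act 4 n70538 = n69818 := d10_1 D70538 (iv6 D69818) F51797
theorem F106995 : act 5 n70538 = n55223 := d12_1 D70538 (iv6 D55223) (iv5 D26684) F42220 (iv5 F51794)
def n70539 : Q := act 0 n32724
theorem D70539 : act 0 n32724 = n70539 := rfl
def n70540 : Q := act 1 n32724
theorem D70540 : act 1 n32724 = n70540 := rfl
theorem F106996 : act 1 n70540 = n54852 := d15_1 D70540 (iv7 D54852) (iv2 F51799)
def n70541 : Q := act 7 n32724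
theorem D70541 : act 7 n32724 = n70541 := rfl
theorem F106997 : act 2 n70541 = n54852 := d4_1 D70541 (iv7 D54852) (iv2 F51799)
theorem F106998 : act 5 n70541 = n55228 := d13_1 D70541 (iv7 D55228) (iv5 F51800)
theorem F106999 : act 1 n54852 = n70539 := d15_0 (iv0 D70539) D70541 F106997
theorem F107000 : act 1 n54851 = n70541 := d15_1 D54851 (iv7 D70541) F51799
theorem F107001 : act 1 n70541 = n54850 := d15_0 (iv0 D54850) D54852 (iv2 F106997)
def n70542 : Q := act 3 n32725
theorem D70542 : act 3 n32725 = n70542 := rfl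
theorem F107002 : act 4 n70542 = n45874 := d5_2 D32725 D70542 F72437 (iv4 D26483) (iv3 F26889)
theorem F107003 : act 5 n70542 = n70303 := d6_2 (iv5 F51802) D70542 (iv3 D70303)
def n70543 : Q := act 6 n32725
theorem D70543 : act 6 n32725 = n70543 := rfl
theorem F107005 : act 2 n70543 = n70355 := d3_1 D70543 (iv6 D70355) (iv2 F51801)
theorem F107006 : act 4 n70543 = n32726 := d10_1 D70543 (iv6 D32726) D32725
theorem F107007 : act 0 n70543 = n70530 := d21_4 (iv5 F27938) (iv1 F51687) (iv5 F51802) D70543 (iv6 D70530) D70529 F106975 (iv5 D55142) F42705 (iv1 F26492)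
def n70544 : Q := act 1 n32726
theorem D70544 : act 1 n32726 = n70544 := rfl
theorem F107008 : act 7 n70544 = n33866 := d15_2 (iv0 F87214) D70544 (iv2 F87213)
theorem F107009 : act 3 n54560 = n70544 := d8_3 F107008 F53238 (iv7 F86917)
theorem F107010 : act 4 n70544 = n45224 := d20_6 (iv4 D8398) (iv1 F9661) (iv4 F20985) (iv3 F42144) (iv1 F86228) F107009 (iv1 D45224) F33980 F20895 F41802
def n70545 : Q := act 7 n32726
theorem D70545 : act 7 n32726 = n70545 := rfl
theorem F107011 : act 3 n70545 = n54610 := d8_1 D70545 F86303 (iv3 F51806)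
theorem F107012 : act 5 n70545 = n49815 := d13_1 D70545 (iv7 D49815) (iv5 F51807)
theorem F107013 : act 6 n70545 = n54852 := d14_1 D70545 (iv7 D54852) (iv6 D26535) F26464 D32726
theorem F107014 : act 0 n33866 = n70545 := d21_4 F42707 (iv1 F21144) D16371 D33866 F107013 F86794 (iv1 F87383) (iv5 F87385) (iv6 D33871) (iv1 F42713)
def n70546 : Q := act 0 n32727
theorem D70546 : act 0 n32727 = n70546 := rfl
def n70547 : Q := act 1 n32727
theorem D70547 : act 1 n32727 = n70547 := rfl
def n70548 : Q := act 2 n32727
theorem D70548 : act 2 n32727 = n70548 := rfl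
theorem F107015 : act 3 n70548 = n52941 := d0_2 D32727 D70548 F83661 (iv3 D32851) F26751
theorem F107016 : act 5 n70548 = n52940 := d2_2 F85817 D70548 (iv2 F85816)
def n70549 : Q := act 6 n32727
theorem D70549 : act 6 n32727 = n70549 := rfl
theorem F107017 : act 3 n70549 = n32728 := d7_1 D70549 (iv6 D32728) D32727
def n70550 : Q := act 0 n32728
theorem D70550 : act 0 n32728 = n70550 := rfl
def n70551 : Q := act 1 n32728
theorem D70551 : act 1 n32728 = n70551 := rfl
def n70552 : Q := act 5 n32728
theorem D70552 : act 5 n32728 = n70552 := rfl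
def n70553 : Q := act 7 n32728
theorem D70553 : act 7 n32728 = n70553 := rfl
theorem F107018 : act 4 n70553 = n32731 := d11_1 D70553 (iv7 D32731) (iv4 F51808)
def n70554 : Q := act 2 n32729
theorem D70554 : act 2 n32729 = n70554 := rfl
theorem F107019 : act 7 n32730 = n70554 := d15_2 (iv0 D32729) D32730 (iv2 D70554)
def n70555 : Q := act 3 n32729
theorem D70555 : act 3 n32729 = n70555 := rfl
def n70556 : Q := act 4 n32729
theorem D70556 : act 4 n32729 = n70556 := rfl
def n70557 : Q := act 5 n32729
theorem D70557 : act 5 n32729 = n70557 := rfl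
theorem F107020 : act 0 n70557 = n33153 := d21_1 D70557 (iv5 F53218) (iv6 D33872) (iv1 D16374) F11834 (iv5 D3679) (iv1 F10654) D7360 D15636 D32729
def n70558 : Q := act 6 n32729
theorem D70558 : act 6 n32729 = n70558 := rfl
theorem F107021 : act 5 n70558 = n54534 := d21_6 (iv5 D3679) (iv1 F10654) D7360 D15636 D32729 D70558 (iv1 D54534) F42085 (iv6 D17418) (iv1 D8172)
theorem F107022 : act 0 n33858 = n70558 := d21_4 (iv5 D7602) D7600 D16366 D33858 (iv6 D70558) D70557 F107020 (iv5 F53218) (iv6 D33872) (iv1 D16374)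
def n70559 : Q := act 7 n32729
theorem D70559 : act 7 n32729 = n70559 := rfl
theorem F107023 : act 2 n70559 = n32730 := d4_1 D70559 F107019 (iv2 D70554)
def n70560 : Q := act 3 n32730
theorem D70560 : act 3 n32730 = n70560 := rfl
def n70561 : Q := act 4 n32730
theorem D70561 : act 4 n32730 = n70561 := rfl
def n70562 : Q := act 6 n32730
theorem D70562 : act 6 n32730 = n70562 := rfl
def n70563 : Q := act 6 n32733
theorem D70563 : act 6 n32733 = n70563 := rfl
theorem F107024 : act 3 n70563 = n48739 := d7_1 D70563 (iv6 D48739) F51816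
theorem F107025 : act 4 n70563 = n44930 := d10_1 D70563 (iv6 D44930) F51817
theorem F107026 : act 5 n70563 = n49287 := d12_1 D70563 (iv6 D49287) (iv5 D24055) F37049 (iv5 F51814)
def n70564 : Q := act 3 n32734
theorem D70564 : act 3 n32734 = n70564 := rfl
theorem F107027 : act 2 n70564 = n48742 := d0_1 D70564 F76758 F51469 F56735 (iv2 F56734)
theorem F107028 : act 5 n70564 = n48741 := d6_2 (iv5 F51819) D70564 F76752
theorem F107029 : act 0 n70564 = n52823 := d19_4 (iv1 F33684) D44521 F70041 D70564 F83469 F55114 D49115 F83118 (iv5 F105276) (iv4 D69061) (iv3 F85446) F85448 F43296 (iv4 F40424) F40423 (iv1 F20119) D16955 (iv4 F33418) (iv3 F33683)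
theorem F107030 : act 4 n57615 = n70564 := d20_2 D52736 (iv1 F90764) (iv3 D70564) (iv1 D32734) (iv3 F43264) (iv4 F52460) (iv1 F83300) (iv4 D52711) (iv3 F76707) (iv1 F76710)
theorem F107031 : act 5 n70203 = n70379 := d19_17 (iv1 F90131) F90765 F107030 (iv3 D70564) (iv1 D32734) (iv5 D15639) (iv4 D7361) (iv3 D3379) (iv1 D1491) (iv5 F2129) (iv4 F3965) (iv3 F9202) (iv1 F26333) D7281 D15426 D32584 D70203 F106865 (iv3 F90126)
def n70565 : Q := act 6 n32734
theorem D70565 : act 6 n32734 = n70565 := rfl
theorem F107032 : act 5 n70565 = n53087 := d12_1 D70565 (iv6 D53087) (iv5 D25749) D25750 (iv5 F51819)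
def n70566 : Q := act 6 n32735
theorem D70566 : act 6 n32735 = n70566 := rfl
theorem F107033 : act 4 n70566 = n32736 := d10_1 D70566 (iv6 D32736) D32735
def n70567 : Q := act 0 n32736
theorem D70567 : act 0 n32736 = n70567 := rfl
def n70568 : Q := act 1 n32736
theorem D70568 : act 1 n32736 = n70568 := rfl
def n70569 : Q := act 7 n32736
theorem D70569 : act 7 n32736 = n70569 := rfl
def n70570 : Q := act 0 n32737
theorem D70570 : act 0 n32737 = n70570 := rfl
theorem F107034 : act 5 n70570 = n54795 := d17_1 D70570 F86704 F83539 (iv4 D38571) (iv5 F42850) (iv0 D26728) D26730 F42862 (iv4 F51822)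
theorem F107035 : act 4 n70570 = n39282 := d18_1 D70570 (iv1 F60258) D39294 (iv5 F83629) F83630 F83255 (iv4 F83646) (iv0 D52930) (iv5 F51823)
theorem F107036 : act 1 n52941 = n70570 := d15_0 (iv0 D70570) (iv7 F52025) (iv2 F83661)
def n70571 : Q := act 1 n32737
theorem D70571 : act 1 n32737 = n70571 := rfl
theorem F107037 : act 1 n70571 = n52941 := d15_1 D70571 F83663 F59380
theorem F107038 : act 5 n70571 = n54793 := d17_7 F40567 (iv5 D12764) D12761 (iv5 F40556) D25697 (iv5 F51823) D70571 F86701 (iv4 D52872)
theorem F107039 : act 4 n70571 = n39283 := d17_9 (iv1 D39283) (iv5 D18637) D18635 (iv5 F56160) (iv4 F106895) F106894 (iv0 D52930) (iv5 F51823) D70571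
theorem F107040 : act 3 n45207 = n70571 := d20_5 F29083 F16131 (iv4 F16388) D21574 D45207 F107039 (iv1 D39283) (iv4 F29914) (iv3 D17911) D17909
def n70572 : Q := act 6 n32737
theorem D70572 : act 6 n32737 = n70572 := rfl
theorem F107041 : act 3 n70572 = n32738 := d7_1 D70572 (iv6 D32738) D32737
theorem F107042 : act 4 n70572 = n54965 := d10_1 D70572 (iv6 D54965) (iv4 F51822)
def n70573 : Q := act 0 n32738
theorem D70573 : act 0 n32738 = n70573 := rfl
def n70574 : Q := act 1 n32738
theorem D70574 : act 1 n32738 = n70574 := rfl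
def n70575 : Q := act 5 n32738
theorem D70575 : act 5 n32738 = n70575 := rfl
def n70576 : Q := act 7 n32738
theorem D70576 : act 7 n32738 = n70576 := rfl
theorem F107043 : act 4 n70576 = n32740 := d11_1 D70576 (iv7 D32740) (iv4 F51824)
def n70577 : Q := act 3 n32739
theorem D70577 : act 3 n32739 = n70577 := rfl
def n70578 : Q := act 4 n32739
theorem D70578 : act 4 n32739 = n70578 := rfl
def n70579 : Q := act 6 n32739
theorem D70579 : act 6 n32739 = n70579 := rfl
theorem F107044 : act 5 n70579 = n68553 := d12_1 D70579 (iv6 F105903) F105902 (iv6 F85667) (iv5 F85951)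
def n70580 : Q := act 5 n32741
theorem D70580 : act 5 n32741 = n70580 := rfl
theorem F107045 : act 2 n70580 = n32743 := d2_1 D70580 (iv5 D32743) (iv2 F51826)
def n70581 : Q := act 5 n32742
theorem D70581 : act 5 n32742 = n70581 := rfl
theorem F107046 : act 3 n70581 = n70202 := d6_1 D70581 F106666 F83383
def n70582 : Q := act 0 n32743
theorem D70582 : act 0 n32743 = n70582 := rfl
def n70583 : Q := act 1 n32743
theorem D70583 : act 1 n32743 = n70583 := rfl
def n70584 : Q := act 4 n32743
theorem D70584 : act 4 n32743 = n70584 := rfl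
theorem F107047 : act 0 n70584 = n55229 := d20_7 D15239 (iv1 F42787) F42789 D28701 F50605 (iv3 F51828) D70584 (iv4 D55229) (iv3 D26687) (iv1 F21160)
theorem F107048 : act 3 n32928 = n70583 := d20_9 D70584 F107047 (iv4 D55229) (iv3 D26687) (iv1 F21160) (iv3 F24817) D32215 D69303 F105570 (iv1 D70583)
def n70585 : Q := act 0 n32744
theorem D70585 : act 0 n32744 = n70585 := rfl
def n70587 : Q := act 5 n32744
theorem D70587 : act 5 n32744 = n70587 := rfl
theorem F107050 : act 6 n70587 = n32745 := d12_2 D32744 D70587 (iv5 D32745) (iv6 D15657) D15656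
def n70588 : Q := act 7 n32744
theorem D70588 : act 7 n32744 = n70588 := rfl
theorem F107051 : act 4 n70588 = n69967 := d11_1 D70588 (iv7 D69967) (iv4 F51829)
def n70589 : Q := act 0 n32745
theorem D70589 : act 0 n32745 = n70589 := rfl
theorem F107052 : act 5 n70589 = n34314 := d17_3 F50775 D32745 D70589 (iv4 F95989) (iv5 F105560) (iv0 F105563) (iv5 D32998) F50997 (iv4 F25721)
theorem F107053 : act 2 n69300 = n70589 := d15_3 (iv0 D70589) F106804 (iv7 F105561)
theorem F107054 : act 1 n68613 = n70589 := d15_0 (iv0 D70589) (iv7 F52835) (iv2 F104814)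
theorem F107055 : act 3 n70589 = n34317 := d0_2 D69300 F107053 F54464 F52990 (iv2 F51160)
def n70590 : Q := act 4 n32745
theorem D70590 : act 4 n32745 = n70590 := rfl
theorem F107056 : act 2 n70590 = n68023 := d1_1 D70590 F104148 F52173
theorem F107057 : act 7 n70590 = n68024 := d11_2 F52835 D70590 (iv4 F104149)
theorem F107058 : act 0 n70590 = n68027 := d18_2 (iv1 F106804) D70590 F104151 F49951 F24530 F49940 (iv4 F55627) (iv0 F106802) F106799
theorem F107059 : act 1 n70590 = n60434 := d18_6 (iv1 F41381) F20913 F27208 (iv4 F25154) D32745 D70590 (iv4 D60434) (iv0 F85193) (iv5 D54008)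
def n70591 : Q := act 0 n32746
theorem D70591 : act 0 n32746 = n70591 := rfl
theorem F107060 : act 4 n70591 = n69300 := d18_3 F50605 D32746 D70591 F105560 F95989 (iv0 F55628) F55627 (iv0 D31627) (iv5 F46269)
def n70592 : Q := act 1 n32746
theorem D70592 : act 1 n32746 = n70592 := rfl
def n70593 : Q := act 3 n32746
theorem D70593 : act 3 n32746 = n70593 := rfl
def n70594 : Q := act 5 n32746
theorem D70594 : act 5 n32746 = n70594 := rfl
def n70595 : Q := act 6 n32747
theorem D70595 : act 6 n32747 = n70595 := rfl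
theorem F107061 : act 2 n70595 = n54786 := d3_1 D70595 (iv6 D54786) (iv2 F51831)
theorem F107062 : act 3 n70595 = n54632 := d7_1 D70595 (iv6 D54632) (iv3 F51832)
def n70596 : Q := act 0 n32748
theorem D70596 : act 0 n32748 = n70596 := rfl
def n70597 : Q := act 1 n32748
theorem D70597 : act 1 n32748 = n70597 := rfl
def n70598 : Q := act 7 n32748
theorem D70598 : act 7 n32748 = n70598 := rfl
theorem F107064 : act 4 n70598 = n69971 := d11_1 D70598 (iv7 D69971) (iv4 F51837)
def n70599 : Q := act 6 n32749
theorem D70599 : act 6 n32749 = n70599 := rfl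
def n70600 : Q := act 0 n32750
theorem D70600 : act 0 n32750 = n70600 := rfl
def n70601 : Q := act 1 n32750
theorem D70601 : act 1 n32750 = n70601 := rfl
theorem F107067 : act 1 n70601 = n32776 := d15_1 D70601 (iv7 D32776) (iv2 F51839)
def n70602 : Q := act 5 n32750
theorem D70602 : act 5 n32750 = n70602 := rfl
theorem F107068 : act 2 n70602 = n32775 := d2_1 D70602 (iv5 D32775) (iv2 F51839)
def n70603 : Q := act 7 n32750
theorem D70603 : act 7 n32750 = n70603 := rfl
theorem F107069 : act 2 n70603 = n32776 := d4_1 D70603 (iv7 D32776) (iv2 F51839)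
theorem F107070 : act 4 n70603 = n32753 := d11_1 D70603 (iv7 D32753) (iv4 F51840)
theorem F107071 : act 1 n32776 = n70600 := d15_0 (iv0 D70600) D70603 F107069
theorem F107072 : act 1 n32774 = n70603 := d15_1 D32774 (iv7 D70603) F51839
theorem F107073 : act 4 n33105 = n70600 := d20_6 (iv4 D8403) (iv1 D3764) (iv4 F5408) (iv3 F11728) D15965 D33105 (iv1 F107071) F51896 F25172 (iv1 F41804)
theorem F107074 : act 1 n70603 = n32773 := d15_0 (iv0 D32773) D32776 (iv2 F107069)
def n70604 : Q := act 2 n32751
theorem D70604 : act 2 n32751 = n70604 := rfl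
theorem F107075 : act 7 n32752 = n70604 := d15_2 (iv0 D32751) D32752 (iv2 D70604)
def n70605 : Q := act 3 n32751
theorem D70605 : act 3 n32751 = n70605 := rfl
theorem F107076 : act 4 n54822 = n70605 := d20_2 (iv4 F42462) D54822 (iv3 D70605) (iv1 F51843) F25172 F11682 (iv1 F9689) (iv4 F42172) D26410 F85920
def n70606 : Q := act 4 n32751
theorem D70606 : act 4 n32751 = n70606 := rfl
def n70607 : Q := act 5 n32751
theorem D70607 : act 5 n32751 = n70607 := rfl
def n70608 : Q := act 6 n32751
theorem D70608 : act 6 n32751 = n70608 := rfl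
theorem F107077 : act 5 n70608 = n54388 := d21_6 F27194 (iv1 F9267) D7374 D15675 D32751 D70608 (iv1 D54388) F41916 (iv6 D12508) D12505
def n70609 : Q := act 7 n32751
theorem D70609 : act 7 n32751 = n70609 := rfl
theorem F107078 : act 2 n70609 = n32752 := d4_1 D70609 F107075 (iv2 D70604)
def n70610 : Q := act 3 n32752
theorem D70610 : act 3 n32752 = n70610 := rfl
theorem F107079 : act 4 n70610 = n54571 := d20_6 (iv4 F42177) (iv1 F9694) (iv4 F11682) (iv3 F25172) (iv1 F51841) D70610 (iv1 D54571) F42141 F20977 D12601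
def n70611 : Q := act 4 n32752
theorem D70611 : act 4 n32752 = n70611 := rfl
def n70612 : Q := act 5 n32752
theorem D70612 : act 5 n32752 = n70612 := rfl
def n70613 : Q := act 6 n32752
theorem D70613 : act 6 n32752 = n70613 := rfl
def n70614 : Q := act 6 n32754
theorem D70614 : act 6 n32754 = n70614 := rfl
theorem F107080 : act 2 n70614 = n32755 := d3_1 D70614 (iv6 D32755) D32754
theorem F107081 : act 3 n70614 = n69872 := d7_1 D70614 (iv6 D69872) (iv3 F51846)
theorem F107082 : act 4 n70614 = n54567 := d10_1 D70614 (iv6 D54567) (iv4 F51847)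
def n70615 : Q := act 0 n32755
theorem D70615 : act 0 n32755 = n70615 := rfl
def n70616 : Q := act 1 n32755
theorem D70616 : act 1 n32755 = n70616 := rfl
def n70617 : Q := act 7 n32755
theorem D70617 : act 7 n32755 = n70617 := rfl
theorem F107083 : act 3 n70617 = n32760 := d8_1 D70617 (iv7 D32760) (iv3 F51852)
theorem F107084 : act 6 n70617 = n69856 := d14_1 D70617 (iv7 D69856) (iv6 D32439) F27259 D32755
def n70618 : Q := act 6 n32756
theorem D70618 : act 6 n32756 = n70618 := rfl
theorem F107085 : act 2 n70618 = n47082 := d3_1 D70618 (iv6 D47082) F51856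
theorem F107086 : act 4 n70618 = n33408 := d10_1 D70618 (iv6 D33408) (iv4 F51855)
def n70619 : Q := act 0 n32757
theorem D70619 : act 0 n32757 = n70619 := rfl
def n70620 : Q := act 1 n32757
theorem D70620 : act 1 n32757 = n70620 := rfl
theorem F107087 : act 1 n70620 = n69887 := d15_1 D70620 (iv7 D69887) (iv2 F51857)
def n70621 : Q := act 5 n32757
theorem D70621 : act 5 n32757 = n70621 := rfl
theorem F107088 : act 2 n70621 = n69886 := d2_1 D70621 (iv5 D69886) (iv2 F51857)
theorem F107089 : act 3 n70621 = n46494 := d6_1 D70621 (iv5 D46494) (iv3 F51858)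
theorem F107090 : act 6 n70621 = n46490 := d12_2 D32757 D70621 (iv5 D46490) (iv6 D22283) F27217
def n70622 : Q := act 7 n32757
theorem D70622 : act 7 n32757 = n70622 := rfl
theorem F107091 : act 2 n70622 = n69887 := d4_1 D70622 (iv7 D69887) (iv2 F51857)
theorem F107092 : act 3 n70622 = n46495 := d8_1 D70622 (iv7 D46495) (iv3 F51858)
theorem F107093 : act 4 n70622 = n32760 := d11_1 D70622 (iv7 D32760) (iv4 F51859)
theorem F107094 : act 6 n70622 = n47087 := d14_1 D70622 (iv7 D47087) (iv6 D22646) F27218 D32757
theorem F107095 : act 1 n69887 = n70619 := d15_0 (iv0 D70619) D70622 F107091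
theorem F107096 : act 1 n69885 = n70622 := d15_1 D69885 (iv7 D70622) F51857
theorem F107097 : act 1 n70622 = n69884 := d15_0 (iv0 D69884) D69887 (iv2 F107091)
def n70623 : Q := act 2 n32758
theorem D70623 : act 2 n32758 = n70623 := rfl
def n70624 : Q := act 3 n32758
theorem D70624 : act 3 n32758 = n70624 := rfl
def n70625 : Q := act 4 n32758
theorem D70625 : act 4 n32758 = n70625 := rfl
def n70626 : Q := act 5 n32758
theorem D70626 : act 5 n32758 = n70626 := rfl
def n70627 : Q := act 6 n32758
theorem D70627 : act 6 n32758 = n70627 := rfl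
def n70628 : Q := act 7 n32758
theorem D70628 : act 7 n32758 = n70628 := rfl
def n70629 : Q := act 3 n32759
theorem D70629 : act 3 n32759 = n70629 := rfl
def n70630 : Q := act 4 n32759
theorem D70630 : act 4 n32759 = n70630 := rfl
def n70631 : Q := act 5 n32759
theorem D70631 : act 5 n32759 = n70631 := rfl
theorem F107100 : act 6 n61667 = n70631 := d21_5 (iv5 D6609) D6606 D13898 D29229 D61667 (iv5 D70631) (iv1 D32759) (iv5 F46919) (iv6 D29258) (iv1 D13909)
def n70632 : Q := act 6 n32759
theorem D70632 : act 6 n32759 = n70632 := rfl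
def n70633 : Q := act 3 n32761
theorem D70633 : act 3 n32761 = n70633 := rfl
theorem F107101 : act 2 n70633 = n46506 := d0_1 D70633 F73485 F58965 (iv3 F51523) (iv2 F51866)
theorem F107102 : act 4 n70633 = n32763 := d5_2 D32761 D70633 (iv3 D32763) (iv4 D15683) D15682
theorem F107103 : act 7 n70633 = n46989 := d8_2 (iv7 F51867) D70633 F74204
theorem F107104 : act 1 n47004 = n70633 := d15_1 D47004 F107103 F74203
theorem F107105 : act 0 n47003 = n70633 := d20_7 F51855 F25670 (iv4 F35180) F35178 (iv1 F30802) (iv3 F61713) (iv4 F74247) F107102 (iv3 D32763) (iv1 F51853)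
def n70634 : Q := act 6 n32761
theorem D70634 : act 6 n32761 = n70634 := rfl
theorem F107106 : act 2 n70634 = n54817 := d3_1 D70634 (iv6 D54817) (iv2 F51866)
theorem F107107 : act 4 n70634 = n32762 := d10_1 D70634 (iv6 D32762) D32761
def n70635 : Q := act 0 n32762
theorem D70635 : act 0 n32762 = n70635 := rfl
def n70636 : Q := act 1 n32762
theorem D70636 : act 1 n32762 = n70636 := rfl
def n70637 : Q := act 7 n32762
theorem D70637 : act 7 n32762 = n70637 := rfl
theorem F107108 : act 3 n70637 = n32767 := d8_1 D70637 (iv7 D32767) (iv3 F51870)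
theorem F107109 : act 6 n70637 = n69878 := d14_1 D70637 (iv7 D69878) (iv6 D32450) (iv7 F27265) D32762
def n70638 : Q := act 6 n32763
theorem D70638 : act 6 n32763 = n70638 := rfl
theorem F107110 : act 2 n70638 = n46507 := d3_1 D70638 (iv6 D46507) (iv2 F51871)
theorem F107111 : act 3 n70638 = n32764 := d7_1 D70638 (iv6 D32764) D32763
def n70639 : Q := act 0 n32764
theorem D70639 : act 0 n32764 = n70639 := rfl
def n70640 : Q := act 1 n32764
theorem D70640 : act 1 n32764 = n70640 := rfl
theorem F107112 : act 1 n70640 = n47087 := d15_1 D70640 (iv7 D47087) (iv2 F51876)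
def n70641 : Q := act 5 n32764
theorem D70641 : act 5 n32764 = n70641 := rfl
theorem F107113 : act 2 n70641 = n47086 := d2_1 D70641 (iv5 D47086) (iv2 F51876)
theorem F107114 : act 6 n70641 = n47075 := d12_2 D32764 D70641 (iv5 D47075) (iv6 D22640) F27270
def n70642 : Q := act 7 n32764
theorem D70642 : act 7 n32764 = n70642 := rfl
theorem F107115 : act 2 n70642 = n47087 := d4_1 D70642 (iv7 D47087) (iv2 F51876)
theorem F107116 : act 4 n70642 = n32767 := d11_1 D70642 (iv7 D32767) (iv4 F51877)
theorem F107117 : act 6 n70642 = n69887 := d14_1 D70642 (iv7 D69887) (iv6 D32457) (iv7 F27266) D32764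
theorem F107118 : act 1 n47087 = n70639 := d15_0 (iv0 D70639) D70642 F107115
theorem F107119 : act 1 n47085 = n70642 := d15_1 D47085 (iv7 D70642) F51876
theorem F107120 : act 1 n70642 = n47084 := d15_0 (iv0 D47084) D47087 (iv2 F107115)
def n70644 : Q := act 3 n32765
theorem D70644 : act 3 n32765 = n70644 := rfl
def n70649 : Q := act 3 n32766
theorem D70649 : act 3 n32766 = n70649 := rfl
def n70650 : Q := act 4 n32766
theorem D70650 : act 4 n32766 = n70650 := rfl
def n70651 : Q := act 5 n32766
theorem D70651 : act 5 n32766 = n70651 := rfl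
theorem F107123 : act 6 n67978 = n70651 := d21_5 (iv5 D26126) (iv1 F20628) F50449 D31638 D67978 (iv5 D70651) (iv1 D32766) (iv5 F50140) (iv6 D31842) (iv1 F41389)
def n70652 : Q := act 6 n32766
theorem D70652 : act 6 n32766 = n70652 := rfl
def n70653 : Q := act 6 n32768
theorem D70653 : act 6 n32768 = n70653 := rfl
theorem F107124 : act 2 n70653 = n41002 := d3_1 D70653 (iv6 D41002) (iv2 F51884)
theorem F107125 : act 3 n70653 = n32769 := d7_1 D70653 (iv6 D32769) D32768
def n70654 : Q := act 0 n32769
theorem D70654 : act 0 n32769 = n70654 := rfl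
def n70655 : Q := act 1 n32769
theorem D70655 : act 1 n32769 = n70655 := rfl
def n70656 : Q := act 5 n32769
theorem D70656 : act 5 n32769 = n70656 := rfl
def n70657 : Q := act 7 n32769
theorem D70657 : act 7 n32769 = n70657 := rfl
def n70658 : Q := act 0 n32770
theorem D70658 : act 0 n32770 = n70658 := rfl
def n70659 : Q := act 1 n32770
theorem D70659 : act 1 n32770 = n70659 := rfl
def n70660 : Q := act 5 n32770
theorem D70660 : act 5 n32770 = n70660 := rfl
theorem F107126 : act 3 n70660 = n40904 := d6_1 D70660 (iv5 D40904) (iv3 F51887)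
theorem F107127 : act 6 n70660 = n40897 := d12_2 D32770 D70660 (iv5 D40897) (iv6 D19276) F27837
def n70661 : Q := act 7 n32770
theorem D70661 : act 7 n32770 = n70661 := rfl
theorem F107128 : act 3 n70661 = n40905 := d8_1 D70661 (iv7 D40905) (iv3 F51887)
def n70662 : Q := act 6 n32771
theorem D70662 : act 6 n32771 = n70662 := rfl
theorem F107129 : act 2 n70662 = n40604 := d3_1 D70662 (iv6 D40604) (iv2 F51888)
theorem F107130 : act 4 n70662 = n32772 := d10_1 D70662 (iv6 D32772) D32771
def n70663 : Q := act 0 n32772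
theorem D70663 : act 0 n32772 = n70663 := rfl
def n70664 : Q := act 1 n32772
theorem D70664 : act 1 n32772 = n70664 := rfl
def n70665 : Q := act 5 n32772
theorem D70665 : act 5 n32772 = n70665 := rfl
theorem F107132 : act 6 n70665 = n32775 := d12_2 D32772 D70665 (iv5 D32775) (iv6 D15689) D15688
def n70666 : Q := act 7 n32772
theorem D70666 : act 7 n32772 = n70666 := rfl
theorem F107133 : act 3 n70666 = n37596 := d8_1 D70666 (iv7 D37596) (iv3 F51893)
def n70667 : Q := act 2 n32773
theorem D70667 : act 2 n32773 = n70667 := rfl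
theorem F107134 : act 7 n32774 = n70667 := d15_2 (iv0 D32773) D32774 (iv2 D70667)
def n70668 : Q := act 3 n32773
theorem D70668 : act 3 n32773 = n70668 := rfl
def n70669 : Q := act 4 n32773
theorem D70669 : act 4 n32773 = n70669 := rfl
def n70670 : Q := act 5 n32773
theorem D70670 : act 5 n32773 = n70670 := rfl
def n70671 : Q := act 6 n32773
theorem D70671 : act 6 n32773 = n70671 := rfl
def n70672 : Q := act 7 n32773
theorem D70672 : act 7 n32773 = n70672 := rfl
theorem F107135 : act 2 n70672 = n32774 := d4_1 D70672 F107134 (iv2 D70667)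
def n70673 : Q := act 3 n32774
theorem D70673 : act 3 n32774 = n70673 := rfl
def n70674 : Q := act 4 n32774
theorem D70674 : act 4 n32774 = n70674 := rfl
theorem F107136 : act 3 n33039 = n70674 := d20_5 (iv4 F30461) (iv1 F9659) (iv4 F11732) (iv3 F25485) (iv1 F52233) (iv4 D70674) (iv1 D32774) F25171 F11673 D7383
def n70675 : Q := act 5 n32774
theorem D70675 : act 5 n32774 = n70675 := rfl
def n70676 : Q := act 6 n32774
theorem D70676 : act 6 n32774 = n70676 := rfl
def n70677 : Q := act 0 n32775
theorem D70677 : act 0 n32775 = n70677 := rfl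
def n70678 : Q := act 1 n32775
theorem D70678 : act 1 n32775 = n70678 := rfl
def n70680 : Q := act 7 n32775
theorem D70680 : act 7 n32775 = n70680 := rfl
theorem F107138 : act 5 n70680 = n32776 := d13_1 D70680 (iv7 D32776) D32775
def n70682 : Q := act 1 n32777
theorem D70682 : act 1 n32777 = n70682 := rfl
theorem F107140 : act 1 n70682 = n32782 := d15_1 D70682 (iv7 D32782) D32777
def n70683 : Q := act 3 n32777
theorem D70683 : act 3 n32777 = n70683 := rfl
theorem F107141 : act 7 n70683 = n32783 := d8_2 F51897 D70683 (iv3 D32783)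
def n70684 : Q := act 4 n32777
theorem D70684 : act 4 n32777 = n70684 := rfl
theorem F107142 : act 2 n70684 = n32779 := d1_1 D70684 (iv4 D32779) D32777
theorem F107143 : act 7 n70684 = n32784 := d11_2 F51897 D70684 (iv4 D32784)
def n70685 : Q := act 5 n32777
theorem D70685 : act 5 n32777 = n70685 := rfl
theorem F107144 : act 2 n70685 = n32780 := d2_1 D70685 (iv5 D32780) D32777
theorem F107145 : act 7 n70685 = n32785 := d13_2 F51897 D70685 (iv5 D32785)
def n70686 : Q := act 6 n32777
theorem D70686 : act 6 n32777 = n70686 := rfl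
theorem F107146 : act 2 n70686 = n32781 := d3_1 D70686 (iv6 D32781) D32777
theorem F107147 : act 5 n54409 = n70686 := d2_0 F107146 F51898 (iv2 F85898)
theorem F107148 : act 7 n70686 = n54407 := d13_2 D54409 F107147 (iv5 D54407)
def n70687 : Q := act 0 n32778
theorem D70687 : act 0 n32778 = n70687 := rfl
def n70688 : Q := act 1 n32778
theorem D70688 : act 1 n32778 = n70688 := rfl
def n70689 : Q := act 2 n32778
theorem D70689 : act 2 n32778 = n70689 := rfl
def n70690 : Q := act 4 n32778
theorem D70690 : act 4 n32778 = n70690 := rfl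
theorem F107149 : act 0 n70690 = n54573 := d20_7 (iv4 F29944) (iv1 D3810) (iv4 F5387) (iv3 F11673) D15690 D32778 D70690 F86261 F42144 (iv1 F20988)
theorem F107150 : act 0 n54558 = n70690 := d20_7 (iv4 F107070) (iv1 F107072) D70674 (iv3 F107136) (iv1 D33039) (iv3 F42118) (iv4 F86227) (iv4 D70690) (iv3 D32778) (iv1 F51845)
def n70691 : Q := act 5 n32778
theorem D70691 : act 5 n32778 = n70691 := rfl
theorem F107151 : act 3 n70691 = n32780 := d6_1 D70691 (iv5 D32780) D32778
def n70692 : Q := act 6 n32778
theorem D70692 : act 6 n32778 = n70692 := rfl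
theorem F107152 : act 3 n70692 = n32781 := d7_1 D70692 (iv6 D32781) D32778
theorem F107153 : act 5 n54410 = n70692 := d6_0 F107152 F51898 D54410
def n70693 : Q := act 7 n32778
theorem D70693 : act 7 n32778 = n70693 := rfl
theorem F107154 : act 3 n70693 = n32782 := d8_1 D70693 (iv7 D32782) D32778
def n70694 : Q := act 0 n32779
theorem D70694 : act 0 n32779 = n70694 := rfl
def n70695 : Q := act 1 n32779
theorem D70695 : act 1 n32779 = n70695 := rfl
theorem F107155 : act 1 n70695 = n32784 := d15_1 D70695 (iv7 F107143) F107142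
def n70696 : Q := act 3 n32779
theorem D70696 : act 3 n32779 = n70696 := rfl
def n70697 : Q := act 5 n32779
theorem D70697 : act 5 n32779 = n70697 := rfl
def n70698 : Q := act 6 n32779
theorem D70698 : act 6 n32779 = n70698 := rfl
theorem F107156 : act 4 n70698 = n32781 := d10_1 D70698 (iv6 D32781) D32779
def n70699 : Q := act 7 n32779
theorem D70699 : act 7 n32779 = n70699 := rfl
theorem F107157 : act 2 n70699 = n32784 := d4_1 D70699 (iv7 F107143) F107142
theorem F107158 : act 4 n70699 = n32782 := d11_1 D70699 (iv7 D32782) D32779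
theorem F107159 : act 1 n32784 = n70694 := d15_0 (iv0 D70694) D70699 F107157
def n70700 : Q := act 0 n32780
theorem D70700 : act 0 n32780 = n70700 := rfl
theorem F107160 : act 5 n70700 = n69961 := d21_2 D32780 D70700 (iv6 D69961) (iv1 D32480) (iv6 D15376) F24947 (iv1 D3382) D3384 D7378 D15690
def n70701 : Q := act 1 n32780
theorem D70701 : act 1 n32780 = n70701 := rfl
theorem F107161 : act 1 n70701 = n32785 := d15_1 D70701 (iv7 F107145) F107144
def n70702 : Q := act 4 n32780
theorem D70702 : act 4 n32780 = n70702 := rfl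
def n70703 : Q := act 6 n32780
theorem D70703 : act 6 n32780 = n70703 := rfl
theorem F107162 : act 5 n70703 = n54412 := d12_1 D70703 (iv6 D54412) (iv5 F51898) (iv6 D32781) D32780
theorem F107163 : act 0 n70703 = n70631 := d21_10 (iv5 D70631) (iv1 D32759) (iv5 F46919) (iv6 D29258) (iv1 D13909) D13911 F23172 D15690 D32780 D70703
theorem F107164 : act 0 n70632 = n70036 := d21_10 (iv5 D70036) (iv1 F106356) F106352 (iv6 F85871) (iv1 F85873) D54412 (iv5 F107162) F107163 (iv5 D70631) D70632
theorem F107165 : act 0 n70626 = n70703 := d21_1 D70626 F107162 (iv6 D54412) (iv1 D26314) (iv6 D12508) (iv5 D5947) D5944 F27212 D15680 D32758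
def n70704 : Q := act 7 n32780
theorem D70704 : act 7 n32780 = n70704 := rfl
theorem F107166 : act 2 n70704 = n32785 := d4_1 D70704 (iv7 F107145) F107144
theorem F107167 : act 5 n70704 = n32782 := d13_1 D70704 (iv7 D32782) D32780
theorem F107168 : act 1 n32785 = n70700 := d15_0 (iv0 D70700) D70704 F107166
def n70705 : Q := act 0 n32781
theorem D70705 : act 0 n32781 = n70705 := rfl
def n70706 : Q := act 1 n32781
theorem D70706 : act 1 n32781 = n70706 := rfl
theorem F107169 : act 1 n70706 = n54407 := d15_1 D70706 (iv7 F107148) F107146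
theorem F107170 : act 5 n70706 = n70652 := d21_2 D54407 (iv1 F107169) (iv6 D70652) (iv1 D32766) (iv6 D15685) F27225 (iv1 D5945) D5947 D12508 D26313
def n70707 : Q := act 7 n32781
theorem D70707 : act 7 n32781 = n70707 := rfl
theorem F107171 : act 2 n70707 = n54407 := d4_1 D70707 (iv7 F107148) F107146
theorem F107172 : act 5 n70707 = n54404 := d13_1 D70707 (iv7 F85897) (iv5 F51898)
theorem F107173 : act 1 n54407 = n70705 := d15_0 (iv0 D70705) D70707 F107171
def n70708 : Q := act 6 n32782
theorem D70708 : act 6 n32782 = n70708 := rfl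
theorem F107174 : act 2 n70708 = n32786 := d3_1 D70708 (iv6 D32786) (iv2 F51899)
def n70709 : Q := act 0 n32783
theorem D70709 : act 0 n32783 = n70709 := rfl
def n70710 : Q := act 1 n32783
theorem D70710 : act 1 n32783 = n70710 := rfl
def n70711 : Q := act 2 n32783
theorem D70711 : act 2 n32783 = n70711 := rfl
def n70712 : Q := act 4 n32783
theorem D70712 : act 4 n32783 = n70712 := rfl
theorem F107175 : act 0 n54825 = n70712 := d20_1 (iv4 F86760) (iv4 D70712) (iv3 D32783) (iv1 D15691) F11673 F5387 D3809 F29940 D15984 (iv1 F86306)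
theorem F107176 : act 1 n54767 = n70712 := d15_0 (iv0 F107175) (iv7 D54825) (iv2 F86637)
def n70713 : Q := act 5 n32783
theorem D70713 : act 5 n32783 = n70713 := rfl
theorem F107177 : act 3 n70713 = n32785 := d6_1 D70713 (iv5 D32785) D32783
def n70714 : Q := act 6 n32783
theorem D70714 : act 6 n32783 = n70714 := rfl
theorem F107178 : act 3 n70714 = n32786 := d7_1 D70714 (iv6 D32786) D32783
def n70715 : Q := act 3 n32784
theorem D70715 : act 3 n32784 = n70715 := rfl
def n70716 : Q := act 5 n32784
theorem D70716 : act 5 n32784 = n70716 := rfl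
def n70717 : Q := act 6 n32784
theorem D70717 : act 6 n32784 = n70717 := rfl
theorem F107179 : act 4 n70717 = n32786 := d10_1 D70717 (iv6 D32786) D32784
def n70718 : Q := act 4 n32785
theorem D70718 : act 4 n32785 = n70718 := rfl
def n70719 : Q := act 0 n32786
theorem D70719 : act 0 n32786 = n70719 := rfl
def n70720 : Q := act 1 n32786
theorem D70720 : act 1 n32786 = n70720 := rfl
def n70721 : Q := act 5 n32786
theorem D70721 : act 5 n32786 = n70721 := rfl
theorem F107180 : act 0 n69934 = n70721 := d21_1 D69934 (iv5 D70721) (iv6 D32786) (iv1 D15691) (iv6 D7378) (iv5 D3384) D3381 (iv5 F17284) D15372 D32473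
def n70722 : Q := act 7 n32786
theorem D70722 : act 7 n32786 = n70722 := rfl
theorem F107181 : act 6 n70722 = n54407 := d14_1 D70722 (iv7 F107148) (iv6 D70686) (iv7 F51897) D32786
theorem F107182 : act 0 n70722 = n69892 := d21_10 F106372 (iv1 D69942) (iv5 D32475) (iv6 D15372) (iv1 F20828) D26306 F41916 D26313 D54407 (iv6 F107181)
theorem F107183 : act 1 n70708 = n69892 := d15_0 (iv0 F107182) (iv7 D70722) (iv2 F107174)
def n70723 : Q := act 3 n32787
theorem D70723 : act 3 n32787 = n70723 := rfl
theorem F107184 : act 4 n70723 = n37567 := d5_2 (iv4 F51900) D70723 (iv3 F58452) F35213 F25716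
theorem F107185 : act 7 n70723 = n33415 := d8_2 (iv7 F51903) D70723 (iv3 D33415)
def n70724 : Q := act 6 n32787
theorem D70724 : act 6 n32787 = n70724 := rfl
theorem F107186 : act 2 n70724 = n33520 := d3_1 D70724 (iv6 D33520) F51901
theorem F107187 : act 4 n70724 = n33421 := d10_1 D70724 (iv6 D33421) (iv4 F51900)
def n70725 : Q := act 6 n32788
theorem D70725 : act 6 n32788 = n70725 := rfl
theorem F107188 : act 3 n70725 = n35215 := d7_1 D70725 (iv6 D35215) (iv3 F51904)
def n70726 : Q := act 0 n32789
theorem D70726 : act 0 n32789 = n70726 := rfl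
def n70727 : Q := act 1 n32789
theorem D70727 : act 1 n32789 = n70727 := rfl
def n70728 : Q := act 5 n32789
theorem D70728 : act 5 n32789 = n70728 := rfl
theorem F107189 : act 3 n70728 = n35218 := d6_1 D70728 (iv5 D35218) (iv3 F51908)
def n70729 : Q := act 7 n32789
theorem D70729 : act 7 n32789 = n70729 := rfl
theorem F107190 : act 3 n70729 = n35219 := d8_1 D70729 (iv7 D35219) (iv3 F51908)
theorem F107191 : act 4 n70729 = n32792 := d11_1 D70729 (iv7 D32792) (iv4 F51909)
theorem F107192 : act 6 n70729 = n69768 := d14_1 D70729 (iv7 D69768) (iv6 D32388) (iv7 F25181) D32789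
def n70730 : Q := act 2 n32790
theorem D70730 : act 2 n32790 = n70730 := rfl
theorem F107193 : act 7 n32791 = n70730 := d15_2 (iv0 D32790) D32791 (iv2 D70730)
def n70731 : Q := act 3 n32790
theorem D70731 : act 3 n32790 = n70731 := rfl
def n70732 : Q := act 4 n32790
theorem D70732 : act 4 n32790 = n70732 := rfl
def n70733 : Q := act 5 n32790
theorem D70733 : act 5 n32790 = n70733 := rfl
def n70734 : Q := act 6 n32790
theorem D70734 : act 6 n32790 = n70734 := rfl
def n70735 : Q := act 7 n32790
theorem D70735 : act 7 n32790 = n70735 := rfl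
theorem F107194 : act 2 n70735 = n32791 := d4_1 D70735 F107193 (iv2 D70730)
def n70736 : Q := act 3 n32791
theorem D70736 : act 3 n32791 = n70736 := rfl
def n70737 : Q := act 4 n32791
theorem D70737 : act 4 n32791 = n70737 := rfl
def n70738 : Q := act 5 n32791
theorem D70738 : act 5 n32791 = n70738 := rfl
def n70739 : Q := act 6 n32791
theorem D70739 : act 6 n32791 = n70739 := rfl
def n70740 : Q := act 0 n32793
theorem D70740 : act 0 n32793 = n70740 := rfl
theorem F107195 : act 1 n69844 = n70740 := d15_0 (iv0 D70740) F51912 D69844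
def n70741 : Q := act 1 n32793
theorem D70741 : act 1 n32793 = n70741 := rfl
def n70742 : Q := act 2 n32793
theorem D70742 : act 2 n32793 = n70742 := rfl
theorem F107196 : act 3 n70742 = n69837 := d0_2 D32793 D70742 (iv2 D69837) (iv3 D32429) F43176
theorem F107197 : act 7 n70742 = n69844 := d4_2 (iv7 F51912) D70742 (iv2 D69844)
theorem F107200 : act 1 n69843 = n70742 := d15_1 D69843 F107197 (iv2 D69844)
def n70743 : Q := act 4 n32793
theorem D70743 : act 4 n32793 = n70743 := rfl
theorem F107201 : act 3 n70743 = n34788 := d5_1 D70743 (iv4 D34788) (iv3 D16853) (iv4 F38268) D32793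
theorem F107202 : act 7 n70743 = n69845 := d11_2 (iv7 F51912) D70743 (iv4 D69845)
def n70744 : Q := act 5 n32793
theorem D70744 : act 5 n32793 = n70744 := rfl
theorem F107203 : act 3 n70744 = n32794 := d6_1 D70744 (iv5 D32794) D32793
theorem F107204 : act 7 n70744 = n69846 := d13_2 (iv7 F51912) D70744 (iv5 D69846)
def n70745 : Q := act 4 n32794
theorem D70745 : act 4 n32794 = n70745 := rfl
def n70746 : Q := act 6 n32794
theorem D70746 : act 6 n32794 = n70746 := rfl
theorem F107208 : act 5 n70746 = n40247 := d12_1 D70746 (iv6 D40247) (iv5 F43242) F43239 D32794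
theorem F107209 : act 0 n70746 = n68404 := d21_4 F18821 D15698 D32794 D70746 (iv6 D68404) D68403 F104569 (iv5 F79224) (iv6 D50053) (iv1 D24409)
def n70748 : Q := act 1 n32795
theorem D70748 : act 1 n32795 = n70748 := rfl
def n70749 : Q := act 2 n32795
theorem D70749 : act 2 n32795 = n70749 := rfl
theorem F107211 : act 3 n70749 = n69844 := d0_2 D32795 D70749 (iv2 D69844) (iv3 D32431) (iv2 F43177)
theorem F107212 : act 7 n70749 = n69837 := d4_2 (iv7 F51915) D70749 (iv2 D69837)
theorem F107214 : act 1 n70748 = n69837 := d15_1 D70748 (iv7 F107212) (iv2 D70749)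
theorem F107215 : act 1 n69836 = n70749 := d15_1 D69836 F107212 (iv2 D69837)
def n70750 : Q := act 4 n32795
theorem D70750 : act 4 n32795 = n70750 := rfl
theorem F107216 : act 3 n70750 = n34794 := d5_1 D70750 (iv4 D34794) (iv3 D16857) (iv4 F43178) D32795
theorem F107217 : act 7 n70750 = n69838 := d11_2 (iv7 F51915) D70750 (iv4 D69838)
def n70751 : Q := act 5 n32795
theorem D70751 : act 5 n32795 = n70751 := rfl
theorem F107218 : act 3 n70751 = n32796 := d6_1 D70751 (iv5 D32796) D32795
theorem F107219 : act 7 n70751 = n69839 := d13_2 (iv7 F51915) D70751 (iv5 D69839)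
def n70752 : Q := act 6 n32795
theorem D70752 : act 6 n32795 = n70752 := rfl
theorem F107220 : act 3 n70752 = n32797 := d7_1 D70752 (iv6 D32797) D32795
def n70753 : Q := act 4 n32796
theorem D70753 : act 4 n32796 = n70753 := rfl
theorem F107221 : act 2 n70753 = n69848 := d1_1 D70753 (iv4 D69848) (iv2 F51916)
theorem F107222 : act 7 n70753 = n69840 := d11_2 (iv7 F51917) D70753 (iv4 D69840)
def n70754 : Q := act 3 n32798
theorem D70754 : act 3 n32798 = n70754 := rfl
theorem F107223 : act 2 n70754 = n35272 := d0_1 D70754 (iv3 D35272) F28064 (iv3 F25197) (iv2 F51923)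
theorem F107224 : act 4 n70754 = n69758 := d5_2 D32798 D70754 (iv3 D69758) (iv4 D32384) (iv3 F25191)
theorem F107225 : act 7 n70754 = n69793 := d8_2 (iv7 F51924) D70754 (iv3 D69793)
def n70755 : Q := act 6 n32798
theorem D70755 : act 6 n32798 = n70755 := rfl
theorem F107226 : act 2 n70755 = n32803 := d3_1 D70755 (iv6 D32803) (iv2 F51923)
theorem F107227 : act 4 n70755 = n32799 := d10_1 D70755 (iv6 D32799) D32798
def n70756 : Q := act 0 n32799
theorem D70756 : act 0 n32799 = n70756 := rfl
def n70757 : Q := act 1 n32799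
theorem D70757 : act 1 n32799 = n70757 := rfl
theorem F107228 : act 1 n70757 = n32807 := d15_1 D70757 (iv7 D32807) (iv2 F51927)
def n70758 : Q := act 5 n32799
theorem D70758 : act 5 n32799 = n70758 := rfl
theorem F107229 : act 2 n70758 = n32806 := d2_1 D70758 (iv5 D32806) (iv2 F51927)
theorem F107230 : act 3 n70758 = n69762 := d6_1 D70758 (iv5 D69762) (iv3 F51928)
theorem F107231 : act 6 n70758 = n34964 := d12_2 D32799 D70758 (iv5 D34964) (iv6 D16969) (iv5 F25192)
theorem F107232 : act 4 n68691 = n70758 := d10_3 F107231 F55364 D68691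
def n70759 : Q := act 7 n32799
theorem D70759 : act 7 n32799 = n70759 := rfl
theorem F107233 : act 2 n70759 = n32807 := d4_1 D70759 (iv7 D32807) (iv2 F51927)
theorem F107235 : act 6 n70759 = n69797 := d14_1 D70759 (iv7 D69797) (iv6 D32413) (iv7 F25193) D32799
theorem F107236 : act 1 n32807 = n70756 := d15_0 (iv0 D70756) D70759 F107233
theorem F107237 : act 1 n32805 = n70759 := d15_1 D32805 (iv7 D70759) F51927
theorem F107238 : act 1 n70759 = n32804 := d15_0 (iv0 D32804) D32807 (iv2 F107233)
def n70760 : Q := act 3 n32800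
theorem D70760 : act 3 n32800 = n70760 := rfl
theorem F107239 : act 2 n70760 = n55685 := d0_1 D70760 F88109 F43370 F42457 F51931
theorem F107240 : act 4 n70760 = n37297 := d5_2 (iv4 F51929) D70760 (iv3 F58255) F51739 (iv3 F42381)
theorem F107241 : act 5 n70760 = n55684 := d6_2 F56837 D70760 F88104
theorem F107242 : act 7 n70760 = n69817 := d8_2 F51932 D70760 (iv3 D69817)
def n70761 : Q := act 6 n32800
theorem D70761 : act 6 n32800 = n70761 := rfl
theorem F107243 : act 2 n70761 = n54775 := d3_1 D70761 (iv6 D54775) F51931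
theorem F107244 : act 4 n70761 = n54769 := d10_1 D70761 (iv6 D54769) (iv4 F51929)
def n70762 : Q := act 6 n32801
theorem D70762 : act 6 n32801 = n70762 := rfl
theorem F107245 : act 2 n70762 = n69818 := d3_1 D70762 (iv6 D69818) F51938
theorem F107246 : act 3 n70762 = n55665 := d7_1 D70762 (iv6 D55665) F51936
theorem F107247 : act 4 n70762 = n54780 := d10_1 D70762 (iv6 D54780) (iv4 F51935)
def n70763 : Q := act 6 n32802
theorem D70763 : act 6 n32802 = n70763 := rfl
theorem F107248 : act 3 n70763 = n35279 := d7_1 D70763 (iv6 D35279) (iv3 F51939)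
def n70764 : Q := act 0 n32803
theorem D70764 : act 0 n32803 = n70764 := rfl
def n70765 : Q := act 1 n32803
theorem D70765 : act 1 n32803 = n70765 := rfl
def n70766 : Q := act 5 n32803
theorem D70766 : act 5 n32803 = n70766 := rfl
def n70767 : Q := act 7 n32803
theorem D70767 : act 7 n32803 = n70767 := rfl
theorem F107250 : act 3 n70767 = n35283 := d8_1 D70767 (iv7 D35283) (iv3 F51942)
theorem F107251 : act 4 n70767 = n32807 := d11_1 D70767 (iv7 D32807) (iv4 F51943)
def n70768 : Q := act 2 n32804
theorem D70768 : act 2 n32804 = n70768 := rfl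
theorem F107253 : act 7 n32805 = n70768 := d15_2 (iv0 D32804) D32805 (iv2 D70768)
def n70769 : Q := act 3 n32804
theorem D70769 : act 3 n32804 = n70769 := rfl
def n70770 : Q := act 4 n32804
theorem D70770 : act 4 n32804 = n70770 := rfl
def n70771 : Q := act 5 n32804
theorem D70771 : act 5 n32804 = n70771 := rfl
def n70772 : Q := act 6 n32804
theorem D70772 : act 6 n32804 = n70772 := rfl
def n70773 : Q := act 7 n32804
theorem D70773 : act 7 n32804 = n70773 := rfl
theorem F107254 : act 2 n70773 = n32805 := d4_1 D70773 F107253 (iv2 D70768)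
def n70774 : Q := act 3 n32805
theorem D70774 : act 3 n32805 = n70774 := rfl
def n70775 : Q := act 4 n32805
theorem D70775 : act 4 n32805 = n70775 := rfl
def n70776 : Q := act 5 n32805
theorem D70776 : act 5 n32805 = n70776 := rfl
def n70777 : Q := act 6 n32805
theorem D70777 : act 6 n32805 = n70777 := rfl
def n70778 : Q := act 0 n32806
theorem D70778 : act 0 n32806 = n70778 := rfl
def n70779 : Q := act 1 n32806
theorem D70779 : act 1 n32806 = n70779 := rfl
def n70780 : Q := act 4 n32806
theorem D70780 : act 4 n32806 = n70780 := rfl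
theorem F107255 : act 2 n70780 = n68691 := d1_1 D70780 F107232 F107229
theorem F107256 : act 6 n70780 = n34975 := d10_2 (iv6 F51945) D70780 (iv4 D34975)
def n70781 : Q := act 7 n32806
theorem D70781 : act 7 n32806 = n70781 := rfl
theorem F107257 : act 3 n70781 = n32809 := d8_1 D70781 (iv7 D32809) (iv3 F51944)
theorem F107258 : act 5 n70781 = n32807 := d13_1 D70781 (iv7 D32807) D32806
def n70782 : Q := act 3 n32808
theorem D70782 : act 3 n32808 = n70782 := rfl
theorem F107259 : act 6 n70782 = n34976 := d7_2 (iv6 F51949) D70782 (iv3 D34976)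
def n70784 : Q := act 3 n32810
theorem D70784 : act 3 n32810 = n70784 := rfl
def n70785 : Q := act 4 n32810
theorem D70785 : act 4 n32810 = n70785 := rfl
def n70787 : Q := act 6 n32810
theorem D70787 : act 6 n32810 = n70787 := rfl
def n70793 : Q := act 4 n32812
theorem D70793 : act 4 n32812 = n70793 := rfl
theorem F107262 : act 2 n70793 = n32813 := d1_1 D70793 (iv4 D32813) D32812
def n70794 : Q := act 5 n32812
theorem D70794 : act 5 n32812 = n70794 := rfl
theorem F107263 : act 2 n70794 = n32814 := d2_1 D70794 (iv5 D32814) D32812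
def n70795 : Q := act 6 n32812
theorem D70795 : act 6 n32812 = n70795 := rfl
theorem F107264 : act 2 n70795 = n32815 := d3_1 D70795 (iv6 D32815) D32812
theorem F107265 : act 5 n70463 = n70795 := d2_0 F107264 (iv5 F51957) D70463
def n70796 : Q := act 0 n32813
theorem D70796 : act 0 n32813 = n70796 := rfl
def n70797 : Q := act 1 n32813
theorem D70797 : act 1 n32813 = n70797 := rfl
def n70798 : Q := act 5 n32813
theorem D70798 : act 5 n32813 = n70798 := rfl
def n70799 : Q := act 6 n32813
theorem D70799 : act 6 n32813 = n70799 := rfl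
theorem F107267 : act 3 n70799 = n56550 := d7_1 D70799 (iv6 D56550) (iv3 F51954)
theorem F107268 : act 4 n70799 = n32815 := d10_1 D70799 (iv6 D32815) D32813
def n70800 : Q := act 0 n32814
theorem D70800 : act 0 n32814 = n70800 := rfl
def n70801 : Q := act 1 n32814
theorem D70801 : act 1 n32814 = n70801 := rfl
def n70802 : Q := act 4 n32814
theorem D70802 : act 4 n32814 = n70802 := rfl
def n70803 : Q := act 6 n32814
theorem D70803 : act 6 n32814 = n70803 := rfl
theorem F107269 : act 3 n70803 = n32819 := d7_1 D70803 (iv6 D32819) (iv3 F51955)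
theorem F107270 : act 5 n70803 = n70465 := d12_1 D70803 (iv6 D70465) F51957 (iv6 D32815) D32814
def n70804 : Q := act 0 n32815
theorem D70804 : act 0 n32815 = n70804 := rfl
def n70805 : Q := act 1 n32815
theorem D70805 : act 1 n32815 = n70805 := rfl
def n70806 : Q := act 7 n32815
theorem D70806 : act 7 n32815 = n70806 := rfl
theorem F107271 : act 3 n70806 = n32822 := d8_1 D70806 (iv7 D32822) (iv3 F51956)
theorem F107272 : act 5 n70806 = n54413 := d13_1 D70806 F85899 F51957
def n70807 : Q := act 3 n32816
theorem D70807 : act 3 n32816 = n70807 := rfl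
theorem F107273 : act 5 n70807 = n49035 := d6_2 (iv5 F51958) D70807 F77398
def n70808 : Q := act 4 n32816
theorem D70808 : act 4 n32816 = n70808 := rfl
theorem F107275 : act 0 n70808 = n33161 := d17_0 F96377 (iv1 D61805) (iv5 D29291) F23177 F10710 D7384 D15718 F51959 D70808
def n70809 : Q := act 3 n32817
theorem D70809 : act 3 n32817 = n70809 := rfl
theorem F107277 : act 5 n70809 = n60419 := d6_2 (iv5 F51963) D70809 F94927
theorem F107278 : act 6 n70809 = n62812 := d7_2 (iv6 F51964) D70809 (iv3 D62812)
theorem F107279 : act 7 n70809 = n60418 := d8_2 (iv7 F51962) D70809 F94926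
def n70810 : Q := act 4 n32817
theorem D70810 : act 4 n32817 = n70810 := rfl
theorem F107280 : act 6 n70810 = n62813 := d10_2 (iv6 F51964) D70810 (iv4 D62813)
theorem F107281 : act 7 n70810 = n60424 := d11_2 (iv7 F51962) D70810 (iv4 D60424)
theorem F107282 : act 0 n70810 = n33152 := d17_0 (iv5 F96372) (iv1 F96374) F58625 F47860 F23626 F20902 D15713 D32817 D70810
theorem F107283 : act 1 n70810 = n33161 := d18_6 D16417 (iv4 F42171) (iv1 F30003) (iv4 F46247) (iv5 F51963) D70810 (iv4 D33161) F42198 (iv5 D16419)
def n70811 : Q := act 1 n32818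
theorem D70811 : act 1 n32818 = n70811 := rfl
theorem F107285 : act 7 n70811 = n33967 := d15_2 F87353 D70811 (iv2 F87351)
theorem F107286 : act 4 n70811 = n33968 := d18_7 (iv1 D12602) F9300 D6199 F30461 D15713 D32818 D70811 F53303 (iv5 D26412)
theorem F107287 : act 6 n61576 = n70811 := d10_0 F107286 F53304 D61576
def n70812 : Q := act 3 n32818
theorem D70812 : act 3 n32818 = n70812 := rfl
def n70813 : Q := act 5 n32818
theorem D70813 : act 5 n32818 = n70813 := rfl
theorem F107288 : act 4 n70813 = n37773 := d16_2 D32818 D70813 F58623 (iv4 D27213) (iv5 D13035) F30457 D15718 F30530 F30528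
theorem F107289 : act 0 n70813 = n56608 := d17_2 (iv1 D70811) D70813 F89533 F52390 F25494 F20987 D26407 F53302 (iv4 F107286)
def n70814 : Q := act 6 n32818
theorem D70814 : act 6 n32818 = n70814 := rfl
theorem F107291 : act 4 n70814 = n32819 := d10_1 D70814 (iv6 D32819) D32818
def n70815 : Q := act 7 n32819
theorem D70815 : act 7 n32819 = n70815 := rfl
theorem F107292 : act 5 n70815 = n70469 := d13_1 D70815 (iv7 D70469) (iv5 F51965)
theorem F107293 : act 6 n70815 = n61382 := d14_1 D70815 F95874 (iv6 D37057) F30527 D32819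
theorem F107294 : act 0 n61776 = n70469 := d21_1 D61776 (iv5 F107292) F107293 (iv1 D61382) (iv6 D29056) (iv5 D13828) F10638 (iv5 F10709) D13916 D29282
def n70816 : Q := act 3 n32821
theorem D70816 : act 3 n32821 = n70816 := rfl
theorem F107295 : act 7 n70816 = n34778 := d8_2 F51968 D70816 F54988
def n70817 : Q := act 2 n32823
theorem D70817 : act 2 n32823 = n70817 := rfl
theorem F107296 : act 7 n32824 = n70817 := d15_2 (iv0 D32823) D32824 (iv2 D70817)
def n70818 : Q := act 3 n32823
theorem D70818 : act 3 n32823 = n70818 := rfl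
def n70819 : Q := act 4 n32823
theorem D70819 : act 4 n32823 = n70819 := rfl
def n70822 : Q := act 7 n32823
theorem D70822 : act 7 n32823 = n70822 := rfl
theorem F107297 : act 2 n70822 = n32824 := d4_1 D70822 F107296 (iv2 D70817)
def n70823 : Q := act 3 n32824
theorem D70823 : act 3 n32824 = n70823 := rfl
def n70824 : Q := act 4 n32824
theorem D70824 : act 4 n32824 = n70824 := rfl
def n70825 : Q := act 5 n32824
theorem D70825 : act 5 n32824 = n70825 := rfl
def n70826 : Q := act 6 n32824
theorem D70826 : act 6 n32824 = n70826 := rfl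
def n70827 : Q := act 4 n32825
theorem D70827 : act 4 n32825 = n70827 := rfl
theorem F107298 : act 2 n70827 = n32826 := d1_1 D70827 (iv4 D32826) D32825
def n70828 : Q := act 5 n32825
theorem D70828 : act 5 n32825 = n70828 := rfl
theorem F107299 : act 2 n70828 = n32827 := d2_1 D70828 (iv5 D32827) D32825
def n70829 : Q := act 6 n32825
theorem D70829 : act 6 n32825 = n70829 := rfl
theorem F107300 : act 2 n70829 = n32828 := d3_1 D70829 (iv6 D32828) D32825
def n70830 : Q := act 0 n32826
theorem D70830 : act 0 n32826 = n70830 := rfl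
def n70831 : Q := act 1 n32826
theorem D70831 : act 1 n32826 = n70831 := rfl
theorem F107301 : act 4 n54779 = n70831 := d20_6 F5387 D3809 F29940 D15984 (iv1 F86306) (iv3 F86663) (iv1 D70831) (iv4 D32826) (iv3 D15716) (iv1 D7384)
theorem F107302 : act 7 n70831 = n54775 := d11_2 D54779 F107301 F86658
theorem E9638 : n70830 = n70761 := ((c15_4 (iv0 D70830) D70831 F107302 (iv2 F107243))).symm
theorem F107303 : act 1 n70761 = n32826 := (sb E9638 (iv0 D70830))
def n70832 : Q := act 5 n32826
theorem D70832 : act 5 n32826 = n70832 := rfl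
def n70833 : Q := act 6 n32826
theorem D70833 : act 6 n32826 = n70833 := rfl
theorem F107306 : act 4 n70833 = n32828 := d10_1 D70833 (iv6 D32828) D32826
def n70834 : Q := act 0 n32827
theorem D70834 : act 0 n32827 = n70834 := rfl
def n70835 : Q := act 1 n32827
theorem D70835 : act 1 n32827 = n70835 := rfl
def n70836 : Q := act 4 n32827
theorem D70836 : act 4 n32827 = n70836 := rfl
def n70837 : Q := act 6 n32827
theorem D70837 : act 6 n32827 = n70837 := rfl
theorem F107307 : act 3 n70837 = n32830 := d7_1 D70837 (iv6 D32830) (iv3 F51975)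
def n70838 : Q := act 0 n32828
theorem D70838 : act 0 n32828 = n70838 := rfl
def n70839 : Q := act 1 n32828
theorem D70839 : act 1 n32828 = n70839 := rfl
def n70840 : Q := act 7 n32828
theorem D70840 : act 7 n32828 = n70840 := rfl
theorem F107308 : act 3 n70840 = n32831 := d8_1 D70840 (iv7 D32831) (iv3 F51976)
theorem F107309 : act 5 n70840 = n58548 := d13_1 D70840 F92485 F60475
theorem F107310 : act 6 n70840 = n70453 := d14_1 D70840 F106920 (iv6 D37012) (iv7 F30529) D32828
def n70841 : Q := act 3 n32829
theorem D70841 : act 3 n32829 = n70841 := rfl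
def n70842 : Q := act 5 n32829
theorem D70842 : act 5 n32829 = n70842 := rfl
theorem F107312 : act 0 n70842 = n54622 := d17_2 F87352 D70842 (iv5 D54622) (iv4 D26416) (iv5 D12603) D12602 D26412 (iv0 F42748) D55213
def n70843 : Q := act 6 n32829
theorem D70843 : act 6 n32829 = n70843 := rfl
theorem F107314 : act 4 n70843 = n32830 := d10_1 D70843 (iv6 D32830) D32829
theorem F107315 : act 0 n60769 = n70843 := d21_4 (iv5 D13761) (iv1 F22995) D28832 D60769 (iv6 D70843) D70842 F107312 (iv5 D54622) F42164 (iv1 F23016)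
def n70844 : Q := act 6 n32832
theorem D70844 : act 6 n32832 = n70844 := rfl
theorem F107316 : act 2 n70844 = n37248 := d3_1 D70844 (iv6 D37248) (iv2 F51983)
theorem F107317 : act 3 n70844 = n32833 := d7_1 D70844 (iv6 D32833) D32832
def n70845 : Q := act 0 n32833
theorem D70845 : act 0 n32833 = n70845 := rfl
def n70846 : Q := act 1 n32833
theorem D70846 : act 1 n32833 = n70846 := rfl
theorem F107318 : act 1 n70846 = n32857 := d15_1 D70846 (iv7 D32857) (iv2 F51985)
def n70847 : Q := act 5 n32833
theorem D70847 : act 5 n32833 = n70847 := rfl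
theorem F107319 : act 2 n70847 = n32856 := d2_1 D70847 (iv5 D32856) (iv2 F51985)
theorem F107320 : act 6 n70847 = n68609 := d12_2 D32833 D70847 (iv5 D68609) F50215 F26908
def n70848 : Q := act 7 n32833
theorem D70848 : act 7 n32833 = n70848 := rfl
theorem F107321 : act 2 n70848 = n32857 := d4_1 D70848 (iv7 D32857) (iv2 F51985)
theorem F107322 : act 4 n70848 = n32836 := d11_1 D70848 (iv7 D32836) (iv4 F51986)
theorem F107323 : act 1 n32857 = n70845 := d15_0 (iv0 D70845) D70848 F107321
theorem F107324 : act 1 n32855 = n70848 := d15_1 D32855 (iv7 D70848) F51985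
theorem F107325 : act 4 n33271 = n70845 := d20_6 (iv4 D8339) (iv1 D3743) (iv4 F5415) (iv3 F11750) D16064 D33271 (iv1 F107323) F52033 F25316 (iv1 F41729)
theorem F107326 : act 1 n70848 = n32854 := d15_0 (iv0 D32854) D32857 (iv2 F107321)
def n70849 : Q := act 2 n32834
theorem D70849 : act 2 n32834 = n70849 := rfl
theorem F107327 : act 7 n32835 = n70849 := d15_2 (iv0 D32834) D32835 (iv2 D70849)
def n70850 : Q := act 3 n32834
theorem D70850 : act 3 n32834 = n70850 := rfl
def n70851 : Q := act 4 n32834
theorem D70851 : act 4 n32834 = n70851 := rfl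
def n70852 : Q := act 5 n32834
theorem D70852 : act 5 n32834 = n70852 := rfl
def n70853 : Q := act 6 n32834
theorem D70853 : act 6 n32834 = n70853 := rfl
theorem F107328 : act 5 n70853 = n54347 := d21_6 F26441 (iv1 F9257) D7416 D15797 D32834 D70853 (iv1 D54347) (iv5 D26267) (iv6 D12474) D12471
def n70854 : Q := act 7 n32834
theorem D70854 : act 7 n32834 = n70854 := rfl
theorem F107329 : act 2 n70854 = n32835 := d4_1 D70854 F107327 (iv2 D70849)
def n70855 : Q := act 3 n32835
theorem D70855 : act 3 n32835 = n70855 := rfl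
theorem F107330 : act 4 n70855 = n54689 := d20_6 F30384 (iv1 F9686) (iv4 F11711) (iv3 F25316) (iv1 F51987) D70855 (iv1 D54689) F42311 F21024 D12631
def n70856 : Q := act 4 n32835
theorem D70856 : act 4 n32835 = n70856 := rfl
def n70857 : Q := act 5 n32835
theorem D70857 : act 5 n32835 = n70857 := rfl
def n70858 : Q := act 6 n32835
theorem D70858 : act 6 n32835 = n70858 := rfl
def n70859 : Q := act 0 n32837
theorem D70859 : act 0 n32837 = n70859 := rfl
def n70860 : Q := act 1 n32837
theorem D70860 : act 1 n32837 = n70860 := rfl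
def n70861 : Q := act 7 n32837
theorem D70861 : act 7 n32837 = n70861 := rfl
theorem F107331 : act 3 n70861 = n32842 := d8_1 D70861 (iv7 D32842) (iv3 F51992)
theorem F107332 : act 5 n70861 = n67915 := d13_1 D70861 (iv7 D67915) (iv5 F51993)
theorem F107333 : act 6 n70861 = n70354 := d14_1 D70861 (iv7 D70354) (iv6 D32658) (iv7 F26879) D32837
def n70862 : Q := act 2 n32838
theorem D70862 : act 2 n32838 = n70862 := rfl
theorem F107334 : act 3 n70862 = n70380 := d0_2 D32838 D70862 (iv2 D70380) (iv3 D32668) F26832
theorem F107335 : act 4 n70862 = n40224 := d1_2 F52312 D70862 F61209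
theorem F107336 : act 5 n70862 = n52949 := d2_2 (iv5 F51994) D70862 (iv2 F83671)
theorem F107337 : act 7 n70862 = n70358 := d4_2 (iv7 F51995) D70862 (iv2 D70358)
theorem F107338 : act 1 n70862 = n70356 := d15_0 (iv0 D70356) (iv7 F51995) D70862
theorem F107339 : act 1 n70357 = n70862 := d15_0 F107338 (iv7 F106836) F106841
def n70863 : Q := act 6 n32838
theorem D70863 : act 6 n32838 = n70863 := rfl
theorem F107340 : act 3 n70863 = n32839 := d7_1 D70863 (iv6 D32839) D32838
def n70864 : Q := act 0 n32839
theorem D70864 : act 0 n32839 = n70864 := rfl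
def n70865 : Q := act 1 n32839
theorem D70865 : act 1 n32839 = n70865 := rfl
theorem F107341 : act 1 n70865 = n70385 := d15_1 D70865 (iv7 D70385) (iv2 F51996)
def n70866 : Q := act 5 n32839
theorem D70866 : act 5 n32839 = n70866 := rfl
def n70867 : Q := act 7 n32839
theorem D70867 : act 7 n32839 = n70867 := rfl
theorem F107344 : act 2 n70867 = n70385 := d4_1 D70867 (iv7 D70385) (iv2 F51996)
theorem F107345 : act 4 n70867 = n32842 := d11_1 D70867 (iv7 D32842) (iv4 F51997)
theorem F107347 : act 1 n70385 = n70864 := d15_0 (iv0 D70864) D70867 F107344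
theorem F107348 : act 1 n70383 = n70867 := d15_1 D70383 (iv7 D70867) F51996
theorem F107349 : act 1 n70867 = n70382 := d15_0 (iv0 D70382) D70385 (iv2 F107344)
def n70868 : Q := act 3 n32840
theorem D70868 : act 3 n32840 = n70868 := rfl
theorem F107350 : act 7 n70868 = n70389 := d8_2 (iv7 F57953) D70868 (iv3 D70389)
def n70869 : Q := act 4 n32840
theorem D70869 : act 4 n32840 = n70869 := rfl
theorem F107351 : act 2 n70869 = n70387 := d1_1 D70869 (iv4 D70387) (iv2 F57955)
theorem F107352 : act 7 n70869 = n70390 := d11_2 (iv7 F57953) D70869 (iv4 D70390)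
theorem F107353 : act 0 n70869 = n70576 := d18_2 D32840 D70869 F107043 F51825 (iv4 F102716) F102720 F104789 (iv0 D31580) F26878
def n70870 : Q := act 5 n32840
theorem D70870 : act 5 n32840 = n70870 := rfl
theorem F107354 : act 2 n70870 = n59976 := d2_1 D70870 F94459 (iv2 F57955)
theorem F107355 : act 7 n70870 = n48932 := d13_2 (iv7 F57953) D70870 F77150
theorem F107356 : act 0 n70870 = n59975 := d21_1 D70870 (iv5 F94458) (iv6 D54345) (iv1 D26266) (iv6 D12474) (iv5 D5928) (iv1 F26360) F26513 D15806 D32840
theorem F107357 : act 6 n70870 = n59984 := d21_3 F26878 D32840 D70870 F106513 (iv6 D31665) D31664 D68048 F104170 (iv6 D67925) (iv1 D31581)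
theorem E9639 : n70865 = n69591 := (c18_3 (iv1 F52003) (iv4 F106867) (iv1 F107341) (iv4 D69591) (iv5 D32311) (iv4 F51217) D69585 F105877 (iv0 F107356) (iv5 D70870))
theorem F107358 : act 0 n69591 = n32839 := (sb E9639 (iv1 D70865))
theorem F107359 : act 1 n69591 = n70385 := (sb E9639 F107341)
theorem E9640 : n68736 = n66411 := ((c18_7 (iv1 F85947) D69591 F107358 F51997 (iv5 F26878) (iv4 F49427) D66411 (iv4 D68736) F50334 (iv5 F85944))).symm
theorem F107360 : act 4 n66411 = n31978 := (sb E9640 (iv4 D68736))
theorem F107361 : act 4 n69530 = n70870 := d11_3 F107355 F77149 D69530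
theorem F107362 : act 1 n70870 = n53991 := d15_0 F104193 D59976 (iv2 F107354)
def n70871 : Q := act 6 n32840
theorem D70871 : act 6 n32840 = n70871 := rfl
theorem F107364 : act 7 n70871 = n70494 := d14_2 (iv7 F57953) D70871 (iv6 D70494) (iv7 F56337) F56339
def n70872 : Q := act 3 n32841
theorem D70872 : act 3 n32841 = n70872 := rfl
theorem F107365 : act 5 n70872 = n59973 := d6_2 F51999 D70872 F94457
theorem F107366 : act 6 n70872 = n70495 := d7_2 (iv6 F57951) D70872 (iv3 D70495)
theorem F107367 : act 7 n70872 = n70386 := d8_2 F57954 D70872 (iv3 D70386)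
def n70873 : Q := act 4 n32841
theorem D70873 : act 4 n32841 = n70873 := rfl
theorem F107368 : act 2 n70873 = n70390 := d1_1 D70873 (iv4 D70390) F57952
theorem F107369 : act 6 n70873 = n70496 := d10_2 (iv6 F57951) D70873 (iv4 D70496)
theorem F107370 : act 7 n70873 = n70387 := d11_2 F57954 D70873 (iv4 D70387)
theorem F107371 : act 1 n70873 = n70576 := d15_0 (iv0 F107353) F107352 (iv2 F107368)
theorem F107372 : act 1 n32850 = n70873 := d15_0 F107371 (iv7 D70576) (iv2 F52021)
theorem F107373 : act 1 n70869 = n32850 := d15_0 F107372 F107370 (iv2 F107351)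
theorem E9641 : n67923 = n65573 := (c18_2 (iv1 F50160) D67923 (iv1 D65573) F49195 (iv5 F41975) (iv4 F52022) F107372 (iv4 D70873) F51998 F51756)
theorem F107374 : act 4 n65573 = n31581 := (sb E9641 (iv4 D67923))
def n70874 : Q := act 0 n32843
theorem D70874 : act 0 n32843 = n70874 := rfl
def n70875 : Q := act 1 n32843
theorem D70875 : act 1 n32843 = n70875 := rfl
def n70876 : Q := act 7 n32843
theorem D70876 : act 7 n32843 = n70876 := rfl
theorem F107375 : act 3 n70876 = n32848 := d8_1 D70876 (iv7 D32848) (iv3 F52006)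
theorem F107376 : act 5 n70876 = n62866 := d13_1 D70876 (iv7 D62866) (iv5 F52007)
theorem F107377 : act 6 n70876 = n70378 := d14_1 D70876 (iv7 D70378) (iv6 D32667) (iv7 F26830) D32843
def n70877 : Q := act 0 n32844
theorem D70877 : act 0 n32844 = n70877 := rfl
theorem F107378 : act 2 n37266 = n70877 := d15_3 (iv0 D70877) (iv0 F61781) F61780
theorem F107379 : act 1 n70380 = n70877 := d15_0 (iv0 D70877) F52009 D70380
theorem F107380 : act 4 n70877 = n56943 := d1_2 (iv4 F58216) F107378 (iv2 D56943)
theorem F107381 : act 7 n70877 = n70379 := d4_2 F61780 F107378 (iv2 F106864)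
theorem F107382 : act 1 n40678 = n70380 := d15_0 F107379 F107381 (iv2 F106864)
def n70878 : Q := act 2 n32844
theorem D70878 : act 2 n32844 = n70878 := rfl
theorem F107383 : act 3 n70878 = n70358 := d0_2 D32844 D70878 (iv2 D70358) (iv3 D32660) F26881
theorem F107384 : act 4 n70878 = n57103 := d1_2 F52724 D70878 F90152
theorem F107385 : act 5 n70878 = n70247 := d2_2 (iv5 F52008) D70878 (iv2 D70247)
theorem F107386 : act 7 n70878 = n70380 := d4_2 (iv7 F52009) D70878 (iv2 D70380)
theorem F107387 : act 1 n70878 = n70379 := d15_0 (iv0 D70379) (iv7 F52009) D70878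
theorem F107388 : act 1 n37266 = n70878 := d15_0 F107387 (iv7 F107381) (iv2 F107378)
def n70879 : Q := act 6 n32844
theorem D70879 : act 6 n32844 = n70879 := rfl
theorem F107389 : act 3 n70879 = n32845 := d7_1 D70879 (iv6 D32845) D32844
def n70880 : Q := act 0 n32845
theorem D70880 : act 0 n32845 = n70880 := rfl
def n70881 : Q := act 1 n32845
theorem D70881 : act 1 n32845 = n70881 := rfl
theorem F107390 : act 1 n70881 = n70363 := d15_1 D70881 (iv7 D70363) (iv2 F52010)
def n70883 : Q := act 7 n32845
theorem D70883 : act 7 n32845 = n70883 := rfl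
theorem F107393 : act 2 n70883 = n70363 := d4_1 D70883 (iv7 D70363) (iv2 F52010)
theorem F107394 : act 4 n70883 = n32848 := d11_1 D70883 (iv7 D32848) (iv4 F52011)
theorem F107396 : act 1 n70363 = n70880 := d15_0 (iv0 D70880) D70883 F107393
theorem F107397 : act 1 n70361 = n70883 := d15_1 D70361 (iv7 D70883) F52010
theorem F107398 : act 1 n70883 = n70360 := d15_0 (iv0 D70360) D70363 (iv2 F107393)
def n70885 : Q := act 3 n32846
theorem D70885 : act 3 n32846 = n70885 := rfl
def n70887 : Q := act 5 n32846
theorem D70887 : act 5 n32846 = n70887 := rfl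
theorem F107400 : act 0 n70887 = n37015 := d21_1 D70887 (iv5 F85905) (iv6 D54416) (iv1 D26317) F20843 (iv5 D5952) (iv1 F10670) F26514 D15811 D32846
theorem F107401 : act 1 n70887 = n70815 := d15_1 (iv0 F107400) (iv7 D70815) (iv2 F57944)
def n70888 : Q := act 6 n32846
theorem D70888 : act 6 n32846 = n70888 := rfl
theorem F107402 : act 5 n70888 = n32926 := d21_6 (iv5 D5952) (iv1 F10670) F26514 D15811 D32846 D70888 (iv1 D32926) (iv5 F41700) (iv6 D26259) F26416
theorem F107403 : act 0 n35666 = n70888 := d21_4 (iv5 D12515) F41759 D17284 D35666 (iv6 D70888) D70887 F107400 (iv5 F85905) (iv6 D54416) (iv1 D26317)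
def n70890 : Q := act 3 n32847
theorem D70890 : act 3 n32847 = n70890 := rfl
def n70891 : Q := act 4 n32847
theorem D70891 : act 4 n32847 = n70891 := rfl
def n70892 : Q := act 6 n32847
theorem D70892 : act 6 n32847 = n70892 := rfl
theorem F107406 : act 0 n70892 = n70280 := d21_10 (iv5 D70280) (iv1 F85761) F85757 F41721 (iv1 F41932) D54416 F85905 F97975 F97974 D70892
def n70893 : Q := act 0 n32849
theorem D70893 : act 0 n32849 = n70893 := rfl
theorem F107407 : act 1 n70548 = n70893 := d15_0 (iv0 D70893) F52020 D70548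
def n70894 : Q := act 1 n32849
theorem D70894 : act 1 n32849 = n70894 := rfl
def n70895 : Q := act 2 n32849
theorem D70895 : act 2 n32849 = n70895 := rfl
theorem F107408 : act 3 n70895 = n38551 := d0_2 D32849 D70895 F59380 (iv3 D32737) F26746
theorem F107409 : act 5 n70895 = n70262 := d2_2 (iv5 F52019) D70895 (iv2 D70262)
theorem F107410 : act 7 n70895 = n70548 := d4_2 (iv7 F52020) D70895 (iv2 D70548)
theorem F107411 : act 1 n70895 = n70546 := d15_0 (iv0 D70546) (iv7 F52020) D70895
theorem F107412 : act 1 n70894 = n70548 := d15_1 D70894 (iv7 F107410) (iv2 D70895)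
theorem F107413 : act 1 n70547 = n70895 := d15_1 D70547 F107410 (iv2 D70548)
def n70896 : Q := act 6 n32849
theorem D70896 : act 6 n32849 = n70896 := rfl
theorem F107414 : act 3 n70896 = n32850 := d7_1 D70896 (iv6 D32850) D32849
def n70897 : Q := act 5 n32850
theorem D70897 : act 5 n32850 = n70897 := rfl
def n70898 : Q := act 7 n32850
theorem D70898 : act 7 n32850 = n70898 := rfl
theorem F107417 : act 2 n70898 = n70576 := d4_1 D70898 (iv7 D70576) (iv2 F52021)
theorem F107418 : act 4 n70898 = n54426 := d11_1 D70898 (iv7 D54426) (iv4 F52022)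
theorem F107420 : act 1 n70574 = n70898 := d15_1 D70574 (iv7 D70898) F52021
theorem E9642 : n70574 = n70390 := ((c18_6 (iv1 F85669) (iv4 F105827) (iv1 D69528) (iv4 F77149) F77150 D70390 F107420 F107418 F85953 F85951)).symm
theorem F107421 : act 0 n70390 = n32738 := (sb E9642 (iv1 D70574))
theorem F107422 : act 1 n70390 = n70898 := (sb E9642 F107420)
theorem F107423 : act 1 n70898 = n70387 := d15_1 F107422 (iv7 F107370) F107368
theorem E9643 : n70573 = n70387 := ((c15_1 F107423 (iv0 D70573) D70576 (iv2 F107417))).symm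
theorem F107424 : act 1 n70387 = n32738 := (sb E9643 (iv0 D70573))
theorem E9644 : n68464 = n66856 := (c18_2 D31858 D68464 (iv1 F102718) F101293 (iv5 F85944) (iv4 F107418) F107423 (iv4 D70387) (iv0 D32670) F26490)
theorem F107425 : act 4 n66856 = n31858 := (sb E9644 (iv4 D68464))
theorem E9645 : n68469 = n66857 := ((c18_7 (iv1 F52004) D70390 F107421 F51824 F25141 (iv4 F49506) D66857 (iv4 D68469) F50156 (iv5 F52001))).symm
theorem F107426 : act 4 n66857 = n31859 := (sb E9645 (iv4 D68469))
def n70899 : Q := act 0 n32851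
theorem D70899 : act 0 n32851 = n70899 := rfl
theorem F107427 : act 5 n70899 = n52887 := d17_1 D70899 (iv1 F83579) D52908 F83610 F42575 (iv0 D16762) D16765 (iv0 F29542) (iv4 F52023)
theorem F107428 : act 4 n70899 = n36573 := d18_1 D70899 (iv1 F57445) (iv4 F58220) (iv5 F58221) (iv4 F42847) F42846 D54785 F86678 (iv5 F52024)
theorem F107429 : act 1 n38551 = n70899 := d15_0 (iv0 D70899) F52025 (iv2 F59380)
theorem F107430 : act 2 n70571 = n70899 := d1_3 F107428 F60264 (iv4 F107039)
theorem F107431 : act 7 n70570 = n70899 := d11_0 F107428 F60259 (iv4 F107035)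
def n70900 : Q := act 1 n32851
theorem D70900 : act 1 n32851 = n70900 := rfl
theorem F107432 : act 1 n70900 = n38551 := d15_1 D70900 (iv7 F83663) F83661
theorem F107433 : act 7 n70900 = n70571 := d15_2 (iv0 D70899) D70900 F107430
theorem F107434 : act 5 n70900 = n52888 := d17_7 F26967 (iv5 D15243) D15240 (iv5 F40612) F51661 (iv5 F52024) D70900 F83580 (iv4 D25685)
theorem F107435 : act 4 n70900 = n36574 := d18_7 (iv1 F42541) (iv4 F46074) F46072 F22808 D18367 (iv4 F52023) D70900 F57446 (iv5 D26570)
theorem F107436 : act 2 n70570 = n70900 := d1_3 F107435 (iv2 F60260) (iv4 F107035)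
theorem F107437 : act 3 n37319 = n70900 := d20_5 (iv4 D21154) F15940 F13963 D17926 D37319 F107435 (iv1 D36574) (iv4 F33931) (iv3 D21560) (iv1 F33386)
theorem F107438 : act 7 n45207 = n37319 := d8_0 F107437 F107433 (iv3 F107040)
theorem F107439 : act 2 n37319 = n45208 := d15_3 F71250 F71245 F107438
theorem F107440 : act 2 n45207 = n37320 := d15_3 F71251 F71249 (iv7 F107438)
theorem F107441 : act 7 n37320 = n45208 := d4_2 (iv7 F107438) F107440 (iv2 F107439)
def n70901 : Q := act 6 n32851
theorem D70901 : act 6 n32851 = n70901 := rfl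
theorem F107442 : act 3 n70901 = n32852 := d7_1 D70901 (iv6 D32852) D32851
theorem F107443 : act 4 n70901 = n38560 := d10_1 D70901 (iv6 D38560) (iv4 F52023)
def n70902 : Q := act 0 n32852
theorem D70902 : act 0 n32852 = n70902 := rfl
def n70903 : Q := act 1 n32852
theorem D70903 : act 1 n32852 = n70903 := rfl
theorem F107444 : act 1 n70903 = n70553 := d15_1 D70903 (iv7 D70553) (iv2 F52026)
def n70904 : Q := act 5 n32852
theorem D70904 : act 5 n32852 = n70904 := rfl
theorem F107445 : act 2 n70904 = n70552 := d2_1 D70904 (iv5 D70552) (iv2 F52026)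
def n70905 : Q := act 7 n32852
theorem D70905 : act 7 n32852 = n70905 := rfl
theorem F107447 : act 2 n70905 = n70553 := d4_1 D70905 (iv7 D70553) (iv2 F52026)
theorem F107448 : act 4 n70905 = n54424 := d11_1 D70905 (iv7 D54424) (iv4 F52027)
theorem F107450 : act 1 n70553 = n70902 := d15_0 (iv0 D70902) D70905 F107447
theorem F107451 : act 1 n70551 = n70905 := d15_1 D70551 (iv7 D70905) F52026
theorem F107452 : act 1 n70905 = n70550 := d15_0 (iv0 D70550) D70553 (iv2 F107447)
def n70906 : Q := act 0 n32853
theorem D70906 : act 0 n32853 = n70906 := rfl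
def n70907 : Q := act 1 n32853
theorem D70907 : act 1 n32853 = n70907 := rfl
theorem F107453 : act 1 n70907 = n68610 := d15_1 D70907 (iv7 D68610) (iv2 F52028)
def n70908 : Q := act 5 n32853
theorem D70908 : act 5 n32853 = n70908 := rfl
theorem F107454 : act 2 n70908 = n68609 := d2_1 D70908 (iv5 D68609) (iv2 F52028)
theorem F107455 : act 3 n70908 = n37345 := d6_1 D70908 (iv5 D37345) (iv3 F52029)
theorem F107456 : act 6 n70908 = n32856 := d12_2 D32853 D70908 (iv5 D32856) (iv6 D15815) D15814
def n70909 : Q := act 7 n32853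
theorem D70909 : act 7 n32853 = n70909 := rfl
theorem F107457 : act 2 n70909 = n68610 := d4_1 D70909 (iv7 D68610) (iv2 F52028)
theorem F107458 : act 3 n70909 = n37346 := d8_1 D70909 (iv7 D37346) (iv3 F52029)
theorem F107459 : act 4 n70909 = n54029 := d11_1 D70909 (iv7 D54029) (iv4 F52030)
theorem F107460 : act 1 n68610 = n70906 := d15_0 (iv0 D70906) D70909 F107457
theorem F107461 : act 1 n68607 = n70909 := d15_1 D68607 (iv7 D70909) F52028
theorem F107462 : act 0 n68934 = n70909 := d18_2 D32056 D68934 F107459 F85236 (iv4 F84667) F84671 (iv4 F105815) (iv0 D15120) D15122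
theorem E9646 : n68934 = n68606 := (c15_1 (iv0 F107462) (iv0 D68606) D68610 (iv2 F107457))
theorem F107463 : act 0 n68606 = n70909 := (sb E9646 F107462)
theorem F107464 : act 4 n68606 = n32056 := (sb E9646 (iv4 D68934))
def n70910 : Q := act 2 n32854
theorem D70910 : act 2 n32854 = n70910 := rfl
theorem F107465 : act 7 n32855 = n70910 := d15_2 (iv0 D32854) D32855 (iv2 D70910)
def n70911 : Q := act 3 n32854
theorem D70911 : act 3 n32854 = n70911 := rfl
def n70912 : Q := act 4 n32854
theorem D70912 : act 4 n32854 = n70912 := rfl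
def n70913 : Q := act 5 n32854
theorem D70913 : act 5 n32854 = n70913 := rfl
def n70914 : Q := act 6 n32854
theorem D70914 : act 6 n32854 = n70914 := rfl
def n70915 : Q := act 7 n32854
theorem D70915 : act 7 n32854 = n70915 := rfl
theorem F107466 : act 2 n70915 = n32855 := d4_1 D70915 F107465 (iv2 D70910)
def n70916 : Q := act 3 n32855
theorem D70916 : act 3 n32855 = n70916 := rfl
def n70917 : Q := act 4 n32855
theorem D70917 : act 4 n32855 = n70917 := rfl
theorem F107467 : act 3 n33209 = n70917 := d20_5 (iv4 F41745) (iv1 F9623) (iv4 F11754) (iv3 F25593) (iv1 F52434) (iv4 D70917) (iv1 D32855) F25313 F11706 D7426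
def n70918 : Q := act 5 n32855
theorem D70918 : act 5 n32855 = n70918 := rfl
def n70919 : Q := act 6 n32855
theorem D70919 : act 6 n32855 = n70919 := rfl
def n70920 : Q := act 0 n32856
theorem D70920 : act 0 n32856 = n70920 := rfl
def n70921 : Q := act 1 n32856
theorem D70921 : act 1 n32856 = n70921 := rfl
def n70922 : Q := act 4 n32856
theorem D70922 : act 4 n32856 = n70922 := rfl
def n70923 : Q := act 7 n32856
theorem D70923 : act 7 n32856 = n70923 := rfl
theorem F107469 : act 5 n70923 = n32857 := d13_1 D70923 (iv7 D32857) D32856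
def n70925 : Q := act 1 n32858
theorem D70925 : act 1 n32858 = n70925 := rfl
theorem F107471 : act 1 n70925 = n32863 := d15_1 D70925 (iv7 D32863) D32858
def n70926 : Q := act 3 n32858
theorem D70926 : act 3 n32858 = n70926 := rfl
theorem F107472 : act 7 n70926 = n32864 := d8_2 F52034 D70926 (iv3 D32864)
def n70927 : Q := act 4 n32858
theorem D70927 : act 4 n32858 = n70927 := rfl
theorem F107473 : act 2 n70927 = n32860 := d1_1 D70927 (iv4 D32860) D32858
theorem F107474 : act 7 n70927 = n32865 := d11_2 F52034 D70927 (iv4 D32865)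
def n70928 : Q := act 5 n32858
theorem D70928 : act 5 n32858 = n70928 := rfl
theorem F107475 : act 2 n70928 = n32861 := d2_1 D70928 (iv5 D32861) D32858
theorem F107476 : act 7 n70928 = n32866 := d13_2 F52034 D70928 (iv5 D32866)
def n70929 : Q := act 6 n32858
theorem D70929 : act 6 n32858 = n70929 := rfl
theorem F107477 : act 2 n70929 = n32862 := d3_1 D70929 (iv6 D32862) D32858
theorem F107478 : act 5 n70281 = n70929 := d2_0 F107477 F52035 (iv2 F106719)
theorem F107479 : act 7 n70929 = n70280 := d13_2 D70281 F107478 (iv5 D70280)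
def n70930 : Q := act 0 n32859
theorem D70930 : act 0 n32859 = n70930 := rfl
def n70931 : Q := act 1 n32859
theorem D70931 : act 1 n32859 = n70931 := rfl
def n70932 : Q := act 2 n32859
theorem D70932 : act 2 n32859 = n70932 := rfl
def n70933 : Q := act 4 n32859
theorem D70933 : act 4 n32859 = n70933 := rfl
theorem F107480 : act 0 n70933 = n54691 := d20_7 (iv4 F29135) (iv1 D3790) (iv4 F5400) (iv3 F11706) D15816 D32859 D70933 F86509 F42314 (iv1 F21035)
theorem F107481 : act 0 n54658 = n70933 := d20_7 (iv4 F107322) (iv1 F107324) D70917 (iv3 F107467) (iv1 D33209) (iv3 F42256) (iv4 F86442) (iv4 D70933) (iv3 D32859) (iv1 F51991)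
def n70934 : Q := act 5 n32859
theorem D70934 : act 5 n32859 = n70934 := rfl
theorem F107482 : act 3 n70934 = n32861 := d6_1 D70934 (iv5 D32861) D32859
def n70935 : Q := act 6 n32859
theorem D70935 : act 6 n32859 = n70935 := rfl
theorem F107483 : act 3 n70935 = n32862 := d7_1 D70935 (iv6 D32862) D32859
theorem F107484 : act 5 n70282 = n70935 := d6_0 F107483 F52035 D70282
def n70936 : Q := act 7 n32859
theorem D70936 : act 7 n32859 = n70936 := rfl
theorem F107485 : act 3 n70936 = n32863 := d8_1 D70936 (iv7 D32863) D32859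
def n70937 : Q := act 0 n32860
theorem D70937 : act 0 n32860 = n70937 := rfl
def n70938 : Q := act 1 n32860
theorem D70938 : act 1 n32860 = n70938 := rfl
theorem F107486 : act 1 n70938 = n32865 := d15_1 D70938 (iv7 F107474) F107473
def n70939 : Q := act 3 n32860
theorem D70939 : act 3 n32860 = n70939 := rfl
def n70940 : Q := act 5 n32860
theorem D70940 : act 5 n32860 = n70940 := rfl
def n70941 : Q := act 6 n32860
theorem D70941 : act 6 n32860 = n70941 := rfl
def n70942 : Q := act 7 n32860
theorem D70942 : act 7 n32860 = n70942 := rfl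
theorem F107488 : act 2 n70942 = n32865 := d4_1 D70942 (iv7 F107474) F107473
theorem F107489 : act 4 n70942 = n32863 := d11_1 D70942 (iv7 D32863) D32860
theorem F107490 : act 1 n32865 = n70937 := d15_0 (iv0 D70937) D70942 F107488
def n70943 : Q := act 0 n32861
theorem D70943 : act 0 n32861 = n70943 := rfl
theorem F107491 : act 5 n70943 = n70425 := d21_2 D32861 D70943 (iv6 D70425) (iv1 D32684) (iv6 D15568) (iv5 F25799) (iv1 D3395) D3397 D7421 D15816
def n70944 : Q := act 1 n32861
theorem D70944 : act 1 n32861 = n70944 := rfl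
theorem F107492 : act 1 n70944 = n32866 := d15_1 D70944 (iv7 F107476) F107475
def n70945 : Q := act 4 n32861
theorem D70945 : act 4 n32861 = n70945 := rfl
def n70946 : Q := act 6 n32861
theorem D70946 : act 6 n32861 = n70946 := rfl
theorem F107493 : act 5 n70946 = n70284 := d12_1 D70946 (iv6 D70284) (iv5 F52035) (iv6 D32862) D32861
def n70947 : Q := act 7 n32861
theorem D70947 : act 7 n32861 = n70947 := rfl
theorem F107495 : act 2 n70947 = n32866 := d4_1 D70947 (iv7 F107476) F107475
theorem F107496 : act 5 n70947 = n32863 := d13_1 D70947 (iv7 D32863) D32861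
theorem F107497 : act 1 n32866 = n70943 := d15_0 (iv0 D70943) D70947 F107495
def n70948 : Q := act 0 n32862
theorem D70948 : act 0 n32862 = n70948 := rfl
def n70949 : Q := act 1 n32862
theorem D70949 : act 1 n32862 = n70949 := rfl
theorem F107498 : act 1 n70949 = n70280 := d15_1 D70949 (iv7 F107479) F107477
theorem F107499 : act 6 n70502 = n70949 := d21_3 (iv5 F42042) D54495 F106959 (iv1 D70949) (iv6 D32862) D32861 D70943 F107491 (iv6 D70425) (iv1 D32684)
def n70950 : Q := act 7 n32862
theorem D70950 : act 7 n32862 = n70950 := rfl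
theorem F107500 : act 2 n70950 = n70280 := d4_1 D70950 (iv7 F107479) F107477
theorem F107501 : act 5 n70950 = n70277 := d13_1 D70950 (iv7 F106718) (iv5 F52035)
theorem E9647 : n70948 = n70892 := ((c15_1 (iv0 F107406) (iv0 D70948) D70950 F107500)).symm
theorem F107502 : act 1 n70892 = n32862 := (sb E9647 (iv0 D70948))
def n70951 : Q := act 6 n32863
theorem D70951 : act 6 n32863 = n70951 := rfl
theorem F107503 : act 2 n70951 = n32867 := d3_1 D70951 (iv6 D32867) (iv2 F52036)
def n70952 : Q := act 0 n32864
theorem D70952 : act 0 n32864 = n70952 := rfl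
def n70953 : Q := act 1 n32864
theorem D70953 : act 1 n32864 = n70953 := rfl
def n70954 : Q := act 2 n32864
theorem D70954 : act 2 n32864 = n70954 := rfl
def n70955 : Q := act 4 n32864
theorem D70955 : act 4 n32864 = n70955 := rfl
def n70956 : Q := act 5 n32864
theorem D70956 : act 5 n32864 = n70956 := rfl
theorem F107504 : act 3 n70956 = n32866 := d6_1 D70956 (iv5 D32866) D32864
def n70957 : Q := act 6 n32864
theorem D70957 : act 6 n32864 = n70957 := rfl
theorem F107505 : act 3 n70957 = n32867 := d7_1 D70957 (iv6 D32867) D32864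
def n70958 : Q := act 3 n32865
theorem D70958 : act 3 n32865 = n70958 := rfl
def n70959 : Q := act 5 n32865
theorem D70959 : act 5 n32865 = n70959 := rfl
def n70960 : Q := act 6 n32865
theorem D70960 : act 6 n32865 = n70960 := rfl
theorem F107506 : act 4 n70960 = n32867 := d10_1 D70960 (iv6 D32867) D32865
def n70961 : Q := act 4 n32866
theorem D70961 : act 4 n32866 = n70961 := rfl
def n70962 : Q := act 0 n32867
theorem D70962 : act 0 n32867 = n70962 := rfl
def n70963 : Q := act 1 n32867
theorem D70963 : act 1 n32867 = n70963 := rfl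
def n70964 : Q := act 5 n32867
theorem D70964 : act 5 n32867 = n70964 := rfl
theorem F107507 : act 0 n70403 = n70964 := d21_1 D70403 (iv5 D70964) (iv6 D32867) (iv1 D15817) (iv6 D7421) (iv5 D3397) D3394 F25794 D15563 D32677
def n70965 : Q := act 7 n32867
theorem D70965 : act 7 n32867 = n70965 := rfl
theorem F107508 : act 6 n70965 = n70280 := d14_1 D70965 (iv7 F107479) (iv6 D70929) (iv7 F52034) D32867
theorem F107509 : act 5 n68568 = n70965 := d12_5 F107508 (iv5 D70280) F104758 (iv5 D68567) D68568
theorem F107510 : act 0 n70494 = n70965 := d21_4 (iv5 F41933) (iv1 F51778) (iv5 F51776) D70494 F107508 (iv5 D70280) (iv1 F85761) F85757 F41721 (iv1 F41932)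
theorem F107511 : act 0 n70965 = n70388 := d21_10 F106868 (iv1 D68339) F50104 (iv6 D15563) (iv1 F20765) D26257 F41696 D32616 D70280 (iv6 F107508)
theorem F107512 : act 1 n70951 = n70388 := d15_0 (iv0 F107511) (iv7 D70965) (iv2 F107503)
theorem F107513 : act 7 n70964 = n68568 := d13_0 F107509 (iv7 D70965) D70964
def n70966 : Q := act 3 n32868
theorem D70966 : act 3 n32868 = n70966 := rfl
def n70967 : Q := act 4 n32868
theorem D70967 : act 4 n32868 = n70967 := rfl
def n70968 : Q := act 6 n32868
theorem D70968 : act 6 n32868 = n70968 := rfl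
theorem F107514 : act 7 n70968 = n39612 := d14_2 (iv7 F87461) D70968 (iv6 D39612) (iv7 F44980) F87451
theorem F107515 : act 5 n70968 = n61599 := d21_6 (iv5 D13579) F26426 D7424 (iv6 F25315) D32868 D70968 (iv1 D61599) (iv5 F53353) (iv6 D34021) F25953
def n70969 : Q := act 3 n32869
theorem D70969 : act 3 n32869 = n70969 := rfl
theorem F107516 : act 6 n70969 = n39613 := d7_2 F57135 D70969 (iv3 D39613)
def n70970 : Q := act 4 n32869
theorem D70970 : act 4 n32869 = n70970 := rfl
theorem F107517 : act 6 n70970 = n39614 := d10_2 F57135 D70970 (iv4 D39614)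
def n70971 : Q := act 0 n32870
theorem D70971 : act 0 n32870 = n70971 := rfl
def n70972 : Q := act 1 n32870
theorem D70972 : act 1 n32870 = n70972 := rfl
def n70973 : Q := act 3 n32870
theorem D70973 : act 3 n32870 = n70973 := rfl
theorem F107519 : act 6 n70973 = n32880 := d7_2 (iv6 F52037) D70973 (iv3 D32880)
def n70974 : Q := act 5 n32870
theorem D70974 : act 5 n32870 = n70974 := rfl
def n70975 : Q := act 7 n32870
theorem D70975 : act 7 n32870 = n70975 := rfl
theorem F107520 : act 4 n70975 = n32871 := d11_1 D70975 (iv7 D32871) D32870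
def n70976 : Q := act 4 n32872
theorem D70976 : act 4 n32872 = n70976 := rfl
theorem F107521 : act 7 n70976 = n54719 := d11_2 (iv7 F52041) D70976 (iv4 F86526)
theorem F107522 : act 0 n70976 = n54722 := d18_2 F77019 D70976 F86528 F42319 (iv4 F42298) (iv0 F42300) F27611 D16884 D34832
theorem F107523 : act 1 n70976 = n54666 := d18_6 F55631 (iv4 F82996) (iv1 F94173) (iv4 F94176) (iv5 F52040) D70976 (iv4 D54666) (iv0 F55642) (iv5 D35034)
theorem F107524 : act 2 n70976 = n54718 := d15_3 (iv0 D54718) D54719 (iv7 F107521)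
theorem F107525 : act 4 n54718 = n60124 := d1_2 D70976 F107524 (iv2 F94684)
def n70977 : Q := act 6 n32872
theorem D70977 : act 6 n32872 = n70977 := rfl
theorem F107526 : act 3 n70977 = n32874 := d7_1 D70977 (iv6 D32874) D32872
theorem F107527 : act 5 n70977 = n32941 := d12_1 D70977 (iv6 D32941) F25330 D31682 (iv5 F52040)
def n70978 : Q := act 3 n32873
theorem D70978 : act 3 n32873 = n70978 := rfl
theorem F107528 : act 7 n70978 = n70221 := d8_2 (iv7 F52042) D70978 (iv3 D70221)
def n70979 : Q := act 6 n32873
theorem D70979 : act 6 n32873 = n70979 := rfl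
theorem F107529 : act 4 n70979 = n32874 := d10_1 D70979 (iv6 D32874) D32873
theorem F107530 : act 0 n70979 = n58444 := d21_4 F25917 (iv1 F53317) F53319 D70979 (iv6 D58444) (iv5 F87845) (iv1 F94950) (iv5 D60430) F46265 (iv1 F25918)
def n70980 : Q := act 6 n32875
theorem D70980 : act 6 n32875 = n70980 := rfl
theorem F107532 : act 5 n70980 = n35096 := d12_1 D70980 (iv6 D35096) (iv5 D17039) D17040 (iv5 F52047)
def n70981 : Q := act 3 n32876
theorem D70981 : act 3 n32876 = n70981 := rfl
theorem F107533 : act 5 n70981 = n70221 := d6_2 (iv5 F52049) D70981 (iv3 D70221)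
def n70982 : Q := act 6 n32876
theorem D70982 : act 6 n32876 = n70982 := rfl
theorem F107534 : act 2 n70982 = n70219 := d3_1 D70982 F106677 (iv2 F52048)
theorem F107535 : act 4 n70982 = n32877 := d10_1 D70982 (iv6 D32877) D32876
def n70983 : Q := act 0 n32877
theorem D70983 : act 0 n32877 = n70983 := rfl
def n70984 : Q := act 1 n32877
theorem D70984 : act 1 n32877 = n70984 := rfl
theorem F107536 : act 1 n70984 = n70220 := d15_1 D70984 (iv7 D70220) (iv2 F52052)
def n70985 : Q := act 7 n32877
theorem D70985 : act 7 n32877 = n70985 := rfl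
theorem F107538 : act 2 n70985 = n70220 := d4_1 D70985 (iv7 D70220) (iv2 F52052)
theorem F107539 : act 5 n70985 = n35103 := d13_1 D70985 (iv7 D35103) (iv5 F52053)
theorem F107541 : act 1 n70220 = n70983 := d15_0 (iv0 D70983) D70985 F107538
theorem F107542 : act 1 n70218 = n70985 := d15_1 D70218 (iv7 D70985) F52052
theorem F107543 : act 0 n70217 = n70985 := d21_10 F107539 (iv1 F55780) (iv5 F94940) (iv6 D60426) (iv1 F46252) D39590 (iv5 F77159) (iv1 F77161) D59993 (iv6 F106676)
def n70986 : Q := act 3 n32878
theorem D70986 : act 3 n32878 = n70986 := rfl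
theorem F107544 : act 7 n70986 = n70349 := d8_2 F52056 D70986 (iv3 D70349)
def n70987 : Q := act 6 n32878
theorem D70987 : act 6 n32878 = n70987 := rfl
theorem F107545 : act 4 n70987 = n33339 := d10_1 D70987 F52575 (iv4 F52054)
theorem F107546 : act 0 n70987 = n39768 := d21_4 (iv5 F42803) (iv1 F87358) F87355 D70987 (iv6 D39768) (iv5 F54950) (iv1 F54952) (iv5 D18713) (iv6 F21163) D26693
def n70988 : Q := act 3 n32879
theorem D70988 : act 3 n32879 = n70988 := rfl
theorem F107547 : act 5 n70988 = n70349 := d6_2 (iv5 F52058) D70988 (iv3 D70349)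
def n70989 : Q := act 6 n32879
theorem D70989 : act 6 n32879 = n70989 := rfl
theorem F107548 : act 2 n70989 = n70347 := d3_1 D70989 F106820 F52060
theorem F107549 : act 4 n70989 = n33974 := d10_1 D70989 (iv6 D33974) (iv4 F52059)
def n70992 : Q := act 2 n32880
theorem D70992 : act 2 n32880 = n70992 := rfl
def n70993 : Q := act 2 n32881
theorem D70993 : act 2 n32881 = n70993 := rfl
def n70994 : Q := act 3 n32881
theorem D70994 : act 3 n32881 = n70994 := rfl
def n70995 : Q := act 4 n32881
theorem D70995 : act 4 n32881 = n70995 := rfl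
def n70996 : Q := act 5 n32881
theorem D70996 : act 5 n32881 = n70996 := rfl
def n70997 : Q := act 6 n32881
theorem D70997 : act 6 n32881 = n70997 := rfl
def n70998 : Q := act 7 n32881
theorem D70998 : act 7 n32881 = n70998 := rfl
def n71003 : Q := act 4 n32883
theorem D71003 : act 4 n32883 = n71003 := rfl
theorem F107553 : act 2 n71003 = n32884 := d1_1 D71003 (iv4 D32884) D32883
def n71004 : Q := act 5 n32883
theorem D71004 : act 5 n32883 = n71004 := rfl
theorem F107554 : act 2 n71004 = n32885 := d2_1 D71004 (iv5 D32885) D32883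
def n71005 : Q := act 6 n32883
theorem D71005 : act 6 n32883 = n71005 := rfl
theorem F107555 : act 2 n71005 = n32886 := d3_1 D71005 (iv6 D32886) D32883
theorem F107556 : act 5 n70143 = n71005 := d2_0 F107555 (iv5 F52065) D70143
def n71006 : Q := act 0 n32884
theorem D71006 : act 0 n32884 = n71006 := rfl
def n71007 : Q := act 1 n32884
theorem D71007 : act 1 n32884 = n71007 := rfl
def n71008 : Q := act 5 n32884
theorem D71008 : act 5 n32884 = n71008 := rfl
def n71009 : Q := act 6 n32884
theorem D71009 : act 6 n32884 = n71009 := rfl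
theorem F107558 : act 3 n71009 = n56380 := d7_1 D71009 (iv6 D56380) (iv3 F52062)
theorem F107559 : act 4 n71009 = n32886 := d10_1 D71009 (iv6 D32886) D32884
def n71010 : Q := act 0 n32885
theorem D71010 : act 0 n32885 = n71010 := rfl
def n71011 : Q := act 1 n32885
theorem D71011 : act 1 n32885 = n71011 := rfl
def n71012 : Q := act 4 n32885
theorem D71012 : act 4 n32885 = n71012 := rfl
def n71013 : Q := act 6 n32885
theorem D71013 : act 6 n32885 = n71013 := rfl
theorem F107560 : act 3 n71013 = n32889 := d7_1 D71013 (iv6 D32889) (iv3 F52063)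
theorem F107561 : act 5 n71013 = n70145 := d12_1 D71013 (iv6 D70145) F52065 (iv6 D32886) D32885
def n71014 : Q := act 0 n32886
theorem D71014 : act 0 n32886 = n71014 := rfl
def n71015 : Q := act 1 n32886
theorem D71015 : act 1 n32886 = n71015 := rfl
def n71016 : Q := act 7 n32886
theorem D71016 : act 7 n32886 = n71016 := rfl
theorem F107562 : act 3 n71016 = n32892 := d8_1 D71016 (iv7 D32892) (iv3 F52064)
theorem F107563 : act 5 n71016 = n54350 := d13_1 D71016 F85762 F52065
def n71017 : Q := act 3 n32887
theorem D71017 : act 3 n32887 = n71017 := rfl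
theorem F107564 : act 5 n71017 = n39643 := d6_2 (iv5 F52068) D71017 F60533
theorem F107565 : act 7 n71017 = n58619 := d8_2 (iv7 F52067) D71017 F92586
def n71018 : Q := act 4 n32887
theorem D71018 : act 4 n32887 = n71018 := rfl
theorem F107567 : act 0 n71018 = n33310 := d17_0 F52544 (iv1 D32909) D32911 F52099 F42025 F20933 D15837 D32887 D71018
theorem F107568 : act 1 n71018 = n33321 := d18_6 D18697 F30363 F13689 (iv4 F30026) (iv5 F52068) D71018 (iv4 D33321) (iv0 F30361) (iv5 D18699)
def n71019 : Q := act 1 n32888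
theorem D71019 : act 1 n32888 = n71019 := rfl
theorem F107569 : act 1 n71019 = n32899 := d15_1 D71019 (iv7 F57630) F57629
theorem F107571 : act 4 n71019 = n39461 := d17_9 (iv1 F60380) (iv5 D26466) (iv1 F21034) (iv5 F25601) (iv4 F52568) F52569 (iv0 F52095) F52094 D71019
def n71020 : Q := act 3 n32888
theorem D71020 : act 3 n32888 = n71020 := rfl
def n71022 : Q := act 3 n32891
theorem D71022 : act 3 n32891 = n71022 := rfl
theorem F107573 : act 6 n71022 = n34747 := d7_2 F52072 D71022 (iv3 D34747)
theorem F107574 : act 7 n71022 = n69847 := d8_2 (iv7 F52073) D71022 F106266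
def n71024 : Q := act 3 n32893
theorem D71024 : act 3 n32893 = n71024 := rfl
def n71029 : Q := act 3 n32894
theorem D71029 : act 3 n32894 = n71029 := rfl
def n71033 : Q := act 4 n32895
theorem D71033 : act 4 n32895 = n71033 := rfl
theorem F107577 : act 2 n71033 = n32896 := d1_1 D71033 (iv4 D32896) D32895
def n71034 : Q := act 5 n32895
theorem D71034 : act 5 n32895 = n71034 := rfl
theorem F107578 : act 2 n71034 = n32897 := d2_1 D71034 (iv5 D32897) D32895
def n71035 : Q := act 6 n32895
theorem D71035 : act 6 n32895 = n71035 := rfl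
theorem F107579 : act 2 n71035 = n32898 := d3_1 D71035 (iv6 D32898) D32895
def n71036 : Q := act 0 n32896
theorem D71036 : act 0 n32896 = n71036 := rfl
def n71037 : Q := act 1 n32896
theorem D71037 : act 1 n32896 = n71037 := rfl
def n71038 : Q := act 5 n32896
theorem D71038 : act 5 n32896 = n71038 := rfl
def n71039 : Q := act 6 n32896
theorem D71039 : act 6 n32896 = n71039 := rfl
theorem F107581 : act 3 n71039 = n56401 := d7_1 D71039 (iv6 D56401) (iv3 F52079)
theorem F107582 : act 4 n71039 = n32898 := d10_1 D71039 (iv6 D32898) D32896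
def n71040 : Q := act 0 n32897
theorem D71040 : act 0 n32897 = n71040 := rfl
def n71041 : Q := act 1 n32897
theorem D71041 : act 1 n32897 = n71041 := rfl
def n71042 : Q := act 4 n32897
theorem D71042 : act 4 n32897 = n71042 := rfl
def n71043 : Q := act 0 n32898
theorem D71043 : act 0 n32898 = n71043 := rfl
def n71044 : Q := act 1 n32898
theorem D71044 : act 1 n32898 = n71044 := rfl
def n71045 : Q := act 5 n32898
theorem D71045 : act 5 n32898 = n71045 := rfl
theorem F107583 : act 3 n71045 = n32900 := d6_1 D71045 (iv5 D32900) (iv3 F52081)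
theorem F107584 : act 7 n60388 = n71045 := d8_0 F107583 (iv7 F52085) D60388
def n71046 : Q := act 7 n32898
theorem D71046 : act 7 n32898 = n71046 := rfl
theorem F107585 : act 3 n71046 = n32901 := d8_1 D71046 (iv7 D32901) (iv3 F52081)
theorem F107586 : act 5 n71046 = n60388 := d13_1 D71046 F107584 (iv5 D71045)
theorem F107587 : act 6 n71046 = n70138 := d14_1 D71046 F106523 (iv6 D36742) (iv7 F41752) D32898
def n71048 : Q := act 0 n32902
theorem D71048 : act 0 n32902 = n71048 := rfl
def n71049 : Q := act 1 n32902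
theorem D71049 : act 1 n32902 = n71049 := rfl
def n71050 : Q := act 2 n32902
theorem D71050 : act 2 n32902 = n71050 := rfl
def n71051 : Q := act 4 n32902
theorem D71051 : act 4 n32902 = n71051 := rfl
def n71052 : Q := act 6 n32902
theorem D71052 : act 6 n32902 = n71052 := rfl
theorem F107588 : act 3 n71052 = n32904 := d7_1 D71052 (iv6 D32904) D32902
theorem F107589 : act 5 n68111 = n71052 := d6_0 F107588 F52093 D68111
def n71054 : Q := act 6 n32903
theorem D71054 : act 6 n32903 = n71054 := rfl
theorem F107591 : act 4 n71054 = n32904 := d10_1 D71054 (iv6 D32904) D32903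
def n71055 : Q := act 0 n32904
theorem D71055 : act 0 n32904 = n71055 := rfl
def n71056 : Q := act 1 n32904
theorem D71056 : act 1 n32904 = n71056 := rfl
theorem F107592 : act 1 n71056 = n68110 := d15_1 D71056 F104258 F86022
def n71057 : Q := act 7 n32904
theorem D71057 : act 7 n32904 = n71057 := rfl
theorem F107593 : act 2 n71057 = n68110 := d4_1 D71057 F104258 F86022
theorem F107594 : act 5 n71057 = n34279 := d13_1 D71057 F86026 (iv5 F52093)
theorem F107595 : act 1 n68110 = n71055 := d15_0 (iv0 D71055) D71057 F107593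
def n71058 : Q := act 0 n32905
theorem D71058 : act 0 n32905 = n71058 := rfl
def n71059 : Q := act 1 n32905
theorem D71059 : act 1 n32905 = n71059 := rfl
def n71060 : Q := act 2 n32905
theorem D71060 : act 2 n32905 = n71060 := rfl
def n71061 : Q := act 4 n32905
theorem D71061 : act 4 n32905 = n71061 := rfl
def n71062 : Q := act 6 n32905
theorem D71062 : act 6 n32905 = n71062 := rfl
theorem F107596 : act 3 n71062 = n32907 := d7_1 D71062 (iv6 D32907) D32905
def n71063 : Q := act 3 n32906
theorem D71063 : act 3 n32906 = n71063 := rfl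
theorem F107597 : act 5 n71063 = n71020 := d6_2 (iv5 F52094) D71063 (iv3 D71020)
def n71064 : Q := act 6 n32906
theorem D71064 : act 6 n32906 = n71064 := rfl
theorem F107598 : act 4 n71064 = n32907 := d10_1 D71064 (iv6 D32907) D32906
def n71065 : Q := act 1 n32907
theorem D71065 : act 1 n32907 = n71065 := rfl
def n71066 : Q := act 7 n32907
theorem D71066 : act 7 n32907 = n71066 := rfl
theorem F107599 : act 5 n71066 = n54435 := d13_1 D71066 F85971 F56344
theorem F107600 : act 6 n71066 = n68110 := d14_1 D71066 F104258 (iv6 D54480) (iv7 F42015) D32907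
def n71067 : Q := act 3 n32908
theorem D71067 : act 3 n32908 = n71067 := rfl
def n71068 : Q := act 6 n32908
theorem D71068 : act 6 n32908 = n71068 := rfl
theorem F107601 : act 4 n71068 = n33323 := d10_1 D71068 (iv6 D33323) (iv4 F52096)
def n71069 : Q := act 3 n32909
theorem D71069 : act 3 n32909 = n71069 := rfl
def n71070 : Q := act 6 n32909
theorem D71070 : act 6 n32909 = n71070 := rfl
theorem F107602 : act 4 n71070 = n33325 := d10_1 D71070 (iv6 D33325) (iv4 F52097)
def n71074 : Q := act 5 n32910
theorem D71074 : act 5 n32910 = n71074 := rfl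
theorem F107604 : act 3 n71074 = n32911 := d6_1 D71074 (iv5 D32911) D32910
def n71076 : Q := act 6 n32911
theorem D71076 : act 6 n32911 = n71076 := rfl
theorem F107608 : act 4 n71076 = n54486 := d10_1 D71076 (iv6 D54486) (iv4 F52099)
theorem F107609 : act 5 n71076 = n32966 := d12_1 D71076 (iv6 D32966) (iv5 D15871) (iv6 F25324) D32911
theorem F107610 : act 7 n71076 = n32966 := d14_2 (iv7 F52100) D71076 (iv6 D32966) F25340 (iv6 F42023)
def n71077 : Q := act 6 n32912
theorem D71077 : act 6 n32912 = n71077 := rfl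
theorem F107611 : act 2 n71077 = n71076 := d3_1 D71077 (iv6 D71076) (iv2 F52103)
theorem F107612 : act 4 n71077 = n32913 := d10_1 D71077 (iv6 D32913) (iv4 F52104)
theorem F107613 : act 5 n71077 = n32967 := d12_1 D71077 (iv6 D32967) F25345 (iv6 F42023) (iv5 F52105)
theorem F107614 : act 7 n71077 = n32967 := d14_2 D32912 D71077 (iv6 D32967) (iv7 D15872) (iv6 F25324)
def n71078 : Q := act 5 n32914
theorem D71078 : act 5 n32914 = n71078 := rfl
def n71079 : Q := act 4 n32915
theorem D71079 : act 4 n32915 = n71079 := rfl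
def n71080 : Q := act 6 n32915
theorem D71080 : act 6 n32915 = n71080 := rfl
theorem F107615 : act 5 n71080 = n62760 := d12_1 D71080 (iv6 D62760) (iv5 D29686) (iv6 F54230) D32915
def n71081 : Q := act 4 n32916
theorem D71081 : act 4 n32916 = n71081 := rfl
theorem F107616 : act 2 n71081 = n32920 := d1_1 D71081 (iv4 D32920) (iv2 F52109)
theorem F107617 : act 1 n71081 = n55236 := d18_6 (iv1 F41479) D26683 (iv1 F42763) (iv4 F26996) D32916 D71081 (iv4 D55236) (iv0 F85316) (iv5 D54071)
def n71082 : Q := act 6 n32916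
theorem D71082 : act 6 n32916 = n71082 := rfl
theorem F107618 : act 2 n71082 = n32921 := d3_1 D71082 (iv6 D32921) (iv2 F52109)
def n71083 : Q := act 1 n32917
theorem D71083 : act 1 n32917 = n71083 := rfl
theorem F107619 : act 1 n71083 = n68653 := d15_1 D71083 F104862 F52278
def n71084 : Q := act 4 n32917
theorem D71084 : act 4 n32917 = n71084 := rfl
def n71085 : Q := act 6 n32917
theorem D71085 : act 6 n32917 = n71085 := rfl
theorem F107620 : act 3 n71085 = n60027 := d7_1 D71085 (iv6 D60027) (iv3 F52110)
theorem F107621 : act 5 n71085 = n54671 := d12_1 D71085 (iv6 D54671) (iv5 D26442) (iv6 F26994) D32917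
def n71086 : Q := act 4 n32918
theorem D71086 : act 4 n32918 = n71086 := rfl
theorem F107622 : act 0 n33016 = n71086 := d20_1 D33016 (iv4 D71086) F94436 (iv1 D59950) F45997 D28488 F46010 (iv4 D26691) D26690 F54571
def n71087 : Q := act 6 n32918
theorem D71087 : act 6 n32918 = n71087 := rfl
def n71088 : Q := act 3 n32919
theorem D71088 : act 3 n32919 = n71088 := rfl
def n71089 : Q := act 4 n32919
theorem D71089 : act 4 n32919 = n71089 := rfl
theorem F107623 : act 0 n71089 = n33016 := d18_2 F77267 D71089 (iv4 D33016) (iv5 D15911) (iv4 F25376) (iv0 F51154) F37299 D23895 D48976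
def n71090 : Q := act 6 n32919
theorem D71090 : act 6 n32919 = n71090 := rfl
def n71091 : Q := act 1 n32920
theorem D71091 : act 1 n32920 = n71091 := rfl
theorem F107624 : act 4 n71091 = n54650 := d18_7 (iv1 F42240) F43614 F42404 (iv4 D15851) D15852 D32920 D71091 F86408 (iv5 D31932)
theorem F107625 : act 2 n55236 = n71091 := d1_3 F107624 F86411 D55236
def n71092 : Q := act 3 n32920
theorem D71092 : act 3 n32920 = n71092 := rfl
def n71093 : Q := act 5 n32920
theorem D71093 : act 5 n32920 = n71093 := rfl
def n71094 : Q := act 6 n32920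
theorem D71094 : act 6 n32920 = n71094 := rfl
theorem F107627 : act 4 n71094 = n32921 := d10_1 D71094 (iv6 D32921) D32920
def n71095 : Q := act 0 n32921
theorem D71095 : act 0 n32921 = n71095 := rfl
def n71096 : Q := act 1 n32921
theorem D71096 : act 1 n32921 = n71096 := rfl
def n71097 : Q := act 7 n32921
theorem D71097 : act 7 n32921 = n71097 := rfl
theorem F107628 : act 3 n71097 = n32927 := d8_1 D71097 (iv7 D32927) (iv3 F52111)
def n71098 : Q := act 3 n32922
theorem D71098 : act 3 n32922 = n71098 := rfl
def n71099 : Q := act 6 n32922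
theorem D71099 : act 6 n32922 = n71099 := rfl
theorem F107629 : act 4 n71099 = n34306 := d10_1 D71099 F54438 (iv4 F52112)
def n71100 : Q := act 0 n32923
theorem D71100 : act 0 n32923 = n71100 := rfl
def n71103 : Q := act 6 n32923
theorem D71103 : act 6 n32923 = n71103 := rfl
theorem F107630 : act 3 n71103 = n32924 := d7_1 D71103 (iv6 D32924) D32923
def n71104 : Q := act 0 n32924
theorem D71104 : act 0 n32924 = n71104 := rfl
def n71105 : Q := act 1 n32924
theorem D71105 : act 1 n32924 = n71105 := rfl
def n71107 : Q := act 7 n32924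
theorem D71107 : act 7 n32924 = n71107 := rfl
theorem F107631 : act 4 n71107 = n32927 := d11_1 D71107 (iv7 D32927) (iv4 F52114)
def n71108 : Q := act 2 n32925
theorem D71108 : act 2 n32925 = n71108 := rfl
theorem F107632 : act 7 n32926 = n71108 := d15_2 (iv0 D32925) D32926 (iv2 D71108)
def n71109 : Q := act 3 n32925
theorem D71109 : act 3 n32925 = n71109 := rfl
def n71110 : Q := act 4 n32925
theorem D71110 : act 4 n32925 = n71110 := rfl
def n71111 : Q := act 5 n32925
theorem D71111 : act 5 n32925 = n71111 := rfl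
theorem F107633 : act 0 n71111 = n35666 := d21_1 D71111 F56344 (iv6 D32907) (iv1 D15845) F11710 (iv5 D3402) D3400 D7433 D15855 D32925
theorem F107634 : act 1 n71111 = n70503 := d15_1 (iv0 F107633) (iv7 D70503) (iv2 F56343)
def n71112 : Q := act 7 n32925
theorem D71112 : act 7 n32925 = n71112 := rfl
theorem F107635 : act 2 n71112 = n32926 := d4_1 D71112 F107632 (iv2 D71108)
def n71113 : Q := act 3 n32926
theorem D71113 : act 3 n32926 = n71113 := rfl
def n71114 : Q := act 4 n32926
theorem D71114 : act 4 n32926 = n71114 := rfl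
def n71115 : Q := act 6 n32926
theorem D71115 : act 6 n32926 = n71115 := rfl
theorem F107636 : act 0 n71115 = n62927 := d21_10 (iv5 D62927) (iv1 F47885) (iv5 F86042) (iv6 D54486) (iv1 F42026) D32907 (iv5 F56344) F107403 F107402 D71115
def n71116 : Q := act 6 n32929
theorem D71116 : act 6 n32929 = n71116 := rfl
theorem F107637 : act 5 n71116 = n50022 := d12_1 D71116 (iv6 D50022) (iv5 D24394) D24395 F56718
def n71117 : Q := act 3 n32930
theorem D71117 : act 3 n32930 = n71117 := rfl
theorem F107638 : act 4 n71117 = n32932 := d5_2 D32930 D71117 (iv3 D32932) (iv4 D15860) (iv3 F25329)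
def n71118 : Q := act 5 n32930
theorem D71118 : act 5 n32930 = n71118 := rfl
def n71119 : Q := act 6 n32930
theorem D71119 : act 6 n32930 = n71119 := rfl
theorem F107639 : act 4 n71119 = n32931 := d10_1 D71119 (iv6 D32931) D32930
def n71120 : Q := act 0 n32931
theorem D71120 : act 0 n32931 = n71120 := rfl
def n71121 : Q := act 1 n32931
theorem D71121 : act 1 n32931 = n71121 := rfl
def n71122 : Q := act 7 n32931
theorem D71122 : act 7 n32931 = n71122 := rfl
def n71124 : Q := act 1 n32932
theorem D71124 : act 1 n32932 = n71124 := rfl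
def n71127 : Q := act 0 n32933
theorem D71127 : act 0 n32933 = n71127 := rfl
def n71128 : Q := act 1 n32933
theorem D71128 : act 1 n32933 = n71128 := rfl
def n71130 : Q := act 7 n32933
theorem D71130 : act 7 n32933 = n71130 := rfl
theorem F107642 : act 4 n71130 = n32936 := d11_1 D71130 (iv7 D32936) (iv4 F52116)
def n71131 : Q := act 3 n32934
theorem D71131 : act 3 n32934 = n71131 := rfl
def n71132 : Q := act 4 n32934
theorem D71132 : act 4 n32934 = n71132 := rfl
def n71133 : Q := act 5 n32934
theorem D71133 : act 5 n32934 = n71133 := rfl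
theorem F107643 : act 7 n71133 = n39644 := d13_2 (iv7 F86100) D71133 F86092
def n71134 : Q := act 6 n32934
theorem D71134 : act 6 n32934 = n71134 := rfl
theorem F107644 : act 7 n71134 = n58623 := d14_2 (iv7 F86100) D71134 F92591 (iv7 F52067) F86091
theorem F107645 : act 5 n71134 = n58624 := d21_6 F20953 (iv1 F9286) D7437 D15861 D32934 D71134 (iv1 F92595) F52045 (iv6 D15864) (iv1 F20955)
def n71135 : Q := act 3 n32935
theorem D71135 : act 3 n32935 = n71135 := rfl
def n71136 : Q := act 4 n32935
theorem D71136 : act 4 n32935 = n71136 := rfl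
def n71137 : Q := act 4 n32939
theorem D71137 : act 4 n32939 = n71137 := rfl
theorem F107646 : act 2 n71137 = n32940 := d1_1 D71137 (iv4 D32940) D32939
theorem F107647 : act 1 n71137 = n55222 := d18_6 F55638 (iv4 F94961) F104202 (iv4 D68082) (iv5 F52117) D71137 (iv4 D55222) (iv0 F55653) (iv5 D35040)
def n71138 : Q := act 6 n32939
theorem D71138 : act 6 n32939 = n71138 := rfl
theorem F107648 : act 2 n71138 = n32941 := d3_1 D71138 (iv6 D32941) D32939
def n71139 : Q := act 1 n32940
theorem D71139 : act 1 n32940 = n71139 := rfl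
theorem F107649 : act 4 n71139 = n54649 := d18_7 (iv1 F94976) F94972 F94978 (iv4 D31681) (iv5 F25330) D32940 D71139 (iv0 F86407) F55608
theorem F107650 : act 2 n55222 = n71139 := d1_3 F107649 F86403 D55222
def n71140 : Q := act 3 n32940
theorem D71140 : act 3 n32940 = n71140 := rfl
theorem F107651 : act 4 n71140 = n32942 := d5_2 D32940 D71140 (iv3 D32942) (iv4 D15863) D15862
def n71141 : Q := act 5 n32940
theorem D71141 : act 5 n32940 = n71141 := rfl
def n71142 : Q := act 6 n32940
theorem D71142 : act 6 n32940 = n71142 := rfl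
theorem F107652 : act 4 n71142 = n32941 := d10_1 D71142 (iv6 D32941) D32940
def n71143 : Q := act 0 n32941
theorem D71143 : act 0 n32941 = n71143 := rfl
def n71144 : Q := act 1 n32941
theorem D71144 : act 1 n32941 = n71144 := rfl
def n71145 : Q := act 7 n32941
theorem D71145 : act 7 n32941 = n71145 := rfl
theorem F107653 : act 3 n71145 = n32946 := d8_1 D71145 (iv7 D32946) (iv3 F52118)
def n71149 : Q := act 6 n32942
theorem D71149 : act 6 n32942 = n71149 := rfl
theorem F107655 : act 3 n71149 = n32943 := d7_1 D71149 (iv6 D32943) D32942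
def n71150 : Q := act 0 n32943
theorem D71150 : act 0 n32943 = n71150 := rfl
def n71151 : Q := act 1 n32943
theorem D71151 : act 1 n32943 = n71151 := rfl
def n71152 : Q := act 5 n32943
theorem D71152 : act 5 n32943 = n71152 := rfl
def n71153 : Q := act 7 n32943
theorem D71153 : act 7 n32943 = n71153 := rfl
theorem F107657 : act 4 n71153 = n32946 := d11_1 D71153 (iv7 D32946) (iv4 F52120)
def n71154 : Q := act 2 n32944
theorem D71154 : act 2 n32944 = n71154 := rfl
theorem F107658 : act 7 n32945 = n71154 := d15_2 (iv0 D32944) D32945 (iv2 D71154)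
def n71155 : Q := act 3 n32944
theorem D71155 : act 3 n32944 = n71155 := rfl
def n71156 : Q := act 4 n32944
theorem D71156 : act 4 n32944 = n71156 := rfl
def n71157 : Q := act 5 n32944
theorem D71157 : act 5 n32944 = n71157 := rfl
theorem F107659 : act 6 n71157 = n70943 := d12_2 (iv6 F106889) D71157 F107491 (iv6 D70425) D70424
def n71158 : Q := act 7 n32944
theorem D71158 : act 7 n32944 = n71158 := rfl
theorem F107660 : act 2 n71158 = n32945 := d4_1 D71158 F107658 (iv2 D71154)
def n71159 : Q := act 3 n32945
theorem D71159 : act 3 n32945 = n71159 := rfl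
def n71160 : Q := act 4 n32945
theorem D71160 : act 4 n32945 = n71160 := rfl
def n71161 : Q := act 5 n32945
theorem D71161 : act 5 n32945 = n71161 := rfl
theorem F107661 : act 6 n71161 = n59995 := d21_3 F92599 (iv1 F86118) D71161 (iv1 F94465) (iv6 D39590) (iv5 D18743) (iv1 F13668) D8810 D18804 D39769
def n71162 : Q := act 6 n32945
theorem D71162 : act 6 n32945 = n71162 := rfl
theorem F107662 : act 5 n68588 = n71162 := d21_2 D68072 (iv1 F104796) (iv6 D71162) (iv1 D32945) (iv6 D15864) F12083 (iv1 D7087) D7088 (iv6 F24532) D31671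
def n71164 : Q := act 5 n32950
theorem D71164 : act 5 n32950 = n71164 := rfl
def n71165 : Q := act 6 n32950
theorem D71165 : act 6 n32950 = n71165 := rfl
theorem F107664 : act 4 n71165 = n32951 := d10_1 D71165 (iv6 D32951) D32950
def n71166 : Q := act 0 n32951
theorem D71166 : act 0 n32951 = n71166 := rfl
def n71167 : Q := act 1 n32951
theorem D71167 : act 1 n32951 = n71167 := rfl
def n71173 : Q := act 0 n32953
theorem D71173 : act 0 n32953 = n71173 := rfl
def n71174 : Q := act 1 n32953
theorem D71174 : act 1 n32953 = n71174 := rfl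
def n71176 : Q := act 7 n32953
theorem D71176 : act 7 n32953 = n71176 := rfl
def n71177 : Q := act 2 n32954
theorem D71177 : act 2 n32954 = n71177 := rfl
theorem F107671 : act 7 n32955 = n71177 := d15_2 (iv0 D32954) D32955 (iv2 D71177)
def n71179 : Q := act 4 n32954
theorem D71179 : act 4 n32954 = n71179 := rfl
def n71180 : Q := act 5 n32954
theorem D71180 : act 5 n32954 = n71180 := rfl
theorem F107672 : act 0 n71180 = n68586 := d21_1 D71180 F104793 (iv6 D68075) (iv1 D31672) F24532 (iv5 D7088) D7086 (iv5 F11715) D15867 D32954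
theorem F107673 : act 0 n54352 = n71180 := d21_10 (iv5 D71180) (iv1 F86129) F86125 F55744 (iv1 F55776) (iv6 F57639) (iv5 F57638) (iv1 D36746) F41728 D54352
def n71181 : Q := act 6 n32954
theorem D71181 : act 6 n32954 = n71181 := rfl
theorem F107674 : act 0 n68051 = n71181 := d21_4 (iv5 D14891) D14889 D31664 D68051 (iv6 D71181) D71180 F107672 F104793 (iv6 D68075) (iv1 D31672)
def n71182 : Q := act 7 n32954
theorem D71182 : act 7 n32954 = n71182 := rfl
theorem F107675 : act 2 n71182 = n32955 := d4_1 D71182 F107671 (iv2 D71177)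
def n71184 : Q := act 4 n32955
theorem D71184 : act 4 n32955 = n71184 := rfl
def n71185 : Q := act 5 n32955
theorem D71185 : act 5 n32955 = n71185 := rfl
theorem F107676 : act 0 n71185 = n54352 := d21_1 D71185 F85766 (iv6 D36745) (iv1 F45017) (iv6 F92591) (iv5 D58623) D58622 (iv5 F92597) (iv6 F86126) (iv1 F86128)
theorem F107677 : act 6 n71185 = n54360 := d21_3 (iv5 F86125) (iv1 F86128) D71185 (iv1 F85794) (iv6 F85809) F85808 (iv1 F47740) D62791 (iv6 F97978) (iv1 F55747)
theorem F107678 : act 6 n71055 = n32955 := d21_5 (iv5 D27884) (iv1 F43884) F43882 D32904 D71055 D71185 F107676 F85766 (iv6 D36745) (iv1 F45017)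
theorem F107679 : act 0 n68586 = n71185 := d21_10 (iv5 D71185) (iv1 D32955) F25336 (iv6 D15419) F11582 (iv6 F24682) (iv5 D15051) D15049 D31904 D68586
def n71189 : Q := act 4 n32957
theorem D71189 : act 4 n32957 = n71189 := rfl
theorem F107680 : act 3 n71189 = n33335 := d5_1 D71189 (iv4 D33335) (iv3 D16096) (iv4 F25337) D32957
def n71191 : Q := act 0 n32958
theorem D71191 : act 0 n32958 = n71191 := rfl
def n71192 : Q := act 1 n32958
theorem D71192 : act 1 n32958 = n71192 := rfl
def n71194 : Q := act 7 n32958
theorem D71194 : act 7 n32958 = n71194 := rfl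
theorem F107682 : act 4 n71194 = n33340 := d11_1 D71194 (iv7 D33340) (iv4 F52127)
def n71198 : Q := act 4 n32959
theorem D71198 : act 4 n32959 = n71198 := rfl
def n71200 : Q := act 0 n32960
theorem D71200 : act 0 n32960 = n71200 := rfl
def n71201 : Q := act 1 n32960
theorem D71201 : act 1 n32960 = n71201 := rfl
def n71203 : Q := act 7 n32960
theorem D71203 : act 7 n32960 = n71203 := rfl
theorem F107685 : act 4 n71203 = n33345 := d11_1 D71203 (iv7 D33345) (iv4 F52128)
def n71204 : Q := act 0 n32961
theorem D71204 : act 0 n32961 = n71204 := rfl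
theorem F107686 : act 2 n32965 = n71204 := d15_3 (iv0 D71204) (iv0 D32961) D32965
theorem F107688 : act 7 n71204 = n32963 := d4_2 D32965 F107686 (iv2 D32963)
def n71205 : Q := act 2 n32961
theorem D71205 : act 2 n32961 = n71205 := rfl
theorem F107690 : act 7 n32962 = n71205 := d15_2 (iv0 D32961) D32962 (iv2 D71205)
def n71207 : Q := act 4 n32961
theorem D71207 : act 4 n32961 = n71207 := rfl
def n71211 : Q := act 3 n32962
theorem D71211 : act 3 n32962 = n71211 := rfl
def n71212 : Q := act 4 n32962
theorem D71212 : act 4 n32962 = n71212 := rfl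
def n71215 : Q := act 0 n32963
theorem D71215 : act 0 n32963 = n71215 := rfl
theorem F107692 : act 1 n32965 = n71215 := d15_0 (iv0 D71215) (iv7 F107688) (iv2 F107686)
def n71217 : Q := act 5 n32963
theorem D71217 : act 5 n32963 = n71217 := rfl
theorem F107694 : act 2 n71217 = n32964 := d2_1 D71217 (iv5 D32964) D32963
def n71220 : Q := act 4 n32964
theorem D71220 : act 4 n32964 = n71220 := rfl
theorem F107701 : act 3 n71220 = n54477 := d5_1 D71220 F86013 F42011 (iv4 F25339) (iv3 F52129)
def n71222 : Q := act 6 n32965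
theorem D71222 : act 6 n32965 = n71222 := rfl
theorem F107704 : act 3 n71222 = n32967 := d7_1 D71222 (iv6 D32967) (iv3 F52131)
def n71223 : Q := act 0 n32966
theorem D71223 : act 0 n32966 = n71223 := rfl
theorem F107705 : act 1 n71077 = n71223 := d15_0 (iv0 D71223) (iv7 F107610) (iv2 F107611)
def n71224 : Q := act 1 n32966
theorem D71224 : act 1 n32966 = n71224 := rfl
theorem F107706 : act 1 n71224 = n71077 := d15_1 D71224 F107614 F52134
def n71225 : Q := act 0 n32967
theorem D71225 : act 0 n32967 = n71225 := rfl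
theorem F107707 : act 1 n71076 = n71225 := d15_0 (iv0 D71225) (iv7 F107614) F107611
def n71226 : Q := act 1 n32967
theorem D71226 : act 1 n32967 = n71226 := rfl
theorem F107708 : act 1 n71226 = n71076 := d15_1 D71226 F107610 (iv2 F52134)
def n71227 : Q := act 2 n32968
theorem D71227 : act 2 n32968 = n71227 := rfl
theorem F107709 : act 6 n71227 = n68052 := d3_2 (iv6 F52136) D71227 F104172
theorem F107710 : act 7 n32969 = n71227 := d15_2 (iv0 D32968) D32969 (iv2 D71227)
def n71228 : Q := act 3 n32968
theorem D71228 : act 3 n32968 = n71228 := rfl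
theorem F107711 : act 6 n71228 = n68061 := d7_2 (iv6 F52136) D71228 F104177
def n71229 : Q := act 4 n32968
theorem D71229 : act 4 n32968 = n71229 := rfl
def n71230 : Q := act 5 n32968
theorem D71230 : act 5 n32968 = n71230 := rfl
theorem F107713 : act 6 n71230 = n68068 := d12_2 (iv6 F52136) D71230 (iv5 D68068) (iv6 D31670) D31669
theorem F107714 : act 0 n62792 = n71230 := d21_10 (iv5 D71230) F86044 F86042 (iv6 D29299) (iv1 F23624) D29768 (iv5 F51604) F97977 (iv5 D62791) D62792
def n71231 : Q := act 7 n32968
theorem D71231 : act 7 n32968 = n71231 := rfl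
theorem F107715 : act 2 n71231 = n32969 := d4_1 D71231 F107710 (iv2 D71227)
def n71232 : Q := act 3 n32969
theorem D71232 : act 3 n32969 = n71232 := rfl
def n71233 : Q := act 4 n32969
theorem D71233 : act 4 n32969 = n71233 := rfl
def n71234 : Q := act 5 n32969
theorem D71234 : act 5 n32969 = n71234 := rfl
theorem F107716 : act 6 n71234 = n61386 := d21_9 F96146 F98149 (iv5 D62911) (iv6 D29765) (iv1 F23627) D29299 (iv5 F86042) (iv1 F86045) D71234 (iv1 F96150)
def n71235 : Q := act 6 n32969
theorem D71235 : act 6 n32969 = n71235 := rfl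
theorem F107717 : act 7 n71235 = n68051 := d14_2 (iv7 F107710) D71235 (iv6 D68051) D68052 (iv6 F107709)
def n71236 : Q := act 4 n32970
theorem D71236 : act 4 n32970 = n71236 := rfl
theorem F107718 : act 2 n71236 = n33566 := d1_1 D71236 F52860 (iv2 F52137)
theorem F107719 : act 7 n71236 = n33503 := d11_2 (iv7 F52139) D71236 (iv4 D33503)
theorem F107720 : act 0 n71236 = n33563 := d18_2 (iv1 F54106) D71236 (iv4 F86016) F52047 F27936 D32647 F54099 F54098 (iv5 F25602)
theorem F107721 : act 1 n71236 = n33562 := d15_0 (iv0 D33562) D33566 (iv2 F107718)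
def n71237 : Q := act 6 n32970
theorem D71237 : act 6 n32970 = n71237 := rfl
theorem F107722 : act 2 n71237 = n33567 := d3_1 D71237 (iv6 D33567) (iv2 F52137)
theorem F107723 : act 3 n71237 = n33746 := d7_1 D71237 (iv6 D33746) (iv3 F52138)
theorem F107724 : act 5 n71237 = n33500 := d12_1 D71237 (iv6 D33500) F25703 (iv6 F50784) D32970
def n71238 : Q := act 4 n32971
theorem D71238 : act 4 n32971 = n71238 := rfl
theorem F107725 : act 2 n71238 = n32974 := d1_1 D71238 (iv4 D32974) (iv2 F52142)
theorem F107726 : act 7 n71238 = n33550 := d11_2 (iv7 F52144) D71238 (iv4 D33550)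
def n71239 : Q := act 6 n32971
theorem D71239 : act 6 n32971 = n71239 := rfl
theorem F107727 : act 2 n71239 = n32975 := d3_1 D71239 (iv6 D32975) (iv2 F52142)
theorem F107729 : act 5 n71239 = n33189 := d12_1 D71239 (iv6 D33189) (iv5 D16016) (iv6 F26596) D32971
def n71240 : Q := act 4 n32972
theorem D71240 : act 4 n32972 = n71240 := rfl
theorem F107730 : act 2 n71240 = n60358 := d1_1 D71240 F94881 F54464
theorem F107731 : act 7 n71240 = n60359 := d11_2 F86169 D71240 F94882
theorem F107732 : act 0 n71240 = n59951 := d18_2 D32972 D71240 (iv4 D59951) (iv5 D28471) F22736 D15197 (iv4 F27008) (iv0 D15874) D15877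
theorem F107733 : act 1 n71240 = n60031 := d18_6 (iv1 F79146) F55761 F54199 (iv4 F54455) F54457 D71240 (iv4 D60031) F94429 F94428
def n71241 : Q := act 6 n32972
theorem D71241 : act 6 n32972 = n71241 := rfl
theorem F107734 : act 3 n71241 = n33751 := d7_1 D71241 (iv6 D33751) (iv3 F52990)
def n71242 : Q := act 3 n32973
theorem D71242 : act 3 n32973 = n71242 := rfl
theorem F107735 : act 2 n71242 = n33752 := d0_1 D71242 (iv3 D33752) F51163 F86170 (iv2 F86167)
theorem F107736 : act 5 n71242 = n67933 := d6_2 F54469 D71242 F104026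
theorem F107737 : act 7 n71242 = n70589 := d8_2 (iv7 F54467) D71242 F107055
theorem F107738 : act 1 n32998 = n71242 := d15_1 (iv0 F105563) F107737 (iv2 F107053)
theorem F107739 : act 1 n71242 = n33514 := d15_1 F107738 F52835 (iv2 F52173)
theorem F107740 : act 4 n70592 = n71242 := d18_7 (iv1 D16191) (iv4 F25721) F50775 F25154 D15661 D32746 D70592 F107739 (iv5 D33514)
def n71243 : Q := act 4 n32973
theorem D71243 : act 4 n32973 = n71243 := rfl
theorem F107741 : act 2 n71243 = n60359 := d1_1 D71243 F94882 (iv2 F86167)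
theorem F107742 : act 7 n71243 = n60358 := d11_2 (iv7 F54467) D71243 F94881
theorem F107743 : act 0 n71243 = n60031 := d18_2 (iv1 F52146) D71243 (iv4 D60031) (iv5 D28504) F22772 F50790 F11786 D7559 D16215
theorem F107744 : act 1 n71243 = n59951 := d18_6 F79149 F53343 F54551 F54547 F54469 D71243 (iv4 D59951) D59950 F94434
def n71244 : Q := act 3 n32974
theorem D71244 : act 3 n32974 = n71244 := rfl
theorem F107745 : act 4 n71244 = n32980 := d5_2 D32974 D71244 (iv3 D32980) (iv4 D15880) (iv3 F25347)
def n71245 : Q := act 5 n32974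
theorem D71245 : act 5 n32974 = n71245 := rfl
def n71246 : Q := act 6 n32974
theorem D71246 : act 6 n32974 = n71246 := rfl
theorem F107746 : act 4 n71246 = n32975 := d10_1 D71246 (iv6 D32975) D32974
def n71247 : Q := act 0 n32975
theorem D71247 : act 0 n32975 = n71247 := rfl
def n71248 : Q := act 1 n32975
theorem D71248 : act 1 n32975 = n71248 := rfl
def n71249 : Q := act 7 n32975
theorem D71249 : act 7 n32975 = n71249 := rfl
def n71250 : Q := act 4 n32976
theorem D71250 : act 4 n32976 = n71250 := rfl
theorem F107748 : act 7 n71250 = n59817 := d11_2 (iv7 F52149) D71250 (iv4 D59817)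
theorem F107749 : act 1 n71250 = n34835 := d18_6 (iv1 D32582) (iv4 F51641) F77711 F77709 (iv5 F52148) D71250 (iv4 D34835) D34834 (iv5 F93556)
def n71251 : Q := act 6 n32976
theorem D71251 : act 6 n32976 = n71251 := rfl
theorem F107750 : act 3 n71251 = n32978 := d7_1 D71251 (iv6 D32978) D32976
theorem F107751 : act 5 n71251 = n49825 := d12_1 D71251 (iv6 D49825) (iv5 D24295) D24296 (iv5 F52148)
def n71253 : Q := act 6 n32977
theorem D71253 : act 6 n32977 = n71253 := rfl
theorem F107754 : act 2 n71253 = n71099 := d3_1 D71253 (iv6 D71099) (iv2 F52150)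
theorem F107755 : act 4 n71253 = n32978 := d10_1 D71253 (iv6 D32978) D32977
def n71254 : Q := act 0 n32978
theorem D71254 : act 0 n32978 = n71254 := rfl
def n71255 : Q := act 1 n32978
theorem D71255 : act 1 n32978 = n71255 := rfl
def n71256 : Q := act 3 n32979
theorem D71256 : act 3 n32979 = n71256 := rfl
theorem F107757 : act 7 n71256 = n71098 := d8_2 (iv7 F52158) D71256 (iv3 D71098)
def n71260 : Q := act 6 n32980
theorem D71260 : act 6 n32980 = n71260 := rfl
theorem F107759 : act 3 n71260 = n32981 := d7_1 D71260 (iv6 D32981) D32980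
def n71261 : Q := act 0 n32981
theorem D71261 : act 0 n32981 = n71261 := rfl
def n71262 : Q := act 1 n32981
theorem D71262 : act 1 n32981 = n71262 := rfl
def n71264 : Q := act 7 n32981
theorem D71264 : act 7 n32981 = n71264 := rfl
theorem F107761 : act 4 n71264 = n32984 := d11_1 D71264 (iv7 D32984) (iv4 F52162)
def n71265 : Q := act 2 n32982
theorem D71265 : act 2 n32982 = n71265 := rfl
theorem F107762 : act 7 n32983 = n71265 := d15_2 (iv0 D32982) D32983 (iv2 D71265)
def n71266 : Q := act 3 n32982
theorem D71266 : act 3 n32982 = n71266 := rfl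
def n71267 : Q := act 4 n32982
theorem D71267 : act 4 n32982 = n71267 := rfl
def n71268 : Q := act 5 n32982
theorem D71268 : act 5 n32982 = n71268 := rfl
theorem F107763 : act 0 n71268 = n55129 := d21_1 D71268 F87202 (iv6 D33325) (iv1 D16093) F11753 (iv5 D3429) (iv1 F11597) D7448 D15881 D32982
def n71269 : Q := act 7 n32982
theorem D71269 : act 7 n32982 = n71269 := rfl
theorem F107764 : act 2 n71269 = n32983 := d4_1 D71269 F107762 (iv2 D71265)
def n71270 : Q := act 3 n32983
theorem D71270 : act 3 n32983 = n71270 := rfl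
def n71271 : Q := act 4 n32983
theorem D71271 : act 4 n32983 = n71271 := rfl
def n71272 : Q := act 5 n32983
theorem D71272 : act 5 n32983 = n71272 := rfl
theorem F107765 : act 6 n71272 = n54422 := d21_3 (iv5 F86161) (iv1 F86164) D71272 (iv1 F85940) (iv6 F85945) F85944 (iv1 F50334) D68737 (iv6 F104927) (iv1 F88646)
theorem F107766 : act 0 n55129 = n71272 := d21_10 (iv5 D71272) (iv1 D32983) (iv5 F43652) (iv6 D27016) (iv1 D12941) (iv6 F21139) (iv5 D12732) D12730 D26640 D55129
def n71273 : Q := act 6 n32983
theorem D71273 : act 6 n32983 = n71273 := rfl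
def n71274 : Q := act 0 n32985
theorem D71274 : act 0 n32985 = n71274 := rfl
theorem F107767 : act 1 n33192 = n71274 := d15_0 (iv0 D71274) (iv7 F83388) F83386
def n71275 : Q := act 1 n32985
theorem D71275 : act 1 n32985 = n71275 := rfl
theorem F107768 : act 1 n71275 = n33192 := d15_1 D71275 (iv7 F83615) F83614
theorem F107769 : act 5 n71275 = n51061 := d17_7 F50388 F42830 F42774 (iv5 D15887) (iv4 F25355) D32985 D71275 (iv0 F104139) F87981
def n71276 : Q := act 4 n32985
theorem D71276 : act 4 n32985 = n71276 := rfl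
def n71277 : Q := act 6 n32985
theorem D71277 : act 6 n32985 = n71277 := rfl
theorem F107770 : act 3 n71277 = n32988 := d7_1 D71277 (iv6 D32988) (iv3 F52163)
def n71278 : Q := act 3 n32986
theorem D71278 : act 3 n32986 = n71278 := rfl
theorem F107771 : act 5 n71278 = n42206 := d6_2 (iv5 F52165) D71278 F82968
theorem F107772 : act 7 n71278 = n42415 := d8_2 F77415 D71278 F83012
theorem F107773 : act 2 n42410 = n71278 := d2_3 F107771 F82983 D42410
def n71279 : Q := act 4 n32986
theorem D71279 : act 4 n32986 = n71279 := rfl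
theorem F107774 : act 0 n71279 = n52768 := d17_0 (iv5 F83363) (iv1 F83521) F83519 (iv4 D34417) (iv5 D16685) (iv0 F12078) D15883 D32986 D71279
theorem F107775 : act 1 n71279 = n52765 := d18_6 F36958 F27798 F18431 (iv4 F37661) (iv5 F52165) D71279 (iv4 D52765) (iv0 F76618) (iv5 D48687)
def n71280 : Q := act 6 n32986
theorem D71280 : act 6 n32986 = n71280 := rfl
theorem F107776 : act 5 n71280 = n49301 := d12_1 D71280 (iv6 D49301) (iv5 D24062) D24063 (iv5 F52165)
def n71281 : Q := act 1 n32987
theorem D71281 : act 1 n32987 = n71281 := rfl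
theorem F107777 : act 1 n71281 = n60026 := d15_1 D71281 F94519 F83393
theorem F107778 : act 4 n71281 = n49222 := d17_9 F77740 (iv5 D28495) (iv1 D13582) D13583 D28498 (iv5 F83377) F94507 (iv5 F94508) D71281
def n71282 : Q := act 3 n32987
theorem D71282 : act 3 n32987 = n71282 := rfl
def n71283 : Q := act 6 n32987
theorem D71283 : act 6 n32987 = n71283 := rfl
theorem F107779 : act 4 n71283 = n32988 := d10_1 D71283 (iv6 D32988) D32987
def n71284 : Q := act 0 n32988
theorem D71284 : act 0 n32988 = n71284 := rfl
def n71285 : Q := act 1 n32988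
theorem D71285 : act 1 n32988 = n71285 := rfl
def n71286 : Q := act 7 n32988
theorem D71286 : act 7 n32988 = n71286 := rfl
def n71287 : Q := act 4 n32989
theorem D71287 : act 4 n32989 = n71287 := rfl
theorem F107780 : act 2 n71287 = n33995 := d1_1 D71287 (iv4 D33995) F52166
theorem F107781 : act 0 n71287 = n70584 := d18_2 D32989 D71287 (iv4 D70584) (iv5 D32743) (iv4 F25579) (iv0 F42441) F42440 F26795 D15887
def n71288 : Q := act 0 n32990
theorem D71288 : act 0 n32990 = n71288 := rfl
theorem F107782 : act 1 n33200 = n71288 := d15_0 (iv0 D71288) (iv7 F86151) F86150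
def n71289 : Q := act 1 n32990
theorem D71289 : act 1 n32990 = n71289 := rfl
theorem F107783 : act 1 n71289 = n33200 := d15_1 D71289 (iv7 F86822) F86821
def n71290 : Q := act 3 n32990
theorem D71290 : act 3 n32990 = n71290 := rfl
theorem F107784 : act 4 n71290 = n32992 := d5_2 D32990 D71290 (iv3 D32992) (iv4 D15888) (iv3 F25356)
def n71291 : Q := act 5 n32990
theorem D71291 : act 5 n32990 = n71291 := rfl
def n71292 : Q := act 6 n32990
theorem D71292 : act 6 n32990 = n71292 := rfl
theorem F107785 : act 4 n71292 = n32991 := d10_1 D71292 (iv6 D32991) D32990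
def n71293 : Q := act 0 n32991
theorem D71293 : act 0 n32991 = n71293 := rfl
def n71294 : Q := act 1 n32991
theorem D71294 : act 1 n32991 = n71294 := rfl
def n71295 : Q := act 7 n32991
theorem D71295 : act 7 n32991 = n71295 := rfl
theorem F107786 : act 3 n71295 = n32996 := d8_1 D71295 (iv7 D32996) (iv3 F52168)
def n71296 : Q := act 0 n32992
theorem D71296 : act 0 n32992 = n71296 := rfl
def n71297 : Q := act 1 n32992
theorem D71297 : act 1 n32992 = n71297 := rfl
def n71298 : Q := act 2 n32992
theorem D71298 : act 2 n32992 = n71298 := rfl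
def n71299 : Q := act 6 n32992
theorem D71299 : act 6 n32992 = n71299 := rfl
theorem F107788 : act 3 n71299 = n32993 := d7_1 D71299 (iv6 D32993) D32992
def n71300 : Q := act 0 n32993
theorem D71300 : act 0 n32993 = n71300 := rfl
def n71301 : Q := act 1 n32993
theorem D71301 : act 1 n32993 = n71301 := rfl
def n71303 : Q := act 7 n32993
theorem D71303 : act 7 n32993 = n71303 := rfl
theorem F107790 : act 4 n71303 = n32996 := d11_1 D71303 (iv7 D32996) (iv4 F52170)
def n71304 : Q := act 3 n32994
theorem D71304 : act 3 n32994 = n71304 := rfl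
def n71305 : Q := act 4 n32994
theorem D71305 : act 4 n32994 = n71305 := rfl
def n71306 : Q := act 5 n32994
theorem D71306 : act 5 n32994 = n71306 := rfl
theorem F107791 : act 7 n71306 = n34705 := d13_2 (iv7 F86190) D71306 F86182
def n71307 : Q := act 6 n32994
theorem D71307 : act 6 n32994 = n71307 := rfl
theorem F107792 : act 7 n71307 = n58446 := d14_2 (iv7 F86190) D71307 F92304 (iv7 F52542) F86181
def n71308 : Q := act 3 n32995
theorem D71308 : act 3 n32995 = n71308 := rfl
def n71309 : Q := act 4 n32995
theorem D71309 : act 4 n32995 = n71309 := rfl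
theorem F107794 : act 6 n71309 = n71019 := d10_2 F60382 D71309 F107571
def n71310 : Q := act 0 n32997
theorem D71310 : act 0 n32997 = n71310 := rfl
def n71311 : Q := act 1 n32997
theorem D71311 : act 1 n32997 = n71311 := rfl
theorem F107795 : act 1 n71311 = n70588 := d15_1 D71311 (iv7 D70588) (iv2 F52171)
def n71312 : Q := act 5 n32997
theorem D71312 : act 5 n32997 = n71312 := rfl
theorem F107796 : act 2 n71312 = n70587 := d2_1 D71312 (iv5 D70587) (iv2 F52171)
theorem F107797 : act 3 n71312 = n33010 := d6_1 D71312 (iv5 D33010) (iv3 F52172)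
theorem F107798 : act 6 n71312 = n32998 := d12_2 D32997 D71312 (iv5 D32998) (iv6 D15898) D15897
def n71313 : Q := act 7 n32997
theorem D71313 : act 7 n32997 = n71313 := rfl
theorem F107799 : act 2 n71313 = n70588 := d4_1 D71313 (iv7 D70588) (iv2 F52171)
theorem F107801 : act 6 n71313 = n70598 := d14_1 D71313 (iv7 D70598) (iv6 D32748) F25576 D32997
theorem F107802 : act 1 n70588 = n71310 := d15_0 (iv0 D71310) D71313 F107799
theorem F107804 : act 1 n71313 = n70585 := d15_0 (iv0 D70585) D70588 (iv2 F107799)
def n71314 : Q := act 4 n32999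
theorem D71314 : act 4 n32999 = n71314 := rfl
theorem F107805 : act 3 n71314 = n70186 := d5_1 D71314 (iv4 D70186) (iv3 F55754) F55756 F55178
theorem F107806 : act 0 n71314 = n34906 := d18_2 (iv1 F52176) D71314 (iv4 D34906) (iv5 D16927) (iv4 F12506) (iv0 F50851) F50855 F43596 D27007
theorem F107807 : act 1 n71314 = n33669 := d18_6 D12619 (iv4 F22796) F40582 F40580 D32999 D71314 F52947 F27844 (iv5 D12621)
def n71315 : Q := act 6 n32999
theorem D71315 : act 6 n32999 = n71315 := rfl
def n71316 : Q := act 5 n33000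
theorem D71316 : act 5 n33000 = n71316 := rfl
theorem F107808 : act 3 n71316 = n49319 := d6_1 D71316 F77977 F77559
def n71317 : Q := act 4 n33001
theorem D71317 : act 4 n33001 = n71317 := rfl
theorem F107809 : act 5 n71317 = n57559 := d16_1 D71317 F90707 F61022 (iv4 F56748) (iv5 D35999) F28421 (iv5 F52180) (iv7 F77592) F77590
theorem F107810 : act 0 n71317 = n54668 := d18_2 D33001 D71317 (iv4 D54668) (iv5 D26440) (iv4 F22796) (iv0 D13617) D13620 (iv0 F22797) D15901
theorem F107811 : act 1 n71317 = n54670 := d18_6 F21468 (iv4 F26415) F27735 (iv4 F27849) (iv5 F52177) D71317 (iv4 D54670) F42285 (iv5 D16929)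
theorem F107812 : act 3 n57690 = n71317 := d20_5 F56139 (iv1 F44246) F21953 D27554 D57690 (iv4 D71317) (iv1 F52178) D33020 (iv3 F52201) (iv1 F56141)
theorem E9648 : n57690 = n57561 := ((c6_1 D57561 F107812 F107809 (iv3 D57559))).symm
theorem F107813 : act 1 n57561 = n27554 := (sb E9648 (iv0 D57690))
theorem F107814 : act 3 n57561 = n71317 := (sb E9648 F107812)
def n71318 : Q := act 6 n33001
theorem D71318 : act 6 n33001 = n71318 := rfl
def n71319 : Q := act 4 n33002
theorem D71319 : act 4 n33002 = n71319 := rfl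
theorem F107815 : act 3 n71319 = n35048 := d5_1 D71319 F55665 (iv3 F85797) F85798 (iv3 F77586)
theorem F107816 : act 5 n71319 = n57650 := d9_2 (iv5 F52180) D71319 F90800 F61019 (iv4 D28623) (iv5 F25993) (iv4 F27849) (iv5 F52177) D71317 F107809 F90707 F61022 (iv4 F56748) (iv5 D35999) F28421
theorem F107817 : act 0 n71319 = n54670 := d18_2 (iv1 F52179) D71319 (iv4 D54670) (iv5 D26442) (iv4 F21015) (iv0 F40581) F40580 F25375 D15919
theorem F107818 : act 1 n71319 = n54668 := d18_6 D12916 F26714 (iv1 F28419) F28421 (iv5 F52180) D71319 (iv4 D54668) F42274 (iv5 D12919)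
def n71320 : Q := act 6 n33002
theorem D71320 : act 6 n33002 = n71320 := rfl
theorem F107819 : act 5 n71320 = n46132 := d12_1 D71320 (iv6 D46132) (iv5 F51637) F54156 (iv5 F52180)
def n71321 : Q := act 3 n33003
theorem D71321 : act 3 n33003 = n71321 := rfl
theorem F107820 : act 2 n71321 = n55408 := d0_1 D71321 F87704 F43016 (iv3 F44242) (iv2 F52181)
theorem F107821 : act 5 n71321 = n55407 := d6_2 F52183 D71321 F87700
theorem F107822 : act 7 n71321 = n57109 := d8_2 F86360 D71321 F90159
theorem F107823 : act 0 n71321 = n57474 := d20_10 F90647 (iv1 D35069) (iv4 F55666) (iv3 D35050) D35048 (iv3 F107815) (iv4 D71319) (iv1 D33002) D33003 D71321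
theorem E9649 : n57474 = n57112 := ((c15_1 D57112 (iv0 F107823) F107822 F90158)).symm
theorem F107824 : act 1 n57112 = n71321 := (sb E9649 (iv0 F107823))
theorem F107825 : act 3 n57112 = n33449 := (sb E9649 F90646)
theorem F107826 : act 4 n57112 = n35069 := (sb E9649 F90647)
theorem F107827 : act 5 n57112 = n27492 := (sb E9649 (iv5 D57474))
theorem F107828 : act 1 n71321 = n57111 := d15_0 (iv0 D57111) (iv7 F87705) (iv2 F107820)
def n71322 : Q := act 6 n33003
theorem D71322 : act 6 n33003 = n71322 := rfl
theorem F107829 : act 2 n71322 = n56984 := d3_1 D71322 (iv6 D56984) (iv2 F52181)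
theorem F107830 : act 4 n71322 = n33004 := d10_1 D71322 (iv6 D33004) D33003
def n71323 : Q := act 0 n33004
theorem D71323 : act 0 n33004 = n71323 := rfl
def n71324 : Q := act 1 n33004
theorem D71324 : act 1 n33004 = n71324 := rfl
def n71325 : Q := act 5 n33004
theorem D71325 : act 5 n33004 = n71325 := rfl
theorem F107831 : act 6 n71325 = n33005 := d12_2 D33004 D71325 (iv5 D33005) (iv6 D15902) D15901
def n71326 : Q := act 7 n33004
theorem D71326 : act 7 n33004 = n71326 := rfl
def n71327 : Q := act 0 n33005
theorem D71327 : act 0 n33005 = n71327 := rfl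
def n71328 : Q := act 1 n33005
theorem D71328 : act 1 n33005 = n71328 := rfl
def n71329 : Q := act 4 n33005
theorem D71329 : act 4 n33005 = n71329 := rfl
def n71330 : Q := act 6 n33006
theorem D71330 : act 6 n33006 = n71330 := rfl
def n71331 : Q := act 0 n33007
theorem D71331 : act 0 n33007 = n71331 := rfl
def n71332 : Q := act 1 n33007
theorem D71332 : act 1 n33007 = n71332 := rfl
def n71333 : Q := act 5 n33007
theorem D71333 : act 5 n33007 = n71333 := rfl
def n71334 : Q := act 7 n33007
theorem D71334 : act 7 n33007 = n71334 := rfl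
def n71339 : Q := act 6 n33008
theorem D71339 : act 6 n33008 = n71339 := rfl
def n71345 : Q := act 0 n33010
theorem D71345 : act 0 n33010 = n71345 := rfl
def n71346 : Q := act 1 n33010
theorem D71346 : act 1 n33010 = n71346 := rfl
def n71347 : Q := act 4 n33010
theorem D71347 : act 4 n33010 = n71347 := rfl
theorem F107835 : act 6 n71347 = n33016 := d10_2 (iv6 F52186) D71347 (iv4 D33016)
def n71348 : Q := act 7 n33010
theorem D71348 : act 7 n33010 = n71348 := rfl
theorem F107836 : act 5 n71348 = n33011 := d13_1 D71348 (iv7 D33011) D33010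
def n71349 : Q := act 5 n33012
theorem D71349 : act 5 n33012 = n71349 := rfl
theorem F107837 : act 2 n71349 = n33969 := d2_1 D71349 (iv5 D33969) (iv2 F52187)
theorem F107838 : act 7 n71349 = n48746 := d13_2 (iv7 F52189) D71349 (iv5 D48746)
theorem F107839 : act 0 n71349 = n52860 := d17_2 F52191 D71349 F83505 F55287 (iv5 F42058) F77277 F77276 F50893 F26996
def n71350 : Q := act 4 n33013
theorem D71350 : act 4 n33013 = n71350 := rfl
theorem F107840 : act 2 n71350 = n33972 := d1_1 D71350 (iv4 D33972) (iv2 F52192)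
theorem F107841 : act 7 n71350 = n71139 := d11_2 F86405 D71350 F107649
theorem F107842 : act 1 n71350 = n71137 := d18_6 F50828 F26996 F52191 (iv4 D33012) D33013 D71350 (iv4 D71137) F55057 (iv5 D34823)
theorem F107843 : act 0 n71350 = n54513 := d20_1 D71350 (iv4 D54513) (iv3 D26363) (iv1 D12574) (iv3 F20921) D26343 D54473 F86015 (iv3 F87373) (iv1 F87375)
def n71351 : Q := act 6 n33013
theorem D71351 : act 6 n33013 = n71351 := rfl
theorem F107844 : act 2 n71351 = n33973 := d3_1 D71351 (iv6 D33973) (iv2 F52192)
def n71352 : Q := act 4 n33014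
theorem D71352 : act 4 n33014 = n71352 := rfl
theorem F107845 : act 2 n71352 = n33988 := d1_1 D71352 (iv4 D33988) (iv2 F54573)
theorem F107846 : act 7 n71352 = n71091 := d11_2 F86409 D71352 F107624
theorem F107847 : act 0 n71352 = n54499 := d18_2 D33014 D71352 (iv4 D54499) (iv5 D26358) (iv4 F40523) (iv0 F52190) (iv4 D33012) (iv0 D15909) D15911
theorem F107848 : act 0 n71081 = n71352 := d20_1 D71081 (iv4 D71352) (iv3 F86149) (iv1 F86147) (iv3 F50995) D33550 (iv1 F94880) (iv4 D60356) F86083 (iv1 F86081)
def n71353 : Q := act 6 n33014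
theorem D71353 : act 6 n33014 = n71353 := rfl
theorem F107849 : act 2 n71353 = n33989 := d3_1 D71353 (iv6 D33989) (iv2 F54573)
def n71354 : Q := act 3 n33016
theorem D71354 : act 3 n33016 = n71354 := rfl
def n71355 : Q := act 5 n33016
theorem D71355 : act 5 n33016 = n71355 := rfl
def n71356 : Q := act 4 n33017
theorem D71356 : act 4 n33017 = n71356 := rfl
theorem F107850 : act 0 n71356 = n37332 := d18_2 F55334 D71356 F58269 F40646 (iv4 F27040) F27243 D16988 (iv0 F27858) D34957
theorem F107851 : act 1 n71356 = n48751 := d18_6 (iv1 F27609) (iv4 F26647) F26645 D15916 D33017 D71356 (iv4 D48751) F40653 F40650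
theorem F107852 : act 3 n71356 = n70260 := d20_3 F83670 F55334 D71356 (iv1 F106705) (iv3 D52940) (iv4 D25701) (iv1 D12208) D12209 D25705 D52949
theorem F107853 : act 5 n44961 = n71356 := d19_1 (iv1 F70699) (iv4 D71356) (iv3 F83267) (iv1 F83266) (iv5 D42182) (iv4 F31858) F31857 (iv1 D16917) D16919 D34890 F55192 F86714 F86713 (iv4 F86636) F86632 (iv1 F88729) (iv5 F88732) (iv4 F70562) F70561
def n71357 : Q := act 6 n33017
theorem D71357 : act 6 n33017 = n71357 := rfl
def n71358 : Q := act 3 n33018
theorem D71358 : act 3 n33018 = n71358 := rfl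
theorem F107854 : act 4 n71358 = n33022 := d5_2 D33018 D71358 (iv3 D33022) (iv4 D15921) (iv3 F25385)
def n71359 : Q := act 5 n33018
theorem D71359 : act 5 n33018 = n71359 := rfl
theorem F107855 : act 0 n71359 = n69812 := d17_2 (iv1 F52194) D71359 (iv5 D69812) (iv4 D32421) F43051 F12436 D11193 F18159 D18991
theorem F107856 : act 1 n71359 = n33769 := d17_6 F43644 F42396 F26645 D15917 D33018 D71359 F53010 (iv0 F88631) (iv4 D55995)
theorem F107857 : act 4 n71359 = n44960 := d18_5 F30278 (iv4 D18633) (iv1 F41472) D33018 D71359 (iv0 D44960) (iv4 F43350) (iv0 F61035) (iv5 D40139)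
def n71360 : Q := act 6 n33018
theorem D71360 : act 6 n33018 = n71360 := rfl
theorem F107858 : act 4 n71360 = n33019 := d10_1 D71360 (iv6 D33019) D33018
def n71361 : Q := act 0 n33019
theorem D71361 : act 0 n33019 = n71361 := rfl
def n71362 : Q := act 1 n33019
theorem D71362 : act 1 n33019 = n71362 := rfl
def n71363 : Q := act 7 n33019
theorem D71363 : act 7 n33019 = n71363 := rfl
def n71364 : Q := act 6 n33020
theorem D71364 : act 6 n33020 = n71364 := rfl
theorem F107860 : act 3 n71364 = n55383 := d7_1 D71364 (iv6 D55383) F52201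
theorem F107861 : act 4 n71364 = n33021 := d10_1 D71364 (iv6 D33021) D33020
def n71365 : Q := act 0 n33021
theorem D71365 : act 0 n33021 = n71365 := rfl
def n71366 : Q := act 1 n33021
theorem D71366 : act 1 n33021 = n71366 := rfl
def n71367 : Q := act 7 n33021
theorem D71367 : act 7 n33021 = n71367 := rfl
def n71368 : Q := act 0 n33022
theorem D71368 : act 0 n33022 = n71368 := rfl
theorem F107862 : act 3 n71368 = n57448 := d20_5 (iv4 D26629) (iv1 F30293) D15921 D33022 D71368 F90634 (iv1 F90256) (iv4 F90251) (iv3 D33767) (iv1 F42671)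
theorem F107863 : act 2 n36089 = n71368 := d15_3 (iv0 D71368) (iv0 F61013) F61012
theorem F107864 : act 1 n47159 = n71368 := d15_0 (iv0 D71368) (iv7 F86391) F86390
def n71369 : Q := act 6 n33022
theorem D71369 : act 6 n33022 = n71369 := rfl
theorem F107865 : act 3 n71369 = n33024 := d7_1 D71369 (iv6 D33024) D33022
def n71370 : Q := act 6 n33023
theorem D71370 : act 6 n33023 = n71370 := rfl
theorem F107866 : act 2 n71370 = n56917 := d3_1 D71370 (iv6 D56917) (iv2 F52202)
theorem F107867 : act 4 n71370 = n56983 := d10_1 D71370 (iv6 D56983) (iv4 F52203)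
def n71371 : Q := act 0 n33024
theorem D71371 : act 0 n33024 = n71371 := rfl
def n71372 : Q := act 1 n33024
theorem D71372 : act 1 n33024 = n71372 := rfl
def n71373 : Q := act 5 n33024
theorem D71373 : act 5 n33024 = n71373 := rfl
def n71374 : Q := act 7 n33024
theorem D71374 : act 7 n33024 = n71374 := rfl
theorem F107868 : act 4 n71374 = n33027 := d11_1 D71374 (iv7 D33027) (iv4 F52204)
def n71378 : Q := act 5 n33025
theorem D71378 : act 5 n33025 = n71378 := rfl
def n71379 : Q := act 6 n33025
theorem D71379 : act 6 n33025 = n71379 := rfl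
def n71383 : Q := act 5 n33026
theorem D71383 : act 5 n33026 = n71383 := rfl
def n71384 : Q := act 6 n33026
theorem D71384 : act 6 n33026 = n71384 := rfl
def n71385 : Q := act 4 n33028
theorem D71385 : act 4 n33028 = n71385 := rfl
theorem F107871 : act 2 n71385 = n33231 := d1_1 D71385 F52462 (iv2 F52205)
theorem F107872 : act 7 n71385 = n52818 := d11_2 (iv7 F52207) D71385 (iv4 D52818)
theorem F107873 : act 0 n71385 = n52831 := d17_0 F83480 D57611 F90753 (iv4 D34862) (iv5 D16900) D16898 (iv5 F46143) F52208 D71385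
theorem F107874 : act 1 n71385 = n52830 := d18_6 (iv1 F40496) (iv4 D25593) (iv1 F37031) F37029 D33028 D71385 F86688 F86684 (iv5 D49055)
def n71386 : Q := act 6 n33028
theorem D71386 : act 6 n33028 = n71386 := rfl
theorem F107875 : act 2 n71386 = n48733 := d3_1 D71386 (iv6 D48733) (iv2 F52205)
theorem F107876 : act 3 n71386 = n33031 := d7_1 D71386 (iv6 D33031) (iv3 F52206)
def n71387 : Q := act 5 n33029
theorem D71387 : act 5 n33029 = n71387 := rfl
theorem F107877 : act 2 n71387 = n43887 := d2_1 D71387 (iv5 D43887) F65511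
theorem F107878 : act 3 n71387 = n33033 := d6_1 D71387 (iv5 D33033) (iv3 F52211)
theorem F107879 : act 7 n71387 = n43885 := d13_2 (iv7 F65517) D71387 (iv5 D43885)
def n71388 : Q := act 3 n33030
theorem D71388 : act 3 n33030 = n71388 := rfl
theorem F107880 : act 5 n71388 = n56981 := d6_2 (iv5 F52214) D71388 (iv3 D56981)
def n71389 : Q := act 6 n33030
theorem D71389 : act 6 n33030 = n71389 := rfl
theorem F107881 : act 2 n71389 = n33063 := d3_1 D71389 (iv6 D33063) (iv2 F52213)
theorem F107882 : act 4 n71389 = n33031 := d10_1 D71389 (iv6 D33031) D33030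
def n71390 : Q := act 0 n33031
theorem D71390 : act 0 n33031 = n71390 := rfl
def n71391 : Q := act 1 n33031
theorem D71391 : act 1 n33031 = n71391 := rfl
theorem F107883 : act 1 n71391 = n33067 := d15_1 D71391 (iv7 D33067) (iv2 F52215)
def n71392 : Q := act 5 n33031
theorem D71392 : act 5 n33031 = n71392 := rfl
theorem F107884 : act 2 n71392 = n33066 := d2_1 D71392 (iv5 D33066) (iv2 F52215)
theorem F107885 : act 6 n71392 = n33033 := d12_2 D33031 D71392 (iv5 D33033) (iv6 D15929) D15928
def n71393 : Q := act 7 n33031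
theorem D71393 : act 7 n33031 = n71393 := rfl
theorem F107886 : act 2 n71393 = n33067 := d4_1 D71393 (iv7 D33067) (iv2 F52215)
theorem F107887 : act 1 n33067 = n71390 := d15_0 (iv0 D71390) D71393 F107886
theorem F107888 : act 1 n33065 = n71393 := d15_1 D33065 (iv7 D71393) F52215
theorem F107889 : act 1 n71393 = n33064 := d15_0 (iv0 D33064) D33067 (iv2 F107886)
def n71394 : Q := act 5 n33032
theorem D71394 : act 5 n33032 = n71394 := rfl
theorem F107890 : act 2 n71394 = n33071 := d2_1 D71394 (iv5 D33071) F52218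
theorem F107891 : act 3 n71394 = n54589 := d6_1 D71394 (iv5 D54589) (iv3 F52220)
theorem F107892 : act 7 n71394 = n33069 := d13_2 (iv7 F52217) D71394 (iv5 D33069)
theorem F107893 : act 0 n71394 = n49687 := d17_2 (iv1 F52216) D71394 (iv5 D49687) (iv4 F47449) (iv5 F96070) F96072 (iv5 D33046) F25397 (iv4 F25476)
theorem F107894 : act 1 n71394 = n49685 := d17_6 D11443 D24302 D49838 F78808 F52219 D71394 (iv5 D49685) (iv0 D24230) F18633
def n71395 : Q := act 4 n33033
theorem D71395 : act 4 n33033 = n71395 := rfl
theorem F107895 : act 2 n71395 = n33073 := d1_1 D71395 (iv4 D33073) (iv2 F52223)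
def n71396 : Q := act 5 n33035
theorem D71396 : act 5 n33035 = n71396 := rfl
theorem F107897 : act 3 n71396 = n33036 := d6_1 D71396 (iv5 D33036) D33035
def n71398 : Q := act 6 n33036
theorem D71398 : act 6 n33036 = n71398 := rfl
def n71399 : Q := act 0 n33037
theorem D71399 : act 0 n33037 = n71399 := rfl
theorem F107902 : act 4 n71399 = n54429 := d20_2 (iv4 F52232) D71399 (iv3 D54429) (iv1 F85966) F85962 (iv4 F107070) (iv1 F107072) D70674 (iv3 F107136) (iv1 D33039)
def n71401 : Q := act 5 n33037
theorem D71401 : act 5 n33037 = n71401 := rfl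
theorem F107905 : act 2 n71401 = n33102 := d2_1 D71401 (iv5 D33102) (iv2 F52231)
def n71402 : Q := act 7 n33037
theorem D71402 : act 7 n33037 = n71402 := rfl
theorem F107906 : act 2 n71402 = n33103 := d4_1 D71402 (iv7 D33103) (iv2 F52231)
theorem F107907 : act 4 n71402 = n33041 := d11_1 D71402 (iv7 D33041) (iv4 F52232)
theorem F107908 : act 1 n33101 = n71402 := d15_1 D33101 (iv7 D71402) F52231
theorem F107909 : act 1 n71402 = n33100 := d15_0 (iv0 D33100) D33103 (iv2 F107906)
def n71403 : Q := act 2 n33038
theorem D71403 : act 2 n33038 = n71403 := rfl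
theorem F107910 : act 7 n33039 = n71403 := d15_2 (iv0 D33038) D33039 (iv2 D71403)
def n71404 : Q := act 3 n33038
theorem D71404 : act 3 n33038 = n71404 := rfl
def n71405 : Q := act 4 n33038
theorem D71405 : act 4 n33038 = n71405 := rfl
def n71406 : Q := act 5 n33038
theorem D71406 : act 5 n33038 = n71406 := rfl
def n71407 : Q := act 6 n33038
theorem D71407 : act 6 n33038 = n71407 := rfl
theorem F107911 : act 5 n71407 = n55124 := d21_6 (iv5 D12609) (iv1 F9307) D7466 D15931 D33038 D71407 (iv1 D55124) (iv5 D26637) (iv6 D12729) (iv1 F27275)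
def n71408 : Q := act 7 n33038
theorem D71408 : act 7 n33038 = n71408 := rfl
theorem F107912 : act 2 n71408 = n33039 := d4_1 D71408 F107910 (iv2 D71403)
def n71409 : Q := act 4 n33039
theorem D71409 : act 4 n33039 = n71409 := rfl
def n71410 : Q := act 5 n33039
theorem D71410 : act 5 n33039 = n71410 := rfl
def n71411 : Q := act 6 n33039
theorem D71411 : act 6 n33039 = n71411 := rfl
def n71412 : Q := act 0 n33040
theorem D71412 : act 0 n33040 = n71412 := rfl
def n71413 : Q := act 1 n33040
theorem D71413 : act 1 n33040 = n71413 := rfl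
theorem F107913 : act 1 n71413 = n33117 := d15_1 D71413 (iv7 D33117) (iv2 F52234)
theorem F107914 : act 5 n33782 = n71413 := d21_6 (iv5 D7937) (iv1 D3592) (iv5 F5429) D7590 D16325 D33782 (iv1 D71413) (iv5 D33040) (iv6 D15931) (iv1 F27841)
def n71414 : Q := act 4 n33040
theorem D71414 : act 4 n33040 = n71414 := rfl
theorem F107916 : act 6 n71414 = n33049 := d10_2 (iv6 F52235) D71414 (iv4 D33049)
def n71415 : Q := act 7 n33040
theorem D71415 : act 7 n33040 = n71415 := rfl
theorem F107917 : act 2 n71415 = n33117 := d4_1 D71415 (iv7 D33117) (iv2 F52234)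
theorem F107918 : act 5 n71415 = n33041 := d13_1 D71415 (iv7 D33041) D33040
theorem F107919 : act 1 n33117 = n71412 := d15_0 (iv0 D71412) D71415 F107917
theorem F107920 : act 1 n33115 = n71415 := d15_1 D33115 (iv7 D71415) F52234
theorem F107921 : act 1 n71415 = n33114 := d15_0 (iv0 D33114) D33117 (iv2 F107917)
def n71416 : Q := act 5 n33042
theorem D71416 : act 5 n33042 = n71416 := rfl
theorem F107922 : act 2 n71416 = n33123 := d2_1 D71416 (iv5 D33123) (iv2 F52240)
theorem F107923 : act 3 n71416 = n46140 := d6_1 D71416 (iv5 D46140) F55476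
theorem F107924 : act 6 n71416 = n46139 := d12_2 (iv6 F55478) D71416 (iv5 D46139) (iv6 D22071) D22070
theorem F107925 : act 7 n71416 = n33132 := d13_2 (iv7 F52241) D71416 (iv5 D33132)
def n71417 : Q := act 4 n33043
theorem D71417 : act 4 n33043 = n71417 := rfl
theorem F107926 : act 2 n71417 = n33126 := d1_1 D71417 (iv4 D33126) (iv2 F52243)
theorem F107927 : act 7 n71417 = n33133 := d11_2 (iv7 F52244) D71417 (iv4 D33133)
def n71418 : Q := act 6 n33043
theorem D71418 : act 6 n33043 = n71418 := rfl
theorem F107928 : act 2 n71418 = n33127 := d3_1 D71418 (iv6 D33127) (iv2 F52243)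
theorem F107929 : act 5 n71418 = n35047 := d12_1 D71418 (iv6 D35047) (iv5 F55481) F55482 D33043
def n71419 : Q := act 5 n33045
theorem D71419 : act 5 n33045 = n71419 := rfl
theorem F107930 : act 2 n71419 = n33132 := d2_1 D71419 (iv5 D33132) (iv2 F52248)
theorem F107931 : act 3 n71419 = n61673 := d6_1 D71419 (iv5 D61673) (iv3 F52249)
theorem F107932 : act 7 n71419 = n33123 := d13_2 (iv7 F52250) D71419 (iv5 D33123)
def n71420 : Q := act 4 n33046
theorem D71420 : act 4 n33046 = n71420 := rfl
theorem F107933 : act 2 n71420 = n33133 := d1_1 D71420 (iv4 D33133) (iv2 F52251)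
theorem F107934 : act 7 n71420 = n33126 := d11_2 (iv7 F52253) D71420 (iv4 D33126)
def n71421 : Q := act 6 n33046
theorem D71421 : act 6 n33046 = n71421 := rfl
theorem F107935 : act 2 n71421 = n33134 := d3_1 D71421 (iv6 D33134) (iv2 F52251)
theorem F107936 : act 3 n71421 = n61677 := d7_1 D71421 (iv6 D61677) (iv3 F52252)
def n71422 : Q := act 4 n33047
theorem D71422 : act 4 n33047 = n71422 := rfl
theorem F107937 : act 2 n71422 = n33136 := d1_1 D71422 (iv4 D33136) F52256
theorem F107938 : act 7 n71422 = n33138 := d11_2 F52257 D71422 (iv4 D33138)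
theorem F107939 : act 0 n71422 = n49857 := d18_2 D33047 D71422 (iv4 D49857) (iv5 F46854) D61634 (iv0 F96201) (iv4 D33042) (iv0 D15932) D15934
theorem F107940 : act 1 n71422 = n49854 := d18_6 D11443 D24301 D49832 F78781 (iv5 F52255) D71422 (iv4 D49854) (iv0 D24312) (iv5 D11446)
def n71423 : Q := act 4 n33048
theorem D71423 : act 4 n33048 = n71423 := rfl
theorem F107941 : act 2 n71423 = n33138 := d1_1 D71423 (iv4 D33138) (iv2 F52261)
theorem F107942 : act 7 n71423 = n33136 := d11_2 (iv7 F52259) D71423 (iv4 D33136)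
theorem F107943 : act 0 n71423 = n49854 := d18_2 (iv1 F52258) D71423 (iv4 D49854) F52274 (iv4 F77191) F77194 (iv4 D33045) F25397 (iv5 F25490)
theorem F107944 : act 1 n71423 = n49857 := d18_6 (iv1 F38092) D24306 (iv1 F78785) (iv4 F78786) F52260 D71423 (iv4 D49857) (iv0 F78769) (iv5 D49829)
def n71424 : Q := act 6 n33048
theorem D71424 : act 6 n33048 = n71424 := rfl
theorem F107945 : act 2 n71424 = n33139 := d3_1 D71424 (iv6 D33139) (iv2 F52261)
theorem F107946 : act 5 n71424 = n55996 := d12_1 D71424 (iv6 D55996) (iv5 D27013) D27014 F52260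
def n71425 : Q := act 3 n33049
theorem D71425 : act 3 n33049 = n71425 := rfl
def n71426 : Q := act 5 n33049
theorem D71426 : act 5 n33049 = n71426 := rfl
theorem F107947 : act 2 n71426 = n33142 := d2_1 D71426 (iv5 D33142) (iv2 F52263)
def n71427 : Q := act 6 n33050
theorem D71427 : act 6 n33050 = n71427 := rfl
theorem F107948 : act 2 n71427 = n33144 := d3_1 D71427 (iv6 D33144) (iv2 F52264)
def n71428 : Q := act 6 n33051
theorem D71428 : act 6 n33051 = n71428 := rfl
theorem F107949 : act 2 n71428 = n54321 := d3_1 D71428 (iv6 D54321) (iv2 F52268)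
theorem F107950 : act 3 n71428 = n60053 := d7_1 D71428 (iv6 D60053) (iv3 F52269)
theorem F107951 : act 4 n71428 = n33768 := d10_1 D71428 (iv6 D33768) (iv4 F52272)
theorem F107952 : act 5 n71428 = n71082 := d12_1 D71428 (iv6 D71082) (iv5 D32916) F26993 D33051
def n71429 : Q := act 0 n33052
theorem D71429 : act 0 n33052 = n71429 := rfl
theorem F107953 : act 5 n71429 = n33665 := d17_1 D71429 (iv1 F90808) F90806 (iv4 D34906) (iv5 D16927) F21472 D26987 F43571 D33052
theorem F107954 : act 4 n71429 = n49135 := d18_3 (iv1 F42284) D33052 D71429 F77591 (iv4 F50855) F50852 (iv4 D16924) (iv0 D7897) D7900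
theorem F107955 : act 1 n33055 = n71429 := d15_0 (iv0 D71429) (iv7 F86476) F86475
theorem F107956 : act 2 n71317 = n71429 := d1_3 F107954 F77590 D71317
theorem F107957 : act 7 n71319 = n71429 := d11_0 F107954 F77592 D71319
def n71430 : Q := act 1 n33052
theorem D71430 : act 1 n33052 = n71430 := rfl
theorem F107958 : act 1 n71430 = n33055 := d15_1 D71430 (iv7 F86482) F86481
theorem F107959 : act 7 n71430 = n71317 := d15_2 (iv0 D71429) D71430 F107956
theorem F107960 : act 5 n71430 = n33666 := d17_7 (iv1 F87158) (iv5 D55100) F42670 (iv5 F52319) (iv4 F87731) F87732 D71430 F90809 F90805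
theorem F107961 : act 4 n71430 = n54630 := d18_7 F37278 F37275 F37253 (iv4 D15937) D15938 D33052 D71430 (iv0 D54630) (iv5 D26420)
theorem F107962 : act 2 n71319 = n71430 := d1_3 F107961 (iv2 F86356) D71319
def n71431 : Q := act 6 n33052
theorem D71431 : act 6 n33052 = n71431 := rfl
theorem F107963 : act 3 n71431 = n33678 := d7_1 D71431 (iv6 D33678) (iv3 F52277)
theorem F107964 : act 4 n71431 = n33053 := d10_1 D71431 (iv6 D33053) D33052
def n71432 : Q := act 0 n33053
theorem D71432 : act 0 n33053 = n71432 := rfl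
def n71433 : Q := act 1 n33053
theorem D71433 : act 1 n33053 = n71433 := rfl
def n71434 : Q := act 5 n33053
theorem D71434 : act 5 n33053 = n71434 := rfl
theorem F107965 : act 2 n71434 = n71085 := d2_1 D71434 F107621 F86483
theorem F107966 : act 6 n71434 = n33054 := d12_2 D33053 D71434 (iv5 D33054) (iv6 D15939) D15938
def n71435 : Q := act 7 n33053
theorem D71435 : act 7 n33053 = n71435 := rfl
def n71436 : Q := act 0 n33054
theorem D71436 : act 0 n33054 = n71436 := rfl
theorem F107967 : act 5 n71436 = n43426 := d17_3 (iv1 F42763) D33054 D71436 (iv4 F94972) F94973 (iv0 D33014) (iv5 D15911) (iv0 F27203) D26683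
theorem F107968 : act 1 n52786 = n71436 := d15_0 (iv0 D71436) (iv7 F104862) F104860
theorem F107969 : act 2 n53088 = n71436 := d2_3 F107967 (iv2 F94960) F94962
theorem F107970 : act 3 n43428 = n71436 := d6_3 F107967 (iv3 D43426) D43428
theorem F107971 : act 7 n71083 = n71436 := d15_2 (iv0 F94965) D71083 (iv2 F107969)
def n71437 : Q := act 1 n33054
theorem D71437 : act 1 n33054 = n71437 := rfl
theorem F107972 : act 1 n71437 = n52786 := d15_1 D71437 F83392 (iv2 F52278)
theorem F107973 : act 7 n71437 = n53088 := d15_2 (iv0 D71436) D71437 F107969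
theorem F107974 : act 5 n71437 = n67900 := d17_7 (iv1 F77018) (iv5 F86079) (iv1 F86081) (iv5 D32916) F26996 D33054 D71437 (iv0 F103972) (iv4 D31681)
theorem F107975 : act 3 n34816 = n71437 := d6_3 F107974 F103969 (iv5 F55031)
theorem F107976 : act 2 n71083 = n71437 := d4_3 F107973 F107969 (iv7 F107971)
def n71438 : Q := act 4 n33054
theorem D71438 : act 4 n33054 = n71438 := rfl
theorem F107977 : act 2 n71438 = n71084 := d1_1 D71438 (iv4 D71084) (iv2 F52278)
def n71439 : Q := act 3 n33055
theorem D71439 : act 3 n33055 = n71439 := rfl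
theorem F107978 : act 2 n71439 = n33676 := d0_1 D71439 (iv3 D33676) F44452 (iv3 F86478) F86475
def n71440 : Q := act 5 n33055
theorem D71440 : act 5 n33055 = n71440 := rfl
theorem F107980 : act 4 n71440 = n33096 := d9_1 D71440 F52318 (iv4 F52272) (iv5 D33051) (iv4 D15937) D15938 D33052 (iv5 F87732) F87731 F52319 (iv4 F25843) F25793 F11723 D15941 D33055
def n71441 : Q := act 6 n33055
theorem D71441 : act 6 n33055 = n71441 := rfl
theorem F107981 : act 4 n71441 = n33056 := d10_1 D71441 (iv6 D33056) D33055
def n71442 : Q := act 0 n33056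
theorem D71442 : act 0 n33056 = n71442 := rfl
def n71443 : Q := act 1 n33056
theorem D71443 : act 1 n33056 = n71443 := rfl
def n71444 : Q := act 7 n33056
theorem D71444 : act 7 n33056 = n71444 := rfl
def n71445 : Q := act 0 n33057
theorem D71445 : act 0 n33057 = n71445 := rfl
theorem F107982 : act 4 n71445 = n34982 := d18_1 D71445 (iv1 D34982) D34983 F55420 (iv4 F55552) F61020 (iv4 F90800) (iv0 D57650) F52280
theorem F107983 : act 1 n33059 = n71445 := d15_0 (iv0 D71445) (iv7 F52946) F52944
theorem F107984 : act 2 n60114 = n71445 := d1_3 F107982 (iv2 F55416) D60114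
theorem F107985 : act 7 n71314 = n71445 := d11_0 F107982 F55414 D71314
def n71446 : Q := act 1 n33057
theorem D71446 : act 1 n33057 = n71446 := rfl
theorem F107986 : act 1 n71446 = n33059 := d15_1 D71446 (iv7 F55245) F55244
theorem F107987 : act 7 n71446 = n60114 := d15_2 (iv0 D71445) D71446 F107984
theorem F107988 : act 4 n71446 = n34981 := d17_9 (iv1 F55409) (iv5 D16991) (iv1 F27852) (iv5 F52180) D71319 F107816 (iv0 D57650) F52280 D71446
theorem F107989 : act 2 n71314 = n71446 := d1_3 F107988 (iv2 F55410) D71314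
theorem F107990 : act 3 n57573 = n71446 := d5_5 F107988 (iv3 F55411) D48944 (iv3 F106670) F106671
def n71447 : Q := act 6 n33057
theorem D71447 : act 6 n33057 = n71447 := rfl
theorem F107991 : act 3 n71447 = n57654 := d7_1 D71447 (iv6 D57654) (iv3 F52279)
theorem F107992 : act 4 n71447 = n33058 := d10_1 D71447 (iv6 D33058) D33057
def n71448 : Q := act 0 n33058
theorem D71448 : act 0 n33058 = n71448 := rfl
def n71449 : Q := act 1 n33058
theorem D71449 : act 1 n33058 = n71449 := rfl
def n71450 : Q := act 5 n33058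
theorem D71450 : act 5 n33058 = n71450 := rfl
theorem F107993 : act 6 n71450 = n55964 := d12_2 D33058 D71450 (iv5 D55964) (iv6 D26986) (iv5 F35196)
def n71451 : Q := act 7 n33058
theorem D71451 : act 7 n33058 = n71451 := rfl
def n71452 : Q := act 3 n33059
theorem D71452 : act 3 n33059 = n71452 := rfl
theorem F107994 : act 2 n71452 = n57641 := d0_1 D71452 F90783 F44429 (iv3 F52945) F52944
theorem F107995 : act 5 n71452 = n57640 := d6_2 (iv5 F52938) D71452 F90775
def n71453 : Q := act 6 n33059
theorem D71453 : act 6 n33059 = n71453 := rfl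
theorem F107996 : act 4 n71453 = n33060 := d10_1 D71453 (iv6 D33060) D33059
def n71454 : Q := act 0 n33060
theorem D71454 : act 0 n33060 = n71454 := rfl
def n71455 : Q := act 1 n33060
theorem D71455 : act 1 n33060 = n71455 := rfl
def n71456 : Q := act 7 n33060
theorem D71456 : act 7 n33060 = n71456 := rfl
def n71457 : Q := act 6 n33061
theorem D71457 : act 6 n33061 = n71457 := rfl
theorem F107997 : act 4 n71457 = n55987 := d10_1 D71457 (iv6 D55987) (iv4 F52281)
def n71458 : Q := act 6 n33062
theorem D71458 : act 6 n33062 = n71458 := rfl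
theorem F107998 : act 2 n71458 = n56982 := d3_1 D71458 (iv6 D56982) (iv2 F52282)
def n71459 : Q := act 0 n33063
theorem D71459 : act 0 n33063 = n71459 := rfl
def n71460 : Q := act 1 n33063
theorem D71460 : act 1 n33063 = n71460 := rfl
def n71461 : Q := act 5 n33063
theorem D71461 : act 5 n33063 = n71461 := rfl
def n71462 : Q := act 7 n33063
theorem D71462 : act 7 n33063 = n71462 := rfl
theorem F107999 : act 4 n71462 = n33067 := d11_1 D71462 (iv7 D33067) (iv4 F52286)
def n71463 : Q := act 2 n33064
theorem D71463 : act 2 n33064 = n71463 := rfl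
theorem F108000 : act 7 n33065 = n71463 := d15_2 (iv0 D33064) D33065 (iv2 D71463)
def n71464 : Q := act 3 n33064
theorem D71464 : act 3 n33064 = n71464 := rfl
def n71465 : Q := act 4 n33064
theorem D71465 : act 4 n33064 = n71465 := rfl
def n71466 : Q := act 5 n33064
theorem D71466 : act 5 n33064 = n71466 := rfl
def n71467 : Q := act 6 n33064
theorem D71467 : act 6 n33064 = n71467 := rfl
def n71468 : Q := act 7 n33064
theorem D71468 : act 7 n33064 = n71468 := rfl
theorem F108001 : act 2 n71468 = n33065 := d4_1 D71468 F108000 (iv2 D71463)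
def n71469 : Q := act 3 n33065
theorem D71469 : act 3 n33065 = n71469 := rfl
def n71470 : Q := act 4 n33065
theorem D71470 : act 4 n33065 = n71470 := rfl
def n71471 : Q := act 5 n33065
theorem D71471 : act 5 n33065 = n71471 := rfl
def n71472 : Q := act 6 n33065
theorem D71472 : act 6 n33065 = n71472 := rfl
def n71473 : Q := act 0 n33066
theorem D71473 : act 0 n33066 = n71473 := rfl
def n71474 : Q := act 1 n33066
theorem D71474 : act 1 n33066 = n71474 := rfl
def n71475 : Q := act 4 n33066
theorem D71475 : act 4 n33066 = n71475 := rfl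
theorem F108002 : act 6 n71475 = n33073 := d10_2 (iv6 F52288) D71475 (iv4 D33073)
def n71476 : Q := act 7 n33066
theorem D71476 : act 7 n33066 = n71476 := rfl
theorem F108003 : act 3 n71476 = n52802 := d8_1 D71476 (iv7 D52802) (iv3 F52287)
theorem F108004 : act 5 n71476 = n33067 := d13_1 D71476 (iv7 D33067) D33066
def n71477 : Q := act 5 n33068
theorem D71477 : act 5 n33068 = n71477 := rfl
theorem F108005 : act 2 n71477 = n54586 := d2_1 D71477 (iv5 D54586) (iv2 F52290)
theorem F108006 : act 3 n71477 = n33069 := d6_1 D71477 (iv5 D33069) D33068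
theorem F108007 : act 7 n71477 = n54589 := d13_2 (iv7 F52291) D71477 (iv5 D54589)
theorem F108008 : act 1 n51060 = n54589 := d15_1 F86269 (iv7 F108007) F108005
def n71478 : Q := act 0 n33069
theorem D71478 : act 0 n33069 = n71478 := rfl
theorem F108009 : act 5 n71478 = n49684 := d17_3 D15947 D33069 D71478 F78497 (iv5 F52354) (iv0 D33125) (iv5 D15972) (iv0 D7476) (iv4 F11726)
theorem F108010 : act 2 n49685 = n71478 := d15_3 (iv0 D71478) (iv0 F95751) F95749
theorem F108011 : act 1 n33071 = n71478 := d15_0 (iv0 D71478) (iv7 F107892) F107890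
theorem F108012 : act 7 n71478 = n49687 := d15_2 F95750 F108011 (iv2 F95747)
theorem F108013 : act 3 n71478 = n43888 := d0_2 (iv3 F78502) F108010 (iv2 F95764) F95761 F46789
def n71479 : Q := act 4 n33069
theorem D71479 : act 4 n33069 = n71479 := rfl
def n71480 : Q := act 6 n33069
theorem D71480 : act 6 n33069 = n71480 := rfl
theorem F108014 : act 5 n71480 = n43864 := d12_1 D71480 (iv6 D43864) (iv5 F52297) (iv6 D33070) D33069
def n71481 : Q := act 4 n33071
theorem D71481 : act 4 n33071 = n71481 := rfl
def n71482 : Q := act 6 n33071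
theorem D71482 : act 6 n33071 = n71482 := rfl
theorem F108015 : act 5 n71482 = n61621 := d12_1 D71482 (iv6 D61621) (iv5 D29196) (iv6 F26992) D33071
def n71483 : Q := act 3 n33072
theorem D71483 : act 3 n33072 = n71483 := rfl
theorem F108016 : act 2 n71483 = n51067 := d0_1 D71483 F80530 F38889 (iv3 F78517) F78516
theorem F108017 : act 5 n71483 = n51056 := d6_2 (iv5 F78513) D71483 F80514
theorem F108018 : act 7 n71483 = n51062 := d8_2 (iv7 F78512) D71483 F80526
theorem F108019 : act 1 n51064 = n71483 := d15_1 D51064 F108018 F80525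
theorem F108020 : act 0 n51063 = n71483 := d17_2 F54250 (iv5 F80527) F108017 F80512 (iv5 F86242) (iv0 D54564) (iv5 D26386) F27012 (iv4 F47688)
def n71484 : Q := act 4 n33072
theorem D71484 : act 4 n33072 = n71484 := rfl
def n71485 : Q := act 6 n33072
theorem D71485 : act 6 n33072 = n71485 := rfl
def n71486 : Q := act 0 n33073
theorem D71486 : act 0 n33073 = n71486 := rfl
def n71487 : Q := act 1 n33073
theorem D71487 : act 1 n33073 = n71487 := rfl
def n71488 : Q := act 3 n33073
theorem D71488 : act 3 n33073 = n71488 := rfl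
theorem F108021 : act 4 n71488 = n52803 := d5_2 D33073 D71488 (iv3 D52803) (iv4 D25628) (iv3 F25474)
def n71489 : Q := act 5 n33073
theorem D71489 : act 5 n33073 = n71489 := rfl
def n71490 : Q := act 7 n33073
theorem D71490 : act 7 n33073 = n71490 := rfl
theorem F108022 : act 4 n71490 = n33074 := d11_1 D71490 (iv7 D33074) D33073
def n71491 : Q := act 6 n33074
theorem D71491 : act 6 n33074 = n71491 := rfl
theorem F108023 : act 3 n71491 = n52804 := d7_1 D71491 (iv6 D52804) (iv3 F52299)
def n71492 : Q := act 6 n33075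
theorem D71492 : act 6 n33075 = n71492 := rfl
theorem F108024 : act 4 n71492 = n70351 := d10_1 D71492 (iv6 D70351) (iv4 F52302)
def n71493 : Q := act 0 n33076
theorem D71493 : act 0 n33076 = n71493 := rfl
def n71494 : Q := act 1 n33076
theorem D71494 : act 1 n33076 = n71494 := rfl
def n71495 : Q := act 5 n33076
theorem D71495 : act 5 n33076 = n71495 := rfl
def n71496 : Q := act 7 n33076
theorem D71496 : act 7 n33076 = n71496 := rfl
theorem F108025 : act 4 n71496 = n33080 := d11_1 D71496 (iv7 D33080) (iv4 F52303)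
def n71497 : Q := act 2 n33077
theorem D71497 : act 2 n33077 = n71497 := rfl
theorem F108026 : act 7 n33078 = n71497 := d15_2 (iv0 D33077) D33078 (iv2 D71497)
def n71498 : Q := act 3 n33077
theorem D71498 : act 3 n33077 = n71498 := rfl
def n71499 : Q := act 4 n33077
theorem D71499 : act 4 n33077 = n71499 := rfl
def n71500 : Q := act 5 n33077
theorem D71500 : act 5 n33077 = n71500 := rfl
def n71501 : Q := act 6 n33077
theorem D71501 : act 6 n33077 = n71501 := rfl
def n71502 : Q := act 7 n33077
theorem D71502 : act 7 n33077 = n71502 := rfl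
theorem F108027 : act 2 n71502 = n33078 := d4_1 D71502 F108026 (iv2 D71497)
def n71505 : Q := act 5 n33078
theorem D71505 : act 5 n33078 = n71505 := rfl
def n71506 : Q := act 6 n33078
theorem D71506 : act 6 n33078 = n71506 := rfl
def n71507 : Q := act 0 n33079
theorem D71507 : act 0 n33079 = n71507 := rfl
def n71508 : Q := act 1 n33079
theorem D71508 : act 1 n33079 = n71508 := rfl
theorem F108028 : act 5 n71379 = n71508 := d21_6 (iv5 D12617) (iv1 F9312) D7463 D15922 D33025 D71379 (iv1 D71508) (iv5 D33079) (iv6 D15955) (iv1 F21009)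
def n71509 : Q := act 4 n33079
theorem D71509 : act 4 n33079 = n71509 := rfl
theorem F108029 : act 6 n71509 = n55989 := d10_2 (iv6 F52304) D71509 (iv4 D55989)
def n71510 : Q := act 7 n33079
theorem D71510 : act 7 n33079 = n71510 := rfl
theorem F108030 : act 5 n71510 = n33080 := d13_1 D71510 (iv7 D33080) D33079
def n71511 : Q := act 3 n33081
theorem D71511 : act 3 n33081 = n71511 := rfl
theorem F108031 : act 4 n71511 = n33083 := d5_2 D33081 D71511 (iv3 D33083) (iv4 D15958) D15957
def n71512 : Q := act 5 n33081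
theorem D71512 : act 5 n33081 = n71512 := rfl
theorem F108032 : act 0 n71512 = n48997 := d17_2 (iv1 F52306) D71512 (iv5 D48997) (iv4 D23906) F37308 F12541 (iv5 F25192) F25194 D32418
theorem F108033 : act 1 n71512 = n33093 := d17_6 F42378 F27028 (iv1 F27251) (iv5 F35190) D33081 D71512 (iv5 F52313) D48987 F77305
theorem F108034 : act 4 n71512 = n45214 := d18_5 (iv1 F51933) F51935 (iv1 F43066) D33081 D71512 (iv0 D45214) F33966 D36011 F56767
def n71513 : Q := act 6 n33081
theorem D71513 : act 6 n33081 = n71513 := rfl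
theorem F108035 : act 4 n71513 = n33082 := d10_1 D71513 (iv6 D33082) D33081
def n71514 : Q := act 0 n33082
theorem D71514 : act 0 n33082 = n71514 := rfl
def n71515 : Q := act 1 n33082
theorem D71515 : act 1 n33082 = n71515 := rfl
def n71516 : Q := act 7 n33082
theorem D71516 : act 7 n33082 = n71516 := rfl
def n71517 : Q := act 0 n33083
theorem D71517 : act 0 n33083 = n71517 := rfl
theorem F108037 : act 3 n71517 = n57054 := d20_5 (iv4 D26435) (iv1 F21008) D15958 D33083 D71517 F90108 (iv1 F87699) (iv4 F87694) (iv3 D33090) (iv1 F42254)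
theorem F108038 : act 2 n36821 = n71517 := d15_3 (iv0 D71517) (iv0 F56762) (iv7 F57741)
theorem F108039 : act 1 n40121 = n71517 := d15_0 (iv0 D71517) (iv7 F55550) (iv2 F61014)
def n71518 : Q := act 5 n33083
theorem D71518 : act 5 n33083 = n71518 := rfl
theorem F108040 : act 2 n71518 = n40043 := d2_1 D71518 (iv5 F75760) F75759
theorem F108041 : act 3 n71518 = n33084 := d6_1 D71518 (iv5 D33084) D33083
theorem F108042 : act 7 n71518 = n40119 := d13_2 F55550 D71518 (iv5 F61010)
theorem F108043 : act 1 n40118 = n71518 := d15_1 D40118 F108042 (iv2 D40119)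
theorem F108044 : act 4 n71368 = n71518 := d5_0 F108041 (iv4 F90292) F90291 (iv4 F90634) (iv3 F107862)
theorem F108045 : act 0 n40117 = n71518 := d20_4 F28896 (iv1 F29535) (iv4 F56778) (iv3 F61008) F108041 (iv4 F90292) (iv1 F90296) (iv4 F44377) F42682 (iv1 F28898)
def n71519 : Q := act 6 n33083
theorem D71519 : act 6 n33083 = n71519 := rfl
theorem F108046 : act 3 n71519 = n33085 := d7_1 D71519 (iv6 D33085) D33083
def n71520 : Q := act 6 n33084
theorem D71520 : act 6 n33084 = n71520 := rfl
theorem F108047 : act 2 n71520 = n40130 := d3_1 D71520 (iv6 D40130) (iv2 F52308)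
def n71521 : Q := act 0 n33085
theorem D71521 : act 0 n33085 = n71521 := rfl
def n71522 : Q := act 1 n33085
theorem D71522 : act 1 n33085 = n71522 := rfl
def n71523 : Q := act 5 n33085
theorem D71523 : act 5 n33085 = n71523 := rfl
def n71524 : Q := act 7 n33085
theorem D71524 : act 7 n33085 = n71524 := rfl
theorem F108048 : act 4 n71524 = n33089 := d11_1 D71524 (iv7 D33089) (iv4 F52309)
def n71529 : Q := act 6 n33086
theorem D71529 : act 6 n33086 = n71529 := rfl
def n71531 : Q := act 3 n33087
theorem D71531 : act 3 n33087 = n71531 := rfl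
def n71532 : Q := act 4 n33087
theorem D71532 : act 4 n33087 = n71532 := rfl
def n71533 : Q := act 5 n33087
theorem D71533 : act 5 n33087 = n71533 := rfl
def n71534 : Q := act 6 n33087
theorem D71534 : act 6 n33087 = n71534 := rfl
def n71535 : Q := act 0 n33088
theorem D71535 : act 0 n33088 = n71535 := rfl
def n71536 : Q := act 1 n33088
theorem D71536 : act 1 n33088 = n71536 := rfl
theorem F108051 : act 5 n71339 = n71536 := d21_6 (iv5 D3415) D3411 D7458 D15907 D33008 D71339 (iv1 D71536) (iv5 D33088) (iv6 D15960) (iv1 D7473)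
def n71537 : Q := act 4 n33088
theorem D71537 : act 4 n33088 = n71537 := rfl
theorem F108052 : act 6 n71537 = n55994 := d10_2 (iv6 F52310) D71537 (iv4 D55994)
def n71538 : Q := act 7 n33088
theorem D71538 : act 7 n33088 = n71538 := rfl
theorem F108053 : act 5 n71538 = n33089 := d13_1 D71538 (iv7 D33089) D33088
def n71539 : Q := act 0 n33090
theorem D71539 : act 0 n33090 = n71539 := rfl
theorem F108054 : act 5 n71539 = n39983 := d19_1 D71539 F60857 (iv3 D27164) (iv1 F21653) D17617 F28651 (iv3 F25480) D33096 F52318 (iv4 F52272) F52269 F46086 (iv5 F25994) (iv4 D16482) D16481 (iv1 F27736) D32656 F51724 D33090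
theorem F108055 : act 3 n71539 = n36876 := d20_5 F55427 (iv1 F51723) F51724 D33090 D71539 F57821 (iv1 D19278) (iv4 F30266) (iv3 F30268) D34987
def n71540 : Q := act 1 n33090
theorem D71540 : act 1 n33090 = n71540 := rfl
def n71541 : Q := act 5 n33090
theorem D71541 : act 5 n33090 = n71541 := rfl
theorem F108056 : act 2 n71541 = n48996 := d2_1 D71541 (iv5 F90155) F90153
theorem F108057 : act 3 n71541 = n33091 := d6_1 D71541 (iv5 D33091) D33090
theorem F108058 : act 0 n71541 = n35449 := d20_4 (iv4 F90800) (iv1 F90802) F52937 (iv3 F108057) F56156 (iv4 D19157) F14003 F14004 D18958 D40128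
def n71542 : Q := act 6 n33090
theorem D71542 : act 6 n33090 = n71542 := rfl
theorem F108059 : act 3 n71542 = n33092 := d7_1 D71542 (iv6 D33092) D33090
def n71543 : Q := act 6 n33091
theorem D71543 : act 6 n33091 = n71543 := rfl
def n71544 : Q := act 0 n33092
theorem D71544 : act 0 n33092 = n71544 := rfl
def n71545 : Q := act 1 n33092
theorem D71545 : act 1 n33092 = n71545 := rfl
def n71546 : Q := act 5 n33092
theorem D71546 : act 5 n33092 = n71546 := rfl
def n71547 : Q := act 7 n33092
theorem D71547 : act 7 n33092 = n71547 := rfl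
def n71548 : Q := act 1 n33093
theorem D71548 : act 1 n33093 = n71548 := rfl
theorem F108061 : act 5 n71548 = n55995 := d17_7 (iv1 D15319) (iv5 D7250) D7246 (iv5 F30279) D23902 F52313 D71548 F88632 (iv4 D32421)
theorem F108062 : act 4 n45215 = n71548 := d20_0 (iv1 D71548) F52312 (iv3 D32838) (iv1 F51805) D70542 F107002 (iv1 F72438) (iv4 F71247) F71246 (iv1 F71273)
theorem F108063 : act 3 n70546 = n45215 := d20_5 (iv4 D32725) (iv1 D15634) D15635 D32727 D70546 F108062 (iv1 D71548) F52312 (iv3 D32838) (iv1 F51805)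
def n71549 : Q := act 6 n33093
theorem D71549 : act 6 n33093 = n71549 := rfl
theorem F108065 : act 3 n71549 = n33095 := d7_1 D71549 (iv6 D33095) D33093
theorem F108066 : act 4 n71549 = n70863 := d10_1 D71549 (iv6 D70863) (iv4 F52312)
def n71550 : Q := act 6 n33094
theorem D71550 : act 6 n33094 = n71550 := rfl
theorem F108067 : act 3 n71550 = n48988 := d7_1 D71550 (iv6 D48988) (iv3 F52314)
theorem F108068 : act 4 n71550 = n57652 := d10_1 D71550 (iv6 D57652) (iv4 F52315)
def n71551 : Q := act 0 n33095
theorem D71551 : act 0 n33095 = n71551 := rfl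
def n71552 : Q := act 1 n33095
theorem D71552 : act 1 n33095 = n71552 := rfl
def n71553 : Q := act 5 n33095
theorem D71553 : act 5 n33095 = n71553 := rfl
def n71554 : Q := act 7 n33095
theorem D71554 : act 7 n33095 = n71554 := rfl
theorem F108069 : act 4 n71554 = n70861 := d11_1 D71554 (iv7 D70861) (iv4 F52317)
def n71555 : Q := act 3 n33096
theorem D71555 : act 3 n33096 = n71555 := rfl
theorem F108070 : act 2 n71555 = n69811 := d0_1 D71555 (iv3 D69811) F51480 D48950 F77216
theorem F108071 : act 5 n71555 = n33767 := d6_2 (iv5 F52318) D71555 (iv3 D33767)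
def n71556 : Q := act 6 n33096
theorem D71556 : act 6 n33096 = n71556 := rfl
def n71557 : Q := act 6 n33097
theorem D71557 : act 6 n33097 = n71557 := rfl
theorem F108072 : act 3 n71557 = n69805 := d7_1 D71557 (iv6 D69805) F52320
def n71558 : Q := act 3 n33098
theorem D71558 : act 3 n33098 = n71558 := rfl
theorem F108073 : act 4 n71558 = n36493 := d5_2 D33098 D71558 F57316 F28651 (iv3 F25480)
theorem F108074 : act 7 n71558 = n56981 := d8_2 (iv7 F52322) D71558 (iv3 D56981)
def n71559 : Q := act 6 n33098
theorem D71559 : act 6 n33098 = n71559 := rfl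
def n71564 : Q := act 2 n33100
theorem D71564 : act 2 n33100 = n71564 := rfl
theorem F108080 : act 7 n33101 = n71564 := d15_2 (iv0 D33100) D33101 (iv2 D71564)
def n71566 : Q := act 4 n33100
theorem D71566 : act 4 n33100 = n71566 := rfl
def n71568 : Q := act 6 n33100
theorem D71568 : act 6 n33100 = n71568 := rfl
def n71570 : Q := act 3 n33101
theorem D71570 : act 3 n33101 = n71570 := rfl
def n71571 : Q := act 4 n33101
theorem D71571 : act 4 n33101 = n71571 := rfl
theorem F108082 : act 3 n71571 = n54427 := d20_3 (iv4 F107907) (iv1 F107908) D71571 (iv1 D54427) F41977 (iv4 F51840) D70600 (iv4 F107073) (iv3 D33105) (iv1 F52239)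
theorem F108083 : act 7 n54429 = n71571 := d8_0 F108082 F85959 D54429
theorem E9650 : n71564 = n71399 := (c11_3 F108083 (iv4 D71571) F108080 F107902)
theorem F108084 : act 2 n71399 = n33100 := (sb E9650 (iv2 D71564))
theorem F108085 : act 7 n71399 = n33101 := (sb E9650 (iv7 F108080))
theorem F108088 : act 2 n71566 = n54429 := d1_3 (iv4 F107902) F108084 D71566
def n71573 : Q := act 6 n33101
theorem D71573 : act 6 n33101 = n71573 := rfl
def n71574 : Q := act 0 n33102
theorem D71574 : act 0 n33102 = n71574 := rfl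
def n71575 : Q := act 1 n33102
theorem D71575 : act 1 n33102 = n71575 := rfl
def n71577 : Q := act 7 n33102
theorem D71577 : act 7 n33102 = n71577 := rfl
def n71579 : Q := act 1 n33104
theorem D71579 : act 1 n33104 = n71579 := rfl
theorem F108092 : act 1 n71579 = n33109 := d15_1 D71579 (iv7 D33109) D33104
def n71580 : Q := act 3 n33104
theorem D71580 : act 3 n33104 = n71580 := rfl
theorem F108093 : act 7 n71580 = n33110 := d8_2 F52329 D71580 (iv3 D33110)
def n71581 : Q := act 4 n33104
theorem D71581 : act 4 n33104 = n71581 := rfl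
theorem F108094 : act 2 n71581 = n33106 := d1_1 D71581 (iv4 D33106) D33104
theorem F108095 : act 7 n71581 = n33111 := d11_2 F52329 D71581 (iv4 D33111)
def n71582 : Q := act 5 n33104
theorem D71582 : act 5 n33104 = n71582 := rfl
theorem F108096 : act 2 n71582 = n33107 := d2_1 D71582 (iv5 D33107) D33104
theorem F108097 : act 7 n71582 = n33112 := d13_2 F52329 D71582 (iv5 D33112)
def n71583 : Q := act 6 n33104
theorem D71583 : act 6 n33104 = n71583 := rfl
theorem F108098 : act 2 n71583 = n33108 := d3_1 D71583 (iv6 D33108) D33104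
def n71584 : Q := act 0 n33105
theorem D71584 : act 0 n33105 = n71584 := rfl
def n71585 : Q := act 1 n33105
theorem D71585 : act 1 n33105 = n71585 := rfl
def n71586 : Q := act 2 n33105
theorem D71586 : act 2 n33105 = n71586 := rfl
def n71587 : Q := act 5 n33105
theorem D71587 : act 5 n33105 = n71587 := rfl
theorem F108099 : act 3 n71587 = n33107 := d6_1 D71587 (iv5 D33107) D33105
def n71588 : Q := act 6 n33105
theorem D71588 : act 6 n33105 = n71588 := rfl
theorem F108100 : act 3 n71588 = n33108 := d7_1 D71588 (iv6 D33108) D33105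
def n71589 : Q := act 7 n33105
theorem D71589 : act 7 n33105 = n71589 := rfl
theorem F108101 : act 3 n71589 = n33109 := d8_1 D71589 (iv7 D33109) D33105
def n71590 : Q := act 0 n33106
theorem D71590 : act 0 n33106 = n71590 := rfl
def n71591 : Q := act 1 n33106
theorem D71591 : act 1 n33106 = n71591 := rfl
theorem F108102 : act 1 n71591 = n33111 := d15_1 D71591 (iv7 F108095) F108094
def n71592 : Q := act 3 n33106
theorem D71592 : act 3 n33106 = n71592 := rfl
def n71594 : Q := act 6 n33106
theorem D71594 : act 6 n33106 = n71594 := rfl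
theorem F108103 : act 4 n71594 = n33108 := d10_1 D71594 (iv6 D33108) D33106
def n71595 : Q := act 7 n33106
theorem D71595 : act 7 n33106 = n71595 := rfl
theorem F108104 : act 2 n71595 = n33111 := d4_1 D71595 (iv7 F108095) F108094
theorem F108105 : act 4 n71595 = n33109 := d11_1 D71595 (iv7 D33109) D33106
theorem F108106 : act 1 n33111 = n71590 := d15_0 (iv0 D71590) D71595 F108104
def n71596 : Q := act 0 n33107
theorem D71596 : act 0 n33107 = n71596 := rfl
theorem F108107 : act 5 n71596 = n71384 := d21_2 D33107 D71596 (iv6 D71384) (iv1 D33026) (iv6 D15922) (iv5 D7463) (iv1 D3412) D3415 D7475 D15965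
def n71597 : Q := act 1 n33107
theorem D71597 : act 1 n33107 = n71597 := rfl
theorem F108108 : act 1 n71597 = n33112 := d15_1 D71597 (iv7 F108097) F108096
def n71599 : Q := act 6 n33107
theorem D71599 : act 6 n33107 = n71599 := rfl
def n71600 : Q := act 7 n33107
theorem D71600 : act 7 n33107 = n71600 := rfl
theorem F108109 : act 2 n71600 = n33112 := d4_1 D71600 (iv7 F108097) F108096
theorem F108110 : act 5 n71600 = n33109 := d13_1 D71600 (iv7 D33109) D33107
theorem F108111 : act 1 n33112 = n71596 := d15_0 (iv0 D71596) D71600 F108109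
def n71601 : Q := act 0 n33108
theorem D71601 : act 0 n33108 = n71601 := rfl
def n71602 : Q := act 1 n33108
theorem D71602 : act 1 n33108 = n71602 := rfl
def n71603 : Q := act 7 n33108
theorem D71603 : act 7 n33108 = n71603 := rfl
def n71604 : Q := act 6 n33109
theorem D71604 : act 6 n33109 = n71604 := rfl
theorem F108112 : act 2 n71604 = n33113 := d3_1 D71604 (iv6 D33113) (iv2 F52330)
def n71605 : Q := act 0 n33110
theorem D71605 : act 0 n33110 = n71605 := rfl
def n71606 : Q := act 1 n33110
theorem D71606 : act 1 n33110 = n71606 := rfl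
def n71607 : Q := act 2 n33110
theorem D71607 : act 2 n33110 = n71607 := rfl
def n71608 : Q := act 4 n33110
theorem D71608 : act 4 n33110 = n71608 := rfl
def n71609 : Q := act 5 n33110
theorem D71609 : act 5 n33110 = n71609 := rfl
theorem F108113 : act 3 n71609 = n33112 := d6_1 D71609 (iv5 D33112) D33110
def n71610 : Q := act 6 n33110
theorem D71610 : act 6 n33110 = n71610 := rfl
theorem F108114 : act 3 n71610 = n33113 := d7_1 D71610 (iv6 D33113) D33110
def n71615 : Q := act 6 n33112
theorem D71615 : act 6 n33112 = n71615 := rfl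
def n71616 : Q := act 0 n33113
theorem D71616 : act 0 n33113 = n71616 := rfl
def n71617 : Q := act 1 n33113
theorem D71617 : act 1 n33113 = n71617 := rfl
def n71619 : Q := act 7 n33113
theorem D71619 : act 7 n33113 = n71619 := rfl
def n71620 : Q := act 2 n33114
theorem D71620 : act 2 n33114 = n71620 := rfl
theorem F108117 : act 7 n33115 = n71620 := d15_2 (iv0 D33114) D33115 (iv2 D71620)
def n71621 : Q := act 3 n33114
theorem D71621 : act 3 n33114 = n71621 := rfl
def n71622 : Q := act 4 n33114
theorem D71622 : act 4 n33114 = n71622 := rfl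
def n71623 : Q := act 5 n33114
theorem D71623 : act 5 n33114 = n71623 := rfl
def n71624 : Q := act 6 n33114
theorem D71624 : act 6 n33114 = n71624 := rfl
def n71625 : Q := act 7 n33114
theorem D71625 : act 7 n33114 = n71625 := rfl
theorem F108118 : act 2 n71625 = n33115 := d4_1 D71625 F108117 (iv2 D71620)
def n71626 : Q := act 3 n33115
theorem D71626 : act 3 n33115 = n71626 := rfl
def n71627 : Q := act 4 n33115
theorem D71627 : act 4 n33115 = n71627 := rfl
def n71628 : Q := act 5 n33115
theorem D71628 : act 5 n33115 = n71628 := rfl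
theorem F108119 : act 6 n71628 = n33763 := d21_3 (iv5 F107918) (iv1 F107920) D71628 (iv1 F53006) (iv6 F42690) (iv5 F87186) (iv1 F87188) (iv5 F60246) (iv6 D33108) (iv1 F52239)
def n71629 : Q := act 6 n33115
theorem D71629 : act 6 n33115 = n71629 := rfl
def n71631 : Q := act 1 n33116
theorem D71631 : act 1 n33116 = n71631 := rfl
def n71632 : Q := act 3 n33116
theorem D71632 : act 3 n33116 = n71632 := rfl
theorem F108120 : act 4 n71632 = n33168 := d5_2 D33116 D71632 (iv3 D33168) (iv4 D15995) (iv3 F25483)
theorem F108121 : act 6 n71632 = n33141 := d7_2 (iv6 F52331) D71632 (iv3 D33141)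
def n71633 : Q := act 5 n33116
theorem D71633 : act 5 n33116 = n71633 := rfl
def n71634 : Q := act 7 n33116
theorem D71634 : act 7 n33116 = n71634 := rfl
theorem F108122 : act 4 n71634 = n33117 := d11_1 D71634 (iv7 D33117) D33116
def n71635 : Q := act 6 n33117
theorem D71635 : act 6 n33117 = n71635 := rfl
theorem F108123 : act 3 n71635 = n33171 := d7_1 D71635 (iv6 D33171) (iv3 F52332)
theorem F108124 : act 7 n71635 = n33144 := d14_2 D33117 D71635 (iv6 D33144) (iv7 D15982) (iv6 F25484)
def n71636 : Q := act 6 n33119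
theorem D71636 : act 6 n33119 = n71636 := rfl
theorem F108125 : act 2 n71636 = n61659 := d3_1 D71636 (iv6 D61659) (iv2 F52337)
theorem F108126 : act 3 n71636 = n33127 := d7_1 D71636 (iv6 D33127) (iv3 F52338)
def n71637 : Q := act 5 n33121
theorem D71637 : act 5 n33121 = n71637 := rfl
theorem F108127 : act 3 n71637 = n62758 := d6_1 D71637 (iv5 D62758) (iv3 F52349)
def n71638 : Q := act 4 n33123
theorem D71638 : act 4 n33123 = n71638 := rfl
def n71639 : Q := act 6 n33123
theorem D71639 : act 6 n33123 = n71639 := rfl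
theorem F108128 : act 2 n71639 = n46139 := d3_1 D71639 (iv6 F107924) F107922
theorem F108129 : act 5 n71639 = n46134 := d12_1 D71639 (iv6 D46134) (iv5 F55483) (iv6 D33124) D33123
def n71640 : Q := act 4 n33125
theorem D71640 : act 4 n33125 = n71640 := rfl
theorem F108130 : act 2 n71640 = n61391 := d1_1 D71640 (iv4 D61391) F52356
theorem F108131 : act 0 n71640 = n61635 := d18_2 D33125 D71640 (iv4 D61635) (iv5 D29202) F26985 F52226 F52225 F25403 D15972
def n71641 : Q := act 6 n33125
theorem D71641 : act 6 n33125 = n71641 := rfl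
theorem F108132 : act 2 n71641 = n61392 := d3_1 D71641 (iv6 D61392) F52356
theorem F108133 : act 3 n71641 = n55281 := d7_1 D71641 (iv6 D55281) (iv3 F52358)
def n71642 : Q := act 3 n33126
theorem D71642 : act 3 n33126 = n71642 := rfl
def n71643 : Q := act 5 n33126
theorem D71643 : act 5 n33126 = n71643 := rfl
def n71644 : Q := act 6 n33126
theorem D71644 : act 6 n33126 = n71644 := rfl
theorem F108134 : act 4 n71644 = n33127 := d10_1 D71644 (iv6 D33127) D33126
def n71645 : Q := act 0 n33127
theorem D71645 : act 0 n33127 = n71645 := rfl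
def n71646 : Q := act 1 n33127
theorem D71646 : act 1 n33127 = n71646 := rfl
def n71647 : Q := act 5 n33127
theorem D71647 : act 5 n33127 = n71647 := rfl
theorem F108135 : act 2 n71647 = n35047 := d2_1 D71647 (iv5 F107929) F107928
theorem F108136 : act 6 n71647 = n33128 := d12_2 D33127 D71647 (iv5 D33128) (iv6 D15973) D15972
def n71648 : Q := act 7 n33127
theorem D71648 : act 7 n33127 = n71648 := rfl
def n71649 : Q := act 4 n33128
theorem D71649 : act 4 n33128 = n71649 := rfl
theorem F108137 : act 2 n71649 = n35046 := d1_1 D71649 (iv4 D35046) (iv2 F52359)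
theorem F108138 : act 5 n71649 = n33629 := d9_2 D33128 D71649 F52917 (iv5 D19584) (iv4 F31336) D41563 (iv4 F78731) F78734 (iv4 F90070) F90071 F44373 F29810 (iv4 F34541) (iv5 F55483) F52353
theorem F108139 : act 7 n71649 = n35043 := d11_2 (iv7 F55582) D71649 (iv4 D35043)
theorem F108140 : act 1 n71649 = n33529 := d18_6 (iv1 F54291) (iv4 F77088) (iv1 F77091) F52353 D33128 D71649 (iv4 F56749) (iv0 F55357) F51654
def n71650 : Q := act 5 n33129
theorem D71650 : act 5 n33129 = n71650 := rfl
def n71651 : Q := act 4 n33130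
theorem D71651 : act 4 n33130 = n71651 := rfl
theorem F108141 : act 0 n71651 = n62774 := d18_2 F54400 D71651 (iv4 D62774) (iv5 F54343) (iv4 F77970) F77973 F55487 F50541 D34287
def n71652 : Q := act 6 n33130
theorem D71652 : act 6 n33130 = n71652 := rfl
theorem F108143 : act 3 n71652 = n33134 := d7_1 D71652 (iv6 D33134) (iv3 F52364)
theorem F108144 : act 5 n71652 = n33134 := d12_1 D71652 (iv6 D33134) (iv5 D15977) (iv6 F50592) D33130
def n71653 : Q := act 5 n33131
theorem D71653 : act 5 n33131 = n71653 := rfl
theorem F108145 : act 2 n71653 = n52166 := d2_1 D71653 (iv5 D52166) F65042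
theorem F108146 : act 3 n71653 = n33132 := d6_1 D71653 (iv5 D33132) D33131
theorem F108147 : act 7 n71653 = n46140 := d13_2 F55477 D71653 (iv5 D46140)
theorem F108148 : act 0 n61277 = n71653 := d21_1 D61277 (iv5 D71653) F80511 (iv1 F80509) (iv6 D26503) D26502 F76711 (iv5 D35910) D35911 F56578
def n71654 : Q := act 4 n33132
theorem D71654 : act 4 n33132 = n71654 := rfl
def n71655 : Q := act 6 n33132
theorem D71655 : act 6 n33132 = n71655 := rfl
def n71656 : Q := act 3 n33133
theorem D71656 : act 3 n33133 = n71656 := rfl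
def n71657 : Q := act 5 n33133
theorem D71657 : act 5 n33133 = n71657 := rfl
def n71658 : Q := act 6 n33133
theorem D71658 : act 6 n33133 = n71658 := rfl
theorem F108149 : act 4 n71658 = n33134 := d10_1 D71658 (iv6 D33134) D33133
def n71659 : Q := act 0 n33134
theorem D71659 : act 0 n33134 = n71659 := rfl
def n71660 : Q := act 1 n33134
theorem D71660 : act 1 n33134 = n71660 := rfl
def n71661 : Q := act 7 n33134
theorem D71661 : act 7 n33134 = n71661 := rfl
def n71662 : Q := act 6 n33135
theorem D71662 : act 6 n33135 = n71662 := rfl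
theorem F108150 : act 3 n71662 = n33137 := d7_1 D71662 (iv6 D33137) D33135
def n71663 : Q := act 0 n33136
theorem D71663 : act 0 n33136 = n71663 := rfl
theorem F108151 : act 4 n71663 = n49851 := d18_3 D15979 D33136 D71663 F78839 (iv4 F52348) (iv0 D33121) (iv4 D15971) (iv0 D7476) D7478
theorem F108152 : act 1 n33138 = n71663 := d15_0 (iv0 D71663) (iv7 F107942) F107941
theorem F108153 : act 2 n49857 = n71663 := d1_3 F108151 (iv2 F78840) D49857
theorem F108154 : act 7 n49854 = n71663 := d11_0 F108151 F78838 D49854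
def n71664 : Q := act 1 n33136
theorem D71664 : act 1 n33136 = n71664 := rfl
theorem F108155 : act 1 n71664 = n33138 := d15_1 D71664 (iv7 F107938) F107937
theorem F108156 : act 7 n71664 = n49857 := d15_2 (iv0 D71663) D71664 F108153
theorem F108157 : act 4 n71664 = n49850 := d18_7 (iv1 F55538) (iv4 F77954) (iv1 F94202) F94199 (iv5 F50540) D33136 D71664 (iv0 D49850) (iv5 D24311)
theorem F108158 : act 2 n49854 = n71664 := d1_3 F108157 (iv2 F78835) D49854
def n71665 : Q := act 3 n33136
theorem D71665 : act 3 n33136 = n71665 := rfl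
def n71666 : Q := act 5 n33136
theorem D71666 : act 5 n33136 = n71666 := rfl
def n71667 : Q := act 6 n33136
theorem D71667 : act 6 n33136 = n71667 := rfl
theorem F108159 : act 4 n71667 = n33137 := d10_1 D71667 (iv6 D33137) D33136
def n71668 : Q := act 0 n33137
theorem D71668 : act 0 n33137 = n71668 := rfl
def n71669 : Q := act 1 n33137
theorem D71669 : act 1 n33137 = n71669 := rfl
def n71670 : Q := act 7 n33137
theorem D71670 : act 7 n33137 = n71670 := rfl
def n71671 : Q := act 3 n33138
theorem D71671 : act 3 n33138 = n71671 := rfl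
def n71672 : Q := act 5 n33138
theorem D71672 : act 5 n33138 = n71672 := rfl
def n71673 : Q := act 6 n33138
theorem D71673 : act 6 n33138 = n71673 := rfl
theorem F108160 : act 4 n71673 = n33139 := d10_1 D71673 (iv6 D33139) D33138
def n71674 : Q := act 0 n33139
theorem D71674 : act 0 n33139 = n71674 := rfl
def n71675 : Q := act 1 n33139
theorem D71675 : act 1 n33139 = n71675 := rfl
def n71676 : Q := act 7 n33139
theorem D71676 : act 7 n33139 = n71676 := rfl
def n71677 : Q := act 3 n33140
theorem D71677 : act 3 n33140 = n71677 := rfl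
def n71678 : Q := act 5 n33140
theorem D71678 : act 5 n33140 = n71678 := rfl
def n71679 : Q := act 6 n33140
theorem D71679 : act 6 n33140 = n71679 := rfl
def n71680 : Q := act 0 n33141
theorem D71680 : act 0 n33141 = n71680 := rfl
theorem F108161 : act 1 n63644 = n71680 := d15_0 (iv0 D71680) (iv7 F52369) (iv2 F98976)
def n71681 : Q := act 1 n33141
theorem D71681 : act 1 n33141 = n71681 := rfl
theorem F108162 : act 4 n62426 = n71681 := d20_6 F23317 (iv1 F10951) (iv4 F10825) (iv3 F23390) D29515 D62426 (iv1 D71681) F52368 (iv3 D15997) (iv1 F23320)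
def n71682 : Q := act 2 n33141
theorem D71682 : act 2 n33141 = n71682 := rfl
theorem F108163 : act 4 n71682 = n33174 := d1_2 (iv4 F52368) D71682 (iv2 D33174)
theorem F108164 : act 7 n71682 = n63644 := d4_2 F52369 D71682 F98976
theorem F108165 : act 1 n71682 = n63656 := d15_0 (iv0 D63656) F52369 D71682
theorem F108166 : act 1 n71681 = n63644 := d15_1 D71681 (iv7 F108164) (iv2 D71682)
theorem F108167 : act 1 n63657 = n71682 := d15_1 D63657 F108164 F98976
def n71683 : Q := act 5 n33141
theorem D71683 : act 5 n33141 = n71683 := rfl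
theorem F108168 : act 3 n71683 = n33142 := d6_1 D71683 (iv5 D33142) D33141
theorem F108169 : act 7 n71683 = n63658 := d13_2 F52369 D71683 (iv5 D63658)
def n71684 : Q := act 0 n33142
theorem D71684 : act 0 n33142 = n71684 := rfl
def n71685 : Q := act 1 n33142
theorem D71685 : act 1 n33142 = n71685 := rfl
theorem F108170 : act 5 n71685 = n61635 := d17_7 (iv1 F52357) (iv5 D15977) (iv1 D7477) D7478 D15981 D33142 D71685 (iv0 F108131) (iv4 D71640)
def n71686 : Q := act 4 n33142
theorem D71686 : act 4 n33142 = n71686 := rfl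
def n71687 : Q := act 6 n33142
theorem D71687 : act 6 n33142 = n71687 := rfl
def n71688 : Q := act 7 n33142
theorem D71688 : act 7 n33142 = n71688 := rfl
theorem F108171 : act 3 n71688 = n63658 := d8_1 D71688 (iv7 F108169) F108168
theorem F108172 : act 5 n71688 = n33143 := d13_1 D71688 (iv7 D33143) D33142
def n71689 : Q := act 6 n33143
theorem D71689 : act 6 n33143 = n71689 := rfl
theorem F108173 : act 3 n71689 = n63659 := d7_1 D71689 (iv6 D63659) (iv3 F52370)
theorem F108174 : act 4 n71689 = n33144 := d10_1 D71689 (iv6 D33144) (iv4 F52371)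
def n71690 : Q := act 0 n33144
theorem D71690 : act 0 n33144 = n71690 := rfl
def n71691 : Q := act 1 n33144
theorem D71691 : act 1 n33144 = n71691 := rfl
def n71692 : Q := act 0 n33148
theorem D71692 : act 0 n33148 = n71692 := rfl
def n71693 : Q := act 1 n33148
theorem D71693 : act 1 n33148 = n71693 := rfl
def n71694 : Q := act 5 n33148
theorem D71694 : act 5 n33148 = n71694 := rfl
theorem F108175 : act 3 n71694 = n37714 := d6_1 D71694 (iv5 D37714) (iv3 F52373)
def n71695 : Q := act 6 n33148
theorem D71695 : act 6 n33148 = n71695 := rfl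
theorem F108176 : act 3 n71695 = n37715 := d7_1 D71695 (iv6 D37715) (iv3 F52373)
theorem F108177 : act 4 n71695 = n33150 := d10_1 D71695 (iv6 D33150) D33148
def n71696 : Q := act 0 n33149
theorem D71696 : act 0 n33149 = n71696 := rfl
theorem F108178 : act 5 n71696 = n54909 := d21_2 D33149 D71696 (iv6 D54909) (iv1 D26558) (iv6 D12695) (iv5 D6013) F26615 D12644 D26484 F53174
def n71697 : Q := act 1 n33149
theorem D71697 : act 1 n33149 = n71697 := rfl
def n71698 : Q := act 4 n33149
theorem D71698 : act 4 n33149 = n71698 := rfl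
def n71699 : Q := act 6 n33149
theorem D71699 : act 6 n33149 = n71699 := rfl
theorem F108179 : act 3 n71699 = n33153 := d7_1 D71699 (iv6 D33153) (iv3 F52374)
def n71700 : Q := act 0 n33150
theorem D71700 : act 0 n33150 = n71700 := rfl
def n71701 : Q := act 1 n33150
theorem D71701 : act 1 n33150 = n71701 := rfl
def n71702 : Q := act 3 n33151
theorem D71702 : act 3 n33151 = n71702 := rfl
theorem F108180 : act 5 n71702 = n55207 := d6_2 F53066 D71702 F87336
theorem F108181 : act 6 n71702 = n62753 := d7_2 (iv6 F53039) D71702 (iv3 D62753)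
theorem F108182 : act 7 n71702 = n55206 := d8_2 (iv7 F53068) D71702 F87335
def n71703 : Q := act 4 n33151
theorem D71703 : act 4 n33151 = n71703 := rfl
theorem F108184 : act 6 n71703 = n62754 := d10_2 (iv6 F53039) D71703 (iv4 D62754)
theorem F108186 : act 0 n71703 = n37014 := d18_2 (iv1 F52376) D71703 (iv4 D37014) (iv5 D17812) (iv4 D8398) (iv0 D3763) (iv4 F5408) D7481 D15991
theorem F108187 : act 1 n71703 = n37056 := d18_6 D28693 F46241 (iv1 F43767) (iv4 F53065) F53066 D71703 (iv4 D37056) F46245 (iv5 D28695)
def n71705 : Q := act 6 n33152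
theorem D71705 : act 6 n33152 = n71705 := rfl
theorem F108188 : act 4 n71705 = n33153 := d10_1 D71705 (iv6 D33153) D33152
def n71706 : Q := act 7 n33153
theorem D71706 : act 7 n33153 = n71706 := rfl
theorem F108189 : act 6 n71706 = n61389 := d14_1 D71706 F95881 (iv6 D54616) F42196 D33153
def n71708 : Q := act 3 n33155
theorem D71708 : act 3 n33155 = n71708 := rfl
theorem F108191 : act 4 n71708 = n70797 := d20_6 F20898 (iv1 F9695) F29944 D15989 D33155 D71708 (iv1 D70797) (iv4 D32813) (iv3 D15711) (iv1 F20902)
def n71713 : Q := act 3 n33156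
theorem D71713 : act 3 n33156 = n71713 := rfl
theorem F108193 : act 4 n70694 = n71713 := d20_2 D32779 D70694 (iv3 D71713) (iv1 D33156) (iv3 D15989) (iv4 F29944) (iv1 D3810) (iv4 F5387) (iv3 F11673) D15690
def n71714 : Q := act 4 n33156
theorem D71714 : act 4 n33156 = n71714 := rfl
def n71715 : Q := act 5 n33156
theorem D71715 : act 5 n33156 = n71715 := rfl
def n71716 : Q := act 6 n33156
theorem D71716 : act 6 n33156 = n71716 := rfl
def n71717 : Q := act 4 n33157
theorem D71717 : act 4 n33157 = n71717 := rfl
theorem F108194 : act 2 n71717 = n33158 := d1_1 D71717 (iv4 D33158) D33157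
def n71718 : Q := act 5 n33157
theorem D71718 : act 5 n33157 = n71718 := rfl
theorem F108195 : act 2 n71718 = n33159 := d2_1 D71718 (iv5 D33159) D33157
def n71719 : Q := act 6 n33157
theorem D71719 : act 6 n33157 = n71719 := rfl
theorem F108196 : act 2 n71719 = n33160 := d3_1 D71719 (iv6 D33160) D33157
def n71720 : Q := act 0 n33158
theorem D71720 : act 0 n33158 = n71720 := rfl
def n71721 : Q := act 1 n33158
theorem D71721 : act 1 n33158 = n71721 := rfl
def n71722 : Q := act 5 n33158
theorem D71722 : act 5 n33158 = n71722 := rfl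
def n71723 : Q := act 6 n33158
theorem D71723 : act 6 n33158 = n71723 := rfl
theorem F108198 : act 3 n71723 = n37745 := d7_1 D71723 (iv6 D37745) (iv3 F52380)
theorem F108199 : act 4 n71723 = n33160 := d10_1 D71723 (iv6 D33160) D33158
def n71724 : Q := act 0 n33159
theorem D71724 : act 0 n33159 = n71724 := rfl
def n71725 : Q := act 1 n33159
theorem D71725 : act 1 n33159 = n71725 := rfl
def n71726 : Q := act 4 n33159
theorem D71726 : act 4 n33159 = n71726 := rfl
def n71727 : Q := act 6 n33159
theorem D71727 : act 6 n33159 = n71727 := rfl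
theorem F108200 : act 3 n71727 = n33162 := d7_1 D71727 (iv6 D33162) (iv3 F52381)
def n71728 : Q := act 0 n33160
theorem D71728 : act 0 n33160 = n71728 := rfl
def n71729 : Q := act 1 n33160
theorem D71729 : act 1 n33160 = n71729 := rfl
def n71730 : Q := act 7 n33160
theorem D71730 : act 7 n33160 = n71730 := rfl
theorem F108201 : act 3 n71730 = n33163 := d8_1 D71730 (iv7 D33163) (iv3 F52382)
theorem F108202 : act 5 n71730 = n58411 := d13_1 D71730 F92261 F60340
def n71732 : Q := act 6 n33161
theorem D71732 : act 6 n33161 = n71732 := rfl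
theorem F108203 : act 4 n71732 = n33162 := d10_1 D71732 (iv6 D33162) D33161
theorem F108204 : act 0 n60752 = n71732 := d21_4 F23045 (iv1 F22989) D28826 D60752 (iv6 D71732) F96377 (iv1 D61805) (iv5 D29291) (iv6 D13918) (iv1 F23044)
def n71733 : Q := act 0 n33164
theorem D71733 : act 0 n33164 = n71733 := rfl
def n71734 : Q := act 1 n33164
theorem D71734 : act 1 n33164 = n71734 := rfl
def n71735 : Q := act 2 n33164
theorem D71735 : act 2 n33164 = n71735 := rfl
def n71736 : Q := act 4 n33164
theorem D71736 : act 4 n33164 = n71736 := rfl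
def n71737 : Q := act 6 n33164
theorem D71737 : act 6 n33164 = n71737 := rfl
theorem F108205 : act 3 n71737 = n33165 := d7_1 D71737 (iv6 D33165) D33164
def n71738 : Q := act 1 n33165
theorem D71738 : act 1 n33165 = n71738 := rfl
def n71739 : Q := act 5 n33165
theorem D71739 : act 5 n33165 = n71739 := rfl
theorem F108206 : act 2 n71739 = n69743 := d2_1 D71739 (iv5 F106136) F86323
theorem F108207 : act 6 n71739 = n34693 := d12_2 D33165 D71739 F54938 (iv6 F42746) F42742
theorem F108208 : act 0 n71739 = n34408 := d21_7 (iv5 D6598) F4892 D3418 (iv6 F11731) D15993 D33165 D71739 F54588 (iv6 D29133) (iv1 F23134)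
theorem F108209 : act 0 n69744 = n71739 := d21_7 F42166 (iv1 F20988) D15991 D33162 (iv1 F96085) F96083 (iv5 F106137) (iv5 D71739) (iv6 D33165) (iv1 F42203)
def n71740 : Q := act 7 n33165
theorem D71740 : act 7 n33165 = n71740 := rfl
def n71741 : Q := act 0 n33166
theorem D71741 : act 0 n33166 = n71741 := rfl
def n71742 : Q := act 1 n33166
theorem D71742 : act 1 n33166 = n71742 := rfl
def n71743 : Q := act 2 n33166
theorem D71743 : act 2 n33166 = n71743 := rfl
def n71744 : Q := act 4 n33166
theorem D71744 : act 4 n33166 = n71744 := rfl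
def n71745 : Q := act 6 n33166
theorem D71745 : act 6 n33166 = n71745 := rfl
theorem F108210 : act 3 n71745 = n33167 := d7_1 D71745 (iv6 D33167) D33166
def n71746 : Q := act 0 n33167
theorem D71746 : act 0 n33167 = n71746 := rfl
theorem F108211 : act 5 n71746 = n35061 := d21_0 (iv1 F88013) F88009 (iv6 F47710) (iv1 F47712) (iv6 F53304) F53301 F53093 F42634 D33167 D71746
theorem F108212 : act 7 n62569 = n71746 := d13_0 F108211 F105948 (iv5 F97559)
def n71747 : Q := act 7 n33167
theorem D71747 : act 7 n33167 = n71747 := rfl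
theorem F108213 : act 1 n62569 = n71747 := d15_1 (iv0 F105637) (iv7 D71747) (iv2 F86326)
def n71748 : Q := act 0 n33168
theorem D71748 : act 0 n33168 = n71748 := rfl
def n71749 : Q := act 1 n33168
theorem D71749 : act 1 n33168 = n71749 := rfl
def n71750 : Q := act 2 n33168
theorem D71750 : act 2 n33168 = n71750 := rfl
theorem F108214 : act 6 n71750 = n33174 := d3_2 (iv6 F52388) D71750 (iv2 D33174)
def n71752 : Q := act 7 n33168
theorem D71752 : act 7 n33168 = n71752 := rfl
def n71753 : Q := act 0 n33169
theorem D71753 : act 0 n33169 = n71753 := rfl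
theorem F108219 : act 5 n71753 = n37014 := d17_3 F47878 D33169 D71753 (iv4 D37014) (iv5 D17812) (iv0 F41802) (iv5 F10960) D14143 D29767
theorem F108220 : act 4 n71753 = n37059 := d18_1 D71753 F57996 D56874 F89914 F46933 F23627 D29763 (iv0 F47871) D33169
def n71754 : Q := act 1 n33169
theorem D71754 : act 1 n33169 = n71754 := rfl
theorem F108226 : act 5 n71754 = n37056 := d17_7 (iv1 F42198) (iv5 D15991) (iv1 D7481) D7482 D15995 D33169 D71754 F57993 (iv4 D33967)
def n71755 : Q := act 2 n33172
theorem D71755 : act 2 n33172 = n71755 := rfl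
theorem F108229 : act 7 n33173 = n71755 := d15_2 (iv0 D33172) D33173 (iv2 D71755)
def n71756 : Q := act 3 n33172
theorem D71756 : act 3 n33172 = n71756 := rfl
theorem F108230 : act 4 n71756 = n61183 := d20_6 F23042 F10652 D7484 D15997 D33172 D71756 (iv1 D61183) (iv4 D28974) F23039 D13795
def n71757 : Q := act 4 n33172
theorem D71757 : act 4 n33172 = n71757 := rfl
def n71758 : Q := act 5 n33172
theorem D71758 : act 5 n33172 = n71758 := rfl
def n71759 : Q := act 6 n33172
theorem D71759 : act 6 n33172 = n71759 := rfl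
def n71760 : Q := act 7 n33172
theorem D71760 : act 7 n33172 = n71760 := rfl
theorem F108231 : act 2 n71760 = n33173 := d4_1 D71760 F108229 (iv2 D71755)
def n71761 : Q := act 3 n33173
theorem D71761 : act 3 n33173 = n71761 := rfl
def n71762 : Q := act 4 n33173
theorem D71762 : act 4 n33173 = n71762 := rfl
def n71763 : Q := act 5 n33173
theorem D71763 : act 5 n33173 = n71763 := rfl
def n71764 : Q := act 6 n33173
theorem D71764 : act 6 n33173 = n71764 := rfl
def n71765 : Q := act 2 n33175
theorem D71765 : act 2 n33175 = n71765 := rfl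
theorem F108232 : act 7 n33176 = n71765 := d15_2 (iv0 D33175) D33176 (iv2 D71765)
def n71766 : Q := act 3 n33175
theorem D71766 : act 3 n33175 = n71766 := rfl
def n71767 : Q := act 4 n33175
theorem D71767 : act 4 n33175 = n71767 := rfl
def n71768 : Q := act 5 n33175
theorem D71768 : act 5 n33175 = n71768 := rfl
def n71769 : Q := act 6 n33175
theorem D71769 : act 6 n33175 = n71769 := rfl
theorem F108233 : act 5 n71769 = n55234 := d21_6 (iv5 D6698) (iv1 F5411) (iv5 F11736) D15998 D33175 D71769 (iv1 D55234) (iv5 F46698) (iv6 D29059) F23101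
def n71770 : Q := act 7 n33175
theorem D71770 : act 7 n33175 = n71770 := rfl
theorem F108234 : act 2 n71770 = n33176 := d4_1 D71770 F108232 (iv2 D71765)
def n71771 : Q := act 3 n33176
theorem D71771 : act 3 n33176 = n71771 := rfl
def n71772 : Q := act 4 n33176
theorem D71772 : act 4 n33176 = n71772 := rfl
def n71773 : Q := act 5 n33176
theorem D71773 : act 5 n33176 = n71773 := rfl
def n71774 : Q := act 6 n33176
theorem D71774 : act 6 n33176 = n71774 := rfl
def n71775 : Q := act 4 n33177
theorem D71775 : act 4 n33177 = n71775 := rfl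
theorem F108235 : act 3 n71775 = n55619 := d5_1 D71775 (iv4 D55619) (iv3 F54215) (iv4 F77567) F77566
theorem F108236 : act 0 n71775 = n35913 := d18_2 (iv1 F52403) D71775 (iv4 D35913) (iv5 D17386) D17385 (iv0 F40394) (iv4 F43254) (iv0 D26848) D26850
theorem F108237 : act 1 n71775 = n35919 := d18_6 (iv1 F20167) (iv4 F20904) F27641 F27640 D33177 D71775 (iv4 D35919) F28358 (iv5 D16026)
def n71776 : Q := act 6 n33177
theorem D71776 : act 6 n33177 = n71776 := rfl
def n71777 : Q := act 4 n33179
theorem D71777 : act 4 n33179 = n71777 := rfl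
theorem F108238 : act 3 n71777 = n55623 := d5_1 D71777 (iv4 D55623) (iv3 F54537) (iv4 F83642) F83641
theorem F108239 : act 0 n71777 = n52640 := d18_2 D33179 D71777 (iv4 D52640) F40404 F25569 F27642 F27640 (iv0 D16003) D16006
theorem F108240 : act 1 n71777 = n52642 := d18_6 (iv1 F20088) (iv4 F20822) F28349 (iv4 F28375) (iv5 F52404) D71777 (iv4 D52642) F40407 (iv5 D17391)
def n71778 : Q := act 6 n33179
theorem D71778 : act 6 n33179 = n71778 := rfl
def n71779 : Q := act 3 n33180
theorem D71779 : act 3 n33180 = n71779 := rfl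
theorem F108241 : act 2 n71779 = n60134 := d0_1 D71779 F94694 (iv2 F90847) F90848 F83191
theorem F108242 : act 4 n71779 = n45389 := d5_2 D33180 D71779 F71592 F70328 F51672
theorem F108243 : act 5 n60133 = n71779 := d2_0 F108241 (iv5 D60134) D60133
def n71780 : Q := act 5 n33180
theorem D71780 : act 5 n33180 = n71780 := rfl
theorem F108244 : act 2 n71780 = n60075 := d2_1 D71780 F94631 F83191
theorem F108245 : act 3 n71780 = n60133 := d6_1 D71780 F108243 (iv3 D71779)
theorem F108246 : act 4 n71780 = n33194 := d9_1 D71780 (iv5 D33194) (iv4 D16020) (iv5 D7494) D7493 D16018 D33190 F52415 F52411 (iv5 D33184) (iv4 D16010) (iv5 D7489) D7488 D16006 D33180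
theorem F108247 : act 7 n71780 = n60073 := d13_2 (iv7 F83187) D71780 F94625
theorem F108248 : act 0 n71780 = n33264 := d17_2 (iv1 F52406) D71780 (iv5 F83297) (iv4 D52711) (iv5 D25587) F20166 D16037 F40401 D17393
theorem F108249 : act 1 n71780 = n33232 := d17_6 (iv1 F43270) (iv5 D25681) F37279 D16006 D33180 D71780 (iv5 D33232) D33230 F52461
def n71781 : Q := act 6 n33180
theorem D71781 : act 6 n33180 = n71781 := rfl
theorem F108250 : act 4 n71781 = n33181 := d10_1 D71781 (iv6 D33181) D33180
def n71782 : Q := act 0 n33181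
theorem D71782 : act 0 n33181 = n71782 := rfl
def n71783 : Q := act 1 n33181
theorem D71783 : act 1 n33181 = n71783 := rfl
def n71784 : Q := act 7 n33181
theorem D71784 : act 7 n33181 = n71784 := rfl
def n71785 : Q := act 3 n33182
theorem D71785 : act 3 n33182 = n71785 := rfl
theorem F108251 : act 4 n71785 = n40223 := d5_2 (iv4 F52407) D71785 (iv3 D40223) (iv4 D18995) D18994
def n71786 : Q := act 6 n33182
theorem D71786 : act 6 n33182 = n71786 := rfl
theorem F108252 : act 4 n71786 = n40222 := d10_1 D71786 (iv6 D40222) (iv4 F52407)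
def n71787 : Q := act 6 n33183
theorem D71787 : act 6 n33183 = n71787 := rfl
def n71788 : Q := act 0 n33184
theorem D71788 : act 0 n33184 = n71788 := rfl
theorem F108253 : act 5 n71788 = n33246 := d17_1 D71788 (iv1 F52483) D33254 (iv4 F94755) F94756 (iv0 D33229) D33232 (iv0 F52465) F52411
theorem F108254 : act 1 n33194 = n71788 := d15_0 (iv0 D71788) (iv7 F54848) (iv2 F54849)
def n71789 : Q := act 6 n33184
theorem D71789 : act 6 n33184 = n71789 := rfl
theorem F108255 : act 3 n71789 = n55308 := d7_1 D71789 (iv6 D55308) (iv3 F52410)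
theorem F108256 : act 4 n71789 = n60074 := d10_1 D71789 (iv6 D60074) F52411
def n71790 : Q := act 0 n33185
theorem D71790 : act 0 n33185 = n71790 := rfl
def n71791 : Q := act 1 n33185
theorem D71791 : act 1 n33185 = n71791 := rfl
def n71792 : Q := act 5 n33185
theorem D71792 : act 5 n33185 = n71792 := rfl
def n71793 : Q := act 7 n33185
theorem D71793 : act 7 n33185 = n71793 := rfl
theorem F108257 : act 4 n71793 = n33188 := d11_1 D71793 (iv7 D33188) (iv4 F52412)
def n71797 : Q := act 5 n33186
theorem D71797 : act 5 n33186 = n71797 := rfl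
def n71798 : Q := act 6 n33186
theorem D71798 : act 6 n33186 = n71798 := rfl
def n71804 : Q := act 0 n33189
theorem D71804 : act 0 n33189 = n71804 := rfl
def n71805 : Q := act 1 n33189
theorem D71805 : act 1 n33189 = n71805 := rfl
def n71806 : Q := act 7 n33189
theorem D71806 : act 7 n33189 = n71806 := rfl
def n71807 : Q := act 6 n33190
theorem D71807 : act 6 n33190 = n71807 := rfl
theorem F108261 : act 3 n71807 = n60078 := d7_1 D71807 (iv6 D60078) (iv3 F52414)
theorem F108262 : act 4 n71807 = n33191 := d10_1 D71807 (iv6 D33191) D33190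
def n71808 : Q := act 0 n33191
theorem D71808 : act 0 n33191 = n71808 := rfl
def n71809 : Q := act 1 n33191
theorem D71809 : act 1 n33191 = n71809 := rfl
def n71810 : Q := act 5 n33191
theorem D71810 : act 5 n33191 = n71810 := rfl
theorem F108263 : act 3 n71810 = n71434 := d6_1 D71810 (iv5 D71434) (iv3 F52417)
theorem F108264 : act 6 n71810 = n33192 := d12_2 D33191 D71810 (iv5 D33192) (iv6 D16019) D16018
def n71811 : Q := act 7 n33191
theorem D71811 : act 7 n33191 = n71811 := rfl
theorem F108265 : act 3 n71811 = n71435 := d8_1 D71811 (iv7 D71435) (iv3 F52417)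
def n71812 : Q := act 4 n33192
theorem D71812 : act 4 n33192 = n71812 := rfl
def n71813 : Q := act 0 n33193
theorem D71813 : act 0 n33193 = n71813 := rfl
theorem F108266 : act 2 n35402 = n71813 := d15_3 (iv0 D71813) (iv0 F59233) F59232
theorem F108267 : act 1 n54970 = n71813 := d15_0 (iv0 D71813) (iv7 F86208) (iv2 F86982)
theorem F108268 : act 5 n71813 = n54949 := d2_2 F59357 F108266 (iv2 F86927)
def n71814 : Q := act 5 n33193
theorem D71814 : act 5 n33193 = n71814 := rfl
theorem F108269 : act 2 n71814 = n55306 := d2_1 D71814 F87534 F59395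
theorem F108270 : act 3 n71814 = n33194 := d6_1 D71814 (iv5 D33194) D33193
theorem F108271 : act 4 n36035 = n71814 := d1_0 F108269 F87533 F57785
def n71815 : Q := act 6 n33193
theorem D71815 : act 6 n33193 = n71815 := rfl
theorem F108272 : act 3 n71815 = n33195 := d7_1 D71815 (iv6 D33195) D33193
def n71816 : Q := act 6 n33194
theorem D71816 : act 6 n33194 = n71816 := rfl
def n71817 : Q := act 0 n33195
theorem D71817 : act 0 n33195 = n71817 := rfl
def n71818 : Q := act 1 n33195
theorem D71818 : act 1 n33195 = n71818 := rfl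
def n71819 : Q := act 5 n33195
theorem D71819 : act 5 n33195 = n71819 := rfl
def n71820 : Q := act 7 n33195
theorem D71820 : act 7 n33195 = n71820 := rfl
theorem F108273 : act 4 n71820 = n33199 := d11_1 D71820 (iv7 D33199) (iv4 F52419)
def n71824 : Q := act 5 n33196
theorem D71824 : act 5 n33196 = n71824 := rfl
def n71825 : Q := act 6 n33196
theorem D71825 : act 6 n33196 = n71825 := rfl
theorem F108275 : act 5 n71825 = n68727 := d21_6 (iv5 D12591) (iv1 F9295) D7494 D16021 D33196 D71825 (iv1 D68727) F50333 (iv6 D16054) (iv1 F20970)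
def n71827 : Q := act 3 n33197
theorem D71827 : act 3 n33197 = n71827 := rfl
def n71829 : Q := act 5 n33197
theorem D71829 : act 5 n33197 = n71829 := rfl
def n71830 : Q := act 6 n33197
theorem D71830 : act 6 n33197 = n71830 := rfl
def n71831 : Q := act 0 n33198
theorem D71831 : act 0 n33198 = n71831 := rfl
def n71832 : Q := act 1 n33198
theorem D71832 : act 1 n33198 = n71832 := rfl
def n71833 : Q := act 4 n33198
theorem D71833 : act 4 n33198 = n71833 := rfl
theorem F108277 : act 6 n71833 = n33200 := d10_2 (iv6 F52420) D71833 (iv4 D33200)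
def n71834 : Q := act 7 n33198
theorem D71834 : act 7 n33198 = n71834 := rfl
theorem F108278 : act 5 n71834 = n33199 := d13_1 D71834 (iv7 D33199) D33198
def n71835 : Q := act 3 n33200
theorem D71835 : act 3 n33200 = n71835 := rfl
def n71836 : Q := act 5 n33200
theorem D71836 : act 5 n33200 = n71836 := rfl
def n71837 : Q := act 3 n33201
theorem D71837 : act 3 n33201 = n71837 := rfl
def n71838 : Q := act 6 n33201
theorem D71838 : act 6 n33201 = n71838 := rfl
theorem F108279 : act 2 n71838 = n33233 := d3_1 D71838 (iv6 D33233) (iv2 F52421)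
theorem F108280 : act 4 n71838 = n33202 := d10_1 D71838 (iv6 D33202) D33201
def n71839 : Q := act 0 n33202
theorem D71839 : act 0 n33202 = n71839 := rfl
def n71840 : Q := act 1 n33202
theorem D71840 : act 1 n33202 = n71840 := rfl
theorem F108281 : act 1 n71840 = n33237 := d15_1 D71840 (iv7 D33237) (iv2 F52422)
def n71841 : Q := act 5 n33202
theorem D71841 : act 5 n33202 = n71841 := rfl
theorem F108282 : act 2 n71841 = n33236 := d2_1 D71841 (iv5 D33236) (iv2 F52422)
theorem F108283 : act 6 n71841 = n33204 := d12_2 D33202 D71841 (iv5 D33204) (iv6 D16027) D16026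
def n71842 : Q := act 7 n33202
theorem D71842 : act 7 n33202 = n71842 := rfl
theorem F108284 : act 2 n71842 = n33237 := d4_1 D71842 (iv7 D33237) (iv2 F52422)
theorem F108285 : act 1 n33237 = n71839 := d15_0 (iv0 D71839) D71842 F108284
theorem F108286 : act 1 n33235 = n71842 := d15_1 D33235 (iv7 D71842) F52422
theorem F108287 : act 1 n71842 = n33234 := d15_0 (iv0 D33234) D33237 (iv2 F108284)
def n71843 : Q := act 4 n33203
theorem D71843 : act 4 n33203 = n71843 := rfl
theorem F108288 : act 2 n71843 = n33240 := d1_1 D71843 (iv4 D33240) F52425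
theorem F108289 : act 3 n71843 = n52904 := d5_1 D71843 (iv4 F83599) F82925 (iv4 F82923) F82920
theorem F108290 : act 6 n71843 = n52546 := d10_2 (iv6 F82898) D71843 F83034
theorem F108291 : act 7 n71843 = n33238 := d11_2 (iv7 F52424) D71843 (iv4 D33238)
theorem F108292 : act 0 n71843 = n48958 := d20_1 D71843 F77225 F40602 (iv1 F50901) (iv3 D25620) (iv4 D12180) (iv1 F10546) (iv4 F22753) (iv3 F25582) (iv1 F52423)
theorem F108293 : act 0 n48963 = n71843 := d20_10 (iv4 D71843) (iv1 D33203) F25513 (iv3 F21011) F42228 F42227 (iv4 F42235) (iv1 F77259) F77256 (iv3 F77242)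
def n71844 : Q := act 5 n33203
theorem D71844 : act 5 n33203 = n71844 := rfl
theorem F108294 : act 2 n71844 = n33241 := d2_1 D71844 (iv5 D33241) F52425
theorem F108295 : act 7 n71844 = n33239 := d13_2 (iv7 F52424) D71844 (iv5 D33239)
def n71845 : Q := act 0 n33204
theorem D71845 : act 0 n33204 = n71845 := rfl
theorem F108296 : act 1 n33245 = n71845 := d15_0 (iv0 D71845) (iv7 F87031) F87030
theorem F108297 : act 5 n71845 = n52458 := d17_7 (iv1 F77002) (iv5 F77005) (iv1 F52441) F25597 (iv4 F25583) (iv5 F52481) F108296 F95892 F95889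
theorem F108298 : act 7 n33243 = n71845 := d13_0 F108297 (iv7 F104114) F104117
theorem F108299 : act 2 n71845 = n33242 := d15_3 (iv0 D33242) D33243 F108298
def n71846 : Q := act 1 n33204
theorem D71846 : act 1 n33204 = n71846 := rfl
theorem F108300 : act 1 n71846 = n33245 := d15_1 D71846 (iv7 D33245) (iv2 F52426)
theorem F108301 : act 7 n71846 = n33242 := d15_2 (iv0 D71845) D71846 (iv2 F108299)
theorem F108302 : act 5 n71846 = n52457 := d17_7 F41859 F52443 (iv1 D33213) (iv5 D16032) (iv4 F25513) D33204 D71846 (iv0 D52457) F40249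
theorem F108303 : act 2 n33243 = n71846 := d2_3 F108302 (iv2 F104112) F104117
def n71847 : Q := act 4 n33204
theorem D71847 : act 4 n33204 = n71847 := rfl
theorem F108304 : act 2 n71847 = n33244 := d1_1 D71847 (iv4 D33244) (iv2 F52426)
def n71848 : Q := act 5 n33205
theorem D71848 : act 5 n33205 = n71848 := rfl
theorem F108305 : act 2 n71848 = n36493 := d2_1 D71848 (iv5 D36493) (iv2 F52427)
theorem F108306 : act 3 n71848 = n33206 := d6_1 D71848 (iv5 D33206) D33205
theorem F108307 : act 7 n71848 = n37889 := d13_2 F86223 D71848 (iv5 F86222)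
def n71849 : Q := act 6 n33205
theorem D71849 : act 6 n33205 = n71849 := rfl
theorem F108308 : act 2 n71849 = n36494 := d3_1 D71849 (iv6 D36494) (iv2 F52427)
theorem F108309 : act 3 n71849 = n33207 := d7_1 D71849 (iv6 D33207) D33205
def n71850 : Q := act 6 n33206
theorem D71850 : act 6 n33206 = n71850 := rfl
def n71851 : Q := act 0 n33207
theorem D71851 : act 0 n33207 = n71851 := rfl
theorem F108311 : act 4 n71851 = n54451 := d20_2 (iv4 F52433) D71851 (iv3 D54451) (iv1 F85991) F85987 (iv4 F107322) (iv1 F107324) D70917 (iv3 F107467) (iv1 D33209)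
theorem F108312 : act 0 n71851 = n33269 := d20_7 F30387 (iv1 D6218) (iv4 F9279) (iv3 F20920) D26334 D54451 (iv4 F108311) F52505 F25593 (iv1 F21028)
def n71852 : Q := act 1 n33207
theorem D71852 : act 1 n33207 = n71852 := rfl
theorem F108313 : act 1 n71852 = n33269 := d15_1 D71852 (iv7 D33269) (iv2 F52432)
def n71853 : Q := act 5 n33207
theorem D71853 : act 5 n33207 = n71853 := rfl
theorem F108314 : act 2 n71853 = n33268 := d2_1 D71853 (iv5 D33268) (iv2 F52432)
def n71854 : Q := act 7 n33207
theorem D71854 : act 7 n33207 = n71854 := rfl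
theorem F108315 : act 2 n71854 = n33269 := d4_1 D71854 (iv7 D33269) (iv2 F52432)
theorem F108316 : act 4 n71854 = n33211 := d11_1 D71854 (iv7 D33211) (iv4 F52433)
theorem F108317 : act 1 n33267 = n71854 := d15_1 D33267 (iv7 D71854) F52432
theorem F108318 : act 1 n71854 = n33266 := d15_0 (iv0 D33266) D33269 (iv2 F108315)
def n71855 : Q := act 2 n33208
theorem D71855 : act 2 n33208 = n71855 := rfl
theorem F108319 : act 7 n33209 = n71855 := d15_2 (iv0 D33208) D33209 (iv2 D71855)
def n71856 : Q := act 3 n33208
theorem D71856 : act 3 n33208 = n71856 := rfl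
def n71857 : Q := act 4 n33208
theorem D71857 : act 4 n33208 = n71857 := rfl
def n71858 : Q := act 5 n33208
theorem D71858 : act 5 n33208 = n71858 := rfl
def n71859 : Q := act 6 n33208
theorem D71859 : act 6 n33208 = n71859 := rfl
theorem F108320 : act 5 n71859 = n55072 := d21_6 (iv5 D12584) (iv1 F9290) D7497 D16029 D33208 D71859 (iv1 D55072) (iv5 D26616) (iv6 D12720) (iv1 F26949)
def n71860 : Q := act 7 n33208
theorem D71860 : act 7 n33208 = n71860 := rfl
theorem F108321 : act 2 n71860 = n33209 := d4_1 D71860 F108319 (iv2 D71855)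
def n71861 : Q := act 4 n33209
theorem D71861 : act 4 n33209 = n71861 := rfl
def n71862 : Q := act 5 n33209
theorem D71862 : act 5 n33209 = n71862 := rfl
def n71863 : Q := act 6 n33209
theorem D71863 : act 6 n33209 = n71863 := rfl
def n71864 : Q := act 0 n33210
theorem D71864 : act 0 n33210 = n71864 := rfl
def n71865 : Q := act 1 n33210
theorem D71865 : act 1 n33210 = n71865 := rfl
theorem F108322 : act 1 n71865 = n33283 := d15_1 D71865 (iv7 D33283) (iv2 F52435)
theorem F108323 : act 5 n33843 = n71865 := d21_6 (iv5 D8164) (iv1 D3674) (iv5 F5431) D7599 D16359 D33843 (iv1 D71865) (iv5 D33210) (iv6 D16029) (iv1 F26761)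
theorem F108324 : act 3 n71865 = n33985 := d6_1 F108323 (iv5 F87221) F87220
theorem F108325 : act 6 n39416 = n71865 := d7_0 F108324 (iv6 F60350) D39416
theorem F108326 : act 4 n33985 = n70972 := d20_6 D32903 (iv1 F52571) F52568 (iv3 F52509) (iv1 F108322) F108324 (iv1 D70972) (iv4 D32870) F25314 D15844
theorem F108327 : act 6 n70972 = n39417 := d10_2 F60350 F108326 (iv4 D39417)
theorem E9652 : n70917 = n54851 := (c18_8 (iv1 F87391) F108326 (iv1 D70972) (iv4 D32870) (iv5 D15818) (iv4 F25313) D32855 D70917 F107000 F106998)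
theorem F108328 : act 3 n54851 = n33209 := (sb E9652 (iv3 F107467))
theorem F108329 : act 4 n54851 = n32855 := (sb E9652 (iv4 D70917))
def n71866 : Q := act 4 n33210
theorem D71866 : act 4 n33210 = n71866 := rfl
theorem F108330 : act 2 n71866 = n33282 := d1_1 D71866 (iv4 D33282) (iv2 F52435)
theorem F108331 : act 6 n71866 = n33214 := d10_2 (iv6 F52436) D71866 (iv4 D33214)
def n71867 : Q := act 7 n33210
theorem D71867 : act 7 n33210 = n71867 := rfl
theorem F108332 : act 2 n71867 = n33283 := d4_1 D71867 (iv7 D33283) (iv2 F52435)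
theorem F108333 : act 5 n71867 = n33211 := d13_1 D71867 (iv7 D33211) D33210
theorem F108334 : act 1 n33283 = n71864 := d15_0 (iv0 D71864) D71867 F108332
theorem F108335 : act 1 n33281 = n71867 := d15_1 D33281 (iv7 D71867) F52435
theorem F108336 : act 1 n71867 = n33280 := d15_0 (iv0 D33280) D33283 (iv2 F108332)
def n71868 : Q := act 4 n33212
theorem D71868 : act 4 n33212 = n71868 := rfl
theorem F108337 : act 2 n71868 = n33290 := d1_1 D71868 (iv4 D33290) (iv2 F52526)
theorem F108338 : act 7 n71868 = n33294 := d11_2 (iv7 F52527) D71868 (iv4 D33294)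
def n71869 : Q := act 6 n33212
theorem D71869 : act 6 n33212 = n71869 := rfl
theorem F108339 : act 2 n71869 = n33292 := d3_1 D71869 (iv6 D33292) (iv2 F52526)
theorem F108340 : act 0 n71869 = n39367 := d21_4 (iv5 F46705) (iv1 F77002) (iv5 F77005) D71869 (iv6 D39367) (iv5 D18661) (iv1 D8758) D8759 (iv6 F21107) D26605
def n71870 : Q := act 4 n33213
theorem D71870 : act 4 n33213 = n71870 := rfl
theorem F108341 : act 2 n71870 = n33294 := d1_1 D71870 (iv4 D33294) F52524
theorem F108342 : act 7 n71870 = n33290 := d11_2 (iv7 F52523) D71870 (iv4 D33290)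
def n71871 : Q := act 6 n33213
theorem D71871 : act 6 n33213 = n71871 := rfl
theorem F108343 : act 2 n71871 = n33296 := d3_1 D71871 (iv6 D33296) F52524
theorem F108344 : act 3 n71871 = n33974 := d7_1 D71871 (iv6 D33974) (iv3 F52444)
theorem F108345 : act 5 n71871 = n54377 := d12_1 D71871 (iv6 D54377) (iv5 D26288) D26289 F52443
def n71872 : Q := act 0 n33214
theorem D71872 : act 0 n33214 = n71872 := rfl
theorem F108346 : act 4 n71872 = n54467 := d18_3 (iv1 D33213) D33214 D71872 (iv5 F104067) F104070 F95892 F95889 F46706 F52443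
theorem F108347 : act 1 n33301 = n71872 := d15_0 (iv0 D71872) (iv7 F87035) F87034
theorem F108348 : act 7 n33298 = n71872 := d11_0 F108346 (iv7 F104119) F104121
theorem F108349 : act 2 n71872 = n33297 := d15_3 (iv0 D33297) D33298 F108348
def n71873 : Q := act 1 n33214
theorem D71873 : act 1 n33214 = n71873 := rfl
theorem F108350 : act 1 n71873 = n33301 := d15_1 D71873 (iv7 D33301) (iv2 F52445)
theorem F108351 : act 7 n71873 = n33297 := d15_2 (iv0 D71872) D71873 (iv2 F108349)
theorem F108352 : act 2 n33298 = n71873 := d4_3 F108351 (iv2 F108349) (iv7 F108348)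
def n71874 : Q := act 3 n33214
theorem D71874 : act 3 n33214 = n71874 := rfl
def n71875 : Q := act 5 n33214
theorem D71875 : act 5 n33214 = n71875 := rfl
theorem F108353 : act 2 n71875 = n33300 := d2_1 D71875 (iv5 D33300) (iv2 F52445)
def n71876 : Q := act 4 n33215
theorem D71876 : act 4 n33215 = n71876 := rfl
theorem F108354 : act 2 n71876 = n52981 := d1_1 D71876 F83705 (iv2 F83265)
theorem F108355 : act 3 n71876 = n36462 := d5_1 D71876 F57256 (iv3 F52456) (iv4 D33217) (iv3 F52446)
theorem F108356 : act 7 n71876 = n52982 := d11_2 F83173 D71876 F83706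
theorem F108357 : act 5 n71876 = n36461 := d16_3 (iv4 F37022) D33215 D71876 F57252 (iv5 F44463) (iv4 F76678) F76675 (iv7 F37021) F37025
theorem F108358 : act 0 n71876 = n34862 := d18_2 F83246 D71876 (iv4 D34862) (iv5 D16900) (iv4 F18053) D23756 (iv4 F37008) F40455 D52677
theorem F108359 : act 1 n71876 = n52979 := d18_6 (iv1 F37037) F20186 F37024 (iv4 F37022) D33215 D71876 (iv4 D52979) F55131 (iv5 F76680)
def n71877 : Q := act 6 n33215
theorem D71877 : act 6 n33215 = n71877 := rfl
theorem F108360 : act 3 n71877 = n33218 := d7_1 D71877 (iv6 D33218) (iv3 F52446)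
def n71878 : Q := act 6 n33216
theorem D71878 : act 6 n33216 = n71878 := rfl
theorem F108361 : act 2 n71878 = n54390 := d3_1 D71878 (iv6 D54390) (iv2 F52447)
theorem F108362 : act 3 n71878 = n60040 := d7_1 D71878 (iv6 D60040) (iv3 F52448)
theorem F108363 : act 4 n71878 = n33830 := d10_1 D71878 (iv6 D33830) (iv4 F52451)
def n71879 : Q := act 0 n33217
theorem D71879 : act 0 n33217 = n71879 := rfl
theorem F108364 : act 4 n71879 = n52918 := d18_3 (iv1 F40401) D33217 D71879 F83617 (iv4 F43260) F28340 (iv4 D17385) (iv0 D8144) D8147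
theorem F108365 : act 1 n33220 = n71879 := d15_0 (iv0 D71879) (iv7 F83176) F83175
theorem F108366 : act 2 n71777 = n71879 := d1_3 F108364 F83619 D71777
theorem F108367 : act 7 n52938 = n71879 := d11_0 F108364 F83618 D52938
theorem F108368 : act 5 n38250 = n71879 := d16_1 (iv4 F86958) F108364 F83617 (iv4 F43260) D32434 (iv4 F86195) (iv5 F86961) F86960 F86956
def n71880 : Q := act 1 n33217
theorem D71880 : act 1 n33217 = n71880 := rfl
theorem F108369 : act 1 n71880 = n33220 := d15_1 D71880 (iv7 F83182) F83180
theorem F108370 : act 7 n71880 = n71777 := d15_2 (iv0 D71879) D71880 F108366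
theorem F108371 : act 4 n71880 = n52937 := d18_7 F37293 (iv4 D23886) F37229 (iv4 D16036) D16037 D33217 D71880 F83655 (iv5 D26377)
theorem F108372 : act 5 n71880 = n38251 := d18_9 (iv1 D38251) F29472 F25863 D33833 (iv5 F83168) (iv4 D52638) F40400 D33217 D71880
theorem F108373 : act 2 n52938 = n71880 := d1_3 F108371 (iv2 D52937) D52938
def n71881 : Q := act 6 n33217
theorem D71881 : act 6 n33217 = n71881 := rfl
theorem F108374 : act 3 n71881 = n37826 := d7_1 D71881 (iv6 D37826) (iv3 F52456)
theorem F108375 : act 4 n71881 = n33218 := d10_1 D71881 (iv6 D33218) D33217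
def n71882 : Q := act 0 n33218
theorem D71882 : act 0 n33218 = n71882 := rfl
def n71883 : Q := act 1 n33218
theorem D71883 : act 1 n33218 = n71883 := rfl
def n71884 : Q := act 7 n33218
theorem D71884 : act 7 n33218 = n71884 := rfl
def n71885 : Q := act 4 n33219
theorem D71885 : act 4 n33219 = n71885 := rfl
theorem F108376 : act 5 n71885 = n44960 := d16_1 D71885 (iv4 F107857) (iv5 D71359) (iv4 D33018) (iv5 D15917) D15916 D33017 (iv7 F77174) F77173
theorem F108377 : act 0 n71885 = n48751 := d18_2 F55345 D71885 (iv4 D48751) (iv5 F37309) (iv4 F26651) F26649 (iv4 F28347) (iv0 F28348) D34959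
theorem F108378 : act 1 n71885 = n37332 := d18_6 D11133 (iv4 F26666) F26664 (iv4 F25577) D33219 D71885 F58269 (iv0 D23777) (iv5 D11136)
def n71886 : Q := act 6 n33219
theorem D71886 : act 6 n33219 = n71886 := rfl
theorem F108379 : act 3 n71886 = n33221 := d7_1 D71886 (iv6 D33221) (iv3 F52457)
def n71887 : Q := act 3 n33220
theorem D71887 : act 3 n33220 = n71887 := rfl
def n71888 : Q := act 5 n33220
theorem D71888 : act 5 n33220 = n71888 := rfl
theorem F108380 : act 2 n71888 = n34503 := d2_1 D71888 (iv5 F83177) F83175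
theorem F108381 : act 4 n71888 = n33263 := d9_1 D71888 F52496 (iv4 F52451) (iv5 D33216) (iv4 D16036) D16037 D33217 F52455 F29303 (iv5 F25861) (iv4 F25860) F24948 F11745 D16040 D33220
theorem F108382 : act 7 n71888 = n37824 := d13_2 F83182 D71888 (iv5 F83181)
theorem F108383 : act 1 n37823 = n71888 := d15_1 D37823 F108382 (iv2 D37824)
theorem F108384 : act 1 n71888 = n37822 := d15_0 (iv0 D37822) (iv7 F54734) (iv2 F108380)
def n71889 : Q := act 6 n33220
theorem D71889 : act 6 n33220 = n71889 := rfl
theorem F108385 : act 4 n71889 = n33221 := d10_1 D71889 (iv6 D33221) D33220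
def n71890 : Q := act 0 n33221
theorem D71890 : act 0 n33221 = n71890 := rfl
def n71891 : Q := act 1 n33221
theorem D71891 : act 1 n33221 = n71891 := rfl
def n71892 : Q := act 5 n33221
theorem D71892 : act 5 n33221 = n71892 := rfl
theorem F108386 : act 6 n71892 = n33222 := d12_2 D33221 D71892 (iv5 D33222) (iv6 D16041) D16040
def n71893 : Q := act 7 n33221
theorem D71893 : act 7 n33221 = n71893 := rfl
def n71894 : Q := act 0 n33222
theorem D71894 : act 0 n33222 = n71894 := rfl
theorem F108387 : act 5 n71894 = n53101 := d17_3 F42441 D33222 D71894 F83808 F42830 F42775 (iv5 D16024) (iv0 F26805) (iv4 F42440)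
theorem F108388 : act 3 n34846 = n71894 := d6_3 F108387 (iv3 D53101) (iv5 F55109)
def n71895 : Q := act 1 n33222
theorem D71895 : act 1 n33222 = n71895 := rfl
def n71896 : Q := act 4 n33222
theorem D71896 : act 4 n33222 = n71896 := rfl
def n71897 : Q := act 4 n33223
theorem D71897 : act 4 n33223 = n71897 := rfl
theorem F108389 : act 2 n71897 = n52830 := d1_1 D71897 F86688 (iv2 F86687)
theorem F108390 : act 3 n71897 = n39939 := d5_1 D71897 F60764 (iv3 F57524) (iv4 D33224) D33223
theorem F108391 : act 7 n71897 = n52831 := d11_2 F56571 D71897 F83478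
theorem F108392 : act 5 n71897 = n39938 := d16_1 D71897 F60760 F83230 (iv4 D52668) (iv5 D25564) D25563 D52666 (iv7 F86685) (iv2 F86687)
theorem F108393 : act 0 n71897 = n33231 := d18_2 (iv1 F86693) D71897 F52462 (iv5 D23766) F18067 D23760 (iv4 F37022) F42422 (iv5 F86692)
theorem F108394 : act 1 n71897 = n52818 := d18_6 (iv1 F37421) (iv4 F32464) (iv1 F32467) (iv4 F40387) (iv5 F52458) D71897 (iv4 D52818) F76732 F76733
def n71898 : Q := act 6 n33223
theorem D71898 : act 6 n33223 = n71898 := rfl
theorem F108395 : act 3 n71898 = n33225 := d7_1 D71898 (iv6 D33225) D33223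
def n71899 : Q := act 0 n33224
theorem D71899 : act 0 n33224 = n71899 := rfl
theorem F108396 : act 5 n71899 = n37822 := d17_1 D71899 (iv1 F108384) (iv5 D71888) (iv4 D33220) (iv5 D16040) F20168 D25587 F40489 D33224
theorem F108397 : act 4 n71899 = n35957 := d18_3 D16042 D33224 D71899 F56647 F40561 F25529 (iv4 D16036) (iv0 D7499) D7501
theorem F108398 : act 1 n33227 = n71899 := d15_0 (iv0 D71899) (iv7 F56580) F56579
theorem F108399 : act 2 n71775 = n71899 := d1_3 F108397 (iv2 F56648) D71775
theorem F108400 : act 7 n52900 = n71899 := d11_0 F108397 F56646 D52900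
def n71900 : Q := act 1 n33224
theorem D71900 : act 1 n33224 = n71900 := rfl
theorem F108401 : act 1 n71900 = n33227 := d15_1 D71900 (iv7 F56599) F56598
theorem F108402 : act 7 n71900 = n71775 := d15_2 (iv0 D71899) D71900 F108399
theorem F108403 : act 5 n71900 = n37823 := d17_7 (iv1 F52498) (iv5 F51499) F42115 (iv5 F29429) (iv4 F59000) F59001 D71900 F108383 F108381
theorem F108404 : act 4 n71900 = n35956 := d18_7 D17407 F28375 (iv1 F28351) (iv4 F27262) (iv5 F28356) D33224 D71900 (iv0 D35956) (iv5 D17409)
theorem F108405 : act 3 n68902 = n71900 := d19_19 (iv1 D71900) (iv5 F59001) F59000 (iv3 D18241) (iv1 F16661) D21926 F34419 D22000 (iv1 F83054) (iv5 D45989) (iv4 F68961) (iv3 D43862) (iv1 D20775) F27767 F27765 (iv3 F21300) (iv1 F41854) F50671 D68902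
theorem F108406 : act 3 n58291 = n70293 := d20_3 F94762 F52725 D58291 (iv1 F106739) F108405 F108404 (iv1 F56642) D35966 F56671 D60202
theorem F108407 : act 5 n70293 = n60176 := d6_2 (iv5 F92156) F108406 (iv3 D60176)
theorem F108408 : act 7 n70293 = n60253 := d8_2 (iv7 F92157) F108406 F94804
theorem F108409 : act 2 n60253 = n70294 := d15_3 F106740 F106739 F108408
theorem F108410 : act 5 n70294 = n60252 := d2_2 D60253 F108409 (iv2 D60252)
theorem F108411 : act 2 n52900 = n71900 := d1_3 F108404 (iv2 F56643) D52900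
def n71901 : Q := act 6 n33224
theorem D71901 : act 6 n33224 = n71901 := rfl
theorem F108412 : act 4 n71901 = n33225 := d10_1 D71901 (iv6 D33225) D33224
def n71904 : Q := act 5 n33225
theorem D71904 : act 5 n33225 = n71904 := rfl
def n71905 : Q := act 7 n33225
theorem D71905 : act 7 n33225 = n71905 := rfl
def n71906 : Q := act 4 n33226
theorem D71906 : act 4 n33226 = n71906 := rfl
theorem F108414 : act 5 n71906 = n45214 := d16_1 D71906 (iv4 F108034) (iv5 D71512) (iv4 D33081) F35190 D27005 D55990 F88612 F55456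
theorem F108415 : act 0 n71906 = n48744 := d17_0 F76764 (iv1 F70699) F107853 (iv4 D71356) (iv5 D33017) (iv0 F27633) D34821 F55046 D71906
theorem F108416 : act 1 n71906 = n44937 := d18_6 (iv1 F26704) F21476 D12936 (iv4 F40390) (iv5 F52459) D71906 F70633 F43064 (iv5 D16919)
def n71907 : Q := act 6 n33226
theorem D71907 : act 6 n33226 = n71907 := rfl
theorem F108417 : act 3 n71907 = n33228 := d7_1 D71907 (iv6 D33228) D33226
def n71908 : Q := act 3 n33227
theorem D71908 : act 3 n33227 = n71908 := rfl
def n71909 : Q := act 6 n33227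
theorem D71909 : act 6 n33227 = n71909 := rfl
theorem F108418 : act 4 n71909 = n33228 := d10_1 D71909 (iv6 D33228) D33227
def n71910 : Q := act 0 n33228
theorem D71910 : act 0 n33228 = n71910 := rfl
def n71911 : Q := act 1 n33228
theorem D71911 : act 1 n33228 = n71911 := rfl
def n71912 : Q := act 5 n33228
theorem D71912 : act 5 n33228 = n71912 := rfl
theorem F108419 : act 6 n71912 = n52637 := d12_2 D33228 D71912 (iv5 D52637) (iv6 D25547) (iv5 F26864)
def n71913 : Q := act 7 n33228
theorem D71913 : act 7 n33228 = n71913 := rfl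
def n71914 : Q := act 3 n33229
theorem D71914 : act 3 n33229 = n71914 := rfl
theorem F108420 : act 4 n71914 = n44708 := d5_2 (iv4 F52460) D71914 F70286 (iv4 D32735) (iv3 F43264)
def n71915 : Q := act 6 n33229
theorem D71915 : act 6 n33229 = n71915 := rfl
theorem F108421 : act 4 n71915 = n55613 := d10_1 D71915 (iv6 D55613) (iv4 F52460)
def n71916 : Q := act 6 n33230
theorem D71916 : act 6 n33230 = n71916 := rfl
theorem F108422 : act 4 n71916 = n55614 := d10_1 D71916 (iv6 D55614) (iv4 F52461)
def n71917 : Q := act 0 n33231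
theorem D71917 : act 0 n33231 = n71917 := rfl
theorem F108423 : act 4 n71917 = n52666 := d18_3 (iv1 D48732) (iv4 F52462) D71917 (iv5 D52666) (iv4 D25563) (iv0 D12154) (iv4 F18240) D23961 (iv5 F76735)
theorem F108424 : act 5 n71917 = n57609 := d19_1 D71917 (iv4 D57609) (iv3 F90338) (iv1 F90342) D57565 (iv4 F90720) (iv3 D32606) F24980 D26866 F43306 (iv3 F42529) (iv1 F42534) (iv5 F29902) (iv4 F25577) (iv3 D16039) (iv1 D7500) D7501 D16044 D33231
theorem F108425 : act 2 n52831 = n71917 := d15_3 (iv0 D71917) (iv0 F108393) F108391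
theorem F108426 : act 1 n52818 = n71917 := d15_0 (iv0 D71917) F52463 (iv2 F83454)
theorem F108427 : act 7 n71917 = n52830 := d15_2 F108394 F108426 (iv2 F108389)
def n71918 : Q := act 5 n33231
theorem D71918 : act 5 n33231 = n71918 := rfl
theorem F108428 : act 3 n71918 = n33232 := d6_1 D71918 (iv5 D33232) D33231
theorem F108429 : act 7 n71918 = n52832 := d13_2 (iv7 F52463) D71918 (iv5 D52832)
theorem F108430 : act 1 n71918 = n36461 := d17_6 (iv1 F55132) (iv5 F65468) (iv1 D23765) D23766 (iv4 F52462) D71918 (iv5 F108357) F108359 (iv4 D52979)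
def n71919 : Q := act 6 n33231
theorem D71919 : act 6 n33231 = n71919 := rfl
theorem F108431 : act 3 n71919 = n33233 := d7_1 D71919 (iv6 D33233) D33231
theorem F108432 : act 4 n71919 = n48733 := d10_1 D71919 (iv6 D48733) (iv4 F52462)
def n71920 : Q := act 6 n33232
theorem D71920 : act 6 n33232 = n71920 := rfl
theorem F108433 : act 4 n71920 = n37890 := d10_1 D71920 (iv6 D37890) (iv4 F52464)
def n71921 : Q := act 0 n33233
theorem D71921 : act 0 n33233 = n71921 := rfl
def n71922 : Q := act 1 n33233
theorem D71922 : act 1 n33233 = n71922 := rfl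
def n71923 : Q := act 5 n33233
theorem D71923 : act 5 n33233 = n71923 := rfl
def n71924 : Q := act 7 n33233
theorem D71924 : act 7 n33233 = n71924 := rfl
theorem F108434 : act 4 n71924 = n33237 := d11_1 D71924 (iv7 D33237) (iv4 F52466)
def n71925 : Q := act 2 n33234
theorem D71925 : act 2 n33234 = n71925 := rfl
theorem F108435 : act 7 n33235 = n71925 := d15_2 (iv0 D33234) D33235 (iv2 D71925)
def n71926 : Q := act 3 n33234
theorem D71926 : act 3 n33234 = n71926 := rfl
def n71927 : Q := act 4 n33234
theorem D71927 : act 4 n33234 = n71927 := rfl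
def n71928 : Q := act 5 n33234
theorem D71928 : act 5 n33234 = n71928 := rfl
def n71929 : Q := act 6 n33234
theorem D71929 : act 6 n33234 = n71929 := rfl
theorem F108436 : act 5 n71929 = n43243 := d21_6 (iv5 D16040) (iv1 D7500) D7501 D16045 D33234 D71929 F67766 D43274 F67856 (iv1 F40402)
theorem F108437 : act 3 n43244 = n71929 := d6_3 F108436 (iv3 D43243) D43244
theorem F108438 : act 6 n71926 = n43244 := d7_0 F108437 (iv6 D71929) D71926
def n71930 : Q := act 7 n33234
theorem D71930 : act 7 n33234 = n71930 := rfl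
theorem F108439 : act 2 n71930 = n33235 := d4_1 D71930 F108435 (iv2 D71925)
def n71931 : Q := act 3 n33235
theorem D71931 : act 3 n33235 = n71931 := rfl
def n71932 : Q := act 4 n33235
theorem D71932 : act 4 n33235 = n71932 := rfl
def n71933 : Q := act 5 n33235
theorem D71933 : act 5 n33235 = n71933 := rfl
def n71934 : Q := act 6 n33235
theorem D71934 : act 6 n33235 = n71934 := rfl
def n71935 : Q := act 0 n33236
theorem D71935 : act 0 n33236 = n71935 := rfl
def n71936 : Q := act 1 n33236
theorem D71936 : act 1 n33236 = n71936 := rfl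
def n71937 : Q := act 4 n33236
theorem D71937 : act 4 n33236 = n71937 := rfl
theorem F108440 : act 6 n71937 = n33244 := d10_2 (iv6 F52468) D71937 (iv4 D33244)
def n71938 : Q := act 7 n33236
theorem D71938 : act 7 n33236 = n71938 := rfl
theorem F108441 : act 3 n71938 = n60012 := d8_1 D71938 (iv7 D60012) (iv3 F52467)
theorem F108442 : act 5 n71938 = n33237 := d13_1 D71938 (iv7 D33237) D33236
def n71939 : Q := act 5 n33238
theorem D71939 : act 5 n33238 = n71939 := rfl
theorem F108443 : act 2 n71939 = n54436 := d2_1 D71939 (iv5 D54436) (iv2 F52470)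
theorem F108444 : act 3 n71939 = n70580 := d6_1 D71939 (iv5 D70580) F52472
def n71940 : Q := act 0 n33239
theorem D71940 : act 0 n33239 = n71940 := rfl
theorem F108445 : act 5 n71940 = n61397 := d17_3 D16046 D33239 D71940 F95889 F46705 (iv0 D26605) (iv5 D12715) (iv0 F26868) (iv4 F11748)
theorem F108446 : act 1 n33241 = n71940 := d15_0 (iv0 D71940) (iv7 F108295) F108294
def n71941 : Q := act 4 n33239
theorem D71941 : act 4 n33239 = n71941 := rfl
def n71942 : Q := act 6 n33239
theorem D71942 : act 6 n33239 = n71942 := rfl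
def n71943 : Q := act 5 n33240
theorem D71943 : act 5 n33240 = n71943 := rfl
theorem F108447 : act 3 n71943 = n54008 := d6_1 D71943 (iv5 D54008) (iv3 F52474)
theorem F108448 : act 7 n71943 = n54436 := d13_2 (iv7 F52476) D71943 (iv5 D54436)
def n71944 : Q := act 4 n33241
theorem D71944 : act 4 n33241 = n71944 := rfl
def n71945 : Q := act 6 n33241
theorem D71945 : act 6 n33241 = n71945 := rfl
def n71946 : Q := act 3 n33242
theorem D71946 : act 3 n33242 = n71946 := rfl
def n71947 : Q := act 4 n33242
theorem D71947 : act 4 n33242 = n71947 := rfl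
def n71948 : Q := act 5 n33242
theorem D71948 : act 5 n33242 = n71948 := rfl
theorem F108449 : act 2 n71948 = n52458 := d2_1 D71948 (iv5 F108297) F108299
theorem F108450 : act 7 n71948 = n52457 := d13_2 F108301 D71948 (iv5 F108302)
theorem F108451 : act 1 n71948 = n34300 := d17_8 F52517 (iv5 D33291) (iv1 F42601) (iv5 D26604) D26603 D55036 F87033 D71948 F54429
theorem F108452 : act 1 n52452 = n71948 := d15_0 F108451 F54430 (iv2 F82812)
def n71949 : Q := act 6 n33242
theorem D71949 : act 6 n33242 = n71949 := rfl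
def n71950 : Q := act 3 n33243
theorem D71950 : act 3 n33243 = n71950 := rfl
def n71951 : Q := act 4 n33243
theorem D71951 : act 4 n33243 = n71951 := rfl
def n71952 : Q := act 6 n33243
theorem D71952 : act 6 n33243 = n71952 := rfl
theorem F108453 : act 5 n71952 = n43375 := d12_1 D71952 (iv6 D43375) F51580 (iv6 F104113) F104117
def n71953 : Q := act 0 n33244
theorem D71953 : act 0 n33244 = n71953 := rfl
def n71954 : Q := act 1 n33244
theorem D71954 : act 1 n33244 = n71954 := rfl
def n71955 : Q := act 3 n33244
theorem D71955 : act 3 n33244 = n71955 := rfl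
theorem F108454 : act 4 n71955 = n60024 := d5_2 D33244 D71955 (iv3 D60024) (iv4 D28498) (iv3 F25581)
def n71956 : Q := act 5 n33244
theorem D71956 : act 5 n33244 = n71956 := rfl
def n71957 : Q := act 7 n33244
theorem D71957 : act 7 n33244 = n71957 := rfl
theorem F108455 : act 4 n71957 = n33245 := d11_1 D71957 (iv7 D33245) D33244
def n71958 : Q := act 6 n33245
theorem D71958 : act 6 n33245 = n71958 := rfl
theorem F108456 : act 3 n71958 = n60025 := d7_1 D71958 (iv6 D60025) (iv3 F52480)
def n71959 : Q := act 3 n33246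
theorem D71959 : act 3 n33246 = n71959 := rfl
theorem F108457 : act 4 n71959 = n69811 := d5_2 (iv4 F52482) D71959 (iv3 D69811) (iv4 D32421) D32420
def n71960 : Q := act 6 n33246
theorem D71960 : act 6 n33246 = n71960 := rfl
theorem F108458 : act 4 n71960 = n69810 := d10_1 D71960 (iv6 D69810) (iv4 F52482)
def n71961 : Q := act 6 n33247
theorem D71961 : act 6 n33247 = n71961 := rfl
theorem F108459 : act 4 n71961 = n69853 := d10_1 D71961 (iv6 D69853) (iv4 F52485)
def n71962 : Q := act 0 n33248
theorem D71962 : act 0 n33248 = n71962 := rfl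
def n71963 : Q := act 1 n33248
theorem D71963 : act 1 n33248 = n71963 := rfl
def n71964 : Q := act 5 n33248
theorem D71964 : act 5 n33248 = n71964 := rfl
def n71965 : Q := act 7 n33248
theorem D71965 : act 7 n33248 = n71965 := rfl
theorem F108460 : act 4 n71965 = n33251 := d11_1 D71965 (iv7 D33251) (iv4 F52486)
def n71966 : Q := act 2 n33249
theorem D71966 : act 2 n33249 = n71966 := rfl
theorem F108461 : act 7 n33250 = n71966 := d15_2 (iv0 D33249) D33250 (iv2 D71966)
def n71967 : Q := act 3 n33249
theorem D71967 : act 3 n33249 = n71967 := rfl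
def n71968 : Q := act 4 n33249
theorem D71968 : act 4 n33249 = n71968 := rfl
def n71969 : Q := act 5 n33249
theorem D71969 : act 5 n33249 = n71969 := rfl
def n71970 : Q := act 6 n33249
theorem D71970 : act 6 n33249 = n71970 := rfl
def n71971 : Q := act 7 n33249
theorem D71971 : act 7 n33249 = n71971 := rfl
theorem F108462 : act 2 n71971 = n33250 := d4_1 D71971 F108461 (iv2 D71966)
def n71973 : Q := act 4 n33250
theorem D71973 : act 4 n33250 = n71973 := rfl
def n71974 : Q := act 5 n33250
theorem D71974 : act 5 n33250 = n71974 := rfl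
theorem F108463 : act 6 n54149 = n71974 := d21_5 F41571 F26926 D12429 D26202 D54149 (iv5 D71974) (iv1 D33250) (iv5 F50333) (iv6 D31976) (iv1 F41573)
def n71975 : Q := act 6 n33250
theorem D71975 : act 6 n33250 = n71975 := rfl
def n71976 : Q := act 0 n33252
theorem D71976 : act 0 n33252 = n71976 := rfl
def n71977 : Q := act 1 n33252
theorem D71977 : act 1 n33252 = n71977 := rfl
theorem F108464 : act 1 n71977 = n70537 := d15_1 D71977 (iv7 D70537) (iv2 F52488)
def n71978 : Q := act 7 n33252
theorem D71978 : act 7 n33252 = n71978 := rfl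
theorem F108465 : act 2 n71978 = n70537 := d4_1 D71978 (iv7 D70537) (iv2 F52488)
theorem F108466 : act 3 n71978 = n33259 := d8_1 D71978 (iv7 D33259) (iv3 F52489)
theorem F108467 : act 1 n70537 = n71976 := d15_0 (iv0 D71976) D71978 F108465
theorem F108468 : act 1 n70536 = n71978 := d15_1 D70536 (iv7 D71978) F52488
theorem F108469 : act 1 n71978 = n70535 := d15_0 (iv0 D70535) D70537 (iv2 F108465)
def n71979 : Q := act 0 n33253
theorem D71979 : act 0 n33253 = n71979 := rfl
theorem F108470 : act 2 n36512 = n71979 := d15_3 (iv0 D71979) (iv0 F56041) (iv7 F57344)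
theorem F108471 : act 1 n38547 = n71979 := d15_0 (iv0 D71979) (iv7 F56681) (iv2 F59371)
def n71980 : Q := act 6 n33253
theorem D71980 : act 6 n33253 = n71980 := rfl
theorem F108472 : act 3 n71980 = n33255 := d7_1 D71980 (iv6 D33255) D33253
def n71981 : Q := act 6 n33254
theorem D71981 : act 6 n33254 = n71981 := rfl
theorem F108473 : act 2 n71981 = n38559 := d3_1 D71981 (iv6 D38559) (iv2 F52490)
def n71982 : Q := act 0 n33255
theorem D71982 : act 0 n33255 = n71982 := rfl
def n71983 : Q := act 1 n33255
theorem D71983 : act 1 n33255 = n71983 := rfl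
def n71984 : Q := act 5 n33255
theorem D71984 : act 5 n33255 = n71984 := rfl
def n71985 : Q := act 7 n33255
theorem D71985 : act 7 n33255 = n71985 := rfl
theorem F108474 : act 4 n71985 = n33259 := d11_1 D71985 (iv7 D33259) (iv4 F52491)
def n71986 : Q := act 2 n33256
theorem D71986 : act 2 n33256 = n71986 := rfl
theorem F108475 : act 7 n33257 = n71986 := d15_2 (iv0 D33256) D33257 (iv2 D71986)
def n71989 : Q := act 5 n33256
theorem D71989 : act 5 n33256 = n71989 := rfl
def n71990 : Q := act 6 n33256
theorem D71990 : act 6 n33256 = n71990 := rfl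
def n71991 : Q := act 7 n33256
theorem D71991 : act 7 n33256 = n71991 := rfl
theorem F108476 : act 2 n71991 = n33257 := d4_1 D71991 F108475 (iv2 D71986)
def n71992 : Q := act 3 n33257
theorem D71992 : act 3 n33257 = n71992 := rfl
def n71993 : Q := act 4 n33257
theorem D71993 : act 4 n33257 = n71993 := rfl
def n71994 : Q := act 5 n33257
theorem D71994 : act 5 n33257 = n71994 := rfl
theorem F108477 : act 0 n71699 = n71994 := d21_10 (iv5 D71994) (iv1 D33257) D33258 F52493 F43275 D49812 F78722 F53174 D33149 D71699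
theorem F108478 : act 6 n61533 = n71994 := d21_5 (iv5 D24284) F26986 D13866 D29131 D61533 (iv5 D71994) (iv1 D33257) D33258 F52493 F43275
def n71995 : Q := act 6 n33257
theorem D71995 : act 6 n33257 = n71995 := rfl
def n71996 : Q := act 0 n33258
theorem D71996 : act 0 n33258 = n71996 := rfl
def n71997 : Q := act 1 n33258
theorem D71997 : act 1 n33258 = n71997 := rfl
theorem F108479 : act 1 n71997 = n62697 := d15_1 D71997 (iv7 D62697) (iv2 F52492)
theorem F108480 : act 5 n71798 = n71997 := d21_6 (iv5 D3424) D3420 D7489 D16011 D33186 D71798 (iv1 D71997) (iv5 D33258) (iv6 D16059) (iv1 D7504)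
def n71998 : Q := act 4 n33258
theorem D71998 : act 4 n33258 = n71998 := rfl
theorem F108481 : act 2 n71998 = n62694 := d1_1 D71998 F97809 (iv2 F52492)
theorem F108482 : act 6 n71998 = n55616 := d10_2 (iv6 F52493) D71998 (iv4 D55616)
def n71999 : Q := act 7 n33258
theorem D71999 : act 7 n33258 = n71999 := rfl
theorem F108483 : act 2 n71999 = n62697 := d4_1 D71999 (iv7 D62697) (iv2 F52492)
theorem F108484 : act 5 n71999 = n33259 := d13_1 D71999 (iv7 D33259) D33258
theorem F108485 : act 1 n62697 = n71996 := d15_0 (iv0 D71996) D71999 F108483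
theorem F108486 : act 1 n62696 = n71999 := d15_1 D62696 (iv7 D71999) F52492
theorem F108487 : act 1 n71999 = n62695 := d15_0 (iv0 D62695) D62697 (iv2 F108483)
def n72000 : Q := act 6 n33260
theorem D72000 : act 6 n33260 = n72000 := rfl
theorem F108488 : act 3 n72000 = n33261 := d7_1 D72000 (iv6 D33261) D33260
theorem F108489 : act 4 n72000 = n38023 := d10_1 D72000 (iv6 D38023) (iv4 F52494)
def n72001 : Q := act 0 n33261
theorem D72001 : act 0 n33261 = n72001 := rfl
def n72002 : Q := act 1 n33261
theorem D72002 : act 1 n33261 = n72002 := rfl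
def n72003 : Q := act 5 n33261
theorem D72003 : act 5 n33261 = n72003 := rfl
def n72004 : Q := act 7 n33261
theorem D72004 : act 7 n33261 = n72004 := rfl
def n72005 : Q := act 0 n33262
theorem D72005 : act 0 n33262 = n72005 := rfl
def n72006 : Q := act 1 n33262
theorem D72006 : act 1 n33262 = n72006 := rfl
def n72007 : Q := act 5 n33262
theorem D72007 : act 5 n33262 = n72007 := rfl
def n72008 : Q := act 7 n33262
theorem D72008 : act 7 n33262 = n72008 := rfl
theorem F108490 : act 4 n72008 = n70617 := d11_1 D72008 (iv7 D70617) (iv4 F52495)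
def n72009 : Q := act 6 n33263
theorem D72009 : act 6 n33263 = n72009 := rfl
theorem F108491 : act 2 n72009 = n34510 := d3_1 D72009 (iv6 D34510) F52497
theorem F108492 : act 3 n72009 = n38024 := d7_1 D72009 (iv6 D38024) (iv3 F52500)
def n72010 : Q := act 3 n33264
theorem D72010 : act 3 n33264 = n72010 := rfl
theorem F108493 : act 4 n72010 = n36581 := d5_2 D33264 D72010 (iv3 D36581) (iv4 D17646) (iv3 F25587)
def n72011 : Q := act 6 n33264
theorem D72011 : act 6 n33264 = n72011 := rfl
def n72014 : Q := act 5 n33265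
theorem D72014 : act 5 n33265 = n72014 := rfl
def n72016 : Q := act 2 n33266
theorem D72016 : act 2 n33266 = n72016 := rfl
theorem F108498 : act 7 n33267 = n72016 := d15_2 (iv0 D33266) D33267 (iv2 D72016)
def n72017 : Q := act 3 n33266
theorem D72017 : act 3 n33266 = n72017 := rfl
def n72018 : Q := act 4 n33266
theorem D72018 : act 4 n33266 = n72018 := rfl
def n72019 : Q := act 5 n33266
theorem D72019 : act 5 n33266 = n72019 := rfl
def n72020 : Q := act 6 n33266
theorem D72020 : act 6 n33266 = n72020 := rfl
def n72021 : Q := act 7 n33266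
theorem D72021 : act 7 n33266 = n72021 := rfl
theorem F108499 : act 2 n72021 = n33267 := d4_1 D72021 F108498 (iv2 D72016)
def n72022 : Q := act 3 n33267
theorem D72022 : act 3 n33267 = n72022 := rfl
def n72023 : Q := act 4 n33267
theorem D72023 : act 4 n33267 = n72023 := rfl
theorem F108500 : act 3 n72023 = n54441 := d20_3 (iv4 F108316) (iv1 F108317) D72023 (iv1 D54441) F41989 (iv4 F51986) D70845 (iv4 F107325) (iv3 D33271) (iv1 F52440)
def n72024 : Q := act 5 n33267
theorem D72024 : act 5 n33267 = n72024 := rfl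
def n72025 : Q := act 6 n33267
theorem D72025 : act 6 n33267 = n72025 := rfl
def n72026 : Q := act 0 n33268
theorem D72026 : act 0 n33268 = n72026 := rfl
def n72027 : Q := act 1 n33268
theorem D72027 : act 1 n33268 = n72027 := rfl
def n72029 : Q := act 7 n33268
theorem D72029 : act 7 n33268 = n72029 := rfl
theorem F108501 : act 3 n72029 = n36600 := d8_1 D72029 (iv7 D36600) (iv3 F52503)
theorem F108502 : act 5 n72029 = n33269 := d13_1 D72029 (iv7 D33269) D33268
def n72031 : Q := act 1 n33270
theorem D72031 : act 1 n33270 = n72031 := rfl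
theorem F108504 : act 1 n72031 = n33275 := d15_1 D72031 (iv7 D33275) D33270
def n72032 : Q := act 3 n33270
theorem D72032 : act 3 n33270 = n72032 := rfl
theorem F108505 : act 7 n72032 = n33276 := d8_2 F52506 D72032 (iv3 D33276)
def n72033 : Q := act 4 n33270
theorem D72033 : act 4 n33270 = n72033 := rfl
theorem F108506 : act 2 n72033 = n33272 := d1_1 D72033 (iv4 D33272) D33270
theorem F108507 : act 7 n72033 = n33277 := d11_2 F52506 D72033 (iv4 D33277)
def n72034 : Q := act 5 n33270
theorem D72034 : act 5 n33270 = n72034 := rfl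
theorem F108508 : act 2 n72034 = n33273 := d2_1 D72034 (iv5 D33273) D33270
theorem F108509 : act 7 n72034 = n33278 := d13_2 F52506 D72034 (iv5 D33278)
def n72035 : Q := act 6 n33270
theorem D72035 : act 6 n33270 = n72035 := rfl
theorem F108510 : act 2 n72035 = n33274 := d3_1 D72035 (iv6 D33274) D33270
def n72036 : Q := act 0 n33271
theorem D72036 : act 0 n33271 = n72036 := rfl
def n72037 : Q := act 1 n33271
theorem D72037 : act 1 n33271 = n72037 := rfl
def n72038 : Q := act 2 n33271
theorem D72038 : act 2 n33271 = n72038 := rfl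
def n72039 : Q := act 5 n33271
theorem D72039 : act 5 n33271 = n72039 := rfl
theorem F108511 : act 3 n72039 = n33273 := d6_1 D72039 (iv5 D33273) D33271
def n72040 : Q := act 6 n33271
theorem D72040 : act 6 n33271 = n72040 := rfl
theorem F108512 : act 3 n72040 = n33274 := d7_1 D72040 (iv6 D33274) D33271
def n72041 : Q := act 7 n33271
theorem D72041 : act 7 n33271 = n72041 := rfl
theorem F108513 : act 3 n72041 = n33275 := d8_1 D72041 (iv7 D33275) D33271
def n72042 : Q := act 0 n33272
theorem D72042 : act 0 n33272 = n72042 := rfl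
def n72043 : Q := act 1 n33272
theorem D72043 : act 1 n33272 = n72043 := rfl
theorem F108514 : act 1 n72043 = n33277 := d15_1 D72043 (iv7 F108507) F108506
def n72044 : Q := act 3 n33272
theorem D72044 : act 3 n33272 = n72044 := rfl
def n72045 : Q := act 5 n33272
theorem D72045 : act 5 n33272 = n72045 := rfl
def n72046 : Q := act 6 n33272
theorem D72046 : act 6 n33272 = n72046 := rfl
theorem F108515 : act 4 n72046 = n33274 := d10_1 D72046 (iv6 D33274) D33272
def n72047 : Q := act 7 n33272
theorem D72047 : act 7 n33272 = n72047 := rfl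
theorem F108516 : act 2 n72047 = n33277 := d4_1 D72047 (iv7 F108507) F108506
theorem F108517 : act 4 n72047 = n33275 := d11_1 D72047 (iv7 D33275) D33272
theorem F108518 : act 1 n33277 = n72042 := d15_0 (iv0 D72042) D72047 F108516
def n72048 : Q := act 0 n33273
theorem D72048 : act 0 n33273 = n72048 := rfl
theorem F108519 : act 5 n72048 = n71830 := d21_2 D33273 D72048 (iv6 D71830) (iv1 D33197) (iv6 D16021) (iv5 D7494) (iv1 D3421) D3424 D7506 D16064
def n72049 : Q := act 1 n33273
theorem D72049 : act 1 n33273 = n72049 := rfl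
theorem F108520 : act 1 n72049 = n33278 := d15_1 D72049 (iv7 F108509) F108508
def n72050 : Q := act 4 n33273
theorem D72050 : act 4 n33273 = n72050 := rfl
def n72051 : Q := act 6 n33273
theorem D72051 : act 6 n33273 = n72051 := rfl
def n72052 : Q := act 7 n33273
theorem D72052 : act 7 n33273 = n72052 := rfl
theorem F108521 : act 2 n72052 = n33278 := d4_1 D72052 (iv7 F108509) F108508
theorem F108522 : act 5 n72052 = n33275 := d13_1 D72052 (iv7 D33275) D33273
theorem F108523 : act 1 n33278 = n72048 := d15_0 (iv0 D72048) D72052 F108521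
def n72053 : Q := act 0 n33274
theorem D72053 : act 0 n33274 = n72053 := rfl
def n72054 : Q := act 1 n33274
theorem D72054 : act 1 n33274 = n72054 := rfl
def n72055 : Q := act 5 n33274
theorem D72055 : act 5 n33274 = n72055 := rfl
theorem F108524 : act 0 n72055 = n55050 := d21_7 (iv5 D7494) (iv1 D3421) D3424 D7506 D16064 D33274 D72055 (iv5 D55050) (iv6 D26609) F27121
theorem F108525 : act 1 n72055 = n55074 := d15_1 (iv0 F108524) (iv7 D55074) (iv2 F87052)
def n72056 : Q := act 7 n33274
theorem D72056 : act 7 n33274 = n72056 := rfl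
def n72057 : Q := act 6 n33275
theorem D72057 : act 6 n33275 = n72057 := rfl
theorem F108526 : act 2 n72057 = n33279 := d3_1 D72057 (iv6 D33279) (iv2 F52507)
def n72058 : Q := act 0 n33276
theorem D72058 : act 0 n33276 = n72058 := rfl
def n72059 : Q := act 1 n33276
theorem D72059 : act 1 n33276 = n72059 := rfl
def n72060 : Q := act 2 n33276
theorem D72060 : act 2 n33276 = n72060 := rfl
def n72061 : Q := act 4 n33276
theorem D72061 : act 4 n33276 = n72061 := rfl
def n72062 : Q := act 5 n33276
theorem D72062 : act 5 n33276 = n72062 := rfl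
theorem F108527 : act 3 n72062 = n33278 := d6_1 D72062 (iv5 D33278) D33276
def n72063 : Q := act 6 n33276
theorem D72063 : act 6 n33276 = n72063 := rfl
theorem F108528 : act 3 n72063 = n33279 := d7_1 D72063 (iv6 D33279) D33276
def n72064 : Q := act 3 n33277
theorem D72064 : act 3 n33277 = n72064 := rfl
def n72065 : Q := act 5 n33277
theorem D72065 : act 5 n33277 = n72065 := rfl
def n72066 : Q := act 6 n33277
theorem D72066 : act 6 n33277 = n72066 := rfl
theorem F108529 : act 4 n72066 = n33279 := d10_1 D72066 (iv6 D33279) D33277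
def n72067 : Q := act 4 n33278
theorem D72067 : act 4 n33278 = n72067 := rfl
def n72068 : Q := act 6 n33278
theorem D72068 : act 6 n33278 = n72068 := rfl
def n72069 : Q := act 0 n33279
theorem D72069 : act 0 n33279 = n72069 := rfl
def n72070 : Q := act 1 n33279
theorem D72070 : act 1 n33279 = n72070 := rfl
def n72071 : Q := act 5 n33279
theorem D72071 : act 5 n33279 = n72071 := rfl
theorem F108530 : act 0 n71797 = n72071 := d21_1 D71797 (iv5 D72071) (iv6 D33279) (iv1 D16065) (iv6 D7506) (iv5 D3424) D3420 D7489 D16011 D33186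
def n72072 : Q := act 7 n33279
theorem D72072 : act 7 n33279 = n72072 := rfl
def n72073 : Q := act 2 n33280
theorem D72073 : act 2 n33280 = n72073 := rfl
theorem F108531 : act 7 n33281 = n72073 := d15_2 (iv0 D33280) D33281 (iv2 D72073)
def n72074 : Q := act 3 n33280
theorem D72074 : act 3 n33280 = n72074 := rfl
def n72075 : Q := act 4 n33280
theorem D72075 : act 4 n33280 = n72075 := rfl
def n72076 : Q := act 5 n33280
theorem D72076 : act 5 n33280 = n72076 := rfl
def n72077 : Q := act 6 n33280
theorem D72077 : act 6 n33280 = n72077 := rfl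
def n72078 : Q := act 7 n33280
theorem D72078 : act 7 n33280 = n72078 := rfl
theorem F108532 : act 2 n72078 = n33281 := d4_1 D72078 F108531 (iv2 D72073)
def n72079 : Q := act 3 n33281
theorem D72079 : act 3 n33281 = n72079 := rfl
def n72080 : Q := act 4 n33281
theorem D72080 : act 4 n33281 = n72080 := rfl
def n72081 : Q := act 5 n33281
theorem D72081 : act 5 n33281 = n72081 := rfl
theorem F108533 : act 6 n72081 = n33826 := d21_3 (iv5 F108333) (iv1 F108335) D72081 (iv1 F53177) (iv6 F42632) (iv5 F87087) (iv1 F108525) (iv5 D72055) (iv6 D33274) (iv1 F52440)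
theorem F108534 : act 2 n33843 = n72081 := d3_3 F108533 F85916 D33843
theorem E9653 : n72078 = n71865 := (c2_4 (iv5 F108323) F108534 (iv5 D72081) (iv2 F108532))
theorem F108535 : act 2 n71865 = n33281 := (sb E9653 F108532)
theorem F108536 : act 7 n71865 = n33280 := (sb E9653 (iv7 D72078))
theorem E9654 : n72074 = n55226 := (c8_2 F108536 D72074 F87392 (iv3 F108324))
theorem F108537 : act 3 n55226 = n33280 := (sb E9654 (iv3 D72074))
theorem F108538 : act 7 n72076 = n33843 := d13_2 F108536 D72076 F108323
theorem E9655 : n72073 = n71864 := (c15_4 (iv0 D71864) D71865 F108536 D72073)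
theorem F108539 : act 2 n71864 = n33280 := (sb E9655 (iv2 D72073))
theorem F108540 : act 7 n71864 = n33281 := (sb E9655 (iv7 F108531))
def n72082 : Q := act 6 n33281
theorem D72082 : act 6 n33281 = n72082 := rfl
theorem F108541 : act 2 n72082 = n39416 := d3_1 D72082 F108325 F108535
def n72083 : Q := act 0 n33282
theorem D72083 : act 0 n33282 = n72083 := rfl
def n72084 : Q := act 1 n33282
theorem D72084 : act 1 n33282 = n72084 := rfl
def n72085 : Q := act 3 n33282
theorem D72085 : act 3 n33282 = n72085 := rfl
theorem F108543 : act 6 n72085 = n33299 := d7_2 (iv6 F52508) D72085 (iv3 D33299)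
def n72086 : Q := act 5 n33282
theorem D72086 : act 5 n33282 = n72086 := rfl
def n72087 : Q := act 7 n33282
theorem D72087 : act 7 n33282 = n72087 := rfl
theorem F108544 : act 4 n72087 = n33283 := d11_1 D72087 (iv7 D33283) D33282
def n72088 : Q := act 6 n33283
theorem D72088 : act 6 n33283 = n72088 := rfl
theorem F108545 : act 3 n72088 = n33331 := d7_1 D72088 (iv6 D33331) (iv3 F52509)
theorem F108546 : act 7 n72088 = n33302 := d14_2 D33283 D72088 (iv6 D33302) (iv7 D16081) (iv6 F25592)
def n72089 : Q := act 5 n33284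
theorem D72089 : act 5 n33284 = n72089 := rfl
theorem F108547 : act 2 n72089 = n54678 := d2_1 D72089 (iv5 D54678) (iv2 F52511)
theorem F108548 : act 3 n72089 = n33285 := d6_1 D72089 (iv5 D33285) D33284
theorem F108549 : act 7 n72089 = n54677 := d13_2 (iv7 F52513) D72089 (iv5 D54677)
def n72090 : Q := act 4 n33285
theorem D72090 : act 4 n33285 = n72090 := rfl
def n72091 : Q := act 6 n33285
theorem D72091 : act 6 n33285 = n72091 := rfl
def n72092 : Q := act 3 n33286
theorem D72092 : act 3 n33286 = n72092 := rfl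
def n72093 : Q := act 5 n33286
theorem D72093 : act 5 n33286 = n72093 := rfl
def n72094 : Q := act 6 n33286
theorem D72094 : act 6 n33286 = n72094 := rfl
theorem F108550 : act 4 n72094 = n33287 := d10_1 D72094 (iv6 D33287) D33286
def n72095 : Q := act 0 n33287
theorem D72095 : act 0 n33287 = n72095 := rfl
def n72096 : Q := act 1 n33287
theorem D72096 : act 1 n33287 = n72096 := rfl
theorem F108551 : act 1 n72096 = n39387 := d15_1 D72096 (iv7 F85531) F85528
def n72097 : Q := act 7 n33287
theorem D72097 : act 7 n33287 = n72097 := rfl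
theorem F108552 : act 2 n72097 = n39387 := d4_1 D72097 (iv7 F85531) F85528
theorem F108553 : act 6 n72097 = n39327 := d14_1 D72097 (iv7 D39327) (iv6 F42367) F42368 D33287
theorem F108554 : act 1 n39387 = n72095 := d15_0 (iv0 D72095) D72097 F108552
def n72098 : Q := act 0 n33290
theorem D72098 : act 0 n33290 = n72098 := rfl
theorem F108555 : act 1 n33294 = n72098 := d15_0 (iv0 D72098) (iv7 F108342) F108341
def n72099 : Q := act 1 n33290
theorem D72099 : act 1 n33290 = n72099 := rfl
theorem F108556 : act 1 n72099 = n33294 := d15_1 D72099 (iv7 F108338) F108337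
def n72100 : Q := act 3 n33290
theorem D72100 : act 3 n33290 = n72100 := rfl
def n72101 : Q := act 5 n33290
theorem D72101 : act 5 n33290 = n72101 := rfl
def n72102 : Q := act 6 n33290
theorem D72102 : act 6 n33290 = n72102 := rfl
theorem F108557 : act 4 n72102 = n33292 := d10_1 D72102 (iv6 D33292) D33290
def n72103 : Q := act 4 n33291
theorem D72103 : act 4 n33291 = n72103 := rfl
theorem F108558 : act 3 n72103 = n34018 := d5_1 D72103 (iv4 D34018) (iv3 D16457) D16458 (iv3 F52518)
theorem F108559 : act 6 n72103 = n52467 := d10_2 F52520 D72103 F82838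
theorem F108560 : act 7 n72103 = n34939 := d11_2 (iv7 F52521) D72103 F55305
theorem F108561 : act 0 n72103 = n69688 := d21_4 D25689 F83504 F83503 (iv6 F108559) (iv6 D69688) (iv5 F105005) (iv1 F105004) (iv5 D32013) (iv6 F50905) (iv1 D25688)
def n72104 : Q := act 0 n33292
theorem D72104 : act 0 n33292 = n72104 := rfl
theorem F108562 : act 6 n72104 = n39322 := d21_5 (iv5 D34303) F52517 (iv5 D33291) D33292 D72104 (iv5 D39322) (iv1 D18650) D18651 (iv6 F42367) F54436
def n72105 : Q := act 1 n33292
theorem D72105 : act 1 n33292 = n72105 := rfl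
def n72106 : Q := act 7 n33292
theorem D72106 : act 7 n33292 = n72106 := rfl
theorem F108563 : act 3 n72106 = n39456 := d8_1 D72106 F92313 F86595
def n72107 : Q := act 6 n33293
theorem D72107 : act 6 n33293 = n72107 := rfl
theorem F108564 : act 2 n72107 = n70331 := d3_1 D72107 F106795 (iv2 F52528)
theorem F108565 : act 3 n72107 = n33296 := d7_1 D72107 (iv6 D33296) D33293
theorem F108566 : act 5 n72107 = n70327 := d12_1 D72107 (iv6 D70327) (iv5 D32640) D32641 F52529
def n72108 : Q := act 3 n33294
theorem D72108 : act 3 n33294 = n72108 := rfl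
def n72109 : Q := act 5 n33294
theorem D72109 : act 5 n33294 = n72109 := rfl
def n72110 : Q := act 6 n33294
theorem D72110 : act 6 n33294 = n72110 := rfl
theorem F108567 : act 4 n72110 = n33296 := d10_1 D72110 (iv6 D33296) D33294
def n72111 : Q := act 4 n33295
theorem D72111 : act 4 n33295 = n72111 := rfl
theorem F108568 : act 2 n72111 = n34939 := d1_1 D72111 F55305 (iv2 F52530)
theorem F108569 : act 3 n72111 = n34920 := d5_1 D72111 F55284 (iv3 F55760) F55761 (iv3 F52531)
theorem F108570 : act 6 n72111 = n34919 := d10_2 (iv6 F52532) D72111 F55277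
theorem F108571 : act 0 n69688 = n72111 := d21_4 D32009 D68812 F105005 D69688 F108570 (iv5 F65439) (iv1 F65440) F83058 (iv6 D52555) F77057
theorem F108572 : act 0 n72111 = n62616 := d21_4 (iv5 F83051) (iv1 F65441) F65439 (iv6 F108570) (iv6 D62616) (iv5 F96023) (iv1 D61513) (iv5 D29123) D29124 (iv1 F83052)
def n72112 : Q := act 0 n33296
theorem D72112 : act 0 n33296 = n72112 := rfl
def n72113 : Q := act 1 n33296
theorem D72113 : act 1 n33296 = n72113 := rfl
def n72114 : Q := act 7 n33296
theorem D72114 : act 7 n33296 = n72114 := rfl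
def n72115 : Q := act 3 n33297
theorem D72115 : act 3 n33297 = n72115 := rfl
def n72116 : Q := act 4 n33297
theorem D72116 : act 4 n33297 = n72116 := rfl
theorem F108573 : act 2 n72116 = n54467 := d1_1 D72116 (iv4 F108346) F108349
theorem F108574 : act 1 n72116 = n48962 := d18_8 (iv1 F52479) (iv4 D33238) (iv1 F42597) (iv4 D26603) D26604 D55037 F87037 D72116 (iv5 D48962)
def n72117 : Q := act 5 n33297
theorem D72117 : act 5 n33297 = n72117 := rfl
def n72118 : Q := act 6 n33297
theorem D72118 : act 6 n33297 = n72118 := rfl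
def n72119 : Q := act 3 n33298
theorem D72119 : act 3 n33298 = n72119 := rfl
def n72120 : Q := act 5 n33298
theorem D72120 : act 5 n33298 = n72120 := rfl
def n72121 : Q := act 6 n33298
theorem D72121 : act 6 n33298 = n72121 := rfl
def n72124 : Q := act 2 n33299
theorem D72124 : act 2 n33299 = n72124 := rfl
def n72125 : Q := act 5 n33299
theorem D72125 : act 5 n33299 = n72125 := rfl
theorem F108576 : act 3 n72125 = n33300 := d6_1 D72125 (iv5 D33300) D33299
def n72126 : Q := act 7 n33299
theorem D72126 : act 7 n33299 = n72126 := rfl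
theorem F108577 : act 3 n72126 = n33301 := d8_1 D72126 (iv7 D33301) D33299
theorem F108578 : act 4 n72126 = n33354 := d11_1 D72126 (iv7 D33354) (iv4 F52535)
def n72127 : Q := act 0 n33300
theorem D72127 : act 0 n33300 = n72127 := rfl
def n72128 : Q := act 1 n33300
theorem D72128 : act 1 n33300 = n72128 := rfl
def n72129 : Q := act 4 n33300
theorem D72129 : act 4 n33300 = n72129 := rfl
def n72130 : Q := act 6 n33300
theorem D72130 : act 6 n33300 = n72130 := rfl
def n72131 : Q := act 7 n33300
theorem D72131 : act 7 n33300 = n72131 := rfl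
theorem F108579 : act 5 n72131 = n33301 := d13_1 D72131 (iv7 D33301) D33300
def n72132 : Q := act 6 n33301
theorem D72132 : act 6 n33301 = n72132 := rfl
theorem F108580 : act 4 n72132 = n33302 := d10_1 D72132 (iv6 D33302) (iv4 F52536)
def n72133 : Q := act 0 n33302
theorem D72133 : act 0 n33302 = n72133 := rfl
def n72134 : Q := act 1 n33302
theorem D72134 : act 1 n33302 = n72134 := rfl
def n72135 : Q := act 2 n33303
theorem D72135 : act 2 n33303 = n72135 := rfl
def n72136 : Q := act 3 n33303
theorem D72136 : act 3 n33303 = n72136 := rfl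
theorem F108582 : act 4 n72136 = n71037 := d20_6 F5400 D3789 F29132 D16083 D33303 D72136 (iv1 D71037) (iv4 D32896) (iv3 D15840) (iv1 D7427)
def n72137 : Q := act 4 n33303
theorem D72137 : act 4 n33303 = n72137 := rfl
theorem F108583 : act 0 n72137 = n70955 := d20_1 D72137 (iv4 D70955) (iv3 D32864) (iv1 D15817) F11706 F5400 D3789 F29132 D16083 D33303
def n72138 : Q := act 5 n33303
theorem D72138 : act 5 n33303 = n72138 := rfl
def n72139 : Q := act 6 n33303
theorem D72139 : act 6 n33303 = n72139 := rfl
def n72145 : Q := act 4 n33305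
theorem D72145 : act 4 n33305 = n72145 := rfl
theorem F108585 : act 2 n72145 = n33306 := d1_1 D72145 (iv4 D33306) D33305
def n72146 : Q := act 5 n33305
theorem D72146 : act 5 n33305 = n72146 := rfl
theorem F108586 : act 2 n72146 = n33307 := d2_1 D72146 (iv5 D33307) D33305
def n72147 : Q := act 6 n33305
theorem D72147 : act 6 n33305 = n72147 := rfl
theorem F108587 : act 2 n72147 = n33308 := d3_1 D72147 (iv6 D33308) D33305
def n72148 : Q := act 0 n33306
theorem D72148 : act 0 n33306 = n72148 := rfl
def n72149 : Q := act 1 n33306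
theorem D72149 : act 1 n33306 = n72149 := rfl
def n72150 : Q := act 5 n33306
theorem D72150 : act 5 n33306 = n72150 := rfl
theorem F108588 : act 3 n72150 = n37418 := d6_1 D72150 (iv5 D37418) (iv3 F52538)
def n72151 : Q := act 6 n33306
theorem D72151 : act 6 n33306 = n72151 := rfl
theorem F108589 : act 3 n72151 = n37419 := d7_1 D72151 (iv6 D37419) (iv3 F52538)
theorem F108590 : act 4 n72151 = n33308 := d10_1 D72151 (iv6 D33308) D33306
def n72152 : Q := act 0 n33307
theorem D72152 : act 0 n33307 = n72152 := rfl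
def n72153 : Q := act 1 n33307
theorem D72153 : act 1 n33307 = n72153 := rfl
def n72154 : Q := act 4 n33307
theorem D72154 : act 4 n33307 = n72154 := rfl
def n72155 : Q := act 6 n33307
theorem D72155 : act 6 n33307 = n72155 := rfl
theorem F108591 : act 3 n72155 = n33311 := d7_1 D72155 (iv6 D33311) (iv3 F52539)
def n72156 : Q := act 0 n33308
theorem D72156 : act 0 n33308 = n72156 := rfl
def n72157 : Q := act 1 n33308
theorem D72157 : act 1 n33308 = n72157 := rfl
def n72158 : Q := act 7 n33308
theorem D72158 : act 7 n33308 = n72158 := rfl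
theorem F108592 : act 3 n72158 = n33314 := d8_1 D72158 (iv7 D33314) (iv3 F52540)
theorem F108593 : act 5 n72158 = n55092 := d13_1 D72158 F87129 F53151
def n72159 : Q := act 3 n33309
theorem D72159 : act 3 n33309 = n72159 := rfl
theorem F108594 : act 5 n72159 = n58442 := d6_2 (iv5 F52543) D72159 F92298
theorem F108595 : act 7 n72159 = n58441 := d8_2 (iv7 F52542) D72159 F92297
def n72160 : Q := act 4 n33309
theorem D72160 : act 4 n33309 = n72160 := rfl
theorem F108596 : act 2 n72160 = n71019 := d1_1 D72160 F107571 F60378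
theorem F108597 : act 5 n72160 = n71019 := d9_2 (iv5 F52543) D72160 F107571 F60379 F30344 F28778 F28978 D18699 D39460 (iv5 F92316) (iv4 D58448) (iv5 D27810) F30411 F30398 (iv4 F44918)
theorem F108600 : act 1 n72160 = n36781 := d18_6 (iv1 F43884) (iv4 D27146) (iv1 F28238) (iv4 F44918) (iv5 F52543) D72160 (iv4 D36781) (iv0 F45016) (iv5 D27884)
theorem F108601 : act 0 n71309 = n54502 := d21_4 (iv5 F57678) (iv1 F108600) F108597 (iv6 F107794) (iv6 D54502) F42052 (iv1 F25614) (iv5 D16103) (iv6 F25600) D33326
theorem F108602 : act 1 n71309 = n71130 := d15_1 (iv0 F108601) (iv7 D71130) (iv2 F86088)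
theorem F108603 : act 6 n72160 = n71128 := d21_3 F52091 (iv1 F107569) (iv5 F108597) (iv1 D71128) (iv6 D32933) (iv5 F25331) (iv1 F25619) F25617 (iv6 F42351) (iv1 F52092)
theorem F108604 : act 2 n71128 = n71309 := d3_1 F108603 F107794 (iv2 F108596)
theorem F108605 : act 4 n71128 = n54542 := d10_1 F108603 (iv6 F86181) D72160
theorem F108606 : act 7 n71305 = n71128 := d11_0 F108605 (iv7 F86190) D71305
theorem F108607 : act 1 n71130 = n71305 := d15_1 F108602 F108606 F108604
theorem F108608 : act 2 n71305 = n71127 := d15_3 (iv0 D71127) D71128 (iv7 F108606)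
theorem F108610 : act 7 n71127 = n71309 := d4_2 (iv7 F108606) F108608 (iv2 F108604)
theorem F108611 : act 1 n71305 = n54502 := d15_0 (iv0 F108601) (iv7 F108610) (iv2 F108608)
def n72162 : Q := act 6 n33310
theorem D72162 : act 6 n33310 = n72162 := rfl
theorem F108613 : act 4 n72162 = n33311 := d10_1 D72162 (iv6 D33311) D33310
def n72163 : Q := act 3 n33313
theorem D72163 : act 3 n33313 = n72163 := rfl
theorem F108614 : act 6 n72163 = n39466 := d7_2 F52546 D72163 F60383
theorem F108615 : act 7 n72163 = n34399 := d8_2 (iv7 F52547) D72163 F54562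
def n72165 : Q := act 3 n33315
theorem D72165 : act 3 n33315 = n72165 := rfl
theorem F108617 : act 4 n72165 = n71007 := d20_6 F20929 (iv1 F9687) F29135 D16088 D33315 D72165 (iv1 D71007) (iv4 D32884) (iv3 D15835) (iv1 F20933)
def n72170 : Q := act 3 n33316
theorem D72170 : act 3 n33316 = n72170 := rfl
theorem F108619 : act 4 n70937 = n72170 := d20_2 D32860 D70937 (iv3 D72170) (iv1 D33316) (iv3 D16088) (iv4 F29135) (iv1 D3790) (iv4 F5400) (iv3 F11706) D15816
def n72174 : Q := act 4 n33317
theorem D72174 : act 4 n33317 = n72174 := rfl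
theorem F108620 : act 2 n72174 = n33318 := d1_1 D72174 (iv4 D33318) D33317
def n72175 : Q := act 5 n33317
theorem D72175 : act 5 n33317 = n72175 := rfl
theorem F108621 : act 2 n72175 = n33319 := d2_1 D72175 (iv5 D33319) D33317
def n72176 : Q := act 6 n33317
theorem D72176 : act 6 n33317 = n72176 := rfl
theorem F108622 : act 2 n72176 = n33320 := d3_1 D72176 (iv6 D33320) D33317
def n72177 : Q := act 0 n33318
theorem D72177 : act 0 n33318 = n72177 := rfl
def n72178 : Q := act 1 n33318
theorem D72178 : act 1 n33318 = n72178 := rfl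
def n72179 : Q := act 5 n33318
theorem D72179 : act 5 n33318 = n72179 := rfl
theorem F108623 : act 3 n72179 = n37442 := d6_1 D72179 (iv5 D37442) (iv3 F52552)
def n72180 : Q := act 6 n33318
theorem D72180 : act 6 n33318 = n72180 := rfl
theorem F108624 : act 3 n72180 = n37443 := d7_1 D72180 (iv6 D37443) (iv3 F52552)
theorem F108625 : act 4 n72180 = n33320 := d10_1 D72180 (iv6 D33320) D33318
def n72181 : Q := act 0 n33319
theorem D72181 : act 0 n33319 = n72181 := rfl
def n72182 : Q := act 1 n33319
theorem D72182 : act 1 n33319 = n72182 := rfl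
def n72183 : Q := act 4 n33319
theorem D72183 : act 4 n33319 = n72183 := rfl
def n72184 : Q := act 0 n33320
theorem D72184 : act 0 n33320 = n72184 := rfl
def n72185 : Q := act 1 n33320
theorem D72185 : act 1 n33320 = n72185 := rfl
def n72187 : Q := act 0 n33322
theorem D72187 : act 0 n33322 = n72187 := rfl
def n72188 : Q := act 1 n33322
theorem D72188 : act 1 n33322 = n72188 := rfl
def n72189 : Q := act 2 n33322
theorem D72189 : act 2 n33322 = n72189 := rfl
def n72190 : Q := act 4 n33322
theorem D72190 : act 4 n33322 = n72190 := rfl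
def n72191 : Q := act 6 n33322
theorem D72191 : act 6 n33322 = n72191 := rfl
theorem F108627 : act 3 n72191 = n33323 := d7_1 D72191 (iv6 D33323) D33322
def n72192 : Q := act 0 n33323
theorem D72192 : act 0 n33323 = n72192 := rfl
def n72193 : Q := act 1 n33323
theorem D72193 : act 1 n33323 = n72193 := rfl
def n72194 : Q := act 7 n33323
theorem D72194 : act 7 n33323 = n72194 := rfl
theorem F108628 : act 5 n72194 = n34304 := d13_1 D72194 F86573 (iv5 F78759)
def n72195 : Q := act 4 n33324
theorem D72195 : act 4 n33324 = n72195 := rfl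
def n72196 : Q := act 6 n33324
theorem D72196 : act 6 n33324 = n72196 := rfl
theorem F108629 : act 3 n72196 = n33325 := d7_1 D72196 (iv6 D33325) D33324
def n72197 : Q := act 0 n33325
theorem D72197 : act 0 n33325 = n72197 := rfl
theorem F108630 : act 5 n72197 = n35980 := d21_0 (iv1 F88648) F88644 (iv6 F86185) (iv1 F86187) (iv6 F60382) F60379 (iv1 F30350) (iv5 F30352) D33325 D72197
theorem F108631 : act 6 n69359 = n72197 := d12_0 F108630 F103933 (iv5 D67881) D67882 (iv5 F105624)
theorem F108633 : act 0 n67882 = n55171 := d21_7 F60379 (iv1 F30350) (iv5 F30352) D33325 D72197 (iv6 F108631) F105624 F87271 F85560 (iv1 F60381)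
theorem F108634 : act 0 n69456 = n67881 := d21_1 D69456 (iv5 D67881) D67882 F108633 (iv6 D55171) F42723 F43221 (iv5 D15228) D15229 (iv1 F87275)
theorem F108635 : act 1 n67882 = n54096 := d15_1 (iv0 F108633) F85381 (iv2 F87270)
def n72198 : Q := act 1 n33325
theorem D72198 : act 1 n33325 = n72198 := rfl
def n72199 : Q := act 7 n33325
theorem D72199 : act 7 n33325 = n72199 := rfl
def n72200 : Q := act 3 n33326
theorem D72200 : act 3 n33326 = n72200 := rfl
def n72201 : Q := act 6 n33326
theorem D72201 : act 6 n33326 = n72201 := rfl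
theorem F108637 : act 2 n72201 = n71054 := d3_1 D72201 (iv6 D71054) F52557
theorem F108638 : act 4 n72201 = n54480 := d10_1 D72201 (iv6 D54480) (iv4 F52556)
def n72203 : Q := act 6 n33327
theorem D72203 : act 6 n33327 = n72203 := rfl
theorem F108640 : act 2 n72203 = n71064 := d3_1 D72203 (iv6 D71064) F52561
theorem F108641 : act 4 n72203 = n54482 := d10_1 D72203 (iv6 D54482) (iv4 F52560)
def n72207 : Q := act 5 n33328
theorem D72207 : act 5 n33328 = n72207 := rfl
theorem F108643 : act 3 n72207 = n33329 := d6_1 D72207 (iv5 D33329) D33328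
def n72209 : Q := act 6 n33329
theorem D72209 : act 6 n33329 = n72209 := rfl
theorem F108647 : act 4 n72209 = n54745 := d10_1 D72209 (iv6 D54745) (iv4 F52563)
theorem F108648 : act 5 n72209 = n33355 := d12_1 D72209 (iv6 D33355) (iv5 D16103) (iv6 F25600) D33329
theorem F108649 : act 7 n72209 = n33355 := d14_2 (iv7 F52564) D72209 (iv6 D33355) F25612 (iv6 F42351)
def n72210 : Q := act 6 n33330
theorem D72210 : act 6 n33330 = n72210 := rfl
theorem F108650 : act 2 n72210 = n72209 := d3_1 D72210 (iv6 D72209) (iv2 F52567)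
theorem F108651 : act 4 n72210 = n33331 := d10_1 D72210 (iv6 D33331) (iv4 F52568)
theorem F108652 : act 5 n72210 = n33356 := d12_1 D72210 (iv6 D33356) F25617 (iv6 F42351) (iv5 F52569)
theorem F108653 : act 7 n72210 = n33356 := d14_2 D33330 D72210 (iv6 D33356) (iv7 D16104) (iv6 F25600)
def n72211 : Q := act 4 n33334
theorem D72211 : act 4 n33334 = n72211 := rfl
theorem F108654 : act 2 n72211 = n33335 := d1_1 D72211 (iv4 D33335) D33334
theorem F108655 : act 7 n72211 = n33559 := d11_2 (iv7 F54108) D72211 (iv4 D33559)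
def n72212 : Q := act 6 n33334
theorem D72212 : act 6 n33334 = n72212 := rfl
theorem F108656 : act 2 n72212 = n33336 := d3_1 D72212 (iv6 D33336) D33334
def n72213 : Q := act 5 n33335
theorem D72213 : act 5 n33335 = n72213 := rfl
def n72214 : Q := act 6 n33335
theorem D72214 : act 6 n33335 = n72214 := rfl
theorem F108657 : act 4 n72214 = n33336 := d10_1 D72214 (iv6 D33336) D33335
def n72215 : Q := act 0 n33336
theorem D72215 : act 0 n33336 = n72215 := rfl
def n72216 : Q := act 1 n33336
theorem D72216 : act 1 n33336 = n72216 := rfl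
def n72217 : Q := act 5 n33336
theorem D72217 : act 5 n33336 = n72217 := rfl
theorem F108658 : act 3 n72217 = n33339 := d6_1 D72217 (iv5 D33339) (iv3 F52574)
theorem F108659 : act 6 n72217 = n33744 := d12_2 D33336 D72217 F54096 (iv6 D31692) (iv5 F25602)
def n72218 : Q := act 7 n33336
theorem D72218 : act 7 n33336 = n72218 := rfl
theorem F108660 : act 3 n72218 = n33340 := d8_1 D72218 (iv7 D33340) (iv3 F52574)
def n72219 : Q := act 2 n33337
theorem D72219 : act 2 n33337 = n72219 := rfl
theorem F108661 : act 7 n33338 = n72219 := d15_2 (iv0 D33337) D33338 (iv2 D72219)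
def n72220 : Q := act 3 n33337
theorem D72220 : act 3 n33337 = n72220 := rfl
def n72221 : Q := act 4 n33337
theorem D72221 : act 4 n33337 = n72221 := rfl
def n72222 : Q := act 5 n33337
theorem D72222 : act 5 n33337 = n72222 := rfl
def n72223 : Q := act 6 n33337
theorem D72223 : act 6 n33337 = n72223 := rfl
theorem F108662 : act 5 n72223 = n35981 := d21_6 (iv5 D16607) (iv1 F12017) (iv5 F11755) D16097 D33337 D72223 (iv1 D35981) (iv5 F42085) (iv6 D26372) (iv1 F27096)
def n72224 : Q := act 7 n33337
theorem D72224 : act 7 n33337 = n72224 := rfl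
theorem F108663 : act 2 n72224 = n33338 := d4_1 D72224 F108661 (iv2 D72219)
def n72225 : Q := act 3 n33338
theorem D72225 : act 3 n33338 = n72225 := rfl
def n72226 : Q := act 4 n33338
theorem D72226 : act 4 n33338 = n72226 := rfl
def n72227 : Q := act 5 n33338
theorem D72227 : act 5 n33338 = n72227 := rfl
theorem F108664 : act 6 n72227 = n54314 := d21_3 F92312 (iv1 F86602) D72227 (iv1 F85702) (iv6 D27826) F22066 (iv1 F9810) D8769 D18696 D39456
def n72228 : Q := act 6 n33338
theorem D72228 : act 6 n33338 = n72228 := rfl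
theorem F108665 : act 5 n68923 = n72228 := d21_2 (iv5 F53259) (iv1 F105097) (iv6 D72228) (iv1 D33338) (iv6 D16097) F11755 (iv1 F18132) D13537 (iv6 F24821) D32236
theorem F108666 : act 0 n72228 = n54223 := d21_1 F108665 (iv5 D54223) D54224 F85954 (iv6 D26251) D26250 F41668 (iv5 F25890) D33915 (iv1 F105097)
def n72229 : Q := act 0 n33341
theorem D72229 : act 0 n33341 = n72229 := rfl
def n72230 : Q := act 1 n33341
theorem D72230 : act 1 n33341 = n72230 := rfl
def n72231 : Q := act 5 n33341
theorem D72231 : act 5 n33341 = n72231 := rfl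
def n72233 : Q := act 0 n33342
theorem D72233 : act 0 n33342 = n72233 := rfl
def n72234 : Q := act 1 n33342
theorem D72234 : act 1 n33342 = n72234 := rfl
def n72235 : Q := act 7 n33342
theorem D72235 : act 7 n33342 = n72235 := rfl
theorem F108668 : act 3 n72235 = n33345 := d8_1 D72235 (iv7 D33345) (iv3 F52577)
theorem F108669 : act 5 n72235 = n70300 := d13_1 D72235 (iv7 D70300) (iv5 F52578)
def n72236 : Q := act 2 n33343
theorem D72236 : act 2 n33343 = n72236 := rfl
theorem F108670 : act 7 n33344 = n72236 := d15_2 (iv0 D33343) D33344 (iv2 D72236)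
def n72237 : Q := act 3 n33343
theorem D72237 : act 3 n33343 = n72237 := rfl
def n72238 : Q := act 4 n33343
theorem D72238 : act 4 n33343 = n72238 := rfl
def n72239 : Q := act 5 n33343
theorem D72239 : act 5 n33343 = n72239 := rfl
theorem F108671 : act 0 n72239 = n68921 := d21_1 D72239 (iv5 F105643) (iv6 D69382) (iv1 D32237) F24821 (iv5 D13537) F11593 (iv5 F11756) D16099 D33343
theorem F108672 : act 0 n55094 = n72239 := d21_10 (iv5 D72239) (iv1 F86615) F86611 F85828 (iv1 F85839) F86552 (iv5 F86551) (iv1 D54732) F42656 D55094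
def n72240 : Q := act 6 n33343
theorem D72240 : act 6 n33343 = n72240 := rfl
theorem F108673 : act 0 n69362 = n72240 := d21_4 (iv5 D15206) D15204 D32229 D69362 (iv6 D72240) D72239 F108671 (iv5 F105643) (iv6 D69382) (iv1 D32237)
def n72241 : Q := act 7 n33343
theorem D72241 : act 7 n33343 = n72241 := rfl
def n72243 : Q := act 4 n33344
theorem D72243 : act 4 n33344 = n72243 := rfl
def n72244 : Q := act 5 n33344
theorem D72244 : act 5 n33344 = n72244 := rfl
theorem F108675 : act 0 n72244 = n55094 := d21_1 D72244 F87133 (iv6 D54731) (iv1 F44916) (iv6 F92304) (iv5 D58446) D58445 (iv5 F92310) (iv6 F86612) (iv1 F86614)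
theorem F108676 : act 6 n72244 = n55630 := d21_3 (iv5 F86611) (iv1 F86614) D72244 (iv1 F88004) (iv6 F88010) F88009 (iv1 F47665) D62725 (iv6 F97841) (iv1 F85831)
theorem F108677 : act 6 n72192 = n33344 := d21_5 (iv5 D27810) F30408 (iv5 F29130) D33323 D72192 D72244 F108675 F87133 (iv6 D54731) (iv1 F44916)
theorem F108678 : act 0 n68921 = n72244 := d21_10 (iv5 D72244) (iv1 D33344) F25604 (iv6 D15450) F11592 (iv6 F24730) (iv5 D15122) D15120 D32049 D68921
def n72248 : Q := act 4 n33346
theorem D72248 : act 4 n33346 = n72248 := rfl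
theorem F108685 : act 3 n72248 = n54507 := d5_1 D72248 (iv4 D54507) (iv3 D26361) (iv4 F25605) D33346
def n72249 : Q := act 6 n33346
theorem D72249 : act 6 n33346 = n72249 := rfl
theorem F108687 : act 3 n72249 = n33347 := d7_1 D72249 (iv6 D33347) D33346
def n72250 : Q := act 0 n33347
theorem D72250 : act 0 n33347 = n72250 := rfl
def n72251 : Q := act 1 n33347
theorem D72251 : act 1 n33347 = n72251 := rfl
theorem F108688 : act 1 n72251 = n71153 := d15_1 D72251 (iv7 D71153) (iv2 F52581)
def n72252 : Q := act 5 n33347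
theorem D72252 : act 5 n33347 = n72252 := rfl
theorem F108689 : act 2 n72252 = n71152 := d2_1 D72252 (iv5 D71152) (iv2 F52581)
def n72253 : Q := act 7 n33347
theorem D72253 : act 7 n33347 = n72253 := rfl
theorem F108690 : act 2 n72253 = n71153 := d4_1 D72253 (iv7 D71153) (iv2 F52581)
theorem F108691 : act 4 n72253 = n54512 := d11_1 D72253 (iv7 D54512) (iv4 F52582)
theorem F108693 : act 1 n71153 = n72250 := d15_0 (iv0 D72250) D72253 F108690
theorem F108695 : act 1 n72253 = n71150 := d15_0 (iv0 D71150) D71153 (iv2 F108690)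
def n72262 : Q := act 7 n33349
theorem D72262 : act 7 n33349 = n72262 := rfl
theorem F108707 : act 2 n72262 = n71176 := d4_1 D72262 (iv7 D71176) (iv2 F52584)
theorem F108708 : act 4 n72262 = n54517 := d11_1 D72262 (iv7 D54517) (iv4 F52585)
theorem F108711 : act 1 n71174 = n72262 := d15_1 D71174 (iv7 D72262) F52584
theorem F108712 : act 1 n72262 = n71173 := d15_0 (iv0 D71173) D71176 (iv2 F108707)
def n72279 : Q := act 4 n33353
theorem D72279 : act 4 n33353 = n72279 := rfl
theorem F108728 : act 3 n72279 = n54722 := d5_1 D72279 F86528 F42318 (iv4 F25611) (iv3 F52586)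
def n72281 : Q := act 6 n33354
theorem D72281 : act 6 n33354 = n72281 := rfl
theorem F108731 : act 3 n72281 = n33356 := d7_1 D72281 (iv6 D33356) (iv3 F52588)
def n72282 : Q := act 0 n33355
theorem D72282 : act 0 n33355 = n72282 := rfl
theorem F108732 : act 1 n72210 = n72282 := d15_0 (iv0 D72282) (iv7 F108649) (iv2 F108650)
def n72284 : Q := act 0 n33356
theorem D72284 : act 0 n33356 = n72284 := rfl
theorem F108734 : act 1 n72209 = n72284 := d15_0 (iv0 D72284) (iv7 F108653) F108650
def n72285 : Q := act 1 n33356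
theorem D72285 : act 1 n33356 = n72285 := rfl
theorem F108735 : act 1 n72285 = n72209 := d15_1 D72285 F108649 (iv2 F52591)
def n72286 : Q := act 2 n33357
theorem D72286 : act 2 n33357 = n72286 := rfl
theorem F108736 : act 6 n72286 = n69363 := d3_2 (iv6 F52593) D72286 F105626
theorem F108737 : act 7 n33358 = n72286 := d15_2 (iv0 D33357) D33358 (iv2 D72286)
def n72287 : Q := act 3 n33357
theorem D72287 : act 3 n33357 = n72287 := rfl
theorem F108738 : act 6 n72287 = n69370 := d7_2 (iv6 F52593) D72287 F105632
def n72288 : Q := act 4 n33357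
theorem D72288 : act 4 n33357 = n72288 := rfl
theorem F108739 : act 6 n72288 = n69375 := d10_2 (iv6 F52593) D72288 (iv4 D69375)
def n72289 : Q := act 5 n33357
theorem D72289 : act 5 n33357 = n72289 := rfl
theorem F108740 : act 6 n72289 = n69377 := d12_2 (iv6 F52593) D72289 (iv5 D69377) (iv6 D32235) D32234
theorem F108741 : act 0 n62726 = n72289 := d21_10 (iv5 D72289) F86583 F86581 (iv6 D33171) (iv1 F42161) D54620 F86327 F97840 (iv5 D62725) D62726
def n72290 : Q := act 7 n33357
theorem D72290 : act 7 n33357 = n72290 := rfl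
theorem F108742 : act 2 n72290 = n33358 := d4_1 D72290 F108737 (iv2 D72286)
def n72291 : Q := act 3 n33358
theorem D72291 : act 3 n33358 = n72291 := rfl
def n72292 : Q := act 4 n33358
theorem D72292 : act 4 n33358 = n72292 := rfl
def n72293 : Q := act 5 n33358
theorem D72293 : act 5 n33358 = n72293 := rfl
theorem F108743 : act 6 n61393 = n72293 := d21_5 (iv5 D6590) (iv1 F10644) D13835 D29063 D61393 (iv5 D72293) (iv1 D33358) (iv5 F42208) (iv6 D26419) (iv1 F20996)
def n72294 : Q := act 6 n33358
theorem D72294 : act 6 n33358 = n72294 := rfl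
theorem F108744 : act 7 n72294 = n69362 := d14_2 (iv7 F108737) D72294 (iv6 D69362) D69363 (iv6 F108736)
def n72295 : Q := act 3 n33359
theorem D72295 : act 3 n33359 = n72295 := rfl
def n72296 : Q := act 5 n33359
theorem D72296 : act 5 n33359 = n72296 := rfl
theorem F108745 : act 2 n72296 = n33759 := d2_1 D72296 (iv5 D33759) (iv2 F52594)
def n72297 : Q := act 0 n33360
theorem D72297 : act 0 n33360 = n72297 := rfl
def n72298 : Q := act 1 n33360
theorem D72298 : act 1 n33360 = n72298 := rfl
def n72299 : Q := act 5 n33360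
theorem D72299 : act 5 n33360 = n72299 := rfl
theorem F108746 : act 3 n72299 = n33371 := d6_1 D72299 (iv5 D33371) (iv3 F52595)
theorem F108747 : act 6 n72299 = n33363 := d12_2 D33360 D72299 (iv5 D33363) (iv6 D16108) D16107
def n72300 : Q := act 7 n33360
theorem D72300 : act 7 n33360 = n72300 := rfl
theorem F108748 : act 3 n72300 = n33372 := d8_1 D72300 (iv7 D33372) (iv3 F52595)
theorem F108749 : act 6 n72300 = n33513 := d14_1 D72300 (iv7 D33513) (iv6 D16189) (iv7 F25622) D33360
def n72301 : Q := act 6 n33365
theorem D72301 : act 6 n33365 = n72301 := rfl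
theorem F108750 : act 2 n72301 = n33439 := d3_1 D72301 (iv6 D33439) F52600
theorem F108751 : act 4 n72301 = n60056 := d10_1 D72301 (iv6 D60056) (iv4 F52599)
def n72302 : Q := act 6 n33366
theorem D72302 : act 6 n33366 = n72302 := rfl
theorem F108752 : act 3 n72302 = n33368 := d7_1 D72302 (iv6 D33368) D33366
def n72303 : Q := act 6 n33367
theorem D72303 : act 6 n33367 = n72303 := rfl
theorem F108753 : act 2 n72303 = n33450 := d3_1 D72303 (iv6 D33450) (iv2 F52604)
def n72304 : Q := act 0 n33368
theorem D72304 : act 0 n33368 = n72304 := rfl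
def n72305 : Q := act 1 n33368
theorem D72305 : act 1 n33368 = n72305 := rfl
theorem F108754 : act 1 n72305 = n33455 := d15_1 D72305 (iv7 D33455) (iv2 F52606)
def n72306 : Q := act 5 n33368
theorem D72306 : act 5 n33368 = n72306 := rfl
def n72307 : Q := act 7 n33368
theorem D72307 : act 7 n33368 = n72307 := rfl
theorem F108756 : act 2 n72307 = n33455 := d4_1 D72307 (iv7 D33455) (iv2 F52606)
theorem F108757 : act 4 n72307 = n33372 := d11_1 D72307 (iv7 D33372) (iv4 F52607)
theorem F108758 : act 6 n72307 = n33535 := d14_1 D72307 (iv7 D33535) (iv6 D16202) (iv7 F25627) D33368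
theorem F108759 : act 1 n33455 = n72304 := d15_0 (iv0 D72304) D72307 F108756
theorem F108760 : act 1 n33453 = n72307 := d15_1 D33453 (iv7 D72307) F52606
theorem F108761 : act 1 n72307 = n33452 := d15_0 (iv0 D33452) D33455 (iv2 F108756)
def n72308 : Q := act 2 n33369
theorem D72308 : act 2 n33369 = n72308 := rfl
theorem F108762 : act 7 n33370 = n72308 := d15_2 (iv0 D33369) D33370 (iv2 D72308)
def n72311 : Q := act 5 n33369
theorem D72311 : act 5 n33369 = n72311 := rfl
def n72312 : Q := act 6 n33369
theorem D72312 : act 6 n33369 = n72312 := rfl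
theorem F108763 : act 5 n72312 = n58257 := d21_6 (iv5 D3444) F11796 D7524 D16112 D33369 D72312 (iv1 D58257) F51016 (iv6 D13252) (iv1 F9795)
def n72313 : Q := act 7 n33369
theorem D72313 : act 7 n33369 = n72313 := rfl
theorem F108764 : act 2 n72313 = n33370 := d4_1 D72313 F108762 (iv2 D72308)
def n72314 : Q := act 3 n33370
theorem D72314 : act 3 n33370 = n72314 := rfl
def n72315 : Q := act 4 n33370
theorem D72315 : act 4 n33370 = n72315 := rfl
def n72316 : Q := act 5 n33370
theorem D72316 : act 5 n33370 = n72316 := rfl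
def n72317 : Q := act 6 n33370
theorem D72317 : act 6 n33370 = n72317 := rfl
theorem F108765 : act 5 n58343 = n72317 := d21_2 D27780 D58343 (iv6 D72317) (iv1 D33370) (iv6 D16112) (iv5 D7524) (iv1 F11795) (iv5 F4233) D6295 D13259
def n72318 : Q := act 0 n33371
theorem D72318 : act 0 n33371 = n72318 := rfl
def n72319 : Q := act 1 n33371
theorem D72319 : act 1 n33371 = n72319 := rfl
theorem F108767 : act 5 n33612 = n72319 := d21_6 (iv5 D3515) D3512 (iv5 F25818) D7570 D16251 D33612 (iv1 D72319) (iv5 D33371) (iv6 D16112) F25747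
def n72320 : Q := act 4 n33371
theorem D72320 : act 4 n33371 = n72320 := rfl
theorem F108769 : act 6 n72320 = n33380 := d10_2 (iv6 F52610) D72320 (iv4 D33380)
def n72321 : Q := act 7 n33371
theorem D72321 : act 7 n33371 = n72321 := rfl
theorem F108770 : act 2 n72321 = n33470 := d4_1 D72321 (iv7 D33470) (iv2 F52609)
theorem F108771 : act 5 n72321 = n33372 := d13_1 D72321 (iv7 D33372) D33371
theorem F108772 : act 1 n33470 = n72318 := d15_0 (iv0 D72318) D72321 F108770
theorem F108773 : act 1 n33468 = n72321 := d15_1 D33468 (iv7 D72321) F52609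
theorem F108774 : act 5 n33739 = n72318 := d21_0 (iv1 F108772) F52749 D33471 (iv1 F52752) D33545 (iv5 F52972) (iv1 F52976) (iv5 D16294) D16295 D33739
theorem F108775 : act 6 n33739 = n58349 := d21_3 D33371 D72318 (iv5 F108774) (iv1 D58349) (iv6 D27781) D27780 D58343 F108765 (iv6 D72317) (iv1 D33370)
theorem F108776 : act 1 n72321 = n33467 := d15_0 (iv0 D33467) D33470 (iv2 F108770)
def n72322 : Q := act 0 n33380
theorem D72322 : act 0 n33380 = n72322 := rfl
theorem F108777 : act 4 n72322 = n50011 := d18_3 (iv1 F50800) D33380 D72322 (iv5 D50011) F38238 (iv0 D16608) F26717 F23445 D29107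
theorem F108778 : act 2 n33495 = n72322 := d15_3 (iv0 D72322) F52815 F52812
def n72326 : Q := act 1 n33381
theorem D72326 : act 1 n33381 = n72326 := rfl
def n72327 : Q := act 7 n33381
theorem D72327 : act 7 n33381 = n72327 := rfl
theorem F108782 : act 3 n72327 = n35979 := d8_1 D72327 (iv7 D35979) (iv3 F52622)
def n72328 : Q := act 0 n33382
theorem D72328 : act 0 n33382 = n72328 := rfl
def n72329 : Q := act 1 n33382
theorem D72329 : act 1 n33382 = n72329 := rfl
theorem F108783 : act 5 n69103 = n72329 := d21_6 F24762 F24781 D7202 D15175 D32147 D69103 (iv1 D72329) F52624 (iv6 D31541) F50756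
def n72330 : Q := act 7 n33382
theorem D72330 : act 7 n33382 = n72330 := rfl
theorem F108784 : act 3 n72330 = n54426 := d8_1 D72330 (iv7 D54426) (iv3 F52623)
theorem F108785 : act 5 n72330 = n67872 := d13_1 D72330 (iv7 D67872) (iv5 F52624)
theorem F108786 : act 6 n72330 = n70537 := d14_1 D72330 (iv7 D70537) (iv6 D32722) (iv7 F26743) D33382
theorem F108787 : act 1 n69266 = n72330 := d15_1 (iv0 F105535) (iv7 D72330) (iv2 F52683)
theorem F108788 : act 0 n33738 = n68745 := d21_4 F51105 (iv1 F25773) D16294 D33738 F104941 (iv5 F108785) (iv1 F108787) (iv5 D69266) (iv6 D32201) (iv1 F51108)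
def n72331 : Q := act 0 n33383
theorem D72331 : act 0 n33383 = n72331 := rfl
def n72332 : Q := act 1 n33383
theorem D72332 : act 1 n33383 = n72332 := rfl
theorem F108789 : act 4 n57079 = n72332 := d20_0 (iv1 D72332) F52625 (iv3 D16157) D16155 D33437 F52724 D70877 F107380 F90018 (iv1 F90130)
def n72333 : Q := act 2 n33383
theorem D72333 : act 2 n33383 = n72333 := rfl
theorem F108790 : act 4 n72333 = n33444 := d1_2 (iv4 F52625) D72333 (iv2 D33444)
def n72334 : Q := act 6 n33383
theorem D72334 : act 6 n33383 = n72334 := rfl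
theorem F108791 : act 3 n72334 = n33385 := d7_1 D72334 (iv6 D33385) D33383
theorem F108792 : act 4 n72334 = n33446 := d10_1 D72334 (iv6 D33446) (iv4 F52625)
def n72335 : Q := act 6 n33384
theorem D72335 : act 6 n33384 = n72335 := rfl
theorem F108793 : act 2 n72335 = n60270 := d3_1 D72335 (iv6 D60270) (iv2 F52626)
def n72336 : Q := act 0 n33385
theorem D72336 : act 0 n33385 = n72336 := rfl
def n72337 : Q := act 1 n33385
theorem D72337 : act 1 n33385 = n72337 := rfl
def n72338 : Q := act 5 n33385
theorem D72338 : act 5 n33385 = n72338 := rfl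
def n72339 : Q := act 7 n33385
theorem D72339 : act 7 n33385 = n72339 := rfl
theorem F108794 : act 4 n72339 = n33389 := d11_1 D72339 (iv7 D33389) (iv4 F52630)
def n72340 : Q := act 2 n33386
theorem D72340 : act 2 n33386 = n72340 := rfl
theorem F108795 : act 7 n33387 = n72340 := d15_2 (iv0 D33386) D33387 (iv2 D72340)
def n72341 : Q := act 3 n33386
theorem D72341 : act 3 n33386 = n72341 := rfl
def n72342 : Q := act 4 n33386
theorem D72342 : act 4 n33386 = n72342 := rfl
def n72343 : Q := act 5 n33386
theorem D72343 : act 5 n33386 = n72343 := rfl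
def n72344 : Q := act 7 n33386
theorem D72344 : act 7 n33386 = n72344 := rfl
theorem F108796 : act 2 n72344 = n33387 := d4_1 D72344 F108795 (iv2 D72340)
def n72345 : Q := act 3 n33387
theorem D72345 : act 3 n33387 = n72345 := rfl
def n72346 : Q := act 4 n33387
theorem D72346 : act 4 n33387 = n72346 := rfl
def n72347 : Q := act 5 n33387
theorem D72347 : act 5 n33387 = n72347 := rfl
def n72348 : Q := act 6 n33387
theorem D72348 : act 6 n33387 = n72348 := rfl
def n72349 : Q := act 0 n33388
theorem D72349 : act 0 n33388 = n72349 := rfl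
theorem F108797 : act 6 n72349 = n69167 := d21_5 (iv5 D29153) (iv1 F53981) D16125 (iv6 F52632) D72349 (iv5 D69167) (iv1 D32169) D32170 (iv6 F54441) F54444
def n72350 : Q := act 1 n33388
theorem D72350 : act 1 n33388 = n72350 := rfl
def n72351 : Q := act 4 n33388
theorem D72351 : act 4 n33388 = n72351 := rfl
theorem F108798 : act 6 n72351 = n33401 := d10_2 (iv6 F52632) D72351 (iv4 D33401)
def n72352 : Q := act 7 n33388
theorem D72352 : act 7 n33388 = n72352 := rfl
theorem F108799 : act 3 n72352 = n33470 := d8_1 D72352 (iv7 D33470) (iv3 F52631)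
theorem F108800 : act 5 n72352 = n33389 := d13_1 D72352 (iv7 D33389) D33388
def n72353 : Q := act 4 n33393
theorem D72353 : act 4 n33393 = n72353 := rfl
theorem F108801 : act 2 n72353 = n61506 := d1_1 D72353 (iv4 D61506) F53973
theorem F108802 : act 0 n72353 = n62799 := d18_2 (iv1 F54451) D72353 (iv4 D62799) (iv5 F54222) (iv4 F55511) F55509 F18804 (iv0 F49992) (iv5 F54450)
theorem F108803 : act 1 n72353 = n62797 := d18_6 (iv1 F54004) (iv4 F22787) D28527 F54064 D33393 D72353 (iv4 D62797) (iv0 D29718) (iv5 D14113)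
def n72354 : Q := act 6 n33393
theorem D72354 : act 6 n33393 = n72354 := rfl
theorem F108804 : act 2 n72354 = n61507 := d3_1 D72354 (iv6 D61507) F53973
def n72355 : Q := act 6 n33400
theorem D72355 : act 6 n33400 = n72355 := rfl
theorem F108805 : act 2 n72355 = n34331 := d3_1 D72355 (iv6 D34331) F52636
theorem F108806 : act 5 n72355 = n68978 := d12_1 D72355 (iv6 D68978) F51020 F45907 (iv5 F52637)
def n72356 : Q := act 3 n33401
theorem D72356 : act 3 n33401 = n72356 := rfl
theorem F108807 : act 4 n72356 = n33497 := d5_2 D33401 D72356 (iv3 D33497) (iv4 D16178) (iv3 F25637)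
theorem F108808 : act 0 n72356 = n62862 := d19_4 (iv1 F53981) D16125 D33401 D72356 (iv5 D62862) (iv4 D29749) (iv3 D14138) (iv1 D6717) (iv5 D3022) (iv4 D1356) (iv3 F2453) D2968 (iv5 F10393) F10392 F9027 F3905 (iv5 F4643) (iv4 F10695) (iv3 F23142)
theorem F108809 : act 5 n61588 = n72356 := d17_1 F97983 F108808 (iv5 D62862) (iv4 D29749) F23617 (iv0 F50879) F54321 F47757 D62794
theorem F108810 : act 5 n33497 = n61480 := d16_3 (iv4 F96139) F108809 F108807 (iv4 D61480) (iv5 D29101) (iv4 F49988) D34308 F54442 (iv2 F54448)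
theorem F108811 : act 3 n61480 = n33498 := d6_1 F108810 (iv5 D33498) D33497
def n72357 : Q := act 5 n33401
theorem D72357 : act 5 n33401 = n72357 := rfl
theorem F108812 : act 3 n72357 = n61588 := d6_1 D72357 F108809 (iv3 D72356)
theorem F108813 : act 0 n72357 = n61589 := d17_2 F98080 D72357 (iv5 D61589) (iv4 D29173) (iv5 D13881) (iv0 F54029) D28511 F50847 D62859
def n72358 : Q := act 6 n33402
theorem D72358 : act 6 n33402 = n72358 := rfl
theorem F108814 : act 2 n72358 = n34322 := d3_1 D72358 (iv6 D34322) (iv2 F52641)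
theorem F108815 : act 3 n72358 = n33500 := d7_1 D72358 (iv6 D33500) (iv3 F52642)
theorem F108816 : act 5 n72358 = n33746 := d12_1 D72358 (iv6 D33746) (iv5 D16299) (iv6 F50789) (iv5 F52643)
def n72359 : Q := act 3 n33403
theorem D72359 : act 3 n33403 = n72359 := rfl
theorem F108817 : act 4 n72359 = n54329 := d5_2 D33403 D72359 (iv3 D54329) F41706 F26951
theorem F108818 : act 7 n72359 = n60198 := d8_2 (iv7 F52647) D72359 (iv3 D60198)
theorem F108819 : act 0 n72359 = n35181 := d20_4 F27186 (iv1 F27184) D33403 D72359 (iv3 D35181) (iv4 D17081) F13757 D8091 F12873 D13653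
def n72360 : Q := act 5 n33403
theorem D72360 : act 5 n33403 = n72360 := rfl
theorem F108820 : act 2 n72360 = n60076 := d2_1 D72360 F94634 (iv2 F52646)
theorem F108821 : act 7 n72360 = n60077 := d13_2 (iv7 F52647) D72360 F94638
theorem F108822 : act 4 n72360 = n33449 := d16_2 D33403 D72360 F52739 (iv4 F52658) (iv5 D33405) (iv4 D16130) D16131 F25664 (iv2 F25646)
theorem F108823 : act 0 n72360 = n57667 := d17_2 (iv1 F52649) D72360 F90849 F46113 F22793 (iv0 F37247) (iv5 F10560) F22803 D28602
theorem F108824 : act 1 n72360 = n57665 := d17_6 (iv1 D16136) (iv5 D7535) D7532 D16128 D33403 D72360 F90845 (iv0 F52681) (iv4 D33413)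
def n72361 : Q := act 6 n33403
theorem D72361 : act 6 n33403 = n72361 := rfl
theorem F108825 : act 2 n72361 = n60197 := d3_1 D72361 (iv6 D60197) (iv2 F52646)
theorem F108826 : act 4 n72361 = n33404 := d10_1 D72361 (iv6 D33404) D33403
def n72362 : Q := act 0 n33404
theorem D72362 : act 0 n33404 = n72362 := rfl
def n72363 : Q := act 1 n33404
theorem D72363 : act 1 n33404 = n72363 := rfl
def n72364 : Q := act 7 n33404
theorem D72364 : act 7 n33404 = n72364 := rfl
theorem F108828 : act 2 n72364 = n71806 := d4_1 D72364 (iv7 D71806) (iv2 F52650)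
theorem F108829 : act 3 n72364 = n56002 := d8_1 D72364 (iv7 D56002) (iv3 F52651)
theorem F108830 : act 5 n72364 = n71249 := d13_1 D72364 (iv7 D71249) (iv5 F52652)
theorem F108831 : act 6 n72364 = n72327 := d14_1 D72364 (iv7 D72327) (iv6 D33381) (iv7 F25647) D33404
theorem F108833 : act 1 n71805 = n72364 := d15_1 D71805 (iv7 D72364) F52650
theorem F108834 : act 1 n72364 = n71804 := d15_0 (iv0 D71804) D71806 (iv2 F108828)
def n72365 : Q := act 6 n33405
theorem D72365 : act 6 n33405 = n72365 := rfl
theorem F108835 : act 2 n72365 = n54325 := d3_1 D72365 (iv6 D54325) (iv2 F52653)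
theorem F108836 : act 3 n72365 = n60112 := d7_1 D72365 (iv6 D60112) (iv3 F52654)
theorem F108837 : act 4 n72365 = n33595 := d10_1 D72365 (iv6 D33595) (iv4 F52658)
def n72366 : Q := act 3 n33406
theorem D72366 : act 3 n33406 = n72366 := rfl
theorem F108838 : act 4 n72366 = n54551 := d5_2 D33406 D72366 (iv3 D54551) (iv4 D26381) (iv3 F25663)
theorem F108839 : act 7 n72366 = n60196 := d8_2 (iv7 F52661) D72366 (iv3 D60196)
def n72367 : Q := act 5 n33406
theorem D72367 : act 5 n33406 = n72367 := rfl
theorem F108840 : act 2 n72367 = n60077 := d2_1 D72367 F94638 (iv2 F52660)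
theorem F108841 : act 4 n72367 = n33448 := d9_1 D72367 F52736 (iv4 F25797) F25798 (iv4 F11770) D16128 D33403 D72360 F108822 F52739 (iv4 F52658) (iv5 D33405) (iv4 D16130) D16131 D33406
theorem F108842 : act 7 n72367 = n60076 := d13_2 (iv7 F52661) D72367 F94634
theorem F108843 : act 0 n72367 = n57665 := d17_2 (iv1 F52663) D72367 F90845 (iv4 D28507) (iv5 D13593) (iv0 F37245) D6487 D13640 D28604
theorem F108844 : act 1 n72367 = n57667 := d17_6 F26836 (iv5 D7554) (iv1 F11771) D16131 D33406 D72367 F90849 (iv0 F51789) (iv4 D32721)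
def n72368 : Q := act 6 n33406
theorem D72368 : act 6 n33406 = n72368 := rfl
theorem F108845 : act 2 n72368 = n60199 := d3_1 D72368 (iv6 D60199) (iv2 F52660)
theorem F108846 : act 4 n72368 = n33407 := d10_1 D72368 (iv6 D33407) D33406
def n72369 : Q := act 0 n33407
theorem D72369 : act 0 n33407 = n72369 := rfl
def n72370 : Q := act 1 n33407
theorem D72370 : act 1 n33407 = n72370 := rfl
theorem F108847 : act 1 n72370 = n72327 := d15_1 D72370 (iv7 D72327) (iv2 F52664)
def n72371 : Q := act 7 n33407
theorem D72371 : act 7 n33407 = n72371 := rfl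
theorem F108848 : act 2 n72371 = n72327 := d4_1 D72371 (iv7 D72327) (iv2 F52664)
theorem F108849 : act 3 n72371 = n54556 := d8_1 D72371 (iv7 D54556) (iv3 F52665)
theorem F108850 : act 6 n72371 = n71806 := d14_1 D72371 (iv7 D71806) (iv6 D33189) (iv7 F25664) D33407
theorem F108851 : act 1 n72327 = n72369 := d15_0 (iv0 D72369) D72371 F108848
theorem F108852 : act 1 n72326 = n72371 := d15_1 D72326 (iv7 D72371) F52664
def n72372 : Q := act 0 n33408
theorem D72372 : act 0 n33408 = n72372 := rfl
def n72373 : Q := act 1 n33408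
theorem D72373 : act 1 n33408 = n72373 := rfl
theorem F108854 : act 1 n72373 = n72300 := d15_1 D72373 (iv7 D72300) (iv2 F52666)
def n72374 : Q := act 5 n33408
theorem D72374 : act 5 n33408 = n72374 := rfl
theorem F108855 : act 2 n72374 = n72299 := d2_1 D72374 (iv5 D72299) (iv2 F52666)
theorem F108856 : act 3 n72374 = n33419 := d6_1 D72374 (iv5 D33419) (iv3 F52667)
theorem F108857 : act 6 n72374 = n33411 := d12_2 D33408 D72374 (iv5 D33411) (iv6 D16134) D16133
def n72375 : Q := act 7 n33408
theorem D72375 : act 7 n33408 = n72375 := rfl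
theorem F108858 : act 2 n72375 = n72300 := d4_1 D72375 (iv7 D72300) (iv2 F52666)
theorem F108859 : act 3 n72375 = n33420 := d8_1 D72375 (iv7 D33420) (iv3 F52667)
theorem F108860 : act 1 n72300 = n72372 := d15_0 (iv0 D72372) D72375 F108858
theorem F108861 : act 1 n72298 = n72375 := d15_1 D72298 (iv7 D72375) F52666
theorem F108862 : act 1 n72375 = n72297 := d15_0 (iv0 D72297) D72300 (iv2 F108858)
def n72376 : Q := act 3 n33413
theorem D72376 : act 3 n33413 = n72376 := rfl
theorem F108863 : act 4 n72376 = n35969 := d5_2 D33413 D72376 (iv3 D35969) (iv4 D17414) F26840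
theorem F108864 : act 7 n72376 = n60067 := d8_2 (iv7 F52680) D72376 (iv3 D60067)
def n72377 : Q := act 6 n33413
theorem D72377 : act 6 n33413 = n72377 := rfl
theorem F108865 : act 2 n72377 = n60072 := d3_1 D72377 (iv6 D60072) (iv2 F52679)
theorem F108866 : act 4 n72377 = n33414 := d10_1 D72377 (iv6 D33414) D33413
def n72378 : Q := act 0 n33414
theorem D72378 : act 0 n33414 = n72378 := rfl
def n72379 : Q := act 7 n33414
theorem D72379 : act 7 n33414 = n72379 := rfl
theorem F108867 : act 2 n72379 = n72330 := d4_1 D72379 (iv7 D72330) (iv2 F52683)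
theorem F108868 : act 3 n72379 = n35975 := d8_1 D72379 (iv7 D35975) (iv3 F52684)
theorem F108869 : act 5 n72379 = n68990 := d13_1 D72379 (iv7 D68990) (iv5 F52685)
theorem F108870 : act 6 n72379 = n71978 := d14_1 D72379 (iv7 D71978) (iv6 D33252) F26862 D33414
theorem F108871 : act 1 n72330 = n72378 := d15_0 (iv0 D72378) D72379 F108867
theorem F108872 : act 1 n72329 = n72379 := d15_1 D72329 (iv7 D72379) F52683
theorem F108873 : act 1 n72379 = n72328 := d15_0 (iv0 D72328) D72330 (iv2 F108867)
def n72380 : Q := act 0 n33415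
theorem D72380 : act 0 n33415 = n72380 := rfl
theorem F108874 : act 5 n72380 = n68902 := d17_1 D72380 (iv1 F106740) F108410 F94803 F62305 F35234 (iv5 F44096) F62311 (iv4 F62313)
theorem F108875 : act 0 n35054 = n60269 := d17_0 F94822 D72380 F108874 (iv4 D68902) (iv5 F50671) F41854 D26854 (iv0 F43280) D35054
theorem F108876 : act 4 n72380 = n46669 := d18_3 D41073 (iv4 F62313) D72380 (iv5 D46669) (iv4 F51670) F68209 (iv4 D41066) (iv0 D19329) D19333
theorem F108877 : act 3 n72380 = n37823 := d19_3 (iv1 F65391) D46669 (iv4 F108876) (iv1 D37823) (iv5 F52455) (iv4 D33217) (iv3 F52446) F67758 (iv5 D43239) (iv4 F32636) F32635 (iv1 D15637) D15639 D32735 (iv3 F70286) (iv1 F71664) F71662 F36249 (iv3 F65387)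
def n72381 : Q := act 2 n33415
theorem D72381 : act 2 n33415 = n72381 := rfl
theorem F108878 : act 3 n72381 = n72333 := d0_2 D33415 D72381 (iv2 D72333) (iv3 D33383) (iv2 F25676)
theorem F108879 : act 4 n72381 = n37566 := d1_2 (iv4 F62313) D72381 (iv2 F62315)
def n72382 : Q := act 6 n33415
theorem D72382 : act 6 n33415 = n72382 := rfl
theorem F108880 : act 3 n72382 = n33416 := d7_1 D72382 (iv6 D33416) D33415
def n72383 : Q := act 0 n33416
theorem D72383 : act 0 n33416 = n72383 := rfl
def n72384 : Q := act 1 n33416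
theorem D72384 : act 1 n33416 = n72384 := rfl
theorem F108881 : act 1 n72384 = n72339 := d15_1 D72384 (iv7 D72339) (iv2 F52686)
def n72385 : Q := act 5 n33416
theorem D72385 : act 5 n33416 = n72385 := rfl
theorem F108882 : act 2 n72385 = n72338 := d2_1 D72385 (iv5 D72338) (iv2 F52686)
def n72386 : Q := act 7 n33416
theorem D72386 : act 7 n33416 = n72386 := rfl
theorem F108883 : act 2 n72386 = n72339 := d4_1 D72386 (iv7 D72339) (iv2 F52686)
theorem F108884 : act 4 n72386 = n33420 := d11_1 D72386 (iv7 D33420) (iv4 F52687)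
theorem F108886 : act 1 n72337 = n72386 := d15_1 D72337 (iv7 D72386) F52686
theorem F108887 : act 1 n72386 = n72336 := d15_0 (iv0 D72336) D72339 (iv2 F108883)
def n72387 : Q := act 2 n33417
theorem D72387 : act 2 n33417 = n72387 := rfl
theorem F108888 : act 7 n33418 = n72387 := d15_2 (iv0 D33417) D33418 (iv2 D72387)
def n72388 : Q := act 3 n33417
theorem D72388 : act 3 n33417 = n72388 := rfl
def n72389 : Q := act 4 n33417
theorem D72389 : act 4 n33417 = n72389 := rfl
def n72390 : Q := act 5 n33417
theorem D72390 : act 5 n33417 = n72390 := rfl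
def n72391 : Q := act 7 n33417
theorem D72391 : act 7 n33417 = n72391 := rfl
def n72392 : Q := act 3 n33418
theorem D72392 : act 3 n33418 = n72392 := rfl
def n72393 : Q := act 4 n33418
theorem D72393 : act 4 n33418 = n72393 := rfl
def n72394 : Q := act 5 n33418
theorem D72394 : act 5 n33418 = n72394 := rfl
def n72395 : Q := act 6 n33418
theorem D72395 : act 6 n33418 = n72395 := rfl
def n72396 : Q := act 0 n33419
theorem D72396 : act 0 n33419 = n72396 := rfl
def n72397 : Q := act 1 n33419
theorem D72397 : act 1 n33419 = n72397 := rfl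
theorem F108890 : act 1 n72397 = n72352 := d15_1 D72397 (iv7 D72352) (iv2 F52689)
def n72398 : Q := act 4 n33419
theorem D72398 : act 4 n33419 = n72398 := rfl
theorem F108891 : act 2 n72398 = n72351 := d1_1 D72398 (iv4 D72351) (iv2 F52689)
theorem F108892 : act 6 n72398 = n33429 := d10_2 (iv6 F52690) D72398 (iv4 D33429)
def n72399 : Q := act 7 n33419
theorem D72399 : act 7 n33419 = n72399 := rfl
theorem F108893 : act 2 n72399 = n72352 := d4_1 D72399 (iv7 D72352) (iv2 F52689)
theorem F108894 : act 5 n72399 = n33420 := d13_1 D72399 (iv7 D33420) D33419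
theorem F108895 : act 1 n72352 = n72396 := d15_0 (iv0 D72396) D72399 F108893
theorem F108896 : act 1 n72350 = n72399 := d15_1 D72350 (iv7 D72399) F52689
theorem F108897 : act 1 n72399 = n72349 := d15_0 (iv0 D72349) D72352 (iv2 F108893)
def n72400 : Q := act 6 n33420
theorem D72400 : act 6 n33420 = n72400 := rfl
theorem F108898 : act 2 n72400 = n33524 := d3_1 D72400 F52844 (iv2 F52691)
theorem F108899 : act 7 n72400 = n33421 := d14_2 D33420 D72400 (iv6 D33421) (iv7 D16139) D16138
theorem F108900 : act 1 n33522 = n72400 := d15_1 D33522 F108899 F52695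
theorem F108901 : act 1 n72400 = n33521 := d15_0 (iv0 D33521) D33524 (iv2 F108898)
def n72401 : Q := act 0 n33421
theorem D72401 : act 0 n33421 = n72401 := rfl
theorem F108902 : act 1 n33524 = n72401 := d15_0 (iv0 D72401) (iv7 F108899) F108898
def n72402 : Q := act 1 n33421
theorem D72402 : act 1 n33421 = n72402 := rfl
theorem F108903 : act 1 n72402 = n33524 := d15_1 D72402 (iv7 D33524) (iv2 F52695)
def n72403 : Q := act 4 n33428
theorem D72403 : act 4 n33428 = n72403 := rfl
theorem F108904 : act 2 n72403 = n61570 := d1_1 D72403 (iv4 D61570) F53996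
theorem F108905 : act 7 n72403 = n72353 := d11_2 (iv7 F52775) D72403 (iv4 D72353)
theorem F108906 : act 0 n72403 = n61585 := d18_2 (iv1 F52781) D72403 (iv4 D61585) (iv5 F54321) (iv4 D24393) F38240 F38238 (iv0 D16608) D16610
theorem F108907 : act 1 n72403 = n61583 := d18_6 (iv1 F54033) (iv4 F46099) F54052 F53977 D33428 D72403 (iv4 D61583) (iv0 D29171) (iv5 D13881)
def n72404 : Q := act 6 n33428
theorem D72404 : act 6 n33428 = n72404 := rfl
theorem F108908 : act 2 n72404 = n61568 := d3_1 D72404 F96118 F53996
theorem F108909 : act 3 n72404 = n54591 := d7_1 D72404 (iv6 D54591) (iv3 F54366)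
theorem F108910 : act 5 n72404 = n61556 := d12_1 D72404 (iv6 D61556) (iv5 D29147) F53979 D33428
def n72405 : Q := act 3 n33429
theorem D72405 : act 3 n33429 = n72405 := rfl
def n72406 : Q := act 5 n33429
theorem D72406 : act 5 n33429 = n72406 := rfl
theorem F108911 : act 2 n72406 = n72357 := d2_1 D72406 (iv5 D72357) (iv2 F52709)
theorem F108912 : act 1 n72406 = n62801 := d17_6 (iv1 F52781) (iv5 D33428) (iv1 D16141) D16142 D33429 D72406 (iv5 D62801) (iv0 F54445) (iv4 D34309)
def n72407 : Q := act 5 n33430
theorem D72407 : act 5 n33430 = n72407 := rfl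
theorem F108913 : act 2 n72407 = n55453 := d2_1 D72407 F87752 F55798
theorem F108914 : act 3 n72407 = n33431 := d6_1 D72407 (iv5 D33431) D33430
theorem F108915 : act 0 n57277 = n72407 := d19_0 (iv5 D72407) (iv4 F86729) (iv3 D54811) F42444 (iv5 F42578) (iv4 F51762) (iv3 D32688) (iv1 D15570) (iv5 F26497) F24986 (iv3 F26502) F46889 (iv5 D29233) (iv4 F46880) (iv3 F46893) F68240 (iv5 F106725) F106727 (iv3 F106731)
theorem F108916 : act 1 n41704 = n38191 := d17_6 D27429 D57277 F108915 (iv5 D72407) (iv4 F86729) F86730 (iv5 D38191) (iv0 D18252) (iv4 F21907)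
theorem F108917 : act 1 n38191 = n34485 := d15_1 F108916 F54716 D41704
theorem F108918 : act 4 n38191 = n56277 := d20_0 (iv1 F89015) (iv4 F86221) (iv3 D54557) F42115 F29428 F29424 F17152 (iv4 F27462) (iv3 F54715) (iv1 F108917)
def n72408 : Q := act 6 n33430
theorem D72408 : act 6 n33430 = n72408 := rfl
theorem F108919 : act 3 n72408 = n33432 := d7_1 D72408 (iv6 D33432) D33430
def n72409 : Q := act 6 n33431
theorem D72409 : act 6 n33431 = n72409 := rfl
theorem F108920 : act 2 n72409 = n34368 := d3_1 D72409 (iv6 D34368) (iv2 F52711)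
theorem F108921 : act 4 n72409 = n69764 := d10_1 D72409 (iv6 D69764) (iv4 F52712)
def n72410 : Q := act 0 n33432
theorem D72410 : act 0 n33432 = n72410 := rfl
def n72411 : Q := act 1 n33432
theorem D72411 : act 1 n33432 = n72411 := rfl
theorem F108922 : act 1 n72411 = n34372 := d15_1 D72411 (iv7 D34372) (iv2 F52715)
def n72412 : Q := act 5 n33432
theorem D72412 : act 5 n33432 = n72412 := rfl
theorem F108923 : act 2 n72412 = n34371 := d2_1 D72412 (iv5 D34371) (iv2 F52715)
def n72413 : Q := act 7 n33432
theorem D72413 : act 7 n33432 = n72413 := rfl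
theorem F108924 : act 2 n72413 = n34372 := d4_1 D72413 (iv7 D34372) (iv2 F52715)
theorem F108925 : act 4 n72413 = n33436 := d11_1 D72413 (iv7 D33436) (iv4 F52716)
theorem F108926 : act 1 n34372 = n72410 := d15_0 (iv0 D72410) D72413 F108924
theorem F108927 : act 1 n34370 = n72413 := d15_1 D34370 (iv7 D72413) F52715
theorem F108928 : act 4 n69826 = n72410 := d20_6 F42953 (iv1 D8330) (iv4 F11566) (iv3 F24899) D32426 D69826 (iv1 F108926) F54542 F27293 (iv1 F21229)
theorem F108929 : act 1 n72413 = n34369 := d15_0 (iv0 D34369) D34372 (iv2 F108924)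
def n72414 : Q := act 2 n33433
theorem D72414 : act 2 n33433 = n72414 := rfl
def n72415 : Q := act 3 n33433
theorem D72415 : act 3 n33433 = n72415 := rfl
def n72416 : Q := act 4 n33433
theorem D72416 : act 4 n33433 = n72416 := rfl
def n72417 : Q := act 5 n33433
theorem D72417 : act 5 n33433 = n72417 := rfl
def n72418 : Q := act 7 n33433
theorem D72418 : act 7 n33433 = n72418 := rfl
def n72419 : Q := act 3 n33434
theorem D72419 : act 3 n33434 = n72419 := rfl
theorem F108932 : act 4 n72419 = n70727 := d20_6 F38268 (iv1 F12761) F12758 (iv3 F27293) (iv1 F52717) D72419 (iv1 D70727) F51909 F25182 D15698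
def n72420 : Q := act 4 n33434
theorem D72420 : act 4 n33434 = n72420 := rfl
def n72421 : Q := act 5 n33434
theorem D72421 : act 5 n33434 = n72421 := rfl
def n72422 : Q := act 6 n33434
theorem D72422 : act 6 n33434 = n72422 := rfl
def n72423 : Q := act 0 n33435
theorem D72423 : act 0 n33435 = n72423 := rfl
def n72424 : Q := act 4 n33435
theorem D72424 : act 4 n33435 = n72424 := rfl
theorem F108933 : act 2 n72424 = n34326 := d1_1 D72424 F54481 (iv2 F52718)
theorem F108934 : act 6 n72424 = n34319 := d10_2 (iv6 F52719) D72424 (iv4 D34319)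
def n72425 : Q := act 7 n33435
theorem D72425 : act 7 n33435 = n72425 := rfl
theorem F108935 : act 2 n72425 = n34330 := d4_1 D72425 (iv7 D34330) (iv2 F52718)
theorem F108936 : act 5 n72425 = n33436 := d13_1 D72425 (iv7 D33436) D33435
theorem F108937 : act 1 n34330 = n72423 := d15_0 (iv0 D72423) D72425 F108935
theorem F108938 : act 1 n34329 = n72425 := d15_1 D34329 (iv7 D72425) F52718
theorem F108939 : act 1 n72425 = n34328 := d15_0 (iv0 D34328) D34330 (iv2 F108935)
def n72426 : Q := act 0 n33437
theorem D72426 : act 0 n33437 = n72426 := rfl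
def n72427 : Q := act 1 n33437
theorem D72427 : act 1 n33437 = n72427 := rfl
def n72428 : Q := act 5 n33437
theorem D72428 : act 5 n33437 = n72428 := rfl
theorem F108940 : act 3 n72428 = n33438 := d6_1 D72428 (iv5 D33438) D33437
def n72429 : Q := act 6 n33437
theorem D72429 : act 6 n33437 = n72429 := rfl
theorem F108941 : act 3 n72429 = n33439 := d7_1 D72429 (iv6 D33439) D33437
theorem F108942 : act 4 n72429 = n70879 := d10_1 D72429 (iv6 D70879) (iv4 F52724)
def n72430 : Q := act 6 n33438
theorem D72430 : act 6 n33438 = n72430 := rfl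
def n72431 : Q := act 0 n33439
theorem D72431 : act 0 n33439 = n72431 := rfl
def n72432 : Q := act 1 n33439
theorem D72432 : act 1 n33439 = n72432 := rfl
def n72433 : Q := act 5 n33439
theorem D72433 : act 5 n33439 = n72433 := rfl
def n72434 : Q := act 7 n33439
theorem D72434 : act 7 n33439 = n72434 := rfl
theorem F108943 : act 4 n72434 = n70876 := d11_1 D72434 (iv7 D70876) (iv4 F52727)
def n72435 : Q := act 6 n33440
theorem D72435 : act 6 n33440 = n72435 := rfl
def n72436 : Q := act 0 n33441
theorem D72436 : act 0 n33441 = n72436 := rfl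
def n72437 : Q := act 1 n33441
theorem D72437 : act 1 n33441 = n72437 := rfl
def n72438 : Q := act 5 n33441
theorem D72438 : act 5 n33441 = n72438 := rfl
def n72439 : Q := act 7 n33441
theorem D72439 : act 7 n33441 = n72439 := rfl
def n72440 : Q := act 0 n33442
theorem D72440 : act 0 n33442 = n72440 := rfl
theorem F108944 : act 2 n33447 = n72440 := d15_3 (iv0 D72440) (iv0 D33442) D33447
theorem F108945 : act 1 n33443 = n72440 := d15_0 (iv0 D72440) (iv7 F90058) F90061
theorem F108946 : act 7 n72440 = n33444 := d15_2 D33443 F108945 (iv2 D33444)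
theorem F108947 : act 3 n33528 = n72440 := d8_3 F108946 (iv3 F74078) F74077
theorem F108948 : act 5 n52683 = n72440 := d16_7 (iv4 F52625) F83444 (iv4 D52810) (iv5 D25633) D25632 D52809 F83440 F108946 (iv2 D33444)
def n72441 : Q := act 2 n33442
theorem D72441 : act 2 n33442 = n72441 := rfl
theorem F108949 : act 5 n72441 = n52730 := d2_2 (iv5 F52730) D72441 F83316
theorem F108950 : act 7 n72441 = n33443 := d4_2 F90058 D72441 (iv2 F90061)
theorem F108951 : act 1 n72441 = n33444 := d15_0 F90060 F90058 D72441
theorem F108952 : act 4 n72441 = n71918 := d16_0 (iv5 D71918) F52462 (iv5 D23766) F18067 D23762 D48721 (iv5 F90057) F90058 D72441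
theorem F108953 : act 1 n33447 = n72441 := d18_6 F108358 (iv4 D34862) D34860 (iv4 F94824) F94825 F52838 F108952 F108430 (iv5 F108357)
def n72442 : Q := act 4 n33442
theorem D72442 : act 4 n33442 = n72442 := rfl
theorem F108954 : act 2 n72442 = n71918 := d1_1 D72442 (iv4 F108952) (iv2 D72441)
theorem F108955 : act 5 n72442 = n71385 := d16_3 D25603 (iv5 F52730) D72442 (iv4 D71385) (iv5 D33028) (iv4 F37029) D48720 F76708 F40503
theorem F108956 : act 0 n72442 = n35197 := d18_2 D33442 D72442 F55944 F83250 (iv4 D52678) (iv0 D25571) D25573 (iv0 F52733) (iv5 D33445)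
def n72443 : Q := act 6 n33442
theorem D72443 : act 6 n33442 = n72443 := rfl
theorem F108957 : act 3 n72443 = n71458 := d7_1 D72443 (iv6 D71458) F52731
def n72444 : Q := act 3 n33443
theorem D72444 : act 3 n33443 = n72444 := rfl
theorem F108958 : act 2 n72444 = n71558 := d0_1 D72444 (iv3 D71558) F52321 D56979 F90061
theorem F108959 : act 4 n72444 = n71848 := d5_2 F83483 D72444 F108306 (iv4 F83304) (iv3 F83481)
def n72445 : Q := act 5 n33443
theorem D72445 : act 5 n33443 = n72445 := rfl
theorem F108960 : act 2 n72445 = n48721 := d2_1 D72445 (iv5 F90057) F90061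
theorem F108961 : act 4 n72445 = n48720 := d9_1 D72445 (iv5 D48720) F37029 D33028 D71385 (iv5 F108955) (iv4 D72442) F52730 (iv4 D25603) (iv5 D12173) (iv4 F8898) D12188 D25644 D52832 F83483
theorem F108962 : act 7 n72445 = n52730 := d13_2 F108950 D72445 (iv5 F108949)
theorem F108963 : act 1 n72445 = n52738 := d17_6 (iv1 D57612) (iv5 F83480) (iv1 D52831) D52832 F83483 D72445 F87746 F90545 (iv4 F90756)
theorem F108965 : act 1 n52739 = n72445 := d15_1 D52739 F108962 F83316
def n72446 : Q := act 6 n33443
theorem D72446 : act 6 n33443 = n72446 := rfl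
def n72447 : Q := act 5 n33444
theorem D72447 : act 5 n33444 = n72447 := rfl
theorem F108966 : act 2 n72447 = n33445 := d2_1 D72447 (iv5 D33445) D33444
theorem F108967 : act 7 n72447 = n52683 := d13_2 F108946 D72447 F108948
theorem F108968 : act 1 n72447 = n48714 := d17_8 D48712 F76675 (iv1 F37020) D25599 D52730 (iv5 F108949) F108951 D72447 (iv4 D48714)
theorem F108969 : act 1 n52675 = n72447 := d15_0 F108968 F76688 (iv2 F83240)
def n72448 : Q := act 6 n33444
theorem D72448 : act 6 n33444 = n72448 := rfl
theorem F108970 : act 2 n72448 = n33446 := d3_1 D72448 (iv6 D33446) D33444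
def n72449 : Q := act 1 n33445
theorem D72449 : act 1 n33445 = n72449 := rfl
theorem F108971 : act 1 n72449 = n52683 := d15_1 D72449 (iv7 F108967) F108966
theorem F108972 : act 7 n72449 = n52675 := d15_2 (iv0 F52733) D72449 F83240
theorem F108973 : act 4 n72449 = n43276 := d17_9 (iv1 F67865) F76672 (iv1 D12171) D12173 D25603 (iv5 F52730) (iv0 D33442) D33445 D72449
theorem F108974 : act 5 n72449 = n33597 := d18_9 (iv1 D33597) (iv4 F52877) (iv1 F94813) (iv4 D57601) D57602 F90745 (iv0 F83453) F83451 D72449
theorem F108975 : act 2 n48714 = n72449 := d2_3 F108974 (iv2 F90546) F90542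
theorem F108976 : act 6 n72449 = n43285 := d3_2 (iv6 F76687) F108975 F67884
def n72450 : Q := act 6 n33445
theorem D72450 : act 6 n33445 = n72450 := rfl
theorem F108977 : act 3 n72450 = n33450 := d7_1 D72450 (iv6 D33450) (iv3 F52732)
def n72451 : Q := act 7 n33445
theorem D72451 : act 7 n33445 = n72451 := rfl
theorem F108978 : act 2 n72451 = n52683 := d4_1 D72451 (iv7 F108967) F108966
theorem F108979 : act 3 n72451 = n33451 := d8_1 D72451 (iv7 D33451) (iv3 F52732)
theorem F108980 : act 4 n72451 = n52808 := d11_1 D72451 (iv7 F83450) F83451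
theorem F108981 : act 5 n72451 = n33447 := d13_1 D72451 (iv7 D33447) D33445
theorem F108982 : act 1 n48714 = n72451 := d15_1 F108968 (iv7 D72451) (iv2 F108966)
theorem F108983 : act 1 n72451 = n52675 := d15_1 F108982 (iv7 F108972) (iv2 F108975)
def n72453 : Q := act 1 n33446
theorem D72453 : act 1 n33446 = n72453 := rfl
def n72454 : Q := act 5 n33446
theorem D72454 : act 5 n33446 = n72454 := rfl
def n72455 : Q := act 7 n33446
theorem D72455 : act 7 n33446 = n72455 := rfl
theorem F108985 : act 3 n72455 = n33455 := d8_1 D72455 (iv7 D33455) (iv3 F52734)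
def n72456 : Q := act 6 n33447
theorem D72456 : act 6 n33447 = n72456 := rfl
theorem F108986 : act 3 n72456 = n33456 := d7_1 D72456 (iv6 D33456) (iv3 F52735)
def n72457 : Q := act 3 n33448
theorem D72457 : act 3 n33448 = n72457 := rfl
theorem F108987 : act 5 n72457 = n33593 := d6_2 (iv5 F52736) D72457 (iv3 D33593)
def n72458 : Q := act 6 n33448
theorem D72458 : act 6 n33448 = n72458 := rfl
def n72459 : Q := act 6 n33449
theorem D72459 : act 6 n33449 = n72459 := rfl
def n72460 : Q := act 0 n33450
theorem D72460 : act 0 n33450 = n72460 := rfl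
def n72461 : Q := act 1 n33450
theorem D72461 : act 1 n33450 = n72461 := rfl
def n72462 : Q := act 5 n33450
theorem D72462 : act 5 n33450 = n72462 := rfl
theorem F108988 : act 6 n72462 = n33454 := d12_2 D33450 D72462 (iv5 D33454) (iv6 D16159) D16158
def n72463 : Q := act 7 n33450
theorem D72463 : act 7 n33450 = n72463 := rfl
def n72464 : Q := act 6 n33451
theorem D72464 : act 6 n33451 = n72464 := rfl
theorem F108989 : act 2 n72464 = n33531 := d3_1 D72464 (iv6 D33531) (iv2 F52740)
theorem F108990 : act 4 n72464 = n72335 := d10_1 D72464 (iv6 D72335) (iv4 F52741)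
def n72465 : Q := act 2 n33452
theorem D72465 : act 2 n33452 = n72465 := rfl
theorem F108991 : act 7 n33453 = n72465 := d15_2 (iv0 D33452) D33453 (iv2 D72465)
def n72466 : Q := act 3 n33452
theorem D72466 : act 3 n33452 = n72466 := rfl
def n72467 : Q := act 4 n33452
theorem D72467 : act 4 n33452 = n72467 := rfl
def n72468 : Q := act 5 n33452
theorem D72468 : act 5 n33452 = n72468 := rfl
def n72469 : Q := act 6 n33452
theorem D72469 : act 6 n33452 = n72469 := rfl
def n72470 : Q := act 7 n33452
theorem D72470 : act 7 n33452 = n72470 := rfl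
theorem F108992 : act 2 n72470 = n33453 := d4_1 D72470 F108991 (iv2 D72465)
def n72471 : Q := act 3 n33453
theorem D72471 : act 3 n33453 = n72471 := rfl
def n72472 : Q := act 4 n33453
theorem D72472 : act 4 n33453 = n72472 := rfl
def n72474 : Q := act 6 n33453
theorem D72474 : act 6 n33453 = n72474 := rfl
def n72475 : Q := act 0 n33454
theorem D72475 : act 0 n33454 = n72475 := rfl
def n72476 : Q := act 1 n33454
theorem D72476 : act 1 n33454 = n72476 := rfl
def n72478 : Q := act 7 n33454
theorem D72478 : act 7 n33454 = n72478 := rfl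
theorem F108993 : act 5 n72478 = n33455 := d13_1 D72478 (iv7 D33455) D33454
def n72479 : Q := act 6 n33455
theorem D72479 : act 6 n33455 = n72479 := rfl
theorem F108994 : act 2 n72479 = n33535 := d3_1 D72479 (iv6 F108758) F108756
theorem F108995 : act 4 n72479 = n33471 := d10_1 D72479 (iv6 D33471) (iv4 F52743)
theorem F108996 : act 7 n72479 = n33456 := d14_2 D33455 D72479 (iv6 D33456) (iv7 D16160) D16159
theorem F108997 : act 1 n33533 = n72479 := d15_1 D33533 F108996 F52744
theorem F108998 : act 1 n72479 = n33532 := d15_0 (iv0 D33532) D33535 (iv2 F108994)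
def n72480 : Q := act 0 n33456
theorem D72480 : act 0 n33456 = n72480 := rfl
theorem F108999 : act 1 n33535 = n72480 := d15_0 (iv0 D72480) (iv7 F108996) F108994
def n72481 : Q := act 1 n33456
theorem D72481 : act 1 n33456 = n72481 := rfl
theorem F109000 : act 1 n72481 = n33535 := d15_1 D72481 (iv7 D33535) (iv2 F52744)
def n72482 : Q := act 5 n33456
theorem D72482 : act 5 n33456 = n72482 := rfl
theorem F109001 : act 2 n72482 = n33534 := d2_1 D72482 (iv5 D33534) (iv2 F52744)
def n72484 : Q := act 1 n33457
theorem D72484 : act 1 n33457 = n72484 := rfl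
theorem F109003 : act 1 n72484 = n33462 := d15_1 D72484 (iv7 D33462) D33457
def n72486 : Q := act 4 n33457
theorem D72486 : act 4 n33457 = n72486 := rfl
theorem F109005 : act 2 n72486 = n33459 := d1_1 D72486 (iv4 D33459) D33457
theorem F109006 : act 7 n72486 = n33464 := d11_2 F52746 D72486 (iv4 D33464)
def n72487 : Q := act 5 n33457
theorem D72487 : act 5 n33457 = n72487 := rfl
theorem F109007 : act 2 n72487 = n33460 := d2_1 D72487 (iv5 D33460) D33457
theorem F109008 : act 7 n72487 = n33465 := d13_2 F52746 D72487 (iv5 D33465)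
def n72488 : Q := act 6 n33457
theorem D72488 : act 6 n33457 = n72488 := rfl
theorem F109009 : act 2 n72488 = n33461 := d3_1 D72488 (iv6 D33461) D33457
def n72494 : Q := act 6 n33458
theorem D72494 : act 6 n33458 = n72494 := rfl
theorem F109011 : act 3 n72494 = n33461 := d7_1 D72494 (iv6 D33461) D33458
def n72495 : Q := act 7 n33458
theorem D72495 : act 7 n33458 = n72495 := rfl
theorem F109012 : act 3 n72495 = n33462 := d8_1 D72495 (iv7 D33462) D33458
def n72497 : Q := act 1 n33459
theorem D72497 : act 1 n33459 = n72497 := rfl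
theorem F109013 : act 1 n72497 = n33464 := d15_1 D72497 (iv7 F109006) F109005
def n72499 : Q := act 5 n33459
theorem D72499 : act 5 n33459 = n72499 := rfl
def n72500 : Q := act 6 n33459
theorem D72500 : act 6 n33459 = n72500 := rfl
theorem F109014 : act 4 n72500 = n33461 := d10_1 D72500 (iv6 D33461) D33459
def n72501 : Q := act 7 n33459
theorem D72501 : act 7 n33459 = n72501 := rfl
theorem F109016 : act 4 n72501 = n33462 := d11_1 D72501 (iv7 D33462) D33459
def n72502 : Q := act 1 n33460
theorem D72502 : act 1 n33460 = n72502 := rfl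
theorem F109018 : act 1 n72502 = n33465 := d15_1 D72502 (iv7 F109008) F109007
def n72503 : Q := act 4 n33460
theorem D72503 : act 4 n33460 = n72503 := rfl
def n72504 : Q := act 6 n33460
theorem D72504 : act 6 n33460 = n72504 := rfl
def n72505 : Q := act 7 n33460
theorem D72505 : act 7 n33460 = n72505 := rfl
theorem F109019 : act 2 n72505 = n33465 := d4_1 D72505 (iv7 F109008) F109007
theorem F109020 : act 5 n72505 = n33462 := d13_1 D72505 (iv7 D33462) D33460
theorem F109021 : act 1 n33465 = n33741 := d15_0 (iv0 F52982) D72505 F109019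
theorem F109022 : act 0 n33466 = n58371 := d21_10 (iv5 D58371) (iv1 F92190) F92187 F44865 (iv1 F25773) D16295 D33741 (iv1 F109021) (iv5 D33465) D33466
def n72506 : Q := act 0 n33461
theorem D72506 : act 0 n33461 = n72506 := rfl
def n72507 : Q := act 7 n33461
theorem D72507 : act 7 n33461 = n72507 := rfl
def n72508 : Q := act 6 n33462
theorem D72508 : act 6 n33462 = n72508 := rfl
theorem F109023 : act 2 n72508 = n33466 := d3_1 D72508 (iv6 D33466) (iv2 F52747)
def n72519 : Q := act 6 n33465
theorem D72519 : act 6 n33465 = n72519 := rfl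
theorem F109027 : act 0 n61485 = n72519 := d21_4 F50969 (iv1 F23446) D29105 D61485 (iv6 D72519) (iv5 D33465) (iv1 D16162) D16163 F25699 D16176
def n72521 : Q := act 5 n33466
theorem D72521 : act 5 n33466 = n72521 := rfl
theorem F109028 : act 0 n58313 = n72521 := d21_1 D58313 (iv5 D72521) (iv6 D33466) (iv1 D16162) (iv6 D7541) (iv5 D3435) D3431 (iv5 F9797) D13258 D27773
def n72522 : Q := act 7 n33466
theorem D72522 : act 7 n33466 = n72522 := rfl
def n72524 : Q := act 3 n33467
theorem D72524 : act 3 n33467 = n72524 := rfl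
def n72525 : Q := act 4 n33467
theorem D72525 : act 4 n33467 = n72525 := rfl
def n72526 : Q := act 5 n33467
theorem D72526 : act 5 n33467 = n72526 := rfl
def n72527 : Q := act 6 n33467
theorem D72527 : act 6 n33467 = n72527 := rfl
def n72532 : Q := act 0 n33469
theorem D72532 : act 0 n33469 = n72532 := rfl
def n72534 : Q := act 3 n33469
theorem D72534 : act 3 n33469 = n72534 := rfl
theorem F109031 : act 6 n72534 = n33497 := d7_2 (iv6 F52748) D72534 (iv3 D33497)
def n72536 : Q := act 7 n33469
theorem D72536 : act 7 n33469 = n72536 := rfl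
theorem F109032 : act 4 n72536 = n33470 := d11_1 D72536 (iv7 D33470) D33469
def n72537 : Q := act 6 n33470
theorem D72537 : act 6 n33470 = n72537 := rfl
theorem F109033 : act 7 n72537 = n33500 := d14_2 D33470 D72537 (iv6 D33500) (iv7 D16179) (iv6 F25699)
def n72538 : Q := act 5 n33471
theorem D72538 : act 5 n33471 = n72538 := rfl
theorem F109034 : act 2 n72538 = n33549 := d2_1 D72538 F52853 (iv2 F52750)
theorem F109035 : act 7 n72538 = n33474 := d13_2 (iv7 F52751) D72538 (iv5 D33474)
theorem F109036 : act 0 n72538 = n33547 := d21_1 D72538 (iv5 F92134) (iv6 D58276) (iv1 F44824) (iv6 F44855) (iv5 F92174) (iv1 F92176) (iv5 F52903) (iv6 D33540) (iv1 F52753)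
theorem F109037 : act 1 n72538 = n33546 := d15_0 (iv0 D33546) D33549 (iv2 F109034)
theorem F109038 : act 5 n58364 = n33546 := d21_0 (iv1 F109037) (iv5 D72538) (iv6 D33471) (iv1 F52608) D72317 (iv5 F108765) (iv1 F92210) (iv5 D27785) D27786 D58364
theorem F109039 : act 6 n58364 = n33724 := d21_3 D16205 D33546 (iv5 F109038) (iv1 D33724) (iv6 D16290) D16289 D33718 F52972 (iv6 D33545) (iv1 D16204)
def n72541 : Q := act 4 n33472
theorem D72541 : act 4 n33472 = n72541 := rfl
def n72542 : Q := act 5 n33472
theorem D72542 : act 5 n33472 = n72542 := rfl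
theorem F109041 : act 0 n72542 = n58366 := d21_1 D72542 (iv5 D58366) (iv6 D27786) (iv1 D13260) (iv6 D6295) F4233 (iv1 F11799) (iv5 F11779) D16165 D33472
def n72543 : Q := act 6 n33472
theorem D72543 : act 6 n33472 = n72543 := rfl
theorem F109042 : act 5 n72543 = n58308 := d21_6 F4233 (iv1 F11799) (iv5 F11779) D16165 D33472 D72543 (iv1 D58308) (iv5 D27771) (iv6 D13257) (iv1 D6293)
def n72544 : Q := act 7 n33472
theorem D72544 : act 7 n33472 = n72544 := rfl
def n72546 : Q := act 4 n33473
theorem D72546 : act 4 n33473 = n72546 := rfl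
def n72548 : Q := act 6 n33473
theorem D72548 : act 6 n33473 = n72548 := rfl
def n72549 : Q := act 0 n33474
theorem D72549 : act 0 n33474 = n72549 := rfl
def n72550 : Q := act 1 n33474
theorem D72550 : act 1 n33474 = n72550 := rfl
theorem F109046 : act 5 n33642 = n72550 := d21_6 F21274 (iv1 F12046) F25814 D7575 D16264 D33642 (iv1 D72550) (iv5 D33474) (iv6 D16165) (iv1 F25745)
def n72551 : Q := act 4 n33474
theorem D72551 : act 4 n33474 = n72551 := rfl
theorem F109047 : act 2 n72551 = n33548 := d1_1 D72551 (iv4 D33548) (iv2 F52756)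
theorem F109048 : act 6 n72551 = n33503 := d10_2 (iv6 F52757) D72551 (iv4 D33503)
def n72553 : Q := act 5 n33484
theorem D72553 : act 5 n33484 = n72553 := rfl
theorem F109049 : act 2 n72553 = n62712 := d2_1 D72553 (iv5 D62712) (iv2 F54363)
theorem F109050 : act 4 n72553 = n62801 := d16_2 D33484 D72553 (iv5 D62801) (iv4 D29720) (iv5 D14113) F10936 D13874 (iv7 F23542) F54003
def n72554 : Q := act 6 n33484
theorem D72554 : act 6 n33484 = n72554 := rfl
theorem F109052 : act 4 n72554 = n33485 := d10_1 D72554 (iv6 D33485) D33484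
def n72555 : Q := act 0 n33485
theorem D72555 : act 0 n33485 = n72555 := rfl
def n72556 : Q := act 1 n33485
theorem D72556 : act 1 n33485 = n72556 := rfl
theorem F109053 : act 1 n72556 = n62716 := d15_1 D72556 (iv7 D62716) (iv2 F54364)
def n72557 : Q := act 7 n33485
theorem D72557 : act 7 n33485 = n72557 := rfl
theorem F109054 : act 2 n72557 = n62716 := d4_1 D72557 (iv7 D62716) (iv2 F54364)
theorem F109055 : act 1 n62716 = n72555 := d15_0 (iv0 D72555) D72557 F109054
theorem F109056 : act 1 n62715 = n72557 := d15_1 D62715 (iv7 D72557) F54364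
theorem F109057 : act 1 n72557 = n62714 := d15_0 (iv0 D62714) D62716 (iv2 F109054)
def n72558 : Q := act 3 n33493
theorem D72558 : act 3 n33493 = n72558 := rfl
def n72559 : Q := act 5 n33493
theorem D72559 : act 5 n33493 = n72559 := rfl
theorem F109059 : act 4 n72559 = n62862 := d16_2 D33493 D72559 (iv5 D62862) (iv4 D29749) F23617 F22375 D13856 (iv7 F23448) (iv2 F50967)
def n72560 : Q := act 6 n33493
theorem D72560 : act 6 n33493 = n72560 := rfl
theorem F109060 : act 2 n72560 = n62561 := d3_1 D72560 (iv6 D62561) (iv2 F52809)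
theorem F109061 : act 4 n72560 = n33494 := d10_1 D72560 (iv6 D33494) D33493
def n72561 : Q := act 0 n33494
theorem D72561 : act 0 n33494 = n72561 := rfl
def n72562 : Q := act 1 n33494
theorem D72562 : act 1 n33494 = n72562 := rfl
theorem F109062 : act 1 n72562 = n62564 := d15_1 D72562 (iv7 D62564) (iv2 F52810)
theorem F109063 : act 5 n69287 = n72562 := d21_6 (iv5 D15132) (iv1 F24778) (iv5 F11529) D15195 D32208 D69287 (iv1 D72562) (iv5 F104934) (iv6 D68740) F50758
def n72563 : Q := act 7 n33494
theorem D72563 : act 7 n33494 = n72563 := rfl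
theorem F109064 : act 2 n72563 = n62564 := d4_1 D72563 (iv7 D62564) (iv2 F52810)
theorem F109065 : act 1 n62564 = n72561 := d15_0 (iv0 D72561) D72563 F109064
theorem F109066 : act 1 n62563 = n72563 := d15_1 D62563 (iv7 D72563) F52810
theorem F109067 : act 1 n72563 = n62562 := d15_0 (iv0 D62562) D62564 (iv2 F109064)
def n72564 : Q := act 5 n33495
theorem D72564 : act 5 n33495 = n72564 := rfl
theorem F109068 : act 7 n72564 = n50031 := d13_2 F52812 D72564 (iv5 D50031)
def n72565 : Q := act 6 n33495
theorem D72565 : act 6 n33495 = n72565 := rfl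
theorem F109070 : act 4 n72565 = n50036 := d10_1 D72565 (iv6 D50036) (iv4 F52811)
def n72566 : Q := act 3 n33496
theorem D72566 : act 3 n33496 = n72566 := rfl
def n72567 : Q := act 5 n33496
theorem D72567 : act 5 n33496 = n72567 := rfl
theorem F109071 : act 2 n72567 = n50031 := d2_1 D72567 (iv5 D50031) F79164
theorem F109072 : act 0 n72567 = n33497 := d17_2 F96005 D72567 F108810 (iv4 D61480) (iv5 D29101) (iv0 D13853) D13856 D29109 D61489
def n72568 : Q := act 6 n33496
theorem D72568 : act 6 n33496 = n72568 := rfl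
def n72569 : Q := act 2 n33497
theorem D72569 : act 2 n33497 = n72569 := rfl
theorem F109075 : act 5 n72569 = n61560 := d2_2 (iv5 F108810) D72569 F96105
theorem F109076 : act 0 n50031 = n72569 := d17_2 (iv1 F52814) D50031 F109075 (iv4 D61560) F54012 F23445 D29107 (iv0 F50801) (iv4 F52813)
def n72570 : Q := act 7 n33497
theorem D72570 : act 7 n33497 = n72570 := rfl
theorem F109077 : act 3 n72570 = n33499 := d8_1 D72570 (iv7 D33499) D33497
theorem F109078 : act 5 n72570 = n61557 := d13_1 D72570 F96099 (iv5 F108810)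
theorem F109079 : act 1 n50031 = n72570 := d15_1 (iv0 F109076) (iv7 D72570) D72569
def n72573 : Q := act 4 n33498
theorem D72573 : act 4 n33498 = n72573 := rfl
theorem F109081 : act 3 n72573 = n34309 := d5_1 D72573 (iv4 D34309) (iv3 F46751) D61480 F108811
theorem F109082 : act 5 n72573 = n62861 := d16_3 D16178 D33498 D72573 F98087 F52643 F53966 (iv5 F53967) F50973 F25630
theorem F109084 : act 1 n62801 = n72573 := d17_6 (iv1 F54040) (iv5 D29714) (iv1 D14111) D14113 D29720 D62801 F109082 F98085 (iv4 D60104)
def n72574 : Q := act 6 n33498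
theorem D72574 : act 6 n33498 = n72574 := rfl
def n72575 : Q := act 7 n33498
theorem D72575 : act 7 n33498 = n72575 := rfl
theorem F109087 : act 5 n72575 = n33499 := d13_1 D72575 (iv7 D33499) D33498
def n72576 : Q := act 6 n33499
theorem D72576 : act 6 n33499 = n72576 := rfl
theorem F109088 : act 4 n72576 = n33500 := d10_1 D72576 (iv6 D33500) (iv4 F52813)
def n72577 : Q := act 0 n33500
theorem D72577 : act 0 n33500 = n72577 := rfl
def n72578 : Q := act 1 n33500
theorem D72578 : act 1 n33500 = n72578 := rfl
def n72579 : Q := act 0 n33503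
theorem D72579 : act 0 n33503 = n72579 := rfl
theorem F109089 : act 4 n72579 = n55250 := d18_3 F54119 D33503 D72579 F87429 F53343 (iv0 F54103) (iv4 F54455) (iv0 F54459) (iv5 F42359)
theorem F109090 : act 1 n33566 = n72579 := d15_0 (iv0 D72579) (iv7 F107719) F107718
theorem F109091 : act 7 n33563 = n72579 := d11_0 F109089 F87430 F86016
theorem F109092 : act 2 n72579 = n33562 := d15_3 (iv0 D33562) D33563 F109091
def n72580 : Q := act 1 n33503
theorem D72580 : act 1 n33503 = n72580 := rfl
theorem F109093 : act 1 n72580 = n33566 := d15_1 D72580 (iv7 D33566) (iv2 F52818)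
theorem F109094 : act 7 n72580 = n33562 := d15_2 (iv0 D72579) D72580 (iv2 F109092)
theorem F109095 : act 4 n72580 = n60130 := d18_7 F45937 F45934 (iv1 F24740) (iv4 F50778) D16183 D33503 D72580 F94686 (iv5 D28662)
theorem F109096 : act 2 n33563 = n72580 := d1_3 F109095 (iv2 F94688) F86016
def n72581 : Q := act 3 n33503
theorem D72581 : act 3 n33503 = n72581 := rfl
def n72582 : Q := act 5 n33503
theorem D72582 : act 5 n33503 = n72582 := rfl
theorem F109097 : act 2 n72582 = n33565 := d2_1 D72582 (iv5 D33565) (iv2 F52818)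
theorem F109098 : act 0 n72582 = n60361 := d17_2 (iv1 D72580) D72582 (iv5 D60361) (iv4 D28671) (iv5 D13664) F50825 D28578 D60130 (iv4 F109095)
theorem F109099 : act 3 n42419 = n72582 := d19_19 F109098 (iv5 D60361) (iv4 D28671) F22816 D13679 F22828 (iv4 D12756) (iv3 F21170) F26368 F26306 F26286 F12662 F18431 F18429 (iv4 F37340) F82977 (iv1 D20026) D20027 D42419
theorem F109100 : act 5 n72581 = n42419 := d6_0 F109099 (iv5 D72582) D72581
theorem F109101 : act 6 n72582 = n42464 := d7_2 (iv6 F65526) F109099 (iv3 D42464)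
def n72583 : Q := act 0 n33504
theorem D72583 : act 0 n33504 = n72583 := rfl
def n72585 : Q := act 7 n33504
theorem D72585 : act 7 n33504 = n72585 := rfl
theorem F109103 : act 2 n72585 = n70598 := d4_1 D72585 (iv7 D70598) (iv2 F52819)
theorem F109104 : act 6 n72585 = n70588 := d14_1 D72585 (iv7 D70588) (iv6 D32744) (iv7 F25712) D33504
theorem F109105 : act 1 n70598 = n72583 := d15_0 (iv0 D72583) D72585 F109103
theorem F109106 : act 1 n70597 = n72585 := d15_1 D70597 (iv7 D72585) F52819
theorem F109107 : act 1 n72585 = n70596 := d15_0 (iv0 D70596) D70598 (iv2 F109103)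
def n72586 : Q := act 0 n33505
theorem D72586 : act 0 n33505 = n72586 := rfl
def n72587 : Q := act 1 n33505
theorem D72587 : act 1 n33505 = n72587 := rfl
theorem F109108 : act 1 n72587 = n33513 := d15_1 D72587 (iv7 D33513) (iv2 F52820)
def n72588 : Q := act 5 n33505
theorem D72588 : act 5 n33505 = n72588 := rfl
theorem F109109 : act 2 n72588 = n33512 := d2_1 D72588 (iv5 D33512) (iv2 F52820)
theorem F109110 : act 3 n72588 = n33748 := d6_1 D72588 F52988 (iv3 F52821)
theorem F109111 : act 6 n72588 = n33506 := d12_2 D33505 D72588 (iv5 D33506) (iv6 D16187) D16186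
def n72589 : Q := act 7 n33505
theorem D72589 : act 7 n33505 = n72589 := rfl
theorem F109112 : act 2 n72589 = n33513 := d4_1 D72589 (iv7 D33513) (iv2 F52820)
theorem F109113 : act 3 n72589 = n72400 := d8_1 D72589 F108899 (iv3 F52821)
theorem F109114 : act 6 n72589 = n72375 := d14_1 D72589 (iv7 D72375) (iv6 D33408) (iv7 F25717) D33505
theorem F109115 : act 1 n33513 = n72586 := d15_0 (iv0 D72586) D72589 F109112
theorem F109116 : act 1 n33511 = n72589 := d15_1 D33511 (iv7 D72589) F52820
theorem F109117 : act 1 n72589 = n33510 := d15_0 (iv0 D33510) D33513 (iv2 F109112)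
def n72590 : Q := act 4 n33506
theorem D72590 : act 4 n33506 = n72590 := rfl
theorem F109118 : act 2 n72590 = n33517 := d1_1 D72590 (iv4 D33517) (iv2 F52822)
theorem F109119 : act 0 n72590 = n54468 := d18_2 F104127 D72590 (iv4 D54468) (iv5 F50602) D67962 (iv0 F104075) (iv4 F95989) (iv0 F95990) D68013
theorem F109120 : act 1 n72590 = n54471 := d18_6 (iv1 F26940) (iv4 F51000) (iv1 D16191) (iv4 F25721) D33506 D72590 (iv4 D54471) F42009 (iv5 D16452)
def n72591 : Q := act 1 n33507
theorem D72591 : act 1 n33507 = n72591 := rfl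
theorem F109121 : act 5 n72591 = n42361 := d18_9 (iv1 F73431) F73428 (iv1 D22481) F17222 D10689 D22512 (iv0 F52825) (iv4 F52824) D72591
def n72592 : Q := act 2 n33507
theorem D72592 : act 2 n33507 = n72592 := rfl
theorem F109122 : act 3 n72592 = n41074 := d0_2 D33507 D72592 (iv2 F62318) (iv3 F58452) (iv2 F35215)
theorem F109123 : act 4 n72592 = n33528 := d1_2 (iv4 F52824) D72592 (iv2 D33528)
theorem F109124 : act 5 n46131 = n72592 := d9_0 F109123 (iv5 F106195) (iv4 D69789) (iv5 D32409) (iv4 F51456) F54144 (iv4 F64270) (iv5 F74336) F74335 (iv5 F106628) (iv4 D70184) (iv5 D32572) D32571 F51637 D46131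
def n72593 : Q := act 5 n33507
theorem D72593 : act 5 n33507 = n72593 := rfl
theorem F109125 : act 2 n72593 = n46131 := d2_1 D72593 F109124 (iv2 D72592)
theorem F109126 : act 3 n72593 = n33508 := d6_1 D72593 (iv5 D33508) D33507
theorem F109127 : act 7 n72593 = n41647 := d13_2 F74337 D72593 (iv5 F74336)
theorem F109128 : act 4 n72593 = n41561 := d16_4 F56749 (iv5 D33529) (iv4 F52824) D72593 F64151 (iv4 D35077) D35078 F55703 (iv2 F55354)
theorem F109129 : act 1 n72593 = n44045 := d17_8 (iv1 F33086) (iv5 D16937) D16935 F32535 (iv4 F34803) D46531 (iv0 F73529) D72593 (iv4 D44045)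
theorem F109130 : act 1 n41460 = n72593 := d15_0 F109129 F69344 F68958
def n72594 : Q := act 6 n33507
theorem D72594 : act 6 n33507 = n72594 := rfl
theorem F109131 : act 3 n72594 = n33509 := d7_1 D72594 (iv6 D33509) D33507
theorem F109132 : act 4 n72594 = n33530 := d10_1 D72594 (iv6 D33530) (iv4 F52824)
def n72595 : Q := act 6 n33508
theorem D72595 : act 6 n33508 = n72595 := rfl
theorem F109133 : act 2 n72595 = n41650 := d3_1 D72595 (iv6 D41650) (iv2 F52826)
theorem F109134 : act 4 n72595 = n41648 := d10_1 D72595 (iv6 D41648) (iv4 F52828)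
def n72596 : Q := act 0 n33509
theorem D72596 : act 0 n33509 = n72596 := rfl
def n72597 : Q := act 1 n33509
theorem D72597 : act 1 n33509 = n72597 := rfl
def n72598 : Q := act 5 n33509
theorem D72598 : act 5 n33509 = n72598 := rfl
def n72599 : Q := act 7 n33509
theorem D72599 : act 7 n33509 = n72599 := rfl
theorem F109135 : act 4 n72599 = n33513 := d11_1 D72599 (iv7 D33513) (iv4 F52831)
def n72600 : Q := act 2 n33510
theorem D72600 : act 2 n33510 = n72600 := rfl
theorem F109136 : act 7 n33511 = n72600 := d15_2 (iv0 D33510) D33511 (iv2 D72600)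
def n72601 : Q := act 3 n33510
theorem D72601 : act 3 n33510 = n72601 := rfl
def n72602 : Q := act 4 n33510
theorem D72602 : act 4 n33510 = n72602 := rfl
def n72603 : Q := act 5 n33510
theorem D72603 : act 5 n33510 = n72603 := rfl
def n72604 : Q := act 6 n33510
theorem D72604 : act 6 n33510 = n72604 := rfl
def n72605 : Q := act 7 n33510
theorem D72605 : act 7 n33510 = n72605 := rfl
theorem F109137 : act 2 n72605 = n33511 := d4_1 D72605 F109136 (iv2 D72600)
def n72606 : Q := act 3 n33511
theorem D72606 : act 3 n33511 = n72606 := rfl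
def n72607 : Q := act 4 n33511
theorem D72607 : act 4 n33511 = n72607 := rfl
def n72608 : Q := act 5 n33511
theorem D72608 : act 5 n33511 = n72608 := rfl
def n72609 : Q := act 6 n33511
theorem D72609 : act 6 n33511 = n72609 := rfl
def n72610 : Q := act 0 n33512
theorem D72610 : act 0 n33512 = n72610 := rfl
def n72611 : Q := act 1 n33512
theorem D72611 : act 1 n33512 = n72611 := rfl
def n72612 : Q := act 4 n33512
theorem D72612 : act 4 n33512 = n72612 := rfl
theorem F109138 : act 6 n72612 = n33517 := d10_2 (iv6 F52833) D72612 (iv4 D33517)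
def n72613 : Q := act 7 n33512
theorem D72613 : act 7 n33512 = n72613 := rfl
theorem F109139 : act 3 n72613 = n33549 := d8_1 D72613 (iv7 D33549) (iv3 F52832)
theorem F109140 : act 5 n72613 = n33513 := d13_1 D72613 (iv7 D33513) D33512
def n72614 : Q := act 6 n33514
theorem D72614 : act 6 n33514 = n72614 := rfl
theorem F109141 : act 5 n72614 = n68409 := d12_1 D72614 (iv6 D68409) (iv5 D31828) (iv6 F51001) D33514
def n72615 : Q := act 6 n33515
theorem D72615 : act 6 n33515 = n72615 := rfl
def n72616 : Q := act 6 n33516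
theorem D72616 : act 6 n33516 = n72616 := rfl
def n72617 : Q := act 3 n33517
theorem D72617 : act 3 n33517 = n72617 := rfl
theorem F109142 : act 4 n72617 = n33564 := d5_2 D33517 D72617 (iv3 D33564) (iv4 D16219) (iv3 F25741)
def n72618 : Q := act 5 n33517
theorem D72618 : act 5 n33517 = n72618 := rfl
theorem F109143 : act 0 n72618 = n70594 := d17_2 F104130 D72618 (iv5 D70594) (iv4 D32746) (iv5 D15661) (iv0 F27208) D26331 (iv0 F50632) D68014
def n72619 : Q := act 7 n33517
theorem D72619 : act 7 n33517 = n72619 := rfl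
theorem F109144 : act 4 n72619 = n33518 := d11_1 D72619 (iv7 D33518) D33517
theorem F109145 : act 1 n54471 = n72619 := d15_1 F109120 (iv7 D72619) (iv2 F109118)
theorem F109146 : act 1 n72619 = n54468 := d15_1 F109145 (iv7 F104129) F104128
def n72620 : Q := act 6 n33518
theorem D72620 : act 6 n33518 = n72620 := rfl
theorem F109147 : act 3 n72620 = n33567 := d7_1 D72620 (iv6 D33567) (iv3 F52836)
def n72621 : Q := act 0 n33519
theorem D72621 : act 0 n33519 = n72621 := rfl
theorem F109148 : act 4 n72621 = n55433 := d18_3 (iv1 F108953) (iv4 F52838) D72621 (iv5 F90761) F90762 (iv0 F86646) F83470 (iv0 F83317) (iv5 F108949)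
theorem F109149 : act 1 n72333 = n72621 := d15_0 (iv0 D72621) F52839 D72333
def n72622 : Q := act 1 n33519
theorem D72622 : act 1 n33519 = n72622 := rfl
theorem F109150 : act 4 n55434 = n72622 := d20_0 (iv1 D72622) F52838 F52735 (iv1 F51752) D70374 F106858 D70379 F106865 (iv3 F90126) (iv1 F90131)
theorem F109151 : act 5 n72622 = n54789 := d16_3 (iv4 F107030) (iv5 F90765) F109150 (iv4 D54789) (iv5 D26502) (iv4 F42382) D54770 F86645 (iv2 F107027)
theorem F109152 : act 0 n72333 = n72622 := d20_10 (iv4 F109150) (iv1 D55434) (iv4 F55944) (iv3 D35197) (iv1 F29193) D37560 F58445 D37566 (iv4 F108879) F108878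
def n72623 : Q := act 2 n33519
theorem D72623 : act 2 n33519 = n72623 := rfl
theorem F109153 : act 4 n72623 = n72440 := d1_2 (iv4 F52838) D72623 (iv2 F108944)
theorem F109154 : act 5 n72623 = n52815 := d2_2 F94825 D72623 (iv2 F94827)
theorem F109155 : act 7 n72623 = n72333 := d4_2 (iv7 F52839) D72623 (iv2 D72333)
theorem F109156 : act 1 n72623 = n72331 := d15_0 (iv0 D72331) (iv7 F52839) D72623
theorem F109157 : act 4 n72331 = n57078 := d18_7 (iv1 F90744) F90745 (iv1 F83439) F83440 F108948 (iv4 F109153) F109156 (iv0 D57078) (iv5 F44463)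
theorem F109158 : act 1 n72332 = n72623 := d15_1 D72332 F109155 (iv2 D72333)
def n72624 : Q := act 6 n33519
theorem D72624 : act 6 n33519 = n72624 := rfl
theorem F109159 : act 3 n72624 = n33520 := d7_1 D72624 (iv6 D33520) D33519
theorem F109160 : act 4 n72624 = n72456 := d10_1 D72624 (iv6 D72456) (iv4 F52838)
def n72625 : Q := act 0 n33520
theorem D72625 : act 0 n33520 = n72625 := rfl
def n72626 : Q := act 1 n33520
theorem D72626 : act 1 n33520 = n72626 := rfl
def n72627 : Q := act 5 n33520
theorem D72627 : act 5 n33520 = n72627 := rfl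
def n72628 : Q := act 7 n33520
theorem D72628 : act 7 n33520 = n72628 := rfl
theorem F109161 : act 4 n72628 = n33524 := d11_1 D72628 (iv7 D33524) (iv4 F52840)
theorem F109162 : act 6 n72628 = n72339 := d14_1 D72628 (iv7 D72339) (iv6 D33385) (iv7 F25743) D33520
def n72629 : Q := act 2 n33521
theorem D72629 : act 2 n33521 = n72629 := rfl
theorem F109163 : act 7 n33522 = n72629 := d15_2 (iv0 D33521) D33522 (iv2 D72629)
def n72630 : Q := act 3 n33521
theorem D72630 : act 3 n33521 = n72630 := rfl
def n72631 : Q := act 4 n33521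
theorem D72631 : act 4 n33521 = n72631 := rfl
def n72632 : Q := act 5 n33521
theorem D72632 : act 5 n33521 = n72632 := rfl
def n72633 : Q := act 6 n33521
theorem D72633 : act 6 n33521 = n72633 := rfl
def n72634 : Q := act 7 n33521
theorem D72634 : act 7 n33521 = n72634 := rfl
theorem F109164 : act 2 n72634 = n33522 := d4_1 D72634 F109163 (iv2 D72629)
def n72635 : Q := act 3 n33522
theorem D72635 : act 3 n33522 = n72635 := rfl
def n72636 : Q := act 4 n33522
theorem D72636 : act 4 n33522 = n72636 := rfl
def n72637 : Q := act 5 n33522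
theorem D72637 : act 5 n33522 = n72637 := rfl
def n72638 : Q := act 6 n33522
theorem D72638 : act 6 n33522 = n72638 := rfl
def n72639 : Q := act 0 n33523
theorem D72639 : act 0 n33523 = n72639 := rfl
def n72640 : Q := act 1 n33523
theorem D72640 : act 1 n33523 = n72640 := rfl
def n72641 : Q := act 4 n33523
theorem D72641 : act 4 n33523 = n72641 := rfl
theorem F109165 : act 6 n72641 = n33527 := d10_2 (iv6 F52842) D72641 (iv4 D33527)
def n72642 : Q := act 7 n33523
theorem D72642 : act 7 n33523 = n72642 := rfl
theorem F109166 : act 3 n72642 = n72538 := d8_1 D72642 F109035 (iv3 F52841)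
theorem F109167 : act 5 n72642 = n33524 := d13_1 D72642 (iv7 D33524) D33523
def n72643 : Q := act 4 n33525
theorem D72643 : act 4 n33525 = n72643 := rfl
theorem F109168 : act 2 n72643 = n60159 := d1_1 D72643 F94708 F54209
theorem F109169 : act 7 n72643 = n60160 := d11_2 (iv7 F54208) D72643 F94709
theorem F109170 : act 0 n72643 = n60163 := d18_2 D33525 D72643 F94711 F46161 (iv4 F50867) F45993 F22772 F50790 D16198
theorem F109171 : act 0 n60111 = n72643 := d20_1 D60111 (iv4 D72643) (iv3 F54210) (iv1 F52441) F25596 (iv4 F25616) (iv1 F25618) (iv4 D15866) D15865 (iv1 F54146)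
def n72644 : Q := act 6 n33525
theorem D72644 : act 6 n33525 = n72644 := rfl
theorem F109172 : act 2 n72644 = n72217 := d3_1 D72644 F108659 F54209
theorem F109173 : act 3 n72644 = n71869 := d7_1 D72644 (iv6 D71869) F54210
theorem F109174 : act 5 n72644 = n72212 := d12_1 D72644 (iv6 D72212) F52573 (iv6 F97541) F97540
theorem F109175 : act 0 n72644 = n58363 := d21_4 (iv5 F50773) D62557 F97540 D72644 (iv6 D58363) (iv5 D27785) (iv1 D13260) D13261 F22057 D16306
def n72645 : Q := act 3 n33527
theorem D72645 : act 3 n33527 = n72645 := rfl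
theorem F109176 : act 4 n72645 = n72581 := d5_2 D33527 D72645 (iv3 D72581) (iv4 D33503) (iv3 F25758)
def n72646 : Q := act 5 n33527
theorem D72646 : act 5 n33527 = n72646 := rfl
def n72647 : Q := act 6 n33528
theorem D72647 : act 6 n33528 = n72647 := rfl
theorem F109177 : act 2 n72647 = n33530 := d3_1 D72647 (iv6 D33530) D33528
def n72648 : Q := act 6 n33529
theorem D72648 : act 6 n33529 = n72648 := rfl
theorem F109178 : act 3 n72648 = n33531 := d7_1 D72648 (iv6 D33531) (iv3 F52847)
theorem F109179 : act 4 n72648 = n40228 := d10_1 D72648 F61211 F56749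
def n72649 : Q := act 0 n33530
theorem D72649 : act 0 n33530 = n72649 := rfl
def n72650 : Q := act 1 n33530
theorem D72650 : act 1 n33530 = n72650 := rfl
def n72651 : Q := act 5 n33530
theorem D72651 : act 5 n33530 = n72651 := rfl
theorem F109180 : act 3 n72651 = n33534 := d6_1 D72651 (iv5 D33534) (iv3 F52848)
def n72652 : Q := act 7 n33530
theorem D72652 : act 7 n33530 = n72652 := rfl
theorem F109181 : act 3 n72652 = n33535 := d8_1 D72652 (iv7 D33535) (iv3 F52848)
def n72653 : Q := act 0 n33531
theorem D72653 : act 0 n33531 = n72653 := rfl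
def n72654 : Q := act 1 n33531
theorem D72654 : act 1 n33531 = n72654 := rfl
def n72655 : Q := act 5 n33531
theorem D72655 : act 5 n33531 = n72655 := rfl
theorem F109182 : act 6 n72655 = n33534 := d12_2 D33531 D72655 (iv5 D33534) (iv6 D16202) D16201
def n72656 : Q := act 7 n33531
theorem D72656 : act 7 n33531 = n72656 := rfl
def n72657 : Q := act 2 n33532
theorem D72657 : act 2 n33532 = n72657 := rfl
theorem F109183 : act 7 n33533 = n72657 := d15_2 (iv0 D33532) D33533 (iv2 D72657)
def n72658 : Q := act 3 n33532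
theorem D72658 : act 3 n33532 = n72658 := rfl
def n72659 : Q := act 4 n33532
theorem D72659 : act 4 n33532 = n72659 := rfl
def n72660 : Q := act 5 n33532
theorem D72660 : act 5 n33532 = n72660 := rfl
def n72661 : Q := act 6 n33532
theorem D72661 : act 6 n33532 = n72661 := rfl
def n72662 : Q := act 7 n33532
theorem D72662 : act 7 n33532 = n72662 := rfl
theorem F109184 : act 2 n72662 = n33533 := d4_1 D72662 F109183 (iv2 D72657)
def n72663 : Q := act 3 n33533
theorem D72663 : act 3 n33533 = n72663 := rfl
def n72664 : Q := act 4 n33533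
theorem D72664 : act 4 n33533 = n72664 := rfl
def n72665 : Q := act 5 n33533
theorem D72665 : act 5 n33533 = n72665 := rfl
def n72666 : Q := act 6 n33533
theorem D72666 : act 6 n33533 = n72666 := rfl
def n72667 : Q := act 0 n33534
theorem D72667 : act 0 n33534 = n72667 := rfl
def n72668 : Q := act 1 n33534
theorem D72668 : act 1 n33534 = n72668 := rfl
def n72669 : Q := act 4 n33534
theorem D72669 : act 4 n33534 = n72669 := rfl
def n72670 : Q := act 7 n33534
theorem D72670 : act 7 n33534 = n72670 := rfl
theorem F109185 : act 5 n72670 = n33535 := d13_1 D72670 (iv7 D33535) D33534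
def n72671 : Q := act 0 n33536
theorem D72671 : act 0 n33536 = n72671 := rfl
theorem F109186 : act 1 n33541 = n72671 := d15_0 (iv0 D72671) (iv7 F52850) (iv2 F52851)
def n72674 : Q := act 4 n33536
theorem D72674 : act 4 n33536 = n72674 := rfl
theorem F109189 : act 2 n72674 = n33538 := d1_1 D72674 (iv4 D33538) D33536
theorem F109190 : act 7 n72674 = n33543 := d11_2 F52850 D72674 (iv4 D33543)
def n72675 : Q := act 5 n33536
theorem D72675 : act 5 n33536 = n72675 := rfl
theorem F109191 : act 2 n72675 = n33539 := d2_1 D72675 (iv5 D33539) D33536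
theorem F109192 : act 7 n72675 = n33544 := d13_2 F52850 D72675 (iv5 D33544)
def n72676 : Q := act 6 n33536
theorem D72676 : act 6 n33536 = n72676 := rfl
theorem F109193 : act 2 n72676 = n33540 := d3_1 D72676 (iv6 D33540) D33536
def n72682 : Q := act 6 n33537
theorem D72682 : act 6 n33537 = n72682 := rfl
theorem F109195 : act 3 n72682 = n33540 := d7_1 D72682 (iv6 D33540) D33537
def n72684 : Q := act 0 n33538
theorem D72684 : act 0 n33538 = n72684 := rfl
def n72685 : Q := act 1 n33538
theorem D72685 : act 1 n33538 = n72685 := rfl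
theorem F109197 : act 1 n72685 = n33543 := d15_1 D72685 (iv7 F109190) F109189
def n72688 : Q := act 6 n33538
theorem D72688 : act 6 n33538 = n72688 := rfl
def n72689 : Q := act 7 n33538
theorem D72689 : act 7 n33538 = n72689 := rfl
theorem F109199 : act 2 n72689 = n33543 := d4_1 D72689 (iv7 F109190) F109189
theorem F109200 : act 4 n72689 = n33541 := d11_1 D72689 (iv7 D33541) D33538
theorem F109201 : act 1 n33543 = n72684 := d15_0 (iv0 D72684) D72689 F109199
def n72690 : Q := act 0 n33539
theorem D72690 : act 0 n33539 = n72690 := rfl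
theorem F109202 : act 5 n72690 = n58319 := d21_2 D33539 D72690 (iv6 D58319) (iv1 D27774) (iv6 D13258) F9797 (iv1 F5419) D3440 D7557 D16203
def n72691 : Q := act 1 n33539
theorem D72691 : act 1 n33539 = n72691 := rfl
theorem F109203 : act 1 n72691 = n33544 := d15_1 D72691 (iv7 F109192) F109191
def n72693 : Q := act 6 n33539
theorem D72693 : act 6 n33539 = n72693 := rfl
def n72694 : Q := act 7 n33539
theorem D72694 : act 7 n33539 = n72694 := rfl
theorem F109204 : act 2 n72694 = n33544 := d4_1 D72694 (iv7 F109192) F109191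
theorem F109205 : act 5 n72694 = n33541 := d13_1 D72694 (iv7 D33541) D33539
theorem F109206 : act 1 n33544 = n72690 := d15_0 (iv0 D72690) D72694 F109204
theorem F109207 : act 0 n33545 = n69102 := d21_10 (iv5 D69102) (iv1 F51106) F24813 (iv6 F22059) (iv1 F44859) D58319 (iv5 F109202) (iv1 F109206) (iv5 D33544) D33545
def n72695 : Q := act 0 n33540
theorem D72695 : act 0 n33540 = n72695 := rfl
def n72696 : Q := act 1 n33540
theorem D72696 : act 1 n33540 = n72696 := rfl
def n72697 : Q := act 7 n33540
theorem D72697 : act 7 n33540 = n72697 := rfl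
def n72698 : Q := act 6 n33541
theorem D72698 : act 6 n33541 = n72698 := rfl
theorem F109208 : act 2 n72698 = n33545 := d3_1 D72698 (iv6 D33545) (iv2 F52851)
def n72703 : Q := act 5 n33542
theorem D72703 : act 5 n33542 = n72703 := rfl
theorem F109209 : act 3 n72703 = n33544 := d6_1 D72703 (iv5 D33544) D33542
def n72704 : Q := act 6 n33542
theorem D72704 : act 6 n33542 = n72704 := rfl
theorem F109210 : act 3 n72704 = n33545 := d7_1 D72704 (iv6 D33545) D33542
def n72705 : Q := act 3 n33543
theorem D72705 : act 3 n33543 = n72705 := rfl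
def n72706 : Q := act 5 n33543
theorem D72706 : act 5 n33543 = n72706 := rfl
def n72707 : Q := act 6 n33543
theorem D72707 : act 6 n33543 = n72707 := rfl
theorem F109211 : act 4 n72707 = n33545 := d10_1 D72707 (iv6 D33545) D33543
def n72708 : Q := act 4 n33544
theorem D72708 : act 4 n33544 = n72708 := rfl
def n72709 : Q := act 1 n33545
theorem D72709 : act 1 n33545 = n72709 := rfl
def n72710 : Q := act 7 n33545
theorem D72710 : act 7 n33545 = n72710 := rfl
def n72711 : Q := act 2 n33546
theorem D72711 : act 2 n33546 = n72711 := rfl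
theorem F109212 : act 7 n33547 = n72711 := d15_2 (iv0 D33546) D33547 (iv2 D72711)
def n72715 : Q := act 7 n33546
theorem D72715 : act 7 n33546 = n72715 := rfl
theorem F109213 : act 2 n72715 = n33547 := d4_1 D72715 F109212 (iv2 D72711)
def n72716 : Q := act 3 n33547
theorem D72716 : act 3 n33547 = n72716 := rfl
def n72717 : Q := act 4 n33547
theorem D72717 : act 4 n33547 = n72717 := rfl
def n72718 : Q := act 6 n33547
theorem D72718 : act 6 n33547 = n72718 := rfl
def n72719 : Q := act 0 n33548
theorem D72719 : act 0 n33548 = n72719 := rfl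
def n72720 : Q := act 1 n33548
theorem D72720 : act 1 n33548 = n72720 := rfl
def n72721 : Q := act 3 n33548
theorem D72721 : act 3 n33548 = n72721 := rfl
theorem F109214 : act 6 n72721 = n33564 := d7_2 (iv6 F52852) D72721 (iv3 D33564)
def n72722 : Q := act 5 n33548
theorem D72722 : act 5 n33548 = n72722 := rfl
def n72723 : Q := act 7 n33548
theorem D72723 : act 7 n33548 = n72723 := rfl
theorem F109215 : act 4 n72723 = n33549 := d11_1 D72723 (iv7 D33549) D33548
def n72724 : Q := act 6 n33549
theorem D72724 : act 6 n33549 = n72724 := rfl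
theorem F109216 : act 7 n72724 = n33567 := d14_2 D33549 D72724 (iv6 D33567) (iv7 D16220) (iv6 F25763)
def n72725 : Q := act 3 n33550
theorem D72725 : act 3 n33550 = n72725 := rfl
def n72726 : Q := act 5 n33550
theorem D72726 : act 5 n33550 = n72726 := rfl
def n72727 : Q := act 6 n33550
theorem D72727 : act 6 n33550 = n72727 := rfl
theorem F109217 : act 4 n72727 = n33551 := d10_1 D72727 (iv6 D33551) D33550
def n72728 : Q := act 0 n33551
theorem D72728 : act 0 n33551 = n72728 := rfl
def n72729 : Q := act 1 n33551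
theorem D72729 : act 1 n33551 = n72729 := rfl
def n72730 : Q := act 7 n33551
theorem D72730 : act 7 n33551 = n72730 := rfl
def n72731 : Q := act 3 n33559
theorem D72731 : act 3 n33559 = n72731 := rfl
def n72732 : Q := act 5 n33559
theorem D72732 : act 5 n33559 = n72732 := rfl
def n72733 : Q := act 6 n33559
theorem D72733 : act 6 n33559 = n72733 := rfl
theorem F109218 : act 4 n72733 = n33561 := d10_1 D72733 (iv6 D33561) D33559
def n72734 : Q := act 0 n33561
theorem D72734 : act 0 n33561 = n72734 := rfl
def n72735 : Q := act 1 n33561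
theorem D72735 : act 1 n33561 = n72735 := rfl
def n72736 : Q := act 7 n33561
theorem D72736 : act 7 n33561 = n72736 := rfl
def n72737 : Q := act 3 n33562
theorem D72737 : act 3 n33562 = n72737 := rfl
def n72738 : Q := act 4 n33562
theorem D72738 : act 4 n33562 = n72738 := rfl
theorem F109219 : act 2 n72738 = n55250 := d1_1 D72738 (iv4 F109089) F109092
theorem F109220 : act 7 n72738 = n60130 := d11_2 F109094 D72738 (iv4 F109095)
theorem F109221 : act 1 n72738 = n59947 := d18_8 (iv1 F45992) F22772 (iv1 F24816) (iv4 F27008) D32970 D71236 F107721 D72738 (iv5 D59947)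
theorem F109222 : act 3 n60124 = n72738 := d20_5 (iv4 F94709) (iv1 D60160) (iv4 D28599) (iv3 F46153) D60124 (iv4 D72738) (iv1 F107721) (iv4 D71236) F52138 (iv1 F54094)
theorem F109223 : act 1 n59948 = n72738 := d15_0 F109221 F94422 (iv2 F94424)
def n72739 : Q := act 5 n33562
theorem D72739 : act 5 n33562 = n72739 := rfl
def n72740 : Q := act 6 n33562
theorem D72740 : act 6 n33562 = n72740 := rfl
def n72741 : Q := act 3 n33563
theorem D72741 : act 3 n33563 = n72741 := rfl
theorem F109224 : act 4 n72741 = n70981 := d5_2 F86016 D72741 (iv3 D70981) (iv4 D32876) D32875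
def n72742 : Q := act 5 n33563
theorem D72742 : act 5 n33563 = n72742 := rfl
def n72744 : Q := act 0 n33564
theorem D72744 : act 0 n33564 = n72744 := rfl
def n72745 : Q := act 1 n33564
theorem D72745 : act 1 n33564 = n72745 := rfl
def n72746 : Q := act 2 n33564
theorem D72746 : act 2 n33564 = n72746 := rfl
def n72747 : Q := act 5 n33564
theorem D72747 : act 5 n33564 = n72747 := rfl
theorem F109226 : act 3 n72747 = n33565 := d6_1 D72747 (iv5 D33565) D33564
def n72748 : Q := act 7 n33564
theorem D72748 : act 7 n33564 = n72748 := rfl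
theorem F109227 : act 3 n72748 = n33566 := d8_1 D72748 (iv7 D33566) D33564
def n72749 : Q := act 0 n33565
theorem D72749 : act 0 n33565 = n72749 := rfl
theorem F109228 : act 5 n72749 = n60031 := d17_3 (iv1 D33563) D33565 D72749 (iv4 D60031) (iv5 D28504) F45992 D59947 F94423 F86016
theorem F109229 : act 2 n60361 = n72749 := d2_3 F109228 F94532 D60361
theorem F109230 : act 4 n69306 = n72749 := d16_2 D32215 D69306 F109228 (iv4 D60031) (iv5 D28504) F22772 D16106 (iv7 F50692) F50690
def n72750 : Q := act 1 n33565
theorem D72750 : act 1 n33565 = n72750 := rfl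
theorem F109231 : act 7 n72750 = n60361 := d15_2 (iv0 D72749) D72750 F109229
theorem F109232 : act 5 n72750 = n59951 := d17_7 (iv1 F52145) (iv5 D16215) (iv1 D7559) D7560 D16219 D33565 D72750 (iv0 F107732) (iv4 D71240)
theorem F109233 : act 4 n72296 = n72750 := d9_15 F109232 (iv4 D59951) (iv5 D28471) F22736 D15198 D32215 D69306 F109230 F109228 (iv4 D60031) (iv5 D28504) F22772 D16106 D33359 D72296
def n72751 : Q := act 4 n33565
theorem D72751 : act 4 n33565 = n72751 := rfl
theorem F109234 : act 5 n72751 = n69297 := d16_3 D16219 D33565 D72751 (iv4 D69297) (iv5 D32212) (iv4 F27008) D32970 F52139 F25710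
def n72752 : Q := act 6 n33565
theorem D72752 : act 6 n33565 = n72752 := rfl
theorem F109235 : act 2 n72752 = n42464 := d3_1 D72752 (iv6 F109101) F109097
def n72753 : Q := act 7 n33565
theorem D72753 : act 7 n33565 = n72753 := rfl
theorem F109236 : act 5 n72753 = n33566 := d13_1 D72753 (iv7 D33566) D33565
theorem F109237 : act 0 n60361 = n72753 := d17_2 (iv1 D60359) D60361 F109236 F52860 F25766 F50787 D32971 F86168 (iv4 F94882)
def n72754 : Q := act 6 n33566
theorem D72754 : act 6 n33566 = n72754 := rfl
theorem F109238 : act 4 n72754 = n33567 := d10_1 D72754 (iv6 D33567) (iv4 F52860)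
def n72755 : Q := act 0 n33567
theorem D72755 : act 0 n33567 = n72755 := rfl
theorem F109239 : act 6 n72755 = n69134 := d21_5 (iv5 D32971) (iv1 F50787) (iv5 F25766) D33567 D72755 (iv5 D69134) (iv1 D32159) D32160 F86171 (iv1 F86168)
def n72756 : Q := act 1 n33567
theorem D72756 : act 1 n33567 = n72756 := rfl
def n72757 : Q := act 4 n33568
theorem D72757 : act 4 n33568 = n72757 := rfl
theorem F109240 : act 2 n72757 = n57670 := d1_1 D72757 F90857 (iv2 F52861)
theorem F109241 : act 3 n72757 = n35599 := d5_1 D72757 F56273 (iv3 F46209) F46210 (iv3 F52862)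
theorem F109242 : act 5 n72757 = n35598 := d9_2 D33568 D72757 (iv4 F60840) F60841 F30989 (iv5 D18255) (iv4 F21907) D27432 (iv4 F52949) (iv5 F94524) F94523 (iv5 F74445) F74444 F42513 F42510
def n72758 : Q := act 6 n33568
theorem D72758 : act 6 n33568 = n72758 := rfl
theorem F109243 : act 2 n72758 = n57707 := d3_1 D72758 (iv6 D57707) (iv2 F52861)
theorem F109244 : act 3 n72758 = n33570 := d7_1 D72758 (iv6 D33570) (iv3 F52862)
def n72759 : Q := act 0 n33569
theorem D72759 : act 0 n33569 = n72759 := rfl
def n72760 : Q := act 1 n33569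
theorem D72760 : act 1 n33569 = n72760 := rfl
def n72761 : Q := act 5 n33569
theorem D72761 : act 5 n33569 = n72761 := rfl
theorem F109245 : act 3 n72761 = n33573 := d6_1 D72761 (iv5 D33573) (iv3 F52863)
def n72762 : Q := act 7 n33569
theorem D72762 : act 7 n33569 = n72762 := rfl
theorem F109246 : act 3 n72762 = n33574 := d8_1 D72762 (iv7 D33574) (iv3 F52863)
def n72763 : Q := act 0 n33570
theorem D72763 : act 0 n33570 = n72763 := rfl
def n72764 : Q := act 1 n33570
theorem D72764 : act 1 n33570 = n72764 := rfl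
theorem F109247 : act 1 n72764 = n33684 := d15_1 D72764 (iv7 D33684) (iv2 F52864)
def n72765 : Q := act 5 n33570
theorem D72765 : act 5 n33570 = n72765 := rfl
theorem F109248 : act 2 n72765 = n33683 := d2_1 D72765 (iv5 D33683) (iv2 F52864)
theorem F109249 : act 6 n72765 = n33573 := d12_2 D33570 D72765 (iv5 D33573) (iv6 D16223) D16222
def n72766 : Q := act 7 n33570
theorem D72766 : act 7 n33570 = n72766 := rfl
theorem F109250 : act 2 n72766 = n33684 := d4_1 D72766 (iv7 D33684) (iv2 F52864)
theorem F109251 : act 1 n33684 = n72763 := d15_0 (iv0 D72763) D72766 F109250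
theorem F109252 : act 1 n33682 = n72766 := d15_1 D33682 (iv7 D72766) F52864
theorem F109253 : act 1 n72766 = n33681 := d15_0 (iv0 D33681) D33684 (iv2 F109250)
def n72767 : Q := act 2 n33571
theorem D72767 : act 2 n33571 = n72767 := rfl
def n72768 : Q := act 3 n33571
theorem D72768 : act 3 n33571 = n72768 := rfl
def n72769 : Q := act 5 n33571
theorem D72769 : act 5 n33571 = n72769 := rfl
def n72770 : Q := act 6 n33571
theorem D72770 : act 6 n33571 = n72770 := rfl
def n72771 : Q := act 7 n33571
theorem D72771 : act 7 n33571 = n72771 := rfl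
def n72772 : Q := act 3 n33572
theorem D72772 : act 3 n33572 = n72772 := rfl
def n72773 : Q := act 4 n33572
theorem D72773 : act 4 n33572 = n72773 := rfl
def n72774 : Q := act 5 n33572
theorem D72774 : act 5 n33572 = n72774 := rfl
def n72775 : Q := act 6 n33572
theorem D72775 : act 6 n33572 = n72775 := rfl
def n72776 : Q := act 0 n33573
theorem D72776 : act 0 n33573 = n72776 := rfl
def n72777 : Q := act 1 n33573
theorem D72777 : act 1 n33573 = n72777 := rfl
theorem F109256 : act 1 n72777 = n33698 := d15_1 D72777 (iv7 D33698) (iv2 F52866)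
def n72778 : Q := act 4 n33573
theorem D72778 : act 4 n33573 = n72778 := rfl
theorem F109257 : act 2 n72778 = n33697 := d1_1 D72778 (iv4 D33697) (iv2 F52866)
def n72779 : Q := act 7 n33573
theorem D72779 : act 7 n33573 = n72779 := rfl
theorem F109258 : act 2 n72779 = n33698 := d4_1 D72779 (iv7 D33698) (iv2 F52866)
theorem F109259 : act 5 n72779 = n33574 := d13_1 D72779 (iv7 D33574) D33573
theorem F109260 : act 1 n33698 = n72776 := d15_0 (iv0 D72776) D72779 F109258
theorem F109261 : act 1 n33696 = n72779 := d15_1 D33696 (iv7 D72779) F52866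
theorem F109262 : act 1 n72779 = n33695 := d15_0 (iv0 D33695) D33698 (iv2 F109258)
def n72782 : Q := act 3 n33575
theorem D72782 : act 3 n33575 = n72782 := rfl
theorem F109265 : act 7 n72782 = n33581 := d8_2 F52872 D72782 (iv3 D33581)
theorem F109266 : act 4 n60278 = n72782 := d11_3 F109265 F52874 F94834
theorem F109267 : act 2 n72782 = n60280 := d1_1 F109266 (iv4 D60280) D60278
def n72783 : Q := act 4 n33575
theorem D72783 : act 4 n33575 = n72783 := rfl
theorem F109268 : act 2 n72783 = n33577 := d1_1 D72783 (iv4 D33577) D33575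
theorem F109269 : act 7 n72783 = n33582 := d11_2 F52872 D72783 (iv4 D33582)
def n72784 : Q := act 5 n33575
theorem D72784 : act 5 n33575 = n72784 := rfl
theorem F109270 : act 2 n72784 = n33578 := d2_1 D72784 (iv5 D33578) D33575
theorem F109271 : act 7 n72784 = n33583 := d13_2 F52872 D72784 (iv5 D33583)
def n72786 : Q := act 0 n33576
theorem D72786 : act 0 n33576 = n72786 := rfl
def n72787 : Q := act 1 n33576
theorem D72787 : act 1 n33576 = n72787 := rfl
def n72788 : Q := act 2 n33576
theorem D72788 : act 2 n33576 = n72788 := rfl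
theorem F109273 : act 3 n72788 = n60280 := d0_2 D33576 D72788 (iv2 F109267) (iv3 D72782) (iv2 D33575)
theorem F109274 : act 0 n72788 = n33880 := d20_4 (iv4 F22811) D28642 D60280 (iv3 F109273) (iv3 D33880) D33881 F94865 (iv4 D60325) (iv3 D28653) (iv1 D13659)
def n72789 : Q := act 4 n33576
theorem D72789 : act 4 n33576 = n72789 := rfl
theorem F109275 : act 0 n60397 = n72789 := d20_1 D60397 (iv4 D72789) (iv3 D33576) (iv1 F25772) F11824 (iv4 F9815) (iv1 F9817) F43124 D13671 D28685
def n72790 : Q := act 5 n33576
theorem D72790 : act 5 n33576 = n72790 := rfl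
theorem F109276 : act 3 n72790 = n33578 := d6_1 D72790 (iv5 D33578) D33576
def n72791 : Q := act 6 n33576
theorem D72791 : act 6 n33576 = n72791 := rfl
theorem F109277 : act 3 n72791 = n33579 := d7_1 D72791 (iv6 D33579) D33576
def n72792 : Q := act 7 n33576
theorem D72792 : act 7 n33576 = n72792 := rfl
theorem F109278 : act 3 n72792 = n33580 := d8_1 D72792 (iv7 D33580) D33576
def n72793 : Q := act 0 n33577
theorem D72793 : act 0 n33577 = n72793 := rfl
def n72794 : Q := act 1 n33577
theorem D72794 : act 1 n33577 = n72794 := rfl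
theorem F109279 : act 1 n72794 = n33582 := d15_1 D72794 (iv7 F109269) F109268
theorem F109280 : act 4 n72794 = n60368 := d20_2 D33582 (iv1 F109279) (iv3 D60368) (iv1 D28673) (iv3 D13666) F43120 (iv1 F9818) F9815 (iv3 F11824) (iv1 F25770)
def n72795 : Q := act 3 n33577
theorem D72795 : act 3 n33577 = n72795 := rfl
def n72796 : Q := act 5 n33577
theorem D72796 : act 5 n33577 = n72796 := rfl
def n72797 : Q := act 6 n33577
theorem D72797 : act 6 n33577 = n72797 := rfl
theorem F109281 : act 4 n72797 = n33579 := d10_1 D72797 (iv6 D33579) D33577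
def n72798 : Q := act 7 n33577
theorem D72798 : act 7 n33577 = n72798 := rfl
theorem F109282 : act 2 n72798 = n33582 := d4_1 D72798 (iv7 F109269) F109268
theorem F109283 : act 4 n72798 = n33580 := d11_1 D72798 (iv7 D33580) D33577
theorem F109284 : act 1 n33582 = n72793 := d15_0 (iv0 D72793) D72798 F109282
def n72799 : Q := act 0 n33578
theorem D72799 : act 0 n33578 = n72799 := rfl
theorem F109285 : act 5 n72799 = n72548 := d21_2 D33578 D72799 (iv6 D72548) (iv1 D33473) (iv6 D16165) F11779 F11798 D3444 D7565 D16224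
def n72800 : Q := act 1 n33578
theorem D72800 : act 1 n33578 = n72800 := rfl
theorem F109286 : act 1 n72800 = n33583 := d15_1 D72800 (iv7 F109271) F109270
def n72801 : Q := act 4 n33578
theorem D72801 : act 4 n33578 = n72801 := rfl
def n72802 : Q := act 6 n33578
theorem D72802 : act 6 n33578 = n72802 := rfl
def n72803 : Q := act 7 n33578
theorem D72803 : act 7 n33578 = n72803 := rfl
theorem F109287 : act 2 n72803 = n33583 := d4_1 D72803 (iv7 F109271) F109270
theorem F109288 : act 5 n72803 = n33580 := d13_1 D72803 (iv7 D33580) D33578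
theorem F109289 : act 1 n33583 = n72799 := d15_0 (iv0 D72799) D72803 F109287
theorem F109290 : act 0 n33584 = n72526 := d21_10 (iv5 D72526) (iv1 F108776) F108771 F52612 (iv1 F52755) D72548 (iv5 F109285) (iv1 F109289) (iv5 D33583) D33584
def n72804 : Q := act 0 n33579
theorem D72804 : act 0 n33579 = n72804 := rfl
def n72805 : Q := act 1 n33579
theorem D72805 : act 1 n33579 = n72805 := rfl
def n72806 : Q := act 7 n33579
theorem D72806 : act 7 n33579 = n72806 := rfl
def n72807 : Q := act 6 n33580
theorem D72807 : act 6 n33580 = n72807 := rfl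
theorem F109291 : act 2 n72807 = n33584 := d3_1 D72807 (iv6 D33584) (iv2 F52873)
def n72808 : Q := act 0 n33581
theorem D72808 : act 0 n33581 = n72808 := rfl
theorem F109292 : act 1 n60280 = n72808 := d15_0 (iv0 D72808) (iv7 F109265) F109267
def n72809 : Q := act 1 n33581
theorem D72809 : act 1 n33581 = n72809 := rfl
def n72810 : Q := act 2 n33581
theorem D72810 : act 2 n33581 = n72810 := rfl
theorem F109293 : act 4 n72810 = n60283 := d1_2 (iv4 F52874) D72810 F94835
theorem F109294 : act 7 n72810 = n60280 := d4_2 F109265 D72810 (iv2 F109267)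
theorem F109295 : act 1 n72809 = n60280 := d15_1 D72809 (iv7 F109294) (iv2 D72810)
def n72811 : Q := act 5 n33581
theorem D72811 : act 5 n33581 = n72811 := rfl
theorem F109296 : act 3 n72811 = n33583 := d6_1 D72811 (iv5 D33583) D33581
def n72812 : Q := act 6 n33581
theorem D72812 : act 6 n33581 = n72812 := rfl
theorem F109297 : act 3 n72812 = n33584 := d7_1 D72812 (iv6 D33584) D33581
theorem F109298 : act 4 n72812 = n60286 := d10_1 D72812 (iv6 D60286) (iv4 F52874)
def n72813 : Q := act 3 n33582
theorem D72813 : act 3 n33582 = n72813 := rfl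
theorem F109299 : act 4 n72813 = n60284 := d5_2 D33582 D72813 (iv3 D60284) (iv4 F52874) (iv3 D33581)
def n72814 : Q := act 5 n33582
theorem D72814 : act 5 n33582 = n72814 := rfl
def n72815 : Q := act 6 n33582
theorem D72815 : act 6 n33582 = n72815 := rfl
theorem F109300 : act 4 n72815 = n33584 := d10_1 D72815 (iv6 D33584) D33582
def n72816 : Q := act 4 n33583
theorem D72816 : act 4 n33583 = n72816 := rfl
def n72817 : Q := act 1 n33584
theorem D72817 : act 1 n33584 = n72817 := rfl
def n72818 : Q := act 5 n33584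
theorem D72818 : act 5 n33584 = n72818 := rfl
theorem F109301 : act 0 n72311 = n72818 := d21_1 D72311 (iv5 D72818) (iv6 D33584) (iv1 D16225) (iv6 D7565) (iv5 D3444) F11796 D7524 D16112 D33369
def n72819 : Q := act 7 n33584
theorem D72819 : act 7 n33584 = n72819 := rfl
def n72820 : Q := act 0 n33585
theorem D72820 : act 0 n33585 = n72820 := rfl
def n72821 : Q := act 1 n33585
theorem D72821 : act 1 n33585 = n72821 := rfl
def n72822 : Q := act 7 n33585
theorem D72822 : act 7 n33585 = n72822 := rfl
theorem F109303 : act 2 n72822 = n33592 := d4_1 D72822 (iv7 D33592) (iv2 F52875)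
theorem F109304 : act 4 n72822 = n60259 := d11_1 D72822 (iv7 D60259) (iv4 F52876)
theorem F109305 : act 6 n72822 = n33651 := d14_1 D72822 (iv7 D33651) (iv6 F27290) F50742 D33585
theorem F109306 : act 1 n33592 = n72820 := d15_0 (iv0 D72820) D72822 F109303
theorem F109307 : act 1 n33590 = n72822 := d15_1 D33590 (iv7 D72822) F52875
theorem F109308 : act 1 n72822 = n33589 := d15_0 (iv0 D33589) D33592 (iv2 F109303)
def n72823 : Q := act 2 n33586
theorem D72823 : act 2 n33586 = n72823 := rfl
theorem F109309 : act 3 n72823 = n60252 := d0_2 D33586 D72823 (iv2 D60252) (iv3 D28632) (iv2 F27185)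
theorem F109310 : act 4 n72823 = n33598 := d1_2 (iv4 F52877) D72823 (iv2 D33598)
theorem F109311 : act 7 n72823 = n60262 := d4_2 (iv7 F52878) D72823 (iv2 D60262)
theorem F109312 : act 1 n72823 = n60260 := d15_0 (iv0 D60260) (iv7 F52878) D72823
theorem F109313 : act 1 n60261 = n72823 := d15_0 F109312 (iv7 F94812) (iv2 F94809)
theorem F109314 : act 5 n52828 = n72823 := d17_5 (iv1 F55131) F40634 (iv1 F37427) (iv5 F46143) D52828 F109312 F94807 F94828 F94824
theorem E9656 : n57604 = n57256 := ((c20_11 (iv4 F94814) (iv1 F109312) F109310 (iv3 F90538) (iv1 D57351) (iv3 D27455) F28143 (iv1 F28142) F27956 D27423 D57256)).symm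
theorem F109315 : act 2 n57256 = n27527 := (sb E9656 F90746)
theorem F109316 : act 4 n57256 = n60260 := (sb E9656 (iv4 F94814))
theorem F109317 : act 7 n57256 = n27526 := (sb E9656 (iv7 D57604))
theorem E9657 : n57599 = n57257 := (c15_4 F90325 F90320 F109317 D57599)
theorem F109318 : act 2 n57257 = n27526 := (sb E9657 (iv2 D57599))
theorem F109319 : act 3 n57257 = n33652 := (sb E9657 (iv3 F90815))
theorem F109320 : act 4 n57257 = n60261 := (sb E9657 F94808)
theorem F109321 : act 7 n57257 = n27527 := (sb E9657 (iv7 F90743))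
def n72824 : Q := act 5 n33586
theorem D72824 : act 5 n33586 = n72824 := rfl
theorem F109322 : act 2 n72824 = n52828 := d2_1 D72824 F109314 (iv2 D72823)
theorem F109323 : act 3 n72824 = n33587 := d6_1 D72824 (iv5 D33587) D33586
theorem F109324 : act 7 n72824 = n52824 := d13_2 (iv7 F52878) D72824 (iv5 F83472)
theorem F109325 : act 4 n72824 = n48731 := d16_6 (iv4 F55114) (iv5 F83469) F83470 (iv5 D33599) (iv4 F52877) D72824 F76733 F106564 F106561
theorem F109326 : act 1 n72824 = n54789 := d17_6 (iv1 F108951) F108949 F83317 (iv5 D33599) (iv4 F52877) D72824 (iv5 F109151) (iv0 F109152) F108790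
def n72825 : Q := act 6 n33586
theorem D72825 : act 6 n33586 = n72825 := rfl
theorem F109327 : act 3 n72825 = n33588 := d7_1 D72825 (iv6 D33588) D33586
theorem F109328 : act 4 n72825 = n33600 := d10_1 D72825 (iv6 D33600) (iv4 F52877)
def n72826 : Q := act 6 n33587
theorem D72826 : act 6 n33587 = n72826 := rfl
theorem F109329 : act 2 n72826 = n60255 := d3_1 D72826 (iv6 D60255) (iv2 F52879)
theorem F109330 : act 4 n72826 = n58267 := d10_1 D72826 (iv6 D58267) (iv4 F52881)
def n72827 : Q := act 0 n33588
theorem D72827 : act 0 n33588 = n72827 := rfl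
def n72828 : Q := act 1 n33588
theorem D72828 : act 1 n33588 = n72828 := rfl
theorem F109331 : act 1 n72828 = n60259 := d15_1 D72828 (iv7 D60259) (iv2 F52883)
def n72829 : Q := act 5 n33588
theorem D72829 : act 5 n33588 = n72829 := rfl
theorem F109332 : act 2 n72829 = n60258 := d2_1 D72829 (iv5 D60258) (iv2 F52883)
def n72830 : Q := act 7 n33588
theorem D72830 : act 7 n33588 = n72830 := rfl
theorem F109333 : act 2 n72830 = n60259 := d4_1 D72830 (iv7 D60259) (iv2 F52883)
theorem F109334 : act 4 n72830 = n33592 := d11_1 D72830 (iv7 D33592) (iv4 F52884)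
theorem F109335 : act 6 n72830 = n60268 := d14_1 D72830 (iv7 D60268) (iv6 D28637) (iv7 F27182) D33588
theorem F109336 : act 1 n60259 = n72827 := d15_0 (iv0 D72827) D72830 F109333
def n72831 : Q := act 2 n33589
theorem D72831 : act 2 n33589 = n72831 := rfl
theorem F109339 : act 7 n33590 = n72831 := d15_2 (iv0 D33589) D33590 (iv2 D72831)
def n72832 : Q := act 3 n33589
theorem D72832 : act 3 n33589 = n72832 := rfl
def n72833 : Q := act 4 n33589
theorem D72833 : act 4 n33589 = n72833 := rfl
def n72834 : Q := act 5 n33589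
theorem D72834 : act 5 n33589 = n72834 := rfl
def n72835 : Q := act 6 n33589
theorem D72835 : act 6 n33589 = n72835 := rfl
theorem F109340 : act 5 n72835 = n72397 := d21_6 (iv5 D15632) (iv1 F26843) F25817 D16238 D33589 D72835 (iv1 D72397) (iv5 D33419) (iv6 D16138) (iv1 F26837)
def n72836 : Q := act 7 n33589
theorem D72836 : act 7 n33589 = n72836 := rfl
theorem F109341 : act 2 n72836 = n33590 := d4_1 D72836 F109339 (iv2 D72831)
def n72837 : Q := act 3 n33590
theorem D72837 : act 3 n33590 = n72837 := rfl
def n72838 : Q := act 4 n33590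
theorem D72838 : act 4 n33590 = n72838 := rfl
def n72839 : Q := act 5 n33590
theorem D72839 : act 5 n33590 = n72839 := rfl
theorem F109342 : act 6 n69057 = n72839 := d21_5 (iv5 D32131) (iv1 D15167) D15168 (iv6 F51070) D69057 (iv5 D72839) (iv1 D33590) D33591 (iv6 F54528) F54532
def n72840 : Q := act 6 n33590
theorem D72840 : act 6 n33590 = n72840 := rfl
def n72841 : Q := act 0 n33591
theorem D72841 : act 0 n33591 = n72841 := rfl
def n72842 : Q := act 1 n33591
theorem D72842 : act 1 n33591 = n72842 := rfl
def n72843 : Q := act 7 n33591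
theorem D72843 : act 7 n33591 = n72843 := rfl
theorem F109343 : act 3 n72843 = n33621 := d8_1 D72843 (iv7 D33621) (iv3 F52885)
theorem F109344 : act 5 n72843 = n33592 := d13_1 D72843 (iv7 D33592) D33591
theorem F109345 : act 6 n72843 = n33621 := d14_1 D72843 (iv7 D33621) (iv6 F27285) (iv7 F54529) F54528
def n72844 : Q := act 0 n33593
theorem D72844 : act 0 n33593 = n72844 := rfl
theorem F109346 : act 3 n72844 = n38190 := d20_5 (iv4 F37311) (iv1 F37312) F25797 D33593 D72844 (iv4 D38190) (iv1 F42514) F42510 (iv3 D16221) (iv1 F21946)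
def n72845 : Q := act 1 n33593
theorem D72845 : act 1 n33593 = n72845 := rfl
def n72846 : Q := act 6 n33593
theorem D72846 : act 6 n33593 = n72846 := rfl
theorem F109347 : act 3 n72846 = n33594 := d7_1 D72846 (iv6 D33594) D33593
theorem F109348 : act 4 n72846 = n70412 := d10_1 D72846 (iv6 D70412) (iv4 F52887)
def n72847 : Q := act 0 n33594
theorem D72847 : act 0 n33594 = n72847 := rfl
def n72848 : Q := act 1 n33594
theorem D72848 : act 1 n33594 = n72848 := rfl
def n72849 : Q := act 5 n33594
theorem D72849 : act 5 n33594 = n72849 := rfl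
def n72850 : Q := act 7 n33594
theorem D72850 : act 7 n33594 = n72850 := rfl
theorem F109349 : act 4 n72850 = n70411 := d11_1 D72850 (iv7 D70411) (iv4 F52888)
def n72851 : Q := act 0 n33595
theorem D72851 : act 0 n33595 = n72851 := rfl
def n72852 : Q := act 1 n33595
theorem D72852 : act 1 n33595 = n72852 := rfl
def n72853 : Q := act 5 n33595
theorem D72853 : act 5 n33595 = n72853 := rfl
def n72854 : Q := act 7 n33595
theorem D72854 : act 7 n33595 = n72854 := rfl
def n72855 : Q := act 4 n33596
theorem D72855 : act 4 n33596 = n72855 := rfl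
theorem F109350 : act 2 n72855 = n57611 := d1_1 D72855 (iv4 F92112) (iv2 F92114)
theorem F109351 : act 7 n72855 = n57612 := d11_2 F90543 D72855 F90756
theorem F109352 : act 0 n72855 = n39938 := d18_2 D33596 D72855 F60760 F83230 (iv4 D52668) (iv0 F55471) D48721 (iv0 F76714) (iv5 D33599)
theorem F109353 : act 0 n57609 = n72855 := d20_7 (iv4 F55552) (iv1 F61021) (iv4 F90707) (iv3 D57559) (iv1 F90340) F90338 D57609 (iv4 D72855) (iv3 F55265) (iv1 F55268)
def n72856 : Q := act 6 n33596
theorem D72856 : act 6 n33596 = n72856 := rfl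
def n72857 : Q := act 3 n33597
theorem D72857 : act 3 n33597 = n72857 := rfl
theorem F109354 : act 0 n72857 = n38195 := d20_10 (iv4 D38195) (iv1 D18253) (iv4 F21907) (iv3 D13132) D13130 D27423 (iv4 F60760) F83710 F83711 D72857
def n72858 : Q := act 6 n33597
theorem D72858 : act 6 n33597 = n72858 := rfl
def n72859 : Q := act 6 n33598
theorem D72859 : act 6 n33598 = n72859 := rfl
theorem F109355 : act 2 n72859 = n33600 := d3_1 D72859 (iv6 D33600) D33598
def n72860 : Q := act 6 n33599
theorem D72860 : act 6 n33599 = n72860 := rfl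
theorem F109356 : act 3 n72860 = n33603 := d7_1 D72860 (iv6 D33603) (iv3 F52890)
def n72861 : Q := act 0 n33600
theorem D72861 : act 0 n33600 = n72861 := rfl
def n72862 : Q := act 1 n33600
theorem D72862 : act 1 n33600 = n72862 := rfl
def n72863 : Q := act 5 n33600
theorem D72863 : act 5 n33600 = n72863 := rfl
theorem F109357 : act 3 n72863 = n33606 := d6_1 D72863 (iv5 D33606) (iv3 F52891)
def n72864 : Q := act 7 n33600
theorem D72864 : act 7 n33600 = n72864 := rfl
theorem F109358 : act 3 n72864 = n33607 := d8_1 D72864 (iv7 D33607) (iv3 F52891)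
def n72865 : Q := act 3 n33601
theorem D72865 : act 3 n33601 = n72865 := rfl
theorem F109359 : act 5 n72865 = n70374 := d6_2 (iv5 F52892) D72865 (iv3 D70374)
theorem F109360 : act 7 n72865 = n72428 := d8_2 F52895 D72865 F108940
def n72866 : Q := act 6 n33601
theorem D72866 : act 6 n33601 = n72866 := rfl
theorem F109361 : act 2 n72866 = n72435 := d3_1 D72866 (iv6 D72435) F52894
def n72867 : Q := act 6 n33602
theorem D72867 : act 6 n33602 = n72867 := rfl
theorem F109362 : act 2 n72867 = n72430 := d3_1 D72867 (iv6 D72430) F52899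
def n72868 : Q := act 0 n33603
theorem D72868 : act 0 n33603 = n72868 := rfl
def n72869 : Q := act 1 n33603
theorem D72869 : act 1 n33603 = n72869 := rfl
def n72870 : Q := act 5 n33603
theorem D72870 : act 5 n33603 = n72870 := rfl
theorem F109363 : act 6 n72870 = n33606 := d12_2 D33603 D72870 (iv5 D33606) (iv6 D16244) D16243
def n72871 : Q := act 7 n33603
theorem D72871 : act 7 n33603 = n72871 := rfl
def n72872 : Q := act 2 n33604
theorem D72872 : act 2 n33604 = n72872 := rfl
theorem F109364 : act 7 n33605 = n72872 := d15_2 (iv0 D33604) D33605 (iv2 D72872)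
def n72873 : Q := act 3 n33604
theorem D72873 : act 3 n33604 = n72873 := rfl
def n72874 : Q := act 4 n33604
theorem D72874 : act 4 n33604 = n72874 := rfl
def n72875 : Q := act 5 n33604
theorem D72875 : act 5 n33604 = n72875 := rfl
def n72876 : Q := act 6 n33604
theorem D72876 : act 6 n33604 = n72876 := rfl
def n72877 : Q := act 7 n33604
theorem D72877 : act 7 n33604 = n72877 := rfl
theorem F109365 : act 2 n72877 = n33605 := d4_1 D72877 F109364 (iv2 D72872)
def n72878 : Q := act 3 n33605
theorem D72878 : act 3 n33605 = n72878 := rfl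
def n72879 : Q := act 4 n33605
theorem D72879 : act 4 n33605 = n72879 := rfl
def n72880 : Q := act 5 n33605
theorem D72880 : act 5 n33605 = n72880 := rfl
def n72881 : Q := act 6 n33605
theorem D72881 : act 6 n33605 = n72881 := rfl
def n72882 : Q := act 0 n33606
theorem D72882 : act 0 n33606 = n72882 := rfl
def n72883 : Q := act 1 n33606
theorem D72883 : act 1 n33606 = n72883 := rfl
theorem F109366 : act 5 n72661 = n72883 := d21_6 (iv5 F52736) (iv1 F52737) (iv5 D16201) D16202 D33532 D72661 (iv1 D72883) (iv5 D33606) (iv6 D16244) D16240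
def n72884 : Q := act 4 n33606
theorem D72884 : act 4 n33606 = n72884 := rfl
def n72885 : Q := act 7 n33606
theorem D72885 : act 7 n33606 = n72885 := rfl
theorem F109367 : act 5 n72885 = n33607 := d13_1 D72885 (iv7 D33607) D33606
def n72889 : Q := act 4 n33608
theorem D72889 : act 4 n33608 = n72889 := rfl
theorem F109371 : act 2 n72889 = n33610 := d1_1 D72889 (iv4 D33610) D33608
theorem F109372 : act 7 n72889 = n33615 := d11_2 F52901 D72889 (iv4 D33615)
def n72890 : Q := act 5 n33608
theorem D72890 : act 5 n33608 = n72890 := rfl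
theorem F109373 : act 2 n72890 = n33611 := d2_1 D72890 (iv5 D33611) D33608
theorem F109374 : act 7 n72890 = n33616 := d13_2 F52901 D72890 (iv5 D33616)
def n72891 : Q := act 6 n33608
theorem D72891 : act 6 n33608 = n72891 := rfl
theorem F109375 : act 2 n72891 = n33612 := d3_1 D72891 (iv6 D33612) D33608
def n72896 : Q := act 5 n33609
theorem D72896 : act 5 n33609 = n72896 := rfl
theorem F109376 : act 3 n72896 = n33611 := d6_1 D72896 (iv5 D33611) D33609
def n72899 : Q := act 0 n33610
theorem D72899 : act 0 n33610 = n72899 := rfl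
def n72900 : Q := act 1 n33610
theorem D72900 : act 1 n33610 = n72900 := rfl
theorem F109379 : act 1 n72900 = n33615 := d15_1 D72900 (iv7 F109372) F109371
def n72901 : Q := act 3 n33610
theorem D72901 : act 3 n33610 = n72901 := rfl
def n72902 : Q := act 5 n33610
theorem D72902 : act 5 n33610 = n72902 := rfl
def n72903 : Q := act 6 n33610
theorem D72903 : act 6 n33610 = n72903 := rfl
theorem F109380 : act 4 n72903 = n33612 := d10_1 D72903 (iv6 D33612) D33610
def n72904 : Q := act 7 n33610
theorem D72904 : act 7 n33610 = n72904 := rfl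
theorem F109381 : act 2 n72904 = n33615 := d4_1 D72904 (iv7 F109372) F109371
theorem F109383 : act 1 n33615 = n72899 := d15_0 (iv0 D72899) D72904 F109381
def n72905 : Q := act 0 n33611
theorem D72905 : act 0 n33611 = n72905 := rfl
theorem F109384 : act 5 n72905 = n34382 := d21_2 D33611 D72905 (iv6 D34382) (iv1 D16662) (iv6 D7752) (iv5 D3515) D3512 (iv5 F25818) D7570 D16251
def n72906 : Q := act 1 n33611
theorem D72906 : act 1 n33611 = n72906 := rfl
theorem F109385 : act 1 n72906 = n33616 := d15_1 D72906 (iv7 F109374) F109373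
def n72907 : Q := act 4 n33611
theorem D72907 : act 4 n33611 = n72907 := rfl
def n72908 : Q := act 6 n33611
theorem D72908 : act 6 n33611 = n72908 := rfl
def n72909 : Q := act 7 n33611
theorem D72909 : act 7 n33611 = n72909 := rfl
theorem F109386 : act 2 n72909 = n33616 := d4_1 D72909 (iv7 F109374) F109373
theorem F109388 : act 1 n33616 = n72905 := d15_0 (iv0 D72905) D72909 F109386
def n72910 : Q := act 0 n33612
theorem D72910 : act 0 n33612 = n72910 := rfl
def n72913 : Q := act 6 n33613
theorem D72913 : act 6 n33613 = n72913 := rfl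
theorem F109389 : act 2 n72913 = n33617 := d3_1 D72913 (iv6 D33617) (iv2 F52902)
def n72918 : Q := act 5 n33614
theorem D72918 : act 5 n33614 = n72918 := rfl
theorem F109390 : act 3 n72918 = n33616 := d6_1 D72918 (iv5 D33616) D33614
def n72919 : Q := act 6 n33614
theorem D72919 : act 6 n33614 = n72919 := rfl
theorem F109391 : act 3 n72919 = n33617 := d7_1 D72919 (iv6 D33617) D33614
def n72920 : Q := act 3 n33615
theorem D72920 : act 3 n33615 = n72920 := rfl
def n72921 : Q := act 5 n33615
theorem D72921 : act 5 n33615 = n72921 := rfl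
def n72922 : Q := act 6 n33615
theorem D72922 : act 6 n33615 = n72922 := rfl
def n72923 : Q := act 4 n33616
theorem D72923 : act 4 n33616 = n72923 := rfl
def n72924 : Q := act 6 n33616
theorem D72924 : act 6 n33616 = n72924 := rfl
theorem F109393 : act 0 n69064 = n72924 := d21_4 F54533 (iv1 F54025) (iv5 F51079) D69064 (iv6 D72924) (iv5 D33616) (iv1 D16252) D16253 (iv6 F27285) D34362
def n72925 : Q := act 0 n33617
theorem D72925 : act 0 n33617 = n72925 := rfl
def n72926 : Q := act 1 n33617
theorem D72926 : act 1 n33617 = n72926 := rfl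
def n72927 : Q := act 5 n33617
theorem D72927 : act 5 n33617 = n72927 := rfl
def n72928 : Q := act 7 n33617
theorem D72928 : act 7 n33617 = n72928 := rfl
def n72929 : Q := act 2 n33618
theorem D72929 : act 2 n33618 = n72929 := rfl
theorem F109394 : act 7 n33619 = n72929 := d15_2 (iv0 D33618) D33619 (iv2 D72929)
theorem F109395 : act 5 n72929 = n72697 := d13_1 F109394 (iv7 D72697) F52903
def n72930 : Q := act 3 n33618
theorem D72930 : act 3 n33618 = n72930 := rfl
def n72931 : Q := act 4 n33618
theorem D72931 : act 4 n33618 = n72931 := rfl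
def n72932 : Q := act 5 n33618
theorem D72932 : act 5 n33618 = n72932 := rfl
theorem F109396 : act 2 n72932 = n72697 := d2_1 D72932 (iv5 F109395) (iv2 D72929)
theorem F109397 : act 6 n72932 = n69259 := d12_2 (iv6 F105270) D72932 F105529 (iv6 D69056) D69055
theorem F109398 : act 7 n72676 = n72932 := d4_0 F109396 (iv7 D72697) (iv2 F109193)
theorem F109399 : act 1 n72932 = n72695 := d15_0 (iv0 D72695) D72697 (iv2 F109396)
theorem E9658 : n72710 = n69259 := ((c14_2 F109398 F109397 (iv7 D72710) (iv6 D33545) F52850 D72676)).symm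
theorem F109400 : act 7 n69259 = n33545 := (sb E9658 (iv7 D72710))
theorem F109401 : act 1 n72696 = n72932 := d15_1 D72696 (iv7 F109398) F109193
theorem F109402 : act 7 n33718 = n69056 := d13_2 F109400 (iv5 F52972) (iv5 F105529)
theorem E9659 : n72698 = n69260 := (c15_4 F105530 F105534 F109400 (iv2 F109208))
theorem F109403 : act 2 n69260 = n33545 := (sb E9659 F109208)
theorem F109404 : act 6 n69260 = n33541 := (sb E9659 (iv6 D72698))
theorem F109405 : act 0 n58366 = n72694 := d21_7 (iv5 D32200) (iv1 F51108) F51105 (iv6 F44865) (iv1 F44867) D27786 D58366 F109205 (iv6 F109404) (iv1 D69260)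
theorem E9660 : n72675 = n72542 := ((c15_2 (iv0 F109405) (iv0 F109041) F109192 (iv2 F109204))).symm
theorem E9661 : n33536 = n33472 := ((((iv5 D72542)).symm.trans (sb E9660 (iv5 D72675)))).symm
theorem F109407 : act 7 n72542 = n33544 := (sb E9660 F109192)
theorem E9662 : n72671 = n16206 := ((((iv1 F52754)).symm.trans (sb E9661 D72671))).symm
theorem E9666 : n72674 = n72541 := (((D72541).symm.trans (sb E9661 D72674))).symm
theorem E9667 : n72676 = n72543 := (((D72543).symm.trans (sb E9661 D72676))).symm
theorem E9668 : n72544 = n16204 := ((D72544).symm.trans (sb E9661 (iv7 F52850)))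
theorem E9669 : n33541 = n33473 := ((((iv1 F52755)).symm.trans (sb E9662 (iv1 F109186)))).symm
theorem F109410 : act 2 n72541 = n33538 := (sb E9666 F109189)
theorem F109411 : act 7 n72541 = n33543 := (sb E9666 F109190)
theorem F109413 : act 7 n72543 = n72932 := (sb E9667 F109398)
theorem F109414 : act 7 n16204 = n33472 := (sb E9668 (iv7 D72544))
theorem F109415 : act 2 n33473 = n16204 := (sb E9669 F52851)
theorem E9671 : n72689 = n72546 := (((D72546).symm.trans (sb E9669 (iv4 F109200)))).symm
theorem E9673 : n72548 = n69260 := ((D72548).symm.trans (sb E9669 (iv6 F109404)))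
theorem F109416 : act 7 n33473 = n16203 := (sb E9669 (iv7 D33541))
theorem F109418 : act 2 n72546 = n33543 := (sb E9671 F109199)
theorem F109419 : act 7 n72546 = n33538 := (sb E9671 (iv7 D72689))
theorem F109423 : act 5 n69260 = n72799 := (sb E9673 (iv5 F109285))
theorem F109424 : act 6 n69260 = n33473 := (sb E9673 (iv6 D72548))
theorem F109425 : act 2 n72799 = n33718 := d2_1 F109423 F52972 (iv2 F109403)
theorem F109426 : act 7 n33719 = n72799 := d15_2 (iv0 D33718) D33719 F109425
theorem F109427 : act 2 n33719 = n69056 := d4_3 (iv7 F109402) (iv2 F109425) (iv7 F109426)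
theorem E9674 : n72800 = n69056 := (c15_2 (iv0 D72799) D72800 (iv7 F109402) (iv2 F109425))
theorem F109428 : act 0 n69056 = n33578 := (sb E9674 (iv1 D72800))
theorem F109429 : act 1 n69056 = n33583 := (sb E9674 F109286)
theorem F109430 : act 6 n69052 = n33719 := d3_0 F109427 (iv6 D69056) (iv2 F105269)
theorem F109431 : act 7 n33618 = n58308 := d13_2 F109413 (iv5 D72932) (iv5 F109042)
theorem F109432 : act 2 n58308 = n33619 := d4_1 F109431 F109394 (iv2 D72929)
theorem E9675 : n72929 = n58307 := (c15_4 (iv0 D58307) D58308 (iv7 F109431) D72929)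
theorem F109433 : act 2 n58307 = n33618 := (sb E9675 (iv2 D72929))
theorem F109434 : act 5 n58307 = n72697 := (sb E9675 F109395)
theorem F109435 : act 7 n58307 = n33619 := (sb E9675 (iv7 F109394))
def n72933 : Q := act 3 n33619
theorem D72933 : act 3 n33619 = n72933 := rfl
theorem F109436 : act 5 n72933 = n72682 := d6_2 F52903 D72933 F109195
def n72934 : Q := act 4 n33619
theorem D72934 : act 4 n33619 = n72934 := rfl
def n72935 : Q := act 6 n33619
theorem D72935 : act 6 n33619 = n72935 := rfl
theorem F109437 : act 5 n72935 = n72693 := d12_1 D72935 (iv6 D72693) (iv5 D33539) D33540 F52903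
def n72936 : Q := act 6 n33622
theorem D72936 : act 6 n33622 = n72936 := rfl
theorem F109438 : act 2 n72936 = n33625 := d3_1 D72936 (iv6 D33625) (iv2 F52905)
theorem F109439 : act 4 n72936 = n33623 := d10_1 D72936 (iv6 D33623) D33622
def n72937 : Q := act 0 n33623
theorem D72937 : act 0 n33623 = n72937 := rfl
def n72938 : Q := act 1 n33623
theorem D72938 : act 1 n33623 = n72938 := rfl
theorem F109440 : act 1 n72938 = n33628 := d15_1 D72938 (iv7 D33628) (iv2 F52910)
def n72939 : Q := act 7 n33623
theorem D72939 : act 7 n33623 = n72939 := rfl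
theorem F109441 : act 2 n72939 = n33628 := d4_1 D72939 (iv7 D33628) (iv2 F52910)
theorem F109442 : act 3 n72939 = n33651 := d8_1 D72939 (iv7 D33651) (iv3 F52911)
theorem F109443 : act 5 n72939 = n33628 := d13_1 D72939 (iv7 D33628) (iv5 F52912)
theorem F109444 : act 1 n33628 = n72937 := d15_0 (iv0 D72937) D72939 F109441
theorem F109445 : act 1 n33627 = n72939 := d15_1 D33627 (iv7 D72939) F52910
theorem F109446 : act 1 n72939 = n33626 := d15_0 (iv0 D33626) D33628 (iv2 F109441)
def n72940 : Q := act 0 n33624
theorem D72940 : act 0 n33624 = n72940 := rfl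
theorem F109447 : act 5 n72940 = n41460 := d17_3 F68201 (iv5 F52914) D72940 F63907 (iv5 F68231) F68229 (iv5 F41511) F32599 D43396
theorem F109448 : act 3 n72940 = n38607 := d20_5 (iv4 F30819) F27190 D16259 D33624 D72940 (iv4 F59921) (iv1 F85709) F85705 (iv3 D32463) (iv1 F30818)
theorem F109449 : act 7 n46552 = n72940 := d8_0 F109448 F74233 D46552
def n72941 : Q := act 1 n33624
theorem D72941 : act 1 n33624 = n72941 := rfl
theorem F109450 : act 5 n72941 = n44045 := d18_9 (iv1 F109129) F109128 (iv1 D41561) F31336 D19584 (iv4 F52917) (iv0 D33629) (iv4 F52913) D72941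
theorem F109451 : act 2 n46552 = n72941 := d2_3 F109450 F69343 (iv5 F74236)
def n72942 : Q := act 2 n33624
theorem D72942 : act 2 n33624 = n72942 := rfl
theorem F109452 : act 3 n72942 = n47125 := d0_2 D33624 D72942 F74365 (iv3 F58368) F52905
theorem F109453 : act 4 n72942 = n33630 := d1_2 (iv4 F52913) D72942 (iv2 D33630)
theorem F109454 : act 5 n72942 = n46530 := d2_2 (iv5 F52914) D72942 (iv2 F73525)
theorem F109455 : act 1 n72942 = n46552 := d15_0 (iv0 F92143) F92142 D72942
def n72943 : Q := act 6 n33624
theorem D72943 : act 6 n33624 = n72943 := rfl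
theorem F109456 : act 3 n72943 = n33625 := d7_1 D72943 (iv6 D33625) D33624
theorem F109457 : act 4 n72943 = n33632 := d10_1 D72943 (iv6 D33632) (iv4 F52913)
def n72944 : Q := act 0 n33625
theorem D72944 : act 0 n33625 = n72944 := rfl
def n72945 : Q := act 1 n33625
theorem D72945 : act 1 n33625 = n72945 := rfl
def n72946 : Q := act 5 n33625
theorem D72946 : act 5 n33625 = n72946 := rfl
theorem F109458 : act 6 n72946 = n47062 := d12_2 D33625 D72946 (iv5 D47062) (iv6 D22634) F25811
def n72947 : Q := act 7 n33625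
theorem D72947 : act 7 n33625 = n72947 := rfl
theorem F109459 : act 4 n72947 = n33628 := d11_1 D72947 (iv7 D33628) (iv4 F52915)
def n72948 : Q := act 2 n33626
theorem D72948 : act 2 n33626 = n72948 := rfl
theorem F109460 : act 7 n33627 = n72948 := d15_2 (iv0 D33626) D33627 (iv2 D72948)
def n72949 : Q := act 3 n33626
theorem D72949 : act 3 n33626 = n72949 := rfl
def n72950 : Q := act 4 n33626
theorem D72950 : act 4 n33626 = n72950 := rfl
def n72951 : Q := act 5 n33626
theorem D72951 : act 5 n33626 = n72951 := rfl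
def n72952 : Q := act 6 n33626
theorem D72952 : act 6 n33626 = n72952 := rfl
def n72953 : Q := act 7 n33626
theorem D72953 : act 7 n33626 = n72953 := rfl
def n72954 : Q := act 3 n33627
theorem D72954 : act 3 n33627 = n72954 := rfl
def n72955 : Q := act 4 n33627
theorem D72955 : act 4 n33627 = n72955 := rfl
def n72956 : Q := act 5 n33627
theorem D72956 : act 5 n33627 = n72956 := rfl
theorem F109462 : act 6 n72297 = n72956 := d21_5 (iv5 D15668) (iv1 F11814) D16107 D33360 D72297 (iv5 D72956) (iv1 D33627) (iv5 F52912) (iv6 D33623) (iv1 F27189)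
def n72957 : Q := act 6 n33627
theorem D72957 : act 6 n33627 = n72957 := rfl
def n72958 : Q := act 6 n33629
theorem D72958 : act 6 n33629 = n72958 := rfl
theorem F109463 : act 4 n72958 = n41583 := d10_1 D72958 (iv6 D41583) (iv4 F52917)
def n72959 : Q := act 5 n33630
theorem D72959 : act 5 n33630 = n72959 := rfl
theorem F109464 : act 2 n72959 = n33631 := d2_1 D72959 (iv5 D33631) D33630
theorem F109465 : act 4 n72959 = n35081 := d9_1 D72959 F55725 F72753 F72752 (iv4 F73428) (iv5 F92141) F92140 D58289 F92151 F55732 (iv4 F72751) F72750 (iv4 F73523) (iv5 F109454) F109453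
theorem F109466 : act 7 n72959 = n70189 := d13_2 F90536 D72959 F106640
theorem F109467 : act 0 n72959 = n56972 := d17_2 (iv1 F59414) D72959 (iv5 D56972) F44238 F34697 F34695 (iv5 F34602) (iv0 D22131) D22133
theorem F109468 : act 1 n72959 = n46865 := d17_6 F73529 (iv5 D46531) D46530 (iv5 F109454) F109453 D72959 (iv5 D46865) (iv0 F52825) (iv4 F52824)
def n72960 : Q := act 6 n33630
theorem D72960 : act 6 n33630 = n72960 := rfl
theorem F109469 : act 2 n72960 = n33632 := d3_1 D72960 (iv6 D33632) D33630
def n72961 : Q := act 6 n33631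
theorem D72961 : act 6 n33631 = n72961 := rfl
theorem F109470 : act 3 n72961 = n33633 := d7_1 D72961 (iv6 D33633) (iv3 F52919)
theorem F109471 : act 4 n72961 = n70191 := d10_1 D72961 (iv6 D70191) F55711
def n72962 : Q := act 0 n33632
theorem D72962 : act 0 n33632 = n72962 := rfl
def n72963 : Q := act 1 n33632
theorem D72963 : act 1 n33632 = n72963 := rfl
def n72964 : Q := act 5 n33632
theorem D72964 : act 5 n33632 = n72964 := rfl
theorem F109472 : act 3 n72964 = n33636 := d6_1 D72964 (iv5 D33636) (iv3 F52920)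
def n72965 : Q := act 7 n33632
theorem D72965 : act 7 n33632 = n72965 := rfl
theorem F109473 : act 3 n72965 = n33637 := d8_1 D72965 (iv7 D33637) (iv3 F52920)
def n72966 : Q := act 0 n33633
theorem D72966 : act 0 n33633 = n72966 := rfl
def n72967 : Q := act 1 n33633
theorem D72967 : act 1 n33633 = n72967 := rfl
def n72968 : Q := act 5 n33633
theorem D72968 : act 5 n33633 = n72968 := rfl
theorem F109474 : act 6 n72968 = n33636 := d12_2 D33633 D72968 (iv5 D33636) (iv6 D16263) D16262
def n72969 : Q := act 7 n33633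
theorem D72969 : act 7 n33633 = n72969 := rfl
def n72970 : Q := act 2 n33634
theorem D72970 : act 2 n33634 = n72970 := rfl
theorem F109475 : act 7 n33635 = n72970 := d15_2 (iv0 D33634) D33635 (iv2 D72970)
def n72971 : Q := act 3 n33634
theorem D72971 : act 3 n33634 = n72971 := rfl
def n72972 : Q := act 4 n33634
theorem D72972 : act 4 n33634 = n72972 := rfl
def n72973 : Q := act 5 n33634
theorem D72973 : act 5 n33634 = n72973 := rfl
def n72974 : Q := act 6 n33634
theorem D72974 : act 6 n33634 = n72974 := rfl
def n72975 : Q := act 7 n33634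
theorem D72975 : act 7 n33634 = n72975 := rfl
theorem F109476 : act 2 n72975 = n33635 := d4_1 D72975 F109475 (iv2 D72970)
def n72976 : Q := act 3 n33635
theorem D72976 : act 3 n33635 = n72976 := rfl
def n72977 : Q := act 4 n33635
theorem D72977 : act 4 n33635 = n72977 := rfl
def n72978 : Q := act 5 n33635
theorem D72978 : act 5 n33635 = n72978 := rfl
def n72979 : Q := act 6 n33635
theorem D72979 : act 6 n33635 = n72979 := rfl
def n72980 : Q := act 0 n33636
theorem D72980 : act 0 n33636 = n72980 := rfl
def n72981 : Q := act 1 n33636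
theorem D72981 : act 1 n33636 = n72981 := rfl
theorem F109477 : act 5 n72469 = n72981 := d21_6 (iv5 F52739) (iv1 D33449) (iv5 D16158) D16159 D33452 D72469 (iv1 D72981) (iv5 D33636) (iv6 D16263) (iv1 F25801)
def n72982 : Q := act 4 n33636
theorem D72982 : act 4 n33636 = n72982 := rfl
def n72983 : Q := act 7 n33636
theorem D72983 : act 7 n33636 = n72983 := rfl
theorem F109478 : act 5 n72983 = n33637 := d13_1 D72983 (iv7 D33637) D33636
def n72984 : Q := act 0 n33638
theorem D72984 : act 0 n33638 = n72984 := rfl
theorem F109479 : act 1 n33643 = n72984 := d15_0 (iv0 D72984) (iv7 F52922) (iv2 F52923)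
def n72986 : Q := act 3 n33638
theorem D72986 : act 3 n33638 = n72986 := rfl
theorem F109481 : act 7 n72986 = n33644 := d8_2 F52922 D72986 (iv3 D33644)
def n72987 : Q := act 4 n33638
theorem D72987 : act 4 n33638 = n72987 := rfl
theorem F109482 : act 2 n72987 = n33640 := d1_1 D72987 (iv4 D33640) D33638
theorem F109483 : act 7 n72987 = n33645 := d11_2 F52922 D72987 (iv4 D33645)
def n72988 : Q := act 5 n33638
theorem D72988 : act 5 n33638 = n72988 := rfl
theorem F109484 : act 2 n72988 = n33641 := d2_1 D72988 (iv5 D33641) D33638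
theorem F109485 : act 7 n72988 = n33646 := d13_2 F52922 D72988 (iv5 D33646)
def n72989 : Q := act 6 n33638
theorem D72989 : act 6 n33638 = n72989 := rfl
theorem F109486 : act 2 n72989 = n33642 := d3_1 D72989 (iv6 D33642) D33638
def n72994 : Q := act 5 n33639
theorem D72994 : act 5 n33639 = n72994 := rfl
theorem F109487 : act 3 n72994 = n33641 := d6_1 D72994 (iv5 D33641) D33639
def n72995 : Q := act 6 n33639
theorem D72995 : act 6 n33639 = n72995 := rfl
theorem F109488 : act 3 n72995 = n33642 := d7_1 D72995 (iv6 D33642) D33639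
def n72996 : Q := act 7 n33639
theorem D72996 : act 7 n33639 = n72996 := rfl
theorem F109489 : act 3 n72996 = n33643 := d8_1 D72996 (iv7 D33643) D33639
def n72997 : Q := act 0 n33640
theorem D72997 : act 0 n33640 = n72997 := rfl
def n72998 : Q := act 1 n33640
theorem D72998 : act 1 n33640 = n72998 := rfl
theorem F109490 : act 1 n72998 = n33645 := d15_1 D72998 (iv7 F109483) F109482
def n72999 : Q := act 3 n33640
theorem D72999 : act 3 n33640 = n72999 := rfl
def n73000 : Q := act 5 n33640
theorem D73000 : act 5 n33640 = n73000 := rfl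
def n73001 : Q := act 6 n33640
theorem D73001 : act 6 n33640 = n73001 := rfl
theorem F109491 : act 4 n73001 = n33642 := d10_1 D73001 (iv6 D33642) D33640
def n73002 : Q := act 7 n33640
theorem D73002 : act 7 n33640 = n73002 := rfl
theorem F109492 : act 2 n73002 = n33645 := d4_1 D73002 (iv7 F109483) F109482
theorem F109493 : act 4 n73002 = n33643 := d11_1 D73002 (iv7 D33643) D33640
theorem F109494 : act 1 n33645 = n72997 := d15_0 (iv0 D72997) D73002 F109492
def n73003 : Q := act 0 n33641
theorem D73003 : act 0 n33641 = n73003 := rfl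
def n73004 : Q := act 1 n33641
theorem D73004 : act 1 n33641 = n73004 := rfl
theorem F109495 : act 1 n73004 = n33646 := d15_1 D73004 (iv7 F109485) F109484
def n73005 : Q := act 4 n33641
theorem D73005 : act 4 n33641 = n73005 := rfl
def n73006 : Q := act 6 n33641
theorem D73006 : act 6 n33641 = n73006 := rfl
def n73007 : Q := act 7 n33641
theorem D73007 : act 7 n33641 = n73007 := rfl
theorem F109496 : act 2 n73007 = n33646 := d4_1 D73007 (iv7 F109485) F109484
theorem F109497 : act 5 n73007 = n33643 := d13_1 D73007 (iv7 D33643) D33641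
theorem F109498 : act 1 n33646 = n73003 := d15_0 (iv0 D73003) D73007 F109496
theorem F109499 : act 6 n72340 = n73007 := d3_0 F109496 (iv6 F52924) D72340
theorem F109500 : act 7 n73006 = n72348 := d14_4 F108795 F109499 (iv7 D73007) D73006 (iv6 D72348)
def n73008 : Q := act 0 n33642
theorem D73008 : act 0 n33642 = n73008 := rfl
def n73009 : Q := act 1 n33642
theorem D73009 : act 1 n33642 = n73009 := rfl
def n73010 : Q := act 7 n33642
theorem D73010 : act 7 n33642 = n73010 := rfl
def n73011 : Q := act 6 n33643
theorem D73011 : act 6 n33643 = n73011 := rfl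
theorem F109501 : act 2 n73011 = n33647 := d3_1 D73011 (iv6 D33647) (iv2 F52923)
def n73016 : Q := act 5 n33644
theorem D73016 : act 5 n33644 = n73016 := rfl
theorem F109502 : act 3 n73016 = n33646 := d6_1 D73016 (iv5 D33646) D33644
theorem F109503 : act 6 n72341 = n73016 := d7_0 F109502 (iv6 F52924) D72341
def n73017 : Q := act 6 n33644
theorem D73017 : act 6 n33644 = n73017 := rfl
theorem F109504 : act 3 n73017 = n33647 := d7_1 D73017 (iv6 D33647) D33644
def n73018 : Q := act 3 n33645
theorem D73018 : act 3 n33645 = n73018 := rfl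
def n73019 : Q := act 5 n33645
theorem D73019 : act 5 n33645 = n73019 := rfl
def n73020 : Q := act 6 n33645
theorem D73020 : act 6 n33645 = n73020 := rfl
theorem F109505 : act 4 n73020 = n33647 := d10_1 D73020 (iv6 D33647) D33645
def n73021 : Q := act 4 n33646
theorem D73021 : act 4 n33646 = n73021 := rfl
theorem F109506 : act 6 n73021 = n72342 := d10_2 F52924 D73021 (iv4 D72342)
def n73022 : Q := act 0 n33647
theorem D73022 : act 0 n33647 = n73022 := rfl
def n73023 : Q := act 1 n33647
theorem D73023 : act 1 n33647 = n73023 := rfl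
def n73024 : Q := act 5 n33647
theorem D73024 : act 5 n33647 = n73024 := rfl
theorem F109507 : act 6 n73024 = n72343 := d12_2 D33647 D73024 (iv5 D72343) F52924 (iv5 D33646)
theorem F109508 : act 0 n34376 = n73024 := d21_1 D34376 (iv5 D73024) (iv6 D33647) (iv1 D16265) (iv6 D7575) (iv5 F25814) (iv1 D3513) D3515 D7752 D16661
theorem F109509 : act 0 n73024 = n34381 := d21_10 (iv5 D34381) (iv1 D16662) (iv5 F27111) (iv6 D16622) (iv1 F50803) (iv6 F52632) (iv5 D33388) D33386 D72343 (iv6 F109507)
theorem F109510 : act 0 n34382 = n72697 := d21_10 (iv5 F109434) (iv1 F92175) F52904 (iv6 F44823) (iv1 F44825) D33647 D73024 F109509 (iv5 D34381) D34382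
theorem F109511 : act 1 n34382 = n72543 := d15_1 (iv0 F109510) F109413 F109396
def n73025 : Q := act 7 n33647
theorem D73025 : act 7 n33647 = n73025 := rfl
def n73026 : Q := act 2 n33648
theorem D73026 : act 2 n33648 = n73026 := rfl
theorem F109512 : act 7 n33649 = n73026 := d15_2 (iv0 D33648) D33649 (iv2 D73026)
theorem F109513 : act 5 n73026 = n72507 := d13_1 F109512 (iv7 D72507) F52925
def n73027 : Q := act 3 n33648
theorem D73027 : act 3 n33648 = n73027 := rfl
def n73028 : Q := act 4 n33648
theorem D73028 : act 4 n33648 = n73028 := rfl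
def n73029 : Q := act 5 n33648
theorem D73029 : act 5 n33648 = n73029 := rfl
theorem F109514 : act 2 n73029 = n72507 := d2_1 D73029 (iv5 F109513) (iv2 D73026)
theorem F109515 : act 7 n72488 = n73029 := d4_0 F109514 (iv7 D72507) (iv2 F109009)
theorem F109516 : act 1 n73029 = n72506 := d15_0 (iv0 D72506) D72507 (iv2 F109514)
theorem F109517 : act 6 n73029 = n72522 := d14_1 F109515 (iv7 D72522) (iv6 D33466) F52746 D72488
theorem F109518 : act 1 n69262 = n73029 := d15_1 (iv0 F105531) (iv7 F109515) F109009
theorem F109519 : act 5 n58344 = n72522 := d21_2 D27785 (iv1 F92207) (iv6 F109517) (iv1 F109518) (iv6 D69262) (iv5 D32200) (iv1 F51108) F51105 (iv6 F44865) (iv1 F44867)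
theorem F109520 : act 7 n72521 = n58344 := d13_0 F109519 (iv7 D72522) D72521
theorem F109521 : act 2 n72521 = n58343 := d15_3 (iv0 D58343) D58344 (iv7 F109520)
theorem E9676 : n72508 = n72317 := ((c2_3 D72521 F109521 F108765 F109023)).symm
theorem F109522 : act 2 n72317 = n33466 := (sb E9676 F109023)
theorem E9677 : n33462 = n33370 := ((((iv6 D72317)).symm.trans (sb E9676 (iv6 D72508)))).symm
theorem E9678 : n72484 = n16112 := ((((iv1 D33370)).symm.trans (sb E9677 (iv1 F109003)))).symm
theorem E9680 : n72313 = n16162 := (((iv2 F108764)).symm.trans (sb E9677 F52747))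
theorem E9681 : n72495 = n72314 := (((D72314).symm.trans (sb E9677 (iv3 F109012)))).symm
theorem E9682 : n72501 = n72315 := (((D72315).symm.trans (sb E9677 (iv4 F109016)))).symm
theorem E9683 : n72505 = n72316 := (((D72316).symm.trans (sb E9677 (iv5 F109020)))).symm
theorem E9684 : n72308 = n16161 := ((F108762).symm.trans (sb E9677 (iv7 D33462)))
theorem E9685 : n33457 = n33369 := (((D33369).symm.trans (sb E9678 (iv1 D72484)))).symm
theorem F109523 : act 2 n16162 = n33370 := (sb E9680 F108764)
theorem F109524 : act 7 n72314 = n33458 := (sb E9681 (iv7 D72495))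
theorem F109526 : act 7 n72315 = n33459 := (sb E9682 (iv7 D72501))
theorem F109527 : act 2 n72316 = n33465 := (sb E9683 F109019)
theorem F109528 : act 7 n72316 = n33460 := (sb E9683 (iv7 D72505))
theorem F109529 : act 7 n16161 = n33370 := (sb E9684 (iv7 F108762))
theorem E9688 : n72487 = n72311 := (((D72311).symm.trans (sb E9685 D72487))).symm
theorem E9689 : n72488 = n72312 := (((D72312).symm.trans (sb E9685 D72488))).symm
theorem F109536 : act 7 n72311 = n33465 := (sb E9688 F109008)
theorem F109538 : act 7 n72312 = n73029 := (sb E9689 F109515)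
theorem F109539 : act 7 n33648 = n58257 := d13_2 F109538 (iv5 D73029) (iv5 F108763)
theorem E9690 : n73026 = n58256 := (c15_4 (iv0 D58256) D58257 (iv7 F109539) D73026)
theorem F109541 : act 2 n58256 = n33648 := (sb E9690 (iv2 D73026))
theorem F109542 : act 5 n58256 = n72507 := (sb E9690 F109513)
theorem F109543 : act 7 n58256 = n33649 := (sb E9690 (iv7 F109512))
theorem F109544 : act 1 n72316 = n72818 := d15_0 (iv0 F109301) F109536 (iv2 F109527)
theorem F109545 : act 0 n72522 = n34377 := d21_4 D16266 D33648 D73029 F109517 (iv6 D34377) D34376 F109508 (iv5 D73024) (iv6 D33647) (iv1 D16265)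
theorem F109546 : act 1 n72317 = n34377 := d15_0 (iv0 F109545) (iv7 D72522) (iv2 F109522)
def n73030 : Q := act 6 n33648
theorem D73030 : act 6 n33648 = n73030 := rfl
theorem F109547 : act 5 n73030 = n72640 := d21_6 (iv5 F26841) F50733 D16655 F27290 D33648 D73030 (iv1 D72640) (iv5 D33523) (iv6 D16195) (iv1 F25675)
theorem F109548 : act 6 n58344 = n72640 := d12_4 (iv6 D73030) D73029 F109517 (iv5 F109519) (iv5 F109547)
def n73031 : Q := act 3 n33649
theorem D73031 : act 3 n33649 = n73031 := rfl
theorem F109549 : act 5 n73031 = n72494 := d6_2 F52925 D73031 F109011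
def n73032 : Q := act 4 n33649
theorem D73032 : act 4 n33649 = n73032 := rfl
def n73033 : Q := act 6 n33649
theorem D73033 : act 6 n33649 = n73033 := rfl
theorem F109550 : act 5 n73033 = n72504 := d12_1 D73033 (iv6 D72504) (iv5 D33460) D33461 F52925
def n73034 : Q := act 0 n33650
theorem D73034 : act 0 n33650 = n73034 := rfl
def n73035 : Q := act 1 n33650
theorem D73035 : act 1 n33650 = n73035 := rfl
theorem F109551 : act 1 n73035 = n60268 := d15_1 D73035 (iv7 D60268) (iv2 F52926)
def n73036 : Q := act 3 n33650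
theorem D73036 : act 3 n33650 = n73036 := rfl
theorem F109552 : act 6 n73036 = n60176 := d7_2 (iv6 F52927) D73036 (iv3 D60176)
def n73037 : Q := act 5 n33650
theorem D73037 : act 5 n33650 = n73037 := rfl
theorem F109553 : act 2 n73037 = n60267 := d2_1 D73037 (iv5 D60267) (iv2 F52926)
def n73038 : Q := act 7 n33650
theorem D73038 : act 7 n33650 = n73038 := rfl
theorem F109554 : act 2 n73038 = n60268 := d4_1 D73038 (iv7 D60268) (iv2 F52926)
theorem F109555 : act 4 n73038 = n33651 := d11_1 D73038 (iv7 D33651) D33650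
theorem F109556 : act 6 n73038 = n60259 := d14_1 D73038 (iv7 D60259) (iv6 D28634) (iv7 F46171) (iv6 F52927)
theorem F109557 : act 1 n60268 = n73034 := d15_0 (iv0 D73034) D73038 F109554
theorem F109558 : act 1 n60266 = n73038 := d15_1 D60266 (iv7 D73038) F52926
theorem F109559 : act 1 n73038 = n60265 := d15_0 (iv0 D60265) D60268 (iv2 F109554)
def n73039 : Q := act 4 n33652
theorem D73039 : act 4 n33652 = n73039 := rfl
theorem F109560 : act 5 n73039 = n47003 := d16_1 D73039 F74247 (iv5 D40592) F30800 D21640 D45365 (iv5 F90781) F90811 F90812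
def n73040 : Q := act 5 n33652
theorem D73040 : act 5 n33652 = n73040 := rfl
theorem F109561 : act 2 n73040 = n44677 := d2_1 D73040 (iv5 F90810) F90812
theorem F109562 : act 4 n73040 = n44674 := d16_4 (iv4 F74247) (iv5 F109560) (iv4 D73039) D73040 (iv5 D44674) (iv4 F64170) (iv5 F74064) F74065 F72911
theorem F109563 : act 0 n44993 = n33656 := d17_0 (iv5 D33656) D33652 D73040 F109562 (iv5 D44674) F34053 (iv5 F70751) (iv0 D44992) D44993
theorem F109564 : act 1 n73040 = n33676 := d15_0 (iv0 F90782) F71520 (iv2 F109561)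
def n73041 : Q := act 6 n33652
theorem D73041 : act 6 n33652 = n73041 := rfl
def n73042 : Q := act 3 n33653
theorem D73042 : act 3 n33653 = n73042 := rfl
def n73043 : Q := act 4 n33653
theorem D73043 : act 4 n33653 = n73043 := rfl
theorem F109565 : act 5 n73043 = n47004 := d9_2 (iv5 F90781) D73043 (iv4 F74248) F74064 F64170 D44674 (iv4 F109562) (iv5 D73040) D73039 F109560 F74247 (iv5 D40592) F30800 D21640 D45365
theorem F109566 : act 3 n73043 = n56011 := d20_3 (iv4 F90776) (iv1 F90780) D73043 (iv1 D56011) (iv3 D27023) (iv4 D12948) (iv1 F9568) D8063 D17184 D35429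
def n73044 : Q := act 6 n33653
theorem D73044 : act 6 n33653 = n73044 := rfl
def n73045 : Q := act 5 n33654
theorem D73045 : act 5 n33654 = n73045 := rfl
theorem F109567 : act 2 n73045 = n33656 := d2_1 D73045 (iv5 D33656) D33654
theorem F109568 : act 3 n73045 = n34906 := d6_1 D73045 (iv5 F90806) F90804
theorem F109569 : act 7 n73045 = n71452 := d13_2 F90777 D73045 F107995
theorem F109570 : act 1 n44993 = n71452 := d15_1 (iv0 F109563) (iv7 F109569) F109567
def n73047 : Q := act 6 n33655
theorem D73047 : act 6 n33655 = n73047 := rfl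
theorem F109572 : act 4 n73047 = n33657 := d10_1 D73047 (iv6 D33657) D33655
def n73048 : Q := act 0 n33656
theorem D73048 : act 0 n33656 = n73048 := rfl
theorem F109573 : act 2 n44595 = n73048 := d15_3 (iv0 D73048) (iv0 F109563) F70755
theorem F109574 : act 1 n71452 = n73048 := d15_0 (iv0 D73048) (iv7 F90784) (iv2 F107994)
theorem F109575 : act 4 n73048 = n44592 := d17_9 F70119 (iv5 D41631) F31374 D21640 D45365 (iv5 F90781) F90780 (iv5 F107995) F109574
def n73049 : Q := act 4 n33656
theorem D73049 : act 4 n33656 = n73049 := rfl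
theorem F109576 : act 3 n73049 = n44712 := d5_1 D73049 F94791 F94790 F46196 (iv3 F52929)
theorem F109577 : act 5 n73049 = n44710 := d18_4 F64243 D44993 F109563 D73049 F70288 (iv0 D40590) F30800 (iv0 F31374) D41631
theorem F109578 : act 1 n73049 = n46982 := d18_8 (iv1 F74189) (iv4 F74190) (iv1 F70101) F70099 D44592 (iv4 F109575) (iv0 D73048) D73049 (iv5 D46982)
theorem F109579 : act 0 n73049 = n46973 := d20_7 (iv4 F44339) F44341 F42982 F27975 F43058 (iv3 F52929) D73049 (iv4 F90047) F90046 (iv1 F44302)
def n73050 : Q := act 6 n33656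
theorem D73050 : act 6 n33656 = n73050 := rfl
theorem F109580 : act 3 n73050 = n33660 := d7_1 D73050 (iv6 D33660) (iv3 F52929)
def n73053 : Q := act 5 n33657
theorem D73053 : act 5 n33657 = n73053 := rfl
theorem F109581 : act 3 n73053 = n33663 := d6_1 D73053 (iv5 D33663) (iv3 F52930)
def n73054 : Q := act 7 n33657
theorem D73054 : act 7 n33657 = n73054 := rfl
theorem F109582 : act 3 n73054 = n33664 := d8_1 D73054 (iv7 D33664) (iv3 F52930)
def n73055 : Q := act 0 n33658
theorem D73055 : act 0 n33658 = n73055 := rfl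
def n73056 : Q := act 1 n33658
theorem D73056 : act 1 n33658 = n73056 := rfl
def n73057 : Q := act 7 n33658
theorem D73057 : act 7 n33658 = n73057 := rfl
theorem F109583 : act 4 n73057 = n33664 := d11_1 D73057 (iv7 D33664) (iv4 F52931)
def n73058 : Q := act 3 n33659
theorem D73058 : act 3 n33659 = n73058 := rfl
theorem F109584 : act 2 n73058 = n55363 := d0_1 D73058 F87624 F42981 (iv3 F43069) F52934
theorem F109585 : act 5 n73058 = n55362 := d6_2 (iv5 F52932) D73058 F87620
theorem F109586 : act 7 n73058 = n72407 := d8_2 (iv7 F52936) D73058 F108914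
def n73059 : Q := act 6 n33659
theorem D73059 : act 6 n33659 = n73059 := rfl
theorem F109587 : act 2 n73059 = n55448 := d3_1 D73059 (iv6 D55448) F52934
theorem F109588 : act 4 n73059 = n70725 := d10_1 D73059 (iv6 D70725) (iv4 F52933)
def n73060 : Q := act 0 n33660
theorem D73060 : act 0 n33660 = n73060 := rfl
def n73061 : Q := act 1 n33660
theorem D73061 : act 1 n33660 = n73061 := rfl
def n73062 : Q := act 5 n33660
theorem D73062 : act 5 n33660 = n73062 := rfl
theorem F109589 : act 6 n73062 = n33663 := d12_2 D33660 D73062 (iv5 D33663) (iv6 D16272) D16271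
def n73063 : Q := act 7 n33660
theorem D73063 : act 7 n33660 = n73063 := rfl
def n73064 : Q := act 2 n33661
theorem D73064 : act 2 n33661 = n73064 := rfl
theorem F109590 : act 7 n33662 = n73064 := d15_2 (iv0 D33661) D33662 (iv2 D73064)
def n73066 : Q := act 4 n33661
theorem D73066 : act 4 n33661 = n73066 := rfl
def n73069 : Q := act 7 n33661
theorem D73069 : act 7 n33661 = n73069 := rfl
theorem F109591 : act 2 n73069 = n33662 := d4_1 D73069 F109590 (iv2 D73064)
def n73070 : Q := act 3 n33662
theorem D73070 : act 3 n33662 = n73070 := rfl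
def n73071 : Q := act 4 n33662
theorem D73071 : act 4 n33662 = n73071 := rfl
def n73072 : Q := act 5 n33662
theorem D73072 : act 5 n33662 = n73072 := rfl
def n73073 : Q := act 6 n33662
theorem D73073 : act 6 n33662 = n73073 := rfl
def n73074 : Q := act 0 n33663
theorem D73074 : act 0 n33663 = n73074 := rfl
def n73075 : Q := act 1 n33663
theorem D73075 : act 1 n33663 = n73075 := rfl
def n73076 : Q := act 4 n33663
theorem D73076 : act 4 n33663 = n73076 := rfl
def n73077 : Q := act 7 n33663
theorem D73077 : act 7 n33663 = n73077 := rfl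
theorem F109592 : act 5 n73077 = n33664 := d13_1 D73077 (iv7 D33664) D33663
def n73078 : Q := act 3 n33665
theorem D73078 : act 3 n33665 = n73078 := rfl
def n73079 : Q := act 6 n33665
theorem D73079 : act 6 n33665 = n73079 := rfl
def n73080 : Q := act 6 n33666
theorem D73080 : act 6 n33666 = n73080 := rfl
def n73081 : Q := act 6 n33667
theorem D73081 : act 6 n33667 = n73081 := rfl
theorem F109593 : act 2 n73081 = n33670 := d3_1 D73081 (iv6 D33670) D33667
theorem F109594 : act 4 n73081 = n71543 := d10_1 D73081 (iv6 D71543) (iv4 F52937)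
def n73082 : Q := act 6 n33668
theorem D73082 : act 6 n33668 = n73082 := rfl
theorem F109595 : act 2 n73082 = n71543 := d3_1 D73082 (iv6 D71543) (iv2 F52939)
theorem F109596 : act 3 n73082 = n40218 := d7_1 D73082 (iv6 D40218) (iv3 F52940)
theorem F109597 : act 4 n73082 = n33670 := d10_1 D73082 (iv6 D33670) D33668
def n73083 : Q := act 6 n33669
theorem D73083 : act 6 n33669 = n73083 := rfl
theorem F109598 : act 2 n73083 = n71453 := d3_1 D73083 (iv6 D71453) (iv2 F52944)
theorem F109599 : act 3 n73083 = n33671 := d7_1 D73083 (iv6 D33671) (iv3 F52945)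
theorem F109600 : act 4 n73083 = n34902 := d10_1 D73083 (iv6 D34902) (iv4 F52947)
def n73084 : Q := act 0 n33670
theorem D73084 : act 0 n33670 = n73084 := rfl
def n73085 : Q := act 1 n33670
theorem D73085 : act 1 n33670 = n73085 := rfl
def n73086 : Q := act 5 n33670
theorem D73086 : act 5 n33670 = n73086 := rfl
theorem F109601 : act 3 n73086 = n33674 := d6_1 D73086 (iv5 D33674) (iv3 F52948)
def n73087 : Q := act 7 n33670
theorem D73087 : act 7 n33670 = n73087 := rfl
theorem F109602 : act 3 n73087 = n33675 := d8_1 D73087 (iv7 D33675) (iv3 F52948)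
def n73088 : Q := act 0 n33671
theorem D73088 : act 0 n33671 = n73088 := rfl
def n73089 : Q := act 1 n33671
theorem D73089 : act 1 n33671 = n73089 := rfl
def n73090 : Q := act 5 n33671
theorem D73090 : act 5 n33671 = n73090 := rfl
theorem F109603 : act 6 n73090 = n33674 := d12_2 D33671 D73090 (iv5 D33674) (iv6 D16277) D16276
def n73091 : Q := act 7 n33671
theorem D73091 : act 7 n33671 = n73091 := rfl
def n73092 : Q := act 2 n33672
theorem D73092 : act 2 n33672 = n73092 := rfl
theorem F109604 : act 7 n33673 = n73092 := d15_2 (iv0 D33672) D33673 (iv2 D73092)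
def n73093 : Q := act 3 n33672
theorem D73093 : act 3 n33672 = n73093 := rfl
def n73095 : Q := act 5 n33672
theorem D73095 : act 5 n33672 = n73095 := rfl
def n73096 : Q := act 6 n33672
theorem D73096 : act 6 n33672 = n73096 := rfl
def n73097 : Q := act 7 n33672
theorem D73097 : act 7 n33672 = n73097 := rfl
def n73099 : Q := act 4 n33673
theorem D73099 : act 4 n33673 = n73099 := rfl
def n73102 : Q := act 0 n33674
theorem D73102 : act 0 n33674 = n73102 := rfl
def n73103 : Q := act 1 n33674
theorem D73103 : act 1 n33674 = n73103 := rfl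
def n73104 : Q := act 4 n33674
theorem D73104 : act 4 n33674 = n73104 := rfl
def n73105 : Q := act 7 n33674
theorem D73105 : act 7 n33674 = n73105 := rfl
theorem F109606 : act 5 n73105 = n33675 := d13_1 D73105 (iv7 D33675) D33674
def n73106 : Q := act 4 n33676
theorem D73106 : act 4 n33676 = n73106 := rfl
theorem F109607 : act 3 n73106 = n44717 := d5_1 D73106 F94695 F94694 F46156 D33676
theorem F109608 : act 5 n73106 = n48004 := d18_4 F58239 D45365 F90782 D73106 F75414 (iv0 D44573) F33439 (iv0 F17241) D22599
theorem F109609 : act 1 n73106 = n70067 := d18_8 F71417 F70288 (iv1 F64173) F64170 D44674 (iv4 F109562) F109564 D73106 F106463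
def n73110 : Q := act 5 n33677
theorem D73110 : act 5 n33677 = n73110 := rfl
def n73111 : Q := act 7 n33677
theorem D73111 : act 7 n33677 = n73111 := rfl
def n73112 : Q := act 0 n33678
theorem D73112 : act 0 n33678 = n73112 := rfl
def n73113 : Q := act 1 n33678
theorem D73113 : act 1 n33678 = n73113 := rfl
def n73114 : Q := act 5 n33678
theorem D73114 : act 5 n33678 = n73114 := rfl
def n73115 : Q := act 7 n33678
theorem D73115 : act 7 n33678 = n73115 := rfl
def n73116 : Q := act 0 n33679
theorem D73116 : act 0 n33679 = n73116 := rfl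
theorem F109611 : act 1 n72757 = n73116 := d15_0 (iv0 D73116) (iv7 F90859) (iv2 F109240)
def n73117 : Q := act 1 n33679
theorem D73117 : act 1 n33679 = n73117 := rfl
def n73118 : Q := act 2 n33679
theorem D73118 : act 2 n33679 = n73118 := rfl
theorem F109612 : act 3 n73118 = n35608 := d0_2 D33679 D73118 F56289 (iv3 F46209) F46208
theorem F109613 : act 4 n73118 = n57284 := d1_2 (iv4 F52949) D73118 F90363
theorem F109614 : act 5 n73118 = n38248 := d2_2 F94524 D73118 (iv2 F94522)
theorem F109615 : act 7 n73118 = n72757 := d4_2 F90859 D73118 F109240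
theorem F109616 : act 1 n73117 = n72757 := d15_1 D73117 (iv7 F109615) (iv2 D73118)
def n73119 : Q := act 6 n33679
theorem D73119 : act 6 n33679 = n73119 := rfl
theorem F109617 : act 3 n73119 = n33680 := d7_1 D73119 (iv6 D33680) D33679
theorem F109618 : act 4 n73119 = n57288 := d10_1 D73119 (iv6 D57288) (iv4 F52949)
def n73120 : Q := act 0 n33680
theorem D73120 : act 0 n33680 = n73120 := rfl
def n73121 : Q := act 1 n33680
theorem D73121 : act 1 n33680 = n73121 := rfl
def n73122 : Q := act 5 n33680
theorem D73122 : act 5 n33680 = n73122 := rfl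
def n73123 : Q := act 7 n33680
theorem D73123 : act 7 n33680 = n73123 := rfl
theorem F109619 : act 4 n73123 = n33684 := d11_1 D73123 (iv7 D33684) (iv4 F52950)
def n73124 : Q := act 2 n33681
theorem D73124 : act 2 n33681 = n73124 := rfl
theorem F109620 : act 7 n33682 = n73124 := d15_2 (iv0 D33681) D33682 (iv2 D73124)
def n73125 : Q := act 3 n33681
theorem D73125 : act 3 n33681 = n73125 := rfl
def n73126 : Q := act 4 n33681
theorem D73126 : act 4 n33681 = n73126 := rfl
def n73127 : Q := act 5 n33681
theorem D73127 : act 5 n33681 = n73127 := rfl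
def n73128 : Q := act 6 n33681
theorem D73128 : act 6 n33681 = n73128 := rfl
def n73129 : Q := act 7 n33681
theorem D73129 : act 7 n33681 = n73129 := rfl
theorem F109621 : act 2 n73129 = n33682 := d4_1 D73129 F109620 (iv2 D73124)
def n73130 : Q := act 3 n33682
theorem D73130 : act 3 n33682 = n73130 := rfl
def n73131 : Q := act 4 n33682
theorem D73131 : act 4 n33682 = n73131 := rfl
def n73132 : Q := act 5 n33682
theorem D73132 : act 5 n33682 = n73132 := rfl
def n73133 : Q := act 6 n33682
theorem D73133 : act 6 n33682 = n73133 := rfl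
def n73134 : Q := act 0 n33683
theorem D73134 : act 0 n33683 = n73134 := rfl
def n73135 : Q := act 1 n33683
theorem D73135 : act 1 n33683 = n73135 := rfl
def n73136 : Q := act 4 n33683
theorem D73136 : act 4 n33683 = n73136 := rfl
theorem F109622 : act 6 n73136 = n33697 := d10_2 (iv6 F52951) D73136 (iv4 D33697)
def n73137 : Q := act 7 n33683
theorem D73137 : act 7 n33683 = n73137 := rfl
theorem F109623 : act 5 n73137 = n33684 := d13_1 D73137 (iv7 D33684) D33683
def n73140 : Q := act 3 n33685
theorem D73140 : act 3 n33685 = n73140 := rfl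
theorem F109626 : act 7 n73140 = n33691 := d8_2 F52952 D73140 (iv3 D33691)
def n73141 : Q := act 4 n33685
theorem D73141 : act 4 n33685 = n73141 := rfl
theorem F109627 : act 2 n73141 = n33687 := d1_1 D73141 (iv4 D33687) D33685
theorem F109628 : act 7 n73141 = n33692 := d11_2 F52952 D73141 (iv4 D33692)
def n73142 : Q := act 5 n33685
theorem D73142 : act 5 n33685 = n73142 := rfl
theorem F109629 : act 2 n73142 = n33688 := d2_1 D73142 (iv5 D33688) D33685
theorem F109630 : act 7 n73142 = n33693 := d13_2 F52952 D73142 (iv5 D33693)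
def n73143 : Q := act 6 n33685
theorem D73143 : act 6 n33685 = n73143 := rfl
theorem F109631 : act 2 n73143 = n33689 := d3_1 D73143 (iv6 D33689) D33685
def n73144 : Q := act 0 n33686
theorem D73144 : act 0 n33686 = n73144 := rfl
def n73146 : Q := act 2 n33686
theorem D73146 : act 2 n33686 = n73146 := rfl
def n73147 : Q := act 4 n33686
theorem D73147 : act 4 n33686 = n73147 := rfl
def n73148 : Q := act 5 n33686
theorem D73148 : act 5 n33686 = n73148 := rfl
theorem F109632 : act 3 n73148 = n33688 := d6_1 D73148 (iv5 D33688) D33686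
def n73149 : Q := act 6 n33686
theorem D73149 : act 6 n33686 = n73149 := rfl
theorem F109633 : act 3 n73149 = n33689 := d7_1 D73149 (iv6 D33689) D33686
def n73150 : Q := act 7 n33686
theorem D73150 : act 7 n33686 = n73150 := rfl
theorem F109634 : act 3 n73150 = n33690 := d8_1 D73150 (iv7 D33690) D33686
def n73151 : Q := act 0 n33687
theorem D73151 : act 0 n33687 = n73151 := rfl
def n73152 : Q := act 1 n33687
theorem D73152 : act 1 n33687 = n73152 := rfl
theorem F109635 : act 1 n73152 = n33692 := d15_1 D73152 (iv7 F109628) F109627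
def n73153 : Q := act 3 n33687
theorem D73153 : act 3 n33687 = n73153 := rfl
def n73154 : Q := act 5 n33687
theorem D73154 : act 5 n33687 = n73154 := rfl
def n73155 : Q := act 6 n33687
theorem D73155 : act 6 n33687 = n73155 := rfl
theorem F109636 : act 4 n73155 = n33689 := d10_1 D73155 (iv6 D33689) D33687
def n73156 : Q := act 7 n33687
theorem D73156 : act 7 n33687 = n73156 := rfl
theorem F109637 : act 2 n73156 = n33692 := d4_1 D73156 (iv7 F109628) F109627
theorem F109638 : act 4 n73156 = n33690 := d11_1 D73156 (iv7 D33690) D33687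
theorem F109639 : act 1 n33692 = n73151 := d15_0 (iv0 D73151) D73156 F109637
def n73157 : Q := act 0 n33688
theorem D73157 : act 0 n33688 = n73157 := rfl
theorem F109640 : act 5 n73157 = n72707 := d17_3 D16282 D33688 D73157 F109211 (iv5 F52972) (iv0 D33718) (iv5 D16289) (iv0 D7580) (iv4 F11823)
theorem E9691 : n72685 = n55445 := (c21_5 D33688 D73157 F109640 (iv6 D72707) (iv1 F109197) (iv6 D55445) (iv5 F43044) (iv1 D16279) (iv5 D7578) D7579 D16282)
theorem F109641 : act 0 n55445 = n33538 := (sb E9691 (iv1 D72685))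
theorem F109642 : act 1 n55445 = n33543 := (sb E9691 F109197)
theorem F109643 : act 7 n72684 = n34364 := d15_2 F109642 F109201 (iv2 F87734)
theorem F109644 : act 5 n72688 = n73075 := d21_6 D27544 (iv1 F44442) F43044 D55445 F109641 D72688 (iv1 D73075) (iv5 D33663) (iv6 D16272) (iv1 F21945)
def n73158 : Q := act 1 n33688
theorem D73158 : act 1 n33688 = n73158 := rfl
theorem F109645 : act 1 n73158 = n33693 := d15_1 D73158 (iv7 F109630) F109629
def n73159 : Q := act 4 n33688
theorem D73159 : act 4 n33688 = n73159 := rfl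
def n73160 : Q := act 6 n33688
theorem D73160 : act 6 n33688 = n73160 := rfl
def n73161 : Q := act 7 n33688
theorem D73161 : act 7 n33688 = n73161 := rfl
theorem F109646 : act 2 n73161 = n33693 := d4_1 D73161 (iv7 F109630) F109629
theorem F109647 : act 5 n73161 = n33690 := d13_1 D73161 (iv7 D33690) D33688
theorem F109648 : act 1 n33693 = n73157 := d15_0 (iv0 D73157) D73161 F109646
def n73162 : Q := act 0 n33689
theorem D73162 : act 0 n33689 = n73162 := rfl
def n73163 : Q := act 1 n33689
theorem D73163 : act 1 n33689 = n73163 := rfl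
def n73164 : Q := act 5 n33689
theorem D73164 : act 5 n33689 = n73164 := rfl
theorem F109649 : act 0 n73164 = n72412 := d21_7 (iv5 F43044) (iv1 D16279) (iv5 D7578) D7579 D16282 D33689 D73164 (iv5 D72412) (iv6 D33432) (iv1 F43043)
theorem F109650 : act 4 n73163 = n33724 := d17_9 (iv1 D33724) D33725 F52977 (iv5 D33435) (iv4 F52716) D72412 (iv0 F109649) (iv5 D73164) D73163
def n73165 : Q := act 7 n33689
theorem D73165 : act 7 n33689 = n73165 := rfl
def n73166 : Q := act 6 n33690
theorem D73166 : act 6 n33690 = n73166 := rfl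
theorem F109651 : act 2 n73166 = n33694 := d3_1 D73166 (iv6 D33694) (iv2 F52953)
def n73167 : Q := act 0 n33691
theorem D73167 : act 0 n33691 = n73167 := rfl
def n73168 : Q := act 1 n33691
theorem D73168 : act 1 n33691 = n73168 := rfl
def n73169 : Q := act 2 n33691
theorem D73169 : act 2 n33691 = n73169 := rfl
def n73170 : Q := act 4 n33691
theorem D73170 : act 4 n33691 = n73170 := rfl
def n73171 : Q := act 5 n33691
theorem D73171 : act 5 n33691 = n73171 := rfl
theorem F109652 : act 3 n73171 = n33693 := d6_1 D73171 (iv5 D33693) D33691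
def n73172 : Q := act 6 n33691
theorem D73172 : act 6 n33691 = n73172 := rfl
theorem F109653 : act 3 n73172 = n33694 := d7_1 D73172 (iv6 D33694) D33691
def n73173 : Q := act 5 n33692
theorem D73173 : act 5 n33692 = n73173 := rfl
def n73174 : Q := act 6 n33692
theorem D73174 : act 6 n33692 = n73174 := rfl
theorem F109654 : act 4 n73174 = n33694 := d10_1 D73174 (iv6 D33694) D33692
def n73175 : Q := act 4 n33693
theorem D73175 : act 4 n33693 = n73175 := rfl
def n73177 : Q := act 0 n33694
theorem D73177 : act 0 n33694 = n73177 := rfl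
def n73178 : Q := act 1 n33694
theorem D73178 : act 1 n33694 = n73178 := rfl
def n73179 : Q := act 5 n33694
theorem D73179 : act 5 n33694 = n73179 := rfl
def n73180 : Q := act 7 n33694
theorem D73180 : act 7 n33694 = n73180 := rfl
def n73181 : Q := act 2 n33695
theorem D73181 : act 2 n33695 = n73181 := rfl
theorem F109655 : act 7 n33696 = n73181 := d15_2 (iv0 D33695) D33696 (iv2 D73181)
def n73182 : Q := act 3 n33695
theorem D73182 : act 3 n33695 = n73182 := rfl
def n73183 : Q := act 4 n33695
theorem D73183 : act 4 n33695 = n73183 := rfl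
def n73184 : Q := act 5 n33695
theorem D73184 : act 5 n33695 = n73184 := rfl
def n73185 : Q := act 6 n33695
theorem D73185 : act 6 n33695 = n73185 := rfl
def n73186 : Q := act 7 n33695
theorem D73186 : act 7 n33695 = n73186 := rfl
theorem F109656 : act 2 n73186 = n33696 := d4_1 D73186 F109655 (iv2 D73181)
def n73187 : Q := act 3 n33696
theorem D73187 : act 3 n33696 = n73187 := rfl
def n73188 : Q := act 4 n33696
theorem D73188 : act 4 n33696 = n73188 := rfl
def n73189 : Q := act 5 n33696
theorem D73189 : act 5 n33696 = n73189 := rfl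
def n73190 : Q := act 6 n33696
theorem D73190 : act 6 n33696 = n73190 := rfl
def n73191 : Q := act 0 n33697
theorem D73191 : act 0 n33697 = n73191 := rfl
def n73192 : Q := act 1 n33697
theorem D73192 : act 1 n33697 = n73192 := rfl
def n73193 : Q := act 3 n33697
theorem D73193 : act 3 n33697 = n73193 := rfl
def n73194 : Q := act 5 n33697
theorem D73194 : act 5 n33697 = n73194 := rfl
def n73195 : Q := act 7 n33697
theorem D73195 : act 7 n33697 = n73195 := rfl
theorem F109657 : act 4 n73195 = n33698 := d11_1 D73195 (iv7 D33698) D33697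
def n73196 : Q := act 6 n33698
theorem D73196 : act 6 n33698 = n73196 := rfl
def n73207 : Q := act 0 n33701
theorem D73207 : act 0 n33701 = n73207 := rfl
theorem F109660 : act 1 n33730 = n73207 := d15_0 (iv0 D73207) F52957 D33730
def n73208 : Q := act 1 n33701
theorem D73208 : act 1 n33701 = n73208 := rfl
def n73209 : Q := act 2 n33701
theorem D73209 : act 2 n33701 = n73209 := rfl
theorem F109661 : act 3 n73209 = n33707 := d0_2 D33701 D73209 (iv2 D33707) (iv3 D16287) D16286
theorem F109662 : act 7 n73209 = n33730 := d4_2 (iv7 F52957) D73209 (iv2 D33730)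
theorem F109663 : act 1 n73209 = n33728 := d15_0 (iv0 D33728) (iv7 F52957) D73209
theorem F109664 : act 1 n73208 = n33730 := d15_1 D73208 (iv7 F109662) (iv2 D73209)
theorem F109665 : act 1 n33729 = n73209 := d15_1 D33729 F109662 (iv2 D33730)
def n73210 : Q := act 4 n33701
theorem D73210 : act 4 n33701 = n73210 := rfl
theorem F109666 : act 7 n73210 = n33731 := d11_2 (iv7 F52957) D73210 (iv4 D33731)
def n73211 : Q := act 5 n33701
theorem D73211 : act 5 n33701 = n73211 := rfl
theorem F109668 : act 7 n73211 = n33732 := d13_2 (iv7 F52957) D73211 (iv5 D33732)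
def n73215 : Q := act 3 n33702
theorem D73215 : act 3 n33702 = n73215 := rfl
theorem F109672 : act 7 n73215 = n33734 := d8_2 (iv7 F52959) D73215 (iv3 D33734)
def n73216 : Q := act 5 n33702
theorem D73216 : act 5 n33702 = n73216 := rfl
theorem F109673 : act 2 n73216 = n33715 := d2_1 D73216 (iv5 D33715) (iv2 F52958)
theorem F109674 : act 7 n73216 = n33735 := d13_2 (iv7 F52959) D73216 (iv5 D33735)
def n73217 : Q := act 6 n33702
theorem D73217 : act 6 n33702 = n73217 := rfl
theorem F109675 : act 2 n73217 = n33716 := d3_1 D73217 (iv6 D33716) (iv2 F52958)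
def n73220 : Q := act 4 n33703
theorem D73220 : act 4 n33703 = n73220 := rfl
theorem F109679 : act 2 n73220 = n33720 := d1_1 D73220 (iv4 D33720) (iv2 F52960)
theorem F109680 : act 7 n73220 = n33737 := d11_2 (iv7 F52961) D73220 (iv4 D33737)
def n73221 : Q := act 6 n33703
theorem D73221 : act 6 n33703 = n73221 := rfl
theorem F109681 : act 2 n73221 = n33721 := d3_1 D73221 (iv6 D33721) (iv2 F52960)
def n73222 : Q := act 0 n33704
theorem D73222 : act 0 n33704 = n73222 := rfl
def n73223 : Q := act 1 n33704
theorem D73223 : act 1 n33704 = n73223 := rfl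
theorem F109682 : act 1 n73223 = n33726 := d15_1 D73223 (iv7 D33726) (iv2 F52962)
def n73224 : Q := act 5 n33704
theorem D73224 : act 5 n33704 = n73224 := rfl
theorem F109683 : act 2 n73224 = n33725 := d2_1 D73224 (iv5 D33725) (iv2 F52962)
theorem F109684 : act 7 n72423 = n73224 := d15_2 F54487 F108937 F109683
def n73225 : Q := act 7 n33704
theorem D73225 : act 7 n33704 = n73225 := rfl
theorem F109685 : act 2 n73225 = n33726 := d4_1 D73225 (iv7 D33726) (iv2 F52962)
theorem F109686 : act 5 n73225 = n72423 := d13_1 D73225 F109684 (iv5 D73224)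
theorem F109687 : act 6 n73225 = n33742 := d14_1 D73225 (iv7 D33742) (iv6 D16295) F25833 D33704
theorem F109688 : act 1 n33726 = n73222 := d15_0 (iv0 D73222) D73225 F109685
theorem F109689 : act 1 n33724 = n73225 := d15_1 D33724 (iv7 D73225) F52962
theorem F109690 : act 0 n33742 = n58301 := d21_10 F92170 (iv1 D33468) (iv5 D16163) (iv6 D7541) D7538 D16149 D33435 D72423 (iv5 F109686) F109687
theorem F109691 : act 1 n33727 = n58301 := d15_0 (iv0 F109690) (iv7 D33742) (iv2 F52978)
theorem F109692 : act 1 n73225 = n33723 := d15_0 (iv0 D33723) D33726 (iv2 F109685)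
def n73226 : Q := act 0 n33705
theorem D73226 : act 0 n33705 = n73226 := rfl
theorem F109693 : act 2 n33711 = n73226 := d15_3 (iv0 D73226) (iv0 D33705) D33711
theorem F109694 : act 3 n73226 = n33730 := d0_2 (iv3 F52966) F109693 (iv2 D33730) (iv3 D16292) (iv2 F25834)
theorem F109695 : act 7 n73226 = n33707 := d4_2 D33711 F109693 (iv2 D33707)
theorem F109696 : act 1 n33706 = n73226 := d15_1 D33706 F109695 (iv2 D33707)
def n73227 : Q := act 2 n33705
theorem D73227 : act 2 n33705 = n73227 := rfl
def n73228 : Q := act 3 n33705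
theorem D73228 : act 3 n33705 = n73228 := rfl
def n73229 : Q := act 4 n33705
theorem D73229 : act 4 n33705 = n73229 := rfl
def n73230 : Q := act 5 n33705
theorem D73230 : act 5 n33705 = n73230 := rfl
def n73231 : Q := act 6 n33705
theorem D73231 : act 6 n33705 = n73231 := rfl
def n73232 : Q := act 7 n33705
theorem D73232 : act 7 n33705 = n73232 := rfl
def n73237 : Q := act 1 n33707
theorem D73237 : act 1 n33707 = n73237 := rfl
theorem F109700 : act 1 n73237 = n33711 := d15_1 D73237 (iv7 D33711) D33707
def n73238 : Q := act 4 n33707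
theorem D73238 : act 4 n33707 = n73238 := rfl
theorem F109701 : act 2 n73238 = n33708 := d1_1 D73238 (iv4 D33708) D33707
theorem F109702 : act 7 n60180 = n73238 := d15_2 (iv0 F77289) D60180 F109701
theorem F109703 : act 4 n73226 = n60180 := d11_3 F109702 (iv4 D73238) (iv7 F109695)
def n73239 : Q := act 5 n33707
theorem D73239 : act 5 n33707 = n73239 := rfl
theorem F109704 : act 2 n73239 = n33709 := d2_1 D73239 (iv5 D33709) D33707
def n73240 : Q := act 6 n33707
theorem D73240 : act 6 n33707 = n73240 := rfl
theorem F109705 : act 2 n73240 = n33710 := d3_1 D73240 (iv6 D33710) D33707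
def n73241 : Q := act 3 n33708
theorem D73241 : act 3 n33708 = n73241 := rfl
theorem F109706 : act 4 n73241 = n33714 := d5_2 D33708 D73241 (iv3 D33714) (iv4 D16288) D16287
def n73242 : Q := act 5 n33708
theorem D73242 : act 5 n33708 = n73242 := rfl
def n73243 : Q := act 6 n33708
theorem D73243 : act 6 n33708 = n73243 := rfl
theorem F109707 : act 4 n73243 = n33710 := d10_1 D73243 (iv6 D33710) D33708
def n73244 : Q := act 7 n33708
theorem D73244 : act 7 n33708 = n73244 := rfl
theorem F109709 : act 4 n73244 = n33711 := d11_1 D73244 (iv7 D33711) D33708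
def n73245 : Q := act 0 n33709
theorem D73245 : act 0 n33709 = n73245 := rfl
def n73246 : Q := act 1 n33709
theorem D73246 : act 1 n33709 = n73246 := rfl
def n73247 : Q := act 4 n33709
theorem D73247 : act 4 n33709 = n73247 := rfl
def n73248 : Q := act 6 n33709
theorem D73248 : act 6 n33709 = n73248 := rfl
theorem F109710 : act 3 n73248 = n33721 := d7_1 D73248 (iv6 D33721) (iv3 F52964)
def n73249 : Q := act 7 n33709
theorem D73249 : act 7 n33709 = n73249 := rfl
theorem F109712 : act 5 n73249 = n33711 := d13_1 D73249 (iv7 D33711) D33709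
def n73250 : Q := act 0 n33710
theorem D73250 : act 0 n33710 = n73250 := rfl
def n73251 : Q := act 1 n33710
theorem D73251 : act 1 n33710 = n73251 := rfl
def n73252 : Q := act 5 n33710
theorem D73252 : act 5 n33710 = n73252 := rfl
theorem F109713 : act 3 n73252 = n33725 := d6_1 D73252 (iv5 D33725) (iv3 F52965)
def n73253 : Q := act 7 n33710
theorem D73253 : act 7 n33710 = n73253 := rfl
theorem F109714 : act 3 n73253 = n33726 := d8_1 D73253 (iv7 D33726) (iv3 F52965)
def n73254 : Q := act 6 n33711
theorem D73254 : act 6 n33711 = n73254 := rfl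
theorem F109715 : act 3 n73254 = n33727 := d7_1 D73254 (iv6 D33727) (iv3 F52966)
def n73255 : Q := act 2 n33712
theorem D73255 : act 2 n33712 = n73255 := rfl
theorem F109716 : act 7 n33713 = n73255 := d15_2 (iv0 D33712) D33713 (iv2 D73255)
def n73256 : Q := act 3 n33712
theorem D73256 : act 3 n33712 = n73256 := rfl
def n73257 : Q := act 4 n33712
theorem D73257 : act 4 n33712 = n73257 := rfl
theorem F109717 : act 3 n73257 = n49031 := d20_3 D16288 D33712 D73257 (iv1 D49031) (iv3 D23919) F37327 (iv1 D6310) F4243 (iv3 F5427) D7580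
def n73258 : Q := act 5 n33712
theorem D73258 : act 5 n33712 = n73258 := rfl
def n73259 : Q := act 6 n33712
theorem D73259 : act 6 n33712 = n73259 := rfl
def n73260 : Q := act 7 n33712
theorem D73260 : act 7 n33712 = n73260 := rfl
theorem F109718 : act 2 n73260 = n33713 := d4_1 D73260 F109716 (iv2 D73255)
def n73264 : Q := act 6 n33713
theorem D73264 : act 6 n33713 = n73264 := rfl
def n73265 : Q := act 0 n33714
theorem D73265 : act 0 n33714 = n73265 := rfl
def n73266 : Q := act 1 n33714
theorem D73266 : act 1 n33714 = n73266 := rfl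
def n73267 : Q := act 2 n33714
theorem D73267 : act 2 n33714 = n73267 := rfl
def n73268 : Q := act 5 n33714
theorem D73268 : act 5 n33714 = n73268 := rfl
theorem F109719 : act 3 n73268 = n33715 := d6_1 D73268 (iv5 D33715) D33714
def n73269 : Q := act 6 n33714
theorem D73269 : act 6 n33714 = n73269 := rfl
theorem F109720 : act 3 n73269 = n33716 := d7_1 D73269 (iv6 D33716) D33714
def n73270 : Q := act 7 n33714
theorem D73270 : act 7 n33714 = n73270 := rfl
theorem F109721 : act 3 n73270 = n33717 := d8_1 D73270 (iv7 D33717) D33714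
def n73271 : Q := act 0 n33715
theorem D73271 : act 0 n33715 = n73271 := rfl
def n73272 : Q := act 1 n33715
theorem D73272 : act 1 n33715 = n73272 := rfl
theorem F109722 : act 1 n73272 = n33735 := d15_1 D73272 (iv7 F109674) F109673
def n73273 : Q := act 4 n33715
theorem D73273 : act 4 n33715 = n73273 := rfl
def n73274 : Q := act 6 n33715
theorem D73274 : act 6 n33715 = n73274 := rfl
def n73275 : Q := act 7 n33715
theorem D73275 : act 7 n33715 = n73275 := rfl
theorem F109723 : act 2 n73275 = n33735 := d4_1 D73275 (iv7 F109674) F109673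
theorem F109724 : act 5 n73275 = n33717 := d13_1 D73275 (iv7 D33717) D33715
theorem F109725 : act 1 n33735 = n73271 := d15_0 (iv0 D73271) D73275 F109723
def n73276 : Q := act 0 n33716
theorem D73276 : act 0 n33716 = n73276 := rfl
def n73277 : Q := act 1 n33716
theorem D73277 : act 1 n33716 = n73277 := rfl
def n73278 : Q := act 5 n33716
theorem D73278 : act 5 n33716 = n73278 := rfl
def n73279 : Q := act 7 n33716
theorem D73279 : act 7 n33716 = n73279 := rfl
theorem F109726 : act 4 n73279 = n33726 := d11_1 D73279 (iv7 D33726) (iv4 F52968)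
def n73280 : Q := act 6 n33717
theorem D73280 : act 6 n33717 = n73280 := rfl
theorem F109727 : act 2 n73280 = n33736 := d3_1 D73280 (iv6 D33736) (iv2 F52969)
theorem F109728 : act 4 n73280 = n33727 := d10_1 D73280 (iv6 D33727) (iv4 F52970)
def n73281 : Q := act 3 n33718
theorem D73281 : act 3 n33718 = n73281 := rfl
theorem F109729 : act 5 n73281 = n72704 := d6_2 (iv5 F52972) D73281 F109210
def n73282 : Q := act 4 n33718
theorem D73282 : act 4 n33718 = n73282 := rfl
def n73283 : Q := act 6 n33718
theorem D73283 : act 6 n33718 = n73283 := rfl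
theorem F109730 : act 5 n73283 = n69136 := d12_1 D73283 F105429 (iv5 D33544) D33545 (iv5 F52972)
def n73284 : Q := act 3 n33719
theorem D73284 : act 3 n33719 = n73284 := rfl
def n73285 : Q := act 4 n33719
theorem D73285 : act 4 n33719 = n73285 := rfl
def n73286 : Q := act 5 n33719
theorem D73286 : act 5 n33719 = n73286 := rfl
theorem F109731 : act 2 n73286 = n69259 := d2_1 D73286 F105529 (iv2 F109427)
theorem F109732 : act 7 n73286 = n69260 := d13_2 (iv7 F109426) D73286 F109423
theorem F109733 : act 6 n72697 = n73286 := d14_5 F109732 F109424 F109416 D33540 D72697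
theorem F109734 : act 1 n72709 = n73286 := d15_1 D72709 F109732 F109403
theorem E9692 : n72709 = n55523 := (c21_11 F87809 (iv1 D32148) F24806 (iv6 D7565) (iv1 F9800) D13257 D27771 D58307 F109434 F109733 (iv1 F109734))
theorem F109735 : act 0 n55523 = n33545 := (sb E9692 (iv1 D72709))
theorem F109736 : act 1 n55523 = n73286 := (sb E9692 F109734)
theorem E9693 : n33723 = n33647 := (c21_11 D73024 F109509 (iv5 D34381) D34382 F109510 F109733 (iv5 D73286) (iv1 D33719) (iv5 D16289) D16290 D33723)
theorem E9694 : n73225 = n73022 := (((D73022).symm.trans (sb E9693 (iv1 F109692)))).symm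
theorem E9695 : n73023 = n16290 := ((D73023).symm.trans (sb E9693 (iv0 D33723)))
theorem F109737 : act 0 n73022 = n33724 := (sb E9694 (iv1 F109689))
theorem F109738 : act 2 n73022 = n33726 := (sb E9694 F109685)
theorem F109739 : act 5 n73022 = n72423 := (sb E9694 F109686)
theorem F109740 : act 6 n73022 = n33742 := (sb E9694 F109687)
theorem F109741 : act 7 n73022 = n33704 := (sb E9694 (iv7 D73225))
theorem F109742 : act 0 n16290 = n33647 := (sb E9695 (iv1 D73023))
theorem F109743 : act 7 n33724 = n73011 := d15_2 (iv0 F109742) D33724 F109501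
theorem F109744 : act 2 n73025 = n33724 := d4_3 F109743 F109501 D73025
theorem E9696 : n73010 = n58364 := (c14_5 F109743 (iv6 D73011) (iv7 D33643) D33642 D73010 F109039)
theorem F109745 : act 7 n58364 = n33642 := (sb E9696 (iv7 D73010))
theorem E9697 : n72715 = n72550 := ((c13_2 F109745 F109046 (iv7 D72715) (iv5 F109038))).symm
theorem F109746 : act 2 n72550 = n33547 := (sb E9697 F109213)
theorem F109747 : act 7 n72550 = n33546 := (sb E9697 (iv7 D72715))
theorem E9698 : n72711 = n72549 := (c15_4 (iv0 D72549) D72550 F109747 D72711)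
theorem F109749 : act 7 n72549 = n33547 := (sb E9698 (iv7 F109212))
theorem E9699 : n72989 = n58276 := ((c2_3 F109046 F109746 (iv5 F92134) F109486)).symm
theorem F109750 : act 2 n58276 = n33642 := (sb E9699 F109486)
theorem E9700 : n33638 = n27759 := ((((iv6 D58276)).symm.trans (sb E9699 (iv6 D72989)))).symm
theorem E9701 : n72984 = n16267 := ((((iv1 F44824)).symm.trans (sb E9700 D72984))).symm
theorem E9703 : n58272 = n16264 := ((D58272).symm.trans (sb E9700 (iv2 D33638)))
theorem E9704 : n72986 = n58273 := (((D58273).symm.trans (sb E9700 D72986))).symm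
theorem E9705 : n72987 = n58274 := (((D58274).symm.trans (sb E9700 D72987))).symm
theorem E9706 : n72988 = n58275 := (((D58275).symm.trans (sb E9700 D72988))).symm
theorem E9707 : n58277 = n16265 := ((D58277).symm.trans (sb E9700 (iv7 F52922)))
theorem E9708 : n33643 = n27760 := ((((iv1 F44820)).symm.trans (sb E9701 (iv1 F109479)))).symm
theorem F109751 : act 2 n16264 = n27759 := (sb E9703 (iv2 D58272))
theorem F109752 : act 7 n58273 = n33644 := (sb E9704 F109481)
theorem F109754 : act 7 n58274 = n33645 := (sb E9705 F109483)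
theorem F109755 : act 2 n58275 = n33641 := (sb E9706 F109484)
theorem F109756 : act 7 n58275 = n33646 := (sb E9706 F109485)
theorem F109757 : act 7 n16265 = n27759 := (sb E9707 (iv7 D58277))
theorem F109758 : act 2 n27760 = n16265 := (sb E9708 F52923)
theorem E9709 : n72996 = n58278 := (((D58278).symm.trans (sb E9708 (iv3 F109489)))).symm
theorem E9710 : n73002 = n58279 := (((D58279).symm.trans (sb E9708 (iv4 F109493)))).symm
theorem E9711 : n73007 = n58280 := (((D58280).symm.trans (sb E9708 (iv5 F109497)))).symm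
theorem E9712 : n73011 = n58281 := (((D58281).symm.trans (sb E9708 D73011))).symm
theorem F109759 : act 7 n27760 = n16264 := (sb E9708 (iv7 D33643))
theorem F109760 : act 7 n58278 = n33639 := (sb E9709 (iv7 D72996))
theorem F109761 : act 2 n58279 = n33645 := (sb E9710 F109492)
theorem F109762 : act 7 n58279 = n33640 := (sb E9710 (iv7 D73002))
theorem F109763 : act 2 n58280 = n33646 := (sb E9711 F109496)
theorem E9713 : n72340 = n33417 := ((((iv6 F92136)).symm.trans (sb E9711 (iv6 F109499)))).symm
theorem F109764 : act 7 n58280 = n33641 := (sb E9711 (iv7 D73007))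
theorem F109765 : act 2 n58281 = n33647 := (sb E9712 F109501)
theorem F109766 : act 7 n58281 = n33724 := (sb E9712 (iv7 F109743))
theorem E9714 : n72387 = n33386 := ((D72387).symm.trans (sb E9713 (iv2 D72340)))
theorem E9715 : n72391 = n33387 := ((D72391).symm.trans (sb E9713 (iv7 F108795)))
theorem F109767 : act 2 n33386 = n33417 := (sb E9714 (iv2 D72387))
theorem E9716 : n72344 = n33418 := ((D72344).symm.trans (sb E9714 (iv7 F108888)))
theorem F109768 : act 7 n33387 = n33417 := (sb E9715 (iv7 D72391))
theorem F109769 : act 2 n33418 = n33387 := (sb E9716 F108796)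
theorem F109770 : act 7 n33418 = n33386 := (sb E9716 (iv7 D72344))
theorem F109771 : act 7 n72341 = n72392 := d8_2 F109770 D72341 (iv3 D72392)
theorem F109772 : act 7 n72342 = n72393 := d11_2 F109770 D72342 (iv4 D72393)
theorem F109773 : act 7 n72343 = n72394 := d13_2 F109770 D72343 (iv5 D72394)
theorem F109774 : act 2 n72346 = n72393 := d1_3 (iv4 D72393) F109769 D72346
theorem F109775 : act 2 n72347 = n72394 := d2_3 (iv5 D72394) F109769 D72347
theorem F109776 : act 2 n72348 = n72395 := d3_3 (iv6 D72395) F109769 D72348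
theorem F109777 : act 7 n72388 = n72345 := d8_2 F109768 D72388 (iv3 D72345)
theorem F109778 : act 7 n72389 = n72346 := d11_2 F109768 D72389 (iv4 D72346)
theorem F109779 : act 7 n72390 = n72347 := d13_2 F109768 D72390 (iv5 D72347)
theorem F109780 : act 2 n72343 = n72390 := d4_3 F109779 F109775 (iv7 F109773)
theorem F109781 : act 2 n72342 = n72389 := d4_3 F109778 F109774 (iv7 F109772)
theorem F109782 : act 1 n73286 = n69102 := d15_0 (iv0 F109207) (iv7 F109400) (iv2 F109731)
theorem E9717 : n69052 = n69018 := (c21_4 D69102 (iv1 F109782) (iv5 D73286) (iv6 F109430) (iv1 D69018) (iv6 D32103) F24762 F24781 D7202 D15175 D32147)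
theorem F109783 : act 2 n69018 = n32121 := (sb E9717 F105269)
theorem F109784 : act 6 n69018 = n33719 := (sb E9717 F109430)
theorem F109785 : act 7 n69018 = n32120 := (sb E9717 (iv7 D69052))
theorem E9718 : n69047 = n69017 := (c15_4 (iv0 D69017) D69018 F109785 D69047)
theorem F109787 : act 7 n69017 = n32121 := (sb E9718 (iv7 F105268))
def n73287 : Q := act 0 n33720
theorem D73287 : act 0 n33720 = n73287 := rfl
def n73288 : Q := act 1 n33720
theorem D73288 : act 1 n33720 = n73288 := rfl
theorem F109788 : act 1 n73288 = n33737 := d15_1 D73288 (iv7 F109680) F109679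
def n73289 : Q := act 3 n33720
theorem D73289 : act 3 n33720 = n73289 := rfl
def n73290 : Q := act 5 n33720
theorem D73290 : act 5 n33720 = n73290 := rfl
def n73291 : Q := act 6 n33720
theorem D73291 : act 6 n33720 = n73291 := rfl
theorem F109789 : act 4 n73291 = n33721 := d10_1 D73291 (iv6 D33721) D33720
def n73292 : Q := act 7 n33720
theorem D73292 : act 7 n33720 = n73292 := rfl
theorem F109790 : act 2 n73292 = n33737 := d4_1 D73292 (iv7 F109680) F109679
theorem F109791 : act 4 n73292 = n33722 := d11_1 D73292 (iv7 D33722) D33720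
theorem F109792 : act 1 n33737 = n73287 := d15_0 (iv0 D73287) D73292 F109790
def n73293 : Q := act 1 n33721
theorem D73293 : act 1 n33721 = n73293 := rfl
def n73294 : Q := act 5 n33721
theorem D73294 : act 5 n33721 = n73294 := rfl
theorem F109793 : act 6 n73294 = n33725 := d12_2 D33721 D73294 (iv5 D33725) (iv6 D16290) D16289
theorem F109794 : act 5 n69169 = n73293 := d21_0 (iv1 D73293) D73294 F109793 F52977 F52719 (iv5 D16618) (iv1 F49987) D34308 F54441 D69169
def n73295 : Q := act 7 n33721
theorem D73295 : act 7 n33721 = n73295 := rfl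
def n73296 : Q := act 6 n33722
theorem D73296 : act 6 n33722 = n73296 := rfl
theorem F109795 : act 2 n73296 = n33738 := d3_1 D73296 (iv6 D33738) (iv2 F52974)
def n73297 : Q := act 3 n33724
theorem D73297 : act 3 n33724 = n73297 := rfl
def n73298 : Q := act 5 n33724
theorem D73298 : act 5 n33724 = n73298 := rfl
theorem F109796 : act 0 n73298 = n34376 := d21_7 (iv5 F108765) (iv1 F92210) (iv5 D27785) D27786 D58364 F109039 D73298 (iv5 D34376) D34377 (iv1 F109546)
def n73299 : Q := act 4 n33725
theorem D73299 : act 4 n33725 = n73299 := rfl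
def n73300 : Q := act 7 n33725
theorem D73300 : act 7 n33725 = n73300 := rfl
theorem F109797 : act 2 n73300 = n72423 := d4_1 D73300 F109684 F109683
theorem F109798 : act 5 n73300 = n33726 := d13_1 D73300 (iv7 D33726) D33725
def n73301 : Q := act 6 n33726
theorem D73301 : act 6 n33726 = n73301 := rfl
theorem F109799 : act 2 n73301 = n33742 := d3_1 D73301 (iv6 F109740) F109738
theorem F109800 : act 7 n73301 = n33727 := d14_2 D33726 D73301 (iv6 D33727) (iv7 D16291) D16290
theorem F109801 : act 1 n33740 = n73301 := d15_1 D33740 F109800 F52978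
theorem F109802 : act 1 n73301 = n33739 := d15_0 (iv0 D33739) D33742 (iv2 F109799)
def n73302 : Q := act 0 n33727
theorem D73302 : act 0 n33727 = n73302 := rfl
theorem F109803 : act 1 n33742 = n73302 := d15_0 (iv0 D73302) (iv7 F109800) F109799
def n73303 : Q := act 5 n33727
theorem D73303 : act 5 n33727 = n73303 := rfl
theorem F109804 : act 2 n73303 = n33741 := d2_1 D73303 (iv5 D33741) (iv2 F52978)
theorem F109805 : act 7 n72502 = n73303 := d15_2 (iv0 F52982) D72502 F109804
theorem F109806 : act 5 n73301 = n72502 := d13_3 F109805 (iv5 D73303) (iv7 F109800)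
def n73304 : Q := act 2 n33728
theorem D73304 : act 2 n33728 = n73304 := rfl
theorem F109807 : act 7 n33729 = n73304 := d15_2 (iv0 D33728) D33729 (iv2 D73304)
def n73305 : Q := act 3 n33728
theorem D73305 : act 3 n33728 = n73305 := rfl
def n73306 : Q := act 4 n33728
theorem D73306 : act 4 n33728 = n73306 := rfl
def n73307 : Q := act 5 n33728
theorem D73307 : act 5 n33728 = n73307 := rfl
def n73309 : Q := act 7 n33728
theorem D73309 : act 7 n33728 = n73309 := rfl
theorem F109808 : act 2 n73309 = n33729 := d4_1 D73309 F109807 (iv2 D73304)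
def n73310 : Q := act 3 n33729
theorem D73310 : act 3 n33729 = n73310 := rfl
def n73311 : Q := act 4 n33729
theorem D73311 : act 4 n33729 = n73311 := rfl
def n73312 : Q := act 5 n33729
theorem D73312 : act 5 n33729 = n73312 := rfl
def n73313 : Q := act 6 n33729
theorem D73313 : act 6 n33729 = n73313 := rfl
def n73314 : Q := act 4 n33730
theorem D73314 : act 4 n33730 = n73314 := rfl
theorem F109809 : act 2 n73314 = n33731 := d1_1 D73314 (iv4 D33731) D33730
def n73315 : Q := act 5 n33730
theorem D73315 : act 5 n33730 = n73315 := rfl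
theorem F109810 : act 2 n73315 = n33732 := d2_1 D73315 (iv5 D33732) D33730
def n73316 : Q := act 6 n33730
theorem D73316 : act 6 n33730 = n73316 := rfl
theorem F109811 : act 2 n73316 = n33733 := d3_1 D73316 (iv6 D33733) D33730
def n73317 : Q := act 0 n33731
theorem D73317 : act 0 n33731 = n73317 := rfl
def n73318 : Q := act 1 n33731
theorem D73318 : act 1 n33731 = n73318 := rfl
theorem F109812 : act 4 n49021 = n73318 := d20_0 (iv1 D73318) (iv4 D33731) (iv3 D16292) (iv1 D7581) F5427 (iv4 F4243) D6309 (iv4 F37195) D23915 D49021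
def n73319 : Q := act 3 n33731
theorem D73319 : act 3 n33731 = n73319 := rfl
theorem F109813 : act 4 n73319 = n33734 := d5_2 D33731 D73319 (iv3 D33734) (iv4 D16293) D16292
def n73320 : Q := act 5 n33731
theorem D73320 : act 5 n33731 = n73320 := rfl
def n73321 : Q := act 6 n33731
theorem D73321 : act 6 n33731 = n73321 := rfl
theorem F109814 : act 4 n73321 = n33733 := d10_1 D73321 (iv6 D33733) D33731
def n73322 : Q := act 0 n33732
theorem D73322 : act 0 n33732 = n73322 := rfl
def n73323 : Q := act 1 n33732
theorem D73323 : act 1 n33732 = n73323 := rfl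
def n73324 : Q := act 4 n33732
theorem D73324 : act 4 n33732 = n73324 := rfl
def n73325 : Q := act 6 n33732
theorem D73325 : act 6 n33732 = n73325 := rfl
theorem F109815 : act 3 n73325 = n33738 := d7_1 D73325 (iv6 D33738) (iv3 F52979)
def n73326 : Q := act 0 n33733
theorem D73326 : act 0 n33733 = n73326 := rfl
def n73327 : Q := act 1 n33733
theorem D73327 : act 1 n33733 = n73327 := rfl
def n73328 : Q := act 5 n33733
theorem D73328 : act 5 n33733 = n73328 := rfl
theorem F109816 : act 3 n73328 = n33741 := d6_1 D73328 (iv5 D33741) (iv3 F52980)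
def n73329 : Q := act 7 n33733
theorem D73329 : act 7 n33733 = n73329 := rfl
theorem F109817 : act 3 n73329 = n33742 := d8_1 D73329 (iv7 D33742) (iv3 F52980)
def n73330 : Q := act 0 n33734
theorem D73330 : act 0 n33734 = n73330 := rfl
def n73331 : Q := act 1 n33734
theorem D73331 : act 1 n33734 = n73331 := rfl
def n73332 : Q := act 2 n33734
theorem D73332 : act 2 n33734 = n73332 := rfl
def n73333 : Q := act 5 n33734
theorem D73333 : act 5 n33734 = n73333 := rfl
theorem F109818 : act 3 n73333 = n33735 := d6_1 D73333 (iv5 D33735) D33734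
def n73334 : Q := act 6 n33734
theorem D73334 : act 6 n33734 = n73334 := rfl
theorem F109819 : act 3 n73334 = n33736 := d7_1 D73334 (iv6 D33736) D33734
def n73335 : Q := act 4 n33735
theorem D73335 : act 4 n33735 = n73335 := rfl
def n73336 : Q := act 6 n33735
theorem D73336 : act 6 n33735 = n73336 := rfl
def n73337 : Q := act 0 n33736
theorem D73337 : act 0 n33736 = n73337 := rfl
def n73338 : Q := act 1 n33736
theorem D73338 : act 1 n33736 = n73338 := rfl
def n73339 : Q := act 5 n33736
theorem D73339 : act 5 n33736 = n73339 := rfl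
theorem F109820 : act 1 n73339 = n72468 := d17_6 D16161 D33460 F52982 (iv5 D33741) (iv4 F52981) D73339 (iv5 D72468) (iv0 D33452) F25695
theorem E9719 : n73264 = n16241 := (c21_6 D72468 (iv1 F109820) (iv5 D73339) (iv6 D33736) (iv1 F52967) D73264 (iv5 F52739) (iv1 D33449) (iv5 D16158) D16159 D33452)
theorem E9720 : n33713 = n33595 := (((D33595).symm.trans (sb E9719 (iv6 D73264)))).symm
theorem E9721 : n72851 = n16288 := ((D72851).symm.trans (sb E9720 (iv1 D33713)))
theorem E9722 : n72852 = n16293 := ((D72852).symm.trans (sb E9720 F52967))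
theorem E9723 : n73260 = n58261 := ((((iv2 F92104)).symm.trans (sb E9720 (iv2 F109718)))).symm
theorem E9727 : n73255 = n72854 := (((D72854).symm.trans (sb E9720 F109716))).symm
theorem F109821 : act 1 n16288 = n33595 := (sb E9721 (iv0 D72851))
theorem F109822 : act 0 n16293 = n33595 := (sb E9722 (iv1 D72852))
theorem F109823 : act 7 n58261 = n33712 := (sb E9723 (iv7 D73260))
theorem F109824 : act 2 n72854 = n33712 := (sb E9727 (iv2 D73255))
theorem F109825 : act 7 n73257 = n54325 := d11_2 F109823 D73257 (iv4 F92105)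
theorem E9728 : n73259 = n72850 := (c14_2 F109823 D73259 (iv7 D72850) (iv6 D33594) F44810 D58261)
theorem F109826 : act 6 n72850 = n33712 := (sb E9728 (iv6 D73259))
theorem F109827 : act 6 n73257 = n70411 := d10_2 F109826 D73257 (iv4 F109349)
theorem E9729 : n54328 = n49031 := (c7_3 F109827 F106879 (iv6 F85732) (iv3 F109717))
theorem E9730 : n32678 = n23919 := ((((iv1 D49031)).symm.trans (sb E9729 (iv1 F85734)))).symm
theorem E9731 : n32677 = n28674 := (((F77392).symm.trans (sb E9729 F85735))).symm
theorem F109828 : act 2 n49031 = n32679 := (sb E9729 F85731)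
theorem F109829 : act 6 n49031 = n32685 := (sb E9729 F85732)
theorem F109830 : act 7 n49031 = n26261 := (sb E9729 (iv7 D54328))
theorem E9732 : n49030 = n15563 := ((D49030).symm.trans (sb E9730 (iv1 D32678)))
theorem E9736 : n70407 = n49034 := (((D49034).symm.trans (sb E9730 D70407))).symm
theorem E9741 : n70403 = n60373 := (((D60373).symm.trans (sb E9731 D70403))).symm
theorem E9742 : n62875 = n60374 := (((D60374).symm.trans (sb E9731 F98097))).symm
theorem F109831 : act 0 n15563 = n28674 := (sb E9732 (iv1 F77388))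
theorem F109832 : act 1 n15563 = n23919 := (sb E9732 (iv0 D49030))
theorem E9743 : n68330 = n67891 := ((((iv6 F103949)).symm.trans (sb E9736 (iv6 F106878)))).symm
theorem F109833 : act 0 n60373 = n70964 := (sb E9741 F107507)
theorem F109834 : act 0 n60374 = n32700 := (sb E9742 F103953)
theorem F109835 : act 5 n60374 = n29752 := (sb E9742 (iv5 D62875))
theorem F109836 : act 0 n67891 = n68539 := (sb E9743 (iv1 F104740))
theorem F109837 : act 1 n67891 = n31796 := (sb E9743 (iv0 D68330))
theorem F109838 : act 2 n68480 = n68331 := d15_3 F104739 (iv0 F109836) (iv7 F104681)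
theorem E9744 : n62872 = n49877 := (c2_2 F109835 (iv2 F98096) F78869 (iv2 F94890))
theorem F109839 : act 2 n49877 = n29752 := (sb E9744 F98096)
theorem E9745 : n50048 = n29751 := (((iv7 F79210)).symm.trans (sb E9744 (iv7 D62872)))
theorem E9746 : n62868 = n24408 := ((D62868).symm.trans (sb E9745 (iv3 D50048)))
theorem E9747 : n62870 = n60385 := ((D62870).symm.trans (sb E9745 (iv5 F94897)))
theorem F109840 : act 7 n29751 = n49877 := (sb E9745 F79210)
theorem F109841 : act 3 n24408 = n29751 := (sb E9746 (iv3 D62868))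
theorem F109842 : act 1 n60385 = n32700 := (sb E9747 (iv0 F98094))
theorem F109843 : act 5 n60385 = n29751 := (sb E9747 (iv5 D62870))
theorem F109844 : act 3 n62871 = n50050 := d7_3 (iv6 D50050) F109841 D62871
theorem F109845 : act 0 n73299 = n62863 := d20_1 D73299 F98090 F47834 D29751 (iv3 F109841) D50049 F79213 F54505 (iv3 F54485) (iv1 F54487)
theorem E9748 : n72432 = n72420 := (c18_7 (iv1 F54487) D73299 F109845 F98090 (iv5 F52007) (iv4 F52727) D72432 (iv4 D72420) F52717 (iv5 F54486))
theorem F109846 : act 0 n72420 = n33439 := (sb E9748 (iv1 D72432))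
theorem E9749 : n70885 = n15698 := (c20_6 D72420 F109846 F52727 F52006 D32846 D70885 F38268 (iv1 F12761) F12758 (iv3 F27293) (iv1 F52717))
theorem E9750 : n32846 = n32793 := (((D32793).symm.trans (sb E9749 (iv3 D70885)))).symm
theorem E9751 : n70740 = n32664 := ((D70740).symm.trans (sb E9750 (iv1 F52016)))
theorem E9752 : n70741 = n15811 := ((D70741).symm.trans (sb E9750 (iv0 D32846)))
theorem E9755 : n70887 = n70744 := (((D70744).symm.trans (sb E9750 D70887))).symm
theorem E9756 : n70888 = n55612 := ((((iv6 F87966)).symm.trans (sb E9750 D70888))).symm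
theorem E9758 : n69844 = n32847 := ((((iv1 F52012)).symm.trans (sb E9751 (iv1 F107195)))).symm
theorem F109847 : act 1 n32664 = n32793 := (sb E9751 (iv0 D70740))
theorem F109848 : act 0 n15811 = n32793 := (sb E9752 (iv1 D70741))
theorem F109849 : act 0 n70744 = n37015 := (sb E9755 F107400)
theorem F109850 : act 1 n70744 = n70815 := (sb E9755 F107401)
theorem F109852 : act 1 n55612 = n35666 := (sb E9756 (iv0 F107403))
theorem E9759 : n40246 = n32926 := ((F87965).symm.trans (sb E9756 F107402))
theorem F109853 : act 2 n32847 = n32431 := (sb E9758 (iv2 D69844))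
theorem E9760 : n70890 = n70749 := ((D70890).symm.trans (sb E9758 (iv3 F107211)))
theorem F109854 : act 7 n32847 = n70742 := (sb E9758 (iv7 F107197))
theorem E9761 : n71113 = n19012 := ((D71113).symm.trans (sb E9759 (iv3 D40246)))
theorem F109855 : act 5 n32926 = n55612 := (sb E9759 (iv5 F87965))
theorem E9762 : n71108 = n60425 := ((F107632).symm.trans (sb E9759 (iv7 F94937)))
theorem F109856 : act 3 n70749 = n32847 := (sb E9760 (iv3 D70890))
theorem F109857 : act 3 n19012 = n32926 := (sb E9761 (iv3 D71113))
theorem F109858 : act 2 n60425 = n32925 := (sb E9762 (iv2 D71108))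
theorem F109859 : act 7 n60425 = n32926 := (sb E9762 (iv7 F107632))
theorem F109860 : act 2 n71109 = n40244 := d0_3 D60425 F109858 D71109 (iv3 D40244) F46253
theorem F109861 : act 2 n71111 = n34747 := d2_3 (iv5 F94936) F109858 D71111
theorem F109862 : act 3 n71115 = n40247 := d7_3 (iv6 D40247) F109857 D71115
theorem F109863 : act 0 n71094 = n58452 := d20_7 (iv4 F29967) (iv1 F44928) (iv4 F44966) F109857 (iv1 D32926) (iv3 F52111) (iv4 F107627) (iv4 D58452) (iv3 D27813) (iv1 F22067)
theorem F109864 : act 2 n69845 = n70891 := d1_3 (iv4 D70891) F109853 D69845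
theorem F109865 : act 2 n69846 = n62787 := d2_3 F97974 F109853 D69846
theorem F109866 : act 2 n69847 = n70892 := d3_3 (iv6 D70892) F109853 D69847
theorem E9763 : n71022 = n70949 := ((c15_2 F107502 D70949 F107574 F109866)).symm
theorem E9764 : n70502 = n34747 := (((iv6 F107499)).symm.trans (sb E9763 F107573))
theorem F109869 : act 0 n34747 = n32710 := (sb E9764 (iv1 D70502))
theorem F109870 : act 1 n34747 = n54435 := (sb E9764 F106958)
theorem E9765 : n60425 = n54495 := (((iv5 F94936)).symm.trans (sb E9764 (iv5 F106959)))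
theorem F109871 : act 6 n34747 = n70949 := (sb E9764 F107499)
theorem F109872 : act 2 n54495 = n32925 := (sb E9765 F109858)
theorem F109873 : act 3 n54495 = n28697 := (sb E9765 (iv3 D60425))
theorem F109874 : act 5 n54495 = n34747 := (sb E9765 F94936)
theorem F109875 : act 7 n54495 = n32926 := (sb E9765 F109859)
theorem E9766 : n71112 = n54496 := (c15_4 F86072 F86076 F109875 (iv2 F107635))
theorem F109876 : act 2 n54496 = n32926 := (sb E9766 F107635)
theorem F109877 : act 7 n54496 = n32925 := (sb E9766 (iv7 D71112))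
theorem F109878 : act 7 n71111 = n70368 := d13_2 F109877 D71111 F106851
theorem F109879 : act 2 n70368 = n55612 := d4_1 F109878 F87967 (iv2 F109861)
theorem E9767 : n70742 = n32662 := (c3_4 D70368 F109879 F87966 D70742)
theorem E9768 : n69843 = n32848 := ((((iv1 F52018)).symm.trans (sb E9767 (iv1 F107200)))).symm
theorem E9771 : n70365 = n69837 := ((D70365).symm.trans (sb E9767 F107196))
theorem E9772 : n70369 = n32847 := ((D70369).symm.trans (sb E9767 (iv7 F109854)))
theorem E9773 : n32663 = n32431 := (((iv1 F52017)).symm.trans (sb E9768 (iv1 D69843)))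
theorem F109881 : act 3 n69837 = n32662 := (sb E9771 (iv3 D70365))
theorem F109882 : act 7 n32847 = n32662 := (sb E9772 (iv7 D70369))
theorem F109883 : act 0 n32431 = n15533 := (sb E9773 (iv1 D32663))
theorem F109884 : act 1 n32431 = n32848 := (sb E9773 F52017)
theorem E9776 : n69846 = n61605 := ((D69846).symm.trans (sb E9773 (iv5 F96165)))
theorem F109885 : act 2 n61605 = n62787 := (sb E9776 F109865)
theorem F109886 : act 3 n61605 = n32432 := (sb E9776 F106265)
theorem F109887 : act 5 n61605 = n32431 := (sb E9776 (iv5 D69846))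
theorem F109888 : act 7 n61605 = n70744 := (sb E9776 (iv7 F107204))
theorem F109889 : act 6 n70092 = n61604 := d12_4 D61605 F109887 D69847 (iv5 F106475) (iv5 D61604)
theorem F109890 : act 3 n61604 = n70094 := d7_1 F109889 (iv6 D70094) D70092
theorem F109891 : act 0 n70853 = n69847 := d21_1 (iv5 F107328) (iv5 F106475) F109889 F96164 (iv6 D36328) (iv5 D17540) (iv1 F30464) (iv5 F24967) D32547 (iv1 F85752)
theorem F109892 : act 0 n70092 = n68601 := d21_10 F104801 (iv1 D54319) F41696 (iv6 D15440) (iv1 F20789) D26277 F41819 D29180 D61604 (iv6 F109889)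
theorem E9778 : n68105 = n61602 := (c6_3 D61604 F109890 F106478 (iv3 D61602))
theorem F109893 : act 0 n61602 = n62825 := (sb E9778 F104248)
theorem F109894 : act 1 n61602 = n31708 := (sb E9778 (iv0 D68105))
theorem F109895 : act 2 n61602 = n62823 := (sb E9778 (iv2 F104247))
theorem F109896 : act 5 n61602 = n70094 := (sb E9778 (iv5 F106478))
theorem F109897 : act 6 n61602 = n32432 := (sb E9778 F104246)
theorem F109898 : act 7 n61602 = n62824 := (sb E9778 (iv7 F104249))
theorem F109899 : act 3 n62824 = n61606 := d8_1 F109898 (iv7 D61606) D61602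
theorem E9779 : n62783 = n29180 := (c3_4 D61605 F109885 (iv6 D62787) D62783)
theorem E9780 : n61601 = n29704 := ((D61601).symm.trans (sb E9779 (iv2 D62783)))
theorem E9781 : n61606 = n29705 := ((D61606).symm.trans (sb E9779 (iv7 F97972)))
theorem F109900 : act 2 n29704 = n29180 := (sb E9780 (iv2 D61601))
theorem E9782 : n62788 = n29181 := ((D62788).symm.trans (sb E9780 (iv7 F96163)))
theorem E9783 : n62824 = n62789 := (((D62789).symm.trans (sb E9781 (iv3 F109899)))).symm
theorem F109901 : act 7 n29705 = n29180 := (sb E9781 (iv7 D61606))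
theorem F109902 : act 2 n29181 = n29705 := (sb E9782 F97976)
theorem F109903 : act 7 n29181 = n29704 := (sb E9782 (iv7 D62788))
theorem F109904 : act 0 n62789 = n29732 := (sb E9783 (iv1 D62824))
theorem F109905 : act 1 n62789 = n68107 := (sb E9783 F104256)
theorem F109906 : act 2 n62789 = n68106 := (sb E9783 F104252)
theorem F109907 : act 7 n62789 = n61602 := (sb E9783 (iv7 F109898))
theorem F109908 : act 7 n70367 = n62787 := d15_2 (iv0 F96166) (iv0 F106850) (iv2 F109885)
theorem F109909 : act 2 n70744 = n70367 := d4_3 F109908 (iv2 F109885) F109888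
theorem F109910 : act 1 n70815 = n62787 := d15_1 F109850 (iv7 F109908) (iv2 F109909)
theorem F109911 : act 7 n62784 = n61607 := d8_2 F109903 D62784 (iv3 D61607)
theorem F109912 : act 7 n62785 = n61608 := d11_2 F109903 D62785 (iv4 D61608)
theorem F109913 : act 7 n62786 = n61609 := d13_2 F109903 D62786 (iv5 D61609)
theorem F109914 : act 2 n61609 = n62791 := d15_3 (iv0 F97977) (iv0 F97973) F109913
theorem E9784 : n70175 = n35089 := (c3_4 F96169 F109914 (iv6 F97978) D70175)
theorem F109915 : act 2 n35089 = n32562 := (sb E9784 (iv2 D70175))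
theorem F109916 : act 7 n35089 = n32563 := (sb E9784 (iv7 F106622))
theorem F109917 : act 7 n61604 = n62791 := d15_2 (iv0 F96168) (iv0 F96164) (iv2 F109914)
theorem F109918 : act 2 n62786 = n61604 := d4_3 F109917 (iv2 F109914) (iv7 F109913)
theorem E9785 : n70179 = n35090 := (c15_4 F55742 F55745 F109916 (iv2 F106624))
theorem F109920 : act 2 n35090 = n32563 := (sb E9785 F106624)
theorem F109921 : act 7 n35090 = n32562 := (sb E9785 (iv7 D70179))
theorem F109922 : act 2 n62790 = n61608 := d1_3 (iv4 D61608) F109902 D62790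
theorem F109923 : act 2 n62792 = n61610 := d3_3 (iv6 D61610) F109902 D62792
theorem F109924 : act 7 n61603 = n62790 := d11_2 F109901 D61603 (iv4 D62790)
theorem F109925 : act 2 n62785 = n61603 := d4_3 F109924 F109922 (iv7 F109912)
theorem F109926 : act 0 n34375 = n72434 := d20_1 D34375 F108943 F107375 (iv1 F109884) (iv3 D32431) F43174 (iv1 D7984) F5649 (iv3 F12054) D16661
theorem F109927 : act 0 n54685 = n34389 := d20_7 F21231 (iv1 F12754) (iv4 F43174) D32431 F109883 (iv3 F51734) (iv4 F86501) (iv4 D34389) (iv3 D16668) (iv1 F21235)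
theorem F109928 : act 7 n70366 = n70891 := d11_2 F109882 D70366 (iv4 D70891)
theorem F109929 : act 2 n70743 = n70366 := d4_3 F109928 (iv2 F109864) (iv7 F107202)
theorem F109930 : act 4 n70881 = n55320 := d20_2 (iv4 F106848) (iv1 F107390) (iv3 D55320) (iv1 D26733) F21228 F9412 D7857 (iv4 F38268) D32793 (iv1 F109847)
theorem F109931 : act 4 n70874 = n34369 := d20_0 (iv1 F108929) F108925 (iv3 F86740) (iv1 F86742) D55320 (iv4 F109930) (iv1 D70881) F52011 (iv3 F52006) D70874
theorem E9786 : n61643 = n61640 := ((c6_4 (iv5 F98095) F109844 F79216 D61640)).symm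
theorem F109932 : act 0 n61640 = n29205 := (sb E9786 (iv1 D61643))
theorem F109933 : act 1 n61640 = n62816 := (sb E9786 F98029)
theorem F109934 : act 5 n61640 = n62871 := (sb E9786 (iv5 F98095))
theorem F109935 : act 2 n62808 = n61642 := d15_3 (iv0 D61642) (iv0 F109932) (iv7 F98014)
theorem F109936 : act 2 n62873 = n50051 := d0_3 D49877 F109839 D62873 (iv3 D50051) F44674
theorem E9787 : n33893 = n33770 := ((c20_7 F9358 (iv1 F9820) (iv4 F37327) D23919 (iv1 F109832) (iv3 F51757) (iv4 F53011) (iv1 D33893) (iv4 D16386) (iv3 D7605) (iv1 F9362))).symm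
theorem F109937 : act 0 n33770 = n16386 := (sb E9787 (iv1 D33893))
theorem F109938 : act 1 n33770 = n55193 := (sb E9787 F87318)
theorem F109939 : act 4 n70396 = n54901 := d20_2 (iv4 F51758) D70396 (iv3 D54901) (iv1 F42526) F21104 F9358 (iv1 F9820) (iv4 F37327) D23919 (iv1 F109832)
theorem F109940 : act 0 n70531 = n70807 := d21_1 D70531 F107273 (iv6 D49035) (iv1 F109832) (iv6 D15563) (iv5 F25794) (iv1 F9260) D12540 D26323 F51784
theorem F109941 : act 0 n49035 = n62837 := d21_1 F107273 (iv5 D62837) F85170 F104192 (iv6 D50053) (iv5 F38267) F51919 D32720 (iv6 F106981) F109940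
theorem F109942 : act 0 n70964 = n49034 := d21_7 (iv5 D62837) (iv1 F53913) (iv5 F85963) F85964 (iv1 F51990) D32867 D70964 (iv5 D49034) D49035 F109941
theorem F109943 : act 7 n33892 = n55106 := d15_2 F109938 F87319 F87171
theorem F109944 : act 0 n73278 = n72433 := d21_7 D16201 (iv1 F52738) F52739 D33595 (iv1 F109821) D33716 D73278 (iv5 D72433) (iv6 D33439) (iv1 F25698)
theorem F109945 : act 5 n73271 = n72666 := d21_2 D33715 D73271 (iv6 D72666) (iv1 D33533) (iv6 D16202) D16201 (iv1 F52738) F52739 D33595 (iv1 F109821)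
def n73340 : Q := act 7 n33736
theorem D73340 : act 7 n33736 = n73340 := rfl
theorem F109946 : act 4 n73340 = n33742 := d11_1 D73340 (iv7 D33742) (iv4 F52981)
def n73341 : Q := act 3 n33737
theorem D73341 : act 3 n33737 = n73341 := rfl
def n73342 : Q := act 5 n33737
theorem D73342 : act 5 n33737 = n73342 := rfl
def n73343 : Q := act 6 n33737
theorem D73343 : act 6 n33737 = n73343 := rfl
theorem F109947 : act 4 n73343 = n33738 := d10_1 D73343 (iv6 D33738) D33737
def n73344 : Q := act 5 n33738
theorem D73344 : act 5 n33738 = n73344 := rfl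
theorem F109948 : act 6 n73344 = n33741 := d12_2 D33738 D73344 (iv5 D33741) (iv6 D16295) D16294
def n73345 : Q := act 7 n33738
theorem D73345 : act 7 n33738 = n73345 := rfl
def n73346 : Q := act 2 n33739
theorem D73346 : act 2 n33739 = n73346 := rfl
theorem F109949 : act 7 n33740 = n73346 := d15_2 (iv0 D33739) D33740 (iv2 D73346)
def n73347 : Q := act 3 n33739
theorem D73347 : act 3 n33739 = n73347 := rfl
def n73348 : Q := act 4 n33739
theorem D73348 : act 4 n33739 = n73348 := rfl
def n73349 : Q := act 7 n33739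
theorem D73349 : act 7 n33739 = n73349 := rfl
theorem F109950 : act 2 n73349 = n33740 := d4_1 D73349 F109949 (iv2 D73346)
def n73353 : Q := act 6 n33740
theorem D73353 : act 6 n33740 = n73353 := rfl
def n73355 : Q := act 7 n33741
theorem D73355 : act 7 n33741 = n73355 := rfl
theorem F109951 : act 2 n73355 = n72502 := d4_1 D73355 F109805 F109804
theorem F109952 : act 5 n73355 = n33742 := d13_1 D73355 (iv7 D33742) D33741
theorem F109953 : act 0 n72316 = n73355 := d21_1 D72316 F109952 (iv6 F109740) F109737 (iv6 F109039) F109038 (iv1 F109037) (iv5 D72538) (iv6 D33471) (iv1 F52608)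
theorem E9788 : n73303 = n72818 := ((c15_2 (iv0 F109953) F109544 (iv7 F109805) (iv2 F109951))).symm
theorem E9789 : n33727 = n33584 := ((((iv5 D72818)).symm.trans (sb E9788 (iv5 D73303)))).symm
theorem E9790 : n73302 = n72526 := (((F109290).symm.trans (sb E9789 D73302))).symm
theorem E9791 : n72817 = n58301 := ((D72817).symm.trans (sb E9789 F109691))
theorem E9792 : n72807 = n16295 := (((iv2 F109291)).symm.trans (sb E9789 F52978))
theorem E9793 : n73254 = n72812 := ((((iv3 F109297)).symm.trans (sb E9789 (iv3 F109715)))).symm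
theorem E9794 : n73280 = n72815 := ((((iv4 F109300)).symm.trans (sb E9789 (iv4 F109728)))).symm
theorem E9795 : n16291 = n16225 := ((((iv6 D33584)).symm.trans (sb E9789 (iv6 D33727)))).symm
theorem E9796 : n73301 = n72819 := (((D72819).symm.trans (sb E9789 (iv7 F109800)))).symm
theorem F109956 : act 0 n72526 = n33742 := (sb E9790 (iv1 F109803))
theorem F109957 : act 0 n58301 = n33584 := (sb E9791 (iv1 D72817))
theorem F109958 : act 2 n16295 = n33584 := (sb E9792 F109291)
theorem E9797 : n33580 = n7581 := ((((iv6 D16295)).symm.trans (sb E9792 (iv6 D72807)))).symm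
theorem E9798 : n33711 = n33581 := ((((iv6 D72812)).symm.trans (sb E9793 (iv6 D73254)))).symm
theorem F109959 : act 2 n72815 = n33736 := (sb E9794 F109727)
theorem E9799 : n33717 = n33582 := ((((iv6 D72815)).symm.trans (sb E9794 (iv6 D73280)))).symm
theorem E9802 : n33722 = n33583 := (((D33583).symm.trans (sb E9795 (iv5 F52975)))).symm
theorem E9803 : n33575 = n7580 := ((F52872).symm.trans (sb E9795 (iv7 D16291)))
theorem F109960 : act 0 n72819 = n33740 := (sb E9796 (iv1 F109801))
theorem F109961 : act 1 n72819 = n33739 := (sb E9796 F109802)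
theorem F109963 : act 5 n72819 = n72502 := (sb E9796 F109806)
theorem F109964 : act 6 n72819 = n33726 := (sb E9796 (iv6 D73301))
theorem F109965 : act 2 n7581 = n16225 := (sb E9797 F52873)
theorem E9806 : n72792 = n16292 := (((D16292).symm.trans (sb E9797 (iv3 F109278)))).symm
theorem E9807 : n72798 = n16293 := (((D16293).symm.trans (sb E9797 (iv4 F109283)))).symm
theorem E9808 : n72803 = n16294 := (((D16294).symm.trans (sb E9797 (iv5 F109288)))).symm
theorem E9809 : n16286 = n16224 := ((F25833).symm.trans (sb E9797 (iv7 D33580)))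
theorem E9810 : n73237 = n72808 := (((D72808).symm.trans (sb E9798 (iv1 F109700)))).symm
theorem E9812 : n73226 = n72810 := (((D72810).symm.trans (sb E9798 F109693))).symm
theorem E9813 : n73244 = n28643 := (((F52874).symm.trans (sb E9798 (iv4 F109709)))).symm
theorem E9814 : n73249 = n72811 := (((D72811).symm.trans (sb E9798 (iv5 F109712)))).symm
theorem E9815 : n72782 = n16287 := (((iv7 F109265)).symm.trans (sb E9798 (iv7 D33711)))
theorem E9818 : n73270 = n72813 := (((D72813).symm.trans (sb E9799 (iv3 F109721)))).symm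
theorem E9819 : n73275 = n72814 := (((D72814).symm.trans (sb E9799 (iv5 F109724)))).symm
theorem E9820 : n72783 = n16288 := (((iv7 F109269)).symm.trans (sb E9799 (iv7 D33717)))
theorem E9833 : n73292 = n72816 := (((D72816).symm.trans (sb E9802 (iv4 F109791)))).symm
theorem E9834 : n73296 = n68743 := ((((iv6 F104938)).symm.trans (sb E9802 D73296))).symm
theorem E9835 : n72784 = n16289 := (((iv7 F109271)).symm.trans (sb E9802 (iv7 D33722)))
theorem F109966 : act 7 n7580 = n16225 := (sb E9803 (iv7 F52872))
theorem E9837 : n33701 = n33576 := (((iv7 F52957)).symm.trans (sb E9806 (iv7 D72792)))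
theorem F109967 : act 2 n16293 = n33582 := (sb E9807 F109282)
theorem E9838 : n33702 = n33577 := (((iv7 F52959)).symm.trans (sb E9807 (iv7 D72798)))
theorem F109968 : act 2 n16294 = n33583 := (sb E9808 F109287)
theorem E9839 : n33703 = n33578 := (((iv7 F52961)).symm.trans (sb E9808 (iv7 D72803)))
theorem F109969 : act 2 n16224 = n7580 := (sb E9809 (iv2 D16286))
theorem E9840 : n33704 = n33579 := (((D33579).symm.trans (sb E9809 D33704))).symm
theorem F109970 : act 7 n16224 = n7581 := (sb E9809 (iv7 F25833))
theorem E9841 : n60280 = n33707 := (((iv1 F109292)).symm.trans (sb E9810 (iv1 D73237)))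
theorem F109971 : act 0 n72810 = n33706 := (sb E9812 (iv1 F109696))
theorem F109972 : act 1 n72810 = n33705 := (sb E9812 (iv0 D73226))
theorem F109973 : act 3 n72810 = n33730 := (sb E9812 F109694)
theorem E9842 : n60283 = n60180 := ((F109293).symm.trans (sb E9812 F109703))
theorem E9843 : n60278 = n33708 := ((F94834).symm.trans (sb E9813 (iv7 D73244)))
theorem F109974 : act 7 n72811 = n33709 := (sb E9814 (iv7 D73249))
theorem F109975 : act 7 n16287 = n33581 := (sb E9815 F109265)
theorem F109976 : act 7 n72813 = n33714 := (sb E9818 (iv7 D73270))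
theorem F109977 : act 2 n72814 = n33735 := (sb E9819 F109723)
theorem F109978 : act 7 n72814 = n33715 := (sb E9819 (iv7 D73275))
theorem F109979 : act 7 n16288 = n33582 := (sb E9820 F109269)
theorem F109980 : act 2 n72816 = n33737 := (sb E9833 F109790)
theorem F109981 : act 7 n72816 = n33720 := (sb E9833 (iv7 D73292))
theorem F109982 : act 2 n68743 = n33738 := (sb E9834 F109795)
theorem F109983 : act 7 n16289 = n33583 := (sb E9835 F109271)
theorem E9844 : n73207 = n72786 := (((D72786).symm.trans (sb E9837 D73207))).symm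
theorem E9845 : n73208 = n72787 := (((D72787).symm.trans (sb E9837 D73208))).symm
theorem E9846 : n73209 = n72788 := (((D72788).symm.trans (sb E9837 D73209))).symm
theorem E9847 : n73210 = n72789 := (((D72789).symm.trans (sb E9837 D73210))).symm
theorem E9848 : n73211 = n72790 := (((D72790).symm.trans (sb E9837 D73211))).symm
theorem F109984 : act 7 n33576 = n16292 := (sb E9837 F52957)
theorem F109985 : act 2 n33577 = n16288 := (sb E9838 F52958)
theorem E9850 : n73215 = n72795 := (((D72795).symm.trans (sb E9838 D73215))).symm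
theorem E9851 : n73216 = n72796 := (((D72796).symm.trans (sb E9838 D73216))).symm
theorem E9852 : n73217 = n72797 := (((D72797).symm.trans (sb E9838 D73217))).symm
theorem F109986 : act 7 n33577 = n16293 := (sb E9838 F52959)
theorem F109987 : act 2 n33578 = n16289 := (sb E9839 F52960)
theorem E9853 : n73220 = n72801 := (((D72801).symm.trans (sb E9839 D73220))).symm
theorem E9854 : n73221 = n72802 := (((D72802).symm.trans (sb E9839 D73221))).symm
theorem F109988 : act 7 n33578 = n16294 := (sb E9839 F52961)
theorem E9855 : n73222 = n72804 := (((D72804).symm.trans (sb E9840 D73222))).symm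
theorem E9856 : n73223 = n72805 := (((D72805).symm.trans (sb E9840 D73223))).symm
theorem F109989 : act 2 n33579 = n16290 := (sb E9840 F52962)
theorem E9857 : n73224 = n34329 := (((F54484).symm.trans (sb E9840 D73224))).symm
theorem E9858 : n73022 = n72806 := (((D72806).symm.trans (sb E9840 (iv7 F109741)))).symm
theorem F109990 : act 0 n33707 = n72809 := (sb E9841 (iv1 F109295))
theorem F109991 : act 1 n33707 = n72808 := (sb E9841 F109292)
theorem E9859 : n73238 = n28642 := ((D73238).symm.trans (sb E9841 (iv4 D60280)))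
theorem F109992 : act 7 n33707 = n72810 := (sb E9841 (iv7 F109294))
theorem F109993 : act 2 n60180 = n28643 := (sb E9842 F94835)
theorem F109994 : act 4 n60180 = n72810 := (sb E9842 (iv4 F109293))
theorem F109995 : act 7 n33708 = n28643 := (sb E9843 (iv7 F94834))
theorem F109996 : act 0 n72786 = n33730 := (sb E9844 (iv1 F109660))
theorem F109997 : act 1 n72787 = n33730 := (sb E9845 F109664)
theorem E9860 : n33880 = n33729 := ((F109274).symm.trans (sb E9846 (iv1 F109665)))
theorem F109998 : act 1 n72788 = n33728 := (sb E9846 F109663)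
theorem F109999 : act 3 n72788 = n33707 := (sb E9846 F109661)
theorem F110000 : act 7 n72788 = n33730 := (sb E9846 F109662)
theorem F110001 : act 7 n72789 = n33731 := (sb E9847 F109666)
theorem F110002 : act 7 n72790 = n33732 := (sb E9848 F109668)
theorem F110003 : act 7 n72795 = n33734 := (sb E9850 F109672)
theorem F110004 : act 2 n72796 = n33715 := (sb E9851 F109673)
theorem F110005 : act 7 n72796 = n33735 := (sb E9851 F109674)
theorem F110006 : act 2 n72797 = n33716 := (sb E9852 F109675)
theorem F110007 : act 2 n72801 = n33720 := (sb E9853 F109679)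
theorem F110008 : act 7 n72801 = n33737 := (sb E9853 F109680)
theorem F110009 : act 2 n72802 = n33721 := (sb E9854 F109681)
theorem F110010 : act 0 n72804 = n33726 := (sb E9855 (iv1 F109688))
theorem F110011 : act 1 n72805 = n33726 := (sb E9856 F109682)
theorem F110012 : act 2 n34329 = n33725 := (sb E9857 F109683)
theorem F110013 : act 7 n34329 = n72423 := (sb E9857 (iv7 F109684))
theorem F110014 : act 0 n72806 = n33724 := (sb E9858 F109737)
theorem F110015 : act 1 n72806 = n33647 := (sb E9858 (iv0 D73022))
theorem F110016 : act 2 n72806 = n33726 := (sb E9858 F109738)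
theorem F110017 : act 5 n72806 = n72423 := (sb E9858 F109739)
theorem F110018 : act 6 n72806 = n33742 := (sb E9858 F109740)
theorem F110019 : act 2 n28642 = n33708 := (sb E9859 F109701)
theorem F110020 : act 4 n28642 = n33707 := (sb E9859 (iv4 D73238))
theorem F110021 : act 7 n28642 = n60180 := (sb E9859 (iv7 F109702))
theorem F110022 : act 1 n33729 = n72788 := (sb E9860 (iv0 F109274))
theorem E9861 : n73310 = n16383 := ((D73310).symm.trans (sb E9860 (iv3 D33880)))
theorem E9862 : n73311 = n60409 := ((D73311).symm.trans (sb E9860 F94921))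
theorem F110023 : act 3 n16383 = n33729 := (sb E9861 (iv3 D73310))
theorem F110024 : act 4 n60409 = n33729 := (sb E9862 (iv4 D73311))
theorem F110026 : act 3 n73312 = n33882 := d6_3 (iv5 D33882) F110023 D73312
theorem F110028 : act 3 n73304 = n33884 := d8_3 (iv7 D33884) F110023 F109807
theorem F110029 : act 2 n33885 = n73305 := d0_3 F110028 F53242 D33885 (iv3 D73305) D73304
theorem F110030 : act 4 n73240 = n60282 := d10_3 (iv6 D60282) F110020 D73240
theorem F110031 : act 2 n60282 = n73243 := d1_1 F110030 F109707 (iv2 F109705)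
theorem F110032 : act 2 n73242 = n60281 := d2_3 (iv5 D60281) F110019 D73242
theorem E9863 : n73300 = n34328 := (c15_4 (iv0 D34328) D34329 F110013 (iv2 F109797))
theorem F110033 : act 2 n34328 = n72423 := (sb E9863 F109797)
theorem F110034 : act 5 n34328 = n33726 := (sb E9863 F109798)
theorem F110035 : act 7 n34328 = n33725 := (sb E9863 (iv7 D73300))
theorem E9864 : n73353 = n16251 := (c21_6 (iv5 F27111) D34328 F110034 (iv6 F109964) F109960 D73353 D33611 D72905 F109384 (iv6 D34382) (iv1 D16662))
theorem E9865 : n33740 = n33612 := (((D33612).symm.trans (sb E9864 (iv6 D73353)))).symm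
theorem E9866 : n72910 = n16295 := ((D72910).symm.trans (sb E9865 (iv1 D33740)))
theorem E9868 : n73349 = n72891 := ((((iv2 F109375)).symm.trans (sb E9865 (iv2 F109950)))).symm
theorem F110036 : act 1 n16295 = n33612 := (sb E9866 (iv0 D72910))
theorem F110038 : act 7 n72891 = n33739 := (sb E9868 (iv7 D73349))
theorem E9873 : n72928 = n58349 := ((c14_2 F110038 F108775 (iv7 D72928) (iv6 D33617) F52901 D72891)).symm
theorem F110040 : act 7 n58349 = n33617 := (sb E9873 (iv7 D72928))
theorem E9874 : n72913 = n58348 := (c15_4 (iv0 D58348) D58349 F110040 (iv2 F109389))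
theorem F110041 : act 2 n58348 = n33617 := (sb E9874 F109389)
theorem F110042 : act 6 n58348 = n33613 := (sb E9874 (iv6 D72913))
theorem F110043 : act 7 n60284 = n73241 := d8_2 F109995 D60284 (iv3 D73241)
theorem F110044 : act 7 n60285 = n73242 := d13_2 F109995 D60285 (iv5 D73242)
theorem E9875 : n73345 = n68744 := ((c15_2 (iv0 D68743) D68744 (iv7 D73345) (iv2 F109982))).symm
theorem F110045 : act 7 n68744 = n33738 := (sb E9875 (iv7 D73345))
theorem F110046 : act 6 n73355 = n61567 := d21_3 D72526 F109956 (iv5 F109952) (iv1 D61567) (iv6 D29151) (iv5 D13874) F53962 D7545 (iv6 F25699) D33467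
def n73356 : Q := act 1 n33745
theorem D73356 : act 1 n33745 = n73356 := rfl
theorem F110047 : act 1 n73356 = n33747 := d15_1 D73356 (iv7 F105551) F105550
theorem F110048 : act 7 n73356 = n60157 := d15_2 (iv0 F54116) D73356 F94705
theorem F110049 : act 4 n73356 = n54506 := d18_7 F50861 F42030 (iv1 F50787) F50788 D16299 D33745 D73356 F86105 (iv5 D28562)
theorem F110050 : act 2 n54507 = n73356 := d1_3 F110049 (iv2 D54506) D54507
def n73357 : Q := act 3 n33745
theorem D73357 : act 3 n33745 = n73357 := rfl
theorem F110051 : act 7 n73357 = n72645 := d8_2 (iv7 F52985) D73357 (iv3 D72645)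
def n73358 : Q := act 5 n33745
theorem D73358 : act 5 n33745 = n73358 := rfl
theorem F110052 : act 2 n73358 = n72751 := d2_1 D73358 F109234 F105550
theorem F110053 : act 7 n73358 = n72646 := d13_2 (iv7 F52985) D73358 (iv5 D72646)
theorem F110054 : act 4 n73358 = n72582 := d16_2 D33745 D73358 (iv5 D72582) (iv4 D33503) (iv5 D16183) F50778 D16304 (iv7 F51156) F51155
theorem F110055 : act 0 n73358 = n71118 := d17_2 (iv1 D73356) D73358 (iv5 D71118) (iv4 D32930) (iv5 D15859) F50863 (iv5 F46161) F86106 (iv4 F110049)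
theorem F110056 : act 3 n43437 = n73358 := d19_19 F110055 (iv5 D71118) (iv4 D32930) F25329 (iv1 F20525) (iv5 D12354) F9078 (iv3 F9025) F11700 (iv5 D7404) (iv4 F26316) (iv3 F12470) (iv1 F18278) (iv5 F27715) (iv4 F55159) F82974 (iv1 D20534) D20535 D43437
theorem F110057 : act 5 n73357 = n43437 := d6_0 F110056 (iv5 D73358) D73357
theorem F110058 : act 6 n73358 = n43473 := d7_2 (iv6 F68292) F110056 (iv3 D43473)
def n73359 : Q := act 6 n33745
theorem D73359 : act 6 n33745 = n73359 := rfl
theorem F110059 : act 4 n73359 = n33746 := d10_1 D73359 (iv6 D33746) D33745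
def n73360 : Q := act 0 n33746
theorem D73360 : act 0 n33746 = n73360 := rfl
def n73361 : Q := act 1 n33746
theorem D73361 : act 1 n33746 = n73361 := rfl
def n73362 : Q := act 7 n33746
theorem D73362 : act 7 n33746 = n73362 := rfl
theorem F110060 : act 6 n73362 = n72642 := d14_1 D73362 (iv7 D72642) F52842 F51005 D33746
def n73363 : Q := act 3 n33747
theorem D73363 : act 3 n33747 = n73363 := rfl
def n73364 : Q := act 5 n33747
theorem D73364 : act 5 n33747 = n73364 := rfl
theorem F110061 : act 2 n73364 = n72646 := d2_1 D73364 (iv5 D72646) (iv2 F52986)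
theorem F110062 : act 4 n73364 = n72753 := d9_1 D73364 F109236 F52860 F25766 F50788 D16299 D33745 D73358 F110054 (iv5 D72582) (iv4 D33503) (iv5 D16183) F50778 D16304 D33747
theorem F110063 : act 7 n73364 = n72751 := d13_2 F105551 D73364 F109234
theorem F110064 : act 1 n73364 = n71118 := d17_6 (iv1 F50694) (iv5 D32066) (iv1 F24740) D16304 D33747 D73364 (iv5 D71118) (iv0 F52989) (iv4 D33750)
def n73365 : Q := act 6 n33747
theorem D73365 : act 6 n33747 = n73365 := rfl
theorem F110065 : act 2 n73365 = n72641 := d3_1 D73365 F109165 (iv2 F52986)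
theorem F110066 : act 4 n73365 = n33748 := d10_1 D73365 (iv6 D33748) D33747
def n73366 : Q := act 0 n33748
theorem D73366 : act 0 n33748 = n73366 := rfl
def n73367 : Q := act 1 n33748
theorem D73367 : act 1 n33748 = n73367 := rfl
theorem F110067 : act 1 n73367 = n72642 := d15_1 D73367 (iv7 D72642) (iv2 F52987)
def n73368 : Q := act 7 n33748
theorem D73368 : act 7 n33748 = n73368 := rfl
theorem F110068 : act 2 n73368 = n72642 := d4_1 D73368 (iv7 D72642) (iv2 F52987)
theorem F110069 : act 5 n73368 = n72400 := d13_1 D73368 F108899 (iv5 F52988)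
theorem F110070 : act 1 n72642 = n73366 := d15_0 (iv0 D73366) D73368 F110068
theorem F110071 : act 1 n72640 = n73368 := d15_1 D72640 (iv7 D73368) F52987
theorem F110072 : act 1 n73368 = n72639 := d15_0 (iv0 D72639) D72642 (iv2 F110068)
def n73369 : Q := act 1 n33750
theorem D73369 : act 1 n33750 = n73369 := rfl
theorem F110073 : act 1 n73369 = n33753 := d15_1 D73369 (iv7 F105565) F105564
theorem F110074 : act 7 n73369 = n60155 := d15_2 (iv0 F52989) D73369 F94703
theorem F110075 : act 4 n73369 = n54488 := d18_7 F84939 F54113 F52859 (iv4 F47459) F50773 D33750 D73369 (iv0 F86054) F84940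
theorem F110076 : act 2 n54491 = n73369 := d1_3 F110075 F86050 D54491
def n73370 : Q := act 3 n33750
theorem D73370 : act 3 n33750 = n73370 := rfl
def n73371 : Q := act 5 n33750
theorem D73371 : act 5 n33750 = n73371 := rfl
def n73372 : Q := act 6 n33750
theorem D73372 : act 6 n33750 = n73372 := rfl
theorem F110077 : act 4 n73372 = n33751 := d10_1 D73372 (iv6 D33751) D33750
def n73373 : Q := act 0 n33751
theorem D73373 : act 0 n33751 = n73373 := rfl
def n73374 : Q := act 1 n33751
theorem D73374 : act 1 n33751 = n73374 := rfl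
def n73375 : Q := act 7 n33751
theorem D73375 : act 7 n33751 = n73375 := rfl
def n73376 : Q := act 4 n33752
theorem D73376 : act 4 n33752 = n73376 := rfl
theorem F110078 : act 2 n73376 = n70592 := d1_1 D73376 F107740 F107735
theorem F110079 : act 7 n73376 = n70591 := d11_2 F105561 D73376 F107060
theorem F110080 : act 0 n73376 = n54437 := d18_2 (iv1 F106805) D73376 (iv4 D54437) (iv5 D26328) (iv4 F25370) F50997 (iv4 F25721) F50776 D68613
theorem F110081 : act 1 n73376 = n54465 := d18_6 (iv1 F26690) D31654 (iv1 F104029) (iv4 F106798) F106799 D73376 (iv4 D54465) (iv0 F53349) (iv5 D34020)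
def n73377 : Q := act 6 n33752
theorem D73377 : act 6 n33752 = n73377 := rfl
theorem F110082 : act 3 n73377 = n33755 := d7_1 D73377 (iv6 D33755) D33752
def n73378 : Q := act 3 n33753
theorem D73378 : act 3 n33753 = n73378 := rfl
def n73379 : Q := act 5 n33753
theorem D73379 : act 5 n33753 = n73379 := rfl
def n73380 : Q := act 6 n33753
theorem D73380 : act 6 n33753 = n73380 := rfl
theorem F110083 : act 4 n73380 = n33755 := d10_1 D73380 (iv6 D33755) D33753
def n73381 : Q := act 0 n33755
theorem D73381 : act 0 n33755 = n73381 := rfl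
theorem F110084 : act 6 n73381 = n72637 := d21_5 (iv5 F97540) (iv1 F97543) F54100 D33755 D73381 (iv5 D72637) (iv1 D33522) D33523 F52842 D33525
def n73382 : Q := act 1 n33755
theorem D73382 : act 1 n33755 = n73382 := rfl
def n73383 : Q := act 7 n33755
theorem D73383 : act 7 n33755 = n73383 := rfl
def n73384 : Q := act 3 n33756
theorem D73384 : act 3 n33756 = n73384 := rfl
def n73385 : Q := act 5 n33756
theorem D73385 : act 5 n33756 = n73385 := rfl
def n73386 : Q := act 6 n33756
theorem D73386 : act 6 n33756 = n73386 := rfl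
def n73387 : Q := act 3 n33757
theorem D73387 : act 3 n33757 = n73387 := rfl
def n73388 : Q := act 5 n33757
theorem D73388 : act 5 n33757 = n73388 := rfl
def n73389 : Q := act 6 n33757
theorem D73389 : act 6 n33757 = n73389 := rfl
def n73390 : Q := act 0 n33758
theorem D73390 : act 0 n33758 = n73390 := rfl
def n73391 : Q := act 1 n33758
theorem D73391 : act 1 n33758 = n73391 := rfl
def n73392 : Q := act 2 n33758
theorem D73392 : act 2 n33758 = n73392 := rfl
theorem F110085 : act 4 n73392 = n34008 := d1_2 (iv4 F52994) D73392 (iv2 D34008)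
def n73393 : Q := act 5 n33758
theorem D73393 : act 5 n33758 = n73393 := rfl
theorem F110086 : act 3 n73393 = n33759 := d6_1 D73393 (iv5 D33759) D33758
def n73394 : Q := act 0 n33759
theorem D73394 : act 0 n33759 = n73394 := rfl
def n73395 : Q := act 4 n33759
theorem D73395 : act 4 n33759 = n73395 := rfl
theorem F110087 : act 2 n73395 = n72750 := d1_1 D73395 (iv4 F109233) F108745
theorem F110088 : act 7 n73395 = n72749 := d11_2 F105580 D73395 (iv4 F109230)
theorem F110089 : act 0 n73395 = n72582 := d18_2 F94710 D73395 (iv4 F110054) (iv5 D73358) (iv4 D33745) D33744 (iv4 F94708) (iv0 D60159) D60162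
theorem F110090 : act 1 n73395 = n72753 := d18_6 (iv1 F79148) (iv4 D33753) (iv1 D16307) D16308 D33759 D73395 (iv4 F110062) F110064 (iv5 D71118)
def n73396 : Q := act 6 n33759
theorem D73396 : act 6 n33759 = n73396 := rfl
def n73397 : Q := act 5 n33760
theorem D73397 : act 5 n33760 = n73397 := rfl
theorem F110091 : act 2 n73397 = n35468 := d2_1 D73397 F56166 (iv2 F52995)
theorem F110092 : act 3 n73397 = n33761 := d6_1 D73397 (iv5 D33761) D33760
def n73398 : Q := act 6 n33760
theorem D73398 : act 6 n33760 = n73398 := rfl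
def n73399 : Q := act 6 n33761
theorem D73399 : act 6 n33761 = n73399 := rfl
theorem F110095 : act 2 n73399 = n33773 := d3_1 D73399 (iv6 D33773) (iv2 F52996)
theorem F110096 : act 4 n73399 = n57358 := d10_1 D73399 (iv6 D57358) (iv4 F52997)
def n73400 : Q := act 0 n33762
theorem D73400 : act 0 n33762 = n73400 := rfl
theorem F110097 : act 4 n73400 = n54337 := d20_2 (iv4 F53001) D73400 (iv3 D54337) (iv1 F85719) F85714 (iv4 F106340) (iv1 F106342) D69983 (iv3 F106393) (iv1 D33764)
theorem F110098 : act 0 n73400 = n33777 := d20_7 F42641 (iv1 D6289) (iv4 F9204) (iv3 F20772) D26265 D54337 (iv4 F110097) F53021 F25849 (iv1 F21118)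
def n73402 : Q := act 5 n33762
theorem D73402 : act 5 n33762 = n73402 := rfl
theorem F110100 : act 2 n73402 = n33776 := d2_1 D73402 (iv5 D33776) (iv2 F53000)
def n73403 : Q := act 7 n33762
theorem D73403 : act 7 n33762 = n73403 := rfl
theorem F110101 : act 2 n73403 = n33777 := d4_1 D73403 (iv7 D33777) (iv2 F53000)
theorem F110102 : act 4 n73403 = n33766 := d11_1 D73403 (iv7 D33766) (iv4 F53001)
theorem F110103 : act 1 n33775 = n73403 := d15_1 D33775 (iv7 D73403) F53000
theorem F110104 : act 1 n73403 = n33774 := d15_0 (iv0 D33774) D33777 (iv2 F110101)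
def n73404 : Q := act 2 n33763
theorem D73404 : act 2 n33763 = n73404 := rfl
theorem F110105 : act 7 n33764 = n73404 := d15_2 (iv0 D33763) D33764 (iv2 D73404)
def n73405 : Q := act 3 n33763
theorem D73405 : act 3 n33763 = n73405 := rfl
def n73406 : Q := act 4 n33763
theorem D73406 : act 4 n33763 = n73406 := rfl
def n73407 : Q := act 5 n33763
theorem D73407 : act 5 n33763 = n73407 := rfl
def n73408 : Q := act 7 n33763
theorem D73408 : act 7 n33763 = n73408 := rfl
theorem F110106 : act 2 n73408 = n33764 := d4_1 D73408 F110105 (iv2 D73404)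
def n73409 : Q := act 4 n33764
theorem D73409 : act 4 n33764 = n73409 := rfl
def n73410 : Q := act 5 n33764
theorem D73410 : act 5 n33764 = n73410 := rfl
def n73411 : Q := act 6 n33764
theorem D73411 : act 6 n33764 = n73411 := rfl
def n73412 : Q := act 0 n33765
theorem D73412 : act 0 n33765 = n73412 := rfl
def n73413 : Q := act 1 n33765
theorem D73413 : act 1 n33765 = n73413 := rfl
theorem F110107 : act 1 n73413 = n33791 := d15_1 D73413 (iv7 D33791) (iv2 F53003)
theorem F110108 : act 5 n54696 = n73413 := d21_6 (iv5 D12614) (iv1 D5990) D5993 D12626 D26453 D54696 (iv1 D73413) (iv5 D33765) (iv6 D16320) (iv1 F27277)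
def n73414 : Q := act 4 n33765
theorem D73414 : act 4 n33765 = n73414 := rfl
theorem F110109 : act 2 n73414 = n33790 := d1_1 D73414 (iv4 D33790) (iv2 F53003)
theorem F110110 : act 6 n73414 = n35026 := d10_2 (iv6 F53004) D73414 (iv4 D35026)
def n73415 : Q := act 7 n33765
theorem D73415 : act 7 n33765 = n73415 := rfl
theorem F110111 : act 2 n73415 = n33791 := d4_1 D73415 (iv7 D33791) (iv2 F53003)
theorem F110112 : act 5 n73415 = n33766 := d13_1 D73415 (iv7 D33766) D33765
theorem F110113 : act 1 n33791 = n73412 := d15_0 (iv0 D73412) D73415 F110111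
theorem F110114 : act 1 n33789 = n73415 := d15_1 D33789 (iv7 D73415) F53003
theorem F110115 : act 1 n73415 = n33788 := d15_0 (iv0 D33788) D33791 (iv2 F110111)
def n73416 : Q := act 0 n33767
theorem D73416 : act 0 n33767 = n73416 := rfl
theorem F110116 : act 5 n73416 = n40065 := d17_1 D73416 F77331 (iv5 F90155) (iv4 D57104) D57105 F94772 (iv5 D57216) D57214 (iv4 F90251)
theorem F110117 : act 3 n73416 = n36151 := d20_5 F86364 (iv1 F52271) F52272 D33767 D73416 F56887 F36428 (iv4 F35265) (iv3 F42212) D54633
def n73417 : Q := act 1 n33767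
theorem D73417 : act 1 n33767 = n73417 := rfl
theorem F110118 : act 4 n57280 = n73417 := d20_6 (iv4 D13250) (iv1 F9795) D7564 D16221 (iv1 F44348) D57280 (iv1 D73417) F90251 (iv3 F90250) (iv1 D27755)
def n73418 : Q := act 6 n33767
theorem D73418 : act 6 n33767 = n73418 := rfl
theorem F110119 : act 3 n73418 = n33768 := d7_1 D73418 (iv6 D33768) D33767
def n73419 : Q := act 0 n33768
theorem D73419 : act 0 n33768 = n73419 := rfl
def n73420 : Q := act 1 n33768
theorem D73420 : act 1 n33768 = n73420 := rfl
def n73421 : Q := act 5 n33768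
theorem D73421 : act 5 n33768 = n73421 := rfl
def n73422 : Q := act 7 n33768
theorem D73422 : act 7 n33768 = n73422 := rfl
def n73423 : Q := act 1 n33769
theorem D73423 : act 1 n33769 = n73423 := rfl
theorem F110121 : act 1 n73423 = n69812 := d15_1 D73423 F106240 F77261
theorem F110122 : act 5 n73423 = n39272 := d17_7 (iv1 D8898) F5922 D7865 (iv5 F43048) D32418 (iv5 F53010) D73423 F60241 (iv4 D18995)
theorem F110123 : act 4 n73423 = n44961 := d17_9 (iv1 D44961) (iv5 F70634) (iv1 F108416) F108414 (iv4 F108034) (iv5 D71512) F52306 (iv5 F53010) D73423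
theorem F110124 : act 3 n36139 = n73423 := d20_5 (iv4 D13150) (iv1 F21630) F21631 D17475 D36139 F110123 (iv1 D44961) (iv4 F43350) (iv3 D26880) (iv1 F21932)
theorem E9876 : n57472 = n57111 := ((c19_17 (iv1 F110121) F110122 (iv4 D39272) F29903 (iv1 F27188) (iv5 F27153) F24915 (iv3 D7742) (iv1 D3513) D3515 D7751 (iv3 F12745) (iv1 F21848) (iv5 F21952) (iv4 F21953) (iv3 F44275) D57111 (iv5 D57472) D57471 F106241)).symm
theorem F110125 : act 5 n57111 = n27491 := (sb E9876 (iv5 D57472))
def n73424 : Q := act 6 n33769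
theorem D73424 : act 6 n33769 = n73424 := rfl
theorem F110126 : act 3 n73424 = n33770 := d7_1 D73424 (iv6 D33770) D33769
theorem F110127 : act 4 n73424 = n70395 := d10_1 D73424 (iv6 D70395) (iv4 F53009)
def n73425 : Q := act 5 n33770
theorem D73425 : act 5 n33770 = n73425 := rfl
def n73426 : Q := act 7 n33770
theorem D73426 : act 7 n33770 = n73426 := rfl
theorem F110128 : act 2 n73426 = n33892 := d4_1 D73426 F109943 F87171
theorem F110129 : act 4 n73426 = n70393 := d11_1 D73426 (iv7 D70393) (iv4 F53011)
def n73427 : Q := act 3 n33771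
theorem D73427 : act 3 n33771 = n73427 := rfl
theorem F110130 : act 2 n73427 = n40223 := d0_1 D73427 (iv3 D40223) F42928 (iv3 F52314) F53013
theorem F110131 : act 5 n73427 = n54683 := d6_2 (iv5 F53012) D73427 (iv3 D54683)
theorem F110132 : act 7 n73427 = n71541 := d8_2 (iv7 F53014) D73427 F108057
theorem F110133 : act 0 n73427 = n40065 := d20_4 (iv4 F90502) (iv1 F90808) F90805 D73427 (iv3 D40065) F30242 F15960 D13138 D27447 D57323
def n73428 : Q := act 6 n33771
theorem D73428 : act 6 n33771 = n73428 := rfl
theorem F110134 : act 2 n73428 = n71550 := d3_1 D73428 (iv6 D71550) F53013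
def n73429 : Q := act 3 n33772
theorem D73429 : act 3 n33772 = n73429 := rfl
theorem F110135 : act 2 n73429 = n72857 := d0_1 D73429 (iv3 D72857) (iv2 F90546) (iv3 D57357) (iv2 F53015)
theorem F110136 : act 4 n73429 = n35372 := d5_2 D33772 D73429 F56073 F28109 (iv3 F25844)
theorem F110137 : act 7 n73429 = n57359 := d8_2 (iv7 F53016) D73429 (iv3 D57359)
theorem F110138 : act 1 n72857 = n38190 := d15_0 (iv0 F90548) (iv7 F110137) F110135
def n73430 : Q := act 6 n33772
theorem D73430 : act 6 n33772 = n73430 := rfl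
theorem F110139 : act 2 n73430 = n57358 := d3_1 D73430 (iv6 D57358) (iv2 F53015)
theorem F110140 : act 4 n73430 = n33773 := d10_1 D73430 (iv6 D33773) D33772
def n73431 : Q := act 0 n33773
theorem D73431 : act 0 n33773 = n73431 := rfl
def n73432 : Q := act 1 n33773
theorem D73432 : act 1 n33773 = n73432 := rfl
def n73433 : Q := act 5 n33773
theorem D73433 : act 5 n33773 = n73433 := rfl
def n73434 : Q := act 7 n33773
theorem D73434 : act 7 n33773 = n73434 := rfl
theorem F110143 : act 3 n73434 = n36164 := d8_1 D73434 (iv7 D36164) (iv3 F53018)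
def n73435 : Q := act 2 n33774
theorem D73435 : act 2 n33774 = n73435 := rfl
theorem F110144 : act 7 n33775 = n73435 := d15_2 (iv0 D33774) D33775 (iv2 D73435)
def n73437 : Q := act 4 n33774
theorem D73437 : act 4 n33774 = n73437 := rfl
def n73439 : Q := act 6 n33774
theorem D73439 : act 6 n33774 = n73439 := rfl
def n73441 : Q := act 3 n33775
theorem D73441 : act 3 n33775 = n73441 := rfl
def n73442 : Q := act 4 n33775
theorem D73442 : act 4 n33775 = n73442 := rfl
theorem F110146 : act 3 n73442 = n54319 := d20_3 (iv4 F110102) (iv1 F110103) D73442 (iv1 D54319) F41695 (iv4 F51544) D69907 (iv4 F106343) (iv3 D33779) (iv1 F53008)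
def n73444 : Q := act 6 n33775
theorem D73444 : act 6 n33775 = n73444 := rfl
def n73446 : Q := act 1 n33776
theorem D73446 : act 1 n33776 = n73446 := rfl
def n73450 : Q := act 1 n33778
theorem D73450 : act 1 n33778 = n73450 := rfl
theorem F110150 : act 1 n73450 = n33783 := d15_1 D73450 (iv7 D33783) D33778
def n73451 : Q := act 3 n33778
theorem D73451 : act 3 n33778 = n73451 := rfl
theorem F110151 : act 7 n73451 = n33784 := d8_2 F53022 D73451 (iv3 D33784)
def n73452 : Q := act 4 n33778
theorem D73452 : act 4 n33778 = n73452 := rfl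
theorem F110152 : act 2 n73452 = n33780 := d1_1 D73452 (iv4 D33780) D33778
theorem F110153 : act 7 n73452 = n33785 := d11_2 F53022 D73452 (iv4 D33785)
def n73453 : Q := act 5 n33778
theorem D73453 : act 5 n33778 = n73453 := rfl
theorem F110154 : act 2 n73453 = n33781 := d2_1 D73453 (iv5 D33781) D33778
theorem F110155 : act 7 n73453 = n33786 := d13_2 F53022 D73453 (iv5 D33786)
def n73454 : Q := act 6 n33778
theorem D73454 : act 6 n33778 = n73454 := rfl
theorem F110156 : act 2 n73454 = n33782 := d3_1 D73454 (iv6 D33782) D33778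
def n73455 : Q := act 0 n33779
theorem D73455 : act 0 n33779 = n73455 := rfl
def n73456 : Q := act 1 n33779
theorem D73456 : act 1 n33779 = n73456 := rfl
def n73457 : Q := act 2 n33779
theorem D73457 : act 2 n33779 = n73457 := rfl
def n73458 : Q := act 5 n33779
theorem D73458 : act 5 n33779 = n73458 := rfl
theorem F110157 : act 3 n73458 = n33781 := d6_1 D73458 (iv5 D33781) D33779
def n73459 : Q := act 6 n33779
theorem D73459 : act 6 n33779 = n73459 := rfl
theorem F110158 : act 3 n73459 = n33782 := d7_1 D73459 (iv6 D33782) D33779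
def n73460 : Q := act 7 n33779
theorem D73460 : act 7 n33779 = n73460 := rfl
theorem F110159 : act 3 n73460 = n33783 := d8_1 D73460 (iv7 D33783) D33779
def n73461 : Q := act 0 n33780
theorem D73461 : act 0 n33780 = n73461 := rfl
def n73462 : Q := act 1 n33780
theorem D73462 : act 1 n33780 = n73462 := rfl
theorem F110160 : act 1 n73462 = n33785 := d15_1 D73462 (iv7 F110153) F110152
def n73463 : Q := act 3 n33780
theorem D73463 : act 3 n33780 = n73463 := rfl
def n73464 : Q := act 5 n33780
theorem D73464 : act 5 n33780 = n73464 := rfl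
def n73466 : Q := act 7 n33780
theorem D73466 : act 7 n33780 = n73466 := rfl
theorem F110162 : act 2 n73466 = n33785 := d4_1 D73466 (iv7 F110153) F110152
theorem F110163 : act 4 n73466 = n33783 := d11_1 D73466 (iv7 D33783) D33780
theorem F110164 : act 1 n33785 = n73461 := d15_0 (iv0 D73461) D73466 F110162
def n73467 : Q := act 0 n33781
theorem D73467 : act 0 n33781 = n73467 := rfl
def n73468 : Q := act 1 n33781
theorem D73468 : act 1 n33781 = n73468 := rfl
theorem F110165 : act 1 n73468 = n33786 := d15_1 D73468 (iv7 F110155) F110154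
def n73469 : Q := act 4 n33781
theorem D73469 : act 4 n33781 = n73469 := rfl
def n73470 : Q := act 6 n33781
theorem D73470 : act 6 n33781 = n73470 := rfl
def n73471 : Q := act 7 n33781
theorem D73471 : act 7 n33781 = n73471 := rfl
theorem F110166 : act 2 n73471 = n33786 := d4_1 D73471 (iv7 F110155) F110154
theorem F110167 : act 5 n73471 = n33783 := d13_1 D73471 (iv7 D33783) D33781
theorem F110168 : act 1 n33786 = n73467 := d15_0 (iv0 D73467) D73471 F110166
def n73473 : Q := act 1 n33782
theorem D73473 : act 1 n33782 = n73473 := rfl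
def n73474 : Q := act 7 n33782
theorem D73474 : act 7 n33782 = n73474 := rfl
def n73475 : Q := act 6 n33783
theorem D73475 : act 6 n33783 = n73475 := rfl
theorem F110169 : act 2 n73475 = n33787 := d3_1 D73475 (iv6 D33787) (iv2 F53023)
def n73476 : Q := act 0 n33784
theorem D73476 : act 0 n33784 = n73476 := rfl
def n73477 : Q := act 1 n33784
theorem D73477 : act 1 n33784 = n73477 := rfl
def n73478 : Q := act 2 n33784
theorem D73478 : act 2 n33784 = n73478 := rfl
def n73479 : Q := act 4 n33784
theorem D73479 : act 4 n33784 = n73479 := rfl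
def n73480 : Q := act 5 n33784
theorem D73480 : act 5 n33784 = n73480 := rfl
theorem F110170 : act 3 n73480 = n33786 := d6_1 D73480 (iv5 D33786) D33784
def n73481 : Q := act 6 n33784
theorem D73481 : act 6 n33784 = n73481 := rfl
theorem F110171 : act 3 n73481 = n33787 := d7_1 D73481 (iv6 D33787) D33784
def n73482 : Q := act 3 n33785
theorem D73482 : act 3 n33785 = n73482 := rfl
def n73483 : Q := act 5 n33785
theorem D73483 : act 5 n33785 = n73483 := rfl
def n73484 : Q := act 6 n33785
theorem D73484 : act 6 n33785 = n73484 := rfl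
theorem F110172 : act 4 n73484 = n33787 := d10_1 D73484 (iv6 D33787) D33785
def n73485 : Q := act 4 n33786
theorem D73485 : act 4 n33786 = n73485 := rfl
def n73486 : Q := act 6 n33786
theorem D73486 : act 6 n33786 = n73486 := rfl
def n73487 : Q := act 0 n33787
theorem D73487 : act 0 n33787 = n73487 := rfl
def n73488 : Q := act 1 n33787
theorem D73488 : act 1 n33787 = n73488 := rfl
def n73489 : Q := act 5 n33787
theorem D73489 : act 5 n33787 = n73489 := rfl
def n73490 : Q := act 7 n33787
theorem D73490 : act 7 n33787 = n73490 := rfl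
def n73491 : Q := act 2 n33788
theorem D73491 : act 2 n33788 = n73491 := rfl
theorem F110173 : act 7 n33789 = n73491 := d15_2 (iv0 D33788) D33789 (iv2 D73491)
def n73492 : Q := act 3 n33788
theorem D73492 : act 3 n33788 = n73492 := rfl
def n73493 : Q := act 4 n33788
theorem D73493 : act 4 n33788 = n73493 := rfl
def n73494 : Q := act 5 n33788
theorem D73494 : act 5 n33788 = n73494 := rfl
def n73495 : Q := act 6 n33788
theorem D73495 : act 6 n33788 = n73495 := rfl
def n73496 : Q := act 7 n33788
theorem D73496 : act 7 n33788 = n73496 := rfl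
theorem F110174 : act 2 n73496 = n33789 := d4_1 D73496 F110173 (iv2 D73491)
def n73497 : Q := act 3 n33789
theorem D73497 : act 3 n33789 = n73497 := rfl
def n73498 : Q := act 4 n33789
theorem D73498 : act 4 n33789 = n73498 := rfl
def n73499 : Q := act 5 n33789
theorem D73499 : act 5 n33789 = n73499 := rfl
theorem F110175 : act 6 n73499 = n54659 := d21_3 (iv5 F110112) (iv1 F110114) D73499 (iv1 F86450) F42315 (iv5 F52333) (iv1 F107913) (iv5 F107914) (iv6 D33782) (iv1 F53008)
def n73500 : Q := act 6 n33789
theorem D73500 : act 6 n33789 = n73500 := rfl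
def n73501 : Q := act 0 n33790
theorem D73501 : act 0 n33790 = n73501 := rfl
def n73502 : Q := act 1 n33790
theorem D73502 : act 1 n33790 = n73502 := rfl
theorem F110176 : act 4 n70282 = n73502 := d20_6 (iv4 F53149) (iv1 F85784) F85781 (iv3 F85756) (iv1 F85760) D70282 (iv1 D73502) (iv4 D33790) F25847 D16339
def n73503 : Q := act 3 n33790
theorem D73503 : act 3 n33790 = n73503 := rfl
theorem F110177 : act 4 n73503 = n33819 := d5_2 D33790 D73503 (iv3 D33819) (iv4 D16341) (iv3 F25847)
theorem F110178 : act 6 n73503 = n35050 := d7_2 (iv6 F53024) D73503 (iv3 D35050)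
def n73504 : Q := act 5 n33790
theorem D73504 : act 5 n33790 = n73504 := rfl
def n73505 : Q := act 7 n33790
theorem D73505 : act 7 n33790 = n73505 := rfl
theorem F110179 : act 4 n73505 = n33791 := d11_1 D73505 (iv7 D33791) D33790
def n73506 : Q := act 6 n33791
theorem D73506 : act 6 n33791 = n73506 := rfl
theorem F110180 : act 3 n73506 = n33822 := d7_1 D73506 (iv6 D33822) (iv3 F53025)
theorem F110181 : act 7 n73506 = n35053 := d14_2 D33791 D73506 (iv6 D35053) (iv7 D17016) (iv6 F25848)
def n73508 : Q := act 3 n33792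
theorem D73508 : act 3 n33792 = n73508 := rfl
theorem F110183 : act 4 n73508 = n70117 := d20_6 F5331 D3907 F42181 D16330 D33792 D73508 (iv1 D70117) (iv4 D32531) (iv3 D15405) (iv1 D7273)
def n73509 : Q := act 4 n33792
theorem D73509 : act 4 n33792 = n73509 := rfl
theorem F110184 : act 0 n73509 = n70021 := d20_1 D73509 (iv4 D70021) (iv3 D32496) (iv1 D15382) F11574 F5331 D3907 F42181 D16330 D33792
def n73517 : Q := act 4 n33794
theorem D73517 : act 4 n33794 = n73517 := rfl
theorem F110186 : act 2 n73517 = n33795 := d1_1 D73517 (iv4 D33795) D33794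
def n73518 : Q := act 5 n33794
theorem D73518 : act 5 n33794 = n73518 := rfl
theorem F110187 : act 2 n73518 = n33796 := d2_1 D73518 (iv5 D33796) D33794
def n73519 : Q := act 6 n33794
theorem D73519 : act 6 n33794 = n73519 := rfl
theorem F110188 : act 2 n73519 = n33797 := d3_1 D73519 (iv6 D33797) D33794
def n73520 : Q := act 0 n33795
theorem D73520 : act 0 n33795 = n73520 := rfl
def n73521 : Q := act 1 n33795
theorem D73521 : act 1 n33795 = n73521 := rfl
def n73522 : Q := act 5 n33795
theorem D73522 : act 5 n33795 = n73522 := rfl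
theorem F110189 : act 3 n73522 = n39206 := d6_1 D73522 (iv5 D39206) (iv3 F53027)
def n73523 : Q := act 6 n33795
theorem D73523 : act 6 n33795 = n73523 := rfl
theorem F110190 : act 3 n73523 = n39207 := d7_1 D73523 (iv6 D39207) (iv3 F53027)
def n73524 : Q := act 0 n33796
theorem D73524 : act 0 n33796 = n73524 := rfl
def n73525 : Q := act 1 n33796
theorem D73525 : act 1 n33796 = n73525 := rfl
def n73526 : Q := act 4 n33796
theorem D73526 : act 4 n33796 = n73526 := rfl
def n73527 : Q := act 6 n33796
theorem D73527 : act 6 n33796 = n73527 := rfl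
def n73528 : Q := act 0 n33797
theorem D73528 : act 0 n33797 = n73528 := rfl
def n73529 : Q := act 1 n33797
theorem D73529 : act 1 n33797 = n73529 := rfl
def n73530 : Q := act 3 n33798
theorem D73530 : act 3 n33798 = n73530 := rfl
theorem F110193 : act 5 n73530 = n34399 := d6_2 (iv5 F53030) D73530 F54562
def n73531 : Q := act 4 n33798
theorem D73531 : act 4 n33798 = n73531 := rfl
theorem F110196 : act 0 n73531 = n36372 := d18_2 D33798 D73531 (iv4 D36372) (iv5 D17559) (iv4 D8249) F9587 (iv4 F21122) F21126 D16332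
theorem F110197 : act 1 n73531 = n36327 := d18_6 (iv1 D32891) F41746 F30428 F28976 (iv5 F53030) D73531 (iv4 D36327) D36326 F57057
def n73532 : Q := act 6 n33798
theorem D73532 : act 6 n33798 = n73532 := rfl
theorem F110198 : act 5 n73532 = n34401 := d12_1 D73532 (iv6 D34401) (iv5 D16675) D16676 (iv5 F53030)
def n73533 : Q := act 3 n33799
theorem D73533 : act 3 n33799 = n73533 := rfl
def n73534 : Q := act 4 n33799
theorem D73534 : act 4 n33799 = n73534 := rfl
theorem F110201 : act 0 n73534 = n36327 := d18_2 (iv1 F53034) D73534 (iv4 D36327) (iv5 D17540) (iv4 D8244) (iv0 D3710) (iv4 F5430) D7592 D16337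
theorem F110202 : act 1 n73534 = n36372 := d18_6 (iv1 F51922) F51612 (iv1 F43885) (iv4 F86548) F86551 D73534 (iv4 D36372) F57052 F57051
def n73535 : Q := act 3 n33800
theorem D73535 : act 3 n33800 = n73535 := rfl
def n73536 : Q := act 6 n33800
theorem D73536 : act 6 n33800 = n73536 := rfl
def n73537 : Q := act 7 n33801
theorem D73537 : act 7 n33801 = n73537 := rfl
theorem F110204 : act 6 n73537 = n68951 := d14_1 D73537 F105120 (iv6 D55091) F42654 D33801
def n73539 : Q := act 3 n33803
theorem D73539 : act 3 n33803 = n73539 := rfl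
theorem F110207 : act 4 n73539 = n70083 := d20_6 F20780 (iv1 F9793) F42185 D16335 D33803 D73539 (iv1 D70083) (iv4 D32521) (iv3 D15400) (iv1 F20784)
def n73544 : Q := act 3 n33804
theorem D73544 : act 3 n33804 = n73544 := rfl
theorem F110209 : act 4 n70003 = n73544 := d20_2 D32492 D70003 (iv3 D73544) (iv1 D33804) (iv3 D16335) (iv4 F42185) (iv1 D3908) (iv4 F5331) (iv3 F11574) D15381
def n73548 : Q := act 4 n33805
theorem D73548 : act 4 n33805 = n73548 := rfl
theorem F110210 : act 2 n73548 = n33806 := d1_1 D73548 (iv4 D33806) D33805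
def n73549 : Q := act 5 n33805
theorem D73549 : act 5 n33805 = n73549 := rfl
theorem F110211 : act 2 n73549 = n33807 := d2_1 D73549 (iv5 D33807) D33805
def n73550 : Q := act 6 n33805
theorem D73550 : act 6 n33805 = n73550 := rfl
theorem F110212 : act 2 n73550 = n33808 := d3_1 D73550 (iv6 D33808) D33805
def n73551 : Q := act 0 n33806
theorem D73551 : act 0 n33806 = n73551 := rfl
def n73552 : Q := act 1 n33806
theorem D73552 : act 1 n33806 = n73552 := rfl
def n73553 : Q := act 5 n33806
theorem D73553 : act 5 n33806 = n73553 := rfl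
theorem F110213 : act 3 n73553 = n39236 := d6_1 D73553 (iv5 D39236) (iv3 F53138)
def n73554 : Q := act 6 n33806
theorem D73554 : act 6 n33806 = n73554 := rfl
theorem F110214 : act 3 n73554 = n39237 := d7_1 D73554 (iv6 D39237) (iv3 F53138)
def n73557 : Q := act 4 n33807
theorem D73557 : act 4 n33807 = n73557 := rfl
def n73558 : Q := act 6 n33807
theorem D73558 : act 6 n33807 = n73558 := rfl
theorem F110216 : act 3 n73558 = n33810 := d7_1 D73558 (iv6 D33810) (iv3 F53139)
def n73559 : Q := act 0 n33808
theorem D73559 : act 0 n33808 = n73559 := rfl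
def n73560 : Q := act 1 n33808
theorem D73560 : act 1 n33808 = n73560 := rfl
def n73561 : Q := act 5 n33808
theorem D73561 : act 5 n33808 = n73561 := rfl
theorem F110217 : act 3 n73561 = n33811 := d6_1 D73561 (iv5 D33811) (iv3 F53140)
def n73562 : Q := act 3 n33809
theorem D73562 : act 3 n33809 = n73562 := rfl
def n73563 : Q := act 6 n33809
theorem D73563 : act 6 n33809 = n73563 := rfl
theorem F110218 : act 4 n73563 = n33810 := d10_1 D73563 (iv6 D33810) D33809
theorem F110219 : act 0 n68570 = n73563 := d21_4 F26748 (iv1 F33972) (iv5 F50207) (iv6 F104761) (iv6 D73563) (iv5 F106538) (iv1 D70157) (iv5 D32545) F24966 D15435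
def n73564 : Q := act 5 n33810
theorem D73564 : act 5 n33810 = n73564 := rfl
theorem F110220 : act 6 n73564 = n33811 := d12_2 D33810 D73564 (iv5 D33811) (iv6 D16338) D16337
def n73565 : Q := act 4 n33811
theorem D73565 : act 4 n33811 = n73565 := rfl
theorem F110221 : act 5 n73565 = n58409 := d16_1 D73565 (iv4 D58409) F44884 (iv4 F42201) F21794 (iv4 F29953) (iv5 F54938) (iv7 F60518) F60517
theorem F110222 : act 0 n73565 = n34779 := d17_0 F54989 (iv1 F44937) F44935 (iv4 D16807) (iv5 D7844) D7843 D16803 (iv0 F53142) D73565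
theorem F110223 : act 1 n73565 = n34744 := d18_6 (iv1 D18760) F13665 (iv1 F29780) (iv4 F42188) D33811 D73565 (iv4 D34744) D34743 F54971
def n73566 : Q := act 0 n33812
theorem D73566 : act 0 n33812 = n73566 := rfl
def n73567 : Q := act 1 n33812
theorem D73567 : act 1 n33812 = n73567 := rfl
def n73568 : Q := act 2 n33812
theorem D73568 : act 2 n33812 = n73568 := rfl
def n73569 : Q := act 4 n33812
theorem D73569 : act 4 n33812 = n73569 := rfl
def n73570 : Q := act 5 n33812
theorem D73570 : act 5 n33812 = n73570 := rfl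
theorem F110224 : act 3 n73570 = n33814 := d6_1 D73570 (iv5 D33814) D33812
theorem F110225 : act 6 n73570 = n69588 := d12_2 (iv6 F105099) D73570 F105879 F87276 D68928
theorem F110226 : act 7 n73570 = n54729 := d13_2 F87131 D73570 (iv5 F87130)
def n73573 : Q := act 2 n33815
theorem D73573 : act 2 n33815 = n73573 := rfl
theorem F110227 : act 5 n73573 = n72147 := d2_2 (iv5 F53151) D73573 F108587
def n73574 : Q := act 4 n33815
theorem D73574 : act 4 n33815 = n73574 := rfl
def n73575 : Q := act 6 n33815
theorem D73575 : act 6 n33815 = n73575 := rfl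
theorem F110229 : act 5 n73575 = n72155 := d12_1 D73575 (iv6 D72155) (iv5 D33307) D33308 (iv5 F53151)
def n73576 : Q := act 0 n33816
theorem D73576 : act 0 n33816 = n73576 := rfl
theorem F110230 : act 5 n73576 = n54755 := d21_0 (iv1 F86613) F52579 (iv6 F85843) (iv1 F85845) F87110 F87108 (iv1 D33313) F25852 D33816 D73576
def n73577 : Q := act 1 n33816
theorem D73577 : act 1 n33816 = n73577 := rfl
theorem F110231 : act 5 n54756 = n73577 := d21_0 (iv1 D73577) F53152 (iv6 D33311) (iv1 F29963) (iv6 F60374) (iv5 D39457) D39456 F92312 F86600 (iv1 F86609)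
theorem F110232 : act 6 n73577 = n35056 := d21_3 (iv5 F52579) (iv1 F86609) F110231 (iv1 F88006) F88003 F55677 (iv1 F47669) D61553 (iv6 F96092) (iv1 F85829)
def n73578 : Q := act 3 n33817
theorem D73578 : act 3 n33817 = n73578 := rfl
def n73579 : Q := act 5 n33817
theorem D73579 : act 5 n33817 = n73579 := rfl
theorem F110236 : act 4 n73579 = n36394 := d16_2 (iv4 F53153) D73579 (iv5 D36394) (iv4 D17573) (iv5 F13153) (iv4 F28774) F41728 (iv7 F41811) (iv2 F41810)
def n73580 : Q := act 6 n33817
theorem D73580 : act 6 n33817 = n73580 := rfl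
theorem F110237 : act 2 n73580 = n68596 := d3_1 D73580 F104799 F53154
theorem F110238 : act 4 n73580 = n54026 := d10_1 D73580 F85231 (iv4 F53153)
theorem F110239 : act 7 n68585 = n73580 := d11_0 F110238 F85232 D68585
def n73581 : Q := act 3 n33818
theorem D73581 : act 3 n33818 = n73581 := rfl
def n73582 : Q := act 5 n33818
theorem D73582 : act 5 n33818 = n73582 := rfl
theorem F110242 : act 4 n73582 = n36386 := d9_1 D73582 (iv5 D36386) (iv4 D17568) D17569 (iv4 F52076) F52077 (iv4 F53153) D73579 F110236 (iv5 D36394) (iv4 D17573) (iv5 F13153) (iv4 F28774) F41728 (iv4 F53157)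
def n73586 : Q := act 2 n33819
theorem D73586 : act 2 n33819 = n73586 := rfl
theorem F110246 : act 6 n73586 = n35070 := d3_2 (iv6 F53159) D73586 (iv2 D35070)
def n73587 : Q := act 5 n33819
theorem D73587 : act 5 n33819 = n73587 := rfl
def n73588 : Q := act 7 n33819
theorem D73588 : act 7 n33819 = n73588 := rfl
theorem F110248 : act 3 n73588 = n33821 := d8_1 D73588 (iv7 D33821) D33819
def n73589 : Q := act 0 n33820
theorem D73589 : act 0 n33820 = n73589 := rfl
theorem F110249 : act 5 n73589 = n36327 := d17_3 (iv1 D33818) D33820 D73589 (iv4 D36327) (iv5 D17540) (iv0 F30465) D12481 D26271 (iv4 F53157)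
theorem F110250 : act 4 n73589 = n36376 := d18_1 D73589 F57126 D58253 F92075 F51615 F41769 (iv4 F53153) (iv0 D33817) D33820
theorem F110252 : act 2 n70100 = n73589 := d1_3 F110250 F60232 (iv4 F106485)
def n73590 : Q := act 1 n33820
theorem D73590 : act 1 n33820 = n73590 := rfl
theorem F110255 : act 7 n73590 = n70100 := d15_2 (iv0 D73589) D73590 F110252
theorem F110256 : act 5 n73590 = n36372 := d17_7 (iv1 F53031) (iv5 D16337) (iv1 D7592) D7593 D16341 D33820 D73590 (iv0 F110196) (iv4 D73531)
theorem F110257 : act 4 n73590 = n36337 := d17_9 (iv1 F60236) F60234 (iv1 F30469) D36394 (iv4 F110236) (iv5 D73579) (iv0 D33817) D33820 D73590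
def n73591 : Q := act 6 n33820
theorem D73591 : act 6 n33820 = n73591 := rfl
theorem F110259 : act 5 n73591 = n35073 := d12_1 D73591 (iv6 D35073) (iv5 D17024) (iv6 F25853) D33820
def n73592 : Q := act 6 n33821
theorem D73592 : act 6 n33821 = n73592 := rfl
theorem F110260 : act 4 n73592 = n33822 := d10_1 D73592 (iv6 D33822) (iv4 F53160)
theorem F110261 : act 7 n73592 = n35074 := d14_2 D33821 D73592 (iv6 D35074) (iv7 D17025) (iv6 F25853)
def n73593 : Q := act 5 n33823
theorem D73593 : act 5 n33823 = n73593 := rfl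
theorem F110262 : act 2 n73593 = n35372 := d2_1 D73593 (iv5 D35372) (iv2 F53164)
theorem F110263 : act 3 n73593 = n33824 := d6_1 D73593 (iv5 D33824) D33823
theorem F110264 : act 7 n73593 = n38287 := d13_2 F87046 D73593 (iv5 F87045)
theorem F110265 : act 4 n73593 = n72857 := d18_5 D38200 (iv4 F74450) F87153 F87150 D73593 F110138 (iv4 D38190) (iv0 D18252) D18255
def n73594 : Q := act 6 n33823
theorem D73594 : act 6 n33823 = n73594 := rfl
theorem F110266 : act 2 n73594 = n35373 := d3_1 D73594 (iv6 D35373) (iv2 F53164)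
theorem F110267 : act 3 n73594 = n33825 := d7_1 D73594 (iv6 D33825) D33823
def n73595 : Q := act 6 n33824
theorem D73595 : act 6 n33824 = n73595 := rfl
theorem F110268 : act 2 n73595 = n33834 := d3_1 D73595 (iv6 D33834) (iv2 F53165)
def n73596 : Q := act 0 n33825
theorem D73596 : act 0 n33825 = n73596 := rfl
theorem F110269 : act 4 n73596 = n54405 := d20_2 (iv4 F53170) D73596 (iv3 D54405) (iv1 F85874) F85869 (iv4 F85931) (iv1 F85933) F51765 (iv3 F53172) (iv1 D33827)
theorem F110270 : act 0 n73596 = n33838 := d20_7 F30358 (iv1 D6282) (iv4 F9233) (iv3 F20836) D26313 D54405 (iv4 F110269) F53194 F25868 (iv1 F21137)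
def n73597 : Q := act 1 n33825
theorem D73597 : act 1 n33825 = n73597 := rfl
theorem F110271 : act 1 n73597 = n33838 := d15_1 D73597 (iv7 D33838) (iv2 F53169)
def n73598 : Q := act 5 n33825
theorem D73598 : act 5 n33825 = n73598 := rfl
theorem F110272 : act 2 n73598 = n33837 := d2_1 D73598 (iv5 D33837) (iv2 F53169)
def n73599 : Q := act 7 n33825
theorem D73599 : act 7 n33825 = n73599 := rfl
theorem F110273 : act 2 n73599 = n33838 := d4_1 D73599 (iv7 D33838) (iv2 F53169)
theorem F110274 : act 4 n73599 = n33828 := d11_1 D73599 (iv7 D33828) (iv4 F53170)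
theorem F110275 : act 1 n33836 = n73599 := d15_1 D33836 (iv7 D73599) F53169
theorem F110276 : act 1 n73599 = n33835 := d15_0 (iv0 D33835) D33838 (iv2 F110273)
def n73600 : Q := act 3 n33826
theorem D73600 : act 3 n33826 = n73600 := rfl
theorem F110277 : act 2 n73600 = n33868 := d0_1 D73600 (iv3 D33868) (iv2 F42711) F85911 (iv2 F85916)
theorem F110278 : act 7 n73600 = n33845 := d8_2 (iv7 F85917) D73600 (iv3 D33845)
def n73601 : Q := act 4 n33826
theorem D73601 : act 4 n33826 = n73601 := rfl
theorem F110279 : act 2 n73601 = n33841 := d1_1 D73601 (iv4 D33841) (iv2 F85916)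
theorem F110280 : act 7 n73601 = n33846 := d11_2 (iv7 F85917) D73601 (iv4 D33846)
def n73602 : Q := act 5 n33826
theorem D73602 : act 5 n33826 = n73602 := rfl
theorem F110281 : act 2 n73602 = n33842 := d2_1 D73602 (iv5 D33842) (iv2 F85916)
theorem F110282 : act 7 n73602 = n33847 := d13_2 (iv7 F85917) D73602 (iv5 D33847)
theorem F110283 : act 1 n71701 = n73602 := d15_1 D71701 F110282 F85918
theorem F110284 : act 5 n71701 = n71975 := d21_2 D73602 (iv1 F110283) (iv6 D71975) (iv1 D33250) (iv6 D16054) (iv5 F26854) (iv1 F9438) (iv5 F11831) D16354 D33826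
theorem F110285 : act 1 n73602 = n71700 := d15_0 (iv0 D71700) (iv7 F85915) (iv2 F110281)
def n73603 : Q := act 4 n33827
theorem D73603 : act 4 n33827 = n73603 := rfl
theorem F110286 : act 2 n73603 = n33846 := d1_1 D73603 (iv4 D33846) (iv2 F85913)
theorem F110287 : act 7 n73603 = n33841 := d11_2 (iv7 F85914) D73603 (iv4 D33841)
def n73604 : Q := act 6 n33827
theorem D73604 : act 6 n33827 = n73604 := rfl
theorem F110288 : act 2 n73604 = n33848 := d3_1 D73604 (iv6 D33848) (iv2 F85913)
theorem F110289 : act 3 n73604 = n33872 := d7_1 D73604 (iv6 D33872) (iv3 F53172)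
theorem F110290 : act 5 n73604 = n71699 := d12_1 D73604 (iv6 D71699) (iv5 D33149) D33150 F53173
theorem F110291 : act 0 n71989 = n71699 := d21_1 D71989 (iv5 F110290) (iv6 D73604) (iv1 D33827) (iv6 D16354) F11831 (iv1 F9442) F26863 D16059 D33256
def n73605 : Q := act 0 n33829
theorem D73605 : act 0 n33829 = n73605 := rfl
theorem F110292 : act 5 n73605 = n38129 := d17_1 D73605 (iv1 D38129) D38131 (iv4 F58966) (iv5 F59263) (iv0 D38407) (iv5 D18321) D18319 (iv4 F53181)
theorem F110293 : act 3 n73605 = n35458 := d20_5 (iv4 D48994) (iv1 F52450) F52451 D33829 D73605 (iv4 F106899) (iv1 D70435) F51762 (iv3 F42579) (iv1 F77327)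
theorem F110294 : act 1 n34540 = n73605 := d15_0 (iv0 D73605) (iv7 F87064) F87061
theorem F110295 : act 7 n38026 = n73605 := d8_0 F110293 (iv7 F86754) (iv3 F87066)
theorem F110296 : act 2 n73605 = n38025 := d15_3 (iv0 D38025) D38026 F110295
def n73606 : Q := act 1 n33829
theorem D73606 : act 1 n33829 = n73606 := rfl
theorem F110297 : act 1 n73606 = n34540 := d15_1 D73606 F54789 (iv2 F53180)
theorem F110298 : act 7 n73606 = n38025 := d15_2 (iv0 D73605) D73606 (iv2 F110296)
theorem F110299 : act 2 n38026 = n73606 := d4_3 F110298 (iv2 F110296) (iv7 F110295)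
theorem F110300 : act 5 n38027 = n73606 := d13_3 F110298 F58857 (iv7 F58860)
theorem F110301 : act 3 n73606 = n47216 := d6_1 F110300 (iv5 D47216) (iv3 F58859)
def n73607 : Q := act 6 n33829
theorem D73607 : act 6 n33829 = n73607 := rfl
theorem F110302 : act 2 n73607 = n38028 := d3_1 D73607 (iv6 D38028) (iv2 F53180)
theorem F110303 : act 3 n73607 = n33830 := d7_1 D73607 (iv6 D33830) D33829
theorem F110304 : act 4 n73607 = n38404 := d10_1 D73607 (iv6 D38404) (iv4 F53181)
def n73608 : Q := act 0 n33830
theorem D73608 : act 0 n33830 = n73608 := rfl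
def n73609 : Q := act 1 n33830
theorem D73609 : act 1 n33830 = n73609 := rfl
def n73610 : Q := act 5 n33830
theorem D73610 : act 5 n33830 = n73610 := rfl
def n73611 : Q := act 7 n33830
theorem D73611 : act 7 n33830 = n73611 := rfl
def n73612 : Q := act 0 n33831
theorem D73612 : act 0 n33831 = n73612 := rfl
def n73613 : Q := act 1 n33831
theorem D73613 : act 1 n33831 = n73613 := rfl
def n73614 : Q := act 5 n33831
theorem D73614 : act 5 n33831 = n73614 := rfl
theorem F110305 : act 3 n73614 = n37901 := d6_1 D73614 (iv5 D37901) (iv3 F53183)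
theorem F110306 : act 6 n73614 = n37894 := d12_2 D33831 D73614 (iv5 D37894) (iv6 D18160) (iv5 F25861)
def n73615 : Q := act 7 n33831
theorem D73615 : act 7 n33831 = n73615 := rfl
theorem F110307 : act 3 n73615 = n37902 := d8_1 D73615 (iv7 D37902) (iv3 F53183)
def n73616 : Q := act 4 n33832
theorem D73616 : act 4 n33832 = n73616 := rfl
theorem F110309 : act 2 n73616 = n38151 := d1_1 D73616 F59000 F53186
theorem F110310 : act 5 n73616 = n35919 := d9_2 (iv5 F53185) D73616 (iv4 D35919) (iv5 D17389) (iv4 F12914) D15334 F29483 (iv5 D18286) (iv4 F29472) (iv5 F56581) (iv4 D35913) (iv5 D17386) D17385 (iv5 F51848) F51847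
theorem F110311 : act 7 n73616 = n38252 := d11_2 (iv7 F53188) D73616 F59134
theorem F110312 : act 0 n73616 = n38251 := d17_0 (iv5 F108372) (iv1 D71880) F52455 F29303 (iv5 F25861) (iv0 F42609) F52453 F53187 D73616
theorem F110313 : act 1 n73616 = n38250 := d18_6 D33246 F52482 (iv1 F51850) F51847 (iv5 F53185) D73616 F86958 (iv0 D54960) F42864
def n73617 : Q := act 6 n33832
theorem D73617 : act 6 n33832 = n73617 := rfl
theorem F110314 : act 2 n73617 = n38157 := d3_1 D73617 (iv6 D38157) F53186
theorem F110315 : act 3 n73617 = n38406 := d7_1 D73617 (iv6 D38406) (iv3 F53189)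
def n73618 : Q := act 1 n33833
theorem D73618 : act 1 n33833 = n73618 := rfl
theorem F110316 : act 1 n73618 = n35925 := d15_1 D73618 (iv7 F83193) F83192
theorem F110317 : act 7 n73618 = n60200 := d15_2 (iv0 F53190) D73618 (iv2 D60200)
theorem F110318 : act 5 n73618 = n35958 := d17_7 (iv1 F28346) (iv5 D17386) (iv1 F20087) D25548 D52638 F83168 D73618 F56653 (iv4 D25588)
theorem F110319 : act 4 n73618 = n35970 := d17_9 (iv1 F71636) F71637 (iv1 D33183) D33184 (iv4 F52411) (iv5 F52415) (iv0 F83170) F83168 D73618
theorem F110320 : act 2 n54962 = n73618 := d1_3 F110319 F56682 D54962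
theorem F110321 : act 3 n73618 = n60229 := d0_2 (iv3 F86965) F110320 (iv2 D60229) (iv3 D28625) (iv2 F46167)
def n73619 : Q := act 3 n33833
theorem D73619 : act 3 n33833 = n73619 := rfl
theorem F110322 : act 4 n73619 = n35468 := d5_2 D33833 D73619 (iv3 D35468) (iv4 D17198) (iv3 F25862)
def n73620 : Q := act 6 n33833
theorem D73620 : act 6 n33833 = n73620 := rfl
theorem F110323 : act 4 n73620 = n33834 := d10_1 D73620 (iv6 D33834) D33833
def n73621 : Q := act 0 n33834
theorem D73621 : act 0 n33834 = n73621 := rfl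
def n73622 : Q := act 1 n33834
theorem D73622 : act 1 n33834 = n73622 := rfl
def n73623 : Q := act 5 n33834
theorem D73623 : act 5 n33834 = n73623 := rfl
theorem F110325 : act 6 n73623 = n33837 := d12_2 D33834 D73623 (iv5 D33837) (iv6 D16358) D16357
def n73624 : Q := act 7 n33834
theorem D73624 : act 7 n33834 = n73624 := rfl
theorem F110326 : act 3 n73624 = n35473 := d8_1 D73624 (iv7 D35473) (iv3 F53191)
def n73625 : Q := act 2 n33835
theorem D73625 : act 2 n33835 = n73625 := rfl
theorem F110327 : act 7 n33836 = n73625 := d15_2 (iv0 D33835) D33836 (iv2 D73625)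
def n73626 : Q := act 3 n33835
theorem D73626 : act 3 n33835 = n73626 := rfl
def n73627 : Q := act 4 n33835
theorem D73627 : act 4 n33835 = n73627 := rfl
def n73628 : Q := act 5 n33835
theorem D73628 : act 5 n33835 = n73628 := rfl
def n73629 : Q := act 6 n33835
theorem D73629 : act 6 n33835 = n73629 := rfl
def n73630 : Q := act 7 n33835
theorem D73630 : act 7 n33835 = n73630 := rfl
theorem F110328 : act 2 n73630 = n33836 := d4_1 D73630 F110327 (iv2 D73625)
def n73631 : Q := act 3 n33836
theorem D73631 : act 3 n33836 = n73631 := rfl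
def n73632 : Q := act 4 n33836
theorem D73632 : act 4 n33836 = n73632 := rfl
theorem F110329 : act 3 n73632 = n54388 := d20_3 (iv4 F110274) (iv1 F110275) D73632 (iv1 D54388) F41915 D26318 D54417 F85906 F85911 (iv1 F53179)
def n73633 : Q := act 5 n33836
theorem D73633 : act 5 n33836 = n73633 := rfl
def n73634 : Q := act 6 n33836
theorem D73634 : act 6 n33836 = n73634 := rfl
def n73635 : Q := act 0 n33837
theorem D73635 : act 0 n33837 = n73635 := rfl
def n73636 : Q := act 1 n33837
theorem D73636 : act 1 n33837 = n73636 := rfl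
def n73637 : Q := act 4 n33837
theorem D73637 : act 4 n33837 = n73637 := rfl
def n73638 : Q := act 7 n33837
theorem D73638 : act 7 n33837 = n73638 := rfl
theorem F110330 : act 3 n73638 = n35487 := d8_1 D73638 (iv7 D35487) (iv3 F53192)
theorem F110331 : act 5 n73638 = n33838 := d13_1 D73638 (iv7 D33838) D33837
def n73639 : Q := act 0 n33841
theorem D73639 : act 0 n33841 = n73639 := rfl
theorem F110332 : act 1 n33846 = n73639 := d15_0 (iv0 D73639) (iv7 F110287) F110286
def n73640 : Q := act 1 n33841
theorem D73640 : act 1 n33841 = n73640 := rfl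
theorem F110333 : act 1 n73640 = n33846 := d15_1 D73640 (iv7 F110280) F110279
def n73641 : Q := act 3 n33841
theorem D73641 : act 3 n33841 = n73641 := rfl
def n73642 : Q := act 5 n33841
theorem D73642 : act 5 n33841 = n73642 := rfl
def n73643 : Q := act 6 n33841
theorem D73643 : act 6 n33841 = n73643 := rfl
theorem F110334 : act 4 n73643 = n33843 := d10_1 D73643 (iv6 D33843) D33841
def n73644 : Q := act 0 n33842
theorem D73644 : act 0 n33842 = n73644 := rfl
theorem F110335 : act 1 n33847 = n73644 := d15_0 (iv0 D73644) F85915 (iv2 F85918)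
theorem F110336 : act 6 n54197 = n73644 := d21_3 (iv5 F20697) D26214 D54197 (iv1 F110335) (iv6 F53197) D54828 F87029 (iv5 D55034) (iv6 D26602) (iv1 D12711)
def n73645 : Q := act 1 n33842
theorem D73645 : act 1 n33842 = n73645 := rfl
theorem F110337 : act 1 n73645 = n33847 := d15_1 D73645 (iv7 F110282) F110281
def n73646 : Q := act 4 n33842
theorem D73646 : act 4 n33842 = n73646 := rfl
theorem F110338 : act 7 n73646 = n71695 := d11_2 (iv7 F85915) D73646 F108177
def n73647 : Q := act 6 n33842
theorem D73647 : act 6 n33842 = n73647 := rfl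
theorem F110339 : act 3 n73647 = n39418 := d7_1 D73647 (iv6 F60351) (iv3 F85912)
theorem F110340 : act 5 n73647 = n39416 := d12_1 D73647 F108325 (iv5 F108323) (iv6 D33843) D33842
theorem F110341 : act 7 n73647 = n54614 := d14_2 (iv7 F85915) D73647 (iv6 D54614) F42195 D33150
theorem F110342 : act 0 n73647 = n55318 := d21_10 F87546 (iv1 D39325) (iv5 D18651) (iv6 D8756) (iv1 F9343) D12705 F27023 D16359 D33842 D73647
theorem E9877 : n39416 = n39348 := ((c21_2 D18661 (iv1 F60314) (iv5 F110340) (iv6 D73647) D73644 (iv6 F110336) (iv5 D54197) (iv1 F85479) F85476 F42525 (iv1 F29922))).symm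
theorem F110343 : act 2 n39348 = n72082 := (sb E9877 (iv2 F108541))
theorem F110344 : act 3 n39348 = n18680 := (sb E9877 (iv3 D39416))
theorem F110345 : act 5 n39348 = n73647 := (sb E9877 (iv5 F110340))
theorem F110346 : act 6 n39348 = n71865 := (sb E9877 F108325)
theorem F110347 : act 7 n39348 = n58408 := (sb E9877 (iv7 F92253))
theorem F110348 : act 2 n58408 = n39347 := d15_3 (iv0 D39347) D39348 F110347
theorem F110349 : act 7 n72082 = n39347 := d4_2 (iv7 F110347) F110343 (iv2 F110348)
theorem F110350 : act 1 n39317 = n72082 := d15_1 (iv0 F92254) F110349 (iv2 F110348)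
def n73648 : Q := act 0 n33843
theorem D73648 : act 0 n33843 = n73648 := rfl
def n73649 : Q := act 1 n33843
theorem D73649 : act 1 n33843 = n73649 := rfl
def n73650 : Q := act 0 n33845
theorem D73650 : act 0 n33845 = n73650 := rfl
theorem F110351 : act 1 n33868 = n73650 := d15_0 (iv0 D73650) (iv7 F110278) F110277
def n73651 : Q := act 1 n33845
theorem D73651 : act 1 n33845 = n73651 := rfl
theorem F110352 : act 1 n73651 = n33868 := d15_1 D73651 (iv7 F87224) F87222
theorem F110353 : act 4 n73651 = n70518 := d20_0 (iv1 D70518) (iv4 D32714) (iv3 D15597) (iv1 D7348) (iv3 F11660) (iv4 F25105) D32690 F53215 D33868 (iv1 F110352)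
theorem F110354 : act 3 n33849 = n73651 := d20_5 F5371 D3898 F42342 D16364 D33849 F110353 (iv1 D70518) (iv4 D32714) (iv3 D15597) (iv1 D7348)
def n73652 : Q := act 4 n33845
theorem D73652 : act 4 n33845 = n73652 := rfl
def n73653 : Q := act 5 n33845
theorem D73653 : act 5 n33845 = n73653 := rfl
theorem F110355 : act 2 n73653 = n54607 := d2_1 D73653 (iv5 F87223) F87222
theorem F110356 : act 3 n73653 = n33847 := d6_1 D73653 (iv5 D33847) D33845
theorem F110357 : act 6 n54604 = n73653 := d7_0 F110356 (iv6 F53197) (iv3 F86290)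
def n73654 : Q := act 6 n33845
theorem D73654 : act 6 n33845 = n73654 := rfl
theorem F110358 : act 3 n73654 = n33848 := d7_1 D73654 (iv6 D33848) D33845
def n73655 : Q := act 3 n33846
theorem D73655 : act 3 n33846 = n73655 := rfl
def n73656 : Q := act 5 n33846
theorem D73656 : act 5 n33846 = n73656 := rfl
def n73657 : Q := act 6 n33846
theorem D73657 : act 6 n33846 = n73657 := rfl
theorem F110359 : act 4 n73657 = n33848 := d10_1 D73657 (iv6 D33848) D33846
def n73658 : Q := act 4 n33847
theorem D73658 : act 4 n33847 = n73658 := rfl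
theorem F110360 : act 2 n73658 = n71695 := d1_1 D73658 F108177 (iv2 F85918)
theorem F110361 : act 6 n73658 = n54827 := d10_2 F53197 D73658 (iv4 D54827)
def n73659 : Q := act 0 n33848
theorem D73659 : act 0 n33848 = n73659 := rfl
def n73660 : Q := act 1 n33848
theorem D73660 : act 1 n33848 = n73660 := rfl
def n73661 : Q := act 5 n33848
theorem D73661 : act 5 n33848 = n73661 := rfl
theorem F110362 : act 2 n73661 = n71699 := d2_1 D73661 (iv5 F110290) F110288
theorem F110363 : act 6 n73661 = n54828 := d12_2 D33848 D73661 (iv5 D54828) F53197 (iv5 D33847)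
def n73662 : Q := act 7 n33848
theorem D73662 : act 7 n33848 = n73662 := rfl
def n73664 : Q := act 4 n33849
theorem D73664 : act 4 n33849 = n73664 := rfl
theorem F110365 : act 0 n73664 = n70464 := d20_1 D73664 (iv4 D70464) (iv3 D32698) (iv1 D15574) F11660 F5371 D3898 F42342 D16364 D33849
def n73665 : Q := act 5 n33849
theorem D73665 : act 5 n33849 = n73665 := rfl
def n73672 : Q := act 4 n33851
theorem D73672 : act 4 n33851 = n73672 := rfl
theorem F110367 : act 2 n73672 = n33852 := d1_1 D73672 (iv4 D33852) D33851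
def n73673 : Q := act 5 n33851
theorem D73673 : act 5 n33851 = n73673 := rfl
theorem F110368 : act 2 n73673 = n33853 := d2_1 D73673 (iv5 D33853) D33851
theorem F110369 : act 3 n73673 = n39290 := d6_1 D73673 (iv5 D39290) F53236
def n73674 : Q := act 6 n33851
theorem D73674 : act 6 n33851 = n73674 := rfl
theorem F110370 : act 2 n73674 = n33854 := d3_1 D73674 (iv6 D33854) D33851
theorem F110371 : act 3 n73674 = n39291 := d7_1 D73674 (iv6 D39291) F53236
def n73675 : Q := act 0 n33852
theorem D73675 : act 0 n33852 = n73675 := rfl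
def n73676 : Q := act 1 n33852
theorem D73676 : act 1 n33852 = n73676 := rfl
def n73677 : Q := act 5 n33852
theorem D73677 : act 5 n33852 = n73677 := rfl
theorem F110372 : act 3 n73677 = n39015 := d6_1 D73677 (iv5 D39015) (iv3 F53198)
def n73678 : Q := act 6 n33852
theorem D73678 : act 6 n33852 = n73678 := rfl
theorem F110373 : act 3 n73678 = n39016 := d7_1 D73678 (iv6 D39016) (iv3 F53198)
def n73681 : Q := act 4 n33853
theorem D73681 : act 4 n33853 = n73681 := rfl
def n73682 : Q := act 6 n33853
theorem D73682 : act 6 n33853 = n73682 := rfl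
theorem F110375 : act 3 n73682 = n33858 := d7_1 D73682 (iv6 D33858) (iv3 F53199)
def n73683 : Q := act 0 n33854
theorem D73683 : act 0 n33854 = n73683 := rfl
def n73684 : Q := act 1 n33854
theorem D73684 : act 1 n33854 = n73684 := rfl
def n73685 : Q := act 3 n33855
theorem D73685 : act 3 n33855 = n73685 := rfl
theorem F110376 : act 5 n73685 = n34700 := d6_2 (iv5 F53201) D73685 F54941
def n73686 : Q := act 4 n33855
theorem D73686 : act 4 n33855 = n73686 := rfl
theorem F110378 : act 7 n73686 = n70498 := d11_2 F87195 D73686 F106952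
theorem F110379 : act 0 n73686 = n35708 := d18_2 D33855 D73686 (iv4 D35708) (iv5 D17303) (iv4 D8104) F9494 (iv4 F21141) F21145 D16366
theorem F110380 : act 1 n73686 = n35665 := d18_6 (iv1 D32821) F30462 (iv1 F30524) (iv4 F28980) (iv5 F53201) D73686 (iv4 D35665) D35664 F56338
def n73687 : Q := act 6 n33855
theorem D73687 : act 6 n33855 = n73687 := rfl
theorem F110381 : act 5 n73687 = n34702 := d12_1 D73687 (iv6 D34702) (iv5 D16803) D16804 (iv5 F53201)
def n73688 : Q := act 3 n33856
theorem D73688 : act 3 n33856 = n73688 := rfl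
def n73689 : Q := act 4 n33856
theorem D73689 : act 4 n33856 = n73689 := rfl
theorem F110382 : act 2 n73689 = n70498 := d1_1 D73689 F106952 (iv2 F87197)
theorem F110383 : act 7 n73689 = n70497 := d11_2 (iv7 F87193) D73689 F106949
theorem F110384 : act 0 n73689 = n35665 := d18_2 (iv1 F53205) D73689 (iv4 D35665) (iv5 D17284) (iv4 D8099) (iv0 D3650) (iv4 F5432) D7601 D16371
theorem F110385 : act 1 n73689 = n35708 := d18_6 (iv1 F51771) F51770 (iv1 F43986) (iv4 F85656) F85659 D73689 (iv4 D35708) F56333 F56332
def n73691 : Q := act 6 n33857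
theorem D73691 : act 6 n33857 = n73691 := rfl
theorem F110386 : act 4 n73691 = n33858 := d10_1 D73691 (iv6 D33858) D33857
def n73692 : Q := act 1 n33858
theorem D73692 : act 1 n33858 = n73692 := rfl
theorem F110387 : act 5 n54533 = n73692 := d21_0 (iv1 D73692) (iv5 F86578) (iv6 D54743) (iv1 D26472) F21030 (iv5 D5998) (iv1 F12678) D12578 D26372 D54533
def n73693 : Q := act 7 n33858
theorem D73693 : act 7 n33858 = n73693 := rfl
theorem F110388 : act 1 n71268 = n73693 := d15_1 (iv0 F107763) (iv7 D73693) (iv2 F87201)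
def n73694 : Q := act 0 n33862
theorem D73694 : act 0 n33862 = n73694 := rfl
theorem F110389 : act 1 n39289 = n73694 := d15_0 (iv0 D73694) (iv7 F86901) F86899
def n73695 : Q := act 1 n33862
theorem D73695 : act 1 n33862 = n73695 := rfl
theorem F110390 : act 1 n73695 = n39289 := d15_1 D73695 (iv7 F86910) F86909
def n73696 : Q := act 5 n33862
theorem D73696 : act 5 n33862 = n73696 := rfl
theorem F110391 : act 3 n73696 = n39042 := d6_1 D73696 (iv5 D39042) (iv3 F53206)
def n73697 : Q := act 6 n33862
theorem D73697 : act 6 n33862 = n73697 := rfl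
theorem F110392 : act 3 n73697 = n39043 := d7_1 D73697 (iv6 D39043) (iv3 F53206)
theorem F110393 : act 4 n73697 = n33864 := d10_1 D73697 (iv6 D33864) D33862
def n73698 : Q := act 0 n33863
theorem D73698 : act 0 n33863 = n73698 := rfl
theorem F110394 : act 1 n39290 = n73698 := d15_0 (iv0 D73698) (iv7 F86904) F86902
def n73699 : Q := act 1 n33863
theorem D73699 : act 1 n33863 = n73699 := rfl
theorem F110395 : act 1 n73699 = n39290 := d15_1 D73699 (iv7 F86912) F86911
theorem F110396 : act 5 n73699 = n34683 := d21_2 D39290 (iv1 F110395) (iv6 D34683) (iv1 D16793) (iv6 D7841) F5581 D7226 F25983 D8750 D18639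
def n73700 : Q := act 4 n33863
theorem D73700 : act 4 n33863 = n73700 := rfl
theorem F110397 : act 6 n73700 = n54575 := d10_2 F53237 D73700 (iv4 D54575)
def n73701 : Q := act 0 n33864
theorem D73701 : act 0 n33864 = n73701 := rfl
def n73702 : Q := act 1 n33864
theorem D73702 : act 1 n33864 = n73702 := rfl
def n73703 : Q := act 5 n33864
theorem D73703 : act 5 n33864 = n73703 := rfl
theorem F110398 : act 3 n73703 = n33867 := d6_1 D73703 (iv5 D33867) (iv3 F53208)
theorem F110399 : act 6 n73703 = n54576 := d12_2 D33864 D73703 (iv5 D54576) F53237 (iv5 D33863)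
def n73704 : Q := act 3 n33865
theorem D73704 : act 3 n33865 = n73704 := rfl
def n73705 : Q := act 6 n33865
theorem D73705 : act 6 n33865 = n73705 := rfl
theorem F110400 : act 4 n73705 = n33866 := d10_1 D73705 (iv6 D33866) D33865
theorem F110401 : act 0 n45221 = n73705 := d21_4 (iv5 F41861) (iv1 F50210) F50207 D45221 (iv6 D73705) F106913 (iv1 D70448) (iv5 D32692) (iv6 D15572) D15569
theorem F110402 : act 7 n45224 = n73705 := d11_0 F110400 (iv7 F107008) F107010
theorem F110403 : act 0 n73705 = n45226 := d20_1 (iv4 F110400) F71294 F41980 (iv1 F20901) D15716 D32826 (iv1 F107303) F107244 F86642 F54494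
theorem F110404 : act 2 n73705 = n45223 := d15_3 (iv0 D45223) D45224 F110402
theorem F110405 : act 4 n45223 = n55136 := d1_2 (iv4 F110400) F110404 F87213
theorem F110406 : act 6 n45223 = n55135 := d3_2 D73705 F110404 F87211
def n73706 : Q := act 5 n33866
theorem D73706 : act 5 n33866 = n73706 := rfl
theorem F110407 : act 3 n73706 = n54576 := d6_1 D73706 (iv5 D54576) (iv3 F53238)
theorem F110408 : act 6 n73706 = n33867 := d12_2 D33866 D73706 (iv5 D33867) (iv6 D16372) D16371
def n73707 : Q := act 4 n33867
theorem D73707 : act 4 n33867 = n73707 := rfl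
theorem F110409 : act 0 n73707 = n69848 := d18_2 (iv1 F53210) D73707 (iv4 D69848) (iv5 D32432) F43174 F12754 (iv4 F21231) F21235 D16670
theorem F110410 : act 1 n73707 = n69840 := d18_6 (iv1 F56400) F37329 F29882 (iv4 F42347) D33867 D73707 (iv4 D69840) F104264 F104260
def n73708 : Q := act 4 n33868
theorem D73708 : act 4 n33868 = n73708 := rfl
def n73709 : Q := act 5 n33868
theorem D73709 : act 5 n33868 = n73709 := rfl
theorem F110411 : act 3 n73709 = n33870 := d6_1 D73709 (iv5 D33870) D33868
theorem F110412 : act 7 n73709 = n54607 := d13_2 F87224 D73709 (iv5 F87223)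
def n73710 : Q := act 6 n33868
theorem D73710 : act 6 n33868 = n73710 := rfl
theorem F110414 : act 3 n73710 = n33871 := d7_1 D73710 (iv6 D33871) D33868
def n73711 : Q := act 0 n33871
theorem D73711 : act 0 n33871 = n73711 := rfl
def n73712 : Q := act 1 n33871
theorem D73712 : act 1 n33871 = n73712 := rfl
theorem F110415 : act 6 n68732 = n73712 := d21_3 F25141 D31977 D68732 (iv1 D73712) (iv6 D33871) D33870 F53217 (iv5 F87196) (iv6 F87198) F51340
theorem F110416 : act 5 n69671 = n73712 := d21_6 (iv5 D13266) (iv1 F9809) (iv5 F13649) D18715 (iv1 F51352) D69671 (iv1 D73712) F87385 (iv6 F87384) (iv1 D27798)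
def n73713 : Q := act 7 n33871
theorem D73713 : act 7 n33871 = n73713 := rfl
theorem F110417 : act 5 n73713 = n33984 := d13_1 D73713 F87394 (iv5 F87385)
def n73714 : Q := act 7 n33872
theorem D73714 : act 7 n33872 = n73714 := rfl
theorem F110418 : act 5 n73714 = n71706 := d13_1 D73714 (iv7 D71706) (iv5 F53218)
theorem F110419 : act 1 n61504 = n73714 := d15_1 (iv0 F96014) (iv7 D73714) (iv2 F87225)
theorem F110420 : act 0 n61499 = n73714 := d21_1 D61499 F110418 F108189 (iv1 D61389) (iv6 D29059) (iv5 D13832) (iv1 F10643) D6590 D13857 D29112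
def n73715 : Q := act 3 n33873
theorem D73715 : act 3 n33873 = n73715 := rfl
theorem F110421 : act 7 n73715 = n70466 := d8_2 F53221 D73715 (iv3 D70466)
def n73716 : Q := act 5 n33873
theorem D73716 : act 5 n33873 = n73716 := rfl
theorem F110424 : act 4 n73716 = n35731 := d16_2 (iv4 F53219) D73716 (iv5 D35731) (iv4 D17317) (iv5 F13190) (iv4 F28948) F41933 (iv7 F41968) (iv2 F41967)
def n73717 : Q := act 6 n33873
theorem D73717 : act 6 n33873 = n73717 := rfl
theorem F110426 : act 4 n73717 = n54414 := d10_1 D73717 (iv6 D54414) (iv4 F53219)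
def n73718 : Q := act 3 n33874
theorem D73718 : act 3 n33874 = n73718 := rfl
theorem F110427 : act 7 n73718 = n70455 := d8_2 (iv7 F53222) D73718 (iv3 D70455)
def n73719 : Q := act 5 n33874
theorem D73719 : act 5 n33874 = n73719 := rfl
theorem F110428 : act 2 n73719 = n70467 := d2_1 D73719 (iv5 D70467) F53227
theorem F110429 : act 4 n73719 = n35724 := d9_1 D73719 (iv5 D35724) (iv4 D17313) D17314 (iv4 F51971) F51972 (iv4 F53219) D73716 F110424 (iv5 D35731) (iv4 D17317) (iv5 F13190) (iv4 F28948) F41933 (iv4 F53223)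
theorem F110430 : act 7 n73719 = n70456 := d13_2 (iv7 F53222) D73719 (iv5 D70456)
def n73720 : Q := act 6 n33874
theorem D73720 : act 6 n33874 = n73720 := rfl
theorem F110432 : act 4 n73720 = n54416 := d10_1 D73720 (iv6 D54416) (iv4 F53223)
def n73721 : Q := act 0 n33875
theorem D73721 : act 0 n33875 = n73721 := rfl
def n73722 : Q := act 1 n33875
theorem D73722 : act 1 n33875 = n73722 := rfl
def n73723 : Q := act 2 n33875
theorem D73723 : act 2 n33875 = n73723 := rfl
theorem F110433 : act 6 n73723 = n35989 := d3_2 (iv6 F53228) D73723 (iv2 D35989)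
def n73724 : Q := act 5 n33875
theorem D73724 : act 5 n33875 = n73724 := rfl
theorem F110434 : act 3 n73724 = n33876 := d6_1 D73724 (iv5 D33876) D33875
def n73725 : Q := act 7 n33875
theorem D73725 : act 7 n33875 = n73725 := rfl
theorem F110435 : act 3 n73725 = n33877 := d8_1 D73725 (iv7 D33877) D33875
def n73726 : Q := act 0 n33876
theorem D73726 : act 0 n33876 = n73726 := rfl
theorem F110436 : act 5 n73726 = n35665 := d17_3 (iv1 D33874) D33876 D73726 (iv4 D35665) (iv5 D17284) (iv0 F41759) D12515 D26317 (iv4 F53223)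
theorem F110437 : act 4 n73726 = n35713 := d18_1 D73726 F56402 D58103 F91895 F51768 F41939 (iv4 F53219) (iv0 D33873) D33876
theorem F110438 : act 1 n35746 = n73726 := d15_0 (iv0 D73726) F88394 F88392
theorem F110440 : act 7 n70529 = n73726 := d11_0 F110437 F60076 (iv4 F106974)
def n73727 : Q := act 1 n33876
theorem D73727 : act 1 n33876 = n73727 := rfl
theorem F110443 : act 5 n73727 = n35708 := d17_7 (iv1 F53202) (iv5 D16371) (iv1 D7601) D7602 D16375 D33876 D73727 (iv0 F110379) (iv4 D73686)
theorem F110444 : act 4 n73727 = n35674 := d17_9 (iv1 F60083) F60081 (iv1 F41763) D35731 (iv4 F110424) (iv5 D73716) (iv0 D33873) D33876 D73727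
theorem F110445 : act 0 n70355 = n54430 := d21_4 F28391 (iv1 F50684) (iv5 F51738) D70355 F85968 (iv5 F110443) (iv1 D73727) (iv5 D33876) F25872 D17419
theorem F110446 : act 1 n70355 = n54433 := d15_1 (iv0 F110445) F106979 F106977
theorem F110447 : act 0 n62840 = n34144 := d18_2 (iv1 F53912) D62840 F53613 D34336 (iv4 F106832) F110446 (iv4 D54433) F85965 F85963
theorem F110448 : act 1 n62840 = n65073 := d15_1 (iv0 F110447) (iv7 D65073) (iv2 F53612)
def n73728 : Q := act 6 n33876
theorem D73728 : act 6 n33876 = n73728 := rfl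
theorem F110450 : act 5 n73728 = n35074 := d12_1 D73728 (iv6 D35074) F27891 (iv6 F25872) D33876
def n73729 : Q := act 6 n33877
theorem D73729 : act 6 n33877 = n73729 := rfl
theorem F110451 : act 4 n73729 = n33878 := d10_1 D73729 (iv6 D33878) (iv4 F53229)
theorem F110452 : act 7 n73729 = n35073 := d14_2 D33877 D73729 (iv6 D35073) F27887 (iv6 F25872)
def n73730 : Q := act 0 n33879
theorem D73730 : act 0 n33879 = n73730 := rfl
theorem F110453 : act 1 n33884 = n73730 := d15_0 (iv0 D73730) (iv7 F53241) (iv2 F53242)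
def n73732 : Q := act 3 n33879
theorem D73732 : act 3 n33879 = n73732 := rfl
theorem F110455 : act 7 n73732 = n33885 := d8_2 F53241 D73732 (iv3 D33885)
def n73733 : Q := act 4 n33879
theorem D73733 : act 4 n33879 = n73733 := rfl
theorem F110456 : act 2 n73733 = n33881 := d1_1 D73733 (iv4 D33881) D33879
theorem F110457 : act 7 n73733 = n33886 := d11_2 F53241 D73733 (iv4 D33886)
def n73734 : Q := act 5 n33879
theorem D73734 : act 5 n33879 = n73734 := rfl
theorem F110458 : act 2 n73734 = n33882 := d2_1 D73734 (iv5 D33882) D33879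
theorem F110459 : act 7 n73734 = n33887 := d13_2 F53241 D73734 (iv5 D33887)
def n73736 : Q := act 1 n33881
theorem D73736 : act 1 n33881 = n73736 := rfl
def n73737 : Q := act 3 n33881
theorem D73737 : act 3 n33881 = n73737 := rfl
def n73738 : Q := act 5 n33881
theorem D73738 : act 5 n33881 = n73738 := rfl
def n73739 : Q := act 6 n33881
theorem D73739 : act 6 n33881 = n73739 := rfl
def n73740 : Q := act 7 n33881
theorem D73740 : act 7 n33881 = n73740 := rfl
theorem F110463 : act 2 n73740 = n33886 := d4_1 D73740 (iv7 F110457) F110456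
theorem F110464 : act 4 n73740 = n33884 := d11_1 D73740 (iv7 D33884) D33881
theorem F110465 : act 1 n33886 = n60325 := d15_0 (iv0 F94865) D73740 F110463
def n73741 : Q := act 0 n33882
theorem D73741 : act 0 n33882 = n73741 := rfl
def n73745 : Q := act 7 n33882
theorem D73745 : act 7 n33882 = n73745 := rfl
theorem F110467 : act 2 n73745 = n33887 := d4_1 D73745 (iv7 F110459) F110458
theorem F110468 : act 5 n73745 = n33884 := d13_1 D73745 (iv7 D33884) D33882
theorem F110469 : act 1 n33887 = n73741 := d15_0 (iv0 D73741) D73745 F110467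
def n73751 : Q := act 0 n33885
theorem D73751 : act 0 n33885 = n73751 := rfl
def n73752 : Q := act 1 n33885
theorem D73752 : act 1 n33885 = n73752 := rfl
def n73753 : Q := act 4 n33885
theorem D73753 : act 4 n33885 = n73753 := rfl
def n73754 : Q := act 5 n33885
theorem D73754 : act 5 n33885 = n73754 := rfl
theorem F110471 : act 3 n73754 = n33887 := d6_1 D73754 (iv5 D33887) D33885
def n73755 : Q := act 6 n33885
theorem D73755 : act 6 n33885 = n73755 := rfl
theorem F110472 : act 3 n73755 = n33888 := d7_1 D73755 (iv6 D33888) D33885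
def n73756 : Q := act 3 n33886
theorem D73756 : act 3 n33886 = n73756 := rfl
def n73764 : Q := act 7 n33888
theorem D73764 : act 7 n33888 = n73764 := rfl
def n73765 : Q := act 3 n33889
theorem D73765 : act 3 n33889 = n73765 := rfl
def n73766 : Q := act 5 n33889
theorem D73766 : act 5 n33889 = n73766 := rfl
def n73767 : Q := act 6 n33889
theorem D73767 : act 6 n33889 = n73767 := rfl
theorem F110475 : act 2 n73767 = n33896 := d3_1 D73767 (iv6 D33896) (iv2 F53243)
theorem F110476 : act 4 n73767 = n33891 := d10_1 D73767 (iv6 D33891) D33889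
def n73768 : Q := act 4 n33890
theorem D73768 : act 4 n33890 = n73768 := rfl
theorem F110477 : act 2 n73768 = n33899 := d1_1 D73768 (iv4 D33899) (iv2 F53244)
def n73769 : Q := act 6 n33890
theorem D73769 : act 6 n33890 = n73769 := rfl
theorem F110478 : act 2 n73769 = n33900 := d3_1 D73769 (iv6 D33900) (iv2 F53244)
def n73770 : Q := act 0 n33891
theorem D73770 : act 0 n33891 = n73770 := rfl
def n73771 : Q := act 1 n33891
theorem D73771 : act 1 n33891 = n73771 := rfl
theorem F110479 : act 1 n73771 = n33904 := d15_1 D73771 (iv7 D33904) (iv2 F53245)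
def n73772 : Q := act 5 n33891
theorem D73772 : act 5 n33891 = n73772 := rfl
theorem F110480 : act 2 n73772 = n33903 := d2_1 D73772 (iv5 D33903) (iv2 F53245)
def n73773 : Q := act 7 n33891
theorem D73773 : act 7 n33891 = n73773 := rfl
theorem F110481 : act 2 n73773 = n33904 := d4_1 D73773 (iv7 D33904) (iv2 F53245)
theorem F110482 : act 1 n33904 = n73770 := d15_0 (iv0 D73770) D73773 F110481
theorem F110483 : act 1 n33902 = n73773 := d15_1 D33902 (iv7 D73773) F53245
theorem F110484 : act 1 n73773 = n33901 := d15_0 (iv0 D33901) D33904 (iv2 F110481)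
def n73774 : Q := act 3 n33892
theorem D73774 : act 3 n33892 = n73774 := rfl
def n73775 : Q := act 4 n33892
theorem D73775 : act 4 n33892 = n73775 := rfl
theorem F110485 : act 2 n73775 = n70393 := d1_1 D73775 (iv4 F110129) F110128
theorem F110486 : act 7 n73775 = n60112 := d11_2 (iv7 F109943) D73775 F94673
theorem F110487 : act 3 n73775 = n73151 := d20_9 (iv4 D33692) (iv1 D16283) F11823 F5427 D3454 D7605 D16386 D33892 D73775 (iv1 F109639)
theorem F110488 : act 2 n73151 = n73257 := d0_1 F110487 F109717 F109828 (iv3 F106869) (iv2 F110485)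
theorem F110489 : act 7 n73151 = n72365 := d8_2 (iv7 F110486) F110487 F108836
theorem F110490 : act 4 n72854 = n73151 := d11_3 F110489 F108837 D72854
theorem E9878 : n73152 = n54325 := ((c15_4 F109635 F109639 F110489 F108835)).symm
theorem F110491 : act 0 n54325 = n33687 := (sb E9878 (iv1 D73152))
theorem F110492 : act 1 n54325 = n33692 := (sb E9878 F109635)
theorem F110493 : act 0 n55024 = n35984 := d20_7 (iv4 D33687) (iv1 F52871) F52868 (iv3 F42524) (iv1 F42527) D26599 D55024 F56700 (iv3 F85729) F110491
theorem E9879 : n70399 = n60364 := ((c15_2 (iv0 F110493) (iv0 F94886) (iv7 D70399) (iv2 F56699))).symm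
theorem E9880 : n32679 = n28672 := ((((iv4 D60364)).symm.trans (sb E9879 F106875))).symm
theorem F110494 : act 7 n60364 = n32676 := (sb E9879 (iv7 D70399))
theorem E9881 : n54327 = n49032 := ((((iv1 F77391)).symm.trans (sb E9880 (iv1 F85730)))).symm
theorem E9882 : n54326 = n13666 := ((((iv0 D28672)).symm.trans (sb E9880 F85733))).symm
theorem E9884 : n70393 = n60363 := (((D60363).symm.trans (sb E9880 (iv3 F106869)))).symm
theorem E9885 : n68340 = n60365 := (((D60365).symm.trans (sb E9880 (iv5 F104528)))).symm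
theorem E9886 : n60366 = n54324 := ((D60366).symm.trans (sb E9880 (iv6 F85725)))
theorem E9887 : n60367 = n15563 := ((D60367).symm.trans (sb E9880 (iv7 D32679)))
theorem E9888 : n28673 = n26261 := (((iv1 F77393)).symm.trans (sb E9881 (iv1 D54327)))
theorem E9889 : n61781 = n28677 := (((D28677).symm.trans (sb E9882 F96361))).symm
theorem F110496 : act 2 n60363 = n73775 := (sb E9884 (iv2 F110485))
theorem E9890 : n73426 = n55197 := (((F94885).symm.trans (sb E9884 (iv4 F110129)))).symm
theorem F110497 : act 7 n60363 = n32674 := (sb E9884 (iv7 D70393))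
theorem F110498 : act 7 n60365 = n31801 := (sb E9885 (iv7 D68340))
theorem F110499 : act 6 n54324 = n28672 := (sb E9886 (iv6 D60366))
theorem F110500 : act 7 n15563 = n28672 := (sb E9887 (iv7 D60367))
theorem F110501 : act 0 n26261 = n13666 := (sb E9888 (iv1 D28673))
theorem F110502 : act 1 n26261 = n49032 := (sb E9888 F77393)
theorem E9891 : n60368 = n54325 := ((((iv3 F85729)).symm.trans (sb E9888 D60368))).symm
theorem E9895 : n60383 = n54416 := ((D60383).symm.trans (sb E9889 F96360))
theorem E9896 : n70469 = n60384 := (((D60384).symm.trans (sb E9889 F106929))).symm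
theorem E9897 : n49877 = n29283 := (((iv5 F78869)).symm.trans (sb E9889 (iv5 D61781)))
theorem F110503 : act 2 n55197 = n33892 := (sb E9890 F110128)
theorem F110504 : act 7 n55197 = n33770 := (sb E9890 (iv7 D73426))
theorem E9898 : n72794 = n58261 := ((((iv4 F92105)).symm.trans (sb E9891 (iv4 F109280)))).symm
theorem F110505 : act 1 n54416 = n28677 := (sb E9895 (iv0 D60383))
theorem F110506 : act 1 n60384 = n61776 := (sb E9896 (iv0 F107294))
theorem F110507 : act 5 n60384 = n70815 := (sb E9896 (iv5 F107292))
theorem F110508 : act 7 n60384 = n32700 := (sb E9896 (iv7 D70469))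
theorem E9899 : n61778 = n29752 := (((iv2 F96359)).symm.trans (sb E9897 F109839))
theorem E9900 : n61779 = n24320 := ((D61779).symm.trans (sb E9897 (iv3 D49877)))
theorem F110509 : act 5 n29283 = n28677 := (sb E9897 F78869)
theorem E9901 : n61773 = n29751 := ((F96357).symm.trans (sb E9897 (iv7 F109840)))
theorem F110510 : act 0 n58261 = n33577 := (sb E9898 (iv1 D72794))
theorem F110511 : act 1 n58261 = n33582 := (sb E9898 F109279)
theorem F110512 : act 2 n29752 = n29283 := (sb E9899 F96359)
theorem E9902 : n62867 = n29282 := ((F98093).symm.trans (sb E9899 (iv7 D61778)))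
theorem F110513 : act 3 n24320 = n29283 := (sb E9900 (iv3 D61779))
theorem F110514 : act 7 n29751 = n29283 := (sb E9901 (iv7 F96357))
theorem F110515 : act 2 n29282 = n29751 := (sb E9902 (iv2 D62867))
theorem F110516 : act 7 n29282 = n29752 := (sb E9902 (iv7 F98093))
theorem F110517 : act 7 n62873 = n61774 := d8_2 F110516 D62873 (iv3 D61774)
theorem F110518 : act 7 n62874 = n61775 := d11_2 F110516 D62874 (iv4 D61775)
theorem F110519 : act 7 n60374 = n61776 := d13_2 F110516 (iv5 F109835) (iv5 D61776)
theorem F110520 : act 2 n61776 = n60385 := d4_1 F110519 (iv7 D60385) (iv2 F94890)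
theorem F110521 : act 2 n61774 = n49875 := d4_1 F110517 (iv7 F79218) (iv2 F109936)
theorem F110522 : act 2 n62869 = n61775 := d1_3 (iv4 D61775) F110515 D62869
theorem F110523 : act 2 n62871 = n61777 := d3_3 (iv6 D61777) F110515 D62871
theorem F110524 : act 2 n62815 = n61640 := d2_3 F109934 F110523 F98025
theorem F110525 : act 7 n61642 = n62815 := d4_0 F110524 (iv7 F98014) F109935
theorem E9903 : n62814 = n62808 := (c15_2 F98024 F98028 F98014 (iv2 F110524))
theorem F110526 : act 0 n62808 = n61645 := (sb E9903 (iv1 F98028))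
theorem F110527 : act 1 n62808 = n29725 := (sb E9903 (iv0 D62814))
theorem F110528 : act 4 n62808 = n67344 := (sb E9903 (iv4 F104788))
theorem F110529 : act 6 n62808 = n67343 := (sb E9903 F104787)
theorem F110530 : act 3 n67343 = n62811 := d7_1 F110529 (iv6 D62811) D62808
theorem E9904 : n68538 = n68480 := ((c6_4 (iv5 F104786) F110530 F98020 D68480)).symm
theorem F110531 : act 0 n68480 = n31887 := (sb E9904 (iv1 D68538))
theorem F110532 : act 1 n68480 = n68332 := (sb E9904 F104734)
theorem F110533 : act 5 n68480 = n67343 := (sb E9904 (iv5 F104786))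
theorem F110534 : act 7 n68537 = n68331 := d15_2 F110532 F104738 (iv2 F109838)
theorem F110535 : act 2 n67891 = n68537 := d4_3 F110534 (iv2 F109838) F104681
theorem F110536 : act 7 n61780 = n62869 := d11_2 F110514 D61780 (iv4 D62869)
theorem F110537 : act 2 n62874 = n61780 := d4_3 F110536 F110522 (iv7 F110518)
theorem F110538 : act 3 n61782 = n49878 := d7_3 (iv6 D49878) F110513 D61782
theorem F110539 : act 5 n60382 = n61782 := d6_0 F110538 F78870 (iv3 F94895)
theorem F110540 : act 2 n61782 = n62876 := d3_3 (iv6 D62876) F110512 D61782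
theorem F110541 : act 7 n62910 = n61782 := d15_2 F103955 D62910 F110540
theorem F110542 : act 7 n61814 = n62876 := d15_2 (iv0 F96362) D61814 (iv2 F110540)
theorem F110543 : act 2 n62910 = n61814 := d4_3 F110542 (iv2 F110540) (iv7 F110541)
theorem E9905 : n72854 = n72793 := ((c15_2 F110511 F109284 (iv7 D72854) (iv2 F92104))).symm
theorem F110544 : act 2 n72793 = n33712 := (sb E9905 F109824)
theorem F110545 : act 4 n72793 = n73151 := (sb E9905 F110490)
theorem F110546 : act 7 n72793 = n33595 := (sb E9905 (iv7 D72854))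
theorem E9906 : n68568 = n60380 := (c21_1 (iv5 F107509) (iv1 D60380) (iv5 D28676) D28677 (iv1 F110505) (iv6 D54416) (iv5 F41933) (iv1 F51778) (iv5 F51776) D70494 F107510)
theorem F110547 : act 5 n60380 = n70965 := (sb E9906 F107509)
theorem F110548 : act 6 n60380 = n31897 := (sb E9906 (iv6 D68568))
theorem F110549 : act 7 n60380 = n70964 := (sb E9906 (iv7 F107513))
theorem F110550 : act 2 n70964 = n60379 := d15_3 (iv0 D60379) D60380 F110549
theorem F110551 : act 5 n60379 = n70951 := d2_2 D70964 F110550 F107503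
theorem F110552 : act 0 n70951 = n70494 := d21_1 F110551 F106946 (iv6 D34780) (iv1 F54970) (iv6 F54972) (iv5 F50114) F96362 (iv5 F110539) (iv6 D60382) D60379
theorem E9907 : n70925 = n15797 := (c21_5 D28676 D60379 F110551 (iv6 D70951) (iv1 F107471) (iv6 D15797) (iv5 D7416) (iv1 F9261) (iv5 F26445) D26261 F110501)
theorem E9908 : n32858 = n32834 := (((D32834).symm.trans (sb E9907 (iv1 D70925)))).symm
theorem E9909 : n32863 = n32835 := (((D32835).symm.trans (sb E9907 F107471))).symm
theorem E9911 : n70849 = n15816 := ((D70849).symm.trans (sb E9908 (iv2 D32858)))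
theorem E9912 : n70926 = n70850 := (((D70850).symm.trans (sb E9908 D70926))).symm
theorem E9913 : n70927 = n70851 := (((D70851).symm.trans (sb E9908 D70927))).symm
theorem E9914 : n70928 = n70852 := (((D70852).symm.trans (sb E9908 D70928))).symm
theorem E9915 : n70929 = n70853 := (((D70853).symm.trans (sb E9908 D70929))).symm
theorem E9916 : n70854 = n15817 := ((D70854).symm.trans (sb E9908 (iv7 F52034)))
theorem E9917 : n70936 = n70855 := (((D70855).symm.trans (sb E9909 (iv3 F107485)))).symm
theorem E9918 : n70942 = n70856 := (((D70856).symm.trans (sb E9909 (iv4 F107489)))).symm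
theorem E9919 : n70947 = n70857 := (((D70857).symm.trans (sb E9909 (iv5 F107496)))).symm
theorem E9920 : n70951 = n70858 := (((D70858).symm.trans (sb E9909 D70951))).symm
theorem F110553 : act 2 n15816 = n32834 := (sb E9911 (iv2 D70849))
theorem F110554 : act 7 n15816 = n32835 := (sb E9911 (iv7 F107327))
theorem F110555 : act 7 n70850 = n32864 := (sb E9912 F107472)
theorem F110556 : act 2 n70851 = n32860 := (sb E9913 F107473)
theorem F110557 : act 7 n70851 = n32865 := (sb E9913 F107474)
theorem F110558 : act 2 n70852 = n32861 := (sb E9914 F107475)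
theorem F110559 : act 7 n70852 = n32866 := (sb E9914 F107476)
theorem F110560 : act 2 n70853 = n32862 := (sb E9915 F107477)
theorem E9921 : n70281 = n54347 := (((F107328).symm.trans (sb E9915 (iv5 F107478)))).symm
theorem F110561 : act 7 n70853 = n70280 := (sb E9915 F107479)
theorem F110562 : act 2 n15817 = n32835 := (sb E9916 F107329)
theorem F110563 : act 7 n15817 = n32834 := (sb E9916 (iv7 D70854))
theorem F110564 : act 7 n70855 = n32859 := (sb E9917 (iv7 D70936))
theorem F110565 : act 2 n70856 = n32865 := (sb E9918 F107488)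
theorem F110566 : act 7 n70856 = n32860 := (sb E9918 (iv7 D70942))
theorem F110567 : act 2 n70857 = n32866 := (sb E9919 F107495)
theorem F110568 : act 7 n70857 = n32861 := (sb E9919 (iv7 D70947))
theorem F110569 : act 0 n70858 = n70494 := (sb E9920 F110552)
theorem F110570 : act 1 n70858 = n70388 := (sb E9920 F107512)
theorem F110571 : act 2 n70858 = n32867 := (sb E9920 F107503)
theorem F110572 : act 5 n70858 = n60379 := (sb E9920 (iv5 F110551))
theorem F110573 : act 2 n54347 = n32617 := (sb E9921 F106719)
theorem F110574 : act 7 n54347 = n32616 := (sb E9921 (iv7 D70281))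
theorem E9922 : n70277 = n54346 := (c15_4 (iv0 D54346) D54347 F110574 D70277)
theorem F110575 : act 2 n54346 = n32616 := (sb E9922 (iv2 D70277))
theorem F110576 : act 5 n54346 = n70950 := (sb E9922 (iv5 F107501))
theorem F110577 : act 7 n54346 = n32617 := (sb E9922 (iv7 F106718))
theorem F110578 : act 0 n69847 = n70950 := d21_10 (iv5 F110576) (iv1 F85759) (iv5 F85715) F85716 (iv1 F41940) D32700 (iv5 F51965) F96166 F109887 D69847
theorem F110579 : act 7 n70933 = n54689 := d11_2 F110564 D70933 (iv4 F107330)
theorem F110580 : act 2 n70933 = n54688 := d15_3 (iv0 D54688) D54689 (iv7 F110579)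
theorem F110581 : act 4 n54688 = n70932 := d1_2 D70933 F110580 (iv2 D70932)
theorem E9923 : n55196 = n55106 := ((c15_4 (iv0 D55196) D55197 F110504 (iv2 F87171))).symm
theorem F110582 : act 0 n55106 = n33889 := (sb E9923 (iv1 F87327))
theorem F110583 : act 1 n55106 = n26672 := (sb E9923 (iv0 D55196))
theorem E9924 : n60322 = n60112 := ((((iv4 F94673)).symm.trans (sb E9923 (iv4 F94864)))).symm
theorem F110584 : act 1 n60112 = n28653 := (sb E9924 (iv0 D60322))
theorem E9925 : n60363 = n60323 := ((c15_2 F110584 D60323 F110497 (iv2 F94672))).symm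
theorem F110585 : act 2 n60323 = n73775 := (sb E9925 F110496)
theorem F110586 : act 3 n60323 = n28672 := (sb E9925 (iv3 D60363))
theorem F110587 : act 4 n60323 = n55197 := (sb E9925 F94885)
theorem F110588 : act 7 n60323 = n32674 := (sb E9925 F110497)
theorem E9926 : n73229 = n60306 := (c20_1 D73229 (iv1 F94855) (iv4 D28654) D28653 (iv1 F110584) (iv3 F108836) F108837 (iv1 F109821) (iv4 D16288) D16287 D33705)
theorem E9927 : n33936 = n33705 := ((F94850).symm.trans (sb E9926 (iv4 D73229)))
theorem E9928 : n73228 = n16407 := ((D73228).symm.trans (sb E9927 (iv3 D33936)))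
theorem F110589 : act 4 n33705 = n60306 := (sb E9927 (iv4 F94850))
theorem F110590 : act 3 n16407 = n33705 := (sb E9928 (iv3 D73228))
theorem F110591 : act 3 n73230 = n33938 := d6_3 (iv5 D33938) F110590 D73230
theorem F110595 : act 1 n73775 = n70391 := d15_0 (iv0 D70391) (iv7 F110588) F110585
theorem F110596 : act 0 n72365 = n49012 := d20_10 F77359 (iv1 F52869) F25832 F11824 (iv1 F9356) D12740 D26672 (iv1 F110583) (iv4 F94673) (iv3 F108836)
theorem F110597 : act 1 n73257 = n49012 := d15_0 (iv0 F110596) (iv7 F110489) F110488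
theorem F110598 : act 1 n70392 = n73775 := d15_1 D70392 F110486 F94672
def n73776 : Q := act 5 n33892
theorem D73776 : act 5 n33892 = n73776 := rfl
def n73777 : Q := act 0 n33894
theorem D73777 : act 0 n33894 = n73777 := rfl
def n73778 : Q := act 1 n33894
theorem D73778 : act 1 n33894 = n73778 := rfl
theorem F110599 : act 4 n39813 = n73778 := d20_6 (iv4 F18167) (iv1 F18170) (iv4 F43124) D8823 D18839 D39813 (iv1 D73778) F53246 (iv3 D16392) (iv1 F28956)
def n73779 : Q := act 2 n33894
theorem D73779 : act 2 n33894 = n73779 := rfl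
theorem F110600 : act 4 n73779 = n33907 := d1_2 (iv4 F53246) D73779 (iv2 D33907)
def n73782 : Q := act 0 n33895
theorem D73782 : act 0 n33895 = n73782 := rfl
def n73783 : Q := act 1 n33895
theorem D73783 : act 1 n33895 = n73783 := rfl
def n73786 : Q := act 0 n33896
theorem D73786 : act 0 n33896 = n73786 := rfl
def n73787 : Q := act 1 n33896
theorem D73787 : act 1 n33896 = n73787 := rfl
def n73788 : Q := act 5 n33896
theorem D73788 : act 5 n33896 = n73788 := rfl
theorem F110604 : act 0 n73788 = n71546 := d21_7 D54657 F86439 F52319 D33770 F109937 D33896 D73788 (iv5 D71546) (iv6 D33092) (iv1 F42254)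
def n73789 : Q := act 7 n33896
theorem D73789 : act 7 n33896 = n73789 := rfl
theorem F110605 : act 4 n73789 = n33904 := d11_1 D73789 (iv7 D33904) (iv4 F53247)
def n73790 : Q := act 2 n33897
theorem D73790 : act 2 n33897 = n73790 := rfl
theorem F110606 : act 7 n33898 = n73790 := d15_2 (iv0 D33897) D33898 (iv2 D73790)
def n73791 : Q := act 3 n33897
theorem D73791 : act 3 n33897 = n73791 := rfl
def n73792 : Q := act 4 n33897
theorem D73792 : act 4 n33897 = n73792 := rfl
def n73793 : Q := act 5 n33897
theorem D73793 : act 5 n33897 = n73793 := rfl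
def n73794 : Q := act 6 n33897
theorem D73794 : act 6 n33897 = n73794 := rfl
def n73795 : Q := act 7 n33897
theorem D73795 : act 7 n33897 = n73795 := rfl
def n73796 : Q := act 3 n33898
theorem D73796 : act 3 n33898 = n73796 := rfl
def n73797 : Q := act 4 n33898
theorem D73797 : act 4 n33898 = n73797 := rfl
def n73798 : Q := act 5 n33898
theorem D73798 : act 5 n33898 = n73798 := rfl
def n73799 : Q := act 6 n33898
theorem D73799 : act 6 n33898 = n73799 := rfl
def n73800 : Q := act 0 n33899
theorem D73800 : act 0 n33899 = n73800 := rfl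
def n73801 : Q := act 1 n33899
theorem D73801 : act 1 n33899 = n73801 := rfl
def n73802 : Q := act 3 n33899
theorem D73802 : act 3 n33899 = n73802 := rfl
theorem F110608 : act 4 n73802 = n33921 := d5_2 D33899 D73802 (iv3 D33921) (iv4 D16398) (iv3 F25882)
def n73803 : Q := act 5 n33899
theorem D73803 : act 5 n33899 = n73803 := rfl
def n73804 : Q := act 6 n33899
theorem D73804 : act 6 n33899 = n73804 := rfl
theorem F110609 : act 4 n73804 = n33900 := d10_1 D73804 (iv6 D33900) D33899
def n73805 : Q := act 0 n33900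
theorem D73805 : act 0 n33900 = n73805 := rfl
def n73806 : Q := act 1 n33900
theorem D73806 : act 1 n33900 = n73806 := rfl
def n73807 : Q := act 5 n33900
theorem D73807 : act 5 n33900 = n73807 := rfl
theorem F110610 : act 3 n73807 = n33925 := d6_1 D73807 (iv5 D33925) (iv3 F53248)
theorem F110611 : act 6 n73807 = n33903 := d12_2 D33900 D73807 (iv5 D33903) (iv6 D16388) D16387
def n73808 : Q := act 7 n33900
theorem D73808 : act 7 n33900 = n73808 := rfl
theorem F110613 : act 6 n73808 = n67865 := d14_1 D73808 F103919 (iv6 D55203) (iv7 F53103) D33900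
def n73809 : Q := act 2 n33901
theorem D73809 : act 2 n33901 = n73809 := rfl
theorem F110614 : act 7 n33902 = n73809 := d15_2 (iv0 D33901) D33902 (iv2 D73809)
def n73810 : Q := act 3 n33901
theorem D73810 : act 3 n33901 = n73810 := rfl
def n73811 : Q := act 4 n33901
theorem D73811 : act 4 n33901 = n73811 := rfl
def n73812 : Q := act 5 n33901
theorem D73812 : act 5 n33901 = n73812 := rfl
def n73813 : Q := act 6 n33901
theorem D73813 : act 6 n33901 = n73813 := rfl
def n73814 : Q := act 7 n33901
theorem D73814 : act 7 n33901 = n73814 := rfl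
theorem F110615 : act 2 n73814 = n33902 := d4_1 D73814 F110614 (iv2 D73809)
def n73815 : Q := act 3 n33902
theorem D73815 : act 3 n33902 = n73815 := rfl
def n73816 : Q := act 4 n33902
theorem D73816 : act 4 n33902 = n73816 := rfl
def n73817 : Q := act 5 n33902
theorem D73817 : act 5 n33902 = n73817 := rfl
def n73818 : Q := act 6 n33902
theorem D73818 : act 6 n33902 = n73818 := rfl
def n73819 : Q := act 0 n33903
theorem D73819 : act 0 n33903 = n73819 := rfl
def n73820 : Q := act 1 n33903
theorem D73820 : act 1 n33903 = n73820 := rfl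
def n73821 : Q := act 4 n33903
theorem D73821 : act 4 n33903 = n73821 := rfl
def n73823 : Q := act 3 n33905
theorem D73823 : act 3 n33905 = n73823 := rfl
theorem F110617 : act 4 n73823 = n58670 := d20_6 F4243 D3454 D7606 D16392 D33905 D73823 (iv1 D58670) (iv4 D27898) (iv3 D13302) (iv1 D6310)
def n73824 : Q := act 4 n33905
theorem D73824 : act 4 n33905 = n73824 := rfl
theorem F110618 : act 0 n73824 = n57898 := d20_1 D73824 (iv4 D57898) (iv3 D27631) (iv1 D13194) F9761 F4243 D3454 D7606 D16392 D33905
def n73832 : Q := act 5 n33907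
theorem D73832 : act 5 n33907 = n73832 := rfl
theorem F110620 : act 2 n73832 = n33908 := d2_1 D73832 (iv5 D33908) D33907
def n73833 : Q := act 6 n33907
theorem D73833 : act 6 n33907 = n73833 := rfl
theorem F110621 : act 2 n73833 = n33909 := d3_1 D73833 (iv6 D33909) D33907
def n73834 : Q := act 0 n33908
theorem D73834 : act 0 n33908 = n73834 := rfl
def n73835 : Q := act 1 n33908
theorem D73835 : act 1 n33908 = n73835 := rfl
def n73836 : Q := act 4 n33908
theorem D73836 : act 4 n33908 = n73836 := rfl
def n73837 : Q := act 6 n33908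
theorem D73837 : act 6 n33908 = n73837 := rfl
def n73838 : Q := act 0 n33909
theorem D73838 : act 0 n33909 = n73838 := rfl
def n73839 : Q := act 1 n33909
theorem D73839 : act 1 n33909 = n73839 := rfl
def n73840 : Q := act 3 n33910
theorem D73840 : act 3 n33910 = n73840 := rfl
theorem F110623 : act 5 n73840 = n56404 := d6_2 F53255 D73840 F89253
theorem F110624 : act 6 n73840 = n36458 := d7_2 (iv6 F53256) D73840 (iv3 D36458)
theorem F110625 : act 7 n73840 = n35655 := d8_2 (iv7 F53254) D73840 F56320
def n73841 : Q := act 3 n33911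
theorem D73841 : act 3 n33911 = n73841 := rfl
def n73842 : Q := act 6 n33911
theorem D73842 : act 6 n33911 = n73842 := rfl
theorem F110626 : act 4 n73842 = n33912 := d10_1 D73842 (iv6 D33912) D33911
theorem F110627 : act 1 n36398 = n73842 := d18_6 F43455 (iv4 F56507) (iv1 F88496) (iv4 F88499) (iv5 F45077) (iv4 F57144) F110626 (iv0 F88348) (iv5 D55857)
def n73843 : Q := act 0 n33913
theorem D73843 : act 0 n33913 = n73843 := rfl
def n73844 : Q := act 1 n33913
theorem D73844 : act 1 n33913 = n73844 := rfl
def n73845 : Q := act 2 n33913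
theorem D73845 : act 2 n33913 = n73845 := rfl
theorem F110628 : act 5 n73845 = n72176 := d2_2 (iv5 F53258) D73845 F108622
def n73846 : Q := act 4 n33913
theorem D73846 : act 4 n33913 = n73846 := rfl
def n73847 : Q := act 6 n33913
theorem D73847 : act 6 n33913 = n73847 := rfl
theorem F110629 : act 3 n73847 = n33915 := d7_1 D73847 (iv6 D33915) D33913
theorem F110630 : act 5 n73847 = n69379 := d12_1 D73847 F105641 (iv5 D33319) D33320 (iv5 F53258)
def n73848 : Q := act 3 n33914
theorem D73848 : act 3 n33914 = n73848 := rfl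
def n73849 : Q := act 5 n33914
theorem D73849 : act 5 n33914 = n73849 := rfl
theorem F110633 : act 0 n73849 = n54269 := d17_2 F77384 D73849 (iv5 D54269) F43130 D28480 F46005 D32900 F52084 D49028
theorem F110634 : act 1 n73849 = n54272 := d17_6 (iv1 F20712) D26250 F41668 (iv5 F25890) D33914 D73849 (iv5 D54272) F41652 F24826
def n73850 : Q := act 6 n33914
theorem D73850 : act 6 n33914 = n73850 := rfl
theorem F110635 : act 4 n73850 = n33915 := d10_1 D73850 (iv6 D33915) D33914
theorem F110636 : act 5 n67301 = n73850 := d21_8 (iv5 F77403) (iv1 D32285) (iv5 D15223) (iv6 D7214) (iv1 F11282) D14759 D31297 D67301 (iv6 D73850) (iv1 F77402)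
theorem E9929 : n69354 = n14759 := (c17_1 (iv1 F105619) D31297 D67301 F110636 F110635 F53259 (iv0 D32236) (iv5 D15206) D15205 D32233)
theorem E9930 : n32228 = n31295 := (((D31295).symm.trans (sb E9929 (iv1 D69354)))).symm
theorem E9931 : n32233 = n31296 := (((D31296).symm.trans (sb E9929 F105619))).symm
theorem E9933 : n69343 = n67291 := (((D67291).symm.trans (sb E9930 (iv2 F105610)))).symm
theorem E9935 : n67293 = n15204 := ((D67293).symm.trans (sb E9930 (iv4 D32228)))
theorem E9937 : n69357 = n67295 := (((D67295).symm.trans (sb E9930 D69357))).symm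
theorem E9938 : n69358 = n67296 := (((D67296).symm.trans (sb E9930 D69358))).symm
theorem E9940 : n67298 = n15205 := ((D67298).symm.trans (sb E9931 (iv4 D32233)))
theorem E9942 : n69374 = n67300 := (((D67300).symm.trans (sb E9931 D69374))).symm
theorem F110637 : act 4 n67291 = n32226 := (sb E9933 (iv4 D69343))
theorem F110638 : act 4 n15204 = n31295 := (sb E9935 (iv4 D67293))
theorem F110639 : act 4 n67295 = n32230 := (sb E9937 F105620)
theorem F110640 : act 4 n67296 = n32231 := (sb E9938 F105622)
theorem F110641 : act 4 n15205 = n31296 := (sb E9940 (iv4 D67298))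
theorem F110642 : act 4 n67300 = n32235 := (sb E9942 F105634)
theorem E9943 : n69381 = n68077 := ((c18_7 (iv1 F41627) F110641 (iv1 D31296) F24407 D14891 D31673 D68077 (iv4 D69381) F85572 F85571)).symm
theorem F110643 : act 4 n68077 = n32237 := (sb E9943 (iv4 D69381))
def n73853 : Q := act 2 n33916
theorem D73853 : act 2 n33916 = n73853 := rfl
def n73854 : Q := act 4 n33916
theorem D73854 : act 4 n33916 = n73854 := rfl
def n73855 : Q := act 5 n33916
theorem D73855 : act 5 n33916 = n73855 := rfl
theorem F110644 : act 3 n73855 = n33918 := d6_1 D73855 (iv5 D33918) D33916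
theorem F110645 : act 7 n73855 = n54738 := d13_2 F87265 D73855 (iv5 F87264)
theorem F110646 : act 6 n72158 = n73855 := d14_5 F110645 (iv6 D54738) F42325 D33308 D72158
def n73856 : Q := act 3 n33917
theorem D73856 : act 3 n33917 = n73856 := rfl
def n73857 : Q := act 5 n33917
theorem D73857 : act 5 n33917 = n73857 := rfl
theorem F110650 : act 1 n73857 = n54269 := d17_6 D12442 D26245 (iv1 F53263) (iv5 D33918) D33917 D73857 (iv5 D54269) (iv0 D26238) F20711
theorem E9944 : n54098 = n53666 := (c21_4 D54269 (iv1 F110650) (iv5 D73857) (iv6 F85385) (iv1 D53666) (iv6 D25976) (iv5 D12319) (iv1 F9001) (iv5 F9167) D12441 D26238)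
theorem F110651 : act 2 n53666 = n31155 := (sb E9944 F105817)
theorem F110652 : act 4 n53666 = n26174 := (sb E9944 (iv4 D54098))
theorem F110653 : act 6 n53666 = n33917 := (sb E9944 F85385)
theorem F110654 : act 7 n53666 = n31154 := (sb E9944 F105818)
theorem E9945 : n54094 = n53665 := (c15_4 (iv0 D53665) D53666 F110654 (iv2 F105813))
theorem F110655 : act 2 n53665 = n31154 := (sb E9945 F105813)
theorem F110656 : act 4 n53665 = n26173 := (sb E9945 (iv4 D54094))
theorem F110657 : act 7 n53665 = n31155 := (sb E9945 F105814)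
theorem F110658 : act 4 n54100 = n70906 := d18_1 D54100 (iv1 F107460) F104805 F50216 (iv4 F49508) F84669 F110656 (iv0 D26173) D26175
theorem F110659 : act 2 n70906 = n68606 := d1_1 F110658 F107464 (iv2 F105723)
theorem F110660 : act 7 n70906 = n68607 := d11_2 (iv7 F105724) F110658 F105823
theorem F110661 : act 2 n68607 = n70907 := d15_3 F107453 F107460 F110660
theorem F110662 : act 7 n68606 = n70907 := d4_2 (iv7 F110660) F110659 (iv2 F110661)
theorem F110663 : act 4 n70907 = n54101 := d11_1 F110662 F105722 (iv4 F107464)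
def n73858 : Q := act 3 n33919
theorem D73858 : act 3 n33919 = n73858 := rfl
def n73859 : Q := act 5 n33919
theorem D73859 : act 5 n33919 = n73859 := rfl
theorem F110666 : act 0 n73859 = n54285 := d17_2 D33919 D73859 (iv5 D54285) (iv4 D26244) D26245 F41663 (iv5 F25890) (iv0 D16396) D16398
theorem F110667 : act 1 n73859 = n54298 := d17_6 (iv1 F37193) (iv5 F37194) (iv1 F46226) (iv5 F46224) (iv4 F53271) D73859 (iv5 D54298) F46001 F46000
def n73860 : Q := act 6 n33919
theorem D73860 : act 6 n33919 = n73860 := rfl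
theorem F110668 : act 4 n73860 = n60387 := d10_1 D73860 (iv6 D60387) (iv4 F53271)
theorem F110669 : act 7 n73860 = n68582 := d14_2 F87288 D73860 (iv6 D68582) F105860 (iv6 F105859)
theorem F110670 : act 5 n66114 = n73860 := d21_8 D33963 F53296 (iv5 D28477) (iv6 D13574) F11254 D14633 D30912 D66114 (iv6 D73860) (iv1 F53272)
def n73861 : Q := act 3 n33920
theorem D73861 : act 3 n33920 = n73861 := rfl
theorem F110671 : act 6 n73861 = n68594 := d7_2 F53275 D73861 (iv3 D68594)
def n73862 : Q := act 5 n33920
theorem D73862 : act 5 n33920 = n73862 := rfl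
theorem F110675 : act 1 n73862 = n54285 := d17_6 D23858 (iv5 F57683) (iv1 F57688) F52087 (iv4 F53274) D73862 (iv5 D54285) (iv0 F46227) F37192
theorem E9946 : n68579 = n25932 := (c21_5 D54285 (iv1 F110675) (iv5 D73862) (iv6 F53275) (iv1 F104770) (iv6 D25932) (iv5 D12303) (iv1 F10472) (iv5 F18143) D23857 F46227)
theorem E9947 : n53545 = n31903 := ((D53545).symm.trans (sb E9946 (iv1 D68579)))
theorem E9948 : n53546 = n31908 := ((D53546).symm.trans (sb E9946 F104770))
theorem E9949 : n68578 = n31007 := ((D68578).symm.trans (sb E9947 (iv1 F84462)))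
theorem F110676 : act 1 n31903 = n25932 := (sb E9947 (iv0 D53545))
theorem F110677 : act 0 n31908 = n25932 := (sb E9948 (iv1 D53546))
theorem F110678 : act 0 n31007 = n31908 := (sb E9949 (iv1 F104769))
theorem F110679 : act 1 n31007 = n31903 := (sb E9949 (iv0 D68578))
theorem F110680 : act 0 n68599 = n68945 := d18_2 D31911 D68599 F105109 F50677 (iv4 F49429) F110679 (iv4 D31903) (iv0 D15049) D15051
theorem F110681 : act 1 n54102 = n68604 := d18_6 (iv1 F41410) D31908 F110677 F40993 D26175 D54102 (iv4 D68604) F85238 F85236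
theorem F110682 : act 1 n68604 = n68945 := d15_1 F110681 (iv7 D68945) (iv2 F85392)
def n73863 : Q := act 0 n33921
theorem D73863 : act 0 n33921 = n73863 := rfl
def n73864 : Q := act 1 n33921
theorem D73864 : act 1 n33921 = n73864 := rfl
def n73865 : Q := act 2 n33921
theorem D73865 : act 2 n33921 = n73865 := rfl
def n73866 : Q := act 5 n33921
theorem D73866 : act 5 n33921 = n73866 := rfl
def n73867 : Q := act 6 n33921
theorem D73867 : act 6 n33921 = n73867 := rfl
theorem F110684 : act 3 n73867 = n33923 := d7_1 D73867 (iv6 D33923) D33921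
def n73868 : Q := act 6 n33922
theorem D73868 : act 6 n33922 = n73868 := rfl
def n73869 : Q := act 1 n33923
theorem D73869 : act 1 n33923 = n73869 := rfl
def n73870 : Q := act 5 n33923
theorem D73870 : act 5 n33923 = n73870 := rfl
def n73871 : Q := act 7 n33923
theorem D73871 : act 7 n33923 = n73871 := rfl
theorem F110686 : act 6 n73871 = n65678 := d14_1 D73871 F101401 (iv6 D55210) (iv7 F53104) D33923
def n73872 : Q := act 3 n33924
theorem D73872 : act 3 n33924 = n73872 := rfl
def n73873 : Q := act 4 n33924
theorem D73873 : act 4 n33924 = n73873 := rfl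
def n73874 : Q := act 4 n33925
theorem D73874 : act 4 n33925 = n73874 := rfl
theorem F110688 : act 6 n73874 = n33929 := d10_2 (iv6 F53278) D73874 (iv4 D33929)
def n73877 : Q := act 2 n33927
theorem D73877 : act 2 n33927 = n73877 := rfl
def n73878 : Q := act 4 n33927
theorem D73878 : act 4 n33927 = n73878 := rfl
def n73879 : Q := act 5 n33927
theorem D73879 : act 5 n33927 = n73879 := rfl
theorem F110689 : act 3 n73879 = n33928 := d6_1 D73879 (iv5 D33928) D33927
def n73880 : Q := act 4 n33928
theorem D73880 : act 4 n33928 = n73880 := rfl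
theorem F110690 : act 0 n73880 = n69840 := d18_2 (iv1 F53282) D73880 (iv4 D69840) (iv5 D32430) F43128 (iv0 D7983) F5649 D7755 D16675
def n73882 : Q := act 5 n33929
theorem D73882 : act 5 n33929 = n73882 := rfl
def n73885 : Q := act 4 n33930
theorem D73885 : act 4 n33930 = n73885 := rfl
theorem F110694 : act 2 n73885 = n33932 := d1_1 D73885 (iv4 D33932) D33930
theorem F110695 : act 7 n73885 = n33937 := d11_2 F53284 D73885 (iv4 D33937)
def n73886 : Q := act 5 n33930
theorem D73886 : act 5 n33930 = n73886 := rfl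
theorem F110696 : act 2 n73886 = n33933 := d2_1 D73886 (iv5 D33933) D33930
theorem F110697 : act 7 n73886 = n33938 := d13_2 F53284 D73886 (iv5 D33938)
def n73893 : Q := act 0 n33932
theorem D73893 : act 0 n33932 = n73893 := rfl
def n73894 : Q := act 1 n33932
theorem D73894 : act 1 n33932 = n73894 := rfl
theorem F110702 : act 1 n73894 = n33937 := d15_1 D73894 (iv7 F110695) F110694
def n73898 : Q := act 7 n33932
theorem D73898 : act 7 n33932 = n73898 := rfl
theorem F110704 : act 2 n73898 = n33937 := d4_1 D73898 (iv7 F110695) F110694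
theorem F110705 : act 4 n73898 = n33935 := d11_1 D73898 (iv7 D33935) D33932
theorem F110706 : act 1 n33937 = n73893 := d15_0 (iv0 D73893) D73898 F110704
def n73899 : Q := act 0 n33933
theorem D73899 : act 0 n33933 = n73899 := rfl
def n73903 : Q := act 7 n33933
theorem D73903 : act 7 n33933 = n73903 := rfl
theorem F110708 : act 2 n73903 = n33938 := d4_1 D73903 (iv7 F110697) F110696
theorem F110709 : act 5 n73903 = n33935 := d13_1 D73903 (iv7 D33935) D33933
theorem F110710 : act 1 n33938 = n73899 := d15_0 (iv0 D73899) D73903 F110708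
def n73909 : Q := act 3 n33937
theorem D73909 : act 3 n33937 = n73909 := rfl
def n73910 : Q := act 5 n33937
theorem D73910 : act 5 n33937 = n73910 := rfl
def n73911 : Q := act 6 n33937
theorem D73911 : act 6 n33937 = n73911 := rfl
theorem F110712 : act 4 n73911 = n33939 := d10_1 D73911 (iv6 D33939) D33937
def n73918 : Q := act 3 n33940
theorem D73918 : act 3 n33940 = n73918 := rfl
def n73919 : Q := act 5 n33940
theorem D73919 : act 5 n33940 = n73919 := rfl
theorem F110713 : act 2 n73919 = n33946 := d2_1 D73919 (iv5 D33946) (iv2 F53286)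
def n73920 : Q := act 6 n33940
theorem D73920 : act 6 n33940 = n73920 := rfl
theorem F110714 : act 2 n73920 = n33947 := d3_1 D73920 (iv6 D33947) (iv2 F53286)
theorem F110715 : act 4 n73920 = n33942 := d10_1 D73920 (iv6 D33942) D33940
def n73921 : Q := act 4 n33941
theorem D73921 : act 4 n33941 = n73921 := rfl
theorem F110716 : act 2 n73921 = n33950 := d1_1 D73921 (iv4 D33950) (iv2 F53287)
def n73922 : Q := act 6 n33941
theorem D73922 : act 6 n33941 = n73922 := rfl
theorem F110717 : act 2 n73922 = n33951 := d3_1 D73922 (iv6 D33951) (iv2 F53287)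
def n73923 : Q := act 0 n33942
theorem D73923 : act 0 n33942 = n73923 := rfl
def n73924 : Q := act 1 n33942
theorem D73924 : act 1 n33942 = n73924 := rfl
theorem F110718 : act 1 n73924 = n33955 := d15_1 D73924 (iv7 D33955) (iv2 F53288)
def n73925 : Q := act 5 n33942
theorem D73925 : act 5 n33942 = n73925 := rfl
theorem F110719 : act 2 n73925 = n33954 := d2_1 D73925 (iv5 D33954) (iv2 F53288)
def n73926 : Q := act 7 n33942
theorem D73926 : act 7 n33942 = n73926 := rfl
theorem F110720 : act 2 n73926 = n33955 := d4_1 D73926 (iv7 D33955) (iv2 F53288)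
theorem F110721 : act 1 n33955 = n73923 := d15_0 (iv0 D73923) D73926 F110720
theorem F110722 : act 1 n33953 = n73926 := d15_1 D33953 (iv7 D73926) F53288
theorem F110723 : act 1 n73926 = n33952 := d15_0 (iv0 D33952) D33955 (iv2 F110720)
def n73927 : Q := act 2 n33943
theorem D73927 : act 2 n33943 = n73927 := rfl
theorem F110724 : act 7 n33944 = n73927 := d15_2 (iv0 D33943) D33944 (iv2 D73927)
def n73929 : Q := act 4 n33943
theorem D73929 : act 4 n33943 = n73929 := rfl
theorem F110725 : act 3 n73929 = n60301 := d20_3 D16409 D33943 D73929 (iv1 D60301) (iv3 D28648) D28649 D60306 (iv4 F110589) (iv3 F110590) (iv1 D16407)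
def n73932 : Q := act 7 n33943
theorem D73932 : act 7 n33943 = n73932 := rfl
theorem F110726 : act 2 n73932 = n33944 := d4_1 D73932 F110724 (iv2 D73927)
def n73933 : Q := act 3 n33944
theorem D73933 : act 3 n33944 = n73933 := rfl
def n73934 : Q := act 4 n33944
theorem D73934 : act 4 n33944 = n73934 := rfl
theorem F110727 : act 0 n73153 = n73934 := d20_10 (iv4 D73934) (iv1 D33944) (iv4 D16409) (iv3 D7610) (iv1 D3455) (iv3 F5427) (iv4 F11823) D16282 D33687 D73153
theorem F110728 : act 3 n49021 = n73934 := d20_5 (iv4 F4243) D6309 (iv4 F37195) D23915 D49021 (iv4 D73934) (iv1 D33944) (iv4 D16409) (iv3 D7610) (iv1 D3455)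
def n73935 : Q := act 5 n33944
theorem D73935 : act 5 n33944 = n73935 := rfl
def n73936 : Q := act 6 n33944
theorem D73936 : act 6 n33944 = n73936 := rfl
def n73937 : Q := act 0 n33945
theorem D73937 : act 0 n33945 = n73937 := rfl
def n73938 : Q := act 1 n33945
theorem D73938 : act 1 n33945 = n73938 := rfl
theorem F110729 : act 4 n39784 = n73938 := d20_6 F5673 D6494 F43120 D8818 D18820 D39784 (iv1 D73938) F53289 (iv3 D16412) F28954
def n73939 : Q := act 2 n33945
theorem D73939 : act 2 n33945 = n73939 := rfl
theorem F110730 : act 4 n73939 = n33958 := d1_2 (iv4 F53289) D73939 (iv2 D33958)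
def n73940 : Q := act 5 n33945
theorem D73940 : act 5 n33945 = n73940 := rfl
theorem F110731 : act 3 n73940 = n33946 := d6_1 D73940 (iv5 D33946) D33945
def n73941 : Q := act 6 n33945
theorem D73941 : act 6 n33945 = n73941 := rfl
theorem F110732 : act 3 n73941 = n33947 := d7_1 D73941 (iv6 D33947) D33945
theorem F110733 : act 4 n73941 = n33960 := d10_1 D73941 (iv6 D33960) (iv4 F53289)
def n73942 : Q := act 0 n33946
theorem D73942 : act 0 n33946 = n73942 := rfl
def n73943 : Q := act 1 n33946
theorem D73943 : act 1 n33946 = n73943 := rfl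
def n73944 : Q := act 4 n33946
theorem D73944 : act 4 n33946 = n73944 := rfl
def n73945 : Q := act 6 n33946
theorem D73945 : act 6 n33946 = n73945 := rfl
def n73946 : Q := act 0 n33947
theorem D73946 : act 0 n33947 = n73946 := rfl
def n73947 : Q := act 1 n33947
theorem D73947 : act 1 n33947 = n73947 := rfl
def n73948 : Q := act 5 n33947
theorem D73948 : act 5 n33947 = n73948 := rfl
def n73949 : Q := act 7 n33947
theorem D73949 : act 7 n33947 = n73949 := rfl
theorem F110734 : act 4 n73949 = n33955 := d11_1 D73949 (iv7 D33955) (iv4 F53290)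
def n73950 : Q := act 2 n33948
theorem D73950 : act 2 n33948 = n73950 := rfl
theorem F110735 : act 7 n33949 = n73950 := d15_2 (iv0 D33948) D33949 (iv2 D73950)
def n73951 : Q := act 3 n33948
theorem D73951 : act 3 n33948 = n73951 := rfl
def n73952 : Q := act 4 n33948
theorem D73952 : act 4 n33948 = n73952 := rfl
def n73953 : Q := act 5 n33948
theorem D73953 : act 5 n33948 = n73953 := rfl
def n73954 : Q := act 6 n33948
theorem D73954 : act 6 n33948 = n73954 := rfl
def n73955 : Q := act 7 n33948
theorem D73955 : act 7 n33948 = n73955 := rfl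
theorem F110736 : act 2 n73955 = n33949 := d4_1 D73955 F110735 (iv2 D73950)
def n73956 : Q := act 3 n33949
theorem D73956 : act 3 n33949 = n73956 := rfl
def n73957 : Q := act 4 n33949
theorem D73957 : act 4 n33949 = n73957 := rfl
def n73958 : Q := act 5 n33949
theorem D73958 : act 5 n33949 = n73958 := rfl
def n73959 : Q := act 6 n33949
theorem D73959 : act 6 n33949 = n73959 := rfl
def n73960 : Q := act 0 n33950
theorem D73960 : act 0 n33950 = n73960 := rfl
def n73961 : Q := act 1 n33950
theorem D73961 : act 1 n33950 = n73961 := rfl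
def n73962 : Q := act 3 n33950
theorem D73962 : act 3 n33950 = n73962 := rfl
theorem F110737 : act 4 n73962 = n33962 := d5_2 D33950 D73962 (iv3 D33962) (iv4 D16415) (iv3 F25897)
def n73963 : Q := act 5 n33950
theorem D73963 : act 5 n33950 = n73963 := rfl
def n73964 : Q := act 6 n33950
theorem D73964 : act 6 n33950 = n73964 := rfl
theorem F110738 : act 4 n73964 = n33951 := d10_1 D73964 (iv6 D33951) D33950
def n73965 : Q := act 0 n33951
theorem D73965 : act 0 n33951 = n73965 := rfl
def n73966 : Q := act 1 n33951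
theorem D73966 : act 1 n33951 = n73966 := rfl
def n73967 : Q := act 5 n33951
theorem D73967 : act 5 n33951 = n73967 := rfl
theorem F110739 : act 3 n73967 = n33965 := d6_1 D73967 (iv5 D33965) (iv3 F53291)
theorem F110740 : act 6 n73967 = n33954 := d12_2 D33951 D73967 (iv5 D33954) (iv6 D16411) D16410
def n73968 : Q := act 2 n33952
theorem D73968 : act 2 n33952 = n73968 := rfl
theorem F110741 : act 7 n33953 = n73968 := d15_2 (iv0 D33952) D33953 (iv2 D73968)
def n73969 : Q := act 3 n33952
theorem D73969 : act 3 n33952 = n73969 := rfl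
def n73970 : Q := act 4 n33952
theorem D73970 : act 4 n33952 = n73970 := rfl
def n73971 : Q := act 5 n33952
theorem D73971 : act 5 n33952 = n73971 := rfl
def n73972 : Q := act 6 n33952
theorem D73972 : act 6 n33952 = n73972 := rfl
def n73973 : Q := act 7 n33952
theorem D73973 : act 7 n33952 = n73973 := rfl
theorem F110742 : act 2 n73973 = n33953 := d4_1 D73973 F110741 (iv2 D73968)
def n73974 : Q := act 3 n33953
theorem D73974 : act 3 n33953 = n73974 := rfl
def n73975 : Q := act 4 n33953
theorem D73975 : act 4 n33953 = n73975 := rfl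
def n73976 : Q := act 5 n33953
theorem D73976 : act 5 n33953 = n73976 := rfl
def n73977 : Q := act 6 n33953
theorem D73977 : act 6 n33953 = n73977 := rfl
def n73978 : Q := act 0 n33954
theorem D73978 : act 0 n33954 = n73978 := rfl
def n73979 : Q := act 1 n33954
theorem D73979 : act 1 n33954 = n73979 := rfl
def n73980 : Q := act 4 n33954
theorem D73980 : act 4 n33954 = n73980 := rfl
def n73981 : Q := act 7 n33954
theorem D73981 : act 7 n33954 = n73981 := rfl
theorem F110743 : act 3 n73981 = n33968 := d8_1 D73981 (iv7 D33968) (iv3 F53292)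
theorem F110744 : act 5 n73981 = n33955 := d13_1 D73981 (iv7 D33955) D33954
theorem F110745 : act 6 n61575 = n73981 := d7_0 F110743 F53304 D61575
def n73983 : Q := act 3 n33956
theorem D73983 : act 3 n33956 = n73983 := rfl
theorem F110747 : act 4 n73983 = n58641 := d20_6 (iv4 F9358) (iv1 F9361) D7611 D16412 D33956 D73983 (iv1 D58641) (iv4 D27889) (iv3 D13297) (iv1 F9819)
def n73988 : Q := act 3 n33957
theorem D73988 : act 3 n33957 = n73988 := rfl
theorem F110749 : act 4 n57882 = n73988 := d20_2 D27627 D57882 (iv3 D73988) (iv1 D33957) (iv3 D16412) (iv4 D7611) (iv1 D3455) (iv4 F4243) (iv3 F9761) D13193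
def n73992 : Q := act 5 n33958
theorem D73992 : act 5 n33958 = n73992 := rfl
theorem F110750 : act 2 n73992 = n33959 := d2_1 D73992 (iv5 D33959) D33958
def n73993 : Q := act 6 n33958
theorem D73993 : act 6 n33958 = n73993 := rfl
theorem F110751 : act 2 n73993 = n33960 := d3_1 D73993 (iv6 D33960) D33958
def n73994 : Q := act 0 n33959
theorem D73994 : act 0 n33959 = n73994 := rfl
def n73995 : Q := act 1 n33959
theorem D73995 : act 1 n33959 = n73995 := rfl
def n73996 : Q := act 4 n33959
theorem D73996 : act 4 n33959 = n73996 := rfl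
def n73998 : Q := act 1 n33960
theorem D73998 : act 1 n33960 = n73998 := rfl
def n73999 : Q := act 3 n33961
theorem D73999 : act 3 n33961 = n73999 := rfl
def n74000 : Q := act 0 n33962
theorem D74000 : act 0 n33962 = n74000 := rfl
def n74001 : Q := act 1 n33962
theorem D74001 : act 1 n33962 = n74001 := rfl
def n74002 : Q := act 2 n33962
theorem D74002 : act 2 n33962 = n74002 := rfl
def n74004 : Q := act 6 n33962
theorem D74004 : act 6 n33962 = n74004 := rfl
theorem F110753 : act 3 n74004 = n33964 := d7_1 D74004 (iv6 D33964) D33962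
def n74006 : Q := act 5 n33964
theorem D74006 : act 5 n33964 = n74006 := rfl
def n74007 : Q := act 1 n33965
theorem D74007 : act 1 n33965 = n74007 := rfl
theorem F110754 : act 1 n74007 = n61574 := d15_1 D74007 F96122 F87346
def n74008 : Q := act 4 n33965
theorem D74008 : act 4 n33965 = n74008 := rfl
theorem F110755 : act 6 n74008 = n33967 := d10_2 (iv6 F53299) D74008 (iv4 D33967)
def n74011 : Q := act 2 n33966
theorem D74011 : act 2 n33966 = n74011 := rfl
def n74012 : Q := act 4 n33966
theorem D74012 : act 4 n33966 = n74012 := rfl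
def n74014 : Q := act 5 n33967
theorem D74014 : act 5 n33967 = n74014 := rfl
theorem F110756 : act 0 n74014 = n61812 := d17_2 F57943 D74014 (iv5 D61812) (iv4 D29294) (iv5 F46240) (iv0 D28693) D28695 F46244 D37014
theorem F110757 : act 1 n74014 = n61822 := d17_6 (iv1 F42161) (iv5 F42162) F42199 D16419 D33967 D74014 (iv5 D61822) F52392 F52390
def n74015 : Q := act 0 n33969
theorem D74015 : act 0 n33969 = n74015 := rfl
theorem F110758 : act 2 n52860 = n74015 := d15_3 (iv0 D74015) (iv0 F104210) F104209
theorem F110759 : act 1 n48746 = n74015 := d15_0 (iv0 D74015) (iv7 F87371) F87369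
theorem F110760 : act 3 n74015 = n52915 := d0_2 D52860 F110758 (iv2 F104217) F104218 F49967
def n74016 : Q := act 4 n33969
theorem D74016 : act 4 n33969 = n74016 := rfl
def n74017 : Q := act 6 n33969
theorem D74017 : act 6 n33969 = n74017 := rfl
theorem F110761 : act 3 n74017 = n53084 := d7_1 D74017 (iv6 D53084) (iv3 F53309)
def n74018 : Q := act 4 n33970
theorem D74018 : act 4 n33970 = n74018 := rfl
def n74019 : Q := act 6 n33970
theorem D74019 : act 6 n33970 = n74019 := rfl
def n74020 : Q := act 4 n33971
theorem D74020 : act 4 n33971 = n74020 := rfl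
def n74021 : Q := act 6 n33971
theorem D74021 : act 6 n33971 = n74021 := rfl
def n74022 : Q := act 0 n33972
theorem D74022 : act 0 n33972 = n74022 := rfl
theorem F110762 : act 4 n74022 = n48977 := d20_8 D28599 D60159 F94708 F54095 (iv1 D16427) (iv3 F25903) D33972 D74022 F77273 (iv1 D28598)
theorem F110764 : act 1 n71139 = n74022 := d15_0 (iv0 D74022) (iv7 F87377) F107650
theorem F110765 : act 7 n74022 = n71137 := d15_2 D71139 F110764 F107646
def n74023 : Q := act 3 n33972
theorem D74023 : act 3 n33972 = n74023 := rfl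
theorem F110766 : act 4 n74023 = n33977 := d5_2 D33972 D74023 (iv3 D33977) (iv4 D16428) (iv3 F25903)
def n74024 : Q := act 5 n33972
theorem D74024 : act 5 n33972 = n74024 := rfl
theorem F110767 : act 1 n74024 = n71093 := d17_6 (iv1 D54650) (iv5 D26432) F43611 D16425 D33972 D74024 (iv5 D71093) D71091 F107624
def n74025 : Q := act 6 n33972
theorem D74025 : act 6 n33972 = n74025 := rfl
theorem F110768 : act 4 n74025 = n33973 := d10_1 D74025 (iv6 D33973) D33972
def n74026 : Q := act 0 n33973
theorem D74026 : act 0 n33973 = n74026 := rfl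
def n74027 : Q := act 1 n33973
theorem D74027 : act 1 n33973 = n74027 := rfl
def n74028 : Q := act 7 n33973
theorem D74028 : act 7 n33973 = n74028 := rfl
theorem F110769 : act 3 n74028 = n33981 := d8_1 D74028 (iv7 D33981) (iv3 F53312)
def n74029 : Q := act 1 n33974
theorem D74029 : act 1 n33974 = n74029 := rfl
theorem F110770 : act 1 n74029 = n70348 := d15_1 D74029 (iv7 D70348) (iv2 F53313)
theorem F110771 : act 7 n74029 = n70345 := d15_2 (iv0 F106008) D74029 (iv2 F106818)
theorem F110772 : act 2 n70346 = n74029 := d4_3 F110771 (iv2 F106818) (iv7 F106819)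
def n74030 : Q := act 7 n33974
theorem D74030 : act 7 n33974 = n74030 := rfl
theorem F110774 : act 5 n74030 = n54382 := d13_1 D74030 (iv7 D54382) (iv5 F53314)
theorem F110775 : act 6 n74030 = n39456 := d14_1 D74030 F92313 F86596 F42751 D33974
theorem F110776 : act 1 n70346 = n74030 := d15_1 D70346 (iv7 D74030) F53313
def n74031 : Q := act 3 n33976
theorem D74031 : act 3 n33976 = n74031 := rfl
theorem F110778 : act 5 n74031 = n70978 := d6_2 (iv5 F53319) D74031 (iv3 D70978)
theorem F110779 : act 7 n74031 = n70981 := d8_2 (iv7 F53318) D74031 (iv3 D70981)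
def n74032 : Q := act 6 n33976
theorem D74032 : act 6 n33976 = n74032 := rfl
theorem F110780 : act 2 n74032 = n70979 := d3_1 D74032 (iv6 D70979) F53321
theorem F110781 : act 4 n74032 = n54511 := d10_1 D74032 F86112 (iv4 F53320)
theorem F110782 : act 0 n74032 = n39455 := d21_4 F42772 (iv1 F52044) (iv5 F53319) D74032 (iv6 D39455) (iv5 F54944) (iv1 F61222) (iv5 D40249) F30332 (iv1 F42773)
def n74033 : Q := act 0 n33977
theorem D74033 : act 0 n33977 = n74033 := rfl
theorem F110783 : act 3 n74033 = n71212 := d20_5 F52054 (iv1 D16427) D16428 D33977 D74033 (iv4 D71212) (iv1 D32962) (iv4 F52061) (iv3 D32880) D32878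
def n74034 : Q := act 1 n33977
theorem D74034 : act 1 n33977 = n74034 := rfl
def n74035 : Q := act 2 n33977
theorem D74035 : act 2 n33977 = n74035 := rfl
def n74036 : Q := act 6 n33977
theorem D74036 : act 6 n33977 = n74036 := rfl
theorem F110784 : act 3 n74036 = n33978 := d7_1 D74036 (iv6 D33978) D33977
def n74037 : Q := act 0 n33978
theorem D74037 : act 0 n33978 = n74037 := rfl
def n74038 : Q := act 1 n33978
theorem D74038 : act 1 n33978 = n74038 := rfl
def n74039 : Q := act 5 n33978
theorem D74039 : act 5 n33978 = n74039 := rfl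
def n74040 : Q := act 7 n33978
theorem D74040 : act 7 n33978 = n74040 := rfl
theorem F110785 : act 4 n74040 = n33981 := d11_1 D74040 (iv7 D33981) (iv4 F53322)
def n74041 : Q := act 2 n33979
theorem D74041 : act 2 n33979 = n74041 := rfl
theorem F110786 : act 6 n74041 = n39423 := d3_2 (iv6 F106121) D74041 (iv2 F106002)
theorem F110787 : act 7 n33980 = n74041 := d15_2 (iv0 D33979) D33980 (iv2 D74041)
def n74042 : Q := act 3 n33979
theorem D74042 : act 3 n33979 = n74042 := rfl
def n74043 : Q := act 4 n33979
theorem D74043 : act 4 n33979 = n74043 := rfl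
def n74044 : Q := act 5 n33979
theorem D74044 : act 5 n33979 = n74044 := rfl
theorem F110788 : act 0 n74044 = n55331 := d21_1 D74044 F87564 (iv6 D27820) (iv1 D13274) F9805 (iv5 D3459) D3457 D7617 D16429 D33979
def n74045 : Q := act 7 n33979
theorem D74045 : act 7 n33979 = n74045 := rfl
theorem F110789 : act 2 n74045 = n33980 := d4_1 D74045 F110787 (iv2 D74041)
def n74046 : Q := act 3 n33980
theorem D74046 : act 3 n33980 = n74046 := rfl
def n74047 : Q := act 4 n33980
theorem D74047 : act 4 n33980 = n74047 := rfl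
def n74048 : Q := act 0 n33982
theorem D74048 : act 0 n33982 = n74048 := rfl
def n74049 : Q := act 1 n33982
theorem D74049 : act 1 n33982 = n74049 := rfl
def n74050 : Q := act 2 n33982
theorem D74050 : act 2 n33982 = n74050 := rfl
def n74051 : Q := act 6 n33982
theorem D74051 : act 6 n33982 = n74051 := rfl
theorem F110790 : act 3 n74051 = n33983 := d7_1 D74051 (iv6 D33983) D33982
def n74052 : Q := act 0 n33983
theorem D74052 : act 0 n33983 = n74052 := rfl
def n74053 : Q := act 1 n33983
theorem D74053 : act 1 n33983 = n74053 := rfl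
def n74054 : Q := act 5 n33983
theorem D74054 : act 5 n33983 = n74054 := rfl
def n74055 : Q := act 7 n33983
theorem D74055 : act 7 n33983 = n74055 := rfl
theorem F110791 : act 4 n74055 = n33986 := d11_1 D74055 (iv7 D33986) (iv4 F53323)
theorem F110792 : act 0 n70967 = n74055 := d20_1 D70967 F110791 (iv3 F86818) (iv1 F86820) (iv3 D33324) (iv4 F52097) (iv1 D32909) (iv4 D15846) (iv3 F25314) D32868
theorem E9950 : n72170 = n54852 := (c18_4 D15816 D32860 D70937 F108619 F86794 (iv4 F110791) (iv0 F110792) (iv4 D70967) (iv0 D32868) (iv5 D15818))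
theorem E9951 : n33316 = n26547 := (((F86793).symm.trans (sb E9950 (iv3 D72170)))).symm
theorem F110793 : act 4 n54852 = n70937 := (sb E9950 (iv4 F108619))
theorem E9952 : n54835 = n16088 := (((iv1 F86774)).symm.trans (sb E9951 (iv1 D33316)))
theorem E9953 : n54834 = n54726 := ((F86773).symm.trans (sb E9951 F86536))
theorem E9959 : n33315 = n26527 := ((D33315).symm.trans (sb E9952 (iv1 D54835)))
theorem F110794 : act 1 n16088 = n26547 := (sb E9952 F86774)
theorem F110795 : act 0 n54726 = n26547 := (sb E9953 (iv1 F86773))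
theorem F110796 : act 0 n26527 = n54726 := (sb E9959 (iv1 F86534))
theorem F110797 : act 1 n26527 = n16088 := (sb E9959 (iv0 D33315))
theorem E9960 : n72165 = n54780 := ((((iv3 F86664)).symm.trans (sb E9959 D72165))).symm
theorem E9964 : n71007 = n70762 := ((((iv4 F107247)).symm.trans (sb E9960 F108617))).symm
theorem F110798 : act 0 n70762 = n32884 := (sb E9964 (iv1 D71007))
theorem E9965 : n73844 = n54903 := ((c21_1 D54903 (iv1 D73844) F53258 (iv6 D33320) (iv1 F110797) (iv6 D26527) F21075 F26640 D6013 D12695 D26557)).symm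
theorem F110799 : act 0 n54903 = n33913 := (sb E9965 (iv1 D73844))
theorem F110800 : act 0 n33996 = n69379 := d21_4 F86586 (iv1 F85001) F46293 D33996 F105641 (iv5 D33319) (iv1 F110797) D54836 F86776 (iv1 F86588)
theorem E9966 : n73843 = n54908 := (c21_11 (iv5 D54908) (iv1 D26558) (iv5 F41602) (iv6 D26202) D26199 D54140 F85455 F110800 (iv5 F110630) (iv6 D73847) D73843)
theorem F110801 : act 1 n54908 = n33913 := (sb E9966 (iv0 D73843))
theorem F110802 : act 7 n70937 = n54849 := d11_2 D54852 F110793 F86792
theorem E9967 : n70938 = n68949 := ((c15_4 F107486 F107490 F110802 (iv2 F105117))).symm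
theorem F110803 : act 0 n68949 = n32860 := (sb E9967 (iv1 D70938))
theorem F110804 : act 1 n68949 = n32865 := (sb E9967 F107486)
theorem F110805 : act 0 n70970 = n55225 := d18_2 (iv1 F87458) D70970 F87382 (iv5 F51800) (iv4 F105118) F110804 (iv4 D32865) F51990 (iv5 F87455)
theorem F110806 : act 1 n70970 = n74055 := d15_1 (iv0 F110805) (iv7 D74055) (iv2 F87381)
def n74056 : Q := act 3 n33984
theorem D74056 : act 3 n33984 = n74056 := rfl
def n74057 : Q := act 4 n33984
theorem D74057 : act 4 n33984 = n74057 := rfl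
def n74058 : Q := act 6 n33984
theorem D74058 : act 6 n33984 = n74058 := rfl
theorem F110807 : act 7 n74058 = n39415 := d14_2 (iv7 F87394) D74058 (iv6 D39415) (iv7 F44890) F87384
theorem F110808 : act 5 n74058 = n61543 := d21_6 (iv5 D12446) (iv1 F9179) D7622 D16437 D33984 D74058 (iv1 D61543) F46808 (iv6 D16441) (iv1 F20723)
def n74059 : Q := act 0 n33988
theorem D74059 : act 0 n33988 = n74059 := rfl
theorem F110809 : act 4 n74059 = n48976 := d18_3 F50496 D33988 D74059 (iv5 D48976) F50897 F50280 (iv4 D16424) (iv0 F43611) D26432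
theorem F110810 : act 2 n54499 = n74059 := d15_3 (iv0 D74059) (iv0 F53324) (iv7 F86084)
theorem F110811 : act 1 n71091 = n74059 := d15_0 (iv0 D74059) (iv7 F87408) F107625
theorem F110812 : act 7 n74059 = n71081 := d15_2 D71091 F110811 F107616
def n74060 : Q := act 3 n33988
theorem D74060 : act 3 n33988 = n74060 := rfl
theorem F110813 : act 4 n74060 = n33990 := d5_2 D33988 D74060 (iv3 D33990) (iv4 D16440) D16439
def n74061 : Q := act 5 n33988
theorem D74061 : act 5 n33988 = n74061 := rfl
def n74062 : Q := act 6 n33988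
theorem D74062 : act 6 n33988 = n74062 := rfl
theorem F110814 : act 4 n74062 = n33989 := d10_1 D74062 (iv6 D33989) D33988
def n74063 : Q := act 0 n33989
theorem D74063 : act 0 n33989 = n74063 := rfl
def n74064 : Q := act 1 n33989
theorem D74064 : act 1 n33989 = n74064 := rfl
def n74065 : Q := act 7 n33989
theorem D74065 : act 7 n33989 = n74065 := rfl
theorem F110815 : act 3 n74065 = n33994 := d8_1 D74065 (iv7 D33994) (iv3 F53325)
def n74066 : Q := act 0 n33990
theorem D74066 : act 0 n33990 = n74066 := rfl
def n74067 : Q := act 1 n33990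
theorem D74067 : act 1 n33990 = n74067 := rfl
def n74068 : Q := act 2 n33990
theorem D74068 : act 2 n33990 = n74068 := rfl
theorem F110816 : act 5 n74068 = n74050 := d2_2 (iv5 F53326) D74068 (iv2 D74050)
def n74069 : Q := act 6 n33990
theorem D74069 : act 6 n33990 = n74069 := rfl
theorem F110817 : act 3 n74069 = n33991 := d7_1 D74069 (iv6 D33991) D33990
def n74070 : Q := act 0 n33991
theorem D74070 : act 0 n33991 = n74070 := rfl
def n74071 : Q := act 1 n33991
theorem D74071 : act 1 n33991 = n74071 := rfl
def n74072 : Q := act 5 n33991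
theorem D74072 : act 5 n33991 = n74072 := rfl
theorem F110818 : act 6 n74072 = n74054 := d12_2 D33991 D74072 (iv5 D74054) (iv6 D33983) (iv5 F25917)
def n74073 : Q := act 7 n33991
theorem D74073 : act 7 n33991 = n74073 := rfl
theorem F110819 : act 4 n74073 = n33994 := d11_1 D74073 (iv7 D33994) (iv4 F53327)
def n74074 : Q := act 2 n33992
theorem D74074 : act 2 n33992 = n74074 := rfl
theorem F110820 : act 7 n33993 = n74074 := d15_2 (iv0 D33992) D33993 (iv2 D74074)
def n74075 : Q := act 3 n33992
theorem D74075 : act 3 n33992 = n74075 := rfl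
def n74076 : Q := act 4 n33992
theorem D74076 : act 4 n33992 = n74076 := rfl
def n74077 : Q := act 5 n33992
theorem D74077 : act 5 n33992 = n74077 := rfl
theorem F110821 : act 0 n61414 = n74077 := d21_1 F106003 (iv5 D74077) F92353 (iv1 D58468) (iv6 D27820) (iv5 F42955) (iv1 F43211) F29946 D39415 F106004
def n74078 : Q := act 7 n33992
theorem D74078 : act 7 n33992 = n74078 := rfl
theorem F110822 : act 2 n74078 = n33993 := d4_1 D74078 F110820 (iv2 D74074)
def n74079 : Q := act 3 n33993
theorem D74079 : act 3 n33993 = n74079 := rfl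
def n74080 : Q := act 4 n33993
theorem D74080 : act 4 n33993 = n74080 := rfl
def n74081 : Q := act 5 n33993
theorem D74081 : act 5 n33993 = n74081 := rfl
theorem F110823 : act 6 n74081 = n54628 := d21_3 F95882 (iv1 F87406) D74081 (iv1 F86352) (iv6 D33171) F25494 (iv1 F20981) D26412 D54616 (iv1 F96080)
def n74082 : Q := act 6 n33993
theorem D74082 : act 6 n33993 = n74082 := rfl
def n74083 : Q := act 0 n33995
theorem D74083 : act 0 n33995 = n74083 := rfl
theorem F110824 : act 4 n74083 = n70580 := d18_3 F46297 D33995 D74083 (iv5 D70580) F51827 (iv0 F42432) F21085 D12681 D26549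
theorem F110825 : act 0 n71939 = n60353 := d20_4 D33995 D74083 F110824 (iv3 F108444) (iv3 D60353) D60354 F94877 (iv4 D33550) F50995 F46297
theorem F110826 : act 2 n70584 = n74083 := d1_3 F110824 F107045 D70584
def n74084 : Q := act 1 n33995
theorem D74084 : act 1 n33995 = n74084 := rfl
theorem F110827 : act 7 n74084 = n70584 := d15_2 (iv0 D74083) D74084 F110826
theorem F110828 : act 4 n54464 = n74084 := d20_6 D7626 D16445 (iv4 F25955) (iv3 F53347) F53349 (iv3 F86005) (iv1 D74084) (iv4 D33995) (iv3 D16442) (iv1 D7625)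
def n74085 : Q := act 3 n33995
theorem D74085 : act 3 n33995 = n74085 := rfl
theorem F110829 : act 4 n74085 = n33997 := d5_2 D33995 D74085 (iv3 D33997) (iv4 D16443) D16442
def n74086 : Q := act 5 n33995
theorem D74086 : act 5 n33995 = n74086 := rfl
def n74087 : Q := act 6 n33995
theorem D74087 : act 6 n33995 = n74087 := rfl
theorem F110830 : act 4 n74087 = n33996 := d10_1 D74087 (iv6 D33996) D33995
def n74088 : Q := act 1 n33996
theorem D74088 : act 1 n33996 = n74088 := rfl
def n74089 : Q := act 7 n33996
theorem D74089 : act 7 n33996 = n74089 := rfl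
theorem F110831 : act 3 n74089 = n34001 := d8_1 D74089 (iv7 D34001) (iv3 F53328)
def n74090 : Q := act 0 n33997
theorem D74090 : act 0 n33997 = n74090 := rfl
def n74091 : Q := act 1 n33997
theorem D74091 : act 1 n33997 = n74091 := rfl
def n74092 : Q := act 2 n33997
theorem D74092 : act 2 n33997 = n74092 := rfl
theorem F110832 : act 5 n74092 = n74035 := d2_2 (iv5 F53329) D74092 (iv2 D74035)
def n74093 : Q := act 6 n33997
theorem D74093 : act 6 n33997 = n74093 := rfl
theorem F110833 : act 3 n74093 = n33998 := d7_1 D74093 (iv6 D33998) D33997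
def n74094 : Q := act 0 n33998
theorem D74094 : act 0 n33998 = n74094 := rfl
def n74095 : Q := act 1 n33998
theorem D74095 : act 1 n33998 = n74095 := rfl
def n74096 : Q := act 5 n33998
theorem D74096 : act 5 n33998 = n74096 := rfl
theorem F110834 : act 6 n74096 = n74039 := d12_2 D33998 D74096 (iv5 D74039) (iv6 D33978) (iv5 F25919)
def n74097 : Q := act 7 n33998
theorem D74097 : act 7 n33998 = n74097 := rfl
theorem F110835 : act 4 n74097 = n34001 := d11_1 D74097 (iv7 D34001) (iv4 F53330)
def n74098 : Q := act 2 n33999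
theorem D74098 : act 2 n33999 = n74098 := rfl
theorem F110836 : act 7 n34000 = n74098 := d15_2 (iv0 D33999) D34000 (iv2 D74098)
def n74099 : Q := act 3 n33999
theorem D74099 : act 3 n33999 = n74099 := rfl
def n74100 : Q := act 4 n33999
theorem D74100 : act 4 n33999 = n74100 := rfl
def n74101 : Q := act 5 n33999
theorem D74101 : act 5 n33999 = n74101 := rfl
def n74102 : Q := act 6 n33999
theorem D74102 : act 6 n33999 = n74102 := rfl
theorem F110837 : act 5 n74102 = n70540 := d21_6 F42752 F25942 F22850 D16444 D33999 D74102 (iv1 D70540) F51800 (iv6 D26686) (iv1 F42750)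
def n74103 : Q := act 7 n33999
theorem D74103 : act 7 n33999 = n74103 := rfl
theorem F110838 : act 2 n74103 = n34000 := d4_1 D74103 F110836 (iv2 D74098)
def n74104 : Q := act 3 n34000
theorem D74104 : act 3 n34000 = n74104 := rfl
def n74105 : Q := act 4 n34000
theorem D74105 : act 4 n34000 = n74105 := rfl
def n74106 : Q := act 5 n34000
theorem D74106 : act 5 n34000 = n74106 := rfl
theorem F110839 : act 0 n74106 = n39425 := d21_1 D74106 (iv5 D39425) (iv6 D18682) D18679 D39415 F60343 (iv1 F96085) F96082 (iv6 F87417) (iv1 F87419)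
theorem F110840 : act 6 n58457 = n34000 := d21_5 (iv5 F29946) (iv1 F44924) (iv5 D27815) D27816 D58457 D74106 F110839 (iv5 D39425) (iv6 D18682) D18679
theorem F110841 : act 6 n68810 = n74106 := d21_5 (iv5 D26118) F20614 (iv5 F24715) D32006 D68810 (iv5 D74106) (iv1 D34000) (iv5 F51403) (iv6 D32369) (iv1 F41322)
def n74107 : Q := act 0 n34002
theorem D74107 : act 0 n34002 = n74107 := rfl
def n74108 : Q := act 1 n34002
theorem D74108 : act 1 n34002 = n74108 := rfl
def n74109 : Q := act 2 n34002
theorem D74109 : act 2 n34002 = n74109 := rfl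
theorem F110842 : act 5 n74109 = n70992 := d2_2 (iv5 F53331) D74109 (iv2 D70992)
def n74110 : Q := act 4 n34002
theorem D74110 : act 4 n34002 = n74110 := rfl
def n74111 : Q := act 6 n34002
theorem D74111 : act 6 n34002 = n74111 := rfl
theorem F110843 : act 3 n74111 = n34003 := d7_1 D74111 (iv6 D34003) D34002
def n74112 : Q := act 0 n34003
theorem D74112 : act 0 n34003 = n74112 := rfl
def n74113 : Q := act 1 n34003
theorem D74113 : act 1 n34003 = n74113 := rfl
def n74114 : Q := act 5 n34003
theorem D74114 : act 5 n34003 = n74114 := rfl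
theorem F110844 : act 6 n74114 = n70974 := d12_2 D34003 D74114 (iv5 D70974) F52037 F26521
def n74115 : Q := act 7 n34003
theorem D74115 : act 7 n34003 = n74115 := rfl
def n74116 : Q := act 0 n34004
theorem D74116 : act 0 n34004 = n74116 := rfl
def n74117 : Q := act 1 n34004
theorem D74117 : act 1 n34004 = n74117 := rfl
def n74118 : Q := act 2 n34004
theorem D74118 : act 2 n34004 = n74118 := rfl
def n74119 : Q := act 6 n34004
theorem D74119 : act 6 n34004 = n74119 := rfl
theorem F110845 : act 3 n74119 = n34005 := d7_1 D74119 (iv6 D34005) D34004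
def n74120 : Q := act 0 n34005
theorem D74120 : act 0 n34005 = n74120 := rfl
def n74121 : Q := act 1 n34005
theorem D74121 : act 1 n34005 = n74121 := rfl
def n74122 : Q := act 5 n34005
theorem D74122 : act 5 n34005 = n74122 := rfl
def n74123 : Q := act 7 n34005
theorem D74123 : act 7 n34005 = n74123 := rfl
def n74124 : Q := act 2 n34006
theorem D74124 : act 2 n34006 = n74124 := rfl
theorem F110846 : act 7 n34007 = n74124 := d15_2 (iv0 D34006) D34007 (iv2 D74124)
def n74125 : Q := act 3 n34006
theorem D74125 : act 3 n34006 = n74125 := rfl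
def n74126 : Q := act 4 n34006
theorem D74126 : act 4 n34006 = n74126 := rfl
def n74127 : Q := act 5 n34006
theorem D74127 : act 5 n34006 = n74127 := rfl
def n74128 : Q := act 6 n34006
theorem D74128 : act 6 n34006 = n74128 := rfl
def n74129 : Q := act 7 n34006
theorem D74129 : act 7 n34006 = n74129 := rfl
theorem F110847 : act 2 n74129 = n34007 := d4_1 D74129 F110846 (iv2 D74124)
def n74130 : Q := act 3 n34007
theorem D74130 : act 3 n34007 = n74130 := rfl
def n74131 : Q := act 4 n34007
theorem D74131 : act 4 n34007 = n74131 := rfl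
def n74132 : Q := act 5 n34007
theorem D74132 : act 5 n34007 = n74132 := rfl
def n74133 : Q := act 6 n34007
theorem D74133 : act 6 n34007 = n74133 := rfl
def n74134 : Q := act 5 n34008
theorem D74134 : act 5 n34008 = n74134 := rfl
theorem F110848 : act 2 n74134 = n34009 := d2_1 D74134 (iv5 D34009) D34008
theorem F110849 : act 3 n74134 = n69677 := d6_1 D74134 F106020 F87427
theorem F110850 : act 7 n74134 = n55249 := d13_2 F106021 D74134 (iv5 F106020)
theorem F110851 : act 1 n55248 = n74134 := d15_1 D55248 F110850 (iv2 D55249)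
theorem F110852 : act 1 n74134 = n55247 := d15_0 (iv0 D55247) (iv7 F53333) (iv2 F110848)
def n74135 : Q := act 0 n34009
theorem D74135 : act 0 n34009 = n74135 := rfl
theorem F110853 : act 1 n55249 = n74135 := d15_0 (iv0 D74135) F53333 D55249
def n74136 : Q := act 1 n34009
theorem D74136 : act 1 n34009 = n74136 := rfl
theorem F110854 : act 1 n74136 = n55249 := d15_1 D74136 (iv7 F110850) F110848
def n74137 : Q := act 4 n34009
theorem D74137 : act 4 n34009 = n74137 := rfl
theorem F110855 : act 3 n74137 = n54209 := d5_1 D74137 (iv4 D54209) F41612 (iv4 F25923) (iv3 F53332)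
theorem F110856 : act 7 n74137 = n55044 := d11_2 (iv7 F53333) D74137 F87041
def n74138 : Q := act 6 n34009
theorem D74138 : act 6 n34009 = n74138 := rfl
theorem F110857 : act 3 n74138 = n34010 := d7_1 D74138 (iv6 D34010) (iv3 F53332)
def n74139 : Q := act 0 n34010
theorem D74139 : act 0 n34010 = n74139 := rfl
theorem F110858 : act 1 n58480 = n74139 := d15_0 (iv0 D74139) (iv7 F60396) (iv2 F92376)
theorem F110859 : act 4 n74139 = n59995 := d18_7 D28485 (iv4 F104774) (iv1 F41119) F41115 (iv5 F44939) (iv4 F92377) F110858 (iv0 D59995) (iv5 D28487)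
def n74140 : Q := act 1 n34010
theorem D74140 : act 1 n34010 = n74140 := rfl
theorem F110860 : act 1 n74140 = n58480 := d15_1 D74140 F92378 (iv2 F53334)
theorem F110861 : act 4 n74140 = n59996 := d18_7 (iv1 F77161) (iv4 F104777) (iv1 D14761) (iv4 F20719) D26255 (iv4 F53335) D74140 F94466 (iv5 F77159)
def n74141 : Q := act 3 n34011
theorem D74141 : act 3 n34011 = n74141 := rfl
theorem F110862 : act 4 n74141 = n34013 := d5_2 D34011 D74141 (iv3 D34013) (iv4 D16455) (iv3 F25927)
def n74142 : Q := act 5 n34011
theorem D74142 : act 5 n34011 = n74142 := rfl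
theorem F110863 : act 4 n74142 = n54476 := d16_2 D34011 D74142 (iv5 D54476) (iv4 D26343) (iv5 D12563) F9277 D12563 D26344 F42010
def n74143 : Q := act 6 n34011
theorem D74143 : act 6 n34011 = n74143 := rfl
theorem F110864 : act 4 n74143 = n34012 := d10_1 D74143 (iv6 D34012) D34011
def n74144 : Q := act 0 n34012
theorem D74144 : act 0 n34012 = n74144 := rfl
theorem F110865 : act 6 n74144 = n68003 := d21_5 (iv5 D26328) F27200 D16452 D34012 D74144 (iv5 D68003) (iv1 D31644) D31645 F49946 (iv1 F50493)
def n74145 : Q := act 1 n34012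
theorem D74145 : act 1 n34012 = n74145 := rfl
def n74146 : Q := act 7 n34012
theorem D74146 : act 7 n34012 = n74146 := rfl
theorem F110866 : act 3 n74146 = n34017 := d8_1 D74146 (iv7 D34017) (iv3 F53336)
def n74147 : Q := act 0 n34013
theorem D74147 : act 0 n34013 = n74147 := rfl
def n74148 : Q := act 1 n34013
theorem D74148 : act 1 n34013 = n74148 := rfl
def n74149 : Q := act 2 n34013
theorem D74149 : act 2 n34013 = n74149 := rfl
theorem F110867 : act 5 n74149 = n74118 := d2_2 (iv5 F53337) D74149 (iv2 D74118)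
def n74150 : Q := act 6 n34013
theorem D74150 : act 6 n34013 = n74150 := rfl
theorem F110868 : act 3 n74150 = n34014 := d7_1 D74150 (iv6 D34014) D34013
def n74151 : Q := act 0 n34014
theorem D74151 : act 0 n34014 = n74151 := rfl
def n74152 : Q := act 1 n34014
theorem D74152 : act 1 n34014 = n74152 := rfl
def n74153 : Q := act 5 n34014
theorem D74153 : act 5 n34014 = n74153 := rfl
theorem F110869 : act 6 n74153 = n74122 := d12_2 D34014 D74153 (iv5 D74122) (iv6 D34005) (iv5 F25978)
def n74154 : Q := act 7 n34014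
theorem D74154 : act 7 n34014 = n74154 := rfl
theorem F110870 : act 4 n74154 = n34017 := d11_1 D74154 (iv7 D34017) (iv4 F53338)
def n74155 : Q := act 2 n34015
theorem D74155 : act 2 n34015 = n74155 := rfl
theorem F110871 : act 7 n34016 = n74155 := d15_2 (iv0 D34015) D34016 (iv2 D74155)
def n74156 : Q := act 3 n34015
theorem D74156 : act 3 n34015 = n74156 := rfl
def n74157 : Q := act 4 n34015
theorem D74157 : act 4 n34015 = n74157 := rfl
def n74158 : Q := act 5 n34015
theorem D74158 : act 5 n34015 = n74158 := rfl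
theorem F110872 : act 0 n74158 = n70746 := d21_1 D74158 F107208 (iv6 D40247) (iv1 D19012) F13870 (iv5 D7869) F11990 D7630 D16456 D34015
def n74159 : Q := act 7 n34015
theorem D74159 : act 7 n34015 = n74159 := rfl
theorem F110873 : act 2 n74159 = n34016 := d4_1 D74159 F110871 (iv2 D74155)
def n74160 : Q := act 3 n34016
theorem D74160 : act 3 n34016 = n74160 := rfl
def n74161 : Q := act 4 n34016
theorem D74161 : act 4 n34016 = n74161 := rfl
def n74162 : Q := act 6 n34016
theorem D74162 : act 6 n34016 = n74162 := rfl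
theorem F110874 : act 5 n74162 = n68519 := d12_1 D74162 F104716 (iv5 D68403) D68404 F104571
theorem F110875 : act 7 n68518 = n74162 := d13_0 F110874 (iv7 D68519) D68518
def n74163 : Q := act 2 n34019
theorem D74163 : act 2 n34019 = n74163 := rfl
theorem F110876 : act 3 n74163 = n68083 := d0_2 D34019 D74163 F104203 F49959 F25946
theorem F110877 : act 4 n74163 = n62557 := d1_2 (iv4 F53343) D74163 (iv2 F97542)
theorem F110878 : act 5 n74163 = n72738 := d2_2 F87429 D74163 F109219
theorem F110879 : act 6 n74163 = n53902 := d3_2 (iv6 F53344) D74163 (iv2 D53902)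
theorem F110880 : act 7 n74163 = n35094 := d4_2 (iv7 F53345) D74163 F55759
theorem F110881 : act 1 n74163 = n35097 := d15_0 (iv0 D35097) (iv7 F53345) D74163
theorem F110882 : act 1 n35098 = n74163 := d15_0 F110881 (iv7 F55768) (iv2 F79151)
def n74164 : Q := act 4 n34020
theorem D74164 : act 4 n34020 = n74164 := rfl
theorem F110883 : act 2 n74164 = n68027 := d1_1 D74164 F104151 (iv2 F53346)
theorem F110884 : act 3 n74164 = n74110 := d5_1 D74164 (iv4 D74110) (iv3 D34002) (iv4 F25955) (iv3 F53347)
theorem F110885 : act 7 n74164 = n60434 := d11_2 (iv7 F53348) D74164 (iv4 D60434)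
theorem F110886 : act 0 n74164 = n68024 := d18_2 F53350 D74164 (iv4 F104149) (iv5 D33514) F51000 F26940 F11842 (iv0 F27200) D26328
theorem F110887 : act 1 n74164 = n68023 := d18_6 (iv1 F104028) (iv4 D31649) (iv1 F26693) F25949 D34020 D74164 F104148 F107738 F107736
def n74165 : Q := act 6 n34020
theorem D74165 : act 6 n34020 = n74165 := rfl
theorem F110888 : act 2 n74165 = n68028 := d3_1 D74165 (iv6 D68028) (iv2 F53346)
theorem F110889 : act 3 n74165 = n34021 := d7_1 D74165 (iv6 D34021) (iv3 F53347)
theorem F110890 : act 5 n74165 = n61598 := d12_1 D74165 (iv6 D61598) F46837 (iv6 F25950) D34020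
def n74166 : Q := act 0 n34021
theorem D74166 : act 0 n34021 = n74166 := rfl
def n74167 : Q := act 1 n34021
theorem D74167 : act 1 n34021 = n74167 := rfl
theorem F110891 : act 1 n74167 = n60433 := d15_1 D74167 (iv7 D60433) (iv2 F53351)
theorem F110892 : act 5 n62928 = n74167 := d21_6 (iv5 D6601) (iv1 F4743) (iv5 F10963) D14145 D29770 D62928 (iv1 D74167) F53353 (iv6 D29179) (iv1 D13884)
def n74168 : Q := act 7 n34021
theorem D74168 : act 7 n34021 = n74168 := rfl
theorem F110893 : act 2 n74168 = n60433 := d4_1 D74168 (iv7 D60433) (iv2 F53351)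
theorem F110894 : act 4 n74168 = n74115 := d11_1 D74168 (iv7 D74115) (iv4 F53352)
theorem F110895 : act 5 n74168 = n61600 := d13_1 D74168 (iv7 D61600) (iv5 F53353)
theorem F110896 : act 6 n74168 = n60438 := d14_1 D74168 (iv7 D60438) (iv6 D28702) (iv7 F25952) D34021
theorem F110897 : act 1 n60433 = n74166 := d15_0 (iv0 D74166) D74168 F110893
theorem F110898 : act 1 n60432 = n74168 := d15_1 D60432 (iv7 D74168) F53351
theorem F110899 : act 1 n74168 = n60431 := d15_0 (iv0 D60431) D60433 (iv2 F110893)
def n74169 : Q := act 0 n34022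
theorem D74169 : act 0 n34022 = n74169 := rfl
theorem F110900 : act 6 n74169 = n70857 := d21_5 F42794 (iv1 F25947) D16475 D34022 D74169 (iv5 D70857) (iv1 D32835) (iv5 F42806) (iv6 D26700) (iv1 F42792)
theorem F110901 : act 2 n60436 = n74169 := d3_3 F110900 F110567 (iv6 F94955)
theorem F110902 : act 7 n60437 = n74169 := d15_2 (iv0 D60436) D60437 (iv2 F110901)
def n74170 : Q := act 1 n34022
theorem D74170 : act 1 n34022 = n74170 := rfl
theorem F110903 : act 1 n74170 = n60438 := d15_1 D74170 (iv7 D60438) (iv2 F53354)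
theorem F110904 : act 7 n74170 = n60436 := d15_2 (iv0 D74169) D74170 F110901
theorem F110905 : act 2 n60437 = n74170 := d4_3 F110904 F110901 (iv7 F110902)
theorem F110906 : act 1 n60438 = n74169 := d15_1 F110903 (iv7 F110902) F110905
def n74171 : Q := act 7 n34022
theorem D74171 : act 7 n34022 = n74171 := rfl
theorem F110908 : act 3 n74171 = n53901 := d8_1 D74171 (iv7 D53901) (iv3 F53355)
theorem F110909 : act 4 n74171 = n74123 := d11_1 D74171 (iv7 D74123) (iv4 F53356)
theorem F110910 : act 5 n74171 = n53888 := d13_1 D74171 (iv7 D53888) (iv5 F53357)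
theorem F110911 : act 6 n74171 = n60433 := d14_1 D74171 (iv7 D60433) (iv6 D28700) (iv7 F25974) D34022
theorem F110912 : act 1 n60437 = n74171 := d15_1 D60437 (iv7 D74171) F53354
theorem F110913 : act 1 n74171 = n60436 := d15_1 F110912 (iv7 F110904) (iv2 F110905)
theorem F110914 : act 0 n68563 = n39777 := d21_1 (iv5 F104756) F60613 (iv6 D27855) D27852 D58547 F92484 (iv1 F96158) F95876 (iv6 F110911) (iv1 F110912)
def n74172 : Q := act 5 n34023
theorem D74172 : act 5 n34023 = n74172 := rfl
theorem F110915 : act 2 n74172 = n69871 := d2_1 D74172 (iv5 D69871) (iv2 F53358)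
theorem F110916 : act 3 n74172 = n34027 := d6_1 D74172 (iv5 D34027) (iv3 F53359)
theorem F110917 : act 6 n74172 = n60194 := d12_2 D34023 D74172 (iv5 D60194) (iv6 D28612) (iv5 F25981)
theorem F110918 : act 7 n74172 = n69851 := d13_2 (iv7 F53361) D74172 (iv5 D69851)
theorem F110919 : act 0 n74172 = n61656 := d17_2 F55301 D74172 (iv5 D61656) F50657 F50659 (iv0 D19905) D19907 (iv0 F40415) F51583
theorem F110920 : act 0 n70058 = n74172 := d21_1 (iv5 F106449) (iv5 D74172) (iv6 D34023) F26876 (iv6 F50408) F50407 (iv1 F104011) (iv5 D48899) D48900 F105050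
def n74173 : Q := act 3 n34028
theorem D74173 : act 3 n34028 = n74173 := rfl
theorem F110921 : act 4 n74173 = n48657 := d5_2 (iv4 F53372) D74173 (iv3 D48657) F36913 D23940
theorem F110922 : act 7 n74173 = n52373 := d8_2 F53374 D74173 F82740
def n74174 : Q := act 5 n34028
theorem D74174 : act 5 n34028 = n74174 := rfl
theorem F110923 : act 2 n74174 = n64526 := d2_1 D74174 F100460 (iv2 F53382)
theorem F110924 : act 7 n74174 = n59149 := d13_2 F53374 D74174 (iv5 D59149)
theorem F110925 : act 4 n74174 = n51450 := d16_2 (iv4 F53372) D74174 (iv5 D51450) (iv4 D25007) F23804 (iv4 F45577) F45578 (iv7 F77445) (iv2 D49071)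
theorem F110926 : act 0 n74174 = n51558 := d17_2 D34028 D74174 (iv5 D51558) (iv4 D25046) F22585 F22473 F22361 (iv0 F22441) D16485
theorem F110927 : act 1 n74174 = n51551 := d17_6 F76564 F38750 F39646 F37972 (iv4 F53372) D74174 (iv5 D51551) D51549 F81340
def n74175 : Q := act 6 n34028
theorem D74175 : act 6 n34028 = n74175 := rfl
theorem F110928 : act 4 n74175 = n49072 := d10_1 D74175 (iv6 D49072) (iv4 F53372)
def n74176 : Q := act 3 n34029
theorem D74176 : act 3 n34029 = n74176 := rfl
theorem F110929 : act 4 n74176 = n50173 := d5_2 (iv4 F53376) D74176 (iv3 D50173) F48114 (iv3 F48113)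
theorem F110930 : act 7 n74176 = n50348 := d8_2 F53384 D74176 F79726
def n74177 : Q := act 5 n34029
theorem D74177 : act 5 n34029 = n74177 := rfl
theorem F110931 : act 2 n74177 = n59149 := d2_1 D74177 (iv5 D59149) F53377
theorem F110932 : act 7 n74177 = n64526 := d13_2 F53384 D74177 F100460
theorem F110933 : act 0 n74177 = n51551 := d17_2 (iv1 F53375) D74177 (iv5 D51551) (iv4 D25043) F22574 F22471 F10367 (iv0 F19489) D24615
theorem F110934 : act 1 n74177 = n51558 := d17_6 D25464 F40260 F45579 F45578 (iv4 F53376) D74177 (iv5 D51558) (iv0 F40263) (iv4 D25465)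
def n74178 : Q := act 6 n34029
theorem D74178 : act 6 n34029 = n74178 := rfl
theorem F110935 : act 2 n74178 = n59150 := d3_1 D74178 (iv6 D59150) F53377
theorem F110936 : act 4 n74178 = n59148 := d10_1 D74178 (iv6 D59148) (iv4 F53376)
def n74179 : Q := act 6 n34031
theorem D74179 : act 6 n34031 = n74179 := rfl
theorem F110937 : act 3 n74179 = n68967 := d7_1 D74179 (iv6 D68967) F53380
theorem F110938 : act 4 n74179 = n68997 := d10_1 D74179 (iv6 D68997) (iv4 F53379)
theorem F110939 : act 5 n74179 = n64073 := d12_1 D74179 (iv6 D64073) (iv5 D30200) (iv6 F26001) D34031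
def n74180 : Q := act 6 n34032
theorem D74180 : act 6 n34032 = n74180 := rfl
theorem F110940 : act 2 n74180 = n74175 := d3_1 D74180 (iv6 D74175) F53382
def n74181 : Q := act 0 n34033
theorem D74181 : act 0 n34033 = n74181 := rfl
def n74182 : Q := act 1 n34033
theorem D74182 : act 1 n34033 = n74182 := rfl
def n74183 : Q := act 2 n34033
theorem D74183 : act 2 n34033 = n74183 := rfl
theorem F110941 : act 3 n74183 = n59924 := d0_2 D34033 D74183 (iv2 F94401) (iv3 D34030) (iv2 F26002)
theorem F110942 : act 6 n74183 = n64078 := d3_2 (iv6 F53385) D74183 (iv2 D64078)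
theorem F110943 : act 5 n68979 = n74183 := d6_0 F110941 F94400 D68979
def n74184 : Q := act 5 n34033
theorem D74184 : act 5 n34033 = n74184 := rfl
theorem F110944 : act 2 n74184 = n68979 := d2_1 D74184 F110943 (iv2 D74183)
theorem F110945 : act 3 n74184 = n34034 := d6_1 D74184 (iv5 D34034) D34033
def n74185 : Q := act 0 n34034
theorem D74185 : act 0 n34034 = n74185 := rfl
theorem F110946 : act 5 n74185 = n51549 := d17_1 D74185 (iv1 D51549) D51551 F81348 (iv5 F51122) F39686 D50993 F82046 F82045
theorem F110947 : act 4 n74185 = n52296 := d18_1 D74185 F82672 F79918 F79917 (iv4 F38732) F77447 F77443 (iv0 D34032) D34034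
theorem F110948 : act 2 n64520 = n74185 := d15_3 (iv0 D74185) (iv0 F82845) (iv7 F100451)
theorem F110949 : act 1 n51540 = n74185 := d15_0 (iv0 D74185) (iv7 F79899) (iv2 F81314)
theorem F110950 : act 7 n74185 = n64517 := d15_2 F82846 F110949 F100442
def n74186 : Q := act 6 n34034
theorem D74186 : act 6 n34034 = n74186 := rfl
theorem F110951 : act 2 n74186 = n74179 := d3_1 D74186 (iv6 D74179) (iv2 F53386)
theorem F110952 : act 5 n74186 = n64082 := d12_1 D74186 (iv6 D64082) (iv5 D30203) (iv6 F26003) D34034
def n74187 : Q := act 0 n34035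
theorem D74187 : act 0 n34035 = n74187 := rfl
theorem F110953 : act 5 n74187 = n64428 := d17_1 D74187 (iv1 D64428) F96861 (iv4 D16505) F22547 F23854 D13846 (iv0 F26060) D34035
theorem F110954 : act 4 n74187 = n49900 := d18_3 (iv1 F48399) D34035 D74187 F78925 F45603 F23984 F11129 F23876 (iv5 F48398)
theorem F110955 : act 1 n34036 = n74187 := d15_0 (iv0 D74187) F53389 (iv2 F53390)
theorem F110956 : act 2 n34050 = n74187 := d1_3 F110954 (iv2 F78926) (iv4 F53428)
theorem F110957 : act 7 n34051 = n74187 := d11_0 F110954 F78928 F78566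
theorem F110958 : act 7 n64428 = n64431 := d13_2 F110957 F110953 F100350
theorem F110959 : act 2 n64431 = n64427 := d15_3 (iv0 D64427) D64428 F110958
theorem F110960 : act 2 n64428 = n64430 := d15_3 (iv0 D64430) D64431 (iv7 F110958)
theorem F110961 : act 7 n64430 = n64427 := d4_2 (iv7 F110958) F110960 (iv2 F110959)
def n74188 : Q := act 1 n34035
theorem D74188 : act 1 n34035 = n74188 := rfl
theorem F110962 : act 1 n74188 = n34036 := d15_1 D74188 F53391 (iv2 F53387)
theorem F110963 : act 7 n74188 = n34050 := d15_2 (iv0 D74187) D74188 F110956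
theorem F110964 : act 4 n74188 = n49649 := d18_7 F18747 (iv4 F8794) F11895 F11894 D16488 D34035 D74188 F78416 (iv5 D24343)
theorem F110965 : act 2 n34051 = n74188 := d1_3 F110964 (iv2 F78565) F78566
theorem F110966 : act 6 n53243 = n74188 := d10_0 F110964 (iv6 F85072) F85073
theorem F110967 : act 5 n64427 = n74188 := d17_3 (iv1 D34072) (iv5 F96861) D64427 F110964 (iv5 D49649) (iv0 F46508) F46502 F45712 (iv4 F53483)
def n74189 : Q := act 3 n34035
theorem D74189 : act 3 n34035 = n74189 := rfl
theorem F110968 : act 4 n74189 = n49407 := d5_2 D34035 D74189 (iv3 D49407) (iv4 D24112) (iv3 F26057)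
theorem F110969 : act 6 n74189 = n64706 := d7_2 (iv6 F53388) D74189 (iv3 D64706)
theorem F110970 : act 7 n74189 = n34063 := d8_2 (iv7 F53389) D74189 (iv3 D34063)
def n74190 : Q := act 5 n34035
theorem D74190 : act 5 n34035 = n74190 := rfl
theorem F110971 : act 2 n74190 = n34052 := d2_1 D74190 F78995 (iv2 F53387)
theorem F110972 : act 7 n74190 = n34064 := d13_2 (iv7 F53389) D74190 (iv5 D34064)
theorem F110973 : act 0 n74190 = n64425 := d17_2 (iv1 D74188) D74190 (iv5 D64425) (iv4 F78924) (iv5 D49899) (iv0 D24334) D24335 (iv0 F78415) (iv4 F110964)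
theorem F110974 : act 1 n74190 = n52142 := d17_6 F11886 (iv5 D7654) D7652 D16488 D34035 D74190 (iv5 D52142) F39985 (iv4 D14393)
def n74191 : Q := act 3 n34036
theorem D74191 : act 3 n34036 = n74191 := rfl
theorem F110975 : act 7 n74191 = n34052 := d8_2 (iv7 F53391) D74191 (iv3 D34052)
theorem F110976 : act 0 n74191 = n52142 := d19_4 (iv1 F11882) D16489 D34036 D74191 (iv5 D52142) (iv4 D25319) F19881 F18780 F18778 F18565 (iv3 F10391) (iv1 F10395) F10714 (iv4 F26408) F5045 (iv1 F3898) F2690 (iv4 F2679) (iv3 F5453)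
theorem F110977 : act 5 n34036 = n74191 := d17_1 (iv1 F110955) F110976 (iv5 D52142) (iv4 D25319) (iv5 D12020) (iv0 F18747) D24343 F78927 (iv4 F110954)
theorem F110978 : act 2 n74191 = n34064 := d2_1 F110977 (iv5 D34064) (iv2 F53390)
theorem F110979 : act 1 n74191 = n64425 := d17_6 (iv1 F26067) F11903 (iv1 F11882) D16489 D34036 F110977 (iv5 D64425) F53398 (iv4 D34038)
def n74192 : Q := act 6 n34036
theorem D74192 : act 6 n34036 = n74192 := rfl
theorem F110980 : act 2 n74192 = n34065 := d3_1 D74192 (iv6 D34065) (iv2 F53390)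
theorem F110981 : act 4 n74192 = n34037 := d10_1 D74192 (iv6 D34037) D34036
theorem F110982 : act 0 n53209 = n74192 := d21_4 D49517 (iv1 F84054) (iv5 D53208) D53209 (iv6 D74192) F110977 F110976 (iv5 D52142) (iv6 F46316) F46318
def n74193 : Q := act 0 n34037
theorem D74193 : act 0 n34037 = n74193 := rfl
theorem F110983 : act 5 n74193 = n53121 := d21_2 (iv5 F53393) D74193 (iv6 F83911) (iv1 F83912) F83963 D63745 (iv1 F99926) F99923 (iv6 F99925) (iv1 D62495)
theorem F110984 : act 6 n74193 = n53200 := d21_5 F11903 (iv1 F11882) D16489 D34037 D74193 F84038 (iv1 D51560) (iv5 F53401) (iv6 D34039) (iv1 F26067)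
theorem F110985 : act 2 n34066 = n74193 := d15_3 (iv0 D74193) (iv0 F53394) F53465
theorem F110986 : act 3 n74193 = n63752 := d0_2 F53463 F110985 F99125 F48901 F26159
theorem F110987 : act 7 n74193 = n34067 := d4_2 F53465 F110985 F53468
theorem F110988 : act 1 n34068 = n74193 := d15_1 F53471 F110987 F53468
def n74194 : Q := act 7 n34037
theorem D74194 : act 7 n34037 = n74194 := rfl
theorem F110989 : act 2 n74194 = n34068 := d4_1 D74194 (iv7 D34068) (iv2 F53392)
theorem F110990 : act 3 n74194 = n65429 := d8_1 D74194 F101149 F53460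
theorem F110991 : act 5 n74194 = n62496 := d13_1 D74194 (iv7 D62496) (iv5 F53393)
theorem F110992 : act 6 n74194 = n34057 := d14_1 D74194 (iv7 D34057) (iv6 D16497) (iv7 F26062) D34037
theorem F110993 : act 1 n34067 = n74194 := d15_1 D34067 (iv7 D74194) F53392
theorem F110994 : act 1 n74194 = n34066 := d15_1 F110993 (iv7 F53465) (iv2 F53468)
theorem F110995 : act 4 n65429 = n67683 := d20_6 (iv4 F27062) (iv1 F53618) (iv4 D34146) F53463 (iv1 F110994) F110990 (iv1 D67683) F49728 F24479 F11984
def n74195 : Q := act 3 n34038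
theorem D74195 : act 3 n34038 = n74195 := rfl
theorem F110996 : act 4 n74195 = n49422 := d5_2 D34038 D74195 (iv3 D49422) (iv4 D24124) (iv3 F37497)
theorem F110997 : act 7 n74195 = n34080 := d8_2 (iv7 F53396) D74195 (iv3 D34080)
def n74196 : Q := act 6 n34038
theorem D74196 : act 6 n34038 = n74196 := rfl
theorem F110998 : act 2 n74196 = n34075 := d3_1 D74196 (iv6 D34075) (iv2 F53395)
theorem F110999 : act 4 n74196 = n34039 := d10_1 D74196 (iv6 D34039) D34038
def n74197 : Q := act 0 n34039
theorem D74197 : act 0 n34039 = n74197 := rfl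
theorem F111000 : act 6 n74197 = n53173 := d21_5 (iv5 D14294) D14293 (iv5 F26064) D34039 D74197 (iv5 F83979) (iv1 D30177) (iv5 F26082) (iv6 D16497) F23873
theorem F111001 : act 2 n34076 = n74197 := d3_3 F111000 F99901 F83878
theorem F111003 : act 7 n34077 = n74197 := d15_2 (iv0 D34076) D34077 (iv2 F111001)
def n74198 : Q := act 1 n34039
theorem D74198 : act 1 n34039 = n74198 := rfl
theorem F111004 : act 1 n74198 = n34078 := d15_1 D74198 (iv7 D34078) (iv2 F53399)
theorem F111005 : act 7 n74198 = n34076 := d15_2 (iv0 D74197) D74198 F111001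
theorem F111006 : act 2 n34077 = n74198 := d4_3 F111005 F111001 (iv7 F111003)
def n74199 : Q := act 7 n34039
theorem D74199 : act 7 n34039 = n74199 := rfl
theorem F111007 : act 2 n74199 = n34078 := d4_1 D74199 (iv7 D34078) (iv2 F53399)
theorem F111008 : act 3 n74199 = n49427 := d8_1 D74199 (iv7 D49427) (iv3 F53400)
theorem F111009 : act 5 n74199 = n51561 := d13_1 D74199 (iv7 D51561) (iv5 F53401)
theorem F111010 : act 6 n74199 = n34085 := d14_1 D74199 (iv7 D34085) (iv6 D16509) (iv7 F26066) D34039
theorem F111011 : act 1 n34077 = n74199 := d15_1 D34077 (iv7 D74199) F53399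
theorem F111012 : act 1 n74199 = n34076 := d15_1 F111011 (iv7 F111005) (iv2 F111006)
def n74200 : Q := act 3 n34040
theorem D74200 : act 3 n34040 = n74200 := rfl
theorem F111013 : act 4 n74200 = n49743 := d5_2 (iv4 F53402) D74200 (iv3 D49743) (iv4 D24258) D24257
theorem F111014 : act 7 n74200 = n34089 := d8_2 F53404 D74200 (iv3 D34089)
def n74201 : Q := act 5 n34040
theorem D74201 : act 5 n34040 = n74201 := rfl
theorem F111015 : act 2 n74201 = n34087 := d2_1 D74201 (iv5 D34087) F53403
theorem F111016 : act 7 n74201 = n34090 := d13_2 F53404 D74201 (iv5 D34090)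
theorem F111017 : act 4 n74201 = n59487 := d16_2 (iv4 F53402) D74201 (iv5 D59487) (iv4 D28245) (iv5 D13483) (iv4 F22623) D28232 (iv7 F45711) (iv2 F39984)
theorem F111018 : act 0 n74201 = n64423 := d17_2 D34040 D74201 (iv5 D64423) (iv4 D30335) (iv5 D14392) F23859 (iv5 F26064) (iv0 D16490) D16491
theorem F111019 : act 1 n74201 = n63823 := d17_6 D49900 F78925 F46507 F46502 (iv4 F53402) D74201 (iv5 D63823) (iv0 F78932) (iv4 D49901)
def n74202 : Q := act 6 n34040
theorem D74202 : act 6 n34040 = n74202 := rfl
theorem F111020 : act 2 n74202 = n34088 := d3_1 D74202 (iv6 D34088) F53403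
theorem F111021 : act 4 n74202 = n49741 := d10_1 D74202 (iv6 D49741) (iv4 F53402)
def n74203 : Q := act 3 n34041
theorem D74203 : act 3 n34041 = n74203 := rfl
theorem F111022 : act 4 n74203 = n51274 := d5_2 (iv4 F53408) D74203 (iv3 D51274) F39123 (iv3 F45706)
theorem F111023 : act 7 n74203 = n34086 := d8_2 (iv7 F53407) D74203 (iv3 D34086)
def n74204 : Q := act 5 n34041
theorem D74204 : act 5 n34041 = n74204 := rfl
theorem F111024 : act 2 n74204 = n34090 := d2_1 D74204 (iv5 D34090) F53409
theorem F111025 : act 7 n74204 = n34087 := d13_2 (iv7 F53407) D74204 (iv5 D34087)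
theorem F111026 : act 0 n74204 = n63823 := d17_2 (iv1 F53406) D74204 (iv5 D63823) (iv4 D30112) (iv5 D14294) F22556 D6884 F11904 (iv4 F26107)
theorem F111027 : act 1 n74204 = n64423 := d17_6 (iv1 F78416) (iv5 D49649) F37936 D28232 (iv4 F53408) D74204 (iv5 D64423) (iv0 F78961) (iv4 D49917)
def n74205 : Q := act 6 n34041
theorem D74205 : act 6 n34041 = n74205 := rfl
theorem F111028 : act 2 n74205 = n34091 := d3_1 D74205 (iv6 D34091) F53409
theorem F111029 : act 4 n74205 = n59448 := d10_1 D74205 F93838 (iv4 F53408)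
def n74206 : Q := act 0 n34042
theorem D74206 : act 0 n34042 = n74206 := rfl
def n74207 : Q := act 1 n34042
theorem D74207 : act 1 n34042 = n74207 := rfl
def n74208 : Q := act 2 n34042
theorem D74208 : act 2 n34042 = n74208 := rfl
theorem F111030 : act 3 n74208 = n34094 := d0_2 D34042 D74208 (iv2 D34094) (iv3 D16512) (iv2 F26068)
theorem F111031 : act 4 n74208 = n63910 := d1_2 (iv4 F53410) D74208 (iv2 D63910)
theorem F111032 : act 6 n74208 = n53183 := d3_2 (iv6 F53411) D74208 (iv2 D53183)
def n74209 : Q := act 5 n34042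
theorem D74209 : act 5 n34042 = n74209 := rfl
theorem F111033 : act 3 n74209 = n34043 := d6_1 D74209 (iv5 D34043) D34042
def n74210 : Q := act 7 n34042
theorem D74210 : act 7 n34042 = n74210 := rfl
theorem F111034 : act 3 n74210 = n34044 := d8_1 D74210 (iv7 D34044) D34042
theorem F111035 : act 4 n74210 = n63912 := d11_1 D74210 (iv7 D63912) (iv4 F53410)
def n74211 : Q := act 0 n34043
theorem D74211 : act 0 n34043 = n74211 := rfl
theorem F111036 : act 5 n74211 = n49717 := d17_3 (iv1 D34041) D34043 D74211 (iv4 D49717) (iv5 D24247) (iv0 F19231) D24936 (iv0 F45707) (iv4 F53408)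
theorem F111037 : act 1 n34101 = n74211 := d15_0 (iv0 D74211) (iv7 F79000) F78996
theorem F111038 : act 2 n34097 = n74211 := d2_3 F111036 (iv2 F78930) F78931
theorem F111039 : act 7 n34098 = n74211 := d13_0 F111036 (iv7 F78960) (iv5 F78963)
def n74212 : Q := act 1 n34043
theorem D74212 : act 1 n34043 = n74212 := rfl
theorem F111040 : act 1 n74212 = n34101 := d15_1 D74212 (iv7 D34101) (iv2 F53412)
theorem F111041 : act 7 n74212 = n34097 := d15_2 (iv0 D74211) D74212 F111038
theorem F111042 : act 5 n74212 = n61443 := d17_7 F26063 (iv5 D16489) (iv1 D7653) D7654 D16491 D34043 D74212 (iv0 D61443) (iv4 D29085)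
theorem F111043 : act 2 n34098 = n74212 := d2_3 F111042 (iv2 F95942) (iv5 F78963)
def n74213 : Q := act 6 n34043
theorem D74213 : act 6 n34043 = n74213 := rfl
theorem F111044 : act 2 n74213 = n34100 := d3_1 D74213 (iv6 D34100) (iv2 F53412)
theorem F111045 : act 5 n74213 = n53188 := d12_1 D74213 (iv6 D53188) (iv5 D25793) (iv6 F26069) D34043
def n74214 : Q := act 6 n34044
theorem D74214 : act 6 n34044 = n74214 := rfl
theorem F111046 : act 2 n74214 = n34102 := d3_1 D74214 (iv6 D34102) (iv2 F53413)
theorem F111047 : act 4 n74214 = n34045 := d10_1 D74214 (iv6 D34045) (iv4 F53414)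
theorem F111048 : act 7 n74214 = n53189 := d14_2 D34044 D74214 (iv6 D53189) (iv7 D25794) (iv6 F26069)
theorem F111049 : act 1 n53357 = n74214 := d15_1 D53357 F111048 F84012
theorem F111050 : act 1 n74214 = n53356 := d15_0 (iv0 D53356) (iv7 F53513) (iv2 F111046)
def n74215 : Q := act 1 n34046
theorem D74215 : act 1 n34046 = n74215 := rfl
theorem F111051 : act 1 n74215 = n49413 := d15_1 D74215 F78145 F53426
theorem F111052 : act 7 n74215 = n49903 := d15_2 (iv0 F53423) D74215 F78935
theorem F111053 : act 4 n74215 = n49887 := d18_7 (iv1 D11462) F8117 D7652 (iv4 F11894) D16493 D34046 D74215 F78880 (iv5 D24328)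
theorem F111054 : act 2 n49905 = n74215 := d1_3 F111053 (iv2 F78883) D49905
def n74216 : Q := act 5 n34046
theorem D74216 : act 5 n34046 = n74216 := rfl
theorem F111055 : act 2 n74216 = n49949 := d2_1 D74216 F78988 F53426
theorem F111056 : act 3 n74216 = n34061 := d6_1 D74216 (iv5 F78992) (iv3 F78993)
theorem F111057 : act 7 n74216 = n49950 := d13_2 F53459 D74216 F78992
theorem F111058 : act 4 n74216 = n74191 := d16_2 D34046 D74216 (iv5 F110977) (iv4 D34036) (iv5 D16489) F19519 D24117 F37792 F26076
theorem F111059 : act 0 n74216 = n49953 := d17_2 (iv1 D74215) D74216 F79004 F38173 F18753 F18739 D24327 D49887 (iv4 F111053)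
theorem F111060 : act 1 n74216 = n49893 := d17_6 F24020 (iv5 D12039) F11895 D16493 D34046 D74216 (iv5 D49893) (iv0 F48724) (iv4 D30292)
def n74217 : Q := act 6 n34046
theorem D74217 : act 6 n34046 = n74217 := rfl
theorem F111061 : act 4 n74217 = n34047 := d10_1 D74217 (iv6 D34047) D34046
def n74218 : Q := act 0 n34047
theorem D74218 : act 0 n34047 = n74218 := rfl
theorem F111062 : act 6 n74218 = n53192 := d21_5 (iv5 D12039) F11895 D16493 D34047 D74218 F84017 (iv1 D30287) D30288 F48708 F24020
theorem F111063 : act 5 n74218 = n61241 := d21_0 (iv1 D61241) F46619 (iv6 D24179) F23949 F23948 (iv5 D12039) F11895 D16493 D34047 D74218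
def n74219 : Q := act 1 n34047
theorem D74219 : act 1 n34047 = n74219 := rfl
theorem F111064 : act 5 n61240 = n74219 := d21_0 (iv1 D74219) F53425 (iv6 D30172) (iv1 F23994) F23711 (iv5 D11531) (iv1 F19531) D13800 D28993 D61240
def n74220 : Q := act 7 n34047
theorem D74220 : act 7 n34047 = n74220 := rfl
theorem F111065 : act 3 n74220 = n34057 := d8_1 D74220 (iv7 D34057) (iv3 F53424)
theorem F111066 : act 5 n74220 = n63984 := d13_1 D74220 (iv7 D63984) (iv5 F53425)
theorem F111067 : act 6 n74220 = n65429 := d14_1 D74220 F101149 (iv6 D34062) F26091 D34047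
def n74221 : Q := act 3 n34048
theorem D74221 : act 3 n34048 = n74221 := rfl
def n74222 : Q := act 6 n34048
theorem D74222 : act 6 n34048 = n74222 := rfl
theorem F111068 : act 2 n74222 = n74217 := d3_1 D74222 (iv6 D74217) (iv2 F53426)
theorem F111069 : act 4 n74222 = n34049 := d10_1 D74222 (iv6 D34049) D34048
def n74223 : Q := act 0 n34049
theorem D74223 : act 0 n34049 = n74223 := rfl
theorem F111070 : act 6 n74223 = n50428 := d21_5 (iv5 D11839) F18742 D16494 D34049 D74223 F79802 (iv1 D30271) D30272 F48660 F23986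
theorem F111071 : act 5 n74223 = n64104 := d21_0 (iv1 D64104) (iv5 F78302) (iv6 D49543) (iv1 F37892) F23635 (iv5 D11839) F18742 D16494 D34049 D74223
def n74224 : Q := act 1 n34049
theorem D74224 : act 1 n34049 = n74224 := rfl
theorem F111072 : act 1 n74224 = n74220 := d15_1 D74224 (iv7 D74220) (iv2 F53427)
theorem F111073 : act 5 n64103 = n74224 := d21_0 (iv1 D74224) (iv5 F77622) (iv6 D49159) (iv1 D23986) (iv6 F19955) (iv5 D12045) (iv1 F19516) D14341 D30213 D64103
def n74225 : Q := act 7 n34049
theorem D74225 : act 7 n34049 = n74225 := rfl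
theorem F111074 : act 2 n74225 = n74220 := d4_1 D74225 (iv7 D74220) (iv2 F53427)
theorem F111075 : act 1 n74220 = n74223 := d15_0 (iv0 D74223) D74225 F111074
theorem F111076 : act 1 n74219 = n74225 := d15_1 D74219 (iv7 D74225) F53427
theorem F111077 : act 1 n74225 = n74218 := d15_0 (iv0 D74218) D74220 (iv2 F111074)
def n74226 : Q := act 3 n34050
theorem D74226 : act 3 n34050 = n74226 := rfl
theorem F111078 : act 4 n74226 = n61900 := d5_2 (iv4 F53428) D74226 (iv3 D61900) (iv4 D29329) (iv3 F46973)
def n74227 : Q := act 6 n34050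
theorem D74227 : act 6 n34050 = n74227 := rfl
theorem F111079 : act 4 n74227 = n61881 := d10_1 D74227 F96466 (iv4 F53428)
def n74228 : Q := act 3 n34051
theorem D74228 : act 3 n34051 = n74228 := rfl
theorem F111080 : act 4 n74228 = n65034 := d5_2 F78566 D74228 (iv3 D65034) (iv4 F78949) F78950
def n74229 : Q := act 6 n34051
theorem D74229 : act 6 n34051 = n74229 := rfl
theorem F111081 : act 2 n74229 = n53243 := d3_1 D74229 F110966 (iv2 F110965)
theorem F111082 : act 0 n74229 = n53166 := d21_4 (iv5 F100344) (iv1 F100349) F100350 D74229 (iv6 D53166) (iv5 F80338) (iv1 F95028) (iv5 D60467) F46316 (iv1 F53397)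
theorem F111083 : act 1 n74229 = n53245 := d15_1 (iv0 F111082) (iv7 D53245) (iv2 F83955)
def n74230 : Q := act 0 n34052
theorem D74230 : act 0 n34052 = n74230 := rfl
theorem F111084 : act 5 n74230 = n34071 := d17_1 D74230 (iv1 F53478) D34081 (iv4 F78979) (iv5 D49939) (iv0 D24353) D24356 D49950 F78994
theorem F111085 : act 4 n74230 = n51292 := d18_3 (iv1 F78991) F78994 D74230 (iv5 D51292) (iv4 D24938) (iv0 F23986) F38170 F78904 F78903
theorem F111086 : act 1 n34064 = n74230 := d15_0 (iv0 D74230) (iv7 F110975) F110978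
theorem F111087 : act 2 n64425 = n74230 := d1_3 F111085 (iv2 F82524) (iv4 F100341)
theorem F111088 : act 7 n52142 = n74230 := d15_2 (iv0 F110973) F110974 (iv2 F111087)
def n74231 : Q := act 1 n34052
theorem D74231 : act 1 n34052 = n74231 := rfl
theorem F111089 : act 1 n74231 = n34064 := d15_1 D74231 (iv7 F110972) F110971
theorem F111090 : act 7 n74231 = n64425 := d15_2 (iv0 D74230) D74231 F111087
theorem F111091 : act 5 n74231 = n34072 := d17_7 (iv1 D7667) (iv5 D3473) D3471 D7659 D16496 (iv5 F78995) D74231 F53481 (iv4 D16508)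
theorem F111092 : act 2 n52142 = n74231 := d2_3 F111091 (iv2 F53484) D52142
theorem F111093 : act 0 n67506 = n34065 := d21_4 D25825 D53263 F84108 D67506 (iv6 D34065) D34064 (iv1 F111089) F111091 (iv6 F53485) (iv1 D25823)
def n74232 : Q := act 6 n34052
theorem D74232 : act 6 n34052 = n74232 := rfl
theorem F111094 : act 3 n74232 = n34054 := d7_1 D74232 (iv6 D34054) D34052
def n74233 : Q := act 0 n34054
theorem D74233 : act 0 n34054 = n74233 := rfl
def n74234 : Q := act 1 n34054
theorem D74234 : act 1 n34054 = n74234 := rfl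
theorem F111095 : act 1 n74234 = n64708 := d15_1 D74234 (iv7 D64708) (iv2 F53431)
def n74235 : Q := act 5 n34054
theorem D74235 : act 5 n34054 = n74235 := rfl
theorem F111096 : act 2 n74235 = n64707 := d2_1 D74235 (iv5 D64707) (iv2 F53431)
def n74236 : Q := act 7 n34054
theorem D74236 : act 7 n34054 = n74236 := rfl
theorem F111097 : act 2 n74236 = n64708 := d4_1 D74236 (iv7 D64708) (iv2 F53431)
theorem F111098 : act 4 n74236 = n34057 := d11_1 D74236 (iv7 D34057) (iv4 F53432)
theorem F111099 : act 1 n64708 = n74233 := d15_0 (iv0 D74233) D74236 F111097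
theorem F111100 : act 1 n64705 = n74236 := d15_1 D64705 (iv7 D74236) F53431
theorem F111101 : act 1 n74236 = n64704 := d15_0 (iv0 D64704) D64708 (iv2 F111097)
def n74237 : Q := act 3 n34055
theorem D74237 : act 3 n34055 = n74237 := rfl
theorem F111102 : act 6 n74237 = n53223 := d7_2 (iv6 F53433) D74237 (iv3 D53223)
theorem F111103 : act 7 n74237 = n64701 := d8_2 F99843 D74237 (iv3 D64701)
def n74238 : Q := act 4 n34055
theorem D74238 : act 4 n34055 = n74238 := rfl
theorem F111104 : act 2 n74238 = n64700 := d1_1 D74238 (iv4 D64700) (iv2 F99844)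
theorem F111105 : act 6 n74238 = n53224 := d10_2 (iv6 F53433) D74238 (iv4 D53224)
theorem F111106 : act 7 n74238 = n64702 := d11_2 F99843 D74238 (iv4 D64702)
def n74239 : Q := act 3 n34056
theorem D74239 : act 3 n34056 = n74239 := rfl
def n74240 : Q := act 4 n34056
theorem D74240 : act 4 n34056 = n74240 := rfl
theorem F111108 : act 2 n74240 = n64702 := d1_1 D74240 (iv4 D64702) F99845
theorem F111109 : act 7 n74240 = n64700 := d11_2 F99840 D74240 (iv4 D64700)
def n74241 : Q := act 6 n34056
theorem D74241 : act 6 n34056 = n74241 := rfl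
theorem F111110 : act 2 n74241 = n64703 := d3_1 D74241 (iv6 D64703) F99845
theorem F111111 : act 5 n74241 = n53228 := d12_1 D74241 (iv6 D53228) (iv5 F48491) (iv6 F84136) F84137
theorem F111112 : act 7 n74241 = n53228 := d14_2 F99840 D74241 (iv6 D53228) (iv7 F99832) (iv6 F48855)
theorem F111113 : act 0 n74241 = n65548 := d21_10 F101278 (iv1 F53514) F40769 (iv6 D25795) (iv1 F20297) D12267 D25836 D53297 F84137 D74241
def n74242 : Q := act 3 n34059
theorem D74242 : act 3 n34059 = n74242 := rfl
theorem F111114 : act 4 n74242 = n34063 := d5_2 D34059 D74242 (iv3 D34063) (iv4 D16502) (iv3 F26084)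
theorem F111115 : act 7 n74242 = n49407 := d8_2 (iv7 F53453) D74242 (iv3 D49407)
def n74243 : Q := act 6 n34061
theorem D74243 : act 6 n34061 = n74243 := rfl
theorem F111116 : act 4 n74243 = n34062 := d10_1 D74243 (iv6 D34062) D34061
theorem F111117 : act 0 n67671 = n74243 := d21_4 D48828 (iv1 F103689) (iv5 D67670) D67671 (iv6 D74243) (iv5 F78992) (iv1 D49950) (iv5 D24356) F18751 D23811
theorem F111118 : act 7 n67683 = n74243 := d11_0 F111116 (iv7 F101149) F110995
theorem F111119 : act 0 n74243 = n67685 := d20_7 (iv4 F53930) (iv1 F53931) F40873 (iv3 F40789) F53394 (iv3 F53460) (iv4 F111116) F103717 F49733 (iv1 F27071)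
theorem F111120 : act 2 n74243 = n67682 := d15_3 (iv0 D67682) D67683 F111118
theorem F111121 : act 4 n67682 = n49414 := d1_2 (iv4 F111116) F111120 F78147
theorem F111122 : act 6 n67682 = n49413 := d3_2 D74243 F111120 F78144
def n74244 : Q := act 0 n34062
theorem D74244 : act 0 n34062 = n74244 := rfl
def n74245 : Q := act 0 n34063
theorem D74245 : act 0 n34063 = n74245 := rfl
def n74246 : Q := act 1 n34063
theorem D74246 : act 1 n34063 = n74246 := rfl
def n74247 : Q := act 2 n34063
theorem D74247 : act 2 n34063 = n74247 := rfl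
theorem F111123 : act 3 n74247 = n34064 := d0_2 D34063 D74247 (iv2 F110978) (iv3 D74191) F53390
theorem F111124 : act 5 n34063 = n74247 := d6_0 F111123 (iv5 D34064) D34063
def n74248 : Q := act 6 n34063
theorem D74248 : act 6 n34063 = n74248 := rfl
theorem F111125 : act 3 n74248 = n34065 := d7_1 D74248 (iv6 D34065) D34063
def n74249 : Q := act 6 n34064
theorem D74249 : act 6 n34064 = n74249 := rfl
def n74250 : Q := act 0 n34065
theorem D74250 : act 0 n34065 = n74250 := rfl
def n74251 : Q := act 5 n34065
theorem D74251 : act 5 n34065 = n74251 := rfl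
def n74252 : Q := act 7 n34065
theorem D74252 : act 7 n34065 = n74252 := rfl
theorem F111126 : act 4 n74252 = n34068 := d11_1 D74252 (iv7 D34068) (iv4 F53461)
theorem F111127 : act 6 n74252 = n64708 := d14_1 D74252 (iv7 D64708) (iv6 F53388) F53389 D34065
theorem F111128 : act 1 n53209 = n74252 := d15_1 (iv0 F110982) (iv7 D74252) (iv2 F110980)
theorem F111129 : act 0 n63363 = n65049 := d20_1 (iv4 F98667) (iv4 D65049) F79362 (iv1 F82114) (iv3 F82117) (iv4 F111126) (iv1 F111128) (iv4 F93822) (iv3 F98671) (iv1 D63365)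
def n74253 : Q := act 4 n34066
theorem D74253 : act 4 n34066 = n74253 := rfl
theorem F111130 : act 6 n74253 = n65544 := d10_2 (iv6 F53462) D74253 F101272
theorem F111131 : act 7 n74253 = n53203 := d11_2 F53465 D74253 F84047
def n74254 : Q := act 4 n34067
theorem D74254 : act 4 n34067 = n74254 := rfl
theorem F111132 : act 2 n74254 = n53203 := d1_1 D74254 F84047 (iv2 F53468)
theorem F111133 : act 6 n74254 = n49449 := d10_2 F53466 D74254 (iv4 D49449)
def n74255 : Q := act 6 n34069
theorem D74255 : act 6 n34069 = n74255 := rfl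
theorem F111134 : act 2 n74255 = n49940 := d3_1 D74255 (iv6 D49940) (iv2 F53472)
theorem F111135 : act 4 n74255 = n34070 := d10_1 D74255 (iv6 D34070) D34069
def n74256 : Q := act 0 n34070
theorem D74256 : act 0 n34070 = n74256 := rfl
def n74257 : Q := act 1 n34070
theorem D74257 : act 1 n34070 = n74257 := rfl
def n74258 : Q := act 7 n34070
theorem D74258 : act 7 n34070 = n74258 := rfl
theorem F111136 : act 3 n74258 = n34078 := d8_1 D74258 (iv7 D34078) (iv3 F53476)
theorem F111137 : act 5 n74258 = n51668 := d13_1 D74258 F81584 (iv5 F79631)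
theorem F111138 : act 6 n74258 = n64271 := d14_1 D74258 (iv7 D64271) F48660 (iv7 F26095) D34070
theorem F111139 : act 0 n64545 = n50430 := d21_1 (iv5 F100493) (iv5 D50430) (iv6 D24579) D24577 D50425 F79798 (iv1 F81589) (iv5 F111137) F111138 (iv1 F100129)
theorem E9968 : n66208 = n53251 := ((c21_5 F38575 F39443 F39440 D25821 D53251 (iv6 F102191) (iv5 F100493) F111139 (iv5 D50430) (iv6 D24579) D24577)).symm
theorem F111140 : act 3 n53251 = n30944 := (sb E9968 (iv3 D66208))
theorem F111141 : act 6 n53251 = n64304 := (sb E9968 (iv6 F102191))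
theorem F111142 : act 7 n53251 = n30967 := (sb E9968 F102110)
def n74259 : Q := act 3 n34071
theorem D74259 : act 3 n34071 = n74259 := rfl
theorem F111143 : act 4 n74259 = n52153 := d5_2 (iv4 F53477) D74259 F82440 F39999 (iv3 F39986)
theorem F111144 : act 7 n74259 = n52141 := d8_2 F53479 D74259 (iv3 D52141)
def n74260 : Q := act 6 n34071
theorem D74260 : act 6 n34071 = n74260 := rfl
theorem F111145 : act 2 n74260 = n64426 := d3_1 D74260 (iv6 D64426) (iv2 F53480)
theorem F111146 : act 4 n74260 = n52143 := d10_1 D74260 (iv6 D52143) (iv4 F53477)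
theorem F111147 : act 7 n74260 = n53256 := d14_2 F53479 D74260 (iv6 D53256) (iv7 F46317) F46316
def n74261 : Q := act 3 n34072
theorem D74261 : act 3 n34072 = n74261 := rfl
theorem F111148 : act 4 n74261 = n63325 := d5_2 (iv4 F53483) D74261 (iv3 D63325) (iv4 D29918) (iv3 F39084)
theorem F111149 : act 6 n74261 = n53257 := d7_2 F53485 D74261 (iv3 D53257)
theorem F111150 : act 7 n74261 = n64424 := d8_2 (iv7 F53482) D74261 (iv3 D64424)
def n74262 : Q := act 0 n34075
theorem D74262 : act 0 n34075 = n74262 := rfl
def n74263 : Q := act 1 n34075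
theorem D74263 : act 1 n34075 = n74263 := rfl
def n74264 : Q := act 5 n34075
theorem D74264 : act 5 n34075 = n74264 := rfl
def n74265 : Q := act 7 n34075
theorem D74265 : act 7 n34075 = n74265 := rfl
theorem F111151 : act 4 n74265 = n34078 := d11_1 D74265 (iv7 D34078) (iv4 F53488)
theorem F111152 : act 6 n74265 = n64421 := d14_1 D74265 (iv7 D64421) F48757 (iv7 F26097) D34075
def n74266 : Q := act 3 n34076
theorem D74266 : act 3 n34076 = n74266 := rfl
theorem F111153 : act 6 n74266 = n53295 := d7_2 F83878 D74266 (iv3 D53295)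
def n74267 : Q := act 4 n34076
theorem D74267 : act 4 n34076 = n74267 := rfl
theorem F111154 : act 6 n74267 = n53296 := d10_2 F83878 D74267 (iv4 D53296)
def n74268 : Q := act 5 n34076
theorem D74268 : act 5 n34076 = n74268 := rfl
theorem F111155 : act 6 n74268 = n64170 := d12_2 F83878 D74268 (iv5 D64170) F83879 (iv5 F83877)
theorem F111156 : act 0 n74268 = n65551 := d21_1 D74268 (iv5 D65551) (iv6 F99246) (iv1 D61441) F46725 (iv5 D13846) (iv1 F23854) (iv5 F22547) D16506 D34076
theorem F111157 : act 0 n65547 = n74268 := d21_1 D65547 (iv5 D74268) (iv6 F83878) (iv1 D25835) (iv6 D12267) (iv5 F19651) (iv1 D11922) (iv5 F11219) D14560 D30722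
def n74269 : Q := act 3 n34077
theorem D74269 : act 3 n34077 = n74269 := rfl
def n74270 : Q := act 4 n34077
theorem D74270 : act 4 n34077 = n74270 := rfl
theorem F111158 : act 0 n74270 = n34088 := d18_2 (iv1 F111011) D74270 (iv4 F82417) (iv5 F82843) F82842 F81583 F81581 F81382 (iv5 F111009)
def n74271 : Q := act 5 n34077
theorem D74271 : act 5 n34077 = n74271 := rfl
theorem F111159 : act 0 n74271 = n65547 := d21_1 D74271 (iv5 D65547) D65548 F101279 (iv6 D64401) (iv5 D30325) (iv1 F48498) (iv5 F53500) (iv6 F111010) (iv1 F111011)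
theorem F111160 : act 6 n74271 = n50415 := d21_3 (iv5 F111009) (iv1 F111011) D74271 (iv1 D50415) (iv6 D24571) (iv5 D11621) (iv1 F8530) D11915 D25085 (iv1 F81383)
theorem F111161 : act 0 n65551 = n74271 := d21_10 (iv5 D74271) (iv1 D34077) (iv5 F38624) (iv6 D24621) (iv1 F19585) D25042 F39294 D30117 (iv5 F81744) (iv6 F101281)
def n74272 : Q := act 6 n34077
theorem D74272 : act 6 n34077 = n74272 := rfl
theorem F111162 : act 7 n74272 = n53293 := d14_2 (iv7 F111003) D74272 (iv6 D53293) (iv7 F99902) (iv6 F111000)
theorem F111163 : act 0 n74272 = n51714 := d21_4 D65551 F111161 (iv5 D74271) D74272 (iv6 F98433) (iv5 D63169) (iv1 F83857) (iv5 F110983) F110984 (iv1 F84039)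
theorem F111164 : act 5 n74272 = n51648 := d21_6 (iv5 D30325) (iv1 F48498) (iv5 F53500) (iv6 F111010) (iv1 F111011) D74272 (iv1 F81547) (iv5 F83966) F83967 (iv1 F48754)
theorem F111165 : act 0 n51719 = n74272 := d21_4 (iv5 F100581) F100583 (iv5 D53367) F81657 (iv6 D74272) D74271 F111159 (iv5 D65547) D65548 F101279
def n74273 : Q := act 0 n34079
theorem D74273 : act 0 n34079 = n74273 := rfl
theorem F111166 : act 5 n74273 = n49481 := d21_0 (iv1 F82515) F82511 F45373 (iv1 F39779) F39785 (iv5 F37779) F24459 (iv5 F26099) D34079 D74273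
theorem F111167 : act 0 n74273 = n49433 := d21_1 (iv5 F111166) (iv5 F100078) F100079 (iv1 D52331) F40193 F23454 (iv1 D11341) D11342 (iv6 F37853) D49481
def n74274 : Q := act 1 n34079
theorem D74274 : act 1 n34079 = n74274 := rfl
theorem F111168 : act 1 n74274 = n49433 := d15_1 D74274 (iv7 D49433) (iv2 F53491)
theorem F111169 : act 5 n49482 = n74274 := d21_0 (iv1 D74274) F53493 (iv6 D30147) (iv1 F40140) (iv6 F82624) (iv5 D52254) D52253 (iv5 F82619) F82545 (iv1 F82513)
theorem E9969 : n66273 = n49482 := (c21_6 (iv5 D25382) D25381 F40129 D52201 F101881 D66273 F111169 (iv1 D74274) F53493 (iv6 D30147) (iv1 F40140))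
theorem F111170 : act 3 n49482 = n30965 := (sb E9969 F101859)
theorem F111171 : act 6 n49482 = n30962 := (sb E9969 (iv6 D66273))
theorem E9970 : n66268 = n63961 := (c21_11 F99517 (iv1 F77914) (iv5 F97597) F97598 (iv1 F82704) (iv6 F100079) F100078 (iv1 F111168) (iv5 F111169) F111171 D66268)
theorem F111172 : act 1 n63961 = n30962 := (sb E9970 (iv0 D66268))
theorem F111173 : act 3 n50122 = n74274 := d6_3 (iv5 F111169) F111170 F79378
theorem F111174 : act 6 n74274 = n49172 := d7_2 F79384 F111173 F95185
theorem F111175 : act 7 n74274 = n65165 := d8_2 (iv7 F102103) F111173 (iv3 D65165)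
theorem F111176 : act 4 n74274 = n67611 := d20_6 D31506 F49836 F49044 (iv3 F49039) (iv1 F79377) F111173 (iv1 D67611) (iv4 D31402) F24446 D14839
theorem F111177 : act 6 n67611 = n51196 := d10_2 (iv6 F111174) F111176 (iv4 F95186)
theorem E9971 : n65405 = n59127 := (c18_8 (iv1 F111168) F111176 (iv1 D67611) (iv4 D31402) (iv5 D14798) (iv4 F24445) D31389 (iv4 F101106) F100081 F100078)
theorem F111178 : act 3 n59127 = n30669 := (sb E9971 (iv3 D65405))
theorem F111179 : act 4 n59127 = n31389 := (sb E9971 F101106)
theorem E9972 : n53394 = n28086 := ((((iv5 D59127)).symm.trans (sb E9971 F101105))).symm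
theorem F111180 : act 7 n59127 = n30702 := (sb E9971 F101206)
theorem E9973 : n59125 = n25869 := ((D59125).symm.trans (sb E9972 (iv3 D53394)))
theorem E9974 : n59126 = n51169 := ((D59126).symm.trans (sb E9972 F84252))
theorem E9975 : n65504 = n59129 := (((D59129).symm.trans (sb E9972 F101231))).symm
theorem F111181 : act 3 n25869 = n28086 := (sb E9973 (iv3 D59125))
theorem F111182 : act 4 n51169 = n28086 := (sb E9974 (iv4 D59126))
theorem F111183 : act 3 n59129 = n30704 := (sb E9975 F101185)
theorem F111184 : act 4 n59129 = n49635 := (sb E9975 F101186)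
theorem F111185 : act 5 n59129 = n30702 := (sb E9975 (iv5 D65504))
theorem E9976 : n65502 = n59132 := (c2_2 F111185 D65502 (iv5 D59132) (iv2 F93305))
theorem F111186 : act 2 n59132 = n30702 := (sb E9976 (iv2 D65502))
theorem F111187 : act 4 n59132 = n31388 := (sb E9976 (iv4 F101240))
theorem F111188 : act 4 n67566 = n52112 := d10_3 F93307 F111187 D67566
theorem E9977 : n59131 = n51170 := ((c18_3 (iv1 F39047) (iv4 F78406) (iv1 F80721) (iv4 D59131) D59132 F111187 (iv0 D31388) F24445 D14797 (iv5 F39040))).symm
theorem F111189 : act 4 n51170 = n28087 := (sb E9977 (iv4 D59131))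
theorem F111190 : act 4 n49642 = n63934 := d20_6 F111187 (iv1 F103337) F103335 F49624 (iv1 F39048) D49642 (iv1 D63934) F48490 (iv3 F48475) F93306
theorem F111191 : act 4 n53218 = n67479 := d18_3 (iv1 D25810) (iv4 F40794) D53218 F103340 F111190 F99455 F48750 F48496 F48491
theorem E9978 : n53433 = n14391 := (c20_11 (iv4 F48750) (iv1 F99455) (iv4 F111190) (iv3 D49642) (iv1 D24206) F18559 (iv4 F20493) (iv1 F53784) (iv4 D25886) D25885 D53433)
theorem E9979 : n30813 = n30155 := ((((iv1 F48492)).symm.trans (sb E9978 (iv1 F84301)))).symm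
theorem E9980 : n30154 = n25885 := ((F48496).symm.trans (sb E9978 (iv0 D53433)))
theorem E9981 : n53434 = n14312 := ((((iv1 D30155)).symm.trans (sb E9979 (iv1 F84305)))).symm
theorem E9982 : n14590 = n14389 := (((F99830).symm.trans (sb E9979 (iv2 D30813)))).symm
theorem E9983 : n63941 = n53441 := ((D63941).symm.trans (sb E9979 (iv3 F84313)))
theorem E9985 : n30805 = n25809 := ((((iv5 F48493)).symm.trans (sb E9979 F49238))).symm
theorem E9987 : n53435 = n14388 := ((((iv7 F99835)).symm.trans (sb E9979 (iv7 F84303)))).symm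
theorem F111192 : act 0 n25885 = n14391 := (sb E9980 (iv1 F48496))
theorem E9988 : n63938 = n12286 := ((((iv3 D25885)).symm.trans (sb E9980 D63938))).symm
theorem E9989 : n63939 = n53436 := (((D53436).symm.trans (sb E9980 D63939))).symm
theorem E9990 : n25888 = n25810 := (((iv5 F40897)).symm.trans (sb E9980 F48491))
theorem E9991 : n53297 = n34124 := ((((iv6 F53553)).symm.trans (sb E9980 (iv6 F84136)))).symm
theorem F111193 : act 0 n14312 = n25885 := (sb E9981 (iv1 D53434))
theorem E9992 : n30811 = n6880 := ((((iv1 D14389)).symm.trans (sb E9982 D30811))).symm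
theorem E9993 : n30812 = n30156 := (((F48497).symm.trans (sb E9982 D30812))).symm
theorem E9994 : n30327 = n6969 := ((D30327).symm.trans (sb E9982 (iv3 D14590)))
theorem E9995 : n30814 = n30328 := (((D30328).symm.trans (sb E9982 D30814))).symm
theorem E9996 : n30329 = n14587 := ((D30329).symm.trans (sb E9982 F24246))
theorem E9997 : n30815 = n30330 := (((D30330).symm.trans (sb E9982 D30815))).symm
theorem F111194 : act 7 n14389 = n25885 := (sb E9982 F48959)
theorem E9998 : n53223 = n14388 := (((E9987).symm.trans ((F84314).symm.trans (sb E9983 F99468)))).symm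
theorem E9999 : n30323 = n25809 := (((E9985).symm.trans ((F84315).symm.trans (sb E9983 F99846)))).symm
theorem F111196 : act 2 n14388 = n25885 := (sb E9987 (iv2 D53435))
theorem E10005 : n53226 = n12287 := (((F20371).symm.trans (sb E9988 F99465))).symm
theorem F111197 : act 2 n53436 = n30324 := (sb E9989 F99848)
theorem F111198 : act 5 n25810 = n25885 := (sb E9990 F40897)
theorem E10007 : n53443 = n53228 := (((D53228).symm.trans (sb E9990 D53443))).symm
theorem F111199 : act 0 n34124 = n30224 := (sb E9991 (iv1 F84146))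
theorem F111200 : act 1 n34124 = n25836 := (sb E9991 (iv0 D53297))
theorem F111201 : act 2 n34124 = n30222 := (sb E9991 F99836)
theorem E10008 : n34126 = n34056 := (((iv5 F53558)).symm.trans (sb E9991 F84137))
theorem E10009 : n30544 = n30223 := ((F53554).symm.trans (sb E9991 F99837))
theorem E10011 : n65831 = n14364 := ((((iv3 F23981)).symm.trans (sb E9992 D65831))).symm
theorem E10016 : n65836 = n63920 := ((((iv3 F99428)).symm.trans (sb E9993 D65836))).symm
theorem F111202 : act 3 n6969 = n14389 := (sb E9994 (iv3 D30327))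
theorem E10024 : n64406 = n6968 := ((((iv5 F11234)).symm.trans (sb E9994 D64406))).symm
theorem E10025 : n64407 = n14592 := (((D14592).symm.trans (sb E9994 D64407))).symm
theorem E10028 : n65844 = n64408 := (((D64408).symm.trans (sb E9995 D65844))).symm
theorem F111203 : act 7 n30328 = n53436 := (sb E9995 (iv7 F84307))
theorem E10031 : n30803 = n25812 := ((D30803).symm.trans (sb E9996 (iv1 F78196)))
theorem E10032 : n30804 = n24137 := ((D30804).symm.trans (sb E9996 (iv0 F48756)))
theorem F111204 : act 2 n14587 = n25809 := (sb E9996 F99831)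
theorem E10033 : n64411 = n30806 := (((D30806).symm.trans (sb E9996 D64411))).symm
theorem F111205 : act 5 n14587 = n14389 := (sb E9996 (iv5 D30329))
theorem E10034 : n30541 = n30440 := (((iv6 F48941)).symm.trans (sb E9996 (iv6 F48855)))
theorem F111206 : act 7 n14587 = n25810 := (sb E9996 F99832)
theorem E10037 : n65029 = n64136 := ((((iv5 F99825)).symm.trans (sb E9997 (iv5 F100825)))).symm
theorem E10038 : n74237 = n30222 := ((((iv6 F48753)).symm.trans (sb E9998 (iv6 F111102)))).symm
theorem E10039 : n64395 = n30155 := (((F99835).symm.trans (sb E9998 (iv7 F100321)))).symm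
theorem F111207 : act 3 n25809 = n14388 := (sb E9999 (iv3 D30323))
theorem E10044 : n64131 = n34055 := ((((iv6 F53433)).symm.trans (sb E9999 (iv6 F99822)))).symm
theorem F111208 : act 3 n12287 = n25810 := (sb E10005 (iv3 D53226))
theorem F111209 : act 3 n53228 = n25890 := (sb E10007 F84320)
theorem E10046 : n74241 = n67411 := (((iv5 F111111)).symm.trans (sb E10007 (iv5 F103270)))
theorem E10047 : n74239 = n16523 := ((D74239).symm.trans (sb E10008 (iv3 D34126)))
theorem F111210 : act 5 n34056 = n34124 := (sb E10008 F53558)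
theorem E10050 : n64134 = n14490 := ((D64134).symm.trans (sb E10009 (iv3 D30544)))
theorem F111211 : act 7 n30223 = n34124 := (sb E10009 (iv7 F53554))
theorem E10052 : n67792 = n30269 := ((((iv4 F48658)).symm.trans (sb E10011 F103805))).symm
theorem F111212 : act 4 n63920 = n67585 := (sb E10016 (iv4 F103465))
theorem E10053 : n64699 = n14489 := ((((iv6 F24136)).symm.trans (sb E10024 (iv6 F100578)))).symm
theorem F111213 : act 3 n14592 = n30330 := (sb E10025 F100329)
theorem F111214 : act 4 n64408 = n30816 := (sb E10028 F101495)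
theorem F111215 : act 1 n25812 = n14587 := (sb E10031 (iv0 D30803))
theorem E10055 : n65809 = n53194 := ((((iv3 F84021)).symm.trans (sb E10031 D65809))).symm
theorem E10056 : n65810 = n53221 := ((((iv4 F84064)).symm.trans (sb E10031 D65810))).symm
theorem F111216 : act 0 n24137 = n14587 := (sb E10032 (iv1 D30804))
theorem F111217 : act 2 n30806 = n53224 := (sb E10033 F100331)
theorem E10064 : n65023 = n64700 := (((iv6 F100821)).symm.trans (sb E10033 (iv6 F100579)))
theorem F111218 : act 7 n30806 = n53227 := (sb E10033 F100332)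
theorem F111219 : act 6 n30440 = n14587 := (sb E10034 F48941)
theorem F111220 : act 3 n64136 = n30546 := (sb E10037 F100824)
theorem E10067 : n64701 = n53298 := ((((iv7 F99842)).symm.trans (sb E10038 F111103))).symm
theorem F111221 : act 3 n30155 = n30325 := (sb E10039 F100320)
theorem F111222 : act 3 n34055 = n30222 := (sb E10044 (iv3 D64131))
theorem F111223 : act 0 n67411 = n65548 := (sb E10046 F111113)
theorem F111224 : act 2 n67411 = n64703 := (sb E10046 F111110)
theorem F111225 : act 5 n67411 = n53228 := (sb E10046 F111111)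
theorem F111226 : act 6 n67411 = n34056 := (sb E10046 (iv6 D74241))
theorem F111227 : act 7 n67411 = n53228 := (sb E10046 F111112)
theorem F111228 : act 3 n16523 = n34056 := (sb E10047 (iv3 D74239))
theorem F111229 : act 3 n14490 = n30223 := (sb E10050 (iv3 D64134))
theorem E10068 : n64258 = n31483 := ((D64258).symm.trans (sb E10052 (iv1 D67792)))
theorem F111230 : act 3 n14489 = n30440 := (sb E10053 (iv3 D64699))
theorem F111231 : act 4 n53194 = n67818 := (sb E10055 F103829)
theorem F111232 : act 0 n53221 = n67596 := (sb E10056 F103473)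
theorem F111233 : act 6 n64700 = n30806 := (sb E10064 F100821)
theorem F111234 : act 3 n53298 = n30441 := (sb E10067 (iv3 D64701))
theorem E10069 : n67791 = n64295 := ((D67791).symm.trans (sb E10068 (iv1 F100126)))
theorem F111235 : act 1 n31483 = n30269 := (sb E10068 (iv0 D64258))
theorem F111236 : act 1 n64295 = n31483 := (sb E10069 (iv0 D67791))
theorem F111237 : act 4 n49634 = n64297 := d20_2 (iv4 F37929) D49634 (iv3 D64297) (iv1 F48710) F48661 (iv4 F48750) (iv1 F99455) (iv4 F111190) (iv3 D49642) (iv1 D24206)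
theorem E10070 : n64297 = n59124 := (c1_1 F111237 (iv2 D59124) (iv4 F111182) F101235)
theorem F111238 : act 3 n59124 = n30286 := (sb E10070 (iv3 D64297))
theorem F111239 : act 4 n59124 = n49634 := (sb E10070 (iv4 F111237))
theorem E10071 : n64293 = n53872 := (c20_2 (iv4 F100059) (iv1 F100120) (iv4 D53872) (iv3 D26043) (iv1 D12342) (iv3 F18559) (iv4 F37929) D49634 (iv4 F111239) F111238 (iv1 F48710))
theorem F111240 : act 0 n53872 = n30285 := (sb E10071 (iv1 D64293))
theorem F111241 : act 1 n53872 = n64261 := (sb E10071 F100120)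
theorem E10072 : n67586 = n64277 := (c20_2 D31398 (iv1 F103466) F100075 F48673 D30286 (iv3 F111238) F111239 (iv1 F80728) F80724 (iv3 F49624) (iv1 F49626))
theorem F111242 : act 0 n64277 = n31394 := (sb E10072 (iv1 D67586))
theorem F111243 : act 1 n64277 = n31398 := (sb E10072 F103466)
theorem F111244 : act 7 n67585 = n63919 := d15_2 F111243 F103470 (iv2 F100074)
theorem F111245 : act 0 n67609 = n49430 := d18_2 (iv1 F92833) D67609 F78160 (iv5 F48674) (iv4 F100075) F111243 (iv4 D31398) F49626 (iv5 F92831)
theorem F111246 : act 6 n64446 = n67585 := d14_5 F111244 (iv6 D63919) F48472 D30345 D64446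
theorem E10073 : n51178 = n49469 := (c18_6 F78221 (iv4 F100075) F111242 (iv4 D31394) F39044 D51178 F93299 F93296 F45376 D49475)
theorem F111247 : act 2 n49469 = n49643 := (sb E10073 F103511)
theorem F111248 : act 4 n49469 = n24901 := (sb E10073 (iv4 D51178))
theorem F111249 : act 7 n49469 = n49640 := (sb E10073 (iv7 F103514))
theorem E10074 : n51175 = n49468 := (c15_4 (iv0 D49468) D49469 F111249 (iv2 F103515))
theorem F111250 : act 2 n49468 = n49640 := (sb E10074 F103515)
theorem F111251 : act 4 n49468 = n24900 := (sb E10074 (iv4 D51175))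
theorem F111252 : act 7 n49468 = n49643 := (sb E10074 F103510)
theorem F111253 : act 0 n53191 = n53868 := d18_2 (iv1 D53193) (iv4 F84016) (iv4 D53868) (iv5 F41167) D53872 F111241 F100059 F48710 F84019
theorem E10075 : n49479 = n30702 := (c20_5 D53872 F111240 F48704 (iv3 F48673) F78223 (iv3 D30702) D30703 D65506 F101947 (iv3 F101931) (iv1 D53870))
theorem E10076 : n65500 = n63920 := ((D65500).symm.trans (sb E10075 (iv1 F100080)))
theorem E10077 : n65501 = n30277 := ((D65501).symm.trans (sb E10075 (iv0 F78223)))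
theorem E10078 : n59129 = n24147 := (((iv5 F111185)).symm.trans (sb E10075 (iv5 D49479)))
theorem E10079 : n64976 = n29004 := (((iv6 F100774)).symm.trans (sb E10075 (iv6 F78224)))
theorem F111254 : act 1 n63920 = n30702 := (sb E10076 (iv0 D65500))
theorem F111255 : act 0 n30277 = n30702 := (sb E10077 (iv1 D65501))
theorem E10080 : n49476 = n28087 := (((iv2 F78222)).symm.trans (sb E10078 F93305))
theorem E10081 : n49477 = n30704 := ((D49477).symm.trans (sb E10078 F111183))
theorem E10082 : n49635 = n49478 := (((D49478).symm.trans (sb E10078 F111184))).symm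
theorem F111256 : act 5 n24147 = n30702 := (sb E10078 F111185)
theorem E10083 : n49472 = n28086 := ((F78220).symm.trans (sb E10078 (iv7 D59129)))
theorem E10084 : n61269 = n30524 := ((D61269).symm.trans (sb E10079 (iv3 D64976)))
theorem F111257 : act 6 n29004 = n30702 := (sb E10079 F100774)
theorem F111258 : act 2 n28087 = n24147 := (sb E10080 F78222)
theorem E10085 : n59124 = n24146 := ((F93301).symm.trans (sb E10080 (iv7 D49476)))
theorem F111259 : act 3 n30704 = n24147 := (sb E10081 (iv3 D49477))
theorem F111260 : act 0 n49478 = n24204 := (sb E10082 (iv1 D49635))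
theorem F111261 : act 1 n49478 = n51172 := (sb E10082 F80727)
theorem F111262 : act 2 n49478 = n51170 := (sb E10082 F101236)
theorem F111263 : act 7 n49478 = n51169 := (sb E10082 F101234)
theorem F111264 : act 7 n28086 = n24147 := (sb E10083 (iv7 F78220))
theorem F111265 : act 3 n30524 = n29004 := (sb E10084 (iv3 D61269))
theorem F111266 : act 2 n24146 = n28086 := (sb E10085 (iv2 D59124))
theorem E10086 : n49473 = n30286 := ((D49473).symm.trans (sb E10085 F111238))
theorem E10087 : n49634 = n49474 := (((D49474).symm.trans (sb E10085 F111239))).symm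
theorem F111267 : act 7 n24146 = n28087 := (sb E10085 (iv7 F93301))
theorem F111268 : act 3 n30286 = n24146 := (sb E10086 (iv3 D49473))
theorem F111269 : act 0 n49474 = n51172 := (sb E10087 (iv1 F80728))
theorem F111270 : act 1 n49474 = n24204 := (sb E10087 (iv0 D49634))
theorem F111271 : act 2 n49474 = n51169 := (sb E10087 (iv2 F101235))
theorem F111272 : act 7 n49474 = n51170 := (sb E10087 (iv7 F101237))
theorem E10088 : n64292 = n59475 := ((c15_4 (iv0 D64292) (iv0 F111240) F84920 F101944)).symm
theorem F111273 : act 0 n59475 = n64261 := (sb E10088 (iv1 F100124))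
theorem F111274 : act 1 n59475 = n30285 := (sb E10088 (iv0 D64292))
theorem F111275 : act 0 n64400 = n59438 := d20_7 D59475 F111273 F100059 F48661 (iv1 F48492) F111221 D64400 F93825 F45680 D28241
theorem E10089 : n64210 = n64192 := (c18_7 (iv1 F48754) D64400 F111275 F93825 (iv5 F92812) F92811 D64210 (iv4 D64192) F84075 F84073)
theorem F111276 : act 0 n64192 = n30251 := (sb E10089 (iv1 D64210))
theorem F111277 : act 0 n64211 = n64409 := d17_2 F111276 D64211 (iv5 D64409) (iv4 D30328) (iv5 F111205) (iv0 F111216) F37825 D30244 D64192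
theorem F111278 : act 4 n67475 = n49475 := d18_3 (iv1 F49625) (iv4 F49657) (iv1 F103330) (iv5 D49475) D49474 F111270 F37929 D24206 (iv5 F49620)
theorem F111279 : act 2 n49475 = n59127 := d1_1 F111278 F111179 F103332
theorem F111280 : act 7 n49475 = n59132 := d11_2 (iv7 F103331) F111278 F111187
theorem F111281 : act 3 n49475 = n53193 := d20_3 (iv4 F49657) (iv1 F103330) F111278 (iv1 D53193) F40773 (iv4 F40794) D53218 F111191 (iv3 D67479) (iv1 F49625)
theorem E10090 : n64380 = n51174 := ((c20_6 (iv4 F111278) (iv1 D67475) F49619 F24424 D24900 D51174 (iv4 D64380) (iv1 F99462) F99458 (iv3 F99428) (iv1 F99430))).symm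
theorem F111282 : act 4 n51174 = n30318 := (sb E10090 (iv4 D64380))
theorem E10091 : n64382 = n63934 := (c11_3 (iv7 F103509) F111282 D64382 (iv4 F111190))
theorem F111283 : act 2 n63934 = n30319 := (sb E10091 F100318)
theorem F111284 : act 7 n63934 = n30318 := (sb E10091 (iv7 D64382))
theorem E10092 : n59130 = n30271 := (c20_4 (iv4 F78406) (iv1 F80721) F111189 D59130 (iv1 D30271) F23981 (iv4 F24029) D30318 (iv4 F111282) (iv3 D51174) (iv1 F39047))
theorem E10093 : n64266 = n28087 := ((D64266).symm.trans (sb E10092 (iv3 D59130)))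
theorem F111285 : act 3 n28087 = n30271 := (sb E10093 (iv3 D64266))
theorem E10094 : n64265 = n53397 := (c0_2 F111285 (iv2 F100061) (iv3 D53397) F101217 F111259 (iv2 F111258))
theorem F111286 : act 2 n53397 = n30271 := (sb E10094 F100061)
theorem E10095 : n65519 = n30270 := (((iv7 F101227)).symm.trans (sb E10094 (iv7 D64265)))
theorem E10096 : n64263 = n30708 := ((D64263).symm.trans (sb E10095 F101196))
theorem E10097 : n64264 = n59469 := ((D64264).symm.trans (sb E10095 (iv4 F101953)))
theorem E10098 : n50429 = n30706 := ((F79806).symm.trans (sb E10095 (iv5 D65519)))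
theorem F111287 : act 7 n30270 = n53397 := (sb E10095 F101227)
theorem F111288 : act 3 n30708 = n30270 := (sb E10096 (iv3 D64263))
theorem F111289 : act 4 n59469 = n30270 := (sb E10097 (iv4 D64264))
theorem E10099 : n65515 = n24579 := ((D65515).symm.trans (sb E10098 (iv1 D50429)))
theorem E10100 : n65516 = n53194 := ((D65516).symm.trans (sb E10098 F84023))
theorem F111290 : act 5 n30706 = n30270 := (sb E10098 (iv5 F79806))
theorem F111291 : act 1 n24579 = n30706 := (sb E10099 (iv0 D65515))
theorem F111292 : act 0 n53194 = n30706 := (sb E10100 (iv1 D65516))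
theorem F111293 : act 3 n50428 = n59132 := d6_3 (iv5 D59132) F111285 (iv5 F79802)
theorem F111294 : act 3 n64268 = n59133 := d7_3 (iv6 D59133) F111285 D64268
theorem E10101 : n64262 = n30286 := (c8_3 F111267 F111285 F100060 F111268)
theorem E10102 : n64296 = n30270 := ((D64296).symm.trans (sb E10101 (iv2 D64262)))
theorem E10103 : n64299 = n30271 := ((D64299).symm.trans (sb E10101 (iv7 F100060)))
theorem F111295 : act 2 n30270 = n30286 := (sb E10102 (iv2 D64296))
theorem E10104 : n53397 = n30287 := ((F111287).symm.trans (sb E10102 (iv7 F100127)))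
theorem F111296 : act 7 n30271 = n30286 := (sb E10103 (iv7 D64299))
theorem F111297 : act 2 n30287 = n30271 := (sb E10104 F111286)
theorem E10105 : n64300 = n25870 := ((D64300).symm.trans (sb E10104 (iv3 D53397)))
theorem E10106 : n65402 = n53192 := ((((iv5 F84017)).symm.trans (sb E10104 (iv5 F101102)))).symm
theorem F111298 : act 7 n30287 = n30270 := (sb E10104 (iv7 F111287))
theorem F111299 : act 3 n25870 = n30287 := (sb E10105 (iv3 D64300))
theorem F111300 : act 3 n53192 = n30668 := (sb E10106 (iv3 D65402))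
theorem F111301 : act 7 n53192 = n30706 := (sb E10106 F101214)
theorem E10107 : n65517 = n53193 := (c15_4 F84018 F84022 F111301 D65517)
theorem F111302 : act 2 n53193 = n30706 := (sb E10107 (iv2 D65517))
theorem F111303 : act 2 n53192 = n50428 := d15_3 (iv0 D50428) F111291 (iv7 F111301)
theorem F111304 : act 2 n74223 = n74218 := d3_3 F111062 F111303 (iv6 F111070)
theorem F111305 : act 7 n50428 = n53193 := d4_2 (iv7 F111301) F111303 F111302
theorem F111306 : act 2 n61241 = n64104 := d2_3 (iv5 F111071) F111304 F111063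
theorem F111307 : act 7 n74219 = n74223 := d15_2 (iv0 D74218) D74219 F111304
theorem F111308 : act 7 n74224 = n74218 := d15_2 (iv0 D74223) D74224 (iv2 F111304)
theorem F111309 : act 2 n74219 = n74224 := d4_3 F111308 (iv2 F111304) (iv7 F111307)
theorem F111310 : act 7 n61241 = n64103 := d13_2 F111308 F111063 F111073
theorem F111311 : act 2 n64103 = n61240 := d15_3 (iv0 D61240) D61241 F111310
theorem F111312 : act 7 n64104 = n61240 := d4_2 (iv7 F111310) F111306 (iv2 F111311)
theorem F111313 : act 3 n51262 = n74218 := d7_3 F111062 F111300 (iv6 F80854)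
theorem F111314 : act 3 n74223 = n61268 := d0_2 F111313 (iv2 F111304) (iv2 D61268) (iv3 F111265) (iv2 F101219)
theorem F111315 : act 3 n61241 = n34111 := d6_3 (iv5 F80855) F111313 F111063
theorem E10108 : n74224 = n64979 := (c8_3 (iv7 F101220) F111313 (iv7 F111308) (iv3 D64979))
theorem F111316 : act 0 n64979 = n34049 := (sb E10108 (iv1 D74224))
theorem F111317 : act 1 n64979 = n74220 := (sb E10108 F111072)
theorem F111318 : act 2 n64979 = n74219 := (sb E10108 (iv2 F111309))
theorem F111319 : act 5 n64979 = n64103 := (sb E10108 (iv5 F111073))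
theorem F111320 : act 7 n64979 = n74218 := (sb E10108 F111308)
theorem F111321 : act 3 n64103 = n50070 := d6_1 F111319 F79261 D64979
theorem E10109 : n61268 = n52112 := (c7_2 (iv6 F111070) F111314 F93307 (iv3 F111293))
theorem F111322 : act 2 n52112 = n29004 := (sb E10109 (iv2 D61268))
theorem F111323 : act 3 n52112 = n74223 := (sb E10109 (iv3 F111314))
theorem F111324 : act 7 n52112 = n29005 := (sb E10109 (iv7 F95739))
theorem E10110 : n74219 = n61272 := ((c8_4 F111307 (iv3 F111323) F111324 D61272)).symm
theorem F111325 : act 0 n61272 = n34047 := (sb E10110 (iv1 D74219))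
theorem F111326 : act 1 n61272 = n74225 := (sb E10110 F111076)
theorem F111327 : act 2 n61272 = n64979 := (sb E10110 (iv2 F111318))
theorem F111328 : act 5 n61272 = n61240 := (sb E10110 (iv5 F111064))
theorem F111329 : act 7 n61272 = n74223 := (sb E10110 F111307)
theorem F111330 : act 3 n61240 = n49410 := d6_1 F111328 F78139 D61272
theorem F111331 : act 3 n51263 = n61271 := d0_4 D61272 F111327 (iv3 D64979) (iv2 F101222) F95740
theorem F111332 : act 7 n61273 = n67566 := d11_2 F111324 D61273 F111188
theorem E10111 : n61271 = n52113 := (c15_4 F82372 F82375 F111324 (iv2 F95740))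
theorem F111333 : act 2 n52113 = n29005 := (sb E10111 F95740)
theorem F111334 : act 3 n52113 = n51263 := (sb E10111 (iv3 F111331))
theorem F111335 : act 7 n52113 = n29004 := (sb E10111 (iv7 D61271))
theorem F111336 : act 7 n49411 = n59128 := d13_2 F111335 F78141 F93303
theorem F111337 : act 2 n59128 = n49410 := d15_3 (iv0 D49410) D49411 F111336
theorem F111338 : act 3 n34110 = n59128 := d0_0 F111337 (iv3 F111330) (iv2 F111311) F111321 (iv2 F101225)
theorem F111339 : act 3 n49411 = n50071 := d8_3 F101224 F111338 (iv7 F111336)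
theorem F111340 : act 2 n61270 = n67566 := d1_3 F111188 F111322 D61270
theorem F111341 : act 6 n65503 = n61270 := d3_0 F111340 (iv6 D67566) (iv2 F101239)
theorem F111342 : act 1 n61270 = n52087 := d15_0 F104360 F111332 (iv2 F111340)
theorem F111343 : act 3 n64302 = n53399 := d7_3 (iv6 D53399) F111299 D64302
theorem F111344 : act 0 n67783 = n64301 := d20_1 D67783 (iv4 D64301) (iv3 F111299) (iv1 D25870) F20346 (iv4 F20369) (iv1 F49832) (iv4 D14833) D14832 D31480
theorem F111345 : act 7 n59469 = n64301 := d11_2 F111298 (iv4 F111289) (iv4 D64301)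
theorem F111346 : act 2 n64267 = n64301 := d1_3 (iv4 D64301) F111297 D64267
theorem F111347 : act 2 n64268 = n64302 := d3_3 (iv6 D64302) F111297 D64268
theorem F111348 : act 7 n64298 = n64267 := d11_2 F111296 D64298 (iv4 D64267)
theorem F111349 : act 2 n59469 = n64298 := d4_3 F111348 F111346 (iv7 F111345)
theorem F111350 : act 1 n67783 = n64298 := d15_1 (iv0 F111344) F111348 F111346
theorem E10112 : n64267 = n59470 := ((c15_2 (iv0 D59469) D59470 (iv7 F111348) (iv2 F111349))).symm
theorem F111351 : act 2 n59470 = n64301 := (sb E10112 F111346)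
theorem F111352 : act 4 n59470 = n30271 := (sb E10112 (iv4 D64267))
theorem F111353 : act 7 n59470 = n64298 := (sb E10112 (iv7 F111348))
theorem E10113 : n67782 = n67594 := (c20_4 D64298 (iv1 F111350) (iv4 D67783) D67782 (iv1 D67594) (iv3 D31397) D31398 (iv1 F111243) F100075 F48673 D30286)
theorem F111354 : act 3 n67594 = n31480 := (sb E10113 (iv3 D67782))
theorem F111355 : act 0 n67596 = n49453 := d20_1 D67596 F78191 F37824 D24146 (iv3 F111268) D64298 (iv1 F111350) (iv4 D67783) (iv3 F111354) (iv1 D67594)
theorem E10114 : n59121 = n49643 := ((c20_1 D49643 (iv1 D59121) F45370 (iv3 F38583) D50428 F111293 F111187 (iv1 F103337) F103335 F49624 (iv1 F39048))).symm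
theorem F111356 : act 0 n49643 = n28085 := (sb E10114 (iv1 D59121))
theorem F111357 : act 1 n49643 = n49471 := (sb E10114 F93293)
theorem E10115 : n59120 = n49640 := (c15_2 F111357 F93298 (iv7 F111249) F111247)
theorem F111358 : act 0 n49640 = n49471 := (sb E10115 (iv1 F93298))
theorem F111359 : act 1 n49640 = n28085 := (sb E10115 (iv0 D59120))
theorem F111360 : act 0 n63919 = n67480 := d18_2 F93302 (iv4 F99427) (iv4 D67480) F49620 D49643 F111357 F78219 F45374 D59127
theorem F111361 : act 1 n63919 = n67483 := d15_1 (iv0 F111360) F103490 (iv2 F103497)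
theorem F111362 : act 0 n49639 = n51106 := d20_10 (iv4 F101947) (iv1 F101191) (iv4 D30707) D30706 (iv1 F111291) F38583 (iv4 F45370) (iv1 F111359) (iv4 D49640) D49639
theorem E10116 : n67482 = n50199 := ((c18_9 F111362 (iv4 F101947) (iv1 F101191) (iv4 D30707) D30708 D65524 F101924 F79556 D50199 F103343)).symm
theorem F111363 : act 3 n50199 = n31357 := (sb E10116 (iv3 D67482))
theorem F111364 : act 4 n50199 = n53390 := (sb E10116 F103344)
theorem F111365 : act 5 n50199 = n49639 := (sb E10116 F103343)
theorem F111366 : act 7 n50199 = n31393 := (sb E10116 F103488)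
theorem E10117 : n67581 = n50198 := (c15_4 (iv0 D50198) D50199 F111366 D67581)
theorem F111367 : act 2 n50198 = n31393 := (sb E10117 (iv2 D67581))
theorem F111368 : act 4 n50198 = n53389 := (sb E10117 (iv4 F103523))
theorem F111369 : act 0 n51088 = n49639 := d21_10 (iv5 F111365) (iv1 D50199) (iv5 F78617) (iv6 D49749) F38897 F38896 (iv5 D11786) D11785 D24858 D51088
theorem F111370 : act 4 n64259 = n53871 := d20_2 (iv4 F100123) (iv1 F100125) F84914 F101928 F76801 (iv4 F79556) (iv1 F101924) (iv4 D65524) F111288 (iv1 F48712)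
theorem F111371 : act 2 n53872 = n64259 := d1_3 F111370 (iv2 D53871) D53872
theorem F111372 : act 7 n59475 = n64259 := d11_0 F111370 (iv7 F101942) D59475
theorem E10118 : n64378 = n63933 := (c15_4 (iv0 D63933) D63934 F111284 D64378)
theorem F111373 : act 2 n63933 = n30318 := (sb E10118 (iv2 D64378))
theorem F111374 : act 7 n63933 = n30319 := (sb E10118 (iv7 F100315))
theorem F111375 : act 2 n64384 = n49642 := d1_3 F111190 F111283 D64384
theorem F111376 : act 3 n49480 = n65512 := d7_3 (iv6 D65512) F111259 D49480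
theorem F111377 : act 2 n59133 = n49480 := d0_5 F111376 F101230 (iv3 F111343) (iv2 F111347) F111294
theorem E10119 : n67593 = n52223 := (c20_5 F111212 (iv1 F103470) (iv4 D31398) D31397 D67593 F82579 (iv4 F101110) F101949 (iv4 D30703) D30702 (iv1 F111254))
theorem F111378 : act 1 n52223 = n31397 := (sb E10119 (iv0 D67593))
theorem E10120 : n67594 = n59441 := (c15_2 F111378 D67594 (iv7 D59441) (iv2 F82578))
theorem F111379 : act 0 n59441 = n31397 := (sb E10120 (iv1 D67594))
theorem E10121 : n31480 = n28244 := (((F93826).symm.trans (sb E10120 F111354))).symm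
theorem E10122 : n59409 = n53871 := (((iv1 F93758)).symm.trans (sb E10121 (iv1 F84917)))
theorem E10123 : n59408 = n14832 := ((F93765).symm.trans (sb E10121 (iv0 D31480)))
theorem E10125 : n67783 = n59472 := ((((iv4 F93870)).symm.trans (sb E10121 D67783))).symm
theorem E10129 : n31481 = n28211 := (((iv1 F84919)).symm.trans (sb E10122 (iv1 D59409)))
theorem F111380 : act 1 n53871 = n28244 := (sb E10122 F93758)
theorem E10130 : n53867 = n48799 := ((F84915).symm.trans (sb E10122 (iv5 F93759)))
theorem F111381 : act 0 n14832 = n28244 := (sb E10123 (iv1 F93765))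
theorem F111382 : act 0 n59472 = n64301 := (sb E10125 F111344)
theorem F111383 : act 1 n59472 = n64298 := (sb E10125 F111350)
theorem F111384 : act 0 n28211 = n14832 := (sb E10129 (iv1 D31481))
theorem F111385 : act 1 n28211 = n53871 := (sb E10129 F84919)
theorem F111386 : act 0 n48799 = n31495 := (sb E10130 (iv1 F84911))
theorem E10136 : n31494 = n23799 := ((((iv0 D48799)).symm.trans (sb E10130 F84909))).symm
theorem F111387 : act 2 n48799 = n26040 := (sb E10130 (iv2 D53867))
theorem F111388 : act 3 n48799 = n28241 := (sb E10130 F101943)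
theorem F111389 : act 5 n48799 = n53871 := (sb E10130 (iv5 F84915))
theorem F111390 : act 7 n48799 = n31496 := (sb E10130 F84908)
theorem F111391 : act 1 n23799 = n14836 := (sb E10136 (iv0 D31494))
theorem E10137 : n67805 = n48776 := ((((iv2 F76800)).symm.trans (sb E10136 D67805))).symm
theorem E10142 : n67810 = n48802 := (((D48802).symm.trans (sb E10136 D67810))).symm
theorem F111392 : act 7 n48776 = n31495 := (sb E10137 (iv7 F103825))
theorem F111393 : act 2 n48802 = n31495 := (sb E10142 F103826)
theorem F111394 : act 0 n48788 = n51174 := d21_10 F80731 (iv1 F111378) (iv5 F98679) (iv6 D63371) (iv1 F48141) (iv6 F38869) (iv5 D24832) (iv1 F19117) D23793 D48788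
theorem E10143 : n67814 = n48810 := (c3_3 (iv6 F76884) F111393 D67814 F76885)
theorem F111395 : act 6 n48810 = n31495 := (sb E10143 (iv6 D67814))
theorem E10144 : n67811 = n50200 := (c8_2 F111392 D67811 (iv7 D50200) (iv3 F76801))
theorem F111396 : act 3 n50200 = n31495 := (sb E10144 (iv3 D67811))
theorem E10145 : n67813 = n49755 := (c13_2 F111392 D67813 (iv7 D49755) (iv5 F76802))
theorem F111397 : act 5 n49755 = n31495 := (sb E10145 (iv5 D67813))
theorem E10146 : n67797 = n48825 := ((c21_4 (iv5 D11408) D11406 D24242 (iv6 F76902) (iv1 D67797) (iv6 D31484) (iv5 F24494) (iv1 F111391) D48801 F76867 F37111)).symm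
theorem F111398 : act 0 n48825 = n31484 := (sb E10146 (iv1 D67797))
theorem E10147 : n49968 = n49912 := (c21_1 (iv5 F79033) (iv1 D49912) (iv5 F45660) (iv6 D28217) (iv1 D13472) (iv6 F18652) (iv5 D11408) D11406 D24242 (iv6 F76902) F111398)
theorem F111399 : act 2 n49912 = n59567 := (sb E10147 (iv2 F101946))
theorem F111400 : act 3 n49912 = n24363 := (sb E10147 (iv3 D49968))
theorem F111401 : act 5 n49912 = n31484 := (sb E10147 F79033)
theorem F111402 : act 6 n49912 = n67824 := (sb E10147 (iv6 F103834))
theorem F111403 : act 7 n49912 = n34250 := (sb E10147 F79034)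
theorem F111404 : act 2 n34250 = n49911 := d15_3 (iv0 D49911) D49912 F111403
theorem F111405 : act 7 n59567 = n49911 := d4_2 (iv7 F111403) F111399 (iv2 F111404)
theorem F111406 : act 3 n49911 = n49730 := d0_2 D34250 F111404 (iv2 F101945) F49785 (iv2 F49818)
theorem F111407 : act 5 n48844 = n67823 := d21_0 (iv1 D67823) D67824 (iv6 F111402) (iv1 D49912) (iv6 D24340) (iv5 D11468) (iv1 F18743) (iv5 F38128) D49895 (iv1 F78910)
theorem F111408 : act 0 n65406 = n51103 := d20_1 D65406 F80619 (iv3 F45646) F111384 (iv3 D14832) D14833 (iv1 F49835) F24242 (iv3 F24192) (iv1 F49122)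
theorem F111409 : act 5 n67822 = n48843 := d21_0 (iv1 F78911) F78908 (iv6 D49895) (iv1 F38129) D24352 (iv5 F45647) F111384 (iv5 F24494) D31498 D67822
theorem F111410 : act 6 n62132 = n67822 := d21_5 (iv5 F22600) F37102 D13991 (iv6 F47133) D62132 F111409 (iv1 F78911) F78908 (iv6 D49895) (iv1 F38129)
theorem F111411 : act 1 n65403 = n51103 := d15_0 (iv0 F111408) F101208 (iv2 F101215)
theorem E10148 : n51177 = n51105 := (c20_10 (iv4 F80619) (iv1 F111411) (iv4 D65403) (iv3 F111300) (iv1 F84022) F79807 (iv4 F93296) (iv1 F93299) F111248 D51177 (iv1 D51105))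
theorem F111412 : act 3 n51105 = n24901 := (sb E10148 (iv3 D51177))
theorem F111413 : act 4 n51105 = n30698 := (sb E10148 F80735)
theorem F111414 : act 5 n51105 = n31393 := (sb E10148 F80734)
theorem F111415 : act 7 n51105 = n49639 := (sb E10148 (iv7 F103513))
theorem E10149 : n65484 = n51104 := (c15_4 (iv0 D51104) D51105 F111415 (iv2 F103520))
theorem F111416 : act 2 n51104 = n49639 := (sb E10149 F103520)
theorem F111417 : act 4 n51104 = n30697 := (sb E10149 (iv4 D65484))
theorem F111418 : act 0 n64301 = n59407 := d20_7 F111417 (iv1 F101099) F101095 (iv3 F78085) (iv1 F78088) F111299 D64301 F93756 F45646 D51104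
theorem F111419 : act 1 n64298 = n59407 := d15_0 (iv0 F111418) (iv7 F111345) F111349
theorem E10150 : n67580 = n50144 := ((c21_10 (iv5 F111414) (iv1 D51105) (iv5 F78976) (iv6 D49931) F38168 (iv6 F38278) (iv5 D24412) (iv1 F19377) D24456 D50144 (iv1 D67580))).symm
theorem F111420 : act 0 n50144 = n31393 := (sb E10150 (iv1 D67580))
theorem F111421 : act 0 n51129 = n67583 := d21_4 (iv5 D14206) F22950 D28733 (iv6 F80648) (iv6 D67583) (iv5 F111414) (iv1 D51105) (iv5 F78976) (iv6 D49931) F38168
theorem F111422 : act 5 n67583 = n62988 := d21_0 (iv1 D62988) (iv5 F76898) (iv6 D48819) F38280 F38278 (iv5 D14206) F22950 D28733 (iv6 F80648) F111421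
theorem F111423 : act 3 n62988 = n51150 := d6_1 F111422 (iv5 F80689) (iv3 F103463)
theorem F111424 : act 4 n62988 = n64972 := d20_6 D30542 (iv1 F53894) F53891 (iv3 F53885) (iv1 F80688) (iv3 F111423) (iv1 D64972) F48917 F24124 D14489
theorem E10151 : n64397 = n59445 := (c20_2 D30328 (iv1 F100323) F93834 (iv3 F79438) F111420 (iv3 D31393) D31394 D67585 (iv4 F111212) F99428 (iv1 F48497))
theorem F111425 : act 0 n59445 = n30324 := (sb E10151 (iv1 D64397))
theorem F111426 : act 1 n59445 = n30328 := (sb E10151 F100323)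
theorem F111427 : act 0 n64416 = n74205 := d18_2 (iv1 F53502) D64416 F111029 (iv5 D59448) (iv4 F93834) F111426 (iv4 D30328) F48497 (iv5 F53500)
theorem F111428 : act 0 n64399 = n64211 := d17_2 F111425 D64399 (iv5 D64211) (iv4 F92811) F92812 D59440 (iv5 F93835) (iv0 D59446) (iv4 F93834)
theorem E10152 : n59447 = n49642 := ((c20_10 (iv4 F93834) F111425 (iv4 D30324) (iv3 F111207) (iv1 F78198) F78193 (iv4 F78219) (iv1 F111357) (iv4 D49643) D49642 (iv1 D59447))).symm
theorem F111429 : act 0 n49642 = n28231 := (sb E10152 (iv1 D59447))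
theorem E10153 : n67479 = n59439 := (((iv5 F103340)).symm.trans (sb E10152 (iv5 F93839)))
theorem F111430 : act 3 n59439 = n31356 := (sb E10153 (iv3 D67479))
theorem F111431 : act 4 n59439 = n53218 := (sb E10153 (iv4 F111191))
theorem F111432 : act 5 n59439 = n49642 := (sb E10153 F103340)
theorem F111433 : act 7 n59439 = n31397 := (sb E10153 F103496)
theorem F111434 : act 5 n64132 = n64793 := d21_6 D6913 D14472 (iv5 F45702) D59445 F111425 (iv6 F99823) (iv1 D64793) (iv5 D30469) (iv6 D14466) (iv1 D6911)
theorem F111435 : act 7 n67596 = n53218 := d11_2 F111433 D67596 (iv4 F111431)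
theorem F111436 : act 2 n51174 = n59446 := d15_3 (iv0 D59446) (iv0 F111429) (iv7 F103509)
theorem F111437 : act 3 n59446 = n51104 := d0_2 D51174 F111436 F111416 (iv3 D49639) (iv2 F103494)
theorem F111438 : act 4 n59446 = n63933 := d1_2 (iv4 F111282) F111436 F111373
theorem E10154 : n67595 = n59440 := ((c2_3 (iv5 F80731) F111436 F93835 (iv2 D67595))).symm
theorem F111439 : act 2 n59440 = n31397 := (sb E10154 (iv2 D67595))
theorem F111440 : act 7 n59446 = n64384 := d4_2 (iv7 F103509) F111436 F111375
theorem F111441 : act 1 n48788 = n64384 := d15_1 (iv0 F111394) (iv7 F111440) (iv2 F111436)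
theorem F111442 : act 1 n64384 = n59449 := d15_1 F111441 (iv7 D59449) (iv2 F76841)
theorem F111443 : act 1 n59449 = n51174 := d15_1 F111442 F103509 (iv2 F111375)
theorem F111444 : act 3 n64703 = n64940 := d7_3 F100725 F111234 D64703
theorem F111445 : act 3 n63943 = n64401 := d6_3 (iv5 F100581) F111444 F100724
theorem F111446 : act 7 n67818 = n53191 := d11_2 D53194 F111231 F84016
theorem E10155 : n67817 = n50427 := ((c15_4 (iv0 D67817) D67818 F111446 F84015)).symm
theorem F111447 : act 1 n50427 = n31497 := (sb E10155 (iv0 D67817))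
theorem F111448 : act 0 n64102 = n67795 := d20_7 (iv4 F53891) (iv1 F53893) (iv4 D30545) F111229 (iv1 D30223) (iv3 F48603) (iv4 F99714) F103808 F49785 (iv1 F38188)
theorem F111449 : act 1 n64400 = n65819 := d15_0 (iv0 D65819) F111218 (iv2 F100324)
theorem F111450 : act 2 n65165 = n74273 := d15_3 (iv0 D74273) D74274 F111175
theorem F111451 : act 2 n49432 = n74274 := d3_3 F111174 F102098 (iv6 F93061)
theorem F111452 : act 2 n49482 = n52186 := d2_3 (iv5 F93060) F111451 (iv5 F111169)
theorem F111453 : act 7 n74273 = n49432 := d4_0 F111451 F111175 F111450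
theorem F111454 : act 7 n52186 = n49481 := d13_2 F111453 F93060 (iv5 F111166)
theorem E10156 : n65165 = n49431 := (c15_4 (iv0 D49431) D49432 (iv7 F111453) (iv2 F111450))
theorem F111455 : act 2 n49431 = n74273 := (sb E10156 F111450)
theorem F111456 : act 3 n49431 = n30593 := (sb E10156 (iv3 D65165))
theorem F111457 : act 7 n49431 = n74274 := (sb E10156 (iv7 F111175))
theorem F111458 : act 7 n49482 = n52185 := d13_2 F111457 (iv5 F111169) (iv5 F82514)
theorem F111459 : act 2 n52185 = n49481 := d4_1 F111458 (iv7 F111454) (iv2 F111452)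
theorem F111460 : act 3 n52185 = n34175 := d8_1 F111458 F102104 (iv3 F111170)
theorem E10157 : n66270 = n63959 := ((c3_3 (iv6 F111171) F111452 (iv6 F99515) (iv2 D66270))).symm
theorem F111461 : act 2 n63959 = n30962 := (sb E10157 (iv2 D66270))
theorem E10158 : n66212 = n63960 := ((c15_2 (iv0 D63959) D63960 F102118 (iv2 F111461))).symm
theorem F111462 : act 3 n63960 = n30945 := (sb E10158 (iv3 D66212))
theorem F111463 : act 7 n63960 = n30962 := (sb E10158 F102118)
def n74275 : Q := act 7 n34079
theorem D74275 : act 7 n34079 = n74275 := rfl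
theorem F111464 : act 2 n74275 = n49433 := d4_1 D74275 (iv7 D49433) (iv2 F53491)
theorem F111465 : act 3 n74275 = n34085 := d8_1 D74275 (iv7 D34085) (iv3 F53492)
theorem F111466 : act 5 n74275 = n63920 := d13_1 D74275 (iv7 D63920) (iv5 F53493)
theorem F111467 : act 6 n74275 = n49427 := d14_1 D74275 (iv7 D49427) (iv6 D24126) F37496 D34079
theorem F111468 : act 1 n49432 = n74275 := d15_1 D49432 (iv7 D74275) F53491
theorem F111469 : act 1 n74275 = n49431 := d15_1 F111468 F111457 (iv2 F111451)
def n74276 : Q := act 0 n34080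
theorem D74276 : act 0 n34080 = n74276 := rfl
def n74277 : Q := act 1 n34080
theorem D74277 : act 1 n34080 = n74277 := rfl
def n74278 : Q := act 2 n34080
theorem D74278 : act 2 n34080 = n74278 := rfl
theorem F111470 : act 3 n74278 = n64429 := d0_2 D34080 D74278 (iv2 D64429) (iv3 D30337) (iv2 F26102)
theorem F111471 : act 5 n74195 = n74278 := d6_0 F111470 F100344 D74195
def n74279 : Q := act 5 n34080
theorem D74279 : act 5 n34080 = n74279 := rfl
theorem F111472 : act 2 n74279 = n74195 := d2_1 D74279 F111471 (iv2 D74278)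
theorem F111473 : act 3 n74279 = n34081 := d6_1 D74279 (iv5 D34081) D34080
theorem F111474 : act 7 n74279 = n74278 := d13_2 F110997 D74279 (iv5 F111471)
theorem F111475 : act 1 n74277 = n74279 := d15_1 D74277 F111474 (iv2 D74278)
theorem F111476 : act 1 n74279 = n74276 := d15_0 (iv0 D74276) (iv7 F110997) (iv2 F111472)
def n74280 : Q := act 6 n34080
theorem D74280 : act 6 n34080 = n74280 := rfl
theorem F111477 : act 3 n74280 = n34082 := d7_1 D74280 (iv6 D34082) D34080
def n74281 : Q := act 6 n34081
theorem D74281 : act 6 n34081 = n74281 := rfl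
theorem F111478 : act 2 n74281 = n64433 := d3_1 D74281 (iv6 D64433) (iv2 F53494)
def n74282 : Q := act 0 n34082
theorem D74282 : act 0 n34082 = n74282 := rfl
def n74283 : Q := act 1 n34082
theorem D74283 : act 1 n34082 = n74283 := rfl
theorem F111479 : act 1 n74283 = n64421 := d15_1 D74283 (iv7 D64421) (iv2 F53495)
def n74284 : Q := act 5 n34082
theorem D74284 : act 5 n34082 = n74284 := rfl
theorem F111480 : act 2 n74284 = n64420 := d2_1 D74284 (iv5 D64420) (iv2 F53495)
def n74285 : Q := act 7 n34082
theorem D74285 : act 7 n34082 = n74285 := rfl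
theorem F111481 : act 2 n74285 = n64421 := d4_1 D74285 (iv7 D64421) (iv2 F53495)
theorem F111482 : act 4 n74285 = n34085 := d11_1 D74285 (iv7 D34085) (iv4 F53496)
theorem F111483 : act 1 n64421 = n74282 := d15_0 (iv0 D74282) D74285 F111481
theorem F111484 : act 1 n64418 = n74285 := d15_1 D64418 (iv7 D74285) F53495
theorem F111485 : act 1 n74285 = n64417 := d15_0 (iv0 D64417) D64421 (iv2 F111481)
def n74286 : Q := act 4 n34083
theorem D74286 : act 4 n34083 = n74286 := rfl
theorem F111486 : act 2 n74286 = n64413 := d1_1 D74286 (iv4 D64413) F99943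
theorem F111487 : act 7 n74286 = n64416 := d11_2 (iv7 F99939) D74286 (iv4 D64416)
theorem F111488 : act 1 n64413 = n74205 := d15_0 (iv0 F111427) (iv7 F111487) F111486
def n74287 : Q := act 6 n34083
theorem D74287 : act 6 n34083 = n74287 := rfl
theorem F111489 : act 2 n74287 = n64414 := d3_1 D74287 (iv6 D64414) F99943
theorem F111490 : act 3 n74287 = n34189 := d7_1 D74287 (iv6 D34189) (iv3 F101989)
theorem F111491 : act 5 n74287 = n62495 := d12_1 D74287 F99925 (iv5 F99923) (iv6 D64189) F53503
theorem F111492 : act 7 n74287 = n53278 := d14_2 (iv7 F99939) D74287 (iv6 D53278) F102003 F101988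
theorem F111493 : act 0 n74287 = n53363 := d21_4 F37825 D30243 F53503 D74287 (iv6 D53363) D53362 F100585 F100581 (iv6 D64401) F48752
def n74288 : Q := act 4 n34084
theorem D74288 : act 4 n34084 = n74288 := rfl
theorem F111494 : act 2 n74288 = n64416 := d1_1 D74288 (iv4 D64416) (iv2 F99944)
theorem F111495 : act 6 n74288 = n53272 := d10_2 F81363 D74288 (iv4 D53272)
theorem F111496 : act 7 n74288 = n64413 := d11_2 (iv7 F99942) D74288 (iv4 D64413)
def n74289 : Q := act 0 n34086
theorem D74289 : act 0 n34086 = n74289 := rfl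
theorem F111497 : act 5 n74289 = n61444 := d19_1 D74289 F95944 (iv3 D29098) F23124 (iv5 F26543) (iv4 D14133) F10946 D6716 F10948 (iv4 D6391) (iv3 F8731) (iv1 F10885) (iv5 F10887) (iv4 F10756) (iv3 F23236) F45717 F45714 F45716 D34086
theorem F111498 : act 3 n61445 = n74289 := d6_3 F111497 (iv3 D61444) D61445
def n74290 : Q := act 1 n34086
theorem D74290 : act 1 n34086 = n74290 := rfl
def n74291 : Q := act 2 n34086
theorem D74291 : act 2 n34086 = n74291 := rfl
def n74292 : Q := act 5 n34086
theorem D74292 : act 5 n34086 = n74292 := rfl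
theorem F111499 : act 3 n74292 = n34087 := d6_1 D74292 (iv5 D34087) D34086
def n74293 : Q := act 6 n34086
theorem D74293 : act 6 n34086 = n74293 := rfl
theorem F111500 : act 3 n74293 = n34088 := d7_1 D74293 (iv6 D34088) D34086
def n74294 : Q := act 0 n34087
theorem D74294 : act 0 n34087 = n74294 := rfl
theorem F111501 : act 5 n74294 = n63824 := d17_3 D16510 D34087 D74294 F99218 F48398 F23877 (iv5 F22547) (iv0 D7666) D7668
theorem F111502 : act 4 n74294 = n62136 := d18_1 D74294 F96857 F78979 (iv5 D34081) (iv4 D16508) F26073 (iv4 F53414) F53416 D34087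
theorem F111503 : act 2 n64423 = n74294 := d15_3 (iv0 D74294) (iv0 F95945) (iv7 F100340)
theorem F111504 : act 1 n34090 = n74294 := d15_0 (iv0 D74294) (iv7 F111025) F111024
theorem F111505 : act 7 n74294 = n63823 := d15_2 F95946 F111504 F99216
def n74295 : Q := act 6 n34087
theorem D74295 : act 6 n34087 = n74295 := rfl
def n74296 : Q := act 0 n34088
theorem D74296 : act 0 n34088 = n74296 := rfl
def n74297 : Q := act 5 n34088
theorem D74297 : act 5 n34088 = n74297 := rfl
def n74298 : Q := act 7 n34088
theorem D74298 : act 7 n34088 = n74298 := rfl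
def n74299 : Q := act 0 n34089
theorem D74299 : act 0 n34089 = n74299 := rfl
def n74300 : Q := act 1 n34089
theorem D74300 : act 1 n34089 = n74300 := rfl
def n74301 : Q := act 2 n34089
theorem D74301 : act 2 n34089 = n74301 := rfl
def n74302 : Q := act 4 n34089
theorem D74302 : act 4 n34089 = n74302 := rfl
theorem F111506 : act 3 n74302 = n48803 := d5_1 D74302 (iv4 D48803) (iv3 F39981) F39983 D34089
theorem F111507 : act 7 n74302 = n49743 := d11_2 F111014 D74302 (iv4 F111013)
def n74303 : Q := act 5 n34089
theorem D74303 : act 5 n34089 = n74303 := rfl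
theorem F111508 : act 3 n74303 = n34090 := d6_1 D74303 (iv5 D34090) D34089
def n74304 : Q := act 6 n34089
theorem D74304 : act 6 n34089 = n74304 := rfl
theorem F111509 : act 3 n74304 = n34091 := d7_1 D74304 (iv6 D34091) D34089
def n74305 : Q := act 6 n34090
theorem D74305 : act 6 n34090 = n74305 := rfl
def n74306 : Q := act 0 n34091
theorem D74306 : act 0 n34091 = n74306 := rfl
def n74307 : Q := act 1 n34091
theorem D74307 : act 1 n34091 = n74307 := rfl
def n74308 : Q := act 5 n34091
theorem D74308 : act 5 n34091 = n74308 := rfl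
def n74309 : Q := act 7 n34091
theorem D74309 : act 7 n34091 = n74309 := rfl
theorem F111510 : act 1 n64416 = n74309 := d15_1 (iv0 F111427) (iv7 D74309) (iv2 F111028)
theorem F111511 : act 1 n74309 = n64413 := d15_1 F111510 (iv7 F111496) F111494
def n74310 : Q := act 0 n34092
theorem D74310 : act 0 n34092 = n74310 := rfl
theorem F111512 : act 2 n34096 = n74310 := d15_3 (iv0 D74310) (iv0 D34092) D34096
theorem F111513 : act 4 n74310 = n34210 := d1_2 (iv4 F53509) F111512 (iv2 F53846)
theorem F111514 : act 7 n74310 = n34094 := d4_2 D34096 F111512 (iv2 D34094)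
theorem F111515 : act 1 n34093 = n74310 := d15_1 D34093 F111514 (iv2 D34094)
def n74311 : Q := act 2 n34092
theorem D74311 : act 2 n34092 = n74311 := rfl
theorem F111516 : act 7 n34093 = n74311 := d15_2 (iv0 D34092) D34093 (iv2 D74311)
def n74312 : Q := act 3 n34092
theorem D74312 : act 3 n34092 = n74312 := rfl
def n74313 : Q := act 4 n34092
theorem D74313 : act 4 n34092 = n74313 := rfl
def n74314 : Q := act 5 n34092
theorem D74314 : act 5 n34092 = n74314 := rfl
def n74315 : Q := act 6 n34092
theorem D74315 : act 6 n34092 = n74315 := rfl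
def n74316 : Q := act 7 n34092
theorem D74316 : act 7 n34092 = n74316 := rfl
theorem F111517 : act 2 n74316 = n34093 := d4_1 D74316 F111516 (iv2 D74311)
def n74317 : Q := act 3 n34093
theorem D74317 : act 3 n34093 = n74317 := rfl
def n74318 : Q := act 4 n34093
theorem D74318 : act 4 n34093 = n74318 := rfl
theorem F111518 : act 3 n74318 = n49999 := d20_9 (iv4 F78983) F101022 (iv4 D65284) (iv3 D30636) D30634 (iv3 F53847) (iv4 F111513) (iv1 F111515) D74318 (iv1 D49999)
def n74319 : Q := act 5 n34093
theorem D74319 : act 5 n34093 = n74319 := rfl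
def n74320 : Q := act 6 n34093
theorem D74320 : act 6 n34093 = n74320 := rfl
def n74321 : Q := act 0 n34094
theorem D74321 : act 0 n34094 = n74321 := rfl
theorem F111519 : act 1 n34096 = n74321 := d15_0 (iv0 D74321) (iv7 F111514) (iv2 F111512)
theorem F111520 : act 4 n49989 = n74321 := d20_6 F11207 F5076 D5350 D11492 D24375 D49989 (iv1 F111519) F53509 F26219 (iv1 F11958)
def n74322 : Q := act 1 n34094
theorem D74322 : act 1 n34094 = n74322 := rfl
theorem F111521 : act 1 n74322 = n34096 := d15_1 D74322 (iv7 D34096) D34094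
def n74323 : Q := act 5 n34094
theorem D74323 : act 5 n34094 = n74323 := rfl
theorem F111522 : act 2 n74323 = n34095 := d2_1 D74323 (iv5 D34095) D34094
def n74324 : Q := act 0 n34095
theorem D74324 : act 0 n34095 = n74324 := rfl
def n74325 : Q := act 1 n34095
theorem D74325 : act 1 n34095 = n74325 := rfl
theorem F111523 : act 3 n61443 = n74325 := d19_19 (iv1 D74325) (iv5 D34095) F26105 (iv3 D7690) D7688 D16552 F26207 (iv3 F26715) F23096 (iv5 D6706) (iv4 F7729) (iv3 F8734) (iv1 F8782) F8780 (iv4 F8749) (iv3 F19882) F23689 D29814 (iv4 F95941)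
theorem F111524 : act 4 n74325 = n63027 := d5_2 (iv4 F95941) F111523 (iv3 D63027) (iv4 D29815) (iv3 F47980)
def n74326 : Q := act 4 n34095
theorem D74326 : act 4 n34095 = n74326 := rfl
def n74327 : Q := act 6 n34095
theorem D74327 : act 6 n34095 = n74327 := rfl
theorem F111525 : act 3 n74327 = n34100 := d7_1 D74327 (iv6 D34100) (iv3 F53507)
theorem F111526 : act 5 n74327 = n53343 := d12_1 D74327 (iv6 D53343) (iv5 D25850) (iv6 F26106) D34095
def n74328 : Q := act 7 n34095
theorem D74328 : act 7 n34095 = n74328 := rfl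
theorem F111527 : act 3 n74328 = n34101 := d8_1 D74328 (iv7 D34101) (iv3 F53507)
theorem F111528 : act 5 n74328 = n34096 := d13_1 D74328 (iv7 D34096) D34095
def n74329 : Q := act 6 n34096
theorem D74329 : act 6 n34096 = n74329 := rfl
theorem F111529 : act 3 n74329 = n34102 := d7_1 D74329 (iv6 D34102) (iv3 F53508)
theorem F111530 : act 4 n74329 = n34228 := d10_1 D74329 (iv6 D34228) (iv4 F53509)
theorem F111531 : act 7 n74329 = n53345 := d14_2 D34096 D74329 (iv6 D53345) (iv7 D25851) (iv6 F26106)
def n74330 : Q := act 3 n34097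
theorem D74330 : act 3 n34097 = n74330 := rfl
def n74331 : Q := act 6 n34097
theorem D74331 : act 6 n34097 = n74331 := rfl
def n74332 : Q := act 3 n34098
theorem D74332 : act 3 n34098 = n74332 := rfl
def n74333 : Q := act 6 n34098
theorem D74333 : act 6 n34098 = n74333 := rfl
def n74334 : Q := act 3 n34099
theorem D74334 : act 3 n34099 = n74334 := rfl
def n74335 : Q := act 6 n34099
theorem D74335 : act 6 n34099 = n74335 := rfl
theorem F111532 : act 4 n74335 = n34100 := d10_1 D74335 (iv6 D34100) D34099
def n74336 : Q := act 0 n34100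
theorem D74336 : act 0 n34100 = n74336 := rfl
def n74337 : Q := act 1 n34100
theorem D74337 : act 1 n34100 = n74337 := rfl
def n74338 : Q := act 7 n34100
theorem D74338 : act 7 n34100 = n74338 := rfl
theorem F111533 : act 5 n74338 = n53354 := d13_1 D74338 (iv7 D53354) (iv5 F53510)
def n74339 : Q := act 6 n34101
theorem D74339 : act 6 n34101 = n74339 := rfl
def n74340 : Q := act 0 n34102
theorem D74340 : act 0 n34102 = n74340 := rfl
theorem F111534 : act 1 n53189 = n74340 := d15_0 (iv0 D74340) F53513 (iv2 F84012)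
def n74341 : Q := act 1 n34102
theorem D74341 : act 1 n34102 = n74341 := rfl
theorem F111535 : act 1 n74341 = n53189 := d15_1 D74341 (iv7 F111048) F111046
theorem F111536 : act 4 n59624 = n74341 := d20_6 D14773 F94130 F22666 (iv3 F22652) D28295 D59624 (iv1 D74341) F53512 F26108 (iv1 F11963)
def n74342 : Q := act 5 n34102
theorem D74342 : act 5 n34102 = n74342 := rfl
theorem F111537 : act 7 n74342 = n53358 := d13_2 (iv7 F53513) D74342 (iv5 D53358)
def n74343 : Q := act 3 n34103
theorem D74343 : act 3 n34103 = n74343 := rfl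
theorem F111538 : act 7 n74343 = n53360 := d8_2 (iv7 F99276) D74343 (iv3 D53360)
def n74344 : Q := act 4 n34103
theorem D74344 : act 4 n34103 = n74344 := rfl
theorem F111539 : act 2 n74344 = n53366 := d1_1 D74344 (iv4 D53366) (iv2 F99275)
theorem F111540 : act 7 n74344 = n53361 := d11_2 (iv7 F99276) D74344 (iv4 D53361)
def n74345 : Q := act 6 n34103
theorem D74345 : act 6 n34103 = n74345 := rfl
theorem F111541 : act 2 n74345 = n51719 := d3_1 D74345 (iv6 F81657) (iv2 F99275)
theorem F111542 : act 5 n74345 = n51695 := d12_1 D74345 (iv6 F101275) (iv5 D65547) D65548 F101278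
theorem F111543 : act 7 n74345 = n51714 := d14_2 (iv7 F99276) D74345 (iv6 F98433) F99271 (iv6 D53363)
theorem F111544 : act 0 n53293 = n74345 := d21_4 (iv5 D14455) D14453 (iv5 F84129) D53293 (iv6 D74345) (iv5 F101278) F101279 (iv5 F100581) (iv6 D64703) (iv1 D30441)
def n74346 : Q := act 3 n34104
theorem D74346 : act 3 n34104 = n74346 := rfl
theorem F111545 : act 7 n74346 = n53365 := d8_2 (iv7 F99274) D74346 (iv3 D53365)
theorem F111546 : act 4 n51246 = n74346 := d20_2 (iv4 F39070) D51246 (iv3 D74346) (iv1 D34104) F26108 (iv4 F26233) (iv1 F26235) (iv4 F101310) F100181 (iv1 D24925)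
theorem F111547 : act 7 n51244 = n51246 := d11_0 F111546 F111545 (iv4 F100228)
theorem F111548 : act 2 n51246 = n51243 := d15_3 (iv0 D51243) D51244 F111547
theorem F111549 : act 2 n51244 = n51247 := d15_3 F80840 F80839 (iv7 F111547)
theorem F111550 : act 7 n51247 = n51243 := d4_2 (iv7 F111547) F111549 (iv2 F111548)
def n74347 : Q := act 4 n34104
theorem D74347 : act 4 n34104 = n74347 := rfl
theorem F111551 : act 2 n74347 = n53361 := d1_1 D74347 (iv4 D53361) (iv2 F99273)
theorem F111552 : act 7 n74347 = n53366 := d11_2 (iv7 F99274) D74347 (iv4 D53366)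
def n74348 : Q := act 5 n34104
theorem D74348 : act 5 n34104 = n74348 := rfl
theorem F111553 : act 2 n74348 = n53362 := d2_1 D74348 (iv5 D53362) (iv2 F99273)
theorem F111554 : act 6 n74348 = n63818 := d12_2 (iv6 F98436) D74348 F99204 (iv6 D63174) D63173
theorem F111555 : act 7 n74348 = n53367 := d13_2 (iv7 F99274) D74348 (iv5 D53367)
theorem F111556 : act 0 n74348 = n67411 := d21_1 D74348 F111225 (iv6 D53228) (iv1 D25810) (iv6 D12254) (iv5 D5809) (iv1 F8941) (iv5 F20296) D25795 (iv1 F53515)
theorem F111557 : act 0 n64401 = n74348 := d21_10 (iv5 D74348) (iv1 D34104) F26109 (iv6 D16515) (iv1 F11904) (iv6 F24030) (iv5 D14390) D14388 D30325 D64401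
def n74349 : Q := act 3 n34105
theorem D74349 : act 3 n34105 = n74349 := rfl
theorem F111558 : act 7 n74349 = n65034 := d8_2 (iv7 F53576) D74349 (iv3 D65034)
def n74350 : Q := act 6 n34105
theorem D74350 : act 6 n34105 = n74350 := rfl
theorem F111559 : act 2 n74350 = n65039 := d3_1 D74350 (iv6 D65039) F53573
theorem F111560 : act 4 n74350 = n63355 := d10_1 D74350 (iv6 D63355) (iv4 F53516)
theorem F111561 : act 7 n74350 = n65990 := d14_2 (iv7 F53576) D74350 (iv6 D65990) (iv7 F101555) (iv6 D65036)
def n74351 : Q := act 3 n34106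
theorem D74351 : act 3 n34106 = n74351 := rfl
theorem F111562 : act 4 n74351 = n62590 := d5_2 (iv4 F53519) D74351 (iv3 D62590) F47513 (iv3 F48119)
theorem F111563 : act 6 n74351 = n65991 := d7_2 F93315 D74351 (iv3 D65991)
theorem F111564 : act 7 n74351 = n65037 := d8_2 F53574 D74351 (iv3 D65037)
def n74352 : Q := act 0 n34107
theorem D74352 : act 0 n34107 = n74352 := rfl
theorem F111565 : act 1 n65042 = n74352 := d15_0 (iv0 D74352) F53521 D65042
def n74353 : Q := act 1 n34107
theorem D74353 : act 1 n34107 = n74353 := rfl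
def n74354 : Q := act 2 n34107
theorem D74354 : act 2 n34107 = n74354 := rfl
theorem F111566 : act 4 n74354 = n34116 := d1_2 (iv4 F53520) D74354 (iv2 D34116)
theorem F111567 : act 7 n74354 = n65042 := d4_2 (iv7 F53521) D74354 (iv2 D65042)
theorem F111568 : act 1 n74354 = n65040 := d15_0 (iv0 D65040) (iv7 F53521) D74354
theorem F111569 : act 1 n74353 = n65042 := d15_1 D74353 (iv7 F111567) (iv2 D74354)
theorem F111570 : act 1 n65041 = n74354 := d15_1 D65041 F111567 (iv2 D65042)
def n74355 : Q := act 5 n34107
theorem D74355 : act 5 n34107 = n74355 := rfl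
theorem F111571 : act 3 n74355 = n34108 := d6_1 D74355 (iv5 D34108) D34107
theorem F111572 : act 7 n74355 = n65043 := d13_2 (iv7 F53521) D74355 (iv5 D65043)
def n74356 : Q := act 6 n34107
theorem D74356 : act 6 n34107 = n74356 := rfl
theorem F111573 : act 3 n74356 = n34109 := d7_1 D74356 (iv6 D34109) D34107
def n74357 : Q := act 6 n34108
theorem D74357 : act 6 n34108 = n74357 := rfl
theorem F111575 : act 4 n74357 = n63424 := d10_1 D74357 (iv6 D63424) (iv4 F53523)
def n74358 : Q := act 0 n34109
theorem D74358 : act 0 n34109 = n74358 := rfl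
def n74359 : Q := act 1 n34109
theorem D74359 : act 1 n34109 = n74359 := rfl
def n74360 : Q := act 5 n34109
theorem D74360 : act 5 n34109 = n74360 := rfl
theorem F111576 : act 1 n74360 = n66549 := d17_6 (iv1 F49455) (iv5 F84548) (iv1 D25952) (iv5 F26113) (iv4 F53525) D74360 (iv5 D66549) F102385 F102383
theorem F111577 : act 0 n50075 = n66550 := d21_4 (iv5 F100931) (iv1 F100933) (iv5 D50074) D50075 (iv6 D66550) D66549 (iv1 F111576) (iv5 D74360) (iv6 D34109) D34105
def n74361 : Q := act 7 n34109
theorem D74361 : act 7 n34109 = n74361 := rfl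
theorem F111578 : act 4 n74361 = n34112 := d11_1 D74361 (iv7 D34112) (iv4 F53525)
theorem F111579 : act 6 n74361 = n65048 := d14_1 D74361 (iv7 D65048) (iv6 D30552) (iv7 F26111) D34109
def n74362 : Q := act 4 n34110
theorem D74362 : act 4 n34110 = n74362 := rfl
theorem F111580 : act 6 n74362 = n53395 := d10_2 (iv6 F53526) D74362 (iv4 D53395)
def n74363 : Q := act 4 n34111
theorem D74363 : act 4 n34111 = n74363 := rfl
def n74364 : Q := act 6 n34111
theorem D74364 : act 6 n34111 = n74364 := rfl
theorem F111581 : act 5 n74364 = n53399 := d12_1 D74364 (iv6 D53399) (iv5 F49121) (iv6 F80854) F80855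
theorem F111582 : act 7 n74364 = n53399 := d14_2 F101221 D74364 (iv6 D53399) F101218 (iv6 F79260)
theorem F111583 : act 0 n74364 = n65938 := d21_10 F101631 (iv1 D49404) F37775 (iv6 D24109) (iv1 F19208) D14686 (iv5 F39074) D51262 F80855 D74364
theorem F111584 : act 0 n65875 = n53399 := d21_1 D65875 (iv5 F111581) (iv6 D74364) (iv1 D34111) (iv6 D16517) (iv5 D7673) F19490 (iv5 F18838) D24429 (iv1 F49245)
theorem F111585 : act 1 n65512 = n65938 := d15_0 (iv0 F111583) F111582 (iv2 F101230)
theorem F111586 : act 0 n51537 = n50313 := d21_1 (iv5 F81297) (iv5 F79694) D65938 (iv1 F111585) (iv6 D65512) (iv5 D30704) (iv1 F49127) (iv5 F79386) F79387 (iv1 F79274)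
def n74365 : Q := act 0 n34113
theorem D74365 : act 0 n34113 = n74365 := rfl
theorem F111587 : act 1 n62174 = n74365 := d15_0 (iv0 D74365) F53531 D62174
def n74366 : Q := act 1 n34113
theorem D74366 : act 1 n34113 = n74366 := rfl
def n74367 : Q := act 2 n34113
theorem D74367 : act 2 n34113 = n74367 := rfl
theorem F111589 : act 6 n74367 = n66130 := d3_2 (iv6 F53530) D74367 (iv2 D66130)
theorem F111590 : act 7 n74367 = n62174 := d4_2 (iv7 F53531) D74367 (iv2 D62174)
theorem F111592 : act 1 n74366 = n62174 := d15_1 D74366 (iv7 F111590) (iv2 D74367)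
def n74368 : Q := act 4 n34113
theorem D74368 : act 4 n34113 = n74368 := rfl
theorem F111594 : act 3 n74368 = n49905 := d5_1 D74368 (iv4 D49905) F38157 (iv4 F26116) D34113
theorem F111595 : act 6 n74368 = n66131 := d10_2 (iv6 F53530) D74368 (iv4 D66131)
theorem F111596 : act 7 n74368 = n62135 := d11_2 (iv7 F53531) D74368 F96856
def n74369 : Q := act 2 n34114
theorem D74369 : act 2 n34114 = n74369 := rfl
theorem F111597 : act 7 n34115 = n74369 := d15_2 (iv0 D34114) D34115 (iv2 D74369)
def n74370 : Q := act 3 n34114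
theorem D74370 : act 3 n34114 = n74370 := rfl
def n74371 : Q := act 4 n34114
theorem D74371 : act 4 n34114 = n74371 := rfl
def n74372 : Q := act 5 n34114
theorem D74372 : act 5 n34114 = n74372 := rfl
def n74373 : Q := act 6 n34114
theorem D74373 : act 6 n34114 = n74373 := rfl
def n74374 : Q := act 7 n34114
theorem D74374 : act 7 n34114 = n74374 := rfl
theorem F111598 : act 2 n74374 = n34115 := d4_1 D74374 F111597 (iv2 D74369)
def n74375 : Q := act 3 n34115
theorem D74375 : act 3 n34115 = n74375 := rfl
def n74376 : Q := act 4 n34115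
theorem D74376 : act 4 n34115 = n74376 := rfl
def n74377 : Q := act 5 n34115
theorem D74377 : act 5 n34115 = n74377 := rfl
def n74378 : Q := act 6 n34115
theorem D74378 : act 6 n34115 = n74378 := rfl
def n74379 : Q := act 5 n34116
theorem D74379 : act 5 n34116 = n74379 := rfl
theorem F111599 : act 2 n74379 = n34117 := d2_1 D74379 (iv5 D34117) D34116
theorem F111600 : act 3 n74379 = n65001 := d6_1 D74379 (iv5 D65001) (iv3 F53533)
theorem F111601 : act 7 n74379 = n65060 := d13_2 (iv7 F53534) D74379 (iv5 D65060)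
theorem F111602 : act 1 n65063 = n74379 := d15_1 D65063 F111601 F100856
theorem F111603 : act 1 n74379 = n65062 := d15_0 (iv0 D65062) (iv7 F53539) (iv2 F111599)
def n74380 : Q := act 6 n34116
theorem D74380 : act 6 n34116 = n74380 := rfl
theorem F111605 : act 3 n74380 = n65002 := d7_1 D74380 (iv6 D65002) (iv3 F53533)
def n74381 : Q := act 0 n34117
theorem D74381 : act 0 n34117 = n74381 := rfl
theorem F111606 : act 1 n65060 = n74381 := d15_0 (iv0 D74381) F53539 (iv2 F100856)
def n74382 : Q := act 1 n34117
theorem D74382 : act 1 n34117 = n74382 := rfl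
theorem F111607 : act 1 n74382 = n65060 := d15_1 D74382 (iv7 F111601) F111599
def n74383 : Q := act 4 n34117
theorem D74383 : act 4 n34117 = n74383 := rfl
theorem F111608 : act 3 n74383 = n34338 := d5_1 D74383 (iv4 D34338) (iv3 D16627) (iv4 F26121) (iv3 F53538)
def n74384 : Q := act 6 n34117
theorem D74384 : act 6 n34117 = n74384 := rfl
theorem F111610 : act 3 n74384 = n34119 := d7_1 D74384 (iv6 D34119) (iv3 F53538)
def n74389 : Q := act 0 n34119
theorem D74389 : act 0 n34119 = n74389 := rfl
def n74390 : Q := act 1 n34119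
theorem D74390 : act 1 n34119 = n74390 := rfl
theorem F111614 : act 1 n74390 = n65014 := d15_1 D74390 (iv7 D65014) (iv2 F53541)
def n74392 : Q := act 7 n34119
theorem D74392 : act 7 n34119 = n74392 := rfl
theorem F111617 : act 2 n74392 = n65014 := d4_1 D74392 (iv7 D65014) (iv2 F53541)
theorem F111618 : act 4 n74392 = n34342 := d11_1 D74392 (iv7 D34342) (iv4 F53542)
theorem F111620 : act 1 n65014 = n74389 := d15_0 (iv0 D74389) D74392 F111617
theorem F111621 : act 1 n65012 = n74392 := d15_1 D65012 (iv7 D74392) F53541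
theorem F111622 : act 1 n74392 = n65011 := d15_0 (iv0 D65011) D65014 (iv2 F111617)
def n74393 : Q := act 3 n34121
theorem D74393 : act 3 n34121 = n74393 := rfl
def n74396 : Q := act 4 n34124
theorem D74396 : act 4 n34124 = n74396 := rfl
theorem F111635 : act 2 n74396 = n64132 := d1_1 D74396 (iv4 D64132) (iv2 F111201)
theorem F111636 : act 6 n74396 = n53436 := d10_2 (iv6 F53553) D74396 (iv4 D53436)
theorem F111637 : act 7 n74396 = n64135 := d11_2 F111211 D74396 (iv4 D64135)
def n74397 : Q := act 3 n34125
theorem D74397 : act 3 n34125 = n74397 := rfl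
def n74398 : Q := act 3 n34127
theorem D74398 : act 3 n34127 = n74398 := rfl
def n74399 : Q := act 3 n34128
theorem D74399 : act 3 n34128 = n74399 := rfl
theorem F111641 : act 4 n74399 = n49245 := d5_2 D34128 D74399 (iv3 D49245) (iv4 D24033) (iv3 F26136)
theorem F111642 : act 5 n74399 = n63139 := d6_2 F53565 D74399 (iv3 D63139)
theorem F111643 : act 7 n74399 = n61839 := d8_2 (iv7 F53562) D74399 (iv3 D61839)
def n74400 : Q := act 6 n34128
theorem D74400 : act 6 n34128 = n74400 := rfl
theorem F111644 : act 4 n74400 = n34129 := d10_1 D74400 (iv6 D34129) D34128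
theorem F111645 : act 0 n63043 = n74400 := d21_4 D29985 D63484 F98813 (iv6 F98357) (iv6 D74400) (iv5 F53565) (iv1 D29854) (iv5 D14183) (iv6 F11032) D14238
theorem F111646 : act 0 n74400 = n61467 := d20_1 (iv4 F111644) (iv4 D61467) (iv3 D29093) (iv1 F23517) (iv3 F47589) (iv4 F97741) (iv1 F97743) (iv4 F96452) F96451 F95119
def n74401 : Q := act 0 n34129
theorem D74401 : act 0 n34129 = n74401 := rfl
def n74402 : Q := act 5 n34129
theorem D74402 : act 5 n34129 = n74402 := rfl
theorem F111647 : act 2 n74402 = n63355 := d2_1 D74402 F98660 F80573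
theorem F111648 : act 3 n74402 = n49249 := d6_1 D74402 (iv5 D49249) (iv3 F53566)
theorem F111649 : act 6 n74402 = n34130 := d12_2 D34129 D74402 (iv5 D34130) (iv6 D16526) D16525
theorem F111650 : act 4 n65039 = n74402 := d10_3 F111649 F53572 D65039
def n74403 : Q := act 7 n34129
theorem D74403 : act 7 n34129 = n74403 := rfl
theorem F111651 : act 3 n74403 = n49250 := d8_1 D74403 (iv7 D49250) (iv3 F53566)
theorem F111652 : act 6 n74403 = n61844 := d14_1 D74403 (iv7 D61844) (iv6 D29305) (iv7 F26137) D34129
theorem F111653 : act 1 n62027 = n74403 := d15_1 (iv0 F96656) (iv7 D74403) (iv2 F80573)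
def n74404 : Q := act 3 n34131
theorem D74404 : act 3 n34131 = n74404 := rfl
theorem F111654 : act 4 n74404 = n62582 := d5_2 D34131 D74404 (iv3 D62582) (iv4 D29591) F26144
theorem F111655 : act 7 n74404 = n64952 := d8_2 (iv7 F53578) D74404 (iv3 D64952)
def n74405 : Q := act 5 n34131
theorem D74405 : act 5 n34131 = n74405 := rfl
theorem F111657 : act 4 n74405 = n62991 := d9_1 D74405 (iv5 D62991) (iv4 D29801) F23679 F19498 D14232 D29969 D63435 F98764 (iv5 D61349) (iv4 D29041) F23082 (iv4 F24307) (iv5 F26140) D34131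
theorem F111658 : act 7 n74405 = n64953 := d13_2 (iv7 F53578) D74405 (iv5 D64953)
theorem F111659 : act 0 n74405 = n51306 := d17_2 F53580 D74405 (iv5 D51306) F39117 F38031 D24484 F47955 F47954 D29815
theorem F111660 : act 1 n74405 = n51303 := d17_6 (iv1 F19245) (iv5 F20353) F24310 (iv5 F26140) D34131 D74405 (iv5 D51303) (iv0 D24946) (iv4 D11846)
def n74406 : Q := act 3 n34132
theorem D74406 : act 3 n34132 = n74406 := rfl
theorem F111661 : act 4 n74406 = n64116 := d5_2 F78594 D74406 (iv3 D64116) F78915 (iv3 F78916)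
theorem F111662 : act 7 n74406 = n64959 := d8_2 (iv7 F53587) D74406 (iv3 D64959)
def n74407 : Q := act 6 n34132
theorem D74407 : act 6 n34132 = n74407 := rfl
theorem F111663 : act 2 n74407 = n53465 := d3_1 D74407 F84366 F53586
theorem F111664 : act 4 n74407 = n51114 := d10_1 D74407 (iv6 F80632) F78594
theorem F111665 : act 0 n74407 = n51408 := d21_4 D30567 D65089 F100876 D74407 (iv6 D51408) (iv5 F80664) (iv1 D51139) (iv5 D24887) (iv6 F38969) F38970
theorem F111666 : act 1 n74407 = n53467 := d15_1 (iv0 F111665) (iv7 D53467) (iv2 F81167)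
theorem F111667 : act 7 n74407 = n53464 := d15_2 (iv0 F104323) (iv0 F111665) (iv2 F104324)
theorem E10159 : n51485 = n51445 := ((c18_2 (iv1 F81019) D51445 (iv1 D51485) (iv4 F81263) F81264 (iv4 F111664) F111666 F84367 F81172 F81170)).symm
theorem F111668 : act 0 n51445 = n25020 := (sb E10159 (iv1 D51485))
def n74408 : Q := act 3 n34133
theorem D74408 : act 3 n34133 = n74408 := rfl
theorem F111669 : act 4 n74408 = n67615 := d5_2 (iv4 F53583) D74408 (iv3 D67615) (iv4 D31405) (iv3 F49665)
theorem F111670 : act 7 n74408 = n64962 := d8_2 F53585 D74408 (iv3 D64962)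
def n74409 : Q := act 6 n34133
theorem D74409 : act 6 n34133 = n74409 := rfl
theorem F111671 : act 2 n74409 = n64961 := d3_1 D74409 (iv6 D64961) F53584
theorem F111672 : act 4 n74409 = n67614 := d10_1 D74409 (iv6 D67614) (iv4 F53583)
def n74410 : Q := act 0 n34134
theorem D74410 : act 0 n34134 = n74410 := rfl
theorem F111673 : act 1 n64966 = n74410 := d15_0 (iv0 D74410) F53589 D64966
def n74411 : Q := act 1 n34134
theorem D74411 : act 1 n34134 = n74411 := rfl
def n74412 : Q := act 2 n34134
theorem D74412 : act 2 n34134 = n74412 := rfl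
theorem F111674 : act 4 n74412 = n34141 := d1_2 (iv4 F53588) D74412 (iv2 D34141)
theorem F111675 : act 7 n74412 = n64966 := d4_2 (iv7 F53589) D74412 (iv2 D64966)
theorem F111676 : act 1 n74412 = n64964 := d15_0 (iv0 D64964) (iv7 F53589) D74412
theorem F111677 : act 1 n74411 = n64966 := d15_1 D74411 (iv7 F111675) (iv2 D74412)
theorem F111678 : act 1 n64965 = n74412 := d15_1 D64965 F111675 (iv2 D64966)
def n74413 : Q := act 5 n34134
theorem D74413 : act 5 n34134 = n74413 := rfl
theorem F111679 : act 3 n74413 = n34135 := d6_1 D74413 (iv5 D34135) D34134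
theorem F111680 : act 7 n74413 = n64967 := d13_2 (iv7 F53589) D74413 (iv5 D64967)
def n74414 : Q := act 6 n34134
theorem D74414 : act 6 n34134 = n74414 := rfl
theorem F111681 : act 3 n74414 = n34136 := d7_1 D74414 (iv6 D34136) D34134
theorem F111682 : act 4 n74414 = n34143 := d10_1 D74414 (iv6 D34143) (iv4 F53588)
def n74415 : Q := act 0 n34135
theorem D74415 : act 0 n34135 = n74415 := rfl
theorem F111683 : act 5 n74415 = n34170 := d17_1 D74415 (iv1 F53724) D51266 F80868 (iv5 D29846) F47927 (iv5 F80892) F80894 (iv4 F80555)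
theorem F111684 : act 1 n51260 = n74415 := d15_0 (iv0 D74415) F53590 (iv2 F80850)
theorem F111685 : act 2 n51096 = n74415 := d2_3 F111683 (iv2 F53725) D51096
theorem F111686 : act 7 n64969 = n74415 := d13_0 F111683 (iv7 F53727) (iv5 F100768)
def n74416 : Q := act 1 n34135
theorem D74416 : act 1 n34135 = n74416 := rfl
theorem F111687 : act 1 n74416 = n51260 := d15_1 D74416 (iv7 F80913) F80912
theorem F111688 : act 7 n74416 = n51096 := d15_2 (iv0 D74415) D74416 F111685
theorem F111689 : act 5 n74416 = n34171 := d17_7 (iv1 F19250) F19248 (iv1 F10315) D7678 D16528 D34135 D74416 F53728 (iv4 D24928)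
theorem F111690 : act 4 n74416 = n51079 := d17_9 (iv1 F98233) (iv5 D62957) D62955 (iv5 F98378) (iv4 F100877) F100876 (iv0 D34132) D34135 D74416
theorem F111691 : act 2 n64969 = n74416 := d1_3 F111690 (iv2 F80577) (iv4 F100769)
def n74417 : Q := act 6 n34135
theorem D74417 : act 6 n34135 = n74417 := rfl
theorem F111692 : act 4 n74417 = n63138 := d10_1 D74417 (iv6 D63138) (iv4 F80555)
def n74418 : Q := act 0 n34136
theorem D74418 : act 0 n34136 = n74418 := rfl
theorem F111693 : act 2 n65458 = n74418 := d15_3 (iv0 D74418) (iv0 F53625) D65458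
theorem F111694 : act 7 n74418 = n53455 := d4_2 D65458 F111693 F84348
theorem F111695 : act 6 n65450 = n74418 := d14_5 F111694 (iv6 D53455) F40929 D30687 D65450
theorem F111696 : act 1 n65440 = n74418 := d15_1 F101155 F111694 F84348
def n74419 : Q := act 5 n34136
theorem D74419 : act 5 n34136 = n74419 := rfl
def n74420 : Q := act 7 n34136
theorem D74420 : act 7 n34136 = n74420 := rfl
theorem F111697 : act 2 n74420 = n65440 := d4_1 D74420 F101154 F80915
theorem F111698 : act 4 n74420 = n34138 := d11_1 D74420 (iv7 D34138) (iv4 F53591)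
theorem F111699 : act 6 n74420 = n64974 := d14_1 D74420 (iv7 D64974) (iv6 D30523) (iv7 F26145) D34136
theorem F111700 : act 1 n53455 = n74420 := d15_1 (iv0 F84349) (iv7 D74420) (iv2 F80915)
theorem F111701 : act 1 n74420 = n65458 := d15_1 F111700 (iv7 D65458) (iv2 F84348)
theorem E10160 : n63106 = n63072 := ((c18_2 (iv1 F98254) D63072 (iv1 D63106) (iv4 F80558) (iv5 F93900) F93899 F111700 F111698 F53602 (iv5 F98252))).symm
theorem F111702 : act 0 n63072 = n29844 := (sb E10160 (iv1 D63106))
def n74421 : Q := act 4 n34137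
theorem D74421 : act 4 n34137 = n74421 := rfl
theorem F111703 : act 2 n74421 = n65439 := d1_1 D74421 F101153 F53592
theorem F111704 : act 6 n74421 = n65419 := d10_2 F53596 D74421 F101113
theorem F111705 : act 7 n74421 = n53453 := d11_2 (iv7 F53593) D74421 F84345
theorem F111706 : act 0 n63028 = n74421 := d20_1 (iv4 F98344) (iv4 D74421) F82466 (iv1 F82467) F82458 (iv4 F99854) (iv1 F99855) (iv4 F100298) F100297 F93901
theorem F111707 : act 1 n65437 = n74421 := d15_1 D65437 F111705 F84344
def n74422 : Q := act 2 n34139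
theorem D74422 : act 2 n34139 = n74422 := rfl
theorem F111708 : act 7 n34140 = n74422 := d15_2 (iv0 D34139) D34140 (iv2 D74422)
def n74423 : Q := act 3 n34139
theorem D74423 : act 3 n34139 = n74423 := rfl
def n74424 : Q := act 4 n34139
theorem D74424 : act 4 n34139 = n74424 := rfl
def n74425 : Q := act 5 n34139
theorem D74425 : act 5 n34139 = n74425 := rfl
def n74426 : Q := act 6 n34139
theorem D74426 : act 6 n34139 = n74426 := rfl
def n74427 : Q := act 7 n34139
theorem D74427 : act 7 n34139 = n74427 := rfl
def n74428 : Q := act 3 n34140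
theorem D74428 : act 3 n34140 = n74428 := rfl
def n74429 : Q := act 4 n34140
theorem D74429 : act 4 n34140 = n74429 := rfl
def n74430 : Q := act 5 n34140
theorem D74430 : act 5 n34140 = n74430 := rfl
def n74431 : Q := act 6 n34140
theorem D74431 : act 6 n34140 = n74431 := rfl
def n74432 : Q := act 5 n34141
theorem D74432 : act 5 n34141 = n74432 := rfl
theorem F111710 : act 2 n74432 = n34142 := d2_1 D74432 (iv5 D34142) D34141
theorem F111714 : act 1 n74432 = n65003 := d15_0 (iv0 D65003) (iv7 F53610) (iv2 F111710)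
def n74433 : Q := act 6 n34141
theorem D74433 : act 6 n34141 = n74433 := rfl
theorem F111715 : act 2 n74433 = n34143 := d3_1 D74433 (iv6 D34143) D34141
theorem F111716 : act 3 n74433 = n65061 := d7_1 D74433 (iv6 D65061) (iv3 F53604)
def n74434 : Q := act 0 n34142
theorem D74434 : act 0 n34142 = n74434 := rfl
theorem F111717 : act 3 n74434 = n61179 := d20_5 (iv4 D7731) D7729 (iv4 F26150) (iv3 F53609) D74434 (iv4 D61179) (iv1 D28973) D28974 F46600 (iv1 F26222)
theorem F111718 : act 1 n65001 = n74434 := d15_0 (iv0 D74434) F53610 (iv2 F100797)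
def n74435 : Q := act 1 n34142
theorem D74435 : act 1 n34142 = n74435 := rfl
def n74436 : Q := act 4 n34142
theorem D74436 : act 4 n34142 = n74436 := rfl
theorem F111720 : act 3 n74436 = n34332 := d5_1 D74436 (iv4 D34332) (iv3 D16625) (iv4 F26150) (iv3 F53609)
theorem F111721 : act 7 n74436 = n65005 := d11_2 (iv7 F53610) D74436 (iv4 D65005)
def n74438 : Q := act 0 n34143
theorem D74438 : act 0 n34143 = n74438 := rfl
def n74439 : Q := act 1 n34143
theorem D74439 : act 1 n34143 = n74439 := rfl
def n74440 : Q := act 5 n34143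
theorem D74440 : act 5 n34143 = n74440 := rfl
theorem F111723 : act 3 n74440 = n34145 := d6_1 D74440 (iv5 D34145) (iv3 F53611)
def n74441 : Q := act 0 n34144
theorem D74441 : act 0 n34144 = n74441 := rfl
def n74442 : Q := act 5 n34144
theorem D74442 : act 5 n34144 = n74442 := rfl
theorem F111725 : act 6 n74442 = n34145 := d12_2 D34144 D74442 (iv5 D34145) (iv6 D16532) D16531
def n74443 : Q := act 7 n34144
theorem D74443 : act 7 n34144 = n74443 := rfl
theorem F111726 : act 2 n74443 = n65073 := d4_1 D74443 (iv7 D65073) (iv2 F53612)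
theorem F111729 : act 1 n65073 = n74441 := d15_0 (iv0 D74441) D74443 F111726
def n74444 : Q := act 0 n34145
theorem D74444 : act 0 n34145 = n74444 := rfl
theorem F111732 : act 5 n74444 = n53553 := d17_3 F26156 D34145 D74444 F84472 F76930 (iv0 D29386) F23285 (iv0 F20490) (iv4 F24238)
theorem F111734 : act 2 n65076 = n74444 := d2_3 F111732 F84471 (iv5 F100866)
def n74445 : Q := act 1 n34145
theorem D74445 : act 1 n34145 = n74445 := rfl
theorem F111737 : act 7 n74445 = n65076 := d15_2 (iv0 D74444) D74445 F111734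
def n74446 : Q := act 4 n34145
theorem D74446 : act 4 n34145 = n74446 := rfl
theorem F111740 : act 2 n74446 = n65078 := d1_1 D74446 (iv4 D65078) (iv2 F53614)
def n74447 : Q := act 3 n34146
theorem D74447 : act 3 n34146 = n74447 := rfl
theorem F111741 : act 6 n74447 = n65571 := d7_2 (iv6 F53616) D74447 F101290
theorem F111742 : act 7 n74447 = n53403 := d8_2 (iv7 F53617) D74447 F84260
def n74448 : Q := act 5 n34146
theorem D74448 : act 5 n34146 = n74448 := rfl
theorem F111743 : act 2 n74448 = n65081 := d2_1 D74448 (iv5 D65081) (iv2 F53615)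
theorem F111744 : act 7 n74448 = n53404 := d13_2 (iv7 F53617) D74448 (iv5 D53404)
theorem F111745 : act 0 n74448 = n65622 := d17_2 (iv1 F53618) D74448 (iv5 F101360) F94147 F45848 F23350 (iv5 F27065) (iv0 D16588) (iv4 F27062)
theorem F111746 : act 1 n74448 = n65621 := d17_6 F48210 (iv5 D30011) (iv1 F23774) (iv5 F26158) D34146 D74448 F101359 F97036 F49443
def n74449 : Q := act 3 n34147
theorem D74449 : act 3 n34147 = n74449 := rfl
theorem F111747 : act 4 n74449 = n64424 := d5_2 (iv4 F53626) D74449 (iv3 D64424) (iv4 F78924) F78920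
theorem F111748 : act 5 n74449 = n63522 := d6_2 F53630 D74449 (iv3 D63522)
theorem F111749 : act 7 n74449 = n63325 := d8_2 (iv7 F53629) D74449 (iv3 D63325)
def n74450 : Q := act 6 n34147
theorem D74450 : act 6 n34147 = n74450 := rfl
theorem F111750 : act 2 n74450 = n63381 := d3_1 D74450 (iv6 D63381) F53627
theorem F111751 : act 4 n74450 = n63327 := d10_1 D74450 (iv6 D63327) (iv4 F53626)
theorem F111752 : act 7 n74450 = n53503 := d14_2 (iv7 F53629) D74450 (iv6 D53503) (iv7 F40969) (iv6 F48068)
theorem F111753 : act 1 n66513 = n74450 := d15_1 D66513 F111752 F84415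
theorem F111754 : act 1 n74450 = n66512 := d15_0 (iv0 D66512) (iv7 F98685) (iv2 F111750)
def n74451 : Q := act 0 n34148
theorem D74451 : act 0 n34148 = n74451 := rfl
theorem F111755 : act 1 n65154 = n74451 := d15_0 (iv0 D74451) F53633 D65154
def n74452 : Q := act 1 n34148
theorem D74452 : act 1 n34148 = n74452 := rfl
theorem F111756 : act 4 n65245 = n74452 := d20_6 F18671 (iv1 F7929) (iv4 F11207) D14520 D30623 D65245 (iv1 D74452) F53632 (iv3 D16537) (iv1 F18673)
def n74453 : Q := act 2 n34148
theorem D74453 : act 2 n34148 = n74453 := rfl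
theorem F111757 : act 4 n74453 = n34156 := d1_2 (iv4 F53632) D74453 (iv2 D34156)
theorem F111758 : act 7 n74453 = n65154 := d4_2 (iv7 F53633) D74453 (iv2 D65154)
theorem F111759 : act 1 n74453 = n65152 := d15_0 (iv0 D65152) (iv7 F53633) D74453
theorem F111760 : act 1 n74452 = n65154 := d15_1 D74452 (iv7 F111758) (iv2 D74453)
theorem F111761 : act 1 n65153 = n74453 := d15_1 D65153 F111758 (iv2 D65154)
def n74454 : Q := act 5 n34148
theorem D74454 : act 5 n34148 = n74454 := rfl
theorem F111762 : act 3 n74454 = n34149 := d6_1 D74454 (iv5 D34149) D34148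
theorem F111763 : act 7 n74454 = n65155 := d13_2 (iv7 F53633) D74454 (iv5 D65155)
def n74455 : Q := act 6 n34148
theorem D74455 : act 6 n34148 = n74455 := rfl
theorem F111764 : act 3 n74455 = n34150 := d7_1 D74455 (iv6 D34150) D34148
theorem F111765 : act 4 n74455 = n34158 := d10_1 D74455 (iv6 D34158) (iv4 F53632)
def n74456 : Q := act 6 n34149
theorem D74456 : act 6 n34149 = n74456 := rfl
theorem F111766 : act 4 n74456 = n63467 := d10_1 D74456 (iv6 D63467) (iv4 F53635)
def n74457 : Q := act 0 n34150
theorem D74457 : act 0 n34150 = n74457 := rfl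
def n74458 : Q := act 1 n34150
theorem D74458 : act 1 n34150 = n74458 := rfl
def n74459 : Q := act 5 n34150
theorem D74459 : act 5 n34150 = n74459 := rfl
def n74460 : Q := act 7 n34150
theorem D74460 : act 7 n34150 = n74460 := rfl
theorem F111767 : act 4 n74460 = n34153 := d11_1 D74460 (iv7 D34153) (iv4 F53636)
theorem F111768 : act 6 n74460 = n65163 := d14_1 D74460 (iv7 D65163) (iv6 D30592) (iv7 F26166) D34150
def n74461 : Q := act 3 n34151
theorem D74461 : act 3 n34151 = n74461 := rfl
theorem F111769 : act 6 n74461 = n49563 := d7_2 (iv6 F95820) D74461 F104352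
theorem F111770 : act 2 n49425 = n74461 := d3_3 F111769 F78316 (iv6 F99520)
theorem F111771 : act 7 n49426 = n74461 := d15_2 (iv0 D49425) D49426 (iv2 F111770)
theorem F111772 : act 3 n50077 = n49426 := d8_3 F111771 (iv3 D74461) F102450
def n74462 : Q := act 4 n34151
theorem D74462 : act 4 n34151 = n74462 := rfl
theorem F111773 : act 2 n74462 = n66581 := d1_1 D74462 F102490 (iv2 F102449)
theorem F111774 : act 6 n74462 = n66504 := d10_2 (iv6 F95820) D74462 (iv4 D66504)
def n74463 : Q := act 5 n34151
theorem D74463 : act 5 n34151 = n74463 := rfl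
theorem F111775 : act 2 n74463 = n66582 := d2_1 D74463 (iv5 D66582) (iv2 F102449)
theorem F111776 : act 6 n74463 = n65099 := d12_2 (iv6 F95820) D74463 (iv5 D65099) (iv6 F95819) (iv5 F95818)
theorem F111777 : act 7 n74463 = n50406 := d13_2 (iv7 F102450) D74463 F79766
theorem F111778 : act 0 n74463 = n65941 := d21_1 D74463 (iv5 D65941) (iv6 F101257) (iv1 D63045) F47991 (iv5 D14173) F23682 (iv5 F11932) D16536 D34151
theorem F111779 : act 0 n50313 = n74463 := d21_10 (iv5 D74463) (iv1 F79275) (iv5 F80991) (iv6 F80995) (iv1 F81427) (iv6 F101694) D66010 (iv1 F101695) (iv5 D50312) D50313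
def n74464 : Q := act 3 n34152
theorem D74464 : act 3 n34152 = n74464 := rfl
theorem F111780 : act 7 n74464 = n66578 := d8_2 F102452 D74464 F102489
def n74465 : Q := act 4 n34152
theorem D74465 : act 4 n34152 = n74465 := rfl
theorem F111781 : act 7 n74465 = n66581 := d11_2 F102452 D74465 F102490
theorem F111782 : act 0 n74465 = n50126 := d18_2 (iv1 F79274) D74465 (iv4 F98568) F98569 F82767 F94231 F81187 F80996 F80991
theorem F111783 : act 1 n74462 = n50126 := d15_0 (iv0 F111782) F111781 (iv2 F111773)
def n74466 : Q := act 6 n34152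
theorem D74466 : act 6 n34152 = n74466 := rfl
theorem F111784 : act 2 n74466 = n66006 := d3_1 D74466 F101689 F102451
theorem F111785 : act 5 n74466 = n51362 := d12_1 D74466 (iv6 F81296) (iv5 D51536) D51537 F81297
theorem F111786 : act 7 n74466 = n66010 := d14_2 F102452 D74466 F101692 (iv7 F102441) D31070
theorem F111787 : act 0 n74466 = n66571 := d21_10 (iv5 F102426) (iv1 F79483) F49270 D30880 (iv1 F98358) F101257 D65941 F101657 F81297 D74466
theorem F111788 : act 1 n74466 = n65876 := d15_1 (iv0 F111787) (iv7 F101640) (iv2 F102427)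
def n74467 : Q := act 2 n34154
theorem D74467 : act 2 n34154 = n74467 := rfl
def n74468 : Q := act 3 n34154
theorem D74468 : act 3 n34154 = n74468 := rfl
def n74469 : Q := act 4 n34154
theorem D74469 : act 4 n34154 = n74469 := rfl
def n74470 : Q := act 5 n34154
theorem D74470 : act 5 n34154 = n74470 := rfl
def n74471 : Q := act 6 n34154
theorem D74471 : act 6 n34154 = n74471 := rfl
def n74472 : Q := act 7 n34154
theorem D74472 : act 7 n34154 = n74472 := rfl
def n74473 : Q := act 3 n34155
theorem D74473 : act 3 n34155 = n74473 := rfl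
def n74474 : Q := act 4 n34155
theorem D74474 : act 4 n34155 = n74474 := rfl
def n74475 : Q := act 5 n34155
theorem D74475 : act 5 n34155 = n74475 := rfl
def n74476 : Q := act 6 n34155
theorem D74476 : act 6 n34155 = n74476 := rfl
def n74477 : Q := act 5 n34156
theorem D74477 : act 5 n34156 = n74477 := rfl
theorem F111791 : act 2 n74477 = n34157 := d2_1 D74477 (iv5 D34157) D34156
theorem F111792 : act 3 n74477 = n65114 := d6_1 D74477 (iv5 D65114) (iv3 F53641)
theorem F111793 : act 7 n74477 = n65181 := d13_2 (iv7 F53642) D74477 (iv5 D65181)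
theorem F111794 : act 1 n65184 = n74477 := d15_1 D65184 F111793 F100947
theorem F111795 : act 1 n74477 = n65183 := d15_0 (iv0 D65183) (iv7 F53647) (iv2 F111791)
def n74478 : Q := act 6 n34156
theorem D74478 : act 6 n34156 = n74478 := rfl
theorem F111796 : act 2 n74478 = n34158 := d3_1 D74478 (iv6 D34158) D34156
theorem F111797 : act 3 n74478 = n65115 := d7_1 D74478 (iv6 D65115) (iv3 F53641)
def n74479 : Q := act 0 n34157
theorem D74479 : act 0 n34157 = n74479 := rfl
theorem F111798 : act 1 n65181 = n74479 := d15_0 (iv0 D74479) F53647 (iv2 F100947)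
def n74480 : Q := act 1 n34157
theorem D74480 : act 1 n34157 = n74480 := rfl
def n74481 : Q := act 4 n34157
theorem D74481 : act 4 n34157 = n74481 := rfl
theorem F111800 : act 3 n74481 = n34301 := d5_1 D74481 (iv4 D34301) F27091 (iv4 F26172) (iv3 F53646)
theorem F111801 : act 7 n74481 = n65185 := d11_2 (iv7 F53647) D74481 (iv4 D65185)
def n74482 : Q := act 6 n34157
theorem D74482 : act 6 n34157 = n74482 := rfl
theorem F111802 : act 3 n74482 = n34159 := d7_1 D74482 (iv6 D34159) (iv3 F53646)
def n74483 : Q := act 0 n34158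
theorem D74483 : act 0 n34158 = n74483 := rfl
def n74484 : Q := act 1 n34158
theorem D74484 : act 1 n34158 = n74484 := rfl
def n74485 : Q := act 5 n34158
theorem D74485 : act 5 n34158 = n74485 := rfl
theorem F111803 : act 3 n74485 = n34162 := d6_1 D74485 (iv5 D34162) (iv3 F53648)
def n74486 : Q := act 7 n34158
theorem D74486 : act 7 n34158 = n74486 := rfl
def n74487 : Q := act 0 n34159
theorem D74487 : act 0 n34159 = n74487 := rfl
def n74488 : Q := act 1 n34159
theorem D74488 : act 1 n34159 = n74488 := rfl
theorem F111806 : act 1 n74488 = n65127 := d15_1 D74488 (iv7 D65127) (iv2 F53649)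
def n74489 : Q := act 5 n34159
theorem D74489 : act 5 n34159 = n74489 := rfl
theorem F111807 : act 2 n74489 = n65126 := d2_1 D74489 (iv5 D65126) (iv2 F53649)
theorem F111808 : act 6 n74489 = n34162 := d12_2 D34159 D74489 (iv5 D34162) (iv6 D16539) D16538
def n74490 : Q := act 7 n34159
theorem D74490 : act 7 n34159 = n74490 := rfl
theorem F111809 : act 2 n74490 = n65127 := d4_1 D74490 (iv7 D65127) (iv2 F53649)
theorem F111810 : act 4 n74490 = n34307 := d11_1 D74490 (iv7 D34307) (iv4 F53650)
theorem F111812 : act 1 n65127 = n74487 := d15_0 (iv0 D74487) D74490 F111809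
theorem F111813 : act 1 n65125 = n74490 := d15_1 D65125 (iv7 D74490) F53649
theorem F111814 : act 1 n74490 = n65124 := d15_0 (iv0 D65124) D65127 (iv2 F111809)
def n74491 : Q := act 3 n34160
theorem D74491 : act 3 n34160 = n74491 := rfl
theorem F111815 : act 6 n74491 = n53625 := d7_2 (iv6 F53669) D74491 (iv3 D53625)
theorem F111816 : act 7 n74491 = n65130 := d8_2 (iv7 F78679) D74491 (iv3 D65130)
def n74492 : Q := act 5 n34160
theorem D74492 : act 5 n34160 = n74492 := rfl
theorem F111819 : act 0 n74492 = n65595 := d17_2 D34160 D74492 (iv5 D65595) (iv4 D30738) (iv5 F38681) (iv0 F53710) (iv5 D34166) (iv0 D16540) (iv4 F26174)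
theorem F111820 : act 1 n74492 = n65589 := d17_6 D25281 (iv5 F45450) F79073 (iv5 D49985) (iv4 F53660) D74492 (iv5 D65589) F49705 F24234
def n74493 : Q := act 3 n34161
theorem D74493 : act 3 n34161 = n74493 := rfl
theorem F111821 : act 7 n74493 = n65128 := d8_2 F78665 D74493 (iv3 D65128)
def n74494 : Q := act 5 n34161
theorem D74494 : act 5 n34161 = n74494 := rfl
theorem F111822 : act 2 n74494 = n65131 := d2_1 D74494 (iv5 D65131) (iv2 F78677)
theorem F111823 : act 7 n74494 = n65129 := d13_2 F78665 D74494 (iv5 D65129)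
theorem F111824 : act 0 n74494 = n65589 := d17_2 (iv1 F53651) D74494 (iv5 D65589) (iv4 D30736) (iv5 F38665) (iv0 F39631) F39630 F26177 (iv4 F48996)
theorem F111825 : act 1 n74494 = n65595 := d17_6 (iv1 F39907) (iv5 F45507) F45506 F45367 (iv4 F53652) D74494 (iv5 D65595) F49711 F49709
def n74495 : Q := act 4 n34162
theorem D74495 : act 4 n34162 = n74495 := rfl
theorem F111826 : act 2 n74495 = n65134 := d1_1 D74495 (iv4 D65134) (iv2 F53653)
def n74496 : Q := act 0 n34164
theorem D74496 : act 0 n34164 = n74496 := rfl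
def n74497 : Q := act 1 n34164
theorem D74497 : act 1 n34164 = n74497 := rfl
def n74498 : Q := act 2 n34164
theorem D74498 : act 2 n34164 = n74498 := rfl
theorem F111828 : act 3 n74498 = n65138 := d0_2 D34164 D74498 (iv2 D65138) (iv3 D30583) (iv2 F49015)
theorem F111829 : act 6 n74498 = n53641 := d3_2 (iv6 F53700) D74498 (iv2 D53641)
theorem F111830 : act 7 n74498 = n65146 := d4_2 (iv7 F53701) D74498 (iv2 D65146)
def n74499 : Q := act 4 n34164
theorem D74499 : act 4 n34164 = n74499 := rfl
theorem F111834 : act 6 n74499 = n53642 := d10_2 (iv6 F53700) D74499 (iv4 D53642)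
theorem F111835 : act 7 n74499 = n65147 := d11_2 (iv7 F53701) D74499 (iv4 D65147)
def n74500 : Q := act 5 n34164
theorem D74500 : act 5 n34164 = n74500 := rfl
theorem F111836 : act 3 n74500 = n34166 := d6_1 D74500 (iv5 D34166) D34164
theorem F111837 : act 6 n74500 = n65140 := d12_2 (iv6 F53700) D74500 (iv5 D65140) F48999 (iv5 F41044)
theorem F111838 : act 7 n74500 = n50871 := d13_2 (iv7 F53701) D74500 (iv5 F80241)
def n74501 : Q := act 3 n34165
theorem D74501 : act 3 n34165 = n74501 := rfl
theorem F111839 : act 6 n74501 = n53643 := d7_2 (iv6 F53703) D74501 (iv3 D53643)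
theorem F111840 : act 7 n74501 = n65149 := d8_2 (iv7 F53704) D74501 (iv3 D65149)
def n74502 : Q := act 5 n34165
theorem D74502 : act 5 n34165 = n74502 := rfl
theorem F111842 : act 7 n74502 = n65150 := d13_2 (iv7 F53704) D74502 (iv5 D65150)
theorem F111843 : act 0 n74502 = n65580 := d17_2 (iv1 F53717) D74502 (iv5 D65580) F49196 (iv5 F45323) (iv0 F78641) (iv5 D49780) (iv0 D24270) (iv4 F26209)
theorem F111844 : act 1 n74502 = n65577 := d17_6 D14564 (iv5 F38665) F53711 (iv5 D34166) D34165 D74502 (iv5 D65577) (iv0 D30731) F24225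
def n74503 : Q := act 4 n34166
theorem D74503 : act 4 n34166 = n74503 := rfl
theorem F111847 : act 7 n74503 = n50875 := d11_2 (iv7 F53709) D74503 F80243
theorem F111848 : act 0 n74503 = n50713 := d17_0 F81601 (iv1 D51686) (iv5 D25104) F19665 (iv5 F11222) D14565 (iv5 F38681) (iv0 F53710) D74503
theorem F111849 : act 1 n74503 = n50643 := d18_6 (iv1 D24271) (iv4 F26209) (iv1 F53717) (iv4 D34165) D34166 D74503 F80005 (iv0 F45520) F45519
def n74504 : Q := act 0 n34167
theorem D74504 : act 0 n34167 = n74504 := rfl
theorem F111850 : act 1 n65138 = n74504 := d15_0 (iv0 D74504) F53712 D65138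
def n74506 : Q := act 2 n34167
theorem D74506 : act 2 n34167 = n74506 := rfl
theorem F111851 : act 3 n74506 = n65146 := d0_2 D34167 D74506 (iv2 D65146) (iv3 D30587) (iv2 F49017)
theorem F111852 : act 7 n74506 = n65138 := d4_2 (iv7 F53712) D74506 (iv2 D65138)
theorem F111853 : act 1 n74506 = n65136 := d15_0 (iv0 D65136) (iv7 F53712) D74506
theorem F111855 : act 1 n65137 = n74506 := d15_1 D65137 F111852 (iv2 D65138)
def n74507 : Q := act 4 n34167
theorem D74507 : act 4 n34167 = n74507 := rfl
theorem F111856 : act 7 n74507 = n65139 := d11_2 (iv7 F53712) D74507 (iv4 D65139)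
def n74508 : Q := act 6 n34167
theorem D74508 : act 6 n34167 = n74508 := rfl
theorem F111857 : act 3 n74508 = n34169 := d7_1 D74508 (iv6 D34169) D34167
theorem F111858 : act 5 n74508 = n51596 := d12_1 D74508 F81946 (iv5 D51913) D51914 (iv5 F81948)
theorem F111859 : act 7 n74508 = n53635 := d14_2 (iv7 F53712) D74508 (iv6 D53635) F49031 (iv6 F48999)
def n74509 : Q := act 3 n34168
theorem D74509 : act 3 n34168 = n74509 := rfl
theorem F111860 : act 7 n74509 = n65141 := d8_2 (iv7 F53714) D74509 (iv3 D65141)
def n74510 : Q := act 5 n34168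
theorem D74510 : act 5 n34168 = n74510 := rfl
theorem F111863 : act 0 n74510 = n65577 := d17_2 (iv1 F53716) D74510 (iv5 D65577) F79951 (iv5 F45307) (iv0 F45520) F45519 F38215 (iv4 F49089)
theorem F111864 : act 1 n74510 = n65580 := d17_6 (iv1 F38642) (iv5 F38681) F39632 F39630 D34168 D74510 (iv5 D65580) F79960 F79958
def n74511 : Q := act 6 n34168
theorem D74511 : act 6 n34168 = n74511 := rfl
theorem F111865 : act 2 n74511 = n65151 := d3_1 D74511 (iv6 D65151) (iv2 F53713)
theorem F111866 : act 4 n74511 = n34169 := d10_1 D74511 (iv6 D34169) D34168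
theorem F111867 : act 7 n74511 = n53638 := d14_2 (iv7 F53714) D74511 (iv6 D53638) F49032 (iv6 F49000)
theorem F111868 : act 5 n74511 = n53954 := d21_6 D30817 (iv1 F101484) F101486 F53843 (iv1 F53716) D74511 (iv1 F85090) F50057 (iv6 F41160) F53789
theorem F111869 : act 0 n74511 = n59239 := d21_10 F101779 (iv1 D66153) (iv5 D30924) D30925 (iv1 F95433) F95431 D65580 (iv1 F111864) (iv5 D74510) D74511
theorem F111870 : act 0 n53820 = n74511 := d21_4 D65857 F101507 (iv5 D53819) D53820 (iv6 D74511) D74510 F111863 (iv5 D65577) D65578 F101332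
def n74512 : Q := act 3 n34170
theorem D74512 : act 3 n34170 = n74512 := rfl
theorem F111871 : act 4 n74512 = n64154 := d5_2 (iv4 F53723) D74512 (iv3 D64154) F48625 (iv3 F38895)
theorem F111872 : act 6 n74512 = n51090 := d7_2 F53726 D74512 (iv3 D51090)
theorem F111873 : act 7 n74512 = n65082 := d8_2 F53727 D74512 (iv3 D65082)
def n74513 : Q := act 3 n34171
theorem D74513 : act 3 n34171 = n74513 := rfl
theorem F111874 : act 4 n74513 = n51162 := d5_2 F53730 D74513 F80709 F39033 (iv3 F38971)
theorem F111875 : act 7 n74513 = n51095 := d8_2 (iv7 F53729) D74513 (iv3 D51095)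
def n74514 : Q := act 6 n34171
theorem D74514 : act 6 n34171 = n74514 := rfl
theorem F111876 : act 2 n74514 = n65083 := d3_1 D74514 (iv6 D65083) (iv2 F53731)
theorem F111877 : act 4 n74514 = n51097 := d10_1 D74514 (iv6 D51097) F53730
theorem F111878 : act 7 n74514 = n51143 := d14_2 (iv7 F53729) D74514 (iv6 D51143) (iv7 D24888) (iv6 F38969)
theorem F111879 : act 1 n66220 = n74514 := d15_1 D66220 F111878 F80677
theorem E10161 : n67392 = n65083 := ((c15_4 (iv0 D67392) (iv0 F101319) (iv7 F111878) F111876)).symm
theorem F111880 : act 1 n65083 = n31325 := (sb E10161 (iv0 D67392))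
theorem E10163 : n68114 = n64923 := (c20_11 (iv4 D64923) (iv1 D30504) F24116 F11190 D7035 D14767 D31325 (iv1 F111880) F100870 F98290 (iv1 F104265))
theorem F111882 : act 0 n64923 = n31712 := (sb E10163 (iv1 D68114))
theorem F111883 : act 1 n64923 = n62007 := (sb E10163 F104265)
theorem E10165 : n66220 = n53839 := (c20_8 (iv4 F20478) D26018 F94145 D28351 (iv1 F100217) (iv3 F80603) (iv4 F111877) (iv1 F111879) (iv4 D53839) (iv3 D26025) (iv1 D12334))
theorem F111889 : act 0 n53839 = n30948 := (sb E10165 (iv1 D66220))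
theorem F111890 : act 1 n53839 = n74514 := (sb E10165 F111879)
theorem E10166 : n67389 = n66219 := (c15_4 (iv0 D66219) (iv0 F111889) F84870 (iv2 F103251))
theorem F111892 : act 2 n66219 = n31325 := (sb E10166 F103251)
theorem F111893 : act 4 n66219 = n31324 := (sb E10166 (iv4 D67389))
theorem F111894 : act 1 n74514 = n66219 := d15_0 (iv0 D66219) (iv7 F100871) (iv2 F111876)
def n74515 : Q := act 0 n34172
theorem D74515 : act 0 n34172 = n74515 := rfl
theorem F111896 : act 1 n65086 = n74515 := d15_0 (iv0 D74515) F53733 D65086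
theorem F111897 : act 4 n65304 = n74515 := d20_0 (iv1 F111896) F100872 (iv3 F53641) (iv1 F53645) D65177 (iv4 F101026) (iv1 F101031) (iv4 D30642) D30641 D65304
def n74516 : Q := act 1 n34172
theorem D74516 : act 1 n34172 = n74516 := rfl
theorem F111898 : act 4 n65213 = n74516 := d20_6 (iv4 D5350) D5349 (iv4 F11206) D14517 D30613 D65213 (iv1 D74516) F53732 (iv3 D16545) F11943
def n74517 : Q := act 2 n34172
theorem D74517 : act 2 n34172 = n74517 := rfl
theorem F111899 : act 4 n74517 = n34180 := d1_2 (iv4 F53732) D74517 (iv2 D34180)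
theorem F111900 : act 7 n74517 = n65086 := d4_2 (iv7 F53733) D74517 (iv2 D65086)
theorem F111901 : act 1 n74517 = n65084 := d15_0 (iv0 D65084) (iv7 F53733) D74517
theorem F111902 : act 1 n74516 = n65086 := d15_1 D74516 (iv7 F111900) (iv2 D74517)
theorem F111903 : act 1 n65085 = n74517 := d15_1 D65085 F111900 (iv2 D65086)
def n74518 : Q := act 5 n34172
theorem D74518 : act 5 n34172 = n74518 := rfl
theorem F111904 : act 3 n74518 = n34173 := d6_1 D74518 (iv5 D34173) D34172
theorem F111905 : act 7 n74518 = n65087 := d13_2 (iv7 F53733) D74518 (iv5 D65087)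
def n74519 : Q := act 6 n34172
theorem D74519 : act 6 n34172 = n74519 := rfl
def n74520 : Q := act 6 n34173
theorem D74520 : act 6 n34173 = n74520 := rfl
theorem F111908 : act 4 n74520 = n63104 := d10_1 D74520 (iv6 D63104) (iv4 F53735)
def n74521 : Q := act 0 n34174
theorem D74521 : act 0 n34174 = n74521 := rfl
def n74522 : Q := act 1 n34174
theorem D74522 : act 1 n34174 = n74522 := rfl
def n74523 : Q := act 5 n34174
theorem D74523 : act 5 n34174 = n74523 := rfl
def n74524 : Q := act 7 n34174
theorem D74524 : act 7 n34174 = n74524 := rfl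
theorem F111909 : act 4 n74524 = n34177 := d11_1 D74524 (iv7 D34177) (iv4 F53736)
theorem F111910 : act 6 n74524 = n65095 := d14_1 D74524 (iv7 D65095) (iv6 D30568) (iv7 F26183) D34174
def n74525 : Q := act 4 n34175
theorem D74525 : act 4 n34175 = n74525 := rfl
theorem F111911 : act 7 n74525 = n66278 := d11_2 (iv7 F102104) D74525 F101861
def n74526 : Q := act 6 n34175
theorem D74526 : act 6 n34175 = n74526 := rfl
theorem F111912 : act 2 n74526 = n66294 := d3_1 D74526 F102203 F102165
theorem F111913 : act 5 n74526 = n63388 := d12_1 D74526 (iv6 F102143) (iv5 F100943) (iv6 D65167) F80934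
theorem F111914 : act 7 n74526 = n66214 := d14_2 (iv7 F102104) D74526 (iv6 D66214) F102117 D30965
theorem F111915 : act 0 n74526 = n65386 := d21_4 (iv5 F24154) D30593 F80934 D74526 (iv6 D65386) D65385 F101081 F100777 (iv6 D30709) (iv1 D14551)
theorem F111916 : act 1 n74526 = n66293 := d15_1 (iv0 F111915) F102201 F101130
def n74527 : Q := act 4 n34176
theorem D74527 : act 4 n34176 = n74527 := rfl
theorem F111917 : act 2 n74527 = n66278 := d1_1 D74527 F101861 (iv2 F102107)
theorem F111918 : act 6 n74527 = n66209 := d10_2 F80932 D74527 (iv4 D66209)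
def n74528 : Q := act 2 n34178
theorem D74528 : act 2 n34178 = n74528 := rfl
theorem F111919 : act 7 n34179 = n74528 := d15_2 (iv0 D34178) D34179 (iv2 D74528)
def n74529 : Q := act 3 n34178
theorem D74529 : act 3 n34178 = n74529 := rfl
def n74530 : Q := act 4 n34178
theorem D74530 : act 4 n34178 = n74530 := rfl
def n74531 : Q := act 5 n34178
theorem D74531 : act 5 n34178 = n74531 := rfl
def n74532 : Q := act 6 n34178
theorem D74532 : act 6 n34178 = n74532 := rfl
def n74533 : Q := act 7 n34178
theorem D74533 : act 7 n34178 = n74533 := rfl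
theorem F111920 : act 2 n74533 = n34179 := d4_1 D74533 F111919 (iv2 D74528)
def n74534 : Q := act 3 n34179
theorem D74534 : act 3 n34179 = n74534 := rfl
def n74535 : Q := act 4 n34179
theorem D74535 : act 4 n34179 = n74535 := rfl
def n74536 : Q := act 5 n34179
theorem D74536 : act 5 n34179 = n74536 := rfl
def n74537 : Q := act 6 n34179
theorem D74537 : act 6 n34179 = n74537 := rfl
def n74538 : Q := act 5 n34180
theorem D74538 : act 5 n34180 = n74538 := rfl
theorem F111921 : act 2 n74538 = n34181 := d2_1 D74538 (iv5 D34181) D34180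
theorem F111923 : act 7 n74538 = n65114 := d13_2 (iv7 F53742) D74538 (iv5 D65114)
theorem F111924 : act 1 n65117 = n74538 := d15_1 D65117 F111923 F100893
theorem F111925 : act 1 n74538 = n65116 := d15_0 (iv0 D65116) (iv7 F53747) (iv2 F111921)
def n74539 : Q := act 6 n34180
theorem D74539 : act 6 n34180 = n74539 := rfl
def n74540 : Q := act 0 n34181
theorem D74540 : act 0 n34181 = n74540 := rfl
theorem F111928 : act 1 n65114 = n74540 := d15_0 (iv0 D74540) F53747 (iv2 F100893)
def n74541 : Q := act 1 n34181
theorem D74541 : act 1 n34181 = n74541 := rfl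
theorem F111929 : act 1 n74541 = n65114 := d15_1 D74541 (iv7 F111923) F111921
def n74542 : Q := act 4 n34181
theorem D74542 : act 4 n34181 = n74542 := rfl
theorem F111930 : act 3 n74542 = n34292 := d5_1 D74542 (iv4 D34292) F27087 (iv4 F26188) (iv3 F53746)
def n74543 : Q := act 6 n34181
theorem D74543 : act 6 n34181 = n74543 := rfl
theorem F111932 : act 3 n74543 = n34183 := d7_1 D74543 (iv6 D34183) (iv3 F53746)
def n74548 : Q := act 0 n34183
theorem D74548 : act 0 n34183 = n74548 := rfl
def n74549 : Q := act 1 n34183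
theorem D74549 : act 1 n34183 = n74549 := rfl
theorem F111936 : act 1 n74549 = n65194 := d15_1 D74549 (iv7 D65194) (iv2 F53749)
def n74550 : Q := act 5 n34183
theorem D74550 : act 5 n34183 = n74550 := rfl
def n74551 : Q := act 7 n34183
theorem D74551 : act 7 n34183 = n74551 := rfl
theorem F111939 : act 2 n74551 = n65194 := d4_1 D74551 (iv7 D65194) (iv2 F53749)
theorem F111940 : act 4 n74551 = n34296 := d11_1 D74551 (iv7 D34296) (iv4 F53750)
theorem F111942 : act 1 n65194 = n74548 := d15_0 (iv0 D74548) D74551 F111939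
theorem F111943 : act 1 n65192 = n74551 := d15_1 D65192 (iv7 D74551) F53749
def n74553 : Q := act 3 n34188
theorem D74553 : act 3 n34188 = n74553 := rfl
def n74554 : Q := act 6 n34188
theorem D74554 : act 6 n34188 = n74554 := rfl
theorem F111951 : act 4 n74554 = n34189 := d10_1 D74554 (iv6 D34189) D34188
theorem F111953 : act 0 n74554 = n53815 := d21_4 D14829 D31471 (iv5 F53807) D74554 (iv6 D53815) D53814 (iv1 F101508) (iv5 D65857) (iv6 D30818) (iv1 F53788)
theorem F111954 : act 1 n74554 = n62241 := d15_1 (iv0 F111953) (iv7 F101306) F101304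
def n74555 : Q := act 4 n34190
theorem D74555 : act 4 n34190 = n74555 := rfl
theorem F111955 : act 2 n74555 = n64192 := d1_1 D74555 (iv4 D64192) (iv2 F101967)
theorem F111956 : act 6 n74555 = n53561 := d10_2 (iv6 F53771) D74555 (iv4 D53561)
theorem F111957 : act 7 n74555 = n64188 := d11_2 F101973 D74555 (iv4 D64188)
def n74556 : Q := act 3 n34191
theorem D74556 : act 3 n34191 = n74556 := rfl
theorem F111959 : act 6 n74556 = n53563 := d7_2 (iv6 F53774) D74556 (iv3 D53563)
theorem F111960 : act 7 n74556 = n65205 := d8_2 (iv7 F53775) D74556 (iv3 D65205)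
def n74557 : Q := act 2 n34192
theorem D74557 : act 2 n34192 = n74557 := rfl
theorem F111961 : act 7 n34193 = n74557 := d15_2 (iv0 D34192) D34193 (iv2 D74557)
def n74558 : Q := act 3 n34192
theorem D74558 : act 3 n34192 = n74558 := rfl
theorem F111962 : act 4 n74558 = n65153 := d20_6 (iv4 D5310) D5308 (iv4 F11946) D16551 D34192 D74558 (iv1 D65153) F49037 (iv3 D14511) F11204
def n74559 : Q := act 4 n34192
theorem D74559 : act 4 n34192 = n74559 := rfl
def n74560 : Q := act 5 n34192
theorem D74560 : act 5 n34192 = n74560 := rfl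
def n74561 : Q := act 6 n34192
theorem D74561 : act 6 n34192 = n74561 := rfl
def n74562 : Q := act 7 n34192
theorem D74562 : act 7 n34192 = n74562 := rfl
theorem F111963 : act 2 n74562 = n34193 := d4_1 D74562 F111961 (iv2 D74557)
def n74563 : Q := act 3 n34193
theorem D74563 : act 3 n34193 = n74563 := rfl
def n74564 : Q := act 4 n34193
theorem D74564 : act 4 n34193 = n74564 := rfl
def n74565 : Q := act 5 n34193
theorem D74565 : act 5 n34193 = n74565 := rfl
def n74566 : Q := act 6 n34193
theorem D74566 : act 6 n34193 = n74566 := rfl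
def n74567 : Q := act 4 n34194
theorem D74567 : act 4 n34194 = n74567 := rfl
theorem F111964 : act 2 n74567 = n34195 := d1_1 D74567 (iv4 D34195) D34194
theorem F111965 : act 7 n74567 = n65254 := d11_2 (iv7 F53810) D74567 (iv4 D65254)
theorem F111966 : act 0 n74567 = n65258 := d20_1 D74567 (iv4 F100997) (iv3 D65105) (iv1 F53743) F53741 (iv4 F100927) (iv1 F111760) (iv4 F111756) (iv3 D65245) (iv1 F53811)
theorem F111967 : act 1 n74567 = n65257 := d15_0 (iv0 D65257) (iv7 F53815) (iv2 F111964)
def n74568 : Q := act 5 n34194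
theorem D74568 : act 5 n34194 = n74568 := rfl
theorem F111968 : act 2 n74568 = n34196 := d2_1 D74568 (iv5 D34196) D34194
theorem F111970 : act 7 n74568 = n65255 := d13_2 (iv7 F53810) D74568 (iv5 D65255)
theorem F111971 : act 1 n65262 = n74568 := d15_1 D65262 F111970 F100995
theorem F111972 : act 1 n74568 = n65261 := d15_0 (iv0 D65261) (iv7 F53817) (iv2 F111968)
def n74569 : Q := act 6 n34194
theorem D74569 : act 6 n34194 = n74569 := rfl
theorem F111973 : act 2 n74569 = n34197 := d3_1 D74569 (iv6 D34197) D34194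
theorem F111974 : act 3 n74569 = n65224 := d7_1 D74569 (iv6 D65224) (iv3 F53809)
def n74570 : Q := act 0 n34195
theorem D74570 : act 0 n34195 = n74570 := rfl
theorem F111975 : act 1 n65254 = n74570 := d15_0 (iv0 D74570) F53815 (iv2 F100994)
def n74571 : Q := act 1 n34195
theorem D74571 : act 1 n34195 = n74571 := rfl
theorem F111976 : act 1 n74571 = n65254 := d15_1 D74571 (iv7 F111965) F111964
theorem F111977 : act 4 n74529 = n74571 := d20_6 F11209 (iv1 F5468) D7686 D16545 D34178 D74529 (iv1 D74571) (iv4 D34195) (iv3 D16551) (iv1 F11949)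
def n74572 : Q := act 5 n34195
theorem D74572 : act 5 n34195 = n74572 := rfl
theorem F111978 : act 3 n74572 = n49434 := d6_1 D74572 (iv5 D49434) (iv3 F53814)
theorem F111979 : act 7 n74572 = n65259 := d13_2 (iv7 F53815) D74572 (iv5 D65259)
def n74573 : Q := act 6 n34195
theorem D74573 : act 6 n34195 = n74573 := rfl
theorem F111980 : act 3 n74573 = n49435 := d7_1 D74573 (iv6 D49435) (iv3 F53814)
theorem F111981 : act 4 n74573 = n34197 := d10_1 D74573 (iv6 D34197) D34195
def n74574 : Q := act 0 n34196
theorem D74574 : act 0 n34196 = n74574 := rfl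
theorem F111982 : act 1 n65255 = n74574 := d15_0 (iv0 D74574) F53817 (iv2 F100995)
def n74575 : Q := act 1 n34196
theorem D74575 : act 1 n34196 = n74575 := rfl
theorem F111983 : act 1 n74575 = n65255 := d15_1 D74575 (iv7 F111970) F111968
def n74576 : Q := act 6 n34196
theorem D74576 : act 6 n34196 = n74576 := rfl
theorem F111984 : act 3 n74576 = n34198 := d7_1 D74576 (iv6 D34198) (iv3 F53816)
def n74577 : Q := act 0 n34197
theorem D74577 : act 0 n34197 = n74577 := rfl
def n74578 : Q := act 1 n34197
theorem D74578 : act 1 n34197 = n74578 := rfl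
def n74579 : Q := act 5 n34197
theorem D74579 : act 5 n34197 = n74579 := rfl
theorem F111985 : act 3 n74579 = n34199 := d6_1 D74579 (iv5 D34199) (iv3 F53818)
def n74580 : Q := act 7 n34197
theorem D74580 : act 7 n34197 = n74580 := rfl
def n74581 : Q := act 0 n34198
theorem D74581 : act 0 n34198 = n74581 := rfl
def n74582 : Q := act 1 n34198
theorem D74582 : act 1 n34198 = n74582 := rfl
def n74583 : Q := act 5 n34198
theorem D74583 : act 5 n34198 = n74583 := rfl
theorem F111989 : act 2 n74583 = n65239 := d2_1 D74583 (iv5 D65239) (iv2 F53819)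
theorem F111990 : act 6 n74583 = n34199 := d12_2 D34198 D74583 (iv5 D34199) (iv6 D16553) D16552
def n74584 : Q := act 7 n34198
theorem D74584 : act 7 n34198 = n74584 := rfl
theorem F111991 : act 2 n74584 = n65240 := d4_1 D74584 (iv7 D65240) (iv2 F53819)
theorem F111992 : act 4 n74584 = n34282 := d11_1 D74584 (iv7 D34282) (iv4 F53820)
theorem F111995 : act 1 n65238 = n74584 := d15_1 D65238 (iv7 D74584) F53819
theorem F111996 : act 1 n74584 = n65237 := d15_0 (iv0 D65237) D65240 (iv2 F111991)
def n74585 : Q := act 4 n34199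
theorem D74585 : act 4 n34199 = n74585 := rfl
theorem F111997 : act 2 n74585 = n65242 := d1_1 D74585 (iv4 D65242) (iv2 F53821)
theorem F111998 : act 0 n74585 = n65652 := d18_2 (iv1 F101340) D74585 (iv4 D65652) (iv5 D30755) F24234 D25282 (iv4 F79944) F79943 (iv5 F101339)
def n74587 : Q := act 3 n34201
theorem D74587 : act 3 n34201 = n74587 := rfl
theorem F112000 : act 4 n74587 = n65085 := d20_6 F18787 (iv1 F8139) (iv4 F11952) D16554 D34201 D74587 (iv1 D65085) F48988 (iv3 D14503) (iv1 F18790)
def n74588 : Q := act 4 n34201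
theorem D74588 : act 4 n34201 = n74588 := rfl
def n74589 : Q := act 5 n34201
theorem D74589 : act 5 n34201 = n74589 := rfl
def n74590 : Q := act 6 n34201
theorem D74590 : act 6 n34201 = n74590 := rfl
def n74592 : Q := act 3 n34202
theorem D74592 : act 3 n34202 = n74592 := rfl
def n74593 : Q := act 4 n34202
theorem D74593 : act 4 n34202 = n74593 := rfl
def n74594 : Q := act 5 n34202
theorem D74594 : act 5 n34202 = n74594 := rfl
def n74595 : Q := act 6 n34202
theorem D74595 : act 6 n34202 = n74595 := rfl
def n74596 : Q := act 4 n34203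
theorem D74596 : act 4 n34203 = n74596 := rfl
theorem F112002 : act 2 n74596 = n34204 := d1_1 D74596 (iv4 D34204) D34203
theorem F112003 : act 7 n74596 = n65222 := d11_2 (iv7 F53829) D74596 (iv4 D65222)
theorem F112004 : act 0 n74596 = n65226 := d20_1 D74596 (iv4 F100978) (iv3 D65172) (iv1 F53643) F53641 (iv4 F100872) (iv1 F111902) (iv4 F111898) (iv3 D65213) (iv1 F53830)
theorem F112005 : act 1 n74596 = n65225 := d15_0 (iv0 D65225) (iv7 F53834) (iv2 F112002)
def n74597 : Q := act 5 n34203
theorem D74597 : act 5 n34203 = n74597 := rfl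
theorem F112006 : act 2 n74597 = n34205 := d2_1 D74597 (iv5 D34205) D34203
theorem F112010 : act 1 n74597 = n65229 := d15_0 (iv0 D65229) (iv7 F53836) (iv2 F112006)
def n74599 : Q := act 0 n34204
theorem D74599 : act 0 n34204 = n74599 := rfl
theorem F112013 : act 1 n65222 = n74599 := d15_0 (iv0 D74599) F53834 (iv2 F100975)
def n74600 : Q := act 1 n34204
theorem D74600 : act 1 n34204 = n74600 := rfl
theorem F112014 : act 1 n74600 = n65222 := d15_1 D74600 (iv7 F112003) F112002
theorem F112015 : act 4 n74468 = n74600 := d20_6 (iv4 D3486) D3484 D7683 D16537 D34154 D74468 (iv1 D74600) (iv4 D34204) (iv3 D16554) (iv1 D7689)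
def n74601 : Q := act 5 n34204
theorem D74601 : act 5 n34204 = n74601 := rfl
theorem F112016 : act 3 n74601 = n49650 := d6_1 D74601 (iv5 D49650) (iv3 F53833)
theorem F112017 : act 7 n74601 = n65227 := d13_2 (iv7 F53834) D74601 (iv5 D65227)
def n74602 : Q := act 6 n34204
theorem D74602 : act 6 n34204 = n74602 := rfl
theorem F112018 : act 3 n74602 = n49647 := d7_1 D74602 F78410 (iv3 F53833)
theorem F112019 : act 4 n74602 = n34206 := d10_1 D74602 (iv6 D34206) D34204
def n74605 : Q := act 4 n34205
theorem D74605 : act 4 n34205 = n74605 := rfl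
theorem F112022 : act 3 n74605 = n34274 := d5_1 D74605 (iv4 D34274) F27075 (iv4 F26212) (iv3 F53835)
def n74606 : Q := act 6 n34205
theorem D74606 : act 6 n34205 = n74606 := rfl
theorem F112024 : act 3 n74606 = n34207 := d7_1 D74606 (iv6 D34207) (iv3 F53835)
def n74609 : Q := act 5 n34206
theorem D74609 : act 5 n34206 = n74609 := rfl
def n74610 : Q := act 7 n34206
theorem D74610 : act 7 n34206 = n74610 := rfl
theorem F112026 : act 3 n74610 = n34209 := d8_1 D74610 (iv7 D34209) (iv3 F53837)
def n74611 : Q := act 0 n34207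
theorem D74611 : act 0 n34207 = n74611 := rfl
def n74612 : Q := act 1 n34207
theorem D74612 : act 1 n34207 = n74612 := rfl
def n74613 : Q := act 5 n34207
theorem D74613 : act 5 n34207 = n74613 := rfl
theorem F112030 : act 6 n74613 = n34208 := d12_2 D34207 D74613 (iv5 D34208) (iv6 D16556) D16555
def n74614 : Q := act 7 n34207
theorem D74614 : act 7 n34207 = n74614 := rfl
theorem F112031 : act 2 n74614 = n65271 := d4_1 D74614 (iv7 D65271) (iv2 F53838)
theorem F112032 : act 4 n74614 = n34278 := d11_1 D74614 (iv7 D34278) (iv4 F53839)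
theorem F112033 : act 6 n74614 = n65240 := d14_1 D74614 (iv7 D65240) (iv6 D30619) (iv7 F26213) D34207
theorem F112034 : act 1 n65271 = n74611 := d15_0 (iv0 D74611) D74614 F112031
theorem F112035 : act 1 n65269 = n74614 := d15_1 D65269 (iv7 D74614) F53838
theorem F112036 : act 1 n74614 = n65268 := d15_0 (iv0 D65268) D65271 (iv2 F112031)
def n74616 : Q := act 6 n34210
theorem D74616 : act 6 n34210 = n74616 := rfl
theorem F112042 : act 2 n74616 = n34228 := d3_1 D74616 (iv6 D34228) F53846
theorem F112043 : act 3 n74616 = n65274 := d7_1 D74616 (iv6 D65274) (iv3 F53847)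
theorem F112044 : act 7 n74616 = n53706 := d14_2 (iv7 F53848) D74616 (iv6 D53706) F41088 (iv6 F26217)
theorem F112045 : act 1 n53781 = n74616 := d15_1 D53781 F112044 F84736
theorem F112046 : act 1 n74616 = n53780 := d15_0 (iv0 D53780) (iv7 F53859) (iv2 F112042)
def n74617 : Q := act 0 n34211
theorem D74617 : act 0 n34211 = n74617 := rfl
theorem F112047 : act 1 n34216 = n74617 := d15_0 (iv0 D74617) (iv7 F53850) (iv2 F53851)
def n74618 : Q := act 1 n34211
theorem D74618 : act 1 n34211 = n74618 := rfl
theorem F112048 : act 1 n74618 = n34216 := d15_1 D74618 (iv7 D34216) D34211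
def n74619 : Q := act 3 n34211
theorem D74619 : act 3 n34211 = n74619 := rfl
theorem F112049 : act 7 n74619 = n34217 := d8_2 F53850 D74619 (iv3 D34217)
def n74620 : Q := act 4 n34211
theorem D74620 : act 4 n34211 = n74620 := rfl
theorem F112050 : act 2 n74620 = n34213 := d1_1 D74620 (iv4 D34213) D34211
theorem F112051 : act 7 n74620 = n34218 := d11_2 F53850 D74620 (iv4 D34218)
def n74621 : Q := act 5 n34211
theorem D74621 : act 5 n34211 = n74621 := rfl
theorem F112052 : act 2 n74621 = n34214 := d2_1 D74621 (iv5 D34214) D34211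
theorem F112053 : act 7 n74621 = n34219 := d13_2 F53850 D74621 (iv5 D34219)
def n74622 : Q := act 6 n34211
theorem D74622 : act 6 n34211 = n74622 := rfl
def n74623 : Q := act 0 n34212
theorem D74623 : act 0 n34212 = n74623 := rfl
def n74624 : Q := act 1 n34212
theorem D74624 : act 1 n34212 = n74624 := rfl
def n74625 : Q := act 2 n34212
theorem D74625 : act 2 n34212 = n74625 := rfl
def n74626 : Q := act 4 n34212
theorem D74626 : act 4 n34212 = n74626 := rfl
theorem F112055 : act 0 n74626 = n49766 := d20_7 (iv4 D7686) (iv1 D3485) D3486 D7690 D16557 D34212 D74626 F78624 F38054 (iv1 F18672)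
theorem F112057 : act 3 n65304 = n74624 := d20_9 D74626 F112055 F78624 F38054 (iv1 F18672) D16545 (iv4 F53732) D74515 (iv4 F111897) (iv1 D74624)
def n74628 : Q := act 6 n34212
theorem D74628 : act 6 n34212 = n74628 := rfl
theorem F112059 : act 3 n74628 = n34215 := d7_1 D74628 (iv6 D34215) D34212
def n74629 : Q := act 7 n34212
theorem D74629 : act 7 n34212 = n74629 := rfl
theorem F112060 : act 3 n74629 = n34216 := d8_1 D74629 (iv7 D34216) D34212
def n74630 : Q := act 0 n34213
theorem D74630 : act 0 n34213 = n74630 := rfl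
theorem F112061 : act 4 n74630 = n74534 := d20_2 D34213 D74630 (iv3 D74534) (iv1 D34179) (iv3 D16545) (iv4 D7686) (iv1 D3485) D3486 D7690 D16557
def n74631 : Q := act 1 n34213
theorem D74631 : act 1 n34213 = n74631 := rfl
theorem F112062 : act 1 n74631 = n34218 := d15_1 D74631 (iv7 F112051) F112050
def n74632 : Q := act 3 n34213
theorem D74632 : act 3 n34213 = n74632 := rfl
def n74633 : Q := act 5 n34213
theorem D74633 : act 5 n34213 = n74633 := rfl
def n74634 : Q := act 6 n34213
theorem D74634 : act 6 n34213 = n74634 := rfl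
theorem F112063 : act 4 n74634 = n34215 := d10_1 D74634 (iv6 D34215) D34213
def n74635 : Q := act 7 n34213
theorem D74635 : act 7 n34213 = n74635 := rfl
theorem F112064 : act 2 n74635 = n34218 := d4_1 D74635 (iv7 F112051) F112050
theorem F112065 : act 4 n74635 = n34216 := d11_1 D74635 (iv7 D34216) D34213
theorem F112066 : act 1 n34218 = n74630 := d15_0 (iv0 D74630) D74635 F112064
def n74636 : Q := act 0 n34214
theorem D74636 : act 0 n34214 = n74636 := rfl
def n74637 : Q := act 1 n34214
theorem D74637 : act 1 n34214 = n74637 := rfl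
theorem F112067 : act 1 n74637 = n34219 := d15_1 D74637 (iv7 F112053) F112052
def n74640 : Q := act 7 n34214
theorem D74640 : act 7 n34214 = n74640 := rfl
theorem F112068 : act 2 n74640 = n34219 := d4_1 D74640 (iv7 F112053) F112052
theorem F112069 : act 5 n74640 = n34216 := d13_1 D74640 (iv7 D34216) D34214
theorem F112070 : act 1 n34219 = n74636 := d15_0 (iv0 D74636) D74640 F112068
def n74641 : Q := act 0 n34215
theorem D74641 : act 0 n34215 = n74641 := rfl
def n74642 : Q := act 1 n34215
theorem D74642 : act 1 n34215 = n74642 := rfl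
def n74643 : Q := act 5 n34215
theorem D74643 : act 5 n34215 = n74643 := rfl
def n74644 : Q := act 7 n34215
theorem D74644 : act 7 n34215 = n74644 := rfl
def n74646 : Q := act 0 n34217
theorem D74646 : act 0 n34217 = n74646 := rfl
theorem F112072 : act 4 n74646 = n65152 := d20_0 (iv1 F111759) F111757 F53641 (iv1 F53744) D74534 (iv4 F112061) (iv1 F112066) (iv4 D34218) D34217 D74646
theorem F112073 : act 3 n74646 = n65282 := d20_3 (iv4 F49037) D65152 (iv4 F112072) (iv1 D65282) (iv3 D30636) D30637 D65288 F101026 (iv3 D65177) (iv1 D30597)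
def n74647 : Q := act 1 n34217
theorem D74647 : act 1 n34217 = n74647 := rfl
def n74648 : Q := act 2 n34217
theorem D74648 : act 2 n34217 = n74648 := rfl
def n74649 : Q := act 4 n34217
theorem D74649 : act 4 n34217 = n74649 := rfl
theorem F112074 : act 0 n74469 = n74649 := d20_1 D74469 (iv4 D74649) (iv3 D34217) (iv1 D16558) (iv3 D7690) (iv4 D3486) D3484 D7683 D16537 D34154
def n74652 : Q := act 3 n34218
theorem D74652 : act 3 n34218 = n74652 := rfl
theorem F112077 : act 0 n64424 = n74652 := d20_4 (iv4 F45716) (iv1 F78923) F78924 D64424 (iv3 D74652) (iv4 D34218) (iv1 D16558) (iv4 F26105) (iv3 D16512) D16510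
def n74653 : Q := act 5 n34218
theorem D74653 : act 5 n34218 = n74653 := rfl
def n74654 : Q := act 6 n34218
theorem D74654 : act 6 n34218 = n74654 := rfl
def n74662 : Q := act 3 n34221
theorem D74662 : act 3 n34221 = n74662 := rfl
def n74663 : Q := act 4 n34221
theorem D74663 : act 4 n34221 = n74663 := rfl
def n74664 : Q := act 5 n34221
theorem D74664 : act 5 n34221 = n74664 := rfl
def n74667 : Q := act 3 n34222
theorem D74667 : act 3 n34222 = n74667 := rfl
theorem F112081 : act 4 n74667 = n49763 := d20_6 (iv4 D6928) (iv1 F5479) (iv4 F11957) (iv3 F26219) (iv1 F53853) D74667 (iv1 D49763) F38032 (iv3 D11426) (iv1 F11202)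
def n74668 : Q := act 4 n34222
theorem D74668 : act 4 n34222 = n74668 := rfl
def n74669 : Q := act 5 n34222
theorem D74669 : act 5 n34222 = n74669 := rfl
def n74671 : Q := act 4 n34223
theorem D74671 : act 4 n34223 = n74671 := rfl
theorem F112082 : act 2 n74671 = n34226 := d1_1 D74671 (iv4 D34226) (iv2 F53854)
def n74672 : Q := act 6 n34223
theorem D74672 : act 6 n34223 = n74672 := rfl
theorem F112083 : act 2 n74672 = n34227 := d3_1 D74672 (iv6 D34227) (iv2 F53854)
theorem F112084 : act 3 n74672 = n65330 := d7_1 D74672 (iv6 D65330) (iv3 F53855)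
theorem F112085 : act 5 n74672 = n53762 := d12_1 D74672 (iv6 D53762) (iv5 D26005) (iv6 F26217) D34223
def n74673 : Q := act 2 n34224
theorem D74673 : act 2 n34224 = n74673 := rfl
theorem F112086 : act 7 n34225 = n74673 := d15_2 (iv0 D34224) D34225 (iv2 D74673)
def n74674 : Q := act 3 n34224
theorem D74674 : act 3 n34224 = n74674 := rfl
def n74675 : Q := act 4 n34224
theorem D74675 : act 4 n34224 = n74675 := rfl
def n74676 : Q := act 5 n34224
theorem D74676 : act 5 n34224 = n74676 := rfl
def n74677 : Q := act 6 n34224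
theorem D74677 : act 6 n34224 = n74677 := rfl
def n74678 : Q := act 7 n34224
theorem D74678 : act 7 n34224 = n74678 := rfl
theorem F112087 : act 2 n74678 = n34225 := d4_1 D74678 F112086 (iv2 D74673)
def n74679 : Q := act 3 n34225
theorem D74679 : act 3 n34225 = n74679 := rfl
def n74680 : Q := act 4 n34225
theorem D74680 : act 4 n34225 = n74680 := rfl
def n74681 : Q := act 5 n34225
theorem D74681 : act 5 n34225 = n74681 := rfl
def n74682 : Q := act 6 n34225
theorem D74682 : act 6 n34225 = n74682 := rfl
def n74683 : Q := act 0 n34226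
theorem D74683 : act 0 n34226 = n74683 := rfl
def n74684 : Q := act 1 n34226
theorem D74684 : act 1 n34226 = n74684 := rfl
def n74685 : Q := act 5 n34226
theorem D74685 : act 5 n34226 = n74685 := rfl
def n74686 : Q := act 6 n34226
theorem D74686 : act 6 n34226 = n74686 := rfl
theorem F112088 : act 4 n74686 = n34227 := d10_1 D74686 (iv6 D34227) D34226
def n74687 : Q := act 0 n34227
theorem D74687 : act 0 n34227 = n74687 := rfl
def n74688 : Q := act 1 n34227
theorem D74688 : act 1 n34227 = n74688 := rfl
def n74689 : Q := act 7 n34227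
theorem D74689 : act 7 n34227 = n74689 := rfl
theorem F112089 : act 3 n74689 = n34234 := d8_1 D74689 (iv7 D34234) (iv3 F53856)
theorem F112090 : act 5 n74689 = n53779 := d13_1 D74689 (iv7 D53779) (iv5 F53857)
def n74690 : Q := act 0 n34228
theorem D74690 : act 0 n34228 = n74690 := rfl
theorem F112091 : act 1 n53706 = n74690 := d15_0 (iv0 D74690) F53859 (iv2 F84736)
def n74691 : Q := act 1 n34228
theorem D74691 : act 1 n34228 = n74691 := rfl
theorem F112092 : act 1 n74691 = n53706 := d15_1 D74691 (iv7 F112044) F112042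
def n74692 : Q := act 5 n34228
theorem D74692 : act 5 n34228 = n74692 := rfl
theorem F112093 : act 3 n74692 = n34235 := d6_1 D74692 (iv5 D34235) (iv3 F53858)
theorem F112094 : act 7 n74692 = n53782 := d13_2 (iv7 F53859) D74692 (iv5 D53782)
def n74693 : Q := act 0 n34229
theorem D74693 : act 0 n34229 = n74693 := rfl
def n74694 : Q := act 1 n34229
theorem D74694 : act 1 n34229 = n74694 := rfl
theorem F112095 : act 1 n74694 = n65359 := d15_1 D74694 (iv7 D65359) (iv2 F53860)
def n74696 : Q := act 7 n34229
theorem D74696 : act 7 n34229 = n74696 := rfl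
theorem F112098 : act 2 n74696 = n65359 := d4_1 D74696 (iv7 D65359) (iv2 F53860)
theorem F112099 : act 4 n74696 = n34271 := d11_1 D74696 (iv7 D34271) (iv4 F53861)
theorem F112100 : act 6 n74696 = n62833 := d14_1 D74696 (iv7 D62833) (iv6 D29734) F26544 D34229
theorem F112101 : act 1 n65359 = n74693 := d15_0 (iv0 D74693) D74696 F112098
theorem F112102 : act 1 n65357 = n74696 := d15_1 D65357 (iv7 D74696) F53860
theorem F112103 : act 1 n74696 = n65356 := d15_0 (iv0 D65356) D65359 (iv2 F112098)
def n74697 : Q := act 0 n34230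
theorem D74697 : act 0 n34230 = n74697 := rfl
theorem F112104 : act 1 n65353 = n74697 := d15_0 (iv0 D74697) F53863 D65353
def n74698 : Q := act 1 n34230
theorem D74698 : act 1 n34230 = n74698 := rfl
def n74699 : Q := act 2 n34230
theorem D74699 : act 2 n34230 = n74699 := rfl
theorem F112105 : act 3 n74699 = n62828 := d0_2 D34230 D74699 (iv2 D62828) (iv3 D29733) F26542
theorem F112106 : act 5 n74699 = n34264 := d2_2 (iv5 F53862) D74699 (iv2 D34264)
theorem F112107 : act 7 n74699 = n65353 := d4_2 (iv7 F53863) D74699 (iv2 D65353)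
theorem F112108 : act 1 n74699 = n65351 := d15_0 (iv0 D65351) (iv7 F53863) D74699
theorem F112110 : act 1 n65352 = n74699 := d15_1 D65352 F112107 (iv2 D65353)
def n74700 : Q := act 6 n34230
theorem D74700 : act 6 n34230 = n74700 := rfl
theorem F112111 : act 3 n74700 = n34231 := d7_1 D74700 (iv6 D34231) D34230
def n74701 : Q := act 0 n34231
theorem D74701 : act 0 n34231 = n74701 := rfl
def n74702 : Q := act 1 n34231
theorem D74702 : act 1 n34231 = n74702 := rfl
theorem F112112 : act 1 n74702 = n62833 := d15_1 D74702 (iv7 D62833) (iv2 F53864)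
def n74703 : Q := act 5 n34231
theorem D74703 : act 5 n34231 = n74703 := rfl
theorem F112113 : act 2 n74703 = n62832 := d2_1 D74703 (iv5 D62832) (iv2 F53864)
theorem F112114 : act 6 n74703 = n34266 := d12_2 D34231 D74703 (iv5 D34266) (iv6 D16587) (iv5 F26227)
def n74704 : Q := act 7 n34231
theorem D74704 : act 7 n34231 = n74704 := rfl
theorem F112115 : act 2 n74704 = n62833 := d4_1 D74704 (iv7 D62833) (iv2 F53864)
theorem F112116 : act 4 n74704 = n34256 := d11_1 D74704 (iv7 D34256) (iv4 F53865)
theorem F112117 : act 6 n74704 = n65359 := d14_1 D74704 (iv7 D65359) (iv6 D30654) (iv7 F26226) D34231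
theorem F112118 : act 1 n62833 = n74701 := d15_0 (iv0 D74701) D74704 F112115
theorem F112119 : act 1 n62831 = n74704 := d15_1 D62831 (iv7 D74704) F53864
theorem F112120 : act 4 n74701 = n34334 := d18_7 F54494 (iv4 F110400) F110403 F71294 (iv5 F47810) (iv4 F98061) F112118 (iv0 D34334) D34336
theorem F112121 : act 3 n54582 = n34334 := d20_5 D29297 F46935 (iv4 D26416) (iv3 F42142) D54582 (iv4 F112120) (iv1 F112118) F98061 F47809 (iv1 F23628)
theorem F112122 : act 6 n69450 = n54582 := d7_0 F112121 F54491 (iv3 F105748)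
theorem E10167 : n69446 = n54143 := (c21_8 (iv5 D26399) (iv1 D12598) D12599 (iv6 F42143) D54582 (iv6 F112122) (iv5 D69450) D69446 (iv5 F87488) (iv6 D55281) F42821)
theorem F112123 : act 1 n54143 = n32256 := (sb E10167 (iv0 D69446))
theorem E10168 : n69447 = n54169 := (c15_2 F112123 D69447 (iv7 D54169) (iv2 F85464))
theorem F112124 : act 0 n54169 = n32256 := (sb E10168 (iv1 D69447))
theorem F112125 : act 6 n69455 = n74701 := d10_0 F112120 F54491 D69455
def n74705 : Q := act 2 n34232
theorem D74705 : act 2 n34232 = n74705 := rfl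
theorem F112127 : act 7 n34233 = n74705 := d15_2 (iv0 D34232) D34233 (iv2 D74705)
def n74706 : Q := act 3 n34232
theorem D74706 : act 3 n34232 = n74706 := rfl
def n74707 : Q := act 4 n34232
theorem D74707 : act 4 n34232 = n74707 := rfl
def n74708 : Q := act 5 n34232
theorem D74708 : act 5 n34232 = n74708 := rfl
theorem F112128 : act 1 n74708 = n66984 := d17_8 D68783 F104972 (iv1 F51351) (iv5 F41680) F41679 (iv5 F49109) F53869 D74708 F104976
theorem F112129 : act 0 n69540 = n66983 := d21_7 (iv5 D74708) (iv1 F53869) F49109 (iv6 F41657) (iv1 F41659) D32283 D69540 (iv5 D66983) D66984 (iv1 F112128)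
theorem E10169 : n69539 = n67295 := ((c17_10 (iv1 D69539) D69540 F112129 (iv5 D66983) (iv4 F104978) D31995 (iv0 F51347) (iv5 D32324) (iv0 F85956) (iv4 F110639))).symm
theorem F112130 : act 0 n67295 = n32283 := (sb E10169 (iv1 D69539))
def n74709 : Q := act 6 n34232
theorem D74709 : act 6 n34232 = n74709 := rfl
def n74710 : Q := act 7 n34232
theorem D74710 : act 7 n34232 = n74710 := rfl
def n74711 : Q := act 3 n34233
theorem D74711 : act 3 n34233 = n74711 := rfl
def n74712 : Q := act 4 n34233
theorem D74712 : act 4 n34233 = n74712 := rfl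
def n74713 : Q := act 5 n34233
theorem D74713 : act 5 n34233 = n74713 := rfl
theorem F112132 : act 6 n66856 = n74713 := d21_5 F20465 (iv1 F19010) (iv5 F24386) D31153 D66856 (iv5 D74713) (iv1 D34233) F26231 (iv6 D12331) D12329
theorem F112133 : act 4 n74713 = n68466 := d10_1 F112132 (iv6 D68466) (iv4 F107425)
def n74714 : Q := act 6 n34233
theorem D74714 : act 6 n34233 = n74714 := rfl
def n74715 : Q := act 3 n34236
theorem D74715 : act 3 n34236 = n74715 := rfl
def n74716 : Q := act 6 n34236
theorem D74716 : act 6 n34236 = n74716 := rfl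
theorem F112134 : act 4 n74716 = n49405 := d10_1 D74716 (iv6 D49405) (iv4 F53876)
theorem F112135 : act 7 n74716 = n68168 := d14_2 (iv7 F79039) D74716 (iv6 D68168) (iv7 F78260) F79038
def n74717 : Q := act 3 n34237
theorem D74717 : act 3 n34237 = n74717 := rfl
theorem F112136 : act 4 n74717 = n65032 := d5_2 (iv4 F53879) D74717 (iv3 D65032) (iv4 D30547) (iv3 F37780)
theorem F112137 : act 6 n74717 = n68169 := d7_2 F53880 D74717 (iv3 D68169)
def n74718 : Q := act 0 n34238
theorem D74718 : act 0 n34238 = n74718 := rfl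
def n74719 : Q := act 1 n34238
theorem D74719 : act 1 n34238 = n74719 := rfl
theorem F112138 : act 4 n74423 = n74719 := d20_6 (iv4 D14078) F10901 D7680 D16530 D34139 D74423 (iv1 D74719) F53881 (iv3 D16568) (iv1 F23521)
def n74720 : Q := act 2 n34238
theorem D74720 : act 2 n34238 = n74720 := rfl
theorem F112139 : act 4 n74720 = n34246 := d1_2 (iv4 F53881) D74720 (iv2 D34246)
def n74721 : Q := act 5 n34238
theorem D74721 : act 5 n34238 = n74721 := rfl
theorem F112140 : act 3 n74721 = n34239 := d6_1 D74721 (iv5 D34239) D34238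
def n74722 : Q := act 6 n34238
theorem D74722 : act 6 n34238 = n74722 := rfl
theorem F112141 : act 3 n74722 = n34240 := d7_1 D74722 (iv6 D34240) D34238
theorem F112142 : act 4 n74722 = n34247 := d10_1 D74722 (iv6 D34247) (iv4 F53881)
def n74723 : Q := act 6 n34239
theorem D74723 : act 6 n34239 = n74723 := rfl
def n74724 : Q := act 0 n34240
theorem D74724 : act 0 n34240 = n74724 := rfl
def n74725 : Q := act 1 n34240
theorem D74725 : act 1 n34240 = n74725 := rfl
theorem F112143 : act 4 n49411 = n74725 := d20_6 (iv4 F53677) (iv1 F53552) F53548 (iv3 F53527) (iv1 F79262) (iv3 F111339) (iv1 D74725) F53883 F26237 D16570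
def n74726 : Q := act 5 n34240
theorem D74726 : act 5 n34240 = n74726 := rfl
def n74727 : Q := act 7 n34240
theorem D74727 : act 7 n34240 = n74727 := rfl
theorem F112144 : act 4 n74727 = n34243 := d11_1 D74727 (iv7 D34243) (iv4 F53883)
theorem F112145 : act 6 n74727 = n67709 := d14_1 D74727 F103749 (iv6 D49973) F38200 D34240
def n74728 : Q := act 3 n34241
theorem D74728 : act 3 n34241 = n74728 := rfl
theorem F112146 : act 6 n74728 = n49639 := d7_2 (iv6 F53884) D74728 (iv3 D49639)
theorem F112147 : act 7 n74728 = n62988 := d8_2 F103506 D74728 F111423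
theorem F112148 : act 2 n74728 = n62987 := d15_3 (iv0 D62987) D62988 (iv7 F112147)
theorem F112149 : act 6 n62987 = n51104 := d3_2 (iv6 F112146) F112148 F111416
theorem F112150 : act 4 n65486 = n62987 := d10_3 F112149 F111417 D65486
theorem F112151 : act 0 n62954 = n74728 := d21_4 (iv5 D24844) F23642 D29780 D62954 F112146 (iv5 F111365) (iv1 D50199) (iv5 F78617) (iv6 D49749) F38897
theorem F112152 : act 5 n74728 = n63359 := d21_6 (iv5 D11786) D11785 D24858 D51088 F111369 (iv6 F112146) (iv1 D63359) F48122 (iv6 D28270) F23744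
theorem F112153 : act 3 n63359 = n52089 := d6_1 F112152 (iv5 F82332) D74728
theorem F112154 : act 7 n63359 = n67583 := d13_2 (iv7 F112147) F112152 F111422
theorem F112155 : act 2 n67583 = n63358 := d15_3 (iv0 D63358) D63359 F112154
theorem F112156 : act 6 n63358 = n50198 := d3_2 D67583 F112155 F111367
theorem F112157 : act 4 n63359 = n74359 := d20_6 D34125 (iv1 F79032) F79029 (iv3 F79017) (iv1 F82331) (iv3 F112153) (iv1 D74359) F53525 F26112 D16522
def n74729 : Q := act 4 n34241
theorem D74729 : act 4 n34241 = n74729 := rfl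
theorem F112158 : act 6 n74729 = n49640 := d10_2 (iv6 F53884) D74729 (iv4 D49640)
def n74730 : Q := act 3 n34242
theorem D74730 : act 3 n34242 = n74730 := rfl
def n74731 : Q := act 4 n34242
theorem D74731 : act 4 n34242 = n74731 := rfl
def n74732 : Q := act 6 n34242
theorem D74732 : act 6 n34242 = n74732 := rfl
theorem F112159 : act 5 n74732 = n49644 := d12_1 D74732 (iv6 D49644) (iv5 F49620) (iv6 F82329) F82330
theorem F112160 : act 7 n74732 = n49644 := d14_2 F103503 D74732 (iv6 D49644) F103500 (iv6 F80686)
theorem F112161 : act 0 n74732 = n51257 := d21_10 (iv5 D51257) (iv1 D24925) F19218 (iv6 D11829) (iv1 F18615) D24225 (iv5 F39942) D52088 F82330 D74732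
theorem F112162 : act 1 n74732 = n51252 := d15_1 (iv0 F112161) (iv7 F104269) F104268
def n74733 : Q := act 2 n34244
theorem D74733 : act 2 n34244 = n74733 := rfl
theorem F112163 : act 7 n34245 = n74733 := d15_2 (iv0 D34244) D34245 (iv2 D74733)
def n74734 : Q := act 3 n34244
theorem D74734 : act 3 n34244 = n74734 := rfl
theorem F112164 : act 4 n74734 = n65041 := d20_6 F24131 F11321 D7699 D16568 D34244 D74734 (iv1 D65041) F48969 (iv3 D14496) (iv1 F24129)
def n74735 : Q := act 4 n34244
theorem D74735 : act 4 n34244 = n74735 := rfl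
def n74736 : Q := act 5 n34244
theorem D74736 : act 5 n34244 = n74736 := rfl
def n74737 : Q := act 6 n34244
theorem D74737 : act 6 n34244 = n74737 := rfl
def n74738 : Q := act 7 n34244
theorem D74738 : act 7 n34244 = n74738 := rfl
def n74739 : Q := act 3 n34245
theorem D74739 : act 3 n34245 = n74739 := rfl
def n74740 : Q := act 4 n34245
theorem D74740 : act 4 n34245 = n74740 := rfl
def n74741 : Q := act 5 n34245
theorem D74741 : act 5 n34245 = n74741 := rfl
def n74742 : Q := act 6 n34245
theorem D74742 : act 6 n34245 = n74742 := rfl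
def n74743 : Q := act 6 n34246
theorem D74743 : act 6 n34246 = n74743 := rfl
theorem F112166 : act 2 n74743 = n34247 := d3_1 D74743 (iv6 D34247) D34246
def n74744 : Q := act 0 n34247
theorem D74744 : act 0 n34247 = n74744 := rfl
def n74745 : Q := act 1 n34247
theorem D74745 : act 1 n34247 = n74745 := rfl
def n74746 : Q := act 5 n34247
theorem D74746 : act 5 n34247 = n74746 := rfl
def n74747 : Q := act 7 n34247
theorem D74747 : act 7 n34247 = n74747 := rfl
theorem F112169 : act 6 n74747 = n65619 := d14_1 D74747 F101357 (iv6 D49977) F38203 D34247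
def n74750 : Q := act 4 n34250
theorem D74750 : act 4 n34250 = n74750 := rfl
theorem F112177 : act 6 n74750 = n53868 := d10_2 (iv6 F53895) D74750 (iv4 D53868)
theorem F112178 : act 0 n74217 = n74750 := d20_7 (iv4 F79029) (iv1 F79031) (iv4 D34127) F111228 (iv1 D34056) (iv3 F53424) (iv4 F111061) (iv4 D74750) (iv3 D34250) (iv1 F38190)
def n74751 : Q := act 1 n34251
theorem D74751 : act 1 n34251 = n74751 := rfl
theorem F112179 : act 7 n74751 = n48825 := d15_2 (iv0 F101936) D74751 F76900
theorem F112180 : act 2 n49732 = n74751 := d4_3 F112179 F76900 D49732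
theorem F112181 : act 3 n62989 = n74751 := d8_3 F112179 F76901 D62989
theorem F112182 : act 5 n48826 = n74751 := d13_3 F112179 (iv5 D48825) D48826
theorem F112183 : act 6 n49740 = n74751 := d14_5 F112179 F76902 F38004 D24256 D49740
theorem E10170 : n67796 = n49732 := ((c15_4 (iv0 D67796) (iv0 F111398) (iv7 F112179) (iv2 F112180))).symm
theorem F112184 : act 1 n49732 = n31484 := (sb E10170 (iv0 D67796))
theorem F112185 : act 1 n74751 = n49730 := d15_0 (iv0 D49730) D49732 F112180
def n74752 : Q := act 2 n34251
theorem D74752 : act 2 n34251 = n74752 := rfl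
theorem F112186 : act 3 n74752 = n59567 := d0_2 D34251 D74752 (iv2 F111399) F111400 (iv2 F49820)
theorem F112187 : act 5 n74752 = n49911 := d2_2 (iv5 F53896) D74752 (iv2 F111404)
theorem F112188 : act 7 n74752 = n49730 := d4_2 (iv7 F53897) D74752 (iv2 F101945)
theorem F112189 : act 1 n74752 = n49732 := d15_0 F112184 (iv7 F53897) D74752
theorem F112190 : act 1 n48825 = n74752 := d15_0 F112189 (iv7 D49732) (iv2 F76900)
def n74753 : Q := act 4 n34251
theorem D74753 : act 4 n34251 = n74753 := rfl
theorem F112191 : act 7 n74753 = n67795 := d11_2 (iv7 F53897) D74753 F103808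
def n74754 : Q := act 6 n34251
theorem D74754 : act 6 n34251 = n74754 := rfl
theorem F112192 : act 3 n74754 = n34252 := d7_1 D74754 (iv6 D34252) D34251
theorem F112193 : act 5 n74754 = n53873 := d12_1 D74754 (iv6 D53873) F41167 (iv6 F53895) (iv5 F53896)
theorem F112194 : act 7 n74754 = n53873 := d14_2 (iv7 F53897) D74754 (iv6 D53873) F49809 D31484
theorem F112195 : act 0 n74754 = n67638 := d21_10 F103659 (iv1 F78633) F45674 (iv6 D28222) (iv1 F22612) D13500 D28276 (iv1 F101927) (iv5 F53896) D74754
theorem F112196 : act 0 n59631 = n53873 := d21_1 D59631 (iv5 F112193) (iv6 D74754) F101936 (iv6 D24253) (iv5 D11413) (iv1 F18659) (iv5 F38016) D49715 (iv1 F78561)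
def n74755 : Q := act 2 n34254
theorem D74755 : act 2 n34254 = n74755 := rfl
theorem F112197 : act 6 n74755 = n68383 := d3_2 (iv6 F53908) D74755 F104560
theorem F112198 : act 7 n34255 = n74755 := d15_2 (iv0 D34254) D34255 (iv2 D74755)
def n74756 : Q := act 3 n34254
theorem D74756 : act 3 n34254 = n74756 := rfl
theorem F112199 : act 6 n74756 = n68392 := d7_2 (iv6 F53908) D74756 F104564
def n74757 : Q := act 4 n34254
theorem D74757 : act 4 n34254 = n74757 := rfl
def n74758 : Q := act 5 n34254
theorem D74758 : act 5 n34254 = n74758 := rfl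
theorem F112201 : act 6 n74758 = n68398 := d12_2 (iv6 F53908) D74758 (iv5 D68398) (iv6 D31821) D31820
def n74759 : Q := act 7 n34254
theorem D74759 : act 7 n34254 = n74759 := rfl
theorem F112202 : act 2 n74759 = n34255 := d4_1 D74759 F112198 (iv2 D74755)
def n74760 : Q := act 3 n34255
theorem D74760 : act 3 n34255 = n74760 := rfl
theorem F112203 : act 4 n74760 = n71631 := d20_6 (iv4 F46931) (iv1 F47863) F47860 (iv3 F47809) (iv1 F53909) D74760 (iv1 D71631) (iv4 D33116) F25483 D15993
def n74761 : Q := act 4 n34255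
theorem D74761 : act 4 n34255 = n74761 := rfl
def n74762 : Q := act 6 n34255
theorem D74762 : act 6 n34255 = n74762 := rfl
theorem F112204 : act 7 n74762 = n68382 := d14_2 (iv7 F112198) D74762 (iv6 D68382) D68383 (iv6 F112197)
def n74763 : Q := act 0 n34257
theorem D74763 : act 0 n34257 = n74763 := rfl
def n74764 : Q := act 1 n34257
theorem D74764 : act 1 n34257 = n74764 := rfl
theorem F112205 : act 4 n74370 = n74764 := d20_6 (iv4 D14593) F11239 D7675 D16519 D34114 D74370 (iv1 D74764) F53914 (iv3 D16586) (iv1 F24250)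
def n74765 : Q := act 2 n34257
theorem D74765 : act 2 n34257 = n74765 := rfl
theorem F112206 : act 4 n74765 = n34264 := d1_2 (iv4 F53914) D74765 (iv2 D34264)
def n74766 : Q := act 5 n34257
theorem D74766 : act 5 n34257 = n74766 := rfl
theorem F112207 : act 3 n74766 = n34258 := d6_1 D74766 (iv5 D34258) D34257
def n74767 : Q := act 6 n34257
theorem D74767 : act 6 n34257 = n74767 := rfl
theorem F112208 : act 3 n74767 = n34259 := d7_1 D74767 (iv6 D34259) D34257
theorem F112209 : act 4 n74767 = n34265 := d10_1 D74767 (iv6 D34265) (iv4 F53914)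
def n74768 : Q := act 6 n34258
theorem D74768 : act 6 n34258 = n74768 := rfl
theorem F112210 : act 4 n74768 = n52132 := d10_1 D74768 (iv6 D52132) (iv4 F53915)
def n74769 : Q := act 0 n34259
theorem D74769 : act 0 n34259 = n74769 := rfl
theorem F112211 : act 2 n62600 = n74769 := d15_3 (iv0 D74769) (iv0 F80755) (iv7 F97616)
theorem F112212 : act 4 n74769 = n52158 := d1_2 D62600 F112211 F82464
theorem F112213 : act 7 n74769 = n53920 := d4_2 (iv7 F97616) F112211 F85040
theorem F112214 : act 6 n67528 = n74769 := d14_5 F112213 (iv6 D53920) (iv7 F41242) D31375 D67528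
theorem F112215 : act 1 n67518 = n74769 := d15_1 F103414 F112213 F85040
def n74770 : Q := act 5 n34259
theorem D74770 : act 5 n34259 = n74770 := rfl
def n74771 : Q := act 7 n34259
theorem D74771 : act 7 n34259 = n74771 := rfl
theorem F112216 : act 2 n74771 = n67518 := d4_1 D74771 F103413 F82431
theorem F112217 : act 4 n74771 = n34261 := d11_1 D74771 (iv7 D34261) (iv4 F53917)
theorem F112218 : act 1 n53920 = n74771 := d15_1 (iv0 F85042) (iv7 D74771) (iv2 F82431)
theorem F112219 : act 1 n74771 = n62600 := d15_1 F112218 F97616 (iv2 F85040)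
theorem E10171 : n60638 = n60605 := ((c18_2 (iv1 F95076) D60605 (iv1 D60638) (iv4 F48368) F48369 (iv4 F85041) F112218 F112217 F53927 (iv5 F95074))).symm
theorem F112220 : act 0 n60605 = n28787 := (sb E10171 (iv1 D60638))
def n74772 : Q := act 2 n34262
theorem D74772 : act 2 n34262 = n74772 := rfl
theorem F112221 : act 7 n34263 = n74772 := d15_2 (iv0 D34262) D34263 (iv2 D74772)
def n74773 : Q := act 3 n34262
theorem D74773 : act 3 n34262 = n74773 := rfl
theorem F112222 : act 4 n74773 = n64965 := d20_6 (iv4 D13998) F10801 D7708 D16586 D34262 D74773 (iv1 D64965) F48916 (iv3 D14486) (iv1 F23336)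
def n74774 : Q := act 4 n34262
theorem D74774 : act 4 n34262 = n74774 := rfl
def n74775 : Q := act 5 n34262
theorem D74775 : act 5 n34262 = n74775 := rfl
def n74776 : Q := act 6 n34262
theorem D74776 : act 6 n34262 = n74776 := rfl
def n74777 : Q := act 7 n34262
theorem D74777 : act 7 n34262 = n74777 := rfl
theorem F112223 : act 2 n74777 = n34263 := d4_1 D74777 F112221 (iv2 D74772)
def n74778 : Q := act 3 n34263
theorem D74778 : act 3 n34263 = n74778 := rfl
def n74779 : Q := act 4 n34263
theorem D74779 : act 4 n34263 = n74779 := rfl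
theorem F112224 : act 3 n61258 = n74779 := d20_5 (iv4 D28997) (iv1 D13802) D13803 D29001 D61258 (iv4 D74779) (iv1 D34263) (iv4 F53914) (iv3 D34257) (iv1 F46627)
def n74780 : Q := act 5 n34263
theorem D74780 : act 5 n34263 = n74780 := rfl
def n74782 : Q := act 6 n34264
theorem D74782 : act 6 n34264 = n74782 := rfl
theorem F112225 : act 2 n74782 = n34265 := d3_1 D74782 (iv6 D34265) D34264
def n74783 : Q := act 0 n34265
theorem D74783 : act 0 n34265 = n74783 := rfl
def n74784 : Q := act 1 n34265
theorem D74784 : act 1 n34265 = n74784 := rfl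
def n74785 : Q := act 5 n34265
theorem D74785 : act 5 n34265 = n74785 := rfl
theorem F112226 : act 3 n74785 = n34266 := d6_1 D74785 (iv5 D34266) (iv3 F53928)
def n74786 : Q := act 7 n34265
theorem D74786 : act 7 n34265 = n74786 := rfl
theorem F112227 : act 3 n74786 = n34267 := d8_1 D74786 (iv7 D34267) (iv3 F53928)
def n74787 : Q := act 0 n34266
theorem D74787 : act 0 n34266 = n74787 := rfl
theorem F112228 : act 5 n74787 = n53574 := d17_3 F27063 D34266 D74787 F84517 (iv5 F46682) (iv0 D29037) F23081 (iv0 F11931) (iv4 F24230)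
def n74788 : Q := act 1 n34266
theorem D74788 : act 1 n34266 = n74788 := rfl
theorem F112233 : act 5 n74788 = n65206 := d17_7 F49825 F49823 (iv1 D28823) F22987 (iv4 F27062) D34266 D74788 F100969 (iv4 D60963)
def n74789 : Q := act 4 n34266
theorem D74789 : act 4 n34266 = n74789 := rfl
def n74790 : Q := act 7 n34266
theorem D74790 : act 7 n34266 = n74790 := rfl
theorem F112235 : act 5 n74790 = n34267 := d13_1 D74790 (iv7 D34267) D34266
def n74791 : Q := act 0 n34268
theorem D74791 : act 0 n34268 = n74791 := rfl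
theorem F112237 : act 5 n74791 = n62025 := d21_2 (iv5 F53933) D74791 F96645 (iv1 F93683) F93675 F93613 (iv1 F93474) F93475 (iv6 F93621) F93622
theorem F112238 : act 2 n49740 = n74791 := d15_3 (iv0 D74791) (iv0 F53936) D49740
theorem F112239 : act 1 n49739 = n74791 := d15_0 (iv0 D74791) F53935 (iv2 F78608)
theorem F112240 : act 7 n74791 = n49708 := d15_2 D49739 F112239 F78540
theorem F112241 : act 3 n67507 = n74791 := d8_3 F112240 (iv3 F78965) (iv7 F103398)
theorem F112242 : act 6 n49732 = n74791 := d14_5 F112240 (iv6 D49708) F38007 D24253 D49732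
def n74792 : Q := act 2 n34268
theorem D74792 : act 2 n34268 = n74792 := rfl
theorem F112243 : act 3 n74792 = n67673 := d0_2 D34268 D74792 F103698 F49733 F27066
theorem F112244 : act 5 n74792 = n59349 := d2_2 (iv5 F53933) D74792 F93624
theorem F112245 : act 6 n74792 = n59455 := d3_2 (iv6 F53934) D74792 F93849
theorem F112246 : act 7 n74792 = n49739 := d4_2 (iv7 F53935) D74792 F78608
theorem F112247 : act 1 n74792 = n49708 := d15_0 (iv0 F78542) (iv7 F53935) D74792
theorem F112248 : act 1 n49740 = n74792 := d15_0 F112247 (iv7 F112240) (iv2 F112238)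
def n74793 : Q := act 4 n34268
theorem D74793 : act 4 n34268 = n74793 := rfl
theorem F112249 : act 6 n74793 = n67633 := d10_2 (iv6 F53934) D74793 F103656
theorem F112250 : act 7 n74793 = n53845 := d11_2 (iv7 F53935) D74793 F84883
def n74794 : Q := act 2 n34269
theorem D74794 : act 2 n34269 = n74794 := rfl
theorem F112251 : act 7 n34270 = n74794 := d15_2 (iv0 D34269) D34270 (iv2 D74794)
def n74795 : Q := act 3 n34269
theorem D74795 : act 3 n34269 = n74795 := rfl
def n74796 : Q := act 4 n34269
theorem D74796 : act 4 n34269 = n74796 := rfl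
def n74797 : Q := act 5 n34269
theorem D74797 : act 5 n34269 = n74797 := rfl
theorem F112252 : act 0 n40247 = n74797 := d21_10 (iv5 D74797) (iv1 F79194) F79190 (iv6 F87456) (iv1 F87458) (iv6 F57135) (iv5 F57132) F57133 F43242 D40247
def n74798 : Q := act 6 n34269
theorem D74798 : act 6 n34269 = n74798 := rfl
theorem F112253 : act 5 n74798 = n68091 := d21_6 F24548 (iv1 F11974) D7711 D16590 D34269 D74798 (iv1 D68091) F49964 (iv6 D14907) D14906
def n74799 : Q := act 7 n34269
theorem D74799 : act 7 n34269 = n74799 := rfl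
theorem F112254 : act 2 n74799 = n34270 := d4_1 D74799 F112251 (iv2 D74794)
def n74800 : Q := act 3 n34270
theorem D74800 : act 3 n34270 = n74800 := rfl
def n74801 : Q := act 4 n34270
theorem D74801 : act 4 n34270 = n74801 := rfl
def n74802 : Q := act 5 n34270
theorem D74802 : act 5 n34270 = n74802 := rfl
theorem F112255 : act 0 n74802 = n40247 := d21_1 D74802 (iv5 F107208) (iv6 D70746) (iv1 F56396) (iv6 F85969) (iv5 D54431) (iv1 F85966) F85963 (iv6 F79191) (iv1 F79193)
theorem F112256 : act 6 n74802 = n74166 := d21_9 (iv5 F95876) (iv1 F96155) (iv5 F107515) (iv6 D70968) (iv1 F87462) F87456 (iv5 F79190) (iv1 F79193) D74802 (iv1 F110897)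
def n74803 : Q := act 6 n34270
theorem D74803 : act 6 n34270 = n74803 := rfl
theorem F112257 : act 0 n49876 = n74803 := d21_4 (iv5 D35710) D35709 F56387 D49876 (iv6 D74803) D74802 F112255 (iv5 F107208) (iv6 D70746) (iv1 F56396)

end Cfsg.Agent.Helper17.ONTC
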