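import Cfsg.Agent.Helper17.ONTC.Facts15

set_option autoImplicit false
set_option linter.all false

noncomputable section

namespace Cfsg.Agent.Helper17.ONTC

theorem F112258 : act 1 n62810 = n74803 := d15_0 (iv0 F112257) (iv7 F96203) (iv2 F98017)
def n74804 : Q := act 2 n34272
theorem D74804 : act 2 n34272 = n74804 := rfl
theorem F112259 : act 3 n74804 = n67929 := d0_2 D34272 D74804 F104013 F49914 (iv2 F50480)
theorem F112260 : act 4 n74804 = n35916 := d1_2 (iv4 F54423) D74804 F56585
theorem F112261 : act 6 n74804 = n53965 := d3_2 (iv6 F53939) D74804 (iv2 D53965)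
theorem F112262 : act 7 n74804 = n35912 := d4_2 (iv7 F53940) D74804 F56573
theorem F112263 : act 1 n74804 = n49830 := d15_0 (iv0 F78777) (iv7 F53940) D74804
theorem F112264 : act 1 n49842 = n74804 := d15_0 F112263 F78772 D49842
theorem F112265 : act 1 n60046 = n62796 := d17_6 (iv1 F56586) D61396 F95886 (iv5 D54805) (iv4 F54057) D60046 F97988 F112264 F112260
def n74805 : Q := act 5 n34274
theorem D74805 : act 5 n34274 = n74805 := rfl
theorem F112266 : act 7 n74805 = n68098 := d13_2 (iv7 F54368) D74805 (iv5 D68098)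
def n74807 : Q := act 0 n34275
theorem D74807 : act 0 n34275 = n74807 := rfl
def n74808 : Q := act 1 n34275
theorem D74808 : act 1 n34275 = n74808 := rfl
def n74809 : Q := act 7 n34275
theorem D74809 : act 7 n34275 = n74809 := rfl
theorem F112269 : act 5 n74809 = n53981 := d13_1 D74809 (iv7 D53981) (iv5 F54370)
theorem F112270 : act 6 n74809 = n68102 := d14_1 D74809 (iv7 D68102) (iv6 D31706) (iv7 F27076) D34275
def n74810 : Q := act 2 n34276
theorem D74810 : act 2 n34276 = n74810 := rfl
theorem F112271 : act 7 n34277 = n74810 := d15_2 (iv0 D34276) D34277 (iv2 D74810)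
def n74811 : Q := act 3 n34276
theorem D74811 : act 3 n34276 = n74811 := rfl
def n74812 : Q := act 4 n34276
theorem D74812 : act 4 n34276 = n74812 := rfl
def n74813 : Q := act 6 n34276
theorem D74813 : act 6 n34276 = n74813 := rfl
theorem F112272 : act 5 n74813 = n55254 := d21_6 (iv5 D5333) (iv1 F5508) D7713 D16594 D34276 D74813 (iv1 D55254) F42801 (iv6 D16590) F11985
theorem F112273 : act 0 n69841 = n74813 := d21_4 F18714 D15322 D32430 D69841 (iv6 D74813) F94905 (iv1 D60391) (iv5 F78870) (iv6 D49878) (iv1 D24320)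
def n74814 : Q := act 7 n34276
theorem D74814 : act 7 n34276 = n74814 := rfl
theorem F112274 : act 2 n74814 = n34277 := d4_1 D74814 F112271 (iv2 D74810)
def n74815 : Q := act 3 n34277
theorem D74815 : act 3 n34277 = n74815 := rfl
def n74816 : Q := act 4 n34277
theorem D74816 : act 4 n34277 = n74816 := rfl
def n74817 : Q := act 6 n34277
theorem D74817 : act 6 n34277 = n74817 := rfl
theorem F112275 : act 0 n74817 = n67326 := d21_10 F104783 (iv1 F104738) F104510 (iv6 D50054) (iv1 F38272) D49878 F78870 F85184 F85183 D74817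
def n74818 : Q := act 3 n34279
theorem D74818 : act 3 n34279 = n74818 := rfl
theorem F112276 : act 7 n74818 = n68111 := d8_2 (iv7 F86026) D74818 (iv3 D68111)
def n74819 : Q := act 4 n34279
theorem D74819 : act 4 n34279 = n74819 := rfl
theorem F112277 : act 2 n74819 = n68109 := d1_1 D74819 (iv4 D68109) F86027
theorem F112278 : act 7 n74819 = n68112 := d11_2 (iv7 F86026) D74819 (iv4 D68112)
def n74820 : Q := act 6 n34279
theorem D74820 : act 6 n34279 = n74820 := rfl
theorem F112279 : act 2 n74820 = n54434 := d3_1 D74820 F85970 F86027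
theorem F112280 : act 7 n74820 = n54431 := d14_2 (iv7 F86026) D74820 F85969 F104262 (iv6 D68113)
theorem F112281 : act 5 n74820 = n54427 := d21_6 F18824 (iv1 F8176) D7717 D16595 D34279 D74820 (iv1 D54427) F41978 (iv6 D16579) (iv1 F18826)
theorem F112282 : act 0 n70807 = n74820 := d21_7 (iv5 D71111) (iv1 F86078) F86074 (iv6 F109829) (iv1 D49031) D49035 (iv5 F107273) F112281 (iv6 F106961) (iv1 F107634)
def n74821 : Q := act 3 n34280
theorem D74821 : act 3 n34280 = n74821 := rfl
theorem F112283 : act 7 n74821 = n68108 := d8_2 F86025 D74821 (iv3 D68108)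
def n74822 : Q := act 4 n34280
theorem D74822 : act 4 n34280 = n74822 := rfl
theorem F112284 : act 2 n74822 = n68112 := d1_1 D74822 (iv4 D68112) (iv2 F86024)
theorem F112285 : act 7 n74822 = n68109 := d11_2 F86025 D74822 (iv4 D68109)
def n74823 : Q := act 0 n34281
theorem D74823 : act 0 n34281 = n74823 := rfl
theorem F112286 : act 6 n74823 = n61835 := d21_5 F11715 (iv1 F12015) D16596 (iv6 F54381) D74823 (iv5 D61835) (iv1 D29301) (iv5 F42071) (iv6 D26368) (iv1 F20954)
theorem F112287 : act 0 n74823 = n68081 := d21_4 F52106 (iv1 F47883) D61835 (iv6 F112286) (iv6 D68081) F49956 (iv1 F41202) D53897 (iv6 F86137) (iv1 F86138)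
def n74824 : Q := act 1 n34281
theorem D74824 : act 1 n34281 = n74824 := rfl
theorem F112288 : act 1 n74824 = n68081 := d15_1 D74824 F104200 (iv2 F54379)
def n74825 : Q := act 4 n34281
theorem D74825 : act 4 n34281 = n74825 := rfl
theorem F112289 : act 2 n74825 = n68089 := d1_1 D74825 F104213 (iv2 F54379)
theorem F112290 : act 6 n74825 = n34283 := d10_2 (iv6 F54381) D74825 (iv4 D34283)
def n74826 : Q := act 7 n34281
theorem D74826 : act 7 n34281 = n74826 := rfl
theorem F112291 : act 2 n74826 = n68081 := d4_1 D74826 F104200 (iv2 F54379)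
theorem F112292 : act 3 n74826 = n60433 := d8_1 D74826 (iv7 D60433) (iv3 F54380)
theorem F112293 : act 5 n74826 = n34282 := d13_1 D74826 (iv7 D34282) D34281
theorem F112294 : act 6 n74826 = n53901 := d14_1 D74826 (iv7 D53901) F41204 (iv7 F27082) (iv6 F54381)
theorem F112295 : act 1 n68091 = n74826 := d15_1 D68091 (iv7 D74826) F54379
theorem F112296 : act 0 n68090 = n74826 := d21_4 F86042 (iv1 F47886) D62932 (iv6 F104214) F112294 F84987 (iv1 F41208) D31669 (iv6 F52136) F86044
def n74827 : Q := act 3 n34283
theorem D74827 : act 3 n34283 = n74827 := rfl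
theorem F112297 : act 4 n74827 = n55243 := d5_2 D34283 D74827 (iv3 D55243) F42783 (iv3 F27081)
def n74828 : Q := act 5 n34284
theorem D74828 : act 5 n34284 = n74828 := rfl
theorem F112300 : act 7 n74828 = n55988 := d13_2 (iv7 F54392) D74828 (iv5 D55988)
theorem F112301 : act 0 n74828 = n62758 := d17_2 (iv1 F55488) D74828 (iv5 D62758) (iv4 D29685) D29686 F54227 F23614 D28164 F55489
theorem F112302 : act 1 n74828 = n62762 := d17_6 F50586 (iv5 F27117) F54394 (iv5 D34285) D34284 D74828 (iv5 D62762) F54258 (iv4 D33129)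
def n74829 : Q := act 4 n34285
theorem D74829 : act 4 n34285 = n74829 := rfl
def n74830 : Q := act 6 n34285
theorem D74830 : act 6 n34285 = n74830 := rfl
def n74831 : Q := act 6 n34287
theorem D74831 : act 6 n34287 = n74831 := rfl
theorem F112306 : act 2 n74831 = n34293 := d3_1 D74831 (iv6 D34293) (iv2 F54398)
theorem F112307 : act 3 n74831 = n61528 := d7_1 D74831 (iv6 D61528) (iv3 F54399)
theorem F112308 : act 5 n74831 = n54235 := d12_1 D74831 (iv6 D54235) F41631 F37168 D34287
def n74832 : Q := act 5 n34288
theorem D74832 : act 5 n34288 = n74832 := rfl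
theorem F112309 : act 2 n74832 = n52115 := d2_1 D74832 (iv5 D52115) F54403
theorem F112310 : act 3 n74832 = n52896 := d6_1 D74832 F83586 (iv3 F54401)
theorem F112311 : act 7 n74832 = n55964 := d13_2 (iv7 F54404) D74832 (iv5 D55964)
theorem F112312 : act 0 n74832 = n61618 := d17_2 D34288 D74832 (iv5 D61618) (iv4 F46850) F55578 F55576 (iv5 D34285) (iv0 D16597) D16600
theorem F112313 : act 1 n74832 = n48740 := d17_6 F54068 D23883 F50931 F47813 (iv4 F54402) D74832 (iv5 D48740) (iv0 F37052) (iv4 D13889)
def n74833 : Q := act 4 n34289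
theorem D74833 : act 4 n34289 = n74833 := rfl
def n74834 : Q := act 6 n34289
theorem D74834 : act 6 n34289 = n74834 := rfl
theorem F112314 : act 3 n74834 = n49295 := d7_1 D74834 (iv6 D49295) (iv3 F54405)
def n74835 : Q := act 4 n34290
theorem D74835 : act 4 n34290 = n74835 := rfl
theorem F112316 : act 0 n74835 = n61622 := d18_2 D34290 D74835 (iv4 D61622) (iv5 F54344) F55485 F55484 (iv4 D34284) (iv0 D16597) D16601
theorem F112317 : act 1 n74835 = n61625 := d18_6 (iv1 F23578) D29189 (iv1 F77202) (iv4 F77203) (iv5 F54406) D74835 (iv4 D61625) F47726 (iv5 D29694)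
def n74836 : Q := act 6 n34290
theorem D74836 : act 6 n34290 = n74836 := rfl
theorem F112318 : act 2 n74836 = n71652 := d3_1 D74836 (iv6 D71652) F54407
theorem F112319 : act 5 n74836 = n71421 := d12_1 D74836 (iv6 D71421) (iv5 D33046) (iv6 F50580) (iv5 F54406)
def n74837 : Q := act 4 n34291
theorem D74837 : act 4 n34291 = n74837 := rfl
theorem F112321 : act 0 n74837 = n61625 := d18_2 (iv1 F55568) D74837 (iv4 D61625) (iv5 F54349) F55489 (iv0 D35004) F27861 D16996 D35015
theorem F112322 : act 1 n74837 = n61622 := d18_6 F54068 (iv4 F37282) D48946 F77197 F54409 D74837 (iv4 D61622) (iv0 D29197) (iv5 D13890)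
def n74838 : Q := act 6 n34291
theorem D74838 : act 6 n34291 = n74838 := rfl
theorem F112323 : act 3 n74838 = n71418 := d7_1 D74838 (iv6 D71418) (iv3 F54410)
def n74839 : Q := act 5 n34292
theorem D74839 : act 5 n34292 = n74839 := rfl
theorem F112324 : act 1 n74839 = n61768 := d17_6 (iv1 D35017) (iv5 D16997) F50509 D16601 D34292 D74839 (iv5 D61768) D61767 F96353
def n74840 : Q := act 6 n34292
theorem D74840 : act 6 n34292 = n74840 := rfl
theorem F112325 : act 4 n74840 = n34293 := d10_1 D74840 (iv6 D34293) D34292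
def n74841 : Q := act 0 n34293
theorem D74841 : act 0 n34293 = n74841 := rfl
def n74842 : Q := act 1 n34293
theorem D74842 : act 1 n34293 = n74842 := rfl
def n74843 : Q := act 7 n34293
theorem D74843 : act 7 n34293 = n74843 := rfl
theorem F112327 : act 5 n74843 = n54242 := d13_1 D74843 (iv7 D54242) (iv5 F54414)
def n74844 : Q := act 3 n34294
theorem D74844 : act 3 n34294 = n74844 := rfl
theorem F112328 : act 7 n74844 = n69462 := d8_2 (iv7 F105994) D74844 (iv3 D69462)
def n74845 : Q := act 4 n34294
theorem D74845 : act 4 n34294 = n74845 := rfl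
theorem F112329 : act 2 n74845 = n69459 := d1_1 D74845 (iv4 D69459) (iv2 F105993)
theorem F112330 : act 7 n74845 = n69463 := d11_2 (iv7 F105994) D74845 (iv4 D69463)
def n74846 : Q := act 6 n34294
theorem D74846 : act 6 n34294 = n74846 := rfl
theorem F112331 : act 2 n74846 = n69460 := d3_1 D74846 (iv6 D69460) (iv2 F105993)
theorem F112332 : act 5 n74846 = n55218 := d21_6 (iv5 D3509) D3506 D7720 D16602 D34294 D74846 (iv1 D55218) F42757 (iv6 D16628) (iv1 D7730)
theorem F112333 : act 0 n34393 = n74846 := d21_4 F12032 D7754 D16670 D34393 (iv6 D74846) F87300 (iv1 D55179) (iv5 F54516) (iv6 D34356) (iv1 D16632)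
theorem E10172 : n74045 = n55218 := ((c2_1 F112332 F110789 (iv5 F105754) (iv2 F112331))).symm
theorem F112334 : act 2 n55218 = n33980 := (sb E10172 F110789)
theorem F112335 : act 7 n55218 = n33979 := (sb E10172 (iv7 D74045))
theorem E10173 : n74041 = n55217 := (c15_4 (iv0 D55217) D55218 F112335 D74041)
theorem F112337 : act 2 n55217 = n33979 := (sb E10173 (iv2 D74041))
theorem F112338 : act 6 n55217 = n39423 := (sb E10173 F110786)
theorem F112339 : act 7 n55217 = n33980 := (sb E10173 (iv7 F110787))
def n74847 : Q := act 3 n34295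
theorem D74847 : act 3 n34295 = n74847 := rfl
theorem F112340 : act 7 n74847 = n69458 := d8_2 (iv7 F105992) D74847 (iv3 D69458)
def n74848 : Q := act 4 n34295
theorem D74848 : act 4 n34295 = n74848 := rfl
theorem F112341 : act 2 n74848 = n69463 := d1_1 D74848 (iv4 D69463) (iv2 F105991)
theorem F112342 : act 7 n74848 = n69459 := d11_2 (iv7 F105992) D74848 (iv4 D69459)
def n74849 : Q := act 6 n34295
theorem D74849 : act 6 n34295 = n74849 := rfl
theorem F112343 : act 2 n74849 = n69464 := d3_1 D74849 (iv6 D69464) (iv2 F105991)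
def n74850 : Q := act 0 n34299
theorem D74850 : act 0 n34299 = n74850 := rfl
theorem F112344 : act 5 n74850 = n49810 := d21_8 (iv5 D20499) D20497 F51580 (iv6 F104113) F104115 (iv6 D34300) D34299 D74850 F78714 (iv1 F50405)
theorem F112345 : act 2 n54805 = n74850 := d15_3 (iv0 D74850) (iv0 F96259) F96258
theorem F112346 : act 1 n62690 = n74850 := d15_0 (iv0 D74850) (iv7 F77720) (iv2 F97797)
theorem F112347 : act 7 n74850 = n54806 := d15_2 (iv0 F97799) F112346 (iv2 F96257)
def n74851 : Q := act 4 n34299
theorem D74851 : act 4 n34299 = n74851 := rfl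
theorem F112348 : act 0 n74851 = n61514 := d18_2 F96259 D74851 (iv4 D61514) (iv5 D29123) F23129 (iv0 F26986) (iv4 F38058) (iv0 F46899) D61673
def n74852 : Q := act 6 n34299
theorem D74852 : act 6 n34299 = n74852 := rfl
theorem F112349 : act 3 n74852 = n49306 := d7_1 D74852 (iv6 D49306) (iv3 F54427)
def n74853 : Q := act 5 n34300
theorem D74853 : act 5 n34300 = n74853 := rfl
theorem F112350 : act 2 n74853 = n71940 := d2_1 D74853 F108445 F95887
theorem F112351 : act 3 n74853 = n49307 := d6_1 D74853 (iv5 D49307) (iv3 F54428)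
theorem F112352 : act 7 n74853 = n52459 := d13_2 (iv7 F54430) D74853 (iv5 D52459)
theorem F112353 : act 1 n74853 = n54784 := d17_6 (iv1 F27017) D26481 F54436 (iv5 D34303) (iv4 F54429) D74853 (iv5 D54784) (iv0 F42410) F25513
theorem F112354 : act 0 n74853 = n71844 := d21_1 D74853 (iv5 D71844) F82898 (iv1 F82896) F41567 (iv5 D20499) D20497 F51580 (iv6 F104113) F104115
def n74854 : Q := act 0 n34301
theorem D74854 : act 0 n34301 = n74854 := rfl
theorem F112355 : act 1 n61527 = n74854 := d15_0 (iv0 D74854) (iv7 F78748) (iv2 F96055)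
def n74855 : Q := act 5 n34301
theorem D74855 : act 5 n34301 = n74855 := rfl
def n74856 : Q := act 6 n34301
theorem D74856 : act 6 n34301 = n74856 := rfl
theorem F112356 : act 4 n74856 = n34302 := d10_1 D74856 (iv6 D34302) D34301
def n74857 : Q := act 0 n34302
theorem D74857 : act 0 n34302 = n74857 := rfl
theorem F112357 : act 6 n74857 = n54613 := d21_5 F42472 (iv1 F26825) D16604 D34302 D74857 (iv5 D54613) F85920 D26525 F42467 D26530
theorem F112358 : act 3 n54616 = n74857 := d7_3 F112357 F86314 D54616
def n74858 : Q := act 1 n34302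
theorem D74858 : act 1 n34302 = n74858 := rfl
def n74859 : Q := act 5 n34302
theorem D74859 : act 5 n34302 = n74859 := rfl
theorem F112359 : act 2 n74859 = n55040 := d2_1 D74859 (iv5 F95895) F95894
theorem F112360 : act 3 n74859 = n34306 := d6_1 D74859 (iv5 D34306) (iv3 F54431)
theorem F112361 : act 6 n74859 = n34303 := d12_2 D34302 D74859 (iv5 D34303) (iv6 D16605) D16604
def n74860 : Q := act 7 n34302
theorem D74860 : act 7 n34302 = n74860 := rfl
theorem F112362 : act 3 n74860 = n34307 := d8_1 D74860 (iv7 D34307) (iv3 F54431)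
theorem F112363 : act 6 n74860 = n69420 := d14_1 D74860 (iv7 D69420) F51183 F38077 D34302
def n74861 : Q := act 4 n34303
theorem D74861 : act 4 n34303 = n74861 := rfl
theorem F112364 : act 2 n74861 = n55039 := d1_1 D74861 (iv4 D55039) (iv2 F54432)
theorem F112365 : act 7 n74861 = n55041 := d11_2 (iv7 F54434) D74861 (iv4 D55041)
def n74862 : Q := act 3 n34304
theorem D74862 : act 3 n34304 = n74862 := rfl
def n74863 : Q := act 4 n34304
theorem D74863 : act 4 n34304 = n74863 := rfl
def n74864 : Q := act 6 n34304
theorem D74864 : act 6 n34304 = n74864 := rfl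
def n74865 : Q := act 3 n34305
theorem D74865 : act 3 n34305 = n74865 := rfl
def n74866 : Q := act 4 n34305
theorem D74866 : act 4 n34305 = n74866 := rfl
def n74867 : Q := act 0 n34306
theorem D74867 : act 0 n34306 = n74867 := rfl
theorem F112366 : act 6 n74867 = n71773 := d21_5 F11756 (iv1 F18710) D16607 (iv6 F54438) D74867 (iv5 D71773) (iv1 D33176) (iv5 F42364) (iv6 D26480) (iv1 F21048)
theorem F112367 : act 0 n74867 = n69388 := d21_4 (iv5 F86341) (iv1 F86343) D71773 (iv6 F112366) (iv6 D69388) F51177 (iv1 F41621) D54228 (iv6 F86617) (iv1 F86618)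
def n74868 : Q := act 1 n34306
theorem D74868 : act 1 n34306 = n74868 := rfl
theorem F112368 : act 1 n74868 = n69388 := d15_1 D74868 F105669 (iv2 F54437)
def n74869 : Q := act 7 n34306
theorem D74869 : act 7 n34306 = n74869 := rfl
theorem F112369 : act 2 n74869 = n69388 := d4_1 D74869 F105669 (iv2 F54437)
theorem F112370 : act 5 n74869 = n34307 := d13_1 D74869 (iv7 D34307) D34306
theorem F112371 : act 6 n74869 = n54233 := d14_1 D74869 (iv7 D54233) F41623 (iv7 F27094) (iv6 F54438)
theorem F112372 : act 1 n71255 = n74869 := d15_1 D71255 (iv7 D74869) F54437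
theorem F112373 : act 1 n74869 = n71254 := d15_0 (iv0 D71254) (iv7 F105669) (iv2 F112369)
def n74870 : Q := act 5 n34309
theorem D74870 : act 5 n34309 = n74870 := rfl
theorem F112374 : act 3 n74870 = n62861 := d6_1 D74870 (iv5 F109082) F109081
theorem F112375 : act 7 n74870 = n72356 := d13_2 F96138 D74870 (iv5 F108809)
theorem F112376 : act 4 n74870 = n72570 := d16_2 D34309 D74870 F109078 (iv4 D61557) F54008 F26821 D16614 (iv7 F54442) F54440
theorem F112377 : act 0 n74870 = n61750 := d17_2 F94657 D74870 (iv5 D61750) (iv4 D29272) F23175 (iv0 F45548) F54222 (iv0 F54017) D60102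
def n74871 : Q := act 6 n34309
theorem D74871 : act 6 n34309 = n74871 := rfl
theorem F112378 : act 2 n74871 = n69171 := d3_1 D74871 F105455 (iv2 F96136)
theorem F112379 : act 4 n74871 = n34310 := d10_1 D74871 (iv6 D34310) D34309
def n74872 : Q := act 0 n34310
theorem D74872 : act 0 n34310 = n74872 := rfl
def n74873 : Q := act 1 n34310
theorem D74873 : act 1 n34310 = n74873 := rfl
theorem F112380 : act 1 n74873 = n69172 := d15_1 D74873 (iv7 D69172) (iv2 F54446)
def n74874 : Q := act 7 n34310
theorem D74874 : act 7 n34310 = n74874 := rfl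
theorem F112381 : act 2 n74874 = n69172 := d4_1 D74874 (iv7 D69172) (iv2 F54446)
theorem F112382 : act 5 n74874 = n69080 := d13_1 D74874 (iv7 D69080) (iv5 F54447)
theorem F112383 : act 1 n69172 = n74872 := d15_0 (iv0 D74872) D74874 F112381
theorem F112384 : act 1 n69170 = n74874 := d15_1 D69170 (iv7 D74874) F54446
theorem F112385 : act 1 n74874 = n69169 := d15_0 (iv0 D69169) D69172 (iv2 F112381)
def n74875 : Q := act 6 n34311
theorem D74875 : act 6 n34311 = n74875 := rfl
theorem F112386 : act 2 n74875 = n34316 := d3_1 D74875 (iv6 D34316) (iv2 F54448)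
theorem F112387 : act 3 n74875 = n61558 := d7_1 D74875 (iv6 D61558) (iv3 F54449)
theorem F112388 : act 5 n74875 = n71241 := d12_1 D74875 (iv6 D71241) (iv5 F54457) (iv6 D34312) (iv5 F54450)
def n74876 : Q := act 6 n34313
theorem D74876 : act 6 n34313 = n74876 := rfl
theorem F112389 : act 3 n74876 = n34316 := d7_1 D74876 (iv6 D34316) (iv3 F54460)
def n74877 : Q := act 3 n34315
theorem D74877 : act 3 n34315 = n74877 := rfl
def n74878 : Q := act 5 n34315
theorem D74878 : act 5 n34315 = n74878 := rfl
theorem F112390 : act 2 n74878 = n72356 := d2_1 D74878 (iv5 F108809) (iv2 F96140)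
theorem F112391 : act 4 n74878 = n72569 := d9_1 D74878 F109075 (iv4 D61560) F54012 (iv4 F26717) D16610 D34309 D74870 F112376 F109078 (iv4 D61557) F54008 F26821 D16614 D34315
theorem F112392 : act 1 n74878 = n61750 := d17_6 D33400 F52637 (iv1 F27099) D16614 D34315 D74878 (iv5 D61750) (iv0 F52640) (iv4 D33401)
def n74879 : Q := act 6 n34315
theorem D74879 : act 6 n34315 = n74879 := rfl
theorem F112393 : act 4 n74879 = n34316 := d10_1 D74879 (iv6 D34316) D34315
def n74880 : Q := act 0 n34316
theorem D74880 : act 0 n34316 = n74880 := rfl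
theorem F112394 : act 6 n74880 = n72347 := d21_5 F52637 (iv1 F27099) D16614 D34316 D74880 (iv5 D72347) (iv1 D33387) D33388 F52632 D33400
def n74881 : Q := act 1 n34316
theorem D74881 : act 1 n34316 = n74881 := rfl
def n74882 : Q := act 5 n34316
theorem D74882 : act 5 n34316 = n74882 := rfl
theorem F112395 : act 2 n74882 = n71241 := d2_1 D74882 (iv5 F112388) F112386
theorem F112396 : act 6 n74882 = n34317 := d12_2 D34316 D74882 (iv5 D34317) (iv6 D16615) D16614
def n74883 : Q := act 7 n34316
theorem D74883 : act 7 n34316 = n74883 := rfl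
theorem F112397 : act 6 n74883 = n69172 := d14_1 D74883 (iv7 D69172) (iv6 F54441) F54442 D34316
def n74884 : Q := act 3 n34319
theorem D74884 : act 3 n34319 = n74884 := rfl
def n74885 : Q := act 5 n34319
theorem D74885 : act 5 n34319 = n74885 := rfl
theorem F112398 : act 2 n74885 = n34325 := d2_1 D74885 (iv5 D34325) (iv2 F54473)
theorem F112399 : act 4 n74885 = n72564 := d16_2 D34319 D74885 (iv5 D72564) F52811 F38252 F18808 (iv5 F27113) (iv7 D16623) (iv2 F27109)
def n74886 : Q := act 6 n34320
theorem D74886 : act 6 n34320 = n74886 := rfl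
theorem F112400 : act 3 n74886 = n34322 := d7_1 D74886 (iv6 D34322) D34320
def n74887 : Q := act 3 n34321
theorem D74887 : act 3 n34321 = n74887 := rfl
theorem F112401 : act 7 n74887 = n72405 := d8_2 (iv7 F54476) D74887 (iv3 D72405)
def n74888 : Q := act 5 n34321
theorem D74888 : act 5 n34321 = n74888 := rfl
theorem F112402 : act 2 n74888 = n72573 := d2_1 D74888 F109082 (iv2 F98088)
theorem F112404 : act 7 n74888 = n72406 := d13_2 (iv7 F54476) D74888 (iv5 D72406)
theorem F112405 : act 1 n74888 = n61589 := d17_6 (iv1 F54451) (iv5 D33393) (iv1 F25689) F50805 D34321 D74888 (iv5 D61589) D61588 F96139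
def n74889 : Q := act 6 n34321
theorem D74889 : act 6 n34321 = n74889 := rfl
theorem F112406 : act 4 n74889 = n34322 := d10_1 D74889 (iv6 D34322) D34321
def n74890 : Q := act 0 n34322
theorem D74890 : act 0 n34322 = n74890 := rfl
def n74891 : Q := act 1 n34322
theorem D74891 : act 1 n34322 = n74891 := rfl
def n74892 : Q := act 7 n34322
theorem D74892 : act 7 n34322 = n74892 := rfl
theorem F112407 : act 6 n74892 = n72399 := d14_1 D74892 (iv7 D72399) F52690 (iv7 F50804) D34322
def n74893 : Q := act 3 n34323
theorem D74893 : act 3 n34323 = n74893 := rfl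
def n74894 : Q := act 5 n34323
theorem D74894 : act 5 n34323 = n74894 := rfl
def n74895 : Q := act 6 n34323
theorem D74895 : act 6 n34323 = n74895 := rfl
theorem F112408 : act 4 n74895 = n62793 := d10_1 D74895 (iv6 D62793) (iv4 F54478)
def n74896 : Q := act 0 n34324
theorem D74896 : act 0 n34324 = n74896 := rfl
theorem F112409 : act 1 n65329 = n74896 := d15_0 (iv0 D74896) (iv7 F54480) (iv2 F101044)
def n74897 : Q := act 1 n34324
theorem D74897 : act 1 n34324 = n74897 := rfl
def n74898 : Q := act 2 n34324
theorem D74898 : act 2 n34324 = n74898 := rfl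
theorem F112410 : act 4 n74898 = n34345 := d1_2 (iv4 F54479) D74898 (iv2 D34345)
theorem F112411 : act 7 n74898 = n65329 := d4_2 F54480 D74898 F101044
theorem F112412 : act 1 n74898 = n65341 := d15_0 (iv0 D65341) F54480 D74898
theorem F112413 : act 1 n74897 = n65329 := d15_1 D74897 (iv7 F112411) (iv2 D74898)
theorem F112414 : act 1 n65342 = n74898 := d15_1 D65342 F112411 F101044
def n74899 : Q := act 5 n34324
theorem D74899 : act 5 n34324 = n74899 := rfl
theorem F112415 : act 3 n74899 = n34325 := d6_1 D74899 (iv5 D34325) D34324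
theorem F112416 : act 7 n74899 = n65343 := d13_2 F54480 D74899 (iv5 D65343)
theorem F112417 : act 0 n60107 = n74899 := d19_0 (iv5 D74899) F54479 (iv3 D16629) (iv1 F26225) F26227 (iv4 D7708) (iv3 F11981) D16583 F27058 (iv4 D11707) F8456 (iv1 D2353) D2354 F7733 D6708 (iv1 F54004) D13614 D28557 D60107
def n74900 : Q := act 6 n34324
theorem D74900 : act 6 n34324 = n74900 := rfl
theorem F112418 : act 3 n74900 = n34326 := d7_1 D74900 (iv6 D34326) D34324
theorem F112419 : act 4 n74900 = n34346 := d10_1 D74900 (iv6 D34346) (iv4 F54479)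
def n74901 : Q := act 0 n34325
theorem D74901 : act 0 n34325 = n74901 := rfl
theorem F112420 : act 5 n74901 = n61583 := d17_3 (iv1 D34323) D34325 D74901 (iv4 D61583) (iv5 F54170) (iv0 F42819) (iv5 F23617) (iv0 F54039) (iv4 F54478)
def n74902 : Q := act 1 n34325
theorem D74902 : act 1 n34325 = n74902 := rfl
theorem F112421 : act 5 n74902 = n61585 := d17_7 F52765 (iv5 D16614) (iv1 D7725) D7727 D16621 D34325 D74902 (iv0 F108906) (iv4 D72403)
def n74903 : Q := act 4 n34325
theorem D74903 : act 4 n34325 = n74903 := rfl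
theorem F112423 : act 5 n74903 = n72322 := d16_3 D16621 D34325 D74903 F108777 (iv5 D50011) F38238 (iv5 F52637) F52638 F27109
theorem F112424 : act 0 n74903 = n72570 := d18_2 (iv1 D74902) D74903 (iv4 F112376) (iv5 D74870) (iv4 D34309) (iv0 F53971) D61506 (iv0 F96134) (iv5 F112421)
theorem F112426 : act 7 n74903 = n72567 := d15_2 F109079 (iv0 F112424) F109071
def n74904 : Q := act 6 n34325
theorem D74904 : act 6 n34325 = n74904 := rfl
def n74905 : Q := act 7 n34325
theorem D74905 : act 7 n34325 = n74905 := rfl
theorem F112427 : act 3 n74905 = n65343 := d8_1 D74905 (iv7 F112416) F112415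
theorem F112428 : act 4 n74905 = n72567 := d11_1 D74905 (iv7 F112426) (iv4 D74903)
theorem F112429 : act 5 n74905 = n34327 := d13_1 D74905 (iv7 D34327) D34325
def n74906 : Q := act 0 n34326
theorem D74906 : act 0 n34326 = n74906 := rfl
def n74907 : Q := act 1 n34326
theorem D74907 : act 1 n34326 = n74907 := rfl
def n74908 : Q := act 5 n34326
theorem D74908 : act 5 n34326 = n74908 := rfl
def n74909 : Q := act 7 n34326
theorem D74909 : act 7 n34326 = n74909 := rfl
theorem F112430 : act 4 n74909 = n34330 := d11_1 D74909 (iv7 D34330) (iv4 F54481)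
def n74910 : Q := act 6 n34327
theorem D74910 : act 6 n34327 = n74910 := rfl
theorem F112431 : act 3 n74910 = n65344 := d7_1 D74910 (iv6 D65344) (iv3 F54482)
theorem F112432 : act 4 n74910 = n34331 := d10_1 D74910 (iv6 D34331) (iv4 F54483)
def n74911 : Q := act 3 n34328
theorem D74911 : act 3 n34328 = n74911 := rfl
theorem F112433 : act 5 n74911 = n73253 := d6_2 (iv5 F110034) D74911 F109714
theorem F112434 : act 7 n74911 = n73252 := d8_2 (iv7 F110035) D74911 F109713
def n74912 : Q := act 4 n34328
theorem D74912 : act 4 n34328 = n74912 := rfl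
theorem F112435 : act 7 n74912 = n73299 := d11_2 (iv7 F110035) D74912 (iv4 D73299)
def n74913 : Q := act 6 n34328
theorem D74913 : act 6 n34328 = n74913 := rfl
def n74914 : Q := act 3 n34329
theorem D74914 : act 3 n34329 = n74914 := rfl
theorem F112436 : act 5 n74914 = n72791 := d6_2 F54484 D74914 F109277
def n74915 : Q := act 4 n34329
theorem D74915 : act 4 n34329 = n74915 := rfl
theorem F112437 : act 2 n74915 = n73299 := d1_1 D74915 (iv4 D73299) (iv2 F110012)
def n74916 : Q := act 6 n34329
theorem D74916 : act 6 n34329 = n74916 := rfl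
theorem F112438 : act 2 n74916 = n73294 := d3_1 D74916 F109793 (iv2 F110012)
theorem F112439 : act 5 n74916 = n72802 := d12_1 D74916 (iv6 D72802) (iv5 D33578) D33579 F54484
def n74917 : Q := act 6 n34330
theorem D74917 : act 6 n34330 = n74917 := rfl
theorem F112440 : act 3 n74917 = n34357 := d7_1 D74917 (iv6 D34357) (iv3 F54485)
theorem F112441 : act 7 n74917 = n34331 := d14_2 D34330 D74917 (iv6 D34331) (iv7 D16623) D16622
def n74918 : Q := act 0 n34331
theorem D74918 : act 0 n34331 = n74918 := rfl
def n74919 : Q := act 1 n34331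
theorem D74919 : act 1 n34331 = n74919 := rfl
def n74920 : Q := act 5 n34332
theorem D74920 : act 5 n34332 = n74920 := rfl
theorem F112442 : act 1 n74920 = n61628 := d17_6 F54400 (iv5 D33130) F50586 (iv5 F27117) D34332 D74920 (iv5 D61628) D61627 F96191
def n74921 : Q := act 6 n34332
theorem D74921 : act 6 n34332 = n74921 := rfl
theorem F112443 : act 4 n74921 = n34333 := d10_1 D74921 (iv6 D34333) D34332
theorem F112444 : act 0 n61819 = n74921 := d20_7 (iv4 F112120) (iv1 F112118) F98061 F47809 (iv1 F23628) D29296 D61819 F112443 F54490 D34334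
theorem E10174 : n70825 = n61817 := ((c18_9 (iv1 D32824) D32826 (iv1 F107303) F107244 F86643 (iv4 F112443) (iv0 F112444) (iv4 D61819) D61817 (iv5 D70825))).symm
theorem F112445 : act 5 n61817 = n32824 := (sb E10174 (iv5 D70825))
def n74922 : Q := act 0 n34333
theorem D74922 : act 0 n34333 = n74922 := rfl
def n74923 : Q := act 1 n34333
theorem D74923 : act 1 n34333 = n74923 := rfl
def n74924 : Q := act 7 n34333
theorem D74924 : act 7 n34333 = n74924 := rfl
theorem F112446 : act 3 n74924 = n34337 := d8_1 D74924 (iv7 D34337) (iv3 F54490)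
def n74925 : Q := act 5 n34334
theorem D74925 : act 5 n34334 = n74925 := rfl
theorem F112447 : act 6 n74925 = n69456 := d12_2 (iv6 F54491) D74925 (iv5 D69456) (iv6 D32259) D32258
def n74926 : Q := act 3 n34335
theorem D74926 : act 3 n34335 = n74926 := rfl
def n74927 : Q := act 4 n34335
theorem D74927 : act 4 n34335 = n74927 := rfl
def n74928 : Q := act 5 n34335
theorem D74928 : act 5 n34335 = n74928 := rfl
theorem F112448 : act 6 n74928 = n35990 := d21_3 F107012 (iv1 F78727) D74928 (iv1 F87240) (iv6 D55144) F42707 (iv1 F21144) D16371 D33866 F107014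
def n74929 : Q := act 6 n34335
theorem D74929 : act 6 n34335 = n74929 := rfl
theorem F112449 : act 7 n74929 = n69441 := d14_2 (iv7 F105746) D74929 (iv6 D69441) (iv7 F105739) (iv6 F85596)
def n74930 : Q := act 1 n34336
theorem D74930 : act 1 n34336 = n74930 := rfl
theorem F112450 : act 1 n74930 = n70545 := d15_1 D74930 (iv7 D70545) (iv2 F54492)
theorem F112451 : act 7 n74930 = n55136 := d15_2 (iv0 F54494) D74930 F87213
theorem F112452 : act 5 n74864 = n74930 := d21_6 F21214 (iv1 F9406) D7722 D16606 D34304 D74864 (iv1 D74930) (iv5 D34336) (iv6 D16626) (iv1 F21216)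
theorem F112453 : act 2 n70544 = n74930 := d4_3 F112451 F87213 (iv7 F107008)
theorem F112454 : act 6 n73693 = n74930 := d14_5 F112451 (iv6 D55136) F42696 D33858 D73693
def n74931 : Q := act 7 n34336
theorem D74931 : act 7 n34336 = n74931 := rfl
theorem F112456 : act 5 n74931 = n34337 := d13_1 D74931 (iv7 D34337) D34336
theorem F112457 : act 6 n74931 = n70541 := d14_1 D74931 (iv7 D70541) (iv6 D32724) (iv7 F38233) (iv6 F54493)
theorem F112458 : act 1 n70544 = n74931 := d15_1 D70544 (iv7 D74931) F54492
theorem F112459 : act 1 n74931 = n55136 := d15_1 F112458 (iv7 F112451) (iv2 F112453)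
theorem F112460 : act 4 n49814 = n62831 := d18_1 (iv1 F78723) (iv1 D62831) F47808 F23611 (iv4 F33980) D45224 (iv4 F107010) F112458 F112456
theorem F112461 : act 2 n62831 = n74927 := d1_1 F112460 (iv4 D74927) (iv2 F105747)
theorem F112462 : act 7 n62831 = n74701 := d11_2 (iv7 F105745) F112460 F112120
theorem F112463 : act 2 n74701 = n62830 := d15_3 (iv0 D62830) D62831 F112462
theorem F112464 : act 7 n74927 = n62830 := d4_2 (iv7 F112462) F112461 (iv2 F112463)
theorem E10175 : n74927 = n74702 := (c15_4 F112112 F112118 (iv7 F112462) F112461)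
theorem F112465 : act 2 n74702 = n62831 := (sb E10175 (iv2 F112461))
theorem F112466 : act 4 n74702 = n34335 := (sb E10175 (iv4 D74927))
theorem F112467 : act 7 n74702 = n62830 := (sb E10175 F112464)
theorem F112468 : act 4 n62830 = n49813 := d11_1 F112467 (iv7 F105746) (iv4 F112466)
def n74932 : Q := act 5 n34338
theorem D74932 : act 5 n34338 = n74932 := rfl
def n74933 : Q := act 6 n34338
theorem D74933 : act 6 n34338 = n74933 := rfl
theorem F112469 : act 4 n74933 = n34339 := d10_1 D74933 (iv6 D34339) D34338
def n74934 : Q := act 0 n34339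
theorem D74934 : act 0 n34339 = n74934 := rfl
def n74935 : Q := act 1 n34339
theorem D74935 : act 1 n34339 = n74935 := rfl
def n74936 : Q := act 7 n34339
theorem D74936 : act 7 n34339 = n74936 := rfl
theorem F112470 : act 3 n74936 = n34342 := d8_1 D74936 (iv7 D34342) (iv3 F54495)
def n74937 : Q := act 2 n34340
theorem D74937 : act 2 n34340 = n74937 := rfl
theorem F112471 : act 7 n34341 = n74937 := d15_2 (iv0 D34340) D34341 (iv2 D74937)
def n74938 : Q := act 3 n34340
theorem D74938 : act 3 n34340 = n74938 := rfl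
def n74939 : Q := act 4 n34340
theorem D74939 : act 4 n34340 = n74939 := rfl
def n74940 : Q := act 6 n34340
theorem D74940 : act 6 n34340 = n74940 := rfl
theorem F112472 : act 5 n74940 = n71255 := d21_6 (iv5 D14085) F10908 (iv5 F12022) D16628 D34340 D74940 (iv1 D71255) F52155 (iv6 D24297) (iv1 F23533)
def n74941 : Q := act 7 n34340
theorem D74941 : act 7 n34340 = n74941 := rfl
theorem F112473 : act 2 n74941 = n34341 := d4_1 D74941 F112471 (iv2 D74937)
def n74942 : Q := act 3 n34341
theorem D74942 : act 3 n34341 = n74942 := rfl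
def n74943 : Q := act 4 n34341
theorem D74943 : act 4 n34341 = n74943 := rfl
def n74944 : Q := act 6 n34341
theorem D74944 : act 6 n34341 = n74944 := rfl
theorem F112474 : act 0 n34353 = n74944 := d21_4 (iv5 D55137) (iv1 F53045) (iv5 F53043) D34353 (iv6 D74944) (iv5 F92352) (iv1 D58468) (iv5 F87564) (iv6 D55331) (iv1 F87218)
def n74945 : Q := act 2 n34343
theorem D74945 : act 2 n34343 = n74945 := rfl
theorem F112476 : act 7 n34344 = n74945 := d15_2 (iv0 D34343) D34344 (iv2 D74945)
def n74946 : Q := act 3 n34343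
theorem D74946 : act 3 n34343 = n74946 := rfl
def n74947 : Q := act 4 n34343
theorem D74947 : act 4 n34343 = n74947 := rfl
def n74948 : Q := act 5 n34343
theorem D74948 : act 5 n34343 = n74948 := rfl
def n74949 : Q := act 6 n34343
theorem D74949 : act 6 n34343 = n74949 := rfl
def n74950 : Q := act 7 n34343
theorem D74950 : act 7 n34343 = n74950 := rfl
theorem F112477 : act 2 n74950 = n34344 := d4_1 D74950 F112476 (iv2 D74945)
def n74951 : Q := act 3 n34344
theorem D74951 : act 3 n34344 = n74951 := rfl
def n74952 : Q := act 4 n34344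
theorem D74952 : act 4 n34344 = n74952 := rfl
def n74953 : Q := act 5 n34344
theorem D74953 : act 5 n34344 = n74953 := rfl
def n74954 : Q := act 6 n34344
theorem D74954 : act 6 n34344 = n74954 := rfl
def n74955 : Q := act 6 n34345
theorem D74955 : act 6 n34345 = n74955 := rfl
theorem F112478 : act 2 n74955 = n34346 := d3_1 D74955 (iv6 D34346) D34345
def n74956 : Q := act 0 n34346
theorem D74956 : act 0 n34346 = n74956 := rfl
def n74957 : Q := act 1 n34346
theorem D74957 : act 1 n34346 = n74957 := rfl
def n74958 : Q := act 5 n34346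
theorem D74958 : act 5 n34346 = n74958 := rfl
theorem F112479 : act 3 n74958 = n34349 := d6_1 D74958 (iv5 D34349) (iv3 F54502)
theorem F112480 : act 6 n74958 = n65350 := d12_2 D34346 D74958 (iv5 D65350) (iv6 D30652) (iv5 F27129)
def n74959 : Q := act 7 n34346
theorem D74959 : act 7 n34346 = n74959 := rfl
theorem F112481 : act 3 n74959 = n34350 := d8_1 D74959 (iv7 D34350) (iv3 F54502)
theorem F112482 : act 6 n74959 = n65347 := d14_1 D74959 (iv7 D65347) (iv6 D30651) (iv7 F27130) D34346
def n74960 : Q := act 3 n34347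
theorem D74960 : act 3 n34347 = n74960 := rfl
def n74961 : Q := act 5 n34347
theorem D74961 : act 5 n34347 = n74961 := rfl
def n74962 : Q := act 6 n34347
theorem D74962 : act 6 n34347 = n74962 := rfl
theorem F112483 : act 4 n74962 = n49876 := d10_1 D74962 (iv6 D49876) (iv4 F56393)
def n74963 : Q := act 3 n34348
theorem D74963 : act 3 n34348 = n74963 := rfl
def n74964 : Q := act 5 n34348
theorem D74964 : act 5 n34348 = n74964 := rfl
def n74965 : Q := act 6 n34348
theorem D74965 : act 6 n34348 = n74965 := rfl
theorem F112484 : act 4 n74965 = n49878 := d10_1 D74965 (iv6 D49878) (iv4 F54503)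
def n74966 : Q := act 0 n34349
theorem D74966 : act 0 n34349 = n74966 := rfl
theorem F112485 : act 5 n74966 = n69840 := d17_3 (iv1 D34348) D34349 D74966 (iv4 D69840) (iv5 D32430) (iv0 D15322) (iv5 F18714) D24320 (iv4 F54503)
theorem F112486 : act 1 n69547 = n74966 := d17_6 F53281 (iv5 D16670) (iv1 F21235) (iv5 F42839) (iv4 F87516) (iv5 F105834) F112485 (iv0 F110690) (iv4 D73880)
def n74967 : Q := act 1 n34349
theorem D74967 : act 1 n34349 = n74967 := rfl
theorem F112488 : act 5 n74967 = n69848 := d17_7 F53209 (iv5 D16675) (iv1 D7755) (iv5 F12032) (iv4 F27131) D34349 D74967 (iv0 F110409) (iv4 D73707)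
def n74968 : Q := act 4 n34349
theorem D74968 : act 4 n34349 = n74968 := rfl
theorem F112489 : act 5 n74968 = n34784 := d9_2 D34349 D74968 (iv4 D34784) (iv5 D16851) (iv4 F21231) (iv5 F42839) (iv4 F87516) (iv5 F105834) F105833 (iv5 D35166) (iv4 D17072) (iv5 D7985) F5649 (iv5 F12032) (iv4 F27131)
theorem F112490 : act 6 n74968 = n65370 := d10_2 (iv6 F54504) D74968 (iv4 D65370)
theorem F112491 : act 7 n34807 = n74968 := d14_0 F112490 F101065 (iv6 F85630) (iv7 F85632) (iv6 F55011)
def n74969 : Q := act 7 n34349
theorem D74969 : act 7 n34349 = n74969 := rfl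
theorem F112492 : act 2 n74969 = n69547 := d4_1 D74969 F105835 F87513
theorem F112493 : act 4 n74969 = n34807 := d11_1 D74969 F112491 (iv4 D74968)
theorem F112494 : act 5 n74969 = n34350 := d13_1 D74969 (iv7 D34350) D34349
def n74970 : Q := act 0 n34351
theorem D74970 : act 0 n34351 = n74970 := rfl
theorem F112496 : act 1 n73772 = n74970 := d15_0 (iv0 D74970) F54508 (iv2 F110480)
def n74971 : Q := act 1 n34351
theorem D74971 : act 1 n34351 = n74971 := rfl
def n74972 : Q := act 2 n34351
theorem D74972 : act 2 n34351 = n74972 := rfl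
theorem F112497 : act 5 n74972 = n73773 := d2_2 (iv5 F54507) D74972 F110481
theorem F112498 : act 7 n74972 = n73772 := d4_2 (iv7 F54508) D74972 F110480
theorem F112499 : act 1 n74972 = n73819 := d15_0 (iv0 D73819) (iv7 F54508) D74972
theorem F112500 : act 1 n74971 = n73772 := d15_1 D74971 (iv7 F112498) (iv2 D74972)
theorem F112501 : act 1 n73820 = n74972 := d15_1 D73820 F112498 F110480
def n74973 : Q := act 4 n34351
theorem D74973 : act 4 n34351 = n74973 := rfl
theorem F112502 : act 7 n74973 = n73821 := d11_2 (iv7 F54508) D74973 (iv4 D73821)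
theorem F112503 : act 0 n61769 = n74973 := d20_7 (iv4 F87516) (iv1 F87518) F54503 F110513 (iv1 D29283) (iv3 F46929) (iv4 F96355) (iv4 D74973) (iv3 D34351) (iv1 F42842)
def n74974 : Q := act 6 n34351
theorem D74974 : act 6 n34351 = n74974 := rfl
theorem F112504 : act 3 n74974 = n34353 := d7_1 D74974 (iv6 D34353) D34351
theorem F112505 : act 5 n74974 = n62753 := d12_1 D74974 (iv6 F108181) F108180 F87337 (iv5 F54507)
def n74976 : Q := act 5 n34352
theorem D74976 : act 5 n34352 = n74976 := rfl
theorem F112507 : act 7 n74976 = n73882 := d13_2 (iv7 F54509) D74976 (iv5 D73882)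
def n74978 : Q := act 1 n34353
theorem D74978 : act 1 n34353 = n74978 := rfl
theorem F112509 : act 1 n74978 = n62751 := d15_1 D74978 F97889 F87522
theorem F112510 : act 5 n71774 = n74978 := d21_6 (iv5 D15986) (iv1 F20989) (iv5 F42166) D54624 (iv1 F86343) D71774 (iv1 D74978) F54511 (iv6 F53039) (iv1 D33151)
theorem F112511 : act 0 n62702 = n71774 := d21_10 F112510 (iv1 D74978) F54511 (iv6 F53039) (iv1 D33151) D33153 (iv5 F53218) F97814 (iv5 D62701) D62702
def n74979 : Q := act 0 n34354
theorem D74979 : act 0 n34354 = n74979 := rfl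
def n74980 : Q := act 1 n34354
theorem D74980 : act 1 n34354 = n74980 := rfl
def n74981 : Q := act 2 n34354
theorem D74981 : act 2 n34354 = n74981 := rfl
theorem F112512 : act 3 n74981 = n73772 := d0_2 D34354 D74981 F110480 F53249 (iv2 F53096)
theorem F112513 : act 5 n74981 = n55157 := d2_2 (iv5 F54512) D74981 F87252
def n74982 : Q := act 4 n34354
theorem D74982 : act 4 n34354 = n74982 := rfl
def n74983 : Q := act 6 n34354
theorem D74983 : act 6 n34354 = n74983 := rfl
theorem F112515 : act 5 n74983 = n55165 := d12_1 D74983 (iv6 D55165) (iv5 D26657) D26658 (iv5 F54512)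
def n74985 : Q := act 5 n34355
theorem D74985 : act 5 n34355 = n74985 := rfl
theorem F112516 : act 2 n74985 = n73882 := d2_1 D74985 (iv5 D73882) (iv2 F54513)
def n74986 : Q := act 6 n34355
theorem D74986 : act 6 n34355 = n74986 := rfl
theorem F112518 : act 4 n74986 = n34356 := d10_1 D74986 (iv6 D34356) D34355
def n74987 : Q := act 7 n34356
theorem D74987 : act 7 n34356 = n74987 := rfl
theorem F112520 : act 5 n74987 = n55180 := d13_1 D74987 (iv7 D55180) (iv5 F54516)
theorem F112521 : act 6 n74987 = n62751 := d14_1 D74987 F97889 (iv6 D55301) F53091 D34356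
theorem F112522 : act 1 n54251 = n74987 := d15_1 (iv0 F85595) (iv7 D74987) F54515
theorem F112523 : act 1 n74987 = n54246 := d15_1 F112522 F105731 (iv2 F105738)
def n74988 : Q := act 2 n34358
theorem D74988 : act 2 n34358 = n74988 := rfl
theorem F112524 : act 7 n34359 = n74988 := d15_2 (iv0 D34358) D34359 (iv2 D74988)
def n74989 : Q := act 3 n34358
theorem D74989 : act 3 n34358 = n74989 := rfl
def n74990 : Q := act 4 n34358
theorem D74990 : act 4 n34358 = n74990 := rfl
def n74991 : Q := act 5 n34358
theorem D74991 : act 5 n34358 = n74991 := rfl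
theorem F112525 : act 0 n74991 = n68768 := d21_1 D74991 (iv5 F105759) (iv6 D69464) (iv1 D32261) F24824 (iv5 D11439) F8091 (iv5 F12034) D16634 D34358
def n74992 : Q := act 6 n34358
theorem D74992 : act 6 n34358 = n74992 := rfl
theorem F112526 : act 5 n74992 = n35057 := d21_6 (iv5 D11439) F8091 (iv5 F12034) D16634 D34358 D74992 (iv1 D35057) (iv5 F47649) (iv6 D29648) F23532
theorem F112527 : act 0 n69441 = n74992 := d21_4 (iv5 D15215) D15213 D32253 D69441 (iv6 D74992) D74991 F112525 (iv5 F105759) (iv6 D69464) (iv1 D32261)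
def n74993 : Q := act 7 n34358
theorem D74993 : act 7 n34358 = n74993 := rfl
theorem F112528 : act 2 n74993 = n34359 := d4_1 D74993 F112524 (iv2 D74988)
def n74994 : Q := act 3 n34359
theorem D74994 : act 3 n34359 = n74994 := rfl
def n74995 : Q := act 4 n34359
theorem D74995 : act 4 n34359 = n74995 := rfl
def n74996 : Q := act 5 n34359
theorem D74996 : act 5 n34359 = n74996 := rfl
theorem F112529 : act 0 n68768 = n74996 := d21_10 (iv5 D74996) (iv1 D34359) (iv5 F50370) (iv6 D32002) (iv1 D15092) (iv6 F24712) (iv5 D15090) D15088 D31990 D68768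
theorem F112530 : act 6 n68549 = n74996 := d21_5 (iv5 D7177) (iv1 F20615) D15016 D31892 D68549 (iv5 D74996) (iv1 D34359) (iv5 F50370) (iv6 D32002) (iv1 D15092)
def n74997 : Q := act 6 n34359
theorem D74997 : act 6 n34359 = n74997 := rfl
theorem F112531 : act 5 n74997 = n72193 := d21_6 (iv5 D16670) (iv1 F21235) (iv5 F42839) D55302 (iv1 F87528) D74997 (iv1 D72193) F78759 (iv6 F78758) F53281
def n74998 : Q := act 6 n34362
theorem D74998 : act 6 n34362 = n74998 := rfl
theorem F112532 : act 2 n74998 = n55629 := d3_1 D74998 (iv6 D55629) F54534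
theorem F112533 : act 3 n74998 = n55624 := d7_1 D74998 (iv6 D55624) (iv3 F54537)
theorem F112534 : act 5 n74998 = n72354 := d12_1 D74998 (iv6 D72354) (iv5 D33393) (iv6 F53994) (iv5 F54533)
def n74999 : Q := act 0 n34363
theorem D74999 : act 0 n34363 = n74999 := rfl
theorem F112535 : act 5 n74999 = n73048 := d17_1 D74999 (iv1 F109574) F107995 F90776 (iv5 F59334) F59042 (iv5 F29530) D35354 (iv4 F56068)
theorem F112536 : act 3 n74999 = n57079 := d20_5 F25739 F46098 F46096 D34363 D74999 F108789 (iv1 D72332) F52625 (iv3 D16157) D16155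
def n75000 : Q := act 1 n34363
theorem D75000 : act 1 n34363 = n75000 := rfl
theorem F112537 : act 5 n75000 = n44993 := d18_9 F109563 D73049 F109579 (iv4 F90047) (iv5 D56965) F44236 D35354 (iv4 F56068) D75000
def n75001 : Q := act 2 n34363
theorem D75001 : act 2 n34363 = n75001 := rfl
theorem F112538 : act 4 n75001 = n36539 := d1_2 (iv4 F56068) D75001 (iv2 F57391)
def n75002 : Q := act 6 n34363
theorem D75002 : act 6 n34363 = n75002 := rfl
theorem F112539 : act 3 n75002 = n34364 := d7_1 D75002 (iv6 D34364) D34363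
def n75003 : Q := act 0 n34364
theorem D75003 : act 0 n34364 = n75003 := rfl
def n75004 : Q := act 1 n34364
theorem D75004 : act 1 n34364 = n75004 := rfl
def n75005 : Q := act 5 n34364
theorem D75005 : act 5 n34364 = n75005 := rfl
def n75006 : Q := act 0 n34365
theorem D75006 : act 0 n34365 = n75006 := rfl
theorem F112540 : act 5 n75006 = n71314 := d17_1 D75006 F107806 (iv5 F90806) F90805 F53012 (iv0 D26449) D26451 (iv0 F77214) F77212
theorem F112541 : act 4 n75006 = n40718 := d18_1 D75006 (iv1 F61833) F52203 F52183 (iv4 D33003) D33002 D71319 F107818 F86477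
def n75007 : Q := act 1 n34365
theorem D75007 : act 1 n34365 = n75007 := rfl
theorem F112542 : act 5 n75007 = n60114 := d17_7 (iv1 F27842) (iv5 D12621) D12619 D26440 D54668 F86477 D75007 F94676 (iv4 D34906)
theorem F112543 : act 4 n75007 = n40719 := d17_9 (iv1 D40719) F30867 (iv1 F46194) (iv5 F61019) (iv4 F90800) (iv5 F107816) F107818 F86477 D75007
theorem F112544 : act 3 n56941 = n75007 := d20_5 (iv4 D17631) (iv1 F14023) D13096 D27326 D56941 F112543 (iv1 D40719) (iv4 F42996) (iv3 D26759) (iv1 F28693)
def n75009 : Q := act 0 n34366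
theorem D75009 : act 0 n34366 = n75009 := rfl
def n75010 : Q := act 1 n34366
theorem D75010 : act 1 n34366 = n75010 := rfl
def n75012 : Q := act 7 n34366
theorem D75012 : act 7 n34366 = n75012 := rfl
def n75013 : Q := act 3 n34367
theorem D75013 : act 3 n34367 = n75013 := rfl
theorem F112546 : act 4 n75013 = n55363 := d5_2 D34367 D75013 F87624 F42982 F27975
theorem F112547 : act 5 n75013 = n69758 := d6_2 (iv5 F54539) D75013 (iv3 D69758)
def n75014 : Q := act 6 n34367
theorem D75014 : act 6 n34367 = n75014 := rfl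
theorem F112548 : act 2 n75014 = n69764 := d3_1 D75014 (iv6 D69764) (iv2 F54538)
theorem F112549 : act 4 n75014 = n34368 := d10_1 D75014 (iv6 D34368) D34367
def n75015 : Q := act 0 n34368
theorem D75015 : act 0 n34368 = n75015 := rfl
def n75016 : Q := act 1 n34368
theorem D75016 : act 1 n34368 = n75016 := rfl
def n75017 : Q := act 5 n34368
theorem D75017 : act 5 n34368 = n75017 := rfl
theorem F112550 : act 6 n75017 = n34371 := d12_2 D34368 D75017 (iv5 D34371) (iv6 D16660) D16659
def n75018 : Q := act 7 n34368
theorem D75018 : act 7 n34368 = n75018 := rfl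
def n75019 : Q := act 2 n34369
theorem D75019 : act 2 n34369 = n75019 := rfl
theorem F112551 : act 7 n34370 = n75019 := d15_2 (iv0 D34369) D34370 (iv2 D75019)
def n75020 : Q := act 3 n34369
theorem D75020 : act 3 n34369 = n75020 := rfl
def n75021 : Q := act 5 n34369
theorem D75021 : act 5 n34369 = n75021 := rfl
def n75022 : Q := act 6 n34369
theorem D75022 : act 6 n34369 = n75022 := rfl
def n75023 : Q := act 7 n34369
theorem D75023 : act 7 n34369 = n75023 := rfl
theorem F112552 : act 2 n75023 = n34370 := d4_1 D75023 F112551 (iv2 D75019)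
def n75024 : Q := act 3 n34370
theorem D75024 : act 3 n34370 = n75024 := rfl
def n75025 : Q := act 4 n34370
theorem D75025 : act 4 n34370 = n75025 := rfl
theorem F112553 : act 3 n69796 = n75025 := d20_5 F28972 (iv1 F13151) (iv4 F24900) (iv3 F51487) (iv1 F106207) (iv4 D75025) (iv1 D34370) F27292 F12054 D7754
def n75026 : Q := act 5 n34370
theorem D75026 : act 5 n34370 = n75026 := rfl
def n75027 : Q := act 6 n34370
theorem D75027 : act 6 n34370 = n75027 := rfl
def n75028 : Q := act 0 n34371
theorem D75028 : act 0 n34371 = n75028 := rfl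
def n75029 : Q := act 1 n34371
theorem D75029 : act 1 n34371 = n75029 := rfl
theorem F112554 : act 5 n72770 = n75029 := d21_6 (iv5 F44446) (iv1 F44445) (iv5 D16222) D16223 D33571 D72770 (iv1 D75029) (iv5 D34371) (iv6 D16660) D16657
def n75030 : Q := act 4 n34371
theorem D75030 : act 4 n34371 = n75030 := rfl
def n75031 : Q := act 7 n34371
theorem D75031 : act 7 n34371 = n75031 := rfl
theorem F112555 : act 5 n75031 = n34372 := d13_1 D75031 (iv7 D34372) D34371
theorem F112556 : act 1 n73164 = n75031 := d15_1 (iv0 F109649) (iv7 D75031) (iv2 F108923)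
def n75032 : Q := act 0 n34373
theorem D75032 : act 0 n34373 = n75032 := rfl
theorem F112557 : act 1 n34378 = n75032 := d15_0 (iv0 D75032) (iv7 F54543) (iv2 F54544)
def n75034 : Q := act 3 n34373
theorem D75034 : act 3 n34373 = n75034 := rfl
theorem F112559 : act 7 n75034 = n34379 := d8_2 F54543 D75034 (iv3 D34379)
def n75035 : Q := act 4 n34373
theorem D75035 : act 4 n34373 = n75035 := rfl
theorem F112560 : act 2 n75035 = n34375 := d1_1 D75035 (iv4 D34375) D34373
theorem F112561 : act 7 n75035 = n34380 := d11_2 F54543 D75035 (iv4 D34380)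
def n75036 : Q := act 5 n34373
theorem D75036 : act 5 n34373 = n75036 := rfl
theorem F112562 : act 2 n75036 = n34376 := d2_1 D75036 (iv5 D34376) D34373
theorem F112563 : act 7 n75036 = n34381 := d13_2 F54543 D75036 (iv5 D34381)
theorem F112564 : act 1 n73298 = n34381 := d15_1 (iv0 F109796) (iv7 F112563) F112562
def n75037 : Q := act 6 n34373
theorem D75037 : act 6 n34373 = n75037 := rfl
theorem F112565 : act 2 n75037 = n34377 := d3_1 D75037 (iv6 D34377) D34373
def n75038 : Q := act 0 n34374
theorem D75038 : act 0 n34374 = n75038 := rfl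
def n75039 : Q := act 1 n34374
theorem D75039 : act 1 n34374 = n75039 := rfl
def n75040 : Q := act 2 n34374
theorem D75040 : act 2 n34374 = n75040 := rfl
def n75041 : Q := act 4 n34374
theorem D75041 : act 4 n34374 = n75041 := rfl
theorem F112566 : act 0 n75041 = n70729 := d20_7 F43174 (iv1 D7984) F5649 (iv3 F12054) D16661 D34374 D75041 F107191 F51910 (iv1 F25188)
theorem F112567 : act 0 n60063 = n75041 := d20_7 (iv4 F108925) (iv1 F108927) D75025 (iv3 F112553) (iv1 D69796) F51463 (iv4 F94600) (iv4 D75041) (iv3 D34374) (iv1 F52723)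
def n75042 : Q := act 5 n34374
theorem D75042 : act 5 n34374 = n75042 := rfl
def n75043 : Q := act 6 n34374
theorem D75043 : act 6 n34374 = n75043 := rfl
theorem F112569 : act 3 n75043 = n34377 := d7_1 D75043 (iv6 D34377) D34374
def n75044 : Q := act 7 n34374
theorem D75044 : act 7 n34374 = n75044 := rfl
theorem F112570 : act 3 n75044 = n34378 := d8_1 D75044 (iv7 D34378) D34374
def n75045 : Q := act 1 n34375
theorem D75045 : act 1 n34375 = n75045 := rfl
theorem F112571 : act 1 n75045 = n34380 := d15_1 D75045 (iv7 F112561) F112560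
def n75046 : Q := act 3 n34375
theorem D75046 : act 3 n34375 = n75046 := rfl
def n75047 : Q := act 5 n34375
theorem D75047 : act 5 n34375 = n75047 := rfl
def n75048 : Q := act 6 n34375
theorem D75048 : act 6 n34375 = n75048 := rfl
theorem F112572 : act 4 n75048 = n34377 := d10_1 D75048 (iv6 D34377) D34375
def n75049 : Q := act 7 n34375
theorem D75049 : act 7 n34375 = n75049 := rfl
theorem F112573 : act 2 n75049 = n34380 := d4_1 D75049 (iv7 F112561) F112560
theorem F112574 : act 4 n75049 = n34378 := d11_1 D75049 (iv7 D34378) D34375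
theorem F112575 : act 1 n34380 = n72434 := d15_0 (iv0 F109926) D75049 F112573
theorem E10176 : n75045 = n72301 := ((c15_4 F112571 F112575 (iv7 D72434) (iv2 F108750))).symm
theorem F112576 : act 0 n72301 = n34375 := (sb E10176 (iv1 D75045))
theorem F112577 : act 1 n72301 = n34380 := (sb E10176 F112571)
def n75050 : Q := act 4 n34376
theorem D75050 : act 4 n34376 = n75050 := rfl
def n75051 : Q := act 6 n34376
theorem D75051 : act 6 n34376 = n75051 := rfl
def n75052 : Q := act 7 n34376
theorem D75052 : act 7 n34376 = n75052 := rfl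
theorem F112578 : act 2 n75052 = n34381 := d4_1 D75052 (iv7 F112563) F112562
theorem F112579 : act 5 n75052 = n34378 := d13_1 D75052 (iv7 D34378) D34376
def n75053 : Q := act 7 n34377
theorem D75053 : act 7 n34377 = n75053 := rfl
def n75054 : Q := act 6 n34378
theorem D75054 : act 6 n34378 = n75054 := rfl
theorem F112580 : act 2 n75054 = n34382 := d3_1 D75054 (iv6 D34382) (iv2 F54544)
def n75055 : Q := act 0 n34379
theorem D75055 : act 0 n34379 = n75055 := rfl
def n75056 : Q := act 1 n34379
theorem D75056 : act 1 n34379 = n75056 := rfl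
def n75057 : Q := act 2 n34379
theorem D75057 : act 2 n34379 = n75057 := rfl
def n75058 : Q := act 4 n34379
theorem D75058 : act 4 n34379 = n75058 := rfl
def n75059 : Q := act 5 n34379
theorem D75059 : act 5 n34379 = n75059 := rfl
theorem F112581 : act 3 n75059 = n34381 := d6_1 D75059 (iv5 D34381) D34379
def n75060 : Q := act 6 n34379
theorem D75060 : act 6 n34379 = n75060 := rfl
theorem F112582 : act 3 n75060 = n34382 := d7_1 D75060 (iv6 D34382) D34379
def n75061 : Q := act 3 n34380
theorem D75061 : act 3 n34380 = n75061 := rfl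
def n75062 : Q := act 5 n34380
theorem D75062 : act 5 n34380 = n75062 := rfl
def n75063 : Q := act 6 n34380
theorem D75063 : act 6 n34380 = n75063 := rfl
theorem F112583 : act 4 n75063 = n34382 := d10_1 D75063 (iv6 D34382) D34380
def n75064 : Q := act 4 n34381
theorem D75064 : act 4 n34381 = n75064 := rfl
def n75065 : Q := act 6 n34381
theorem D75065 : act 6 n34381 = n75065 := rfl
theorem F112584 : act 0 n72354 = n75065 := d21_4 (iv5 D16125) D16123 D33393 D72354 (iv6 D75065) (iv5 D34381) (iv1 D16662) (iv5 F27111) (iv6 D16622) (iv1 F50803)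
def n75066 : Q := act 7 n34382
theorem D75066 : act 7 n34382 = n75066 := rfl
def n75067 : Q := act 6 n34384
theorem D75067 : act 6 n34384 = n75067 := rfl
theorem F112585 : act 2 n75067 = n69076 := d3_1 D75067 (iv6 D69076) (iv2 F54552)
theorem F112586 : act 3 n75067 = n69141 := d7_1 D75067 (iv6 D69141) (iv3 F54553)
theorem F112587 : act 5 n75067 = n61561 := d12_1 D75067 (iv6 D61561) F54012 (iv6 F50815) D34384
def n75068 : Q := act 3 n34385
theorem D75068 : act 3 n34385 = n75068 := rfl
theorem F112588 : act 4 n75068 = n34409 := d5_2 D34385 D75068 (iv3 D34409) (iv4 D16682) (iv3 F27294)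
def n75069 : Q := act 5 n34385
theorem D75069 : act 5 n34385 = n75069 := rfl
theorem F112589 : act 4 n75069 = n68995 := d16_2 D34385 D75069 (iv5 D68995) (iv4 F104500) (iv5 D68325) F50086 (iv5 F51020) F51019 F50660
theorem F112590 : act 0 n75069 = n59900 := d17_2 F94288 D75069 (iv5 D59900) (iv4 D28451) (iv5 F50824) (iv0 D26050) (iv5 F24632) (iv0 F54306) D59847
theorem F112591 : act 1 n75069 = n59909 := d17_6 (iv1 F54555) (iv5 D34384) (iv1 D16665) D16666 D34385 D75069 (iv5 D59909) F94379 F94378
def n75073 : Q := act 5 n34386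
theorem D75073 : act 5 n34386 = n75073 := rfl
def n75074 : Q := act 6 n34386
theorem D75074 : act 6 n34386 = n75074 := rfl
def n75080 : Q := act 4 n34388
theorem D75080 : act 4 n34388 = n75080 := rfl
theorem F112594 : act 2 n75080 = n34389 := d1_1 D75080 (iv4 D34389) D34388
def n75081 : Q := act 5 n34388
theorem D75081 : act 5 n34388 = n75081 := rfl
theorem F112595 : act 2 n75081 = n34390 := d2_1 D75081 (iv5 D34390) D34388
def n75082 : Q := act 6 n34388
theorem D75082 : act 6 n34388 = n75082 := rfl
theorem F112596 : act 2 n75082 = n34391 := d3_1 D75082 (iv6 D34391) D34388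
theorem F112597 : act 5 n39476 = n75082 := d2_0 F112596 (iv5 F54559) D39476
def n75083 : Q := act 0 n34389
theorem D75083 : act 0 n34389 = n75083 := rfl
def n75084 : Q := act 5 n34389
theorem D75084 : act 5 n34389 = n75084 := rfl
def n75085 : Q := act 6 n34389
theorem D75085 : act 6 n34389 = n75085 := rfl
theorem F112598 : act 4 n75085 = n34391 := d10_1 D75085 (iv6 D34391) D34389
def n75086 : Q := act 0 n34390
theorem D75086 : act 0 n34390 = n75086 := rfl
def n75087 : Q := act 1 n34390
theorem D75087 : act 1 n34390 = n75087 := rfl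
def n75088 : Q := act 4 n34390
theorem D75088 : act 4 n34390 = n75088 := rfl
def n75089 : Q := act 6 n34390
theorem D75089 : act 6 n34390 = n75089 := rfl
theorem F112600 : act 5 n75089 = n39478 := d12_1 D75089 (iv6 D39478) F54559 (iv6 D34391) D34390
def n75090 : Q := act 0 n34391
theorem D75090 : act 0 n34391 = n75090 := rfl
def n75091 : Q := act 1 n34391
theorem D75091 : act 1 n34391 = n75091 := rfl
def n75092 : Q := act 0 n34392
theorem D75092 : act 0 n34392 = n75092 := rfl
theorem F112601 : act 4 n75092 = n35710 := d18_3 F53281 D34392 D75092 (iv5 D35710) F28246 (iv0 F28958) F25886 D16402 D33928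
theorem F112602 : act 1 n34400 = n75092 := d15_0 (iv0 D75092) (iv7 F87577) F87576
theorem F112603 : act 2 n70532 = n75092 := d1_3 F112601 F56394 D70532
def n75093 : Q := act 1 n34392
theorem D75093 : act 1 n34392 = n75093 := rfl
theorem F112604 : act 1 n75093 = n34400 := d15_1 D75093 (iv7 F87562) F87561
theorem F112605 : act 7 n75093 = n70532 := d15_2 (iv0 D75092) D75093 F112603
def n75094 : Q := act 3 n34392
theorem D75094 : act 3 n34392 = n75094 := rfl
def n75095 : Q := act 5 n34392
theorem D75095 : act 5 n34392 = n75095 := rfl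
theorem F112608 : act 1 n75095 = n50046 := d17_6 (iv1 D16632) F12032 D7754 D16670 D34392 D75095 (iv5 D50046) (iv0 F54514) (iv4 D34355)
def n75096 : Q := act 6 n34392
theorem D75096 : act 6 n34392 = n75096 := rfl
def n75097 : Q := act 1 n34393
theorem D75097 : act 1 n34393 = n75097 := rfl
theorem F112610 : act 7 n75097 = n69460 := d15_2 (iv0 F112333) D75097 (iv2 F112331)
theorem F112611 : act 5 n55217 = n75097 := d21_0 (iv1 D75097) F54560 (iv6 D18709) (iv1 D8772) (iv6 F9366) (iv5 D6028) D6026 D12745 D26682 D55217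
theorem F112612 : act 2 n75097 = n74044 := d2_1 F112611 (iv5 D74044) (iv2 F112337)
def n75098 : Q := act 7 n34393
theorem D75098 : act 7 n34393 = n75098 := rfl
theorem F112613 : act 5 n75098 = n39483 := d13_1 D75098 (iv7 D39483) (iv5 F54560)
theorem F112614 : act 6 n75098 = n62710 := d14_1 D75098 F97825 (iv6 D55339) F51294 D34393
theorem F112615 : act 1 n74044 = n75098 := d15_1 (iv0 F110788) (iv7 D75098) (iv2 F87563)
theorem F112616 : act 1 n75098 = n69460 := d15_1 F112615 (iv7 F112610) F112612
def n75100 : Q := act 3 n34394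
theorem D75100 : act 3 n34394 = n75100 := rfl
def n75109 : Q := act 4 n34396
theorem D75109 : act 4 n34396 = n75109 := rfl
theorem F112619 : act 2 n75109 = n34397 := d1_1 D75109 (iv4 D34397) D34396
def n75110 : Q := act 5 n34396
theorem D75110 : act 5 n34396 = n75110 := rfl
theorem F112620 : act 2 n75110 = n34398 := d2_1 D75110 (iv5 D34398) D34396
def n75111 : Q := act 6 n34396
theorem D75111 : act 6 n34396 = n75111 := rfl
theorem F112621 : act 2 n75111 = n34399 := d3_1 D75111 (iv6 D34399) D34396
def n75112 : Q := act 0 n34397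
theorem D75112 : act 0 n34397 = n75112 := rfl
def n75113 : Q := act 1 n34397
theorem D75113 : act 1 n34397 = n75113 := rfl
def n75114 : Q := act 5 n34397
theorem D75114 : act 5 n34397 = n75114 := rfl
def n75115 : Q := act 6 n34397
theorem D75115 : act 6 n34397 = n75115 := rfl
theorem F112622 : act 4 n75115 = n34399 := d10_1 D75115 (iv6 D34399) D34397
def n75116 : Q := act 0 n34398
theorem D75116 : act 0 n34398 = n75116 := rfl
def n75117 : Q := act 1 n34398
theorem D75117 : act 1 n34398 = n75117 := rfl
def n75118 : Q := act 4 n34398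
theorem D75118 : act 4 n34398 = n75118 := rfl
def n75119 : Q := act 6 n34398
theorem D75119 : act 6 n34398 = n75119 := rfl
theorem F112623 : act 3 n75119 = n34401 := d7_1 D75119 (iv6 D34401) (iv3 F54561)
def n75120 : Q := act 0 n34399
theorem D75120 : act 0 n34399 = n75120 := rfl
def n75121 : Q := act 1 n34399
theorem D75121 : act 1 n34399 = n75121 := rfl
def n75122 : Q := act 3 n34400
theorem D75122 : act 3 n34400 = n75122 := rfl
def n75123 : Q := act 5 n34400
theorem D75123 : act 5 n34400 = n75123 := rfl
theorem F112624 : act 0 n75123 = n50046 := d17_2 (iv1 F112602) D75123 (iv5 D50046) F38265 F18821 D15699 D32796 (iv0 F56395) (iv4 F112601)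
def n75124 : Q := act 6 n34400
theorem D75124 : act 6 n34400 = n75124 := rfl
theorem F112625 : act 4 n75124 = n34401 := d10_1 D75124 (iv6 D34401) D34400
theorem F112626 : act 0 n62822 = n75124 := d21_4 (iv5 D16531) (iv1 F26114) (iv5 F47789) D62822 (iv6 D75124) D75123 F112624 (iv5 D50046) (iv6 D24407) (iv1 F26153)
def n75125 : Q := act 6 n34402
theorem D75125 : act 6 n34402 = n75125 := rfl
theorem F112627 : act 2 n75125 = n54153 := d3_1 D75125 (iv6 D54153) (iv2 F54564)
theorem F112628 : act 3 n75125 = n34405 := d7_1 D75125 (iv6 D34405) (iv3 F54565)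
theorem F112629 : act 5 n75125 = n55237 := d12_1 D75125 (iv6 D55237) F54572 (iv6 D34403) D34402
def n75126 : Q := act 3 n34404
theorem D75126 : act 3 n34404 = n75126 := rfl
theorem F112630 : act 5 n75126 = n54063 := d6_2 (iv5 F54576) D75126 (iv3 D54063)
theorem F112631 : act 7 n75126 = n69740 := d8_2 (iv7 F54575) D75126 (iv3 D69740)
def n75127 : Q := act 6 n34404
theorem D75127 : act 6 n34404 = n75127 := rfl
theorem F112632 : act 2 n75127 = n68808 := d3_1 D75127 (iv6 D68808) (iv2 F54574)
theorem F112633 : act 4 n75127 = n34405 := d10_1 D75127 (iv6 D34405) D34404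
def n75128 : Q := act 0 n34405
theorem D75128 : act 0 n34405 = n75128 := rfl
theorem F112634 : act 6 n75128 = n54057 := d21_5 (iv5 D7759) D7757 D16678 D34405 D75128 (iv5 D54057) (iv1 D26148) D26149 F41456 F20662
theorem F112635 : act 5 n75128 = n39424 := d21_8 (iv5 D32334) (iv1 D15237) D15238 F24831 (iv1 F21161) D26692 (iv5 F54578) D75128 (iv6 F105997) (iv1 F105965)
theorem F112636 : act 2 n68782 = n75128 := d2_3 F112635 F105999 (iv5 F104970)
theorem F112637 : act 7 n69735 = n75128 := d13_0 F112635 (iv7 F106000) F106120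
def n75129 : Q := act 1 n34405
theorem D75129 : act 1 n34405 = n75129 := rfl
theorem F112638 : act 1 n75129 = n69736 := d15_1 D75129 (iv7 D69736) (iv2 F54577)
theorem F112639 : act 7 n75129 = n68782 := d15_2 (iv0 D75128) D75129 F112636
theorem F112640 : act 5 n39423 = n75129 := d21_0 (iv1 D75129) F54578 (iv6 D26692) (iv1 D12750) F9366 (iv5 D3917) D3915 D8764 D18682 D39423
theorem F112641 : act 2 n75129 = n69735 := d2_1 F112640 (iv5 F106120) F106002
theorem F112642 : act 1 n69736 = n75128 := d15_1 F112638 (iv7 F112637) (iv2 F112641)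
theorem F112643 : act 0 n74081 = n61414 := d21_1 D74081 (iv5 F106003) (iv6 D69651) D69648 F105997 (iv5 F112635) (iv1 F112642) F106122 (iv6 F87404) (iv1 F87406)
def n75130 : Q := act 7 n34405
theorem D75130 : act 7 n34405 = n75130 := rfl
theorem F112645 : act 5 n75130 = n55242 := d13_1 D75130 (iv7 D55242) (iv5 F54578)
theorem F112646 : act 6 n75130 = n69744 := d14_1 D75130 (iv7 D69744) (iv6 D32373) (iv7 F27300) D34405
theorem F112647 : act 1 n69735 = n75130 := d15_1 D69735 (iv7 D75130) F54577
theorem F112648 : act 1 n75130 = n68782 := d15_1 F112647 (iv7 F112639) F112641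
theorem F112649 : act 0 n39425 = n74101 := d21_10 (iv5 D74101) (iv1 F87420) (iv5 F112645) F112646 F108209 F108207 F54938 (iv1 D18685) D18686 (iv6 F60359)
def n75131 : Q := act 5 n34406
theorem D75131 : act 5 n34406 = n75131 := rfl
theorem F112650 : act 2 n75131 = n67854 := d2_1 D75131 (iv5 D67854) (iv2 F54579)
theorem F112651 : act 3 n75131 = n34956 := d6_1 D75131 (iv5 D34956) (iv3 F54580)
theorem F112652 : act 7 n75131 = n67855 := d13_2 (iv7 F54582) D75131 (iv5 D67855)
theorem F112653 : act 1 n75131 = n54111 := d17_6 D12416 D26178 (iv1 F41534) F41535 D34406 D75131 (iv5 D54111) (iv0 D26184) (iv4 D12419)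
theorem F112654 : act 0 n75131 = n54112 := d21_1 D75131 (iv5 D54112) F42848 (iv1 D12654) D12657 D26512 D54807 F86726 (iv6 F56605) F56606
theorem F112655 : act 4 n52572 = n75131 := d18_7 F41563 (iv4 D12424) (iv1 D5909) (iv4 F8853) D12129 D25520 D52572 F112653 (iv5 D54111)
def n75132 : Q := act 3 n34407
theorem D75132 : act 3 n34407 = n75132 := rfl
theorem F112656 : act 4 n75132 = n54163 := d5_2 D34407 D75132 (iv3 D54163) (iv4 D26206) (iv3 F41536)
theorem F112657 : act 5 n75132 = n68807 := d6_2 (iv5 F54584) D75132 F105001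
theorem F112658 : act 7 n75132 = n68806 := d8_2 (iv7 F54585) D75132 F105000
def n75133 : Q := act 6 n34407
theorem D75133 : act 6 n34407 = n75133 := rfl
theorem F112659 : act 2 n75133 = n69741 := d3_1 D75133 (iv6 D69741) (iv2 F54583)
theorem F112660 : act 4 n75133 = n34408 := d10_1 D75133 (iv6 D34408) D34407
def n75134 : Q := act 0 n34408
theorem D75134 : act 0 n34408 = n75134 := rfl
def n75135 : Q := act 7 n34408
theorem D75135 : act 7 n34408 = n75135 := rfl
theorem F112661 : act 2 n75135 = n69744 := d4_1 D75135 (iv7 D69744) (iv2 F54586)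
theorem F112662 : act 3 n75135 = n54169 := d8_1 D75135 (iv7 D54169) (iv3 F54587)
theorem F112663 : act 5 n75135 = n61539 := d13_1 D75135 (iv7 D61539) (iv5 F54588)
theorem F112664 : act 6 n75135 = n69736 := d14_1 D75135 (iv7 D69736) (iv6 D32369) (iv7 F27316) D34408
theorem F112665 : act 1 n69744 = n75134 := d15_0 (iv0 D75134) D75135 F112661
theorem F112666 : act 1 n69743 = n75135 := d15_1 D69743 (iv7 D75135) F54586
theorem F112667 : act 7 n75134 = n69743 := d15_2 (iv0 F108209) F112665 (iv2 F108206)
theorem F112668 : act 2 n75134 = n69742 := d15_3 (iv0 D69742) D69743 (iv7 F112667)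
theorem F112669 : act 7 n69742 = n71739 := d4_2 (iv7 F112667) F112668 F108206
theorem F112670 : act 5 n71740 = n69742 := d13_3 F112669 (iv5 D71739) D71740
theorem F112671 : act 1 n75135 = n69742 := d15_1 F112666 F112669 F108206
def n75136 : Q := act 0 n34409
theorem D75136 : act 0 n34409 = n75136 := rfl
def n75137 : Q := act 1 n34409
theorem D75137 : act 1 n34409 = n75137 := rfl
def n75138 : Q := act 2 n34409
theorem D75138 : act 2 n34409 = n75138 := rfl
theorem F112672 : act 3 n75138 = n69752 := d0_2 D34409 D75138 (iv2 D69752) (iv3 D32376) (iv2 F27319)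
def n75139 : Q := act 3 n34410
theorem D75139 : act 3 n34410 = n75139 := rfl
theorem F112673 : act 4 n75139 = n67954 := d5_2 D34410 D75139 (iv3 D67954) (iv4 D31625) (iv3 F27321)
theorem F112674 : act 5 n75139 = n53692 := d6_2 (iv5 F54590) D75139 F84708
theorem F112675 : act 7 n75139 = n66823 := d8_2 (iv7 F54591) D75139 F102667
def n75140 : Q := act 6 n34410
theorem D75140 : act 6 n34410 = n75140 := rfl
theorem F112676 : act 2 n75140 = n53885 := d3_1 D75140 (iv6 D53885) (iv2 F54589)
theorem F112677 : act 4 n75140 = n34411 := d10_1 D75140 (iv6 D34411) D34410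
def n75141 : Q := act 0 n34411
theorem D75141 : act 0 n34411 = n75141 := rfl
theorem F112678 : act 6 n75141 = n54004 := d21_5 (iv5 D7926) (iv1 F12555) D16683 D34411 D75141 (iv5 D54004) (iv1 D26116) (iv5 F41312) (iv6 D26114) F26567
theorem F112679 : act 5 n75141 = n39618 := d21_0 (iv1 D39618) D39619 F60486 F30059 F25202 (iv5 D7926) (iv1 F12555) D16683 D34411 D75141
theorem F112680 : act 0 n75141 = n53888 := d21_10 (iv5 F110910) (iv1 F110912) (iv5 F104756) (iv6 D68563) (iv1 F104727) (iv6 D68533) F50185 (iv1 F41313) D54004 (iv6 F112678)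
def n75142 : Q := act 1 n34411
theorem D75142 : act 1 n34411 = n75142 := rfl
theorem F112681 : act 1 n75142 = n53888 := d15_1 D75142 (iv7 D53888) (iv2 F54594)
theorem F112682 : act 5 n39617 = n75142 := d21_0 (iv1 D75142) F54596 (iv6 D28702) (iv1 D13680) (iv6 F22827) (iv5 D13678) (iv1 F30046) D8791 D18758 D39617
theorem F112683 : act 6 n55253 = n39617 := d21_5 (iv5 D6500) (iv1 F11986) D12755 D26698 D55253 F112682 (iv1 D75142) F54596 (iv6 D28702) (iv1 D13680)
def n75143 : Q := act 7 n34411
theorem D75143 : act 7 n34411 = n75143 := rfl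
theorem F112684 : act 2 n75143 = n53888 := d4_1 D75143 (iv7 D53888) (iv2 F54594)
theorem F112685 : act 3 n75143 = n67959 := d8_1 D75143 (iv7 D67959) (iv3 F54595)
theorem F112686 : act 5 n75143 = n60438 := d13_1 D75143 (iv7 D60438) (iv5 F54596)
theorem F112687 : act 6 n75143 = n68335 := d14_1 D75143 (iv7 D68335) (iv6 D31798) (iv7 F27322) D34411
theorem F112688 : act 1 n53887 = n75143 := d15_1 D53887 (iv7 D75143) F54594
theorem F112689 : act 0 n53886 = n75143 := d21_4 F85177 (iv1 F41317) D31876 (iv6 F84974) F112687 F104521 (iv1 F96143) (iv5 F104720) (iv6 D68523) (iv1 F85181)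
def n75144 : Q := act 2 n34412
theorem D75144 : act 2 n34412 = n75144 := rfl
theorem F112690 : act 7 n34413 = n75144 := d15_2 (iv0 D34412) D34413 (iv2 D75144)
def n75145 : Q := act 3 n34412
theorem D75145 : act 3 n34412 = n75145 := rfl
def n75146 : Q := act 4 n34412
theorem D75146 : act 4 n34412 = n75146 := rfl
def n75147 : Q := act 5 n34412
theorem D75147 : act 5 n34412 = n75147 := rfl
def n75148 : Q := act 6 n34412
theorem D75148 : act 6 n34412 = n75148 := rfl
theorem F112691 : act 5 n75148 = n44062 := d21_6 F8913 (iv1 F5542) D7762 D16684 D34412 D75148 (iv1 D44062) F33112 (iv6 D16901) F12477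
def n75149 : Q := act 7 n34412
theorem D75149 : act 7 n34412 = n75149 := rfl
theorem F112692 : act 2 n75149 = n34413 := d4_1 D75149 F112690 (iv2 D75144)
def n75150 : Q := act 3 n34413
theorem D75150 : act 3 n34413 = n75150 := rfl
def n75151 : Q := act 4 n34413
theorem D75151 : act 4 n34413 = n75151 := rfl
def n75152 : Q := act 5 n34413
theorem D75152 : act 5 n34413 = n75152 := rfl
def n75153 : Q := act 6 n34413
theorem D75153 : act 6 n34413 = n75153 := rfl
def n75154 : Q := act 0 n34414
theorem D75154 : act 0 n34414 = n75154 := rfl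
def n75155 : Q := act 1 n34414
theorem D75155 : act 1 n34414 = n75155 := rfl
theorem F112693 : act 1 n75155 = n52857 := d15_1 D75155 (iv7 D52857) (iv2 F54598)
theorem F112694 : act 5 n52993 = n75155 := d21_6 (iv5 D7895) (iv1 F7682) (iv5 F8905) D12214 D25721 D52993 (iv1 D75155) (iv5 D34414) (iv6 D16684) (iv1 F12503)
def n75156 : Q := act 4 n34414
theorem D75156 : act 4 n34414 = n75156 := rfl
theorem F112695 : act 2 n75156 = n52856 := d1_1 D75156 (iv4 D52856) (iv2 F54598)
theorem F112696 : act 6 n75156 = n34417 := d10_2 (iv6 F54599) D75156 (iv4 D34417)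
def n75157 : Q := act 7 n34414
theorem D75157 : act 7 n34414 = n75157 := rfl
theorem F112697 : act 2 n75157 = n52857 := d4_1 D75157 (iv7 D52857) (iv2 F54598)
theorem F112698 : act 5 n75157 = n34415 := d13_1 D75157 (iv7 D34415) D34414
theorem F112699 : act 1 n52857 = n75154 := d15_0 (iv0 D75154) D75157 F112697
theorem F112700 : act 1 n52855 = n75157 := d15_1 D52855 (iv7 D75157) F54598
theorem F112701 : act 1 n75157 = n52854 := d15_0 (iv0 D52854) D52857 (iv2 F112697)
def n75158 : Q := act 6 n34416
theorem D75158 : act 6 n34416 = n75158 := rfl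
theorem F112702 : act 2 n75158 = n52859 := d3_1 D75158 (iv6 D52859) F54606
def n75159 : Q := act 3 n34417
theorem D75159 : act 3 n34417 = n75159 := rfl
def n75160 : Q := act 6 n34418
theorem D75160 : act 6 n34418 = n75160 := rfl
theorem F112703 : act 2 n75160 = n52867 := d3_1 D75160 (iv6 D52867) (iv2 F54610)
theorem F112704 : act 5 n75160 = n52804 := d12_1 D75160 (iv6 D52804) F40531 (iv6 F27329) (iv5 F54611)
def n75161 : Q := act 3 n34419
theorem D75161 : act 3 n34419 = n75161 := rfl
theorem F112705 : act 7 n75161 = n37218 := d8_2 (iv7 F54614) D75161 (iv3 D37218)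
def n75162 : Q := act 5 n34419
theorem D75162 : act 5 n34419 = n75162 := rfl
theorem F112706 : act 4 n75162 = n40473 := d9_1 D75162 (iv5 D40473) (iv4 F30736) (iv5 D9832) (iv4 F6771) D10299 D21559 D45162 F71166 (iv5 D40470) (iv4 F31685) (iv5 D19852) F14550 D16689 D34419
theorem F112707 : act 7 n75162 = n37219 := d13_2 (iv7 F54614) D75162 (iv5 D37219)
def n75163 : Q := act 3 n34420
theorem D75163 : act 3 n34420 = n75163 := rfl
def n75164 : Q := act 6 n34421
theorem D75164 : act 6 n34421 = n75164 := rfl
theorem F112709 : act 3 n75164 = n34423 := d7_1 D75164 (iv6 D34423) (iv3 F54618)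
theorem F112710 : act 4 n75164 = n56169 := d10_1 D75164 (iv6 D56169) (iv4 F54622)
theorem F112711 : act 5 n75164 = n36964 := d12_1 D75164 (iv6 D36964) (iv5 D17789) (iv6 F27358) D34421
def n75165 : Q := act 3 n34422
theorem D75165 : act 3 n34422 = n75165 := rfl
theorem F112712 : act 4 n75165 = n56167 := d5_2 D34422 D75165 (iv3 D56167) (iv4 F54622) F54618
def n75166 : Q := act 5 n34422
theorem D75166 : act 5 n34422 = n75166 := rfl
theorem F112713 : act 4 n75166 = n40480 := d16_2 D34422 D75166 F61578 (iv4 D20611) F16955 F14630 D16696 (iv7 F30105) (iv2 F30107)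
def n75167 : Q := act 6 n34422
theorem D75167 : act 6 n34422 = n75167 := rfl
theorem F112714 : act 4 n75167 = n34423 := d10_1 D75167 (iv6 D34423) D34422
def n75168 : Q := act 0 n34423
theorem D75168 : act 0 n34423 = n75168 := rfl
theorem F112715 : act 6 n75168 = n45154 := d21_5 (iv5 D7780) D7778 D16694 D34423 D75168 (iv5 D45154) (iv1 D21555) D21556 F33919 F16327
def n75169 : Q := act 1 n34423
theorem D75169 : act 1 n34423 = n75169 := rfl
def n75170 : Q := act 7 n34423
theorem D75170 : act 7 n34423 = n75170 := rfl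
theorem F112716 : act 5 n75170 = n45304 := d13_1 D75170 (iv7 D45304) (iv5 F54623)
def n75171 : Q := act 4 n34424
theorem D75171 : act 4 n34424 = n75171 := rfl
theorem F112717 : act 0 n75171 = n40215 := d18_2 (iv1 F54626) D75171 (iv4 D40215) (iv5 D18989) (iv4 F14441) (iv0 F14562) (iv4 F30169) (iv0 F30171) D19055
theorem F112718 : act 1 n75171 = n40214 := d18_6 D9572 (iv4 F31161) (iv1 F31163) (iv4 F27363) D34424 D75171 (iv4 D40214) (iv0 F30313) (iv5 D9574)
def n75172 : Q := act 6 n34424
theorem D75172 : act 6 n34424 = n75172 := rfl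
theorem F112719 : act 3 n75172 = n34426 := d7_1 D75172 (iv6 D34426) (iv3 F54624)
theorem F112720 : act 5 n75172 = n75172 := d12_1 D75172 (iv6 D75172) (iv5 D34424) F27364 D34424
def n75173 : Q := act 3 n34425
theorem D75173 : act 3 n34425 = n75173 := rfl
def n75174 : Q := act 5 n34425
theorem D75174 : act 5 n34425 = n75174 := rfl
theorem F112721 : act 4 n75174 = n40479 := d9_1 D75174 F61577 F36811 (iv5 D20102) (iv4 F14735) D16694 D34422 D75166 F112713 F61578 (iv4 D20611) F16955 F14630 D16696 D34425
def n75175 : Q := act 6 n34425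
theorem D75175 : act 6 n34425 = n75175 := rfl
theorem F112722 : act 4 n75175 = n34426 := d10_1 D75175 (iv6 D34426) D34425
def n75176 : Q := act 0 n34426
theorem D75176 : act 0 n34426 = n75176 := rfl
theorem F112723 : act 6 n75176 = n45179 := d21_5 F33927 (iv1 F27356) D16696 D34426 D75176 (iv5 D45179) (iv1 D21564) D21565 F33940 (iv1 F33925)
def n75177 : Q := act 1 n34426
theorem D75177 : act 1 n34426 = n75177 := rfl
def n75178 : Q := act 7 n34426
theorem D75178 : act 7 n34426 = n75178 := rfl
theorem F112724 : act 5 n75178 = n75178 := d13_1 D75178 (iv7 D75178) F54627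
def n75179 : Q := act 3 n34427
theorem D75179 : act 3 n34427 = n75179 := rfl
theorem F112725 : act 7 n75179 = n44512 := d8_2 F54629 D75179 (iv3 D44512)
def n75180 : Q := act 6 n34427
theorem D75180 : act 6 n34427 = n75180 := rfl
theorem F112726 : act 4 n75180 = n40444 := d10_1 D75180 F61532 (iv4 F54628)
def n75181 : Q := act 0 n34428
theorem D75181 : act 0 n34428 = n75181 := rfl
def n75182 : Q := act 1 n34428
theorem D75182 : act 1 n34428 = n75182 := rfl
def n75183 : Q := act 2 n34428
theorem D75183 : act 2 n34428 = n75183 := rfl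
theorem F112727 : act 4 n75183 = n34432 := d1_2 (iv4 F54630) D75183 (iv2 D34432)
def n75184 : Q := act 5 n34428
theorem D75184 : act 5 n34428 = n75184 := rfl
theorem F112728 : act 3 n75184 = n34429 := d6_1 D75184 (iv5 D34429) D34428
def n75185 : Q := act 0 n34429
theorem D75185 : act 0 n34429 = n75185 := rfl
theorem F112729 : act 5 n75185 = n40451 := d17_1 D75185 F61547 (iv5 F76375) (iv4 D48525) (iv5 D23673) (iv0 F32699) (iv5 F61578) (iv0 F70868) F70866
theorem F112730 : act 4 n75185 = n40464 := d18_3 (iv1 F70869) F70866 D75185 (iv5 D40464) (iv4 D19125) (iv0 F16813) D19138 F36813 (iv5 F61577)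
theorem F112731 : act 1 n40481 = n75185 := d15_0 (iv0 D75185) (iv7 F92780) F92778
def n75186 : Q := act 1 n34429
theorem D75186 : act 1 n34429 = n75186 := rfl
theorem F112732 : act 1 n75186 = n40481 := d15_1 D75186 (iv7 F76412) F76411
theorem F112733 : act 5 n75186 = n36260 := d17_7 F29069 (iv5 D16696) (iv1 D7779) D7780 D16697 D34429 D75186 (iv0 F58169) (iv4 D37215)
theorem F112734 : act 4 n75186 = n40455 := d17_9 (iv1 F70894) (iv5 D45041) (iv1 D21510) D21512 D45049 F70908 (iv0 D34427) D34429 D75186
def n75187 : Q := act 6 n34429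
theorem D75187 : act 6 n34429 = n75187 := rfl
def n75188 : Q := act 2 n34430
theorem D75188 : act 2 n34430 = n75188 := rfl
theorem F112735 : act 7 n34431 = n75188 := d15_2 (iv0 D34430) D34431 (iv2 D75188)
def n75189 : Q := act 3 n34430
theorem D75189 : act 3 n34430 = n75189 := rfl
def n75190 : Q := act 4 n34430
theorem D75190 : act 4 n34430 = n75190 := rfl
def n75191 : Q := act 5 n34430
theorem D75191 : act 5 n34430 = n75191 := rfl
def n75192 : Q := act 6 n34430
theorem D75192 : act 6 n34430 = n75192 := rfl
def n75193 : Q := act 7 n34430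
theorem D75193 : act 7 n34430 = n75193 := rfl
theorem F112736 : act 2 n75193 = n34431 := d4_1 D75193 F112735 (iv2 D75188)
def n75194 : Q := act 3 n34431
theorem D75194 : act 3 n34431 = n75194 := rfl
def n75195 : Q := act 4 n34431
theorem D75195 : act 4 n34431 = n75195 := rfl
def n75196 : Q := act 5 n34431
theorem D75196 : act 5 n34431 = n75196 := rfl
def n75197 : Q := act 6 n34431
theorem D75197 : act 6 n34431 = n75197 := rfl
def n75198 : Q := act 0 n34433
theorem D75198 : act 0 n34433 = n75198 := rfl
theorem F112737 : act 3 n75198 = n34592 := d20_5 D26797 (iv1 F91216) F87644 (iv3 F54632) D75198 (iv4 D34592) (iv1 F54726) F54723 (iv3 F42987) (iv1 F42990)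
theorem F112738 : act 0 n75198 = n36511 := d20_4 (iv4 F12382) D16769 D34592 (iv3 F112737) F57341 (iv4 F57367) (iv1 F91400) (iv4 D34640) (iv3 D16780) (iv1 D7833)
def n75199 : Q := act 1 n34433
theorem D75199 : act 1 n34433 = n75199 := rfl
theorem F112739 : act 1 n75199 = n36511 := d15_1 D75199 (iv7 D36511) (iv2 F54631)
def n75200 : Q := act 7 n34433
theorem D75200 : act 7 n34433 = n75200 := rfl
theorem F112740 : act 2 n75200 = n36511 := d4_1 D75200 (iv7 D36511) (iv2 F54631)
theorem F112741 : act 3 n75200 = n56940 := d8_1 D75200 (iv7 D56940) (iv3 F54632)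
theorem F112742 : act 4 n75200 = n55566 := d11_1 D75200 F91442 (iv4 F54633)
theorem F112743 : act 5 n75200 = n37454 := d13_1 D75200 (iv7 D37454) (iv5 F54634)
theorem F112744 : act 6 n75200 = n45852 := d14_1 D75200 (iv7 D45852) (iv6 D21931) (iv7 F27374) D34433
theorem F112745 : act 1 n36510 = n75200 := d15_1 D36510 (iv7 D75200) F54631
theorem F112746 : act 1 n75200 = n36509 := d15_0 (iv0 D36509) D36511 (iv2 F112740)
theorem F112747 : act 7 n36509 = n35290 := d15_2 F112745 F112746 (iv2 F91438)
theorem F112748 : act 3 n35284 = n36509 := d8_3 F112747 (iv3 D35290) F56010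
def n75201 : Q := act 4 n34434
theorem D75201 : act 4 n34434 = n75201 := rfl
theorem F112749 : act 7 n75201 = n37479 := d11_2 (iv7 F54636) D75201 (iv4 D37479)
theorem F112750 : act 0 n75201 = n36439 := d18_2 F54637 D75201 (iv4 D36439) (iv5 F28606) F27418 (iv0 F28174) (iv4 F28175) (iv0 D16716) D16718
theorem F112751 : act 1 n75201 = n36437 := d18_6 (iv1 F13770) (iv4 F28024) F28085 F28084 D34434 D75201 (iv4 D36437) (iv0 D17594) (iv5 D8264)
def n75202 : Q := act 3 n34435
theorem D75202 : act 3 n34435 = n75202 := rfl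
theorem F112752 : act 7 n75202 = n37509 := d8_2 (iv7 F54638) D75202 (iv3 D37509)
def n75203 : Q := act 5 n34435
theorem D75203 : act 5 n34435 = n75203 := rfl
theorem F112753 : act 7 n75203 = n37510 := d13_2 (iv7 F54638) D75203 (iv5 D37510)
def n75204 : Q := act 3 n34436
theorem D75204 : act 3 n34436 = n75204 := rfl
def n75205 : Q := act 5 n34436
theorem D75205 : act 5 n34436 = n75205 := rfl
theorem F112754 : act 2 n75205 = n34447 := d2_1 D75205 (iv5 D34447) (iv2 F54639)
theorem F112755 : act 4 n75205 = n39881 := d16_2 D34436 D75205 (iv5 D39881) (iv4 D18868) (iv5 D8836) F5869 D8836 F13735 (iv2 F27382)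
def n75206 : Q := act 3 n34438
theorem D75206 : act 3 n34438 = n75206 := rfl
theorem F112756 : act 7 n75206 = n56644 := d8_2 (iv7 F54643) D75206 (iv3 D56644)
def n75207 : Q := act 5 n34438
theorem D75207 : act 5 n34438 = n75207 := rfl
theorem F112757 : act 2 n75207 = n75203 := d2_1 D75207 (iv5 D75203) (iv2 F54642)
theorem F112758 : act 7 n75207 = n56645 := d13_2 (iv7 F54643) D75207 (iv5 D56645)
def n75208 : Q := act 0 n34439
theorem D75208 : act 0 n34439 = n75208 := rfl
theorem F112759 : act 4 n75208 = n35309 := d18_3 D16705 D34439 D75208 (iv5 D35309) F28629 F28627 (iv4 D16703) (iv0 D7792) D7794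
theorem F112760 : act 1 n34442 = n75208 := d15_0 (iv0 D75208) (iv7 F58522) F58521
def n75209 : Q := act 3 n34439
theorem D75209 : act 3 n34439 = n75209 := rfl
def n75210 : Q := act 5 n34439
theorem D75210 : act 5 n34439 = n75210 := rfl
def n75211 : Q := act 6 n34439
theorem D75211 : act 6 n34439 = n75211 := rfl
theorem F112761 : act 4 n75211 = n34440 := d10_1 D75211 (iv6 D34440) D34439
def n75212 : Q := act 0 n34440
theorem D75212 : act 0 n34440 = n75212 := rfl
theorem F112762 : act 6 n75212 = n56711 := d21_5 F13740 F28186 (iv5 F28188) D34440 D75212 (iv5 D56711) (iv1 D27254) D27255 F44102 F27381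
def n75213 : Q := act 1 n34440
theorem D75213 : act 1 n34440 = n75213 := rfl
def n75214 : Q := act 7 n34440
theorem D75214 : act 7 n34440 = n75214 := rfl
def n75215 : Q := act 4 n34441
theorem D75215 : act 4 n34441 = n75215 := rfl
theorem F112764 : act 0 n75215 = n35237 := d18_2 F54906 D75215 (iv4 D35237) (iv5 D17100) (iv4 F13587) (iv0 F28643) F28641 F28026 D34664
theorem F112765 : act 1 n75215 = n35235 := d18_6 (iv1 F27423) (iv4 F27415) F28177 (iv4 F28175) (iv5 F54645) D75215 (iv4 D35235) F28266 (iv5 D12903)
def n75216 : Q := act 6 n34441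
theorem D75216 : act 6 n34441 = n75216 := rfl
theorem F112766 : act 3 n75216 = n34443 := d7_1 D75216 (iv6 D34443) D34441
theorem F112767 : act 5 n75216 = n37680 := d12_1 D75216 (iv6 D37680) (iv5 D18058) (iv6 F28179) (iv5 F54645)
def n75217 : Q := act 3 n34442
theorem D75217 : act 3 n34442 = n75217 := rfl
def n75218 : Q := act 5 n34442
theorem D75218 : act 5 n34442 = n75218 := rfl
def n75219 : Q := act 6 n34442
theorem D75219 : act 6 n34442 = n75219 := rfl
theorem F112768 : act 4 n75219 = n34443 := d10_1 D75219 (iv6 D34443) D34442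
def n75220 : Q := act 0 n34443
theorem D75220 : act 0 n34443 = n75220 := rfl
theorem F112769 : act 6 n75220 = n56636 := d21_5 (iv5 D18900) F17007 F27392 D34443 D75220 (iv5 D56636) (iv1 D27229) D27230 F44041 F30158
def n75221 : Q := act 1 n34443
theorem D75221 : act 1 n34443 = n75221 := rfl
def n75222 : Q := act 7 n34443
theorem D75222 : act 7 n34443 = n75222 := rfl
theorem F112770 : act 5 n75222 = n37687 := d13_1 D75222 (iv7 D37687) (iv5 F54646)
def n75223 : Q := act 3 n34444
theorem D75223 : act 3 n34444 = n75223 := rfl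
def n75224 : Q := act 5 n34444
theorem D75224 : act 5 n34444 = n75224 := rfl
theorem F112771 : act 4 n75224 = n75218 := d16_2 F63819 D75224 (iv5 D75218) (iv4 D34442) (iv5 F27392) F21531 D17220 (iv7 F43722) (iv2 F63814)
theorem F112772 : act 1 n75224 = n39895 := d17_6 D35310 F56023 F31203 D41380 F63819 D75224 (iv5 D39895) (iv0 F56026) (iv4 D35311)
def n75225 : Q := act 6 n34444
theorem D75225 : act 6 n34444 = n75225 := rfl
def n75226 : Q := act 3 n34445
theorem D75226 : act 3 n34445 = n75226 := rfl
theorem F112773 : act 4 n75226 = n35554 := d5_2 F54647 D75226 (iv3 D35554) (iv4 D17225) (iv3 F28168)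
def n75227 : Q := act 5 n34445
theorem D75227 : act 5 n34445 = n75227 := rfl
theorem F112774 : act 4 n75227 = n75210 := d9_1 D75227 (iv5 D75210) (iv4 D34439) F28188 F31199 D41380 F63819 D75224 F112771 (iv5 D75218) (iv4 D34442) (iv5 F27392) F21531 D17220 F54647
theorem F112775 : act 0 n75227 = n39895 := d17_2 F58381 D75227 (iv5 D39895) (iv4 D18873) F13740 (iv0 F21532) F27392 (iv0 F29161) D37503
def n75228 : Q := act 6 n34445
theorem D75228 : act 6 n34445 = n75228 := rfl
theorem F112776 : act 4 n75228 = n35549 := d10_1 D75228 (iv6 D35549) F54647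
def n75229 : Q := act 0 n34446
theorem D75229 : act 0 n34446 = n75229 := rfl
def n75230 : Q := act 1 n34446
theorem D75230 : act 1 n34446 = n75230 := rfl
def n75231 : Q := act 2 n34446
theorem D75231 : act 2 n34446 = n75231 := rfl
theorem F112777 : act 4 n75231 = n34450 := d1_2 (iv4 F54648) D75231 (iv2 D34450)
def n75232 : Q := act 5 n34446
theorem D75232 : act 5 n34446 = n75232 := rfl
theorem F112778 : act 3 n75232 = n34447 := d6_1 D75232 (iv5 D34447) D34446
def n75233 : Q := act 0 n34447
theorem D75233 : act 0 n34447 = n75233 := rfl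
theorem F112779 : act 5 n75233 = n39968 := d17_3 (iv1 D34445) D34447 D75233 F60816 (iv5 D34437) (iv0 F28059) D35270 (iv0 F55996) F54647
theorem F112780 : act 4 n37510 = n75233 := d16_0 F112779 F60816 (iv5 D34437) (iv4 D16703) D16704 D34438 D75207 F112758 F89583
def n75234 : Q := act 1 n34447
theorem D75234 : act 1 n34447 = n75234 := rfl
theorem F112781 : act 5 n75234 = n36476 := d17_7 (iv1 D18003) (iv5 D8492) (iv1 F16990) D7794 D16707 D34447 D75234 (iv0 F58385) (iv4 D37505)
theorem F112782 : act 4 n75207 = n75234 := d9_15 F112781 (iv4 D36476) (iv5 D17609) F13096 D8492 D18004 D37510 F112780 F112779 F60816 (iv5 D34437) (iv4 D16703) D16704 D34438 D75207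
def n75235 : Q := act 4 n34447
theorem D75235 : act 4 n34447 = n75235 := rfl
theorem F112783 : act 2 n75235 = n39881 := d1_1 D75235 (iv4 F112755) F112754
theorem F112784 : act 7 n75235 = n75205 := d11_2 F60686 D75235 F112755
theorem F112785 : act 5 n75235 = n37503 := d16_3 D16707 D34447 D75235 (iv4 D37503) (iv5 D18002) F13798 D18002 F29160 F27382
theorem F112786 : act 0 n75235 = n75234 := d18_2 (iv1 D75234) D75235 (iv4 F112782) (iv5 D75207) (iv4 D34438) (iv0 F27391) D18902 (iv0 F57289) (iv5 F112781)
theorem F112787 : act 1 n75235 = n75233 := d18_8 (iv1 F60818) (iv4 D37505) (iv1 D18003) D18004 D37510 F112780 (iv0 D75233) D75235 F112779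
def n75236 : Q := act 6 n34447
theorem D75236 : act 6 n34447 = n75236 := rfl
def n75237 : Q := act 2 n34448
theorem D75237 : act 2 n34448 = n75237 := rfl
theorem F112788 : act 7 n34449 = n75237 := d15_2 (iv0 D34448) D34449 (iv2 D75237)
def n75238 : Q := act 3 n34448
theorem D75238 : act 3 n34448 = n75238 := rfl
def n75239 : Q := act 4 n34448
theorem D75239 : act 4 n34448 = n75239 := rfl
def n75240 : Q := act 5 n34448
theorem D75240 : act 5 n34448 = n75240 := rfl
def n75241 : Q := act 6 n34448
theorem D75241 : act 6 n34448 = n75241 := rfl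
def n75242 : Q := act 7 n34448
theorem D75242 : act 7 n34448 = n75242 := rfl
theorem F112789 : act 2 n75242 = n34449 := d4_1 D75242 F112788 (iv2 D75237)
def n75243 : Q := act 3 n34449
theorem D75243 : act 3 n34449 = n75243 := rfl
def n75244 : Q := act 4 n34449
theorem D75244 : act 4 n34449 = n75244 := rfl
def n75245 : Q := act 5 n34449
theorem D75245 : act 5 n34449 = n75245 := rfl
def n75246 : Q := act 6 n34449
theorem D75246 : act 6 n34449 = n75246 := rfl
def n75247 : Q := act 0 n34451
theorem D75247 : act 0 n34451 = n75247 := rfl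
theorem F112790 : act 1 n34484 = n75247 := d15_0 (iv0 D75247) F54650 D34484
def n75248 : Q := act 1 n34451
theorem D75248 : act 1 n34451 = n75248 := rfl
theorem F112791 : act 1 n75248 = n34484 := d15_1 D75248 (iv7 F86731) F86728
def n75249 : Q := act 6 n34451
theorem D75249 : act 6 n34451 = n75249 := rfl
theorem F112792 : act 3 n75249 = n34452 := d7_1 D75249 (iv6 D34452) D34451
def n75250 : Q := act 0 n34452
theorem D75250 : act 0 n34452 = n75250 := rfl
theorem F112793 : act 6 n75250 = n38682 := d21_5 D8644 (iv1 F14427) (iv5 F27394) D34452 D75250 (iv5 D38682) (iv1 D18400) (iv5 D8662) (iv6 D3884) D3880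
theorem F112794 : act 0 n75250 = n34604 := d21_4 (iv5 F59083) (iv1 F59085) D38682 (iv6 F112793) (iv6 D34604) (iv5 F54865) (iv1 F59478) (iv5 D38657) (iv6 D18393) (iv1 F29460)
theorem F112795 : act 4 n41370 = n75250 := d20_0 F112794 F54866 F27545 (iv1 F12754) D17066 D35153 (iv1 F59805) F33965 (iv3 F31184) D41370
theorem E10177 : n41370 = n36691 := ((c20_6 (iv4 F43174) (iv1 D15323) F11566 (iv3 F13145) D17684 D36691 F112795 F112794 F54866 F27545 (iv1 F12754))).symm
theorem F112796 : act 0 n36691 = n21950 := (sb E10177 (iv1 F63801))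
theorem F112797 : act 1 n36691 = n19486 := (sb E10177 (iv0 D41370))
theorem F112798 : act 4 n36691 = n75250 := (sb E10177 F112795)
def n75251 : Q := act 1 n34452
theorem D75251 : act 1 n34452 = n75251 := rfl
theorem F112799 : act 1 n75251 = n34604 := d15_1 D75251 F54867 (iv2 F54651)
def n75252 : Q := act 5 n34452
theorem D75252 : act 5 n34452 = n75252 := rfl
theorem F112800 : act 2 n75252 = n34607 := d2_1 D75252 (iv5 D34607) (iv2 F54651)
theorem F112801 : act 6 n75252 = n41708 := d12_2 D34452 D75252 (iv5 D41708) (iv6 D19630) (iv5 F27394)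
def n75253 : Q := act 7 n34452
theorem D75253 : act 7 n34452 = n75253 := rfl
theorem F112802 : act 2 n75253 = n34604 := d4_1 D75253 F54867 (iv2 F54651)
theorem F112803 : act 4 n75253 = n34456 := d11_1 D75253 (iv7 D34456) (iv4 F54652)
theorem F112804 : act 6 n75253 = n34491 := d14_1 D75253 (iv7 D34491) (iv6 D16733) (iv7 F27395) D34452
theorem F112805 : act 1 n34606 = n75253 := d15_1 D34606 (iv7 D75253) F54651
theorem F112806 : act 0 n45897 = n75253 := d20_1 D45897 F112803 (iv3 F55810) (iv1 F55812) D35127 (iv4 F59804) (iv1 D36042) F28440 (iv3 F16686) D21947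
theorem E10178 : n45897 = n34605 := (c15_1 (iv0 F112806) (iv0 D34605) (iv7 F54867) (iv2 F112802))
theorem F112807 : act 0 n34605 = n75253 := (sb E10178 F112806)
theorem F112808 : act 4 n34605 = n21947 := (sb E10178 (iv4 D45897))
theorem E10179 : n45896 = n45849 := (c20_4 (iv4 F27542) D34605 F112808 D45896 (iv1 F72411) F56020 (iv4 F56044) (iv1 F57408) F91499 (iv3 D34657) (iv1 D16786))
theorem F112809 : act 3 n45849 = n21947 := (sb E10179 (iv3 D45896))
theorem E10180 : n56976 = n35128 := ((c20_1 D35128 (iv1 D56976) (iv4 F57378) F57377 D45849 F112809 (iv4 F112808) F112807 F112803 (iv3 F55810) (iv1 F55812))).symm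
theorem F112810 : act 0 n35128 = n27338 := (sb E10180 (iv1 D56976))
def n75254 : Q := act 2 n34453
theorem D75254 : act 2 n34453 = n75254 := rfl
theorem F112811 : act 6 n75254 = n34631 := d3_2 (iv6 F54653) D75254 F54887
theorem F112812 : act 7 n34454 = n75254 := d15_2 (iv0 D34453) D34454 (iv2 D75254)
def n75255 : Q := act 3 n34453
theorem D75255 : act 3 n34453 = n75255 := rfl
theorem F112813 : act 6 n75255 = n34641 := d7_2 (iv6 F54653) D75255 F54893
theorem F112814 : act 4 n35321 = n75255 := d20_2 (iv4 F28095) D35321 (iv3 D75255) F54654 F27545 (iv4 F21231) (iv1 F21234) F28975 D17109 F91277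
def n75256 : Q := act 4 n34453
theorem D75256 : act 4 n34453 = n75256 := rfl
theorem F112815 : act 6 n75256 = n34646 := d10_2 (iv6 F54653) D75256 (iv4 D34646)
def n75257 : Q := act 5 n34453
theorem D75257 : act 5 n34453 = n75257 := rfl
theorem F112816 : act 6 n75257 = n34649 := d12_2 (iv6 F54653) D75257 (iv5 D34649) (iv6 D16783) D16782
theorem F112817 : act 0 n75257 = n38355 := d21_1 D75257 (iv5 D38355) (iv6 D18304) (iv1 D8628) (iv6 D3874) F7229 D3537 D7796 D16710 D34453
theorem F112818 : act 0 n38479 = n75257 := d21_7 F54756 (iv1 D18432) F13579 D18269 (iv1 F29636) D37937 (iv5 F59321) (iv5 D75257) F54653 (iv1 F59576)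
def n75258 : Q := act 7 n34453
theorem D75258 : act 7 n34453 = n75258 := rfl
theorem F112819 : act 2 n75258 = n34454 := d4_1 D75258 F112812 (iv2 D75254)
def n75259 : Q := act 3 n34454
theorem D75259 : act 3 n34454 = n75259 := rfl
theorem F112820 : act 4 n75259 = n35217 := d20_6 (iv4 F28972) (iv1 F21235) F21231 (iv3 F27545) (iv1 F54655) D75259 (iv1 D35217) F28040 F12779 D8003
def n75260 : Q := act 5 n34454
theorem D75260 : act 5 n34454 = n75260 := rfl
theorem F112821 : act 0 n75260 = n38479 := d21_1 D75260 F59321 (iv6 D37937) F29611 F29610 (iv5 D18265) (iv1 F13529) (iv5 F12387) D16784 (iv1 F54655)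
theorem F112822 : act 6 n35891 = n75260 := d21_5 (iv5 F17497) (iv1 D8138) D8140 D17377 D35891 (iv5 D75260) (iv1 D34454) D34455 F54657 F27402
def n75261 : Q := act 6 n34454
theorem D75261 : act 6 n34454 = n75261 := rfl
theorem F112823 : act 7 n75261 = n34630 := d14_2 (iv7 F112812) D75261 (iv6 D34630) D34631 (iv6 F112811)
theorem F112824 : act 5 n75261 = n38451 := d21_6 (iv5 D18265) (iv1 F13529) (iv5 F12387) D16784 (iv1 F54655) D75261 (iv1 F59300) (iv5 D18336) D18337 (iv1 F59571)
theorem F112825 : act 0 n34550 = n75261 := d21_4 (iv5 D18447) D18445 F29608 D34550 (iv6 D75261) D75260 F112821 F59321 (iv6 D37937) F29611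
theorem F112826 : act 1 n37940 = n75261 := d15_0 (iv0 F112825) F59644 F59310
theorem F112827 : act 0 n38355 = n75260 := d21_7 (iv5 F59648) (iv1 F59030) F29528 (iv6 F29413) (iv1 F29415) D18304 D38355 (iv5 D75260) D75261 (iv1 F112826)
theorem F112828 : act 2 n75261 = n37939 := d15_3 (iv0 D37939) (iv0 F54886) (iv7 F112823)
theorem F112829 : act 6 n37939 = n75258 := d3_2 D75261 F112828 F112819
def n75262 : Q := act 0 n34455
theorem D75262 : act 0 n34455 = n75262 := rfl
def n75263 : Q := act 4 n34455
theorem D75263 : act 4 n34455 = n75263 := rfl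
theorem F112830 : act 2 n75263 = n34663 := d1_1 D75263 (iv4 D34663) (iv2 F54656)
theorem F112831 : act 6 n75263 = n34457 := d10_2 (iv6 F54657) D75263 (iv4 D34457)
def n75264 : Q := act 7 n34455
theorem D75264 : act 7 n34455 = n75264 := rfl
theorem F112832 : act 2 n75264 = n34651 := d4_1 D75264 F54899 (iv2 F54656)
theorem F112833 : act 5 n75264 = n34456 := d13_1 D75264 (iv7 D34456) D34455
theorem F112835 : act 1 n34651 = n75262 := d15_0 (iv0 D75262) D75264 F112832
theorem F112836 : act 1 n34662 = n75264 := d15_1 D34662 (iv7 D75264) F54656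
theorem F112837 : act 0 n34661 = n75264 := d21_1 (iv5 F59653) F112833 F54659 (iv1 F27469) D16783 D34649 (iv1 F59200) (iv5 D18303) D18304 D38353
def n75265 : Q := act 3 n34457
theorem D75265 : act 3 n34457 = n75265 := rfl
theorem F112838 : act 5 n75265 = n47757 := d6_2 (iv5 F54664) D75265 (iv3 D47757)
theorem F112839 : act 7 n75265 = n37806 := d8_2 (iv7 F54663) D75265 (iv3 D37806)
def n75266 : Q := act 3 n34459
theorem D75266 : act 3 n34459 = n75266 := rfl
theorem F112840 : act 7 n75266 = n38868 := d8_2 (iv7 F54672) D75266 (iv3 D38868)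
def n75267 : Q := act 5 n34459
theorem D75267 : act 5 n34459 = n75267 := rfl
theorem F112841 : act 2 n75267 = n34471 := d2_1 D75267 (iv5 D34471) (iv2 F54671)
theorem F112842 : act 7 n75267 = n38869 := d13_2 (iv7 F54672) D75267 (iv5 D38869)
theorem F112843 : act 4 n75267 = n41878 := d16_2 D34459 D75267 (iv5 D41878) (iv4 F32433) F32432 F27436 (iv5 F27443) (iv7 D16725) (iv2 F27404)
def n75268 : Q := act 5 n34460
theorem D75268 : act 5 n34460 = n75268 := rfl
theorem F112844 : act 2 n75268 = n37561 := d2_1 D75268 (iv5 D37561) (iv2 F54673)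
theorem F112845 : act 4 n75268 = n37816 := d9_1 D75268 (iv5 D37816) (iv4 D18132) F13306 F12811 (iv5 F21770) D27249 D56693 F89660 (iv5 D37561) (iv4 D18021) (iv5 F13787) F13786 D16714 D34460
theorem F112848 : act 1 n75268 = n39945 := d17_6 (iv1 F28020) (iv5 D17075) (iv1 F12769) D16714 D34460 D75268 (iv5 D39945) F30141 (iv4 D17992)
def n75269 : Q := act 6 n34460
theorem D75269 : act 6 n34460 = n75269 := rfl
theorem F112849 : act 2 n75269 = n37562 := d3_1 D75269 (iv6 D37562) (iv2 F54673)
def n75270 : Q := act 0 n34461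
theorem D75270 : act 0 n34461 = n75270 := rfl
def n75271 : Q := act 1 n34461
theorem D75271 : act 1 n34461 = n75271 := rfl
theorem F112851 : act 1 n75271 = n37565 := d15_1 D75271 (iv7 D37565) (iv2 F54677)
def n75272 : Q := act 7 n34461
theorem D75272 : act 7 n34461 = n75272 := rfl
theorem F112852 : act 2 n75272 = n37565 := d4_1 D75272 (iv7 D37565) (iv2 F54677)
theorem F112854 : act 5 n75272 = n37812 := d13_1 D75272 (iv7 D37812) (iv5 F54679)
theorem F112855 : act 6 n75272 = n37821 := d14_1 D75272 (iv7 D37821) (iv6 D18133) (iv7 F27410) D34461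
theorem F112856 : act 1 n37565 = n75270 := d15_0 (iv0 D75270) D75272 F112852
def n75273 : Q := act 4 n34463
theorem D75273 : act 4 n34463 = n75273 := rfl
theorem F112859 : act 0 n75273 = n35235 := d18_2 F55922 D75273 (iv4 D35235) (iv5 D17099) D17098 (iv0 F28061) (iv4 F28084) (iv0 F28085) D35172
theorem F112860 : act 1 n75273 = n35237 := d18_6 (iv1 F21417) F27418 (iv1 F30164) F30160 D34463 D75273 (iv4 D35237) (iv0 F28264) (iv5 D17327)
def n75274 : Q := act 6 n34463
theorem D75274 : act 6 n34463 = n75274 := rfl
theorem F112861 : act 5 n75274 = n75274 := d12_1 D75274 (iv6 D75274) (iv5 D34463) F28132 D34463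
def n75275 : Q := act 4 n34464
theorem D75275 : act 4 n34464 = n75275 := rfl
theorem F112862 : act 2 n75275 = n37479 := d1_1 D75275 (iv4 D37479) F54683
theorem F112863 : act 0 n75275 = n36437 := d18_2 F56427 D75275 (iv4 D36437) F28600 (iv4 F27415) F30163 F30160 F28261 D35750
theorem F112864 : act 1 n75275 = n36439 := d18_6 (iv1 F13042) (iv4 F27549) (iv1 F28026) (iv4 F28641) (iv5 F54682) D75275 (iv4 D36439) F28604 (iv5 D17086)
def n75276 : Q := act 6 n34464
theorem D75276 : act 6 n34464 = n75276 := rfl
theorem F112865 : act 2 n75276 = n37477 := d3_1 D75276 F58362 F54683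
theorem F112866 : act 3 n75276 = n36480 := d7_1 D75276 F57292 F54684
theorem F112867 : act 5 n75276 = n36477 := d12_1 D75276 (iv6 D36477) (iv5 D17610) D17611 (iv5 F54682)
def n75277 : Q := act 3 n34465
theorem D75277 : act 3 n34465 = n75277 := rfl
theorem F112868 : act 4 n75277 = n34470 := d5_2 D34465 D75277 (iv3 D34470) (iv4 D16724) (iv3 F27416)
def n75278 : Q := act 5 n34465
theorem D75278 : act 5 n34465 = n75278 := rfl
theorem F112869 : act 0 n75278 = n35758 := d17_2 F57218 D75278 (iv5 D35758) (iv4 D17329) (iv5 D8114) (iv0 F17607) D17083 (iv0 F28598) D36436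
def n75279 : Q := act 6 n34466
theorem D75279 : act 6 n34466 = n75279 := rfl
theorem F112870 : act 3 n75279 = n34473 := d7_1 D75279 (iv6 D34473) (iv3 F54686)
def n75280 : Q := act 3 n34467
theorem D75280 : act 3 n34467 = n75280 := rfl
def n75281 : Q := act 6 n34467
theorem D75281 : act 6 n34467 = n75281 := rfl
theorem F112871 : act 2 n75281 = n43102 := d3_1 D75281 (iv6 D43102) (iv2 F54689)
theorem F112872 : act 4 n75281 = n34468 := d10_1 D75281 (iv6 D34468) D34467
def n75282 : Q := act 1 n34468
theorem D75282 : act 1 n34468 = n75282 := rfl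
theorem F112873 : act 1 n75282 = n43105 := d15_1 D75282 (iv7 D43105) (iv2 F54691)
def n75283 : Q := act 7 n34468
theorem D75283 : act 7 n34468 = n75283 := rfl
theorem F112874 : act 2 n75283 = n43105 := d4_1 D75283 (iv7 D43105) (iv2 F54691)
theorem F112875 : act 5 n75283 = n38110 := d13_1 D75283 (iv7 D38110) (iv5 F54692)
theorem F112876 : act 1 n43105 = n38838 := d15_0 (iv0 F59856) D75283 F112874
theorem F112877 : act 1 n43104 = n75283 := d15_1 D43104 (iv7 D75283) F54691
theorem F112878 : act 1 n75283 = n43103 := d15_0 (iv0 D43103) D43105 (iv2 F112874)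
def n75284 : Q := act 3 n34469
theorem D75284 : act 3 n34469 = n75284 := rfl
theorem F112879 : act 4 n75284 = n36060 := d5_2 (iv4 F54693) D75284 (iv3 D36060) (iv4 D17450) (iv3 F28437)
def n75285 : Q := act 5 n34469
theorem D75285 : act 5 n34469 = n75285 := rfl
theorem F112880 : act 4 n75285 = n41451 := d9_1 D75285 F63896 (iv4 D20128) F16790 (iv4 F16778) D10458 D21924 D45841 F72389 F63892 F63763 (iv5 D20414) F15126 D17440 (iv4 F54693)
theorem F112881 : act 0 n75285 = n38864 := d17_2 D34469 D75285 (iv5 D38864) (iv4 D18467) (iv5 D8684) F12267 D16711 F27401 D16724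
theorem F112882 : act 1 n75285 = n38859 := d17_6 F31221 (iv5 D9188) F12979 D17440 (iv4 F54693) D75285 (iv5 D38859) D38857 F59880
def n75286 : Q := act 0 n34470
theorem D75286 : act 0 n34470 = n75286 := rfl
def n75287 : Q := act 1 n34470
theorem D75287 : act 1 n34470 = n75287 := rfl
def n75288 : Q := act 2 n34470
theorem D75288 : act 2 n34470 = n75288 := rfl
def n75289 : Q := act 5 n34470
theorem D75289 : act 5 n34470 = n75289 := rfl
theorem F112883 : act 3 n75289 = n34471 := d6_1 D75289 (iv5 D34471) D34470
def n75290 : Q := act 7 n34470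
theorem D75290 : act 7 n34470 = n75290 := rfl
theorem F112884 : act 3 n75290 = n34472 := d8_1 D75290 (iv7 D34472) D34470
def n75291 : Q := act 0 n34471
theorem D75291 : act 0 n34471 = n75291 := rfl
theorem F112885 : act 5 n75291 = n34479 := d17_1 D75291 (iv1 D34479) D34481 (iv4 F64581) F64580 (iv0 D20364) D20367 (iv0 F36027) (iv4 F54695)
theorem F112886 : act 4 n75291 = n42622 := d18_3 F63840 (iv4 F54695) D75291 (iv5 D42622) (iv4 D20118) (iv0 F27459) F32330 F32328 D41401
theorem F112887 : act 1 n38869 = n75291 := d17_8 F66455 (iv5 D41362) D41360 (iv5 F63892) (iv4 F72389) (iv5 D45841) F34416 D38869 F112886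
def n75292 : Q := act 1 n34471
theorem D75292 : act 1 n34471 = n75292 := rfl
theorem F112888 : act 1 n75292 = n38869 := d15_1 D75292 (iv7 F112842) F112841
theorem F112889 : act 5 n75292 = n34478 := d17_7 (iv1 F17606) (iv5 D8140) (iv1 F17500) D7811 D16724 D34471 D75292 (iv0 D34478) (iv4 D16730)
theorem F112890 : act 4 n75292 = n47675 := d17_9 F74957 F63866 (iv1 F31959) (iv5 F63896) (iv4 F112880) (iv5 D75285) (iv0 D34469) D34471 D75292
def n75293 : Q := act 6 n34471
theorem D75293 : act 6 n34471 = n75293 := rfl
theorem F112891 : act 4 n75293 = n47734 := d10_1 D75293 (iv6 D47734) (iv4 F54695)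
def n75294 : Q := act 7 n34471
theorem D75294 : act 7 n34471 = n75294 := rfl
theorem F112892 : act 2 n75294 = n38869 := d4_1 D75294 (iv7 F112842) F112841
theorem F112893 : act 4 n75294 = n41881 := d11_1 D75294 F64569 (iv4 F54695)
theorem F112894 : act 5 n75294 = n34472 := d13_1 D75294 (iv7 D34472) D34471
def n75295 : Q := act 6 n34472
theorem D75295 : act 6 n34472 = n75295 := rfl
theorem F112895 : act 2 n75295 = n38870 := d3_1 D75295 (iv6 D38870) (iv2 F54696)
theorem F112896 : act 4 n75295 = n34473 := d10_1 D75295 (iv6 D34473) (iv4 F54697)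
def n75296 : Q := act 0 n34473
theorem D75296 : act 0 n34473 = n75296 := rfl
theorem F112897 : act 1 n38873 = n75296 := d15_0 (iv0 D75296) (iv7 F59230) (iv2 F59899)
def n75297 : Q := act 1 n34473
theorem D75297 : act 1 n34473 = n75297 := rfl
theorem F112898 : act 1 n75297 = n38873 := d15_1 D75297 (iv7 D38873) (iv2 F54698)
def n75298 : Q := act 6 n34476
theorem D75298 : act 6 n34476 = n75298 := rfl
theorem F112899 : act 2 n75298 = n55787 := d3_1 D75298 (iv6 D55787) F54707
theorem F112900 : act 4 n75298 = n56166 := d10_1 D75298 (iv6 D56166) F54709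
def n75299 : Q := act 3 n34477
theorem D75299 : act 3 n34477 = n75299 := rfl
theorem F112902 : act 4 n75299 = n34480 := d5_2 D34477 D75299 (iv3 D34480) (iv4 D16730) (iv3 F27457)
def n75301 : Q := act 3 n34478
theorem D75301 : act 3 n34478 = n75301 := rfl
def n75302 : Q := act 6 n34478
theorem D75302 : act 6 n34478 = n75302 := rfl
theorem F112905 : act 4 n75302 = n42619 := d10_1 D75302 (iv6 D42619) (iv4 F54712)
def n75303 : Q := act 3 n34479
theorem D75303 : act 3 n34479 = n75303 := rfl
theorem F112906 : act 4 n75303 = n36271 := d5_2 (iv4 F54713) D75303 (iv3 D36271) (iv4 D17516) D17515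
def n75304 : Q := act 6 n34479
theorem D75304 : act 6 n34479 = n75304 := rfl
theorem F112907 : act 4 n75304 = n36270 := d10_1 D75304 (iv6 D36270) (iv4 F54713)
def n75305 : Q := act 0 n34480
theorem D75305 : act 0 n34480 = n75305 := rfl
def n75306 : Q := act 1 n34480
theorem D75306 : act 1 n34480 = n75306 := rfl
def n75307 : Q := act 2 n34480
theorem D75307 : act 2 n34480 = n75307 := rfl
def n75308 : Q := act 5 n34480
theorem D75308 : act 5 n34480 = n75308 := rfl
theorem F112908 : act 3 n75308 = n34481 := d6_1 D75308 (iv5 D34481) D34480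
def n75309 : Q := act 0 n34481
theorem D75309 : act 0 n34481 = n75309 := rfl
theorem F112909 : act 5 n75309 = n41374 := d17_1 D75309 F63806 (iv5 F112894) F112893 (iv5 D41881) F31467 D21876 F64582 F64581
theorem F112910 : act 4 n75309 = n41409 := d18_1 D75309 F63855 F59915 F59914 (iv4 D22953) (iv0 F31935) (iv4 F54712) (iv0 D34478) D34481
theorem F112911 : act 2 n75285 = n75309 := d1_3 F112910 F63897 (iv4 F112880)
theorem F112912 : act 7 n45841 = n75309 := d11_0 F112910 F63894 (iv4 F72389)
def n75310 : Q := act 1 n34481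
theorem D75310 : act 1 n34481 = n75310 := rfl
theorem F112913 : act 7 n75310 = n75285 := d15_2 (iv0 D75309) D75310 F112911
theorem F112914 : act 5 n75310 = n36255 := d17_7 (iv1 F27444) (iv5 D8545) F7231 D7817 D16730 D34481 D75310 F56993 F54697
theorem F112915 : act 4 n75310 = n41406 := d17_9 F63852 (iv5 D22956) (iv1 F36006) D47675 (iv4 F112890) F112889 (iv0 D34478) D34481 D75310
theorem F112916 : act 2 n45841 = n75310 := d1_3 F112915 F63893 (iv4 F72389)
def n75311 : Q := act 6 n34481
theorem D75311 : act 6 n34481 = n75311 := rfl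
def n75312 : Q := act 2 n34482
theorem D75312 : act 2 n34482 = n75312 := rfl
theorem F112917 : act 5 n75312 = n47255 := d2_2 (iv5 F90886) D75312 (iv2 D47255)
theorem F112918 : act 7 n34483 = n75312 := d15_2 (iv0 D34482) D34483 (iv2 D75312)
theorem E10181 : n47263 = n34483 := (c13_4 F112918 F112917 (iv7 F74507) D47263)
theorem F112919 : act 5 n34483 = n22727 := (sb E10181 (iv5 D47263))
theorem F112920 : act 5 n57706 = n55361 := d17_7 (iv1 F86732) F112919 (iv1 D22727) (iv5 F29285) (iv4 F44181) (iv5 F44465) D57706 F87623 (iv4 F86729)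
def n75313 : Q := act 3 n34482
theorem D75313 : act 3 n34482 = n75313 := rfl
theorem F112921 : act 5 n75313 = n47256 := d6_2 (iv5 F90886) D75313 (iv3 D47256)
theorem F112922 : act 4 n75313 = n45208 := d20_6 (iv4 D3836) (iv1 F6941) D7818 D16731 D34482 D75313 (iv1 D45208) F33962 (iv3 D18155) (iv1 D8563)
def n75314 : Q := act 4 n34482
theorem D75314 : act 4 n34482 = n75314 := rfl
theorem F112923 : act 0 n71558 = n75314 := d20_10 (iv4 D75314) (iv1 F86733) F86729 (iv3 D33430) (iv1 F43043) D55444 F87731 (iv1 D33097) D33098 D71558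
def n75315 : Q := act 6 n34482
theorem D75315 : act 6 n34482 = n75315 := rfl
def n75316 : Q := act 7 n34482
theorem D75316 : act 7 n34482 = n75316 := rfl
theorem F112924 : act 2 n75316 = n34483 := d4_1 D75316 F112918 (iv2 D75312)
theorem F112925 : act 5 n75316 = n47260 := d13_1 D75316 (iv7 D47260) (iv5 F90886)
def n75317 : Q := act 3 n34483
theorem D75317 : act 3 n34483 = n75317 := rfl
theorem F112926 : act 5 n75317 = n38377 := d6_2 (iv5 F112919) D75317 F74512
theorem F112927 : act 4 n75317 = n38407 := d20_6 (iv4 D12661) D12659 D26515 D54811 (iv1 F86732) D75317 (iv1 F59264) F52494 (iv3 F51523) (iv1 D26518)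
theorem F112928 : act 0 n37973 = n75317 := d20_10 F112927 (iv1 F59264) F52494 (iv3 F51523) (iv1 D26518) D26519 F42455 D36094 F56841 (iv3 F58810)
def n75318 : Q := act 4 n34483
theorem D75318 : act 4 n34483 = n75318 := rfl
theorem F112929 : act 0 n75318 = n71558 := d20_1 D75318 F108073 F57316 (iv1 F42456) (iv3 D26519) (iv4 D12661) D12659 D26515 D54811 (iv1 F86732)
def n75319 : Q := act 6 n34483
theorem D75319 : act 6 n34483 = n75319 := rfl
def n75320 : Q := act 5 n34484
theorem D75320 : act 5 n34484 = n75320 := rfl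
theorem F112930 : act 2 n75320 = n34485 := d2_1 D75320 (iv5 D34485) D34484
theorem F112931 : act 3 n75320 = n34577 := d6_1 D75320 (iv5 D34577) (iv3 F54714)
theorem F112932 : act 7 n75320 = n41704 := d13_2 F86731 D75320 (iv5 F86730)
theorem F112933 : act 1 n41703 = n75320 := d15_1 D41703 F112932 (iv2 D41704)
theorem F112934 : act 1 n75320 = n41702 := d15_0 (iv0 D41702) (iv7 F54716) (iv2 F112930)
def n75321 : Q := act 6 n34484
theorem D75321 : act 6 n34484 = n75321 := rfl
theorem F112935 : act 2 n75321 = n34486 := d3_1 D75321 (iv6 D34486) D34484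
theorem F112936 : act 3 n75321 = n34578 := d7_1 D75321 (iv6 D34578) (iv3 F54714)
def n75322 : Q := act 1 n34485
theorem D75322 : act 1 n34485 = n75322 := rfl
theorem F112937 : act 1 n75322 = n41704 := d15_1 D75322 (iv7 F112932) F112930
theorem F112938 : act 4 n56278 = n75322 := d20_0 (iv1 D75322) (iv4 F61455) (iv3 D40375) F30637 (iv3 F30268) (iv4 D16982) F27838 D15930 D33035 (iv1 F89016)
theorem F112939 : act 3 n37970 = n75322 := d20_5 (iv4 F21658) (iv1 F13481) D8576 D18184 D37970 (iv4 F112938) (iv1 D56278) F43836 (iv3 D17616) (iv1 F21656)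
def n75323 : Q := act 6 n34485
theorem D75323 : act 6 n34485 = n75323 := rfl
theorem F112940 : act 3 n75323 = n34487 := d7_1 D75323 (iv6 D34487) (iv3 F54715)
def n75324 : Q := act 0 n34486
theorem D75324 : act 0 n34486 = n75324 := rfl
def n75325 : Q := act 1 n34486
theorem D75325 : act 1 n34486 = n75325 := rfl
def n75326 : Q := act 5 n34486
theorem D75326 : act 5 n34486 = n75326 := rfl
theorem F112941 : act 3 n75326 = n34490 := d6_1 D75326 (iv5 D34490) (iv3 F54717)
def n75327 : Q := act 7 n34486
theorem D75327 : act 7 n34486 = n75327 := rfl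
theorem F112942 : act 3 n75327 = n34491 := d8_1 D75327 (iv7 D34491) (iv3 F54717)
def n75328 : Q := act 0 n34487
theorem D75328 : act 0 n34487 = n75328 := rfl
def n75329 : Q := act 1 n34487
theorem D75329 : act 1 n34487 = n75329 := rfl
theorem F112943 : act 1 n75329 = n34588 := d15_1 D75329 (iv7 D34588) (iv2 F54718)
def n75330 : Q := act 5 n34487
theorem D75330 : act 5 n34487 = n75330 := rfl
theorem F112944 : act 2 n75330 = n34587 := d2_1 D75330 (iv5 D34587) (iv2 F54718)
theorem F112945 : act 6 n75330 = n34490 := d12_2 D34487 D75330 (iv5 D34490) (iv6 D16733) D16732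
def n75331 : Q := act 7 n34487
theorem D75331 : act 7 n34487 = n75331 := rfl
theorem F112946 : act 2 n75331 = n34588 := d4_1 D75331 (iv7 D34588) (iv2 F54718)
theorem F112947 : act 4 n75331 = n41724 := d11_1 D75331 F64359 (iv4 F54719)
theorem F112948 : act 6 n75331 = n41709 := d14_1 D75331 (iv7 D41709) (iv6 D19630) (iv7 F27461) D34487
theorem F112949 : act 1 n34588 = n75328 := d15_0 (iv0 D75328) D75331 F112946
theorem F112950 : act 1 n34586 = n75331 := d15_1 D34586 (iv7 D75331) F54718
theorem F112951 : act 1 n75331 = n34585 := d15_0 (iv0 D34585) D34588 (iv2 F112946)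
def n75332 : Q := act 2 n34488
theorem D75332 : act 2 n34488 = n75332 := rfl
theorem F112953 : act 7 n34489 = n75332 := d15_2 (iv0 D34488) D34489 (iv2 D75332)
def n75333 : Q := act 3 n34488
theorem D75333 : act 3 n34488 = n75333 := rfl
def n75334 : Q := act 5 n34488
theorem D75334 : act 5 n34488 = n75334 := rfl
def n75335 : Q := act 6 n34488
theorem D75335 : act 6 n34488 = n75335 := rfl
theorem F112954 : act 4 n75335 = n45882 := d10_1 D75335 (iv6 D45882) F59765
theorem F112955 : act 5 n75335 = n38702 := d21_6 D18250 F29445 (iv5 D16732) D16733 D34488 D75335 (iv1 D38702) (iv5 D18406) (iv6 D8664) (iv1 F13521)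
def n75336 : Q := act 7 n34488
theorem D75336 : act 7 n34488 = n75336 := rfl
theorem F112957 : act 4 n75336 = n45883 := d11_1 D75336 (iv7 D45883) F59765
def n75337 : Q := act 3 n34489
theorem D75337 : act 3 n34489 = n75337 := rfl
def n75338 : Q := act 5 n34489
theorem D75338 : act 5 n34489 = n75338 := rfl
def n75339 : Q := act 6 n34489
theorem D75339 : act 6 n34489 = n75339 := rfl
theorem F112958 : act 4 n75339 = n45886 := d10_1 D75339 (iv6 D45886) F59780
def n75340 : Q := act 0 n34490
theorem D75340 : act 0 n34490 = n75340 := rfl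
theorem F112959 : act 2 n34600 = n75340 := d15_3 (iv0 D75340) (iv0 F59475) (iv7 F61169)
theorem F112960 : act 7 n75340 = n34601 := d4_2 (iv7 F61169) F112959 (iv2 F61163)
theorem F112961 : act 1 n34603 = n75340 := d15_1 F59478 F112960 (iv2 F61163)
def n75341 : Q := act 4 n34490
theorem D75341 : act 4 n34490 = n75341 := rfl
theorem F112962 : act 2 n75341 = n34602 := d1_1 D75341 (iv4 D34602) (iv2 F54721)
theorem F112963 : act 5 n75341 = n38688 := d16_1 D75341 F59488 F29567 F13576 (iv5 F12387) (iv4 F27541) (iv5 F54865) (iv7 D34603) (iv2 F54721)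
theorem F112964 : act 7 n38687 = n75341 := d13_0 F112963 (iv7 D38688) D38687
def n75342 : Q := act 7 n34490
theorem D75342 : act 7 n34490 = n75342 := rfl
theorem F112966 : act 4 n75342 = n38687 := d11_1 D75342 F112964 (iv4 D75341)
theorem F112967 : act 5 n75342 = n34491 := d13_1 D75342 (iv7 D34491) D34490
theorem F112968 : act 1 n34601 = n75342 := d15_1 D34601 (iv7 D75342) F54721
theorem F112969 : act 1 n75342 = n34600 := d15_1 F112968 F61169 F61163
def n75345 : Q := act 3 n34492
theorem D75345 : act 3 n34492 = n75345 := rfl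
theorem F112972 : act 7 n75345 = n34498 := d8_2 F54727 D75345 (iv3 D34498)
def n75346 : Q := act 4 n34492
theorem D75346 : act 4 n34492 = n75346 := rfl
theorem F112973 : act 2 n75346 = n34494 := d1_1 D75346 (iv4 D34494) D34492
theorem F112974 : act 7 n75346 = n34499 := d11_2 F54727 D75346 (iv4 D34499)
def n75347 : Q := act 5 n34492
theorem D75347 : act 5 n34492 = n75347 := rfl
theorem F112975 : act 2 n75347 = n34495 := d2_1 D75347 (iv5 D34495) D34492
theorem F112976 : act 7 n75347 = n34500 := d13_2 F54727 D75347 (iv5 D34500)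
def n75348 : Q := act 6 n34492
theorem D75348 : act 6 n34492 = n75348 := rfl
theorem F112977 : act 2 n75348 = n34496 := d3_1 D75348 (iv6 D34496) D34492
theorem F112978 : act 5 n38845 = n75348 := d2_0 F112977 F54728 (iv2 F59860)
theorem F112979 : act 7 n75348 = n37952 := d13_2 D38845 F112978 F58780
def n75349 : Q := act 0 n34493
theorem D75349 : act 0 n34493 = n75349 := rfl
theorem F112980 : act 2 n34638 = n75349 := d15_3 (iv0 D75349) (iv0 F91437) (iv7 F91403)
theorem F112981 : act 5 n75349 = n38224 := d2_2 (iv5 F91402) F112980 F90454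
theorem F112982 : act 7 n75349 = n34637 := d4_2 (iv7 F91403) F112980 F91468
def n75350 : Q := act 2 n34493
theorem D75350 : act 2 n34493 = n75350 := rfl
def n75351 : Q := act 5 n34493
theorem D75351 : act 5 n34493 = n75351 := rfl
theorem F112983 : act 3 n75351 = n34495 := d6_1 D75351 (iv5 D34495) D34493
def n75352 : Q := act 6 n34493
theorem D75352 : act 6 n34493 = n75352 := rfl
theorem F112984 : act 3 n75352 = n34496 := d7_1 D75352 (iv6 D34496) D34493
theorem F112985 : act 5 n38846 = n75352 := d6_0 F112984 F54728 D38846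
def n75353 : Q := act 7 n34493
theorem D75353 : act 7 n34493 = n75353 := rfl
def n75354 : Q := act 3 n34494
theorem D75354 : act 3 n34494 = n75354 := rfl
def n75355 : Q := act 5 n34494
theorem D75355 : act 5 n34494 = n75355 := rfl
def n75356 : Q := act 6 n34494
theorem D75356 : act 6 n34494 = n75356 := rfl
theorem F112987 : act 4 n75356 = n34496 := d10_1 D75356 (iv6 D34496) D34494
def n75357 : Q := act 7 n34494
theorem D75357 : act 7 n34494 = n75357 := rfl
theorem F112988 : act 2 n75357 = n34499 := d4_1 D75357 (iv7 F112974) F112973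
def n75358 : Q := act 4 n34495
theorem D75358 : act 4 n34495 = n75358 := rfl
def n75359 : Q := act 6 n34495
theorem D75359 : act 6 n34495 = n75359 := rfl
theorem F112990 : act 5 n75359 = n38848 := d12_1 D75359 (iv6 D38848) (iv5 F54728) (iv6 D34496) D34495
theorem F112991 : act 0 n75359 = n34550 := d21_4 (iv5 F12363) D16734 D34495 D75359 (iv6 D34550) (iv5 F29608) F29609 F29591 (iv6 D18269) (iv1 D8615)
theorem E10182 : n38848 = n38452 := (c21_7 (iv5 F58887) (iv1 F58891) (iv5 D18218) D18219 F58892 D75359 F112990 (iv1 D38452) (iv5 D18331) D18332 (iv1 F59536))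
theorem F112992 : act 5 n38452 = n75359 := (sb E10182 (iv5 F112990))
theorem F112993 : act 6 n38452 = n18460 := (sb E10182 (iv6 D38848))
theorem F112994 : act 0 n37940 = n75359 := d21_1 F59648 (iv5 F112992) F112993 (iv1 D18460) F13585 (iv5 D3892) D3890 D8681 (iv6 F29434) D38172
theorem F112995 : act 2 n34630 = n75359 := d15_3 (iv0 F112994) F112826 F112823
theorem E10183 : n75347 = n16777 := (c3_4 D34630 F112995 (iv6 D75359) (iv2 F112975))
theorem E10184 : n34612 = n34495 := (((iv2 F54873)).symm.trans (sb E10183 F112975))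
theorem E10185 : n34492 = n7832 := ((((iv5 D16777)).symm.trans (sb E10183 (iv5 D75347)))).symm
theorem E10186 : n34631 = n34500 := ((D34631).symm.trans (sb E10183 F112976))
theorem F112996 : act 2 n34495 = n16777 := (sb E10184 F54873)
theorem E10187 : n16774 = n16734 := ((((iv5 D34495)).symm.trans (sb E10184 (iv5 D34612)))).symm
theorem F112997 : act 7 n34495 = n16782 := (sb E10184 F54874)
theorem E10190 : n75345 = n16775 := (((D16775).symm.trans (sb E10185 D75345))).symm
theorem E10191 : n75346 = n16776 := (((D16776).symm.trans (sb E10185 D75346))).symm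
theorem E10192 : n75348 = n16778 := (((D16778).symm.trans (sb E10185 D75348))).symm
theorem E10193 : n16779 = n16735 := ((D16779).symm.trans (sb E10185 (iv7 F54727)))
theorem F112998 : act 2 n34500 = n16782 := (sb E10186 F54887)
theorem E10194 : n75254 = n16785 := (((F54730).symm.trans (sb E10186 (iv6 F112811)))).symm
theorem F112999 : act 7 n34500 = n16777 := (sb E10186 (iv7 D34631))
theorem F113000 : act 2 n16734 = n7832 := (sb E10187 (iv2 D16774))
theorem E10197 : n34610 = n34493 := (((D34493).symm.trans (sb E10187 D34610))).symm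
theorem E10198 : n34611 = n34494 := (((D34494).symm.trans (sb E10187 D34611))).symm
theorem E10199 : n34613 = n34496 := (((D34496).symm.trans (sb E10187 D34613))).symm
theorem E10200 : n34497 = n7833 := ((D34497).symm.trans (sb E10187 (iv7 F27543)))
theorem E10201 : n34620 = n34498 := ((D34620).symm.trans (sb E10190 F112972))
theorem E10202 : n34626 = n34499 := ((D34626).symm.trans (sb E10191 F112974))
theorem E10203 : n38845 = n34634 := (((D34634).symm.trans (sb E10192 (iv5 F112978)))).symm
theorem E10204 : n37952 = n34635 := (((D34635).symm.trans (sb E10192 F112979))).symm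
theorem E10205 : n34636 = n34501 := (((D34501).symm.trans (sb E10193 D34636))).symm
theorem F113001 : act 7 n16735 = n7832 := (sb E10193 (iv7 D16779))
theorem E10206 : n34652 = n34453 := ((D34652).symm.trans (sb E10194 (iv2 D75254)))
theorem E10207 : n34656 = n34454 := ((D34656).symm.trans (sb E10194 (iv7 F112812)))
theorem E10208 : n75353 = n16780 := ((D75353).symm.trans (sb E10197 F54870))
theorem F113002 : act 2 n34494 = n16776 := (sb E10198 F54871)
theorem E10209 : n75357 = n16781 := ((D75357).symm.trans (sb E10198 F54872))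
theorem F113003 : act 2 n34496 = n16778 := (sb E10199 F54875)
theorem F113004 : act 2 n7833 = n16735 := (sb E10200 F54729)
theorem F113005 : act 7 n7833 = n16734 := (sb E10200 (iv7 D34497))
theorem F113006 : act 7 n34498 = n16775 := (sb E10201 (iv7 D34620))
theorem F113007 : act 7 n34499 = n16776 := (sb E10202 (iv7 D34626))
theorem F113008 : act 2 n34634 = n18460 := (sb E10203 F59860)
theorem F113009 : act 7 n34634 = n18459 := (sb E10203 (iv7 D38845))
theorem F113010 : act 1 n34635 = n18177 := (sb E10204 (iv0 D37952))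
theorem F113011 : act 5 n34635 = n18459 := (sb E10204 F58780)
theorem F113012 : act 2 n34501 = n16783 := (sb E10205 F54892)
theorem F113013 : act 2 n34453 = n16785 := (sb E10206 (iv2 D34652))
theorem E10210 : n75258 = n16786 := ((D75258).symm.trans (sb E10206 (iv7 F54900)))
theorem F113014 : act 7 n34454 = n16785 := (sb E10207 (iv7 D34656))
theorem F113015 : act 7 n16780 = n34493 := (sb E10208 (iv7 D75353))
theorem F113016 : act 2 n16781 = n34499 := (sb E10209 F112988)
theorem F113017 : act 7 n16781 = n34494 := (sb E10209 (iv7 D75357))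
theorem F113018 : act 2 n16786 = n34454 := (sb E10210 F112819)
theorem E10211 : n37939 = n34660 := (((D34660).symm.trans (sb E10210 (iv6 F112829)))).symm
theorem F113019 : act 7 n16786 = n34453 := (sb E10210 (iv7 D75258))
theorem F113020 : act 0 n34660 = n38474 := (sb E10211 (iv1 F59313))
theorem F113021 : act 1 n34660 = n18172 := (sb E10211 (iv0 D37939))
theorem F113022 : act 2 n34660 = n75261 := (sb E10211 (iv2 F112828))
theorem F113023 : act 7 n75359 = n34660 := d4_2 F112823 F112995 F113022
theorem F113024 : act 7 n75255 = n34657 := d8_2 F113019 D75255 (iv3 D34657)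
theorem F113025 : act 7 n75256 = n34658 := d11_2 F113019 D75256 (iv4 D34658)
theorem F113026 : act 7 n75257 = n34659 := d13_2 F113019 D75257 (iv5 D34659)
theorem F113027 : act 2 n34659 = n75260 := d15_3 (iv0 F112827) (iv0 F112817) F113026
theorem F113028 : act 7 n36546 = n35321 := d11_2 F113024 (iv4 F91499) F112814
theorem F113029 : act 2 n35321 = n36545 := d15_3 (iv0 D36545) D36546 F113028
theorem F113030 : act 2 n36546 = n35322 := d15_3 F57414 F57415 (iv7 F113028)
theorem F113031 : act 7 n35322 = n36545 := d4_2 (iv7 F113028) F113030 (iv2 F113029)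
theorem F113032 : act 2 n45892 = n34658 := d1_3 (iv4 D34658) F113018 F72481
theorem E10212 : n75256 = n45891 := ((c15_2 F72480 F72486 F113025 (iv2 F113032))).symm
theorem F113033 : act 4 n45891 = n34453 := (sb E10212 (iv4 D75256))
theorem F113034 : act 6 n45891 = n34646 := (sb E10212 F112815)
theorem F113035 : act 7 n45891 = n34658 := (sb E10212 F113025)
theorem F113036 : act 2 n34654 = n45891 := d1_3 F113033 F113013 D34654
theorem F113037 : act 7 n45892 = n34654 := d4_0 F113036 F113035 (iv2 F113032)
theorem E10213 : n37886 = n34658 := (c15_2 F72489 D37886 (iv7 F113035) (iv2 F113036))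
theorem F113038 : act 0 n34658 = n18157 := (sb E10213 (iv1 D37886))
theorem F113039 : act 1 n34658 = n45894 := (sb E10213 F72487)
theorem F113040 : act 7 n75354 = n34643 := d8_2 F113017 D75354 (iv3 D34643)
theorem F113041 : act 7 n75355 = n34644 := d13_2 F113017 D75355 (iv5 D34644)
theorem F113042 : act 7 n75350 = n34639 := d4_2 F113015 D75350 (iv2 D34639)
theorem F113043 : act 7 n36518 = n34640 := d11_2 F113015 F91435 (iv4 D34640)
theorem F113044 : act 7 n75351 = n34641 := d13_2 F113015 D75351 (iv5 D34641)
theorem F113045 : act 1 n75350 = n34637 := d15_0 (iv0 D34637) F113015 D75350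
theorem F113046 : act 1 n34639 = n75349 := d15_0 (iv0 D75349) (iv7 F113015) D34639
theorem F113047 : act 1 n55587 = n34639 := d15_0 F113046 F112982 F91468
theorem F113048 : act 4 n36519 = n34639 := d18_7 (iv1 F59087) D38772 F91418 F43682 F21541 (iv4 F28677) D36519 F113046 F112981
theorem F113049 : act 2 n34640 = n36519 := d1_3 F113048 (iv2 D34639) D34640
theorem F113050 : act 7 n35357 = n36519 := d15_2 F91400 F57371 (iv2 F113049)
theorem F113051 : act 2 n36518 = n35357 := d4_3 F113050 (iv2 F113049) (iv7 F113043)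
theorem F113052 : act 4 n75350 = n35357 := d11_3 F113050 F113048 (iv7 F113042)
theorem F113053 : act 1 n34638 = n75350 := d15_0 F113045 (iv7 F112982) (iv2 F112980)
theorem F113054 : act 7 n34653 = n75259 := d8_2 F113014 D34653 (iv3 D75259)
theorem F113055 : act 7 n34655 = n75260 := d13_2 F113014 D34655 (iv5 D75260)
theorem F113056 : act 2 n75257 = n34655 := d4_3 F113055 (iv2 F113027) (iv7 F113026)
theorem E10214 : n38076 = n34650 := (c15_2 F59602 D38076 (iv7 D34650) (iv2 F113012))
theorem F113057 : act 0 n34650 = n18214 := (sb E10214 (iv1 D38076))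
theorem F113058 : act 1 n34650 = n38360 := (sb E10214 F59218)
theorem E10215 : n38841 = n37803 := (c15_4 (iv0 D37803) (iv0 F54890) F113009 D38841)
theorem F113059 : act 2 n37803 = n18459 := (sb E10215 (iv2 D38841))
theorem F113060 : act 7 n37803 = n18460 := (sb E10215 (iv7 F59859))
theorem F113061 : act 7 n34617 = n36655 := d11_2 F113006 D34617 (iv4 F57526)
theorem F113062 : act 2 n34617 = n36654 := d15_3 (iv0 D36654) D36655 (iv7 F113061)
theorem F113063 : act 4 n36654 = n34616 := d1_2 D34617 F113062 (iv2 D34616)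
theorem F113064 : act 2 n34625 = n75356 := d1_3 F112987 F113003 (iv4 F54880)
theorem F113065 : act 2 n34624 = n75355 := d2_3 (iv5 D75355) F113002 D34624
theorem F113066 : act 3 n34616 = n75350 := d0_4 (iv3 D34493) F113000 D16775 D34616 (iv2 D75350)
theorem F113067 : act 7 n34646 = n75358 := d11_2 F112997 D34646 (iv4 D75358)
theorem F113068 : act 2 n34629 = n75358 := d1_3 (iv4 D75358) F112996 D34629
theorem F113069 : act 1 n34629 = n46230 := d15_0 (iv0 F72889) F113067 (iv2 F113068)
theorem E10216 : n46232 = n45885 := (c18_9 (iv1 D21943) (iv4 F34450) F59786 (iv4 D16776) D16777 D34629 F113069 F72884 D46232 (iv5 D45885))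
theorem F113070 : act 0 n45885 = n22116 := (sb E10216 (iv1 D46232))
def n75360 : Q := act 1 n34496
theorem D75360 : act 1 n34496 = n75360 := rfl
theorem F113071 : act 1 n75360 = n34635 := d15_1 D75360 (iv7 D34635) (iv2 F113003)
theorem F113072 : act 7 n75360 = n34554 := d15_2 (iv0 F58893) D75360 F59621
theorem F113073 : act 6 n37940 = n75360 := d21_3 D18246 D38172 F59648 (iv1 D75360) (iv6 D34496) D34495 (iv1 F59546) (iv5 D38755) F59565 (iv1 D18245)
theorem F113074 : act 2 n75360 = n34633 := d3_1 F113073 (iv6 F59311) F59310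
def n75361 : Q := act 7 n34496
theorem D75361 : act 7 n34496 = n75361 := rfl
theorem F113075 : act 2 n75361 = n34635 := d4_1 D75361 (iv7 D34635) (iv2 F113003)
theorem F113076 : act 5 n75361 = n37803 := d13_1 D75361 F113060 (iv5 F54728)
theorem F113077 : act 6 n75361 = n34650 := d14_1 D75361 (iv7 D34650) (iv6 D16783) F113005 D34496
theorem F113078 : act 1 n34633 = n75361 := d15_1 D34633 (iv7 D75361) F113003
theorem F113079 : act 1 n75361 = n34554 := d15_1 F113078 (iv7 F113072) F113074
def n75362 : Q := act 0 n34498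
theorem D75362 : act 0 n34498 = n75362 := rfl
theorem F113080 : act 1 n34616 = n75362 := d15_0 (iv0 D75362) F113006 D34616
def n75363 : Q := act 1 n34498
theorem D75363 : act 1 n34498 = n75363 := rfl
theorem F113081 : act 5 n75363 = n38235 := d18_9 (iv1 D38235) D38237 F59110 F30144 F13775 (iv4 F28740) D36655 (iv4 F57526) D75363
theorem F113082 : act 2 n34755 = n75363 := d2_3 F113081 F91573 (iv5 F91473)
theorem F113083 : act 7 n34615 = n75363 := d13_0 F113081 F91575 (iv5 F59501)
theorem E10217 : n34755 = n34614 := (c15_4 (iv0 D34614) D34615 F113083 (iv2 F113082))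
theorem F113084 : act 2 n34614 = n75363 := (sb E10217 F113082)
theorem F113085 : act 3 n34614 = n16838 := (sb E10217 (iv3 D34755))
theorem F113086 : act 5 n34614 = n18413 := (sb E10217 F91473)
theorem F113087 : act 7 n34614 = n55559 := (sb E10217 F91474)
theorem E10218 : n75362 = n55559 := ((c15_4 (iv0 D75362) D75363 (iv7 F113083) F91453)).symm
theorem F113088 : act 0 n55559 = n34616 := (sb E10218 (iv1 F113080))
theorem F113089 : act 1 n55559 = n34498 := (sb E10218 (iv0 D75362))
theorem F113090 : act 1 n75363 = n34616 := d15_0 (iv0 F113088) (iv7 F113087) F113084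
def n75364 : Q := act 2 n34498
theorem D75364 : act 2 n34498 = n75364 := rfl
theorem F113091 : act 3 n75364 = n34639 := d0_2 D34498 D75364 (iv2 D34639) (iv3 D16780) F113004
theorem F113093 : act 1 n75364 = n34614 := d15_0 (iv0 D34614) (iv7 F113006) D75364
def n75365 : Q := act 5 n34498
theorem D75365 : act 5 n34498 = n75365 := rfl
theorem F113095 : act 3 n75365 = n34500 := d6_1 D75365 (iv5 D34500) D34498
theorem F113096 : act 7 n75365 = n34618 := d13_2 (iv7 F113006) D75365 (iv5 D34618)
theorem F113097 : act 6 n34653 = n75365 := d7_0 F113095 F54730 D34653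
def n75366 : Q := act 6 n34498
theorem D75366 : act 6 n34498 = n75366 := rfl
theorem F113098 : act 3 n75366 = n34501 := d7_1 D75366 (iv6 D34501) D34498
def n75367 : Q := act 3 n34499
theorem D75367 : act 3 n34499 = n75367 := rfl
theorem F113099 : act 7 n75367 = n34623 := d8_2 (iv7 F113007) D75367 (iv3 D34623)
def n75368 : Q := act 5 n34499
theorem D75368 : act 5 n34499 = n75368 := rfl
theorem F113100 : act 2 n75368 = n34644 := d2_1 D75368 (iv5 D34644) F113016
theorem F113101 : act 7 n75368 = n34624 := d13_2 (iv7 F113007) D75368 (iv5 D34624)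
def n75369 : Q := act 6 n34499
theorem D75369 : act 6 n34499 = n75369 := rfl
theorem F113102 : act 2 n75369 = n34645 := d3_1 D75369 (iv6 D34645) F113016
theorem F113103 : act 4 n75369 = n34501 := d10_1 D75369 (iv6 D34501) D34499
def n75370 : Q := act 4 n34500
theorem D75370 : act 4 n34500 = n75370 := rfl
theorem F113104 : act 2 n75370 = n34646 := d1_1 D75370 (iv4 D34646) (iv2 F112998)
theorem F113105 : act 6 n75370 = n34654 := d10_2 (iv6 F54730) D75370 (iv4 D34654)
theorem F113106 : act 7 n75370 = n34629 := d11_2 (iv7 F112999) D75370 (iv4 D34629)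
theorem F113107 : act 0 n75370 = n38046 := d17_0 (iv5 F59816) (iv1 F59519) (iv5 D18442) (iv4 D8672) D8673 F29595 F29589 (iv0 F59599) D75370
theorem F113108 : act 1 n75358 = n38046 := d15_0 (iv0 F113107) F113106 F113068
def n75371 : Q := act 5 n34501
theorem D75371 : act 5 n34501 = n75371 := rfl
theorem F113109 : act 2 n75371 = n34649 := d2_1 D75371 (iv5 D34649) (iv2 F113012)
theorem F113110 : act 6 n75371 = n34655 := d12_2 D34501 D75371 (iv5 D34655) (iv6 F54730) (iv5 D34500)
theorem F113111 : act 0 n38141 = n75371 := d21_10 (iv5 D75371) F59601 (iv5 D38360) F29525 (iv1 F59297) F112993 (iv5 F54728) F58893 D37954 (iv6 F58986)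
theorem F113112 : act 1 n38145 = n75371 := d15_0 (iv0 F113111) F59630 (iv2 F59636)
theorem F113113 : act 7 n38336 = n75371 := d15_2 (iv0 F54896) D38336 F113109
def n75372 : Q := act 7 n34501
theorem D75372 : act 7 n34501 = n75372 := rfl
theorem F113114 : act 2 n75372 = n34650 := d4_1 D75372 (iv7 D34650) (iv2 F113012)
theorem F113115 : act 5 n75372 = n38336 := d13_1 D75372 F113113 (iv5 D75371)
theorem F113116 : act 6 n75372 = n34635 := d14_1 D75372 (iv7 D34635) (iv6 D16778) (iv7 F113001) D34501
theorem F113117 : act 1 n34520 = n75372 := d15_1 (iv0 F59605) (iv7 D75372) F113012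
theorem F113118 : act 1 n75372 = n34647 := d15_1 F113117 F59570 (iv2 F59595)
def n75373 : Q := act 0 n34502
theorem D75373 : act 0 n34502 = n75373 := rfl
def n75374 : Q := act 1 n34502
theorem D75374 : act 1 n34502 = n75374 := rfl
theorem F113119 : act 1 n75374 = n34509 := d15_1 D75374 (iv7 D34509) (iv2 F54731)
def n75375 : Q := act 5 n34502
theorem D75375 : act 5 n34502 = n75375 := rfl
theorem F113120 : act 2 n75375 = n34508 := d2_1 D75375 (iv5 D34508) (iv2 F54731)
theorem F113121 : act 3 n75375 = n37960 := d6_1 D75375 (iv5 D37960) (iv3 F54732)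
theorem F113122 : act 6 n75375 = n36460 := d12_2 D34502 D75375 (iv5 D36460) (iv6 D17602) (iv5 F27472)
def n75376 : Q := act 7 n34502
theorem D75376 : act 7 n34502 = n75376 := rfl
theorem F113123 : act 2 n75376 = n34509 := d4_1 D75376 (iv7 D34509) (iv2 F54731)
theorem F113124 : act 3 n75376 = n37961 := d8_1 D75376 (iv7 D37961) (iv3 F54732)
theorem F113125 : act 6 n75376 = n37815 := d14_1 D75376 (iv7 D37815) (iv6 D18131) (iv7 F27473) D34502
theorem F113126 : act 1 n34509 = n75373 := d15_0 (iv0 D75373) D75376 F113123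
theorem F113127 : act 1 n34507 = n75376 := d15_1 D34507 (iv7 D75376) F54731
theorem F113128 : act 1 n75376 = n34506 := d15_0 (iv0 D34506) D34509 (iv2 F113123)
def n75377 : Q := act 0 n34503
theorem D75377 : act 0 n34503 = n75377 := rfl
theorem F113129 : act 5 n75377 = n52900 := d17_1 D75377 F83591 (iv5 F110310) (iv4 D73616) F53185 (iv0 D26388) D26389 (iv0 F42138) (iv4 F54733)
theorem F113130 : act 4 n75377 = n71788 := d18_1 D75377 (iv1 F108254) (iv4 F108246) (iv5 D71780) (iv4 D33180) (iv0 F41870) D52938 F83658 F83177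
theorem F113131 : act 0 n60133 = n56295 := d20_4 F113130 (iv1 F108254) (iv4 F108246) F108245 F89058 (iv4 D34460) F27411 D16738 D34503 D75377
theorem F113132 : act 1 n37824 = n75377 := d15_0 (iv0 D75377) F54734 D37824
theorem F113133 : act 2 n37823 = n75377 := d2_3 F113129 F108411 F108403
theorem F113134 : act 7 n37822 = n75377 := d13_0 F113129 F108400 F108396
def n75378 : Q := act 1 n34503
theorem D75378 : act 1 n34503 = n75378 := rfl
theorem F113135 : act 1 n75378 = n37824 := d15_1 D75378 (iv7 F108382) F108380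
theorem F113136 : act 7 n75378 = n37823 := d15_2 (iv0 D75377) D75378 F113133
theorem F113137 : act 5 n75378 = n71775 := d17_7 F28354 (iv5 D12168) D12165 (iv5 F40404) D52640 F83177 D75378 F108237 (iv4 D35919)
theorem F113138 : act 4 n75378 = n45906 := d18_7 (iv1 F52409) F77323 (iv1 F77322) F42616 (iv5 F42618) (iv4 F54733) D75378 (iv0 F72497) (iv5 D33194)
theorem F113139 : act 2 n37822 = n75378 := d16_9 F113138 F72496 F52485 F51501 F37289 D25681 D52900 (iv5 F113129) (iv7 F113134)
def n75379 : Q := act 6 n34503
theorem D75379 : act 6 n34503 = n75379 := rfl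
theorem F113140 : act 3 n75379 = n34505 := d7_1 D75379 (iv6 D34505) D34503
def n75380 : Q := act 6 n34504
theorem D75380 : act 6 n34504 = n75380 := rfl
def n75381 : Q := act 0 n34505
theorem D75381 : act 0 n34505 = n75381 := rfl
def n75383 : Q := act 5 n34505
theorem D75383 : act 5 n34505 = n75383 := rfl
def n75384 : Q := act 7 n34505
theorem D75384 : act 7 n34505 = n75384 := rfl
theorem F113142 : act 4 n75384 = n34509 := d11_1 D75384 (iv7 D34509) (iv4 F54737)
theorem F113143 : act 6 n75384 = n37830 := d14_1 D75384 (iv7 D37830) (iv6 D18136) (iv7 F27476) D34505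
def n75385 : Q := act 2 n34506
theorem D75385 : act 2 n34506 = n75385 := rfl
theorem F113144 : act 7 n34507 = n75385 := d15_2 (iv0 D34506) D34507 (iv2 D75385)
def n75386 : Q := act 3 n34506
theorem D75386 : act 3 n34506 = n75386 := rfl
def n75387 : Q := act 4 n34506
theorem D75387 : act 4 n34506 = n75387 := rfl
def n75389 : Q := act 6 n34506
theorem D75389 : act 6 n34506 = n75389 := rfl
def n75390 : Q := act 7 n34506
theorem D75390 : act 7 n34506 = n75390 := rfl
theorem F113145 : act 2 n75390 = n34507 := d4_1 D75390 F113144 (iv2 D75385)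
def n75391 : Q := act 3 n34507
theorem D75391 : act 3 n34507 = n75391 := rfl
def n75392 : Q := act 4 n34507
theorem D75392 : act 4 n34507 = n75392 := rfl
def n75394 : Q := act 6 n34507
theorem D75394 : act 6 n34507 = n75394 := rfl
def n75395 : Q := act 0 n34508
theorem D75395 : act 0 n34508 = n75395 := rfl
def n75396 : Q := act 1 n34508
theorem D75396 : act 1 n34508 = n75396 := rfl
def n75397 : Q := act 4 n34508
theorem D75397 : act 4 n34508 = n75397 := rfl
theorem F113146 : act 6 n75397 = n37113 := d10_2 (iv6 F54739) D75397 (iv4 F58040)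
def n75398 : Q := act 7 n34508
theorem D75398 : act 7 n34508 = n75398 := rfl
theorem F113147 : act 3 n75398 = n34529 := d8_1 D75398 (iv7 D34529) (iv3 F54738)
theorem F113148 : act 5 n75398 = n34509 := d13_1 D75398 (iv7 D34509) D34508
def n75399 : Q := act 0 n34510
theorem D75399 : act 0 n34510 = n75399 := rfl
def n75401 : Q := act 5 n34510
theorem D75401 : act 5 n34510 = n75401 := rfl
def n75402 : Q := act 7 n34510
theorem D75402 : act 7 n34510 = n75402 := rfl
theorem F113151 : act 3 n75402 = n34515 := d8_1 D75402 (iv7 D34515) (iv3 F54742)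
theorem F113152 : act 6 n75402 = n37895 := d14_1 D75402 (iv7 D37895) (iv6 D18160) (iv7 F27479) D34510
def n75403 : Q := act 0 n34511
theorem D75403 : act 0 n34511 = n75403 := rfl
def n75404 : Q := act 1 n34511
theorem D75404 : act 1 n34511 = n75404 := rfl
theorem F113153 : act 1 n75404 = n38036 := d15_1 D75404 (iv7 D38036) (iv2 F54743)
def n75405 : Q := act 5 n34511
theorem D75405 : act 5 n34511 = n75405 := rfl
theorem F113154 : act 2 n75405 = n38035 := d2_1 D75405 (iv5 D38035) (iv2 F54743)
theorem F113155 : act 6 n75405 = n34514 := d12_2 D34511 D75405 (iv5 D34514) (iv6 D16742) D16741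
def n75406 : Q := act 7 n34511
theorem D75406 : act 7 n34511 = n75406 := rfl
theorem F113156 : act 2 n75406 = n38036 := d4_1 D75406 (iv7 D38036) (iv2 F54743)
theorem F113157 : act 4 n75406 = n41660 := d11_1 D75406 (iv7 D41660) (iv4 F54744)
theorem F113158 : act 6 n75406 = n37902 := d14_1 D75406 (iv7 D37902) (iv6 D18163) (iv7 F27481) D34511
theorem F113159 : act 1 n38036 = n75403 := d15_0 (iv0 D75403) D75406 F113156
theorem F113160 : act 1 n38034 = n75406 := d15_1 D38034 (iv7 D75406) F54743
theorem F113161 : act 1 n75406 = n38033 := d15_0 (iv0 D38033) D38036 (iv2 F113156)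
def n75407 : Q := act 2 n34512
theorem D75407 : act 2 n34512 = n75407 := rfl
theorem F113162 : act 7 n34513 = n75407 := d15_2 (iv0 D34512) D34513 (iv2 D75407)
def n75408 : Q := act 3 n34512
theorem D75408 : act 3 n34512 = n75408 := rfl
def n75409 : Q := act 4 n34512
theorem D75409 : act 4 n34512 = n75409 := rfl
def n75410 : Q := act 5 n34512
theorem D75410 : act 5 n34512 = n75410 := rfl
def n75412 : Q := act 7 n34512
theorem D75412 : act 7 n34512 = n75412 := rfl
def n75413 : Q := act 3 n34513
theorem D75413 : act 3 n34513 = n75413 := rfl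
def n75414 : Q := act 4 n34513
theorem D75414 : act 4 n34513 = n75414 := rfl
def n75415 : Q := act 5 n34513
theorem D75415 : act 5 n34513 = n75415 := rfl
def n75416 : Q := act 6 n34513
theorem D75416 : act 6 n34513 = n75416 := rfl
def n75417 : Q := act 0 n34514
theorem D75417 : act 0 n34514 = n75417 := rfl
def n75418 : Q := act 1 n34514
theorem D75418 : act 1 n34514 = n75418 := rfl
theorem F113164 : act 1 n75418 = n38050 := d15_1 D75418 (iv7 D38050) (iv2 F54746)
theorem F113165 : act 5 n38422 = n75418 := d21_6 (iv5 F29488) (iv1 F29490) (iv5 D8636) D8637 D18324 D38422 (iv1 D75418) (iv5 D34514) (iv6 D16742) (iv1 F16685)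
def n75419 : Q := act 4 n34514
theorem D75419 : act 4 n34514 = n75419 := rfl
def n75420 : Q := act 7 n34514
theorem D75420 : act 7 n34514 = n75420 := rfl
theorem F113167 : act 2 n75420 = n38050 := d4_1 D75420 (iv7 D38050) (iv2 F54746)
theorem F113168 : act 5 n75420 = n34515 := d13_1 D75420 (iv7 D34515) D34514
theorem F113170 : act 1 n38048 = n75420 := d15_1 D38048 (iv7 D75420) F54746
theorem F113171 : act 1 n75420 = n38047 := d15_0 (iv0 D38047) D38050 (iv2 F113167)
def n75425 : Q := act 5 n34517
theorem D75425 : act 5 n34517 = n75425 := rfl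
theorem F113179 : act 3 n75425 = n34519 := d6_1 D75425 (iv5 D34519) D34517
theorem F113180 : act 7 n75425 = n38083 := d13_2 (iv7 F59590) D75425 (iv5 D38083)
def n75426 : Q := act 6 n34517
theorem D75426 : act 6 n34517 = n75426 := rfl
theorem F113181 : act 3 n75426 = n34520 := d7_1 D75426 (iv6 D34520) D34517
def n75427 : Q := act 0 n34518
theorem D75427 : act 0 n34518 = n75427 := rfl
theorem F113182 : act 1 n34523 = n75427 := d15_0 (iv0 D75427) F59592 (iv2 F59583)
def n75428 : Q := act 1 n34518
theorem D75428 : act 1 n34518 = n75428 := rfl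
def n75429 : Q := act 3 n34518
theorem D75429 : act 3 n34518 = n75429 := rfl
def n75430 : Q := act 5 n34518
theorem D75430 : act 5 n34518 = n75430 := rfl
theorem F113185 : act 2 n75430 = n38067 := d2_1 D75430 (iv5 D38067) (iv2 F59591)
theorem F113186 : act 7 n75430 = n38086 := d13_2 (iv7 F59592) D75430 (iv5 D38086)
def n75431 : Q := act 6 n34518
theorem D75431 : act 6 n34518 = n75431 := rfl
theorem F113187 : act 2 n75431 = n38068 := d3_1 D75431 (iv6 D38068) (iv2 F59591)
theorem F113188 : act 4 n75431 = n34520 := d10_1 D75431 (iv6 D34520) D34518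
def n75432 : Q := act 1 n34519
theorem D75432 : act 1 n34519 = n75432 := rfl
def n75433 : Q := act 4 n34519
theorem D75433 : act 4 n34519 = n75433 := rfl
theorem F113191 : act 7 n75433 = n38088 := d11_2 (iv7 F59594) D75433 (iv4 D38088)
def n75434 : Q := act 6 n34519
theorem D75434 : act 6 n34519 = n75434 := rfl
theorem F113193 : act 7 n75434 = n38099 := d14_2 (iv7 F59594) D75434 (iv6 D38099) (iv7 F59607) F54757
def n75442 : Q := act 5 n34523
theorem D75442 : act 5 n34523 = n75442 := rfl
theorem F113207 : act 2 n75442 = n38086 := d2_1 D75442 (iv5 D38086) (iv2 F59583)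
theorem F113208 : act 7 n75442 = n38067 := d13_2 (iv7 F59584) D75442 (iv5 D38067)
def n75443 : Q := act 6 n34523
theorem D75443 : act 6 n34523 = n75443 := rfl
theorem F113209 : act 2 n75443 = n38087 := d3_1 D75443 (iv6 D38087) (iv2 F59583)
theorem F113210 : act 4 n75443 = n34525 := d10_1 D75443 (iv6 D34525) D34523
theorem F113211 : act 1 n38677 = n75443 := d17_8 F59575 (iv5 D16777) (iv1 F27470) F27467 (iv4 F29457) (iv5 F59083) F59086 D38677 F113210
def n75445 : Q := act 3 n34526
theorem D75445 : act 3 n34526 = n75445 := rfl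
theorem F113215 : act 6 n75445 = n38083 := d7_2 (iv6 F54757) D75445 F58895
theorem F113216 : act 7 n75445 = n38096 := d8_2 (iv7 F59607) D75445 (iv3 D38096)
def n75446 : Q := act 4 n34526
theorem D75446 : act 4 n34526 = n75446 := rfl
theorem F113217 : act 2 n75446 = n38093 := d1_1 D75446 (iv4 D38093) (iv2 F59606)
theorem F113218 : act 6 n75446 = n38088 := d10_2 (iv6 F54757) D75446 (iv4 D38088)
theorem F113219 : act 7 n75446 = n38097 := d11_2 (iv7 F59607) D75446 (iv4 D38097)
theorem E10219 : n46244 = n38093 := ((c15_4 (iv0 D46244) F59469 (iv7 F113219) F113217)).symm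
theorem F113220 : act 1 n38093 = n22119 := (sb E10219 (iv0 D46244))
def n75448 : Q := act 4 n34527
theorem D75448 : act 4 n34527 = n75448 := rfl
theorem F113223 : act 2 n75448 = n38097 := d1_1 D75448 (iv4 D38097) (iv2 F59608)
theorem F113224 : act 7 n75448 = n38093 := d11_2 (iv7 F59609) D75448 (iv4 D38093)
def n75449 : Q := act 6 n34527
theorem D75449 : act 6 n34527 = n75449 := rfl
theorem F113225 : act 2 n75449 = n38099 := d3_1 D75449 (iv6 D38099) (iv2 F59608)
theorem F113226 : act 5 n75449 = n38454 := d12_1 D75449 (iv6 D38454) (iv5 D18331) D18332 F54759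
def n75450 : Q := act 0 n34528
theorem D75450 : act 0 n34528 = n75450 := rfl
def n75451 : Q := act 1 n34528
theorem D75451 : act 1 n34528 = n75451 := rfl
theorem F113228 : act 1 n75451 = n38104 := d15_1 D75451 (iv7 D38104) (iv2 F54760)
def n75452 : Q := act 3 n34528
theorem D75452 : act 3 n34528 = n75452 := rfl
def n75453 : Q := act 5 n34528
theorem D75453 : act 5 n34528 = n75453 := rfl
def n75454 : Q := act 7 n34528
theorem D75454 : act 7 n34528 = n75454 := rfl
theorem F113231 : act 2 n75454 = n38104 := d4_1 D75454 (iv7 D38104) (iv2 F54760)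
theorem F113232 : act 4 n75454 = n34529 := d11_1 D75454 (iv7 D34529) D34528
theorem F113234 : act 1 n38104 = n75450 := d15_0 (iv0 D75450) D75454 F113231
theorem F113236 : act 1 n75454 = n38100 := d15_0 (iv0 D38100) D38104 (iv2 F113231)
def n75455 : Q := act 0 n34530
theorem D75455 : act 0 n34530 = n75455 := rfl
def n75456 : Q := act 1 n34530
theorem D75456 : act 1 n34530 = n75456 := rfl
theorem F113237 : act 1 n75456 = n34536 := d15_1 D75456 (iv7 D34536) (iv2 F54768)
def n75457 : Q := act 7 n34530
theorem D75457 : act 7 n34530 = n75457 := rfl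
theorem F113238 : act 2 n75457 = n34536 := d4_1 D75457 (iv7 D34536) (iv2 F54768)
theorem F113240 : act 5 n75457 = n75457 := d13_1 D75457 (iv7 D75457) F54770
theorem F113241 : act 6 n75457 = n37961 := d14_1 D75457 (iv7 D37961) (iv6 D18179) (iv7 F27495) D34530
theorem F113242 : act 1 n34536 = n75455 := d15_0 (iv0 D75455) D75457 F113238
theorem F113243 : act 1 n34535 = n75457 := d15_1 D34535 (iv7 D75457) F54768
theorem F113244 : act 1 n75457 = n34534 := d15_0 (iv0 D34534) D34536 (iv2 F113238)
def n75458 : Q := act 0 n34531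
theorem D75458 : act 0 n34531 = n75458 := rfl
theorem F113245 : act 3 n75458 = n41703 := d20_5 (iv4 F13120) (iv1 F13418) D16748 D34531 D75458 (iv4 F86433) (iv1 D36795) (iv4 F43911) (iv3 D27157) F21645
theorem F113246 : act 1 n37972 = n75458 := d15_0 (iv0 D75458) F54772 D37972
def n75459 : Q := act 1 n34531
theorem D75459 : act 1 n34531 = n75459 := rfl
theorem F113247 : act 4 n37973 = n75459 := d20_6 (iv4 D10471) (iv1 F6877) D4823 D10534 (iv1 F29354) (iv3 F58810) (iv1 D75459) F54771 (iv3 D16750) (iv1 F16681)
theorem F113248 : act 1 n75459 = n37972 := d18_6 (iv1 F59264) F52494 (iv1 D18201) (iv4 F29352) D37973 F113247 F58809 F54782 (iv5 F59263)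
def n75460 : Q := act 2 n34531
theorem D75460 : act 2 n34531 = n75460 := rfl
theorem F113249 : act 3 n75460 = n71979 := d0_2 D34531 D75460 (iv2 F108470) (iv3 D36512) (iv2 F28665)
theorem F113250 : act 4 n75460 = n34539 := d1_2 (iv4 F54771) D75460 (iv2 D34539)
theorem F113251 : act 7 n75460 = n37972 := d4_2 (iv7 F54772) D75460 (iv2 D37972)
theorem F113252 : act 1 n75460 = n37970 := d15_0 (iv0 D37970) (iv7 F54772) D75460
theorem F113253 : act 1 n37971 = n75460 := d15_1 D37971 F113251 (iv2 D37972)
def n75461 : Q := act 5 n34531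
theorem D75461 : act 5 n34531 = n75461 := rfl
theorem F113254 : act 3 n75461 = n34532 := d6_1 D75461 (iv5 D34532) D34531
theorem F113255 : act 7 n75461 = n37973 := d13_2 (iv7 F54772) D75461 (iv5 D37973)
theorem F113256 : act 4 n75461 = n37971 := d18_5 (iv1 F59261) (iv4 F59260) (iv1 D34538) (iv4 F54771) D75461 F113253 F113250 F54785 D38019
theorem F113257 : act 7 n37971 = n75459 := d11_2 (iv7 F113255) F113256 (iv4 F113247)
theorem F113258 : act 2 n75459 = n37970 := d15_3 (iv0 D37970) D37971 F113257
theorem F113259 : act 2 n37971 = n75458 := d15_3 (iv0 D75458) D75459 (iv7 F113257)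
theorem F113260 : act 7 n75458 = n37970 := d4_2 (iv7 F113257) F113259 (iv2 F113258)
theorem F113261 : act 5 n38194 = n37970 := d16_7 (iv4 F113256) (iv5 D75461) F54771 D34540 (iv4 F54790) (iv5 F58857) F59055 (iv7 F113260) (iv2 F113259)
theorem E10220 : n75322 = n38196 := (c6_2 F113261 F112939 (iv5 D38196) D38194)
theorem F113262 : act 0 n38196 = n34485 := (sb E10220 (iv1 D75322))
theorem F113263 : act 1 n38196 = n41704 := (sb E10220 F112937)
theorem F113264 : act 3 n38196 = n37970 := (sb E10220 (iv3 F112939))
theorem F113265 : act 4 n38196 = n56278 := (sb E10220 (iv4 F112938))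
theorem F113266 : act 7 n41703 = n38196 := d8_0 F113264 (iv7 F113260) F113245
theorem F113267 : act 7 n56278 = n36795 := d11_2 F113266 F113265 F86433
theorem F113268 : act 5 n38188 = n41703 := d13_3 F113266 (iv5 D38196) F59053
theorem F113269 : act 2 n38196 = n41702 := d15_3 (iv0 D41702) D41703 F113266
theorem F113270 : act 2 n41703 = n38191 := d15_3 F108917 (iv0 F113262) (iv7 F113266)
theorem F113271 : act 2 n56277 = n36795 := d1_3 F86433 F113270 F108918
theorem F113272 : act 7 n38191 = n41702 := d4_2 (iv7 F113266) F113270 (iv2 F113269)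
theorem F113273 : act 7 n36794 = n56277 := d11_2 F113272 F86435 (iv4 F108918)
theorem F113274 : act 5 n41702 = n38193 := d13_1 F113272 (iv7 D38193) D38191
theorem F113275 : act 2 n56278 = n36794 := d4_3 F113273 F113271 (iv7 F113267)
theorem F113276 : act 1 n55363 = n57282 := d17_6 (iv1 F42512) D38196 F113262 (iv5 D34485) (iv4 F42980) D55363 (iv5 D57282) F44348 (iv4 F42510)
theorem F113277 : act 1 n57282 = n72407 := d15_1 F113276 (iv7 F109586) F109584
def n75462 : Q := act 6 n34531
theorem D75462 : act 6 n34531 = n75462 := rfl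
theorem F113278 : act 3 n75462 = n34533 := d7_1 D75462 (iv6 D34533) D34531
theorem F113279 : act 4 n75462 = n34541 := d10_1 D75462 (iv6 D34541) (iv4 F54771)
def n75464 : Q := act 0 n34533
theorem D75464 : act 0 n34533 = n75464 := rfl
def n75465 : Q := act 1 n34533
theorem D75465 : act 1 n34533 = n75465 := rfl
def n75466 : Q := act 5 n34533
theorem D75466 : act 5 n34533 = n75466 := rfl
def n75467 : Q := act 7 n34533
theorem D75467 : act 7 n34533 = n75467 := rfl
theorem F113282 : act 4 n75467 = n34536 := d11_1 D75467 (iv7 D34536) (iv4 F54778)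
theorem F113283 : act 6 n75467 = n37979 := d14_1 D75467 (iv7 D37979) (iv6 D18186) (iv7 F27498) D34533
def n75468 : Q := act 2 n34534
theorem D75468 : act 2 n34534 = n75468 := rfl
theorem F113284 : act 7 n34535 = n75468 := d15_2 (iv0 D34534) D34535 (iv2 D75468)
def n75469 : Q := act 3 n34534
theorem D75469 : act 3 n34534 = n75469 := rfl
def n75470 : Q := act 4 n34534
theorem D75470 : act 4 n34534 = n75470 := rfl
def n75471 : Q := act 5 n34534
theorem D75471 : act 5 n34534 = n75471 := rfl
def n75472 : Q := act 6 n34534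
theorem D75472 : act 6 n34534 = n75472 := rfl
def n75473 : Q := act 7 n34534
theorem D75473 : act 7 n34534 = n75473 := rfl
theorem F113285 : act 2 n75473 = n34535 := d4_1 D75473 F113284 (iv2 D75468)
def n75474 : Q := act 3 n34535
theorem D75474 : act 3 n34535 = n75474 := rfl
def n75475 : Q := act 4 n34535
theorem D75475 : act 4 n34535 = n75475 := rfl
def n75476 : Q := act 5 n34535
theorem D75476 : act 5 n34535 = n75476 := rfl
def n75477 : Q := act 6 n34535
theorem D75477 : act 6 n34535 = n75477 := rfl
def n75478 : Q := act 6 n34537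
theorem D75478 : act 6 n34537 = n75478 := rfl
theorem F113286 : act 2 n75478 = n38023 := d3_1 D75478 (iv6 D38023) (iv2 F58965)
def n75479 : Q := act 6 n34538
theorem D75479 : act 6 n34538 = n75479 := rfl
theorem F113287 : act 2 n75479 = n38020 := d3_1 D75479 (iv6 D38020) (iv2 F58968)
def n75480 : Q := act 6 n34539
theorem D75480 : act 6 n34539 = n75480 := rfl
theorem F113288 : act 2 n75480 = n34541 := d3_1 D75480 (iv6 D34541) D34539
theorem F113289 : act 3 n75480 = n37891 := d7_1 D75480 (iv6 D37891) (iv3 F54783)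
def n75481 : Q := act 6 n34540
theorem D75481 : act 6 n34540 = n75481 := rfl
theorem F113290 : act 3 n75481 = n34542 := d7_1 D75481 (iv6 D34542) (iv3 F54788)
theorem F113291 : act 4 n75481 = n38402 := d10_1 D75481 (iv6 D38402) F54790
def n75482 : Q := act 0 n34541
theorem D75482 : act 0 n34541 = n75482 := rfl
def n75483 : Q := act 1 n34541
theorem D75483 : act 1 n34541 = n75483 := rfl
def n75484 : Q := act 5 n34541
theorem D75484 : act 5 n34541 = n75484 := rfl
theorem F113292 : act 3 n75484 = n34545 := d6_1 D75484 (iv5 D34545) (iv3 F54791)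
def n75485 : Q := act 7 n34541
theorem D75485 : act 7 n34541 = n75485 := rfl
theorem F113293 : act 3 n75485 = n34546 := d8_1 D75485 (iv7 D34546) (iv3 F54791)
theorem F113294 : act 6 n75485 = n38032 := d14_1 D75485 (iv7 D38032) (iv6 D18204) (iv7 F27503) D34541
def n75486 : Q := act 0 n34542
theorem D75486 : act 0 n34542 = n75486 := rfl
def n75487 : Q := act 1 n34542
theorem D75487 : act 1 n34542 = n75487 := rfl
def n75488 : Q := act 5 n34542
theorem D75488 : act 5 n34542 = n75488 := rfl
theorem F113296 : act 2 n75488 = n37901 := d2_1 D75488 (iv5 D37901) (iv2 F54792)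
theorem F113297 : act 6 n75488 = n34545 := d12_2 D34542 D75488 (iv5 D34545) (iv6 D16752) D16751
def n75489 : Q := act 7 n34542
theorem D75489 : act 7 n34542 = n75489 := rfl
theorem F113298 : act 2 n75489 = n37902 := d4_1 D75489 (iv7 D37902) (iv2 F54792)
theorem F113299 : act 4 n75489 = n41642 := d11_1 D75489 (iv7 D41642) (iv4 F54793)
theorem F113300 : act 6 n75489 = n38036 := d14_1 D75489 (iv7 D38036) (iv6 D18205) (iv7 F27506) D34542
theorem F113301 : act 1 n37902 = n75486 := d15_0 (iv0 D75486) D75489 F113298
theorem F113302 : act 1 n37900 = n75489 := d15_1 D37900 (iv7 D75489) F54792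
theorem F113303 : act 1 n75489 = n37899 := d15_0 (iv0 D37899) D37902 (iv2 F113298)
def n75490 : Q := act 2 n34543
theorem D75490 : act 2 n34543 = n75490 := rfl
theorem F113304 : act 7 n34544 = n75490 := d15_2 (iv0 D34543) D34544 (iv2 D75490)
def n75491 : Q := act 3 n34543
theorem D75491 : act 3 n34543 = n75491 := rfl
def n75492 : Q := act 4 n34543
theorem D75492 : act 4 n34543 = n75492 := rfl
def n75493 : Q := act 5 n34543
theorem D75493 : act 5 n34543 = n75493 := rfl
def n75494 : Q := act 6 n34543
theorem D75494 : act 6 n34543 = n75494 := rfl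
def n75495 : Q := act 7 n34543
theorem D75495 : act 7 n34543 = n75495 := rfl
theorem F113305 : act 2 n75495 = n34544 := d4_1 D75495 F113304 (iv2 D75490)
def n75496 : Q := act 3 n34544
theorem D75496 : act 3 n34544 = n75496 := rfl
def n75497 : Q := act 4 n34544
theorem D75497 : act 4 n34544 = n75497 := rfl
def n75498 : Q := act 5 n34544
theorem D75498 : act 5 n34544 = n75498 := rfl
def n75499 : Q := act 6 n34544
theorem D75499 : act 6 n34544 = n75499 := rfl
def n75500 : Q := act 0 n34545
theorem D75500 : act 0 n34545 = n75500 := rfl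
def n75501 : Q := act 1 n34545
theorem D75501 : act 1 n34545 = n75501 := rfl
theorem F113306 : act 1 n75501 = n37916 := d15_1 D75501 (iv7 D37916) (iv2 F54795)
theorem F113307 : act 5 n75501 = n38794 := d17_7 F29592 F29501 (iv1 D16754) F12374 (iv4 F27508) D34545 D75501 F59684 F59665
theorem E10221 : n38794 = n38307 := ((c21_6 (iv5 F29495) (iv1 D18289) (iv5 D8625) D8626 D18291 D38307 (iv5 F113307) (iv1 D75501) (iv5 D34545) (iv6 D16752) (iv1 F16681))).symm
theorem F113308 : act 0 n38307 = n18443 := (sb E10221 (iv1 D38794))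
theorem F113309 : act 1 n38307 = n38760 := (sb E10221 F59684)
theorem F113310 : act 5 n38307 = n75501 := (sb E10221 (iv5 F113307))
def n75502 : Q := act 4 n34545
theorem D75502 : act 4 n34545 = n75502 := rfl
theorem F113311 : act 2 n75502 = n37915 := d1_1 D75502 (iv4 D37915) (iv2 F54795)
def n75503 : Q := act 7 n34545
theorem D75503 : act 7 n34545 = n75503 := rfl
theorem F113312 : act 2 n75503 = n37916 := d4_1 D75503 (iv7 D37916) (iv2 F54795)
theorem F113313 : act 5 n75503 = n34546 := d13_1 D75503 (iv7 D34546) D34545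
theorem F113314 : act 1 n37916 = n75500 := d15_0 (iv0 D75500) D75503 F113312
theorem F113315 : act 1 n37914 = n75503 := d15_1 D37914 (iv7 D75503) F54795
theorem F113316 : act 5 n75500 = n38793 := d17_7 D18445 F29608 (iv1 F27513) F13408 (iv4 F29337) (iv5 F58756) F113314 (iv0 D38793) F29606
theorem F113317 : act 1 n75503 = n37913 := d15_0 (iv0 D37913) D37916 (iv2 F113312)
def n75509 : Q := act 0 n34549
theorem D75509 : act 0 n34549 = n75509 := rfl
theorem F113326 : act 1 n34553 = n75509 := d15_0 (iv0 D75509) F59642 (iv2 F59618)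
def n75510 : Q := act 1 n34549
theorem D75510 : act 1 n34549 = n75510 := rfl
theorem F113327 : act 1 n75510 = n34553 := d15_1 D75510 F59619 (iv2 F59641)
def n75512 : Q := act 5 n34549
theorem D75512 : act 5 n34549 = n75512 := rfl
theorem F113329 : act 2 n75512 = n37933 := d2_1 D75512 (iv5 D37933) (iv2 F59641)
def n75513 : Q := act 6 n34549
theorem D75513 : act 6 n34549 = n75513 := rfl
theorem F113331 : act 2 n75513 = n37934 := d3_1 D75513 (iv6 D37934) (iv2 F59641)
theorem F113332 : act 4 n75513 = n34550 := d10_1 D75513 (iv6 D34550) D34549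
def n75518 : Q := act 6 n34552
theorem D75518 : act 6 n34552 = n75518 := rfl
theorem F113340 : act 3 n75518 = n34554 := d7_1 D75518 (iv6 D34554) D34552
def n75519 : Q := act 3 n34553
theorem D75519 : act 3 n34553 = n75519 := rfl
theorem F113341 : act 7 n75519 = n37932 := d8_2 (iv7 F59619) D75519 (iv3 D37932)
def n75520 : Q := act 5 n34553
theorem D75520 : act 5 n34553 = n75520 := rfl
theorem F113342 : act 2 n75520 = n37949 := d2_1 D75520 (iv5 D37949) (iv2 F59618)
theorem F113343 : act 7 n75520 = n37933 := d13_2 (iv7 F59619) D75520 (iv5 D37933)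
def n75521 : Q := act 6 n34553
theorem D75521 : act 6 n34553 = n75521 := rfl
theorem F113344 : act 2 n75521 = n37950 := d3_1 D75521 (iv6 D37950) (iv2 F59618)
theorem F113345 : act 4 n75521 = n34554 := d10_1 D75521 (iv6 D34554) D34553
def n75522 : Q := act 3 n34555
theorem D75522 : act 3 n34555 = n75522 := rfl
theorem F113346 : act 5 n75522 = n35961 := d6_2 (iv5 F64251) D75522 F57388
theorem F113347 : act 7 n75522 = n45906 := d8_2 F64253 D75522 (iv3 D45906)
theorem F113348 : act 4 n75522 = n37823 := d20_6 F13404 F13371 (iv4 F12375) D16756 D34555 D75522 (iv1 D37823) F29303 (iv3 D8564) D8562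
theorem F113349 : act 2 n71788 = n75522 := d1_3 F113348 F113133 F113130
theorem F113350 : act 1 n34575 = n75522 := d17_8 (iv1 D37823) (iv5 F52455) D71879 (iv5 F108368) F86958 F86954 F77327 (iv5 F54847) F113348
theorem F113351 : act 0 n54552 = n75522 := d18_0 F113348 (iv1 D37823) F29303 (iv5 F25861) (iv4 F25860) (iv0 F51491) (iv4 F86195) F86193 D54552
def n75523 : Q := act 4 n34555
theorem D75523 : act 4 n34555 = n75523 := rfl
theorem F113352 : act 2 n75523 = n45910 := d1_1 D75523 (iv4 D45910) F64252
theorem F113353 : act 3 n75523 = n46669 := d5_1 D75523 (iv4 F108876) F108877 (iv4 F113348) (iv3 D75522)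
theorem F113354 : act 7 n75523 = n45907 := d11_2 F64253 D75523 (iv4 D45907)
theorem F113355 : act 5 n75523 = n44574 := d16_7 (iv4 F75414) (iv5 F109608) (iv4 D73106) (iv5 F87727) F87726 (iv5 F64251) D75523 (iv7 F72110) (iv2 F72108)
theorem F113356 : act 0 n75523 = n40592 := d18_2 D34555 D75523 (iv4 F74247) (iv5 F109560) (iv4 D73039) (iv0 D33652) D33655 F56136 (iv5 D34559)
theorem F113357 : act 1 n75523 = n46859 := d18_8 (iv1 F64172) (iv4 F70306) F70954 F70951 (iv5 F72415) F72414 F54804 D75523 F74064
theorem F113358 : act 3 n47003 = n37873 := d20_3 D75523 F113356 (iv4 F74247) (iv1 D37873) (iv3 D18152) F13404 F13371 (iv4 F12375) D16756 D34555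
def n75524 : Q := act 6 n34555
theorem D75524 : act 6 n34555 = n75524 := rfl
def n75525 : Q := act 3 n34556
theorem D75525 : act 3 n34556 = n75525 := rfl
theorem F113360 : act 7 n75525 = n45909 := d8_2 (iv7 F64256) D75525 (iv3 D45909)
def n75526 : Q := act 4 n34556
theorem D75526 : act 4 n34556 = n75526 := rfl
theorem F113361 : act 2 n75526 = n45907 := d1_1 D75526 (iv4 D45907) F64254
theorem F113362 : act 7 n75526 = n45910 := d11_2 (iv7 F64256) D75526 (iv4 D45910)
theorem F113363 : act 5 n75526 = n44573 := d16_1 D75526 (iv4 F75414) (iv5 F109608) (iv4 D73106) (iv5 F87727) F87726 (iv5 F64251) (iv7 F64253) F64254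
theorem F113364 : act 0 n75526 = n46859 := d18_2 (iv1 F54808) D75526 F74248 (iv5 F109565) (iv4 D73043) F90780 F90776 (iv0 D35429) (iv5 F34459)
theorem F113365 : act 3 n75526 = n56665 := d19_3 D36539 (iv5 F64255) D75526 (iv1 F89618) (iv5 F61721) F61720 F58392 F29169 F22003 (iv4 F22000) (iv3 D12951) (iv1 F9573) (iv5 D3638) (iv4 F4094) F4093 (iv1 F4153) F13426 D8308 D17633
theorem F113366 : act 0 n40592 = n75526 := d20_10 (iv4 D75526) (iv1 D34556) D34558 F54811 (iv1 D18015) F14158 (iv4 F30246) (iv1 F58250) F58248 (iv3 F61713)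
def n75527 : Q := act 6 n34556
theorem D75527 : act 6 n34556 = n75527 := rfl
theorem F113367 : act 2 n75527 = n45908 := d3_1 D75527 (iv6 D45908) F64254
def n75528 : Q := act 6 n34557
theorem D75528 : act 6 n34557 = n75528 := rfl
theorem F113368 : act 2 n75528 = n34560 := d3_1 D75528 (iv6 D34560) D34557
theorem F113369 : act 3 n75528 = n46185 := d7_1 D75528 (iv6 D46185) (iv3 F54805)
theorem F113370 : act 4 n75528 = n47002 := d10_1 D75528 (iv6 D47002) F54814
def n75529 : Q := act 6 n34558
theorem D75529 : act 6 n34558 = n75529 := rfl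
theorem F113371 : act 2 n75529 = n47002 := d3_1 D75529 (iv6 D47002) (iv2 F54813)
theorem F113372 : act 3 n75529 = n37541 := d7_1 D75529 (iv6 D37541) (iv3 F54811)
theorem F113373 : act 4 n75529 = n34560 := d10_1 D75529 (iv6 D34560) D34558
def n75530 : Q := act 6 n34559
theorem D75530 : act 6 n34559 = n75530 := rfl
theorem F113374 : act 2 n75530 = n56048 := d3_1 D75530 (iv6 D56048) (iv2 F54817)
theorem F113375 : act 3 n75530 = n34561 := d7_1 D75530 (iv6 D34561) (iv3 F54818)
def n75531 : Q := act 0 n34560
theorem D75531 : act 0 n34560 = n75531 := rfl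
def n75532 : Q := act 1 n34560
theorem D75532 : act 1 n34560 = n75532 := rfl
def n75533 : Q := act 5 n34560
theorem D75533 : act 5 n34560 = n75533 := rfl
theorem F113376 : act 3 n75533 = n34564 := d6_1 D75533 (iv5 D34564) (iv3 F54820)
def n75534 : Q := act 7 n34560
theorem D75534 : act 7 n34560 = n75534 := rfl
theorem F113377 : act 3 n75534 = n34565 := d8_1 D75534 (iv7 D34565) (iv3 F54820)
theorem F113378 : act 6 n75534 = n45916 := d14_1 D75534 (iv7 D45916) (iv6 D21954) (iv7 F27516) D34560
def n75535 : Q := act 0 n34561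
theorem D75535 : act 0 n34561 = n75535 := rfl
def n75536 : Q := act 1 n34561
theorem D75536 : act 1 n34561 = n75536 := rfl
theorem F113379 : act 1 n75536 = n38605 := d15_1 D75536 (iv7 D38605) (iv2 F54821)
def n75537 : Q := act 5 n34561
theorem D75537 : act 5 n34561 = n75537 := rfl
theorem F113380 : act 2 n75537 = n38604 := d2_1 D75537 (iv5 D38604) (iv2 F54821)
theorem F113381 : act 6 n75537 = n34564 := d12_2 D34561 D75537 (iv5 D34564) (iv6 D16758) D16757
def n75538 : Q := act 7 n34561
theorem D75538 : act 7 n34561 = n75538 := rfl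
theorem F113382 : act 2 n75538 = n38605 := d4_1 D75538 (iv7 D38605) (iv2 F54821)
theorem F113383 : act 4 n75538 = n41591 := d11_1 D75538 (iv7 D41591) (iv4 F54822)
theorem F113384 : act 6 n75538 = n38601 := d14_1 D75538 (iv7 D38601) (iv6 D18380) (iv7 F27518) D34561
theorem F113385 : act 1 n38605 = n75535 := d15_0 (iv0 D75535) D75538 F113382
theorem F113386 : act 1 n38603 = n75538 := d15_1 D38603 (iv7 D75538) F54821
theorem F113387 : act 1 n75538 = n38602 := d15_0 (iv0 D38602) D38605 (iv2 F113382)
def n75541 : Q := act 4 n34562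
theorem D75541 : act 4 n34562 = n75541 := rfl
def n75549 : Q := act 0 n34564
theorem D75549 : act 0 n34564 = n75549 := rfl
def n75550 : Q := act 1 n34564
theorem D75550 : act 1 n34564 = n75550 := rfl
theorem F113390 : act 1 n75550 = n46193 := d15_1 D75550 (iv7 D46193) (iv2 F54824)
theorem F113391 : act 5 n38535 = n75550 := d21_6 F27394 F14426 (iv5 D8648) D8649 D18356 D38535 (iv1 D75550) (iv5 D34564) (iv6 D16758) (iv1 F27397)
def n75551 : Q := act 4 n34564
theorem D75551 : act 4 n34564 = n75551 := rfl
theorem F113392 : act 2 n75551 = n46192 := d1_1 D75551 (iv4 D46192) (iv2 F54824)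
def n75552 : Q := act 7 n34564
theorem D75552 : act 7 n34564 = n75552 := rfl
theorem F113393 : act 2 n75552 = n46193 := d4_1 D75552 (iv7 D46193) (iv2 F54824)
theorem F113394 : act 5 n75552 = n34565 := d13_1 D75552 (iv7 D34565) D34564
theorem F113395 : act 1 n46193 = n75549 := d15_0 (iv0 D75549) D75552 F113393
theorem F113396 : act 1 n46191 = n75552 := d15_1 D46191 (iv7 D75552) F54824
theorem F113397 : act 1 n75552 = n46190 := d15_0 (iv0 D46190) D46193 (iv2 F113393)
def n75553 : Q := act 3 n34566
theorem D75553 : act 3 n34566 = n75553 := rfl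
theorem F113398 : act 5 n75553 = n35319 := d6_2 (iv5 F54833) D75553 (iv3 D35319)
theorem F113399 : act 7 n75553 = n46183 := d8_2 (iv7 F54832) D75553 (iv3 D46183)
theorem F113400 : act 0 n75553 = n71814 := d20_4 (iv4 F43371) (iv1 F56765) F56763 D75553 F108270 (iv4 F108246) F108248 (iv4 D33264) F25587 (iv1 F28153)
theorem F113401 : act 0 n34573 = n75553 := d20_4 (iv4 D32761) (iv1 F40585) F40586 D34573 (iv3 D75553) (iv4 F56763) F56764 F43355 (iv3 F42464) (iv1 F51869)
def n75554 : Q := act 6 n34566
theorem D75554 : act 6 n34566 = n75554 := rfl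
def n75555 : Q := act 0 n34567
theorem D75555 : act 0 n34567 = n75555 := rfl
def n75556 : Q := act 1 n34567
theorem D75556 : act 1 n34567 = n75556 := rfl
def n75557 : Q := act 5 n34567
theorem D75557 : act 5 n34567 = n75557 := rfl
theorem F113403 : act 3 n75557 = n34571 := d6_1 D75557 (iv5 D34571) (iv3 F54835)
def n75558 : Q := act 7 n34567
theorem D75558 : act 7 n34567 = n75558 := rfl
theorem F113405 : act 3 n75558 = n34572 := d8_1 D75558 (iv7 D34572) (iv3 F54835)
theorem F113406 : act 6 n75558 = n46189 := d14_1 D75558 (iv7 D46189) (iv6 D22102) (iv7 F27524) D34567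
def n75559 : Q := act 0 n34568
theorem D75559 : act 0 n34568 = n75559 := rfl
def n75560 : Q := act 1 n34568
theorem D75560 : act 1 n34568 = n75560 := rfl
theorem F113407 : act 1 n75560 = n38601 := d15_1 D75560 (iv7 D38601) (iv2 F54836)
def n75561 : Q := act 5 n34568
theorem D75561 : act 5 n34568 = n75561 := rfl
theorem F113408 : act 2 n75561 = n38600 := d2_1 D75561 (iv5 D38600) (iv2 F54836)
theorem F113409 : act 3 n75561 = n56035 := d6_1 D75561 (iv5 D56035) (iv3 F54837)
theorem F113410 : act 6 n75561 = n34571 := d12_2 D34568 D75561 (iv5 D34571) (iv6 D16761) D16760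
def n75562 : Q := act 7 n34568
theorem D75562 : act 7 n34568 = n75562 := rfl
theorem F113411 : act 2 n75562 = n38601 := d4_1 D75562 (iv7 D38601) (iv2 F54836)
theorem F113412 : act 3 n75562 = n38776 := d8_1 D75562 F91170 (iv3 F54837)
theorem F113413 : act 4 n75562 = n39706 := d11_1 D75562 F91588 (iv4 F54838)
theorem F113414 : act 6 n75562 = n38605 := d14_1 D75562 (iv7 D38605) (iv6 D18381) (iv7 F27529) D34568
theorem F113415 : act 1 n38601 = n75559 := d15_0 (iv0 D75559) D75562 F113411
theorem F113416 : act 1 n38599 = n75562 := d15_1 D38599 (iv7 D75562) F54836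
theorem F113417 : act 1 n75562 = n38598 := d15_0 (iv0 D38598) D38601 (iv2 F113411)
def n75573 : Q := act 0 n34571
theorem D75573 : act 0 n34571 = n75573 := rfl
def n75574 : Q := act 1 n34571
theorem D75574 : act 1 n34571 = n75574 := rfl
theorem F113420 : act 1 n75574 = n45930 := d15_1 D75574 (iv7 D45930) (iv2 F54840)
theorem F113421 : act 5 n38511 = n75574 := d21_6 D7829 (iv1 F13550) (iv5 D8644) D8645 D18349 D38511 (iv1 D75574) (iv5 D34571) (iv6 D16761) (iv1 D7827)
def n75575 : Q := act 4 n34571
theorem D75575 : act 4 n34571 = n75575 := rfl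
theorem F113422 : act 2 n75575 = n45929 := d1_1 D75575 (iv4 D45929) (iv2 F54840)
def n75576 : Q := act 7 n34571
theorem D75576 : act 7 n34571 = n75576 := rfl
theorem F113423 : act 2 n75576 = n45930 := d4_1 D75576 (iv7 D45930) (iv2 F54840)
theorem F113424 : act 5 n75576 = n34572 := d13_1 D75576 (iv7 D34572) D34571
theorem F113425 : act 1 n45930 = n75573 := d15_0 (iv0 D75573) D75576 F113423
theorem F113426 : act 1 n45928 = n75576 := d15_1 D45928 (iv7 D75576) F54840
theorem F113427 : act 5 n75573 = n38670 := d17_7 F72888 (iv5 D45762) (iv1 F34344) F16688 (iv4 F34461) (iv5 F72511) F113425 (iv0 D38670) (iv4 F59485)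
theorem F113428 : act 1 n75576 = n45927 := d15_0 (iv0 D45927) D45930 (iv2 F113423)
def n75577 : Q := act 1 n34573
theorem D75577 : act 1 n34573 = n75577 := rfl
def n75578 : Q := act 2 n34573
theorem D75578 : act 2 n34573 = n75578 := rfl
theorem F113430 : act 4 n75578 = n36845 := d1_2 (iv4 F56788) D75578 (iv2 F57784)
theorem F113431 : act 5 n75578 = n54551 := d2_2 F86983 D75578 (iv2 F86982)
theorem F113432 : act 7 n75578 = n71814 := d4_2 F87535 D75578 F108269
theorem F113433 : act 1 n75578 = n46183 := d15_0 (iv0 F87536) F87535 D75578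
theorem F113434 : act 1 n75577 = n71814 := d15_1 D75577 (iv7 F113432) (iv2 D75578)
theorem F113435 : act 2 n46183 = n75577 := d15_3 F113434 (iv0 F113400) F113399
theorem F113436 : act 5 n75577 = n71979 := d2_2 (iv5 F72852) F113435 (iv2 F108470)
def n75579 : Q := act 6 n34573
theorem D75579 : act 6 n34573 = n75579 := rfl
theorem F113437 : act 3 n75579 = n34574 := d7_1 D75579 (iv6 D34574) D34573
def n75580 : Q := act 0 n34574
theorem D75580 : act 0 n34574 = n75580 := rfl
def n75581 : Q := act 1 n34574
theorem D75581 : act 1 n34574 = n75581 := rfl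
def n75582 : Q := act 5 n34574
theorem D75582 : act 5 n34574 = n75582 := rfl
def n75583 : Q := act 7 n34574
theorem D75583 : act 7 n34574 = n75583 := rfl
def n75584 : Q := act 0 n34575
theorem D75584 : act 0 n34575 = n75584 := rfl
theorem F113438 : act 5 n75584 = n35960 := d17_1 D75584 (iv1 F56655) D35970 (iv4 F110319) F110318 F56653 D52713 F94632 F94630
theorem F113439 : act 4 n75584 = n37822 := d18_1 D75584 (iv1 F108384) F108381 F52496 (iv4 F52451) F52450 D48994 F77327 (iv5 F54847)
theorem F113440 : act 2 n45906 = n75584 := d15_3 (iv0 D75584) F113350 F113347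
theorem F113441 : act 1 n54552 = n75584 := d15_0 (iv0 D75584) F54848 (iv2 F86210)
theorem F113442 : act 7 n75584 = n71788 := d15_2 (iv0 F113351) F113441 F113349
def n75585 : Q := act 6 n34575
theorem D75585 : act 6 n34575 = n75585 := rfl
theorem F113443 : act 2 n75585 = n71816 := d3_1 D75585 (iv6 D71816) F54849
theorem F113444 : act 3 n75585 = n34576 := d7_1 D75585 (iv6 D34576) D34575
def n75586 : Q := act 0 n34576
theorem D75586 : act 0 n34576 = n75586 := rfl
def n75587 : Q := act 1 n34576
theorem D75587 : act 1 n34576 = n75587 := rfl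
def n75588 : Q := act 5 n34576
theorem D75588 : act 5 n34576 = n75588 := rfl
def n75589 : Q := act 7 n34576
theorem D75589 : act 7 n34576 = n75589 := rfl
def n75590 : Q := act 6 n34577
theorem D75590 : act 6 n34577 = n75590 := rfl
theorem F113445 : act 2 n75590 = n34580 := d3_1 D75590 (iv6 D34580) (iv2 F54850)
def n75591 : Q := act 0 n34578
theorem D75591 : act 0 n34578 = n75591 := rfl
def n75592 : Q := act 1 n34578
theorem D75592 : act 1 n34578 = n75592 := rfl
theorem F113446 : act 1 n75592 = n34584 := d15_1 D75592 (iv7 D34584) (iv2 F54853)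
def n75593 : Q := act 5 n34578
theorem D75593 : act 5 n34578 = n75593 := rfl
theorem F113447 : act 2 n75593 = n34583 := d2_1 D75593 (iv5 D34583) (iv2 F54853)
def n75594 : Q := act 7 n34578
theorem D75594 : act 7 n34578 = n75594 := rfl
theorem F113448 : act 2 n75594 = n34584 := d4_1 D75594 (iv7 D34584) (iv2 F54853)
theorem F113449 : act 4 n75594 = n34673 := d11_1 D75594 (iv7 D34673) (iv4 F54854)
theorem F113450 : act 1 n34584 = n75591 := d15_0 (iv0 D75591) D75594 F113448
theorem F113451 : act 1 n34582 = n75594 := d15_1 D34582 (iv7 D75594) F54853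
theorem F113452 : act 4 n69770 = n75591 := d20_6 F29959 (iv1 D8324) (iv4 F11560) (iv3 F24877) D32389 D69770 (iv1 F113450) F54859 F27560 (iv1 F21280)
theorem F113453 : act 1 n75594 = n34581 := d15_0 (iv0 D34581) D34584 (iv2 F113448)
def n75595 : Q := act 6 n34579
theorem D75595 : act 6 n34579 = n75595 := rfl
theorem F113454 : act 4 n75595 = n34580 := d10_1 D75595 (iv6 D34580) D34579
def n75596 : Q := act 0 n34580
theorem D75596 : act 0 n34580 = n75596 := rfl
def n75597 : Q := act 1 n34580
theorem D75597 : act 1 n34580 = n75597 := rfl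
def n75598 : Q := act 5 n34580
theorem D75598 : act 5 n34580 = n75598 := rfl
theorem F113455 : act 3 n75598 = n34587 := d6_1 D75598 (iv5 D34587) (iv3 F54856)
theorem F113456 : act 6 n75598 = n34583 := d12_2 D34580 D75598 (iv5 D34583) (iv6 D16766) D16765
def n75599 : Q := act 7 n34580
theorem D75599 : act 7 n34580 = n75599 := rfl
theorem F113457 : act 3 n75599 = n34588 := d8_1 D75599 (iv7 D34588) (iv3 F54856)
def n75600 : Q := act 2 n34581
theorem D75600 : act 2 n34581 = n75600 := rfl
theorem F113458 : act 7 n34582 = n75600 := d15_2 (iv0 D34581) D34582 (iv2 D75600)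
def n75601 : Q := act 3 n34581
theorem D75601 : act 3 n34581 = n75601 := rfl
def n75602 : Q := act 4 n34581
theorem D75602 : act 4 n34581 = n75602 := rfl
def n75603 : Q := act 5 n34581
theorem D75603 : act 5 n34581 = n75603 := rfl
def n75604 : Q := act 6 n34581
theorem D75604 : act 6 n34581 = n75604 := rfl
def n75605 : Q := act 7 n34581
theorem D75605 : act 7 n34581 = n75605 := rfl
theorem F113459 : act 2 n75605 = n34582 := d4_1 D75605 F113458 (iv2 D75600)
def n75606 : Q := act 3 n34582
theorem D75606 : act 3 n34582 = n75606 := rfl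
def n75607 : Q := act 4 n34582
theorem D75607 : act 4 n34582 = n75607 := rfl
theorem F113460 : act 3 n69761 = n75607 := d20_5 (iv4 F28964) (iv1 F13138) (iv4 F24882) (iv3 F51447) (iv1 F106171) (iv4 D75607) (iv1 D34582) F27537 F12396 D7842
def n75608 : Q := act 5 n34582
theorem D75608 : act 5 n34582 = n75608 := rfl
def n75609 : Q := act 6 n34582
theorem D75609 : act 6 n34582 = n75609 := rfl
def n75610 : Q := act 0 n34583
theorem D75610 : act 0 n34583 = n75610 := rfl
def n75611 : Q := act 1 n34583
theorem D75611 : act 1 n34583 = n75611 := rfl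
def n75612 : Q := act 4 n34583
theorem D75612 : act 4 n34583 = n75612 := rfl
def n75613 : Q := act 7 n34583
theorem D75613 : act 7 n34583 = n75613 := rfl
theorem F113462 : act 5 n75613 = n34584 := d13_1 D75613 (iv7 D34584) D34583
def n75614 : Q := act 2 n34585
theorem D75614 : act 2 n34585 = n75614 := rfl
theorem F113463 : act 7 n34586 = n75614 := d15_2 (iv0 D34585) D34586 (iv2 D75614)
def n75615 : Q := act 3 n34585
theorem D75615 : act 3 n34585 = n75615 := rfl
def n75616 : Q := act 4 n34585
theorem D75616 : act 4 n34585 = n75616 := rfl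
def n75617 : Q := act 5 n34585
theorem D75617 : act 5 n34585 = n75617 := rfl
def n75618 : Q := act 6 n34585
theorem D75618 : act 6 n34585 = n75618 := rfl
def n75619 : Q := act 7 n34585
theorem D75619 : act 7 n34585 = n75619 := rfl
theorem F113464 : act 2 n75619 = n34586 := d4_1 D75619 F113463 (iv2 D75614)
def n75620 : Q := act 3 n34586
theorem D75620 : act 3 n34586 = n75620 := rfl
def n75621 : Q := act 4 n34586
theorem D75621 : act 4 n34586 = n75621 := rfl
def n75622 : Q := act 5 n34586
theorem D75622 : act 5 n34586 = n75622 := rfl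
def n75623 : Q := act 6 n34586
theorem D75623 : act 6 n34586 = n75623 := rfl
def n75624 : Q := act 0 n34587
theorem D75624 : act 0 n34587 = n75624 := rfl
def n75625 : Q := act 1 n34587
theorem D75625 : act 1 n34587 = n75625 := rfl
theorem F113465 : act 5 n47274 = n75625 := d21_6 (iv5 D8644) (iv1 F13301) F13299 D10752 D22730 D47274 (iv1 D75625) (iv5 D34587) (iv6 D16767) (iv1 F13550)
def n75626 : Q := act 4 n34587
theorem D75626 : act 4 n34587 = n75626 := rfl
theorem F113466 : act 6 n75626 = n34602 := d10_2 (iv6 F54860) D75626 (iv4 D34602)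
def n75627 : Q := act 7 n34587
theorem D75627 : act 7 n34587 = n75627 := rfl
theorem F113467 : act 5 n75627 = n34588 := d13_1 D75627 (iv7 D34588) D34587
def n75628 : Q := act 6 n34588
theorem D75628 : act 6 n34588 = n75628 := rfl
theorem F113468 : act 2 n75628 = n41709 := d3_1 D75628 (iv6 F112948) F112946
theorem F113469 : act 4 n75628 = n41476 := d10_1 D75628 (iv6 F74286) F74285
theorem F113470 : act 7 n75628 = n34589 := d14_2 D34588 D75628 (iv6 D34589) (iv7 D16768) D16767
theorem F113472 : act 1 n75628 = n41706 := d15_0 (iv0 D41706) D41709 (iv2 F113468)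
def n75629 : Q := act 0 n34589
theorem D75629 : act 0 n34589 = n75629 := rfl
theorem F113473 : act 1 n41709 = n75629 := d15_0 (iv0 D75629) (iv7 F113470) F113468
def n75630 : Q := act 1 n34589
theorem D75630 : act 1 n34589 = n75630 := rfl
theorem F113474 : act 1 n75630 = n41709 := d15_1 D75630 (iv7 D41709) (iv2 F54861)
def n75631 : Q := act 5 n34589
theorem D75631 : act 5 n34589 = n75631 := rfl
theorem F113475 : act 2 n75631 = n41708 := d2_1 D75631 (iv5 D41708) (iv2 F54861)
theorem F113476 : act 6 n75631 = n34607 := d12_2 D34589 D75631 (iv5 D34607) (iv6 D16773) (iv5 F27540)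
def n75634 : Q := act 3 n34590
theorem D75634 : act 3 n34590 = n75634 := rfl
theorem F113479 : act 7 n75634 = n34596 := d8_2 F54863 D75634 (iv3 D34596)
def n75635 : Q := act 4 n34590
theorem D75635 : act 4 n34590 = n75635 := rfl
theorem F113480 : act 2 n75635 = n34592 := d1_1 D75635 (iv4 D34592) D34590
theorem F113481 : act 7 n75635 = n34597 := d11_2 F54863 D75635 (iv4 D34597)
def n75636 : Q := act 5 n34590
theorem D75636 : act 5 n34590 = n75636 := rfl
theorem F113482 : act 2 n75636 = n34593 := d2_1 D75636 (iv5 D34593) D34590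
theorem F113483 : act 7 n75636 = n34598 := d13_2 F54863 D75636 (iv5 D34598)
def n75637 : Q := act 6 n34590
theorem D75637 : act 6 n34590 = n75637 := rfl
theorem F113484 : act 2 n75637 = n34594 := d3_1 D75637 (iv6 D34594) D34590
def n75638 : Q := act 0 n34591
theorem D75638 : act 0 n34591 = n75638 := rfl
def n75639 : Q := act 1 n34591
theorem D75639 : act 1 n34591 = n75639 := rfl
def n75640 : Q := act 2 n34591
theorem D75640 : act 2 n34591 = n75640 := rfl
def n75641 : Q := act 4 n34591
theorem D75641 : act 4 n34591 = n75641 := rfl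
def n75642 : Q := act 5 n34591
theorem D75642 : act 5 n34591 = n75642 := rfl
def n75643 : Q := act 6 n34591
theorem D75643 : act 6 n34591 = n75643 := rfl
theorem F113486 : act 3 n75643 = n34594 := d7_1 D75643 (iv6 D34594) D34591
def n75644 : Q := act 7 n34591
theorem D75644 : act 7 n34591 = n75644 := rfl
theorem F113487 : act 3 n75644 = n34595 := d8_1 D75644 (iv7 D34595) D34591
def n75645 : Q := act 5 n34592
theorem D75645 : act 5 n34592 = n75645 := rfl
theorem F113488 : act 4 n75645 = n38677 := d17_4 F59749 (iv5 F28881) (iv1 F59747) D75645 (iv5 D38677) (iv0 D18399) (iv5 D8662) D8661 D18396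
theorem F113489 : act 6 n75645 = n45956 := d21_3 (iv5 F28881) (iv1 F59747) D75645 (iv1 D45956) (iv6 D21963) D21962 D45950 F72528 (iv6 D38667) F59749
def n75646 : Q := act 6 n34592
theorem D75646 : act 6 n34592 = n75646 := rfl
theorem F113490 : act 4 n75646 = n34594 := d10_1 D75646 (iv6 D34594) D34592
theorem F113491 : act 5 n75646 = n45837 := d21_6 (iv5 D4140) (iv1 F6042) F13369 D17754 (iv1 F59747) D75646 (iv1 D45837) (iv5 D21922) (iv6 D10455) F7111
def n75647 : Q := act 7 n34592
theorem D75647 : act 7 n34592 = n75647 := rfl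
theorem F113492 : act 2 n75647 = n34597 := d4_1 D75647 (iv7 F113481) F113480
theorem F113493 : act 4 n75647 = n34595 := d11_1 D75647 (iv7 D34595) D34592
def n75648 : Q := act 0 n34593
theorem D75648 : act 0 n34593 = n75648 := rfl
theorem F113494 : act 5 n75648 = n38467 := d17_3 D16769 D34593 D75648 F59306 (iv5 F54884) (iv0 D34627) (iv5 D16777) (iv0 D7832) (iv4 F12382)
theorem E10222 : n38446 = n8649 := (c21_5 D34593 D75648 F113494 (iv6 D38467) (iv1 F59292) (iv6 D8649) D8648 F13553 (iv5 D7829) D7830 D16769)
theorem E10223 : n18356 = n18330 := ((D18356).symm.trans (sb E10222 (iv1 D38446)))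
theorem E10224 : n18357 = n18335 := ((D18357).symm.trans (sb E10222 F59292))
theorem E10225 : n38445 = n38187 := ((D38445).symm.trans (sb E10223 (iv1 F59052)))
theorem F113495 : act 1 n18330 = n8649 := (sb E10223 (iv0 D18356))
theorem E10230 : n38535 = n38449 := (((D38449).symm.trans (sb E10223 D38535))).symm
theorem F113496 : act 0 n18335 = n8649 := (sb E10224 (iv1 D18357))
theorem F113497 : act 0 n38187 = n18335 := (sb E10225 (iv1 F59296))
theorem F113498 : act 1 n38187 = n18330 := (sb E10225 (iv0 D38445))
theorem F113499 : act 5 n38449 = n75550 := (sb E10230 F113391)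
theorem E10236 : n75541 = n16743 := (c17_10 (iv1 F27490) (iv5 F29380) (iv1 F54758) (iv5 F54759) (iv4 F59293) F113499 F113390 F72858 F54828 D75541)
theorem E10237 : n34562 = n34518 := (((D34518).symm.trans (sb E10236 (iv4 D75541)))).symm
theorem E10238 : n75427 = n22106 := ((D75427).symm.trans (sb E10237 (iv1 F54828)))
theorem E10239 : n75428 = n16758 := ((D75428).symm.trans (sb E10237 (iv0 D34562)))
theorem E10245 : n34563 = n34523 := (((iv1 F54823)).symm.trans (sb E10238 (iv1 F113182)))
theorem F113500 : act 1 n22106 = n34518 := (sb E10238 (iv0 D75427))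
theorem F113501 : act 0 n16758 = n34518 := (sb E10239 (iv1 D75428))
theorem F113502 : act 0 n34523 = n16758 := (sb E10245 (iv1 D34563))
theorem F113504 : act 1 n45986 = n75448 := d18_6 (iv1 F27485) D34523 F113502 F27523 D21972 D45986 (iv4 D75448) F54758 F29380
theorem F113506 : act 1 n75446 = n45986 := d15_0 F113504 F113224 (iv2 F113217)
theorem F113509 : act 1 n41438 = n38478 := d18_6 (iv1 F29438) D18335 F113496 (iv4 F14330) D19514 D41438 (iv4 D38478) F59031 F59029
def n75649 : Q := act 1 n34593
theorem D75649 : act 1 n34593 = n75649 := rfl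
theorem F113510 : act 1 n75649 = n34598 := d15_1 D75649 (iv7 F113483) F113482
theorem F113511 : act 5 n38656 = n75649 := d17_5 (iv1 F27469) D16782 (iv1 F59576) F54756 (iv4 F59476) F113510 (iv5 D34598) F54725 F54723
def n75650 : Q := act 4 n34593
theorem D75650 : act 4 n34593 = n75650 := rfl
theorem F113512 : act 5 n38681 = n75650 := d16_1 D38681 (iv4 D75650) (iv5 D34593) D34592 D75645 F113488 (iv5 D38677) D38679 F59487
def n75651 : Q := act 6 n34593
theorem D75651 : act 6 n34593 = n75651 := rfl
def n75652 : Q := act 7 n34593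
theorem D75652 : act 7 n34593 = n75652 := rfl
theorem F113513 : act 2 n75652 = n34598 := d4_1 D75652 (iv7 F113483) F113482
theorem F113514 : act 5 n75652 = n34595 := d13_1 D75652 (iv7 D34595) D34593
theorem F113515 : act 1 n34598 = n75648 := d15_0 (iv0 D75648) D75652 F113513
def n75653 : Q := act 0 n34594
theorem D75653 : act 0 n34594 = n75653 := rfl
def n75654 : Q := act 1 n34594
theorem D75654 : act 1 n34594 = n75654 := rfl
def n75655 : Q := act 5 n34594
theorem D75655 : act 5 n34594 = n75655 := rfl
theorem F113516 : act 0 n75655 = n37791 := d21_7 D8648 F13553 (iv5 D7829) D7830 D16769 D34594 D75655 (iv5 D37791) (iv6 D18123) F13300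
theorem F113517 : act 4 n75654 = n34633 := d17_9 (iv1 D34633) D34634 F54890 (iv5 D18126) (iv4 F29288) D37791 (iv0 F113516) (iv5 D75655) D75654
theorem F113518 : act 0 n38690 = n75655 := d21_7 (iv5 F112967) (iv1 F112968) (iv5 F59078) (iv6 D38214) (iv1 F29458) D18403 D38690 (iv5 D75655) (iv6 D34594) (iv1 F54726)
theorem F113519 : act 7 n37950 = n75654 := d11_0 F113517 F59314 (iv4 F58779)
theorem E10250 : n75653 = n75521 := ((c15_4 (iv0 D75653) D75654 (iv7 F113519) (iv2 F113344))).symm
theorem F113520 : act 1 n75521 = n34594 := (sb E10250 (iv0 D75653))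
def n75656 : Q := act 7 n34594
theorem D75656 : act 7 n34594 = n75656 := rfl
def n75657 : Q := act 6 n34595
theorem D75657 : act 6 n34595 = n75657 := rfl
theorem F113521 : act 2 n75657 = n34599 := d3_1 D75657 (iv6 D34599) (iv2 F54864)
def n75659 : Q := act 1 n34596
theorem D75659 : act 1 n34596 = n75659 := rfl
def n75660 : Q := act 2 n34596
theorem D75660 : act 2 n34596 = n75660 := rfl
def n75661 : Q := act 4 n34596
theorem D75661 : act 4 n34596 = n75661 := rfl
def n75663 : Q := act 6 n34596
theorem D75663 : act 6 n34596 = n75663 := rfl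
theorem F113523 : act 3 n75663 = n34599 := d7_1 D75663 (iv6 D34599) D34596
def n75664 : Q := act 5 n34597
theorem D75664 : act 5 n34597 = n75664 := rfl
theorem F113524 : act 3 n75664 = n36694 := d6_1 D75664 F57570 F56000
theorem F113525 : act 4 n75664 = n38682 := d16_2 D34597 D75664 (iv5 D38682) D38681 F113512 (iv4 D75650) (iv5 D34593) D34595 F54864
theorem F113526 : act 6 n75664 = n36691 := d21_3 (iv5 F59755) (iv1 F59759) D75664 F112796 (iv6 F57777) F57776 (iv1 F59774) F59477 (iv6 D38648) D38644
def n75665 : Q := act 6 n34597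
theorem D75665 : act 6 n34597 = n75665 := rfl
theorem F113527 : act 4 n75665 = n34599 := d10_1 D75665 (iv6 D34599) D34597
def n75666 : Q := act 4 n34598
theorem D75666 : act 4 n34598 = n75666 := rfl
theorem F113528 : act 5 n75666 = n38676 := d9_2 D34598 D75666 (iv4 D38676) D38677 (iv4 F113488) (iv5 D75645) (iv4 D34592) D34593 D75650 (iv5 F113512) (iv4 D38681) D38682 (iv4 F113525) (iv5 D75664) (iv4 D34597)
def n75667 : Q := act 6 n34598
theorem D75667 : act 6 n34598 = n75667 := rfl
def n75668 : Q := act 0 n34599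
theorem D75668 : act 0 n34599 = n75668 := rfl
def n75669 : Q := act 1 n34599
theorem D75669 : act 1 n34599 = n75669 := rfl
def n75670 : Q := act 5 n34599
theorem D75670 : act 5 n34599 = n75670 := rfl
theorem F113529 : act 0 n38510 = n75670 := d21_1 D38510 (iv5 D75670) (iv6 D34599) (iv1 D16770) (iv6 D7830) D7829 (iv1 F13550) (iv5 D8644) D8645 D18349
def n75671 : Q := act 7 n34599
theorem D75671 : act 7 n34599 = n75671 := rfl
def n75672 : Q := act 3 n34600
theorem D75672 : act 3 n34600 = n75672 := rfl
def n75673 : Q := act 4 n34600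
theorem D75673 : act 4 n34600 = n75673 := rfl
theorem F113530 : act 5 n75673 = n38668 := d16_1 D75673 (iv4 D38668) (iv5 D18397) D18396 D38666 F59484 F59078 (iv7 F112960) (iv2 F112959)
def n75674 : Q := act 6 n34600
theorem D75674 : act 6 n34600 = n75674 := rfl
def n75676 : Q := act 4 n34601
theorem D75676 : act 4 n34601 = n75676 := rfl
theorem F113531 : act 5 n75676 = n38652 := d9_2 F59078 D75676 (iv4 D38652) (iv5 D18392) D18391 D38647 F61166 F61168 D75673 F113530 (iv4 D38668) (iv5 D18397) D18396 D38666 F59484
def n75677 : Q := act 6 n34601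
theorem D75677 : act 6 n34601 = n75677 := rfl
def n75678 : Q := act 0 n34602
theorem D75678 : act 0 n34602 = n75678 := rfl
theorem F113532 : act 4 n75678 = n38759 := d18_3 (iv1 D34601) D34602 D75678 (iv5 D38759) (iv4 D18428) D18427 D38754 F59541 F59078
theorem F113533 : act 5 n38791 = n75678 := d16_1 D38791 F113532 (iv5 D38759) (iv4 D18428) (iv5 D8668) D8667 D18423 (iv7 F59114) F59113
theorem F113534 : act 1 n38687 = n75678 := d18_6 F59786 (iv4 D16776) (iv1 F27470) (iv4 F54723) (iv5 F112967) F112966 F113532 (iv0 F72456) (iv5 D45878)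
def n75679 : Q := act 1 n34602
theorem D75679 : act 1 n34602 = n75679 := rfl
theorem F113535 : act 1 n75679 = n38687 := d15_1 D75679 F112964 F112962
theorem F113536 : act 4 n38798 = n75679 := d18_5 (iv1 F61164) (iv4 D38751) (iv1 F29595) D18444 D38798 F113535 (iv4 F112966) F112969 (iv5 F61168)
theorem F113537 : act 5 n75679 = n38744 := d9_2 D38798 F113536 (iv4 D38744) (iv5 D18423) (iv4 D8667) D8668 D18428 D38759 (iv4 F113532) (iv5 F113533) (iv4 D38791) (iv5 D18442) (iv4 D8672) D8673 D18444
def n75680 : Q := act 3 n34602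
theorem D75680 : act 3 n34602 = n75680 := rfl
def n75681 : Q := act 5 n34602
theorem D75681 : act 5 n34602 = n75681 := rfl
theorem F113538 : act 2 n75681 = n38688 := d2_1 D75681 (iv5 F112963) F112962
theorem F113539 : act 4 n75681 = n38223 := d9_1 D75681 F59083 F29457 (iv5 F27467) (iv4 F54723) (iv5 F112967) F112966 (iv5 D38687) (iv4 D18401) (iv5 D8662) F5847 (iv5 F5575) (iv4 F12382) D16771 D34602
theorem F113540 : act 7 n75681 = n38222 := d16_8 (iv4 D18401) (iv5 D8662) F5847 (iv5 F5575) (iv4 F12382) D16771 D34602 D75681 F59081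
theorem F113541 : act 1 n38685 = n75681 := d15_1 D38685 F113540 F59081
def n75682 : Q := act 7 n34602
theorem D75682 : act 7 n34602 = n75682 := rfl
theorem F113543 : act 2 n75682 = n38687 := d4_1 D75682 F112964 F112962
theorem F113544 : act 4 n75682 = n34603 := d11_1 D75682 (iv7 D34603) D34602
theorem F113545 : act 5 n75682 = n38222 := d13_1 D75682 (iv7 F113540) (iv5 D75681)
def n75683 : Q := act 6 n34603
theorem D75683 : act 6 n34603 = n75683 := rfl
def n75684 : Q := act 5 n34604
theorem D75684 : act 5 n34604 = n75684 := rfl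
theorem F113546 : act 7 n75684 = n34607 := d13_2 (iv7 F54867) D75684 (iv5 D34607)
def n75685 : Q := act 2 n34605
theorem D75685 : act 2 n34605 = n75685 := rfl
theorem F113547 : act 4 n75685 = n45895 := d1_2 (iv4 F112808) D75685 (iv2 D45895)
theorem F113548 : act 7 n34606 = n75685 := d15_2 (iv0 D34605) D34606 (iv2 D75685)
def n75686 : Q := act 3 n34605
theorem D75686 : act 3 n34605 = n75686 := rfl
def n75687 : Q := act 5 n34605
theorem D75687 : act 5 n34605 = n75687 := rfl
def n75688 : Q := act 6 n34605
theorem D75688 : act 6 n34605 = n75688 := rfl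
theorem F113549 : act 4 n75688 = n45885 := d10_1 D75688 F72470 (iv4 F112808)
theorem F113550 : act 5 n75688 = n38221 := d21_6 F28669 F28668 F27540 D16773 D34605 D75688 (iv1 D38221) (iv5 D18260) (iv6 D8613) D8609
theorem F113551 : act 1 n38087 = n75688 := d17_8 F113070 D46233 (iv1 F72887) (iv5 D38666) (iv4 D18396) D18397 F59474 F59464 F113549
def n75689 : Q := act 7 n34605
theorem D75689 : act 7 n34605 = n75689 := rfl
theorem F113552 : act 2 n75689 = n34606 := d4_1 D75689 F113548 (iv2 D75685)
theorem F113553 : act 4 n75689 = n45899 := d11_1 D75689 (iv7 D45899) (iv4 F112808)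
def n75690 : Q := act 3 n34606
theorem D75690 : act 3 n34606 = n75690 := rfl
def n75691 : Q := act 5 n34606
theorem D75691 : act 5 n34606 = n75691 := rfl
def n75692 : Q := act 6 n34606
theorem D75692 : act 6 n34606 = n75692 := rfl
theorem F113554 : act 4 n75692 = n45901 := d10_1 D75692 (iv6 D45901) F71266
def n75693 : Q := act 0 n34607
theorem D75693 : act 0 n34607 = n75693 := rfl
def n75694 : Q := act 1 n34607
theorem D75694 : act 1 n34607 = n75694 := rfl
def n75695 : Q := act 4 n34607
theorem D75695 : act 4 n34607 = n75695 := rfl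
def n75696 : Q := act 4 n34614
theorem D75696 : act 4 n34614 = n75696 := rfl
theorem F113555 : act 1 n75696 = n36660 := d18_6 D18892 D39954 (iv1 F61124) (iv4 D38706) (iv5 F113086) D75696 (iv4 D36660) (iv0 D17667) (iv5 F13775)
def n75697 : Q := act 6 n34614
theorem D75697 : act 6 n34614 = n75697 := rfl
theorem F113556 : act 3 n75697 = n34758 := d7_1 D75697 (iv6 D34758) (iv3 F113085)
theorem F113557 : act 0 n34653 = n75697 := d21_4 (iv5 F113081) (iv1 D75363) D75365 (iv6 F113097) (iv6 D75697) F113086 (iv1 F59106) F59498 (iv6 D38716) (iv1 F59107)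
def n75700 : Q := act 5 n34616
theorem D75700 : act 5 n34616 = n75700 := rfl
theorem F113560 : act 2 n75700 = n34618 := d2_1 D75700 (iv5 D34618) D34616
def n75701 : Q := act 6 n34616
theorem D75701 : act 6 n34616 = n75701 := rfl
theorem F113561 : act 2 n75701 = n34619 := d3_1 D75701 (iv6 D34619) D34616
def n75702 : Q := act 3 n34617
theorem D75702 : act 3 n34617 = n75702 := rfl
theorem F113562 : act 4 n75702 = n34623 := d5_2 D34617 D75702 (iv3 D34623) (iv4 D16776) D16775
def n75703 : Q := act 5 n34617
theorem D75703 : act 5 n34617 = n75703 := rfl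
def n75704 : Q := act 6 n34617
theorem D75704 : act 6 n34617 = n75704 := rfl
theorem F113563 : act 4 n75704 = n34619 := d10_1 D75704 (iv6 D34619) D34617
def n75705 : Q := act 0 n34618
theorem D75705 : act 0 n34618 = n75705 := rfl
def n75706 : Q := act 1 n34618
theorem D75706 : act 1 n34618 = n75706 := rfl
def n75707 : Q := act 4 n34618
theorem D75707 : act 4 n34618 = n75707 := rfl
def n75708 : Q := act 6 n34618
theorem D75708 : act 6 n34618 = n75708 := rfl
theorem F113564 : act 3 n75708 = n34630 := d7_1 D75708 (iv6 D34630) (iv3 F54876)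
def n75709 : Q := act 0 n34619
theorem D75709 : act 0 n34619 = n75709 := rfl
def n75710 : Q := act 1 n34619
theorem D75710 : act 1 n34619 = n75710 := rfl
def n75711 : Q := act 5 n34619
theorem D75711 : act 5 n34619 = n75711 := rfl
theorem F113565 : act 3 n75711 = n34634 := d6_1 D75711 (iv5 D34634) (iv3 F54877)
theorem F113566 : act 7 n38842 = n75711 := d8_0 F113565 F113009 D38842
def n75712 : Q := act 7 n34619
theorem D75712 : act 7 n34619 = n75712 := rfl
theorem F113567 : act 3 n75712 = n34635 := d8_1 D75712 (iv7 D34635) (iv3 F54877)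
theorem F113568 : act 5 n75712 = n38842 := d13_1 D75712 F113566 (iv5 D75711)
def n75713 : Q := act 3 n34621
theorem D75713 : act 3 n34621 = n75713 := rfl
theorem F113569 : act 7 n75713 = n37876 := d8_2 (iv7 F59785) D75713 F58742
def n75714 : Q := act 5 n34621
theorem D75714 : act 5 n34621 = n75714 := rfl
theorem F113570 : act 7 n75714 = n37880 := d13_2 (iv7 F59785) D75714 (iv5 D37880)
def n75717 : Q := act 2 n34623
theorem D75717 : act 2 n34623 = n75717 := rfl
def n75718 : Q := act 5 n34623
theorem D75718 : act 5 n34623 = n75718 := rfl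
theorem F113573 : act 3 n75718 = n34624 := d6_1 D75718 (iv5 D34624) D34623
def n75719 : Q := act 6 n34623
theorem D75719 : act 6 n34623 = n75719 := rfl
theorem F113574 : act 3 n75719 = n34625 := d7_1 D75719 (iv6 D34625) D34623
def n75720 : Q := act 0 n34624
theorem D75720 : act 0 n34624 = n75720 := rfl
theorem F113575 : act 5 n75720 = n38427 := d21_2 D34624 D75720 (iv6 D38427) (iv1 D18325) (iv6 D8637) D8636 (iv1 F29493) F29495 D21941 F59786
theorem F113576 : act 1 n34644 = n75720 := d15_0 (iv0 D75720) (iv7 F113101) F113100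
theorem E10251 : n38746 = n38427 := ((c17_8 F59572 (iv5 F54884) (iv1 F54889) (iv5 D16782) D16781 D34644 F113576 F113575 (iv0 D38746) F29585)).symm
theorem F113577 : act 0 n38427 = n38233 := (sb E10251 (iv1 F59521))
theorem F113578 : act 1 n38427 = n18424 := (sb E10251 (iv0 D38746))
def n75721 : Q := act 1 n34624
theorem D75721 : act 1 n34624 = n75721 := rfl
theorem F113579 : act 1 n75721 = n34644 := d15_1 D75721 (iv7 F113041) (iv2 F113065)
theorem F113580 : act 5 n75721 = n38747 := d17_7 (iv1 F29598) (iv5 F54756) F59575 (iv5 D16777) D16776 D34624 D75721 F59522 (iv4 D38233)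
def n75722 : Q := act 4 n34624
theorem D75722 : act 4 n34624 = n75722 := rfl
theorem F113581 : act 5 n75722 = n38685 := d17_5 F72457 (iv5 D45878) F59786 D34624 D75722 F113541 (iv5 D75681) D75679 (iv4 F113536)
def n75723 : Q := act 6 n34624
theorem D75723 : act 6 n34624 = n75723 := rfl
def n75724 : Q := act 0 n34625
theorem D75724 : act 0 n34625 = n75724 := rfl
def n75725 : Q := act 1 n34625
theorem D75725 : act 1 n34625 = n75725 := rfl
def n75726 : Q := act 5 n34625
theorem D75726 : act 5 n34625 = n75726 := rfl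
theorem F113582 : act 0 n75726 = n38279 := d21_7 D8636 (iv1 F29493) F29495 D21941 F59786 D34625 D75726 (iv5 D38279) (iv6 D18281) (iv1 F13537)
def n75727 : Q := act 7 n34625
theorem D75727 : act 7 n34625 = n75727 := rfl
theorem F113583 : act 4 n75727 = n34635 := d11_1 D75727 (iv7 D34635) (iv4 F54880)
def n75728 : Q := act 3 n34627
theorem D75728 : act 3 n34627 = n75728 := rfl
theorem F113584 : act 5 n75728 = n38464 := d6_2 (iv5 F54884) D75728 F59305
def n75729 : Q := act 4 n34627
theorem D75729 : act 4 n34627 = n75729 := rfl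
theorem F113586 : act 7 n75729 = n38087 := d11_2 (iv7 F59217) D75729 F58897
theorem F113587 : act 0 n75729 = n38682 := d17_0 (iv5 D38682) (iv1 D18400) (iv5 D8662) F5847 (iv5 F5575) D7833 D16782 F54889 D75729
theorem F113588 : act 1 n75443 = n38682 := d15_0 (iv0 F113587) F113586 (iv2 F113209)
def n75730 : Q := act 0 n34629
theorem D75730 : act 0 n34629 = n75730 := rfl
theorem F113589 : act 1 n34646 = n75730 := d15_0 (iv0 D75730) (iv7 F113106) F113104
def n75732 : Q := act 5 n34629
theorem D75732 : act 5 n34629 = n75732 := rfl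
theorem F113590 : act 0 n75732 = n38730 := d17_2 (iv1 F113069) D75732 (iv5 D38730) (iv4 F59690) (iv5 F57776) F57780 D45881 (iv0 F72880) (iv4 F72884)
theorem F113591 : act 1 n75732 = n38285 := d17_6 (iv1 D3887) (iv5 F5575) D7832 D16777 D34629 D75732 (iv5 D38285) (iv0 F59687) (iv4 D8672)
theorem F113592 : act 4 n75732 = n38684 := d18_5 (iv1 F113588) F113210 F59575 D34629 D75732 (iv0 D38684) (iv4 D18401) D18400 D38682
def n75733 : Q := act 6 n34629
theorem D75733 : act 6 n34629 = n75733 := rfl
theorem F113593 : act 4 n75733 = n34630 := d10_1 D75733 (iv6 D34630) D34629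
theorem F113594 : act 0 n75733 = n37907 := d21_4 D38285 (iv1 F113591) (iv5 D75732) D75733 (iv6 D37907) D37906 (iv1 F59685) (iv5 D38795) (iv6 D18443) F59687
def n75734 : Q := act 5 n34630
theorem D75734 : act 5 n34630 = n75734 := rfl
theorem F113595 : act 2 n75734 = n38452 := d2_1 D75734 F112992 (iv2 F112995)
theorem F113596 : act 6 n75734 = n34634 := d12_2 D34630 D75734 (iv5 D34634) (iv6 D16778) D16777
theorem F113597 : act 7 n75734 = n38451 := d13_2 F112823 D75734 (iv5 F112824)
theorem F113599 : act 0 n38170 = n75734 := d21_10 (iv5 D75734) F54886 F29526 D38479 F112818 F112816 (iv5 D34649) D34647 F58998 F59023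
def n75735 : Q := act 3 n34633
theorem D75735 : act 3 n34633 = n75735 := rfl
theorem F113600 : act 7 n75735 = n37947 := d8_2 (iv7 F59314) D75735 F58778
def n75736 : Q := act 4 n34634
theorem D75736 : act 4 n34634 = n75736 := rfl
theorem F113601 : act 2 n75736 = n38847 := d1_1 D75736 (iv4 D38847) (iv2 F113008)
theorem F113602 : act 7 n75736 = n38843 := d11_2 (iv7 F113009) D75736 (iv4 D38843)
def n75737 : Q := act 4 n34637
theorem D75737 : act 4 n34637 = n75737 := rfl
theorem F113603 : act 1 n75737 = n36529 := d18_6 F91191 D39966 (iv1 F61228) (iv4 D38764) (iv5 F91470) D75737 (iv4 D36529) F28678 (iv5 F28152)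
theorem F113604 : act 0 n75737 = n36524 := d20_1 D75737 (iv4 D36524) (iv3 F91230) (iv1 F28893) (iv3 F57775) (iv4 F59784) (iv1 F54883) (iv4 D16781) D16780 D34637
def n75739 : Q := act 4 n34638
theorem D75739 : act 4 n34638 = n75739 := rfl
def n75740 : Q := act 6 n34638
theorem D75740 : act 6 n34638 = n75740 := rfl
theorem F113607 : act 3 n75740 = n34717 := d7_1 D75740 (iv6 D34717) (iv3 F91401)
def n75741 : Q := act 5 n34639
theorem D75741 : act 5 n34639 = n75741 := rfl
theorem F113608 : act 2 n75741 = n34641 := d2_1 D75741 (iv5 D34641) D34639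
def n75742 : Q := act 6 n34639
theorem D75742 : act 6 n34639 = n75742 := rfl
theorem F113609 : act 2 n75742 = n34642 := d3_1 D75742 (iv6 D34642) D34639
def n75743 : Q := act 3 n34640
theorem D75743 : act 3 n34640 = n75743 := rfl
theorem F113610 : act 4 n75743 = n34643 := d5_2 D34640 D75743 (iv3 D34643) (iv4 D16781) D16780
def n75744 : Q := act 5 n34640
theorem D75744 : act 5 n34640 = n75744 := rfl
def n75745 : Q := act 6 n34640
theorem D75745 : act 6 n34640 = n75745 := rfl
theorem F113611 : act 4 n75745 = n34642 := d10_1 D75745 (iv6 D34642) D34640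
def n75746 : Q := act 0 n34641
theorem D75746 : act 0 n34641 = n75746 := rfl
def n75747 : Q := act 1 n34641
theorem D75747 : act 1 n34641 = n75747 := rfl
def n75748 : Q := act 4 n34641
theorem D75748 : act 4 n34641 = n75748 := rfl
theorem F113612 : act 6 n75748 = n35321 := d10_2 F112813 D75748 F112814
def n75749 : Q := act 0 n34642
theorem D75749 : act 0 n34642 = n75749 := rfl
def n75750 : Q := act 1 n34642
theorem D75750 : act 1 n34642 = n75750 := rfl
def n75751 : Q := act 5 n34642
theorem D75751 : act 5 n34642 = n75751 := rfl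
theorem F113613 : act 3 n75751 = n34649 := d6_1 D75751 (iv5 D34649) (iv3 F54894)
def n75752 : Q := act 7 n34642
theorem D75752 : act 7 n34642 = n75752 := rfl
theorem F113614 : act 3 n75752 = n34650 := d8_1 D75752 (iv7 D34650) (iv3 F54894)
def n75753 : Q := act 0 n34643
theorem D75753 : act 0 n34643 = n75753 := rfl
def n75754 : Q := act 1 n34643
theorem D75754 : act 1 n34643 = n75754 := rfl
def n75755 : Q := act 2 n34643
theorem D75755 : act 2 n34643 = n75755 := rfl
def n75756 : Q := act 5 n34643
theorem D75756 : act 5 n34643 = n75756 := rfl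
theorem F113615 : act 3 n75756 = n34644 := d6_1 D75756 (iv5 D34644) D34643
def n75757 : Q := act 6 n34643
theorem D75757 : act 6 n34643 = n75757 := rfl
theorem F113616 : act 3 n75757 = n34645 := d7_1 D75757 (iv6 D34645) D34643
def n75758 : Q := act 4 n34644
theorem D75758 : act 4 n34644 = n75758 := rfl
theorem F113617 : act 5 n75758 = n38684 := d16_1 D75758 (iv4 F113592) (iv5 D75732) (iv4 D34629) (iv5 D16777) D16776 D34624 (iv7 F113101) F113100
def n75759 : Q := act 6 n34644
theorem D75759 : act 6 n34644 = n75759 := rfl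
def n75760 : Q := act 0 n34645
theorem D75760 : act 0 n34645 = n75760 := rfl
def n75761 : Q := act 1 n34645
theorem D75761 : act 1 n34645 = n75761 := rfl
def n75762 : Q := act 5 n34645
theorem D75762 : act 5 n34645 = n75762 := rfl
theorem F113618 : act 1 n75762 = n38306 := d17_6 D8627 D18298 F54896 (iv5 D34649) (iv4 F54895) D75762 (iv5 D38306) (iv0 D18291) F13540
def n75763 : Q := act 7 n34645
theorem D75763 : act 7 n34645 = n75763 := rfl
theorem F113619 : act 4 n75763 = n34650 := d11_1 D75763 (iv7 D34650) (iv4 F54895)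
theorem F113620 : act 1 n38041 = n75763 := d17_8 F113057 F29503 (iv1 D18306) (iv5 D8629) (iv4 F13540) D18293 D38314 (iv5 F59172) F113619
theorem F113621 : act 1 n75369 = n38041 := d15_0 F113620 (iv7 D75763) (iv2 F113102)
def n75764 : Q := act 3 n34646
theorem D75764 : act 3 n34646 = n75764 := rfl
def n75765 : Q := act 5 n34646
theorem D75765 : act 5 n34646 = n75765 := rfl
theorem F113622 : act 4 n75765 = n38685 := d9_1 D75765 (iv5 F113581) (iv4 D75722) (iv5 D34624) (iv4 D16776) D16777 D34629 D75732 F113592 (iv5 F113617) (iv4 D75758) (iv5 D34644) (iv4 D16781) D16782 D34646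
theorem F113623 : act 1 n75765 = n38730 := d17_6 (iv1 F13531) (iv5 F27467) (iv1 F27469) D16782 D34646 D75765 (iv5 D38730) (iv0 D18420) (iv4 D8667)
theorem F113624 : act 0 n38677 = n75729 := d18_0 (iv4 D75729) (iv1 F54889) D34646 D75765 F113622 F113541 F113539 F59086 D38677
theorem F113625 : act 0 n75765 = n38285 := d21_7 D8625 D18288 F29488 D21946 D45891 F113034 D75765 (iv5 D38285) (iv6 D18283) (iv1 D8623)
def n75766 : Q := act 3 n34647
theorem D75766 : act 3 n34647 = n75766 := rfl
def n75767 : Q := act 4 n34647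
theorem D75767 : act 4 n34647 = n75767 := rfl
theorem F113627 : act 7 n75767 = n38068 := d11_2 (iv7 F59570) D75767 F58883
def n75768 : Q := act 4 n34649
theorem D75768 : act 4 n34649 = n75768 := rfl
def n75769 : Q := act 7 n34649
theorem D75769 : act 7 n34649 = n75769 := rfl
theorem F113628 : act 2 n75769 = n38336 := d4_1 D75769 F113113 F113109
theorem F113629 : act 5 n75769 = n34650 := d13_1 D75769 (iv7 D34650) D34649
theorem F113630 : act 1 n38141 = n75769 := d15_1 (iv0 F113111) (iv7 D75769) (iv2 F113109)
theorem F113631 : act 1 n75769 = n38145 := d15_1 F113630 F59637 (iv2 F59629)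
theorem F113632 : act 6 n75769 = n35892 := d21_3 D38360 (iv1 F113058) (iv5 F113629) (iv1 D35892) (iv6 D17377) (iv5 D8140) (iv1 F17500) D7811 (iv6 F13541) D18305
def n75770 : Q := act 4 n34651
theorem D75770 : act 4 n34651 = n75770 := rfl
theorem F113633 : act 6 n75770 = n38801 := d10_2 (iv6 F54898) D75770 (iv4 D38801)
theorem F113634 : act 7 n75770 = n34663 := d11_2 (iv7 F54899) D75770 (iv4 D34663)
def n75771 : Q := act 1 n34653
theorem D75771 : act 1 n34653 = n75771 := rfl
def n75772 : Q := act 2 n34653
theorem D75772 : act 2 n34653 = n75772 := rfl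
def n75773 : Q := act 4 n34653
theorem D75773 : act 4 n34653 = n75773 := rfl
theorem F113635 : act 7 n75773 = n35217 := d11_2 (iv7 F113054) D75773 (iv4 F112820)
theorem F113636 : act 0 n75773 = n35219 := d20_7 (iv4 F42953) (iv1 D12793) F9412 (iv3 F12388) D16785 D34653 D75773 F55962 F28043 (iv1 F13146)
theorem F113637 : act 0 n35191 = n75773 := d20_7 (iv4 F112803) (iv1 F112805) (iv4 F71266) (iv3 F71267) (iv1 D36683) F28752 (iv4 F55935) (iv4 D75773) (iv3 D34653) (iv1 F54661)
theorem F113638 : act 2 n75773 = n35216 := d15_3 (iv0 D35216) D35217 (iv7 F113635)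
theorem F113639 : act 4 n35216 = n75772 := d1_2 D75773 F113638 (iv2 D75772)
def n75774 : Q := act 5 n34653
theorem D75774 : act 5 n34653 = n75774 := rfl
theorem F113640 : act 3 n75774 = n34655 := d6_1 D75774 (iv5 D34655) D34653
def n75775 : Q := act 3 n34654
theorem D75775 : act 3 n34654 = n75775 := rfl
def n75776 : Q := act 5 n34654
theorem D75776 : act 5 n34654 = n75776 := rfl
def n75777 : Q := act 0 n34655
theorem D75777 : act 0 n34655 = n75777 := rfl
theorem F113641 : act 5 n75777 = n38146 := d21_2 D34655 D75777 (iv6 D38146) (iv1 D18236) (iv6 D8605) F12290 (iv1 F12287) (iv5 F5577) D7835 D16785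
theorem F113642 : act 1 n34659 = n75777 := d15_0 (iv0 D75777) F113055 (iv2 F113027)
theorem F113643 : act 2 n38355 = n75777 := d2_3 F113641 F59639 D38355
def n75778 : Q := act 1 n34655
theorem D75778 : act 1 n34655 = n75778 := rfl
theorem F113645 : act 1 n75778 = n34659 := d15_1 D75778 (iv7 F113026) F113056
theorem F113646 : act 7 n75778 = n38355 := d15_2 (iv0 D75777) D75778 F113643
theorem F113648 : act 5 n38356 = n75778 := d21_6 (iv5 F29589) (iv1 F29595) (iv5 D8673) D8674 D18445 (iv6 F59208) (iv1 D75778) (iv5 D34655) (iv6 F54730) F59599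
def n75779 : Q := act 4 n34655
theorem D75779 : act 4 n34655 = n75779 := rfl
def n75780 : Q := act 0 n34657
theorem D75780 : act 0 n34657 = n75780 := rfl
def n75781 : Q := act 1 n34657
theorem D75781 : act 1 n34657 = n75781 := rfl
def n75782 : Q := act 2 n34657
theorem D75782 : act 2 n34657 = n75782 := rfl
theorem F113650 : act 4 n75782 = n35322 := d1_2 F91499 D75782 (iv2 F113030)
def n75783 : Q := act 5 n34657
theorem D75783 : act 5 n34657 = n75783 := rfl
theorem F113651 : act 3 n75783 = n34659 := d6_1 D75783 (iv5 D34659) D34657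
def n75784 : Q := act 6 n34657
theorem D75784 : act 6 n34657 = n75784 := rfl
theorem F113652 : act 3 n75784 = n34660 := d7_1 D75784 (iv6 D34660) D34657
def n75785 : Q := act 3 n34658
theorem D75785 : act 3 n34658 = n75785 := rfl
def n75786 : Q := act 5 n34658
theorem D75786 : act 5 n34658 = n75786 := rfl
def n75787 : Q := act 6 n34658
theorem D75787 : act 6 n34658 = n75787 := rfl
theorem F113653 : act 4 n75787 = n34660 := d10_1 D75787 (iv6 D34660) D34658
def n75788 : Q := act 4 n34659
theorem D75788 : act 4 n34659 = n75788 := rfl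
def n75789 : Q := act 6 n34659
theorem D75789 : act 6 n34659 = n75789 := rfl
theorem F113654 : act 2 n75789 = n35891 := d3_1 D75789 F112822 (iv2 F113027)
theorem F113655 : act 7 n75789 = n35892 := d14_2 F113026 D75789 (iv6 F113632) (iv7 D75769) (iv6 F112816)
theorem F113656 : act 0 n35886 = n75789 := d21_4 F27443 F17486 D17375 D35886 (iv6 D75789) (iv5 D34659) (iv1 D16786) D16787 F27548 (iv1 F27445)
def n75790 : Q := act 5 n34660
theorem D75790 : act 5 n34660 = n75790 := rfl
theorem F113657 : act 2 n75790 = n38451 := d2_1 D75790 (iv5 F112824) (iv2 F113022)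
theorem F113658 : act 7 n75790 = n38452 := d13_2 F113023 D75790 F112992
theorem F113659 : act 0 n75790 = n38170 := d21_1 D75790 (iv5 D38170) (iv6 F59565) (iv1 D18427) D18429 F29591 (iv1 F29636) (iv5 D18171) D18172 (iv1 F113021)
def n75791 : Q := act 2 n34661
theorem D75791 : act 2 n34661 = n75791 := rfl
theorem F113661 : act 7 n34662 = n75791 := d15_2 (iv0 D34661) D34662 (iv2 D75791)
def n75792 : Q := act 3 n34661
theorem D75792 : act 3 n34661 = n75792 := rfl
def n75793 : Q := act 4 n34661
theorem D75793 : act 4 n34661 = n75793 := rfl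
def n75794 : Q := act 6 n34661
theorem D75794 : act 6 n34661 = n75794 := rfl
theorem F113662 : act 5 n75794 = n38109 := d21_6 (iv5 D7817) F7216 D7837 (iv6 F27548) D34661 D75794 (iv1 D38109) (iv5 F54692) (iv6 D34468) F27441
theorem F113663 : act 0 n38454 = n75794 := d21_4 (iv5 D8640) D8638 D18331 D38454 (iv6 D75794) F59653 (iv1 F59652) (iv5 F59321) (iv6 D38479) (iv1 D18339)
theorem F113664 : act 0 n75789 = n35893 := d21_4 F112833 (iv1 F54660) D34659 D75789 (iv6 F67482) F67481 (iv1 F58913) (iv5 F113662) (iv6 D75794) F112837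
theorem F113665 : act 6 n38109 = n75432 := d21_9 (iv5 D34519) (iv1 F27490) (iv5 F29380) F29381 (iv1 F54758) D75449 F113226 F113663 F113662 (iv1 D75432)
def n75795 : Q := act 7 n34661
theorem D75795 : act 7 n34661 = n75795 := rfl
theorem F113666 : act 2 n75795 = n34662 := d4_1 D75795 F113661 (iv2 D75791)
def n75796 : Q := act 3 n34662
theorem D75796 : act 3 n34662 = n75796 := rfl
def n75797 : Q := act 4 n34662
theorem D75797 : act 4 n34662 = n75797 := rfl
def n75798 : Q := act 6 n34662
theorem D75798 : act 6 n34662 = n75798 := rfl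
def n75799 : Q := act 0 n34663
theorem D75799 : act 0 n34663 = n75799 := rfl
def n75800 : Q := act 1 n34663
theorem D75800 : act 1 n34663 = n75800 := rfl
def n75801 : Q := act 3 n34663
theorem D75801 : act 3 n34663 = n75801 := rfl
theorem F113667 : act 4 n75801 = n34806 := d5_2 D34663 D75801 (iv3 D34806) (iv4 D16863) (iv3 F27547)
theorem F113668 : act 6 n75801 = n34669 := d7_2 (iv6 F54902) D75801 (iv3 D34669)
def n75802 : Q := act 5 n34663
theorem D75802 : act 5 n34663 = n75802 := rfl
def n75803 : Q := act 6 n34664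
theorem D75803 : act 6 n34664 = n75803 := rfl
theorem F113669 : act 3 n75803 = n34666 := d7_1 D75803 (iv6 D34666) (iv3 F54903)
theorem F113670 : act 5 n75803 = n75279 := d12_1 D75803 (iv6 D75279) F54687 (iv6 F27550) D34664
def n75804 : Q := act 3 n34665
theorem D75804 : act 3 n34665 = n75804 := rfl
theorem F113671 : act 7 n75804 = n38858 := d8_2 (iv7 F54908) D75804 (iv3 D38858)
def n75805 : Q := act 5 n34665
theorem D75805 : act 5 n34665 = n75805 := rfl
theorem F113672 : act 2 n75805 = n38864 := d2_1 D75805 (iv5 D38864) (iv2 F54907)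
theorem F113673 : act 4 n75805 = n41887 := d9_1 D75805 F64587 (iv4 F32330) (iv5 D16729) F12358 D7817 D16730 D34481 (iv4 F64581) F64580 F32324 F31937 F15130 D16789 D34665
theorem F113674 : act 7 n75805 = n38859 := d13_2 (iv7 F54908) D75805 (iv5 D38859)
theorem F113675 : act 0 n75805 = n75310 := d17_2 (iv1 F54910) D75805 F112914 (iv4 D36255) (iv5 D17509) F14286 D10837 (iv0 F31935) (iv4 F54712)
theorem F113676 : act 1 n75805 = n75309 := d17_6 F27406 (iv5 D7837) D7836 D16789 D34665 D75805 F112909 F63807 (iv4 D34459)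
def n75806 : Q := act 6 n34665
theorem D75806 : act 6 n34665 = n75806 := rfl
theorem F113677 : act 2 n75806 = n38865 := d3_1 D75806 (iv6 D38865) (iv2 F54907)
theorem F113678 : act 4 n75806 = n34666 := d10_1 D75806 (iv6 D34666) D34665
def n75807 : Q := act 0 n34666
theorem D75807 : act 0 n34666 = n75807 := rfl
theorem F113679 : act 6 n75807 = n38145 := d21_5 (iv5 D7837) D7836 D16789 D34666 D75807 (iv5 D38145) (iv1 D18236) D18237 F29411 F27406
theorem F113680 : act 2 n38352 = n75807 := d3_3 F113679 F59636 D38352
theorem F113681 : act 0 n75807 = n38485 := d21_4 F29505 (iv1 F29409) D38145 (iv6 F113679) (iv6 D38485) F29528 (iv1 F29432) D38170 (iv6 F59023) (iv1 F58996)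
theorem F113682 : act 7 n38866 = n75807 := d15_2 (iv0 F59207) D38866 (iv2 F113680)
def n75808 : Q := act 1 n34666
theorem D75808 : act 1 n34666 = n75808 := rfl
theorem F113683 : act 1 n75808 = n38485 := d15_1 D75808 F59324 (iv2 F54911)
theorem F113684 : act 7 n75808 = n38352 := d15_2 (iv0 D75807) D75808 F113680
theorem F113685 : act 6 n38821 = n75808 := d21_3 (iv5 F113076) (iv1 F113078) F59847 (iv1 D75808) (iv6 D34666) (iv5 D16789) (iv1 F12390) D8545 (iv6 F29291) D37803
theorem F113686 : act 5 n38475 = n75808 := d21_6 (iv5 D8545) F7231 D7817 (iv6 F13547) D18338 D38475 (iv1 D75808) F54912 (iv6 D34473) (iv1 F27444)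
theorem F113687 : act 2 n38866 = n75808 := d4_3 F113684 F113680 (iv7 F113682)
def n75809 : Q := act 7 n34666
theorem D75809 : act 7 n34666 = n75809 := rfl
theorem F113689 : act 5 n75809 = n38370 := d13_1 D75809 F59230 (iv5 F54912)
theorem F113690 : act 6 n75809 = n38175 := d14_1 D75809 (iv7 D38175) F29434 (iv7 F27553) D34666
theorem F113691 : act 1 n38866 = n75809 := d15_1 D38866 (iv7 D75809) F54911
theorem F113692 : act 1 n75809 = n38352 := d15_1 F113691 (iv7 F113684) (iv2 F113687)
def n75810 : Q := act 3 n34667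
theorem D75810 : act 3 n34667 = n75810 := rfl
theorem F113693 : act 7 n75810 = n38874 := d8_2 F54916 D75810 (iv3 D38874)
def n75811 : Q := act 5 n34667
theorem D75811 : act 5 n34667 = n75811 := rfl
theorem F113694 : act 2 n75811 = n38878 := d2_1 D75811 (iv5 D38878) F54915
theorem F113695 : act 7 n75811 = n38875 := d13_2 F54916 D75811 (iv5 D38875)
theorem F113696 : act 4 n75811 = n41362 := d16_2 (iv4 F54913) D75811 (iv5 D41362) (iv4 D19477) (iv5 D9150) (iv4 F14251) D19476 (iv7 F32313) F32311
theorem F113697 : act 0 n75811 = n43128 := d17_2 D34667 D75811 F67538 (iv4 D35885) (iv5 D17375) (iv0 F17486) (iv5 F27443) F27445 D16790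
theorem F113698 : act 1 n75811 = n43101 := d17_6 F28518 F28516 (iv1 F17566) (iv5 F31225) (iv4 F54913) D75811 (iv5 D43101) (iv0 F36013) (iv4 D22953)
def n75812 : Q := act 6 n34667
theorem D75812 : act 6 n34667 = n75812 := rfl
theorem F113699 : act 2 n75812 = n38879 := d3_1 D75812 (iv6 D38879) F54915
theorem F113700 : act 4 n75812 = n41399 := d10_1 D75812 (iv6 D41399) (iv4 F54913)
def n75813 : Q := act 3 n34668
theorem D75813 : act 3 n34668 = n75813 := rfl
theorem F113701 : act 7 n75813 = n38877 := d8_2 (iv7 F54918) D75813 (iv3 D38877)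
def n75814 : Q := act 5 n34668
theorem D75814 : act 5 n34668 = n75814 := rfl
theorem F113702 : act 2 n75814 = n38875 := d2_1 D75814 (iv5 D38875) F54920
theorem F113703 : act 4 n75814 = n41419 := d9_1 D75814 F63866 F31237 F14323 (iv4 F14313) (iv5 F31225) (iv4 F54913) D75811 F113696 (iv5 D41362) (iv4 D19477) (iv5 D9150) (iv4 F14251) D19476 (iv4 F54919)
theorem F113704 : act 7 n75814 = n38878 := d13_2 (iv7 F54918) D75814 (iv5 D38878)
def n75815 : Q := act 6 n34668
theorem D75815 : act 6 n34668 = n75815 := rfl
theorem F113707 : act 2 n75815 = n38876 := d3_1 D75815 (iv6 D38876) F54920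
theorem F113708 : act 4 n75815 = n40061 := d10_1 D75815 F60951 (iv4 F54919)
def n75816 : Q := act 0 n34669
theorem D75816 : act 0 n34669 = n75816 := rfl
theorem F113709 : act 1 n38882 = n75816 := d15_0 (iv0 D75816) F54922 D38882
def n75817 : Q := act 1 n34669
theorem D75817 : act 1 n34669 = n75817 := rfl
def n75818 : Q := act 2 n34669
theorem D75818 : act 2 n34669 = n75818 := rfl
theorem F113710 : act 4 n75818 = n34810 := d1_2 (iv4 F54921) D75818 (iv2 D34810)
theorem F113711 : act 7 n75818 = n38882 := d4_2 (iv7 F54922) D75818 (iv2 D38882)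
theorem F113712 : act 1 n75818 = n38880 := d15_0 (iv0 D38880) (iv7 F54922) D75818
theorem F113713 : act 1 n75817 = n38882 := d15_1 D75817 (iv7 F113711) (iv2 D75818)
theorem F113714 : act 1 n38881 = n75818 := d15_1 D38881 F113711 (iv2 D38882)
def n75819 : Q := act 5 n34669
theorem D75819 : act 5 n34669 = n75819 := rfl
theorem F113715 : act 3 n75819 = n34670 := d6_1 D75819 (iv5 D34670) D34669
theorem F113716 : act 7 n75819 = n38883 := d13_2 (iv7 F54922) D75819 (iv5 D38883)
def n75820 : Q := act 6 n34670
theorem D75820 : act 6 n34670 = n75820 := rfl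
theorem F113717 : act 2 n75820 = n47758 := d3_1 D75820 (iv6 D47758) (iv2 F54923)
theorem F113718 : act 4 n75820 = n45758 := d10_1 D75820 (iv6 D45758) (iv4 F54925)
def n75821 : Q := act 2 n34671
theorem D75821 : act 2 n34671 = n75821 := rfl
def n75822 : Q := act 3 n34671
theorem D75822 : act 3 n34671 = n75822 := rfl
def n75823 : Q := act 4 n34671
theorem D75823 : act 4 n34671 = n75823 := rfl
def n75824 : Q := act 5 n34671
theorem D75824 : act 5 n34671 = n75824 := rfl
def n75825 : Q := act 7 n34671
theorem D75825 : act 7 n34671 = n75825 := rfl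
def n75826 : Q := act 3 n34672
theorem D75826 : act 3 n34672 = n75826 := rfl
theorem F113721 : act 4 n75826 = n70765 := d20_6 (iv4 D12828) (iv1 F9427) (iv4 F12398) (iv3 F27560) (iv1 F54926) D75826 (iv1 D70765) F51943 F25199 (iv1 F30449)
def n75827 : Q := act 4 n34672
theorem D75827 : act 4 n34672 = n75827 := rfl
def n75828 : Q := act 5 n34672
theorem D75828 : act 5 n34672 = n75828 := rfl
theorem F113722 : act 6 n68820 = n75828 := d21_5 (iv5 D7183) D7179 D15098 D32011 D68820 (iv5 D75828) (iv1 D34672) (iv5 F50664) (iv6 D32034) (iv1 D15113)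
def n75829 : Q := act 6 n34672
theorem D75829 : act 6 n34672 = n75829 := rfl
def n75830 : Q := act 0 n34674
theorem D75830 : act 0 n34674 = n75830 := rfl
theorem F113723 : act 1 n34679 = n75830 := d15_0 (iv0 D75830) (iv7 F54931) (iv2 F54932)
def n75832 : Q := act 3 n34674
theorem D75832 : act 3 n34674 = n75832 := rfl
theorem F113725 : act 7 n75832 = n34680 := d8_2 F54931 D75832 (iv3 D34680)
def n75833 : Q := act 4 n34674
theorem D75833 : act 4 n34674 = n75833 := rfl
theorem F113726 : act 2 n75833 = n34676 := d1_1 D75833 (iv4 D34676) D34674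
theorem F113727 : act 7 n75833 = n34681 := d11_2 F54931 D75833 (iv4 D34681)
def n75834 : Q := act 5 n34674
theorem D75834 : act 5 n34674 = n75834 := rfl
theorem F113728 : act 2 n75834 = n34677 := d2_1 D75834 (iv5 D34677) D34674
theorem F113729 : act 7 n75834 = n34682 := d13_2 F54931 D75834 (iv5 D34682)
def n75835 : Q := act 6 n34674
theorem D75835 : act 6 n34674 = n75835 := rfl
theorem F113730 : act 2 n75835 = n34678 := d3_1 D75835 (iv6 D34678) D34674
def n75836 : Q := act 0 n34675
theorem D75836 : act 0 n34675 = n75836 := rfl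
def n75837 : Q := act 1 n34675
theorem D75837 : act 1 n34675 = n75837 := rfl
def n75838 : Q := act 2 n34675
theorem D75838 : act 2 n34675 = n75838 := rfl
def n75839 : Q := act 4 n34675
theorem D75839 : act 4 n34675 = n75839 := rfl
theorem F113732 : act 0 n70755 = n75839 := d20_7 (iv4 F113449) (iv1 F113451) D75607 (iv3 F113460) (iv1 D69761) (iv3 F51928) (iv4 F107227) (iv4 D75839) (iv3 D34675) (iv1 F54930)
def n75840 : Q := act 5 n34675
theorem D75840 : act 5 n34675 = n75840 := rfl
theorem F113733 : act 3 n75840 = n34677 := d6_1 D75840 (iv5 D34677) D34675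
def n75841 : Q := act 6 n34675
theorem D75841 : act 6 n34675 = n75841 := rfl
theorem F113734 : act 3 n75841 = n34678 := d7_1 D75841 (iv6 D34678) D34675
def n75842 : Q := act 7 n34675
theorem D75842 : act 7 n34675 = n75842 := rfl
theorem F113735 : act 3 n75842 = n34679 := d8_1 D75842 (iv7 D34679) D34675
def n75843 : Q := act 0 n34676
theorem D75843 : act 0 n34676 = n75843 := rfl
def n75844 : Q := act 1 n34676
theorem D75844 : act 1 n34676 = n75844 := rfl
theorem F113736 : act 1 n75844 = n34681 := d15_1 D75844 (iv7 F113727) F113726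
def n75846 : Q := act 5 n34676
theorem D75846 : act 5 n34676 = n75846 := rfl
def n75847 : Q := act 6 n34676
theorem D75847 : act 6 n34676 = n75847 := rfl
theorem F113737 : act 4 n75847 = n34678 := d10_1 D75847 (iv6 D34678) D34676
def n75848 : Q := act 7 n34676
theorem D75848 : act 7 n34676 = n75848 := rfl
theorem F113738 : act 2 n75848 = n34681 := d4_1 D75848 (iv7 F113727) F113726
theorem F113739 : act 4 n75848 = n34679 := d11_1 D75848 (iv7 D34679) D34676
theorem F113740 : act 1 n34681 = n75843 := d15_0 (iv0 D75843) D75848 F113738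
def n75849 : Q := act 0 n34677
theorem D75849 : act 0 n34677 = n75849 := rfl
theorem F113741 : act 5 n75849 = n39309 := d21_2 D34677 D75849 (iv6 D39309) (iv1 D18646) (iv6 D8755) (iv5 F25987) (iv1 D7227) (iv5 F5581) D7841 D16792
def n75850 : Q := act 1 n34677
theorem D75850 : act 1 n34677 = n75850 := rfl
theorem F113742 : act 1 n75850 = n34682 := d15_1 D75850 (iv7 F113729) F113728
def n75851 : Q := act 4 n34677
theorem D75851 : act 4 n34677 = n75851 := rfl
def n75852 : Q := act 6 n34677
theorem D75852 : act 6 n34677 = n75852 := rfl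
def n75853 : Q := act 7 n34677
theorem D75853 : act 7 n34677 = n75853 := rfl
theorem F113743 : act 2 n75853 = n34682 := d4_1 D75853 (iv7 F113729) F113728
theorem F113744 : act 5 n75853 = n34679 := d13_1 D75853 (iv7 D34679) D34677
theorem F113745 : act 1 n34682 = n75849 := d15_0 (iv0 D75849) D75853 F113743
theorem E10252 : n73645 = n34683 := ((c21_10 (iv5 D33842) (iv1 F53179) F53176 (iv6 F42549) (iv1 F42551) D39309 (iv5 F113741) (iv1 F113745) (iv5 D34682) D34683 (iv1 D73645))).symm
theorem F113746 : act 0 n34683 = n33842 := (sb E10252 (iv1 D73645))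
theorem F113747 : act 1 n34683 = n33847 := (sb E10252 F110337)
theorem E10253 : n39352 = n39309 := (c21_11 (iv5 F113741) (iv1 F113745) (iv5 D34682) D34683 F113746 D73647 (iv5 F110345) (iv1 D39348) (iv5 D18656) D18657 D39352)
theorem F113748 : act 1 n39309 = n18657 := (sb E10253 (iv0 D39352))
def n75854 : Q := act 0 n34678
theorem D75854 : act 0 n34678 = n75854 := rfl
def n75855 : Q := act 1 n34678
theorem D75855 : act 1 n34678 = n75855 := rfl
def n75856 : Q := act 7 n34678
theorem D75856 : act 7 n34678 = n75856 := rfl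
def n75857 : Q := act 6 n34679
theorem D75857 : act 6 n34679 = n75857 := rfl
theorem F113749 : act 2 n75857 = n34683 := d3_1 D75857 (iv6 D34683) (iv2 F54932)
theorem F113750 : act 7 n73644 = n75857 := d15_2 F113747 F110335 F113749
theorem E10254 : n75856 = n54197 := (c14_5 F113750 (iv6 D75857) (iv7 D34679) D34678 D75856 F110336)
theorem F113751 : act 7 n54197 = n34678 := (sb E10254 (iv7 D75856))
theorem E10255 : n54199 = n54150 := ((c13_2 F113751 F85473 (iv7 D54199) D54197)).symm
theorem F113752 : act 2 n54150 = n26215 := (sb E10255 F85523)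
theorem F113753 : act 7 n54150 = n26214 := (sb E10255 (iv7 D54199))
theorem E10256 : n54194 = n54149 := (c15_4 (iv0 D54149) D54150 F113753 D54194)
theorem F113754 : act 2 n54149 = n26214 := (sb E10256 (iv2 D54194))
theorem F113755 : act 7 n54149 = n26215 := (sb E10256 (iv7 F85521))
theorem F113756 : act 2 n54198 = n71974 := d3_3 (iv6 F108463) F113754 D54198
theorem E10257 : n71971 = n35973 := (c2_4 (iv5 F85522) F113756 (iv5 D71974) (iv2 F108462))
theorem F113757 : act 2 n35973 = n33250 := (sb E10257 F108462)
theorem F113758 : act 7 n35973 = n33249 := (sb E10257 (iv7 D71971))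
theorem F113759 : act 7 n71969 = n54198 := d13_2 F113758 D71969 F85522
theorem E10258 : n71966 = n35972 := (c15_4 (iv0 D35972) D35973 F113758 D71966)
theorem F113760 : act 2 n35972 = n33249 := (sb E10258 (iv2 D71966))
theorem F113761 : act 7 n35972 = n33250 := (sb E10258 (iv7 F108461))
theorem E10259 : n75835 = n54202 := ((c2_3 F85473 F113752 D54202 F113730)).symm
theorem F113762 : act 2 n54202 = n34678 := (sb E10259 F113730)
theorem E10260 : n34674 = n34671 := (((F85524).symm.trans (sb E10259 (iv6 D75835)))).symm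
theorem E10261 : n75830 = n16795 := ((((iv1 F54928)).symm.trans (sb E10260 D75830))).symm
theorem E10263 : n75821 = n16792 := ((D75821).symm.trans (sb E10260 (iv2 D34674)))
theorem E10264 : n75832 = n75822 := (((D75822).symm.trans (sb E10260 D75832))).symm
theorem E10265 : n75833 = n75823 := (((D75823).symm.trans (sb E10260 D75833))).symm
theorem E10266 : n75834 = n75824 := (((D75824).symm.trans (sb E10260 D75834))).symm
theorem E10267 : n75825 = n16793 := ((D75825).symm.trans (sb E10260 (iv7 F54931)))
theorem E10268 : n34679 = n34672 := ((((iv1 F54926)).symm.trans (sb E10261 (iv1 F113723)))).symm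
theorem F113763 : act 2 n16792 = n34671 := (sb E10263 (iv2 D75821))
theorem F113764 : act 7 n75822 = n34680 := (sb E10264 F113725)
theorem F113765 : act 2 n75823 = n34676 := (sb E10265 F113726)
theorem F113766 : act 7 n75823 = n34681 := (sb E10265 F113727)
theorem F113767 : act 2 n75824 = n34677 := (sb E10266 F113728)
theorem F113768 : act 7 n75824 = n34682 := (sb E10266 F113729)
theorem F113769 : act 7 n16793 = n34671 := (sb E10267 (iv7 D75825))
theorem F113770 : act 2 n34672 = n16793 := (sb E10268 F54932)
theorem E10269 : n75842 = n75826 := (((D75826).symm.trans (sb E10268 (iv3 F113735)))).symm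
theorem E10270 : n75848 = n75827 := (((D75827).symm.trans (sb E10268 (iv4 F113739)))).symm
theorem E10271 : n75853 = n75828 := (((D75828).symm.trans (sb E10268 (iv5 F113744)))).symm
theorem E10272 : n75857 = n75829 := (((D75829).symm.trans (sb E10268 D75857))).symm
theorem F113771 : act 7 n34672 = n16792 := (sb E10268 (iv7 D34679))
theorem F113772 : act 7 n75826 = n34675 := (sb E10269 (iv7 D75842))
theorem F113774 : act 7 n75827 = n34676 := (sb E10270 (iv7 D75848))
theorem F113775 : act 2 n75828 = n34682 := (sb E10271 F113743)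
theorem F113776 : act 7 n75828 = n34677 := (sb E10271 (iv7 D75853))
theorem F113777 : act 2 n75829 = n34683 := (sb E10272 F113749)
theorem F113778 : act 7 n75829 = n73644 := (sb E10272 (iv7 F113750))
theorem F113779 : act 7 n75839 = n70765 := d11_2 F113772 D75839 (iv4 F113721)
theorem F113780 : act 2 n75839 = n70764 := d15_3 (iv0 D70764) D70765 (iv7 F113779)
theorem F113781 : act 4 n70764 = n75838 := d1_2 D75839 F113780 (iv2 D75838)
def n75858 : Q := act 0 n34680
theorem D75858 : act 0 n34680 = n75858 := rfl
def n75859 : Q := act 1 n34680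
theorem D75859 : act 1 n34680 = n75859 := rfl
def n75860 : Q := act 2 n34680
theorem D75860 : act 2 n34680 = n75860 := rfl
def n75861 : Q := act 4 n34680
theorem D75861 : act 4 n34680 = n75861 := rfl
def n75862 : Q := act 5 n34680
theorem D75862 : act 5 n34680 = n75862 := rfl
theorem F113782 : act 3 n75862 = n34682 := d6_1 D75862 (iv5 D34682) D34680
def n75863 : Q := act 6 n34680
theorem D75863 : act 6 n34680 = n75863 := rfl
theorem F113783 : act 3 n75863 = n34683 := d7_1 D75863 (iv6 D34683) D34680
def n75864 : Q := act 3 n34681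
theorem D75864 : act 3 n34681 = n75864 := rfl
def n75865 : Q := act 5 n34681
theorem D75865 : act 5 n34681 = n75865 := rfl
def n75866 : Q := act 6 n34681
theorem D75866 : act 6 n34681 = n75866 := rfl
theorem F113784 : act 4 n75866 = n34683 := d10_1 D75866 (iv6 D34683) D34681
def n75867 : Q := act 4 n34682
theorem D75867 : act 4 n34682 = n75867 := rfl
def n75868 : Q := act 6 n34682
theorem D75868 : act 6 n34682 = n75868 := rfl
theorem F113785 : act 2 n75868 = n68820 := d3_1 D75868 F113722 F113775
theorem F113786 : act 0 n54035 = n75868 := d21_4 (iv5 D15106) (iv1 F20655) D26141 D54035 (iv6 D75868) (iv5 D34682) (iv1 D16793) D16794 F27559 (iv1 F26930)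
theorem F113787 : act 7 n68821 = n75868 := d15_2 (iv0 D68820) D68821 F113785
def n75869 : Q := act 7 n34683
theorem D75869 : act 7 n34683 = n75869 := rfl
theorem F113788 : act 2 n75869 = n73644 := d4_1 D75869 (iv7 F113778) F113777
def n75870 : Q := act 2 n34684
theorem D75870 : act 2 n34684 = n75870 := rfl
theorem F113789 : act 7 n34685 = n75870 := d15_2 (iv0 D34684) D34685 (iv2 D75870)
def n75871 : Q := act 3 n34684
theorem D75871 : act 3 n34684 = n75871 := rfl
def n75872 : Q := act 4 n34684
theorem D75872 : act 4 n34684 = n75872 := rfl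
def n75873 : Q := act 5 n34684
theorem D75873 : act 5 n34684 = n75873 := rfl
def n75874 : Q := act 6 n34684
theorem D75874 : act 6 n34684 = n75874 := rfl
def n75875 : Q := act 7 n34684
theorem D75875 : act 7 n34684 = n75875 := rfl
theorem F113790 : act 2 n75875 = n34685 := d4_1 D75875 F113789 (iv2 D75870)
def n75876 : Q := act 3 n34685
theorem D75876 : act 3 n34685 = n75876 := rfl
def n75877 : Q := act 4 n34685
theorem D75877 : act 4 n34685 = n75877 := rfl
def n75878 : Q := act 6 n34685
theorem D75878 : act 6 n34685 = n75878 := rfl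
def n75879 : Q := act 0 n34686
theorem D75879 : act 0 n34686 = n75879 := rfl
def n75880 : Q := act 1 n34686
theorem D75880 : act 1 n34686 = n75880 := rfl
def n75881 : Q := act 3 n34686
theorem D75881 : act 3 n34686 = n75881 := rfl
theorem F113791 : act 4 n75881 = n34711 := d5_2 D34686 D75881 (iv3 D34711) (iv4 D16807) (iv3 F27558)
theorem F113792 : act 6 n75881 = n69733 := d7_2 (iv6 F54933) D75881 (iv3 D69733)
def n75882 : Q := act 5 n34686
theorem D75882 : act 5 n34686 = n75882 := rfl
def n75883 : Q := act 7 n34686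
theorem D75883 : act 7 n34686 = n75883 := rfl
theorem F113793 : act 4 n75883 = n34687 := d11_1 D75883 (iv7 D34687) D34686
def n75894 : Q := act 4 n34690
theorem D75894 : act 4 n34690 = n75894 := rfl
theorem F113796 : act 2 n75894 = n34691 := d1_1 D75894 (iv4 D34691) D34690
def n75895 : Q := act 5 n34690
theorem D75895 : act 5 n34690 = n75895 := rfl
theorem F113797 : act 2 n75895 = n34692 := d2_1 D75895 (iv5 D34692) D34690
def n75896 : Q := act 0 n34691
theorem D75896 : act 0 n34691 = n75896 := rfl
def n75897 : Q := act 1 n34691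
theorem D75897 : act 1 n34691 = n75897 := rfl
def n75898 : Q := act 5 n34691
theorem D75898 : act 5 n34691 = n75898 := rfl
def n75899 : Q := act 0 n34692
theorem D75899 : act 0 n34692 = n75899 := rfl
def n75900 : Q := act 1 n34692
theorem D75900 : act 1 n34692 = n75900 := rfl
def n75901 : Q := act 4 n34692
theorem D75901 : act 4 n34692 = n75901 := rfl
def n75902 : Q := act 3 n34693
theorem D75902 : act 3 n34693 = n75902 := rfl
theorem F113798 : act 5 n75902 = n39427 := d6_2 (iv5 F54938) D75902 (iv3 D39427)
def n75903 : Q := act 4 n34693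
theorem D75903 : act 4 n34693 = n75903 := rfl
theorem F113799 : act 5 n75903 = n58412 := d9_2 (iv5 F54938) D75903 (iv4 D58412) (iv5 F52385) F52384 F27582 (iv4 F42188) D33811 D73565 F110221 (iv4 D58409) F44884 (iv4 F42201) F21794 (iv4 F29953)
theorem F113800 : act 0 n75903 = n34744 := d17_0 F54973 (iv1 D18711) D18713 (iv4 F43100) F43101 F21288 D16799 D34693 D75903
theorem F113801 : act 1 n75903 = n34779 := d18_6 F41777 (iv4 D13286) (iv1 F13678) (iv4 F29953) (iv5 F54938) D75903 (iv4 D34779) (iv0 F51609) (iv5 D32536)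
theorem F113802 : act 6 n75903 = n68353 := d21_3 F87850 (iv1 F92265) (iv5 F113799) (iv1 D68353) (iv6 D31808) D31807 (iv1 F51426) F51424 (iv6 F43096) D55550
theorem F113803 : act 4 n68353 = n71739 := d10_1 F113802 F108207 D75903
def n75904 : Q := act 0 n34694
theorem D75904 : act 0 n34694 = n75904 := rfl
theorem F113804 : act 5 n75904 = n39611 := d17_1 D75904 F60478 (iv5 F87845) (iv4 D55548) (iv5 F44897) F44900 D33811 F53143 D34694
theorem F113805 : act 4 n75904 = n36374 := d18_1 D75904 F57123 D55610 F87961 F44926 (iv0 D19011) D19013 F30333 (iv5 F54939)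
theorem F113806 : act 1 n34701 = n75904 := d15_0 (iv0 D75904) (iv7 F87840) F87838
theorem F113807 : act 2 n70133 = n75904 := d1_3 F113805 F57121 D70133
def n75905 : Q := act 1 n34694
theorem D75905 : act 1 n34694 = n75905 := rfl
theorem F113808 : act 1 n75905 = n34701 := d15_1 D75905 (iv7 F87825) F87824
theorem F113809 : act 7 n75905 = n70133 := d15_2 (iv0 D75904) D75905 F113807
theorem F113810 : act 5 n75905 = n39614 := d17_7 (iv1 F44889) (iv5 F52385) (iv1 F52386) F27296 D18708 (iv5 F54939) D75905 F60484 (iv4 D27808)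
theorem F113811 : act 4 n75905 = n39638 := d17_9 F60524 (iv5 D26829) F30448 (iv5 F51453) (iv4 F61219) (iv5 D40249) F30333 (iv5 F54939) D75905
def n75906 : Q := act 3 n34694
theorem D75906 : act 3 n34694 = n75906 := rfl
theorem F113812 : act 5 n75906 = n39479 := d6_2 (iv5 F54939) D75906 (iv3 D39479)
def n75908 : Q := act 3 n34695
theorem D75908 : act 3 n34695 = n75908 := rfl
def n75915 : Q := act 5 n34696
theorem D75915 : act 5 n34696 = n75915 := rfl
def n75916 : Q := act 6 n34696
theorem D75916 : act 6 n34696 = n75916 := rfl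
def n75917 : Q := act 4 n34697
theorem D75917 : act 4 n34697 = n75917 := rfl
theorem F113815 : act 2 n75917 = n34698 := d1_1 D75917 (iv4 D34698) D34697
def n75918 : Q := act 5 n34697
theorem D75918 : act 5 n34697 = n75918 := rfl
theorem F113816 : act 2 n75918 = n34699 := d2_1 D75918 (iv5 D34699) D34697
def n75919 : Q := act 6 n34697
theorem D75919 : act 6 n34697 = n75919 := rfl
theorem F113817 : act 2 n75919 = n34700 := d3_1 D75919 (iv6 D34700) D34697
def n75920 : Q := act 0 n34698
theorem D75920 : act 0 n34698 = n75920 := rfl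
def n75921 : Q := act 1 n34698
theorem D75921 : act 1 n34698 = n75921 := rfl
def n75922 : Q := act 5 n34698
theorem D75922 : act 5 n34698 = n75922 := rfl
def n75923 : Q := act 6 n34698
theorem D75923 : act 6 n34698 = n75923 := rfl
theorem F113818 : act 4 n75923 = n34700 := d10_1 D75923 (iv6 D34700) D34698
def n75924 : Q := act 0 n34699
theorem D75924 : act 0 n34699 = n75924 := rfl
def n75925 : Q := act 1 n34699
theorem D75925 : act 1 n34699 = n75925 := rfl
def n75926 : Q := act 4 n34699
theorem D75926 : act 4 n34699 = n75926 := rfl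
def n75927 : Q := act 6 n34699
theorem D75927 : act 6 n34699 = n75927 := rfl
theorem F113819 : act 3 n75927 = n34702 := d7_1 D75927 (iv6 D34702) (iv3 F54940)
def n75928 : Q := act 0 n34700
theorem D75928 : act 0 n34700 = n75928 := rfl
def n75929 : Q := act 1 n34700
theorem D75929 : act 1 n34700 = n75929 := rfl
def n75930 : Q := act 3 n34701
theorem D75930 : act 3 n34701 = n75930 := rfl
theorem F113820 : act 5 n75930 = n39469 := d6_2 (iv5 F54942) D75930 (iv3 D39469)
def n75931 : Q := act 6 n34701
theorem D75931 : act 6 n34701 = n75931 := rfl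
theorem F113821 : act 4 n75931 = n34702 := d10_1 D75931 (iv6 D34702) D34701
def n75932 : Q := act 0 n34702
theorem D75932 : act 0 n34702 = n75932 := rfl
theorem F113822 : act 6 n75932 = n68551 := d21_5 F43101 (iv1 F21287) D16803 D34702 D75932 F104749 (iv1 F86180) (iv5 F86182) (iv6 D34705) (iv1 F43103)
theorem F113823 : act 2 n68554 = n75932 := d15_3 (iv0 D75932) (iv0 F54943) D68554
theorem F113824 : act 5 n75932 = n55999 := d2_2 (iv5 F104753) F113823 F88636
theorem F113825 : act 7 n75932 = n54007 := d4_2 D68554 F113823 F85188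
theorem F113826 : act 1 n68554 = n55546 := d15_0 (iv0 F87842) (iv7 F113825) (iv2 F113823)
theorem F113828 : act 1 n68553 = n75932 := d15_1 D68553 F113825 F85188
def n75933 : Q := act 7 n34702
theorem D75933 : act 7 n34702 = n75933 := rfl
theorem F113829 : act 2 n75933 = n68553 := d4_1 D75933 F104752 F87841
theorem F113830 : act 6 n75933 = n68766 := d14_1 D75933 F104961 F85691 (iv7 F51335) D34702
theorem F113831 : act 1 n54007 = n75933 := d15_1 (iv0 F87842) (iv7 D75933) (iv2 F87841)
theorem F113832 : act 1 n75933 = n68554 := d15_1 F113831 (iv7 D68554) (iv2 F85188)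
def n75936 : Q := act 2 n34703
theorem D75936 : act 2 n34703 = n75936 := rfl
def n75937 : Q := act 4 n34703
theorem D75937 : act 4 n34703 = n75937 := rfl
def n75938 : Q := act 6 n34703
theorem D75938 : act 6 n34703 = n75938 := rfl
theorem F113833 : act 3 n75938 = n34705 := d7_1 D75938 (iv6 D34705) D34703
def n75939 : Q := act 3 n34704
theorem D75939 : act 3 n34704 = n75939 := rfl
theorem F113834 : act 5 n75939 = n39454 := d6_2 (iv5 F54944) D75939 (iv3 D39454)
def n75940 : Q := act 6 n34704
theorem D75940 : act 6 n34704 = n75940 := rfl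
theorem F113835 : act 4 n75940 = n34705 := d10_1 D75940 (iv6 D34705) D34704
def n75941 : Q := act 1 n34705
theorem D75941 : act 1 n34705 = n75941 := rfl
theorem F113836 : act 5 n72294 = n75941 := d21_6 (iv5 D16085) (iv1 F21036) (iv5 F42353) D54745 (iv1 F86584) D72294 (iv1 D75941) F86182 (iv6 F86181) (iv1 D33309)
def n75942 : Q := act 0 n34706
theorem D75942 : act 0 n34706 = n75942 := rfl
def n75943 : Q := act 1 n34706
theorem D75943 : act 1 n34706 = n75943 := rfl
def n75944 : Q := act 2 n34706
theorem D75944 : act 2 n34706 = n75944 := rfl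
theorem F113837 : act 5 n75944 = n58396 := d2_2 (iv5 F54946) D75944 F92238
def n75945 : Q := act 4 n34706
theorem D75945 : act 4 n34706 = n75945 := rfl
def n75946 : Q := act 6 n34706
theorem D75946 : act 6 n34706 = n75946 := rfl
theorem F113838 : act 3 n75946 = n34708 := d7_1 D75946 (iv6 D34708) D34706
theorem F113839 : act 5 n75946 = n58404 := d12_1 D75946 (iv6 D58404) (iv5 D27795) D27796 (iv5 F54946)
def n75947 : Q := act 3 n34707
theorem D75947 : act 3 n34707 = n75947 := rfl
theorem F113840 : act 5 n75947 = n39421 := d6_2 (iv5 F54947) D75947 (iv3 D39421)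
def n75948 : Q := act 6 n34707
theorem D75948 : act 6 n34707 = n75948 := rfl
theorem F113841 : act 4 n75948 = n34708 := d10_1 D75948 (iv6 D34708) D34707
def n75949 : Q := act 0 n34708
theorem D75949 : act 0 n34708 = n75949 := rfl
theorem F113842 : act 5 n75949 = n55240 := d21_0 (iv1 F87418) (iv5 F106122) (iv6 F112664) (iv1 F112666) (iv6 F106135) (iv5 D39629) F29997 F27563 D34708 D75949
def n75950 : Q := act 1 n34708
theorem D75950 : act 1 n34708 = n75950 := rfl
theorem F113843 : act 5 n55241 = n75950 := d21_0 (iv1 D75950) F54949 (iv6 D27800) D27797 D58410 F92260 (iv1 F96080) F95882 F87404 (iv1 F87415)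
theorem F113844 : act 6 n39471 = n55241 := d21_5 F44884 F42202 (iv5 D18704) D18705 D39471 F113843 (iv1 D75950) F54949 (iv6 D27800) D27797
theorem F113845 : act 6 n75950 = n69747 := d21_3 F106122 (iv1 F87415) F113843 (iv1 F106148) (iv6 D68799) F50366 (iv1 F41454) D54057 (iv6 F112634) (iv1 F112642)
def n75951 : Q := act 7 n34708
theorem D75951 : act 7 n34708 = n75951 := rfl
theorem F113846 : act 5 n75951 = n58417 := d13_1 D75951 (iv7 D58417) (iv5 F54949)
theorem F113847 : act 1 n74106 = n75951 := d15_1 (iv0 F110839) (iv7 D75951) (iv2 F60358)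
theorem F113848 : act 0 n74101 = n75951 := d21_1 D74101 F113846 F92271 (iv1 F86598) F86596 F42752 F25942 F22850 D16444 D33999
def n75952 : Q := act 3 n34709
theorem D75952 : act 3 n34709 = n75952 := rfl
theorem F113849 : act 5 n75952 = n39767 := d6_2 (iv5 F54950) D75952 (iv3 D39767)
def n75953 : Q := act 6 n34709
theorem D75953 : act 6 n34709 = n75953 := rfl
theorem F113850 : act 4 n75953 = n39644 := d10_1 D75953 (iv6 D39644) (iv4 F54951)
def n75954 : Q := act 3 n34710
theorem D75954 : act 3 n34710 = n75954 := rfl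
theorem F113851 : act 5 n75954 = n39615 := d6_2 F54955 D75954 (iv3 D39615)
def n75955 : Q := act 6 n34710
theorem D75955 : act 6 n34710 = n75955 := rfl
theorem F113852 : act 4 n75955 = n39777 := d10_1 D75955 (iv6 D39777) (iv4 F54954)
def n75956 : Q := act 0 n34711
theorem D75956 : act 0 n34711 = n75956 := rfl
def n75957 : Q := act 1 n34711
theorem D75957 : act 1 n34711 = n75957 := rfl
def n75958 : Q := act 2 n34711
theorem D75958 : act 2 n34711 = n75958 := rfl
theorem F113853 : act 6 n75958 = n69752 := d3_2 (iv6 F54956) D75958 (iv2 D69752)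
def n75959 : Q := act 0 n34715
theorem D75959 : act 0 n34715 = n75959 := rfl
theorem F113854 : act 4 n75959 = n36664 := d20_2 D34715 D75959 (iv3 D36664) (iv1 D17668) F13132 (iv4 F11560) F30054 (iv4 D7848) D7847 D16815
theorem F113855 : act 1 n34720 = n75959 := d15_0 (iv0 D75959) (iv7 F87916) F87915
theorem E10273 : n40494 = n36664 := ((c18_8 (iv1 F33666) (iv4 F90413) (iv1 F60412) (iv4 D18723) F61600 D34720 F113855 F113854 F61581 F56752)).symm
theorem F113856 : act 0 n36664 = n19135 := (sb E10273 (iv1 D40494))
theorem F113857 : act 1 n36664 = n36002 := (sb E10273 F61581)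
theorem F113858 : act 0 n75696 = n36665 := d20_1 D75696 (iv4 D36665) D36664 F113856 F30746 (iv4 F34450) F59786 (iv4 D16776) D16775 D34614
def n75960 : Q := act 1 n34715
theorem D75960 : act 1 n34715 = n75960 := rfl
theorem F113859 : act 1 n75960 = n34720 := d15_1 D75960 (iv7 F87921) F87920
theorem F113860 : act 4 n75960 = n40493 := d18_7 D21434 F60797 (iv1 D39509) (iv4 D18718) F61594 D34715 D75960 (iv0 D40493) F30748
def n75961 : Q := act 3 n34715
theorem D75961 : act 3 n34715 = n75961 := rfl
def n75962 : Q := act 5 n34715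
theorem D75962 : act 5 n34715 = n75962 := rfl
def n75963 : Q := act 6 n34715
theorem D75963 : act 6 n34715 = n75963 := rfl
theorem F113861 : act 4 n75963 = n34717 := d10_1 D75963 (iv6 D34717) D34715
def n75965 : Q := act 0 n34719
theorem D75965 : act 0 n34719 = n75965 := rfl
def n75966 : Q := act 1 n34719
theorem D75966 : act 1 n34719 = n75966 := rfl
def n75967 : Q := act 4 n34719
theorem D75967 : act 4 n34719 = n75967 := rfl
def n75976 : Q := act 3 n34723
theorem D75976 : act 3 n34723 = n75976 := rfl
def n75977 : Q := act 5 n34723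
theorem D75977 : act 5 n34723 = n75977 := rfl
def n75978 : Q := act 6 n34723
theorem D75978 : act 6 n34723 = n75978 := rfl
theorem F113868 : act 2 n75978 = n34730 := d3_1 D75978 (iv6 D34730) (iv2 F54960)
theorem F113869 : act 4 n75978 = n34725 := d10_1 D75978 (iv6 D34725) D34723
def n75979 : Q := act 4 n34724
theorem D75979 : act 4 n34724 = n75979 := rfl
theorem F113870 : act 2 n75979 = n34733 := d1_1 D75979 (iv4 D34733) (iv2 F54961)
def n75980 : Q := act 6 n34724
theorem D75980 : act 6 n34724 = n75980 := rfl
theorem F113871 : act 2 n75980 = n34734 := d3_1 D75980 (iv6 D34734) (iv2 F54961)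
def n75981 : Q := act 0 n34725
theorem D75981 : act 0 n34725 = n75981 := rfl
def n75982 : Q := act 1 n34725
theorem D75982 : act 1 n34725 = n75982 := rfl
theorem F113872 : act 1 n75982 = n34737 := d15_1 D75982 (iv7 D34737) (iv2 F54962)
def n75983 : Q := act 7 n34725
theorem D75983 : act 7 n34725 = n75983 := rfl
theorem F113873 : act 2 n75983 = n34737 := d4_1 D75983 (iv7 D34737) (iv2 F54962)
theorem F113874 : act 5 n75983 = n39839 := d13_1 D75983 (iv7 F92715) F92714
theorem F113875 : act 1 n34737 = n75981 := d15_0 (iv0 D75981) D75983 F113873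
theorem F113876 : act 1 n34736 = n75983 := d15_1 D34736 (iv7 D75983) F54962
theorem F113877 : act 6 n58599 = n75981 := d21_9 F54967 (iv1 F92721) (iv5 D39520) (iv6 D18720) (iv1 F22089) D27869 (iv5 F60427) (iv1 F60429) D58599 (iv1 F113875)
theorem E10274 : n55598 = n39560 := ((c21_1 D39560 (iv1 F87941) (iv5 D34724) D34725 D75981 (iv6 F113877) (iv5 D58599) (iv1 D27876) (iv5 F29981) (iv6 D18737) D18734)).symm
theorem F113878 : act 0 n39560 = n34724 := (sb E10274 (iv1 F87941))
theorem F113879 : act 1 n39560 = n26840 := (sb E10274 (iv0 D55598))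
theorem F113880 : act 1 n75983 = n34735 := d15_0 (iv0 D34735) D34737 (iv2 F113873)
def n75984 : Q := act 3 n34726
theorem D75984 : act 3 n34726 = n75984 := rfl
theorem F113881 : act 7 n75984 = n37323 := d8_2 (iv7 F61590) D75984 F58265
def n75985 : Q := act 5 n34726
theorem D75985 : act 5 n34726 = n75985 := rfl
def n75986 : Q := act 0 n34728
theorem D75986 : act 0 n34728 = n75986 := rfl
def n75987 : Q := act 1 n34728
theorem D75987 : act 1 n34728 = n75987 := rfl
def n75988 : Q := act 2 n34728
theorem D75988 : act 2 n34728 = n75988 := rfl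
theorem F113883 : act 4 n75988 = n34740 := d1_2 (iv4 F54963) D75988 (iv2 D34740)
def n75989 : Q := act 5 n34728
theorem D75989 : act 5 n34728 = n75989 := rfl
def n75990 : Q := act 6 n34728
theorem D75990 : act 6 n34728 = n75990 := rfl
theorem F113886 : act 4 n75990 = n34742 := d10_1 D75990 (iv6 D34742) (iv4 F54963)
def n75991 : Q := act 0 n34729
theorem D75991 : act 0 n34729 = n75991 := rfl
def n75992 : Q := act 1 n34729
theorem D75992 : act 1 n34729 = n75992 := rfl
def n75994 : Q := act 6 n34729
theorem D75994 : act 6 n34729 = n75994 := rfl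
def n75995 : Q := act 0 n34730
theorem D75995 : act 0 n34730 = n75995 := rfl
def n75996 : Q := act 1 n34730
theorem D75996 : act 1 n34730 = n75996 := rfl
def n75997 : Q := act 5 n34730
theorem D75997 : act 5 n34730 = n75997 := rfl
theorem F113887 : act 0 n75997 = n38913 := d21_7 F22025 (iv1 F29675) F29677 D21577 F59814 D34730 D75997 (iv5 D38913) (iv6 D18483) (iv1 F22028)
def n75998 : Q := act 7 n34730
theorem D75998 : act 7 n34730 = n75998 := rfl
theorem F113888 : act 4 n75998 = n34737 := d11_1 D75998 (iv7 D34737) (iv4 F54964)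
def n75999 : Q := act 2 n34731
theorem D75999 : act 2 n34731 = n75999 := rfl
theorem F113889 : act 7 n34732 = n75999 := d15_2 (iv0 D34731) D34732 (iv2 D75999)
def n76000 : Q := act 3 n34731
theorem D76000 : act 3 n34731 = n76000 := rfl
def n76001 : Q := act 4 n34731
theorem D76001 : act 4 n34731 = n76001 := rfl
def n76002 : Q := act 5 n34731
theorem D76002 : act 5 n34731 = n76002 := rfl
def n76003 : Q := act 6 n34731
theorem D76003 : act 6 n34731 = n76003 := rfl
def n76004 : Q := act 7 n34731
theorem D76004 : act 7 n34731 = n76004 := rfl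
theorem F113890 : act 2 n76004 = n34732 := d4_1 D76004 F113889 (iv2 D75999)
def n76005 : Q := act 3 n34732
theorem D76005 : act 3 n34732 = n76005 := rfl
def n76007 : Q := act 5 n34732
theorem D76007 : act 5 n34732 = n76007 := rfl
def n76009 : Q := act 0 n34733
theorem D76009 : act 0 n34733 = n76009 := rfl
def n76010 : Q := act 1 n34733
theorem D76010 : act 1 n34733 = n76010 := rfl
def n76011 : Q := act 3 n34733
theorem D76011 : act 3 n34733 = n76011 := rfl
theorem F113891 : act 4 n76011 = n34747 := d5_2 D34733 D76011 (iv3 D34747) (iv4 D16830) (iv3 F27574)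
def n76012 : Q := act 5 n34733
theorem D76012 : act 5 n34733 = n76012 := rfl
theorem F113892 : act 1 n76012 = n38919 := d17_6 (iv1 F22091) F61600 (iv1 D16816) D16819 D34733 D76012 (iv5 D38919) F59763 (iv4 D27868)
theorem F113893 : act 1 n39544 = n76012 := d15_0 F113892 (iv7 F92545) F92544
def n76013 : Q := act 6 n34733
theorem D76013 : act 6 n34733 = n76013 := rfl
theorem F113894 : act 4 n76013 = n34734 := d10_1 D76013 (iv6 D34734) D34733
def n76014 : Q := act 0 n34734
theorem D76014 : act 0 n34734 = n76014 := rfl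
def n76015 : Q := act 1 n34734
theorem D76015 : act 1 n34734 = n76015 := rfl
def n76016 : Q := act 2 n34735
theorem D76016 : act 2 n34735 = n76016 := rfl
theorem F113896 : act 7 n34736 = n76016 := d15_2 (iv0 D34735) D34736 (iv2 D76016)
def n76017 : Q := act 3 n34735
theorem D76017 : act 3 n34735 = n76017 := rfl
def n76018 : Q := act 4 n34735
theorem D76018 : act 4 n34735 = n76018 := rfl
def n76019 : Q := act 5 n34735
theorem D76019 : act 5 n34735 = n76019 := rfl
def n76020 : Q := act 6 n34735
theorem D76020 : act 6 n34735 = n76020 := rfl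
theorem F113897 : act 5 n39572 = n76020 := d21_8 F113874 (iv1 F92717) (iv5 D58572) (iv6 D27867) (iv1 D13288) D13291 (iv5 F29981) D39572 (iv6 D76020) (iv1 F113880)
theorem E10275 : n39582 = n34732 := (c21_1 D39582 (iv1 D34732) (iv5 D16819) D16820 D34735 D76020 (iv5 F113897) (iv1 F60447) (iv5 F60427) (iv6 D39542) (iv1 F29984))
theorem E10276 : n76007 = n18739 := ((D76007).symm.trans (sb E10275 (iv5 D39582)))
theorem F113898 : act 5 n18739 = n34732 := (sb E10276 (iv5 D76007))
theorem F113899 : act 5 n76004 = n39579 := d2_2 F113898 (iv2 F113890) F60450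
theorem F113900 : act 5 n76005 = n39580 := d6_2 F113898 D76005 (iv3 D39580)
theorem F113901 : act 5 n75999 = n39574 := d13_3 (iv7 F60449) F113898 F113889
theorem F113902 : act 5 n75992 = n39555 := d17_7 (iv1 F29984) F113898 (iv1 D34732) (iv5 D16819) D16818 D34729 D75992 F60436 (iv4 D39541)
theorem E10277 : n39577 = n34731 := (c2_3 F113901 (iv2 D39574) D39577 D75999)
theorem E10278 : n76002 = n18738 := ((D76002).symm.trans (sb E10277 (iv5 D39577)))
theorem F113903 : act 5 n18738 = n34731 := (sb E10278 (iv5 D76002))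
theorem F113904 : act 5 n76000 = n39575 := d6_2 F113903 D76000 (iv3 D39575)
theorem F113905 : act 5 n76009 = n58584 := d17_1 D76009 (iv1 F92559) (iv5 D39539) (iv4 D18726) D18727 F29983 F113903 (iv0 D34731) D34733
def n76021 : Q := act 7 n34735
theorem D76021 : act 7 n34735 = n76021 := rfl
def n76022 : Q := act 3 n34736
theorem D76022 : act 3 n34736 = n76022 := rfl
def n76023 : Q := act 4 n34736
theorem D76023 : act 4 n34736 = n76023 := rfl
def n76024 : Q := act 5 n34736
theorem D76024 : act 5 n34736 = n76024 := rfl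
def n76025 : Q := act 6 n34736
theorem D76025 : act 6 n34736 = n76025 := rfl
def n76027 : Q := act 3 n34738
theorem D76027 : act 3 n34738 = n76027 := rfl
theorem F113908 : act 4 n76027 = n75921 := d20_6 F5582 D3559 D7848 D16824 D34738 D76027 (iv1 D75921) (iv4 D34698) (iv3 D16801) (iv1 D7843)
def n76028 : Q := act 4 n34738
theorem D76028 : act 4 n34738 = n76028 := rfl
theorem F113909 : act 0 n76028 = n75861 := d20_1 D76028 (iv4 D75861) (iv3 D34680) (iv1 D16793) F12396 F5582 D3559 D7848 D16824 D34738
def n76036 : Q := act 5 n34740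
theorem D76036 : act 5 n34740 = n76036 := rfl
theorem F113911 : act 2 n76036 = n34741 := d2_1 D76036 (iv5 D34741) D34740
def n76037 : Q := act 6 n34740
theorem D76037 : act 6 n34740 = n76037 := rfl
theorem F113912 : act 2 n76037 = n34742 := d3_1 D76037 (iv6 D34742) D34740
def n76038 : Q := act 0 n34741
theorem D76038 : act 0 n34741 = n76038 := rfl
def n76039 : Q := act 1 n34741
theorem D76039 : act 1 n34741 = n76039 := rfl
def n76040 : Q := act 4 n34741
theorem D76040 : act 4 n34741 = n76040 := rfl
def n76041 : Q := act 6 n34741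
theorem D76041 : act 6 n34741 = n76041 := rfl
theorem F113913 : act 3 n76041 = n34745 := d7_1 D76041 (iv6 D34745) (iv3 F54968)
def n76042 : Q := act 0 n34742
theorem D76042 : act 0 n34742 = n76042 := rfl
def n76043 : Q := act 1 n34742
theorem D76043 : act 1 n34742 = n76043 := rfl
def n76044 : Q := act 3 n34743
theorem D76044 : act 3 n34743 = n76044 := rfl
theorem F113914 : act 5 n76044 = n39621 := d6_2 (iv5 F54971) D76044 (iv3 D39621)
theorem F113915 : act 6 n76044 = n68359 := d7_2 F54972 D76044 (iv3 D68359)
def n76045 : Q := act 4 n34743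
theorem D76045 : act 4 n34743 = n76045 := rfl
theorem F113916 : act 2 n76045 = n75905 := d1_1 D76045 F113811 F60522
theorem F113917 : act 5 n76045 = n39420 := d9_2 (iv5 F54971) D76045 F60356 (iv5 F51979) F51978 (iv5 D27097) (iv4 F41780) D32536 D70133 F106519 F60353 F44975 F28996 F28941 F30379
theorem F113918 : act 6 n76045 = n68360 := d10_2 F54972 D76045 (iv4 D68360)
theorem F113919 : act 7 n76045 = n75904 := d11_2 F57122 D76045 F113805
theorem F113920 : act 0 n76045 = n55538 := d17_0 F87826 (iv1 F46267) D60430 F94947 F51951 (iv0 F30053) D16825 D34743 D76045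
theorem F113921 : act 1 n76045 = n55545 := d18_6 (iv1 F30424) F30425 F28942 F30379 (iv5 F54971) D76045 (iv4 D55545) (iv0 F60519) (iv5 D39636)
theorem F113922 : act 6 n39420 = n74053 := d21_3 (iv5 F87839) (iv1 F113921) F113917 (iv1 D74053) (iv6 D33983) (iv5 F25917) (iv1 F46274) (iv5 D28704) (iv6 F46265) F46266
theorem F113923 : act 2 n74053 = n70970 := d3_1 F113922 F107517 F60481
theorem F113924 : act 4 n74053 = n55259 := d10_1 F113922 (iv6 F87451) (iv4 F60356)
theorem F113925 : act 7 n70967 = n74053 := d11_0 F113924 (iv7 F87461) D70967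
theorem F113926 : act 0 n70856 = n54849 := d18_2 (iv1 F51987) D70856 F86792 F42484 (iv4 F53323) D74053 F113924 F87450 F52039
theorem E10279 : n54880 = n54740 := (c20_5 (iv4 F113924) (iv1 D74053) F53323 (iv3 F42499) D54880 (iv3 D54740) (iv4 F86032) (iv1 F86033) F52104 (iv3 F52038) (iv1 F87450))
theorem F113927 : act 1 n54740 = n26546 := (sb E10279 (iv0 D54880))
theorem E10280 : n55181 = n55017 := (c21_4 D26546 (iv1 F113927) F86567 (iv6 F87306) (iv1 D55017) (iv6 D26597) D26596 D55011 F87019 (iv6 D54879) (iv1 D26545))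
theorem F113928 : act 3 n55017 = n26666 := (sb E10280 (iv3 D55181))
theorem F113929 : act 6 n55017 = n39459 := (sb E10280 F87306)
theorem F113930 : act 7 n55017 = n33864 := (sb E10280 F87307)
theorem E10281 : n55016 = n54947 := ((c15_4 (iv0 D55016) D55017 F113930 (iv2 F86918))).symm
theorem F113931 : act 1 n54947 = n26597 := (sb E10281 (iv0 D55016))
theorem E10282 : n54871 = n12631 := (c20_6 D70856 F113926 F86792 F42483 D26544 D54871 F30384 (iv1 F9686) (iv4 F11711) (iv3 F25316) (iv1 F51987))
theorem E10283 : n26544 = n26465 := (((D26465).symm.trans (sb E10282 (iv3 D54871)))).symm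
theorem E10284 : n54833 = n54724 := (((D54724).symm.trans (sb E10283 (iv1 F86772)))).symm
theorem E10285 : n54725 = n12679 := ((D54725).symm.trans (sb E10283 (iv0 D26544)))
theorem E10289 : n54874 = n54729 := (((D54729).symm.trans (sb E10283 D54874))).symm
theorem E10291 : n33317 = n26545 := (((iv1 F86531)).symm.trans (sb E10284 (iv1 F86771)))
theorem F113932 : act 2 n54724 = n26547 := (sb E10284 F86769)
theorem F113933 : act 6 n54724 = n26526 := (sb E10284 (iv6 D54833))
theorem F113934 : act 7 n54724 = n26527 := (sb E10284 F86770)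
theorem F113935 : act 0 n12679 = n26465 := (sb E10285 (iv1 D54725))
theorem E10292 : n55093 = n54933 := (((iv5 F87130)).symm.trans (sb E10289 F86880))
theorem F113936 : act 1 n26545 = n54724 := (sb E10291 F86531)
theorem F113937 : act 2 n26545 = n16088 := (sb E10291 (iv2 D33317))
theorem E10293 : n54876 = n54735 := ((D54876).symm.trans (sb E10291 (iv3 F86554)))
theorem E10294 : n72174 = n54877 := (((D54877).symm.trans (sb E10291 D72174))).symm
theorem E10295 : n72175 = n54878 := (((D54878).symm.trans (sb E10291 D72175))).symm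
theorem E10296 : n72176 = n54879 := (((D54879).symm.trans (sb E10291 D72176))).symm
theorem F113938 : act 7 n26545 = n54726 := (sb E10291 (iv7 F86533))
theorem F113939 : act 3 n54933 = n26626 := (sb E10292 (iv3 D55093))
theorem F113940 : act 5 n54933 = n54729 := (sb E10292 F87130)
theorem F113941 : act 7 n54933 = n33812 := (sb E10292 F87131)
theorem F113942 : act 3 n54735 = n26545 := (sb E10293 (iv3 D54876))
theorem F113943 : act 2 n54877 = n33318 := (sb E10294 F108620)
theorem F113944 : act 2 n54878 = n33319 := (sb E10295 F108621)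
theorem F113945 : act 2 n54879 = n33320 := (sb E10296 F108622)
theorem E10297 : n73845 = n55011 := ((((iv5 F87019)).symm.trans (sb E10296 (iv5 F110628)))).symm
theorem F113946 : act 2 n55011 = n33913 := (sb E10297 (iv2 D73845))
theorem F113947 : act 1 n70851 = n54849 := d15_0 (iv0 F113926) F110566 (iv2 F110556)
theorem E10298 : n55172 = n55012 := ((c15_2 (iv0 D55011) D55012 F87277 (iv2 F113946))).symm
theorem F113948 : act 3 n55012 = n26661 := (sb E10298 (iv3 D55172))
theorem F113949 : act 5 n55012 = n69588 := (sb E10298 (iv5 F105879))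
theorem F113950 : act 6 n55012 = n32052 := (sb E10298 F87276)
theorem F113951 : act 7 n55012 = n33913 := (sb E10298 F87277)
theorem E10299 : n73568 = n54932 := (c15_4 (iv0 D54932) D54933 F113941 D73568)
theorem F113952 : act 2 n54932 = n33812 := (sb E10299 (iv2 D73568))
theorem F113953 : act 2 n70967 = n74052 := d15_3 (iv0 D74052) D74053 (iv7 F113925)
theorem F113954 : act 4 n74052 = n55258 := d1_2 D70967 F113953 F87460
theorem F113955 : act 7 n74052 = n70970 := d4_2 (iv7 F113925) F113953 (iv2 F113923)
theorem F113956 : act 1 n70967 = n55225 := d15_0 (iv0 F110805) (iv7 F113955) (iv2 F113953)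
theorem F113957 : act 0 n68360 = n69741 := d21_4 F54944 (iv1 F60355) (iv5 F113917) F113918 (iv6 D69741) (iv5 F51415) F51417 F50096 (iv6 F51949) (iv1 F54945)
def n76046 : Q := act 3 n34744
theorem D76046 : act 3 n34744 = n76046 := rfl
theorem F113958 : act 5 n76046 = n39486 := d6_2 (iv5 F54973) D76046 (iv3 D39486)
def n76047 : Q := act 6 n34744
theorem D76047 : act 6 n34744 = n76047 := rfl
theorem F113959 : act 4 n76047 = n34745 := d10_1 D76047 (iv6 D34745) D34744
theorem F113960 : act 0 n68767 = n76047 := d18_2 (iv1 D68766) D68767 F113959 (iv5 F77155) F77154 (iv0 F112130) F110639 F85957 F104962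
theorem F113961 : act 1 n68781 = n76047 := d18_6 (iv1 F41318) (iv4 F84718) (iv1 F84721) (iv4 F104978) D31995 D68781 F113959 (iv0 F77156) (iv5 D31871)
def n76048 : Q := act 7 n34745
theorem D76048 : act 7 n34745 = n76048 := rfl
theorem F113962 : act 2 n76048 = n68500 := d4_1 D76048 F104702 F87904
theorem F113963 : act 6 n76048 = n68339 := d14_1 D76048 F104527 (iv6 D55611) F43235 D34745
theorem F113964 : act 1 n53999 = n76048 := d15_1 (iv0 F87907) (iv7 D76048) (iv2 F87904)
theorem F113965 : act 1 n76048 = n54004 := d15_0 (iv0 F87906) (iv7 F104702) (iv2 F113962)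
def n76049 : Q := act 0 n34746
theorem D76049 : act 0 n34746 = n76049 := rfl
theorem F113966 : act 1 n37741 = n76049 := d15_0 (iv0 D76049) F54976 (iv2 F58599)
def n76050 : Q := act 1 n34746
theorem D76050 : act 1 n34746 = n76050 := rfl
def n76051 : Q := act 2 n34746
theorem D76051 : act 2 n34746 = n76051 := rfl
theorem F113967 : act 5 n76051 = n39233 := d2_2 (iv5 F54975) D76051 F60200
theorem F113968 : act 7 n76051 = n37741 := d4_2 (iv7 F54976) D76051 F58599
theorem F113970 : act 1 n76050 = n37741 := d15_1 D76050 (iv7 F113968) (iv2 D76051)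
def n76052 : Q := act 4 n34746
theorem D76052 : act 4 n34746 = n76052 := rfl
theorem F113972 : act 7 n76052 = n37745 := d11_2 (iv7 F54976) D76052 F58600
def n76056 : Q := act 4 n34748
theorem D76056 : act 4 n34748 = n76056 := rfl
theorem F113978 : act 7 n76056 = n37443 := d11_2 (iv7 F54977) D76056 F58343
def n76057 : Q := act 1 n34750
theorem D76057 : act 1 n34750 = n76057 := rfl
def n76058 : Q := act 4 n34750
theorem D76058 : act 4 n34750 = n76058 := rfl
theorem F113980 : act 0 n76058 = n36671 := d20_7 (iv4 F25204) (iv1 F30052) (iv4 D7853) D7852 D16837 D34750 D76058 (iv4 D36671) (iv3 D17671) (iv1 F13136)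
def n76060 : Q := act 0 n34751
theorem D76060 : act 0 n34751 = n76060 := rfl
theorem F113982 : act 1 n34756 = n76060 := d15_0 (iv0 D76060) F91488 (iv2 F91475)
theorem F113983 : act 4 n76060 = n36509 := d18_7 (iv1 F91425) (iv4 F60942) (iv1 F60557) (iv4 D18781) F91477 D34756 F113982 (iv0 D36509) (iv5 F43680)
theorem E10300 : n35284 = n35274 := (c20_4 D34751 D76060 F113983 (iv3 F112748) (iv1 F56003) F28073 (iv4 F25204) (iv1 F30052) (iv4 D7853) D7852 D16837)
theorem F113984 : act 2 n35274 = n17126 := (sb E10300 (iv2 D35284))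
theorem F113985 : act 3 n35274 = n36509 := (sb E10300 F112748)
theorem F113986 : act 7 n35274 = n17127 := (sb E10300 (iv7 F56010))
theorem E10301 : n35289 = n35275 := (c15_4 F55999 F56003 F113986 (iv2 F56012))
theorem F113987 : act 2 n35275 = n17127 := (sb E10301 F56012)
theorem E10302 : n45883 = n34597 := (((F56000).symm.trans (sb E10301 (iv3 F72468)))).symm
theorem F113988 : act 7 n35275 = n17126 := (sb E10301 (iv7 D35289))
theorem E10303 : n75647 = n21943 := (((iv2 F113492)).symm.trans (sb E10302 F72467))
theorem E10304 : n75336 = n16770 := ((((iv4 D34597)).symm.trans (sb E10302 (iv4 F112957)))).symm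
theorem E10305 : n75635 = n21942 := (((iv7 F113481)).symm.trans (sb E10302 (iv7 D45883)))
theorem F113989 : act 2 n21943 = n34597 := (sb E10303 F113492)
theorem E10306 : n34595 = n34489 := (((F59780).symm.trans (sb E10303 F113493))).symm
theorem E10307 : n45880 = n34592 := ((F72464).symm.trans (sb E10303 (iv7 D75647)))
theorem E10308 : n34590 = n34488 := ((F54863).symm.trans (sb E10304 (iv7 D75336)))
theorem F113990 : act 7 n21942 = n34597 := (sb E10305 F113481)
theorem F113991 : act 2 n34489 = n16770 := (sb E10306 F54864)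
theorem E10311 : n75644 = n75337 := (((D75337).symm.trans (sb E10306 (iv3 F113487)))).symm
theorem E10312 : n75652 = n75338 := (((D75338).symm.trans (sb E10306 (iv5 F113514)))).symm
theorem E10313 : n75657 = n75339 := (((D75339).symm.trans (sb E10306 D75657))).symm
theorem E10314 : n75332 = n16769 := ((F112953).symm.trans (sb E10306 (iv7 D34595)))
theorem F113992 : act 2 n34592 = n21942 := (sb E10307 (iv2 D45880))
theorem F113993 : act 7 n34592 = n21943 := (sb E10307 (iv7 F72464))
theorem E10315 : n75634 = n75333 := (((D75333).symm.trans (sb E10308 D75634))).symm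
theorem E10316 : n75636 = n75334 := (((D75334).symm.trans (sb E10308 D75636))).symm
theorem E10317 : n75637 = n75335 := (((D75335).symm.trans (sb E10308 D75637))).symm
theorem F113994 : act 7 n34488 = n16770 := (sb E10308 (iv7 F54863))
theorem F113995 : act 7 n75337 = n34591 := (sb E10311 (iv7 D75644))
theorem F113996 : act 2 n75338 = n34598 := (sb E10312 F113513)
theorem F113997 : act 7 n75338 = n34593 := (sb E10312 (iv7 D75652))
theorem F113998 : act 2 n75339 = n34599 := (sb E10313 F113521)
theorem F113999 : act 2 n16769 = n34488 := (sb E10314 (iv2 D75332))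
theorem F114000 : act 7 n16769 = n34489 := (sb E10314 (iv7 F112953))
theorem F114001 : act 7 n75333 = n34596 := (sb E10315 F113479)
theorem F114002 : act 2 n75334 = n34593 := (sb E10316 F113482)
theorem F114003 : act 7 n75334 = n34598 := (sb E10316 F113483)
theorem F114004 : act 2 n75335 = n34594 := (sb E10317 F113484)
theorem F114005 : act 2 n75646 = n45882 := d1_3 (iv4 F112954) F114004 (iv4 F113490)
theorem F114006 : act 2 n75655 = n38702 := d2_3 (iv5 F112955) F114004 D75655
theorem F114007 : act 2 n75665 = n45886 := d1_3 (iv4 F112958) F113998 (iv4 F113527)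
theorem F114008 : act 7 n36510 = n75198 := d8_2 F113993 (iv3 F91439) F112737
theorem F114009 : act 7 n45885 = n75645 := d13_2 F113993 D45885 (iv5 D75645)
theorem F114010 : act 7 n38677 = n75688 := d11_2 F114009 F113488 F113549
theorem F114011 : act 2 n75645 = n45881 := d15_3 (iv0 F72880) (iv0 F113070) F114009
theorem F114012 : act 2 n45885 = n75664 := d16_9 F113525 (iv5 D38682) D38681 F113512 (iv4 D75650) (iv5 D34593) D34592 D75645 (iv7 F114009)
theorem F114013 : act 2 n38682 = n75688 := d1_3 F113549 F114012 F113525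
theorem E10318 : n45895 = n36691 := ((c3_3 (iv6 F72470) F114012 F113526 (iv2 D45895))).symm
theorem F114014 : act 2 n36691 = n21947 := (sb E10318 (iv2 D45895))
theorem E10319 : n75685 = n75250 := (((F112798).symm.trans (sb E10318 (iv4 F113547)))).symm
theorem F114015 : act 7 n36691 = n21948 := (sb E10318 (iv7 F72490))
theorem F114016 : act 2 n75250 = n34605 := (sb E10319 (iv2 D75685))
theorem F114017 : act 7 n75250 = n34606 := (sb E10319 (iv7 F113548))
theorem F114018 : act 7 n75664 = n45881 := d4_2 (iv7 F114009) F114012 (iv2 F114011)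
theorem F114019 : act 7 n35287 = n36694 := d8_2 F114018 F72465 (iv3 F113524)
theorem E10320 : n75689 = n75251 := (c15_4 F112799 (iv0 F112794) F114017 (iv2 F113552))
theorem F114020 : act 2 n75251 = n34606 := (sb E10320 F113552)
theorem F114021 : act 4 n75251 = n45899 := (sb E10320 F113553)
theorem F114022 : act 7 n75251 = n34605 := (sb E10320 (iv7 D75689))
theorem F114023 : act 3 n45899 = n35306 := d20_3 (iv4 F54866) (iv1 F112799) F114021 (iv1 D35306) F28077 (iv4 F28095) D35321 F112814 (iv3 D75255) F54654
theorem F114024 : act 7 n35306 = n45849 := d8_2 D45899 F114023 F112809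
theorem F114025 : act 2 n45849 = n35305 := d15_3 (iv0 D35305) D35306 F114024
theorem F114026 : act 2 n35306 = n45850 := d15_3 F72406 F72411 (iv7 F114024)
theorem F114027 : act 7 n45850 = n35305 := d4_2 (iv7 F114024) F114026 (iv2 F114025)
theorem F114028 : act 3 n35305 = n36690 := d0_2 (iv3 F112809) F114025 (iv2 D36690) D36691 F114014
theorem E10321 : n45850 = n36696 := ((c8_4 F114027 F114028 (iv7 F57569) D36696)).symm
theorem F114029 : act 0 n36696 = n21931 := (sb E10321 (iv1 D45850))
theorem F114030 : act 1 n36696 = n35308 := (sb E10321 F72406)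
theorem F114031 : act 2 n36696 = n35306 := (sb E10321 (iv2 F114026))
theorem F114032 : act 7 n36696 = n35305 := (sb E10321 F114027)
theorem E10322 : n36695 = n36683 := ((c0_5 D36696 F114031 (iv3 F114023) F72491 (iv3 F71267) F57571)).symm
theorem F114033 : act 2 n36683 = n17685 := (sb E10322 F57571)
theorem F114034 : act 7 n36683 = n17684 := (sb E10322 (iv7 D36695))
theorem E10323 : n36690 = n36682 := (c15_4 (iv0 D36682) D36683 F114034 D36690)
theorem F114035 : act 2 n36682 = n17684 := (sb E10323 (iv2 D36690))
theorem F114036 : act 3 n36682 = n35305 := (sb E10323 (iv3 F114028))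
theorem F114037 : act 7 n36682 = n17685 := (sb E10323 (iv7 F57569))
theorem F114038 : act 2 n36694 = n35292 := d3_3 (iv6 F57559) F114035 D36694
theorem E10324 : n45899 = n41371 := (c15_4 F63793 (iv0 F112796) F114015 (iv2 F72491))
theorem F114039 : act 2 n41371 = n21948 := (sb E10324 F72491)
theorem F114040 : act 3 n41371 = n35306 := (sb E10324 F114023)
theorem F114041 : act 4 n41371 = n75251 := (sb E10324 (iv4 F114021))
theorem F114042 : act 7 n41371 = n21947 := (sb E10324 (iv7 D45899))
theorem E10325 : n38679 = n38221 := ((c2_3 D38682 F114013 F113550 F59487)).symm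
theorem F114043 : act 2 n38221 = n18400 := (sb E10325 F59487)
theorem F114044 : act 7 n38221 = n18399 := (sb E10325 (iv7 D38679))
theorem E10326 : n38674 = n38220 := (c15_4 (iv0 D38220) D38221 F114044 D38674)
theorem F114045 : act 2 n38220 = n18399 := (sb E10326 (iv2 D38674))
theorem F114046 : act 7 n38220 = n18400 := (sb E10326 (iv7 F59486))
theorem F114047 : act 2 n75198 = n36509 := d4_1 F114008 F112747 (iv2 F91438)
theorem E10327 : n75199 = n35290 := ((c15_4 F112739 (iv0 F112738) (iv7 F114008) F91438)).symm
theorem F114048 : act 0 n35290 = n34433 := (sb E10327 (iv1 D75199))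
theorem F114049 : act 1 n35290 = n36511 := (sb E10327 F112739)
def n76061 : Q := act 1 n34751
theorem D76061 : act 1 n34751 = n76061 := rfl
theorem F114050 : act 1 n76061 = n34756 := d15_1 D76061 F91476 (iv2 F91487)
theorem F114051 : act 4 n76061 = n36510 := d18_7 (iv1 F91423) (iv4 F61122) (iv1 D39663) (iv4 D18776) F91489 D34751 D76061 F112745 F112743
def n76069 : Q := act 3 n34756
theorem D76069 : act 3 n34756 = n76069 := rfl
def n76070 : Q := act 5 n34756
theorem D76070 : act 5 n34756 = n76070 := rfl
def n76071 : Q := act 6 n34756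
theorem D76071 : act 6 n34756 = n76071 := rfl
theorem F114055 : act 4 n76071 = n34758 := d10_1 D76071 (iv6 D34758) D34756
def n76073 : Q := act 3 n34759
theorem D76073 : act 3 n34759 = n76073 := rfl
def n76074 : Q := act 5 n34759
theorem D76074 : act 5 n34759 = n76074 := rfl
theorem F114057 : act 2 n76074 = n34765 := d2_1 D76074 (iv5 D34765) (iv2 F54980)
def n76075 : Q := act 6 n34759
theorem D76075 : act 6 n34759 = n76075 := rfl
theorem F114058 : act 2 n76075 = n34766 := d3_1 D76075 (iv6 D34766) (iv2 F54980)
theorem F114059 : act 4 n76075 = n34761 := d10_1 D76075 (iv6 D34761) D34759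
def n76076 : Q := act 4 n34760
theorem D76076 : act 4 n34760 = n76076 := rfl
theorem F114060 : act 2 n76076 = n34769 := d1_1 D76076 (iv4 D34769) (iv2 F54981)
theorem F114061 : act 6 n76076 = n37584 := d10_2 F55853 D76076 (iv4 F91502)
def n76077 : Q := act 0 n34761
theorem D76077 : act 0 n34761 = n76077 := rfl
def n76078 : Q := act 1 n34761
theorem D76078 : act 1 n34761 = n76078 := rfl
theorem F114062 : act 1 n76078 = n34773 := d15_1 D76078 (iv7 D34773) (iv2 F54982)
def n76079 : Q := act 5 n34761
theorem D76079 : act 5 n34761 = n76079 := rfl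
theorem F114063 : act 2 n76079 = n34772 := d2_1 D76079 (iv5 D34772) (iv2 F54982)
def n76080 : Q := act 7 n34761
theorem D76080 : act 7 n34761 = n76080 := rfl
theorem F114064 : act 2 n76080 = n34773 := d4_1 D76080 (iv7 D34773) (iv2 F54982)
theorem F114065 : act 1 n34773 = n76077 := d15_0 (iv0 D76077) D76080 F114064
theorem F114067 : act 6 n58519 = n76077 := d21_3 D18785 (iv1 F44958) D58519 (iv1 F114065) (iv6 F87890) F87889 (iv1 F92392) (iv5 D58487) (iv6 D27831) (iv1 F22070)
theorem E10328 : n55571 = n39726 := ((c21_1 D39726 (iv1 F87882) (iv5 D34760) D34761 D76077 (iv6 F114067) (iv5 D58519) (iv1 D27844) (iv5 D13281) F13684 D18792)).symm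
theorem F114068 : act 0 n39726 = n34760 := (sb E10328 (iv1 F87882))
theorem F114069 : act 1 n39726 = n26825 := (sb E10328 (iv0 D55571))
theorem F114070 : act 1 n76080 = n34770 := d15_0 (iv0 D34770) D34773 (iv2 F114064)
def n76081 : Q := act 5 n34763
theorem D76081 : act 5 n34763 = n76081 := rfl
theorem F114071 : act 7 n76081 = n37590 := d13_2 (iv7 F91397) D76081 (iv5 D37590)
theorem F114072 : act 0 n76081 = n39736 := d17_2 (iv1 F87866) D76081 (iv5 D39736) (iv4 D18794) (iv5 D8807) D8804 F91477 F43187 D55563
def n76082 : Q := act 0 n34764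
theorem D76082 : act 0 n34764 = n76082 := rfl
def n76083 : Q := act 1 n34764
theorem D76083 : act 1 n34764 = n76083 := rfl
def n76084 : Q := act 2 n34764
theorem D76084 : act 2 n34764 = n76084 := rfl
theorem F114073 : act 4 n76084 = n34776 := d1_2 (iv4 F54983) D76084 (iv2 D34776)
def n76085 : Q := act 5 n34764
theorem D76085 : act 5 n34764 = n76085 := rfl
theorem F114074 : act 3 n76085 = n34765 := d6_1 D76085 (iv5 D34765) D34764
def n76086 : Q := act 6 n34764
theorem D76086 : act 6 n34764 = n76086 := rfl
theorem F114075 : act 3 n76086 = n34766 := d7_1 D76086 (iv6 D34766) D34764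
theorem F114076 : act 4 n76086 = n34778 := d10_1 D76086 (iv6 D34778) (iv4 F54983)
def n76087 : Q := act 0 n34765
theorem D76087 : act 0 n34765 = n76087 := rfl
def n76088 : Q := act 1 n34765
theorem D76088 : act 1 n34765 = n76088 := rfl
def n76089 : Q := act 4 n34765
theorem D76089 : act 4 n34765 = n76089 := rfl
def n76090 : Q := act 6 n34765
theorem D76090 : act 6 n34765 = n76090 := rfl
def n76091 : Q := act 0 n34766
theorem D76091 : act 0 n34766 = n76091 := rfl
def n76092 : Q := act 1 n34766
theorem D76092 : act 1 n34766 = n76092 := rfl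
theorem F114077 : act 4 n56466 = n76092 := d20_6 (iv4 F52377) F85660 F85656 (iv3 F91307) (iv1 D56480) (iv3 F89333) (iv1 D76092) F54984 F27590 D16847
theorem F114078 : act 6 n76092 = n37516 := d10_2 D56466 F114077 F58397
theorem F114079 : act 2 n37601 = n76092 := d3_3 F114078 F91563 D37601
theorem F114080 : act 5 n76092 = n57984 := d21_6 (iv5 F21997) (iv1 F29170) (iv5 D18006) D18007 D37516 (iv6 F114078) (iv1 D57984) (iv5 D27663) (iv6 D13208) D13205
def n76093 : Q := act 5 n34766
theorem D76093 : act 5 n34766 = n76093 := rfl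
def n76094 : Q := act 7 n34766
theorem D76094 : act 7 n34766 = n76094 := rfl
theorem F114081 : act 4 n76094 = n34773 := d11_1 D76094 (iv7 D34773) (iv4 F54984)
def n76095 : Q := act 2 n34767
theorem D76095 : act 2 n34767 = n76095 := rfl
theorem F114082 : act 7 n34768 = n76095 := d15_2 (iv0 D34767) D34768 (iv2 D76095)
def n76096 : Q := act 3 n34767
theorem D76096 : act 3 n34767 = n76096 := rfl
def n76097 : Q := act 4 n34767
theorem D76097 : act 4 n34767 = n76097 := rfl
def n76098 : Q := act 5 n34767
theorem D76098 : act 5 n34767 = n76098 := rfl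
def n76099 : Q := act 6 n34767
theorem D76099 : act 6 n34767 = n76099 := rfl
def n76100 : Q := act 7 n34767
theorem D76100 : act 7 n34767 = n76100 := rfl
theorem F114083 : act 2 n76100 = n34768 := d4_1 D76100 F114082 (iv2 D76095)
def n76101 : Q := act 3 n34768
theorem D76101 : act 3 n34768 = n76101 := rfl
def n76102 : Q := act 4 n34768
theorem D76102 : act 4 n34768 = n76102 := rfl
def n76103 : Q := act 5 n34768
theorem D76103 : act 5 n34768 = n76103 := rfl
def n76104 : Q := act 6 n34768
theorem D76104 : act 6 n34768 = n76104 := rfl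
def n76105 : Q := act 0 n34769
theorem D76105 : act 0 n34769 = n76105 := rfl
def n76106 : Q := act 1 n34769
theorem D76106 : act 1 n34769 = n76106 := rfl
def n76107 : Q := act 3 n34769
theorem D76107 : act 3 n34769 = n76107 := rfl
theorem F114084 : act 4 n76107 = n34781 := d5_2 D34769 D76107 (iv3 D34781) (iv4 D16846) (iv3 F27589)
theorem F114085 : act 6 n76107 = n69838 := d7_2 F55858 D76107 F106261
def n76108 : Q := act 5 n34769
theorem D76108 : act 5 n34769 = n76108 := rfl
theorem F114086 : act 1 n76108 = n39708 := d17_6 (iv1 F22075) F91477 (iv1 D16838) D16841 D34769 D76108 (iv5 D39708) F44945 (iv4 D27837)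
theorem F114087 : act 0 n76108 = n39108 := d21_7 F21988 (iv1 D10653) D10655 D22395 (iv1 F91296) F55858 D76108 (iv5 D39108) (iv6 D18568) (iv1 F21990)
def n76109 : Q := act 2 n34770
theorem D76109 : act 2 n34770 = n76109 := rfl
theorem F114088 : act 7 n34771 = n76109 := d15_2 (iv0 D34770) D34771 (iv2 D76109)
def n76110 : Q := act 3 n34770
theorem D76110 : act 3 n34770 = n76110 := rfl
def n76111 : Q := act 4 n34770
theorem D76111 : act 4 n34770 = n76111 := rfl
def n76112 : Q := act 5 n34770
theorem D76112 : act 5 n34770 = n76112 := rfl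
def n76113 : Q := act 6 n34770
theorem D76113 : act 6 n34770 = n76113 := rfl
def n76114 : Q := act 7 n34770
theorem D76114 : act 7 n34770 = n76114 := rfl
theorem F114089 : act 2 n76114 = n34771 := d4_1 D76114 F114088 (iv2 D76109)
def n76115 : Q := act 3 n34771
theorem D76115 : act 3 n34771 = n76115 := rfl
def n76116 : Q := act 4 n34771
theorem D76116 : act 4 n34771 = n76116 := rfl
def n76117 : Q := act 5 n34771
theorem D76117 : act 5 n34771 = n76117 := rfl
def n76118 : Q := act 6 n34771
theorem D76118 : act 6 n34771 = n76118 := rfl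
def n76119 : Q := act 0 n34772
theorem D76119 : act 0 n34772 = n76119 := rfl
def n76120 : Q := act 1 n34772
theorem D76120 : act 1 n34772 = n76120 := rfl
theorem F114090 : act 5 n39746 = n76120 := d21_6 (iv5 F91489) (iv1 F22073) D27838 (iv6 F60574) (iv1 F60577) D39746 (iv1 D76120) (iv5 D34772) (iv6 D16842) D16837
def n76121 : Q := act 4 n34772
theorem D76121 : act 4 n34772 = n76121 := rfl
def n76123 : Q := act 3 n34774
theorem D76123 : act 3 n34774 = n76123 := rfl
theorem F114092 : act 4 n76123 = n75897 := d20_6 F21284 (iv1 F9428) D7853 D16843 D34774 D76123 (iv1 D75897) (iv4 D34691) (iv3 D16797) (iv1 F21288)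
def n76128 : Q := act 3 n34775
theorem D76128 : act 3 n34775 = n76128 := rfl
theorem F114094 : act 4 n75843 = n76128 := d20_2 D34676 D75843 (iv3 D76128) (iv1 D34775) (iv3 D16843) (iv4 D7853) (iv1 D3560) (iv4 F5582) (iv3 F12396) D16792
def n76132 : Q := act 5 n34776
theorem D76132 : act 5 n34776 = n76132 := rfl
theorem F114095 : act 2 n76132 = n34777 := d2_1 D76132 (iv5 D34777) D34776
def n76133 : Q := act 6 n34776
theorem D76133 : act 6 n34776 = n76133 := rfl
theorem F114096 : act 2 n76133 = n34778 := d3_1 D76133 (iv6 D34778) D34776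
def n76134 : Q := act 0 n34777
theorem D76134 : act 0 n34777 = n76134 := rfl
def n76135 : Q := act 1 n34777
theorem D76135 : act 1 n34777 = n76135 := rfl
def n76136 : Q := act 4 n34777
theorem D76136 : act 4 n34777 = n76136 := rfl
def n76137 : Q := act 6 n34777
theorem D76137 : act 6 n34777 = n76137 := rfl
theorem F114097 : act 3 n76137 = n34780 := d7_1 D76137 (iv6 D34780) (iv3 F54987)
def n76138 : Q := act 0 n34778
theorem D76138 : act 0 n34778 = n76138 := rfl
def n76139 : Q := act 1 n34778
theorem D76139 : act 1 n34778 = n76139 := rfl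
def n76140 : Q := act 3 n34779
theorem D76140 : act 3 n34779 = n76140 := rfl
theorem F114098 : act 5 n76140 = n39484 := d6_2 (iv5 F54989) D76140 (iv3 D39484)
def n76141 : Q := act 6 n34779
theorem D76141 : act 6 n34779 = n76141 := rfl
theorem F114099 : act 4 n76141 = n34780 := d10_1 D76141 (iv6 D34780) D34779
theorem F114100 : act 0 n68348 = n76141 := d21_4 (iv5 F50100) (iv1 F84968) F84970 D68348 (iv6 D76141) F54989 (iv1 F44937) F44935 F27564 F26929
def n76142 : Q := act 0 n34780
theorem D76142 : act 0 n34780 = n76142 := rfl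
theorem F114101 : act 6 n76142 = n68346 := d21_5 F51951 (iv1 F30052) D16844 D34780 D76142 F104532 (iv1 F86090) (iv5 F86092) (iv6 D39644) (iv1 F51953)
theorem F114102 : act 5 n76142 = n49031 := d21_0 (iv1 D49031) D49034 (iv6 F103949) F109836 F104737 F51951 (iv1 F30052) D16844 D34780 D76142
theorem F114103 : act 2 n60365 = n76142 := d15_3 (iv0 D76142) (iv0 F54990) (iv7 F110498)
theorem F114104 : act 7 n76142 = n53882 := d4_2 (iv7 F110498) F114103 F84961
theorem F114105 : act 1 n60365 = n55611 := d15_0 (iv0 F87964) (iv7 F114104) (iv2 F114103)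
theorem F114106 : act 5 n70962 = n55611 := d21_0 (iv1 F114105) (iv5 D60365) (iv6 F110499) (iv1 F85727) D70425 (iv5 F107491) (iv1 F107497) (iv5 D32866) D32867 D70962
theorem F114107 : act 2 n70494 = n70962 := d2_3 F114106 F87963 (iv5 F106946)
theorem F114108 : act 6 n35663 = n70962 := d12_0 F114106 (iv6 D55611) (iv5 D26843) D26844 (iv5 F56332)
theorem F114109 : act 7 n70388 = n70962 := d13_0 F114106 (iv7 F104527) (iv5 F106868)
theorem E10329 : n71065 = n70424 := ((c21_1 D70424 (iv1 D71065) (iv5 F56344) (iv6 D35666) D35663 F114108 F114106 (iv1 F114105) (iv5 D60365) (iv6 F110499) (iv1 F85727))).symm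
theorem F114110 : act 0 n70424 = n32907 := (sb E10329 (iv1 D71065))
theorem E10330 : n70458 = n70425 := (c21_5 F56332 (iv1 F51771) (iv5 D32696) D32697 D70458 (iv6 D70425) D70424 F114110 (iv5 F56344) (iv6 D35666) D35663)
theorem F114111 : act 1 n70425 = n32697 := (sb E10330 (iv0 D70458))
theorem E10331 : n70963 = n70871 := (c15_2 (iv0 D70962) D70963 F107364 F114107)
theorem F114112 : act 0 n70871 = n32867 := (sb E10331 (iv1 D70963))
theorem F114113 : act 1 n68339 = n76142 := d15_1 D68339 F114104 F84961
def n76143 : Q := act 7 n34780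
theorem D76143 : act 7 n34780 = n76143 := rfl
theorem F114114 : act 2 n76143 = n68339 := d4_1 D76143 F104527 F87963
theorem F114115 : act 5 n76143 = n70871 := d13_1 D76143 F107364 F106946
theorem F114116 : act 6 n76143 = n68500 := d14_1 D76143 F104702 (iv6 D55584) F43181 D34780
theorem F114117 : act 1 n53882 = n76143 := d15_1 (iv0 F87964) (iv7 D76143) (iv2 F87963)
theorem F114118 : act 1 n76143 = n60365 := d15_1 F114117 F110498 (iv2 F84961)
def n76144 : Q := act 0 n34781
theorem D76144 : act 0 n34781 = n76144 := rfl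
def n76145 : Q := act 1 n34781
theorem D76145 : act 1 n34781 = n76145 := rfl
def n76146 : Q := act 2 n34781
theorem D76146 : act 2 n34781 = n76146 := rfl
theorem F114119 : act 3 n76146 = n70368 := d0_2 D34781 D76146 F109879 (iv3 D55612) F43238
theorem F114120 : act 6 n76146 = n69837 := d3_2 (iv6 F54991) D76146 (iv2 D69837)
def n76147 : Q := act 0 n34782
theorem D76147 : act 0 n34782 = n76147 := rfl
theorem F114121 : act 1 n37711 = n76147 := d15_0 (iv0 D76147) F54993 (iv2 F58573)
def n76149 : Q := act 2 n34782
theorem D76149 : act 2 n34782 = n76149 := rfl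
theorem F114122 : act 5 n76149 = n58091 := d2_2 (iv5 F54992) D76149 (iv2 D58091)
theorem F114123 : act 7 n76149 = n37711 := d4_2 (iv7 F54993) D76149 F58573
theorem F114124 : act 1 n76149 = n37720 := d15_0 (iv0 D37720) (iv7 F54993) D76149
theorem F114126 : act 1 n37721 = n76149 := d15_1 D37721 F114123 F58573
def n76150 : Q := act 4 n34782
theorem D76150 : act 4 n34782 = n76150 := rfl
theorem F114127 : act 3 n76150 = n73646 := d5_1 D76150 (iv4 D73646) F85912 F52377 D34782
theorem F114128 : act 7 n76150 = n37715 := d11_2 (iv7 F54993) D76150 F58574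
def n76151 : Q := act 3 n34783
theorem D76151 : act 3 n34783 = n76151 := rfl
def n76152 : Q := act 5 n34783
theorem D76152 : act 5 n34783 = n76152 := rfl
theorem F114129 : act 0 n76152 = n35724 := d17_2 (iv1 F54995) D76152 (iv5 D35724) (iv4 D17313) D17314 (iv0 F43462) (iv5 F43434) (iv0 D26935) D26937
theorem F114130 : act 1 n76152 = n35731 := d17_6 (iv1 F22015) (iv5 F22016) F29760 D16849 D34783 D76152 (iv5 D35731) F41763 F29793
def n76153 : Q := act 3 n34784
theorem D76153 : act 3 n34784 = n76153 := rfl
theorem F114131 : act 6 n76153 = n39782 := d7_2 (iv6 F54996) D76153 (iv3 D39782)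
theorem F114132 : act 7 n76153 = n34806 := d8_2 (iv7 F54997) D76153 (iv3 D34806)
def n76157 : Q := act 5 n34787
theorem D76157 : act 5 n34787 = n76157 := rfl
theorem F114133 : act 2 n76157 = n34789 := d2_1 D76157 (iv5 D34789) D34787
def n76158 : Q := act 5 n34788
theorem D76158 : act 5 n34788 = n76158 := rfl
def n76159 : Q := act 0 n34789
theorem D76159 : act 0 n34789 = n76159 := rfl
def n76160 : Q := act 1 n34789
theorem D76160 : act 1 n34789 = n76160 := rfl
def n76161 : Q := act 4 n34789
theorem D76161 : act 4 n34789 = n76161 := rfl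
def n76162 : Q := act 3 n34790
theorem D76162 : act 3 n34790 = n76162 := rfl
def n76163 : Q := act 5 n34790
theorem D76163 : act 5 n34790 = n76163 := rfl
theorem F114134 : act 1 n76163 = n35264 := d17_6 (iv1 D16862) (iv5 D7859) D7857 D16855 D34790 D76163 (iv5 D35264) (iv0 F55006) (iv4 D34802)
def n76164 : Q := act 3 n34791
theorem D76164 : act 3 n34791 = n76164 := rfl
def n76165 : Q := act 4 n34791
theorem D76165 : act 4 n34791 = n76165 := rfl
def n76167 : Q := act 5 n34793
theorem D76167 : act 5 n34793 = n76167 := rfl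
theorem F114135 : act 2 n76167 = n34795 := d2_1 D76167 (iv5 D34795) D34793
def n76168 : Q := act 6 n34793
theorem D76168 : act 6 n34793 = n76168 := rfl
theorem F114136 : act 2 n76168 = n34796 := d3_1 D76168 (iv6 D34796) D34793
def n76169 : Q := act 5 n34794
theorem D76169 : act 5 n34794 = n76169 := rfl
def n76170 : Q := act 6 n34794
theorem D76170 : act 6 n34794 = n76170 := rfl
theorem F114137 : act 4 n76170 = n34796 := d10_1 D76170 (iv6 D34796) D34794
def n76171 : Q := act 0 n34795
theorem D76171 : act 0 n34795 = n76171 := rfl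
theorem F114138 : act 5 n76171 = n39741 := d21_2 D34795 D76171 (iv6 D39741) (iv1 F60578) F60574 (iv5 D27838) (iv1 F22075) F91477 D34758 F91478
def n76172 : Q := act 1 n34795
theorem D76172 : act 1 n34795 = n76172 := rfl
def n76173 : Q := act 4 n34795
theorem D76173 : act 4 n34795 = n76173 := rfl
def n76174 : Q := act 0 n34796
theorem D76174 : act 0 n34796 = n76174 := rfl
def n76175 : Q := act 1 n34796
theorem D76175 : act 1 n34796 = n76175 := rfl
def n76176 : Q := act 3 n34797
theorem D76176 : act 3 n34797 = n76176 := rfl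
def n76177 : Q := act 5 n34797
theorem D76177 : act 5 n34797 = n76177 := rfl
theorem F114139 : act 0 n76177 = n35264 := d17_2 F56407 D76177 (iv5 D35264) (iv4 D17115) (iv5 D8005) D8004 D17111 (iv0 F30430) D35717
theorem E10332 : n55960 = n35796 := ((c21_5 F22120 (iv1 F21426) F21424 D17343 D35796 F88558 D76177 F114139 (iv5 D35264) F28053 (iv1 F22123))).symm
theorem F114140 : act 2 n35796 = n35903 := (sb E10332 F88557)
theorem F114141 : act 4 n35796 = n26983 := (sb E10332 (iv4 D55960))
theorem F114142 : act 6 n35796 = n34797 := (sb E10332 F88558)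
theorem F114143 : act 7 n35796 = n35906 := (sb E10332 F88559)
theorem E10333 : n55963 = n35797 := (c15_4 F88462 F88463 F114143 (iv2 F88568))
theorem F114144 : act 2 n35797 = n35906 := (sb E10333 F88568)
theorem F114145 : act 4 n35797 = n26984 := (sb E10333 (iv4 D55963))
theorem F114146 : act 6 n35797 = n39024 := (sb E10333 F88569)
theorem F114147 : act 7 n35797 = n35903 := (sb E10333 F88570)
def n76180 : Q := act 2 n34798
theorem D76180 : act 2 n34798 = n76180 := rfl
def n76181 : Q := act 4 n34798
theorem D76181 : act 4 n34798 = n76181 := rfl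
def n76182 : Q := act 6 n34798
theorem D76182 : act 6 n34798 = n76182 := rfl
theorem F114149 : act 5 n76182 = n37181 := d12_1 D76182 (iv6 F89849) (iv5 F92016) F92017 F60053
def n76183 : Q := act 3 n34799
theorem D76183 : act 3 n34799 = n76183 := rfl
def n76184 : Q := act 5 n34799
theorem D76184 : act 5 n34799 = n76184 := rfl
def n76185 : Q := act 6 n34799
theorem D76185 : act 6 n34799 = n76185 := rfl
theorem F114150 : act 4 n76185 = n34800 := d10_1 D76185 (iv6 D34800) D34799
theorem F114151 : act 0 n56209 = n76185 := d18_2 (iv1 F56414) (iv4 F88910) F114150 F55002 (iv4 F67514) F58063 F58060 F29032 (iv5 F56413)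
theorem F114152 : act 1 n35732 = n76185 := d15_0 (iv0 F114151) F88911 F60069
def n76186 : Q := act 0 n34801
theorem D76186 : act 0 n34801 = n76186 := rfl
def n76187 : Q := act 1 n34801
theorem D76187 : act 1 n34801 = n76187 := rfl
def n76188 : Q := act 2 n34801
theorem D76188 : act 2 n34801 = n76188 := rfl
theorem F114153 : act 5 n76188 = n58639 := d2_2 (iv5 F55005) D76188 F92618
def n76189 : Q := act 4 n34801
theorem D76189 : act 4 n34801 = n76189 := rfl
def n76190 : Q := act 6 n34801
theorem D76190 : act 6 n34801 = n76190 := rfl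
theorem F114155 : act 5 n76190 = n58647 := d12_1 D76190 (iv6 D58647) (iv5 D27890) D27891 (iv5 F55005)
def n76191 : Q := act 3 n34802
theorem D76191 : act 3 n34802 = n76191 := rfl
def n76192 : Q := act 5 n34802
theorem D76192 : act 5 n34802 = n76192 := rfl
def n76193 : Q := act 6 n34802
theorem D76193 : act 6 n34802 = n76193 := rfl
theorem F114156 : act 4 n76193 = n34803 := d10_1 D76193 (iv6 D34803) D34802
def n76194 : Q := act 7 n34803
theorem D76194 : act 7 n34803 = n76194 := rfl
theorem F114157 : act 5 n76194 = n43118 := d13_1 D76194 F67525 (iv5 F55007)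
theorem F114158 : act 6 n76194 = n37179 := d14_1 D76194 F58126 (iv6 D35159) F44667 D34803
theorem F114159 : act 1 n39911 = n76194 := d15_1 (iv0 F60725) (iv7 D76194) (iv2 F55892)
theorem F114160 : act 0 n58721 = n76194 := d21_4 (iv5 F43557) D39845 F92711 (iv6 F92791) F114158 (iv5 D37179) (iv1 F29053) (iv5 F32278) F32279 (iv1 F43554)
def n76195 : Q := act 3 n34804
theorem D76195 : act 3 n34804 = n76195 := rfl
def n76196 : Q := act 5 n34804
theorem D76196 : act 5 n34804 = n76196 := rfl
theorem F114161 : act 4 n76196 = n73882 := d16_2 (iv4 F55008) D76196 (iv5 D73882) (iv4 D33929) (iv5 D16403) (iv4 F25886) F28960 (iv7 F53086) (iv2 F53085)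
def n76197 : Q := act 6 n34804
theorem D76197 : act 6 n34804 = n76197 := rfl
theorem F114162 : act 4 n76197 = n36339 := d10_1 D76197 F57084 (iv4 F55008)
theorem F114163 : act 0 n39219 = n76197 := d18_2 F58127 (iv4 F60189) F114162 F57085 D37132 F67503 F58082 F29053 D37179
def n76198 : Q := act 3 n34805
theorem D76198 : act 3 n34805 = n76198 := rfl
def n76199 : Q := act 5 n34805
theorem D76199 : act 5 n34805 = n76199 := rfl
def n76200 : Q := act 6 n34805
theorem D76200 : act 6 n34805 = n76200 := rfl
theorem F114165 : act 4 n76200 = n36435 := d10_1 D76200 (iv6 D36435) (iv4 F55009)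
def n76201 : Q := act 0 n34806
theorem D76201 : act 0 n34806 = n76201 := rfl
def n76202 : Q := act 1 n34806
theorem D76202 : act 1 n34806 = n76202 := rfl
def n76203 : Q := act 2 n34806
theorem D76203 : act 2 n34806 = n76203 := rfl
theorem F114166 : act 6 n76203 = n34810 := d3_2 (iv6 F55010) D76203 (iv2 D34810)
def n76204 : Q := act 5 n34806
theorem D76204 : act 5 n34806 = n76204 := rfl
theorem F114167 : act 3 n76204 = n34807 := d6_1 D76204 (iv5 D34807) D34806
theorem F114168 : act 6 n76204 = n58702 := d12_2 (iv6 F55010) D76204 (iv5 D58702) F45069 (iv5 F27600)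
def n76205 : Q := act 0 n34807
theorem D76205 : act 0 n34807 = n76205 := rfl
theorem F114169 : act 5 n76205 = n36705 := d17_3 (iv1 D34805) D34807 D76205 (iv4 D36705) (iv5 D17690) (iv0 D8329) (iv5 F13036) D17591 (iv4 F55009)
def n76206 : Q := act 1 n34807
theorem D76206 : act 1 n34807 = n76206 := rfl
theorem F114170 : act 5 n76206 = n36712 := d17_7 F44694 (iv5 D16859) (iv1 D7858) D7859 D16863 D34807 D76206 (iv0 F91871) (iv4 D58088)
theorem E10334 : n55955 = n55912 := (c21_5 F12895 (iv1 F12907) (iv5 F21451) D26982 D55955 F88465 (iv5 F114170) (iv1 D76206) (iv5 D34807) F27599 (iv1 F12897))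
theorem F114171 : act 0 n55912 = n35901 := (sb E10334 (iv1 F88552))
theorem F114172 : act 1 n55912 = n26982 := (sb E10334 (iv0 D55955))
theorem E10335 : n55956 = n55915 := (c15_2 F114172 D55956 F88475 (iv2 F88464))
theorem F114173 : act 0 n55915 = n26982 := (sb E10335 (iv1 D55956))
theorem F114174 : act 1 n55915 = n35901 := (sb E10335 F88546)
def n76207 : Q := act 2 n34808
theorem D76207 : act 2 n34808 = n76207 := rfl
theorem F114175 : act 7 n34809 = n76207 := d15_2 (iv0 D34808) D34809 (iv2 D76207)
def n76208 : Q := act 3 n34808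
theorem D76208 : act 3 n34808 = n76208 := rfl
def n76209 : Q := act 4 n34808
theorem D76209 : act 4 n34808 = n76209 := rfl
def n76210 : Q := act 5 n34808
theorem D76210 : act 5 n34808 = n76210 := rfl
def n76211 : Q := act 6 n34808
theorem D76211 : act 6 n34808 = n76211 := rfl
def n76212 : Q := act 7 n34808
theorem D76212 : act 7 n34808 = n76212 := rfl
theorem F114176 : act 2 n76212 = n34809 := d4_1 D76212 F114175 (iv2 D76207)
def n76213 : Q := act 3 n34809
theorem D76213 : act 3 n34809 = n76213 := rfl
def n76214 : Q := act 4 n34809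
theorem D76214 : act 4 n34809 = n76214 := rfl
def n76215 : Q := act 5 n34809
theorem D76215 : act 5 n34809 = n76215 := rfl
def n76216 : Q := act 6 n34809
theorem D76216 : act 6 n34809 = n76216 := rfl
def n76217 : Q := act 0 n34811
theorem D76217 : act 0 n34811 = n76217 := rfl
theorem F114177 : act 5 n76217 = n49210 := d17_3 F42250 D34811 D76217 F77709 (iv5 F52148) (iv0 F86387) (iv5 D54640) (iv0 F42228) (iv4 F42249)
theorem F114178 : act 1 n72089 = n76217 := d15_0 (iv0 D76217) (iv7 F86492) (iv2 F108547)
theorem F114179 : act 3 n49212 = n76217 := d6_3 F114177 F77708 D49212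
theorem F114180 : act 7 n59807 = n76217 := d13_0 F114177 F77710 D59807
def n76218 : Q := act 1 n34811
theorem D76218 : act 1 n34811 = n76218 := rfl
theorem F114181 : act 1 n76218 = n72089 := d15_1 D76218 F108549 F86489
theorem F114182 : act 5 n59805 = n76218 := d21_6 (iv5 F51468) (iv1 F55184) (iv5 D34888) D34889 (iv1 F55190) D59805 (iv1 D76218) (iv5 D34811) (iv6 D16867) D16865
theorem F114183 : act 2 n76218 = n59807 := d2_1 F114182 (iv5 D59807) (iv2 F94168)
def n76219 : Q := act 4 n34811
theorem D76219 : act 4 n34811 = n76219 := rfl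
def n76220 : Q := act 1 n34813
theorem D76220 : act 1 n34813 = n76220 := rfl
theorem F114184 : act 1 n76220 = n34814 := d15_1 D76220 F55024 (iv2 F55021)
theorem F114185 : act 7 n76220 = n53081 := d15_2 F55307 D76220 (iv2 F83779)
theorem F114186 : act 5 n76220 = n53100 := d17_7 D28705 F46276 F27698 (iv5 D16896) (iv4 F27612) D34813 D76220 F83807 (iv4 D28706)
theorem F114187 : act 2 n53082 = n76220 := d2_3 F114186 F83803 (iv5 F83782)
def n76221 : Q := act 4 n34813
theorem D76221 : act 4 n34813 = n76221 := rfl
theorem F114188 : act 2 n76221 = n53083 := d1_1 D76221 (iv4 D53083) (iv2 F55021)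
theorem F114189 : act 7 n76221 = n53086 := d11_2 (iv7 F55022) D76221 (iv4 D53086)
def n76222 : Q := act 6 n34813
theorem D76222 : act 6 n34813 = n76222 := rfl
theorem F114190 : act 2 n76222 = n53084 := d3_1 D76222 (iv6 D53084) (iv2 F55021)
theorem F114191 : act 5 n76222 = n49294 := d12_1 D76222 (iv6 D49294) (iv5 D24059) F27614 D34813
def n76223 : Q := act 4 n34814
theorem D76223 : act 4 n34814 = n76223 := rfl
theorem F114192 : act 2 n76223 = n53086 := d1_1 D76223 (iv4 D53086) (iv2 F55023)
theorem F114193 : act 7 n76223 = n53083 := d11_2 (iv7 F55024) D76223 (iv4 D53083)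
def n76224 : Q := act 6 n34814
theorem D76224 : act 6 n34814 = n76224 := rfl
theorem F114194 : act 2 n76224 = n53087 := d3_1 D76224 (iv6 D53087) (iv2 F55023)
def n76225 : Q := act 3 n34815
theorem D76225 : act 3 n34815 = n76225 := rfl
theorem F114195 : act 2 n76225 = n43428 := d0_1 D76225 F107970 (iv2 F107969) (iv3 D53088) F55026
theorem F114196 : act 5 n76225 = n42403 := d6_2 (iv5 F55025) D76225 (iv3 F82998)
theorem F114197 : act 7 n76225 = n43433 := d8_2 F55028 D76225 F83013
def n76226 : Q := act 4 n34815
theorem D76226 : act 4 n34815 = n76226 := rfl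
theorem F114198 : act 2 n76226 = n53089 := d1_1 D76226 (iv4 D53089) F55026
theorem F114199 : act 7 n76226 = n53091 := d11_2 F55028 D76226 (iv4 D53091)
theorem F114200 : act 5 n76226 = n76223 := d16_1 D76226 (iv4 D76223) (iv5 D34814) (iv4 F27619) D16889 (iv4 F51379) (iv5 F55031) F55030 F55026
theorem F114201 : act 1 n76226 = n34848 := d18_6 F40687 F40435 F27698 (iv4 F47547) (iv5 F55025) D76226 (iv4 D34848) D34847 (iv5 F55110)
def n76227 : Q := act 6 n34815
theorem D76227 : act 6 n34815 = n76227 := rfl
theorem F114202 : act 2 n76227 = n53090 := d3_1 D76227 (iv6 D53090) F55026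
theorem F114203 : act 5 n76227 = n61519 := d12_1 D76227 (iv6 D61519) F46793 D29609 (iv5 F55025)
def n76228 : Q := act 4 n34816
theorem D76228 : act 4 n34816 = n76228 := rfl
theorem F114204 : act 2 n76228 = n53091 := d1_1 D76228 (iv4 D53091) F55032
theorem F114205 : act 5 n76228 = n76221 := d9_2 (iv5 F55031) D76228 (iv4 D76221) (iv5 D34813) F27612 D16896 (iv4 F47547) (iv5 F55025) D76226 F114200 (iv4 D76223) (iv5 D34814) (iv4 F27619) D16889 (iv4 F51379)
theorem F114206 : act 7 n76228 = n53089 := d11_2 (iv7 F55030) D76228 (iv4 D53089)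
theorem F114207 : act 0 n76228 = n34848 := d18_2 (iv1 F55029) D76228 (iv4 D34848) (iv5 D16894) F12465 F12469 F27619 F27617 D25534
def n76229 : Q := act 6 n34816
theorem D76229 : act 6 n34816 = n76229 := rfl
theorem F114208 : act 2 n76229 = n53092 := d3_1 D76229 (iv6 D53092) F55032
theorem F114209 : act 5 n76229 = n69708 := d12_1 D76229 (iv6 D69708) (iv5 D32354) D32355 (iv5 F55031)
def n76230 : Q := act 0 n34817
theorem D76230 : act 0 n34817 = n76230 := rfl
theorem F114210 : act 4 n76230 = n49156 := d18_3 (iv1 D34816) D34817 D76230 F77611 F47541 (iv0 F23474) (iv4 F43319) F51381 (iv5 F55031)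
theorem F114211 : act 1 n52620 = n76230 := d15_0 (iv0 D76230) (iv7 F83795) F83794
theorem F114212 : act 5 n60448 = n76230 := d17_5 (iv1 F77612) F55112 (iv1 F27678) D28708 D60448 (iv0 D76230) (iv5 F83113) F114211 F114210
theorem F114213 : act 2 n76230 = n53093 := d2_1 F114212 (iv5 F83812) (iv2 F94984)
theorem F114214 : act 7 n76230 = n53094 := d13_2 (iv7 F94985) F114212 (iv5 F83801)
def n76231 : Q := act 1 n34817
theorem D76231 : act 1 n34817 = n76231 := rfl
theorem F114215 : act 1 n76231 = n52620 := d15_1 D76231 F83112 (iv2 F55033)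
theorem F114216 : act 7 n76231 = n53093 := d15_2 (iv0 D76230) D76231 (iv2 F114213)
theorem F114217 : act 4 n76231 = n49157 := d18_7 (iv1 F27678) (iv4 D13684) (iv1 F12413) (iv4 F12409) D16870 D34817 D76231 F77615 F55112
theorem F114218 : act 2 n53094 = n76231 := d1_3 F114217 F77618 (iv4 F83793)
def n76232 : Q := act 3 n34817
theorem D76232 : act 3 n34817 = n76232 := rfl
def n76233 : Q := act 6 n34818
theorem D76233 : act 6 n34818 = n76233 := rfl
theorem F114219 : act 2 n76233 = n52619 := d3_1 D76233 F83111 (iv2 F55034)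
theorem F114220 : act 5 n76233 = n48709 := d12_1 D76233 (iv6 D48709) F36999 (iv6 F27624) (iv5 F55035)
def n76234 : Q := act 0 n34819
theorem D76234 : act 0 n34819 = n76234 := rfl
theorem F114221 : act 3 n76234 = n48966 := d20_5 F12409 D7863 D16872 D34819 D76234 (iv4 F77252) (iv1 F41479) D26683 F42759 (iv1 D16869)
theorem F114222 : act 4 n76234 = n52732 := d20_8 (iv4 D34831) (iv1 D16884) (iv4 F27611) F27610 D16868 D34812 (iv4 F55038) D76234 (iv3 F83323) F55089
theorem F114223 : act 2 n52515 = n76234 := d15_3 (iv0 D76234) (iv0 F77237) (iv7 F82921)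
theorem F114224 : act 1 n52728 = n76234 := d15_0 (iv0 D76234) F55040 (iv2 F83313)
theorem F114225 : act 7 n76234 = n48719 := d15_2 D52728 F114224 F76703
theorem F114226 : act 6 n42353 = n76234 := d14_5 F114225 (iv6 D48719) (iv7 F37021) (iv6 F41342) (iv7 F65417)
def n76235 : Q := act 2 n34819
theorem D76235 : act 2 n34819 = n76235 := rfl
theorem F114227 : act 3 n76235 = n52709 := d0_2 D34819 D76235 (iv2 F83291) (iv3 D25754) (iv2 F27627)
theorem F114228 : act 4 n76235 = n44069 := d1_2 (iv4 F55038) D76235 F69410
theorem F114229 : act 6 n76235 = n44067 := d3_2 (iv6 F55039) D76235 F69405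
theorem F114230 : act 7 n76235 = n52728 := d4_2 (iv7 F55040) D76235 F83313
theorem F114231 : act 1 n76235 = n48719 := d15_0 (iv0 F76705) (iv7 F55040) D76235
theorem F114232 : act 1 n52515 = n76235 := d15_0 F114231 (iv7 F114225) (iv2 F114223)
def n76236 : Q := act 5 n34819
theorem D76236 : act 5 n34819 = n76236 := rfl
theorem F114233 : act 3 n76236 = n34820 := d6_1 D76236 (iv5 D34820) D34819
theorem F114234 : act 7 n76236 = n53102 := d13_2 (iv7 F55040) D76236 (iv5 D53102)
def n76237 : Q := act 4 n34820
theorem D76237 : act 4 n34820 = n76237 := rfl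
theorem F114235 : act 2 n76237 = n53098 := d1_1 D76237 (iv4 D53098) (iv2 F55041)
theorem F114236 : act 5 n76237 = n76231 := d9_2 D34820 D76237 F114217 (iv5 F77617) (iv4 D28709) (iv5 D13685) D13684 D28708 D60448 F114212 F114210 F77611 F47541 F23472 D16872
theorem F114237 : act 7 n76237 = n53103 := d11_2 (iv7 F55042) D76237 (iv4 D53103)
def n76238 : Q := act 6 n34820
theorem D76238 : act 6 n34820 = n76238 := rfl
theorem F114238 : act 2 n76238 = n53099 := d3_1 D76238 (iv6 D53099) (iv2 F55041)
theorem F114239 : act 5 n76238 = n49228 := d12_1 D76238 (iv6 D49228) F37558 (iv6 F27628) D34820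
def n76239 : Q := act 6 n34821
theorem D76239 : act 6 n34821 = n76239 := rfl
theorem F114240 : act 2 n76239 = n48965 := d3_1 D76239 (iv6 D48965) (iv2 F55043)
theorem F114241 : act 3 n76239 = n60115 := d7_1 D76239 (iv6 D60115) (iv3 F55044)
def n76240 : Q := act 5 n34822
theorem D76240 : act 5 n34822 = n76240 := rfl
theorem F114242 : act 2 n76240 = n48967 := d2_1 D76240 (iv5 D48967) (iv2 F55047)
theorem F114243 : act 3 n76240 = n60116 := d6_1 D76240 (iv5 D60116) (iv3 F55048)
theorem F114244 : act 7 n76240 = n71078 := d13_2 (iv7 F55050) D76240 (iv5 D71078)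
def n76241 : Q := act 4 n34823
theorem D76241 : act 4 n34823 = n76241 := rfl
theorem F114245 : act 2 n76241 = n48978 := d1_1 D76241 (iv4 D48978) (iv2 F55053)
theorem F114246 : act 7 n76241 = n71079 := d11_2 (iv7 F55055) D76241 (iv4 D71079)
theorem F114247 : act 1 n76241 = n74018 := d18_6 (iv1 F43610) (iv4 F50248) F55051 F55049 D34823 D76241 (iv4 D74018) (iv0 D33970) (iv5 D16425)
theorem F114248 : act 0 n76241 = n74020 := d20_1 D76241 (iv4 D74020) F86463 F86465 F42318 (iv4 F25611) F25613 F25609 D26363 F55056
def n76242 : Q := act 6 n34824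
theorem D76242 : act 6 n34824 = n76242 := rfl
theorem F114250 : act 3 n76242 = n49124 := d7_1 D76242 (iv6 D49124) (iv3 F55059)
def n76243 : Q := act 4 n34825
theorem D76243 : act 4 n34825 = n76243 := rfl
theorem F114251 : act 2 n76243 = n34828 := d1_1 D76243 (iv4 D34828) F55063
theorem F114252 : act 6 n76243 = n61634 := d10_2 (iv6 F55062) D76243 (iv4 D61634)
theorem F114253 : act 7 n76243 = n34831 := d11_2 (iv7 F55064) D76243 (iv4 D34831)
theorem F114254 : act 0 n76243 = n54663 := d20_1 D76243 (iv4 D54663) (iv3 F50999) (iv1 D16191) F11785 (iv4 F11786) (iv1 F50790) (iv4 F22772) (iv3 F27649) D34825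
theorem F114255 : act 3 n76243 = n49131 := d20_3 (iv4 F42291) D34825 D76243 (iv1 F77580) (iv3 D25614) (iv4 F22745) (iv1 D7765) (iv4 F12069) (iv3 F21018) D26445
theorem F114256 : act 0 n48941 = n76243 := d20_10 (iv4 D76243) (iv1 F55065) F42294 (iv3 F42293) (iv1 F27625) D25748 (iv4 F40684) F76705 (iv4 F77182) F77181
def n76244 : Q := act 0 n34826
theorem D76244 : act 0 n34826 = n76244 := rfl
theorem F114257 : act 5 n76244 = n59324 := d21_2 D34826 D76244 (iv6 D59324) (iv1 D28172) F26480 D15521 F46145 (iv5 D13621) D13622 (iv1 F50933)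
theorem F114258 : act 2 n34833 = n76244 := d2_3 F114257 F93550 (iv5 F55715)
theorem F114259 : act 7 n34834 = n76244 := d13_0 F114257 (iv7 F93553) F93556
theorem F114260 : act 0 n76244 = n34836 := d21_1 (iv5 F114257) F55094 F27652 (iv1 F54295) F54297 (iv5 F55725) (iv1 F55726) (iv5 D32574) D32575 F93552
def n76245 : Q := act 1 n34826
theorem D76245 : act 1 n34826 = n76245 := rfl
theorem F114261 : act 1 n76245 = n34836 := d15_1 D76245 (iv7 D34836) (iv2 F55066)
theorem F114262 : act 7 n76245 = n34833 := d15_2 (iv0 D76244) D76245 F114258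
theorem F114263 : act 5 n76245 = n34969 := d17_7 (iv1 D59806) D59807 F94181 (iv5 D54677) (iv4 F42291) D34826 D76245 (iv0 F79156) F94176
theorem F114264 : act 3 n54490 = n76245 := d20_3 D68958 (iv1 F105136) F86064 (iv1 D76245) F55067 D60031 (iv1 F107733) (iv4 D71240) F52990 (iv1 F50694)
theorem F114265 : act 2 n34834 = n76245 := d2_3 F114263 (iv2 F93554) F93556
def n76246 : Q := act 4 n34826
theorem D76246 : act 4 n34826 = n76246 := rfl
theorem F114266 : act 2 n76246 = n34835 := d1_1 D76246 (iv4 D34835) (iv2 F55066)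
theorem F114267 : act 1 n76246 = n59817 := d18_6 (iv1 D12628) (iv4 F21019) D26445 (iv4 F42291) D34826 D76246 (iv4 D59817) (iv0 F50556) (iv5 D26460)
def n76247 : Q := act 7 n34826
theorem D76247 : act 7 n34826 = n76247 := rfl
theorem F114268 : act 2 n76247 = n34836 := d4_1 D76247 (iv7 D34836) (iv2 F55066)
theorem F114269 : act 3 n76247 = n59846 := d8_1 D76247 F94283 (iv3 F55067)
theorem F114270 : act 5 n76247 = n34827 := d13_1 D76247 (iv7 D34827) D34826
theorem F114271 : act 1 n34834 = n76247 := d15_1 D34834 (iv7 D76247) F55066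
theorem F114272 : act 1 n76247 = n34833 := d15_1 F114271 (iv7 F114262) (iv2 F114265)
def n76248 : Q := act 5 n34828
theorem D76248 : act 5 n34828 = n76248 := rfl
theorem F114273 : act 3 n76248 = n71078 := d6_1 D76248 (iv5 D71078) (iv3 F55074)
theorem F114274 : act 7 n76248 = n60116 := d13_2 (iv7 F55076) D76248 (iv5 D60116)
def n76249 : Q := act 4 n34829
theorem D76249 : act 4 n34829 = n76249 := rfl
theorem F114275 : act 7 n76249 = n60125 := d11_2 (iv7 F55080) D76249 (iv4 D60125)
theorem F114276 : act 1 n76249 = n54714 := d18_6 D12627 D26457 F55078 (iv4 D34828) D34829 D76249 (iv4 D54714) (iv0 D26461) (iv5 D12629)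
theorem F114277 : act 0 n76249 = n54716 := d20_1 D76249 (iv4 D54716) (iv3 F55652) F55653 F42764 D26685 (iv1 F52044) (iv4 D32873) D32872 F78811
def n76250 : Q := act 6 n34829
theorem D76250 : act 6 n34829 = n76250 := rfl
theorem F114278 : act 3 n76250 = n60164 := d7_1 D76250 (iv6 D60164) (iv3 F55079)
def n76251 : Q := act 5 n34830
theorem D76251 : act 5 n34830 = n76251 := rfl
theorem F114279 : act 2 n76251 = n52905 := d2_1 D76251 (iv5 D52905) (iv2 F55081)
theorem F114280 : act 3 n76251 = n34832 := d6_1 D76251 (iv5 D34832) D34830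
theorem F114281 : act 7 n76251 = n70581 := d13_2 F83384 D76251 (iv5 D70581)
theorem F114282 : act 4 n76251 = n72229 := d18_5 F26794 (iv4 F25355) (iv1 F50922) (iv4 F55083) D76251 (iv0 D72229) (iv4 D33341) F42508 F42507
theorem F114283 : act 0 n54470 = n76251 := d21_7 D28513 F46072 (iv5 F25981) D34023 F54164 (iv6 F104065) F104064 (iv5 D76251) F55082 (iv1 F40592)
def n76252 : Q := act 5 n34831
theorem D76252 : act 5 n34831 = n76252 := rfl
theorem F114284 : act 2 n76252 = n60116 := d2_1 D76252 (iv5 D60116) (iv2 F55086)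
theorem F114285 : act 3 n76252 = n49130 := d6_1 D76252 (iv5 D49130) F55090
def n76253 : Q := act 4 n34832
theorem D76253 : act 4 n34832 = n76253 := rfl
theorem F114286 : act 2 n76253 = n60125 := d1_1 D76253 (iv4 D60125) (iv2 F55092)
theorem F114287 : act 1 n76253 = n54716 := d18_6 (iv1 F42268) D26459 F55089 (iv4 D34831) D34832 D76253 (iv4 D54716) F86473 F86472
theorem F114288 : act 0 n76253 = n54714 := d20_1 D76253 (iv4 D54714) D54713 F95992 F52836 (iv4 F52860) (iv1 F109093) F109095 (iv3 F106635) F106637
def n76254 : Q := act 6 n34832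
theorem D76254 : act 6 n34832 = n76254 := rfl
theorem F114289 : act 2 n76254 = n60122 := d3_1 D76254 F94682 (iv2 F55092)
theorem F114290 : act 5 n76254 = n60113 := d12_1 D76254 (iv6 D60113) (iv5 D28564) (iv6 F51728) D34832
def n76255 : Q := act 4 n34833
theorem D76255 : act 4 n34833 = n76255 := rfl
theorem F114291 : act 0 n76255 = n54711 := d18_2 D34833 D76255 (iv4 D54711) (iv5 D26460) D26459 (iv0 F55077) (iv4 D34828) (iv0 D16883) D16885
theorem F114292 : act 1 n76255 = n54708 := d18_6 (iv1 F55632) (iv4 F55634) F106659 (iv4 D70200) (iv5 F55715) D76255 (iv4 D54708) (iv0 F50535) (iv5 D28376)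
def n76256 : Q := act 6 n34833
theorem D76256 : act 6 n34833 = n76256 := rfl
theorem F114294 : act 5 n76256 = n61623 := d12_1 D76256 (iv6 D61623) (iv5 F54344) (iv6 F55712) (iv5 F55715)
def n76257 : Q := act 3 n34834
theorem D76257 : act 3 n34834 = n76257 := rfl
theorem F114295 : act 2 n76257 = n70583 := d0_1 D76257 (iv3 F107048) F86063 F114264 (iv2 F114265)
theorem F114296 : act 5 n76257 = n67943 := d6_2 F93556 D76257 F104038
theorem F114297 : act 4 n71288 = n76257 := d20_2 D32990 D71288 (iv3 D76257) (iv1 D34834) F27650 D16887 (iv1 F42773) (iv4 D26688) D26687 F42774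
theorem F114298 : act 1 n76257 = n54464 := d18_8 F55084 F55083 F50920 F25510 D16024 D33200 F107782 F114297 (iv5 D54464)
theorem F114299 : act 1 n70580 = n76257 := d15_0 F114298 F86006 (iv2 F107045)
def n76258 : Q := act 4 n34834
theorem D76258 : act 4 n34834 = n76258 := rfl
theorem F114300 : act 0 n76258 = n54708 := d18_2 (iv1 F114271) D76258 (iv4 D54708) (iv5 D26458) D26457 (iv0 F55088) (iv4 D34831) F55072 (iv5 F114270)
theorem F114301 : act 1 n76258 = n54711 := d18_6 (iv1 F55574) D59816 (iv1 F106663) (iv4 D70201) F93556 D76258 (iv4 D54711) F86519 F86517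
def n76259 : Q := act 6 n34834
theorem D76259 : act 6 n34834 = n76259 := rfl
def n76260 : Q := act 1 n34835
theorem D76260 : act 1 n34835 = n76260 := rfl
theorem F114302 : act 4 n76260 = n59815 := d18_7 (iv1 D26437) (iv4 F42249) F42250 F27611 D16885 D34835 D76260 (iv0 F94208) (iv5 D54664)
theorem F114303 : act 2 n59817 = n76260 := d1_3 F114302 F94204 D59817
def n76261 : Q := act 3 n34835
theorem D76261 : act 3 n34835 = n76261 := rfl
theorem F114304 : act 4 n76261 = n34837 := d5_2 D34835 D76261 (iv3 D34837) (iv4 D16887) (iv3 F27650)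
def n76262 : Q := act 5 n34835
theorem D76262 : act 5 n34835 = n76262 := rfl
def n76263 : Q := act 7 n34835
theorem D76263 : act 7 n34835 = n76263 := rfl
theorem F114305 : act 4 n76263 = n34836 := d11_1 D76263 (iv7 D34836) D34835
theorem F114306 : act 1 n59817 = n76263 := d15_1 F114267 (iv7 D76263) (iv2 F114266)
def n76264 : Q := act 6 n34836
theorem D76264 : act 6 n34836 = n76264 := rfl
theorem F114307 : act 3 n76264 = n34838 := d7_1 D76264 (iv6 D34838) (iv3 F55093)
theorem F114308 : act 5 n76264 = n48925 := d12_1 D76264 (iv6 D48925) F37188 (iv6 F27652) (iv5 F55094)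
def n76265 : Q := act 0 n34837
theorem D76265 : act 0 n34837 = n76265 := rfl
def n76266 : Q := act 1 n34837
theorem D76266 : act 1 n34837 = n76266 := rfl
def n76267 : Q := act 2 n34837
theorem D76267 : act 2 n34837 = n76267 := rfl
theorem F114309 : act 3 n76267 = n60441 := d0_2 D34837 D76267 (iv2 D60441) (iv3 D28703) (iv2 F27653)
def n76268 : Q := act 0 n34838
theorem D76268 : act 0 n34838 = n76268 := rfl
theorem F114310 : act 1 n58530 = n76268 := d15_0 (iv0 D76268) (iv7 F60466) (iv2 F92465)
theorem F114311 : act 5 n68516 = n76268 := d21_0 (iv1 F114310) F92466 (iv6 D28484) (iv1 F37193) D48934 F77155 F54974 (iv5 D31876) D31877 D68516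
def n76269 : Q := act 1 n34838
theorem D76269 : act 1 n34838 = n76269 := rfl
theorem F114312 : act 1 n76269 = n58530 := d15_1 D76269 F92467 (iv2 F55095)
theorem F114313 : act 5 n68466 = n76269 := d21_6 (iv5 D5887) (iv1 F9069) (iv5 F11450) D14998 D31858 D68466 (iv1 D76269) F55096 (iv6 D23861) (iv1 F18150)
theorem E10336 : n53803 = n48936 := ((c17_9 (iv1 F41117) (iv5 F49109) (iv1 F53866) D74713 F112133 F114313 F114312 F92466 F77163 (iv4 D53803))).symm
theorem F114314 : act 4 n48936 = n26015 := (sb E10336 (iv4 D53803))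
theorem E10337 : n68517 = n68466 := ((c21_1 (iv5 F114313) (iv1 D68517) D68518 F104713 (iv1 D58552) (iv6 D27855) (iv5 D13285) D13282 D27847 D58530 (iv1 F114312))).symm
theorem F114315 : act 0 n68466 = n31877 := (sb E10337 (iv1 D68517))
theorem F114316 : act 1 n66984 = n74713 := d17_8 F114315 D68518 F104715 (iv5 D59993) (iv4 F104777) D31307 F103211 F103207 F112133
theorem F114317 : act 0 n54345 = n68465 := d21_1 (iv5 F94458) (iv5 D68465) D68466 F114315 (iv6 D31877) D31876 (iv1 F104701) (iv5 F104703) (iv6 F107357) F107356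
theorem F114318 : act 4 n53805 = n61763 := d10_3 F96347 F114314 D53805
theorem F114319 : act 4 n69672 = n76268 := d18_7 D48936 F114314 (iv1 F41117) (iv4 F41679) F41680 (iv4 F60395) F106016 (iv0 D76268) F55096
theorem E10338 : n74707 = n50055 := (c18_2 D34232 D74707 (iv1 F79230) (iv4 F79099) F79100 F76991 F77163 F114314 (iv0 D26015) (iv5 F26231))
theorem F114320 : act 4 n50055 = n34232 := (sb E10338 (iv4 D74707))
theorem F114321 : act 4 n68516 = n74708 := d18_5 (iv1 D32337) D32338 D69672 F114319 (iv5 F114311) F112128 F104976 (iv0 F104974) F104925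
theorem E10339 : n53808 = n48937 := (c17_10 (iv1 D48937) (iv5 F55096) D76268 (iv5 F114311) F114321 (iv5 D74708) (iv0 D34232) F26231 D26016 D53808)
theorem F114322 : act 4 n48937 = n26016 := (sb E10339 (iv4 D53808))
theorem F114323 : act 4 n69673 = n76269 := d18_7 (iv1 F77164) F114322 (iv1 D26016) F20476 D15238 D32338 D69673 F114312 F92466
theorem E10340 : n74712 = n50056 := (c18_2 (iv1 F53866) D74712 (iv1 D50056) F38275 F38055 (iv4 F37202) D48937 F114322 F41113 (iv5 F49109))
theorem F114324 : act 4 n50056 = n34233 := (sb E10340 (iv4 D74712))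
def n76270 : Q := act 6 n34839
theorem D76270 : act 6 n34839 = n76270 := rfl
theorem F114325 : act 2 n76270 = n49054 := d3_1 D76270 (iv6 D49054) (iv2 F55097)
theorem F114326 : act 5 n76270 = n49326 := d12_1 D76270 (iv6 D49326) F37681 (iv6 F27664) D34839
def n76271 : Q := act 6 n34840
theorem D76271 : act 6 n34840 = n76271 := rfl
theorem F114327 : act 3 n76271 = n49057 := d7_1 D76271 (iv6 D49057) (iv3 F55101)
theorem F114328 : act 4 n76271 = n34841 := d10_1 D76271 (iv6 D34841) D34840
def n76272 : Q := act 0 n34841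
theorem D76272 : act 0 n34841 = n76272 := rfl
def n76273 : Q := act 1 n34841
theorem D76273 : act 1 n34841 = n76273 := rfl
def n76274 : Q := act 7 n34841
theorem D76274 : act 7 n34841 = n76274 := rfl
theorem F114329 : act 3 n76274 = n34845 := d8_1 D76274 (iv7 D34845) (iv3 F55105)
theorem F114330 : act 6 n76274 = n49060 := d14_1 D76274 (iv7 D49060) (iv6 D23936) (iv7 F27672) D34841
def n76275 : Q := act 2 n34842
theorem D76275 : act 2 n34842 = n76275 := rfl
def n76276 : Q := act 3 n34842
theorem D76276 : act 3 n34842 = n76276 := rfl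
def n76277 : Q := act 4 n34842
theorem D76277 : act 4 n34842 = n76277 := rfl
def n76278 : Q := act 5 n34842
theorem D76278 : act 5 n34842 = n76278 := rfl
def n76279 : Q := act 6 n34842
theorem D76279 : act 6 n34842 = n76279 := rfl
def n76280 : Q := act 7 n34842
theorem D76280 : act 7 n34842 = n76280 := rfl
def n76281 : Q := act 3 n34843
theorem D76281 : act 3 n34843 = n76281 := rfl
def n76282 : Q := act 4 n34843
theorem D76282 : act 4 n34843 = n76282 := rfl
def n76283 : Q := act 5 n34843
theorem D76283 : act 5 n34843 = n76283 := rfl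
def n76284 : Q := act 6 n34843
theorem D76284 : act 6 n34843 = n76284 := rfl
def n76285 : Q := act 0 n34844
theorem D76285 : act 0 n34844 = n76285 := rfl
def n76286 : Q := act 1 n34844
theorem D76286 : act 1 n34844 = n76286 := rfl
def n76287 : Q := act 4 n34844
theorem D76287 : act 4 n34844 = n76287 := rfl
theorem F114333 : act 6 n76287 = n34848 := d10_2 (iv6 F55106) D76287 (iv4 D34848)
def n76288 : Q := act 7 n34844
theorem D76288 : act 7 n34844 = n76288 := rfl
theorem F114334 : act 5 n76288 = n34845 := d13_1 D76288 (iv7 D34845) D34844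
def n76289 : Q := act 6 n34846
theorem D76289 : act 6 n34846 = n76289 := rfl
theorem F114335 : act 5 n76289 = n61275 := d12_1 D76289 (iv6 D61275) (iv5 D29007) (iv6 F40682) (iv5 F55109)
def n76290 : Q := act 3 n34847
theorem D76290 : act 3 n34847 = n76290 := rfl
theorem F114336 : act 5 n76290 = n43432 := d6_2 F55110 D76290 F83002
def n76291 : Q := act 6 n34847
theorem D76291 : act 6 n34847 = n76291 := rfl
def n76292 : Q := act 3 n34848
theorem D76292 : act 3 n34848 = n76292 := rfl
def n76293 : Q := act 5 n34848
theorem D76293 : act 5 n34848 = n76293 := rfl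
theorem F114337 : act 4 n76293 = n49111 := d16_2 D34848 D76293 (iv5 D49111) F37417 F18236 (iv4 F37417) D49111 F77537 F37468
theorem F114338 : act 7 n76293 = n49158 := d16_8 (iv4 D34848) (iv5 D16894) F12465 F5606 (iv4 F12465) D16894 D34848 D76293 F77619
theorem F114339 : act 0 n76293 = n76228 := d17_2 F114207 D76293 F114205 (iv4 D76221) (iv5 D34813) (iv0 D16868) D16870 D34816 D76228
theorem F114340 : act 1 n76293 = n76226 := d17_8 (iv1 F55027) (iv5 D25534) (iv1 F27617) D34814 D76223 (iv5 F114200) F114201 D76293 (iv4 D76226)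
def n76294 : Q := act 7 n34848
theorem D76294 : act 7 n34848 = n76294 := rfl
theorem F114341 : act 2 n76294 = n76293 := d4_1 D76294 F114338 F77619
theorem F114342 : act 4 n76294 = n34849 := d11_1 D76294 (iv7 D34849) D34848
theorem F114343 : act 5 n76294 = n49158 := d13_1 D76294 (iv7 F114338) (iv5 D76293)
theorem F114344 : act 1 n53091 = n76294 := d15_1 (iv0 F83791) (iv7 D76294) (iv2 F77619)
theorem F114345 : act 1 n76294 = n53089 := d15_1 F114344 (iv7 F114206) F114204
def n76295 : Q := act 6 n34849
theorem D76295 : act 6 n34849 = n76295 := rfl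
theorem F114346 : act 3 n76295 = n60018 := d7_1 D76295 (iv6 D60018) (iv3 F55111)
theorem F114347 : act 5 n76295 = n49053 := d12_1 D76295 (iv6 D49053) F37354 (iv6 F27677) (iv5 F55112)
def n76296 : Q := act 5 n34852
theorem D76296 : act 5 n34852 = n76296 := rfl
theorem F114348 : act 2 n76296 = n52823 := d2_1 D76296 F83469 (iv2 F106571)
theorem F114349 : act 3 n76296 = n52876 := d6_1 D76296 (iv5 F106027) (iv3 F106028)
theorem F114350 : act 4 n76296 = n52738 := d16_2 D34852 D76296 F87746 (iv4 F109310) (iv5 F109314) (iv4 D52828) F46143 F106562 (iv2 F106561)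
theorem F114351 : act 1 n76296 = n48742 := d17_6 (iv1 D12186) D12188 D25642 F65521 D34852 D76296 (iv5 D48742) (iv0 F42423) (iv4 D25637)
theorem F114352 : act 0 n42415 = n52838 := d21_7 D48742 (iv1 F114351) (iv5 D76296) F82957 (iv1 D49039) F82982 D42415 (iv5 D52838) (iv6 F76685) F42423
theorem F114353 : act 1 n42410 = n52838 := d15_0 (iv0 F114352) (iv7 F107772) (iv2 F107773)
theorem E10341 : n49204 = n34858 := (c21_5 D52838 (iv1 F114353) (iv5 D42410) D42411 F82988 (iv6 D34858) (iv5 F46143) (iv1 D25643) (iv5 D12188) D12189 D25646)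
theorem F114354 : act 0 n34858 = n24013 := (sb E10341 (iv1 D49204))
theorem F114355 : act 1 n34858 = n42411 := (sb E10341 (iv0 F82988))
theorem F114356 : act 4 n34858 = n62613 := (sb E10341 (iv4 F97644))
theorem F114357 : act 6 n62613 = n34857 := d10_2 D34858 F114356 (iv4 D34857)
theorem E10342 : n49296 = n49113 := ((c7_3 F114357 F55121 D49113 (iv3 F97643))).symm
theorem F114358 : act 0 n49113 = n49205 := (sb E10342 (iv1 F77921))
theorem F114359 : act 1 n49113 = n24061 := (sb E10342 (iv0 D49296))
theorem F114360 : act 3 n49113 = n62613 := (sb E10342 (iv3 F97643))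
theorem F114361 : act 4 n49113 = n61282 := (sb E10342 F95756)
theorem F114362 : act 2 n61282 = n62613 := d1_1 F114361 (iv4 F114356) F106606
theorem F114363 : act 6 n61282 = n43423 := d10_2 D49113 F114361 (iv4 F68284)
theorem F114364 : act 7 n62614 = n61282 := d15_2 (iv0 D62613) D62614 F114362
theorem F114365 : act 7 n61281 = n62613 := d15_2 (iv0 F95757) F95754 (iv2 F114362)
theorem F114366 : act 2 n62614 = n61281 := d4_3 F114365 (iv2 F114362) (iv7 F114364)
theorem F114367 : act 7 n49113 = n49203 := d8_2 F114365 (iv3 F114360) F95755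
theorem F114368 : act 7 n34858 = n49297 := d11_2 F114365 (iv4 F114356) (iv4 F95753)
theorem F114369 : act 6 n49038 = n61281 := d14_5 F114365 F114357 (iv7 F106567) (iv6 F82961) (iv7 F106576)
theorem F114370 : act 6 n62614 = n49088 := d3_2 F114369 (iv2 F114366) (iv2 F106578)
theorem F114371 : act 6 n49297 = n69709 := d10_2 F114369 F95753 (iv4 F106071)
theorem F114372 : act 2 n49297 = n49203 := d4_1 F114368 (iv7 F114367) (iv2 F106606)
theorem E10343 : n52590 = n52530 := (c21_8 D33028 (iv1 F52208) F46143 D34858 F114354 F37544 (iv5 F40358) D52590 (iv5 D52530) F55130 (iv1 F25391))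
theorem F114373 : act 1 n52530 = n25526 := (sb E10343 (iv0 D52590))
theorem F114374 : act 0 n49206 = n44075 := d21_1 D49206 F69420 F33126 (iv1 F65520) (iv6 D33029) D33028 (iv1 F52208) F46143 D34858 F114354
def n76297 : Q := act 0 n34854
theorem D76297 : act 0 n34854 = n76297 := rfl
theorem F114375 : act 2 n34876 = n76297 := d15_3 (iv0 D76297) (iv0 F82960) (iv7 F55154)
theorem F114376 : act 3 n76297 = n34903 := d0_2 D34876 F114375 (iv2 F55233) F49899 (iv2 F27704)
theorem F114377 : act 6 n76297 = n42404 := d3_2 (iv6 F83004) F114375 F83005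
theorem F114378 : act 7 n76297 = n67901 := d4_2 (iv7 F55154) F114375 F103973
theorem F114379 : act 1 n69709 = n76297 := d15_1 D69709 F114378 F103973
def n76298 : Q := act 5 n34854
theorem D76298 : act 5 n34854 = n76298 := rfl
theorem F114380 : act 3 n76298 = n64574 := d6_1 D76298 (iv5 F100510) (iv3 F82959)
theorem F114381 : act 4 n76298 = n59585 := d16_2 F82958 D76298 (iv5 D59585) (iv4 F48537) D63988 F106582 (iv5 F106583) F106576 F106573
theorem F114382 : act 1 n76298 = n69715 := d17_6 (iv1 F50265) D68640 F104837 F82955 F82958 D76298 F106079 (iv0 F68244) F68242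
theorem F114383 : act 0 n76298 = n43410 := d21_1 D76298 (iv5 D43410) (iv6 D20521) (iv1 F15516) D20761 D43843 F95763 (iv5 D61284) (iv6 F51382) F82960
theorem F114384 : act 1 n52518 = n59585 := d18_6 (iv1 F68245) (iv4 F68246) (iv1 D25501) F20054 D25492 D52518 (iv4 F114381) F114382 F106079
def n76299 : Q := act 7 n34854
theorem D76299 : act 7 n34854 = n76299 := rfl
theorem F114385 : act 2 n76299 = n69709 := d4_1 D76299 (iv7 F106579) (iv2 F106574)
theorem F114386 : act 3 n76299 = n49038 := d8_1 D76299 F106576 (iv3 F82959)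
theorem F114387 : act 4 n76299 = n49088 := d11_1 D76299 F106577 F82958
theorem F114388 : act 6 n76299 = n49203 := d14_1 D76299 (iv7 F114367) (iv6 D49113) F106564 D34854
theorem F114389 : act 1 n67901 = n76299 := d15_1 (iv0 F103976) (iv7 D76299) F106574
theorem F114390 : act 1 n76299 = n34876 := d15_1 F114389 F55154 (iv2 F103973)
def n76300 : Q := act 6 n34856
theorem D76300 : act 6 n34856 = n76300 := rfl
theorem F114391 : act 3 n76300 = n34858 := d7_1 D76300 (iv6 D34858) D34856
theorem F114392 : act 0 n49315 = n76300 := d20_4 F87471 F93549 F93546 F80522 F114391 F114356 (iv1 F97645) F95759 (iv3 D55277) D55276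
theorem F114393 : act 0 n76300 = n49310 := d20_4 (iv4 F47544) D62613 (iv4 F114356) (iv3 F114391) F77958 (iv4 F78770) (iv1 F112263) F112260 (iv3 F82865) F82868
def n76301 : Q := act 5 n34857
theorem D76301 : act 5 n34857 = n76301 := rfl
theorem F114394 : act 3 n76301 = n48731 := d6_1 D76301 F76733 (iv3 F55121)
theorem F114395 : act 4 n76301 = n52739 := d9_1 D76301 F87743 (iv4 F46199) F83472 (iv4 D52824) F65521 D34852 D76296 F114350 F87746 (iv4 F109310) (iv5 F109314) (iv4 D52828) F46143 D34857
theorem F114396 : act 7 n76301 = n52823 := d13_2 F106567 D76301 F83469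
theorem F114397 : act 0 n76301 = n48742 := d17_2 F55123 D76301 (iv5 D48742) (iv4 F42421) (iv5 F86692) F86694 (iv5 D52666) (iv0 F40443) (iv4 F37429)
theorem F114398 : act 0 n52817 = n76225 := d21_1 D52817 F114196 F82999 D62613 F114357 D76301 F114397 (iv5 D48742) D48743 (iv1 F76762)
def n76302 : Q := act 5 n34858
theorem D76302 : act 5 n34858 = n76302 := rfl
theorem F114399 : act 0 n76302 = n44070 := d21_1 D76302 (iv5 D44070) D44071 F69417 F76685 D52838 (iv1 F114353) (iv5 D42410) D42411 (iv1 F114355)
theorem F114400 : act 0 n44068 = n76302 := d21_1 D44068 (iv5 D76302) (iv6 D34858) (iv1 D16898) F26936 F14665 (iv1 D4539) D4540 D9948 D20933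
def n76303 : Q := act 4 n34859
theorem D76303 : act 4 n34859 = n76303 := rfl
theorem F114401 : act 2 n76303 = n34862 := d1_1 D76303 (iv4 D34862) (iv2 F55124)
theorem F114402 : act 5 n76303 = n72855 := d9_2 D34859 D76303 (iv4 D72855) F52889 (iv4 D25573) (iv5 D12157) (iv4 F18240) (iv5 F20210) D25719 D52983 F83711 (iv5 F108974) F108973 (iv5 D43276) F32464
theorem F114403 : act 6 n76303 = n43869 := d10_2 (iv6 F55126) D76303 (iv4 D43869)
theorem F114404 : act 7 n76303 = n52979 := d11_2 (iv7 F55127) D76303 (iv4 D52979)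
theorem F114405 : act 0 n76303 = n52982 := d17_0 F83707 F83482 (iv5 D52832) (iv4 D25644) (iv5 D12188) D12186 D25638 F76682 D76303
theorem F114406 : act 1 n76303 = n52981 := d18_6 F40443 (iv4 D25563) F32466 F32464 D34859 D76303 F83705 (iv0 D52689) (iv5 D25575)
def n76304 : Q := act 6 n34860
theorem D76304 : act 6 n34860 = n76304 := rfl
theorem F114407 : act 2 n76304 = n52816 := d3_1 D76304 (iv6 D52816) F83428
def n76305 : Q := act 4 n34861
theorem D76305 : act 4 n34861 = n76305 := rfl
theorem F114408 : act 2 n76305 = n52810 := d1_1 D76305 (iv4 D52810) (iv2 F83429)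
theorem F114409 : act 7 n76305 = n52815 := d11_2 (iv7 F83427) D76305 (iv4 D52815)
theorem F114410 : act 5 n76305 = n72333 := d16_5 F108980 (iv5 D52808) F40535 F65468 D76305 F108790 D72447 F108967 (iv2 F108978)
theorem F114411 : act 1 n76305 = n52690 := d18_6 F40483 (iv4 F76753) (iv1 F76757) F40535 F65468 D76305 (iv4 D52690) F83247 F83172
def n76306 : Q := act 6 n34861
theorem D76306 : act 6 n34861 = n76306 := rfl
theorem F114412 : act 2 n76306 = n52811 := d3_1 D76306 (iv6 D52811) (iv2 F83429)
def n76307 : Q := act 0 n34862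
theorem D76307 : act 0 n34862 = n76307 := rfl
theorem F114413 : act 2 n52982 = n76307 := d15_3 (iv0 D76307) (iv0 F108358) F108356
theorem F114414 : act 1 n52979 = n76307 := d15_0 (iv0 D76307) F55134 (iv2 F83703)
theorem F114415 : act 7 n76307 = n52981 := d15_2 F108359 F114414 (iv2 F108354)
def n76308 : Q := act 2 n34863
theorem D76308 : act 2 n34863 = n76308 := rfl
theorem F114416 : act 7 n34864 = n76308 := d15_2 (iv0 D34863) D34864 (iv2 D76308)
def n76309 : Q := act 3 n34863
theorem D76309 : act 3 n34863 = n76309 := rfl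
def n76310 : Q := act 4 n34863
theorem D76310 : act 4 n34863 = n76310 := rfl
def n76311 : Q := act 5 n34863
theorem D76311 : act 5 n34863 = n76311 := rfl
def n76312 : Q := act 6 n34863
theorem D76312 : act 6 n34863 = n76312 := rfl
theorem F114417 : act 5 n76312 = n52800 := d21_6 (iv5 D8143) F5694 D7881 D16901 D34863 D76312 (iv1 D52800) (iv5 D25626) (iv6 D12182) (iv1 F12913)
def n76313 : Q := act 7 n34863
theorem D76313 : act 7 n34863 = n76313 := rfl
theorem F114418 : act 2 n76313 = n34864 := d4_1 D76313 F114416 (iv2 D76308)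
def n76314 : Q := act 3 n34864
theorem D76314 : act 3 n34864 = n76314 := rfl
def n76315 : Q := act 4 n34864
theorem D76315 : act 4 n34864 = n76315 := rfl
def n76316 : Q := act 5 n34864
theorem D76316 : act 5 n34864 = n76316 := rfl
def n76317 : Q := act 6 n34864
theorem D76317 : act 6 n34864 = n76317 := rfl
def n76318 : Q := act 6 n34866
theorem D76318 : act 6 n34866 = n76318 := rfl
theorem F114419 : act 4 n76318 = n34867 := d10_1 D76318 (iv6 D34867) D34866
def n76319 : Q := act 0 n34867
theorem D76319 : act 0 n34867 = n76319 := rfl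
def n76320 : Q := act 1 n34867
theorem D76320 : act 1 n34867 = n76320 := rfl
def n76321 : Q := act 7 n34867
theorem D76321 : act 7 n34867 = n76321 := rfl
theorem F114420 : act 3 n76321 = n34871 := d8_1 D76321 (iv7 D34871) (iv3 F55144)
def n76322 : Q := act 2 n34868
theorem D76322 : act 2 n34868 = n76322 := rfl
theorem F114421 : act 7 n34869 = n76322 := d15_2 (iv0 D34868) D34869 (iv2 D76322)
def n76323 : Q := act 3 n34868
theorem D76323 : act 3 n34868 = n76323 := rfl
def n76324 : Q := act 4 n34868
theorem D76324 : act 4 n34868 = n76324 := rfl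
def n76325 : Q := act 5 n34868
theorem D76325 : act 5 n34868 = n76325 := rfl
def n76326 : Q := act 6 n34868
theorem D76326 : act 6 n34868 = n76326 := rfl
theorem F114422 : act 5 n76326 = n49108 := d21_6 (iv5 D11126) F7563 D7887 D16905 D34868 D76326 (iv1 D49108) F37410 (iv6 D11239) (iv1 F18059)
def n76327 : Q := act 7 n34868
theorem D76327 : act 7 n34868 = n76327 := rfl
theorem F114423 : act 2 n76327 = n34869 := d4_1 D76327 F114421 (iv2 D76322)
def n76328 : Q := act 3 n34869
theorem D76328 : act 3 n34869 = n76328 := rfl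
def n76329 : Q := act 4 n34869
theorem D76329 : act 4 n34869 = n76329 := rfl
def n76330 : Q := act 5 n34869
theorem D76330 : act 5 n34869 = n76330 := rfl
def n76331 : Q := act 6 n34869
theorem D76331 : act 6 n34869 = n76331 := rfl
def n76332 : Q := act 0 n34870
theorem D76332 : act 0 n34870 = n76332 := rfl
def n76333 : Q := act 1 n34870
theorem D76333 : act 1 n34870 = n76333 := rfl
def n76334 : Q := act 4 n34870
theorem D76334 : act 4 n34870 = n76334 := rfl
theorem F114424 : act 6 n76334 = n34874 := d10_2 (iv6 F55145) D76334 (iv4 D34874)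
def n76335 : Q := act 7 n34870
theorem D76335 : act 7 n34870 = n76335 := rfl
theorem F114425 : act 5 n76335 = n34871 := d13_1 D76335 (iv7 D34871) D34870
def n76336 : Q := act 6 n34872
theorem D76336 : act 6 n34872 = n76336 := rfl
theorem F114426 : act 2 n76336 = n42280 := d3_1 D76336 (iv6 F77420) F77418
theorem F114427 : act 3 n76336 = n54129 := d7_1 D76336 (iv6 D54129) F55147
theorem F114428 : act 5 n76336 = n42277 := d12_1 D76336 (iv6 D42277) (iv5 F45925) F45926 (iv5 F55146)
def n76337 : Q := act 3 n34873
theorem D76337 : act 3 n34873 = n76337 := rfl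
theorem F114429 : act 2 n76337 = n54113 := d0_1 D76337 F85421 (iv2 F82899) F82900 F55150
theorem F114430 : act 5 n76337 = n42287 := d6_2 (iv5 F55149) D76337 F65309
theorem F114431 : act 7 n76337 = n42286 := d8_2 F77421 D76337 (iv3 F77419)
theorem F114432 : act 4 n64354 = n76337 := d19_2 D30310 D64354 (iv3 D76337) (iv1 D34873) (iv5 D16906) F12490 F5611 (iv1 F26378) F10295 (iv4 D3296) (iv3 D1460) (iv1 D799) (iv5 D455) (iv4 F763) (iv3 F1505) D1389 D3100 D6879 D14385
theorem F114433 : act 1 n76337 = n68847 := d18_8 F82804 F51390 F82960 (iv4 F82958) (iv5 F82955) (iv4 F106580) F106598 F114432 F105038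
def n76338 : Q := act 6 n34873
theorem D76338 : act 6 n34873 = n76338 := rfl
theorem F114434 : act 2 n76338 = n52508 := d3_1 D76338 F82907 F55150
theorem F114435 : act 5 n76338 = n48689 := d12_1 D76338 (iv6 D48689) (iv5 D23739) D23740 (iv5 F55149)
def n76339 : Q := act 0 n34874
theorem D76339 : act 0 n34874 = n76339 := rfl
theorem F114436 : act 4 n76339 = n34899 := d18_3 (iv1 D34873) D34874 D76339 F55221 (iv4 D34879) (iv0 F27711) (iv4 F37350) (iv0 F37352) (iv5 F55149)
theorem F114437 : act 2 n69713 = n76339 := d15_3 (iv0 D76339) (iv0 F82948) (iv7 F106074)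
theorem F114438 : act 7 n76339 = n69716 := d4_2 (iv7 F106074) F114437 F106081
def n76340 : Q := act 3 n34874
theorem D76340 : act 3 n34874 = n76340 := rfl
def n76341 : Q := act 5 n34874
theorem D76341 : act 5 n34874 = n76341 := rfl
theorem F114439 : act 4 n76341 = n49335 := d16_2 D34874 D76341 (iv5 D49335) F37700 F18450 (iv4 F37700) D49335 F78010 F40377
theorem F114440 : act 7 n76341 = n52630 := d16_8 (iv4 D34874) (iv5 D16906) F12490 F5612 (iv4 F12490) D16906 D34874 D76341 F83146
theorem F114441 : act 0 n76341 = n52528 := d18_0 (iv4 D52528) F40329 D34900 (iv5 F106096) F106095 F55224 (iv4 F114436) (iv0 D76339) D76341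
theorem F114442 : act 1 n76341 = n76339 := d15_1 (iv0 F114441) F114438 F106081
def n76342 : Q := act 7 n34874
theorem D76342 : act 7 n34874 = n76342 := rfl
theorem F114443 : act 2 n76342 = n76341 := d4_1 D76342 F114440 F83146
theorem F114444 : act 4 n76342 = n34875 := d11_1 D76342 (iv7 D34875) D34874
theorem F114445 : act 5 n76342 = n52630 := d13_1 D76342 (iv7 F114440) (iv5 D76341)
theorem F114446 : act 1 n69716 = n76342 := d15_1 (iv0 F106083) (iv7 D76342) (iv2 F83146)
theorem F114447 : act 1 n76342 = n69713 := d15_1 F114446 F106074 (iv2 F106081)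
def n76343 : Q := act 6 n34875
theorem D76343 : act 6 n34875 = n76343 := rfl
theorem F114448 : act 3 n76343 = n52505 := d7_1 D76343 (iv6 D52505) (iv3 F55151)
theorem F114449 : act 5 n76343 = n49234 := d12_1 D76343 (iv6 D49234) F37559 (iv6 F27703) (iv5 F55152)
def n76344 : Q := act 5 n34876
theorem D76344 : act 5 n34876 = n76344 := rfl
theorem F114450 : act 3 n76344 = n34877 := d6_1 D76344 (iv5 D34877) D34876
theorem F114451 : act 7 n76344 = n69710 := d13_2 (iv7 F55154) D76344 (iv5 D69710)
def n76345 : Q := act 4 n34877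
theorem D76345 : act 4 n34877 = n76345 := rfl
theorem F114452 : act 2 n76345 = n69707 := d1_1 D76345 (iv4 D69707) (iv2 F55155)
theorem F114453 : act 7 n76345 = n69711 := d11_2 (iv7 F55156) D76345 (iv4 D69711)
theorem F114454 : act 5 n76345 = n52528 := d16_1 D76345 (iv4 D52528) (iv5 D25498) F20053 F12491 D16911 D34880 F55170 (iv2 F55155)
theorem F114455 : act 1 n76345 = n49045 := d18_6 F24851 F12490 D7889 D16908 D34877 D76345 (iv4 D49045) (iv0 F51392) (iv5 D32364)
def n76346 : Q := act 6 n34877
theorem D76346 : act 6 n34877 = n76346 := rfl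
theorem F114456 : act 2 n76346 = n69708 := d3_1 D76346 (iv6 D69708) (iv2 F55155)
theorem F114457 : act 5 n76346 = n53092 := d12_1 D76346 (iv6 D53092) (iv5 F55161) (iv6 D34878) D34877
def n76347 : Q := act 4 n34880
theorem D76347 : act 4 n34880 = n76347 := rfl
theorem F114458 : act 2 n76347 = n69711 := d1_1 D76347 (iv4 D69711) (iv2 F55169)
theorem F114459 : act 5 n76347 = n76339 := d9_2 D34880 D76347 F114436 F55221 (iv4 D34879) (iv5 D16909) D16908 D34877 D76345 F114454 (iv4 D52528) (iv5 D25498) F20053 F12491 D16911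
theorem F114460 : act 7 n76347 = n69707 := d11_2 (iv7 F55170) D76347 (iv4 D69707)
theorem F114461 : act 0 n76347 = n49045 := d18_2 (iv1 F55171) D76347 (iv4 D49045) (iv5 D23927) (iv4 F22293) (iv0 F26922) (iv4 F40330) (iv0 F40331) D31891
def n76348 : Q := act 6 n34880
theorem D76348 : act 6 n34880 = n76348 := rfl
theorem F114462 : act 2 n76348 = n69712 := d3_1 D76348 (iv6 D69712) (iv2 F55169)
theorem F114463 : act 5 n76348 = n61517 := d12_1 D76348 (iv6 D61517) F46787 (iv6 F27718) D34880
def n76349 : Q := act 6 n34883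
theorem D76349 : act 6 n34883 = n76349 := rfl
theorem F114464 : act 2 n76349 = n49124 := d3_1 D76349 (iv6 D49124) F55176
theorem F114465 : act 3 n76349 = n71315 := d7_1 D76349 (iv6 D71315) (iv3 F55178)
def n76350 : Q := act 0 n34884
theorem D76350 : act 0 n34884 = n76350 := rfl
def n76351 : Q := act 1 n34884
theorem D76351 : act 1 n34884 = n76351 := rfl
def n76352 : Q := act 7 n34884
theorem D76352 : act 7 n34884 = n76352 := rfl
theorem F114466 : act 3 n76352 = n34887 := d8_1 D76352 (iv7 D34887) (iv3 F55179)
def n76353 : Q := act 2 n34885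
theorem D76353 : act 2 n34885 = n76353 := rfl
theorem F114467 : act 7 n34886 = n76353 := d15_2 (iv0 D34885) D34886 (iv2 D76353)
def n76354 : Q := act 3 n34885
theorem D76354 : act 3 n34885 = n76354 := rfl
def n76355 : Q := act 4 n34885
theorem D76355 : act 4 n34885 = n76355 := rfl
def n76356 : Q := act 5 n34885
theorem D76356 : act 5 n34885 = n76356 := rfl
def n76357 : Q := act 6 n34885
theorem D76357 : act 6 n34885 = n76357 := rfl
theorem F114468 : act 5 n76357 = n76286 := d21_6 (iv5 D3668) (iv1 F5613) D7893 D16916 D34885 D76357 (iv1 D76286) (iv5 D34844) (iv6 D16893) F12464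
def n76358 : Q := act 7 n34885
theorem D76358 : act 7 n34885 = n76358 := rfl
theorem F114469 : act 2 n76358 = n34886 := d4_1 D76358 F114467 (iv2 D76353)
def n76359 : Q := act 3 n34886
theorem D76359 : act 3 n34886 = n76359 := rfl
def n76360 : Q := act 4 n34886
theorem D76360 : act 4 n34886 = n76360 := rfl
def n76361 : Q := act 5 n34886
theorem D76361 : act 5 n34886 = n76361 := rfl
def n76362 : Q := act 6 n34886
theorem D76362 : act 6 n34886 = n76362 := rfl
def n76363 : Q := act 4 n34888
theorem D76363 : act 4 n34888 = n76363 := rfl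
theorem F114470 : act 2 n76363 = n34890 := d1_1 D76363 (iv4 D34890) (iv2 F55180)
theorem F114471 : act 5 n76363 = n69819 := d9_2 D34888 D76363 (iv4 D69819) (iv5 D32424) (iv4 D15320) (iv5 D7250) D7249 D15317 D32416 D69800 F106218 F57746 (iv4 D32798) F25192 (iv4 F27730)
theorem F114472 : act 7 n76363 = n69791 := d11_2 (iv7 F55182) D76363 (iv4 D69791)
theorem F114473 : act 0 n76363 = n35099 := d17_0 F55771 F83683 (iv5 D52951) F40621 F20212 (iv0 F21060) D26488 (iv0 F55183) D76363
theorem F114474 : act 1 n76363 = n69799 := d18_6 F40396 (iv4 D15305) (iv1 F12539) (iv4 F27730) D34888 D76363 F106214 F55046 F52459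
def n76364 : Q := act 6 n34888
theorem D76364 : act 6 n34888 = n76364 := rfl
theorem F114475 : act 2 n76364 = n34891 := d3_1 D76364 (iv6 D34891) (iv2 F55180)
theorem F114476 : act 3 n76364 = n69681 := d7_1 D76364 (iv6 D69681) (iv3 F55181)
theorem F114477 : act 5 n76364 = n68659 := d12_1 D76364 (iv6 D68659) F55188 (iv6 D34889) D34888
def n76365 : Q := act 6 n34890
theorem D76365 : act 6 n34890 = n76365 := rfl
theorem F114478 : act 3 n76365 = n55262 := d7_1 D76365 (iv6 D55262) (iv3 F55192)
theorem F114479 : act 4 n76365 = n34891 := d10_1 D76365 (iv6 D34891) D34890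
def n76366 : Q := act 0 n34891
theorem D76366 : act 0 n34891 = n76366 := rfl
def n76367 : Q := act 1 n34891
theorem D76367 : act 1 n34891 = n76367 := rfl
def n76368 : Q := act 5 n34891
theorem D76368 : act 5 n34891 = n76368 := rfl
theorem F114480 : act 2 n76368 = n68659 := d2_1 D76368 (iv5 F114477) F114475
theorem F114481 : act 3 n76368 = n34897 := d6_1 D76368 (iv5 D34897) (iv3 F55195)
theorem F114482 : act 6 n76368 = n34893 := d12_2 D34891 D76368 (iv5 D34893) (iv6 D16920) D16919
def n76369 : Q := act 7 n34891
theorem D76369 : act 7 n34891 = n76369 := rfl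
theorem F114483 : act 3 n76369 = n34898 := d8_1 D76369 (iv7 D34898) (iv3 F55195)
theorem F114484 : act 6 n76369 = n69804 := d14_1 D76369 (iv7 D69804) (iv6 D32417) (iv7 F27739) D34891
def n76370 : Q := act 4 n34893
theorem D76370 : act 4 n34893 = n76370 := rfl
theorem F114485 : act 2 n76370 = n68658 := d1_1 D76370 (iv4 D68658) (iv2 F55201)
theorem F114486 : act 7 n76370 = n68660 := d11_2 F55205 D76370 (iv4 D68660)
def n76371 : Q := act 2 n34895
theorem D76371 : act 2 n34895 = n76371 := rfl
theorem F114487 : act 7 n34896 = n76371 := d15_2 (iv0 D34895) D34896 (iv2 D76371)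
def n76372 : Q := act 3 n34895
theorem D76372 : act 3 n34895 = n76372 := rfl
def n76373 : Q := act 4 n34895
theorem D76373 : act 4 n34895 = n76373 := rfl
def n76374 : Q := act 5 n34895
theorem D76374 : act 5 n34895 = n76374 := rfl
def n76375 : Q := act 7 n34895
theorem D76375 : act 7 n34895 = n76375 := rfl
theorem F114488 : act 2 n76375 = n34896 := d4_1 D76375 F114487 (iv2 D76371)
def n76376 : Q := act 3 n34896
theorem D76376 : act 3 n34896 = n76376 := rfl
def n76377 : Q := act 4 n34896
theorem D76377 : act 4 n34896 = n76377 := rfl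
def n76378 : Q := act 5 n34896
theorem D76378 : act 5 n34896 = n76378 := rfl
def n76379 : Q := act 6 n34896
theorem D76379 : act 6 n34896 = n76379 := rfl
def n76380 : Q := act 0 n34897
theorem D76380 : act 0 n34897 = n76380 := rfl
def n76381 : Q := act 1 n34897
theorem D76381 : act 1 n34897 = n76381 := rfl
theorem F114489 : act 1 n76381 = n69706 := d15_1 D76381 (iv7 D69706) (iv2 F55214)
theorem F114490 : act 5 n53072 = n76381 := d21_6 (iv5 D11131) (iv1 F7574) (iv5 F8913) D12220 D25744 D53072 (iv1 D76381) (iv5 D34897) (iv6 D16921) (iv1 F18073)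
def n76382 : Q := act 4 n34897
theorem D76382 : act 4 n34897 = n76382 := rfl
theorem F114491 : act 2 n76382 = n69705 := d1_1 D76382 (iv4 D69705) (iv2 F55214)
theorem F114492 : act 6 n76382 = n34900 := d10_2 (iv6 F55215) D76382 (iv4 D34900)
def n76383 : Q := act 7 n34897
theorem D76383 : act 7 n34897 = n76383 := rfl
theorem F114493 : act 2 n76383 = n69706 := d4_1 D76383 (iv7 D69706) (iv2 F55214)
theorem F114494 : act 5 n76383 = n34898 := d13_1 D76383 (iv7 D34898) D34897
theorem F114495 : act 1 n69706 = n76380 := d15_0 (iv0 D76380) D76383 F114493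
theorem F114496 : act 1 n69704 = n76383 := d15_1 D69704 (iv7 D76383) F55214
theorem F114497 : act 1 n76383 = n69703 := d15_0 (iv0 D69703) D69706 (iv2 F114493)
def n76384 : Q := act 0 n34900
theorem D76384 : act 0 n34900 = n76384 := rfl
theorem F114498 : act 4 n76384 = n49043 := d18_1 D76384 F77422 (iv4 F114444) F114445 (iv4 D52630) F40378 D52511 F106097 F106096
theorem F114499 : act 2 n69718 = n76384 := d15_3 (iv0 D76384) (iv0 F82912) F106087
theorem F114500 : act 1 n69722 = n76384 := d15_0 (iv0 D76384) (iv7 F106091) (iv2 F106094)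
theorem F114501 : act 7 n76384 = n69719 := d15_2 F106097 F114500 (iv2 F106089)
def n76385 : Q := act 3 n34900
theorem D76385 : act 3 n34900 = n76385 := rfl
def n76386 : Q := act 6 n34901
theorem D76386 : act 6 n34901 = n76386 := rfl
theorem F114502 : act 2 n76386 = n69723 := d3_1 D76386 (iv6 D69723) (iv2 F55226)
theorem F114503 : act 3 n76386 = n68661 := d7_1 D76386 (iv6 D68661) (iv3 F55227)
theorem F114504 : act 5 n76386 = n49699 := d12_1 D76386 (iv6 D49699) F37996 (iv6 F27748) (iv5 F55228)
def n76387 : Q := act 0 n34902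
theorem D76387 : act 0 n34902 = n76387 := rfl
def n76388 : Q := act 1 n34902
theorem D76388 : act 1 n34902 = n76388 := rfl
theorem F114505 : act 1 n76388 = n71456 := d15_1 D76388 (iv7 D71456) (iv2 F55231)
def n76389 : Q := act 5 n34902
theorem D76389 : act 5 n34902 = n76389 := rfl
theorem F114506 : act 2 n76389 = n67904 := d2_1 D76389 F103982 (iv2 F55231)
theorem F114507 : act 6 n76389 = n34904 := d12_2 D34902 D76389 (iv5 D34904) (iv6 D16926) D16925
def n76390 : Q := act 7 n34902
theorem D76390 : act 7 n34902 = n76390 := rfl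
theorem F114508 : act 2 n76390 = n71456 := d4_1 D76390 (iv7 D71456) (iv2 F55231)
theorem F114509 : act 6 n76390 = n71451 := d14_1 D76390 (iv7 D71451) (iv6 D33058) F35197 D34902
theorem F114510 : act 1 n71456 = n76387 := d15_0 (iv0 D76387) D76390 F114508
theorem F114511 : act 1 n71455 = n76390 := d15_1 D71455 (iv7 D76390) F55231
theorem F114512 : act 1 n76390 = n71454 := d15_0 (iv0 D71454) D71456 (iv2 F114508)
def n76391 : Q := act 5 n34903
theorem D76391 : act 5 n34903 = n76391 := rfl
theorem F114513 : act 2 n76391 = n48695 := d2_1 D76391 F85306 F55233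
theorem F114514 : act 7 n76391 = n48696 := d13_2 (iv7 F55234) D76391 F76633
theorem F114515 : act 0 n76391 = n48699 := d17_2 D34903 D76391 F76637 F36983 (iv5 F37188) F77094 (iv5 F77095) F39937 (iv4 F27758)
theorem F114516 : act 1 n76391 = n48694 := d17_6 (iv1 F41540) D54107 (iv1 F85410) (iv5 F50654) (iv4 F55232) D76391 (iv5 D48694) F50300 F50299
def n76392 : Q := act 6 n34903
theorem D76392 : act 6 n34903 = n76392 := rfl
theorem F114517 : act 2 n76392 = n67900 := d3_1 D76392 (iv6 D67900) F55233
theorem F114518 : act 3 n76392 = n42404 := d7_1 D76392 (iv6 F114377) F114376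
theorem F114519 : act 4 n76392 = n34994 := d10_1 D76392 (iv6 D34994) (iv4 F55232)
theorem F114520 : act 7 n76392 = n43426 := d14_2 (iv7 F55234) D76392 F83009 (iv7 F78499) F78498
theorem F114521 : act 0 n76392 = n34921 := d21_4 D48694 (iv1 F114516) (iv5 D76391) D76392 (iv6 D34921) (iv5 F31825) (iv1 F32608) D43401 F68225 (iv1 F50300)
theorem F114522 : act 5 n76392 = n71083 := d21_6 D12621 (iv1 F27844) (iv5 D16925) D16926 D34903 D76392 (iv1 D71083) (iv5 D32917) F26994 (iv1 D12620)
theorem F114523 : act 0 n68082 = n76392 := d17_0 F114522 (iv1 D71083) (iv5 D32917) (iv4 D15851) D15852 D32919 (iv5 F77101) F55737 D68082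
def n76393 : Q := act 4 n34904
theorem D76393 : act 4 n34904 = n76393 := rfl
theorem F114524 : act 2 n76393 = n67903 := d1_1 D76393 (iv4 D67903) (iv2 F55236)
def n76394 : Q := act 7 n34904
theorem D76394 : act 7 n34904 = n76394 := rfl
theorem F114525 : act 2 n76394 = n52017 := d4_1 D76394 F82180 (iv2 F55236)
theorem F114526 : act 3 n76394 = n67846 := d8_1 D76394 F103889 F56677
theorem F114527 : act 5 n76394 = n34905 := d13_1 D76394 (iv7 D34905) D34904
theorem F114528 : act 1 n54108 = n76394 := d15_1 (iv0 F85414) (iv7 D76394) F55236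
theorem F114529 : act 1 n76394 = n67902 := d15_1 F114528 F103980 (iv2 F85412)
def n76395 : Q := act 6 n34906
theorem D76395 : act 6 n34906 = n76395 := rfl
theorem F114530 : act 2 n76395 = n71447 := d3_1 D76395 (iv6 D71447) (iv2 F55244)
theorem F114531 : act 4 n76395 = n34907 := d10_1 D76395 (iv6 D34907) D34906
def n76396 : Q := act 0 n34907
theorem D76396 : act 0 n34907 = n76396 := rfl
def n76397 : Q := act 1 n34907
theorem D76397 : act 1 n34907 = n76397 := rfl
theorem F114532 : act 1 n76397 = n71451 := d15_1 D76397 (iv7 D71451) (iv2 F55246)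
def n76398 : Q := act 5 n34907
theorem D76398 : act 5 n34907 = n76398 := rfl
theorem F114533 : act 2 n76398 = n71450 := d2_1 D76398 (iv5 D71450) (iv2 F55246)
theorem F114534 : act 3 n76398 = n52161 := d6_1 D76398 F82469 F56640
theorem F114535 : act 6 n76398 = n34909 := d12_2 D34907 D76398 (iv5 D34909) (iv6 D16928) D16927
def n76399 : Q := act 7 n34907
theorem D76399 : act 7 n34907 = n76399 := rfl
theorem F114536 : act 2 n76399 = n71451 := d4_1 D76399 (iv7 D71451) (iv2 F55246)
theorem F114537 : act 6 n76399 = n71456 := d14_1 D76399 (iv7 D71456) (iv6 D33060) (iv7 F35194) D34907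
theorem F114538 : act 1 n71451 = n76396 := d15_0 (iv0 D76396) D76399 F114536
theorem F114539 : act 1 n71449 = n76399 := d15_1 D71449 (iv7 D76399) F55246
theorem F114540 : act 1 n76399 = n71448 := d15_0 (iv0 D71448) D71451 (iv2 F114536)
def n76400 : Q := act 4 n34909
theorem D76400 : act 4 n34909 = n76400 := rfl
def n76401 : Q := act 3 n34910
theorem D76401 : act 3 n34910 = n76401 := rfl
theorem F114541 : act 5 n76401 = n57359 := d6_2 (iv5 F55253) D76401 (iv3 D57359)
def n76402 : Q := act 6 n34910
theorem D76402 : act 6 n34910 = n76402 := rfl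
theorem F114542 : act 2 n76402 = n34914 := d3_1 D76402 (iv6 D34914) (iv2 F55252)
theorem F114543 : act 4 n76402 = n34911 := d10_1 D76402 (iv6 D34911) D34910
def n76403 : Q := act 0 n34911
theorem D76403 : act 0 n34911 = n76403 := rfl
def n76404 : Q := act 1 n34911
theorem D76404 : act 1 n34911 = n76404 := rfl
theorem F114544 : act 1 n76404 = n34918 := d15_1 D76404 (iv7 D34918) (iv2 F55255)
def n76405 : Q := act 7 n34911
theorem D76405 : act 7 n34911 = n76405 := rfl
theorem F114545 : act 2 n76405 = n34918 := d4_1 D76405 (iv7 D34918) (iv2 F55255)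
theorem F114546 : act 3 n76405 = n43870 := d8_1 D76405 (iv7 D43870) (iv3 F55256)
theorem F114547 : act 5 n76405 = n43867 := d13_1 D76405 (iv7 D43867) (iv5 F55257)
theorem F114548 : act 1 n34918 = n76403 := d15_0 (iv0 D76403) D76405 F114545
theorem F114549 : act 1 n34916 = n76405 := d15_1 D34916 (iv7 D76405) F55255
theorem F114550 : act 1 n76405 = n34915 := d15_0 (iv0 D34915) D34918 (iv2 F114545)
def n76406 : Q := act 6 n34912
theorem D76406 : act 6 n34912 = n76406 := rfl
theorem F114551 : act 2 n76406 = n34921 := d3_1 D76406 (iv6 D34921) (iv2 F55263)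
theorem F114552 : act 3 n76406 = n55618 := d7_1 D76406 (iv6 D55618) F55262
theorem F114553 : act 4 n76406 = n35080 := d10_1 D76406 (iv6 D35080) (iv4 F55261)
theorem F114554 : act 0 n76406 = n43426 := d21_4 (iv5 F41511) (iv1 F32605) (iv5 F55260) D76406 F83009 D49687 (iv1 F98040) (iv5 D62818) (iv6 F50224) F50226
theorem F114555 : act 5 n76406 = n74015 := d21_6 D11136 D23777 F40646 (iv6 F27778) (iv1 F55258) D76406 (iv1 F110759) (iv5 D48746) (iv6 D23775) (iv1 D11134)
theorem F114556 : act 0 n67900 = n76406 := d21_4 D23748 D48695 F85306 D67900 (iv6 D76406) F55260 (iv1 D20517) D20519 F41552 (iv1 D23746)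
theorem F114557 : act 7 n76406 = n68082 := d15_2 (iv0 F94978) (iv0 F114554) F104201
def n76407 : Q := act 6 n34913
theorem D76407 : act 6 n34913 = n76407 := rfl
theorem F114558 : act 2 n76407 = n57360 := d3_1 D76407 (iv6 D57360) (iv2 F55264)
theorem F114559 : act 3 n76407 = n72856 := d7_1 D76407 (iv6 D72856) (iv3 F55265)
def n76408 : Q := act 0 n34914
theorem D76408 : act 0 n34914 = n76408 := rfl
def n76409 : Q := act 1 n34914
theorem D76409 : act 1 n34914 = n76409 := rfl
def n76410 : Q := act 5 n34914
theorem D76410 : act 5 n34914 = n76410 := rfl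
def n76411 : Q := act 7 n34914
theorem D76411 : act 7 n34914 = n76411 := rfl
theorem F114560 : act 4 n76411 = n34918 := d11_1 D76411 (iv7 D34918) (iv4 F55270)
def n76412 : Q := act 2 n34915
theorem D76412 : act 2 n34915 = n76412 := rfl
theorem F114561 : act 7 n34916 = n76412 := d15_2 (iv0 D34915) D34916 (iv2 D76412)
def n76413 : Q := act 3 n34915
theorem D76413 : act 3 n34915 = n76413 := rfl
def n76414 : Q := act 4 n34915
theorem D76414 : act 4 n34915 = n76414 := rfl
def n76415 : Q := act 5 n34915
theorem D76415 : act 5 n34915 = n76415 := rfl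
def n76416 : Q := act 6 n34915
theorem D76416 : act 6 n34915 = n76416 := rfl
def n76417 : Q := act 7 n34915
theorem D76417 : act 7 n34915 = n76417 := rfl
theorem F114562 : act 2 n76417 = n34916 := d4_1 D76417 F114561 (iv2 D76412)
def n76418 : Q := act 3 n34916
theorem D76418 : act 3 n34916 = n76418 := rfl
def n76419 : Q := act 4 n34916
theorem D76419 : act 4 n34916 = n76419 := rfl
def n76420 : Q := act 5 n34916
theorem D76420 : act 5 n34916 = n76420 := rfl
theorem F114563 : act 6 n43405 = n76420 := d21_5 (iv5 F68231) (iv1 D43403) (iv5 D20519) D20520 D43405 (iv5 D76420) (iv1 D34916) D34917 F55273 (iv1 F33092)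
def n76421 : Q := act 6 n34916
theorem D76421 : act 6 n34916 = n76421 := rfl
def n76422 : Q := act 0 n34917
theorem D76422 : act 0 n34917 = n76422 := rfl
def n76423 : Q := act 1 n34917
theorem D76423 : act 1 n34917 = n76423 := rfl
theorem F114564 : act 1 n76423 = n43867 := d15_1 D76423 (iv7 D43867) (iv2 F55271)
def n76424 : Q := act 7 n34917
theorem D76424 : act 7 n34917 = n76424 := rfl
theorem F114565 : act 2 n76424 = n43867 := d4_1 D76424 (iv7 D43867) (iv2 F55271)
theorem F114566 : act 3 n76424 = n34935 := d8_1 D76424 (iv7 D34935) (iv3 F55272)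
theorem F114567 : act 4 n76424 = n46266 := d11_1 D76424 (iv7 D46266) F55274
theorem F114568 : act 5 n76424 = n34918 := d13_1 D76424 (iv7 D34918) D34917
theorem F114569 : act 1 n43867 = n76422 := d15_0 (iv0 D76422) D76424 F114565
theorem F114570 : act 1 n43866 = n76424 := d15_1 D43866 (iv7 D76424) F55271
theorem F114571 : act 1 n76424 = n43865 := d15_0 (iv0 D43865) D43867 (iv2 F114565)
def n76425 : Q := act 5 n34920
theorem D76425 : act 5 n34920 = n76425 := rfl
theorem F114572 : act 2 n76425 = n54680 := d2_1 D76425 (iv5 F86493) (iv2 F55283)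
theorem F114573 : act 0 n76425 = n54654 := d17_2 F55285 D76425 (iv5 D54654) F42249 D26438 (iv0 F55642) (iv5 D35034) F55632 (iv4 F45857)
theorem F114574 : act 1 n76425 = n54682 := d17_6 D16883 D34829 F106638 (iv5 D70188) (iv4 F55284) D76425 F86496 (iv0 F42300) F27611
def n76426 : Q := act 7 n34920
theorem D76426 : act 7 n34920 = n76426 := rfl
theorem F114575 : act 2 n76426 = n59806 := d4_1 D76426 F94174 (iv2 F55283)
theorem F114576 : act 4 n76426 = n68083 := d11_1 D76426 F104204 (iv4 F55284)
theorem F114577 : act 6 n76426 = n68082 := d14_1 D76426 (iv7 F114557) (iv6 D76406) F55259 D34920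
theorem F114578 : act 1 n59805 = n76426 := d15_1 (iv0 F94172) (iv7 D76426) F55283
theorem F114579 : act 1 n76426 = n49210 := d15_1 F114578 F77710 (iv2 F94168)
theorem F114580 : act 5 n54679 = n76426 := d21_2 D26447 D54679 F114577 F114523 (iv6 D76392) D76391 F114515 F76637 (iv6 F42295) (iv1 D26446)
theorem F114581 : act 7 n76425 = n54679 := d13_0 F114580 (iv7 D76426) D76425
def n76428 : Q := act 1 n34922
theorem D76428 : act 1 n34922 = n76428 := rfl
theorem F114583 : act 1 n76428 = n34927 := d15_1 D76428 (iv7 D34927) D34922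
def n76429 : Q := act 3 n34922
theorem D76429 : act 3 n34922 = n76429 := rfl
theorem F114584 : act 7 n76429 = n34928 := d8_2 F55289 D76429 (iv3 D34928)
def n76430 : Q := act 4 n34922
theorem D76430 : act 4 n34922 = n76430 := rfl
theorem F114585 : act 2 n76430 = n34924 := d1_1 D76430 (iv4 D34924) D34922
theorem F114586 : act 7 n76430 = n34929 := d11_2 F55289 D76430 (iv4 D34929)
def n76431 : Q := act 5 n34922
theorem D76431 : act 5 n34922 = n76431 := rfl
theorem F114587 : act 2 n76431 = n34925 := d2_1 D76431 (iv5 D34925) D34922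
theorem F114588 : act 7 n76431 = n34930 := d13_2 F55289 D76431 (iv5 D34930)
def n76432 : Q := act 6 n34922
theorem D76432 : act 6 n34922 = n76432 := rfl
theorem F114589 : act 2 n76432 = n34926 := d3_1 D76432 (iv6 D34926) D34922
def n76433 : Q := act 0 n34923
theorem D76433 : act 0 n34923 = n76433 := rfl
def n76434 : Q := act 1 n34923
theorem D76434 : act 1 n34923 = n76434 := rfl
def n76435 : Q := act 2 n34923
theorem D76435 : act 2 n34923 = n76435 := rfl
def n76436 : Q := act 4 n34923
theorem D76436 : act 4 n34923 = n76436 := rfl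
def n76437 : Q := act 5 n34923
theorem D76437 : act 5 n34923 = n76437 := rfl
theorem F114590 : act 3 n76437 = n34925 := d6_1 D76437 (iv5 D34925) D34923
def n76438 : Q := act 6 n34923
theorem D76438 : act 6 n34923 = n76438 := rfl
theorem F114591 : act 3 n76438 = n34926 := d7_1 D76438 (iv6 D34926) D34923
def n76439 : Q := act 7 n34923
theorem D76439 : act 7 n34923 = n76439 := rfl
theorem F114592 : act 3 n76439 = n34927 := d8_1 D76439 (iv7 D34927) D34923
def n76441 : Q := act 1 n34924
theorem D76441 : act 1 n34924 = n76441 := rfl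
theorem F114593 : act 1 n76441 = n34929 := d15_1 D76441 (iv7 F114586) F114585
def n76444 : Q := act 6 n34924
theorem D76444 : act 6 n34924 = n76444 := rfl
theorem F114594 : act 4 n76444 = n34926 := d10_1 D76444 (iv6 D34926) D34924
def n76445 : Q := act 7 n34924
theorem D76445 : act 7 n34924 = n76445 := rfl
theorem F114595 : act 2 n76445 = n34929 := d4_1 D76445 (iv7 F114586) F114585
theorem F114596 : act 4 n76445 = n34927 := d11_1 D76445 (iv7 D34927) D34924
def n76446 : Q := act 0 n34925
theorem D76446 : act 0 n34925 = n76446 := rfl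
theorem F114598 : act 5 n76446 = n55275 := d21_2 D34925 D76446 (iv6 D55275) (iv1 D26709) (iv6 D12765) (iv5 D6036) F4050 D3580 D7902 D16939
def n76447 : Q := act 1 n34925
theorem D76447 : act 1 n34925 = n76447 := rfl
theorem F114599 : act 1 n76447 = n34930 := d15_1 D76447 (iv7 F114588) F114587
def n76448 : Q := act 4 n34925
theorem D76448 : act 4 n34925 = n76448 := rfl
def n76449 : Q := act 6 n34925
theorem D76449 : act 6 n34925 = n76449 := rfl
def n76450 : Q := act 7 n34925
theorem D76450 : act 7 n34925 = n76450 := rfl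
theorem F114600 : act 2 n76450 = n34930 := d4_1 D76450 (iv7 F114588) F114587
theorem F114601 : act 5 n76450 = n34927 := d13_1 D76450 (iv7 D34927) D34925
theorem F114602 : act 1 n34930 = n76446 := d15_0 (iv0 D76446) D76450 F114600
def n76451 : Q := act 0 n34926
theorem D76451 : act 0 n34926 = n76451 := rfl
def n76452 : Q := act 1 n34926
theorem D76452 : act 1 n34926 = n76452 := rfl
def n76453 : Q := act 5 n34926
theorem D76453 : act 5 n34926 = n76453 := rfl
theorem F114603 : act 0 n76453 = n48736 := d21_7 (iv5 D6036) F4050 D3580 D7902 D16939 D34926 D76453 (iv5 D48736) (iv6 D23768) F18072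
theorem F114604 : act 0 n52802 = n76453 := d21_7 (iv5 F69388) (iv1 F69391) (iv5 F83499) (iv6 D52848) (iv1 F54604) F54601 (iv5 F83399) (iv5 D76453) (iv6 D34926) (iv1 F55141)
def n76454 : Q := act 7 n34926
theorem D76454 : act 7 n34926 = n76454 := rfl
def n76455 : Q := act 6 n34927
theorem D76455 : act 6 n34927 = n76455 := rfl
theorem F114605 : act 2 n76455 = n34931 := d3_1 D76455 (iv6 D34931) (iv2 F55290)
def n76456 : Q := act 0 n34928
theorem D76456 : act 0 n34928 = n76456 := rfl
def n76457 : Q := act 1 n34928
theorem D76457 : act 1 n34928 = n76457 := rfl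
def n76458 : Q := act 2 n34928
theorem D76458 : act 2 n34928 = n76458 := rfl
def n76459 : Q := act 4 n34928
theorem D76459 : act 4 n34928 = n76459 := rfl
def n76460 : Q := act 5 n34928
theorem D76460 : act 5 n34928 = n76460 := rfl
theorem F114606 : act 3 n76460 = n34930 := d6_1 D76460 (iv5 D34930) D34928
def n76461 : Q := act 6 n34928
theorem D76461 : act 6 n34928 = n76461 := rfl
theorem F114607 : act 3 n76461 = n34931 := d7_1 D76461 (iv6 D34931) D34928
def n76464 : Q := act 6 n34929
theorem D76464 : act 6 n34929 = n76464 := rfl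
theorem F114608 : act 4 n76464 = n34931 := d10_1 D76464 (iv6 D34931) D34929
def n76465 : Q := act 4 n34930
theorem D76465 : act 4 n34930 = n76465 := rfl
def n76466 : Q := act 0 n34931
theorem D76466 : act 0 n34931 = n76466 := rfl
theorem F114609 : act 5 n76466 = n69703 := d21_0 (iv1 F114497) F114494 (iv6 F56566) (iv1 F56568) D55275 (iv5 F114598) (iv1 F114602) (iv5 D34930) D34931 D76466
def n76467 : Q := act 1 n34931
theorem D76467 : act 1 n34931 = n76467 := rfl
def n76468 : Q := act 5 n34931
theorem D76468 : act 5 n34931 = n76468 := rfl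
theorem F114610 : act 0 n76374 = n76468 := d21_1 D76374 (iv5 D76468) (iv6 D34931) (iv1 D16940) (iv6 D7902) (iv5 D3580) D3578 D7895 D16921 D34895
def n76469 : Q := act 7 n34931
theorem D76469 : act 7 n34931 = n76469 := rfl
def n76470 : Q := act 2 n34932
theorem D76470 : act 2 n34932 = n76470 := rfl
theorem F114611 : act 7 n34933 = n76470 := d15_2 (iv0 D34932) D34933 (iv2 D76470)
def n76471 : Q := act 3 n34932
theorem D76471 : act 3 n34932 = n76471 := rfl
def n76472 : Q := act 4 n34932
theorem D76472 : act 4 n34932 = n76472 := rfl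
theorem F114612 : act 0 n44734 = n76472 := d20_10 (iv4 D76472) (iv1 F69392) F69387 (iv3 D41958) F63223 D45375 F71543 (iv1 F72598) F72589 F71591
theorem F114613 : act 3 n44720 = n76472 := d20_5 F63199 F61486 F32361 (iv3 F33511) D44720 (iv4 D76472) (iv1 F69392) F69387 (iv3 D41958) F63223
def n76473 : Q := act 5 n34932
theorem D76473 : act 5 n34932 = n76473 := rfl
def n76474 : Q := act 6 n34932
theorem D76474 : act 6 n34932 = n76474 := rfl
theorem F114614 : act 5 n76474 = n52539 := d21_6 (iv5 D16946) (iv1 D7904) D7905 (iv6 F27780) D34932 D76474 (iv1 D52539) F40335 (iv6 D20527) F27789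
def n76475 : Q := act 7 n34932
theorem D76475 : act 7 n34932 = n76475 := rfl
theorem F114615 : act 2 n76475 = n34933 := d4_1 D76475 F114611 (iv2 D76470)
def n76476 : Q := act 3 n34933
theorem D76476 : act 3 n34933 = n76476 := rfl
theorem F114616 : act 4 n76476 = n46000 := d20_6 (iv4 F63433) (iv1 F63165) (iv4 F63215) (iv3 F69386) (iv1 F69391) D76476 (iv1 D46000) F34480 F31744 D19910
def n76477 : Q := act 4 n34933
theorem D76477 : act 4 n34933 = n76477 := rfl
def n76478 : Q := act 6 n34933
theorem D76478 : act 6 n34933 = n76478 := rfl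
def n76479 : Q := act 0 n34934
theorem D76479 : act 0 n34934 = n76479 := rfl
def n76480 : Q := act 1 n34934
theorem D76480 : act 1 n34934 = n76480 := rfl
theorem F114617 : act 1 n76480 = n41958 := d15_1 D76480 F64729 (iv2 F55291)
theorem F114618 : act 4 n76480 = n42125 := d20_0 (iv1 D42125) (iv4 F33519) F33518 (iv1 F35802) (iv3 D19773) (iv4 D9281) D9278 D19760 D41958 (iv1 F114617)
theorem E10344 : n52698 = n48716 := ((c18_1 (iv1 F76689) (iv4 D52698) (iv1 D25577) F20109 D16941 D34934 D76480 F114618 F83214 F83212)).symm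
theorem F114619 : act 4 n48716 = n25577 := (sb E10344 (iv4 D52698))
def n76481 : Q := act 5 n34934
theorem D76481 : act 5 n34934 = n76481 := rfl
theorem F114620 : act 2 n76481 = n44643 := d2_1 D76481 (iv5 D44643) (iv2 F55291)
def n76482 : Q := act 7 n34934
theorem D76482 : act 7 n34934 = n76482 := rfl
theorem F114621 : act 2 n76482 = n41958 := d4_1 D76482 F64729 (iv2 F55291)
theorem F114622 : act 4 n76482 = n34935 := d11_1 D76482 (iv7 D34935) D34934
theorem F114623 : act 1 n41958 = n76479 := d15_0 (iv0 D76479) D76482 F114621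
theorem F114624 : act 1 n44642 = n76482 := d15_1 D44642 (iv7 D76482) F55291
theorem F114625 : act 4 n42124 = n76479 := d20_0 (iv1 F114623) (iv4 F69387) F69386 F63213 (iv3 F31505) (iv4 D19745) (iv1 F35783) (iv4 F14577) (iv3 F31716) D42124
theorem F114626 : act 3 n43231 = n42124 := d20_5 (iv4 D19110) (iv1 F35661) (iv4 F15077) (iv3 F32393) D43231 F114625 (iv1 F114623) (iv4 F69387) F69386 F63213
theorem E10345 : n52693 = n48715 := (c18_8 D42124 F114625 (iv1 F114623) (iv4 F69387) F69388 F55137 F40464 D52693 (iv0 D48715) F37018)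
theorem F114627 : act 4 n48715 = n25576 := (sb E10345 (iv4 D52693))
theorem F114628 : act 4 n52722 = n60003 := d17_4 (iv1 F40464) (iv5 F56627) (iv1 F83270) (iv5 F83309) F94471 F83214 F83212 F76695 F114627
theorem E10346 : n60001 = n25590 := (c10_4 D52722 F114628 (iv6 D60003) D60001)
theorem E10347 : n52720 = n28489 := ((D52720).symm.trans (sb E10346 (iv4 D60001)))
theorem F114629 : act 4 n28489 = n25590 := (sb E10347 (iv4 D52720))
theorem F114631 : act 4 n52723 = n60004 := d11_3 (iv7 D60004) F114629 D52723
theorem E10348 : n60006 = n25591 := (c1_3 F114631 F94472 D60006 (iv2 F83310))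
theorem E10349 : n52725 = n28490 := ((D52725).symm.trans (sb E10348 (iv4 D60006)))
theorem F114632 : act 4 n28490 = n25591 := (sb E10349 (iv4 D52725))
theorem F114633 : act 4 n52727 = n60008 := d10_3 (iv6 D60008) F114632 D52727
theorem F114634 : act 0 n44641 = n76482 := d18_2 D52662 (iv4 F83215) F114622 F55293 (iv4 F40463) F40466 F83209 (iv0 D25556) D25558
def n76483 : Q := act 6 n34935
theorem D76483 : act 6 n34935 = n76483 := rfl
theorem F114635 : act 2 n76483 = n43874 := d3_1 D76483 (iv6 F69389) F69385
theorem F114636 : act 7 n76483 = n34946 := d14_2 D34935 D76483 (iv6 D34946) (iv7 D16951) (iv6 F27780)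
theorem F114637 : act 1 n43872 = n76483 := d15_1 D43872 F114636 F55314
theorem F114638 : act 1 n76483 = n43871 := d15_0 (iv0 D43871) D43874 (iv2 F114635)
def n76484 : Q := act 0 n34936
theorem D76484 : act 0 n34936 = n76484 := rfl
def n76485 : Q := act 1 n34936
theorem D76485 : act 1 n34936 = n76485 := rfl
theorem F114639 : act 1 n76485 = n70288 := d15_1 D76485 (iv7 D70288) (iv2 F55294)
def n76486 : Q := act 7 n34936
theorem D76486 : act 7 n34936 = n76486 := rfl
theorem F114640 : act 2 n76486 = n70288 := d4_1 D76486 (iv7 D70288) (iv2 F55294)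
theorem F114641 : act 1 n70288 = n76484 := d15_0 (iv0 D76484) D76486 F114640
theorem F114642 : act 1 n70287 = n76486 := d15_1 D70287 (iv7 D76486) F55294
theorem F114643 : act 1 n76486 = n70286 := d15_0 (iv0 D70286) D70288 (iv2 F114640)
def n76487 : Q := act 5 n34937
theorem D76487 : act 5 n34937 = n76487 := rfl
theorem F114644 : act 2 n76487 = n43834 := d2_1 D76487 F68901 F55300
theorem F114645 : act 3 n76487 = n69679 := d6_1 D76487 (iv5 D69679) (iv3 F55298)
theorem F114646 : act 7 n76487 = n69679 := d13_2 (iv7 F55296) D76487 (iv5 D69679)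
theorem F114647 : act 0 n76487 = n34943 := d17_2 (iv1 F55295) D76487 F55308 F46786 (iv5 F43288) (iv0 D26858) (iv5 D12850) D12849 D26855
theorem F114648 : act 4 n76487 = n41649 := d17_4 F68208 F68205 (iv1 F55295) D76487 F64271 F58451 (iv5 D22675) D22673 (iv4 F65135)
theorem F114649 : act 1 n76487 = n43862 := d17_8 (iv1 F64046) (iv5 F73827) (iv1 F73830) F72574 (iv4 F65381) (iv5 D34938) D34937 D76487 F68961
def n76488 : Q := act 6 n34938
theorem D76488 : act 6 n34938 = n76488 := rfl
theorem F114650 : act 3 n76488 = n34940 := d7_1 D76488 (iv6 D34940) (iv3 F55302)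
def n76489 : Q := act 1 n34939
theorem D76489 : act 1 n34939 = n76489 := rfl
theorem F114651 : act 7 n76489 = n62616 := d15_2 (iv0 F95774) D76489 F97653
theorem F114652 : act 4 n67927 = n76489 := d20_6 F23104 F12716 (iv4 F25944) D34019 (iv1 F79147) (iv3 F104005) (iv1 D76489) F55305 F41858 F23107
theorem F114653 : act 6 n76489 = n67844 := d10_2 D67927 F114652 F103881
theorem F114654 : act 2 n69688 = n76489 := d3_3 F114653 (iv2 F103885) D69688
theorem F114655 : act 3 n67845 = n76489 := d7_3 F114653 (iv3 D67844) D67845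
theorem F114656 : act 5 n52977 = n76489 := d21_8 (iv5 F106060) (iv1 F106061) (iv5 D52552) (iv6 D25509) D25504 (iv6 F40340) D33285 (iv1 F83702) F114653 F103883
theorem F114657 : act 1 n72103 = n62616 := d15_1 (iv0 F108561) (iv7 F114651) (iv2 F114654)
def n76490 : Q := act 5 n34939
theorem D76490 : act 5 n34939 = n76490 := rfl
theorem F114658 : act 3 n76490 = n34941 := d6_1 D76490 (iv5 D34941) (iv3 F55304)
def n76491 : Q := act 0 n34940
theorem D76491 : act 0 n34940 = n76491 := rfl
def n76492 : Q := act 1 n34940
theorem D76492 : act 1 n34940 = n76492 := rfl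
def n76493 : Q := act 5 n34940
theorem D76493 : act 5 n34940 = n76493 := rfl
theorem F114659 : act 6 n76493 = n34941 := d12_2 D34940 D76493 (iv5 D34941) (iv6 D16947) D16946
def n76494 : Q := act 7 n34940
theorem D76494 : act 7 n34940 = n76494 := rfl
theorem F114660 : act 6 n76494 = n70288 := d14_1 D76494 (iv7 D70288) (iv6 D32621) (iv7 F27788) D34940
def n76495 : Q := act 4 n34941
theorem D76495 : act 4 n34941 = n76495 := rfl
theorem F114661 : act 0 n76495 = n60448 := d17_0 F114212 (iv1 F114211) F83113 (iv4 D34817) (iv5 D16870) D16869 D34814 (iv0 F55306) D76495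
theorem F114662 : act 1 n76495 = n76237 := d18_6 (iv1 F55323) (iv4 D25760) (iv1 F23476) (iv4 F27790) D34941 D76495 (iv4 D76237) F94982 F94980
def n76496 : Q := act 0 n34942
theorem D76496 : act 0 n34942 = n76496 := rfl
def n76497 : Q := act 1 n34942
theorem D76497 : act 1 n34942 = n76497 := rfl
def n76498 : Q := act 5 n34942
theorem D76498 : act 5 n34942 = n76498 := rfl
theorem F114663 : act 2 n76498 = n62627 := d2_1 D76498 F97674 F69381
theorem F114664 : act 6 n76498 = n49207 := d12_2 D34942 D76498 F77702 (iv6 F37643) F28374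
def n76499 : Q := act 7 n34942
theorem D76499 : act 7 n34942 = n76499 := rfl
def n76500 : Q := act 6 n34943
theorem D76500 : act 6 n34943 = n76500 := rfl
theorem F114665 : act 3 n76500 = n34944 := d7_1 D76500 (iv6 D34944) D34943
theorem F114666 : act 4 n76500 = n45992 := d10_1 D76500 (iv6 D45992) (iv4 F55309)
theorem F114667 : act 5 n76500 = n61515 := d12_1 D76500 (iv6 D61515) (iv5 D29123) D29124 (iv5 F55308)
def n76501 : Q := act 0 n34944
theorem D76501 : act 0 n34944 = n76501 := rfl
def n76503 : Q := act 7 n34944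
theorem D76503 : act 7 n34944 = n76503 := rfl
theorem F114668 : act 5 n76503 = n61526 := d13_1 D76503 (iv7 D61526) (iv5 F55310)
def n76504 : Q := act 6 n34945
theorem D76504 : act 6 n34945 = n76504 := rfl
theorem F114669 : act 2 n76504 = n44640 := d3_1 D76504 (iv6 D44640) (iv2 F55311)
theorem F114670 : act 4 n76504 = n43873 := d10_1 D76504 F68976 (iv4 F55312)
def n76505 : Q := act 0 n34946
theorem D76505 : act 0 n34946 = n76505 := rfl
theorem F114671 : act 1 n43874 = n76505 := d15_0 (iv0 D76505) (iv7 F114636) F114635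
def n76506 : Q := act 1 n34946
theorem D76506 : act 1 n34946 = n76506 := rfl
theorem F114672 : act 1 n76506 = n43874 := d15_1 D76506 (iv7 D43874) (iv2 F55314)
def n76507 : Q := act 0 n34947
theorem D76507 : act 0 n34947 = n76507 := rfl
def n76508 : Q := act 1 n34947
theorem D76508 : act 1 n34947 = n76508 := rfl
def n76509 : Q := act 7 n34947
theorem D76509 : act 7 n34947 = n76509 := rfl
def n76510 : Q := act 6 n34949
theorem D76510 : act 6 n34949 = n76510 := rfl
theorem F114673 : act 3 n76510 = n34951 := d7_1 D76510 (iv6 D34951) (iv3 F55316)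
def n76511 : Q := act 0 n34950
theorem D76511 : act 0 n34950 = n76511 := rfl
def n76512 : Q := act 1 n34950
theorem D76512 : act 1 n34950 = n76512 := rfl
theorem F114674 : act 1 n76512 = n59809 := d15_1 D76512 F94185 F82828
def n76513 : Q := act 5 n34950
theorem D76513 : act 5 n34950 = n76513 := rfl
theorem F114675 : act 2 n76513 = n52773 := d2_1 D76513 F83365 F82828
theorem F114676 : act 3 n76513 = n34952 := d6_1 D76513 (iv5 D34952) (iv3 F55317)
theorem F114677 : act 0 n76513 = n49130 := d21_7 D11236 D23975 (iv5 F54362) D34882 F55352 D34950 D76513 (iv5 D49130) (iv6 D23973) (iv1 D11234)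
def n76514 : Q := act 7 n34950
theorem D76514 : act 7 n34950 = n76514 := rfl
theorem F114678 : act 2 n76514 = n59809 := d4_1 D76514 F94185 F82828
theorem F114679 : act 3 n76514 = n34953 := d8_1 D76514 (iv7 D34953) (iv3 F55317)
theorem F114680 : act 4 n76514 = n76514 := d11_1 D76514 (iv7 D76514) F55318
theorem F114681 : act 6 n76514 = n59809 := d14_1 D76514 F94185 F82830 F40432 D34950
theorem F114682 : act 1 n59809 = n76511 := d15_0 (iv0 D76511) D76514 F114678
def n76515 : Q := act 0 n34951
theorem D76515 : act 0 n34951 = n76515 := rfl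
def n76516 : Q := act 1 n34951
theorem D76516 : act 1 n34951 = n76516 := rfl
def n76517 : Q := act 5 n34951
theorem D76517 : act 5 n34951 = n76517 := rfl
theorem F114683 : act 6 n76517 = n34952 := d12_2 D34951 D76517 (iv5 D34952) (iv6 D16956) D16955
def n76518 : Q := act 7 n34951
theorem D76518 : act 7 n34951 = n76518 := rfl
def n76519 : Q := act 4 n34952
theorem D76519 : act 4 n34952 = n76519 := rfl
theorem F114684 : act 0 n76519 = n76223 := d17_0 (iv5 F114200) (iv1 F114340) (iv5 D76293) (iv4 D34848) (iv5 D16894) (iv0 F20225) D25759 (iv0 F55319) D76519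
theorem F114685 : act 1 n76519 = n76221 := d18_6 F83806 F55159 (iv1 F27716) (iv4 F27800) D34952 D76519 (iv4 D76221) D76220 F114186
def n76520 : Q := act 0 n34954
theorem D76520 : act 0 n34954 = n76520 := rfl
theorem F114686 : act 3 n76520 = n55993 := d20_5 F12505 D7917 D16958 D34954 D76520 F88621 (iv1 F50650) D32370 F51405 F27720
theorem F114687 : act 4 n76520 = n48681 := d20_8 (iv4 D34972) (iv1 D16971) (iv4 F27741) F27740 F27707 D34876 (iv4 F55325) D76520 (iv3 F77008) (iv1 F77010)
theorem F114688 : act 2 n52448 = n76520 := d15_3 (iv0 D76520) (iv0 F76603) (iv7 F82803)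
theorem F114689 : act 1 n52673 = n76520 := d15_0 (iv0 D76520) F55326 (iv2 F83237)
theorem F114690 : act 7 n76520 = n48710 := d15_2 D52673 F114689 F76656
theorem F114691 : act 6 n49302 = n76520 := d14_5 F114690 (iv6 D48710) (iv7 F37004) D25565 (iv7 F77937)
def n76521 : Q := act 2 n34954
theorem D76521 : act 2 n34954 = n76521 := rfl
theorem F114692 : act 3 n76521 = n52635 := d0_2 D34954 D76521 (iv2 F83159) F49864 (iv2 F27806)
theorem F114693 : act 4 n76521 = n76297 := d1_2 (iv4 F55325) D76521 (iv2 F114375)
theorem F114694 : act 7 n76521 = n52673 := d4_2 (iv7 F55326) D76521 F83237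
theorem F114695 : act 1 n76521 = n48710 := d15_0 (iv0 F76659) (iv7 F55326) D76521
theorem F114696 : act 1 n52448 = n76521 := d15_0 F114695 (iv7 F114690) (iv2 F114688)
def n76522 : Q := act 5 n34954
theorem D76522 : act 5 n34954 = n76522 := rfl
theorem F114697 : act 3 n76522 = n34955 := d6_1 D76522 (iv5 D34955) D34954
theorem F114698 : act 7 n76522 = n69726 := d13_2 (iv7 F55326) D76522 (iv5 D69726)
theorem F114699 : act 4 n76522 = n64563 := d17_4 F85423 (iv5 D52674) F76603 D76522 (iv5 D64563) (iv0 D30388) D30391 D64573 (iv4 F106594)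
theorem E10350 : n64563 = n64363 := (c18_6 D49087 (iv4 F82962) F82963 (iv4 F55325) D76522 F114699 (iv0 D64363) (iv4 F82951) F114373 F40358)
theorem F114700 : act 4 n64363 = n76522 := (sb E10350 (iv4 F114699))
theorem F114701 : act 5 n64363 = n30388 := (sb E10350 (iv5 D64563))
theorem F114702 : act 0 n68841 = n76522 := d21_1 D68841 (iv5 D76522) F83003 F94178 (iv6 D43235) F32394 (iv1 F15175) D9732 D20501 F65414
def n76523 : Q := act 4 n34955
theorem D76523 : act 4 n34955 = n76523 := rfl
theorem F114703 : act 2 n76523 = n69724 := d1_1 D76523 (iv4 D69724) (iv2 F55327)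
theorem F114704 : act 7 n76523 = n69727 := d11_2 (iv7 F55328) D76523 (iv4 D69727)
theorem F114705 : act 5 n76523 = n52511 := d16_1 D76523 (iv4 D52511) (iv5 D25486) F20034 F12521 D16960 D34956 F55330 (iv2 F55327)
theorem F114706 : act 0 n76523 = n68547 := d18_2 F77425 D76523 (iv4 D68547) (iv5 D31891) (iv4 D15014) (iv0 F18632) (iv4 F36963) (iv0 F37704) D49044
def n76524 : Q := act 6 n34955
theorem D76524 : act 6 n34955 = n76524 := rfl
theorem F114707 : act 2 n76524 = n69725 := d3_1 D76524 (iv6 D69725) (iv2 F55327)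
theorem F114708 : act 5 n76524 = n76291 := d12_1 D76524 (iv6 D76291) (iv5 F55110) F40686 D34955
def n76525 : Q := act 4 n34956
theorem D76525 : act 4 n34956 = n76525 := rfl
theorem F114709 : act 2 n76525 = n69727 := d1_1 D76525 (iv4 D69727) (iv2 F55329)
theorem F114710 : act 5 n76525 = n76384 := d9_2 D34956 D76525 F114498 (iv5 D49043) (iv4 F37343) (iv5 D16959) D16958 D34955 D76523 F114705 (iv4 D52511) (iv5 D25486) F20034 F12521 D16960
theorem F114711 : act 7 n76525 = n69724 := d11_2 (iv7 F55330) D76525 (iv4 D69724)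
theorem F114712 : act 1 n76525 = n68547 := d18_6 F27706 F24847 (iv1 F12519) D16960 D34956 D76525 (iv4 D68547) (iv0 F55157) (iv5 D34877)
def n76526 : Q := act 6 n34956
theorem D76526 : act 6 n34956 = n76526 := rfl
theorem F114713 : act 2 n76526 = n69728 := d3_1 D76526 (iv6 D69728) (iv2 F55329)
theorem F114714 : act 5 n76526 = n62608 := d12_1 D76526 (iv6 D62608) (iv5 D29604) (iv6 F27816) D34956
def n76527 : Q := act 6 n34957
theorem D76527 : act 6 n34957 = n76527 := rfl
theorem F114715 : act 2 n76527 = n69790 := d3_1 D76527 (iv6 D69790) (iv2 F55331)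
theorem F114716 : act 3 n76527 = n71318 := d7_1 D76527 (iv6 D71318) (iv3 F55332)
theorem F114717 : act 5 n76527 = n71318 := d12_1 D76527 (iv6 D71318) F52177 (iv6 F50911) D34957
def n76528 : Q := act 5 n34958
theorem D76528 : act 5 n34958 = n76528 := rfl
theorem F114718 : act 2 n76528 = n69851 := d2_1 D76528 (iv5 D69851) (iv2 F55336)
theorem F114719 : act 3 n76528 = n34961 := d6_1 D76528 (iv5 D34961) (iv3 F55337)
theorem F114720 : act 7 n76528 = n69871 := d13_2 (iv7 F55339) D76528 (iv5 D69871)
theorem F114721 : act 4 n76528 = n60269 := d16_2 (iv4 F55338) D76528 F94822 F62313 F62312 (iv4 F106031) (iv5 D69679) (iv7 F55296) (iv2 F55300)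
theorem F114722 : act 0 n76528 = n70058 := d17_2 (iv1 F55341) D76528 F106449 (iv4 D68860) F50402 F32454 (iv5 F32455) D25554 (iv4 F51553)
theorem F114723 : act 1 n76528 = n61656 := d17_6 F82943 F82940 F69379 F68901 (iv4 F55338) D76528 (iv5 D61656) (iv0 F83065) F83064
theorem F114724 : act 5 n60251 = n35054 := d18_9 F108875 (iv4 F114721) F114722 F106450 F89588 F89584 (iv0 F74315) F74316 D60251
def n76529 : Q := act 6 n34959
theorem D76529 : act 6 n34959 = n76529 := rfl
theorem F114725 : act 2 n76529 = n69788 := d3_1 D76529 (iv6 D69788) (iv2 F55342)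
def n76530 : Q := act 5 n34962
theorem D76530 : act 5 n34962 = n76530 := rfl
theorem F114727 : act 2 n76530 = n34968 := d2_1 D76530 (iv5 D34968) (iv2 F55521)
theorem F114728 : act 3 n76530 = n54172 := d6_1 D76530 F85495 (iv3 F82784)
theorem F114729 : act 7 n76530 = n34973 := d13_2 (iv7 F55522) D76530 (iv5 D34973)
theorem F114730 : act 0 n76530 = n53877 := d17_2 D34962 D76530 F84942 F41503 D54076 (iv0 F85339) F83100 F55190 F55187
theorem F114731 : act 1 n76530 = n59869 := d17_6 F45967 D31935 (iv1 F104819) F104820 (iv4 F94194) D76530 (iv5 D59869) (iv0 D28424) D28426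
theorem F114732 : act 4 n76530 = n68620 := d18_5 (iv1 F37172) D28370 (iv1 F94192) (iv4 F94194) D76530 F104824 (iv4 D31936) F50539 F41631
def n76531 : Q := act 5 n34967
theorem D76531 : act 5 n34967 = n76531 := rfl
theorem F114733 : act 2 n76531 = n68616 := d2_1 D76531 F104820 F94195
theorem F114734 : act 3 n76531 = n67895 := d6_1 D76531 (iv5 D67895) (iv3 F55373)
theorem F114735 : act 7 n76531 = n68615 := d13_2 (iv7 F94191) D76531 F104817
theorem F114736 : act 0 n76531 = n54068 := d17_2 F56597 D76531 (iv5 D54068) (iv4 D26155) D26156 F50514 F24819 F37166 (iv4 F56594)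
theorem F114737 : act 1 n76531 = n54064 := d17_6 F54332 (iv5 F50103) F79158 (iv5 D34968) D34967 D76531 (iv5 D54064) (iv0 F77502) F77499
def n76532 : Q := act 6 n34967
theorem D76532 : act 6 n34967 = n76532 := rfl
theorem F114738 : act 2 n76532 = n70201 := d3_1 D76532 F106660 F94195
theorem F114739 : act 3 n76532 = n67896 := d7_1 D76532 (iv6 D67896) (iv3 F55373)
theorem F114740 : act 4 n76532 = n34969 := d10_1 D76532 (iv6 D34969) D34967
theorem F114741 : act 7 n76532 = n70200 := d14_2 (iv7 F94191) D76532 F106657 (iv7 F78794) F94190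
theorem F114742 : act 0 n76532 = n46824 := d21_4 D54064 (iv1 F114737) (iv5 D76531) D76532 (iv6 D46824) (iv5 D22483) D22480 (iv5 F72750) F77500 F77502
def n76533 : Q := act 4 n34968
theorem D76533 : act 4 n34968 = n76533 := rfl
theorem F114743 : act 2 n76533 = n68620 := d1_1 D76533 (iv4 F114732) F114727
theorem F114744 : act 7 n76533 = n59906 := d11_2 (iv7 F55520) D76533 (iv4 D59906)
theorem F114745 : act 0 n76533 = n54069 := d18_2 F79158 D76533 (iv4 D54069) (iv5 D26156) D26155 (iv0 F77055) F77054 F50928 (iv5 F50103)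
theorem F114746 : act 1 n76533 = n54065 := d18_6 D23834 (iv4 F56594) F56597 (iv4 D34967) D34968 D76533 (iv4 D54065) F50512 F20705
def n76534 : Q := act 6 n34968
theorem D76534 : act 6 n34968 = n76534 := rfl
theorem F114747 : act 3 n76534 = n59886 := d7_1 D76534 (iv6 D59886) (iv3 F55374)
def n76535 : Q := act 5 n34971
theorem D76535 : act 5 n34971 = n76535 := rfl
theorem F114748 : act 2 n76535 = n54176 := d2_1 D76535 F85503 (iv2 F55378)
theorem F114749 : act 3 n76535 = n34973 := d6_1 D76535 (iv5 D34973) D34971
theorem F114750 : act 7 n76535 = n54172 := d13_2 F82785 D76535 F85495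
theorem F114751 : act 0 n76535 = n59849 := d17_2 F55392 D76535 (iv5 D59849) F50395 D54112 (iv0 F112654) (iv5 D75131) (iv0 F56606) F56604
theorem F114752 : act 1 n76535 = n53972 := d17_6 F54326 (iv5 F40352) (iv1 F83076) F83078 (iv4 F55379) D76535 F85149 (iv0 F41376) (iv4 F54328)
theorem F114753 : act 4 n76535 = n54145 := d18_5 (iv1 D14849) (iv4 F24510) D31514 (iv4 F55379) D76535 F85467 F41607 F41590 (iv5 F41591)
def n76536 : Q := act 5 n34972
theorem D76536 : act 5 n34972 = n76536 := rfl
theorem F114754 : act 2 n76536 = n68615 := d2_1 D76536 F104817 (iv2 F94189)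
theorem F114755 : act 3 n76536 = n49100 := d6_1 D76536 (iv5 F94167) (iv3 F94164)
theorem F114756 : act 7 n76536 = n68616 := d13_2 F94193 D76536 F104820
theorem F114757 : act 0 n76536 = n54064 := d17_2 (iv1 F77010) D76536 (iv5 D54064) (iv4 D26152) D26153 F50512 F20705 D23835 D48884
theorem F114758 : act 1 n76536 = n54068 := d17_6 F50927 D68649 F104854 (iv5 D34973) D34972 D76536 (iv5 D54068) (iv0 F77055) F77054
def n76537 : Q := act 4 n34973
theorem D76537 : act 4 n34973 = n76537 := rfl
theorem F114759 : act 2 n76537 = n59906 := d1_1 D76537 (iv4 D59906) (iv2 F55540)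
theorem F114760 : act 7 n76537 = n68620 := d11_2 F114729 D76537 (iv4 F114732)
theorem F114761 : act 0 n76537 = n54065 := d18_2 F104854 D76537 (iv4 D54065) (iv5 D26153) D26152 (iv0 F77502) F77499 F54333 D68649
theorem F114762 : act 1 n76537 = n54069 := d18_6 (iv1 F37171) D48884 (iv1 F77010) (iv4 D34972) D34973 D76537 (iv4 D54069) F50514 F24819
def n76538 : Q := act 6 n34973
theorem D76538 : act 6 n34973 = n76538 := rfl
theorem F114763 : act 2 n76538 = n59907 := d3_1 D76538 (iv6 D59907) (iv2 F55540)
theorem F114764 : act 5 n76538 = n61626 := d12_1 D76538 (iv6 D61626) (iv5 F54349) F54350 D34973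
def n76539 : Q := act 6 n34974
theorem D76539 : act 6 n34974 = n76539 := rfl
theorem F114765 : act 5 n76539 = n67909 := d12_1 D76539 (iv6 D67909) (iv5 F54336) D48888 F77037
def n76540 : Q := act 3 n34975
theorem D76540 : act 3 n34975 = n76540 := rfl
theorem F114766 : act 4 n76540 = n34976 := d5_2 D34975 D76540 (iv3 D34976) (iv4 D16974) (iv3 F27826)
theorem F114767 : act 7 n76540 = n68692 := d8_2 (iv7 F55382) D76540 (iv3 D68692)
def n76541 : Q := act 0 n34976
theorem D76541 : act 0 n34976 = n76541 := rfl
def n76542 : Q := act 1 n34976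
theorem D76542 : act 1 n34976 = n76542 := rfl
def n76543 : Q := act 2 n34976
theorem D76543 : act 2 n34976 = n76543 := rfl
theorem F114768 : act 3 n76543 = n69787 := d0_2 D34976 D76543 (iv2 D69787) (iv3 D32404) (iv2 F27829)
def n76544 : Q := act 0 n34977
theorem D76544 : act 0 n34977 = n76544 := rfl
def n76545 : Q := act 1 n34977
theorem D76545 : act 1 n34977 = n76545 := rfl
theorem F114769 : act 1 n76545 = n69860 := d15_1 D76545 (iv7 D69860) (iv2 F55385)
def n76546 : Q := act 5 n34977
theorem D76546 : act 5 n34977 = n76546 := rfl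
theorem F114770 : act 2 n76546 = n67947 := d2_1 D76546 F104051 (iv2 F55385)
theorem F114771 : act 3 n76546 = n34992 := d6_1 D76546 (iv5 D34992) (iv3 F55386)
theorem F114772 : act 6 n76546 = n34979 := d12_2 D34977 D76546 (iv5 D34979) (iv6 D16976) D16975
theorem F114773 : act 4 n68437 = n76546 := d10_3 F114772 F55402 D68437
def n76547 : Q := act 7 n34977
theorem D76547 : act 7 n34977 = n76547 := rfl
theorem F114774 : act 2 n76547 = n69860 := d4_1 D76547 (iv7 D69860) (iv2 F55385)
theorem F114775 : act 3 n76547 = n34993 := d8_1 D76547 (iv7 D34993) (iv3 F55386)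
theorem F114776 : act 4 n76547 = n70661 := d11_1 D76547 (iv7 D70661) (iv4 F55387)
theorem F114777 : act 6 n76547 = n69883 := d14_1 D76547 (iv7 D69883) (iv6 D32454) (iv7 F27833) D34977
theorem F114778 : act 1 n69860 = n76544 := d15_0 (iv0 D76544) D76547 F114774
theorem F114779 : act 1 n69859 = n76547 := d15_1 D69859 (iv7 D76547) F55385
theorem F114780 : act 1 n76547 = n69858 := d15_0 (iv0 D69858) D69860 (iv2 F114774)
def n76548 : Q := act 6 n34980
theorem D76548 : act 6 n34980 = n76548 := rfl
theorem F114781 : act 2 n76548 = n54796 := d3_1 D76548 (iv6 D54796) (iv2 F55403)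
theorem F114782 : act 3 n76548 = n34984 := d7_1 D76548 (iv6 D34984) (iv3 F55404)
theorem F114783 : act 5 n76548 = n68851 := d12_1 D76548 (iv6 D68851) F50400 (iv6 F50404) D34980
def n76549 : Q := act 6 n34981
theorem D76549 : act 6 n34981 = n76549 := rfl
theorem F114784 : act 2 n76549 = n71315 := d3_1 D76549 (iv6 D71315) F55410
theorem F114785 : act 3 n76549 = n48945 := d7_1 D76549 (iv6 D48945) F55411
def n76550 : Q := act 6 n34982
theorem D76550 : act 6 n34982 = n76550 := rfl
theorem F114786 : act 2 n76550 = n60115 := d3_1 D76550 (iv6 D60115) F55416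
theorem F114787 : act 3 n76550 = n49129 := d7_1 D76550 (iv6 D49129) F55417
def n76551 : Q := act 3 n34983
theorem D76551 : act 3 n34983 = n76551 := rfl
theorem F114788 : act 2 n76551 = n57216 := d0_1 D76551 F90261 F44299 (iv3 F44378) (iv2 F55418)
theorem F114789 : act 5 n76551 = n57215 := d6_2 (iv5 F55420) D76551 F90257
theorem F114790 : act 7 n76551 = n57476 := d8_2 (iv7 F55419) D76551 F90650
theorem F114791 : act 0 n76551 = n57479 := d19_4 (iv1 D16978) D16980 D34983 D76551 F94617 (iv4 F87694) (iv3 D33090) (iv1 F42254) D54657 F86437 F52731 D72440 (iv5 F108948) (iv4 F83440) (iv3 F83544) F83545 (iv5 F42810) F42809 (iv3 F40364)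
theorem F114792 : act 1 n76551 = n57478 := d15_1 (iv0 F114791) (iv7 F94621) (iv2 F94622)
def n76552 : Q := act 6 n34983
theorem D76552 : act 6 n34983 = n76552 := rfl
theorem F114793 : act 2 n76552 = n57362 := d3_1 D76552 (iv6 D57362) (iv2 F55418)
theorem F114794 : act 4 n76552 = n34984 := d10_1 D76552 (iv6 D34984) D34983
def n76553 : Q := act 0 n34984
theorem D76553 : act 0 n34984 = n76553 := rfl
def n76554 : Q := act 1 n34984
theorem D76554 : act 1 n34984 = n76554 := rfl
def n76555 : Q := act 5 n34984
theorem D76555 : act 5 n34984 = n76555 := rfl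
theorem F114795 : act 3 n76555 = n68851 := d6_1 D76555 (iv5 F114783) F114782
theorem F114796 : act 6 n76555 = n34985 := d12_2 D34984 D76555 (iv5 D34985) (iv6 D16981) D16980
def n76556 : Q := act 7 n34984
theorem D76556 : act 7 n34984 = n76556 := rfl
def n76557 : Q := act 0 n34985
theorem D76557 : act 0 n34985 = n76557 := rfl
theorem F114797 : act 5 n76557 = n48893 := d17_3 F55394 D34985 D76557 F77064 (iv5 F54342) (iv0 D31576) (iv5 D14867) D14864 D31569
theorem F114798 : act 2 n48902 = n76557 := d2_3 F114797 F77062 D48902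
theorem F114799 : act 3 n59871 = n76557 := d6_3 F114797 F77063 D59871
theorem F114800 : act 7 n48892 = n76557 := d13_0 F114797 (iv7 D48893) D48892
def n76558 : Q := act 1 n34985
theorem D76558 : act 1 n34985 = n76558 := rfl
theorem F114801 : act 7 n76558 = n48902 := d15_2 (iv0 D76557) D76558 F114798
theorem F114802 : act 5 n76558 = n48887 := d17_7 F41471 D15082 F41343 (iv5 D16986) (iv4 F27857) D34985 D76558 (iv0 F77032) (iv4 D31933)
theorem F114803 : act 2 n48892 = n76558 := d2_3 F114802 F77029 D48892
theorem F114804 : act 3 n49093 = n76558 := d6_3 F114802 (iv3 F77033) D49093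
def n76559 : Q := act 4 n34985
theorem D76559 : act 4 n34985 = n76559 := rfl
theorem F114805 : act 1 n76559 = n68672 := d18_6 F51409 (iv4 D32370) F50649 (iv4 F27857) D34985 D76559 (iv4 D68672) (iv0 F82181) (iv5 D52017)
def n76560 : Q := act 7 n34985
theorem D76560 : act 7 n34985 = n76560 := rfl
theorem F114806 : act 3 n76560 = n52498 := d8_1 D76560 F82889 (iv3 F55423)
theorem F114807 : act 5 n76560 = n34986 := d13_1 D76560 (iv7 D34986) D34985
theorem F114808 : act 1 n48892 = n76560 := d15_1 F88619 (iv7 D76560) (iv2 F88617)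
theorem F114809 : act 1 n76560 = n48902 := d15_1 F114808 (iv7 F114801) (iv2 F114803)
def n76561 : Q := act 3 n34987
theorem D76561 : act 3 n34987 = n76561 := rfl
theorem F114810 : act 4 n76561 = n60033 := d5_2 (iv4 F55427) D76561 (iv3 D60033) (iv4 D28507) (iv3 F46058)
theorem F114811 : act 7 n76561 = n60118 := d8_2 F55430 D76561 (iv3 D60118)
def n76562 : Q := act 6 n34987
theorem D76562 : act 6 n34987 = n76562 := rfl
theorem F114812 : act 2 n76562 = n71492 := d3_1 D76562 (iv6 D71492) F55429
theorem F114813 : act 4 n76562 = n60032 := d10_1 D76562 (iv6 D60032) (iv4 F55427)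
def n76563 : Q := act 6 n34988
theorem D76563 : act 6 n34988 = n76563 := rfl
theorem F114814 : act 2 n76563 = n60119 := d3_1 D76563 (iv6 D60119) F55434
theorem F114815 : act 4 n76563 = n60113 := d10_1 D76563 (iv6 D60113) (iv4 F55433)
def n76564 : Q := act 0 n34989
theorem D76564 : act 0 n34989 = n76564 := rfl
def n76565 : Q := act 1 n34989
theorem D76565 : act 1 n34989 = n76565 := rfl
theorem F114816 : act 1 n76565 = n71524 := d15_1 D76565 (iv7 D71524) (iv2 F55435)
def n76566 : Q := act 5 n34989
theorem D76566 : act 5 n34989 = n76566 := rfl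
theorem F114817 : act 2 n76566 = n71523 := d2_1 D76566 (iv5 D71523) (iv2 F55435)
def n76567 : Q := act 7 n34989
theorem D76567 : act 7 n34989 = n76567 := rfl
theorem F114818 : act 2 n76567 = n71524 := d4_1 D76567 (iv7 D71524) (iv2 F55435)
theorem F114819 : act 4 n76567 = n34993 := d11_1 D76567 (iv7 D34993) (iv4 F55436)
theorem F114820 : act 6 n76567 = n71496 := d14_1 D76567 (iv7 D71496) (iv6 D33076) F35203 D34989
theorem F114821 : act 1 n71524 = n76564 := d15_0 (iv0 D76564) D76567 F114818
theorem F114822 : act 1 n71522 = n76567 := d15_1 D71522 (iv7 D76567) F55435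
theorem F114823 : act 1 n76567 = n71521 := d15_0 (iv0 D71521) D71524 (iv2 F114818)
def n76568 : Q := act 2 n34990
theorem D76568 : act 2 n34990 = n76568 := rfl
def n76569 : Q := act 3 n34990
theorem D76569 : act 3 n34990 = n76569 := rfl
def n76570 : Q := act 4 n34990
theorem D76570 : act 4 n34990 = n76570 := rfl
def n76571 : Q := act 5 n34990
theorem D76571 : act 5 n34990 = n76571 := rfl
theorem F114825 : act 0 n76571 = n73489 := d21_1 D76571 (iv5 D73489) (iv6 D33787) (iv1 D16326) (iv6 D7590) F5429 D3591 D7932 D16983 D34990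
def n76572 : Q := act 6 n34990
theorem D76572 : act 6 n34990 = n76572 := rfl
theorem F114826 : act 5 n76572 = n68638 := d21_6 F5429 D3591 D7932 D16983 D34990 D76572 (iv1 D68638) F50261 (iv6 D15922) F30292
def n76573 : Q := act 7 n34990
theorem D76573 : act 7 n34990 = n76573 := rfl
def n76576 : Q := act 5 n34991
theorem D76576 : act 5 n34991 = n76576 := rfl
def n76578 : Q := act 0 n34992
theorem D76578 : act 0 n34992 = n76578 := rfl
def n76579 : Q := act 1 n34992
theorem D76579 : act 1 n34992 = n76579 := rfl
theorem F114828 : act 1 n76579 = n71538 := d15_1 D76579 (iv7 D71538) (iv2 F55438)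
def n76580 : Q := act 4 n34992
theorem D76580 : act 4 n34992 = n76580 := rfl
theorem F114829 : act 2 n76580 = n71537 := d1_1 D76580 (iv4 D71537) (iv2 F55438)
theorem F114830 : act 6 n76580 = n34996 := d10_2 (iv6 F55439) D76580 (iv4 D34996)
def n76581 : Q := act 7 n34992
theorem D76581 : act 7 n34992 = n76581 := rfl
theorem F114831 : act 2 n76581 = n71538 := d4_1 D76581 (iv7 D71538) (iv2 F55438)
theorem F114832 : act 5 n76581 = n34993 := d13_1 D76581 (iv7 D34993) D34992
theorem F114833 : act 1 n71538 = n76578 := d15_0 (iv0 D76578) D76581 F114831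
theorem F114834 : act 1 n71536 = n76581 := d15_1 D71536 (iv7 D76581) F55438
theorem F114835 : act 1 n76581 = n71535 := d15_0 (iv0 D71535) D71538 (iv2 F114831)
def n76582 : Q := act 6 n34995
theorem D76582 : act 6 n34995 = n76582 := rfl
theorem F114836 : act 2 n76582 = n68722 := d3_1 D76582 (iv6 D68722) F55446
theorem F114837 : act 3 n76582 = n54127 := d7_1 D76582 (iv6 D54127) (iv3 F55447)
def n76583 : Q := act 3 n34996
theorem D76583 : act 3 n34996 = n76583 := rfl
theorem F114838 : act 4 n76583 = n68435 := d5_2 D34996 D76583 (iv3 D68435) (iv4 F55402) F55398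
def n76584 : Q := act 5 n34996
theorem D76584 : act 5 n34996 = n76584 := rfl
def n76585 : Q := act 7 n34996
theorem D76585 : act 7 n34996 = n76585 := rfl
theorem F114839 : act 2 n76585 = n68680 := d4_1 D76585 F104888 F88625
theorem F114840 : act 4 n76585 = n34997 := d11_1 D76585 (iv7 D34997) D34996
theorem F114841 : act 1 n48894 = n76585 := d15_1 F88627 (iv7 D76585) (iv2 F88625)
theorem F114842 : act 1 n76585 = n48904 := d15_1 F114841 (iv7 F103992) F103991
def n76586 : Q := act 6 n34997
theorem D76586 : act 6 n34997 = n76586 := rfl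
theorem F114843 : act 2 n76586 = n68681 := d3_1 D76586 (iv6 D68681) (iv2 F55451)
theorem F114844 : act 3 n76586 = n67934 := d7_1 D76586 (iv6 D67934) (iv3 F55452)
theorem F114845 : act 5 n76586 = n74830 := d12_1 D76586 (iv6 D74830) (iv5 D34285) F50503 (iv5 F55453)
def n76587 : Q := act 4 n34998
theorem D76587 : act 4 n34998 = n76587 := rfl
theorem F114846 : act 2 n76587 = n71906 := d1_1 D76587 (iv4 D71906) (iv2 F55456)
theorem F114847 : act 5 n76587 = n37330 := d17_5 (iv1 F55335) (iv5 D34957) F27858 D34998 D76587 F71274 (iv5 F76775) (iv0 F108377) (iv4 D71885)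
theorem F114848 : act 0 n76587 = n37341 := d18_2 (iv1 F55458) D76587 F58276 F51468 (iv4 F42216) (iv0 D26423) (iv4 F37220) (iv0 D23872) D23875
theorem F114849 : act 1 n76587 = n54771 := d18_6 (iv1 F27733) (iv4 F26651) (iv1 F27244) D16988 D34998 D76587 (iv4 D54771) (iv0 F55183) (iv5 D34888)
theorem F114850 : act 2 n37330 = n45214 := d2_1 F114847 (iv5 F108414) (iv2 F114846)
theorem F114851 : act 7 n45215 = n37330 := d15_2 (iv0 D45214) D45215 F114850
theorem F114852 : act 7 n37329 = n45214 := d15_2 F71274 F71272 (iv2 F114850)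
theorem F114853 : act 2 n45215 = n37329 := d4_3 F114852 (iv2 F114850) (iv7 F114851)
def n76588 : Q := act 6 n34998
theorem D76588 : act 6 n34998 = n76588 := rfl
theorem F114854 : act 2 n76588 = n71907 := d3_1 D76588 (iv6 D71907) (iv2 F55456)
def n76589 : Q := act 5 n34999
theorem D76589 : act 5 n34999 = n76589 := rfl
theorem F114855 : act 0 n76589 = n71316 := d17_2 F78806 D76589 (iv5 D71316) F54287 (iv5 F78833) (iv0 D49850) (iv5 D24311) (iv0 F55505) (iv4 F78805)
theorem F114856 : act 1 n76589 = n71637 := d17_6 (iv1 F25403) (iv5 F52265) (iv1 F52266) (iv5 F30295) (iv4 F55459) D76589 (iv5 D71637) (iv0 D33121) (iv4 D15971)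
theorem F114857 : act 4 n71487 = n76589 := d18_7 (iv1 F52350) (iv4 D15976) (iv1 D7477) (iv4 F11726) D15949 D33073 D71487 F114856 (iv5 D71637)
def n76590 : Q := act 3 n35000
theorem D76590 : act 3 n35000 = n76590 := rfl
theorem F114858 : act 4 n76590 = n35008 := d5_2 D35000 D76590 (iv3 D35008) (iv4 D16993) (iv3 F27859)
theorem F114859 : act 7 n76590 = n71511 := d8_2 (iv7 F55460) D76590 (iv3 D71511)
def n76591 : Q := act 5 n35000
theorem D76591 : act 5 n35000 = n76591 := rfl
theorem F114862 : act 0 n76591 = n40224 := d17_2 (iv1 F55462) D76591 (iv5 D40224) (iv4 D18995) F30276 F12540 D15314 F43059 D23879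
theorem F114863 : act 1 n76591 = n40217 := d17_6 (iv1 D18632) (iv5 F26652) (iv1 F27244) D16989 D35000 D76591 (iv5 D40217) (iv0 F60240) (iv4 D39272)
theorem F114864 : act 4 n76591 = n37329 := d18_5 F51925 (iv4 D26492) (iv1 F43645) D35000 D76591 (iv0 D37329) F29097 D36823 F57746
def n76592 : Q := act 6 n35000
theorem D76592 : act 6 n35000 = n76592 := rfl
theorem F114865 : act 4 n76592 = n35001 := d10_1 D76592 (iv6 D35001) D35000
def n76593 : Q := act 0 n35001
theorem D76593 : act 0 n35001 = n76593 := rfl
def n76594 : Q := act 1 n35001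
theorem D76594 : act 1 n35001 = n76594 := rfl
def n76595 : Q := act 7 n35001
theorem D76595 : act 7 n35001 = n76595 := rfl
theorem F114866 : act 3 n76595 = n35014 := d8_1 D76595 (iv7 D35014) (iv3 F55463)
theorem F114867 : act 5 n76595 = n71676 := d13_1 D76595 (iv7 D71676) (iv5 F55464)
theorem F114868 : act 6 n76595 = n71516 := d14_1 D76595 (iv7 D71516) (iv6 D33082) (iv7 F35199) D35001
def n76596 : Q := act 6 n35002
theorem D76596 : act 6 n35002 = n76596 := rfl
theorem F114869 : act 2 n76596 = n71457 := d3_1 D76596 (iv6 D71457) (iv2 F55465)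
theorem F114870 : act 3 n76596 = n57238 := d7_1 D76596 (iv6 D57238) (iv3 F55470)
theorem F114871 : act 4 n76596 = n35003 := d10_1 D76596 (iv6 D35003) D35002
def n76597 : Q := act 0 n35003
theorem D76597 : act 0 n35003 = n76597 := rfl
def n76598 : Q := act 1 n35003
theorem D76598 : act 1 n35003 = n76598 := rfl
def n76599 : Q := act 5 n35003
theorem D76599 : act 5 n35003 = n76599 := rfl
theorem F114872 : act 6 n76599 = n35006 := d12_2 D35003 D76599 (iv5 D35006) (iv6 D16992) D16991
def n76600 : Q := act 7 n35003
theorem D76600 : act 7 n35003 = n76600 := rfl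
def n76601 : Q := act 5 n35004
theorem D76601 : act 5 n35004 = n76601 := rfl
def n76602 : Q := act 5 n35005
theorem D76602 : act 5 n35005 = n76602 := rfl
def n76603 : Q := act 4 n35006
theorem D76603 : act 4 n35006 = n76603 := rfl
def n76604 : Q := act 7 n35006
theorem D76604 : act 7 n35006 = n76604 := rfl
theorem F114873 : act 2 n76604 = n74828 := d4_1 D76604 F112300 F88605
theorem F114874 : act 5 n76604 = n35007 := d13_1 D76604 (iv7 D35007) D35006
theorem F114875 : act 1 n61612 = n76604 := d15_1 (iv0 F96172) (iv7 D76604) (iv2 F88605)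
theorem F114876 : act 1 n76604 = n48948 := d15_1 F114875 (iv7 F97905) F97904
def n76605 : Q := act 0 n35008
theorem D76605 : act 0 n35008 = n76605 := rfl
theorem F114877 : act 4 n76605 = n40570 := d20_8 (iv4 F112543) (iv1 D75007) (iv4 F77212) (iv3 D48950) (iv1 F55462) D76590 F114858 D76605 F61696 F61835
theorem F114878 : act 2 n36008 = n76605 := d15_3 (iv0 D76605) (iv0 F57742) F57741
theorem F114879 : act 1 n48204 = n76605 := d15_0 (iv0 D76605) F55550 (iv2 F75759)
theorem F114880 : act 7 n76605 = n71517 := d15_2 (iv0 F75762) F114879 (iv2 F108038)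
def n76607 : Q := act 6 n35009
theorem D76607 : act 6 n35009 = n76607 := rfl
theorem F114882 : act 2 n76607 = n57325 := d3_1 D76607 (iv6 D57325) (iv2 F55551)
theorem F114883 : act 4 n76607 = n57361 := d10_1 D76607 (iv6 D57361) (iv4 F55552)
def n76608 : Q := act 0 n35010
theorem D76608 : act 0 n35010 = n76608 := rfl
def n76609 : Q := act 1 n35010
theorem D76609 : act 1 n35010 = n76609 := rfl
theorem F114884 : act 1 n76609 = n71496 := d15_1 D76609 (iv7 D71496) (iv2 F55554)
def n76610 : Q := act 5 n35010
theorem D76610 : act 5 n35010 = n76610 := rfl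
def n76611 : Q := act 7 n35010
theorem D76611 : act 7 n35010 = n76611 := rfl
theorem F114886 : act 2 n76611 = n71496 := d4_1 D76611 (iv7 D71496) (iv2 F55554)
theorem F114887 : act 4 n76611 = n35014 := d11_1 D76611 (iv7 D35014) (iv4 F55555)
theorem F114889 : act 1 n71496 = n76608 := d15_0 (iv0 D76608) D76611 F114886
theorem F114890 : act 1 n71494 = n76611 := d15_1 D71494 (iv7 D76611) F55554
theorem F114891 : act 1 n76611 = n71493 := d15_0 (iv0 D71493) D71496 (iv2 F114886)
def n76612 : Q := act 2 n35011
theorem D76612 : act 2 n35011 = n76612 := rfl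
theorem F114892 : act 7 n35012 = n76612 := d15_2 (iv0 D35011) D35012 (iv2 D76612)
def n76616 : Q := act 6 n35011
theorem D76616 : act 6 n35011 = n76616 := rfl
theorem F114893 : act 5 n76616 = n71346 := d21_6 F21129 (iv1 F9537) D7937 D16994 D35011 D76616 (iv1 D71346) (iv5 D33010) (iv6 D15907) (iv1 F30290)
def n76617 : Q := act 7 n35011
theorem D76617 : act 7 n35011 = n76617 := rfl
theorem F114894 : act 2 n76617 = n35012 := d4_1 D76617 F114892 (iv2 D76612)
def n76618 : Q := act 3 n35012
theorem D76618 : act 3 n35012 = n76618 := rfl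
def n76619 : Q := act 4 n35012
theorem D76619 : act 4 n35012 = n76619 := rfl
def n76620 : Q := act 5 n35012
theorem D76620 : act 5 n35012 = n76620 := rfl
def n76621 : Q := act 6 n35012
theorem D76621 : act 6 n35012 = n76621 := rfl
theorem F114895 : act 5 n73467 = n76621 := d21_2 D33781 D73467 (iv6 D76621) (iv1 D35012) (iv6 D16994) (iv5 D7937) (iv1 D3592) (iv5 F5429) D7590 D16325
theorem F114896 : act 5 n73487 = n71535 := d21_0 (iv1 F114835) F114832 F55441 (iv1 F55556) D76621 (iv5 F114895) (iv1 F110168) (iv5 D33786) D33787 D73487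
def n76622 : Q := act 0 n35013
theorem D76622 : act 0 n35013 = n76622 := rfl
def n76623 : Q := act 1 n35013
theorem D76623 : act 1 n35013 = n76623 := rfl
theorem F114897 : act 1 n76623 = n71510 := d15_1 D76623 (iv7 D71510) (iv2 F55557)
def n76624 : Q := act 4 n35013
theorem D76624 : act 4 n35013 = n76624 := rfl
theorem F114898 : act 2 n76624 = n71509 := d1_1 D76624 (iv4 D71509) (iv2 F55557)
theorem F114899 : act 6 n76624 = n35018 := d10_2 (iv6 F55559) D76624 (iv4 D35018)
def n76625 : Q := act 7 n35013
theorem D76625 : act 7 n35013 = n76625 := rfl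
theorem F114900 : act 2 n76625 = n71510 := d4_1 D76625 (iv7 D71510) (iv2 F55557)
theorem F114901 : act 3 n76625 = n71676 := d8_1 D76625 (iv7 D71676) (iv3 F55558)
theorem F114902 : act 5 n76625 = n35014 := d13_1 D76625 (iv7 D35014) D35013
theorem F114903 : act 1 n71510 = n76622 := d15_0 (iv0 D76622) D76625 F114900
theorem F114904 : act 1 n71508 = n76625 := d15_1 D71508 (iv7 D76625) F55557
def n76626 : Q := act 6 n35015
theorem D76626 : act 6 n35015 = n76626 := rfl
theorem F114906 : act 2 n76626 = n49825 := d3_1 D76626 (iv6 D49825) (iv2 F55565)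
theorem F114907 : act 3 n76626 = n61399 := d7_1 D76626 (iv6 D61399) (iv3 F55566)
def n76627 : Q := act 6 n35017
theorem D76627 : act 6 n35017 = n76627 := rfl
theorem F114908 : act 2 n76627 = n49818 := d3_1 D76627 (iv6 D49818) (iv2 F55579)
theorem F114909 : act 3 n76627 = n54846 := d7_1 D76627 (iv6 D54846) (iv3 F55580)
theorem F114910 : act 5 n76627 = n71351 := d12_1 D76627 (iv6 D71351) (iv5 D33013) (iv6 F38069) F55578
def n76628 : Q := act 3 n35018
theorem D76628 : act 3 n35018 = n76628 := rfl
theorem F114911 : act 4 n76628 = n71671 := d5_2 D35018 D76628 (iv3 D71671) (iv4 D33138) F30296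
def n76629 : Q := act 5 n35018
theorem D76629 : act 5 n35018 = n76629 := rfl
def n76630 : Q := act 7 n35018
theorem D76630 : act 7 n35018 = n76630 := rfl
theorem F114913 : act 4 n76630 = n35019 := d11_1 D76630 (iv7 D35019) D35018
theorem F114914 : act 1 n61613 = n76630 := d15_1 (iv0 F96173) (iv7 D76630) (iv2 F88608)
theorem F114915 : act 1 n76630 = n48957 := d15_1 F114914 (iv7 F97908) F97907
def n76631 : Q := act 6 n35019
theorem D76631 : act 6 n35019 = n76631 := rfl
theorem F114916 : act 2 n76631 = n74830 := d3_1 D76631 (iv6 D74830) (iv2 F55583)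
theorem F114917 : act 3 n76631 = n68687 := d7_1 D76631 F104894 (iv3 F55584)
theorem F114918 : act 5 n76631 = n68681 := d12_1 D76631 (iv6 D68681) (iv5 F50315) F43637 (iv5 F55585)
def n76632 : Q := act 6 n35020
theorem D76632 : act 6 n35020 = n76632 := rfl
theorem F114919 : act 2 n76632 = n35033 := d3_1 D76632 (iv6 D35033) (iv2 F55588)
theorem F114920 : act 3 n76632 = n35038 := d7_1 D76632 (iv6 D35038) (iv3 F55589)
theorem F114921 : act 5 n76632 = n54717 := d12_1 D76632 (iv6 D54717) (iv5 F55595) (iv6 D35021) D35020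
def n76633 : Q := act 6 n35022
theorem D76633 : act 6 n35022 = n76633 := rfl
theorem F114922 : act 2 n76633 = n35036 := d3_1 D76633 (iv6 D35036) (iv2 F55598)
theorem F114923 : act 3 n76633 = n68011 := d7_1 D76633 F104113 (iv3 F55599)
theorem F114924 : act 4 n76633 = n35024 := d10_1 D76633 (iv6 D35024) D35022
theorem F114925 : act 5 n71950 = n76633 := d6_0 F114923 F104117 D71950
theorem F114926 : act 0 n71950 = n76240 := d21_7 D33017 (iv1 F55346) (iv5 D34959) D34960 F55601 D76633 (iv5 F114925) (iv5 D76240) (iv6 D34822) F27633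
def n76634 : Q := act 6 n35023
theorem D76634 : act 6 n35023 = n76634 := rfl
theorem F114927 : act 2 n76634 = n35038 := d3_1 D76634 (iv6 D35038) (iv2 F55602)
theorem F114928 : act 3 n76634 = n70051 := d7_1 D76634 (iv6 D70051) (iv3 F55603)
theorem F114929 : act 5 n76634 = n74019 := d12_1 D76634 (iv6 D74019) F55608 (iv6 D35024) D35023
def n76635 : Q := act 6 n35025
theorem D76635 : act 6 n35025 = n76635 := rfl
theorem F114930 : act 2 n76635 = n35044 := d3_1 D76635 (iv6 D35044) F55610
theorem F114931 : act 3 n76635 = n35047 := d7_1 D76635 (iv6 D35047) (iv3 F78736)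
theorem F114932 : act 5 n76635 = n74838 := d12_1 D76635 (iv6 D74838) (iv5 F54409) D49816 F78734
def n76636 : Q := act 1 n35026
theorem D76636 : act 1 n35026 = n76636 := rfl
theorem F114933 : act 1 n76636 = n35052 := d15_1 D76636 (iv7 D35052) (iv2 F55613)
theorem F114934 : act 7 n76636 = n35048 := d15_2 (iv0 F55614) D76636 (iv2 F55664)
theorem F114935 : act 4 n76636 = n54358 := d17_9 (iv1 F85789) (iv5 D32572) (iv1 D15421) D15424 D32579 D70194 F106651 F74068 D76636
theorem F114936 : act 3 n71429 = n76636 := d19_19 (iv1 D76636) (iv5 F74068) (iv4 D46860) D46859 (iv1 F113357) F113355 (iv4 F75429) (iv3 D48012) (iv1 F36258) (iv5 F70345) F70344 (iv3 F77436) (iv1 F86684) F86686 F67749 F37002 (iv1 F43596) (iv5 F77591) (iv4 F107954)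
theorem F114937 : act 5 n76636 = n73078 := d6_2 (iv5 F107953) F114936 (iv3 D73078)
theorem F114938 : act 2 n35049 = n76636 := d1_3 F114935 (iv2 D54358) (iv4 F55662)
def n76637 : Q := act 7 n35026
theorem D76637 : act 7 n35026 = n76637 := rfl
theorem F114939 : act 2 n76637 = n35052 := d4_1 D76637 (iv7 D35052) (iv2 F55613)
theorem F114940 : act 4 n76637 = n35027 := d11_1 D76637 (iv7 D35027) D35026
theorem F114941 : act 5 n76637 = n46261 := d13_1 D76637 (iv7 F74067) F74068
theorem F114942 : act 1 n35049 = n76637 := d15_1 D35049 (iv7 D76637) F55613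
theorem F114943 : act 1 n76637 = n35048 := d15_1 F114942 (iv7 F114934) (iv2 F114938)
theorem F114944 : act 3 n57286 = n76637 := d20_5 (iv4 F43033) F43035 F21962 (iv3 F44349) D57286 F114940 (iv1 F55618) D35046 F87657 (iv1 D55382)
theorem F114945 : act 7 n57705 = n57286 := d8_0 F114944 (iv7 D76637) (iv3 F90883)
theorem F114946 : act 2 n57286 = n57706 := d15_3 F90887 F90884 F114945
theorem F114947 : act 2 n57705 = n57287 := d15_3 F90370 F90369 (iv7 F114945)
theorem F114948 : act 7 n57287 = n57706 := d4_2 (iv7 F114945) F114947 (iv2 F114946)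
def n76638 : Q := act 6 n35028
theorem D76638 : act 6 n35028 = n76638 := rfl
theorem F114949 : act 2 n76638 = n70051 := d3_1 D76638 (iv6 D70051) (iv2 F55620)
theorem F114950 : act 3 n76638 = n35033 := d7_1 D76638 (iv6 D35033) (iv3 F55621)
def n76639 : Q := act 5 n35030
theorem D76639 : act 5 n35030 = n76639 := rfl
theorem F114952 : act 3 n76639 = n54861 := d6_1 D76639 (iv5 F86802) F83198
theorem F114953 : act 0 n76639 = n60116 := d17_2 F106661 D76639 (iv5 D60116) F46146 D28573 (iv0 F56750) (iv5 D32583) D32582 D70201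
def n76640 : Q := act 7 n35030
theorem D76640 : act 7 n35030 = n76640 := rfl
theorem F114954 : act 2 n76640 = n59816 := d4_1 D76640 F94209 F73967
theorem F114955 : act 3 n76640 = n68019 := d8_1 D76640 F104134 F83198
theorem F114956 : act 4 n76640 = n35035 := d11_1 D76640 (iv7 D35035) (iv4 F55634)
theorem F114957 : act 1 n76532 = n76640 := d15_1 (iv0 F114742) (iv7 D76640) (iv2 F73967)
def n76641 : Q := act 4 n35031
theorem D76641 : act 4 n35031 = n76641 := rfl
theorem F114958 : act 2 n76641 = n54092 := d1_1 D76641 (iv4 D54092) F55636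
theorem F114959 : act 7 n76641 = n70192 := d11_2 F106726 D76641 (iv4 F106727)
theorem F114960 : act 0 n76641 = n35083 := d18_2 D35031 D76641 (iv4 D35083) (iv5 D17032) F27770 F31852 (iv4 F31850) F27870 D17006
theorem F114961 : act 1 n76641 = n70186 := d18_6 (iv1 F50220) (iv4 F52296) F52298 (iv4 F41494) (iv5 F55635) D76641 (iv4 D70186) F55726 F55725
def n76642 : Q := act 6 n35031
theorem D76642 : act 6 n35031 = n76642 := rfl
theorem F114962 : act 2 n76642 = n54089 := d3_1 D76642 F85363 F55636
theorem F114963 : act 3 n76642 = n68838 := d7_1 D76642 F105023 (iv3 F55639)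
theorem F114964 : act 5 n76642 = n54074 := d12_1 D76642 (iv6 D54074) (iv5 D26159) D26160 (iv5 F55635)
def n76643 : Q := act 3 n35032
theorem D76643 : act 3 n35032 = n76643 := rfl
theorem F114965 : act 2 n76643 = n57367 := d0_1 D76643 (iv3 D57367) (iv2 F44384) (iv3 F90052) F90051
theorem F114966 : act 4 n76643 = n46982 := d5_2 D35032 D76643 F74199 F70964 F55621
def n76644 : Q := act 6 n35032
theorem D76644 : act 6 n35032 = n76644 := rfl
theorem F114967 : act 4 n76644 = n35033 := d10_1 D76644 (iv6 D35033) D35032
def n76645 : Q := act 0 n35033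
theorem D76645 : act 0 n35033 = n76645 := rfl
def n76646 : Q := act 1 n35033
theorem D76646 : act 1 n35033 = n76646 := rfl
def n76647 : Q := act 5 n35033
theorem D76647 : act 5 n35033 = n76647 := rfl
theorem F114970 : act 6 n76647 = n35034 := d12_2 D35033 D76647 (iv5 D35034) (iv6 D17007) D17006
def n76648 : Q := act 7 n35033
theorem D76648 : act 7 n35033 = n76648 := rfl
def n76649 : Q := act 4 n35034
theorem D76649 : act 4 n35034 = n76649 := rfl
theorem F114971 : act 2 n76649 = n54716 := d1_1 D76649 (iv4 D54716) (iv2 F55640)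
theorem F114972 : act 7 n76649 = n54714 := d11_2 (iv7 F86467) D76649 (iv4 D54714)
theorem F114973 : act 0 n76649 = n60125 := d18_2 F55643 D76649 (iv4 D60125) (iv5 D28573) (iv4 F46146) (iv0 F86457) (iv4 D54663) F42257 (iv5 F42319)
def n76650 : Q := act 5 n35036
theorem D76650 : act 5 n35036 = n76650 := rfl
theorem F114974 : act 2 n76650 = n71950 := d2_1 D76650 F114925 F114922
theorem F114975 : act 0 n76650 = n48967 := d17_2 F103963 D76650 (iv5 D48967) F37299 D23896 D48977 (iv5 F77271) (iv0 F77017) (iv4 F103962)
theorem F114976 : act 1 n76650 = n71078 := d17_6 D15909 D33013 F55654 (iv5 D35040) (iv4 F55648) D76650 (iv5 D71078) (iv0 F52108) F25376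
def n76651 : Q := act 7 n35036
theorem D76651 : act 7 n35036 = n76651 := rfl
theorem F114977 : act 4 n76651 = n35041 := d11_1 D76651 (iv7 D35041) (iv4 F55648)
theorem F114978 : act 6 n76651 = n59816 := d14_1 D76651 F94209 (iv6 D46824) F35035 D35036
def n76652 : Q := act 6 n35037
theorem D76652 : act 6 n35037 = n76652 := rfl
theorem F114979 : act 3 n76652 = n57369 := d7_1 D76652 (iv6 D57369) (iv3 F55649)
theorem F114980 : act 4 n76652 = n35038 := d10_1 D76652 (iv6 D35038) D35037
def n76653 : Q := act 0 n35038
theorem D76653 : act 0 n35038 = n76653 := rfl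
def n76654 : Q := act 1 n35038
theorem D76654 : act 1 n35038 = n76654 := rfl
def n76655 : Q := act 5 n35038
theorem D76655 : act 5 n35038 = n76655 := rfl
theorem F114981 : act 2 n76655 = n74019 := d2_1 D76655 (iv5 F114929) F114927
theorem F114982 : act 3 n76655 = n54717 := d6_1 D76655 (iv5 F114921) F114920
theorem F114983 : act 6 n76655 = n35040 := d12_2 D35038 D76655 (iv5 D35040) (iv6 D17012) D17011
def n76656 : Q := act 7 n35038
theorem D76656 : act 7 n35038 = n76656 := rfl
def n76657 : Q := act 4 n35040
theorem D76657 : act 4 n35040 = n76657 := rfl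
theorem F114984 : act 2 n76657 = n74018 := d1_1 D76657 (iv4 D74018) (iv2 F55651)
theorem F114985 : act 7 n76657 = n74020 := d11_2 F55655 D76657 (iv4 D74020)
theorem F114986 : act 0 n76657 = n48978 := d18_2 F55654 D76657 (iv4 D48978) (iv5 D23896) (iv4 F37299) D48966 (iv4 F77252) F41480 D33013
theorem F114987 : act 1 n76657 = n71079 := d18_6 (iv1 F77018) (iv4 F103962) F103963 F55648 D35040 D76657 (iv4 D71079) F77274 F25330
def n76658 : Q := act 6 n35042
theorem D76658 : act 6 n35042 = n76658 := rfl
theorem F114988 : act 3 n76658 = n35044 := d7_1 D76658 (iv6 D35044) D35042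
theorem F114989 : act 5 n76658 = n61659 := d12_1 D76658 (iv6 D61659) (iv5 D29223) D29224 (iv5 F55660)
def n76659 : Q := act 3 n35043
theorem D76659 : act 3 n35043 = n76659 := rfl
theorem F114990 : act 5 n76659 = n38596 := d6_2 (iv5 F55661) D76659 F59412
def n76660 : Q := act 6 n35043
theorem D76660 : act 6 n35043 = n76660 := rfl
theorem F114991 : act 4 n76660 = n35044 := d10_1 D76660 (iv6 D35044) D35043
def n76661 : Q := act 0 n35044
theorem D76661 : act 0 n35044 = n76661 := rfl
def n76662 : Q := act 1 n35044
theorem D76662 : act 1 n35044 = n76662 := rfl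
def n76663 : Q := act 5 n35044
theorem D76663 : act 5 n35044 = n76663 := rfl
theorem F114992 : act 2 n76663 = n74838 := d2_1 D76663 (iv5 F114932) F114930
theorem F114993 : act 3 n76663 = n61659 := d6_1 D76663 (iv5 F114989) F114988
theorem F114994 : act 6 n76663 = n49823 := d12_2 D35044 D76663 F78749 F46895 (iv5 F55581)
def n76664 : Q := act 7 n35044
theorem D76664 : act 7 n35044 = n76664 := rfl
def n76665 : Q := act 6 n35046
theorem D76665 : act 6 n35046 = n76665 := rfl
theorem F114995 : act 4 n76665 = n35047 := d10_1 D76665 (iv6 D35047) D35046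
def n76666 : Q := act 0 n35047
theorem D76666 : act 0 n35047 = n76666 := rfl
def n76667 : Q := act 1 n35047
theorem D76667 : act 1 n35047 = n76667 := rfl
def n76668 : Q := act 7 n35047
theorem D76668 : act 7 n35047 = n76668 := rfl
def n76669 : Q := act 5 n35048
theorem D76669 : act 5 n35048 = n76669 := rfl
theorem F114996 : act 2 n76669 = n57563 := d2_1 D76669 (iv5 F90718) F55664
theorem F114997 : act 3 n76669 = n57650 := d6_1 D76669 (iv5 F107816) F107815
theorem F114998 : act 7 n76669 = n73078 := d13_2 F114934 D76669 (iv5 F114937)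
theorem F114999 : act 4 n76669 = n72941 := d16_2 (iv4 F55665) D76669 F109450 (iv4 D44045) F50227 (iv4 D31918) (iv5 F41813) F41814 D32603
theorem F115000 : act 0 n76669 = n46274 := d17_2 D35048 D76669 (iv5 F106728) (iv4 F106727) F106725 (iv0 F68240) (iv5 F55581) (iv0 D17013) D17015
theorem F115001 : act 1 n76669 = n46276 := d17_6 D32577 F55718 F54173 (iv5 F51654) (iv4 F55665) D76669 (iv5 F85373) F85374 (iv4 D32579)
def n76670 : Q := act 6 n35048
theorem D76670 : act 6 n35048 = n76670 := rfl
theorem F115002 : act 2 n76670 = n70242 := d3_1 D76670 (iv6 D70242) F55664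
theorem F115003 : act 4 n76670 = n70241 := d10_1 D76670 (iv6 D70241) (iv4 F55665)
def n76671 : Q := act 3 n35049
theorem D76671 : act 3 n35049 = n76671 := rfl
theorem F115004 : act 2 n76671 = n57561 := d0_1 D76671 F107814 F107956 F114936 (iv2 F114938)
theorem F115005 : act 4 n76671 = n35064 := d5_2 (iv4 F55662) D76671 (iv3 D35064) F27878 D26274
theorem F115006 : act 7 n76671 = n57565 := d8_2 F55663 D76671 F90719
theorem F115007 : act 0 n76671 = n55426 := d20_4 (iv4 F56749) F55356 (iv4 F55662) D76671 F87718 F43029 (iv1 F87653) F87656 D56991 F90073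
theorem F115008 : act 5 n57266 = n76671 := d13_3 F115006 (iv5 D57565) (iv7 F90715)
def n76672 : Q := act 5 n35049
theorem D76672 : act 5 n35049 = n76672 := rfl
theorem F115009 : act 2 n76672 = n73078 := d2_1 D76672 (iv5 F114937) (iv2 F114938)
theorem F115010 : act 3 n76672 = n57266 := d6_1 D76672 F115008 (iv3 D76671)
theorem F115011 : act 4 n76672 = n72940 := d9_1 D76672 F109447 F63907 (iv5 F68231) F68232 (iv5 F51654) (iv4 F55665) D76669 F114999 F109450 (iv4 D44045) F50227 (iv4 D31918) (iv5 F41813) (iv4 F55662)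
theorem F115012 : act 7 n76672 = n57563 := d13_2 F55663 D76672 (iv5 F90718)
theorem F115013 : act 0 n76672 = n46276 := d17_2 (iv1 F114942) D76672 (iv5 F85373) (iv4 D54092) (iv5 D26171) D26170 F55481 F55618 (iv4 F114940)
theorem F115014 : act 1 n76672 = n46274 := d17_8 (iv1 F44596) F44590 (iv1 F31358) D22128 (iv4 F55667) (iv5 D35051) D35049 D76672 (iv4 D46274)
theorem F115015 : act 5 n56412 = n57276 := d19_17 (iv1 F115014) (iv5 D76672) F55662 (iv3 D26274) (iv1 F20788) F11590 F5332 F2592 (iv1 F3966) D5942 D12493 F26330 (iv1 F9290) D7497 D16028 D33205 (iv1 F89273) (iv4 D57276) (iv3 F72938)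
def n76673 : Q := act 6 n35049
theorem D76673 : act 6 n35049 = n76673 := rfl
theorem F115016 : act 4 n76673 = n54359 := d10_1 D76673 (iv6 D54359) (iv4 F55662)
def n76674 : Q := act 0 n35050
theorem D76674 : act 0 n35050 = n76674 := rfl
theorem F115017 : act 3 n76674 = n57602 := d20_5 (iv4 D35046) (iv1 D17014) D17015 D35050 D76674 F90745 (iv1 F83439) F83440 (iv3 F106194) F106196
theorem F115018 : act 5 n57600 = n76674 := d6_0 F115017 (iv5 D57602) D57600
def n76675 : Q := act 1 n35050
theorem D76675 : act 1 n35050 = n76675 := rfl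
theorem F115019 : act 4 n38920 = n76675 := d20_6 F27878 (iv1 F20788) (iv4 F24986) F26496 D18486 D38920 (iv1 D76675) F55666 (iv3 D17023) D17021
theorem F115020 : act 3 n76675 = n45365 := d5_1 F115019 (iv4 D45365) F34061 (iv4 F29671) D38920
theorem F115021 : act 5 n73042 = n76675 := d6_0 F115020 (iv5 F90781) D73042
theorem F115022 : act 0 n76659 = n46995 := d20_10 (iv4 D46995) F58239 D45365 (iv3 F115020) (iv1 D76675) (iv3 D35050) (iv4 D17015) D17013 D35043 D76659
def n76676 : Q := act 2 n35050
theorem D76676 : act 2 n35050 = n76676 := rfl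
theorem F115023 : act 3 n76676 = n57287 := d0_2 D35050 D76676 (iv2 F114947) F90883 F55613
theorem F115024 : act 4 n76676 = n35070 := d1_2 (iv4 F55666) D76676 (iv2 D35070)
def n76677 : Q := act 5 n35050
theorem D76677 : act 5 n35050 = n76677 := rfl
theorem F115025 : act 3 n76677 = n35051 := d6_1 D76677 (iv5 D35051) D35050
def n76678 : Q := act 7 n35050
theorem D76678 : act 7 n35050 = n76678 := rfl
theorem F115026 : act 3 n76678 = n35052 := d8_1 D76678 (iv7 D35052) D35050
theorem F115027 : act 4 n76678 = n35072 := d11_1 D76678 (iv7 D35072) (iv4 F55666)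
def n76679 : Q := act 0 n35051
theorem D76679 : act 0 n35051 = n76679 := rfl
theorem F115028 : act 5 n76679 = n70186 := d17_3 (iv1 D35049) D35051 D76679 (iv4 D70186) (iv5 D32574) F27907 D35078 (iv0 F55705) (iv4 F55662)
theorem F115029 : act 4 n76679 = n72591 := d18_1 D76679 (iv1 D72591) F52824 D33529 (iv4 F56749) (iv0 F55357) (iv4 F55665) (iv0 D35048) D35051
theorem F115030 : act 1 n46261 = n76679 := d15_0 (iv0 D76679) (iv7 F74072) F74070
theorem F115031 : act 3 n75006 = n76679 := d19_19 (iv1 F115030) (iv5 F114941) F114940 F55616 (iv1 F43291) (iv5 F43292) D32043 (iv3 F52295) F52298 (iv5 D20005) D20004 F31827 (iv1 D10958) D10959 D23318 F36433 (iv1 F46151) (iv5 F61832) (iv4 F112541)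
theorem F115032 : act 2 n70194 = n76679 := d2_3 F115028 F106632 D70194
def n76680 : Q := act 1 n35051
theorem D76680 : act 1 n35051 = n76680 := rfl
theorem F115033 : act 1 n76680 = n46261 := d15_1 D76680 (iv7 F74067) F74066
theorem F115034 : act 7 n76680 = n70194 := d15_2 (iv0 D76679) D76680 F115032
theorem F115035 : act 5 n76680 = n35083 := d17_7 (iv1 F55637) (iv5 D17011) (iv1 D7941) D7942 D17015 D35051 D76680 (iv0 F114960) (iv4 D76641)
theorem F115036 : act 4 n76680 = n46531 := d18_7 (iv1 F109130) F63907 (iv1 D20919) F17031 D22128 (iv4 F55667) D76680 (iv0 F73529) D72593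
theorem F115037 : act 3 n76680 = n55424 := d20_3 (iv4 F52824) F73529 (iv4 F115036) (iv1 D55424) (iv3 D26773) F21854 (iv1 F28687) (iv4 F28689) D27336 F44239
theorem F115038 : act 5 n55424 = n57574 := d6_2 (iv5 F115035) F115037 (iv3 F90732)
def n76681 : Q := act 6 n35051
theorem D76681 : act 6 n35051 = n76681 := rfl
theorem F115039 : act 4 n76681 = n46267 := d10_1 D76681 (iv6 D46267) (iv4 F55667)
def n76682 : Q := act 6 n35052
theorem D76682 : act 6 n35052 = n76682 := rfl
theorem F115040 : act 4 n76682 = n35053 := d10_1 D76682 (iv6 D35053) (iv4 F55668)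
def n76683 : Q := act 0 n35053
theorem D76683 : act 0 n35053 = n76683 := rfl
def n76684 : Q := act 1 n35053
theorem D76684 : act 1 n35053 = n76684 := rfl
def n76685 : Q := act 1 n35054
theorem D76685 : act 1 n35054 = n76685 := rfl
theorem F115041 : act 4 n76685 = n74172 := d17_9 F110919 (iv5 D61656) F77093 (iv5 F106435) (iv4 F106436) (iv5 D60253) D60251 F114724 D76685
theorem F115042 : act 3 n52815 = n76685 := d5_5 F115041 F110916 (iv4 F83446) F83445 D52815
def n76686 : Q := act 6 n35054
theorem D76686 : act 6 n35054 = n76686 := rfl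
theorem F115043 : act 4 n76686 = n35055 := d10_1 D76686 (iv6 D35055) D35054
def n76687 : Q := act 0 n35055
theorem D76687 : act 0 n35055 = n76687 := rfl
def n76688 : Q := act 1 n35055
theorem D76688 : act 1 n35055 = n76688 := rfl
def n76689 : Q := act 7 n35055
theorem D76689 : act 7 n35055 = n76689 := rfl
theorem F115044 : act 3 n76689 = n35058 := d8_1 D76689 (iv7 D35058) (iv3 F55671)
def n76690 : Q := act 2 n35056
theorem D76690 : act 2 n35056 = n76690 := rfl
theorem F115045 : act 7 n35057 = n76690 := d15_2 (iv0 D35056) D35057 (iv2 D76690)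
def n76691 : Q := act 3 n35056
theorem D76691 : act 3 n35056 = n76691 := rfl
def n76692 : Q := act 4 n35056
theorem D76692 : act 4 n35056 = n76692 := rfl
def n76693 : Q := act 5 n35056
theorem D76693 : act 5 n35056 = n76693 := rfl
def n76694 : Q := act 7 n35056
theorem D76694 : act 7 n35056 = n76694 := rfl
theorem F115046 : act 2 n76694 = n35057 := d4_1 D76694 F115045 (iv2 D76690)
def n76695 : Q := act 3 n35057
theorem D76695 : act 3 n35057 = n76695 := rfl
def n76696 : Q := act 4 n35057
theorem D76696 : act 4 n35057 = n76696 := rfl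
def n76697 : Q := act 6 n35057
theorem D76697 : act 6 n35057 = n76697 := rfl
def n76698 : Q := act 6 n35059
theorem D76698 : act 6 n35059 = n76698 := rfl
theorem F115047 : act 3 n76698 = n52921 := d7_1 D76698 (iv6 D52921) (iv3 F55672)
theorem F115048 : act 4 n76698 = n35060 := d10_1 D76698 (iv6 D35060) D35059
def n76699 : Q := act 0 n35060
theorem D76699 : act 0 n35060 = n76699 := rfl
def n76700 : Q := act 1 n35060
theorem D76700 : act 1 n35060 = n76700 := rfl
def n76701 : Q := act 7 n35060
theorem D76701 : act 7 n35060 = n76701 := rfl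
theorem F115049 : act 3 n76701 = n35063 := d8_1 D76701 (iv7 D35063) (iv3 F55675)
theorem F115050 : act 5 n76701 = n62716 := d13_1 D76701 (iv7 D62716) (iv5 F55676)
def n76702 : Q := act 3 n35061
theorem D76702 : act 3 n35061 = n76702 := rfl
def n76703 : Q := act 4 n35061
theorem D76703 : act 4 n35061 = n76703 := rfl
def n76704 : Q := act 6 n35061
theorem D76704 : act 6 n35061 = n76704 := rfl
theorem F115051 : act 5 n76704 = n74029 := d21_6 F24731 (iv1 F11514) (iv5 F12576) D17020 D35061 D76704 (iv1 D74029) F53314 (iv6 D26291) (iv1 F24733)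
def n76705 : Q := act 3 n35062
theorem D76705 : act 3 n35062 = n76705 := rfl
def n76706 : Q := act 4 n35062
theorem D76706 : act 4 n35062 = n76706 := rfl
def n76707 : Q := act 0 n35064
theorem D76707 : act 0 n35064 = n76707 := rfl
theorem F115052 : act 5 n76707 = n57567 := d19_1 D76707 (iv4 D57567) (iv3 F90321) (iv1 F90326) D57607 F92116 F68286 F51812 F43586 (iv4 D25562) F20099 F26293 (iv5 F26312) (iv4 F26450) F11478 D7159 (iv5 F20785) (iv4 F27878) D35064
theorem F115053 : act 1 n70247 = n76707 := d15_0 (iv0 D76707) F55679 D70247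
theorem F115054 : act 2 n57571 = n76707 := d2_3 F115052 F90721 D57571
def n76708 : Q := act 1 n35064
theorem D76708 : act 1 n35064 = n76708 := rfl
theorem F115055 : act 7 n76708 = n57571 := d15_2 (iv0 D76707) D76708 F115054
theorem F115056 : act 3 n37273 = n76708 := d20_3 F29671 (iv1 F33416) (iv4 F58237) (iv1 D76708) (iv3 D35064) F27878 (iv1 F20788) (iv4 F24986) F26496 D18486
theorem F115057 : act 5 n76708 = n44479 := d6_2 (iv5 F58236) F115056 (iv3 D44479)
theorem F115058 : act 0 n70247 = n76708 := d19_0 F115057 F69994 (iv3 D27426) (iv1 D13131) D13133 (iv4 F21962) F21961 D16278 F43039 F43037 (iv3 F46089) F46090 F27214 F20822 D25546 F40396 D32405 (iv4 F76776) (iv3 F106700)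
theorem F115059 : act 5 n56942 = n70193 := d17_1 (iv1 F90021) F106649 (iv5 D57268) (iv4 F69994) (iv5 F115057) (iv0 F115058) (iv5 F107385) F107387 F106865
theorem F115060 : act 2 n55423 = n56942 := d2_3 F115059 F106650 (iv5 F106842)
theorem F115061 : act 3 n70194 = n56942 := d6_3 F115059 (iv3 D70193) D70194
theorem F115062 : act 7 n55424 = n56942 := d13_0 F115059 F106648 (iv5 F115038)
theorem F115063 : act 2 n55424 = n56941 := d15_3 (iv0 D56941) D56942 (iv7 F115062)
theorem F115064 : act 7 n56941 = n55423 := d4_2 (iv7 F115062) F115063 F115060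
theorem F115065 : act 2 n76708 = n70246 := d15_3 (iv0 D70246) (iv0 F90729) (iv7 F115055)
theorem F115066 : act 7 n70246 = n76707 := d4_2 (iv7 F115055) F115065 (iv2 F115054)
def n76709 : Q := act 2 n35064
theorem D76709 : act 2 n35064 = n76709 := rfl
theorem F115067 : act 3 n76709 = n52949 := d0_2 D35064 D76709 (iv2 F83671) (iv3 D32596) F27879
theorem F115068 : act 4 n76709 = n57561 := d1_2 F115005 D76709 (iv2 F115004)
theorem F115069 : act 5 n76709 = n70380 := d2_2 (iv5 F55678) D76709 (iv2 D70380)
theorem F115070 : act 7 n76709 = n70247 := d4_2 (iv7 F55679) D76709 (iv2 D70247)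
theorem F115071 : act 1 n76709 = n70246 := d15_0 (iv0 D70246) (iv7 F55679) D76709
theorem F115072 : act 1 n57571 = n76709 := d15_0 F115071 F115066 (iv2 F115054)
def n76710 : Q := act 6 n35064
theorem D76710 : act 6 n35064 = n76710 := rfl
def n76711 : Q := act 0 n35065
theorem D76711 : act 0 n35065 = n76711 := rfl
def n76712 : Q := act 1 n35065
theorem D76712 : act 1 n35065 = n76712 := rfl
theorem F115074 : act 1 n76712 = n70231 := d15_1 D76712 (iv7 D70231) (iv2 F55680)
def n76714 : Q := act 7 n35065
theorem D76714 : act 7 n35065 = n76714 := rfl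
theorem F115077 : act 2 n76714 = n70231 := d4_1 D76714 (iv7 D70231) (iv2 F55680)
theorem F115078 : act 4 n76714 = n54362 := d11_1 D76714 (iv7 D54362) (iv4 F55681)
theorem F115080 : act 1 n70231 = n76711 := d15_0 (iv0 D76711) D76714 F115077
theorem F115081 : act 1 n70229 = n76714 := d15_1 D70229 (iv7 D76714) F55680
def n76715 : Q := act 6 n35066
theorem D76715 : act 6 n35066 = n76715 := rfl
theorem F115083 : act 3 n76715 = n35067 := d7_1 D76715 (iv6 D35067) D35066
def n76716 : Q := act 0 n35067
theorem D76716 : act 0 n35067 = n76716 := rfl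
def n76717 : Q := act 1 n35067
theorem D76717 : act 1 n35067 = n76717 := rfl
theorem F115085 : act 1 n76717 = n70252 := d15_1 D76717 (iv7 D70252) (iv2 F55686)
def n76719 : Q := act 7 n35067
theorem D76719 : act 7 n35067 = n76719 := rfl
theorem F115088 : act 2 n76719 = n70252 := d4_1 D76719 (iv7 D70252) (iv2 F55686)
theorem F115091 : act 1 n70252 = n76716 := d15_0 (iv0 D76716) D76719 F115088
def n76720 : Q := act 0 n35068
theorem D76720 : act 0 n35068 = n76720 := rfl
theorem F115094 : act 2 n35072 = n76720 := d15_3 (iv0 D76720) (iv0 D35068) D35072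
theorem F115095 : act 5 n76720 = n35989 := d2_2 (iv5 F55692) F115094 (iv2 D35989)
theorem F115096 : act 7 n76720 = n35070 := d4_2 D35072 F115094 (iv2 D35070)
theorem F115097 : act 1 n35069 = n76720 := d15_1 D35069 F115096 (iv2 D35070)
def n76721 : Q := act 2 n35068
theorem D76721 : act 2 n35068 = n76721 := rfl
theorem F115098 : act 7 n35069 = n76721 := d15_2 (iv0 D35068) D35069 (iv2 D76721)
def n76722 : Q := act 3 n35068
theorem D76722 : act 3 n35068 = n76722 := rfl
theorem F115099 : act 4 n76722 = n48024 := d20_6 F24983 (iv1 D7945) D7946 D17023 D35068 D76722 (iv1 F75464) (iv4 F75476) F75475 F41725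
theorem F115100 : act 0 n52923 = n76722 := d20_10 F115099 (iv1 F75464) (iv4 F75476) F75475 F41725 D32613 (iv4 F51661) (iv1 D25692) D25693 D52923
def n76723 : Q := act 4 n35068
theorem D76723 : act 4 n35068 = n76723 := rfl
def n76724 : Q := act 5 n35068
theorem D76724 : act 5 n35068 = n76724 := rfl
theorem F115101 : act 1 n76724 = n54848 := d17_8 (iv1 F72451) F72449 (iv1 D36563) D36566 (iv4 F57439) (iv5 F115095) (iv0 D76720) D76724 F86790
theorem F115102 : act 4 n76724 = n75525 := d19_2 D35068 D76724 (iv3 D75525) (iv1 D34556) D34559 (iv4 F90529) F90528 (iv1 F90535) (iv5 F106640) (iv4 D70189) (iv3 F55719) (iv1 F54187) (iv5 D17039) F12701 (iv3 D7301) F10678 D3597 D7946 D17023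
def n76725 : Q := act 6 n35068
theorem D76725 : act 6 n35068 = n76725 := rfl
def n76726 : Q := act 7 n35068
theorem D76726 : act 7 n35068 = n76726 := rfl
theorem F115103 : act 2 n76726 = n35069 := d4_1 D76726 F115098 (iv2 D76721)
def n76727 : Q := act 3 n35069
theorem D76727 : act 3 n35069 = n76727 := rfl
def n76728 : Q := act 5 n35069
theorem D76728 : act 5 n35069 = n76728 := rfl
def n76729 : Q := act 6 n35069
theorem D76729 : act 6 n35069 = n76729 := rfl
def n76730 : Q := act 0 n35070
theorem D76730 : act 0 n35070 = n76730 := rfl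
theorem F115104 : act 1 n35072 = n76730 := d15_0 (iv0 D76730) (iv7 F115096) (iv2 F115094)
def n76731 : Q := act 1 n35070
theorem D76731 : act 1 n35070 = n76731 := rfl
theorem F115105 : act 1 n76731 = n35072 := d15_1 D76731 (iv7 D35072) D35070
def n76732 : Q := act 5 n35070
theorem D76732 : act 5 n35070 = n76732 := rfl
theorem F115106 : act 2 n76732 = n35071 := d2_1 D76732 (iv5 D35071) D35070
theorem F115107 : act 3 n76732 = n45137 := d6_1 D76732 (iv5 F88019) F88018
theorem F115108 : act 7 n76732 = n35989 := d13_2 F115096 D76732 (iv5 F115095)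
theorem F115109 : act 0 n35987 = n76732 := d19_0 (iv5 D76732) (iv4 F115024) F115023 (iv1 D57287) (iv5 D27432) F21907 (iv3 D8611) D8609 F28669 F28666 F17134 (iv1 D8508) D8509 (iv4 F16696) D21993 D46024 (iv5 F91675) F91676 (iv3 F91678)
theorem F115110 : act 4 n76732 = n35465 := d20_0 F57353 (iv4 F33657) (iv3 D21431) F16148 D18476 (iv4 F44573) D57951 F91676 (iv3 F91678) F115109
theorem F115111 : act 1 n35988 = n76732 := d15_1 D35988 F115108 (iv2 D35989)
def n76733 : Q := act 0 n35071
theorem D76733 : act 0 n35071 = n76733 := rfl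
theorem F115112 : act 4 n76733 = n38491 := d20_2 F55689 D76733 (iv3 D38491) (iv1 D18343) (iv3 D8643) (iv4 F7228) F12197 D10454 D21917 F34404
theorem F115113 : act 1 n35989 = n76733 := d15_0 (iv0 D76733) (iv7 F55690) D35989
def n76734 : Q := act 1 n35071
theorem D76734 : act 1 n35071 = n76734 := rfl
theorem F115114 : act 1 n76734 = n35989 := d15_1 D76734 (iv7 F115108) F115106
def n76735 : Q := act 6 n35071
theorem D76735 : act 6 n35071 = n76735 := rfl
theorem F115115 : act 3 n76735 = n35073 := d7_1 D76735 (iv6 D35073) (iv3 F55688)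
theorem F115116 : act 4 n76735 = n39293 := d10_1 D76735 (iv6 D39293) F55689
def n76736 : Q := act 6 n35072
theorem D76736 : act 6 n35072 = n76736 := rfl
theorem F115117 : act 3 n76736 = n35074 := d7_1 D76736 (iv6 D35074) (iv3 F55691)
def n76737 : Q := act 0 n35073
theorem D76737 : act 0 n35073 = n76737 := rfl
def n76738 : Q := act 1 n35073
theorem D76738 : act 1 n35073 = n76738 := rfl
def n76739 : Q := act 0 n35074
theorem D76739 : act 0 n35074 = n76739 := rfl
def n76740 : Q := act 1 n35074
theorem D76740 : act 1 n35074 = n76740 := rfl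
def n76741 : Q := act 2 n35075
theorem D76741 : act 2 n35075 = n76741 := rfl
theorem F115118 : act 7 n35076 = n76741 := d15_2 (iv0 D35075) D35076 (iv2 D76741)
def n76742 : Q := act 3 n35075
theorem D76742 : act 3 n35075 = n76742 := rfl
def n76743 : Q := act 4 n35075
theorem D76743 : act 4 n35075 = n76743 := rfl
def n76744 : Q := act 5 n35075
theorem D76744 : act 5 n35075 = n76744 := rfl
def n76745 : Q := act 6 n35075
theorem D76745 : act 6 n35075 = n76745 := rfl
theorem F115119 : act 5 n76745 = n69748 := d21_6 (iv5 D12488) F10688 (iv5 F12577) D17026 D35075 D76745 (iv1 D69748) F51421 (iv6 D32063) (iv1 F24732)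
def n76746 : Q := act 7 n35075
theorem D76746 : act 7 n35075 = n76746 := rfl
theorem F115120 : act 2 n76746 = n35076 := d4_1 D76746 F115118 (iv2 D76741)
def n76747 : Q := act 3 n35076
theorem D76747 : act 3 n35076 = n76747 := rfl
def n76748 : Q := act 4 n35076
theorem D76748 : act 4 n35076 = n76748 := rfl
def n76749 : Q := act 5 n35076
theorem D76749 : act 5 n35076 = n76749 := rfl
theorem F115121 : act 6 n76749 = n54850 := d21_9 F106998 (iv1 F87391) (iv5 F87221) (iv6 D55138) (iv1 F42708) D33878 (iv5 F87145) (iv1 F87147) D76749 (iv1 F107001)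
def n76750 : Q := act 6 n35076
theorem D76750 : act 6 n35076 = n76750 := rfl
theorem F115122 : act 5 n76750 = n58458 := d21_6 (iv5 D16332) (iv1 F21126) (iv5 F42661) D55098 (iv1 F87147) D76750 (iv1 D58458) F85840 F86552 (iv1 D33799)
def n76751 : Q := act 4 n35078
theorem D76751 : act 4 n35078 = n76751 := rfl
theorem F115123 : act 2 n76751 = n70184 := d1_1 D76751 (iv4 D70184) (iv2 F55701)
theorem F115124 : act 7 n76751 = n69789 := d11_2 (iv7 F55703) D76751 (iv4 D69789)
theorem F115125 : act 5 n76751 = n46864 := d16_7 (iv4 F52824) D72593 F109128 F64151 (iv4 D35077) D35078 D76751 F74077 (iv2 D33528)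
theorem F115126 : act 0 n76751 = n56991 := d17_0 F90071 F44374 D33631 (iv4 F55711) F55710 F54291 (iv5 F51654) (iv0 F55704) D76751
theorem F115127 : act 1 n76751 = n71649 := d18_6 (iv1 F27862) D35022 F55700 (iv4 D35077) D35078 D76751 (iv4 D71649) (iv0 F52361) F27875
theorem F115128 : act 3 n76751 = n72447 := d19_3 D17029 D35078 D76751 (iv1 F108969) F92113 F92112 F90754 (iv1 F110316) F110318 (iv4 D35958) (iv3 F40480) (iv1 F56731) F56733 (iv4 D28091) (iv3 F26430) (iv1 F12458) (iv5 D3602) D3601 D7957
def n76752 : Q := act 6 n35078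
theorem D76752 : act 6 n35078 = n76752 := rfl
theorem F115129 : act 2 n76752 = n70185 := d3_1 D76752 (iv6 D70185) (iv2 F55701)
theorem F115130 : act 3 n76752 = n60170 := d7_1 D76752 F94719 (iv3 F55702)
theorem F115131 : act 5 n76752 = n60165 := d12_1 D76752 (iv6 D60165) F46162 (iv6 F54132) D35078
def n76753 : Q := act 4 n35079
theorem D76753 : act 4 n35079 = n76753 := rfl
theorem F115132 : act 2 n76753 = n35083 := d1_1 D76753 (iv4 D35083) (iv2 F55706)
theorem F115133 : act 3 n76753 = n71445 := d5_1 D76753 F107982 (iv3 F55417) (iv4 F51624) (iv3 F55707)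
theorem F115134 : act 7 n76753 = n70186 := d11_2 (iv7 F55708) D76753 (iv4 D70186)
theorem F115135 : act 0 n76753 = n70192 := d17_0 F106728 (iv1 F115014) (iv5 D76672) F55662 F41813 (iv0 F54290) (iv5 F55710) F55709 D76753
theorem F115136 : act 1 n76753 = n54092 := d18_6 (iv1 F27868) (iv4 F27777) (iv1 F55258) F55261 D35079 D76753 (iv4 D54092) (iv0 F55591) (iv5 D35020)
def n76754 : Q := act 6 n35079
theorem D76754 : act 6 n35079 = n76754 := rfl
theorem F115137 : act 2 n76754 = n35084 := d3_1 D76754 (iv6 D35084) (iv2 F55706)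
theorem F115138 : act 3 n76754 = n70161 := d7_1 D76754 (iv6 D70161) (iv3 F55707)
def n76755 : Q := act 6 n35081
theorem D76755 : act 6 n35081 = n76755 := rfl
theorem F115139 : act 2 n76755 = n70191 := d3_1 D76755 (iv6 D70191) F55727
theorem F115140 : act 3 n76755 = n70165 := d7_1 D76755 (iv6 D70165) F55728
theorem F115141 : act 5 n76755 = n67906 := d12_1 D76755 (iv6 D67906) F54342 F54297 (iv5 F55725)
def n76756 : Q := act 3 n35082
theorem D76756 : act 3 n35082 = n76756 := rfl
theorem F115142 : act 2 n76756 = n70049 := d0_1 D76756 (iv3 F106440) F54318 F55719 F55733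
theorem F115143 : act 4 n76756 = n70293 := d5_2 F92151 D76756 (iv3 F108406) (iv4 D58291) (iv3 F92149)
theorem F115144 : act 5 n76756 = n62782 := d6_2 (iv5 F55732) D76756 (iv3 D62782)
theorem F115145 : act 7 n76756 = n70048 := d8_2 (iv7 F55731) D76756 F106434
theorem F115146 : act 0 n76756 = n70047 := d19_4 F89998 D58289 F92151 D76756 (iv5 D70047) (iv4 F51583) F40413 (iv1 D19872) (iv5 D9354) (iv4 D4242) (iv3 F6142) (iv1 F14092) F13917 (iv4 F6688) F6689 D6231 D13093 D27322 D56932
theorem F115147 : act 1 n76756 = n69923 := d15_1 (iv0 F115146) F106358 (iv2 F106433)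
def n76757 : Q := act 6 n35082
theorem D76757 : act 6 n35082 = n76757 := rfl
theorem F115148 : act 2 n76757 = n70190 := d3_1 D76757 (iv6 D70190) F55733
def n76758 : Q := act 6 n35083
theorem D76758 : act 6 n35083 = n76758 := rfl
theorem F115149 : act 4 n76758 = n35084 := d10_1 D76758 (iv6 D35084) D35083
def n76759 : Q := act 0 n35084
theorem D76759 : act 0 n35084 = n76759 := rfl
def n76760 : Q := act 1 n35084
theorem D76760 : act 1 n35084 = n76760 := rfl
def n76761 : Q := act 7 n35084
theorem D76761 : act 7 n35084 = n76761 := rfl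
theorem F115150 : act 3 n76761 = n35091 := d8_1 D76761 (iv7 D35091) (iv3 F55735)
theorem F115151 : act 6 n76761 = n70199 := d14_1 D76761 (iv7 D70199) (iv6 D32580) (iv7 F27914) D35084
def n76762 : Q := act 4 n35085
theorem D76762 : act 4 n35085 = n76762 := rfl
theorem F115152 : act 2 n76762 = n49846 := d1_1 D76762 F78825 F77102
theorem F115153 : act 3 n76762 = n70200 := d5_1 D76762 (iv4 D70200) (iv3 F55713) (iv4 F79143) F79142
theorem F115154 : act 6 n76762 = n49837 := d10_2 (iv6 F77107) D76762 F78805
theorem F115155 : act 7 n76762 = n67896 := d11_2 F77103 D76762 F103962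
theorem F115156 : act 5 n76762 = n71327 := d17_5 (iv1 F50900) D15852 D32918 F77108 D76762 (iv0 D71327) (iv5 D33005) (iv0 F51154) F37299
theorem F115157 : act 0 n76762 = n76651 := d18_2 D35085 D76762 F114977 F55657 D74020 (iv0 F114248) (iv4 D76241) (iv0 F55056) F42058
theorem F115158 : act 1 n76762 = n76633 := d18_6 F54571 D33016 F107622 (iv4 D71086) F77108 D76762 F114924 (iv0 F55609) (iv5 F54572)
def n76763 : Q := act 3 n35086
theorem D76763 : act 3 n35086 = n76763 := rfl
theorem F115159 : act 2 n76763 = n67927 := d0_1 D76763 F104005 (iv2 F79151) F79153 (iv2 F77099)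
theorem F115160 : act 5 n76763 = n71088 := d6_2 (iv5 F77101) D76763 (iv3 D71088)
theorem F115161 : act 6 n76763 = n52084 := d7_2 F77098 D76763 (iv3 D52084)
theorem F115162 : act 7 n76763 = n49844 := d8_2 (iv7 F77100) D76763 F78822
theorem F115163 : act 4 n76763 = n69688 := d20_6 (iv4 F54455) F54458 (iv4 F84991) F84990 (iv1 F55737) D76763 F108571 (iv4 D72111) F52531 F54199
theorem F115164 : act 0 n67961 = n76763 := d20_10 F115163 F108571 (iv4 D72111) F52531 F54199 (iv3 F95988) F95989 F104075 (iv4 D67962) D67961
theorem F115165 : act 0 n76763 = n68010 := d20_1 (iv4 F115163) (iv4 F104111) (iv3 F82822) F97641 F97638 F47541 (iv1 F25938) D34018 (iv3 F108558) F108561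
theorem F115166 : act 0 n71088 = n71939 := d17_2 F115164 F115160 (iv5 D71939) (iv4 D33238) D33239 (iv0 F82826) (iv5 D52459) D52458 (iv4 F104070)
theorem F115167 : act 0 n52905 = n68020 := d21_7 F115160 F115166 (iv5 D71939) F52471 (iv1 F40578) D25684 D52905 (iv5 D68020) (iv6 F104068) F115164
theorem F115168 : act 1 n71088 = n71943 := d15_1 (iv0 F115166) F108448 (iv2 F108443)
def n76764 : Q := act 4 n35086
theorem D76764 : act 4 n35086 = n76764 := rfl
theorem F115169 : act 2 n76764 = n67896 := d1_1 D76764 F103962 (iv2 F77099)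
theorem F115170 : act 6 n76764 = n52085 := d10_2 F77098 D76764 (iv4 D52085)
theorem F115171 : act 7 n76764 = n49846 := d11_2 (iv7 F77100) D76764 F78825
theorem F115172 : act 0 n76764 = n76633 := d17_0 (iv5 F114925) F114926 (iv5 D76240) F55049 D34823 (iv0 F55056) F42058 D35086 D76764
theorem F115173 : act 3 n76764 = n76512 := d20_3 (iv4 D68082) (iv1 F55737) D76764 (iv1 D76512) F55317 F27800 F22832 D28706 D60444 F104202
theorem F115174 : act 0 n76651 = n76764 := d20_7 (iv4 F104111) F95891 F95889 (iv3 F55572) (iv1 F55574) (iv3 F55656) (iv4 F114977) (iv4 D76764) D76763 F115165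
theorem F115175 : act 5 n76764 = n71328 := d17_1 F115174 (iv1 D71328) (iv5 D33005) F25376 D15911 (iv0 F54571) F54572 F55659 (iv4 F114977)
theorem F115176 : act 6 n76512 = n59803 := d7_2 (iv6 F115170) F115173 F94158
theorem F115177 : act 5 n49099 = n59803 := d21_2 D23954 D49099 (iv6 F115176) (iv1 D76512) (iv6 D34950) D34949 F65141 F77506 (iv6 D49097) (iv1 D23952)
def n76765 : Q := act 0 n35087
theorem D76765 : act 0 n35087 = n76765 := rfl
theorem F115178 : act 5 n76765 = n70877 := d17_1 D76765 (iv1 F107379) (iv5 F115069) F115068 (iv5 D57561) (iv0 D27515) D27519 D57574 F90733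
theorem F115180 : act 2 n70204 = n76765 := d2_3 F115178 (iv2 F107378) (iv5 F106669)
theorem F115181 : act 7 n70203 = n76765 := d13_0 F115178 F107381 (iv5 F107031)
def n76766 : Q := act 1 n35087
theorem D76766 : act 1 n35087 = n76766 := rfl
theorem F115182 : act 7 n76766 = n70204 := d15_2 (iv0 D76765) D76766 F115180
theorem F115183 : act 3 n40679 = n76766 := d20_3 F29103 (iv1 F33424) (iv4 F61784) (iv1 D76766) (iv3 D35087) (iv4 D17034) (iv1 F20636) F26906 F25311 D17932
theorem F115184 : act 5 n76766 = n40678 := d6_2 D40679 F115183 (iv3 D40678)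
theorem F115185 : act 2 n70203 = n76766 := d2_3 F115184 F106864 (iv5 F107031)
theorem F115186 : act 0 n70205 = n76766 := d19_0 F115184 F61779 (iv3 D26773) (iv1 F27967) (iv5 F43075) (iv4 D26784) (iv3 F43069) (iv1 F44431) (iv5 D27539) D27538 (iv3 F77318) (iv1 F77322) F41917 F20904 (iv3 F37227) (iv1 D23873) D23875 D48944 (iv3 F106670)
def n76767 : Q := act 2 n35087
theorem D76767 : act 2 n35087 = n76767 := rfl
theorem F115187 : act 3 n76767 = n69799 := d0_2 D35087 D76767 (iv2 F106215) (iv3 D32560) (iv2 F27917)
theorem F115188 : act 5 n76767 = n57570 := d2_2 (iv5 F55738) D76767 F90727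
theorem F115190 : act 1 n76767 = n70203 := d15_0 (iv0 D70203) (iv7 F55739) D76767
theorem F115191 : act 1 n70204 = n76767 := d15_0 F115190 F115181 (iv2 F115180)
def n76769 : Q := act 0 n35088
theorem D76769 : act 0 n35088 = n76769 := rfl
def n76770 : Q := act 1 n35088
theorem D76770 : act 1 n35088 = n76770 := rfl
theorem F115193 : act 1 n76770 = n70174 := d15_1 D76770 (iv7 D70174) (iv2 F55740)
def n76772 : Q := act 7 n35088
theorem D76772 : act 7 n35088 = n76772 := rfl
theorem F115196 : act 2 n76772 = n70174 := d4_1 D76772 (iv7 D70174) (iv2 F55740)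
theorem F115197 : act 4 n76772 = n35091 := d11_1 D76772 (iv7 D35091) (iv4 F55741)
theorem F115199 : act 1 n70174 = n76769 := d15_0 (iv0 D76769) D76772 F115196
theorem F115200 : act 1 n70172 = n76772 := d15_1 D70172 (iv7 D76772) F55740
theorem F115201 : act 1 n76772 = n70171 := d15_0 (iv0 D70171) D70174 (iv2 F115196)
def n76773 : Q := act 3 n35089
theorem D76773 : act 3 n35089 = n76773 := rfl
theorem F115202 : act 7 n76773 = n70180 := d8_2 (iv7 F109916) D76773 (iv3 D70180)
def n76774 : Q := act 4 n35089
theorem D76774 : act 4 n35089 = n76774 := rfl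
theorem F115203 : act 2 n76774 = n70177 := d1_1 D76774 (iv4 D70177) (iv2 F109915)
theorem F115204 : act 7 n76774 = n70181 := d11_2 (iv7 F109916) D76774 (iv4 D70181)
def n76775 : Q := act 5 n35089
theorem D76775 : act 5 n35089 = n76775 := rfl
theorem F115205 : act 2 n76775 = n70178 := d2_1 D76775 (iv5 D70178) (iv2 F109915)
theorem F115206 : act 7 n76775 = n70182 := d13_2 (iv7 F109916) D76775 (iv5 D70182)
def n76776 : Q := act 3 n35090
theorem D76776 : act 3 n35090 = n76776 := rfl
theorem F115209 : act 7 n76776 = n70176 := d8_2 (iv7 F109921) D76776 (iv3 D70176)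
def n76777 : Q := act 4 n35090
theorem D76777 : act 4 n35090 = n76777 := rfl
theorem F115210 : act 2 n76777 = n70181 := d1_1 D76777 (iv4 D70181) (iv2 F109920)
def n76778 : Q := act 5 n35090
theorem D76778 : act 5 n35090 = n76778 := rfl
theorem F115214 : act 6 n76778 = n54495 := d21_9 (iv5 F85724) (iv1 F85727) D70424 (iv6 F106889) (iv1 F86119) F86116 F52126 (iv1 F55742) D76778 (iv1 F86076)
theorem F115215 : act 0 n36745 = n76778 := d21_10 (iv5 D76778) (iv1 D35090) (iv5 F42061) (iv6 D26364) (iv1 D12574) (iv6 F20927) (iv5 D12567) F41731 D17712 D36745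
theorem F115216 : act 3 n60426 = n76778 := d7_3 F115214 F109873 D60426
theorem F115217 : act 0 n76778 = n68075 := d21_10 (iv5 F104793) F107679 (iv5 D71185) (iv6 F107678) (iv1 F107595) (iv6 F107600) F107599 (iv1 F109870) (iv5 F109874) (iv6 F115214)
theorem E10351 : n76776 = n32587 := (c6_4 (iv5 F94940) F115216 (iv5 D76778) D76776)
theorem E10352 : n70215 = n35090 := ((D70215).symm.trans (sb E10351 (iv3 D76776)))
theorem E10353 : n70176 = n35101 := ((((iv7 F57642)).symm.trans (sb E10351 F115209))).symm
theorem F115218 : act 3 n35090 = n32587 := (sb E10352 (iv3 D70215))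
theorem F115219 : act 3 n35101 = n32562 := (sb E10353 (iv3 D70176))
theorem F115220 : act 2 n76773 = n70211 := d0_3 F115219 (iv2 F109915) D76773 (iv3 D70211) F57643
def n76779 : Q := act 6 n35090
theorem D76779 : act 6 n35090 = n76779 := rfl
theorem F115221 : act 2 n76779 = n70183 := d3_1 D76779 (iv6 D70183) (iv2 F109920)
theorem F115223 : act 5 n76779 = n70949 := d12_1 D76779 (iv6 F109871) (iv5 F109874) (iv6 F115214) (iv5 D76778)
theorem F115224 : act 7 n76779 = n70092 := d14_2 (iv7 F109921) D76779 F109889 F109917 (iv6 F97978)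
theorem F115225 : act 0 n76779 = n54339 := d21_10 (iv5 D54339) (iv1 F85719) F85715 (iv6 D32547) (iv1 F41727) D54352 F85766 F115215 (iv5 D76778) D76779
theorem F115226 : act 1 n70183 = n68601 := d15_0 (iv0 F109892) (iv7 F115224) F115221
def n76780 : Q := act 6 n35092
theorem D76780 : act 6 n35092 = n76780 := rfl
theorem F115228 : act 2 n76780 = n70160 := d3_1 D76780 (iv6 D70160) (iv2 F55748)
theorem F115229 : act 3 n76780 = n48991 := d7_1 D76780 F77312 (iv3 F55749)
theorem F115230 : act 5 n76780 = n48985 := d12_1 D76780 (iv6 D48985) F37310 (iv6 F54136) D35092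
def n76781 : Q := act 6 n35093
theorem D76781 : act 6 n35093 = n76781 := rfl
theorem F115231 : act 2 n76781 = n35096 := d3_1 D76781 (iv6 D35096) (iv2 F55753)
theorem F115232 : act 3 n76781 = n70187 := d7_1 D76781 (iv6 D70187) (iv3 F55754)
theorem F115233 : act 4 n76781 = n76349 := d10_1 D76781 (iv6 D76349) (iv4 F55756)
def n76782 : Q := act 3 n35095
theorem D76782 : act 3 n35095 = n76782 := rfl
theorem F115234 : act 2 n76782 = n70048 := d0_1 D76782 F106434 F55727 (iv3 F55728) F55762
theorem F115235 : act 4 n76782 = n70294 := d5_2 F83476 D76782 (iv3 F106743) (iv4 D52828) D52827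
theorem F115236 : act 7 n76782 = n70049 := d8_2 (iv7 F55764) D76782 (iv3 F106440)
theorem F115237 : act 0 n76782 = n69923 := d19_4 F55122 (iv5 F83475) F83476 D76782 (iv5 D69923) F51553 (iv3 F40420) (iv1 F54143) F54144 (iv4 F64270) (iv3 D41647) (iv1 F58831) F58829 F35290 D26309 (iv1 F41922) F41890 F41888 D32340
theorem F115238 : act 0 n70047 = n76782 := d18_0 F115235 (iv1 D70294) (iv4 D32624) (iv5 D15447) (iv4 F24988) (iv0 F54159) (iv4 F53360) (iv0 F55301) D70047
def n76783 : Q := act 6 n35095
theorem D76783 : act 6 n35095 = n76783 := rfl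
theorem F115239 : act 2 n76783 = n70165 := d3_1 D76783 (iv6 D70165) F55762
theorem F115240 : act 5 n76783 = n69782 := d12_1 D76783 (iv6 D69782) (iv5 F54314) F56717 F56711
def n76784 : Q := act 0 n35096
theorem D76784 : act 0 n35096 = n76784 := rfl
def n76785 : Q := act 1 n35096
theorem D76785 : act 1 n35096 = n76785 := rfl
def n76786 : Q := act 7 n35096
theorem D76786 : act 7 n35096 = n76786 := rfl
theorem F115241 : act 3 n76786 = n35103 := d8_1 D76786 (iv7 D35103) (iv3 F55765)
def n76787 : Q := act 3 n35097
theorem D76787 : act 3 n35097 = n76787 := rfl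
theorem F115243 : act 2 n76787 = n49844 := d0_1 D76787 F78822 F77102 (iv3 F79142) F79141
theorem F115244 : act 4 n76787 = n62616 := d5_2 F55767 D76787 F97654 F104138 (iv3 F104136)
theorem F115245 : act 5 n76787 = n60353 := d6_2 F55769 D76787 (iv3 D60353)
theorem F115246 : act 6 n76787 = n49842 := d7_2 (iv6 F55766) D76787 F78818
theorem F115247 : act 7 n76787 = n67927 := d8_2 F55768 D76787 F104005
theorem F115248 : act 0 n76787 = n67961 := d20_4 F41216 D31675 F55767 D76787 (iv3 D67961) D67962 (iv1 F106803) F106798 F104026 (iv1 F54471)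
theorem F115249 : act 0 n68020 = n70581 := d21_7 D60048 F97993 F97988 (iv6 F115246) F115248 F104068 D68020 (iv5 D70581) (iv6 F83570) (iv1 F83571)
theorem E10354 : n68009 = n49844 := ((c15_4 (iv0 D68009) (iv0 F104006) (iv7 F115247) F115243)).symm
theorem F115250 : act 1 n49844 = n31648 := (sb E10354 (iv0 D68009))
theorem F115251 : act 0 n68010 = n76787 := d21_4 (iv5 F115144) F115146 (iv5 D70047) (iv6 F104110) F115246 (iv5 F97988) (iv1 F112265) (iv5 D60046) (iv6 F85218) F97971
theorem F115252 : act 0 n60353 = n71943 := d21_7 (iv5 F104043) (iv1 F104045) F94294 (iv6 F112261) (iv1 F112264) (iv6 F115246) F115245 (iv5 D71943) F52475 (iv1 F83045)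
def n76788 : Q := act 6 n35099
theorem D76788 : act 6 n35099 = n76788 := rfl
theorem F115253 : act 3 n76788 = n35100 := d7_1 D76788 (iv6 D35100) D35099
theorem F115254 : act 4 n76788 = n76242 := d10_1 D76788 (iv6 D76242) (iv4 F55770)
def n76789 : Q := act 0 n35100
theorem D76789 : act 0 n35100 = n76789 := rfl
def n76790 : Q := act 1 n35100
theorem D76790 : act 1 n35100 = n76790 := rfl
theorem F115255 : act 1 n76790 = n70210 := d15_1 D76790 (iv7 D70210) (iv2 F55774)
def n76791 : Q := act 5 n35100
theorem D76791 : act 5 n35100 = n76791 := rfl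
theorem F115257 : act 6 n76791 = n70398 := d12_2 D35100 D76791 (iv5 D70398) (iv6 D32676) (iv5 F27938)
def n76792 : Q := act 7 n35100
theorem D76792 : act 7 n35100 = n76792 := rfl
theorem F115258 : act 2 n76792 = n70210 := d4_1 D76792 (iv7 D70210) (iv2 F55774)
theorem F115259 : act 4 n76792 = n35103 := d11_1 D76792 (iv7 D35103) (iv4 F55775)
theorem F115261 : act 1 n70210 = n76789 := d15_0 (iv0 D76789) D76792 F115258
theorem F115262 : act 1 n70208 = n76792 := d15_1 D70208 (iv7 D76792) F55774
def n76793 : Q := act 4 n35101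
theorem D76793 : act 4 n35101 = n76793 := rfl
theorem F115265 : act 7 n76793 = n70216 := d11_2 (iv7 F57642) D76793 (iv4 D70216)
def n76794 : Q := act 5 n35101
theorem D76794 : act 5 n35101 = n76794 := rfl
theorem F115266 : act 2 n76794 = n70213 := d2_1 D76794 (iv5 D70213) F57643
theorem F115267 : act 3 n76794 = n70178 := d6_1 D76794 (iv5 D70178) (iv3 F115219)
theorem F115268 : act 7 n76794 = n60426 := d13_2 (iv7 F57642) D76794 F94940
theorem F115269 : act 0 n76794 = n70946 := d21_1 D76794 F107493 (iv6 D70284) (iv1 D32617) (iv6 D15440) F11590 (iv1 F10668) D7963 D17042 D35101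
def n76795 : Q := act 6 n35101
theorem D76795 : act 6 n35101 = n76795 := rfl
theorem F115270 : act 2 n76795 = n70214 := d3_1 D76795 (iv6 D70214) F57643
theorem F115271 : act 3 n76795 = n62791 := d7_1 D76795 (iv6 F97978) (iv3 F115219)
theorem F115272 : act 7 n76795 = n70094 := d14_2 (iv7 F57642) D76795 (iv6 D70094) (iv7 F57056) F57058
theorem F115273 : act 5 n76795 = n62789 := d21_6 F11590 (iv1 F10668) D7963 D17042 D35101 D76795 F109904 F47804 (iv6 D26275) (iv1 F20788)
def n76796 : Q := act 3 n35102
theorem D76796 : act 3 n35102 = n76796 := rfl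
theorem F115274 : act 2 n76796 = n70180 := d0_1 D76796 (iv3 D70180) (iv2 F109920) F115218 (iv2 F57640)
theorem F115275 : act 6 n76796 = n70095 := d7_2 F57639 D76796 (iv3 D70095)
theorem F115276 : act 7 n76796 = n70211 := d8_2 F57641 D76796 (iv3 D70211)
def n76797 : Q := act 4 n35102
theorem D76797 : act 4 n35102 = n76797 := rfl
theorem F115277 : act 2 n76797 = n70216 := d1_1 D76797 (iv4 D70216) (iv2 F57640)
theorem F115278 : act 6 n76797 = n70096 := d10_2 F57639 D76797 (iv4 D70096)
theorem F115279 : act 7 n76797 = n70212 := d11_2 F57641 D76797 (iv4 D70212)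
def n76798 : Q := act 0 n35104
theorem D76798 : act 0 n35104 = n76798 := rfl
def n76799 : Q := act 1 n35104
theorem D76799 : act 1 n35104 = n76799 := rfl
theorem F115280 : act 1 n76799 = n55354 := d15_1 D76799 (iv7 D55354) (iv2 F55782)
def n76800 : Q := act 7 n35104
theorem D76800 : act 7 n35104 = n76800 := rfl
theorem F115281 : act 2 n76800 = n55354 := d4_1 D76800 (iv7 D55354) (iv2 F55782)
theorem F115282 : act 3 n76800 = n44484 := d8_1 D76800 (iv7 D44484) (iv3 F55783)
theorem F115283 : act 4 n76800 = n57274 := d11_1 D76800 (iv7 D57274) (iv4 F55784)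
theorem F115285 : act 1 n55354 = n76798 := d15_0 (iv0 D76798) D76800 F115281
theorem F115286 : act 1 n55352 = n76800 := d15_1 D55352 (iv7 D76800) F55782
theorem F115287 : act 1 n76800 = n55351 := d15_0 (iv0 D55351) D55354 (iv2 F115281)
def n76801 : Q := act 0 n35106
theorem D76801 : act 0 n35106 = n76801 := rfl
theorem F115288 : act 6 n76801 = n56957 := d21_5 F21843 F12845 D17045 D35106 D76801 (iv5 D56957) (iv1 D27329) F21849 (iv6 D13097) D13095
def n76802 : Q := act 1 n35106
theorem D76802 : act 1 n35106 = n76802 := rfl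
theorem F115289 : act 1 n76802 = n55344 := d15_1 D76802 (iv7 D55344) (iv2 F55789)
def n76803 : Q := act 5 n35106
theorem D76803 : act 5 n35106 = n76803 := rfl
theorem F115290 : act 2 n76803 = n55343 := d2_1 D76803 (iv5 D55343) (iv2 F55789)
theorem F115291 : act 3 n76803 = n36438 := d6_1 D76803 F57223 (iv3 F55790)
theorem F115292 : act 6 n76803 = n35107 := d12_2 D35106 D76803 (iv5 D35107) (iv6 D17046) D17045
def n76804 : Q := act 7 n35106
theorem D76804 : act 7 n35106 = n76804 := rfl
theorem F115293 : act 2 n76804 = n55344 := d4_1 D76804 (iv7 D55344) (iv2 F55789)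
theorem F115294 : act 3 n76804 = n39943 := d8_1 D76804 (iv7 D39943) (iv3 F55790)
theorem F115295 : act 4 n76804 = n57264 := d11_1 D76804 (iv7 D57264) (iv4 F55791)
theorem F115296 : act 6 n76804 = n55354 := d14_1 D76804 (iv7 D55354) (iv6 D26749) (iv7 F27954) D35106
theorem F115297 : act 1 n55344 = n76801 := d15_0 (iv0 D76801) D76804 F115293
theorem F115298 : act 1 n55342 = n76804 := d15_1 D55342 (iv7 D76804) F55789
def n76805 : Q := act 0 n35108
theorem D76805 : act 0 n35108 = n76805 := rfl
theorem F115300 : act 4 n76805 = n55340 := d18_3 F27963 D35108 D76805 (iv5 D55340) F42961 (iv0 F21835) F21250 F14032 D13088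
theorem F115301 : act 2 n55346 = n76805 := d15_3 (iv0 D76805) (iv0 F56251) F87596
theorem F115302 : act 1 n35138 = n76805 := d15_0 (iv0 D76805) F55797 (iv2 F55837)
theorem F115303 : act 7 n76805 = n55347 := d15_2 F56252 F115302 (iv2 F87599)
def n76806 : Q := act 3 n35108
theorem D76806 : act 3 n35108 = n76806 := rfl
theorem F115304 : act 7 n76806 = n57931 := d8_2 (iv7 F55797) D76806 (iv3 D57931)
def n76807 : Q := act 5 n35108
theorem D76807 : act 5 n35108 = n76807 := rfl
theorem F115305 : act 2 n76807 = n55349 := d2_1 D76807 (iv5 D55349) (iv2 F55796)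
theorem F115306 : act 7 n76807 = n57932 := d13_2 (iv7 F55797) D76807 (iv5 D57932)
def n76808 : Q := act 0 n35109
theorem D76808 : act 0 n35109 = n76808 := rfl
theorem F115307 : act 3 n76808 = n46261 := d20_5 (iv4 D12805) (iv1 F12736) D17048 D35109 D76808 (iv4 D46261) (iv1 F35066) D46854 F74049 (iv1 D26758)
theorem F115308 : act 1 n55362 = n76808 := d15_0 (iv0 D76808) F55800 D55362
theorem F115309 : act 5 n57286 = n76808 := d6_0 F115307 (iv5 F114941) (iv3 F114944)
theorem F115310 : act 7 n55360 = n76808 := d8_0 F115307 (iv7 F74067) (iv3 F87618)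
theorem F115311 : act 2 n76808 = n55361 := d15_3 F87623 F87619 F115310
theorem F115312 : act 5 n75247 = n38200 := d17_1 D75247 (iv1 F59063) F42513 F42510 D33568 F90369 F115309 (iv0 D76808) F55799
def n76809 : Q := act 1 n35109
theorem D76809 : act 1 n35109 = n76809 := rfl
theorem F115313 : act 1 n76809 = n55362 := d15_1 D76809 F87622 (iv2 F55798)
theorem F115314 : act 7 n76809 = n55361 := d15_2 (iv0 D76808) D76809 (iv2 F115311)
theorem F115315 : act 2 n55360 = n76809 := d4_3 F115314 (iv2 F115311) (iv7 F115310)
theorem F115316 : act 5 n57287 = n76809 := d13_3 F115314 (iv5 F112920) (iv7 F114948)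
theorem F115317 : act 5 n75248 = n38201 := d17_1 (iv1 F112791) (iv1 D38201) (iv5 D18255) (iv4 F21907) D27432 D57287 F115316 F115313 F87621
def n76810 : Q := act 6 n35109
theorem D76810 : act 6 n35109 = n76810 := rfl
theorem F115318 : act 2 n76810 = n72408 := d3_1 D76810 (iv6 D72408) (iv2 F55798)
theorem F115319 : act 3 n76810 = n35110 := d7_1 D76810 (iv6 D35110) D35109
theorem F115320 : act 4 n76810 = n75249 := d10_1 D76810 (iv6 D75249) (iv4 F55799)
def n76811 : Q := act 0 n35110
theorem D76811 : act 0 n35110 = n76811 := rfl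
theorem F115321 : act 6 n76811 = n57770 := d21_5 D13161 (iv1 F43077) F43075 D35110 D76811 (iv5 D57770) (iv1 D27576) (iv5 D13179) (iv6 D6267) D6263
theorem F115322 : act 0 n76811 = n35120 := d21_4 (iv5 F90388) (iv1 F90390) D57770 (iv6 F115321) F55822 (iv5 F87761) (iv1 F90930) (iv5 D57746) (iv6 D27569) (iv1 F44359)
theorem F115323 : act 4 n35221 = n76811 := d20_6 (iv4 F43178) (iv1 D15699) F11677 (iv3 F12779) D17094 D35221 F115322 F55821 F27981 (iv1 F12760)
theorem F115324 : act 0 n36532 = n35221 := d20_10 F115323 F115322 F55821 F27981 (iv1 F12760) D16857 D34794 F91497 (iv4 F34427) (iv3 F57377)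
def n76812 : Q := act 1 n35110
theorem D76812 : act 1 n35110 = n76812 := rfl
theorem F115325 : act 1 n76812 = n35120 := d15_1 D76812 (iv7 D35120) (iv2 F55801)
def n76813 : Q := act 5 n35110
theorem D76813 : act 5 n35110 = n76813 := rfl
theorem F115326 : act 2 n76813 = n35119 := d2_1 D76813 (iv5 D35119) (iv2 F55801)
def n76814 : Q := act 7 n35110
theorem D76814 : act 7 n35110 = n76814 := rfl
theorem F115327 : act 2 n76814 = n35120 := d4_1 D76814 (iv7 D35120) (iv2 F55801)
theorem F115328 : act 4 n76814 = n35114 := d11_1 D76814 (iv7 D35114) (iv4 F55802)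
theorem F115329 : act 6 n76814 = n55369 := d14_1 D76814 (iv7 D55369) (iv6 D26754) (iv7 F27965) D35110
theorem F115330 : act 1 n35118 = n76814 := d15_1 D35118 (iv7 D76814) F55801
theorem F115331 : act 1 n76814 = n35117 := d15_0 (iv0 D35117) D35120 (iv2 F115327)
theorem F115332 : act 4 n36535 = n35117 := d20_0 (iv1 F115331) F115328 F55810 (iv1 F54660) D34657 (iv4 F91499) (iv1 D36546) F28700 (iv3 F28694) D36535
theorem F115333 : act 3 n40442 = n36535 := d20_5 D34658 F113038 (iv4 F31185) F31184 D40442 F115332 (iv1 F115331) F115328 F55810 (iv1 F54660)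
def n76815 : Q := act 2 n35111
theorem D76815 : act 2 n35111 = n76815 := rfl
theorem F115334 : act 6 n76815 = n55496 := d3_2 (iv6 F55803) D76815 F87786
theorem F115335 : act 7 n35112 = n76815 := d15_2 (iv0 D35111) D35112 (iv2 D76815)
def n76816 : Q := act 3 n35111
theorem D76816 : act 3 n35111 = n76816 := rfl
theorem F115336 : act 6 n76816 = n55505 := d7_2 (iv6 F55803) D76816 F87793
theorem F115337 : act 4 n76816 = n36828 := d20_6 F114041 (iv1 D75251) F54652 (iv3 F27969) D35111 D76816 (iv1 F57767) F56791 (iv3 F34457) (iv1 F63793)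
def n76817 : Q := act 4 n35111
theorem D76817 : act 4 n35111 = n76817 := rfl
theorem F115338 : act 6 n76817 = n55510 := d10_2 (iv6 F55803) D76817 (iv4 D55510)
def n76818 : Q := act 5 n35111
theorem D76818 : act 5 n35111 = n76818 := rfl
theorem F115339 : act 6 n76818 = n55513 := d12_2 (iv6 F55803) D76818 (iv5 D55513) (iv6 D26799) D26798
theorem F115340 : act 0 n76818 = n57426 := d21_1 D76818 (iv5 D57426) (iv6 D27478) (iv1 D13146) (iv6 D6257) (iv5 F14026) (iv1 F5640) D7974 D17049 D35111
theorem F115341 : act 0 n57551 = n76818 := d21_7 F87671 (iv1 D27608) F21968 D27446 (iv1 F44550) D57031 (iv5 F90702) (iv5 D76818) F55803 (iv1 F91037)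
def n76819 : Q := act 7 n35111
theorem D76819 : act 7 n35111 = n76819 := rfl
theorem F115342 : act 2 n76819 = n35112 := d4_1 D76819 F115335 (iv2 D76815)
def n76820 : Q := act 3 n35112
theorem D76820 : act 3 n35112 = n76820 := rfl
theorem F115343 : act 4 n76820 = n36687 := d20_6 (iv4 F28962) (iv1 F21233) (iv4 F12758) (iv3 F27981) (iv1 F55805) D76820 (iv1 D36687) F28754 F13145 D8329
def n76821 : Q := act 4 n35112
theorem D76821 : act 4 n35112 = n76821 := rfl
theorem F115344 : act 0 n76821 = n36534 := d20_1 D76821 F57382 F28694 D17636 (iv3 F91234) (iv4 F28962) (iv1 F21233) (iv4 F12758) (iv3 F27981) (iv1 F55805)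
theorem F115345 : act 1 n76821 = n56978 := d15_1 (iv0 F115344) (iv7 D56978) (iv2 F57381)
def n76822 : Q := act 5 n35112
theorem D76822 : act 5 n35112 = n76822 := rfl
theorem F115346 : act 0 n76822 = n57551 := d21_1 D76822 F90702 (iv6 D57031) F44522 F44521 (iv5 D27442) (iv1 F21914) (iv5 F21271) (iv6 F27982) (iv1 F55805)
theorem F115347 : act 6 n55948 = n76822 := d21_5 (iv5 F21985) (iv1 D12909) D12911 D26980 D55948 (iv5 D76822) (iv1 D35112) D35113 F55808 F27973
def n76823 : Q := act 6 n35112
theorem D76823 : act 6 n35112 = n76823 := rfl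
theorem F115348 : act 7 n76823 = n55495 := d14_2 (iv7 F115335) D76823 (iv6 D55495) D55496 (iv6 F115334)
theorem F115349 : act 5 n76823 = n57523 := d21_6 (iv5 D27442) (iv1 F21914) (iv5 F21271) (iv6 F27982) (iv1 F55805) D76823 (iv1 F90681) (iv5 D27509) D27510 (iv1 F91032)
theorem F115350 : act 0 n55418 = n76823 := d21_4 (iv5 D27623) D27621 F44519 D55418 (iv6 D76823) D76822 F115346 F90702 (iv6 D57031) F44522
theorem F115351 : act 1 n57034 = n76823 := d15_0 (iv0 F115350) F91105 F90691
theorem F115352 : act 0 n57426 = n76822 := d21_7 (iv5 F91109) (iv1 F90317) F44415 (iv6 F44310) (iv1 F44312) D27478 D57426 (iv5 D76822) D76823 (iv1 F115351)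
theorem F115353 : act 2 n76823 = n57033 := d15_3 (iv0 D57033) (iv0 F87785) (iv7 F115348)
theorem F115354 : act 6 n57033 = n76819 := d3_2 D76823 F115353 F115342
def n76824 : Q := act 0 n35113
theorem D76824 : act 0 n35113 = n76824 := rfl
def n76825 : Q := act 4 n35113
theorem D76825 : act 4 n35113 = n76825 := rfl
theorem F115355 : act 2 n76825 = n35133 := d1_1 D76825 (iv4 D35133) (iv2 F55806)
theorem F115356 : act 6 n76825 = n35115 := d10_2 (iv6 F55808) D76825 (iv4 D35115)
def n76826 : Q := act 7 n35113
theorem D76826 : act 7 n35113 = n76826 := rfl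
theorem F115357 : act 2 n76826 = n35134 := d4_1 D76826 (iv7 D35134) (iv2 F55806)
theorem F115358 : act 3 n76826 = n75264 := d8_1 D76826 (iv7 D75264) (iv3 F55807)
theorem F115359 : act 5 n76826 = n35114 := d13_1 D76826 (iv7 D35114) D35113
theorem F115360 : act 6 n76826 = n56905 := d14_1 D76826 (iv7 D56905) F44188 (iv7 F27972) (iv6 F55808)
theorem F115361 : act 1 n35134 = n76824 := d15_0 (iv0 D76824) D76826 F115357
theorem F115362 : act 1 n35132 = n76826 := d15_1 D35132 (iv7 D76826) F55806
theorem F115363 : act 0 n35131 = n76826 := d21_1 (iv5 F91114) F115359 F55811 (iv1 F42990) D26799 D55513 (iv1 F90593) (iv5 D27477) D27478 D57424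
def n76827 : Q := act 3 n35115
theorem D76827 : act 3 n35115 = n76827 := rfl
theorem F115364 : act 4 n76827 = n75265 := d5_2 D35115 D76827 (iv3 D75265) (iv4 D34457) (iv3 F27971)
theorem F115365 : act 7 n76827 = n56906 := d8_2 (iv7 F55815) D76827 (iv3 D56906)
def n76828 : Q := act 0 n35116
theorem D76828 : act 0 n35116 = n76828 := rfl
def n76829 : Q := act 1 n35116
theorem D76829 : act 1 n35116 = n76829 := rfl
def n76830 : Q := act 5 n35116
theorem D76830 : act 5 n35116 = n76830 := rfl
theorem F115366 : act 3 n76830 = n75017 := d6_1 D76830 (iv5 D75017) (iv3 F55818)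
theorem F115367 : act 6 n76830 = n35119 := d12_2 D35116 D76830 (iv5 D35119) (iv6 D17052) D17051
def n76831 : Q := act 7 n35116
theorem D76831 : act 7 n35116 = n76831 := rfl
theorem F115368 : act 3 n76831 = n75018 := d8_1 D76831 (iv7 D75018) (iv3 F55818)
theorem F115369 : act 6 n76831 = n55458 := d14_1 D76831 (iv7 D55458) (iv6 D26785) (iv7 F27976) D35116
def n76832 : Q := act 2 n35117
theorem D76832 : act 2 n35117 = n76832 := rfl
theorem F115370 : act 7 n35118 = n76832 := d15_2 (iv0 D35117) D35118 (iv2 D76832)
def n76833 : Q := act 3 n35117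
theorem D76833 : act 3 n35117 = n76833 := rfl
def n76834 : Q := act 5 n35117
theorem D76834 : act 5 n35117 = n76834 := rfl
def n76835 : Q := act 6 n35117
theorem D76835 : act 6 n35117 = n76835 := rfl
theorem F115371 : act 5 n76835 = n57306 := d21_6 D27424 F44334 (iv5 D17051) D17052 D35117 D76835 (iv1 D57306) (iv5 D27437) (iv6 D13134) D13130
def n76836 : Q := act 7 n35117
theorem D76836 : act 7 n35117 = n76836 := rfl
theorem F115372 : act 2 n76836 = n35118 := d4_1 D76836 F115370 (iv2 D76832)
def n76837 : Q := act 3 n35118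
theorem D76837 : act 3 n35118 = n76837 := rfl
def n76838 : Q := act 4 n35118
theorem D76838 : act 4 n35118 = n76838 := rfl
theorem F115373 : act 3 n76838 = n35193 := d20_9 (iv4 F55935) F113637 (iv4 D75773) (iv3 D34653) (iv1 F54661) (iv3 F55810) (iv4 F115328) (iv1 F115330) D76838 (iv1 D35193)
def n76839 : Q := act 5 n35118
theorem D76839 : act 5 n35118 = n76839 := rfl
def n76840 : Q := act 6 n35118
theorem D76840 : act 6 n35118 = n76840 := rfl
def n76841 : Q := act 0 n35119
theorem D76841 : act 0 n35119 = n76841 := rfl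
def n76842 : Q := act 1 n35119
theorem D76842 : act 1 n35119 = n76842 := rfl
def n76843 : Q := act 4 n35119
theorem D76843 : act 4 n35119 = n76843 := rfl
def n76844 : Q := act 7 n35119
theorem D76844 : act 7 n35119 = n76844 := rfl
theorem F115374 : act 3 n76844 = n75031 := d8_1 D76844 (iv7 D75031) (iv3 F55819)
theorem F115375 : act 5 n76844 = n35120 := d13_1 D76844 (iv7 D35120) D35119
def n76847 : Q := act 3 n35121
theorem D76847 : act 3 n35121 = n76847 := rfl
theorem F115378 : act 7 n76847 = n35127 := d8_2 F55823 D76847 (iv3 D35127)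
def n76848 : Q := act 4 n35121
theorem D76848 : act 4 n35121 = n76848 := rfl
theorem F115379 : act 2 n76848 = n35123 := d1_1 D76848 (iv4 D35123) D35121
theorem F115380 : act 7 n76848 = n35128 := d11_2 F55823 D76848 (iv4 D35128)
theorem E10355 : n56975 = n35123 := ((c15_4 (iv0 D56975) (iv0 F112810) (iv7 F115380) F115379)).symm
theorem F115381 : act 1 n35123 = n27338 := (sb E10355 (iv0 D56975))
def n76849 : Q := act 5 n35121
theorem D76849 : act 5 n35121 = n76849 := rfl
theorem F115382 : act 2 n76849 = n35124 := d2_1 D76849 (iv5 D35124) D35121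
theorem F115383 : act 7 n76849 = n35129 := d13_2 F55823 D76849 (iv5 D35129)
def n76850 : Q := act 6 n35121
theorem D76850 : act 6 n35121 = n76850 := rfl
theorem F115384 : act 2 n76850 = n35125 := d3_1 D76850 (iv6 D35125) D35121
theorem F115385 : act 5 n55375 = n76850 := d2_0 F115384 F55824 (iv2 F87641)
theorem F115386 : act 7 n55373 = n76850 := d15_2 F91061 F91007 F115384
def n76851 : Q := act 0 n35122
theorem D76851 : act 0 n35122 = n76851 := rfl
def n76852 : Q := act 1 n35122
theorem D76852 : act 1 n35122 = n76852 := rfl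
def n76853 : Q := act 2 n35122
theorem D76853 : act 2 n35122 = n76853 := rfl
def n76854 : Q := act 4 n35122
theorem D76854 : act 4 n35122 = n76854 := rfl
theorem F115387 : act 0 n76854 = n36689 := d20_7 (iv4 F28975) (iv1 D7755) (iv4 F5649) (iv3 F12747) D17053 D35122 D76854 F57567 F28755 (iv1 F13150)
theorem F115388 : act 0 n36681 = n76854 := d20_1 (iv4 F57558) (iv4 D76854) (iv3 D35122) (iv1 F55813) F55810 (iv4 F112803) (iv1 F112805) (iv4 F71266) (iv3 F71267) (iv1 D36683)
def n76855 : Q := act 5 n35122
theorem D76855 : act 5 n35122 = n76855 := rfl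
theorem F115389 : act 3 n76855 = n35124 := d6_1 D76855 (iv5 D35124) D35122
def n76856 : Q := act 6 n35122
theorem D76856 : act 6 n35122 = n76856 := rfl
theorem F115390 : act 3 n76856 = n35125 := d7_1 D76856 (iv6 D35125) D35122
theorem F115391 : act 5 n55376 = n76856 := d6_0 F115390 F55824 D55376
def n76857 : Q := act 7 n35122
theorem D76857 : act 7 n35122 = n76857 := rfl
theorem F115392 : act 3 n76857 = n35126 := d8_1 D76857 (iv7 D35126) D35122
def n76858 : Q := act 0 n35123
theorem D76858 : act 0 n35123 = n76858 := rfl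
theorem F115393 : act 4 n76858 = n36538 := d20_2 D35123 D76858 F57385 (iv1 F91278) (iv3 D17109) (iv4 F28975) (iv1 D7755) (iv4 F5649) (iv3 F12747) D17053
theorem F115394 : act 2 n56978 = n76858 := d15_3 (iv0 D76858) F115381 D56978
theorem F115395 : act 7 n76858 = n36534 := d4_2 D56978 F115394 F57381
theorem F115396 : act 6 n55486 = n76858 := d14_5 F115395 (iv6 D36534) F28691 D27335 (iv7 F91214)
theorem F115397 : act 1 n35128 = n76858 := d15_1 (iv0 F112810) F115395 F57381
def n76859 : Q := act 3 n35123
theorem D76859 : act 3 n35123 = n76859 := rfl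
def n76860 : Q := act 5 n35123
theorem D76860 : act 5 n35123 = n76860 := rfl
def n76861 : Q := act 6 n35123
theorem D76861 : act 6 n35123 = n76861 := rfl
theorem F115398 : act 4 n76861 = n35125 := d10_1 D76861 (iv6 D35125) D35123
theorem F115399 : act 1 n57132 = n76861 := d17_8 F91060 (iv5 F44500) (iv1 F44506) (iv5 D13190) D13189 D27618 F90978 F91590 F115398
def n76862 : Q := act 7 n35123
theorem D76862 : act 7 n35123 = n76862 := rfl
theorem F115400 : act 2 n76862 = n35128 := d4_1 D76862 (iv7 F115380) F115379
theorem F115401 : act 4 n76862 = n35126 := d11_1 D76862 (iv7 D35126) D35123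
def n76863 : Q := act 0 n35124
theorem D76863 : act 0 n35124 = n76863 := rfl
theorem F115402 : act 5 n76863 = n57231 := d21_2 D35124 D76863 (iv6 D57231) (iv1 D27413) (iv6 D13127) F14010 (iv1 D3610) D3612 D7979 D17053
theorem F115403 : act 2 n57426 = n76863 := d2_3 F115402 F91100 D57426
def n76864 : Q := act 1 n35124
theorem D76864 : act 1 n35124 = n76864 := rfl
theorem F115405 : act 1 n76864 = n35129 := d15_1 D76864 (iv7 F115383) F115382
theorem F115406 : act 7 n76864 = n57426 := d15_2 (iv0 D76863) D76864 F115403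
theorem F115407 : act 5 n57427 = n76864 := d21_6 (iv5 F44500) (iv1 F44506) (iv5 D13190) D13191 D27621 (iv6 F90601) (iv1 D76864) (iv5 D35124) D35125 F91060
theorem F115408 : act 2 n76864 = n57551 := d2_1 F115407 F90702 (iv2 F91111)
theorem E10356 : n76819 = n17054 := (c21_6 F44502 (iv1 F44550) (iv5 D27354) D27355 D57033 F115354 D35129 (iv1 F115405) (iv5 F115407) F90601 F44520)
theorem E10357 : n35126 = n35112 := (((iv2 F55825)).symm.trans (sb E10356 F115342))
theorem E10358 : n57033 = n35130 := (((D35130).symm.trans (sb E10356 (iv6 F115354)))).symm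
theorem E10359 : n35121 = n35111 := ((F55823).symm.trans (sb E10356 (iv7 D76819)))
theorem F115410 : act 2 n35112 = n17054 := (sb E10357 F55825)
theorem E10362 : n76857 = n76820 := (((D76820).symm.trans (sb E10357 (iv3 F115392)))).symm
theorem E10363 : n76862 = n76821 := (((D76821).symm.trans (sb E10357 (iv4 F115401)))).symm
theorem E10364 : n76815 = n17053 := ((F115335).symm.trans (sb E10357 (iv7 D35126)))
theorem F115411 : act 0 n35130 = n57546 := (sb E10358 (iv1 F90694))
theorem F115412 : act 1 n35130 = n27355 := (sb E10358 (iv0 D57033))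
theorem F115413 : act 2 n35130 = n76823 := (sb E10358 (iv2 F115353))
theorem E10365 : n76847 = n76816 := (((D76816).symm.trans (sb E10359 D76847))).symm
theorem E10366 : n76848 = n76817 := (((D76817).symm.trans (sb E10359 D76848))).symm
theorem E10367 : n76849 = n76818 := (((D76818).symm.trans (sb E10359 D76849))).symm
theorem E10368 : n76850 = n26798 := (((F55803).symm.trans (sb E10359 D76850))).symm
theorem F115414 : act 7 n35111 = n17054 := (sb E10359 (iv7 F55823))
theorem F115415 : act 7 n76820 = n35122 := (sb E10362 (iv7 D76857))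
theorem F115416 : act 2 n76821 = n35128 := (sb E10363 F115400)
theorem F115417 : act 7 n76821 = n35123 := (sb E10363 (iv7 D76862))
theorem F115418 : act 2 n17053 = n35111 := (sb E10364 (iv2 D76815))
theorem E10369 : n55496 = n35125 := (((D35125).symm.trans (sb E10364 F115334))).symm
theorem F115419 : act 7 n17053 = n35112 := (sb E10364 (iv7 F115335))
theorem F115420 : act 7 n76816 = n35127 := (sb E10365 F115378)
theorem F115421 : act 2 n76817 = n35123 := (sb E10366 F115379)
theorem F115422 : act 7 n76817 = n35128 := (sb E10366 F115380)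
theorem F115423 : act 2 n76818 = n35124 := (sb E10367 F115382)
theorem F115424 : act 7 n76818 = n35129 := (sb E10367 F115383)
theorem E10370 : n55375 = n12816 := ((((iv5 D26798)).symm.trans (sb E10368 (iv5 F115385)))).symm
theorem E10371 : n55477 = n55373 := (((iv7 F87768)).symm.trans (sb E10368 (iv7 F115386)))
theorem F115425 : act 2 n35125 = n26798 := (sb E10369 F87786)
theorem E10372 : n26795 = n26756 := (((F55824).symm.trans (sb E10369 F87787))).symm
theorem F115426 : act 7 n35125 = n26793 := (sb E10369 (iv7 D55496))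
theorem E10373 : n26790 = n26755 := ((F43079).symm.trans (sb E10370 (iv7 D55375)))
theorem F115427 : act 2 n55373 = n26793 := (sb E10371 F87767)
theorem F115428 : act 7 n55373 = n26798 := (sb E10371 F87768)
theorem F115429 : act 2 n26756 = n12816 := (sb E10372 F43080)
theorem E10376 : n55485 = n55376 := (((D55376).symm.trans (sb E10372 (iv3 F87777)))).symm
theorem E10377 : n55491 = n55377 := (((D55377).symm.trans (sb E10372 (iv4 F87781)))).symm
theorem E10378 : n55501 = n55378 := (((D55378).symm.trans (sb E10372 D55501))).symm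
theorem E10379 : n55370 = n12815 := ((F87637).symm.trans (sb E10372 (iv7 D26795)))
theorem E10380 : n55475 = n55371 := (((D55371).symm.trans (sb E10373 D55475))).symm
theorem E10381 : n55476 = n55372 := (((D55372).symm.trans (sb E10373 D55476))).symm
theorem E10382 : n55478 = n55374 := (((D55374).symm.trans (sb E10373 D55478))).symm
theorem F115430 : act 7 n26755 = n12816 := (sb E10373 (iv7 F43079))
theorem F115431 : act 7 n55376 = n26791 := (sb E10376 (iv7 D55485))
theorem F115432 : act 2 n55377 = n26797 := (sb E10377 F87780)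
theorem F115433 : act 7 n55377 = n26792 := (sb E10377 (iv7 D55491))
theorem F115434 : act 2 n55378 = n26799 := (sb E10378 F87791)
theorem F115435 : act 2 n12815 = n26755 := (sb E10379 (iv2 D55370))
theorem F115436 : act 7 n12815 = n26756 := (sb E10379 (iv7 F87637))
theorem F115437 : act 7 n55371 = n26796 := (sb E10380 F87764)
theorem F115438 : act 2 n55372 = n26792 := (sb E10381 F87765)
theorem F115439 : act 7 n55372 = n26797 := (sb E10381 F87766)
theorem F115440 : act 2 n55374 = n26794 := (sb E10382 F87769)
theorem E10383 : n57912 = n55499 := ((c2_3 (iv5 F87640) F115440 D55499 F91635)).symm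
theorem F115441 : act 2 n55499 = n27636 := (sb E10383 F91635)
theorem F115442 : act 7 n55499 = n27635 := (sb E10383 (iv7 D57912))
theorem E10384 : n57046 = n55500 := (c13_2 F115442 (iv5 F90102) (iv7 D55500) D55499)
theorem F115443 : act 1 n55500 = n27360 := (sb E10384 (iv0 D57046))
theorem F115444 : act 5 n55500 = n27635 := (sb E10384 F90102)
theorem E10385 : n57908 = n56903 := (c15_4 (iv0 D56903) (iv0 F87789) F115442 D57908)
theorem F115445 : act 2 n56903 = n27635 := (sb E10385 (iv2 D57908))
theorem F115446 : act 7 n56903 = n27636 := (sb E10385 (iv7 F91634))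
theorem E10386 : n56968 = n55372 := ((c15_4 (iv0 D56968) (iv0 F91391) F115433 (iv2 F115438))).symm
theorem F115447 : act 1 n55372 = n27335 := (sb E10386 (iv0 D56968))
theorem F115448 : act 7 n36852 = n36017 := d11_2 F115437 (iv4 F59745) (iv4 F87638)
theorem F115449 : act 2 n36017 = n36851 := d15_3 (iv0 D36851) D36852 F115448
theorem F115450 : act 2 n36852 = n36018 := d15_3 F57803 F57804 (iv7 F115448)
theorem F115451 : act 4 n36018 = n55504 := d1_2 (iv4 F59745) F115450 (iv2 D55504)
theorem F115452 : act 7 n36018 = n36851 := d4_2 (iv7 F115448) F115450 (iv2 F115449)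
theorem E10387 : n57162 = n55514 := (c15_2 F91063 D57162 (iv7 D55514) (iv2 F115434))
theorem F115453 : act 0 n55514 = n27392 := (sb E10387 (iv1 D57162))
theorem F115454 : act 1 n55514 = n57431 := (sb E10387 F90611)
theorem F115455 : act 7 n55482 = n35281 := d11_2 F115431 D55482 (iv4 F87642)
theorem F115456 : act 7 n55483 = n76856 := d13_2 F115431 D55483 (iv5 F115391)
theorem F115457 : act 2 n55482 = n35280 := d15_3 (iv0 D35280) D35281 (iv7 F115455)
theorem F115458 : act 4 n35280 = n55481 := d1_2 D55482 F115457 (iv2 D55481)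
theorem F115459 : act 7 n55494 = n76861 := d11_2 F115426 D55494 F115398
theorem F115460 : act 2 n55510 = n76861 := d1_3 F115398 F115425 D55510
theorem F115461 : act 2 n35129 = n76822 := d15_3 (iv0 F115352) (iv0 F115340) F115424
theorem F115462 : act 7 n35124 = n76822 := d4_2 (iv7 F115424) F115423 (iv2 F115461)
theorem F115463 : act 1 n35129 = n76863 := d15_0 (iv0 D76863) F115462 (iv2 F115461)
theorem F115464 : act 1 n56978 = n76817 := d15_1 F115345 F115422 (iv2 F115416)
theorem F115465 : act 1 n76817 = n36534 := d15_1 F115464 (iv7 F115395) (iv2 F115394)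
theorem F115466 : act 7 n36042 = n36828 := d11_2 F115420 (iv4 F59804) (iv4 F115337)
theorem F115467 : act 2 n36828 = n36041 := d15_3 (iv0 D36041) D36042 F115466
theorem F115468 : act 2 n36042 = n36829 := d15_3 F57762 F57767 (iv7 F115466)
theorem F115469 : act 7 n36829 = n36041 := d4_2 (iv7 F115466) F115468 (iv2 F115467)
theorem F115470 : act 7 n76854 = n36687 := d11_2 F115415 D76854 (iv4 F115343)
theorem F115471 : act 2 n76854 = n36686 := d15_3 (iv0 D36686) D36687 (iv7 F115470)
theorem F115472 : act 4 n36686 = n76853 := d1_2 D76854 F115471 (iv2 D76853)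
def n76865 : Q := act 4 n35124
theorem D76865 : act 4 n35124 = n76865 := rfl
def n76866 : Q := act 6 n35124
theorem D76866 : act 6 n35124 = n76866 := rfl
theorem F115473 : act 2 n76866 = n55513 := d3_1 D76866 (iv6 F115339) F115423
theorem F115474 : act 5 n76866 = n55378 := d12_1 D76866 (iv6 D55378) (iv5 F55824) (iv6 D35125) D35124
theorem F115475 : act 0 n76866 = n57230 := d21_10 (iv5 D57230) (iv1 D27413) D27414 F44308 F27962 (iv6 F27980) (iv5 D17055) D17053 D35124 D76866
theorem F115476 : act 0 n57226 = n76866 := d21_4 (iv5 F87640) F90192 D57048 (iv6 F90277) (iv6 D76866) (iv5 D35124) (iv1 F55813) (iv5 F115359) F115360 (iv1 F89950)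
theorem E10388 : n57915 = n57524 := ((c21_5 F115474 F91062 (iv5 D57431) F44412 (iv1 F90678) (iv6 D57915) (iv5 F87640) F90192 D57048 (iv6 F90277) F115476)).symm
theorem F115477 : act 6 n57524 = n27636 := (sb E10388 (iv6 D57915))
theorem F115478 : act 7 n57407 = n76866 := d15_2 (iv0 F87796) D57407 F115473
def n76867 : Q := act 0 n35127
theorem D76867 : act 0 n35127 = n76867 := rfl
def n76869 : Q := act 2 n35127
theorem D76869 : act 2 n35127 = n76869 := rfl
theorem F115479 : act 4 n76869 = n36829 := d1_2 F59804 D76869 (iv2 F115468)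
def n76870 : Q := act 5 n35127
theorem D76870 : act 5 n35127 = n76870 := rfl
theorem F115480 : act 3 n76870 = n35129 := d6_1 D76870 (iv5 D35129) D35127
def n76871 : Q := act 6 n35127
theorem D76871 : act 6 n35127 = n76871 := rfl
theorem F115481 : act 3 n76871 = n35130 := d7_1 D76871 (iv6 D35130) D35127
def n76872 : Q := act 3 n35128
theorem D76872 : act 3 n35128 = n76872 := rfl
def n76873 : Q := act 5 n35128
theorem D76873 : act 5 n35128 = n76873 := rfl
def n76874 : Q := act 6 n35128
theorem D76874 : act 6 n35128 = n76874 := rfl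
theorem F115482 : act 4 n76874 = n35130 := d10_1 D76874 (iv6 D35130) D35128
def n76875 : Q := act 4 n35129
theorem D76875 : act 4 n35129 = n76875 := rfl
def n76876 : Q := act 6 n35129
theorem D76876 : act 6 n35129 = n76876 := rfl
theorem F115483 : act 2 n76876 = n55948 := d3_1 D76876 F115347 (iv2 F115461)
theorem F115484 : act 0 n55943 = n76876 := d21_4 F27991 (iv1 F21445) D26978 D55943 (iv6 D76876) (iv5 D35129) (iv1 D17054) D17055 F27980 D17059
theorem F115485 : act 7 n55949 = n76876 := d15_2 (iv0 D55948) D55949 F115483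
def n76877 : Q := act 5 n35130
theorem D76877 : act 5 n35130 = n76877 := rfl
theorem F115486 : act 2 n76877 = n57523 := d2_1 D76877 (iv5 F115349) (iv2 F115413)
theorem F115487 : act 0 n76877 = n57250 := d21_1 D76877 (iv5 D57250) (iv6 F91026) (iv1 D27603) D27605 F44502 (iv1 F44550) (iv5 D27354) D27355 (iv1 F115412)
theorem F115489 : act 7 n57524 = n76877 := d15_2 (iv0 D57523) D57524 F115486
def n76878 : Q := act 7 n35130
theorem D76878 : act 7 n35130 = n76878 := rfl
theorem F115490 : act 2 n76878 = n55495 := d4_1 D76878 (iv7 F115348) (iv2 F115413)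
theorem F115491 : act 5 n76878 = n57524 := d13_1 D76878 F115489 (iv5 D76877)
theorem F115492 : act 6 n76878 = n55373 := d14_1 D76878 F115428 (iv6 F55803) F115414 D35130
theorem F115493 : act 1 n55418 = n76878 := d15_1 (iv0 F115350) (iv7 D76878) F115413
theorem F115494 : act 1 n76878 = n57034 := d15_1 F115493 (iv7 D57034) (iv2 F91104)
def n76879 : Q := act 2 n35131
theorem D76879 : act 2 n35131 = n76879 := rfl
theorem F115495 : act 7 n35132 = n76879 := d15_2 (iv0 D35131) D35132 (iv2 D76879)
def n76880 : Q := act 3 n35131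
theorem D76880 : act 3 n35131 = n76880 := rfl
def n76881 : Q := act 4 n35131
theorem D76881 : act 4 n35131 = n76881 := rfl
def n76882 : Q := act 6 n35131
theorem D76882 : act 6 n35131 = n76882 := rfl
theorem F115496 : act 5 n76882 = n57195 := d21_6 (iv5 D12802) F14031 D7982 (iv6 F27980) D35131 D76882 (iv1 D57195) (iv5 F56524) (iv6 D35861) F28319
theorem F115497 : act 0 n57905 = n35869 := d21_10 (iv5 F58120) (iv1 F90212) (iv5 F115496) (iv6 D76882) F115363 F115360 F89948 (iv1 F44193) D27633 D57905
theorem F115498 : act 0 n57526 = n76882 := d21_4 (iv5 D13157) D13155 D27504 D57526 (iv6 D76882) F91114 (iv1 F91113) (iv5 F90702) (iv6 D57551) (iv1 D27512)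
theorem F115499 : act 0 n76876 = n55950 := d21_4 F115359 (iv1 F55812) D35129 D76876 F88537 (iv5 F58120) (iv1 F90212) (iv5 F115496) (iv6 D76882) F115363
def n76883 : Q := act 7 n35131
theorem D76883 : act 7 n35131 = n76883 := rfl
theorem F115500 : act 2 n76883 = n35132 := d4_1 D76883 F115495 (iv2 D76879)
def n76884 : Q := act 3 n35132
theorem D76884 : act 3 n35132 = n76884 := rfl
def n76885 : Q := act 4 n35132
theorem D76885 : act 4 n35132 = n76885 := rfl
def n76886 : Q := act 6 n35132
theorem D76886 : act 6 n35132 = n76886 := rfl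
def n76887 : Q := act 0 n35133
theorem D76887 : act 0 n35133 = n76887 := rfl
def n76888 : Q := act 1 n35133
theorem D76888 : act 1 n35133 = n76888 := rfl
def n76889 : Q := act 3 n35133
theorem D76889 : act 3 n35133 = n76889 := rfl
theorem F115501 : act 4 n76889 = n35165 := d5_2 D35133 D76889 (iv3 D35165) (iv4 D17072) (iv3 F27979)
theorem F115502 : act 6 n76889 = n35142 := d7_2 (iv6 F55826) D76889 (iv3 D35142)
def n76890 : Q := act 5 n35133
theorem D76890 : act 5 n35133 = n76890 := rfl
def n76891 : Q := act 7 n35133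
theorem D76891 : act 7 n35133 = n76891 := rfl
theorem F115503 : act 4 n76891 = n35134 := d11_1 D76891 (iv7 D35134) D35133
theorem F115504 : act 6 n76891 = n57868 := d14_1 D76891 F91601 F44555 (iv7 F27995) (iv6 F55826)
def n76892 : Q := act 6 n35135
theorem D76892 : act 6 n35135 = n76892 := rfl
theorem F115505 : act 2 n76892 = n57925 := d3_1 D76892 (iv6 D57925) (iv2 F55830)
theorem F115506 : act 3 n76892 = n44984 := d7_1 D76892 (iv6 D44984) (iv3 F55831)
def n76893 : Q := act 3 n35136
theorem D76893 : act 3 n35136 = n76893 := rfl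
theorem F115507 : act 7 n76893 = n57922 := d8_2 (iv7 F55835) D76893 (iv3 D57922)
def n76894 : Q := act 5 n35136
theorem D76894 : act 5 n35136 = n76894 := rfl
theorem F115508 : act 2 n76894 = n57927 := d2_1 D76894 (iv5 D57927) (iv2 F55834)
theorem F115509 : act 7 n76894 = n57923 := d13_2 (iv7 F55835) D76894 (iv5 D57923)
def n76895 : Q := act 6 n35136
theorem D76895 : act 6 n35136 = n76895 := rfl
theorem F115510 : act 2 n76895 = n57928 := d3_1 D76895 (iv6 D57928) (iv2 F55834)
theorem F115511 : act 4 n76895 = n35137 := d10_1 D76895 (iv6 D35137) D35136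
def n76896 : Q := act 0 n35137
theorem D76896 : act 0 n35137 = n76896 := rfl
theorem F115512 : act 6 n76896 = n57230 := d21_5 (iv5 D7982) D7980 D17058 D35137 D76896 (iv5 D57230) (iv1 D27413) D27414 F44308 F27962
theorem F115513 : act 2 n57423 = n76896 := d3_3 F115512 F91097 D57423
theorem F115514 : act 0 n76896 = n57557 := d21_4 F44397 (iv1 F44306) D57230 (iv6 F115512) (iv6 D57557) F44415 (iv1 F44322) D57250 (iv6 F90310) (iv1 F90287)
theorem F115515 : act 7 n57929 = n76896 := d15_2 (iv0 F90600) D57929 (iv2 F115513)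
def n76897 : Q := act 1 n35137
theorem D76897 : act 1 n35137 = n76897 := rfl
theorem F115516 : act 1 n76897 = n57557 := d15_1 D76897 F90705 (iv2 F55836)
theorem F115517 : act 7 n76897 = n57423 := d15_2 (iv0 D76896) D76897 F115513
theorem F115518 : act 5 n57547 = n76897 := d21_6 (iv5 D13088) (iv1 F14032) D12802 (iv6 F21935) D27511 D57547 (iv1 D76897) (iv5 F55840) (iv6 D35139) (iv1 F27993)
theorem F115520 : act 2 n57929 = n76897 := d4_3 F115517 F115513 (iv7 F115515)
def n76898 : Q := act 7 n35137
theorem D76898 : act 7 n35137 = n76898 := rfl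
theorem F115521 : act 2 n76898 = n57557 := d4_1 D76898 F90705 (iv2 F55836)
theorem F115522 : act 5 n76898 = n57441 := d13_1 D76898 F90623 F55840
theorem F115523 : act 6 n76898 = n57255 := d14_1 D76898 (iv7 D57255) F44324 (iv7 F27989) D35137
theorem F115524 : act 1 n57929 = n76898 := d15_1 D57929 (iv7 D76898) F55836
theorem F115525 : act 1 n76898 = n57423 := d15_1 F115524 (iv7 F115517) (iv2 F115520)
def n76899 : Q := act 3 n35138
theorem D76899 : act 3 n35138 = n76899 := rfl
theorem F115526 : act 7 n76899 = n55348 := d8_2 (iv7 F55838) D76899 (iv3 D55348)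
def n76900 : Q := act 5 n35138
theorem D76900 : act 5 n35138 = n76900 := rfl
theorem F115527 : act 2 n76900 = n57932 := d2_1 D76900 (iv5 D57932) (iv2 F55837)
theorem F115528 : act 7 n76900 = n55349 := d13_2 (iv7 F55838) D76900 (iv5 D55349)
def n76901 : Q := act 6 n35138
theorem D76901 : act 6 n35138 = n76901 := rfl
theorem F115529 : act 2 n76901 = n57933 := d3_1 D76901 (iv6 D57933) (iv2 F55837)
theorem F115530 : act 4 n76901 = n35139 := d10_1 D76901 (iv6 D35139) D35138
def n76902 : Q := act 0 n35139
theorem D76902 : act 0 n35139 = n76902 := rfl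
theorem F115531 : act 1 n57936 = n76902 := d15_0 (iv0 D76902) (iv7 F90623) (iv2 F91655)
def n76903 : Q := act 1 n35139
theorem D76903 : act 1 n35139 = n76903 := rfl
theorem F115532 : act 1 n76903 = n57936 := d15_1 D76903 (iv7 D57936) (iv2 F55839)
def n76904 : Q := act 3 n35140
theorem D76904 : act 3 n35140 = n76904 := rfl
theorem F115533 : act 7 n76904 = n57937 := d8_2 (iv7 F55845) D76904 (iv3 D57937)
def n76905 : Q := act 5 n35140
theorem D76905 : act 5 n35140 = n76905 := rfl
theorem F115534 : act 2 n76905 = n57941 := d2_1 D76905 (iv5 D57941) (iv2 F55847)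
theorem F115535 : act 7 n76905 = n57938 := d13_2 (iv7 F55845) D76905 (iv5 D57938)
theorem F115536 : act 4 n76905 = n76807 := d16_2 F56520 D76905 (iv5 D76807) (iv4 D35108) (iv5 D17047) (iv4 F27959) D35107 (iv7 F55975) (iv2 F56515)
theorem F115537 : act 1 n76905 = n35865 := d17_6 F44565 F43728 F30566 D35859 F56520 D76905 (iv5 D35865) D35863 F56526
def n76906 : Q := act 6 n35140
theorem D76906 : act 6 n35140 = n76906 := rfl
theorem F115538 : act 2 n76906 = n57942 := d3_1 D76906 (iv6 D57942) (iv2 F55847)
def n76907 : Q := act 3 n35141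
theorem D76907 : act 3 n35141 = n76907 := rfl
theorem F115539 : act 7 n76907 = n57940 := d8_2 F55846 D76907 (iv3 D57940)
def n76908 : Q := act 5 n35141
theorem D76908 : act 5 n35141 = n76908 := rfl
theorem F115540 : act 2 n76908 = n57938 := d2_1 D76908 (iv5 D57938) F55844
theorem F115541 : act 4 n76908 = n76900 := d9_1 D76908 (iv5 D76900) (iv4 D35138) F27991 D17365 D35859 F56520 D76905 F115536 (iv5 D76807) (iv4 D35108) (iv5 D17047) (iv4 F27959) D35107 (iv4 F55843)
theorem F115542 : act 7 n76908 = n57941 := d13_2 F55846 D76908 (iv5 D57941)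
theorem F115543 : act 0 n76908 = n35865 := d17_2 (iv1 F55842) D76908 (iv5 D35865) (iv4 D17367) (iv5 D8134) (iv0 F21439) D17047 (iv0 F27963) D27314
def n76909 : Q := act 6 n35141
theorem D76909 : act 6 n35141 = n76909 := rfl
theorem F115544 : act 2 n76909 = n57939 := d3_1 D76909 (iv6 D57939) F55844
theorem F115545 : act 4 n76909 = n76803 := d10_1 D76909 F115292 (iv4 F55843)
def n76910 : Q := act 0 n35142
theorem D76910 : act 0 n35142 = n76910 := rfl
theorem F115546 : act 1 n57945 = n76910 := d15_0 (iv0 D76910) F55849 D57945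
def n76911 : Q := act 1 n35142
theorem D76911 : act 1 n35142 = n76911 := rfl
def n76912 : Q := act 2 n35142
theorem D76912 : act 2 n35142 = n76912 := rfl
theorem F115547 : act 4 n76912 = n35170 := d1_2 (iv4 F55848) D76912 (iv2 D35170)
theorem F115548 : act 7 n76912 = n57945 := d4_2 (iv7 F55849) D76912 (iv2 D57945)
theorem F115549 : act 1 n76912 = n57943 := d15_0 (iv0 D57943) (iv7 F55849) D76912
theorem F115550 : act 1 n76911 = n57945 := d15_1 D76911 (iv7 F115548) (iv2 D76912)
theorem F115551 : act 1 n57944 = n76912 := d15_1 D57944 F115548 (iv2 D57945)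
def n76913 : Q := act 5 n35142
theorem D76913 : act 5 n35142 = n76913 := rfl
theorem F115552 : act 3 n76913 = n35143 := d6_1 D76913 (iv5 D35143) D35142
theorem F115553 : act 7 n76913 = n57946 := d13_2 (iv7 F55849) D76913 (iv5 D57946)
def n76914 : Q := act 0 n35143
theorem D76914 : act 0 n35143 = n76914 := rfl
theorem F115554 : act 5 n76914 = n55944 := d17_3 (iv1 D35141) D35143 D76914 F88527 (iv5 D35135) (iv0 F27987) D27020 (iv0 F55795) (iv4 F55843)
theorem F115555 : act 1 n56907 = n76914 := d15_0 (iv0 D76914) F55850 (iv2 F89953)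
theorem F115556 : act 4 n55359 = n76914 := d18_5 (iv1 F88529) (iv4 D35860) F28319 D26751 D55359 (iv0 D76914) (iv4 F89954) F115555 F115554
theorem F115557 : act 2 n76914 = n57948 := d1_1 F115556 (iv4 F91669) F91645
theorem F115558 : act 7 n76914 = n57947 := d11_2 F91649 F115556 (iv4 F91667)
def n76915 : Q := act 1 n35143
theorem D76915 : act 1 n35143 = n76915 := rfl
theorem F115559 : act 1 n76915 = n56907 := d15_1 D76915 (iv7 F91671) F91670
theorem F115560 : act 7 n76915 = n57948 := d15_2 (iv0 D76914) D76915 (iv2 F115557)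
theorem F115561 : act 5 n76915 = n55355 := d17_7 F28319 (iv5 D12802) F14031 D7982 D17060 D35143 D76915 F87611 (iv4 D35860)
theorem F115562 : act 4 n76894 = n76915 := d18_5 F87610 (iv4 D26979) (iv1 F27990) D35136 D76894 F115559 F89954 D76915 F115561
theorem F115563 : act 2 n76915 = n57947 := d1_1 F115562 (iv4 F91667) (iv2 F115508)
def n76916 : Q := act 6 n35143
theorem D76916 : act 6 n35143 = n76916 := rfl
def n76917 : Q := act 3 n35144
theorem D76917 : act 3 n35144 = n76917 := rfl
theorem F115564 : act 6 n76917 = n55503 := d7_2 (iv6 F91492) D76917 F91446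
theorem F115565 : act 7 n76917 = n76164 := d8_2 (iv7 F91493) D76917 (iv3 D76164)
def n76918 : Q := act 4 n35144
theorem D76918 : act 4 n35144 = n76918 := rfl
theorem F115566 : act 2 n76918 = n76071 := d1_1 D76918 F114055 (iv2 F91491)
theorem F115567 : act 6 n76918 = n55555 := d10_2 (iv6 F91492) D76918 (iv4 D55555)
theorem F115568 : act 7 n76918 = n76165 := d11_2 (iv7 F91493) D76918 (iv4 D76165)
def n76921 : Q := act 4 n35145
theorem D76921 : act 4 n35145 = n76921 := rfl
theorem F115573 : act 2 n76921 = n76165 := d1_1 D76921 (iv4 D76165) F91494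
theorem F115574 : act 7 n76921 = n76071 := d11_2 F91495 D76921 F114055
def n76924 : Q := act 5 n35146
theorem D76924 : act 5 n35146 = n76924 := rfl
theorem F115581 : act 2 n76924 = n35148 := d2_1 D76924 (iv5 D35148) D35146
theorem F115582 : act 3 n76924 = n76157 := d6_1 D76924 (iv5 D76157) (iv3 F55852)
theorem F115584 : act 7 n76924 = n76167 := d13_2 (iv7 F55854) D76924 (iv5 D76167)
theorem F115585 : act 1 n76172 = n76924 := d15_1 D76172 F115584 F114135
theorem F115586 : act 1 n76924 = n76171 := d15_0 (iv0 D76171) (iv7 F55862) (iv2 F115581)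
theorem E10389 : n55572 = n39731 := (c21_11 (iv5 D39731) (iv1 D18793) (iv5 D8807) D8808 D18795 D39741 (iv5 F114138) (iv1 F115586) (iv5 D76924) F55853 (iv1 F87883))
theorem F115587 : act 0 n39731 = n26825 := (sb E10389 (iv1 D55572))
theorem F115588 : act 1 n39731 = n34760 := (sb E10389 F87883)
theorem F115589 : act 0 n76076 = n37606 := d17_0 (iv5 F92419) (iv1 D39716) (iv5 D18790) (iv4 D8806) D8807 D18793 D39731 F115588 D76076
def n76925 : Q := act 5 n35147
theorem D76925 : act 5 n35147 = n76925 := rfl
theorem F115590 : act 7 n76925 = n76169 := d13_2 (iv7 F55859) D76925 (iv5 D76169)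
def n76926 : Q := act 0 n35148
theorem D76926 : act 0 n35148 = n76926 := rfl
theorem F115591 : act 1 n76167 = n76926 := d15_0 (iv0 D76926) F55862 (iv2 F114135)
def n76927 : Q := act 1 n35148
theorem D76927 : act 1 n35148 = n76927 := rfl
theorem F115592 : act 1 n76927 = n76167 := d15_1 D76927 (iv7 F115584) F115581
def n76928 : Q := act 4 n35148
theorem D76928 : act 4 n35148 = n76928 := rfl
theorem F115593 : act 6 n76928 = n76121 := d10_2 (iv6 F55861) D76928 (iv4 D76121)
theorem F115594 : act 7 n76928 = n76173 := d11_2 (iv7 F55862) D76928 (iv4 D76173)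
def n76929 : Q := act 3 n35149
theorem D76929 : act 3 n35149 = n76929 := rfl
theorem F115595 : act 6 n76929 = n76151 := d7_2 (iv6 F55864) D76929 (iv3 D76151)
def n76930 : Q := act 5 n35149
theorem D76930 : act 5 n35149 = n76930 := rfl
theorem F115597 : act 2 n76930 = n76163 := d2_1 D76930 (iv5 D76163) (iv2 F55863)
theorem F115598 : act 7 n76930 = n76177 := d13_2 (iv7 F55865) D76930 (iv5 D76177)
theorem F115599 : act 4 n76930 = n74967 := d16_2 D35149 D76930 F112488 (iv4 D69848) (iv5 D32432) F43174 D17068 (iv7 F43190) (iv2 F43191)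
theorem F115600 : act 1 n76930 = n36431 := d17_6 (iv1 D17071) (iv5 D7985) D7983 D17064 D35149 D76930 (iv5 D36431) (iv0 F55890) (iv4 D35161)
def n76938 : Q := act 5 n35152
theorem D76938 : act 5 n35152 = n76938 := rfl
theorem F115618 : act 2 n76938 = n35154 := d2_1 D76938 (iv5 D35154) D35152
theorem F115619 : act 3 n76938 = n76167 := d6_1 D76938 (iv5 D76167) (iv3 F55867)
theorem F115620 : act 7 n76938 = n76157 := d13_2 (iv7 F55868) D76938 (iv5 D76157)
theorem F115621 : act 1 n76160 = n76938 := d15_1 D76160 F115620 F114133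
theorem F115622 : act 1 n76938 = n76159 := d15_0 (iv0 D76159) (iv7 F55874) (iv2 F115618)
def n76939 : Q := act 6 n35152
theorem D76939 : act 6 n35152 = n76939 := rfl
theorem F115623 : act 2 n76939 = n35155 := d3_1 D76939 (iv6 D35155) D35152
theorem F115624 : act 3 n76939 = n76168 := d7_1 D76939 (iv6 D76168) (iv3 F55867)
theorem F115625 : act 7 n76939 = n75980 := d14_2 (iv7 F55868) D76939 (iv6 D75980) (iv7 F87926) (iv6 F87928)
theorem F115626 : act 1 n76015 = n76939 := d15_1 D76015 F115625 F113871
theorem F115627 : act 1 n76939 = n76014 := d15_0 (iv0 D76014) (iv7 F55876) (iv2 F115623)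
def n76940 : Q := act 5 n35153
theorem D76940 : act 5 n35153 = n76940 := rfl
theorem F115628 : act 7 n76940 = n76158 := d13_2 (iv7 F55872) D76940 (iv5 D76158)
def n76941 : Q := act 6 n35153
theorem D76941 : act 6 n35153 = n76941 := rfl
theorem F115629 : act 4 n76941 = n35155 := d10_1 D76941 (iv6 D35155) D35153
theorem F115630 : act 7 n76941 = n76013 := d14_2 (iv7 F55872) D76941 (iv6 D76013) (iv7 F87944) F87943
def n76942 : Q := act 0 n35154
theorem D76942 : act 0 n35154 = n76942 := rfl
theorem F115631 : act 5 n76942 = n58595 := d21_2 D35154 D76942 (iv6 D58595) (iv1 F60430) (iv6 D39542) (iv5 D18727) (iv1 F22090) (iv5 F59776) (iv6 F87930) (iv1 D35151)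
theorem F115632 : act 1 n76157 = n76942 := d15_0 (iv0 D76942) F55874 (iv2 F114133)
def n76943 : Q := act 1 n35154
theorem D76943 : act 1 n35154 = n76943 := rfl
theorem F115633 : act 1 n76943 = n76157 := d15_1 D76943 (iv7 F115620) F115618
def n76944 : Q := act 4 n35154
theorem D76944 : act 4 n35154 = n76944 := rfl
theorem F115634 : act 7 n76944 = n76161 := d11_2 (iv7 F55874) D76944 (iv4 D76161)
def n76945 : Q := act 0 n35155
theorem D76945 : act 0 n35155 = n76945 := rfl
theorem F115635 : act 1 n75980 = n76945 := d15_0 (iv0 D76945) F55876 (iv2 F113871)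
def n76946 : Q := act 1 n35155
theorem D76946 : act 1 n35155 = n76946 := rfl
theorem F115636 : act 1 n76946 = n75980 := d15_1 D76946 (iv7 F115625) F115623
def n76947 : Q := act 3 n35156
theorem D76947 : act 3 n35156 = n76947 := rfl
theorem F115637 : act 7 n76947 = n76162 := d8_2 (iv7 F55878) D76947 (iv3 D76162)
def n76948 : Q := act 5 n35156
theorem D76948 : act 5 n35156 = n76948 := rfl
theorem F115638 : act 2 n76948 = n76177 := d2_1 D76948 (iv5 D76177) (iv2 F55877)
theorem F115639 : act 4 n76948 = n74966 := d9_1 D76948 F112485 (iv4 D69840) (iv5 D32430) F43128 D17064 D35149 D76930 F115599 F112488 (iv4 D69848) (iv5 D32432) F43174 D17068 D35156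
theorem F115640 : act 7 n76948 = n76163 := d13_2 (iv7 F55878) D76948 (iv5 D76163)
theorem F115641 : act 0 n76948 = n36431 := d17_2 F88355 D76948 (iv5 D36431) F28584 F13036 D8330 D17694 (iv0 F43752) D55859
theorem E10390 : n55908 = n35903 := (c21_5 F13741 F13726 (iv5 F21424) D26966 D55908 F56559 D76948 F115641 (iv5 D36431) (iv6 D17589) (iv1 F13743))
theorem F115642 : act 0 n35903 = n35799 := (sb E10390 (iv1 F88461))
theorem F115643 : act 1 n35903 = n26966 := (sb E10390 (iv0 D55908))
theorem E10391 : n55909 = n35906 := (c15_2 F115643 D55909 (iv7 F114143) F114140)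
theorem F115644 : act 0 n35906 = n26966 := (sb E10391 (iv1 D55909))
theorem F115645 : act 1 n35906 = n35799 := (sb E10391 F88455)
def n76950 : Q := act 1 n35157
theorem D76950 : act 1 n35157 = n76950 := rfl
def n76951 : Q := act 2 n35157
theorem D76951 : act 2 n35157 = n76951 := rfl
theorem F115647 : act 3 n76951 = n76180 := d0_2 D35157 D76951 (iv2 D76180) (iv3 D34798) F44671
theorem F115648 : act 7 n76951 = n76188 := d4_2 (iv7 F55879) D76951 (iv2 D76188)
theorem F115649 : act 1 n76951 = n76186 := d15_0 (iv0 D76186) (iv7 F55879) D76951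
theorem F115650 : act 1 n76950 = n76188 := d15_1 D76950 (iv7 F115648) (iv2 D76951)
def n76952 : Q := act 4 n35157
theorem D76952 : act 4 n35157 = n76952 := rfl
theorem F115652 : act 7 n76952 = n76189 := d11_2 (iv7 F55879) D76952 (iv4 D76189)
def n76953 : Q := act 6 n35157
theorem D76953 : act 6 n35157 = n76953 := rfl
theorem F115654 : act 5 n76953 = n37169 := d12_1 D76953 (iv6 F58586) (iv5 F60191) (iv6 F91867) F91866
def n76954 : Q := act 3 n35158
theorem D76954 : act 3 n35158 = n76954 := rfl
def n76955 : Q := act 5 n35158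
theorem D76955 : act 5 n35158 = n76955 := rfl
theorem F115658 : act 4 n76955 = n74964 := d16_2 D35158 D76955 (iv5 D74964) F54503 (iv5 F38104) F43122 F28005 F44670 F44671
def n76956 : Q := act 6 n35158
theorem D76956 : act 6 n35158 = n76956 := rfl
theorem F115659 : act 2 n76956 = n76185 := d3_1 D76956 (iv6 D76185) (iv2 F55880)
theorem F115660 : act 4 n76956 = n35159 := d10_1 D76956 (iv6 D35159) D35158
theorem F115661 : act 0 n36338 = n76956 := d18_2 (iv1 D36340) (iv4 F57082) F115660 F55883 (iv4 F92682) F58056 F58025 F29030 F57091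
def n76957 : Q := act 0 n35160
theorem D76957 : act 0 n35160 = n76957 := rfl
def n76958 : Q := act 1 n35160
theorem D76958 : act 1 n35160 = n76958 := rfl
def n76959 : Q := act 2 n35160
theorem D76959 : act 2 n35160 = n76959 := rfl
theorem F115664 : act 3 n76959 = n76188 := d0_2 D35160 D76959 (iv2 D76188) (iv3 D34801) (iv2 F44672)
theorem F115665 : act 5 n76959 = n39795 := d2_2 (iv5 F55886) D76959 F60627
theorem F115666 : act 7 n76959 = n76180 := d4_2 (iv7 F55887) D76959 (iv2 D76180)
def n76960 : Q := act 4 n35160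
theorem D76960 : act 4 n35160 = n76960 := rfl
theorem F115670 : act 7 n76960 = n76181 := d11_2 (iv7 F55887) D76960 (iv4 D76181)
def n76961 : Q := act 6 n35160
theorem D76961 : act 6 n35160 = n76961 := rfl
theorem F115671 : act 3 n76961 = n35162 := d7_1 D76961 (iv6 D35162) D35160
theorem F115672 : act 5 n76961 = n39803 := d12_1 D76961 (iv6 D39803) (iv5 D18824) D18825 (iv5 F55886)
def n76962 : Q := act 3 n35161
theorem D76962 : act 3 n35161 = n76962 := rfl
theorem F115673 : act 7 n76962 = n76183 := d8_2 (iv7 F55889) D76962 (iv3 D76183)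
def n76963 : Q := act 5 n35161
theorem D76963 : act 5 n35161 = n76963 := rfl
theorem F115675 : act 4 n76963 = n74961 := d9_1 D76963 (iv5 D74961) F56393 (iv5 F56387) F56388 F44644 D35158 D76955 F115658 (iv5 D74964) F54503 (iv5 F38104) F43122 F28005 D35161
def n76964 : Q := act 6 n35161
theorem D76964 : act 6 n35161 = n76964 := rfl
theorem F115677 : act 2 n76964 = n76193 := d3_1 D76964 (iv6 D76193) (iv2 F55888)
theorem F115678 : act 4 n76964 = n35162 := d10_1 D76964 (iv6 D35162) D35161
def n76965 : Q := act 7 n35162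
theorem D76965 : act 7 n35162 = n76965 := rfl
theorem F115679 : act 2 n76965 = n76194 := d4_1 D76965 (iv7 D76194) (iv2 F55892)
theorem F115680 : act 5 n76965 = n35884 := d13_1 D76965 F56540 (iv5 F55893)
theorem F115681 : act 6 n76965 = n37168 := d14_1 D76965 F58110 (iv6 D34800) (iv7 F44670) D35162
theorem F115682 : act 1 n39915 = n76965 := d15_1 (iv0 F60727) (iv7 D76965) F55892
theorem F115683 : act 0 n39910 = n76965 := d21_4 (iv5 F45058) D58687 F92708 (iv6 F60722) F115681 (iv5 D37168) (iv1 F29055) F29051 (iv6 F43562) (iv1 F43563)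
def n76966 : Q := act 3 n35163
theorem D76966 : act 3 n35163 = n76966 := rfl
theorem F115684 : act 7 n76966 = n76198 := d8_2 F55896 D76966 (iv3 D76198)
def n76967 : Q := act 5 n35163
theorem D76967 : act 5 n35163 = n76967 := rfl
theorem F115687 : act 4 n76967 = n74985 := d16_2 (iv4 F55894) D76967 (iv5 D74985) (iv4 D34355) (iv5 F27132) (iv4 F41670) F30545 (iv7 F53083) F53085
def n76968 : Q := act 6 n35163
theorem D76968 : act 6 n35163 = n76968 := rfl
theorem F115689 : act 4 n76968 = n35260 := d10_1 D76968 (iv6 D35260) (iv4 F55894)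
def n76969 : Q := act 3 n35164
theorem D76969 : act 3 n35164 = n76969 := rfl
def n76970 : Q := act 5 n35164
theorem D76970 : act 5 n35164 = n76970 := rfl
theorem F115694 : act 4 n76970 = n74976 := d9_1 D76970 (iv5 D74976) (iv4 D34352) F53043 (iv4 F53042) F43458 (iv4 F55894) D76967 F115687 (iv5 D74985) (iv4 D34355) (iv5 F27132) (iv4 F41670) F30545 (iv4 F55900)
def n76971 : Q := act 6 n35164
theorem D76971 : act 6 n35164 = n76971 := rfl
theorem F115696 : act 2 n76971 = n76200 := d3_1 D76971 (iv6 D76200) F55901
theorem F115697 : act 4 n76971 = n35262 := d10_1 D76971 (iv6 D35262) (iv4 F55900)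
def n76972 : Q := act 0 n35165
theorem D76972 : act 0 n35165 = n76972 := rfl
def n76973 : Q := act 1 n35165
theorem D76973 : act 1 n35165 = n76973 := rfl
def n76974 : Q := act 2 n35165
theorem D76974 : act 2 n35165 = n76974 := rfl
theorem F115698 : act 3 n76974 = n76203 := d0_2 D35165 D76974 (iv2 D76203) (iv3 D34806) (iv2 F28006)
theorem F115699 : act 6 n76974 = n35170 := d3_2 (iv6 F55902) D76974 (iv2 D35170)
def n76975 : Q := act 5 n35165
theorem D76975 : act 5 n35165 = n76975 := rfl
theorem F115700 : act 3 n76975 = n35166 := d6_1 D76975 (iv5 D35166) D35165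
theorem F115701 : act 6 n76975 = n39861 := d12_2 (iv6 F55902) D76975 (iv5 D39861) F30101 (iv5 F28014)
def n76976 : Q := act 7 n35165
theorem D76976 : act 7 n35165 = n76976 := rfl
theorem F115702 : act 3 n76976 = n35167 := d8_1 D76976 (iv7 D35167) D35165
theorem F115703 : act 6 n76976 = n58626 := d14_1 D76976 F92606 F45069 (iv7 F28015) (iv6 F55902)
def n76977 : Q := act 0 n35166
theorem D76977 : act 0 n35166 = n76977 := rfl
theorem F115704 : act 5 n76977 = n35251 := d17_3 (iv1 D35164) D35166 D76977 (iv4 D35251) (iv5 D17106) (iv0 D8003) D8005 D17114 (iv4 F55900)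
theorem F115705 : act 4 n76977 = n75123 := d18_3 (iv1 F112486) F105833 D76977 (iv5 D75123) (iv4 D34400) (iv0 F53209) D73707 F110410 (iv5 F112485)
theorem F115706 : act 1 n74968 = n76977 := d17_8 F112624 (iv5 D50046) (iv1 F54510) D74976 (iv4 F115694) (iv5 D76970) F55898 (iv5 F112489) F115705
theorem F115707 : act 2 n76205 = n76977 := d2_3 F115704 (iv2 F57581) (iv5 F114169)
theorem F115708 : act 7 n76206 = n76977 := d13_0 F115704 (iv7 F57594) (iv5 F114170)
def n76978 : Q := act 1 n35166
theorem D76978 : act 1 n35166 = n76978 := rfl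
theorem F115710 : act 7 n76978 = n76205 := d15_2 (iv0 D76977) D76978 F115707
theorem F115711 : act 5 n76978 = n35258 := d17_7 F29892 (iv5 D17068) (iv1 D7984) D7985 D17072 D35166 D76978 (iv0 F60055) (iv4 D39055)
theorem F115712 : act 4 n76978 = n75095 := d18_7 (iv1 F54510) (iv4 D34352) (iv1 F42842) (iv4 F87516) (iv5 F105834) F105833 D76978 F112608 (iv5 D50046)
theorem E10392 : n35898 = n35801 := (c21_5 F13748 (iv1 F21454) F21451 D17379 D35898 F56462 (iv5 F115711) (iv1 D76978) (iv5 D35166) F28007 (iv1 F13745))
theorem F115713 : act 0 n35801 = n55958 := (sb E10392 (iv1 F88554))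
theorem F115714 : act 1 n35801 = n17379 := (sb E10392 (iv0 D35898))
theorem E10393 : n35899 = n35804 := (c15_2 F115714 D35899 (iv7 F88466) F88464)
theorem F115715 : act 0 n35804 = n17379 := (sb E10393 (iv1 D35899))
theorem F115716 : act 1 n35804 = n55958 := (sb E10393 F88553)
theorem F115717 : act 2 n76206 = n76978 := d16_9 F115712 (iv5 D75095) (iv4 D34392) (iv5 D16670) F28972 D17106 D35251 (iv5 F115704) (iv7 F115708)
def n76979 : Q := act 7 n35166
theorem D76979 : act 7 n35166 = n76979 := rfl
theorem F115718 : act 2 n76979 = n74968 := d4_1 D76979 (iv7 F112491) (iv2 F55903)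
theorem F115719 : act 4 n76979 = n55298 := d11_1 D76979 (iv7 F105835) F105833
theorem F115720 : act 5 n76979 = n35167 := d13_1 D76979 (iv7 D35167) D35166
theorem F115721 : act 6 n76979 = n67378 := d14_1 D76979 F103245 F84843 (iv7 F51196) (iv6 F55904)
theorem F115722 : act 1 n76206 = n76979 := d15_1 D76206 (iv7 D76979) F55903
theorem F115723 : act 1 n76979 = n76205 := d15_1 F115722 (iv7 F115710) (iv2 F115717)
def n76980 : Q := act 2 n35168
theorem D76980 : act 2 n35168 = n76980 := rfl
theorem F115724 : act 7 n35169 = n76980 := d15_2 (iv0 D35168) D35169 (iv2 D76980)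
def n76981 : Q := act 3 n35168
theorem D76981 : act 3 n35168 = n76981 := rfl
def n76982 : Q := act 4 n35168
theorem D76982 : act 4 n35168 = n76982 := rfl
def n76983 : Q := act 5 n35168
theorem D76983 : act 5 n35168 = n76983 := rfl
def n76984 : Q := act 6 n35168
theorem D76984 : act 6 n35168 = n76984 := rfl
def n76985 : Q := act 7 n35168
theorem D76985 : act 7 n35168 = n76985 := rfl
theorem F115725 : act 2 n76985 = n35169 := d4_1 D76985 F115724 (iv2 D76980)
def n76986 : Q := act 3 n35169
theorem D76986 : act 3 n35169 = n76986 := rfl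
def n76987 : Q := act 4 n35169
theorem D76987 : act 4 n35169 = n76987 := rfl
def n76988 : Q := act 5 n35169
theorem D76988 : act 5 n35169 = n76988 := rfl
def n76989 : Q := act 6 n35169
theorem D76989 : act 6 n35169 = n76989 := rfl
def n76990 : Q := act 0 n35171
theorem D76990 : act 0 n35171 = n76990 := rfl
def n76991 : Q := act 1 n35171
theorem D76991 : act 1 n35171 = n76991 := rfl
theorem F115726 : act 1 n76991 = n38156 := d15_1 D76991 (iv7 D38156) (iv2 F55917)
def n76992 : Q := act 5 n35171
theorem D76992 : act 5 n35171 = n76992 := rfl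
theorem F115727 : act 2 n76992 = n38155 := d2_1 D76992 (iv5 D38155) (iv2 F55917)
theorem F115728 : act 3 n76992 = n38375 := d6_1 D76992 (iv5 D38375) (iv3 F55918)
theorem F115729 : act 6 n76992 = n35172 := d12_2 D35171 D76992 (iv5 D35172) (iv6 D17076) D17075
def n76993 : Q := act 7 n35171
theorem D76993 : act 7 n35171 = n76993 := rfl
theorem F115730 : act 2 n76993 = n38156 := d4_1 D76993 (iv7 D38156) (iv2 F55917)
theorem F115731 : act 3 n76993 = n38376 := d8_1 D76993 (iv7 D38376) (iv3 F55918)
theorem F115732 : act 6 n76993 = n38247 := d14_1 D76993 (iv7 D38247) (iv6 D18271) (iv7 F28018) D35171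
theorem F115733 : act 1 n38156 = n76990 := d15_0 (iv0 D76990) D76993 F115730
theorem F115734 : act 1 n38154 = n76993 := d15_1 D38154 (iv7 D76993) F55917
theorem F115735 : act 1 n76993 = n38153 := d15_0 (iv0 D38153) D38156 (iv2 F115730)
def n76994 : Q := act 5 n35173
theorem D76994 : act 5 n35173 = n76994 := rfl
theorem F115736 : act 2 n76994 = n37473 := d2_1 D76994 (iv5 D37473) F55926
theorem F115737 : act 4 n76994 = n37808 := d9_1 D76994 (iv5 D37808) (iv4 D18129) (iv5 D8546) (iv4 F9669) D13047 D27233 D56647 F89592 (iv5 D37473) (iv4 D17992) (iv5 D8486) (iv4 F13098) D17610 (iv4 F55925)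
theorem F115738 : act 7 n76994 = n37808 := d13_2 (iv7 F55924) D76994 (iv5 D37808)
theorem F115739 : act 0 n76994 = n36462 := d17_2 (iv1 F55923) D76994 (iv5 D36462) (iv4 D17603) (iv5 D8269) (iv0 D3720) (iv5 F5672) (iv0 F13757) D17081
theorem F115740 : act 1 n76994 = n36470 := d17_6 (iv1 F21772) (iv5 D8548) (iv1 F13101) D17610 (iv4 F55925) D76994 (iv5 D36470) (iv0 F44091) (iv4 D27249)
def n76995 : Q := act 6 n35173
theorem D76995 : act 6 n35173 = n76995 := rfl
theorem F115741 : act 2 n76995 = n37474 := d3_1 D76995 (iv6 D37474) F55926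
theorem F115742 : act 4 n76995 = n36477 := d10_1 D76995 (iv6 D36477) (iv4 F55925)
def n76996 : Q := act 6 n35174
theorem D76996 : act 6 n35174 = n76996 := rfl
theorem F115743 : act 4 n76996 = n38254 := d10_1 D76996 (iv6 D38254) (iv4 F55927)
def n76997 : Q := act 0 n35175
theorem D76997 : act 0 n35175 = n76997 := rfl
def n76998 : Q := act 1 n35175
theorem D76998 : act 1 n35175 = n76998 := rfl
def n76999 : Q := act 5 n35175
theorem D76999 : act 5 n35175 = n76999 := rfl
def n77000 : Q := act 7 n35175
theorem D77000 : act 7 n35175 = n77000 := rfl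
theorem F115744 : act 4 n77000 = n35179 := d11_1 D77000 (iv7 D35179) (iv4 F55928)
def n77004 : Q := act 5 n35176
theorem D77004 : act 5 n35176 = n77004 := rfl
def n77005 : Q := act 6 n35176
theorem D77005 : act 6 n35176 = n77005 := rfl
def n77009 : Q := act 5 n35177
theorem D77009 : act 5 n35177 = n77009 := rfl
def n77011 : Q := act 0 n35178
theorem D77011 : act 0 n35178 = n77011 := rfl
def n77012 : Q := act 1 n35178
theorem D77012 : act 1 n35178 = n77012 := rfl
def n77013 : Q := act 4 n35178
theorem D77013 : act 4 n35178 = n77013 := rfl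
theorem F115747 : act 6 n77013 = n35180 := d10_2 (iv6 F55929) D77013 (iv4 D35180)
def n77014 : Q := act 7 n35178
theorem D77014 : act 7 n35178 = n77014 := rfl
theorem F115748 : act 5 n77014 = n35179 := d13_1 D77014 (iv7 D35179) D35178
def n77015 : Q := act 0 n35180
theorem D77015 : act 0 n35180 = n77015 := rfl
theorem F115749 : act 4 n77015 = n38853 := d18_3 F28027 D35180 D77015 F59863 F30160 F28261 (iv4 D17326) (iv0 D8111) D8114
theorem F115750 : act 1 n35753 = n77015 := d15_0 (iv0 D77015) (iv7 F55970) (iv2 F56432)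
theorem F115751 : act 2 n75273 = n77015 := d1_3 F115749 (iv2 F59864) D75273
theorem F115752 : act 7 n75215 = n77015 := d11_0 F115749 F59866 D75215
def n77016 : Q := act 1 n35180
theorem D77016 : act 1 n35180 = n77016 := rfl
theorem F115753 : act 1 n77016 = n35753 := d15_1 D77016 F56433 F55971
theorem F115754 : act 7 n77016 = n75273 := d15_2 (iv0 D77015) D77016 F115751
theorem F115755 : act 4 n77016 = n35550 := d18_7 (iv1 F28644) F28641 F28025 F28024 D17079 D35180 D77016 F56227 (iv5 D35234)
def n77017 : Q := act 3 n35180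
theorem D77017 : act 3 n35180 = n77017 := rfl
def n77018 : Q := act 5 n35180
theorem D77018 : act 5 n35180 = n77018 := rfl
def n77019 : Q := act 0 n35181
theorem D77019 : act 0 n35181 = n77019 := rfl
theorem F115757 : act 4 n77019 = n70428 := d20_8 F106899 (iv1 D35458) (iv4 F33890) (iv3 D21543) (iv1 F33396) D44485 F70000 D77019 F106890 (iv1 F106897)
theorem F115758 : act 2 n60198 = n77019 := d15_3 (iv0 D77019) (iv0 F108819) F108818
def n77020 : Q := act 2 n35181
theorem D77020 : act 2 n35181 = n77020 := rfl
def n77021 : Q := act 5 n35181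
theorem D77021 : act 5 n35181 = n77021 := rfl
theorem F115759 : act 3 n77021 = n35182 := d6_1 D77021 (iv5 D35182) D35181
def n77022 : Q := act 6 n35181
theorem D77022 : act 6 n35181 = n77022 := rfl
theorem F115760 : act 3 n77022 = n35183 := d7_1 D77022 (iv6 D35183) D35181
def n77023 : Q := act 6 n35182
theorem D77023 : act 6 n35182 = n77023 := rfl
def n77024 : Q := act 0 n35183
theorem D77024 : act 0 n35183 = n77024 := rfl
def n77025 : Q := act 1 n35183
theorem D77025 : act 1 n35183 = n77025 := rfl
def n77026 : Q := act 5 n35183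
theorem D77026 : act 5 n35183 = n77026 := rfl
def n77027 : Q := act 7 n35183
theorem D77027 : act 7 n35183 = n77027 := rfl
theorem F115761 : act 4 n77027 = n35187 := d11_1 D77027 (iv7 D35187) (iv4 F55930)
def n77032 : Q := act 6 n35184
theorem D77032 : act 6 n35184 = n77032 := rfl
theorem F115763 : act 5 n77032 = n35201 := d21_6 F13126 F9468 D7992 D17082 D35184 D77032 (iv1 D35201) F28037 (iv6 D17088) (iv1 F13128)
def n77036 : Q := act 5 n35185
theorem D77036 : act 5 n35185 = n77036 := rfl
def n77037 : Q := act 6 n35185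
theorem D77037 : act 6 n35185 = n77037 := rfl
def n77038 : Q := act 0 n35186
theorem D77038 : act 0 n35186 = n77038 := rfl
theorem F115765 : act 6 n77038 = n77009 := d21_5 (iv5 D26962) (iv1 F21418) D17083 (iv6 F55931) D77038 (iv5 D77009) (iv1 D35177) D35178 F55929 F43510
def n77039 : Q := act 1 n35186
theorem D77039 : act 1 n35186 = n77039 := rfl
def n77040 : Q := act 4 n35186
theorem D77040 : act 4 n35186 = n77040 := rfl
theorem F115766 : act 6 n77040 = n35188 := d10_2 (iv6 F55931) D77040 (iv4 D35188)
def n77041 : Q := act 7 n35186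
theorem D77041 : act 7 n35186 = n77041 := rfl
theorem F115767 : act 5 n77041 = n35187 := d13_1 D77041 (iv7 D35187) D35186
def n77042 : Q := act 0 n35188
theorem D77042 : act 0 n35188 = n77042 := rfl
theorem F115768 : act 4 n77042 = n35312 := d18_3 F28598 D35188 D77042 (iv5 D35312) F28084 F28062 F13587 F13043 D17593
theorem F115769 : act 2 n75201 = n77042 := d15_3 (iv0 D77042) (iv0 F58364) (iv7 F112749)
theorem F115770 : act 1 n35240 = n77042 := d15_0 (iv0 D77042) (iv7 F57225) F57224
theorem F115771 : act 7 n77042 = n75275 := d15_2 F58365 F115770 F112862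
def n77043 : Q := act 3 n35188
theorem D77043 : act 3 n35188 = n77043 := rfl
def n77044 : Q := act 5 n35188
theorem D77044 : act 5 n35188 = n77044 := rfl
def n77045 : Q := act 0 n35189
theorem D77045 : act 0 n35189 = n77045 := rfl
theorem F115772 : act 1 n69758 = n77045 := d15_0 (iv0 D77045) (iv7 F57501) (iv2 F106165)
def n77046 : Q := act 1 n35189
theorem D77046 : act 1 n35189 = n77046 := rfl
theorem F115773 : act 1 n77046 = n69758 := d15_1 D77046 F106166 F94598
def n77047 : Q := act 5 n35189
theorem D77047 : act 5 n35189 = n77047 := rfl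
theorem F115774 : act 3 n77047 = n35190 := d6_1 D77047 (iv5 D35190) D35189
theorem F115775 : act 4 n77047 = n72407 := d16_4 (iv4 F61455) F61456 F57555 D77047 (iv5 D72407) (iv4 F86729) F86730 (iv7 F112932) F112930
def n77048 : Q := act 6 n35189
theorem D77048 : act 6 n35189 = n77048 := rfl
theorem F115776 : act 3 n77048 = n35191 := d7_1 D77048 (iv6 D35191) D35189
def n77049 : Q := act 6 n35190
theorem D77049 : act 6 n35190 = n77049 := rfl
theorem F115777 : act 2 n77049 = n35215 := d3_1 D77049 (iv6 D35215) (iv2 F55932)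
theorem F115778 : act 4 n77049 = n36653 := d10_1 D77049 (iv6 D36653) (iv4 F55933)
def n77050 : Q := act 1 n35191
theorem D77050 : act 1 n35191 = n77050 := rfl
theorem F115779 : act 1 n77050 = n35219 := d15_1 D77050 (iv7 D35219) (iv2 F55934)
theorem F115780 : act 7 n77050 = n35216 := d15_2 (iv0 F113637) D77050 (iv2 F113638)
theorem F115781 : act 2 n35217 = n77050 := d4_3 F115780 (iv2 F113638) F113635
def n77051 : Q := act 5 n35191
theorem D77051 : act 5 n35191 = n77051 := rfl
theorem F115782 : act 2 n77051 = n35218 := d2_1 D77051 (iv5 D35218) (iv2 F55934)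
def n77052 : Q := act 7 n35191
theorem D77052 : act 7 n35191 = n77052 := rfl
theorem F115783 : act 2 n77052 = n35219 := d4_1 D77052 (iv7 D35219) (iv2 F55934)
theorem F115784 : act 4 n77052 = n35195 := d11_1 D77052 (iv7 D35195) (iv4 F55935)
theorem F115785 : act 1 n35217 = n77052 := d15_1 D35217 (iv7 D77052) F55934
def n77053 : Q := act 2 n35192
theorem D77053 : act 2 n35192 = n77053 := rfl
theorem F115787 : act 7 n35193 = n77053 := d15_2 (iv0 D35192) D35193 (iv2 D77053)
def n77054 : Q := act 3 n35192
theorem D77054 : act 3 n35192 = n77054 := rfl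
def n77055 : Q := act 4 n35192
theorem D77055 : act 4 n35192 = n77055 := rfl
def n77056 : Q := act 5 n35192
theorem D77056 : act 5 n35192 = n77056 := rfl
def n77057 : Q := act 7 n35192
theorem D77057 : act 7 n35192 = n77057 := rfl
theorem F115788 : act 2 n77057 = n35193 := d4_1 D77057 F115787 (iv2 D77053)
def n77058 : Q := act 4 n35193
theorem D77058 : act 4 n35193 = n77058 := rfl
def n77059 : Q := act 5 n35193
theorem D77059 : act 5 n35193 = n77059 := rfl
theorem F115789 : act 6 n55901 = n77059 := d21_5 (iv5 F28606) (iv1 D12901) D12903 D26964 D55901 (iv5 D77059) (iv1 D35193) D35194 F55938 (iv1 F28604)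
def n77060 : Q := act 6 n35193
theorem D77060 : act 6 n35193 = n77060 := rfl
def n77061 : Q := act 0 n35194
theorem D77061 : act 0 n35194 = n77061 := rfl
def n77062 : Q := act 1 n35194
theorem D77062 : act 1 n35194 = n77062 := rfl
theorem F115790 : act 1 n77062 = n35233 := d15_1 D77062 (iv7 D35233) (iv2 F55937)
theorem F115791 : act 5 n35618 = n77062 := d21_6 (iv5 D8271) (iv1 D3721) (iv5 F5672) D8092 D17250 D35618 (iv1 D77062) (iv5 D35194) (iv6 D17085) (iv1 F13309)
def n77063 : Q := act 4 n35194
theorem D77063 : act 4 n35194 = n77063 := rfl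
theorem F115792 : act 2 n77063 = n35232 := d1_1 D77063 (iv4 D35232) (iv2 F55937)
theorem F115793 : act 6 n77063 = n35196 := d10_2 (iv6 F55938) D77063 (iv4 D35196)
def n77064 : Q := act 7 n35194
theorem D77064 : act 7 n35194 = n77064 := rfl
theorem F115794 : act 2 n77064 = n35233 := d4_1 D77064 (iv7 D35233) (iv2 F55937)
theorem F115795 : act 5 n77064 = n35195 := d13_1 D77064 (iv7 D35195) D35194
theorem F115796 : act 1 n35233 = n77061 := d15_0 (iv0 D77061) D77064 F115794
theorem F115797 : act 1 n35231 = n77064 := d15_1 D35231 (iv7 D77064) F55937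
theorem F115798 : act 1 n77064 = n35230 := d15_0 (iv0 D35230) D35233 (iv2 F115794)
def n77065 : Q := act 3 n35196
theorem D77065 : act 3 n35196 = n77065 := rfl
def n77066 : Q := act 5 n35196
theorem D77066 : act 5 n35196 = n77066 := rfl
theorem F115799 : act 2 n77066 = n35244 := d2_1 D77066 (iv5 D35244) (iv2 F55943)
theorem F115800 : act 4 n77066 = n36444 := d16_2 D35196 D77066 (iv5 D36444) (iv4 D17596) (iv5 D8264) F5720 D8264 F13045 (iv2 F28036)
def n77067 : Q := act 2 n35197
theorem D77067 : act 2 n35197 = n77067 := rfl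
theorem F115801 : act 4 n77067 = n55435 := d1_2 (iv4 F55944) D77067 (iv2 D55435)
theorem F115802 : act 5 n77067 = n76307 := d2_2 F83707 D77067 (iv2 F114413)
theorem F115803 : act 1 n77067 = n71918 := d15_0 F108430 F57253 D77067
def n77068 : Q := act 6 n35197
theorem D77068 : act 6 n35197 = n77068 := rfl
theorem F115804 : act 3 n77068 = n35199 := d7_1 D77068 (iv6 D35199) D35197
theorem F115805 : act 4 n77068 = n55436 := d10_1 D77068 (iv6 D55436) (iv4 F55944)
def n77069 : Q := act 6 n35198
theorem D77069 : act 6 n35198 = n77069 := rfl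
theorem F115806 : act 4 n77069 = n75380 := d10_1 D77069 (iv6 D75380) (iv4 F55945)
def n77070 : Q := act 0 n35199
theorem D77070 : act 0 n35199 = n77070 := rfl
def n77071 : Q := act 1 n35199
theorem D77071 : act 1 n35199 = n77071 := rfl
def n77072 : Q := act 5 n35199
theorem D77072 : act 5 n35199 = n77072 := rfl
def n77073 : Q := act 7 n35199
theorem D77073 : act 7 n35199 = n77073 := rfl
theorem F115807 : act 4 n77073 = n35202 := d11_1 D77073 (iv7 D35202) (iv4 F55946)
def n77083 : Q := act 0 n35203
theorem D77083 : act 0 n35203 = n77083 := rfl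
theorem F115810 : act 4 n77083 = n70548 := d20_8 F107039 (iv1 D39283) (iv4 F29914) (iv3 D17911) D17909 D37264 F58214 D77083 F107015 (iv1 F107037)
theorem F115811 : act 2 n70533 = n77083 := d15_3 (iv0 D77083) (iv0 F94612) (iv7 F106986)
def n77084 : Q := act 2 n35203
theorem D77084 : act 2 n35203 = n77084 := rfl
def n77085 : Q := act 5 n35203
theorem D77085 : act 5 n35203 = n77085 := rfl
theorem F115812 : act 3 n77085 = n35204 := d6_1 D77085 (iv5 D35204) D35203
def n77086 : Q := act 6 n35203
theorem D77086 : act 6 n35203 = n77086 := rfl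
theorem F115813 : act 3 n77086 = n35205 := d7_1 D77086 (iv6 D35205) D35203
def n77087 : Q := act 6 n35204
theorem D77087 : act 6 n35204 = n77087 := rfl
def n77088 : Q := act 0 n35205
theorem D77088 : act 0 n35205 = n77088 := rfl
def n77089 : Q := act 1 n35205
theorem D77089 : act 1 n35205 = n77089 := rfl
def n77090 : Q := act 5 n35205
theorem D77090 : act 5 n35205 = n77090 := rfl
def n77091 : Q := act 7 n35205
theorem D77091 : act 7 n35205 = n77091 := rfl
theorem F115814 : act 4 n77091 = n35209 := d11_1 D77091 (iv7 D35209) (iv4 F55948)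
def n77102 : Q := act 0 n35208
theorem D77102 : act 0 n35208 = n77102 := rfl
def n77103 : Q := act 1 n35208
theorem D77103 : act 1 n35208 = n77103 := rfl
theorem F115817 : act 5 n77005 = n77103 := d21_6 (iv5 D3619) D3616 D7989 D17078 D35176 D77005 (iv1 D77103) (iv5 D35208) (iv6 D17090) (iv1 D7997)
def n77104 : Q := act 4 n35208
theorem D77104 : act 4 n35208 = n77104 := rfl
def n77105 : Q := act 7 n35208
theorem D77105 : act 7 n35208 = n77105 := rfl
theorem F115819 : act 5 n77105 = n35209 := d13_1 D77105 (iv7 D35209) D35208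
def n77106 : Q := act 0 n35210
theorem D77106 : act 0 n35210 = n77106 := rfl
theorem F115821 : act 3 n77106 = n72332 := d20_5 (iv4 D27249) (iv1 F21772) (iv4 F28038) D35210 D77106 (iv4 F108789) (iv1 D57079) (iv4 F57252) (iv3 D36461) (iv1 F44092)
def n77107 : Q := act 1 n35210
theorem D77107 : act 1 n35210 = n77107 := rfl
def n77108 : Q := act 2 n35210
theorem D77108 : act 2 n35210 = n77108 := rfl
theorem F115822 : act 3 n77108 = n37824 := d0_2 D35210 D77108 (iv2 D37824) (iv3 D18134) F28039
theorem F115823 : act 4 n77108 = n71979 := d1_2 F57343 D77108 (iv2 F108470)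
def n77109 : Q := act 5 n35210
theorem D77109 : act 5 n35210 = n77109 := rfl
theorem F115824 : act 3 n77109 = n35211 := d6_1 D77109 (iv5 D35211) D35210
def n77110 : Q := act 6 n35210
theorem D77110 : act 6 n35210 = n77110 := rfl
theorem F115825 : act 3 n77110 = n35212 := d7_1 D77110 (iv6 D35212) D35210
def n77111 : Q := act 6 n35211
theorem D77111 : act 6 n35211 = n77111 := rfl
theorem F115826 : act 2 n77111 = n37826 := d3_1 D77111 (iv6 D37826) (iv2 F55950)
def n77113 : Q := act 1 n35212
theorem D77113 : act 1 n35212 = n77113 := rfl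
theorem F115828 : act 1 n77113 = n37830 := d15_1 D77113 (iv7 D37830) (iv2 F55953)
def n77114 : Q := act 5 n35212
theorem D77114 : act 5 n35212 = n77114 := rfl
theorem F115829 : act 2 n77114 = n37829 := d2_1 D77114 (iv5 D37829) (iv2 F55953)
def n77115 : Q := act 7 n35212
theorem D77115 : act 7 n35212 = n77115 := rfl
theorem F115830 : act 2 n77115 = n37830 := d4_1 D77115 (iv7 D37830) (iv2 F55953)
theorem F115831 : act 4 n77115 = n37815 := d11_1 D77115 (iv7 D37815) (iv4 F55954)
theorem F115833 : act 1 n37828 = n77115 := d15_1 D37828 (iv7 D77115) F55953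
theorem F115834 : act 1 n77115 = n37827 := d15_0 (iv0 D37827) D37830 (iv2 F115830)
def n77116 : Q := act 3 n35213
theorem D77116 : act 3 n35213 = n77116 := rfl
theorem F115835 : act 5 n77116 = n35605 := d6_2 (iv5 F55955) D77116 (iv3 D35605)
def n77117 : Q := act 6 n35213
theorem D77117 : act 6 n35213 = n77117 := rfl
theorem F115836 : act 4 n77117 = n77023 := d10_1 D77117 (iv6 D77023) F55956
def n77118 : Q := act 3 n35214
theorem D77118 : act 3 n35214 = n77118 := rfl
theorem F115837 : act 2 n77118 = n75013 := d0_1 D77118 (iv3 D75013) F54538 F51442 (iv2 F55957)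
theorem F115838 : act 4 n77118 = n73058 := d5_2 D35214 D77118 (iv3 D73058) F52933 F51904
theorem F115839 : act 5 n77118 = n36644 := d6_2 (iv5 F55959) D77118 (iv3 D36644)
theorem F115840 : act 7 n77118 = n77047 := d8_2 (iv7 F55958) D77118 F115774
def n77119 : Q := act 6 n35214
theorem D77119 : act 6 n35214 = n77119 := rfl
theorem F115841 : act 2 n77119 = n36653 := d3_1 D77119 (iv6 D36653) (iv2 F55957)
theorem F115842 : act 4 n77119 = n35215 := d10_1 D77119 (iv6 D35215) D35214
def n77120 : Q := act 0 n35215
theorem D77120 : act 0 n35215 = n77120 := rfl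
def n77121 : Q := act 1 n35215
theorem D77121 : act 1 n35215 = n77121 := rfl
def n77122 : Q := act 5 n35215
theorem D77122 : act 5 n35215 = n77122 := rfl
theorem F115843 : act 6 n77122 = n35218 := d12_2 D35215 D77122 (iv5 D35218) (iv6 D17093) D17092
def n77123 : Q := act 7 n35215
theorem D77123 : act 7 n35215 = n77123 := rfl
def n77124 : Q := act 3 n35216
theorem D77124 : act 3 n35216 = n77124 := rfl
def n77125 : Q := act 5 n35216
theorem D77125 : act 5 n35216 = n77125 := rfl
def n77127 : Q := act 3 n35217
theorem D77127 : act 3 n35217 = n77127 := rfl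
def n77128 : Q := act 5 n35217
theorem D77128 : act 5 n35217 = n77128 := rfl
def n77129 : Q := act 6 n35217
theorem D77129 : act 6 n35217 = n77129 := rfl
def n77130 : Q := act 0 n35218
theorem D77130 : act 0 n35218 = n77130 := rfl
def n77131 : Q := act 1 n35218
theorem D77131 : act 1 n35218 = n77131 := rfl
def n77132 : Q := act 4 n35218
theorem D77132 : act 4 n35218 = n77132 := rfl
def n77133 : Q := act 7 n35218
theorem D77133 : act 7 n35218 = n77133 := rfl
theorem F115844 : act 5 n77133 = n35219 := d13_1 D77133 (iv7 D35219) D35218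
def n77135 : Q := act 1 n35220
theorem D77135 : act 1 n35220 = n77135 := rfl
theorem F115846 : act 1 n77135 = n35225 := d15_1 D77135 (iv7 D35225) D35220
def n77136 : Q := act 3 n35220
theorem D77136 : act 3 n35220 = n77136 := rfl
theorem F115847 : act 7 n77136 = n35226 := d8_2 F55963 D77136 (iv3 D35226)
def n77137 : Q := act 4 n35220
theorem D77137 : act 4 n35220 = n77137 := rfl
theorem F115848 : act 2 n77137 = n35222 := d1_1 D77137 (iv4 D35222) D35220
theorem F115849 : act 7 n77137 = n35227 := d11_2 F55963 D77137 (iv4 D35227)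
def n77138 : Q := act 5 n35220
theorem D77138 : act 5 n35220 = n77138 := rfl
theorem F115850 : act 2 n77138 = n35223 := d2_1 D77138 (iv5 D35223) D35220
theorem F115851 : act 7 n77138 = n35228 := d13_2 F55963 D77138 (iv5 D35228)
def n77139 : Q := act 6 n35220
theorem D77139 : act 6 n35220 = n77139 := rfl
theorem F115852 : act 2 n77139 = n35224 := d3_1 D77139 (iv6 D35224) D35220
def n77140 : Q := act 0 n35221
theorem D77140 : act 0 n35221 = n77140 := rfl
def n77141 : Q := act 2 n35221
theorem D77141 : act 2 n35221 = n77141 := rfl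
def n77142 : Q := act 5 n35221
theorem D77142 : act 5 n35221 = n77142 := rfl
theorem F115853 : act 3 n77142 = n35223 := d6_1 D77142 (iv5 D35223) D35221
def n77143 : Q := act 6 n35221
theorem D77143 : act 6 n35221 = n77143 := rfl
theorem F115854 : act 3 n77143 = n35224 := d7_1 D77143 (iv6 D35224) D35221
theorem F115855 : act 4 n77143 = n57770 := d10_1 D77143 (iv6 F115321) (iv4 F115323)
theorem F115856 : act 5 n77143 = n35348 := d21_6 (iv5 D12796) D12795 (iv5 F28685) D36532 F115324 D77143 (iv1 D35348) (iv5 F28149) (iv6 D17183) (iv1 F21242)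
theorem E10394 : n77140 = n36538 := (c21_5 (iv5 F91413) (iv1 F90015) (iv5 F115856) (iv6 D77143) D77140 F57386 (iv5 F56145) (iv1 F91416) F90916 (iv6 D57739) D57736)
theorem F115857 : act 1 n36538 = n35221 := (sb E10394 (iv0 D77140))
def n77144 : Q := act 7 n35221
theorem D77144 : act 7 n35221 = n77144 := rfl
theorem F115858 : act 3 n77144 = n35225 := d8_1 D77144 (iv7 D35225) D35221
def n77145 : Q := act 0 n35222
theorem D77145 : act 0 n35222 = n77145 := rfl
theorem F115859 : act 4 n77145 = n75697 := d20_2 D35222 D77145 F113556 F91478 (iv3 D16857) (iv4 F43178) (iv1 D15699) F11677 (iv3 F12779) D17094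
theorem F115860 : act 6 n75696 = n77145 := d10_0 F115859 (iv6 D75697) D75696
def n77146 : Q := act 1 n35222
theorem D77146 : act 1 n35222 = n77146 := rfl
theorem F115861 : act 1 n77146 = n35227 := d15_1 D77146 (iv7 F115849) F115848
def n77147 : Q := act 3 n35222
theorem D77147 : act 3 n35222 = n77147 := rfl
def n77148 : Q := act 5 n35222
theorem D77148 : act 5 n35222 = n77148 := rfl
def n77149 : Q := act 6 n35222
theorem D77149 : act 6 n35222 = n77149 := rfl
theorem F115862 : act 4 n77149 = n35224 := d10_1 D77149 (iv6 D35224) D35222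
def n77150 : Q := act 7 n35222
theorem D77150 : act 7 n35222 = n77150 := rfl
theorem F115863 : act 2 n77150 = n35227 := d4_1 D77150 (iv7 F115849) F115848
theorem F115864 : act 4 n77150 = n35225 := d11_1 D77150 (iv7 D35225) D35222
theorem F115865 : act 1 n35227 = n77145 := d15_0 (iv0 D77145) D77150 F115863
theorem E10395 : n40443 = n35226 := ((c20_4 (iv4 F115859) (iv1 F115865) (iv4 D35227) D35226 (iv1 D40443) (iv3 F31184) F31185 (iv1 F72489) (iv4 D34654) D34653 F113557)).symm
theorem F115866 : act 0 n35226 = n19113 := (sb E10395 (iv1 D40443))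
theorem F115867 : act 1 n35226 = n36818 := (sb E10395 F61530)
theorem F115868 : act 2 n77136 = n40442 := d15_3 (iv0 D40442) (iv0 F115866) (iv7 F115847)
theorem E10396 : n77141 = n36535 := ((c0_3 D77136 F115868 F115333 (iv2 D77141) (iv3 D35221) D35220)).symm
theorem F115869 : act 2 n36535 = n35221 := (sb E10396 (iv2 D77141))
theorem E10397 : n76832 = n76811 := ((c1_3 (iv4 F115332) F115869 F115323 (iv2 D76832))).symm
theorem F115870 : act 2 n76811 = n35117 := (sb E10397 (iv2 D76832))
theorem F115871 : act 7 n76811 = n35118 := (sb E10397 (iv7 F115370))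
theorem E10398 : n77144 = n36536 := ((c15_2 (iv0 D36535) D36536 (iv7 D77144) (iv2 F115869))).symm
theorem F115872 : act 3 n36536 = n35225 := (sb E10398 F115858)
theorem F115873 : act 7 n36536 = n35221 := (sb E10398 (iv7 D77144))
theorem E10399 : n76838 = n36536 := (c11_4 F115873 F115323 F115871 D76838)
theorem E10400 : n35225 = n35193 := ((F115872).symm.trans (sb E10399 F115373))
theorem F115874 : act 4 n36536 = n35118 := (sb E10399 (iv4 D76838))
theorem E10401 : n77135 = n17085 := ((((iv1 D35193)).symm.trans (sb E10400 (iv1 F115846)))).symm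
theorem E10403 : n77057 = n17095 := (((iv2 F115788)).symm.trans (sb E10400 F55964))
theorem F115875 : act 3 n35193 = n36536 := (sb E10400 (iv3 F115872))
theorem E10404 : n77150 = n77058 := (((D77058).symm.trans (sb E10400 (iv4 F115864)))).symm
theorem E10405 : n77053 = n17094 := ((F115787).symm.trans (sb E10400 (iv7 D35225)))
theorem E10406 : n35220 = n35192 := (((D35192).symm.trans (sb E10401 (iv1 D77135)))).symm
theorem F115876 : act 2 n17095 = n35193 := (sb E10403 F115788)
theorem F115877 : act 2 n77058 = n35227 := (sb E10404 F115863)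
theorem F115878 : act 7 n77058 = n35222 := (sb E10404 (iv7 D77150))
theorem F115879 : act 7 n17094 = n35193 := (sb E10405 (iv7 F115787))
theorem F115880 : act 2 n35192 = n17094 := (sb E10406 (iv2 D35220))
theorem E10407 : n77136 = n77054 := (((D77054).symm.trans (sb E10406 D77136))).symm
theorem E10408 : n77137 = n77055 := (((D77055).symm.trans (sb E10406 D77137))).symm
theorem E10409 : n77138 = n77056 := (((D77056).symm.trans (sb E10406 D77138))).symm
theorem E10410 : n77139 = n36666 := (((F57532).symm.trans (sb E10406 D77139))).symm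
theorem F115881 : act 7 n35192 = n17095 := (sb E10406 (iv7 F55963))
theorem F115882 : act 2 n77054 = n40442 := (sb E10407 F115868)
theorem F115883 : act 7 n77054 = n35226 := (sb E10407 F115847)
theorem F115884 : act 2 n77055 = n35222 := (sb E10408 F115848)
theorem F115885 : act 7 n77055 = n35227 := (sb E10408 F115849)
theorem F115886 : act 2 n77056 = n35223 := (sb E10409 F115850)
theorem F115887 : act 7 n77056 = n35228 := (sb E10409 F115851)
theorem F115888 : act 2 n36666 = n35224 := (sb E10410 F115852)
theorem E10411 : n36663 = n36647 := ((c2_3 D36666 F115888 F57506 F57531)).symm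
theorem F115889 : act 2 n36647 = n17668 := (sb E10411 F57531)
theorem F115890 : act 7 n36647 = n17667 := (sb E10411 (iv7 D36663))
theorem F115891 : act 7 n36659 = n35348 := d8_2 F115890 D36659 F91464
theorem E10412 : n36658 = n36646 := (c15_4 (iv0 D36646) D36647 F115890 D36658)
theorem F115893 : act 2 n36646 = n17667 := (sb E10412 (iv2 D36658))
theorem F115894 : act 7 n36646 = n17668 := (sb E10412 (iv7 F57530))
theorem E10413 : n55459 = n55366 := (c11_3 F115891 F91465 F87757 (iv4 F87635))
theorem F115895 : act 2 n55366 = n26786 := (sb E10413 (iv2 D55459))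
theorem F115896 : act 7 n55366 = n26787 := (sb E10413 (iv7 F87757))
theorem F115897 : act 2 n35348 = n56939 := d15_3 F90012 (iv0 F91432) F115891
theorem F115898 : act 2 n36659 = n35347 := d15_3 (iv0 D35347) D35348 (iv7 F115891)
theorem F115899 : act 7 n35347 = n56939 := d4_2 (iv7 F115891) F115898 (iv2 F115897)
theorem F115900 : act 7 n36001 = n40493 := d8_2 F115899 (iv3 F91436) (iv3 F91404)
theorem E10414 : n55464 = n55367 := ((c11_2 F115899 F91434 (iv7 D55464) (iv4 F91405))).symm
theorem F115901 : act 2 n55367 = n26787 := (sb E10414 F87759)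
theorem F115902 : act 7 n55367 = n26786 := (sb E10414 (iv7 D55464))
theorem F115903 : act 2 n40493 = n36000 := d15_3 (iv0 D36000) D36001 F115900
theorem F115904 : act 2 n36001 = n36664 := d15_3 F113857 F61587 (iv7 F115900)
theorem F115905 : act 7 n36664 = n36000 := d4_2 (iv7 F115900) F115904 (iv2 F115903)
theorem F115906 : act 3 n36000 = n36646 := d8_1 F115905 F115894 D36664
theorem F115907 : act 7 n77059 = n35223 := d13_2 F115879 D77059 (iv5 D35223)
theorem F115908 : act 2 n35228 = n77059 := d4_3 F115907 (iv2 F115886) F115887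
theorem F115909 : act 2 n77060 = n35229 := d3_3 (iv6 D35229) F115876 D77060
theorem E10415 : n76836 = n76812 := (c15_4 F115325 (iv0 F115322) F115871 (iv2 F115372))
theorem F115910 : act 2 n76812 = n35118 := (sb E10415 F115372)
theorem F115911 : act 7 n76812 = n35117 := (sb E10415 (iv7 D76836))
theorem F115912 : act 2 n76835 = n57770 := d3_3 (iv6 F115321) F115870 D76835
theorem E10416 : n57767 = n57306 := (c2_4 (iv5 F115371) F115912 (iv5 D57770) (iv2 F90940))
theorem F115913 : act 2 n57306 = n27576 := (sb E10416 F90940)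
theorem F115914 : act 7 n57306 = n27575 := (sb E10416 (iv7 D57767))
theorem F115915 : act 7 n57765 = n76835 := d13_2 F115914 D57765 F115371
theorem E10417 : n57762 = n57305 := (c15_4 (iv0 D57305) D57306 F115914 D57762)
theorem F115916 : act 2 n57305 = n27575 := (sb E10417 (iv2 D57762))
theorem F115917 : act 7 n57305 = n27576 := (sb E10417 (iv7 F90939))
def n77151 : Q := act 0 n35223
theorem D77151 : act 0 n35223 = n77151 := rfl
theorem F115918 : act 5 n77151 = n77037 := d21_2 D35223 D77151 (iv6 D77037) (iv1 D35185) (iv6 D17082) (iv5 D7992) (iv1 D3617) D3619 D7999 D17094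
theorem F115919 : act 1 n35228 = n77151 := d15_0 (iv0 D77151) (iv7 F115907) (iv2 F115908)
def n77152 : Q := act 1 n35223
theorem D77152 : act 1 n35223 = n77152 := rfl
theorem F115920 : act 1 n77152 = n35228 := d15_1 D77152 (iv7 F115887) F115886
def n77153 : Q := act 4 n35223
theorem D77153 : act 4 n35223 = n77153 := rfl
def n77154 : Q := act 6 n35223
theorem D77154 : act 6 n35223 = n77154 := rfl
theorem F115921 : act 0 n77154 = n77036 := d21_10 (iv5 D77036) (iv1 D35185) D35186 F55931 F28032 (iv6 F28042) (iv5 D17096) D17094 D35223 D77154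
def n77155 : Q := act 0 n35224
theorem D77155 : act 0 n35224 = n77155 := rfl
def n77156 : Q := act 1 n35224
theorem D77156 : act 1 n35224 = n77156 := rfl
def n77157 : Q := act 2 n35226
theorem D77157 : act 2 n35226 = n77157 := rfl
theorem F115922 : act 7 n77157 = n40442 := d4_2 F115883 D77157 (iv2 F115882)
def n77158 : Q := act 4 n35226
theorem D77158 : act 4 n35226 = n77158 := rfl
theorem F115923 : act 0 n75963 = n77158 := d20_1 (iv4 F113861) (iv4 D77158) (iv3 D35226) (iv1 D17095) F12779 (iv4 F11677) D15698 F38268 D16853 (iv1 F61596)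
def n77159 : Q := act 5 n35226
theorem D77159 : act 5 n35226 = n77159 := rfl
theorem F115925 : act 3 n77159 = n35228 := d6_1 D77159 (iv5 D35228) D35226
def n77160 : Q := act 6 n35226
theorem D77160 : act 6 n35226 = n77160 := rfl
theorem F115926 : act 3 n77160 = n35229 := d7_1 D77160 (iv6 D35229) D35226
def n77161 : Q := act 3 n35227
theorem D77161 : act 3 n35227 = n77161 := rfl
def n77162 : Q := act 5 n35227
theorem D77162 : act 5 n35227 = n77162 := rfl
def n77163 : Q := act 6 n35227
theorem D77163 : act 6 n35227 = n77163 := rfl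
theorem F115927 : act 4 n77163 = n35229 := d10_1 D77163 (iv6 D35229) D35227
def n77164 : Q := act 4 n35228
theorem D77164 : act 4 n35228 = n77164 := rfl
def n77165 : Q := act 6 n35228
theorem D77165 : act 6 n35228 = n77165 := rfl
theorem F115928 : act 2 n77165 = n55901 := d3_1 D77165 F115789 (iv2 F115908)
theorem F115929 : act 0 n55896 = n77165 := d21_4 F28049 (iv1 F21416) D26962 D55896 (iv6 D77165) (iv5 D35228) (iv1 D17095) D17096 F28042 D17101
theorem F115930 : act 7 n55902 = n77165 := d15_2 (iv0 D55901) D55902 F115928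
def n77166 : Q := act 0 n35229
theorem D77166 : act 0 n35229 = n77166 := rfl
def n77167 : Q := act 1 n35229
theorem D77167 : act 1 n35229 = n77167 := rfl
def n77168 : Q := act 5 n35229
theorem D77168 : act 5 n35229 = n77168 := rfl
theorem F115931 : act 0 n77004 = n77168 := d21_1 D77004 (iv5 D77168) (iv6 D35229) (iv1 D17095) (iv6 D7999) (iv5 D3619) D3616 D7989 D17078 D35176
def n77169 : Q := act 7 n35229
theorem D77169 : act 7 n35229 = n77169 := rfl
def n77170 : Q := act 2 n35230
theorem D77170 : act 2 n35230 = n77170 := rfl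
theorem F115932 : act 7 n35231 = n77170 := d15_2 (iv0 D35230) D35231 (iv2 D77170)
def n77171 : Q := act 3 n35230
theorem D77171 : act 3 n35230 = n77171 := rfl
def n77172 : Q := act 4 n35230
theorem D77172 : act 4 n35230 = n77172 := rfl
def n77173 : Q := act 5 n35230
theorem D77173 : act 5 n35230 = n77173 := rfl
def n77174 : Q := act 6 n35230
theorem D77174 : act 6 n35230 = n77174 := rfl
def n77175 : Q := act 7 n35230
theorem D77175 : act 7 n35230 = n77175 := rfl
theorem F115933 : act 2 n77175 = n35231 := d4_1 D77175 F115932 (iv2 D77170)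
def n77176 : Q := act 3 n35231
theorem D77176 : act 3 n35231 = n77176 := rfl
def n77177 : Q := act 4 n35231
theorem D77177 : act 4 n35231 = n77177 := rfl
def n77178 : Q := act 5 n35231
theorem D77178 : act 5 n35231 = n77178 := rfl
theorem F115934 : act 6 n77178 = n35601 := d21_3 (iv5 F115795) (iv1 F115797) D77178 (iv1 F56282) (iv6 F30147) F30146 (iv1 F57505) (iv5 F57506) (iv6 D35224) (iv1 F55942)
def n77179 : Q := act 6 n35231
theorem D77179 : act 6 n35231 = n77179 := rfl
def n77180 : Q := act 0 n35232
theorem D77180 : act 0 n35232 = n77180 := rfl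
def n77181 : Q := act 1 n35232
theorem D77181 : act 1 n35232 = n77181 := rfl
def n77182 : Q := act 3 n35232
theorem D77182 : act 3 n35232 = n77182 := rfl
theorem F115935 : act 4 n77182 = n35263 := d5_2 D35232 D77182 (iv3 D35263) (iv4 D17115) (iv3 F28041)
theorem F115936 : act 6 n77182 = n35243 := d7_2 (iv6 F55965) D77182 (iv3 D35243)
def n77183 : Q := act 5 n35232
theorem D77183 : act 5 n35232 = n77183 := rfl
def n77184 : Q := act 7 n35232
theorem D77184 : act 7 n35232 = n77184 := rfl
theorem F115937 : act 4 n77184 = n35233 := d11_1 D77184 (iv7 D35233) D35232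
def n77185 : Q := act 6 n35234
theorem D77185 : act 6 n35234 = n77185 := rfl
theorem F115938 : act 2 n77185 = n75803 := d3_1 D77185 (iv6 D75803) (iv2 F55968)
def n77186 : Q := act 3 n35235
theorem D77186 : act 3 n35235 = n77186 := rfl
theorem F115939 : act 7 n77186 = n77017 := d8_2 (iv7 F55970) D77186 (iv3 D77017)
def n77187 : Q := act 5 n35235
theorem D77187 : act 5 n35235 = n77187 := rfl
theorem F115940 : act 7 n77187 = n77018 := d13_2 (iv7 F55970) D77187 (iv5 D77018)
def n77188 : Q := act 6 n35235
theorem D77188 : act 6 n35235 = n77188 := rfl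
theorem F115941 : act 4 n77188 = n35236 := d10_1 D77188 (iv6 D35236) D35235
def n77189 : Q := act 0 n35236
theorem D77189 : act 0 n35236 = n77189 := rfl
theorem F115942 : act 6 n77189 = n77036 := d21_5 (iv5 D8002) D8000 D17099 D35236 D77189 (iv5 D77036) (iv1 D35185) D35186 F55931 F28032
def n77190 : Q := act 1 n35236
theorem D77190 : act 1 n35236 = n77190 := rfl
def n77191 : Q := act 7 n35236
theorem D77191 : act 7 n35236 = n77191 := rfl
theorem F115943 : act 6 n77191 = n77014 := d14_1 D77191 (iv7 D77014) F55929 (iv7 F28046) D35236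
def n77192 : Q := act 3 n35237
theorem D77192 : act 3 n35237 = n77192 := rfl
def n77193 : Q := act 5 n35237
theorem D77193 : act 5 n35237 = n77193 := rfl
theorem F115944 : act 2 n77193 = n77018 := d2_1 D77193 (iv5 D77018) (iv2 F55971)
def n77194 : Q := act 6 n35237
theorem D77194 : act 6 n35237 = n77194 := rfl
theorem F115945 : act 2 n77194 = n77013 := d3_1 D77194 F115747 (iv2 F55971)
theorem F115946 : act 4 n77194 = n35238 := d10_1 D77194 (iv6 D35238) D35237
def n77195 : Q := act 0 n35238
theorem D77195 : act 0 n35238 = n77195 := rfl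
def n77196 : Q := act 1 n35238
theorem D77196 : act 1 n35238 = n77196 := rfl
theorem F115947 : act 1 n77196 = n77014 := d15_1 D77196 (iv7 D77014) (iv2 F55972)
def n77197 : Q := act 7 n35238
theorem D77197 : act 7 n35238 = n77197 := rfl
theorem F115949 : act 2 n77197 = n77014 := d4_1 D77197 (iv7 D77014) (iv2 F55972)
theorem F115950 : act 5 n77197 = n39949 := d13_1 D77197 (iv7 D39949) (iv5 F55973)
theorem F115951 : act 1 n77014 = n77195 := d15_0 (iv0 D77195) D77197 F115949
theorem F115952 : act 1 n77012 = n77197 := d15_1 D77012 (iv7 D77197) F55972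
theorem F115953 : act 5 n77166 = n77195 := d21_0 (iv1 F115951) F115748 (iv6 F60769) (iv1 F60771) D77037 (iv5 F115918) (iv1 F115919) (iv5 D35228) D35229 D77166
theorem F115954 : act 1 n77197 = n77011 := d15_0 (iv0 D77011) D77014 (iv2 F115949)
def n77198 : Q := act 6 n35239
theorem D77198 : act 6 n35239 = n77198 := rfl
theorem F115955 : act 3 n77198 = n35241 := d7_1 D77198 (iv6 D35241) D35239
theorem F115956 : act 4 n77198 = n57942 := d10_1 D77198 (iv6 D57942) (iv4 F55976)
theorem F115957 : act 5 n77198 = n57925 := d12_1 D77198 (iv6 D57925) (iv5 D27641) (iv6 F28314) (iv5 F55974)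
def n77199 : Q := act 3 n35240
theorem D77199 : act 3 n35240 = n77199 := rfl
theorem F115958 : act 4 n77199 = n57940 := d5_2 D35240 D77199 (iv3 D57940) (iv4 F55976) (iv3 D35239)
def n77200 : Q := act 5 n35240
theorem D77200 : act 5 n35240 = n77200 := rfl
theorem F115959 : act 4 n77200 = n75278 := d16_2 D35240 D77200 (iv5 D75278) (iv4 D34465) (iv5 D16718) (iv4 F12775) D17083 (iv7 F28605) F28607
def n77201 : Q := act 6 n35240
theorem D77201 : act 6 n35240 = n77201 := rfl
theorem F115960 : act 4 n77201 = n35241 := d10_1 D77201 (iv6 D35241) D35240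
def n77202 : Q := act 0 n35241
theorem D77202 : act 0 n35241 = n77202 := rfl
def n77203 : Q := act 1 n35241
theorem D77203 : act 1 n35241 = n77203 := rfl
def n77204 : Q := act 7 n35241
theorem D77204 : act 7 n35241 = n77204 := rfl
theorem F115961 : act 5 n77204 = n77191 := d13_1 D77204 (iv7 D77191) (iv5 F55978)
def n77205 : Q := act 3 n35242
theorem D77205 : act 3 n35242 = n77205 := rfl
def n77206 : Q := act 5 n35242
theorem D77206 : act 5 n35242 = n77206 := rfl
theorem F115962 : act 4 n77206 = n77044 := d9_1 D77206 (iv5 D77044) (iv4 D35188) (iv5 D17083) F12775 D16718 D34465 D75278 (iv4 F115959) (iv5 D77200) (iv4 D35240) F28049 D17326 D35750 F56429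
theorem F115963 : act 1 n77206 = n35758 := d17_6 F54906 F54645 (iv1 F28262) D35750 F56429 D77206 (iv5 D35758) D35756 F56436
def n77207 : Q := act 6 n35242
theorem D77207 : act 6 n35242 = n77207 := rfl
def n77208 : Q := act 0 n35243
theorem D77208 : act 0 n35243 = n77208 := rfl
def n77209 : Q := act 1 n35243
theorem D77209 : act 1 n35243 = n77209 := rfl
theorem F115964 : act 4 n58725 = n77209 := d20_6 (iv4 D13312) (iv1 D6313) D6314 D13314 D27920 D58725 (iv1 D77209) F55979 (iv3 D17117) (iv1 F22123)
def n77210 : Q := act 2 n35243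
theorem D77210 : act 2 n35243 = n77210 := rfl
theorem F115965 : act 4 n77210 = n35268 := d1_2 (iv4 F55979) D77210 (iv2 D35268)
def n77211 : Q := act 5 n35243
theorem D77211 : act 5 n35243 = n77211 := rfl
theorem F115966 : act 3 n77211 = n35244 := d6_1 D77211 (iv5 D35244) D35243
def n77212 : Q := act 0 n35244
theorem D77212 : act 0 n35244 = n77212 := rfl
theorem F115967 : act 5 n77212 = n55897 := d17_3 F54685 D35244 D77212 F88436 (iv5 D35234) (iv0 F28061) D34434 (iv0 F54637) D34465
theorem F115968 : act 4 n77193 = n77212 := d16_0 F115967 F88436 (iv5 D35234) (iv4 D17098) D17099 D35235 D77187 F115940 (iv2 F115944)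
def n77213 : Q := act 1 n35244
theorem D77213 : act 1 n35244 = n77213 := rfl
theorem F115969 : act 5 n77213 = n38854 := d17_7 F28264 (iv5 D17100) (iv1 D8001) D8002 D17102 D35244 D77213 F59871 (iv4 D35751)
theorem F115970 : act 4 n77187 = n77213 := d9_15 F115969 (iv4 D38854) (iv5 D18462) F13587 D17100 D35237 D77193 F115968 F115967 F88436 (iv5 D35234) (iv4 D17098) D17099 D35235 D77187
def n77214 : Q := act 4 n35244
theorem D77214 : act 4 n35244 = n77214 := rfl
theorem F115971 : act 2 n77214 = n36444 := d1_1 D77214 (iv4 F115800) F115799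
theorem F115972 : act 7 n77214 = n77066 := d11_2 F57238 D77214 F115800
theorem F115973 : act 5 n77214 = n36436 := d16_3 D17102 D35244 D77214 (iv4 D36436) (iv5 D17593) F13038 D17593 F28597 F28036
theorem F115974 : act 0 n77214 = n77213 := d18_2 (iv1 D77213) D77214 (iv4 F115970) (iv5 D77187) (iv4 D35235) F28266 D26963 (iv0 F59870) (iv5 F115969)
theorem F115975 : act 1 n77214 = n77212 := d18_8 (iv1 F88438) (iv4 D35751) F28264 D35237 D77193 F115968 (iv0 D77212) D77214 F115967
def n77215 : Q := act 6 n35244
theorem D77215 : act 6 n35244 = n77215 := rfl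
def n77216 : Q := act 0 n35248
theorem D77216 : act 0 n35248 = n77216 := rfl
def n77217 : Q := act 1 n35248
theorem D77217 : act 1 n35248 = n77217 := rfl
theorem F115977 : act 1 n77217 = n36051 := d15_1 D77217 (iv7 F59798) (iv2 F59741)
theorem F115978 : act 4 n76164 = n77217 := d20_6 (iv4 F24900) (iv1 F25183) F43178 D16857 D34791 D76164 (iv1 D77217) (iv4 D35248) (iv3 D17104) (iv1 F13151)
def n77219 : Q := act 6 n35248
theorem D77219 : act 6 n35248 = n77219 := rfl
theorem F115980 : act 3 n77219 = n75085 := d7_1 D77219 (iv6 D75085) (iv3 F55980)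
theorem F115981 : act 4 n77219 = n35250 := d10_1 D77219 (iv6 D35250) D35248
def n77220 : Q := act 0 n35249
theorem D77220 : act 0 n35249 = n77220 := rfl
theorem F115982 : act 5 n77220 = n55657 := d21_2 D35249 D77220 (iv6 D55657) (iv1 D26874) (iv6 D12863) (iv5 D6100) (iv1 F4098) D3698 D8202 F59794
theorem F115983 : act 2 n55761 = n77220 := d15_3 (iv0 D77220) F89042 (iv7 F89043)
theorem F115984 : act 1 n36052 = n77220 := d15_0 (iv0 D77220) (iv7 F57591) (iv2 F59800)
def n77221 : Q := act 4 n35249
theorem D77221 : act 4 n35249 = n77221 := rfl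
def n77222 : Q := act 0 n35250
theorem D77222 : act 0 n35250 = n77222 := rfl
def n77223 : Q := act 3 n35251
theorem D77223 : act 3 n35251 = n77223 := rfl
def n77224 : Q := act 0 n35255
theorem D77224 : act 0 n35255 = n77224 := rfl
theorem F115986 : act 1 n35327 = n77224 := d15_0 (iv0 D77224) (iv7 F91236) (iv2 F91301)
theorem F115987 : act 4 n75780 = n77224 := d20_0 (iv1 F115986) (iv4 D35327) (iv3 F91275) (iv1 F28876) (iv3 F34457) (iv4 F72484) (iv1 F113039) (iv4 D34658) D34657 D75780
theorem F115988 : act 3 n75780 = n76852 := d20_3 D35255 D77224 (iv4 F115987) (iv1 D76852) (iv3 D35122) D35123 D76858 F115393 F57385 (iv1 F91278)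
def n77225 : Q := act 1 n35255
theorem D77225 : act 1 n35255 = n77225 := rfl
theorem F115989 : act 1 n77225 = n35327 := d15_1 D77225 F91300 (iv2 F91303)
theorem F115990 : act 4 n75740 = n77225 := d20_6 (iv4 F11677) D15698 F38268 D16853 (iv1 F61596) (iv3 F113607) (iv1 D77225) (iv4 D35255) (iv3 D17109) (iv1 D8004)
theorem F115991 : act 6 n77225 = n75739 := d10_2 D75740 F115990 (iv4 D75739)
def n77226 : Q := act 5 n35255
theorem D77226 : act 5 n35255 = n77226 := rfl
def n77227 : Q := act 6 n35255
theorem D77227 : act 6 n35255 = n77227 := rfl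
theorem F115993 : act 3 n77227 = n75115 := d7_1 D77227 (iv6 D75115) (iv3 F55984)
theorem F115994 : act 4 n77227 = n35257 := d10_1 D77227 (iv6 D35257) D35255
def n77228 : Q := act 0 n35256
theorem D77228 : act 0 n35256 = n77228 := rfl
theorem F115995 : act 5 n77228 = n36623 := d21_2 D35256 D77228 (iv6 D36623) D36620 (iv6 F91195) (iv5 D40259) (iv1 F91192) F28152 (iv6 F28705) (iv1 F91278)
theorem F115996 : act 2 n56141 = n77228 := d15_3 (iv0 D77228) F91285 F88791
theorem F115997 : act 1 n35328 = n77228 := d15_0 (iv0 D77228) (iv7 F91239) F91273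
theorem F115998 : act 6 n36627 = n77228 := d21_9 (iv5 D35328) (iv1 F28708) (iv5 F57423) F57424 (iv1 F56261) F91264 (iv5 F91253) (iv1 D36626) D36627 (iv1 F115997)
def n77229 : Q := act 4 n35256
theorem D77229 : act 4 n35256 = n77229 := rfl
def n77230 : Q := act 3 n35258
theorem D77230 : act 3 n35258 = n77230 := rfl
def n77231 : Q := act 0 n35259
theorem D77231 : act 0 n35259 = n77231 := rfl
def n77233 : Q := act 2 n35259
theorem D77233 : act 2 n35259 = n77233 := rfl
def n77234 : Q := act 4 n35259
theorem D77234 : act 4 n35259 = n77234 := rfl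
def n77235 : Q := act 6 n35259
theorem D77235 : act 6 n35259 = n77235 := rfl
theorem F116000 : act 5 n77235 = n37107 := d12_1 D77235 F58027 F57964 (iv6 F88351) F88350
def n77236 : Q := act 0 n35261
theorem D77236 : act 0 n35261 = n77236 := rfl
def n77238 : Q := act 2 n35261
theorem D77238 : act 2 n35261 = n77238 := rfl
def n77239 : Q := act 4 n35261
theorem D77239 : act 4 n35261 = n77239 := rfl
def n77240 : Q := act 6 n35261
theorem D77240 : act 6 n35261 = n77240 := rfl
def n77241 : Q := act 7 n35262
theorem D77241 : act 7 n35262 = n77241 := rfl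
theorem F116002 : act 5 n77241 = n35777 := d13_1 D77241 (iv7 F61317) F61316
theorem F116004 : act 1 n35853 = n77241 := d15_1 (iv0 F57215) (iv7 D77241) (iv2 F57213)
theorem F116005 : act 0 n55937 = n77241 := d21_1 D55937 F116002 (iv6 D35777) (iv1 D17334) (iv6 D8116) (iv5 D3655) (iv1 F4119) (iv5 F9509) D12908 D26975
def n77242 : Q := act 0 n35263
theorem D77242 : act 0 n35263 = n77242 := rfl
def n77243 : Q := act 1 n35263
theorem D77243 : act 1 n35263 = n77243 := rfl
def n77244 : Q := act 2 n35263
theorem D77244 : act 2 n35263 = n77244 := rfl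
theorem F116006 : act 6 n77244 = n35268 := d3_2 (iv6 F55990) D77244 (iv2 D35268)
def n77245 : Q := act 5 n35263
theorem D77245 : act 5 n35263 = n77245 := rfl
theorem F116007 : act 3 n77245 = n35264 := d6_1 D77245 (iv5 D35264) D35263
def n77246 : Q := act 7 n35263
theorem D77246 : act 7 n35263 = n77246 := rfl
theorem F116008 : act 3 n77246 = n35265 := d8_1 D77246 (iv7 D35265) D35263
def n77247 : Q := act 4 n35264
theorem D77247 : act 4 n35264 = n77247 := rfl
theorem F116009 : act 6 n77247 = n59967 := d10_2 F56477 D77247 F94451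
theorem F116010 : act 5 n77247 = n49874 := d16_3 D17115 D35264 D77247 F78865 F38105 F24900 (iv5 F28588) (iv7 D17592) F13035
theorem F116011 : act 0 n77247 = n75123 := d18_2 F114139 D77247 (iv4 F115705) F115704 (iv4 D35251) (iv0 F30533) (iv4 F57141) (iv0 F57142) D76177
theorem F116013 : act 7 n77247 = n49873 := d15_2 (iv0 F112624) (iv0 F116011) (iv2 F79203)
def n77248 : Q := act 7 n35264
theorem D77248 : act 7 n35264 = n77248 := rfl
theorem F116014 : act 4 n77248 = n49873 := d11_1 D77248 (iv7 F116013) (iv4 D77247)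
theorem F116015 : act 5 n77248 = n35265 := d13_1 D77248 (iv7 D35265) D35264
theorem F116016 : act 1 n76948 = n77248 := d15_1 (iv0 F115641) (iv7 D77248) (iv2 F57202)
theorem F116017 : act 1 n77248 = n76930 := d15_1 F116016 F115598 (iv2 F115638)
def n77249 : Q := act 2 n35266
theorem D77249 : act 2 n35266 = n77249 := rfl
theorem F116018 : act 7 n35267 = n77249 := d15_2 (iv0 D35266) D35267 (iv2 D77249)
def n77250 : Q := act 3 n35266
theorem D77250 : act 3 n35266 = n77250 := rfl
theorem F116019 : act 4 n77250 = n38881 := d20_6 (iv4 D3659) (iv1 F5658) D8007 D17117 D35266 D77250 (iv1 D38881) F29656 (iv3 D8843) F5874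
def n77251 : Q := act 4 n35266
theorem D77251 : act 4 n35266 = n77251 := rfl
def n77252 : Q := act 5 n35266
theorem D77252 : act 5 n35266 = n77252 := rfl
def n77253 : Q := act 6 n35266
theorem D77253 : act 6 n35266 = n77253 := rfl
def n77254 : Q := act 7 n35266
theorem D77254 : act 7 n35266 = n77254 := rfl
theorem F116020 : act 2 n77254 = n35267 := d4_1 D77254 F116018 (iv2 D77249)
def n77255 : Q := act 3 n35267
theorem D77255 : act 3 n35267 = n77255 := rfl
def n77256 : Q := act 4 n35267
theorem D77256 : act 4 n35267 = n77256 := rfl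
def n77257 : Q := act 5 n35267
theorem D77257 : act 5 n35267 = n77257 := rfl
def n77258 : Q := act 6 n35267
theorem D77258 : act 6 n35267 = n77258 := rfl
def n77259 : Q := act 0 n35269
theorem D77259 : act 0 n35269 = n77259 := rfl
theorem F116021 : act 4 n77259 = n39974 := d18_3 F28055 D35269 D77259 (iv5 D39974) F30169 (iv0 F16933) F16930 (iv0 D8895) (iv5 F12888)
theorem F116022 : act 1 n35778 = n77259 := d15_0 (iv0 D77259) (iv7 F57168) F57167
theorem F116023 : act 7 n77259 = n45136 := d15_2 F61687 F116022 F71119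
def n77260 : Q := act 3 n35269
theorem D77260 : act 3 n35269 = n77260 := rfl
theorem F116024 : act 4 n77260 = n75813 := d5_2 D35269 D77260 (iv3 D75813) F54919 F31148
def n77261 : Q := act 5 n35269
theorem D77261 : act 5 n35269 = n77261 := rfl
theorem F116025 : act 4 n77261 = n41284 := d16_2 D35269 D77261 (iv5 D41284) (iv4 F31180) F31181 F17491 D17337 (iv7 F28576) (iv2 F28578)
def n77262 : Q := act 4 n35270
theorem D77262 : act 4 n35270 = n77262 := rfl
theorem F116026 : act 2 n77262 = n47667 := d1_1 D77262 (iv4 D47667) (iv2 F55994)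
theorem F116027 : act 7 n77262 = n75208 := d11_2 F56022 D77262 F112759
theorem F116028 : act 0 n77262 = n39876 := d18_2 F55996 D77262 (iv4 D39876) (iv5 F30110) (iv4 F28127) F31213 F31211 (iv0 D17218) D17220
theorem F116029 : act 1 n77262 = n37677 := d18_6 (iv1 F16996) (iv4 F21738) (iv1 F27386) (iv4 F28058) D35270 D77262 (iv4 D37677) (iv0 F29224) (iv5 D8836)
def n77263 : Q := act 0 n35271
theorem D77263 : act 0 n35271 = n77263 := rfl
theorem F116030 : act 4 n77263 = n40460 := d18_3 F32116 D35271 D77263 (iv5 D40460) (iv4 D19123) F17586 F17491 F14926 D20249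
theorem F116031 : act 1 n35782 = n77263 := d15_0 (iv0 D77263) (iv7 F61200) F61199
theorem F116032 : act 2 n75171 = n77263 := d1_3 F116030 F61556 D75171
def n77264 : Q := act 1 n35271
theorem D77264 : act 1 n35271 = n77264 := rfl
theorem F116033 : act 1 n77264 = n35782 := d15_1 D77264 (iv7 F61198) F61197
theorem F116034 : act 7 n77264 = n75171 := d15_2 (iv0 D77263) D77264 F116032
theorem F116035 : act 4 n77264 = n39866 := d18_7 F16925 F16320 (iv1 F16938) (iv4 F12782) D17120 D35271 D77264 (iv0 F60660) (iv5 D19412)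
def n77265 : Q := act 3 n35271
theorem D77265 : act 3 n35271 = n77265 := rfl
def n77266 : Q := act 5 n35271
theorem D77266 : act 5 n35271 = n77266 := rfl
theorem F116036 : act 4 n77266 = n42084 := d16_2 D35271 D77266 F64994 (iv4 F57158) (iv5 D36411) (iv4 D17581) (iv5 F30319) F30320 F30309
def n77267 : Q := act 0 n35272
theorem D77267 : act 0 n35272 = n77267 := rfl
theorem F116037 : act 1 n69793 = n77267 := d15_0 (iv0 D77267) (iv7 F57556) (iv2 F106203)
def n77268 : Q := act 1 n35272
theorem D77268 : act 1 n35272 = n77268 := rfl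
theorem F116038 : act 1 n77268 = n69793 := d15_1 D77268 (iv7 F107225) F107223
theorem F116039 : act 5 n77268 = n41138 := d17_7 (iv1 F59064) (iv5 F115317) (iv1 D75248) F54649 (iv4 F64333) F64334 D77268 F74449 F74444
def n77269 : Q := act 6 n35272
theorem D77269 : act 6 n35272 = n77269 := rfl
def n77270 : Q := act 1 n35273
theorem D77270 : act 1 n35273 = n77270 := rfl
theorem F116041 : act 1 n77270 = n35283 := d15_1 D77270 (iv7 D35283) (iv2 F55997)
theorem F116042 : act 7 n77270 = n35280 := d15_2 (iv0 F87772) D77270 (iv2 F115457)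
theorem F116043 : act 2 n35281 = n77270 := d4_3 F116042 (iv2 F115457) F115455
def n77272 : Q := act 7 n35273
theorem D77272 : act 7 n35273 = n77272 := rfl
theorem F116046 : act 4 n77272 = n35276 := d11_1 D77272 (iv7 D35276) (iv4 F55998)
theorem F116047 : act 1 n35281 = n77272 := d15_1 D35281 (iv7 D77272) F55997
theorem F116048 : act 1 n77272 = n35280 := d15_1 F116047 (iv7 F116042) (iv2 F116043)
theorem E10418 : n75965 = n55481 := ((c18_8 (iv1 F60937) (iv4 F44548) (iv1 F60936) F60934 (iv5 F56002) (iv4 F116046) F116048 F115458 (iv0 D75965) F61599)).symm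
theorem F116049 : act 1 n55481 = n34719 := (sb E10418 (iv0 D75965))
theorem E10419 : n75966 = n55376 := (c15_2 F116049 D75966 F115431 D55481)
theorem F116050 : act 0 n55376 = n34719 := (sb E10419 (iv1 D75966))
def n77273 : Q := act 4 n35274
theorem D77273 : act 4 n35274 = n77273 := rfl
theorem F116053 : act 0 n75967 = n77273 := d20_7 F112742 (iv1 F87876) (iv4 D34759) (iv3 F43223) (iv1 F43227) D34719 D75967 (iv4 D77273) F113985 (iv1 F112746)
def n77274 : Q := act 5 n35274
theorem D77274 : act 5 n35274 = n77274 := rfl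
theorem F116054 : act 2 n77274 = n35287 := d2_1 D77274 (iv5 D35287) (iv2 F113984)
theorem F116055 : act 7 n77274 = n35292 := d13_2 (iv7 F113986) D77274 (iv5 D35292)
def n77275 : Q := act 6 n35274
theorem D77275 : act 6 n35274 = n77275 := rfl
theorem F116056 : act 2 n77275 = n35288 := d3_1 D77275 (iv6 D35288) (iv2 F113984)
theorem F116057 : act 5 n77275 = n35813 := d21_6 F13840 (iv1 F6056) D8011 D17122 D35274 D77275 (iv1 D35813) F28282 (iv6 D8894) (iv1 F13838)
def n77276 : Q := act 4 n35275
theorem D77276 : act 4 n35275 = n77276 := rfl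
theorem F116059 : act 3 n77276 = n75661 := d5_1 D77276 (iv4 D75661) (iv3 D34596) D34597 (iv3 F56000)
theorem F116061 : act 0 n77276 = n75967 := d18_2 (iv1 F55999) D77276 (iv4 D75967) F61599 D39526 (iv0 F60945) (iv4 D40057) F30229 (iv5 F28074)
def n77277 : Q := act 6 n35275
theorem D77277 : act 6 n35275 = n77277 := rfl
theorem F116062 : act 2 n77277 = n35293 := d3_1 D77277 (iv6 D35293) (iv2 F113987)
theorem F116063 : act 3 n77277 = n75665 := d7_1 D77277 (iv6 D75665) (iv3 F56000)
def n77278 : Q := act 0 n35277
theorem D77278 : act 0 n35277 = n77278 := rfl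
theorem F116064 : act 5 n77278 = n36008 := d19_1 D77278 F56761 (iv3 D19163) (iv1 F28066) (iv5 F31396) (iv4 D19623) F14422 (iv1 F7319) (iv5 D4902) D4901 (iv3 F14543) F14545 F7255 F3240 D4668 F6764 (iv5 F14061) (iv4 F28069) D35277
theorem F116065 : act 3 n77278 = n36009 := d20_5 F30185 (iv1 F16384) (iv4 F28069) D35277 D77278 F56763 (iv1 D34566) (iv4 F28473) F28472 D18908
theorem F116066 : act 1 n40570 = n77278 := d15_0 (iv0 D77278) F56006 D40570
theorem F116067 : act 7 n40568 = n77278 := d8_0 F116065 (iv7 F56846) (iv3 F61695)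
def n77279 : Q := act 1 n35277
theorem D77279 : act 1 n35277 = n77279 := rfl
def n77280 : Q := act 2 n35277
theorem D77280 : act 2 n35277 = n77280 := rfl
theorem F116069 : act 4 n77280 = n71517 := d1_2 F57740 D77280 (iv2 F108038)
theorem F116070 : act 5 n77280 = n54643 := d2_2 F74437 D77280 F86390
theorem F116071 : act 7 n77280 = n40570 := d4_2 (iv7 F56006) D77280 (iv2 D40570)
theorem F116072 : act 1 n77280 = n40568 := d15_0 (iv0 D40568) (iv7 F56006) D77280
theorem F116073 : act 1 n77279 = n40570 := d15_1 D77279 (iv7 F116071) (iv2 D77280)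
theorem F116074 : act 2 n40568 = n77279 := d15_3 F116073 F116066 (iv7 F116067)
theorem F116075 : act 5 n71517 = n77279 := d17_5 D40117 F61007 F86392 (iv5 F116070) F116069 F116073 F61697 (iv0 F61013) (iv4 D40120)
theorem F116076 : act 7 n40569 = n77279 := d15_2 (iv0 D40568) D40569 (iv2 F116074)
theorem F116077 : act 2 n77278 = n40569 := d4_3 F116076 (iv2 F116074) F116067
theorem F116078 : act 5 n76605 = n40569 := d13_3 F116076 (iv5 F116075) (iv7 F114880)
def n77282 : Q := act 0 n35278
theorem D77282 : act 0 n35278 = n77282 := rfl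
def n77284 : Q := act 5 n35278
theorem D77284 : act 5 n35278 = n77284 := rfl
theorem F116082 : act 2 n77284 = n40724 := d2_1 D77284 (iv5 D40724) (iv2 F56007)
def n77285 : Q := act 7 n35278
theorem D77285 : act 7 n35278 = n77285 := rfl
theorem F116083 : act 2 n77285 = n40725 := d4_1 D77285 (iv7 D40725) (iv2 F56007)
theorem F116084 : act 4 n77285 = n40586 := d11_1 D77285 F61705 (iv4 F56008)
theorem F116086 : act 1 n40725 = n77282 := d15_0 (iv0 D77282) D77285 F116083
theorem F116088 : act 1 n77285 = n40722 := d15_0 (iv0 D40722) D40725 (iv2 F116083)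
def n77286 : Q := act 0 n35279
theorem D77286 : act 0 n35279 = n77286 := rfl
def n77287 : Q := act 1 n35279
theorem D77287 : act 1 n35279 = n77287 := rfl
def n77288 : Q := act 5 n35279
theorem D77288 : act 5 n35279 = n77288 := rfl
theorem F116089 : act 6 n77288 = n35282 := d12_2 D35279 D77288 (iv5 D35282) (iv6 D17125) D17124
def n77289 : Q := act 7 n35279
theorem D77289 : act 7 n35279 = n77289 := rfl
def n77290 : Q := act 3 n35280
theorem D77290 : act 3 n35280 = n77290 := rfl
def n77292 : Q := act 6 n35280
theorem D77292 : act 6 n35280 = n77292 := rfl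
def n77295 : Q := act 6 n35281
theorem D77295 : act 6 n35281 = n77295 := rfl
def n77296 : Q := act 0 n35282
theorem D77296 : act 0 n35282 = n77296 := rfl
def n77297 : Q := act 1 n35282
theorem D77297 : act 1 n35282 = n77297 := rfl
theorem F116090 : act 5 n57798 = n77297 := d21_6 (iv5 F35271) (iv1 D22691) F17276 D18932 F44490 D57798 (iv1 D77297) (iv5 D35282) (iv6 D17125) D17123
def n77299 : Q := act 7 n35282
theorem D77299 : act 7 n35282 = n77299 := rfl
theorem F116091 : act 5 n77299 = n35283 := d13_1 D77299 (iv7 D35283) D35282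
def n77304 : Q := act 6 n35286
theorem D77304 : act 6 n35286 = n77304 := rfl
theorem F116105 : act 4 n77304 = n35288 := d10_1 D77304 (iv6 D35288) D35286
def n77305 : Q := act 0 n35287
theorem D77305 : act 0 n35287 = n77305 := rfl
theorem F116106 : act 5 n77305 = n40112 := d21_2 D35287 D77305 (iv6 D40112) (iv1 D18952) (iv6 D8884) (iv5 F7027) (iv1 D3624) D3626 D8013 D17126
theorem F116107 : act 1 n35292 = n77305 := d15_0 (iv0 D77305) F114019 F114038
def n77306 : Q := act 1 n35287
theorem D77306 : act 1 n35287 = n77306 := rfl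
theorem F116108 : act 1 n77306 = n35292 := d15_1 D77306 (iv7 F116055) F116054
def n77307 : Q := act 4 n35287
theorem D77307 : act 4 n35287 = n77307 := rfl
def n77308 : Q := act 6 n35287
theorem D77308 : act 6 n35287 = n77308 := rfl
theorem F116109 : act 0 n77308 = n39993 := d21_4 (iv5 F12788) D17126 D35287 D77308 (iv6 D39993) D39992 F61189 (iv5 D40203) (iv6 D18984) (iv1 D8892)
def n77309 : Q := act 0 n35288
theorem D77309 : act 0 n35288 = n77309 := rfl
def n77310 : Q := act 1 n35288
theorem D77310 : act 1 n35288 = n77310 := rfl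
def n77311 : Q := act 5 n35288
theorem D77311 : act 5 n35288 = n77311 := rfl
theorem F116110 : act 2 n77311 = n35813 := d2_1 D77311 (iv5 F116057) F116056
theorem F116111 : act 0 n77311 = n35806 := d21_7 (iv5 F7027) (iv1 D3624) D3626 D8013 D17126 D35288 D77311 F56467 (iv6 D18907) F13820
theorem F116112 : act 0 n35814 = n77311 := d21_7 F56002 (iv1 F30233) D18983 (iv6 F30306) (iv1 F30232) D18985 (iv5 F56473) (iv5 D77311) (iv6 D35288) (iv1 F56005)
def n77312 : Q := act 7 n35288
theorem D77312 : act 7 n35288 = n77312 := rfl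
def n77313 : Q := act 4 n35290
theorem D77313 : act 4 n35290 = n77313 := rfl
theorem F116113 : act 2 n77313 = n76061 := d1_1 D77313 F114051 F91438
theorem F116114 : act 7 n77313 = n76060 := d11_2 F112747 D77313 F113983
theorem F116115 : act 0 n77313 = n55560 := d18_2 (iv1 F114049) D77313 (iv4 D55560) (iv5 F91451) D27834 F61291 (iv4 D40195) (iv0 F61172) F91162
theorem F116116 : act 0 n55555 = n77313 := d20_1 D55555 (iv4 D77313) (iv3 D35290) (iv1 D17127) F12787 (iv4 F11681) (iv1 F30449) (iv4 D12828) D12827 D26821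
def n77314 : Q := act 5 n35290
theorem D77314 : act 5 n35290 = n77314 := rfl
theorem F116117 : act 3 n77314 = n35292 := d6_1 D77314 (iv5 D35292) D35290
theorem F116118 : act 6 n35305 = n77314 := d21_5 (iv5 D9163) F6043 D8025 D17138 D35305 (iv5 D77314) F114048 F54634 (iv6 D17985) (iv1 F21736)
def n77315 : Q := act 6 n35290
theorem D77315 : act 6 n35290 = n77315 := rfl
theorem F116119 : act 3 n77315 = n35293 := d7_1 D77315 (iv6 D35293) D35290
def n77316 : Q := act 3 n35291
theorem D77316 : act 3 n35291 = n77316 := rfl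
def n77318 : Q := act 6 n35291
theorem D77318 : act 6 n35291 = n77318 := rfl
theorem F116120 : act 4 n77318 = n35293 := d10_1 D77318 (iv6 D35293) D35291
def n77319 : Q := act 4 n35292
theorem D77319 : act 4 n35292 = n77319 := rfl
def n77320 : Q := act 0 n35293
theorem D77320 : act 0 n35293 = n77320 := rfl
def n77321 : Q := act 1 n35293
theorem D77321 : act 1 n35293 = n77321 := rfl
def n77322 : Q := act 5 n35293
theorem D77322 : act 5 n35293 = n77322 := rfl
theorem F116121 : act 0 n40076 = n77322 := d21_1 D40076 (iv5 D77322) (iv6 D35293) (iv1 D17127) (iv6 D8013) (iv5 D3626) D3623 (iv5 F7337) D8881 D18941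
def n77323 : Q := act 7 n35293
theorem D77323 : act 7 n35293 = n77323 := rfl
def n77324 : Q := act 0 n35297
theorem D77324 : act 0 n35297 = n77324 := rfl
theorem F116122 : act 4 n77324 = n75349 := d18_3 F91258 D35297 D77324 F112981 F90455 (iv0 D40261) (iv4 D19022) (iv0 F91174) F17008
theorem F116123 : act 1 n35368 = n77324 := d15_0 (iv0 D77324) (iv7 F91222) F91389
theorem F116124 : act 2 n75739 = n77324 := d1_3 F116122 (iv2 F112980) D75739
def n77325 : Q := act 1 n35297
theorem D77325 : act 1 n35297 = n77325 := rfl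
theorem F116126 : act 1 n77325 = n35368 := d15_1 D77325 (iv7 F91378) F91390
theorem F116127 : act 7 n77325 = n75739 := d15_2 (iv0 D77324) D77325 F116124
theorem F116128 : act 4 n55587 = n77325 := d20_6 (iv4 F24882) (iv1 F30440) (iv4 D12833) D12832 D26836 D55587 (iv1 D77325) (iv4 D35297) (iv3 D17130) (iv1 F13138)
theorem F116129 : act 2 n77325 = n75737 := d1_1 F116128 (iv4 D75737) F91468
def n77326 : Q := act 5 n35297
theorem D77326 : act 5 n35297 = n77326 := rfl
theorem F116130 : act 3 n77326 = n75898 := d6_1 D77326 (iv5 D75898) (iv3 F56013)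
def n77327 : Q := act 6 n35297
theorem D77327 : act 6 n35297 = n77327 := rfl
theorem F116131 : act 3 n77327 = n69612 := d7_1 D77327 F105890 (iv3 F56013)
theorem F116132 : act 4 n77327 = n35299 := d10_1 D77327 (iv6 D35299) D35297
def n77328 : Q := act 0 n35298
theorem D77328 : act 0 n35298 = n77328 := rfl
theorem F116133 : act 5 n77328 = n40268 := d21_2 D35298 D77328 F91552 (iv1 D27026) (iv6 D12949) (iv5 D6151) (iv1 F4154) D3636 D8045 F91258
theorem F116134 : act 6 n77328 = n35534 := d21_5 D27058 (iv1 F88775) (iv5 F91253) (iv6 F91256) D77328 (iv5 D35534) (iv1 F56097) F56094 (iv6 F43673) (iv1 F43675)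
theorem F116136 : act 1 n35329 = n77328 := d15_0 (iv0 D77328) (iv7 F91224) (iv2 F91302)
def n77329 : Q := act 4 n35298
theorem D77329 : act 4 n35298 = n77329 := rfl
def n77330 : Q := act 0 n35303
theorem D77330 : act 0 n35303 = n77330 := rfl
theorem F116138 : act 4 n77330 = n55502 := d18_3 F59789 D35303 D77330 F90466 F90409 (iv0 D40274) (iv4 D19033) D19031 F59694
theorem F116139 : act 1 n36023 = n77330 := d15_0 (iv0 D77330) (iv7 F57539) (iv2 F59811)
def n77331 : Q := act 1 n35303
theorem D77331 : act 1 n35303 = n77331 := rfl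
theorem F116143 : act 4 n55503 = n77331 := d20_6 (iv4 F11681) (iv1 F30449) (iv4 D12828) D12827 D26821 (iv3 F91446) (iv1 D77331) (iv4 D35303) (iv3 D17135) (iv1 D8015)
def n77333 : Q := act 6 n35303
theorem D77333 : act 6 n35303 = n77333 := rfl
theorem F116145 : act 3 n77333 = n75923 := d7_1 D77333 (iv6 D75923) (iv3 F56016)
theorem F116146 : act 4 n77333 = n35304 := d10_1 D77333 (iv6 D35304) D35303
def n77334 : Q := act 1 n35304
theorem D77334 : act 1 n35304 = n77334 := rfl
def n77335 : Q := act 4 n35305
theorem D77335 : act 4 n35305 = n77335 := rfl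
theorem F116147 : act 0 n76165 = n77335 := d20_1 D76165 (iv4 D77335) (iv3 F114036) F57560 F28755 (iv4 F24900) (iv1 F25183) F43178 D16857 D34791
theorem F116148 : act 1 n76071 = n77335 := d15_0 (iv0 F116147) (iv7 F115568) F115566
def n77336 : Q := act 5 n35305
theorem D77336 : act 5 n35305 = n77336 := rfl
def n77337 : Q := act 4 n35306
theorem D77337 : act 4 n35306 = n77337 := rfl
theorem F116149 : act 0 n76071 = n77337 := d20_1 (iv4 F114055) (iv4 D77337) (iv3 F114040) (iv1 D41371) F31184 (iv4 F33965) D45211 F71255 (iv3 F55852) (iv1 F91479)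
theorem F116150 : act 1 n76165 = n77337 := d15_0 (iv0 F116149) (iv7 F115574) F115573
theorem F116151 : act 0 n76164 = n76816 := d20_10 F115337 (iv1 F57767) F56791 (iv3 F34457) (iv1 F63793) F114040 D77337 (iv1 F116150) (iv4 D76165) D76164
def n77338 : Q := act 5 n35306
theorem D77338 : act 5 n35306 = n77338 := rfl
def n77339 : Q := act 6 n35306
theorem D77339 : act 6 n35306 = n77339 := rfl
def n77340 : Q := act 0 n35307
theorem D77340 : act 0 n35307 = n77340 := rfl
def n77341 : Q := act 1 n35307
theorem D77341 : act 1 n35307 = n77341 := rfl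
def n77342 : Q := act 4 n35307
theorem D77342 : act 4 n35307 = n77342 := rfl
theorem F116152 : act 6 n77342 = n35311 := d10_2 (iv6 F56019) D77342 (iv4 D35311)
def n77343 : Q := act 7 n35307
theorem D77343 : act 7 n35307 = n77343 := rfl
theorem F116153 : act 3 n77343 = n35338 := d8_1 D77343 (iv7 D35338) (iv3 F56018)
theorem F116154 : act 5 n77343 = n35308 := d13_1 D77343 (iv7 D35308) D35307
def n77344 : Q := act 6 n35309
theorem D77344 : act 6 n35309 = n77344 := rfl
theorem F116155 : act 3 n77344 = n40216 := d7_1 D77344 (iv6 D40216) (iv3 F56021)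
def n77345 : Q := act 6 n35310
theorem D77345 : act 6 n35310 = n77345 := rfl
theorem F116156 : act 3 n77345 = n35779 := d7_1 D77345 (iv6 D35779) F56025
theorem F116157 : act 5 n77345 = n77344 := d12_1 D77345 (iv6 D77344) (iv5 D35309) (iv6 F31205) (iv5 F56023)
def n77346 : Q := act 3 n35311
theorem D77346 : act 3 n35311 = n77346 := rfl
theorem F116158 : act 4 n77346 = n35345 := d5_2 D35311 D77346 (iv3 D35345) (iv4 D17153) (iv3 F28081)
def n77347 : Q := act 5 n35311
theorem D77347 : act 5 n35311 = n77347 := rfl
theorem F116159 : act 2 n77347 = n75233 := d2_1 D77347 F112779 (iv2 F60817)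
theorem F116160 : act 7 n77347 = n75234 := d13_2 F57288 D77347 F112781
theorem F116161 : act 4 n77347 = n56645 := d16_2 D35311 D77347 (iv5 D56645) (iv4 D27232) (iv5 D13046) (iv4 F21738) D27226 (iv7 F54641) F54640
theorem F116162 : act 0 n77347 = n39881 := d17_2 F60814 D77347 (iv5 D39881) (iv4 D18868) (iv5 D8836) (iv0 F13348) D16701 (iv0 F30157) D39967
theorem F116163 : act 1 n77347 = n75205 := d17_6 F56215 (iv5 D22946) F17375 D17140 D35311 D77347 (iv5 D75205) F60677 F60676
def n77348 : Q := act 2 n35313
theorem D77348 : act 2 n35313 = n77348 := rfl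
theorem F116164 : act 7 n35314 = n77348 := d15_2 (iv0 D35313) D35314 (iv2 D77348)
def n77349 : Q := act 3 n35313
theorem D77349 : act 3 n35313 = n77349 := rfl
def n77350 : Q := act 4 n35313
theorem D77350 : act 4 n35313 = n77350 := rfl
def n77351 : Q := act 5 n35313
theorem D77351 : act 5 n35313 = n77351 := rfl
def n77352 : Q := act 6 n35313
theorem D77352 : act 6 n35313 = n77352 := rfl
theorem F116165 : act 5 n77352 = n35351 := d21_6 F21895 (iv1 F12724) D8029 D17142 D35313 D77352 (iv1 D35351) (iv5 F28649) (iv6 D17615) (iv1 F21898)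
def n77353 : Q := act 7 n35313
theorem D77353 : act 7 n35313 = n77353 := rfl
theorem F116166 : act 2 n77353 = n35314 := d4_1 D77353 F116164 (iv2 D77348)
def n77358 : Q := act 0 n35315
theorem D77358 : act 0 n35315 = n77358 := rfl
def n77359 : Q := act 1 n35315
theorem D77359 : act 1 n35315 = n77359 := rfl
def n77360 : Q := act 7 n35315
theorem D77360 : act 7 n35315 = n77360 := rfl
def n77361 : Q := act 6 n35317
theorem D77361 : act 6 n35317 = n77361 := rfl
theorem F116168 : act 2 n77361 = n57924 := d3_1 D77361 (iv6 D57924) (iv2 F56033)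
theorem F116169 : act 3 n77361 = n42064 := d7_1 D77361 (iv6 D42064) (iv3 F56034)
def n77362 : Q := act 6 n35318
theorem D77362 : act 6 n35318 = n77362 := rfl
theorem F116170 : act 2 n77362 = n57930 := d3_1 D77362 (iv6 D57930) F56038
theorem F116171 : act 3 n77362 = n42861 := d7_1 D77362 (iv6 D42861) (iv3 F56040)
theorem F116172 : act 5 n77362 = n77361 := d12_1 D77362 (iv6 D77361) (iv5 D35317) (iv6 F28171) (iv5 F56037)
def n77363 : Q := act 2 n35319
theorem D77363 : act 2 n35319 = n77363 := rfl
theorem F116173 : act 3 n77363 = n37972 := d0_2 D35319 D77363 (iv2 D37972) (iv3 D18184) F28094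
theorem F116174 : act 7 n77363 = n71979 := d4_2 F57344 D77363 (iv2 F108470)
theorem F116175 : act 1 n77363 = n35969 := d15_0 (iv0 F57345) F57344 D77363
theorem F116176 : act 1 n54952 = n77363 := d15_0 F116175 F56681 (iv2 F86938)
def n77364 : Q := act 6 n35319
theorem D77364 : act 6 n35319 = n77364 := rfl
theorem F116177 : act 3 n77364 = n35320 := d7_1 D77364 (iv6 D35320) D35319
def n77365 : Q := act 0 n35320
theorem D77365 : act 0 n35320 = n77365 := rfl
def n77366 : Q := act 1 n35320
theorem D77366 : act 1 n35320 = n77366 := rfl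
theorem F116178 : act 1 n77366 = n37979 := d15_1 D77366 (iv7 D37979) (iv2 F56042)
def n77367 : Q := act 5 n35320
theorem D77367 : act 5 n35320 = n77367 := rfl
def n77368 : Q := act 7 n35320
theorem D77368 : act 7 n35320 = n77368 := rfl
theorem F116180 : act 2 n77368 = n37979 := d4_1 D77368 (iv7 D37979) (iv2 F56042)
theorem F116181 : act 4 n77368 = n37961 := d11_1 D77368 (iv7 D37961) (iv4 F56043)
theorem F116182 : act 1 n37979 = n77365 := d15_0 (iv0 D77365) D77368 F116180
theorem F116183 : act 1 n37977 = n77368 := d15_1 D37977 (iv7 D77368) F56042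
theorem F116184 : act 1 n77368 = n37976 := d15_0 (iv0 D37976) D37979 (iv2 F116180)
def n77369 : Q := act 3 n35321
theorem D77369 : act 3 n35321 = n77369 := rfl
def n77370 : Q := act 5 n35321
theorem D77370 : act 5 n35321 = n77370 := rfl
def n77371 : Q := act 3 n35322
theorem D77371 : act 3 n35322 = n77371 := rfl
def n77372 : Q := act 5 n35322
theorem D77372 : act 5 n35322 = n77372 := rfl
def n77373 : Q := act 6 n35322
theorem D77373 : act 6 n35322 = n77373 := rfl
def n77374 : Q := act 0 n35323
theorem D77374 : act 0 n35323 = n77374 := rfl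
def n77375 : Q := act 1 n35323
theorem D77375 : act 1 n35323 = n77375 := rfl
def n77376 : Q := act 4 n35323
theorem D77376 : act 4 n35323 = n77376 := rfl
def n77377 : Q := act 7 n35323
theorem D77377 : act 7 n35323 = n77377 := rfl
theorem F116185 : act 5 n77377 = n35324 := d13_1 D77377 (iv7 D35324) D35323
def n77378 : Q := act 3 n35327
theorem D77378 : act 3 n35327 = n77378 := rfl
def n77379 : Q := act 5 n35327
theorem D77379 : act 5 n35327 = n77379 := rfl
def n77380 : Q := act 6 n35327
theorem D77380 : act 6 n35327 = n77380 := rfl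
theorem F116186 : act 4 n77380 = n35329 := d10_1 D77380 (iv6 D35329) D35327
def n77382 : Q := act 2 n35335
theorem D77382 : act 2 n35335 = n77382 := rfl
theorem F116187 : act 7 n35336 = n77382 := d15_2 (iv0 D35335) D35336 (iv2 D77382)
def n77384 : Q := act 4 n35335
theorem D77384 : act 4 n35335 = n77384 := rfl
def n77385 : Q := act 5 n35335
theorem D77385 : act 5 n35335 = n77385 := rfl
theorem F116188 : act 0 n77385 = n35530 := d21_1 D77385 (iv5 F88790) (iv6 D56141) (iv1 D27061) F21558 (iv5 D6159) F13347 D8037 (iv6 F28096) D35335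
theorem F116189 : act 0 n35387 = n77385 := d21_10 (iv5 D77385) (iv1 F57429) F57423 F28705 (iv1 F28678) D36531 F91226 (iv1 F91388) (iv5 D35386) D35387
def n77386 : Q := act 6 n35335
theorem D77386 : act 6 n35335 = n77386 := rfl
theorem F116190 : act 5 n77386 = n56521 := d21_6 (iv5 D6159) F13347 D8037 (iv6 F28096) D35335 D77386 (iv1 D56521) F43954 (iv6 D27070) (iv1 D12968)
def n77387 : Q := act 7 n35335
theorem D77387 : act 7 n35335 = n77387 := rfl
theorem F116192 : act 2 n77387 = n35336 := d4_1 D77387 F116187 (iv2 D77382)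
def n77389 : Q := act 4 n35336
theorem D77389 : act 4 n35336 = n77389 := rfl
def n77390 : Q := act 6 n35336
theorem D77390 : act 6 n35336 = n77390 := rfl
def n77391 : Q := act 0 n35337
theorem D77391 : act 0 n35337 = n77391 := rfl
def n77392 : Q := act 1 n35337
theorem D77392 : act 1 n35337 = n77392 := rfl
def n77393 : Q := act 3 n35337
theorem D77393 : act 3 n35337 = n77393 := rfl
theorem F116193 : act 6 n77393 = n35345 := d7_2 (iv6 F56048) D77393 (iv3 D35345)
def n77395 : Q := act 7 n35337
theorem D77395 : act 7 n35337 = n77395 := rfl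
theorem F116194 : act 4 n77395 = n35338 := d11_1 D77395 (iv7 D35338) D35337
def n77397 : Q := act 6 n35339
theorem D77397 : act 6 n35339 = n77397 := rfl
theorem F116196 : act 2 n77397 = n56177 := d3_1 D77397 (iv6 D56177) (iv2 F56050)
theorem F116197 : act 4 n77397 = n35340 := d10_1 D77397 (iv6 D35340) D35339
def n77398 : Q := act 1 n35340
theorem D77398 : act 1 n35340 = n77398 := rfl
theorem F116198 : act 1 n77398 = n56147 := d15_1 D77398 F88798 (iv2 F56054)
theorem F116199 : act 7 n77398 = n56178 := d15_2 (iv0 F56203) D77398 (iv2 F91357)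
theorem F116200 : act 5 n56137 = n77398 := d21_6 (iv5 F16972) (iv1 D6158) D6159 (iv6 F21558) D27060 D56137 (iv1 D77398) (iv5 F56060) (iv6 D35342) (iv1 F28103)
theorem F116201 : act 2 n56179 = n77398 := d4_3 F116199 (iv2 F91357) (iv7 F91358)
def n77399 : Q := act 7 n35340
theorem D77399 : act 7 n35340 = n77399 := rfl
theorem F116203 : act 6 n77399 = n56027 := d14_1 D77399 (iv7 D56027) F43670 (iv7 F28098) D35340
theorem F116204 : act 1 n56179 = n77399 := d15_1 D56179 (iv7 D77399) F56054
def n77401 : Q := act 6 n35341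
theorem D77401 : act 6 n35341 = n77401 := rfl
theorem F116207 : act 2 n77401 = n35595 := d3_1 D77401 (iv6 D35595) (iv2 F56055)
theorem F116208 : act 4 n77401 = n35342 := d10_1 D77401 (iv6 D35342) D35341
def n77402 : Q := act 0 n35342
theorem D77402 : act 0 n35342 = n77402 := rfl
def n77403 : Q := act 1 n35342
theorem D77403 : act 1 n35342 = n77403 := rfl
theorem F116209 : act 1 n77403 = n35546 := d15_1 D77403 F56213 (iv2 F56059)
def n77404 : Q := act 7 n35342
theorem D77404 : act 7 n35342 = n77404 := rfl
theorem F116210 : act 2 n77404 = n35546 := d4_1 D77404 F56213 (iv2 F56059)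
theorem F116211 : act 5 n77404 = n77399 := d13_1 D77404 (iv7 D77399) (iv5 F56060)
theorem F116213 : act 1 n35546 = n77402 := d15_0 (iv0 D77402) D77404 F116210
theorem F116214 : act 1 n35597 = n77404 := d15_1 D35597 (iv7 D77404) F56059
theorem F116215 : act 1 n77404 = n35596 := d15_0 (iv0 D35596) (iv7 F56213) (iv2 F116210)
def n77405 : Q := act 3 n35343
theorem D77405 : act 3 n35343 = n77405 := rfl
theorem F116216 : act 4 n77405 = n38868 := d5_2 (iv4 F56061) D77405 (iv3 D38868) (iv4 D18470) D18469
def n77406 : Q := act 5 n35343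
theorem D77406 : act 5 n35343 = n77406 := rfl
theorem F116217 : act 0 n77406 = n35566 := d17_2 D35343 D77406 (iv5 D35566) (iv4 D17234) (iv5 D8082) F12860 (iv5 F28101) (iv0 D17152) D17153
theorem F116218 : act 1 n77406 = n35555 := d17_6 F56949 (iv5 D34421) F30729 (iv5 F29652) (iv4 F56061) D77406 (iv5 D35555) D35553 (iv4 F56951)
def n77407 : Q := act 6 n35343
theorem D77407 : act 6 n35343 = n77407 := rfl
theorem F116219 : act 4 n77407 = n38867 := d10_1 D77407 (iv6 D38867) (iv4 F56061)
def n77408 : Q := act 3 n35344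
theorem D77408 : act 3 n35344 = n77408 := rfl
def n77410 : Q := act 6 n35344
theorem D77410 : act 6 n35344 = n77410 := rfl
def n77411 : Q := act 0 n35345
theorem D77411 : act 0 n35345 = n77411 := rfl
def n77412 : Q := act 1 n35345
theorem D77412 : act 1 n35345 = n77412 := rfl
def n77413 : Q := act 2 n35345
theorem D77413 : act 2 n35345 = n77413 := rfl
def n77414 : Q := act 5 n35345
theorem D77414 : act 5 n35345 = n77414 := rfl
theorem F116222 : act 3 n77414 = n35346 := d6_1 D77414 (iv5 D35346) D35345
def n77418 : Q := act 5 n35347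
theorem D77418 : act 5 n35347 = n77418 := rfl
theorem F116229 : act 4 n77418 = n57765 := d17_4 F91407 F28149 D35347 D77418 (iv5 D57765) (iv0 D27575) (iv5 D13179) D13178 D27572
def n77419 : Q := act 6 n35347
theorem D77419 : act 6 n35347 = n77419 := rfl
theorem F116230 : act 4 n77419 = n55463 := d10_1 D77419 (iv6 D55463) (iv4 F91405)
def n77420 : Q := act 6 n35348
theorem D77420 : act 6 n35348 = n77420 := rfl
theorem F116231 : act 4 n77420 = n55468 := d10_1 D77420 (iv6 D55468) (iv4 F91465)
def n77421 : Q := act 2 n35350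
theorem D77421 : act 2 n35350 = n77421 := rfl
theorem F116232 : act 7 n35351 = n77421 := d15_2 (iv0 D35350) D35351 (iv2 D77421)
def n77422 : Q := act 3 n35350
theorem D77422 : act 3 n35350 = n77422 := rfl
def n77423 : Q := act 4 n35350
theorem D77423 : act 4 n35350 = n77423 := rfl
def n77424 : Q := act 5 n35350
theorem D77424 : act 5 n35350 = n77424 := rfl
def n77425 : Q := act 6 n35350
theorem D77425 : act 6 n35350 = n77425 := rfl
def n77426 : Q := act 7 n35350
theorem D77426 : act 7 n35350 = n77426 := rfl
theorem F116233 : act 2 n77426 = n35351 := d4_1 D77426 F116232 (iv2 D77421)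
def n77427 : Q := act 3 n35351
theorem D77427 : act 3 n35351 = n77427 := rfl
def n77428 : Q := act 4 n35351
theorem D77428 : act 4 n35351 = n77428 := rfl
def n77429 : Q := act 6 n35351
theorem D77429 : act 6 n35351 = n77429 := rfl
def n77430 : Q := act 3 n35353
theorem D77430 : act 3 n35353 = n77430 := rfl
theorem F116234 : act 2 n77430 = n71959 := d0_1 D77430 (iv3 D71959) F56661 F57388 F57392
theorem F116235 : act 5 n77430 = n45909 := d6_2 (iv5 F57399) D77430 (iv3 D45909)
theorem F116236 : act 4 n71555 = n77430 := d1_0 F116234 F108457 (iv2 F108070)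
theorem F116237 : act 0 n71555 = n39983 := d20_7 (iv4 D8299) (iv1 F13329) D8044 D17156 D35353 D77430 (iv4 F116236) F60857 (iv3 D27164) (iv1 F21653)
def n77431 : Q := act 4 n35353
theorem D77431 : act 4 n35353 = n77431 := rfl
theorem F116238 : act 2 n77431 = n55442 := d1_1 D77431 F87726 F57392
theorem F116239 : act 3 n77431 = n71440 := d5_1 D77431 F107980 D71555 F116236 (iv3 D77430)
theorem F116240 : act 7 n77431 = n75001 := d11_2 (iv7 F57393) D77431 F112538
theorem F116241 : act 0 n77431 = n75000 := d17_0 F112537 F109563 (iv5 D33656) D33655 (iv5 F59040) (iv0 D38180) F57398 F57396 D77431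
theorem F116242 : act 5 n71439 = n77431 := d6_0 F116239 (iv5 D71440) D71439
def n77432 : Q := act 6 n35353
theorem D77432 : act 6 n35353 = n77432 := rfl
def n77433 : Q := act 6 n35354
theorem D77433 : act 6 n35354 = n77433 := rfl
theorem F116244 : act 3 n77433 = n71961 := d7_1 D77433 (iv6 D71961) F56067
theorem F116245 : act 4 n77433 = n75002 := d10_1 D77433 (iv6 D75002) F56068
def n77434 : Q := act 0 n35355
theorem D77434 : act 0 n35355 = n77434 := rfl
def n77435 : Q := act 1 n35355
theorem D77435 : act 1 n35355 = n77435 := rfl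
def n77436 : Q := act 5 n35355
theorem D77436 : act 5 n35355 = n77436 := rfl
theorem F116246 : act 3 n77436 = n35359 := d6_1 D77436 (iv5 D35359) (iv3 F56069)
def n77437 : Q := act 7 n35355
theorem D77437 : act 7 n35355 = n77437 := rfl
theorem F116247 : act 3 n77437 = n35360 := d8_1 D77437 (iv7 D35360) (iv3 F56069)
def n77438 : Q := act 0 n35356
theorem D77438 : act 0 n35356 = n77438 := rfl
def n77439 : Q := act 1 n35356
theorem D77439 : act 1 n35356 = n77439 := rfl
def n77440 : Q := act 5 n35356
theorem D77440 : act 5 n35356 = n77440 := rfl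
theorem F116248 : act 6 n77440 = n35359 := d12_2 D35356 D77440 (iv5 D35359) (iv6 D17158) D17157
def n77441 : Q := act 7 n35356
theorem D77441 : act 7 n35356 = n77441 := rfl
def n77442 : Q := act 3 n35357
theorem D77442 : act 3 n35357 = n77442 := rfl
def n77443 : Q := act 5 n35357
theorem D77443 : act 5 n35357 = n77443 := rfl
def n77444 : Q := act 6 n35357
theorem D77444 : act 6 n35357 = n77444 := rfl
def n77445 : Q := act 0 n35359
theorem D77445 : act 0 n35359 = n77445 := rfl
def n77446 : Q := act 1 n35359
theorem D77446 : act 1 n35359 = n77446 := rfl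
theorem F116249 : act 5 n38782 = n77446 := d21_6 (iv5 F54833) (iv1 D34566) (iv5 F27525) D27031 (iv1 F91421) (iv6 F59678) (iv1 D77446) (iv5 D35359) (iv6 D17158) (iv1 F28092)
def n77447 : Q := act 4 n35359
theorem D77447 : act 4 n35359 = n77447 := rfl
def n77448 : Q := act 7 n35359
theorem D77448 : act 7 n35359 = n77448 := rfl
theorem F116250 : act 5 n77448 = n35360 := d13_1 D77448 (iv7 D35360) D35359
def n77449 : Q := act 3 n35368
theorem D77449 : act 3 n35368 = n77449 := rfl
def n77450 : Q := act 5 n35368
theorem D77450 : act 5 n35368 = n77450 := rfl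
def n77451 : Q := act 6 n35368
theorem D77451 : act 6 n35368 = n77451 := rfl
theorem F116251 : act 4 n77451 = n35369 := d10_1 D77451 (iv6 D35369) D35368
def n77452 : Q := act 0 n35369
theorem D77452 : act 0 n35369 = n77452 := rfl
theorem F116252 : act 5 n77452 = n35388 := d21_2 F56192 D77452 F56088 (iv1 F88775) (iv6 F91264) F91263 F91259 F57340 (iv6 D35510) D35507
theorem F116254 : act 2 n35534 = n77452 := d15_3 (iv0 D77452) F91320 (iv7 F91530)
theorem F116255 : act 7 n77452 = n35539 := d4_2 (iv7 F91530) F116254 F91527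
theorem F116256 : act 1 n36531 = n35539 := d15_1 (iv0 F91384) (iv7 F116255) (iv2 F116254)
theorem F116257 : act 1 n56480 = n77452 := d15_1 D56480 F116255 F91527
def n77453 : Q := act 7 n35369
theorem D77453 : act 7 n35369 = n77453 := rfl
theorem F116259 : act 1 n35539 = n77453 := d15_1 F116256 (iv7 D77453) (iv2 F91269)
theorem F116260 : act 1 n77453 = n35534 := d15_1 F116259 F91530 (iv2 F91527)
def n77454 : Q := act 2 n35370
theorem D77454 : act 2 n35370 = n77454 := rfl
theorem F116261 : act 7 n35371 = n77454 := d15_2 (iv0 D35370) D35371 (iv2 D77454)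
def n77455 : Q := act 3 n35370
theorem D77455 : act 3 n35370 = n77455 := rfl
theorem F116262 : act 0 n37896 = n77455 := d20_4 F27528 D19553 F31300 D37896 (iv3 D77455) F62347 (iv1 D41138) F30989 F29449 (iv1 F27531)
def n77456 : Q := act 5 n35370
theorem D77456 : act 5 n35370 = n77456 := rfl
theorem F116263 : act 4 n77456 = n76809 := d17_4 F90358 (iv5 D35372) D35370 D77456 (iv5 F115316) F90370 (iv5 D33568) F44344 D57276
theorem F116264 : act 0 n36493 = n77456 := d20_10 F116263 (iv1 D76809) F55799 (iv3 D34451) F27396 D16759 (iv4 F28473) F28474 (iv4 F28651) (iv3 F57316)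
theorem F116265 : act 3 n37872 = n77456 := d20_5 (iv4 F12379) (iv1 F13372) (iv4 F13404) D18152 D37872 F116263 (iv1 D76809) F55799 (iv3 D34451) F27396
theorem F116266 : act 5 n77455 = n37872 := d6_0 F116265 (iv5 D77456) D77455
theorem F116267 : act 1 n37889 = n77456 := d15_0 (iv0 F116264) (iv7 F89079) F89077
def n77457 : Q := act 6 n35370
theorem D77457 : act 6 n35370 = n77457 := rfl
def n77458 : Q := act 7 n35370
theorem D77458 : act 7 n35370 = n77458 := rfl
theorem F116268 : act 2 n77458 = n35371 := d4_1 D77458 F116261 (iv2 D77454)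
def n77459 : Q := act 3 n35371
theorem D77459 : act 3 n35371 = n77459 := rfl
theorem F116269 : act 4 n77459 = n57639 := d20_6 (iv4 D16010) F27122 D26608 D55046 F87047 D77459 (iv1 D57639) (iv4 F59327) (iv3 F71638) (iv1 D33183)
theorem F116270 : act 0 n71439 = n44677 := d19_0 (iv5 F90810) (iv4 F116269) (iv3 D77459) (iv1 D35371) D35372 (iv4 F110136) (iv3 D73429) F53017 (iv5 F55467) (iv4 D35002) (iv3 F40444) (iv1 F55473) (iv5 D25599) (iv4 F20186) (iv3 F21001) F21003 D15941 D33055 D71439
theorem F116271 : act 2 n73039 = n77459 := d1_3 F116269 F90812 D73039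
theorem F116272 : act 7 n73043 = n77459 := d11_0 F116269 (iv7 F90811) D73043
theorem E10421 : n77454 = n56011 := (c8_3 F116272 (iv3 D77459) F116261 (iv3 F109566))
theorem F116273 : act 2 n56011 = n35370 := (sb E10421 (iv2 D77454))
theorem F116274 : act 7 n56011 = n35371 := (sb E10421 (iv7 F116261))
theorem F116275 : act 7 n41137 = n47161 := d11_2 F116274 (iv4 F62346) F88663
theorem E10422 : n77458 = n56010 := (c15_4 (iv0 D56010) D56011 F116274 (iv2 F116268))
theorem F116276 : act 2 n56010 = n35371 := (sb E10422 F116268)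
theorem F116277 : act 7 n56010 = n35370 := (sb E10422 (iv7 D77458))
theorem F116278 : act 7 n41138 = n47162 := d11_2 F116277 F62347 (iv4 F88660)
theorem F116279 : act 2 n47162 = n41137 := d15_3 (iv0 D41137) D41138 F116278
theorem F116280 : act 2 n41138 = n47161 := d4_1 (iv7 F116278) (iv7 F116275) (iv2 F116279)
def n77460 : Q := act 5 n35371
theorem D77460 : act 5 n35371 = n77460 := rfl
theorem F116281 : act 4 n77460 = n76808 := d17_4 (iv1 F90362) (iv5 F87045) F87047 D77460 (iv5 F115309) (iv0 D57286) (iv5 D27432) D27430 D57281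
theorem F116282 : act 0 n77460 = n36493 := d18_0 (iv4 F108073) F112923 (iv4 D75314) F90886 D47257 (iv0 F74508) F43320 D35371 D77460
theorem F116283 : act 1 n77460 = n37889 := d15_1 (iv0 F116282) (iv7 F108307) F108305
def n77461 : Q := act 6 n35371
theorem D77461 : act 6 n35371 = n77461 := rfl
def n77462 : Q := act 6 n35372
theorem D77462 : act 6 n35372 = n77462 := rfl
theorem F116284 : act 3 n77462 = n35374 := d7_1 D77462 (iv6 D35374) (iv3 F56073)
def n77463 : Q := act 0 n35373
theorem D77463 : act 0 n35373 = n77463 := rfl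
def n77464 : Q := act 1 n35373
theorem D77464 : act 1 n35373 = n77464 := rfl
def n77465 : Q := act 5 n35373
theorem D77465 : act 5 n35373 = n77465 := rfl
theorem F116285 : act 3 n77465 = n35377 := d6_1 D77465 (iv5 D35377) (iv3 F56074)
def n77466 : Q := act 7 n35373
theorem D77466 : act 7 n35373 = n77466 := rfl
theorem F116286 : act 3 n77466 = n35378 := d8_1 D77466 (iv7 D35378) (iv3 F56074)
def n77467 : Q := act 0 n35374
theorem D77467 : act 0 n35374 = n77467 := rfl
def n77468 : Q := act 1 n35374
theorem D77468 : act 1 n35374 = n77468 := rfl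
theorem F116287 : act 1 n77468 = n35473 := d15_1 D77468 (iv7 D35473) (iv2 F56075)
def n77469 : Q := act 5 n35374
theorem D77469 : act 5 n35374 = n77469 := rfl
theorem F116288 : act 2 n77469 = n35472 := d2_1 D77469 (iv5 D35472) (iv2 F56075)
theorem F116289 : act 6 n77469 = n35377 := d12_2 D35374 D77469 (iv5 D35377) (iv6 D17164) D17163
def n77470 : Q := act 7 n35374
theorem D77470 : act 7 n35374 = n77470 := rfl
theorem F116290 : act 2 n77470 = n35473 := d4_1 D77470 (iv7 D35473) (iv2 F56075)
theorem F116291 : act 4 n77470 = n36164 := d11_1 D77470 (iv7 D36164) (iv4 F56076)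
theorem F116293 : act 1 n35471 = n77470 := d15_1 D35471 (iv7 D77470) F56075
theorem F116294 : act 1 n77470 = n35470 := d15_0 (iv0 D35470) D35473 (iv2 F116290)
def n77471 : Q := act 2 n35375
theorem D77471 : act 2 n35375 = n77471 := rfl
theorem F116295 : act 4 n77471 = n38950 := d1_2 F56083 D77471 (iv2 D38950)
theorem F116296 : act 7 n35376 = n77471 := d15_2 (iv0 D35375) D35376 (iv2 D77471)
def n77472 : Q := act 3 n35375
theorem D77472 : act 3 n35375 = n77472 := rfl
theorem F116297 : act 4 n77472 = n38956 := d5_2 F56083 D77472 (iv3 D38956) (iv4 D18495) D18494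
def n77473 : Q := act 5 n35375
theorem D77473 : act 5 n35375 = n77473 := rfl
def n77474 : Q := act 6 n35375
theorem D77474 : act 6 n35375 = n77474 := rfl
theorem F116298 : act 4 n77474 = n38952 := d10_1 D77474 (iv6 D38952) F56083
theorem F116299 : act 5 n77474 = n36598 := d21_6 D17641 F28712 (iv5 D17163) D17164 D35375 D77474 (iv1 D36598) (iv5 D17650) (iv6 D8314) D8311
def n77475 : Q := act 7 n35375
theorem D77475 : act 7 n35375 = n77475 := rfl
theorem F116300 : act 2 n77475 = n35376 := d4_1 D77475 F116296 (iv2 D77471)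
theorem F116301 : act 4 n77475 = n38953 := d11_1 D77475 (iv7 D38953) F56083
def n77476 : Q := act 3 n35376
theorem D77476 : act 3 n35376 = n77476 := rfl
def n77477 : Q := act 4 n35376
theorem D77477 : act 4 n35376 = n77477 := rfl
theorem F116302 : act 2 n77477 = n38953 := d1_1 D77477 (iv4 F116301) F116300
theorem F116303 : act 7 n77477 = n38950 := d11_2 (iv7 F116296) D77477 (iv4 F116295)
theorem F116304 : act 1 n38949 = n77477 := d15_1 D38949 F116303 (iv2 D38950)
theorem F116305 : act 3 n38971 = n77477 := d0_0 F116302 F59984 F29683 D18499 D38971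
theorem F116306 : act 1 n77477 = n38948 := d15_0 (iv0 D38948) D38953 (iv2 F116302)
theorem F116307 : act 0 n38971 = n58062 := d20_10 F91829 (iv1 D55823) (iv4 D26933) (iv3 D12886) (iv1 F9493) (iv3 F12867) (iv4 F28160) (iv1 F56077) D77477 (iv3 F116305)
def n77478 : Q := act 5 n35376
theorem D77478 : act 5 n35376 = n77478 := rfl
def n77479 : Q := act 6 n35376
theorem D77479 : act 6 n35376 = n77479 := rfl
def n77480 : Q := act 0 n35377
theorem D77480 : act 0 n35377 = n77480 := rfl
def n77481 : Q := act 1 n35377
theorem D77481 : act 1 n35377 = n77481 := rfl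
theorem F116308 : act 1 n77481 = n35487 := d15_1 D77481 (iv7 D35487) (iv2 F56078)
theorem F116309 : act 5 n56447 = n77481 := d21_6 F42452 F42451 (iv5 D13015) D13016 D27168 D56447 (iv1 D77481) (iv5 D35377) (iv6 D17164) (iv1 F21551)
def n77482 : Q := act 4 n35377
theorem D77482 : act 4 n35377 = n77482 := rfl
theorem F116310 : act 2 n77482 = n35486 := d1_1 D77482 (iv4 D35486) (iv2 F56078)
def n77483 : Q := act 7 n35377
theorem D77483 : act 7 n35377 = n77483 := rfl
theorem F116311 : act 2 n77483 = n35487 := d4_1 D77483 (iv7 D35487) (iv2 F56078)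
theorem F116312 : act 5 n77483 = n35378 := d13_1 D77483 (iv7 D35378) D35377
theorem F116313 : act 1 n35487 = n77480 := d15_0 (iv0 D77480) D77483 F116311
theorem F116314 : act 1 n35485 = n77483 := d15_1 D35485 (iv7 D77483) F56078
theorem F116315 : act 1 n77483 = n35484 := d15_0 (iv0 D35484) D35487 (iv2 F116311)
def n77484 : Q := act 0 n35380
theorem D77484 : act 0 n35380 = n77484 := rfl
def n77485 : Q := act 1 n35380
theorem D77485 : act 1 n35380 = n77485 := rfl
def n77486 : Q := act 2 n35380
theorem D77486 : act 2 n35380 = n77486 := rfl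
theorem F116317 : act 3 n77486 = n35496 := d0_2 D35380 D77486 (iv2 D35496) (iv3 D17205) F91336
theorem F116318 : act 7 n77486 = n35518 := d4_2 (iv7 F91337) D77486 (iv2 D35518)
theorem F116319 : act 1 n77486 = n35516 := d15_0 (iv0 D35516) (iv7 F91337) D77486
theorem F116320 : act 1 n77485 = n35518 := d15_1 D77485 (iv7 F116318) (iv2 D77486)
theorem F116321 : act 4 n38955 = n55730 := d20_2 D18500 (iv1 F59985) (iv3 F91848) (iv1 F116319) F116317 (iv4 F91361) (iv1 F91698) F91695 F44584 (iv1 F29665)
theorem E10423 : n39033 = n38948 := ((c20_11 (iv4 F60041) (iv1 F56191) (iv4 D17211) D17210 D35516 F91848 (iv4 F116321) (iv1 D38955) (iv4 D18495) D18494 D38948)).symm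
theorem F116322 : act 3 n38948 = n18533 := (sb E10423 (iv3 D39033))
theorem F116323 : act 4 n38948 = n35501 := (sb E10423 (iv4 F60041))
theorem F116324 : act 1 n35517 = n77486 := d15_1 D35517 F116318 (iv2 D35518)
theorem E10424 : n35635 = n35517 := ((c20_5 (iv4 F22008) D27661 F91361 (iv3 F116317) (iv1 F116324) (iv3 D35635) D35636 F91784 (iv4 D58016) (iv3 D27671) (iv1 D13210))).symm
theorem F116325 : act 3 n35517 = n17274 := (sb E10424 (iv3 D35635))
def n77487 : Q := act 4 n35380
theorem D77487 : act 4 n35380 = n77487 := rfl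
theorem F116327 : act 7 n77487 = n35519 := d11_2 (iv7 F91337) D77487 (iv4 D35519)
theorem F116328 : act 0 n58063 = n77487 := d20_1 D58063 (iv4 D77487) (iv3 D35380) (iv1 F28116) F12867 (iv4 F11835) (iv1 F21137) F30358 D13218 D27686
def n77488 : Q := act 5 n35380
theorem D77488 : act 5 n35380 = n77488 := rfl
theorem F116329 : act 3 n77488 = n35382 := d6_1 D77488 (iv5 D35382) D35380
theorem F116330 : act 7 n77488 = n35520 := d13_2 (iv7 F91337) D77488 (iv5 D35520)
def n77489 : Q := act 0 n35381
theorem D77489 : act 0 n35381 = n77489 := rfl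
theorem F116331 : act 1 n35385 = n77489 := d15_0 (iv0 D77489) F91339 (iv2 F91350)
def n77490 : Q := act 1 n35381
theorem D77490 : act 1 n35381 = n77490 := rfl
theorem F116332 : act 1 n77490 = n35385 := d15_1 D77490 F91351 (iv2 F91338)
theorem F116333 : act 4 n77490 = n58047 := d20_2 D35385 (iv1 F116332) (iv3 D58047) (iv1 D27680) (iv3 D13214) (iv4 F30354) (iv1 F21143) F11835 (iv3 F12867) (iv1 F28112)
theorem F116334 : act 4 n77484 = n39013 := d20_0 (iv1 F91838) (iv4 D58071) F44628 (iv1 F44615) D58047 (iv4 F116333) (iv1 D77490) (iv4 D35381) D35380 D77484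
def n77491 : Q := act 3 n35381
theorem D77491 : act 3 n35381 = n77491 := rfl
theorem F116335 : act 7 n77491 = n35522 := d8_2 (iv7 F91339) D77491 (iv3 D35522)
def n77492 : Q := act 5 n35381
theorem D77492 : act 5 n35381 = n77492 := rfl
theorem F116336 : act 2 n77492 = n35504 := d2_1 D77492 (iv5 D35504) (iv2 F91338)
theorem F116337 : act 7 n77492 = n35523 := d13_2 (iv7 F91339) D77492 (iv5 D35523)
def n77493 : Q := act 1 n35382
theorem D77493 : act 1 n35382 = n77493 := rfl
theorem F116339 : act 7 n77493 = n35507 := d15_2 (iv0 F91387) D77493 F91271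
theorem F116340 : act 5 n77453 = n77493 := d21_0 (iv1 D77493) (iv5 D35382) F28728 (iv1 F57480) F91203 F30368 D40268 (iv5 F116133) F116134 (iv1 F116260)
theorem F116342 : act 6 n77493 = n35569 := d21_3 D35534 (iv1 F116260) F116340 (iv1 D35569) (iv6 D17235) (iv5 D8082) (iv1 D3645) D3646 (iv6 F12866) D17214
def n77494 : Q := act 4 n35382
theorem D77494 : act 4 n35382 = n77494 := rfl
theorem F116343 : act 2 n77494 = n35509 := d1_1 D77494 (iv4 D35509) (iv2 F91340)
theorem F116344 : act 7 n77494 = n35525 := d11_2 (iv7 F91341) D77494 (iv4 D35525)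
def n77495 : Q := act 0 n35384
theorem D77495 : act 0 n35384 = n77495 := rfl
theorem F116345 : act 1 n35496 = n77495 := d15_0 (iv0 D77495) F91349 D35496
def n77496 : Q := act 1 n35384
theorem D77496 : act 1 n35384 = n77496 := rfl
def n77497 : Q := act 2 n35384
theorem D77497 : act 2 n35384 = n77497 := rfl
theorem F116346 : act 3 n77497 = n35518 := d0_2 D35384 D77497 (iv2 D35518) (iv3 D17210) (iv2 F91347)
theorem F116347 : act 4 n77497 = n57954 := d1_2 (iv4 F56087) D77497 (iv2 F91691)
theorem F116348 : act 7 n77497 = n35496 := d4_2 (iv7 F91349) D77497 (iv2 D35496)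
theorem F116349 : act 1 n77497 = n35494 := d15_0 (iv0 D35494) (iv7 F91349) D77497
theorem F116350 : act 1 n77496 = n35496 := d15_1 D77496 (iv7 F116348) (iv2 D77497)
theorem F116351 : act 1 n35495 = n77497 := d15_1 D35495 F116348 (iv2 D35496)
theorem E10425 : n77485 = n55833 := (c20_11 F88318 (iv1 D39014) (iv4 D18516) (iv3 D8699) (iv1 F9779) (iv3 F22011) (iv4 F44603) (iv1 F91689) (iv4 F116347) F116346 (iv1 F116320))
theorem F116352 : act 0 n55833 = n35380 := (sb E10425 (iv1 D77485))
theorem F116353 : act 1 n55833 = n35518 := (sb E10425 F116320)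
def n77498 : Q := act 5 n35384
theorem D77498 : act 5 n35384 = n77498 := rfl
theorem F116354 : act 3 n77498 = n35386 := d6_1 D77498 (iv5 D35386) D35384
theorem F116355 : act 7 n77498 = n35498 := d13_2 (iv7 F91349) D77498 (iv5 D35498)
def n77499 : Q := act 6 n35384
theorem D77499 : act 6 n35384 = n77499 := rfl
theorem F116357 : act 4 n77499 = n57982 := d10_1 D77499 (iv6 D57982) (iv4 F56087)
def n77500 : Q := act 3 n35385
theorem D77500 : act 3 n35385 = n77500 := rfl
theorem F116358 : act 4 n77500 = n57980 := d5_2 D35385 D77500 (iv3 D57980) (iv4 F56087) (iv3 D35384)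
theorem F116359 : act 7 n77500 = n35503 := d8_2 (iv7 F91351) D77500 (iv3 D35503)
def n77501 : Q := act 5 n35385
theorem D77501 : act 5 n35385 = n77501 := rfl
theorem F116360 : act 2 n77501 = n35523 := d2_1 D77501 (iv5 D35523) (iv2 F91350)
theorem F116361 : act 7 n77501 = n35504 := d13_2 (iv7 F91351) D77501 (iv5 D35504)
def n77502 : Q := act 6 n35385
theorem D77502 : act 6 n35385 = n77502 := rfl
theorem F116362 : act 2 n77502 = n35524 := d3_1 D77502 (iv6 D35524) (iv2 F91350)
theorem F116363 : act 4 n77502 = n35387 := d10_1 D77502 (iv6 D35387) D35385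
def n77503 : Q := act 4 n35386
theorem D77503 : act 4 n35386 = n77503 := rfl
theorem F116364 : act 2 n77503 = n35525 := d1_1 D77503 (iv4 D35525) (iv2 F91352)
theorem F116365 : act 7 n77503 = n35509 := d11_2 (iv7 F91353) D77503 (iv4 D35509)
def n77504 : Q := act 5 n35387
theorem D77504 : act 5 n35387 = n77504 := rfl
theorem F116367 : act 7 n77504 = n77228 := d13_2 F57486 D77504 F115995
theorem F116368 : act 0 n36552 = n77504 := d21_1 D36552 (iv5 D77504) (iv6 D35387) (iv1 D17166) (iv6 D8051) (iv5 D3638) (iv1 F4153) F13426 D8310 D17636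
theorem F116369 : act 0 n77386 = n35540 := d21_4 (iv5 D77504) F116189 (iv5 D77385) D77386 (iv6 D35540) D35539 (iv1 F116256) F91226 (iv6 F91238) F116368
def n77505 : Q := act 3 n35388
theorem D77505 : act 3 n35388 = n77505 := rfl
theorem F116371 : act 6 n77505 = n56124 := d7_2 (iv6 F56088) D77505 F88784
theorem F116372 : act 7 n77505 = n35537 := d8_2 (iv7 F91532) D77505 (iv3 D35537)
def n77506 : Q := act 4 n35388
theorem D77506 : act 4 n35388 = n77506 := rfl
theorem F116373 : act 2 n77506 = n35533 := d1_1 D77506 (iv4 D35533) (iv2 F91531)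
theorem F116374 : act 6 n77506 = n56129 := d10_2 (iv6 F56088) D77506 (iv4 D56129)
theorem F116375 : act 7 n77506 = n35538 := d11_2 (iv7 F91532) D77506 (iv4 D35538)
def n77507 : Q := act 3 n35389
theorem D77507 : act 3 n35389 = n77507 := rfl
theorem F116376 : act 5 n77507 = n56466 := d6_2 F56090 D77507 F89333
theorem F116377 : act 7 n77507 = n35532 := d8_2 (iv7 F91529) D77507 (iv3 D35532)
theorem F116378 : act 4 n77507 = n58037 := d20_6 (iv4 F43476) (iv1 F43482) F28253 (iv3 F28164) (iv1 F56089) D77507 (iv1 D58037) (iv4 D27677) F22009 D13222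
def n77508 : Q := act 4 n35389
theorem D77508 : act 4 n35389 = n77508 := rfl
theorem F116379 : act 2 n77508 = n35538 := d1_1 D77508 (iv4 D35538) (iv2 F91528)
theorem F116380 : act 7 n77508 = n35533 := d11_2 (iv7 F91529) D77508 (iv4 D35533)
def n77509 : Q := act 6 n35389
theorem D77509 : act 6 n35389 = n77509 := rfl
theorem F116381 : act 2 n77509 = n35540 := d3_1 D77509 (iv6 D35540) (iv2 F91528)
theorem F116383 : act 7 n77509 = n56113 := d14_2 (iv7 F91529) D77509 (iv6 D56113) (iv7 F91534) (iv6 D35535)
def n77510 : Q := act 0 n35390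
theorem D77510 : act 0 n35390 = n77510 := rfl
def n77512 : Q := act 3 n35390
theorem D77512 : act 3 n35390 = n77512 := rfl
theorem F116385 : act 6 n77512 = n35396 := d7_2 (iv6 F56092) D77512 (iv3 D35396)
def n77514 : Q := act 7 n35390
theorem D77514 : act 7 n35390 = n77514 := rfl
theorem F116387 : act 2 n77514 = n35545 := d4_1 D77514 (iv7 D35545) (iv2 F56091)
theorem F116388 : act 4 n77514 = n35391 := d11_1 D77514 (iv7 D35391) D35390
theorem F116389 : act 1 n35545 = n77510 := d15_0 (iv0 D77510) D77514 F116387
theorem F116390 : act 1 n35542 = n77514 := d15_1 D35542 (iv7 D77514) F56091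
theorem F116391 : act 4 n38985 = n77510 := d20_6 (iv4 F41952) (iv1 D18555) (iv4 D8710) (iv3 F13615) D18503 D38985 (iv1 F116389) F56211 F28164 (iv1 F21397)
theorem F116392 : act 1 n77514 = n35541 := d15_0 (iv0 D35541) D35545 (iv2 F116387)
def n77515 : Q := act 6 n35392
theorem D77515 : act 6 n35392 = n77515 := rfl
theorem F116393 : act 2 n77515 = n35552 := d3_1 D77515 (iv6 D35552) (iv2 F56098)
theorem F116395 : act 4 n77515 = n36282 := d10_1 D77515 (iv6 D36282) F56103
theorem F116396 : act 5 n77515 = n37666 := d12_1 D77515 (iv6 D37666) (iv5 D18052) (iv6 F28122) D35392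
def n77516 : Q := act 6 n35393
theorem D77516 : act 6 n35393 = n77516 := rfl
theorem F116397 : act 2 n77516 = n35564 := d3_1 D77516 (iv6 D35564) (iv2 F56104)
theorem F116398 : act 3 n77516 = n75274 := d7_1 D77516 (iv6 D75274) (iv3 F56105)
theorem F116399 : act 4 n77516 = n36279 := d10_1 D77516 (iv6 D36279) (iv4 F56109)
def n77517 : Q := act 3 n35394
theorem D77517 : act 3 n35394 = n77517 := rfl
theorem F116401 : act 4 n77517 = n75161 := d5_2 (iv4 F56110) D77517 (iv3 D75161) (iv4 D34419) (iv3 F28439)
theorem F116402 : act 7 n77517 = n35582 := d8_2 F56113 D77517 (iv3 D35582)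
def n77518 : Q := act 5 n35394
theorem D77518 : act 5 n35394 = n77518 := rfl
theorem F116405 : act 4 n77518 = n56276 := d16_2 (iv4 F56110) D77518 (iv5 D56276) (iv4 D27114) (iv5 D12989) (iv4 F21596) D27113 F43832 F28496
theorem F116406 : act 0 n77518 = n56176 := d17_2 D35394 D77518 F88857 F43734 F21570 (iv0 F13432) D12947 (iv0 F21519) D17173
def n77519 : Q := act 6 n35394
theorem D77519 : act 6 n35394 = n77519 := rfl
theorem F116408 : act 2 n77519 = n35581 := d3_1 D77519 (iv6 D35581) F56112
theorem F116409 : act 4 n77519 = n36033 := d10_1 D77519 F56785 (iv4 F56110)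
def n77520 : Q := act 3 n35395
theorem D77520 : act 3 n35395 = n77520 := rfl
def n77521 : Q := act 5 n35395
theorem D77521 : act 5 n35395 = n77521 := rfl
theorem F116415 : act 1 n77521 = n56176 := d17_6 (iv1 F54621) (iv5 D18465) F21598 D27113 (iv4 F56116) D77521 F88857 (iv0 F88234) (iv4 D55786)
def n77522 : Q := act 6 n35395
theorem D77522 : act 6 n35395 = n77522 := rfl
theorem F116416 : act 2 n77522 = n35584 := d3_1 D77522 (iv6 D35584) F56117
theorem F116417 : act 4 n77522 = n56273 := d10_1 D77522 F89003 (iv4 F56116)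
def n77524 : Q := act 1 n35396
theorem D77524 : act 1 n35396 = n77524 := rfl
def n77525 : Q := act 2 n35396
theorem D77525 : act 2 n35396 = n77525 := rfl
def n77528 : Q := act 2 n35398
theorem D77528 : act 2 n35398 = n77528 := rfl
theorem F116421 : act 7 n35399 = n77528 := d15_2 (iv0 D35398) D35399 (iv2 D77528)
def n77529 : Q := act 3 n35398
theorem D77529 : act 3 n35398 = n77529 := rfl
def n77530 : Q := act 4 n35398
theorem D77530 : act 4 n35398 = n77530 := rfl
def n77531 : Q := act 5 n35398
theorem D77531 : act 5 n35398 = n77531 := rfl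
def n77532 : Q := act 6 n35398
theorem D77532 : act 6 n35398 = n77532 := rfl
def n77533 : Q := act 7 n35398
theorem D77533 : act 7 n35398 = n77533 := rfl
theorem F116422 : act 2 n77533 = n35399 := d4_1 D77533 F116421 (iv2 D77528)
def n77534 : Q := act 3 n35399
theorem D77534 : act 3 n35399 = n77534 := rfl
def n77535 : Q := act 4 n35399
theorem D77535 : act 4 n35399 = n77535 := rfl
def n77536 : Q := act 5 n35399
theorem D77536 : act 5 n35399 = n77536 := rfl
def n77537 : Q := act 6 n35399
theorem D77537 : act 6 n35399 = n77537 := rfl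
def n77538 : Q := act 0 n35400
theorem D77538 : act 0 n35400 = n77538 := rfl
def n77539 : Q := act 1 n35400
theorem D77539 : act 1 n35400 = n77539 := rfl
def n77540 : Q := act 4 n35400
theorem D77540 : act 4 n35400 = n77540 := rfl
theorem F116423 : act 6 n77540 = n36476 := d10_2 (iv6 F56120) D77540 (iv4 D36476)
theorem F116424 : act 0 n77540 = n58682 := d20_7 D18813 (iv1 F45067) F45068 (iv3 F91262) (iv1 D35419) (iv3 F56119) D77540 (iv4 D58682) (iv3 D27902) (iv1 F22105)
def n77541 : Q := act 7 n35400
theorem D77541 : act 7 n35400 = n77541 := rfl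
theorem F116425 : act 3 n77541 = n35421 := d8_1 D77541 (iv7 D35421) (iv3 F56119)
theorem F116426 : act 5 n77541 = n35401 := d13_1 D77541 (iv7 D35401) D35400
theorem F116427 : act 6 n77541 = n77343 := d14_1 D77541 (iv7 D77343) F56019 (iv7 F28633) (iv6 F56120)
def n77542 : Q := act 6 n35402
theorem D77542 : act 6 n35402 = n77542 := rfl
theorem F116428 : act 3 n77542 = n35403 := d7_1 D77542 (iv6 D35403) D35402
def n77543 : Q := act 0 n35403
theorem D77543 : act 0 n35403 = n77543 := rfl
def n77544 : Q := act 1 n35403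
theorem D77544 : act 1 n35403 = n77544 := rfl
def n77545 : Q := act 5 n35403
theorem D77545 : act 5 n35403 = n77545 := rfl
def n77546 : Q := act 7 n35403
theorem D77546 : act 7 n35403 = n77546 := rfl
def n77547 : Q := act 2 n35404
theorem D77547 : act 2 n35404 = n77547 := rfl
theorem F116429 : act 7 n35405 = n77547 := d15_2 (iv0 D35404) D35405 (iv2 D77547)
def n77548 : Q := act 3 n35404
theorem D77548 : act 3 n35404 = n77548 := rfl
def n77549 : Q := act 4 n35404
theorem D77549 : act 4 n35404 = n77549 := rfl
def n77550 : Q := act 5 n35404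
theorem D77550 : act 5 n35404 = n77550 := rfl
def n77551 : Q := act 6 n35404
theorem D77551 : act 6 n35404 = n77551 := rfl
def n77552 : Q := act 7 n35404
theorem D77552 : act 7 n35404 = n77552 := rfl
theorem F116430 : act 2 n77552 = n35405 := d4_1 D77552 F116429 (iv2 D77547)
def n77553 : Q := act 3 n35405
theorem D77553 : act 3 n35405 = n77553 := rfl
def n77554 : Q := act 4 n35405
theorem D77554 : act 4 n35405 = n77554 := rfl
def n77555 : Q := act 5 n35405
theorem D77555 : act 5 n35405 = n77555 := rfl
def n77556 : Q := act 6 n35405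
theorem D77556 : act 6 n35405 = n77556 := rfl
def n77557 : Q := act 0 n35406
theorem D77557 : act 0 n35406 = n77557 := rfl
def n77558 : Q := act 1 n35406
theorem D77558 : act 1 n35406 = n77558 := rfl
theorem F116431 : act 5 n77444 = n77558 := d21_6 D18312 F29512 (iv5 D17157) D17158 D35357 D77444 (iv1 D77558) (iv5 D35406) (iv6 D17176) (iv1 F13543)
def n77559 : Q := act 4 n35406
theorem D77559 : act 4 n35406 = n77559 := rfl
def n77560 : Q := act 7 n35406
theorem D77560 : act 7 n35406 = n77560 := rfl
theorem F116432 : act 5 n77560 = n35407 := d13_1 D77560 (iv7 D35407) D35406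
def n77564 : Q := act 4 n35408
theorem D77564 : act 4 n35408 = n77564 := rfl
theorem F116436 : act 2 n77564 = n35410 := d1_1 D77564 (iv4 D35410) D35408
theorem F116437 : act 7 n77564 = n35415 := d11_2 F56123 D77564 (iv4 D35415)
def n77565 : Q := act 5 n35408
theorem D77565 : act 5 n35408 = n77565 := rfl
theorem F116438 : act 2 n77565 = n35411 := d2_1 D77565 (iv5 D35411) D35408
theorem F116439 : act 7 n77565 = n35416 := d13_2 F56123 D77565 (iv5 D35416)
def n77566 : Q := act 6 n35408
theorem D77566 : act 6 n35408 = n77566 := rfl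
theorem F116440 : act 2 n77566 = n35412 := d3_1 D77566 (iv6 D35412) D35408
theorem F116441 : act 7 n35527 = n77566 := d15_2 (iv0 F57481) (iv0 F91322) F116440
theorem F116442 : act 7 n35417 = n56116 := d14_4 F116441 (iv6 D77566) (iv7 F56123) D35417 (iv6 F88780)
theorem F116443 : act 2 n35417 = n56062 := d15_3 F91496 D56116 (iv7 F116442)
theorem E10426 : n56058 = n17178 := (c3_4 D35417 F116443 (iv6 D56062) (iv2 F88726))
theorem E10427 : n35413 = n27039 := (((iv2 F56124)).symm.trans (sb E10426 F88726))
theorem E10428 : n35408 = n27038 := ((F56123).symm.trans (sb E10426 (iv7 D56058)))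
theorem E10431 : n56053 = n17177 := ((F88721).symm.trans (sb E10427 (iv7 D35413)))
theorem E10433 : n77564 = n56055 := (((D56055).symm.trans (sb E10428 D77564))).symm
theorem E10434 : n77565 = n56056 := (((D56056).symm.trans (sb E10428 D77565))).symm
theorem E10435 : n77566 = n56057 := (((D56057).symm.trans (sb E10428 D77566))).symm
theorem F116446 : act 2 n17177 = n27038 := (sb E10431 (iv2 D56053))
theorem F116447 : act 7 n17177 = n27039 := (sb E10431 (iv7 F88721))
theorem F116449 : act 2 n56055 = n35410 := (sb E10433 F116436)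
theorem F116450 : act 7 n56055 = n35415 := (sb E10433 F116437)
theorem F116451 : act 2 n56056 = n35411 := (sb E10434 F116438)
theorem F116452 : act 7 n56056 = n35416 := (sb E10434 F116439)
theorem F116453 : act 2 n56057 = n35412 := (sb E10435 F116440)
theorem F116454 : act 7 n56057 = n35527 := (sb E10435 (iv7 F116441))
theorem E10436 : n77382 = n36558 := ((c13_2 F116454 F57427 (iv7 F116187) (iv5 F88723))).symm
theorem F116455 : act 2 n36558 = n35335 := (sb E10436 (iv2 D77382))
theorem F116456 : act 7 n36558 = n35336 := (sb E10436 (iv7 F116187))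
theorem F116457 : act 2 n35527 = n77385 := d15_3 (iv0 F116189) F91354 F116454
theorem F116458 : act 7 n35412 = n77385 := d4_2 (iv7 F116454) F116453 (iv2 F116457)
theorem E10437 : n77387 = n36559 := (c13_3 F116458 (iv5 D77385) D77387 (iv5 F57419))
theorem F116459 : act 2 n36559 = n35336 := (sb E10437 F116192)
theorem F116460 : act 7 n36559 = n35335 := (sb E10437 (iv7 D77387))
theorem F116461 : act 2 n35416 = n56061 := d15_3 (iv0 F88727) (iv0 F88722) F116452
theorem F116463 : act 2 n35557 = n56161 := d3_3 F88831 F116461 (iv6 F88728)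
theorem F116464 : act 7 n56162 = n35557 := d15_2 (iv0 D56161) D56162 F116463
theorem F116465 : act 7 n35558 = n56161 := d15_2 (iv0 D35557) D35558 (iv2 F116463)
theorem F116466 : act 2 n56162 = n35558 := d4_3 F116465 (iv2 F116463) (iv7 F116464)
theorem F116468 : act 7 n56060 = n35410 := d11_2 F116447 D56060 (iv4 D35410)
theorem F116469 : act 2 n35415 = n56060 := d4_3 F116468 (iv2 F116449) F116450
def n77573 : Q := act 0 n35410
theorem D77573 : act 0 n35410 = n77573 := rfl
theorem F116472 : act 1 n35415 = n77573 := d15_0 (iv0 D77573) (iv7 F116468) (iv2 F116469)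
def n77574 : Q := act 1 n35410
theorem D77574 : act 1 n35410 = n77574 := rfl
theorem F116473 : act 1 n77574 = n35415 := d15_1 D77574 (iv7 F116450) F116449
def n77575 : Q := act 3 n35410
theorem D77575 : act 3 n35410 = n77575 := rfl
def n77576 : Q := act 5 n35410
theorem D77576 : act 5 n35410 = n77576 := rfl
def n77577 : Q := act 6 n35410
theorem D77577 : act 6 n35410 = n77577 := rfl
theorem F116474 : act 4 n77577 = n35412 := d10_1 D77577 (iv6 D35412) D35410
def n77578 : Q := act 1 n35411
theorem D77578 : act 1 n35411 = n77578 := rfl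
theorem F116475 : act 1 n77578 = n35416 := d15_1 D77578 (iv7 F116452) F116451
theorem F116476 : act 7 n77578 = n35510 := d15_2 (iv0 F57498) D77578 (iv2 F91362)
theorem F116477 : act 6 n77398 = n77578 := d14_5 F116476 (iv6 D35510) (iv7 F91353) (iv6 F88859) (iv7 F116199)
def n77580 : Q := act 6 n35411
theorem D77580 : act 6 n35411 = n77580 := rfl
def n77591 : Q := act 1 n35417
theorem D77591 : act 1 n35417 = n77591 := rfl
def n77592 : Q := act 5 n35417
theorem D77592 : act 5 n35417 = n77592 := rfl
theorem F116482 : act 7 n77592 = n56475 := d13_2 (iv7 F116442) D77592 (iv5 F91321)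
theorem F116483 : act 0 n77592 = n56423 := d21_7 (iv5 D36525) (iv1 F28681) (iv5 F28152) (iv6 F43696) (iv1 F43698) D35417 D77592 (iv5 D56423) D56424 (iv1 F91385)
theorem F116484 : act 0 n56420 = n77592 := d21_1 D56420 (iv5 D77592) (iv6 D35417) (iv1 D17178) (iv6 D8060) (iv5 F13443) (iv1 F4183) D6190 D13011 D27159
def n77593 : Q := act 4 n35418
theorem D77593 : act 4 n35418 = n77593 := rfl
def n77594 : Q := act 5 n35418
theorem D77594 : act 5 n35418 = n77594 := rfl
theorem F116486 : act 7 n77594 = n36526 := d13_2 (iv7 F91316) D77594 F57373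
theorem F116487 : act 6 n77594 = n77453 := d21_3 D17179 D35418 D77594 (iv1 F116259) F56208 D56420 F116484 (iv5 D77592) (iv6 D35417) (iv1 D17178)
theorem F116488 : act 0 n36508 = n77594 := d21_10 (iv5 D77594) (iv1 F56262) F56259 F43696 F91191 (iv6 F91203) F91202 (iv1 D35513) F28655 D36508
theorem F116489 : act 1 n36643 = n77594 := d15_1 F91363 F116486 F91319
def n77595 : Q := act 6 n35418
theorem D77595 : act 6 n35418 = n77595 := rfl
def n77596 : Q := act 4 n35419
theorem D77596 : act 4 n35419 = n77596 := rfl
def n77597 : Q := act 0 n35420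
theorem D77597 : act 0 n35420 = n77597 := rfl
def n77598 : Q := act 1 n35420
theorem D77598 : act 1 n35420 = n77598 := rfl
def n77599 : Q := act 3 n35420
theorem D77599 : act 3 n35420 = n77599 := rfl
theorem F116491 : act 6 n77599 = n36486 := d7_2 (iv6 F56126) D77599 (iv3 D36486)
def n77600 : Q := act 5 n35420
theorem D77600 : act 5 n35420 = n77600 := rfl
def n77601 : Q := act 7 n35420
theorem D77601 : act 7 n35420 = n77601 := rfl
theorem F116492 : act 4 n77601 = n35421 := d11_1 D77601 (iv7 D35421) D35420
theorem F116493 : act 6 n77601 = n77395 := d14_1 D77601 (iv7 D77395) F56048 (iv7 F28647) (iv6 F56126)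
def n77602 : Q := act 0 n35423
theorem D77602 : act 0 n35423 = n77602 := rfl
theorem F116494 : act 4 n77602 = n47216 := d18_3 F56135 (iv4 F56133) D77602 (iv5 D47216) (iv4 D22713) (iv0 F59336) (iv4 F35134) F59041 F59040
theorem F116495 : act 1 n57345 = n77602 := d15_0 (iv0 D77602) F56134 D57345
theorem F116496 : act 0 n77459 = n47216 := d20_10 (iv4 F116494) (iv1 F116495) F90529 F54818 F27520 (iv3 F29449) (iv4 F30989) D41137 F62346 D77459
theorem F116497 : act 5 n77267 = n41137 := d19_17 F116496 (iv5 D47216) (iv4 D22713) (iv3 D10747) F13568 F13565 (iv4 D4723) F3266 (iv1 F3268) (iv5 F7108) D1776 D4139 (iv1 F6056) D8011 D17121 D35272 D77267 F62346 D77459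
def n77603 : Q := act 1 n35423
theorem D77603 : act 1 n35423 = n77603 := rfl
def n77604 : Q := act 5 n35423
theorem D77604 : act 5 n35423 = n77604 := rfl
theorem F116499 : act 2 n77604 = n76659 := d2_1 D77604 F114990 F59411
theorem F116500 : act 3 n77604 = n35424 := d6_1 D77604 (iv5 D35424) D35423
theorem F116501 : act 7 n77604 = n56989 := d13_2 (iv7 F56134) D77604 F90069
def n77605 : Q := act 6 n35423
theorem D77605 : act 6 n35423 = n77605 := rfl
theorem F116502 : act 3 n77605 = n35425 := d7_1 D77605 (iv6 D35425) D35423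
theorem F116503 : act 4 n77605 = n35430 := d10_1 D77605 (iv6 D35430) (iv4 F56133)
theorem F116504 : act 7 n57806 = n77605 := d8_0 F116502 F91148 D57806
def n77606 : Q := act 6 n35424
theorem D77606 : act 6 n35424 = n77606 := rfl
theorem F116505 : act 2 n77606 = n56992 := d3_1 D77606 (iv6 D56992) (iv2 F56137)
theorem F116506 : act 4 n77606 = n56990 := d10_1 D77606 (iv6 D56990) (iv4 F56139)
def n77607 : Q := act 5 n35425
theorem D77607 : act 5 n35425 = n77607 := rfl
theorem F116507 : act 2 n77607 = n57355 := d2_1 D77607 (iv5 D57355) (iv2 F56142)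
theorem F116508 : act 7 n77607 = n57808 := d13_2 (iv7 F91148) D77607 (iv5 D57808)
def n77608 : Q := act 3 n35429
theorem D77608 : act 3 n35429 = n77608 := rfl
theorem F116509 : act 4 n77608 = n71541 := d5_2 F90776 D77608 F108057 (iv4 F52937) (iv3 F90775)
def n77609 : Q := act 6 n35429
theorem D77609 : act 6 n35429 = n77609 := rfl
def n77610 : Q := act 0 n35430
theorem D77610 : act 0 n35430 = n77610 := rfl
def n77611 : Q := act 1 n35430
theorem D77611 : act 1 n35430 = n77611 := rfl
def n77612 : Q := act 5 n35430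
theorem D77612 : act 5 n35430 = n77612 := rfl
theorem F116510 : act 3 n77612 = n35434 := d6_1 D77612 (iv5 D35434) (iv3 F56147)
def n77613 : Q := act 7 n35430
theorem D77613 : act 7 n35430 = n77613 := rfl
theorem F116511 : act 3 n77613 = n35435 := d8_1 D77613 (iv7 D35435) (iv3 F56147)
theorem F116512 : act 4 n77613 = n57806 := d11_1 D77613 F116504 F116503
def n77614 : Q := act 0 n35431
theorem D77614 : act 0 n35431 = n77614 := rfl
def n77615 : Q := act 1 n35431
theorem D77615 : act 1 n35431 = n77615 := rfl
theorem F116513 : act 1 n77615 = n75558 := d15_1 D77615 (iv7 D75558) (iv2 F56148)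
def n77616 : Q := act 5 n35431
theorem D77616 : act 5 n35431 = n77616 := rfl
theorem F116515 : act 6 n77616 = n35434 := d12_2 D35431 D77616 (iv5 D35434) (iv6 D17186) D17185
def n77617 : Q := act 7 n35431
theorem D77617 : act 7 n35431 = n77617 := rfl
theorem F116516 : act 2 n77617 = n75558 := d4_1 D77617 (iv7 D75558) (iv2 F56148)
theorem F116517 : act 1 n75558 = n77614 := d15_0 (iv0 D77614) D77617 F116516
theorem F116518 : act 1 n75556 = n77617 := d15_1 D75556 (iv7 D77617) F56148
theorem F116519 : act 1 n77617 = n75555 := d15_0 (iv0 D75555) D75558 (iv2 F116516)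
def n77618 : Q := act 3 n35432
theorem D77618 : act 3 n35432 = n77618 := rfl
def n77619 : Q := act 5 n35432
theorem D77619 : act 5 n35432 = n77619 := rfl
def n77620 : Q := act 6 n35432
theorem D77620 : act 6 n35432 = n77620 := rfl
theorem F116520 : act 2 n77620 = n38782 := d3_1 D77620 F59678 F91568
theorem F116521 : act 4 n77620 = n38773 := d10_1 D77620 (iv6 F59673) (iv4 F91569)
def n77621 : Q := act 0 n35434
theorem D77621 : act 0 n35434 = n77621 := rfl
def n77622 : Q := act 1 n35434
theorem D77622 : act 1 n35434 = n77622 := rfl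
theorem F116522 : act 5 n75748 = n77622 := d21_6 (iv5 F29536) (iv1 D18353) F13555 D17146 D35321 (iv6 F113612) (iv1 D77622) (iv5 D35434) (iv6 D17186) (iv1 F28135)
def n77623 : Q := act 4 n35434
theorem D77623 : act 4 n35434 = n77623 := rfl
def n77624 : Q := act 7 n35434
theorem D77624 : act 7 n35434 = n77624 := rfl
theorem F116523 : act 5 n77624 = n35435 := d13_1 D77624 (iv7 D35435) D35434
def n77625 : Q := act 3 n35443
theorem D77625 : act 3 n35443 = n77625 := rfl
def n77626 : Q := act 5 n35443
theorem D77626 : act 5 n35443 = n77626 := rfl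
def n77627 : Q := act 6 n35443
theorem D77627 : act 6 n35443 = n77627 := rfl
theorem F116524 : act 4 n77627 = n35445 := d10_1 D77627 (iv6 D35445) D35443
def n77628 : Q := act 4 n35444
theorem D77628 : act 4 n35444 = n77628 := rfl
theorem F116525 : act 2 n77628 = n40264 := d1_1 D77628 F61246 (iv2 F91179)
theorem F116526 : act 6 n77628 = n40258 := d10_2 F91183 D77628 (iv4 D40258)
def n77629 : Q := act 4 n35446
theorem D77629 : act 4 n35446 = n77629 := rfl
def n77630 : Q := act 6 n35446
theorem D77630 : act 6 n35446 = n77630 := rfl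
theorem F116527 : act 3 n77630 = n37898 := d7_1 D77630 (iv6 D37898) (iv3 F56155)
def n77631 : Q := act 3 n35447
theorem D77631 : act 3 n35447 = n77631 := rfl
theorem F116528 : act 2 n77631 = n37896 := d0_1 D77631 (iv3 D37896) (iv2 F34405) (iv3 F72367) F86808
theorem F116529 : act 5 n77631 = n38275 := d6_2 (iv5 F86809) D77631 (iv3 F72362)
def n77632 : Q := act 4 n35447
theorem D77632 : act 4 n35447 = n77632 := rfl
theorem F116530 : act 3 n77632 = n40045 := d19_3 (iv1 F72365) (iv5 F86809) D77632 (iv1 F77284) F77281 F62349 F59057 (iv1 F42577) F42578 (iv4 F40606) F40603 F37251 (iv5 D15287) (iv4 F12044) F12043 F26771 (iv5 F27018) D12703 D26569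
def n77633 : Q := act 6 n35447
theorem D77633 : act 6 n35447 = n77633 := rfl
def n77634 : Q := act 4 n35448
theorem D77634 : act 4 n35448 = n77634 := rfl
theorem F116531 : act 2 n77634 = n35449 := d1_1 D77634 (iv4 D35449) D35448
theorem F116532 : act 1 n77634 = n48996 := d15_0 (iv0 F77331) F60963 (iv2 F116531)
theorem F116533 : act 1 n73427 = n77634 := d15_0 F116532 F77330 (iv2 F110130)
theorem F116534 : act 5 n77634 = n73417 := d19_1 (iv1 F116532) (iv4 F110118) (iv3 D57280) (iv1 D27430) D27432 (iv4 F52949) (iv3 D33679) (iv1 F46205) F46206 (iv4 D16194) F11805 (iv1 F25745) F21274 F12044 (iv3 F12537) (iv1 F12541) (iv5 F37308) D23906 D48996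
def n77635 : Q := act 6 n35448
theorem D77635 : act 6 n35448 = n77635 := rfl
theorem F116535 : act 2 n77635 = n35451 := d3_1 D77635 (iv6 D35451) D35448
def n77636 : Q := act 5 n35449
theorem D77636 : act 5 n35449 = n77636 := rfl
theorem F116536 : act 2 n77636 = n73417 := d2_1 D77636 (iv5 F116534) F116531
theorem F116537 : act 3 n77636 = n40554 := d6_1 D77636 (iv5 D40554) (iv3 F56156)
theorem F116538 : act 7 n77636 = n73416 := d13_2 F60963 D77636 F110116
theorem F116539 : act 0 n55105 = n77636 := d19_0 (iv5 D77636) (iv4 D35449) (iv3 D17190) (iv1 F21523) (iv5 F43394) (iv4 D26897) (iv3 F42682) (iv1 F52311) (iv5 D33091) (iv4 F51724) F51721 (iv1 F46094) (iv5 D13623) (iv4 D6482) D6481 D13617 D28563 F46128 D55105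
theorem F116540 : act 1 n57471 = n77636 := d15_0 (iv0 F116539) F87170 (iv2 F90645)
def n77637 : Q := act 6 n35449
theorem D77637 : act 6 n35449 = n77637 := rfl
theorem F116541 : act 3 n77637 = n40555 := d7_1 D77637 (iv6 D40555) (iv3 F56156)
def n77638 : Q := act 4 n35450
theorem D77638 : act 4 n35450 = n77638 := rfl
theorem F116543 : act 2 n77638 = n70542 := d1_1 D77638 F107002 (iv2 F72439)
theorem F116544 : act 3 n77638 = n45188 := d5_1 D77638 F88111 F88109 F43371 (iv3 F56157)
theorem F116545 : act 0 n77638 = n76728 := d17_0 (iv5 D76728) (iv1 D35069) D35071 (iv4 F55689) D39292 F60275 F57430 (iv0 F56158) D77638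
theorem F116546 : act 0 n76724 = n77638 := d20_7 (iv4 D27124) (iv1 F43388) F43385 (iv3 F34458) (iv1 F54808) D75525 (iv4 F115102) (iv4 D77638) F56157 (iv1 F43863)
def n77639 : Q := act 6 n35450
theorem D77639 : act 6 n35450 = n77639 := rfl
theorem F116547 : act 3 n77639 = n35452 := d7_1 D77639 (iv6 D35452) (iv3 F56157)
def n77640 : Q := act 0 n35451
theorem D77640 : act 0 n35451 = n77640 := rfl
def n77641 : Q := act 1 n35451
theorem D77641 : act 1 n35451 = n77641 := rfl
def n77642 : Q := act 5 n35451
theorem D77642 : act 5 n35451 = n77642 := rfl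
theorem F116548 : act 3 n77642 = n35455 := d6_1 D77642 (iv5 D35455) (iv3 F56159)
def n77643 : Q := act 7 n35451
theorem D77643 : act 7 n35451 = n77643 := rfl
theorem F116549 : act 3 n77643 = n35456 := d8_1 D77643 (iv7 D35456) (iv3 F56159)
def n77644 : Q := act 0 n35452
theorem D77644 : act 0 n35452 = n77644 := rfl
def n77645 : Q := act 1 n35452
theorem D77645 : act 1 n35452 = n77645 := rfl
def n77646 : Q := act 5 n35452
theorem D77646 : act 5 n35452 = n77646 := rfl
theorem F116550 : act 6 n77646 = n35455 := d12_2 D35452 D77646 (iv5 D35455) (iv6 D17192) D17191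
def n77647 : Q := act 7 n35452
theorem D77647 : act 7 n35452 = n77647 := rfl
def n77658 : Q := act 0 n35455
theorem D77658 : act 0 n35455 = n77658 := rfl
def n77659 : Q := act 1 n35455
theorem D77659 : act 1 n35455 = n77659 := rfl
def n77660 : Q := act 4 n35455
theorem D77660 : act 4 n35455 = n77660 := rfl
def n77661 : Q := act 7 n35455
theorem D77661 : act 7 n35455 = n77661 := rfl
theorem F116553 : act 5 n77661 = n35456 := d13_1 D77661 (iv7 D35456) D35455
def n77662 : Q := act 3 n35457
theorem D77662 : act 3 n35457 = n77662 := rfl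
theorem F116554 : act 2 n77662 = n47216 := d0_1 D77662 (iv3 F110301) (iv2 F110299) F87066 (iv2 F86756)
theorem F116555 : act 5 n77662 = n39278 := d6_2 (iv5 F56160) D77662 (iv3 D39278)
theorem F116556 : act 0 n77662 = n73043 := d19_4 D52930 (iv5 F106894) F106895 D77662 F109565 (iv4 F74248) (iv3 D46859) (iv1 F35069) F34697 (iv4 F68075) F68074 (iv1 F32573) F31815 F24726 F11512 (iv1 F11496) (iv5 F21304) (iv4 F41821) (iv3 F41823)
theorem F116557 : act 4 n77662 = n57344 := d20_6 (iv4 D18309) (iv1 F16295) (iv4 F16296) D17193 D35457 D77662 (iv1 D57344) F44371 (iv3 D27036) (iv1 F29509)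
theorem F116558 : act 2 n57344 = n77602 := d1_1 F116557 F116494 (iv2 F116554)
theorem F116559 : act 0 n73039 = n77662 := d18_0 F116557 (iv1 D57344) F44371 F54809 (iv4 F54814) F51875 (iv4 F107102) (iv0 F107105) (iv5 F109560)
theorem F116560 : act 7 n77603 = n57344 := d15_2 (iv0 D77602) D77603 F116558
theorem F116561 : act 7 n57343 = n77602 := d15_2 F90531 F90527 (iv2 F116558)
theorem F116562 : act 2 n77603 = n57343 := d4_3 F116561 (iv2 F116558) (iv7 F116560)
def n77663 : Q := act 6 n35457
theorem D77663 : act 6 n35457 = n77663 := rfl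
def n77664 : Q := act 6 n35458
theorem D77664 : act 6 n35458 = n77664 := rfl
def n77665 : Q := act 0 n35459
theorem D77665 : act 0 n35459 = n77665 := rfl
def n77666 : Q := act 1 n35459
theorem D77666 : act 1 n35459 = n77666 := rfl
def n77667 : Q := act 5 n35459
theorem D77667 : act 5 n35459 = n77667 := rfl
theorem F116563 : act 3 n77667 = n35463 := d6_1 D77667 (iv5 D35463) (iv3 F56162)
def n77668 : Q := act 7 n35459
theorem D77668 : act 7 n35459 = n77668 := rfl
theorem F116564 : act 3 n77668 = n35464 := d8_1 D77668 (iv7 D35464) (iv3 F56162)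
def n77669 : Q := act 0 n35460
theorem D77669 : act 0 n35460 = n77669 := rfl
def n77670 : Q := act 1 n35460
theorem D77670 : act 1 n35460 = n77670 := rfl
def n77671 : Q := act 5 n35460
theorem D77671 : act 5 n35460 = n77671 := rfl
theorem F116565 : act 6 n77671 = n35463 := d12_2 D35460 D77671 (iv5 D35463) (iv6 D17195) D17194
def n77672 : Q := act 7 n35460
theorem D77672 : act 7 n35460 = n77672 := rfl
def n77683 : Q := act 0 n35463
theorem D77683 : act 0 n35463 = n77683 := rfl
def n77684 : Q := act 1 n35463
theorem D77684 : act 1 n35463 = n77684 := rfl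
def n77685 : Q := act 4 n35463
theorem D77685 : act 4 n35463 = n77685 := rfl
def n77686 : Q := act 7 n35463
theorem D77686 : act 7 n35463 = n77686 := rfl
theorem F116568 : act 5 n77686 = n35464 := d13_1 D77686 (iv7 D35464) D35463
def n77687 : Q := act 6 n35465
theorem D77687 : act 6 n35465 = n77687 := rfl
theorem F116569 : act 2 n77687 = n39293 := d3_1 D77687 (iv6 D39293) (iv2 F56163)
theorem F116570 : act 3 n77687 = n35466 := d7_1 D77687 (iv6 D35466) D35465
def n77688 : Q := act 0 n35466
theorem D77688 : act 0 n35466 = n77688 := rfl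
def n77689 : Q := act 1 n35466
theorem D77689 : act 1 n35466 = n77689 := rfl
def n77690 : Q := act 5 n35466
theorem D77690 : act 5 n35466 = n77690 := rfl
def n77691 : Q := act 7 n35466
theorem D77691 : act 7 n35466 = n77691 := rfl
def n77692 : Q := act 0 n35467
theorem D77692 : act 0 n35467 = n77692 := rfl
def n77693 : Q := act 1 n35467
theorem D77693 : act 1 n35467 = n77693 := rfl
def n77694 : Q := act 5 n35467
theorem D77694 : act 5 n35467 = n77694 := rfl
theorem F116572 : act 3 n77694 = n39287 := d6_1 D77694 (iv5 D39287) (iv3 F56165)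
theorem F116573 : act 6 n77694 = n56437 := d12_2 D35467 D77694 (iv5 D56437) (iv6 D27166) (iv5 F28156)
def n77695 : Q := act 7 n35467
theorem D77695 : act 7 n35467 = n77695 := rfl
theorem F116574 : act 3 n77695 = n39288 := d8_1 D77695 (iv7 D39288) (iv3 F56165)
def n77696 : Q := act 0 n35468
theorem D77696 : act 0 n35468 = n77696 := rfl
theorem F116575 : act 5 n77696 = n56277 := d17_3 (iv1 D36063) (iv5 F56166) D77696 (iv4 F108918) (iv5 D38191) (iv0 D18252) D18255 D38201 F71077
def n77697 : Q := act 1 n35468
theorem D77697 : act 1 n35468 = n77697 := rfl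
def n77703 : Q := act 2 n35470
theorem D77703 : act 2 n35470 = n77703 := rfl
theorem F116585 : act 7 n35471 = n77703 := d15_2 (iv0 D35470) D35471 (iv2 D77703)
def n77704 : Q := act 3 n35470
theorem D77704 : act 3 n35470 = n77704 := rfl
def n77705 : Q := act 4 n35470
theorem D77705 : act 4 n35470 = n77705 := rfl
def n77706 : Q := act 5 n35470
theorem D77706 : act 5 n35470 = n77706 := rfl
def n77707 : Q := act 6 n35470
theorem D77707 : act 6 n35470 = n77707 := rfl
def n77708 : Q := act 7 n35470
theorem D77708 : act 7 n35470 = n77708 := rfl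
theorem F116586 : act 2 n77708 = n35471 := d4_1 D77708 F116585 (iv2 D77703)
def n77709 : Q := act 3 n35471
theorem D77709 : act 3 n35471 = n77709 := rfl
def n77710 : Q := act 4 n35471
theorem D77710 : act 4 n35471 = n77710 := rfl
def n77711 : Q := act 5 n35471
theorem D77711 : act 5 n35471 = n77711 := rfl
def n77712 : Q := act 6 n35471
theorem D77712 : act 6 n35471 = n77712 := rfl
def n77713 : Q := act 0 n35472
theorem D77713 : act 0 n35472 = n77713 := rfl
def n77714 : Q := act 1 n35472
theorem D77714 : act 1 n35472 = n77714 := rfl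
def n77715 : Q := act 4 n35472
theorem D77715 : act 4 n35472 = n77715 := rfl
def n77716 : Q := act 7 n35472
theorem D77716 : act 7 n35472 = n77716 := rfl
theorem F116588 : act 5 n77716 = n35473 := d13_1 D77716 (iv7 D35473) D35472
def n77719 : Q := act 3 n35474
theorem D77719 : act 3 n35474 = n77719 := rfl
theorem F116591 : act 7 n77719 = n35480 := d8_2 F56170 D77719 (iv3 D35480)
def n77720 : Q := act 4 n35474
theorem D77720 : act 4 n35474 = n77720 := rfl
theorem F116592 : act 2 n77720 = n35476 := d1_1 D77720 (iv4 D35476) D35474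
theorem F116593 : act 7 n77720 = n35481 := d11_2 F56170 D77720 (iv4 D35481)
theorem F116594 : act 3 n38895 = n77720 := d8_3 F116593 (iv3 F56172) F59933
def n77721 : Q := act 5 n35474
theorem D77721 : act 5 n35474 = n77721 := rfl
theorem F116595 : act 2 n77721 = n35477 := d2_1 D77721 (iv5 D35477) D35474
theorem F116596 : act 7 n77721 = n35482 := d13_2 F56170 D77721 (iv5 D35482)
def n77722 : Q := act 6 n35474
theorem D77722 : act 6 n35474 = n77722 := rfl
theorem F116597 : act 2 n77722 = n35478 := d3_1 D77722 (iv6 D35478) D35474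
def n77723 : Q := act 0 n35475
theorem D77723 : act 0 n35475 = n77723 := rfl
def n77724 : Q := act 1 n35475
theorem D77724 : act 1 n35475 = n77724 := rfl
def n77725 : Q := act 2 n35475
theorem D77725 : act 2 n35475 = n77725 := rfl
def n77726 : Q := act 4 n35475
theorem D77726 : act 4 n35475 = n77726 := rfl
def n77727 : Q := act 5 n35475
theorem D77727 : act 5 n35475 = n77727 := rfl
theorem F116598 : act 3 n77727 = n35477 := d6_1 D77727 (iv5 D35477) D35475
def n77728 : Q := act 6 n35475
theorem D77728 : act 6 n35475 = n77728 := rfl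
theorem F116599 : act 3 n77728 = n35478 := d7_1 D77728 (iv6 D35478) D35475
def n77729 : Q := act 7 n35475
theorem D77729 : act 7 n35475 = n77729 := rfl
theorem F116600 : act 3 n77729 = n35479 := d8_1 D77729 (iv7 D35479) D35475
def n77730 : Q := act 0 n35476
theorem D77730 : act 0 n35476 = n77730 := rfl
def n77731 : Q := act 1 n35476
theorem D77731 : act 1 n35476 = n77731 := rfl
theorem F116601 : act 1 n77731 = n35481 := d15_1 D77731 (iv7 F116593) F116592
def n77732 : Q := act 3 n35476
theorem D77732 : act 3 n35476 = n77732 := rfl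
theorem F116602 : act 2 n77732 = n38896 := d0_1 D77732 (iv3 D38896) D38895 F116594 F116592
theorem F116603 : act 0 n77732 = n39001 := d20_4 (iv4 F12864) D17200 D35476 D77732 (iv3 D39001) D39002 F60016 (iv4 D35519) (iv3 D17210) (iv1 D8071)
def n77733 : Q := act 5 n35476
theorem D77733 : act 5 n35476 = n77733 := rfl
def n77734 : Q := act 6 n35476
theorem D77734 : act 6 n35476 = n77734 := rfl
theorem F116604 : act 4 n77734 = n35478 := d10_1 D77734 (iv6 D35478) D35476
def n77735 : Q := act 7 n35476
theorem D77735 : act 7 n35476 = n77735 := rfl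
theorem F116605 : act 2 n77735 = n35481 := d4_1 D77735 (iv7 F116593) F116592
theorem F116607 : act 1 n35481 = n77730 := d15_0 (iv0 D77730) D77735 F116605
def n77736 : Q := act 0 n35477
theorem D77736 : act 0 n35477 = n77736 := rfl
theorem F116608 : act 5 n77736 = n77451 := d17_3 D17200 D35477 D77736 F116251 (iv5 F56192) (iv0 D35507) (iv5 D17207) (iv0 D8070) (iv4 F12864)
theorem E10438 : n77325 = n27166 := (c21_5 D35477 D77736 F116608 (iv6 D77451) (iv1 F116126) (iv6 D27166) (iv5 F28156) (iv1 D17197) (iv5 D8068) D8069 D17200)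
theorem E10439 : n56435 = n35297 := ((D56435).symm.trans (sb E10438 (iv1 D77325)))
theorem E10440 : n56436 = n35368 := ((D56436).symm.trans (sb E10438 F116126))
theorem E10441 : n75737 = n17642 := (((F43930).symm.trans (sb E10438 F116129))).symm
theorem E10442 : n55587 = n17908 := (((F43931).symm.trans (sb E10438 (iv4 F116128)))).symm
theorem E10443 : n75739 = n56438 := (((D56438).symm.trans (sb E10438 F116127))).symm
theorem E10444 : n77324 = n36572 := ((D77324).symm.trans (sb E10439 (iv1 F89316)))
theorem F116609 : act 1 n35297 = n27166 := (sb E10439 (iv0 D56435))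
theorem F116610 : act 0 n35368 = n27166 := (sb E10440 (iv1 D56436))
theorem E10445 : n36569 = n36524 := ((D36569).symm.trans (sb E10441 F113604))
theorem E10446 : n36570 = n36529 := ((D36570).symm.trans (sb E10441 F113603))
theorem E10447 : n34637 = n17432 := (((F28714).symm.trans (sb E10441 (iv4 D75737)))).symm
theorem E10448 : n37261 = n34493 := ((D37261).symm.trans (sb E10442 F91437))
theorem E10449 : n37262 = n34639 := ((D37262).symm.trans (sb E10442 F113047))
theorem E10450 : n26836 = n8455 := (((F29082).symm.trans (sb E10442 (iv3 D55587)))).symm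
theorem E10451 : n27859 = n21542 := ((((iv5 F33889)).symm.trans (sb E10442 F87913))).symm
theorem E10452 : n37263 = n34638 := ((D37263).symm.trans (sb E10442 (iv7 F91403)))
theorem E10453 : n77225 = n36580 := (((F89315).symm.trans (sb E10443 (iv6 F115991)))).symm
theorem F116611 : act 0 n36572 = n35368 := (sb E10444 (iv1 F116123))
theorem F116612 : act 1 n36572 = n35297 := (sb E10444 (iv0 D77324))
theorem E10454 : n75349 = n36007 := (((F57443).symm.trans (sb E10444 F116122))).symm
theorem F116613 : act 0 n36524 = n56438 := (sb E10445 (iv1 F89318))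
theorem F116614 : act 1 n36524 = n17642 := (sb E10445 (iv0 D36569))
theorem F116615 : act 0 n36529 = n17642 := (sb E10446 (iv1 D36570))
theorem F116616 : act 1 n36529 = n56438 := (sb E10446 F89317)
theorem E10455 : n75350 = n36005 := (((D36005).symm.trans (sb E10447 (iv1 F113045)))).symm
theorem E10456 : n36006 = n16780 := ((D36006).symm.trans (sb E10447 (iv0 D34637)))
theorem E10457 : n55480 = n19162 := ((((iv3 F30792)).symm.trans (sb E10447 F91469))).symm
theorem E10458 : n18435 = n17736 := ((((iv5 F28845)).symm.trans (sb E10447 F91470))).symm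
theorem F116617 : act 1 n34493 = n17908 := (sb E10448 (iv0 D37261))
theorem F116618 : act 0 n34639 = n17908 := (sb E10449 (iv1 D37262))
theorem E10460 : n17914 = n16817 := ((D17914).symm.trans (sb E10450 (iv1 F43222)))
theorem E10461 : n17915 = n12832 := ((D17915).symm.trans (sb E10450 (iv0 D26836)))
theorem E10462 : n16816 = n10305 := ((((iv2 F16387)).symm.trans (sb E10450 F61597))).symm
theorem E10463 : n55588 = n17913 := ((((iv4 F29088)).symm.trans (sb E10450 D55588))).symm
theorem E10464 : n13287 = n10288 := ((((iv5 F17012)).symm.trans (sb E10450 F61105))).symm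
theorem E10466 : n17916 = n16815 := ((D17916).symm.trans (sb E10450 F61598))
theorem E10467 : n45112 = n18263 := ((D45112).symm.trans (sb E10451 F90452))
theorem E10468 : n45113 = n18437 := ((D45113).symm.trans (sb E10451 F90453))
theorem E10469 : n40262 = n17195 := (((F33888).symm.trans (sb E10451 F61238))).symm
theorem E10471 : n45114 = n18436 := ((D45114).symm.trans (sb E10451 F61098))
theorem F116619 : act 4 n34638 = n56438 := (sb E10452 (iv4 F89314))
theorem E10472 : n75740 = n36034 := ((D75740).symm.trans (sb E10452 F58210))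
theorem F116620 : act 7 n34638 = n17908 := (sb E10452 (iv7 D37263))
theorem E10473 : n56432 = n35255 := (((iv1 F89303)).symm.trans (sb E10453 (iv1 D77225)))
theorem E10474 : n56431 = n35327 := ((F89308).symm.trans (sb E10453 F115989))
theorem F116621 : act 0 n36007 = n34639 := (sb E10454 (iv1 F113046))
theorem F116622 : act 1 n36007 = n34493 := (sb E10454 (iv0 D75349))
theorem F116623 : act 2 n36007 = n34638 := (sb E10454 (iv2 F112980))
theorem E10475 : n38224 = n36790 := ((((iv5 F57705)).symm.trans (sb E10454 F112981))).symm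
theorem F116624 : act 0 n36005 = n34638 := (sb E10455 (iv1 F113053))
theorem F116625 : act 2 n36005 = n34493 := (sb E10455 (iv2 D75350))
theorem F116626 : act 3 n36005 = n34616 := (sb E10455 (iv3 F113066))
theorem F116627 : act 4 n36005 = n35357 := (sb E10455 F113052)
theorem F116628 : act 7 n36005 = n34639 := (sb E10455 F113042)
theorem F116629 : act 0 n16780 = n17432 := (sb E10456 (iv1 D36006))
theorem E10476 : n40565 = n26791 := ((D40565).symm.trans (sb E10457 (iv1 D55480)))
theorem E10477 : n34719 = n21567 := ((((iv2 F33946)).symm.trans (sb E10457 (iv2 F87773)))).symm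
theorem E10479 : n27590 = n21201 := ((((iv5 F33438)).symm.trans (sb E10457 F87771))).symm
theorem E10480 : n38226 = n36788 := (((D36788).symm.trans (sb E10458 (iv1 F59090)))).symm
theorem E10481 : n36789 = n8671 := ((D36789).symm.trans (sb E10458 (iv0 D18435)))
theorem E10482 : n38764 = n27043 := ((((iv4 F43707)).symm.trans (sb E10458 D38764))).symm
theorem E10484 : n26837 = n21573 := (((iv1 F43226)).symm.trans (sb E10460 (iv1 F33961)))
theorem F116630 : act 1 n16817 = n8455 := (sb E10460 (iv0 D17914))
theorem E10488 : n37282 = n34724 := (((D34724).symm.trans (sb E10460 D37282))).symm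
theorem E10489 : n37283 = n34725 := (((D34725).symm.trans (sb E10460 D37283))).symm
theorem F116631 : act 0 n12832 = n8455 := (sb E10461 (iv1 D17915))
theorem E10493 : n37287 = n26840 := (((D26840).symm.trans (sb E10461 D37287))).symm
theorem E10495 : n21571 = n7847 := ((D21571).symm.trans (sb E10462 (iv1 D16816)))
theorem E10496 : n26838 = n21572 := (((D21572).symm.trans (sb E10462 F43227))).symm
theorem E10497 : n34720 = n21570 := ((((iv4 F33954)).symm.trans (sb E10462 D34720))).symm
theorem E10498 : n8782 = n8446 := (((F17011).symm.trans (sb E10462 (iv5 F61600)))).symm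
theorem E10500 : n37278 = n34715 := ((D37278).symm.trans (sb E10463 F87916))
theorem E10501 : n21546 = n8783 := ((D21546).symm.trans (sb E10464 (iv1 F22086)))
theorem E10502 : n21547 = n6305 := ((D21547).symm.trans (sb E10464 (iv0 D13287)))
theorem E10503 : n27860 = n21545 := ((((iv4 F33897)).symm.trans (sb E10464 D27860))).symm
theorem E10505 : n21548 = n8781 := ((D21548).symm.trans (sb E10464 F61096))
theorem E10507 : n34717 = n21566 := ((D34717).symm.trans (sb E10466 (iv6 F33942)))
theorem F116632 : act 7 n16815 = n8455 := (sb E10466 (iv7 D17916))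
theorem F116633 : act 1 n18263 = n21542 := (sb E10467 (iv0 D45112))
theorem F116634 : act 0 n18437 = n21542 := (sb E10468 (iv1 D45113))
theorem E10508 : n35461 = n19022 := ((D35461).symm.trans (sb E10469 (iv1 D40262)))
theorem E10509 : n35462 = n35443 := ((D35462).symm.trans (sb E10469 F91581))
theorem E10510 : n38769 = n35464 := (((D35464).symm.trans (sb E10469 F61240))).symm
theorem E10511 : n38771 = n36793 := ((D38771).symm.trans (sb E10471 F71071))
theorem F116635 : act 7 n18436 = n21542 := (sb E10471 (iv7 D45114))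
theorem F116636 : act 6 n36034 = n34638 := (sb E10472 (iv6 D75740))
theorem E10513 : n77224 = n27165 := ((D77224).symm.trans (sb E10473 (iv1 D56432)))
theorem F116637 : act 1 n35255 = n36580 := (sb E10473 F89303)
theorem F116638 : act 0 n35327 = n36580 := (sb E10474 (iv1 F89308))
theorem F116639 : act 0 n36790 = n18437 := (sb E10475 (iv1 F59087))
theorem F116640 : act 1 n36790 = n18263 := (sb E10475 (iv0 D38224))
theorem F116641 : act 2 n36790 = n18436 := (sb E10475 F90454)
theorem E10514 : n57317 = n44572 := ((((iv3 F70089)).symm.trans (sb E10475 F90479))).symm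
theorem E10515 : n56069 = n40261 := (((iv4 F88739)).symm.trans (sb E10475 F90455))
theorem E10516 : n55479 = n45187 := ((D55479).symm.trans (sb E10476 (iv1 F71211)))
theorem F116642 : act 1 n26791 = n19162 := (sb E10476 (iv0 D40565))
theorem E10517 : n55481 = n45185 := (((D45185).symm.trans (sb E10477 (iv1 F116049)))).symm
theorem E10518 : n55376 = n45186 := (((D45186).symm.trans (sb E10477 (iv0 F116050)))).symm
theorem E10519 : n75967 = n39982 := ((((iv4 F60856)).symm.trans (sb E10477 D75967))).symm
theorem E10520 : n18722 = n17896 := (((F33948).symm.trans (sb E10477 F61599))).symm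
theorem E10522 : n44570 = n13183 := ((D44570).symm.trans (sb E10479 (iv1 D27590)))
theorem E10523 : n57318 = n44571 := (((D44571).symm.trans (sb E10479 F90491))).symm
theorem E10524 : n40179 = n40066 := ((((iv4 F60965)).symm.trans (sb E10479 F61231))).symm
theorem F116645 : act 0 n36788 = n18436 := (sb E10480 (iv1 F59092))
theorem F116646 : act 2 n36788 = n18263 := (sb E10480 (iv2 D38226))
theorem F116647 : act 3 n36788 = n18415 := (sb E10480 F59088)
theorem F116648 : act 4 n36788 = n35432 := (sb E10480 (iv4 F91569))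
theorem F116649 : act 6 n36788 = n38773 := (sb E10480 F59673)
theorem F116650 : act 7 n36788 = n18437 := (sb E10480 F59089)
theorem F116651 : act 0 n8671 = n17736 := (sb E10481 (iv1 D36789))
theorem E10526 : n56066 = n40258 := ((D56066).symm.trans (sb E10482 F61227))
theorem E10527 : n56067 = n39966 := ((D56067).symm.trans (sb E10482 F61228))
theorem F116652 : act 0 n21573 = n12832 := (sb E10484 (iv1 D26837))
theorem F116653 : act 1 n21573 = n16817 := (sb E10484 F43226)
theorem F116654 : act 2 n21573 = n16815 := (sb E10484 F61591)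
theorem E10528 : n55591 = n45197 := ((((iv4 F71233)).symm.trans (sb E10484 D55591))).symm
theorem E10529 : n17902 = n13288 := ((F33957).symm.trans (sb E10484 F59776))
theorem E10530 : n35151 = n17925 := (((F33958).symm.trans (sb E10484 (iv6 F87930)))).symm
theorem E10531 : n58175 = n55599 := ((((iv1 F87942)).symm.trans (sb E10488 F91971))).symm
theorem E10532 : n58690 = n45157 := (((iv5 F92714)).symm.trans (sb E10489 F71152))
theorem E10533 : n17922 = n16853 := ((((iv6 F43231)).symm.trans (sb E10493 F58244))).symm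
theorem F116655 : act 1 n7847 = n10305 := (sb E10495 (iv0 D21571))
theorem E10534 : n45198 = n16817 := (((D16817).symm.trans (sb E10495 D45198))).symm
theorem E10537 : n45201 = n16819 := (((D16819).symm.trans (sb E10495 D45201))).symm
theorem E10538 : n45202 = n16820 := (((D16820).symm.trans (sb E10495 D45202))).symm
theorem E10539 : n45203 = n12832 := ((((iv7 F43151)).symm.trans (sb E10495 D45203))).symm
theorem F116656 : act 1 n21572 = n16815 := (sb E10496 F43225)
theorem E10540 : n45204 = n16839 := ((D45204).symm.trans (sb E10496 F43223))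
theorem E10541 : n45218 = n45205 := (((D45205).symm.trans (sb E10496 (iv4 F71279)))).symm
theorem E10542 : n55593 = n45175 := ((((iv5 F71192)).symm.trans (sb E10496 D55593))).symm
theorem E10543 : n55594 = n45206 := (((D45206).symm.trans (sb E10496 D55594))).symm
theorem E10544 : n75960 = n45194 := (((D45194).symm.trans (sb E10497 (iv1 F113859)))).symm
theorem E10545 : n75959 = n45195 := (((D45195).symm.trans (sb E10497 F113855))).symm
theorem E10549 : n17900 = n3920 := ((D17900).symm.trans (sb E10498 (iv1 D8782)))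
theorem E10550 : n17901 = n13289 := ((D17901).symm.trans (sb E10498 F22091))
theorem E10551 : n18723 = n17899 := ((((iv4 F29072)).symm.trans (sb E10498 D18723))).symm
theorem E10557 : n75963 = n45170 := ((D75963).symm.trans (sb E10500 (iv6 F71185)))
theorem F116657 : act 7 n34715 = n17913 := (sb E10500 (iv7 D37278))
theorem F116658 : act 1 n8783 = n10288 := (sb E10501 (iv0 D21546))
theorem E10561 : n45127 = n18727 := (((D18727).symm.trans (sb E10501 D45127))).symm
theorem F116659 : act 0 n6305 = n10288 := (sb E10502 (iv1 D21547))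
theorem E10568 : n45120 = n44582 := ((D45120).symm.trans (sb E10503 F90437))
theorem E10569 : n45121 = n44587 := ((D45121).symm.trans (sb E10503 F90451))
theorem E10570 : n58560 = n45118 := ((((iv3 F71093)).symm.trans (sb E10503 D58560))).symm
theorem E10571 : n58561 = n45122 := (((D45122).symm.trans (sb E10503 D58561))).symm
theorem E10573 : n45123 = n18718 := ((D45123).symm.trans (sb E10503 F61100))
theorem E10578 : n18720 = n17892 := ((D18720).symm.trans (sb E10505 F33901))
theorem F116660 : act 7 n8781 = n10288 := (sb E10505 (iv7 D21548))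
theorem E10580 : n35152 = n17923 := ((((iv1 F33944)).symm.trans (sb E10507 F61595))).symm
theorem F116661 : act 6 n21566 = n16815 := (sb E10507 (iv6 D34717))
theorem F116662 : act 1 n19022 = n17195 := (sb E10508 (iv0 D35461))
theorem F116663 : act 0 n35443 = n17195 := (sb E10509 (iv1 D35462))
theorem F116664 : act 4 n35464 = n18436 := (sb E10510 (iv4 D38769))
theorem F116665 : act 6 n36793 = n18436 := (sb E10511 (iv6 D38771))
theorem F116666 : act 0 n27165 = n35327 := (sb E10513 (iv1 F115986))
theorem F116667 : act 1 n27165 = n35255 := (sb E10513 (iv0 D77224))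
theorem E10592 : n75780 = n18183 := (((F43929).symm.trans (sb E10513 (iv4 F115987)))).symm
theorem E10593 : n37224 = n27444 := (((iv1 F70093)).symm.trans (sb E10514 (iv1 D57317)))
theorem E10594 : n37223 = n27591 := ((F70094).symm.trans (sb E10514 F90486))
theorem E10595 : n37225 = n27589 := ((F70088).symm.trans (sb E10514 (iv2 F90481)))
theorem F116668 : act 2 n40261 = n35464 := (sb E10515 F88738)
theorem F116669 : act 4 n40261 = n36790 := (sb E10515 F88739)
theorem F116670 : act 6 n40261 = n35456 := (sb E10515 F88740)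
theorem F116671 : act 7 n40261 = n27043 := (sb E10515 (iv7 D56069))
theorem F116672 : act 1 n45187 = n26791 := (sb E10516 (iv0 D55479))
theorem F116674 : act 2 n45185 = n26791 := (sb E10517 (iv2 D55481))
theorem F116675 : act 4 n45185 = n35280 := (sb E10517 (iv4 F115458))
theorem F116676 : act 3 n45186 = n26756 := (sb E10518 (iv3 D55376))
theorem F116677 : act 4 n45186 = n35281 := (sb E10518 F87642)
theorem F116678 : act 5 n45186 = n76856 := (sb E10518 F115391)
theorem F116679 : act 7 n45186 = n26791 := (sb E10518 F115431)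
theorem F116680 : act 0 n39982 = n77273 := (sb E10519 F116053)
theorem F116681 : act 1 n39982 = n77276 := (sb E10519 (iv0 F116061))
theorem E10597 : n39526 = n37222 := ((((iv4 F58179)).symm.trans (sb E10520 D39526))).symm
theorem F116683 : act 1 n13183 = n21201 := (sb E10522 (iv0 D44570))
theorem F116685 : act 3 n44571 = n27613 := (sb E10523 F90487)
theorem F116686 : act 4 n44571 = n40049 := (sb E10523 F90488)
theorem F116687 : act 5 n44571 = n57795 := (sb E10523 F90953)
theorem F116689 : act 0 n40066 = n18977 := (sb E10524 (iv1 D40179))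
theorem F116690 : act 1 n40066 = n18982 := (sb E10524 F61077)
theorem F116691 : act 0 n40258 = n35464 := (sb E10526 (iv1 F88741))
theorem F116692 : act 1 n40258 = n27043 := (sb E10526 (iv0 D56066))
theorem F116693 : act 0 n39966 = n27043 := (sb E10527 (iv1 D56067))
theorem F116694 : act 1 n39966 = n35464 := (sb E10527 F88736)
theorem F116695 : act 2 n45197 = n34715 := (sb E10528 F87920)
theorem E10600 : n37235 = n27865 := (((D27865).symm.trans (sb E10529 (iv4 F58190)))).symm
theorem F116696 : act 5 n13288 = n21573 := (sb E10529 (iv5 F33957))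
theorem E10601 : n27867 = n21557 := ((D27867).symm.trans (sb E10529 (iv6 F33921)))
theorem F116697 : act 7 n13288 = n8446 := (sb E10529 (iv7 D17902))
theorem E10602 : n21564 = n17066 := (((iv1 F33938)).symm.trans (sb E10530 (iv1 D35151)))
theorem E10603 : n34787 = n21563 := (((F33943).symm.trans (sb E10530 F55870))).symm
theorem E10605 : n34786 = n8458 := ((((iv7 D17925)).symm.trans (sb E10530 F87931))).symm
theorem F116698 : act 5 n55599 = n27722 := (sb E10531 (iv5 D58175))
theorem E10606 : n39838 = n21556 := ((((iv1 D45157)).symm.trans (sb E10532 (iv1 F92725)))).symm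
theorem F116699 : act 2 n45157 = n27905 := (sb E10532 (iv2 D58690))
theorem F116700 : act 3 n45157 = n39849 := (sb E10532 F92713)
theorem F116701 : act 5 n45157 = n34725 := (sb E10532 F92714)
theorem F116702 : act 7 n45157 = n39839 := (sb E10532 F92715)
theorem F116703 : act 0 n16853 = n21566 := (sb E10533 (iv1 F33945))
theorem E10608 : n37306 = n21563 := (((E10603).symm.trans ((D34787).symm.trans (sb E10533 D37306)))).symm
theorem F116704 : act 7 n16817 = n21572 := (sb E10534 (iv7 F71238))
theorem E10613 : n34732 = n21595 := ((D34732).symm.trans (sb E10537 (iv0 F71332)))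
theorem E10614 : n37385 = n34734 := (((D34734).symm.trans (sb E10537 F71239))).symm
theorem E10615 : n37260 = n34735 := (((D34735).symm.trans (sb E10538 F71241))).symm
theorem F116705 : act 2 n12832 = n21572 := (sb E10539 F71242)
theorem F116706 : act 3 n16839 = n21572 := (sb E10540 (iv3 D45204))
theorem F116707 : act 0 n45205 = n21577 := (sb E10541 (iv1 D45218))
theorem F116708 : act 1 n45205 = n34726 := (sb E10541 F71277)
theorem F116709 : act 2 n45205 = n26839 := (sb E10541 (iv2 F71280))
theorem F116710 : act 7 n45205 = n34723 := (sb E10541 F71278)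
theorem E10617 : n45282 = n45175 := ((D45282).symm.trans (iv0 (sb E10542 (tr (iv1 F87927) E10613))))
theorem F116711 : act 1 n45175 = n34731 := (sb E10542 F87934)
theorem F116715 : act 2 n45206 = n26841 := (sb E10543 F87935)
theorem F116716 : act 3 n45206 = n34761 := (sb E10543 F87936)
theorem F116717 : act 0 n45194 = n34715 := (sb E10544 (iv1 D75960))
theorem F116718 : act 4 n45194 = n40493 := (sb E10544 F113860)
theorem F116719 : act 1 n45195 = n34715 := (sb E10545 (iv0 D75959))
theorem F116720 : act 4 n45195 = n36664 := (sb E10545 F113854)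
theorem F116721 : act 1 n3920 = n8446 := (sb E10549 (iv0 D17900))
theorem E10621 : n37239 = n8785 := (((D8785).symm.trans (sb E10549 D37239))).symm
theorem F116722 : act 0 n13289 = n8446 := (sb E10550 (iv1 D17901))
theorem E10625 : n37245 = n27869 := (((D27869).symm.trans (sb E10550 D37245))).symm
theorem E10626 : n39509 = n37232 := (((D37232).symm.trans (sb E10551 (iv1 F60408)))).symm
theorem E10627 : n39508 = n37233 := (((D37233).symm.trans (sb E10551 F60412))).symm
theorem E10628 : n39529 = n37230 := ((((iv3 F58188)).symm.trans (sb E10551 D39529))).symm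
theorem E10629 : n39530 = n37234 := (((D37234).symm.trans (sb E10551 D39530))).symm
theorem E10635 : n77158 = n37303 := ((((iv1 F71187)).symm.trans (sb E10557 F115923))).symm
theorem F116723 : act 6 n45170 = n34715 := (sb E10557 (iv6 D75963))
theorem E10637 : n45283 = n18739 := ((((iv1 F29984)).symm.trans (sb E10561 F71339))).symm
theorem E10638 : n39542 = n37379 := ((D39542).symm.trans (sb E10561 F71106))
theorem F116724 : act 1 n44582 = n21545 := (sb E10568 (iv0 D45120))
theorem F116725 : act 0 n44587 = n21545 := (sb E10569 (iv1 D45121))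
theorem F116726 : act 7 n45118 = n39510 := (sb E10570 F92510)
theorem F116727 : act 7 n45122 = n39511 := (sb E10571 F92512)
theorem E10640 : n39512 = n37200 := ((D39512).symm.trans (sb E10573 F71101))
theorem F116728 : act 7 n18718 = n21545 := (sb E10573 (iv7 D45123))
theorem F116729 : act 6 n17892 = n8781 := (sb E10578 (iv6 D18720))
theorem E10645 : n37311 = n34793 := ((D37311).symm.trans (sb E10580 F55867))
theorem E10646 : n37336 = n37312 := (((D37312).symm.trans (sb E10580 F71258))).symm
theorem E10647 : n76938 = n37313 := (((D37313).symm.trans (sb E10580 D76938))).symm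
theorem E10648 : n76939 = n37314 := (((D37314).symm.trans (sb E10580 D76939))).symm
theorem E10649 : n37968 = n34657 := ((D37968).symm.trans (sb E10592 (iv0 D75780)))
theorem E10650 : n76852 = n27316 := ((((iv3 F44201)).symm.trans (sb E10592 F115988))).symm
theorem F116730 : act 0 n27444 = n17896 := (sb E10593 (iv1 D37224))
theorem F116731 : act 1 n27444 = n44572 := (sb E10593 F70093)
theorem F116732 : act 0 n27591 = n44572 := (sb E10594 (iv1 F70094))
theorem F116733 : act 1 n27591 = n17896 := (sb E10594 (iv0 D37223))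
theorem F116734 : act 0 n27589 = n44571 := (sb E10595 (iv1 F70087))
theorem F116736 : act 5 n27589 = n45187 := (sb E10595 (iv5 F71207))
theorem E10651 : n57792 = n45135 := ((D57792).symm.trans (sb E10595 (iv6 F71115)))
theorem F116737 : act 7 n27589 = n17896 := (sb E10595 (iv7 D37225))
theorem F116738 : act 0 n37222 = n40054 := (sb E10597 (iv1 F61176))
theorem F116739 : act 1 n37222 = n40057 := (sb E10597 (iv0 F60945))
theorem F116740 : act 7 n37222 = n40178 := (sb E10597 (iv7 F61085))
theorem E10654 : n58569 = n45145 := ((D58569).symm.trans (sb E10600 (iv6 F71141)))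
theorem F116741 : act 7 n27865 = n17899 := (sb E10600 (iv7 D37235))
theorem E10657 : n58572 = n45159 := ((((iv5 F71156)).symm.trans (sb E10601 D58572))).symm
theorem F116742 : act 6 n21557 = n13288 := (sb E10601 (iv6 D27867))
theorem F116743 : act 0 n17066 = n10302 := (sb E10602 (iv1 D21564))
theorem F116744 : act 1 n17066 = n17925 := (sb E10602 F33938)
theorem F116745 : act 2 n17066 = n45176 := (sb E10602 (iv2 F71193))
theorem E10661 : n45179 = n35154 := (((D35154).symm.trans (sb E10602 D45179))).symm
theorem E10663 : n45171 = n16853 := ((((iv7 F43189)).symm.trans (sb E10602 F71189))).symm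
theorem E10664 : n45172 = n35146 := ((D45172).symm.trans (sb E10603 (iv3 F55852)))
theorem E10665 : n45211 = n45173 := (((D45173).symm.trans (sb E10603 (iv4 F71255)))).symm
theorem E10666 : n76157 = n45174 := (((D45174).symm.trans (sb E10603 D76157))).symm
theorem F116746 : act 0 n8458 = n16853 := (sb E10605 (iv1 D34786))
theorem E10668 : n45156 = n18852 := ((D45156).symm.trans (sb E10606 (iv1 D39838)))
theorem E10669 : n58689 = n17891 := (((F33918).symm.trans (sb E10606 (iv2 F92723)))).symm
theorem E10670 : n45176 = n17923 := ((D45176).symm.trans (sb E10608 (iv7 F58260)))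
theorem F116747 : act 0 n21595 = n16819 := (sb E10613 (iv1 D34732))
theorem E10671 : n76004 = n45271 := ((((iv2 F71334)).symm.trans (sb E10613 (iv2 F113890)))).symm
theorem E10672 : n76005 = n45277 := ((((iv3 F71337)).symm.trans (sb E10613 D76005))).symm
theorem E10676 : n76014 = n17943 := ((D76014).symm.trans (sb E10614 (iv1 D37385)))
theorem E10677 : n76019 = n38963 := ((D76019).symm.trans (sb E10615 (iv5 F59991)))
theorem E10678 : n76020 = n17906 := ((D76020).symm.trans (sb E10615 (iv6 D37260)))
theorem F116748 : act 0 n45175 = n21595 := (sb E10617 (iv1 D45282))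
theorem E10679 : n27722 = n18735 := (((D18735).symm.trans (sb E10621 (iv0 F91962)))).symm
theorem E10680 : n39573 = n37256 := (((iv1 F60448)).symm.trans (sb E10625 F71340))
theorem E10681 : n39572 = n18497 := ((F60447).symm.trans (sb E10625 F71341))
theorem F116749 : act 0 n37232 = n18718 := (sb E10626 (iv1 D39509))
theorem F116751 : act 3 n37232 = n57733 := (sb E10626 (iv3 F90907))
theorem F116752 : act 4 n37232 = n21434 := (sb E10626 (iv4 F60797))
theorem F116753 : act 7 n37232 = n44587 := (sb E10626 F90440)
theorem F116754 : act 1 n37233 = n18718 := (sb E10627 (iv0 D39508))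
theorem F116756 : act 4 n37233 = n21435 := (sb E10627 F90413)
theorem F116758 : act 7 n37230 = n58567 := (sb E10628 (iv7 F92522))
theorem F116759 : act 7 n37234 = n58568 := (sb E10629 (iv7 F92524))
theorem F116760 : act 4 n37303 = n35226 := (sb E10635 (iv4 D77158))
theorem F116761 : act 5 n18739 = n21595 := (sb E10637 (iv5 D45283))
theorem E10682 : n27876 = n17947 := ((((iv1 F58306)).symm.trans (sb E10638 (iv1 F60429)))).symm
theorem E10683 : n27875 = n17942 := ((((iv0 D37379)).symm.trans (sb E10638 F60430))).symm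
theorem F116762 : act 2 n37379 = n18737 := (sb E10638 F60426)
theorem F116763 : act 3 n37379 = n39699 := (sb E10638 (iv3 F60573))
theorem F116764 : act 5 n37379 = n27869 := (sb E10638 F60427)
theorem F116765 : act 6 n37379 = n18727 := (sb E10638 (iv6 D39542))
theorem F116766 : act 7 n37379 = n27869 := (sb E10638 F60428)
theorem F116767 : act 6 n37200 = n18718 := (sb E10640 (iv6 D39512))
theorem F116768 : act 3 n34793 = n17923 := (sb E10645 (iv3 D37311))
theorem F116769 : act 0 n37312 = n17931 := (sb E10646 (iv1 D37336))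
theorem F116770 : act 1 n37312 = n45213 := (sb E10646 F71264)
theorem F116771 : act 2 n37312 = n35153 := (sb E10646 (iv2 F71257))
theorem F116772 : act 7 n37312 = n45173 := (sb E10646 (tr F71256 E10665))
theorem E10684 : n76160 = n58185 := (((F91976).symm.trans (sb E10647 (iv1 F115621)))).symm
theorem F116773 : act 1 n37313 = n76159 := (sb E10647 F115622)
theorem F116774 : act 2 n37313 = n35154 := (sb E10647 F115618)
theorem F116775 : act 3 n37313 = n76167 := (sb E10647 F115619)
theorem F116776 : act 7 n37313 = n45174 := (sb E10647 (tr F115620 E10666))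
theorem F116777 : act 0 n37314 = n76015 := (sb E10648 (iv1 F115626))
theorem E10685 : n37384 = n37314 := ((D37384).symm.trans (iv1 (sb E10648 (tr F115627 E10676))))
theorem F116778 : act 2 n37314 = n35155 := (sb E10648 F115623)
theorem F116779 : act 3 n37314 = n76168 := (sb E10648 F115624)
theorem F116781 : act 0 n34657 = n18183 := (sb E10649 (iv1 D37968))
theorem E10686 : n75781 = n36034 := ((D75781).symm.trans (sb E10649 F58803))
theorem E10687 : n56911 = n35122 := ((D56911).symm.trans (sb E10650 (iv1 D76852)))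
theorem F116782 : act 6 n45135 = n27589 := (sb E10651 (iv6 D57792))
theorem F116783 : act 6 n45145 = n27865 := (sb E10654 (iv6 D58569))
theorem F116784 : act 0 n45159 = n27905 := (sb E10657 F92529)
theorem E10688 : n39839 = n37211 := (((F71161).symm.trans (sb E10657 F92717))).symm
theorem E10689 : n75176 = n35902 := ((((iv6 F56558)).symm.trans (sb E10661 (iv6 F112723)))).symm
theorem F116785 : act 2 n16853 = n21563 := (sb E10663 (iv2 D45171))
theorem F116786 : act 3 n35146 = n21563 := (sb E10664 (iv3 D45172))
theorem F116787 : act 0 n45173 = n37338 := (sb E10665 (iv1 F71259))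
theorem F116788 : act 1 n45173 = n21575 := (sb E10665 (iv0 D45211))
theorem F116789 : act 2 n45173 = n34788 := (sb E10665 (iv2 F71254))
theorem E10690 : n76943 = n38982 := (((F71190).symm.trans (sb E10666 (iv1 F115633)))).symm
theorem F116790 : act 1 n45174 = n76942 := (sb E10666 F115632)
theorem F116791 : act 2 n45174 = n34789 := (sb E10666 F114133)
theorem F116792 : act 3 n45174 = n76924 := (sb E10666 (iv3 F115582))
theorem F116793 : act 0 n18852 = n37214 := (sb E10668 (iv1 F71158))
theorem F116794 : act 1 n18852 = n21556 := (sb E10668 (iv0 D45156))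
theorem E10691 : n37399 = n34737 := ((((iv5 F54967)).symm.trans (sb E10668 (iv5 F71160)))).symm
theorem F116795 : act 1 n17891 = n27905 := (sb E10669 (iv0 D58689))
theorem F116796 : act 2 n17923 = n17066 := (sb E10670 (iv2 F116745))
theorem F116797 : act 7 n17923 = n21563 := (sb E10670 (iv7 D45176))
theorem F116798 : act 5 n45271 = n39579 := (sb E10671 F113899)
theorem F116799 : act 7 n45271 = n34731 := (sb E10671 (iv7 D76004))
theorem F116800 : act 5 n45277 = n39580 := (sb E10672 F113900)
theorem F116803 : act 1 n17943 = n34734 := (sb E10676 (iv0 D76014))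
theorem F116804 : act 5 n38963 = n34735 := (sb E10677 (iv5 D76019))
theorem F116805 : act 6 n17906 = n34735 := (sb E10678 (iv6 D76020))
theorem E10694 : n58163 = n39562 := ((((iv2 F60439)).symm.trans (sb E10679 (iv2 F91964)))).symm
theorem E10695 : n58169 = n39563 := (((D39563).symm.trans (sb E10679 (iv3 F91969)))).symm
theorem E10696 : n58172 = n39564 := (((D39564).symm.trans (sb E10679 (iv4 F91970)))).symm
theorem E10697 : n55599 = n39565 := (((D39565).symm.trans (sb E10679 (iv5 F116698)))).symm
theorem E10698 : n39566 = n13231 := ((D39566).symm.trans (sb E10679 (iv6 D27722)))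
theorem F116806 : act 0 n37256 = n18737 := (sb E10680 (iv1 D39573))
theorem F116807 : act 1 n37256 = n27869 := (sb E10680 F60448)
theorem F116808 : act 0 n18497 = n27869 := (sb E10681 (iv1 F60447))
theorem F116809 : act 1 n18497 = n18737 := (sb E10681 (iv0 D39572))
theorem E10700 : n37380 = n13291 := (((iv1 F58302)).symm.trans (sb E10682 (iv1 D27876)))
theorem E10709 : n58595 = n37382 := (((D37382).symm.trans (sb E10683 D58595))).symm
theorem F116810 : act 0 n58185 = n34789 := (sb E10684 (iv1 D76160))
theorem F116811 : act 1 n37314 = n17943 := (sb E10685 (iv0 D37384))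
theorem F116812 : act 0 n36034 = n34657 := (sb E10686 (iv1 D75781))
theorem E10710 : n76851 = n37295 := ((D76851).symm.trans (sb E10687 (iv1 F89971)))
theorem F116813 : act 1 n35122 = n27316 := (sb E10687 (iv0 D56911))
theorem F116814 : act 2 n37211 = n18852 := (sb E10688 (iv2 D39839))
theorem F116815 : act 3 n37211 = n58681 := (sb E10688 (iv3 F92694))
theorem F116816 : act 5 n37211 = n75983 := (sb E10688 (iv5 F113874))
theorem F116817 : act 7 n37211 = n45157 := (sb E10688 (iv7 F116702))
theorem F116818 : act 1 n35902 = n34426 := (sb E10689 (iv0 D75176))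
theorem F116819 : act 0 n38982 = n35154 := (sb E10690 (iv1 D76943))
theorem E10711 : n75981 = n17948 := ((F113875).symm.trans (sb E10691 (iv0 D37399)))
theorem E10712 : n55604 = n45269 := (((iv6 F87950)).symm.trans (sb E10691 F71333))
theorem F116820 : act 6 n39562 = n27718 := (sb E10694 (iv6 D58163))
theorem F116821 : act 6 n39563 = n27719 := (sb E10695 (iv6 D58169))
theorem F116822 : act 6 n39564 = n27720 := (sb E10696 (iv6 D58172))
theorem F116823 : act 0 n39565 = n26840 := (sb E10697 (iv1 D55599))
theorem F116824 : act 1 n39565 = n34724 := (sb E10697 F87942)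
theorem F116825 : act 6 n13231 = n18735 := (sb E10698 (iv6 D39566))
theorem F116826 : act 0 n13291 = n17942 := (sb E10700 (iv1 D37380))
theorem F116827 : act 1 n13291 = n17947 := (sb E10700 F58302)
theorem F116828 : act 5 n37382 = n76942 := (sb E10709 (iv5 F115631))
theorem F116829 : act 1 n37295 = n35122 := (sb E10710 (iv0 D76851))
theorem F116830 : act 0 n17948 = n34737 := (sb E10711 (iv1 F113875))
theorem E10713 : n37400 = n34725 := ((D37400).symm.trans (sb E10711 (iv0 D75981)))
theorem F116831 : act 3 n45269 = n26847 := (sb E10712 F87948)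
theorem E10714 : n39023 = n38961 := (((F71342).symm.trans (sb E10712 F87949))).symm
theorem F116832 : act 6 n45269 = n34737 := (sb E10712 F87950)
theorem F116833 : act 7 n45269 = n26841 := (sb E10712 (iv7 D55604))
theorem F116834 : act 0 n34725 = n17948 := (sb E10713 (iv1 D37400))
theorem F116835 : act 3 n38961 = n18526 := (sb E10714 (iv3 D39023))
theorem F116836 : act 6 n38961 = n55962 := (sb E10714 (iv6 F88566))
theorem F116837 : act 7 n38961 = n55603 := (sb E10714 F87947)
theorem F116838 : act 2 n55603 = n38960 := d15_3 (iv0 D38960) D38961 F116837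
theorem F116839 : act 3 n38960 = n76079 := d0_2 (iv3 F87945) F116838 F114063 F54985 (iv2 F43244)
theorem F116840 : act 0 n38898 = n55603 := d21_4 F116701 F116834 D37401 (iv6 F59936) F87946 (iv5 D34789) F116703 (iv5 F71199) F71200 (iv1 F71151)
theorem E10715 : n45288 = n39561 := (c21_5 D37401 F59937 (iv5 D37209) D37210 F71344 (iv6 D39561) D39560 F113878 (iv5 D34724) D34725 F116834)
theorem F116841 : act 1 n39561 = n37210 := (sb E10715 (iv0 F71344))
theorem F116842 : act 5 n39561 = n21596 := (sb E10715 (iv5 D45288))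
theorem F116843 : act 7 n75982 = n37388 := d15_2 (iv0 F116834) D75982 F58309
theorem F116844 : act 2 n37402 = n75982 := d4_3 F116843 F58309 D37402
theorem F116845 : act 6 n37387 = n75982 := d14_5 F116843 (iv6 D37388) (iv7 D17944) D17943 D37387
theorem E10716 : n58180 = n37387 := (c21_3 D13232 D27723 D58180 F116845 (iv1 D75982) (iv6 D34725) D34724 (iv1 F116824) (iv5 D39565) (iv6 F116825) (iv1 D13231))
theorem F116846 : act 5 n37387 = n27723 := (sb E10716 (iv5 D58180))
theorem E10717 : n58182 = n37386 := (c13_3 D37387 F116846 D58182 (iv5 D37386))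
theorem F116847 : act 2 n37386 = n27724 := (sb E10717 F91973)
theorem F116848 : act 7 n37386 = n27723 := (sb E10717 (iv7 D58182))
theorem E10718 : n76945 = n37387 := (c21_11 F116846 (iv1 F91924) F91921 F44718 (iv1 F29665) D18502 D38982 F116819 (iv5 D35154) D35155 D76945)
theorem F116849 : act 0 n37387 = n75980 := (sb E10718 (iv1 F115635))
theorem F116850 : act 1 n37387 = n35155 := (sb E10718 (iv0 D76945))
theorem E10719 : n76946 = n37366 := ((c15_4 F115636 (iv0 F116849) (iv7 D37387) (iv2 F58291))).symm
theorem F116851 : act 0 n37366 = n35155 := (sb E10719 (iv1 D76946))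
theorem F116852 : act 1 n37366 = n75980 := (sb E10719 F115636)
theorem E10720 : n37365 = n37256 := (c21_7 F17012 (iv1 F116630) D34724 D75980 (iv1 F116852) (iv6 D37366) D37365 F116806 F29981 (iv6 D13291) F116659)
theorem E10721 : n38967 = n17942 := (((iv2 F59997)).symm.trans (sb E10720 F58289))
theorem E10722 : n17939 = n17905 := ((((iv5 D37256)).symm.trans (sb E10720 (iv5 D37365)))).symm
theorem E10723 : n38947 = n17947 := (((iv7 F59980)).symm.trans (sb E10720 F58290))
theorem F116853 : act 2 n17942 = n37256 := (sb E10721 F59997)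
theorem E10724 : n37253 = n8463 := ((((iv5 D17942)).symm.trans (sb E10721 F59998))).symm
theorem E10725 : n37383 = n18497 := ((D37383).symm.trans (sb E10721 (iv7 D38967)))
theorem E10728 : n37363 = n37254 := (((D37254).symm.trans (sb E10722 D37363))).symm
theorem E10729 : n37364 = n37255 := (((D37255).symm.trans (sb E10722 D37364))).symm
theorem E10730 : n37366 = n37257 := (((D37257).symm.trans (sb E10722 D37366))).symm
theorem E10731 : n37258 = n8464 := ((D37258).symm.trans (sb E10722 (iv7 F29109)))
theorem E10732 : n18493 = n18478 := ((((iv6 F29659)).symm.trans (sb E10723 (iv6 D38947)))).symm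
theorem F116854 : act 7 n17947 = n37256 := (sb E10723 F59980)
theorem F116855 : act 2 n8463 = n17905 := (sb E10724 (iv2 D37253))
theorem E10733 : n17944 = n17906 := ((D17944).symm.trans (sb E10724 (iv7 F58204)))
theorem F116856 : act 2 n18497 = n17947 := (sb E10725 F58304)
theorem E10734 : n38895 = n8694 := ((((iv6 D18497)).symm.trans (sb E10725 (iv6 F59932)))).symm
theorem F116857 : act 7 n18497 = n17942 := (sb E10725 (iv7 D37383))
theorem F116858 : act 7 n37254 = n17945 := (sb E10728 F58286)
theorem F116859 : act 2 n37255 = n17941 := (sb E10729 F58287)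
theorem F116860 : act 7 n37255 = n17946 := (sb E10729 F58288)
theorem F116861 : act 0 n37257 = n35155 := (sb E10730 F116851)
theorem F116862 : act 1 n37257 = n75980 := (sb E10730 F116852)
theorem F116863 : act 2 n37257 = n17943 := (sb E10730 F58291)
theorem F116864 : act 7 n8464 = n17905 := (sb E10731 (iv7 D37258))
theorem E10737 : n38944 = n38896 := (((D38896).symm.trans (sb E10732 D38944))).symm
theorem E10738 : n38945 = n38897 := (((D38897).symm.trans (sb E10732 D38945))).symm
theorem E10739 : n38946 = n38898 := (((D38898).symm.trans (sb E10732 D38946))).symm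
theorem E10740 : n38899 = n8695 := ((D38899).symm.trans (sb E10732 (iv7 F29681)))
theorem F116865 : act 2 n17906 = n8464 := (sb E10733 F29110)
theorem E10741 : n37372 = n36594 := (((F57458).symm.trans (sb E10733 (iv3 F58295)))).symm
theorem E10742 : n37378 = n37259 := (((D37259).symm.trans (sb E10733 (iv4 F58299)))).symm
theorem E10743 : n37388 = n34735 := (((F116805).symm.trans (sb E10733 D37388))).symm
theorem F116866 : act 7 n17906 = n8463 := (sb E10733 (iv7 D17944))
theorem F116867 : act 2 n8694 = n18478 := (sb E10734 (iv2 D38895))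
theorem E10744 : n77720 = n18494 := (((D18494).symm.trans (sb E10734 F116594))).symm
theorem E10745 : n18498 = n18479 := ((D18498).symm.trans (sb E10734 (iv7 F59933)))
theorem F116868 : act 7 n38896 = n18499 := (sb E10737 F59973)
theorem F116869 : act 2 n38897 = n18495 := (sb E10738 F59974)
theorem F116870 : act 7 n38897 = n18500 := (sb E10738 F59975)
theorem F116871 : act 2 n38898 = n18496 := (sb E10739 F59976)
theorem F116872 : act 7 n38898 = n18501 := (sb E10739 F59977)
theorem F116873 : act 7 n8695 = n18478 := (sb E10740 (iv7 D38899))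
theorem F116874 : act 7 n36594 = n17940 := (sb E10741 (iv7 D37372))
theorem F116875 : act 2 n37259 = n17946 := (sb E10742 F58298)
theorem F116876 : act 7 n37259 = n17941 := (sb E10742 (iv7 D37378))
theorem E10746 : n76016 = n17948 := ((D76016).symm.trans (sb E10743 F58309))
theorem E10747 : n76021 = n75982 := ((D76021).symm.trans (sb E10743 (iv7 F116843)))
theorem E10748 : n38950 = n35476 := ((D38950).symm.trans (sb E10744 F116592))
theorem E10749 : n35474 = n35375 := (((F56083).symm.trans (sb E10744 (iv4 D77720)))).symm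
theorem E10750 : n38953 = n35481 := ((D38953).symm.trans (sb E10744 F116593))
theorem F116877 : act 2 n18479 = n8695 := (sb E10745 F29683)
theorem E10751 : n38959 = n38900 := (((D38900).symm.trans (sb E10745 (iv4 F59988)))).symm
theorem E10752 : n38964 = n38901 := (((D38901).symm.trans (sb E10745 (iv5 F59993)))).symm
theorem E10753 : n38968 = n38902 := (((D38902).symm.trans (sb E10745 D38968))).symm
theorem F116878 : act 7 n18479 = n8694 := (sb E10745 (iv7 D18498))
theorem F116879 : act 2 n17948 = n34735 := (sb E10746 (iv2 D76016))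
theorem E10754 : n37402 = n34736 := ((D37402).symm.trans (sb E10746 (iv7 F113896)))
theorem F116880 : act 7 n75982 = n34735 := (sb E10747 (iv7 D76021))
theorem F116881 : act 2 n35476 = n18494 := (sb E10748 (iv2 D38950))
theorem E10755 : n77471 = n17200 := ((((iv4 D35476)).symm.trans (sb E10748 (iv4 F116295)))).symm
theorem E10756 : n77735 = n77477 := ((D77735).symm.trans (sb E10748 (iv7 F116303)))
theorem E10759 : n77719 = n77472 := (((D77472).symm.trans (sb E10749 D77719))).symm
theorem E10760 : n77721 = n77473 := (((D77473).symm.trans (sb E10749 D77721))).symm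
theorem E10761 : n77722 = n77474 := (((D77474).symm.trans (sb E10749 D77722))).symm
theorem E10762 : n77475 = n17201 := ((D77475).symm.trans (sb E10749 (iv7 F56170)))
theorem F116882 : act 7 n35481 = n18494 := (sb E10750 (iv7 D38953))
theorem F116883 : act 2 n38900 = n18500 := (sb E10751 F59987)
theorem F116884 : act 7 n38900 = n18495 := (sb E10751 (iv7 D38959))
theorem F116885 : act 2 n38901 = n18501 := (sb E10752 F59992)
theorem F116886 : act 7 n38901 = n18496 := (sb E10752 (iv7 D38964))
theorem F116887 : act 1 n38902 = n45150 := (sb E10753 F71148)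
theorem F116888 : act 2 n38902 = n18502 := (sb E10753 F60000)
theorem F116889 : act 2 n34736 = n75982 := (sb E10754 F116844)
theorem F116890 : act 7 n34736 = n17948 := (sb E10754 (iv7 D37402))
theorem F116891 : act 2 n17200 = n35375 := (sb E10755 (iv2 D77471))
theorem E10763 : n35479 = n35376 := ((D35479).symm.trans (sb E10755 (iv7 F116296)))
theorem F116892 : act 2 n77477 = n35481 := (sb E10756 F116605)
theorem F116893 : act 7 n77477 = n35476 := (sb E10756 (iv7 D77735))
theorem F116894 : act 7 n77472 = n35480 := (sb E10759 F116591)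
theorem F116895 : act 2 n77473 = n35477 := (sb E10760 F116595)
theorem F116896 : act 7 n77473 = n35482 := (sb E10760 F116596)
theorem F116897 : act 2 n77474 = n35478 := (sb E10761 F116597)
theorem F116898 : act 7 n17201 = n35375 := (sb E10762 (iv7 D77475))
theorem F116899 : act 2 n35376 = n17201 := (sb E10763 F56171)
theorem E10764 : n77729 = n77476 := (((D77476).symm.trans (sb E10763 (iv3 F116600)))).symm
theorem F116900 : act 7 n35376 = n17200 := (sb E10763 (iv7 D35479))
theorem F116901 : act 7 n77476 = n35475 := (sb E10764 (iv7 D77729))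
theorem F116902 : act 7 n35477 = n77478 := d13_2 F116900 D35477 (iv5 D77478)
theorem F116903 : act 2 n77478 = n35482 := d4_1 F116902 (iv7 F116896) F116895
theorem F116904 : act 1 n35482 = n77736 := d15_0 (iv0 D77736) F116902 F116903
theorem F116905 : act 2 n35483 = n77479 := d3_3 (iv6 D77479) F116899 D35483
theorem F116906 : act 2 n77734 = n38952 := d1_3 (iv4 F116298) F116897 (iv4 F116604)
theorem F116907 : act 7 n77732 = n38971 := d8_2 F116893 D77732 F116305
theorem E10765 : n39001 = n38970 := ((c15_1 D38970 (iv0 F116603) F116907 (iv2 D38971))).symm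
theorem F116909 : act 3 n38970 = n18513 := (sb E10765 (iv3 D39001))
theorem F116910 : act 4 n38970 = n35691 := (sb E10765 F60015)
theorem F116911 : act 1 n38896 = n58062 := d15_0 (iv0 F116307) (iv7 F116907) F116602
theorem F116912 : act 7 n37394 = n76022 := d8_2 F116890 (iv3 F58311) (iv3 D76022)
theorem F116913 : act 7 n37397 = n76023 := d11_2 F116890 (iv4 F58312) (iv4 D76023)
theorem F116914 : act 7 n37401 = n76024 := d13_2 F116890 D37401 (iv5 D76024)
theorem F116915 : act 7 n37257 = n76025 := d14_4 F116890 (iv6 D17948) F116864 D37257 (iv6 D76025)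
theorem F116916 : act 2 n76025 = n37387 := d4_1 F116915 (iv7 D37387) (iv2 F116863)
theorem F116917 : act 5 n76025 = n58177 := d13_1 F116915 (iv7 F91972) (iv5 F58205)
theorem E10766 : n76025 = n76015 := ((c15_2 F116803 D76015 (iv7 F116915) F116863)).symm
theorem F116918 : act 2 n76015 = n37387 := (sb E10766 F116916)
theorem F116919 : act 5 n76015 = n58177 := (sb E10766 F116917)
theorem F116920 : act 6 n76015 = n34736 := (sb E10766 (iv6 D76025))
theorem F116921 : act 7 n76015 = n37257 := (sb E10766 (iv7 F116915))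
theorem E10767 : n58177 = n58117 := ((c21_8 (iv5 F45059) (iv1 F116795) (iv5 D17891) (iv6 D8438) (iv1 F9783) D13227 D27706 D58117 (iv5 F116919) F116920 (iv1 D34736))).symm
theorem F116922 : act 2 n58117 = n27723 := (sb E10767 (iv2 D58177))
theorem F116923 : act 5 n58117 = n76015 := (sb E10767 (iv5 F116919))
theorem F116924 : act 7 n58117 = n27724 := (sb E10767 (iv7 F91972))
theorem F116925 : act 0 n45154 = n76024 := d21_1 D45154 (iv5 D76024) (iv6 F116920) (iv1 D76015) (iv6 D34734) (iv5 D16819) D16815 (iv5 F61594) (iv6 F116729) (iv1 F33917)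
theorem E10768 : n39578 = n27705 := (c21_10 D27706 D58117 F116923 F116920 (iv1 D34736) (iv6 D16820) D16819 D34731 (iv5 F113903) D39578 (iv1 D27705))
theorem E10769 : n58116 = n18738 := ((D58116).symm.trans (sb E10768 (iv6 D39578)))
theorem F116926 : act 6 n18738 = n27705 := (sb E10769 (iv6 D58116))
theorem F116927 : act 5 n38902 = n76159 := d21_6 (iv5 F116923) (iv1 F91922) F44731 F22038 (iv1 F29660) D38902 (iv1 F116773) (iv5 D37313) D37314 F116777
theorem F116928 : act 2 n76159 = n38982 := d2_1 F116927 (iv5 D38982) (iv2 F116888)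
theorem F116929 : act 7 n76159 = n76942 := d13_2 (iv7 F59939) F116927 (iv5 F116828)
theorem F116930 : act 0 n76024 = n45149 := d21_7 F116927 (iv1 F116773) (iv5 D37313) D37314 F116777 F116920 D76024 (iv5 D45149) D45150 (iv1 F116887)
theorem F116931 : act 2 n37401 = n38963 := d15_3 (iv0 F71146) (iv0 F116930) (iv7 F116914)
theorem F116932 : act 2 n76942 = n58185 := d4_1 F116929 (iv7 F91975) (iv2 F116928)
theorem F116933 : act 2 n38983 = n37382 := d2_3 F116828 F116932 F91974
theorem F116934 : act 6 n37386 = n76942 := d3_0 F116932 (iv6 D58185) (iv2 F116847)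
theorem F116935 : act 0 n38980 = n37382 := d21_1 (iv5 F71244) F116828 (iv6 F116934) F58307 F44715 (iv5 D17893) (iv1 F16816) D18905 F30174 D37315
theorem F116936 : act 5 n45264 = n58161 := d21_2 D21594 (iv1 F71328) (iv6 F91963) F116935 (iv6 D37382) (iv5 D17942) (iv1 F29080) F29077 (iv6 F33844) (iv1 F33846)
theorem E10770 : n45268 = n45206 := (c21_11 F71243 (iv1 F59994) (iv5 D18501) D18502 D38980 F91963 (iv5 F116936) (iv1 D45264) (iv5 D21589) D21590 D45268)
theorem F116937 : act 1 n45206 = n21590 := (sb E10770 (iv0 D45268))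
theorem F116938 : act 0 n39583 = n58161 := d21_10 (iv5 F116936) (iv1 D45264) (iv5 D21589) D21590 (iv1 F116937) (iv6 D45206) (iv5 F71192) F116748 (iv5 F116761) D39583
theorem F116939 : act 7 n39583 = n58142 := d15_2 D58161 (iv0 F116938) F91946
theorem F116940 : act 2 n58162 = n39583 := d4_3 F116939 F91946 D58162
theorem E10771 : n39557 = n18739 := (c14_5 F116939 (iv6 D58142) (iv7 F44727) F116825 F60438 D39583)
theorem E10772 : n39579 = n18734 := (((iv2 F60450)).symm.trans (sb E10771 (iv2 D39557)))
theorem E10773 : n39574 = n18735 := ((F60449).symm.trans (sb E10771 (iv7 F60438)))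
theorem F116941 : act 2 n18734 = n18739 := (sb E10772 F60450)
theorem E10774 : n45271 = n39560 := (((D39560).symm.trans (sb E10772 (iv5 F116798)))).symm
theorem E10775 : n39562 = n18738 := ((D39562).symm.trans (sb E10772 (iv7 D39579)))
theorem F116942 : act 7 n18735 = n18739 := (sb E10773 (iv7 F60449))
theorem F116943 : act 2 n39560 = n21595 := (sb E10774 F71334)
theorem F116944 : act 6 n39560 = n21591 := (sb E10774 (iv6 D45271))
theorem F116945 : act 7 n39560 = n34731 := (sb E10774 F116799)
theorem F116946 : act 2 n18738 = n18735 := (sb E10775 F60439)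
theorem E10777 : n27718 = n27705 := (((F116926).symm.trans (sb E10775 F116820))).symm
theorem F116947 : act 7 n18738 = n18734 := (sb E10775 (iv7 D39562))
theorem E10778 : n58138 = n13227 := ((((iv1 D27705)).symm.trans (sb E10777 (iv1 F91940)))).symm
theorem E10780 : n58114 = n13231 := (((iv2 F91916)).symm.trans (sb E10777 F44728))
theorem E10781 : n58148 = n56085 := ((((iv3 F88756)).symm.trans (sb E10777 (iv3 F91950)))).symm
theorem E10782 : n58154 = n58115 := (((D58115).symm.trans (sb E10777 (iv4 F91955)))).symm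
theorem E10783 : n58159 = n38988 := ((((iv5 F60006)).symm.trans (sb E10777 (iv5 F91960)))).symm
theorem E10784 : n58110 = n13230 := ((F91915).symm.trans (sb E10777 (iv7 D27718)))
theorem E10785 : n27713 = n27704 := (((D27704).symm.trans (sb E10778 (iv1 D58138)))).symm
theorem F116950 : act 2 n13231 = n27705 := (sb E10780 F91916)
theorem F116951 : act 7 n56085 = n27714 := (sb E10781 (iv7 D58148))
theorem F116952 : act 2 n58115 = n27720 := (sb E10782 F91954)
theorem F116953 : act 7 n58115 = n27715 := (sb E10782 (iv7 D58154))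
theorem F116954 : act 2 n38988 = n27721 := (sb E10783 F91959)
theorem F116955 : act 7 n38988 = n27716 := (sb E10783 (iv7 D58159))
theorem F116956 : act 7 n13230 = n27705 := (sb E10784 (iv7 F91915))
theorem F116957 : act 2 n27704 = n13230 := (sb E10785 (iv2 D27713))
theorem E10786 : n58139 = n58111 := (((D58111).symm.trans (sb E10785 D58139))).symm
theorem E10787 : n58140 = n58112 := (((D58112).symm.trans (sb E10785 D58140))).symm
theorem E10788 : n58141 = n58113 := (((D58113).symm.trans (sb E10785 D58141))).symm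
theorem E10789 : n58142 = n45292 := ((((iv6 F71346)).symm.trans (sb E10785 D58142))).symm
theorem F116958 : act 7 n27704 = n13231 := (sb E10785 (iv7 F44727))
theorem F116959 : act 7 n58111 = n27719 := (sb E10786 F91941)
theorem F116960 : act 2 n58112 = n27715 := (sb E10787 F91942)
theorem F116961 : act 7 n58112 = n27720 := (sb E10787 F91943)
theorem F116962 : act 2 n58113 = n27716 := (sb E10788 F91944)
theorem F116963 : act 7 n58113 = n27721 := (sb E10788 F91945)
theorem F116964 : act 2 n45292 = n27717 := (sb E10789 F91946)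
theorem F116965 : act 7 n45292 = n39583 := (sb E10789 (iv7 F116939))
theorem F116966 : act 5 n39583 = n45285 := d13_1 F116965 (iv7 F71343) D45292
theorem E10790 : n58162 = n39561 := ((c2_3 F116966 (iv2 D45285) (iv5 F116842) F116940)).symm
theorem F116967 : act 2 n39561 = n39583 := (sb E10790 F116940)
theorem F116968 : act 7 n39561 = n27717 := (sb E10790 (iv7 D58162))
theorem E10791 : n45285 = n45067 := (c12_2 D39583 F116966 F70936 (iv5 D21594) D21595 (iv5 F116761))
theorem F116969 : act 2 n45067 = n21596 := (sb E10791 (iv2 D45285))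
theorem F116970 : act 5 n45067 = n39583 := (sb E10791 (iv5 F116966))
theorem F116971 : act 7 n45067 = n21597 := (sb E10791 (iv7 F71343))
theorem F116972 : act 0 n45155 = n39583 := d21_10 (iv5 F116970) (iv1 F70945) F33989 F16405 (iv1 F29075) F116805 (iv5 F116804) F71150 (iv5 D45154) D45155
theorem F116973 : act 6 n45264 = n45303 := d21_3 F116970 F116938 (iv5 F116936) (iv1 D45303) (iv6 D21601) (iv5 D10315) (iv1 F6776) D10276 (iv6 F33841) D45067
theorem E10792 : n45245 = n10275 := (c21_11 D21517 D45067 F116970 (iv6 D39583) (iv1 D18739) (iv6 D8786) D8785 D18734 D39560 F116944 (iv1 F71309))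
theorem E10793 : n21586 = n21515 := (((D21515).symm.trans (sb E10792 (iv1 D45245)))).symm
theorem E10794 : n21591 = n21516 := (((D21516).symm.trans (sb E10792 F71309))).symm
theorem E10796 : n45058 = n10311 := ((D45058).symm.trans (sb E10793 (iv2 D21586)))
theorem E10797 : n45246 = n45059 := (((D45059).symm.trans (sb E10793 D45246))).symm
theorem E10798 : n45247 = n45060 := (((D45060).symm.trans (sb E10793 D45247))).symm
theorem E10799 : n45248 = n45061 := (((D45061).symm.trans (sb E10793 D45248))).symm
theorem E10800 : n45249 = n38992 := ((((iv6 F60008)).symm.trans (sb E10793 D45249))).symm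
theorem E10801 : n45062 = n10312 := ((D45062).symm.trans (sb E10793 (iv7 F33985)))
theorem E10802 : n45256 = n45063 := (((D45063).symm.trans (sb E10794 (iv3 F71320)))).symm
theorem E10803 : n45262 = n45064 := (((D45064).symm.trans (sb E10794 (iv4 F71325)))).symm
theorem E10804 : n45267 = n45065 := (((D45065).symm.trans (sb E10794 (iv5 F71330)))).symm
theorem E10805 : n45066 = n39560 := ((D45066).symm.trans (sb E10794 (iv6 F116944)))
theorem F116974 : act 2 n10311 = n21515 := (sb E10796 (iv2 D45058))
theorem F116975 : act 7 n10311 = n21516 := (sb E10796 (iv7 F70932))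
theorem F116976 : act 7 n45059 = n21592 := (sb E10797 F71310)
theorem F116977 : act 2 n45060 = n21588 := (sb E10798 F71311)
theorem F116980 : act 7 n45061 = n21594 := (sb E10799 F71314)
theorem F116981 : act 2 n38992 = n21590 := (sb E10800 F71315)
theorem F116982 : act 2 n10312 = n21516 := (sb E10801 F70933)
theorem F116984 : act 7 n45063 = n21587 := (sb E10802 (iv7 D45256))
theorem F116986 : act 7 n45064 = n21588 := (sb E10803 (iv7 D45262))
theorem F116987 : act 2 n45065 = n21594 := (sb E10804 F71329)
theorem F116988 : act 7 n45065 = n21589 := (sb E10804 (iv7 D45267))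
theorem F116989 : act 6 n39560 = n21516 := (sb E10805 (iv6 D45066))
theorem E10806 : n76003 = n45270 := ((c14_5 (iv7 F116945) F116989 (iv7 F116975) D21590 D45270 (iv6 D76003))).symm
theorem F116990 : act 6 n45270 = n34731 := (sb E10806 (iv6 D76003))
theorem E10807 : n45270 = n38987 := ((c12_6 F116990 (iv5 F113903) F116926 (iv5 F60006) (iv6 D38988) D38987)).symm
theorem F116991 : act 6 n38987 = n34731 := (sb E10807 F116990)
theorem F116992 : act 7 n38987 = n21590 := (sb E10807 (iv7 D45270))
theorem E10808 : n38989 = n38904 := ((c13_2 F116992 F59942 (iv7 D38989) D38987)).symm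
theorem F116993 : act 2 n38904 = n18504 := (sb E10808 F60007)
theorem F116994 : act 7 n38904 = n18503 := (sb E10808 (iv7 D38989))
theorem E10809 : n38984 = n38903 := (c15_4 (iv0 D38903) D38904 F116994 D38984)
theorem F116995 : act 2 n38903 = n18503 := (sb E10809 (iv2 D38984))
theorem F116996 : act 7 n38903 = n18504 := (sb E10809 (iv7 F60005))
theorem E10810 : n55601 = n38987 := (c21_5 D39565 F116823 (iv5 D26840) D26841 D55601 F116991 (iv5 F113903) (iv1 F29983) (iv5 D18727) D18728 (iv1 F29978))
theorem F116997 : act 1 n38987 = n26841 := (sb E10810 (iv0 D55601))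
theorem E10811 : n58215 = n58156 := ((c21_2 D27721 (iv1 F91958) F92009 (iv6 D34734) D34731 (iv6 F116991) (iv5 D38987) (iv1 F59949) F59946 (iv6 F44718) (iv1 F44720))).symm
theorem F116998 : act 3 n58156 = n27734 := (sb E10811 (iv3 D58215))
theorem F116999 : act 5 n58156 = n34734 := (sb E10811 F92009)
theorem F117000 : act 6 n58156 = n27905 := (sb E10811 F92010)
theorem F117001 : act 7 n58156 = n39214 := (sb E10811 F92011)
theorem F117002 : act 2 n39214 = n58155 := d15_3 (iv0 D58155) D58156 F117001
theorem E10812 : n58160 = n45155 := (c21_5 (iv5 F116999) (iv1 D58156) (iv5 D27716) D27717 D58160 (iv6 D45155) D45154 F116925 (iv5 D76024) (iv6 F116920) (iv1 D76015))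
theorem F117003 : act 1 n45155 = n27717 := (sb E10812 (iv0 D58160))
theorem E10813 : n56443 = n45253 := ((c11_2 F116984 D45253 (iv7 F89321) (iv4 F70934))).symm
theorem F117004 : act 2 n45253 = n27168 := (sb E10813 (iv2 D56443))
theorem F117005 : act 7 n45253 = n27169 := (sb E10813 (iv7 F89321))
theorem E10814 : n56448 = n56414 := (c15_4 F89276 (iv0 F71316) F117005 (iv2 F89322))
theorem F117006 : act 2 n56414 = n27169 := (sb E10814 F89322)
theorem F117007 : act 7 n56414 = n27168 := (sb E10814 (iv7 D56448))
theorem E10815 : n56445 = n45252 := (c1_3 D45253 F117004 D56445 (iv2 D45252))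
theorem F117008 : act 4 n45252 = n27168 := (sb E10815 (iv4 D56445))
theorem E10816 : n45289 = n45068 := (c15_4 F70937 F70945 F116971 (iv2 F71345))
theorem F117009 : act 2 n45068 = n21597 := (sb E10816 F71345)
theorem F117010 : act 7 n45068 = n21596 := (sb E10816 (iv7 D45289))
theorem F117011 : act 1 n37210 = n45292 := d15_1 F116841 F116965 (iv2 F116967)
theorem E10817 : n56078 = n56013 := ((c11_2 F116951 (iv4 F88666) (iv7 F88754) D56085)).symm
theorem F117012 : act 2 n56013 = n27046 := (sb E10817 (iv2 D56078))
theorem F117013 : act 7 n56013 = n27047 := (sb E10817 (iv7 F88754))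
theorem E10818 : n56083 = n56014 := (c15_4 F88668 (iv0 F88667) F117013 (iv2 F88755))
theorem F117014 : act 2 n56014 = n27047 := (sb E10818 F88755)
theorem F117015 : act 7 n56014 = n27046 := (sb E10818 (iv7 D56083))
theorem E10819 : n58145 = n56080 := ((c1_3 (iv4 F88666) F117012 D56080 (iv2 D58145))).symm
theorem F117016 : act 2 n56080 = n27714 := (sb E10819 (iv2 D58145))
theorem F117017 : act 7 n39558 = n39575 := d8_2 F116947 D39558 (iv3 D39575)
theorem F117018 : act 7 n39559 = n39576 := d11_2 F116947 D39559 (iv4 D39576)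
theorem F117019 : act 2 n39564 = n39576 := d1_3 (iv4 D39576) F116946 D39564
theorem F117020 : act 6 n39576 = n58115 := d3_2 (iv6 F116822) F117019 F116952
theorem F117021 : act 7 n39580 = n39563 := d8_2 F116942 D39580 (iv3 D39563)
theorem F117022 : act 7 n39581 = n39564 := d11_2 F116942 D39581 (iv4 D39564)
theorem F117023 : act 2 n39559 = n39581 := d4_3 F117022 F117019 (iv7 F117018)
theorem F117024 : act 6 n56085 = n39575 := d7_2 F116926 (iv3 F88756) (iv3 D39575)
theorem F117025 : act 0 n39214 = n38988 := d21_1 (iv5 F60178) F60006 (iv6 F116926) (iv1 F29983) (iv6 F116765) F116764 (iv1 F116807) (iv5 D37256) D37257 F116861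
theorem F117026 : act 1 n39214 = n58113 := d15_1 (iv0 F117025) F116963 (iv2 F116954)
theorem F117027 : act 4 n39575 = n56087 := d10_1 F117024 (iv6 D56087) D56085
theorem F117028 : act 0 n56087 = n40267 := d20_7 F30379 (iv1 D18760) F13665 (iv3 F13661) D18738 D39575 F117027 (iv4 D40267) F30366 F28942
theorem F117029 : act 1 n39575 = n38773 := d18_8 F116634 F33888 (iv1 F116662) (iv4 D19022) D19023 D40267 (iv0 F117028) (iv4 F117027) (iv5 D38773)
theorem E10820 : n38981 = n37205 := (c15_1 D38981 (iv0 F58303) (iv7 F59939) F116888)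
theorem F117030 : act 0 n37205 = n18502 := (sb E10820 (iv1 D38981))
theorem F117031 : act 2 n38979 = n48515 := d3_3 F76351 F116885 D38979
theorem F117032 : act 1 n38901 = n55603 := d15_0 (iv0 F116840) F116872 (iv2 F116885)
theorem F117033 : act 7 n48516 = n38979 := d15_2 (iv0 D48515) D48516 F117031
theorem F117034 : act 6 n76024 = n48516 := d14_5 F117033 (iv6 D38979) (iv7 F116872) F59936 F116914
theorem F117035 : act 2 n38951 = n77733 := d2_3 (iv5 D77733) F116881 D38951
theorem F117036 : act 2 n76018 = n37397 := d1_3 F58312 F116879 D76018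
theorem F117037 : act 6 n37259 = n76018 := d3_0 F117036 (iv6 D37397) (iv2 F116875)
theorem E10821 : n36587 = n36496 := ((c11_2 F116874 F57326 (iv7 F57456) D36594)).symm
theorem F117038 : act 2 n36496 = n17648 := (sb E10821 (iv2 D36587))
theorem F117039 : act 7 n36496 = n17649 := (sb E10821 (iv7 F57456))
theorem F117040 : act 7 n37370 = n38952 := d13_2 F116874 D37370 (iv5 F59983)
theorem E10822 : n36592 = n36497 := (c15_4 F57320 F57324 F117039 (iv2 F57457))
theorem F117041 : act 2 n36497 = n17649 := (sb E10822 F57457)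
theorem F117042 : act 7 n36497 = n17648 := (sb E10822 (iv7 D36592))
theorem E10823 : n37369 = n36589 := ((c1_3 F57326 F117038 D36589 (iv2 D37369))).symm
theorem F117043 : act 2 n36589 = n17940 := (sb E10823 (iv2 D37369))
theorem F117044 : act 2 n38958 = n37398 := d3_3 (iv6 F59935) F116869 D38958
theorem F117045 : act 1 n77732 = n38969 := d15_0 (iv0 D38969) (iv7 F116868) (iv2 F116602)
theorem F117046 : act 4 n55736 = n57994 := d20_2 D26910 (iv1 F88172) (iv3 F91752) (iv1 F117045) (iv3 D77732) (iv4 D35476) (iv1 F56084) F56080 (iv3 F43334) (iv1 F43337)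
theorem E10824 : n55838 = n55729 := ((c20_11 (iv4 F88320) (iv1 F59989) (iv4 D18500) D18499 D38969 F91752 (iv4 F117046) (iv1 D55736) (iv4 D26905) D26904 D55729)).symm
theorem F117047 : act 3 n55729 = n26939 := (sb E10824 (iv3 D55838))
theorem F117048 : act 4 n55729 = n38954 := (sb E10824 (iv4 F88320))
theorem F117049 : act 7 n37381 = n38958 := d11_2 F116857 D37381 F59986
theorem F117050 : act 2 n76820 = n56912 := d15_3 F89964 F116829 (iv7 F115415)
theorem F117051 : act 3 n56912 = n76869 := d0_2 D76820 F117050 (iv2 D76869) (iv3 D35127) (iv2 F115410)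
theorem F117052 : act 7 n56912 = n76853 := d4_2 (iv7 F115415) F117050 (iv2 D76853)
theorem F117053 : act 4 n36816 = n45167 := d20_0 (iv1 F71186) F58259 (iv3 F58253) (iv1 F89964) F117051 F115479 (iv1 D36829) F28872 (iv3 F28858) D36816
theorem F117054 : act 0 n39984 = n36692 := d20_1 (iv4 F60860) (iv4 D36692) D36691 F112796 F34457 (iv4 F56791) (iv1 F57762) (iv4 F115479) (iv3 F117051) (iv1 D56912)
theorem E10825 : n77054 = n36816 := ((c20_3 (iv4 F33937) D45167 (iv4 F117053) (iv3 D77054) (iv1 F55940) F28043 (iv4 F25185) (iv1 F25188) F43174 D17066 F116743)).symm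
theorem F117055 : act 2 n36816 = n40442 := (sb E10825 F115882)
theorem F117056 : act 3 n36816 = n35192 := (sb E10825 (iv3 D77054))
theorem F117057 : act 7 n36816 = n35226 := (sb E10825 F115883)
theorem F117058 : act 7 n37303 = n45167 := d11_2 F117057 (iv4 F116760) (iv4 F117053)
theorem E10826 : n77157 = n36817 := (c15_4 F61535 F61536 F117057 D77157)
theorem F117059 : act 2 n36817 = n35226 := (sb E10826 (iv2 D77157))
theorem F117060 : act 7 n36817 = n40442 := (sb E10826 F115922)
theorem F117061 : act 2 n45167 = n37302 := d15_3 (iv0 D37302) D37303 F117058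
theorem F117062 : act 2 n37303 = n45168 := d15_3 F71181 F71186 (iv7 F117058)
theorem F117063 : act 4 n45168 = n36817 := d1_2 (iv4 F116760) F117062 F117059
theorem F117064 : act 7 n45168 = n37302 := d4_2 (iv7 F117058) F117062 (iv2 F117061)
theorem F117065 : act 4 n37302 = n40442 := d11_1 F117064 (iv7 F117060) (iv4 F117063)
theorem E10827 : n75255 = n36031 := ((c20_5 (iv4 F117063) (iv1 D45168) F33937 (iv3 F28438) D36031 (iv3 D75255) (iv4 F113033) (iv1 F72486) (iv4 F63799) F63798 (iv1 F61535))).symm
theorem F117066 : act 3 n36031 = n34453 := (sb E10827 (iv3 D75255))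
theorem F117067 : act 4 n36031 = n35321 := (sb E10827 (iv4 F112814))
theorem F117068 : act 6 n36031 = n34641 := (sb E10827 F112813)
theorem F117069 : act 7 n36031 = n34657 := (sb E10827 F113024)
theorem E10828 : n75782 = n36032 := (c15_4 F58807 F58808 F117069 D75782)
theorem F117070 : act 2 n36032 = n34657 := (sb E10828 (iv2 D75782))
theorem F117071 : act 4 n36032 = n35322 := (sb E10828 F113650)
theorem F117072 : act 2 n36031 = n37967 := d15_3 (iv0 D37967) (iv0 F116781) (iv7 F117069)
theorem F117073 : act 3 n37967 = n75772 := d0_2 (iv3 F117066) F117072 (iv2 D75772) (iv3 D34653) (iv2 F113013)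
theorem F117074 : act 4 n37967 = n36545 := d1_2 (iv4 F117067) F117072 (iv2 F113029)
theorem F117075 : act 6 n37967 = n75741 := d3_2 (iv6 F117068) F117072 F113608
theorem F117076 : act 7 n37967 = n36032 := d4_2 (iv7 F117069) F117072 F117070
theorem F117077 : act 0 n36697 = n39984 := d20_7 F117074 (iv1 F57413) F56044 (iv3 F56020) (iv1 F114030) (iv3 D36696) D36697 F60860 F44201 D37967
theorem E10829 : n36578 = n36555 := (c20_2 (iv4 F89306) (iv1 F89309) (iv4 D36555) (iv3 F91242) (iv1 D17447) (iv3 F16686) (iv4 F34454) D45891 F113033 (iv3 F117066) (iv1 F58808))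
theorem F117078 : act 0 n36555 = n17645 := (sb E10829 (iv1 D36578))
theorem F117079 : act 1 n36555 = n56434 := (sb E10829 F89309)
theorem E10830 : n36577 = n36551 := (c15_2 F117079 F89310 F91236 F91303)
theorem F117080 : act 0 n36551 = n56434 := (sb E10830 (iv1 F89310))
theorem F117081 : act 1 n36551 = n17645 := (sb E10830 (iv0 D36577))
theorem E10831 : n76820 = n37293 := ((c20_5 D36551 F117080 F89306 (iv3 F89969) (iv1 F89972) (iv3 D76820) D76821 F115344 F57382 F28694 D17636)).symm
theorem F117082 : act 2 n37293 = n56912 := (sb E10831 F117050)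
theorem F117083 : act 3 n37293 = n35112 := (sb E10831 (iv3 D76820))
theorem F117084 : act 4 n37293 = n36687 := (sb E10831 F115343)
theorem F117085 : act 7 n37293 = n35122 := (sb E10831 F115415)
theorem E10832 : n76853 = n37292 := (c15_4 (iv0 D37292) D37293 F117085 D76853)
theorem F117086 : act 2 n37292 = n35122 := (sb E10832 (iv2 D76853))
theorem F117087 : act 4 n37292 = n36686 := (sb E10832 (iv4 F115472))
theorem F117088 : act 7 n37292 = n56912 := (sb E10832 (iv7 F117052))
theorem F117089 : act 6 n76017 = n36594 := d7_2 F116805 D76017 (iv3 F57458)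
theorem F117090 : act 4 n36596 = n76017 := d10_3 F117089 (iv4 D36594) D36596
theorem F117091 : act 0 n55962 = n39865 := d21_7 (iv5 D21504) F16329 D10299 (iv6 F33919) (iv1 F116794) D39841 (iv5 F88565) F60657 (iv6 D39865) (iv1 F33810)
theorem F117092 : act 1 n55962 = n75178 := d15_1 (iv0 F117091) (iv7 D75178) (iv2 F60656)
theorem F117093 : act 4 n40566 = n77270 := d18_1 (iv1 F71210) (iv1 D77270) F55998 F28068 (iv4 F30228) D40049 (iv4 F116686) (iv0 F116734) F116736
theorem F117094 : act 2 n45186 = n40566 := d1_3 F117093 (iv2 F116043) (iv4 F116677)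
theorem F117095 : act 7 n45185 = n40566 := d11_0 F117093 F116042 (iv4 F116675)
theorem F117096 : act 4 n36000 = n37275 := d20_6 F117093 (iv1 D77270) F55998 (iv3 F28734) D36646 (iv3 F115906) (iv1 F71237) F71233 (iv3 F71206) (iv1 F71210)
theorem F117097 : act 3 n40566 = n76057 := d20_3 (iv4 F56009) (iv1 F116041) (iv4 F117093) (iv1 D76057) (iv3 D34750) D34751 D76060 F113983 (iv3 F113985) (iv1 F56003)
theorem E10833 : n76057 = n55504 := (c0_1 F117097 (iv2 D55504) (iv3 D26796) (iv2 F115429) (iv3 F116676) F117094)
theorem F117098 : act 0 n55504 = n34750 := (sb E10833 (iv1 D76057))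
theorem F117099 : act 3 n55504 = n40566 := (sb E10833 (iv3 F117097))
theorem F117100 : act 2 n37275 = n45194 := d1_1 F117096 F116718 F115903
theorem F117101 : act 7 n37275 = n45195 := d11_2 F115905 F117096 F116720
theorem F117102 : act 2 n45195 = n37276 := d15_3 F71236 F71237 F117101
theorem F117103 : act 7 n45194 = n37276 := d4_2 (iv7 F117101) F117100 (iv2 F117102)
theorem F117104 : act 4 n37276 = n36001 := d11_1 F117103 F115900 (iv4 F116718)
theorem F117105 : act 5 n57804 = n40735 := d21_2 D57794 (iv1 F90968) (iv6 D40735) (iv1 D19217) (iv6 D9033) (iv5 D4055) (iv1 F6472) D8443 D17896 (iv1 F116733)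
theorem F117106 : act 0 n57319 = n56925 := d21_10 (iv5 D56925) (iv1 F44212) F30794 D40586 (iv1 F61706) D40735 (iv5 F117105) (iv1 D57804) (iv5 F44493) D57319
theorem F117107 : act 0 n40579 = n57802 := d21_1 D40579 F90965 (iv6 D57319) F116730 (iv6 D17896) (iv5 D8443) F6471 D4036 D9008 D19165
theorem F117108 : act 4 n39510 = n77668 := d11_1 F116726 (iv7 D77668) (iv4 F71094)
theorem F117109 : act 0 n57802 = n40584 := d21_10 (iv5 D40584) (iv1 D19166) F14058 (iv6 D9008) D9006 D19162 (iv5 F33438) (iv1 F116683) D27593 D57802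
theorem F117110 : act 0 n77389 = n35581 := d18_2 (iv1 F57426) D77389 (iv4 F56962) F56963 (iv4 F43929) F116667 (iv4 D35255) F91278 (iv5 F57423)
theorem F117111 : act 5 n77380 = n77684 := d21_6 D8068 D17196 F28155 D27165 F116666 D77380 (iv1 D77684) (iv5 D35463) (iv6 D17195) (iv1 D8067)
theorem F117112 : act 5 n77683 = n77329 := d17_3 F116663 D35463 D77683 (iv4 D77329) (iv5 D35298) (iv0 F91258) (iv5 F17008) D17188 D35443
theorem F117113 : act 7 n37271 = n75961 := d8_2 F116657 (iv3 F58228) (iv3 D75961)
theorem F117114 : act 7 n37277 = n75962 := d13_2 F116657 D37277 (iv5 D75962)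
theorem F117115 : act 0 n38846 = n56273 := d21_7 F13542 (iv1 F12349) (iv5 F13256) D17908 (iv1 F116617) D75352 (iv5 F112985) (iv5 D56273) (iv6 D27112) (iv1 F21593)
theorem F117116 : act 5 n77327 = n77659 := d21_6 (iv5 F43394) F43396 F28156 D27166 (iv1 F116609) D77327 (iv1 D77659) (iv5 D35455) (iv6 D17192) (iv1 F21523)
def n77737 : Q := act 1 n35477
theorem D77737 : act 1 n35477 = n77737 := rfl
theorem F117117 : act 1 n77737 = n35482 := d15_1 D77737 (iv7 F116896) F116895
def n77738 : Q := act 4 n35477
theorem D77738 : act 4 n35477 = n77738 := rfl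
def n77739 : Q := act 6 n35477
theorem D77739 : act 6 n35477 = n77739 := rfl
def n77740 : Q := act 0 n35478
theorem D77740 : act 0 n35478 = n77740 := rfl
def n77741 : Q := act 1 n35478
theorem D77741 : act 1 n35478 = n77741 := rfl
def n77742 : Q := act 5 n35478
theorem D77742 : act 5 n35478 = n77742 := rfl
theorem F117118 : act 2 n77742 = n36598 := d2_1 D77742 (iv5 F116299) F116897
theorem F117119 : act 0 n77742 = n36498 := d21_7 (iv5 F28156) (iv1 D17197) (iv5 D8068) D8069 D17200 D35478 D77742 (iv5 D36498) (iv6 D17618) (iv1 F21656)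
theorem F117120 : act 4 n77741 = n35513 := d17_9 (iv1 D35513) F28655 (iv1 D17620) F13117 (iv4 F28653) D36498 (iv0 F117119) (iv5 D77742) D77741
theorem F117121 : act 6 n40267 = n77741 := d10_0 F117120 F91186 D40267
theorem F117122 : act 1 n77742 = n36600 := d15_1 (iv0 F117119) (iv7 D36600) (iv2 F57321)
def n77743 : Q := act 7 n35478
theorem D77743 : act 7 n35478 = n77743 := rfl
def n77744 : Q := act 0 n35480
theorem D77744 : act 0 n35480 = n77744 := rfl
def n77745 : Q := act 1 n35480
theorem D77745 : act 1 n35480 = n77745 := rfl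
def n77746 : Q := act 2 n35480
theorem D77746 : act 2 n35480 = n77746 := rfl
def n77747 : Q := act 4 n35480
theorem D77747 : act 4 n35480 = n77747 := rfl
theorem F117123 : act 3 n77747 = n38900 := d5_1 D77747 (iv4 D38900) F56172 (iv4 D35481) D35480
theorem F117124 : act 7 n77747 = n38956 := d11_2 F116894 D77747 (iv4 F116297)
def n77748 : Q := act 5 n35480
theorem D77748 : act 5 n35480 = n77748 := rfl
theorem F117125 : act 3 n77748 = n35482 := d6_1 D77748 (iv5 D35482) D35480
def n77749 : Q := act 6 n35480
theorem D77749 : act 6 n35480 = n77749 := rfl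
theorem F117126 : act 3 n77749 = n35483 := d7_1 D77749 (iv6 D35483) D35480
def n77750 : Q := act 5 n35481
theorem D77750 : act 5 n35481 = n77750 := rfl
theorem F117127 : act 3 n77750 = n38901 := d6_1 D77750 (iv5 D38901) F56172
theorem F117128 : act 7 n77750 = n38951 := d13_2 (iv7 F116882) D77750 (iv5 D38951)
def n77751 : Q := act 6 n35481
theorem D77751 : act 6 n35481 = n77751 := rfl
theorem F117129 : act 3 n77751 = n38902 := d7_1 D77751 (iv6 D38902) F56172
theorem F117130 : act 4 n77751 = n35483 := d10_1 D77751 (iv6 D35483) D35481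
def n77752 : Q := act 4 n35482
theorem D77752 : act 4 n35482 = n77752 := rfl
def n77753 : Q := act 6 n35482
theorem D77753 : act 6 n35482 = n77753 := rfl
def n77754 : Q := act 0 n35483
theorem D77754 : act 0 n35483 = n77754 := rfl
def n77755 : Q := act 1 n35483
theorem D77755 : act 1 n35483 = n77755 := rfl
def n77756 : Q := act 5 n35483
theorem D77756 : act 5 n35483 = n77756 := rfl
theorem F117131 : act 0 n77379 = n77756 := d21_1 D77379 (iv5 D77756) (iv6 D35483) (iv1 D17201) (iv6 D8069) D8068 D17196 F28155 D27165 F116666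
def n77757 : Q := act 7 n35483
theorem D77757 : act 7 n35483 = n77757 := rfl
def n77758 : Q := act 2 n35484
theorem D77758 : act 2 n35484 = n77758 := rfl
theorem F117132 : act 7 n35485 = n77758 := d15_2 (iv0 D35484) D35485 (iv2 D77758)
def n77759 : Q := act 3 n35484
theorem D77759 : act 3 n35484 = n77759 := rfl
def n77760 : Q := act 4 n35484
theorem D77760 : act 4 n35484 = n77760 := rfl
def n77761 : Q := act 5 n35484
theorem D77761 : act 5 n35484 = n77761 := rfl
def n77762 : Q := act 6 n35484
theorem D77762 : act 6 n35484 = n77762 := rfl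
def n77763 : Q := act 7 n35484
theorem D77763 : act 7 n35484 = n77763 := rfl
theorem F117133 : act 2 n77763 = n35485 := d4_1 D77763 F117132 (iv2 D77758)
def n77764 : Q := act 3 n35485
theorem D77764 : act 3 n35485 = n77764 := rfl
def n77765 : Q := act 4 n35485
theorem D77765 : act 4 n35485 = n77765 := rfl
def n77766 : Q := act 5 n35485
theorem D77766 : act 5 n35485 = n77766 := rfl
theorem F117134 : act 6 n77766 = n45253 := d21_3 (iv5 F116312) (iv1 F116314) D77766 F71316 F43933 (iv5 F57459) (iv1 F117122) (iv5 D77742) (iv6 D35478) (iv1 F56084)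
theorem F117135 : act 2 n56447 = n77766 := d3_3 F117134 F117004 D56447
theorem F117136 : act 4 n45255 = n77766 := d10_3 F117134 (iv4 D45253) D45255
theorem E10834 : n77763 = n77481 := (c2_4 (iv5 F116309) F117135 (iv5 D77766) (iv2 F117133))
theorem F117138 : act 7 n77481 = n35484 := (sb E10834 (iv7 D77763))
theorem F117139 : act 7 n77761 = n56447 := d13_2 F117138 D77761 F116309
theorem E10835 : n77758 = n77480 := (c15_4 (iv0 D77480) D77481 F117138 D77758)
theorem F117140 : act 2 n77480 = n35484 := (sb E10835 (iv2 D77758))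
theorem F117141 : act 7 n77480 = n35485 := (sb E10835 (iv7 F117132))
def n77767 : Q := act 6 n35485
theorem D77767 : act 6 n35485 = n77767 := rfl
def n77768 : Q := act 0 n35486
theorem D77768 : act 0 n35486 = n77768 := rfl
def n77770 : Q := act 3 n35486
theorem D77770 : act 3 n35486 = n77770 := rfl
def n77772 : Q := act 7 n35486
theorem D77772 : act 7 n35486 = n77772 := rfl
theorem F117142 : act 4 n77772 = n35487 := d11_1 D77772 (iv7 D35487) D35486
def n77773 : Q := act 6 n35487
theorem D77773 : act 6 n35487 = n77773 := rfl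
def n77774 : Q := act 2 n35494
theorem D77774 : act 2 n35494 = n77774 := rfl
theorem F117143 : act 7 n35495 = n77774 := d15_2 (iv0 D35494) D35495 (iv2 D77774)
def n77775 : Q := act 3 n35494
theorem D77775 : act 3 n35494 = n77775 := rfl
def n77776 : Q := act 4 n35494
theorem D77776 : act 4 n35494 = n77776 := rfl
def n77777 : Q := act 5 n35494
theorem D77777 : act 5 n35494 = n77777 := rfl
def n77778 : Q := act 6 n35494
theorem D77778 : act 6 n35494 = n77778 := rfl
def n77779 : Q := act 7 n35494
theorem D77779 : act 7 n35494 = n77779 := rfl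
theorem F117144 : act 2 n77779 = n35495 := d4_1 D77779 F117143 (iv2 D77774)
def n77780 : Q := act 4 n35495
theorem D77780 : act 4 n35495 = n77780 := rfl
def n77781 : Q := act 5 n35495
theorem D77781 : act 5 n35495 = n77781 := rfl
def n77783 : Q := act 5 n35496
theorem D77783 : act 5 n35496 = n77783 := rfl
theorem F117145 : act 2 n77783 = n35498 := d2_1 D77783 (iv5 D35498) D35496
def n77784 : Q := act 6 n35496
theorem D77784 : act 6 n35496 = n77784 := rfl
theorem F117146 : act 2 n77784 = n35499 := d3_1 D77784 (iv6 D35499) D35496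
theorem F117147 : act 4 n77784 = n57979 := d10_1 D77784 (iv6 D57979) F91361
def n77785 : Q := act 3 n35497
theorem D77785 : act 3 n35497 = n77785 := rfl
theorem F117148 : act 4 n77785 = n35503 := d5_2 D35497 D77785 (iv3 D35503) (iv4 D17206) D17205
theorem F117149 : act 7 n77785 = n57980 := d8_2 (iv7 F91359) D77785 (iv3 D57980)
def n77786 : Q := act 5 n35497
theorem D77786 : act 5 n35497 = n77786 := rfl
theorem F117150 : act 2 n77786 = n57978 := d2_1 D77786 (iv5 D57978) (iv2 F91360)
theorem F117151 : act 7 n77786 = n57981 := d13_2 (iv7 F91359) D77786 (iv5 D57981)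
theorem F117152 : act 0 n77786 = n76093 := d21_1 D77786 (iv5 D76093) (iv6 D34766) (iv1 F91392) (iv6 D27257) (iv5 F29814) (iv1 F29816) (iv5 F21988) D27652 F56183
theorem E10836 : n76120 = n57960 := ((c17_2 D27653 D57960 (iv1 D76120) (iv5 D34772) (iv4 F54984) D76093 (iv0 F117152) (iv5 D77786) (iv0 F56183) F44577)).symm
theorem F117153 : act 0 n57960 = n34772 := (sb E10836 (iv1 D76120))
theorem E10837 : n39746 = n27653 := ((((iv5 D57960)).symm.trans (sb E10836 (iv5 F114090)))).symm
theorem E10838 : n27271 = n18796 := ((F44578).symm.trans (sb E10837 (iv6 D39746)))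
theorem E10839 : n56757 = n8808 := ((((iv1 D18796)).symm.trans (sb E10838 (iv1 F89753)))).symm
theorem E10840 : n56756 = n39699 := (((F60577).symm.trans (sb E10838 (iv0 F89752)))).symm
theorem E10841 : n56760 = n39742 := ((((iv2 F60594)).symm.trans (sb E10838 (iv2 F89755)))).symm
theorem E10842 : n56769 = n39743 := (((D39743).symm.trans (sb E10838 (iv3 F89763)))).symm
theorem E10843 : n56774 = n39744 := (((D39744).symm.trans (sb E10838 D56774))).symm
theorem E10844 : n39745 = n13061 := ((D39745).symm.trans (sb E10838 (iv5 D27271)))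
theorem F117154 : act 6 n18796 = n27653 := (sb E10838 (iv6 F44578))
theorem E10845 : n56742 = n39737 := (((F60593).symm.trans (sb E10838 (iv7 F89723)))).symm
theorem E10846 : n27266 = n18795 := (((D18795).symm.trans (sb E10839 (iv1 D56757)))).symm
theorem E10847 : n56664 = n18786 := ((((iv5 D39699)).symm.trans (sb E10840 F89750))).symm
theorem E10848 : n37465 = n27838 := (((F60574).symm.trans (sb E10840 (iv6 F89751)))).symm
theorem F117156 : act 6 n39742 = n57957 := (sb E10841 (iv6 F91699))
theorem F117157 : act 5 n39743 = n27269 := (sb E10842 (iv5 D56769))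
theorem F117158 : act 6 n39743 = n57958 := (sb E10842 (iv6 F91701))
theorem F117159 : act 6 n39744 = n57959 := (sb E10843 (iv6 F91702))
theorem F117160 : act 5 n13061 = n18796 := (sb E10844 (iv5 D39745))
theorem F117161 : act 5 n39737 = n27263 := (sb E10845 (iv5 D56742))
theorem E10849 : n56747 = n39738 := (((D39738).symm.trans (sb E10846 (iv3 F89741)))).symm
theorem E10851 : n39740 = n13060 := ((D39740).symm.trans (sb E10846 (iv5 D27266)))
theorem E10852 : n56759 = n39741 := (((D39741).symm.trans (sb E10846 D56759))).symm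
theorem E10853 : n56674 = n39697 := (((D39697).symm.trans (sb E10847 (iv1 F91780)))).symm
theorem E10854 : n39698 = n27669 := ((D39698).symm.trans (sb E10847 (iv0 F91770)))
theorem E10855 : n27238 = n8805 := ((((iv6 D18786)).symm.trans (sb E10847 (iv6 D56664)))).symm
theorem E10856 : n37650 = n18793 := ((((iv1 F44950)).symm.trans (sb E10848 F58497))).symm
theorem E10857 : n17989 = n13279 := ((((iv5 D27838)).symm.trans (sb E10848 (iv5 D37465)))).symm
theorem F117162 : act 5 n39738 = n27264 := (sb E10849 (iv5 D56747))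
theorem F117163 : act 5 n13060 = n18795 := (sb E10851 (iv5 D39740))
theorem F117164 : act 0 n39741 = n56632 := (sb E10852 F89754)
theorem F117165 : act 7 n39741 = n57964 := (sb E10852 (iv7 F91708))
theorem E10858 : n58010 = n18797 := ((((iv1 F60576)).symm.trans (sb E10853 (iv1 F91775)))).symm
theorem F117166 : act 2 n39697 = n58011 := (sb E10853 (iv2 F91778))
theorem F117167 : act 5 n39697 = n27242 := (sb E10853 (iv5 D56674))
theorem F117168 : act 6 n39697 = n58027 := (sb E10853 (iv6 F91793))
theorem F117169 : act 7 n39697 = n57992 := (sb E10853 (iv7 F91751))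
theorem F117170 : act 0 n27669 = n18786 := (sb E10854 (iv1 D39698))
theorem E10859 : n13278 = n13049 := (((iv1 F22074)).symm.trans (sb E10855 (iv1 D27238)))
theorem E10860 : n17991 = n13277 := (((F22070).symm.trans (sb E10855 F44059))).symm
theorem E10866 : n39731 = n18047 := ((D39731).symm.trans (sb E10856 (iv5 D37650)))
theorem E10867 : n27239 = n8804 := ((((iv1 F22075)).symm.trans (sb E10857 (iv1 F44065)))).symm
theorem E10868 : n8803 = n8481 := ((F22073).symm.trans (sb E10857 (iv0 D17989)))
theorem F117171 : act 0 n18797 = n27669 := (sb E10858 (iv1 D58010))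
theorem E10874 : n39171 = n13281 := (((F30040).symm.trans (sb E10858 (iv6 F91776)))).symm
theorem E10875 : n27237 = n6301 := ((D27237).symm.trans (sb E10859 (iv1 D13278)))
theorem F117172 : act 1 n13049 = n8805 := (sb E10859 F22074)
theorem E10876 : n27833 = n27234 := ((((iv3 F44053)).symm.trans (sb E10859 D27833))).symm
theorem E10877 : n27834 = n27236 := ((((iv4 F44058)).symm.trans (sb E10859 D27834))).symm
theorem E10878 : n26822 = n8506 := (((F21753).symm.trans (sb E10859 F91451))).symm
theorem E10880 : n36490 = n27612 := ((((iv3 F90403)).symm.trans (sb E10860 (iv3 F57314)))).symm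
theorem E10881 : n37461 = n27829 := (((D27829).symm.trans (sb E10860 (iv4 F58352)))).symm
theorem E10882 : n27248 = n26821 := (((F91447).symm.trans (sb E10860 (iv5 F44084)))).symm
theorem E10883 : n27831 = n27231 := ((D27831).symm.trans (sb E10860 (iv6 F44043)))
theorem E10884 : n37577 = n26825 := ((F58490).symm.trans (sb E10866 F115587))
theorem E10885 : n37649 = n34760 := ((D37649).symm.trans (sb E10866 F115588))
theorem F117173 : act 5 n18047 = n18793 := (sb E10866 (iv5 D39731))
theorem E10886 : n17990 = n3925 := ((((iv1 D8804)).symm.trans (sb E10867 (iv1 F44064)))).symm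
theorem E10887 : n56651 = n18413 := ((((iv3 F61123)).symm.trans (sb E10867 (iv3 F89599)))).symm
theorem E10888 : n56656 = n18781 := (((D18781).symm.trans (sb E10867 (iv4 F89610)))).symm
theorem E10889 : n18028 = n16838 := (((F91477).symm.trans (sb E10867 F44061))).symm
theorem E10890 : n18783 = n18001 := ((D18783).symm.trans (sb E10867 F44062))
theorem F117174 : act 7 n8804 = n13049 := (sb E10867 (iv7 D27239))
theorem F117175 : act 0 n8481 = n13279 := (sb E10868 (iv1 F22073))
theorem E10891 : n18775 = n17615 := ((((iv3 F28648)).symm.trans (sb E10868 D18775))).symm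
theorem E10892 : n18776 = n17988 := ((((iv4 F29154)).symm.trans (sb E10868 D18776))).symm
theorem E10893 : n16837 = n13053 := ((((iv5 F21768)).symm.trans (sb E10868 F91489))).symm
theorem F117176 : act 7 n8481 = n13277 := (sb E10868 F61281)
theorem E10895 : n27844 = n18585 := ((D27844).symm.trans (sb E10874 (iv0 D39171)))
theorem F117177 : act 1 n6301 = n13049 := (sb E10875 (iv0 D27237))
theorem E10899 : n56649 = n18415 := ((D56649).symm.trans (sb E10876 F91571))
theorem E10900 : n56650 = n18267 := ((D56650).symm.trans (sb E10876 F91572))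
theorem E10901 : n18414 = n18130 := (((F44052).symm.trans (sb E10876 F61284))).symm
theorem E10902 : n58489 = n56648 := ((((iv4 F89596)).symm.trans (sb E10876 D58489))).symm
theorem E10903 : n55559 = n18022 := (((F44054).symm.trans (sb E10876 (iv5 F91452)))).symm
theorem E10905 : n58481 = n56653 := (((D56653).symm.trans (sb E10877 (iv1 F92379)))).symm
theorem E10906 : n56654 = n40195 := ((D56654).symm.trans (sb E10877 F61291))
theorem E10907 : n58491 = n56652 := ((((iv3 F89606)).symm.trans (sb E10877 D58491))).symm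
theorem E10908 : n58492 = n56655 := (((D56655).symm.trans (sb E10877 D58492))).symm
theorem E10910 : n18026 = n12827 := ((D18026).symm.trans (sb E10878 (iv1 D26822)))
theorem E10911 : n18027 = n16839 := ((D18027).symm.trans (sb E10878 F43188))
theorem E10912 : n55560 = n18025 := ((((iv4 F29197)).symm.trans (sb E10878 D55560))).symm
theorem E10919 : n57310 = n56405 := ((F90401).symm.trans (sb E10880 F89261))
theorem E10921 : n55702 = n40275 := (((F90404).symm.trans (sb E10880 (iv4 F88144)))).symm
theorem E10922 : n55503 = n35352 := (((iv5 F87792)).symm.trans (sb E10880 F57315))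
theorem E10924 : n58482 = n45808 := ((D58482).symm.trans (sb E10881 (iv3 F72314)))
theorem E10926 : n56681 = n55555 := (((D55555).symm.trans (sb E10882 (iv4 F89644)))).symm
theorem E10927 : n35144 = n18020 := (((iv6 F91492)).symm.trans (sb E10882 F44085))
theorem E10930 : n58487 = n56641 := ((((iv5 F89569)).symm.trans (sb E10883 D58487))).symm
theorem F117179 : act 1 n26825 = n18047 := (sb E10884 (iv0 F58490))
theorem E10932 : n56762 = n55574 := (((D55574).symm.trans (sb E10884 F89757))).symm
theorem F117180 : act 0 n34760 = n18047 := (sb E10885 (iv1 D37649))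
theorem F117181 : act 0 n3925 = n8481 := (sb E10886 (iv1 D17990))
theorem E10935 : n38236 = n37811 := (((iv1 F59106)).symm.trans (sb E10887 (iv1 F89603)))
theorem E10936 : n37810 = n8666 := ((((iv0 D18413)).symm.trans (sb E10887 F89604))).symm
theorem E10937 : n38235 = n37812 := (((iv2 F91573)).symm.trans (sb E10887 F89598))
theorem E10938 : n37565 = n34614 := ((((iv5 F113086)).symm.trans (sb E10887 F89600))).symm
theorem F117182 : act 7 n18413 = n27234 := (sb E10887 (iv7 D56651))
theorem E10940 : n39663 = n37459 := (((iv1 F60553)).symm.trans (sb E10888 (iv1 F89613)))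
theorem E10941 : n39662 = n37458 := ((F60557).symm.trans (sb E10888 F89614))
theorem E10942 : n39686 = n37488 := ((D39686).symm.trans (sb E10888 F89611))
theorem F117183 : act 7 n18781 = n27236 := (sb E10888 (iv7 D56656))
theorem E10943 : n27247 = n7852 := ((((iv1 D16838)).symm.trans (sb E10889 (iv1 F44082)))).symm
theorem E10944 : n27246 = n26823 := (((F43187).symm.trans (sb E10889 F44086))).symm
theorem E10945 : n37573 = n34756 := (((D34756).symm.trans (sb E10889 (iv4 F58456)))).symm
theorem E10946 : n34758 = n27256 := ((D34758).symm.trans (sb E10889 (iv6 F44104)))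
theorem F117184 : act 7 n16838 = n8506 := (sb E10889 (iv7 D18028))
theorem E10949 : n39691 = n37502 := ((((iv5 F58378)).symm.trans (sb E10890 D39691))).symm
theorem E10952 : n36489 = n27613 := ((D36489).symm.trans (sb E10891 (iv0 F90396)))
theorem E10953 : n27611 = n27155 := ((((iv2 F43904)).symm.trans (sb E10891 (iv2 F90407)))).symm
theorem E10954 : n39658 = n26896 := ((((iv4 F43392)).symm.trans (sb E10891 D39658))).symm
theorem E10955 : n34750 = n17155 := (((F28649).symm.trans (sb E10891 (iv5 F91485)))).symm
theorem E10958 : n39665 = n37460 := (((D37460).symm.trans (sb E10892 D39665))).symm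
theorem F117187 : act 7 n17988 = n27829 := (sb E10892 (iv7 F61277))
theorem E10960 : n34751 = n27245 := ((((iv4 F44081)).symm.trans (sb E10893 D34751))).symm
theorem F117188 : act 7 n13053 = n26821 := (sb E10893 (iv7 F91472))
theorem F117189 : act 0 n18585 = n13281 := (sb E10895 (iv1 D27844))
theorem E10966 : n39172 = n18785 := ((D39172).symm.trans (sb E10895 F44958))
theorem E10967 : n58516 = n39159 := ((((iv2 F60155)).symm.trans (sb E10895 (iv2 F92444)))).symm
theorem E10970 : n58519 = n39173 := (((D39173).symm.trans (sb E10895 D58519))).symm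
theorem E10972 : n58511 = n39174 := (((D39174).symm.trans (sb E10895 F92443))).symm
theorem F117190 : act 1 n18415 = n27234 := (sb E10899 (iv0 D56649))
theorem F117191 : act 0 n18267 = n27234 := (sb E10900 (iv1 D56650))
theorem E10973 : n38711 = n37809 := ((((iv4 F58661)).symm.trans (sb E10901 D38711))).symm
theorem F117192 : act 7 n56648 = n38706 := (sb E10902 F92399)
theorem E10976 : n37563 = n34616 := ((D37563).symm.trans (sb E10903 F113088))
theorem E10977 : n37564 = n34498 := ((D37564).symm.trans (sb E10903 F113089))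
theorem F117193 : act 0 n56653 = n27829 := (sb E10905 (iv1 D58481))
theorem F117194 : act 2 n56653 = n37458 := (sb E10905 (tr F92382 E10941))
theorem F117195 : act 3 n56653 = n38640 := (sb E10905 F92383)
theorem F117196 : act 4 n56653 = n37452 := (sb E10905 (iv4 F92381))
theorem F117197 : act 7 n56653 = n37459 := (sb E10905 (tr F92380 E10940))
theorem F117198 : act 0 n40195 = n27236 := (sb E10906 (iv1 D56654))
theorem F117199 : act 7 n56652 = n39684 := (sb E10907 F92402)
theorem F117200 : act 7 n56655 = n39685 := (sb E10908 F92404)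
theorem F117201 : act 1 n12827 = n8506 := (sb E10910 (iv0 D18026))
theorem E10981 : n37578 = n26826 := (((D26826).symm.trans (sb E10910 D37578))).symm
theorem F117202 : act 0 n16839 = n8506 := (sb E10911 (iv1 D18027))
theorem E10986 : n37582 = n34761 := (((D34761).symm.trans (sb E10911 D37582))).symm
theorem E10987 : n77313 = n37571 := (((D37571).symm.trans (sb E10912 (iv0 F116115)))).symm
theorem F117203 : act 0 n56405 = n27612 := (sb E10919 (iv1 F90401))
theorem F117205 : act 3 n56405 = n27591 := (sb E10919 F90397)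
theorem F117206 : act 4 n56405 = n55688 := (sb E10919 F90398)
theorem F117207 : act 6 n56405 = n57842 := (sb E10919 F91134)
theorem F117210 : act 2 n40275 = n36149 := (sb E10921 F88143)
theorem E10991 : n56006 = n26796 := (((iv1 F88651)).symm.trans (sb E10922 (iv1 D55503)))
theorem F117212 : act 3 n35352 = n26821 := (sb E10922 F91446)
theorem E10992 : n77331 = n36882 := ((((iv4 F57826)).symm.trans (sb E10922 F116143))).symm
theorem F117213 : act 5 n35352 = n27612 := (sb E10922 F87792)
theorem E10993 : n76917 = n37538 := ((((iv6 F58430)).symm.trans (sb E10922 (iv6 F115564)))).symm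
theorem F117215 : act 3 n45808 = n27829 := (sb E10924 (iv3 D58482))
theorem F117217 : act 1 n55555 = n37570 := (sb E10926 F89648)
theorem F117218 : act 3 n55555 = n46648 := (sb E10926 F89643)
theorem E10994 : n76918 = n37545 := (((iv6 F115567)).symm.trans (sb E10926 F89645))
theorem E10995 : n34793 = n27254 := ((((iv1 F44100)).symm.trans (sb E10927 (iv1 F55851)))).symm
theorem E10996 : n27253 = n17062 := ((F44105).symm.trans (sb E10927 (iv0 D35144)))
theorem F117219 : act 6 n18020 = n26821 := (sb E10927 F91492)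
theorem E10999 : n39849 = n37500 := ((((iv1 F89572)).symm.trans (sb E10930 F92391))).symm
theorem E11000 : n37499 = n27902 := ((F89573).symm.trans (sb E10930 F92392))
theorem F117220 : act 0 n55574 = n27267 := (sb E10932 (iv1 D56762))
theorem F117221 : act 1 n37811 = n18413 := (sb E10935 F59106)
theorem F117222 : act 2 n37811 = n18267 := (sb E10935 (iv2 D38236))
theorem F117223 : act 3 n37811 = n18437 := (sb E10935 F59104)
theorem F117224 : act 5 n37811 = n38716 := (sb E10935 F59498)
theorem F117225 : act 7 n37811 = n18415 := (sb E10935 F59105)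
theorem F117226 : act 1 n8666 = n18130 := (sb E10936 (iv0 D37810))
theorem F117227 : act 0 n37812 = n18267 := (sb E10937 (iv1 D38235))
theorem F117228 : act 1 n37812 = n18415 := (sb E10937 F59107)
theorem E11002 : n75363 = n75272 := ((((iv5 F112854)).symm.trans (sb E10937 (iv5 F113081)))).symm
theorem E11003 : n75364 = n75271 := (((iv1 F113093)).symm.trans (sb E10938 (iv1 F112851)))
theorem E11004 : n75270 = n16775 := ((((iv0 D34614)).symm.trans (sb E10938 F112856))).symm
theorem E11005 : n75697 = n56698 := ((D75697).symm.trans (sb E10938 (iv6 F89671)))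
theorem F117230 : act 7 n34614 = n18022 := (sb E10938 (iv7 D37565))
theorem F117232 : act 1 n37459 = n18781 := (sb E10940 F60553)
theorem F117233 : act 2 n37459 = n40195 := (sb E10940 (iv2 F61129))
theorem F117234 : act 4 n37459 = n40194 := (sb E10940 F61122)
theorem F117235 : act 0 n37458 = n18781 := (sb E10941 (iv1 F60557))
theorem F117236 : act 4 n37458 = n40053 := (sb E10941 F60942)
theorem F117237 : act 7 n37458 = n40195 := (sb E10941 F61131)
theorem F117238 : act 6 n37488 = n18781 := (sb E10942 (iv6 D39686))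
theorem F117239 : act 0 n7852 = n13053 := (sb E10943 (iv1 D27247))
theorem F117240 : act 1 n26823 = n13053 := (sb E10944 (iv0 D27246))
theorem E11014 : n56685 = n55564 := (((D55564).symm.trans (sb E10944 D56685))).symm
theorem E11015 : n56686 = n55565 := (((D55565).symm.trans (sb E10944 D56686))).symm
theorem E11016 : n76061 = n56679 := (((iv1 F114050)).symm.trans (sb E10945 (iv1 F89638)))
theorem E11017 : n76060 = n56678 := ((F113982).symm.trans (sb E10945 F89646))
theorem E11018 : n76071 = n56703 := ((D76071).symm.trans (sb E10945 (iv6 F89681)))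
theorem F117241 : act 7 n34756 = n18025 := (sb E10945 (iv7 D37573))
theorem E11019 : n18018 = n16857 := (((iv1 F44106)).symm.trans (sb E10946 F91478))
theorem E11020 : n35146 = n18017 := (((F44107).symm.trans (sb E10946 F91479))).symm
theorem F117242 : act 6 n27256 = n16838 := (sb E10946 (iv6 D34758))
theorem E11022 : n35145 = n13056 := ((((iv7 D27256)).symm.trans (sb E10946 F91495))).symm
theorem E11023 : n56639 = n18856 := (((iv1 F89564)).symm.trans (sb E10949 F91461))
theorem E11024 : n58681 = n56638 := (((F89571).symm.trans (sb E10949 F92697))).symm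
theorem E11025 : n58680 = n18000 := ((((iv7 D37502)).symm.trans (sb E10949 (iv7 F92688)))).symm
theorem F117245 : act 0 n27613 = n17615 := (sb E10952 (iv1 D36489))
theorem F117246 : act 1 n27613 = n56407 := (sb E10952 F89262)
theorem F117247 : act 1 n27155 = n13188 := (sb E10953 (iv0 D27611))
theorem E11026 : n40274 = n17477 := (((F43906).symm.trans (sb E10953 F90409))).symm
theorem E11027 : n55502 = n27019 := (((F43907).symm.trans (sb E10953 (iv5 F90466)))).symm
theorem E11029 : n55699 = n39962 := ((D55699).symm.trans (sb E10954 F60802))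
theorem E11030 : n55700 = n40272 := ((D55700).symm.trans (sb E10954 (iv0 F61265)))
theorem F117248 : act 7 n26896 = n40275 := (sb E10954 (iv7 F61272))
theorem E11031 : n55371 = n35350 := (((D35350).symm.trans (sb E10955 F91483))).symm
theorem E11032 : n55504 = n35351 := (((D35351).symm.trans (sb E10955 (iv0 F117098)))).symm
theorem E11033 : n76058 = n17766 := ((((iv4 F28906)).symm.trans (sb E10955 D76058))).symm
theorem F117249 : act 7 n37460 = n58483 := (sb E10958 (iv7 F92386))
theorem F117250 : act 7 n27245 = n55555 := (sb E10960 F91488)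
theorem F117251 : act 0 n18785 = n18585 := (sb E10966 (iv1 D39172))
theorem F117252 : act 7 n39159 = n27843 := (sb E10967 (iv7 D58516))
theorem F117253 : act 6 n39173 = n76077 := (sb E10970 F114067)
theorem F117254 : act 2 n39174 = n27843 := (sb E10972 (iv2 D58511))
theorem F117255 : act 0 n37809 = n39954 := (sb E10973 F91417)
theorem F117256 : act 1 n37809 = n39959 := (sb E10973 (iv0 F90411))
theorem F117257 : act 1 n34616 = n18022 := (sb E10976 (iv0 D37563))
theorem F117258 : act 0 n34498 = n18022 := (sb E10977 (iv1 D37564))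
theorem E11044 : n56677 = n55575 := (((D55575).symm.trans (sb E10981 F91769))).symm
theorem E11045 : n76079 = n58005 := ((D76079).symm.trans (sb E10986 (iv5 F91763)))
theorem F117259 : act 1 n37571 = n55555 := (sb E10987 (iv0 F116116))
theorem F117260 : act 2 n37571 = n56679 := (sb E10987 (tr F116113 E11016))
theorem F117261 : act 4 n37571 = n35290 := (sb E10987 (iv4 D77313))
theorem F117262 : act 7 n37571 = n56678 := (sb E10987 (tr F116114 E11017))
theorem F117263 : act 1 n26796 = n35352 := (sb E10991 F88651)
theorem E11046 : n56298 = n35303 := (((iv1 F89061)).symm.trans (sb E10992 (iv1 D77331)))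
theorem E11048 : n76164 = n18013 := ((((iv7 D37538)).symm.trans (sb E10993 F115565))).symm
theorem F117264 : act 6 n37545 = n55555 := (sb E10994 F115567)
theorem E11050 : n56708 = n16857 := (((iv2 F89686)).symm.trans (sb E10995 (iv2 D34793)))
theorem E11051 : n56709 = n17923 := ((D56709).symm.trans (sb E10995 F116768))
theorem E11052 : n56710 = n46697 := ((D56710).symm.trans (sb E10995 (iv4 F91299)))
theorem E11053 : n76167 = n56711 := (((D56711).symm.trans (sb E10995 D76167))).symm
theorem E11054 : n76168 = n56712 := (((D56712).symm.trans (sb E10995 D76168))).symm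
theorem F117265 : act 0 n17062 = n18020 := (sb E10996 (iv1 F44105))
theorem F117266 : act 2 n37500 = n18856 := (sb E10999 (iv2 D39849))
theorem F117267 : act 3 n37500 = n45157 := (sb E10999 (iv3 F116700))
theorem F117268 : act 7 n37500 = n56638 := (sb E10999 (tr (iv7 F92695) E11024))
theorem F117269 : act 0 n27902 = n56641 := (sb E11000 (iv1 F89573))
theorem E11060 : n56775 = n55577 := ((((iv5 F87889)).symm.trans (sb E11000 (iv5 F89766)))).symm
theorem F117270 : act 0 n75272 = n34498 := (sb E11002 (iv1 D75363))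
theorem F117271 : act 1 n75272 = n34616 := (sb E11002 F113090)
theorem F117272 : act 2 n75272 = n34614 := (sb E11002 (iv2 F113084))
theorem F117273 : act 1 n75271 = n34614 := (sb E11003 F113093)
theorem F117274 : act 2 n75271 = n34498 := (sb E11003 (iv2 D75364))
theorem F117275 : act 3 n75271 = n34639 := (sb E11003 F113091)
theorem F117277 : act 1 n16775 = n34461 := (sb E11004 (iv0 D75270))
theorem E11061 : n37818 = n34653 := ((F89674).symm.trans (sb E11005 (iv0 F113557)))
theorem F117278 : act 4 n56698 = n77145 := (sb E11005 (iv4 F115859))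
theorem F117279 : act 6 n56698 = n34614 := (sb E11005 (iv6 D75697))
theorem E11063 : n39173 = n34768 := ((((iv1 F87871)).symm.trans (sb E11014 F89650))).symm
theorem F117280 : act 5 n55565 = n37500 := (sb E11015 F89651)
theorem F117281 : act 1 n56679 = n34756 := (sb E11016 F114050)
theorem F117282 : act 4 n56679 = n36510 := (sb E11016 F114051)
theorem F117283 : act 0 n56678 = n34756 := (sb E11017 (iv1 F113982))
theorem F117284 : act 4 n56678 = n36509 := (sb E11017 F113983)
theorem E11064 : n77337 = n37543 := ((((iv1 F89683)).symm.trans (sb E11018 F116149))).symm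
theorem E11065 : n77335 = n37542 := (((F89684).symm.trans (sb E11018 F116148))).symm
theorem F117285 : act 6 n56703 = n34756 := (sb E11018 (iv6 D76071))
theorem F117286 : act 0 n16857 = n8501 := (sb E11019 (iv1 D18018))
theorem F117287 : act 1 n16857 = n27256 := (sb E11019 F44106)
theorem F117288 : act 2 n16857 = n37551 := (sb E11019 (iv2 F58441))
theorem E11071 : n37546 = n17062 := ((((iv7 F43169)).symm.trans (sb E11019 F58439))).symm
theorem E11072 : n37547 = n21563 := ((D37547).symm.trans (sb E11020 F116786))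
theorem E11073 : n37584 = n37548 := (((D37548).symm.trans (sb E11020 F91502))).symm
theorem E11074 : n76924 = n37549 := (((D37549).symm.trans (sb E11020 D76924))).symm
theorem F117290 : act 0 n13056 = n17062 := (sb E11022 (iv1 D35145))
theorem F117291 : act 0 n18856 = n27230 := (sb E11023 (iv1 D56639))
theorem F117292 : act 1 n18856 = n37502 := (sb E11023 F89564)
theorem F117293 : act 2 n56638 = n27902 := (sb E11024 (iv2 D58681))
theorem F117294 : act 3 n56638 = n37211 := (sb E11024 (iv3 F116815))
theorem F117295 : act 0 n18000 = n27902 := (sb E11025 (iv1 D58680))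
theorem F117296 : act 0 n17477 = n36103 := (sb E11026 (iv1 F61269))
theorem F117297 : act 1 n17477 = n19033 := (sb E11026 (iv0 D40274))
theorem F117298 : act 1 n27019 = n26796 := (sb E11027 (iv0 D55502))
theorem E11076 : n77330 = n27122 := ((((iv4 F43856)).symm.trans (sb E11027 (iv4 F116138)))).symm
theorem F117299 : act 0 n39962 = n36149 := (sb E11029 (iv1 F88146))
theorem F117300 : act 1 n39962 = n26896 := (sb E11029 (iv0 D55699))
theorem F117301 : act 0 n40272 = n26896 := (sb E11030 (iv1 D55700))
theorem F117302 : act 1 n40272 = n36149 := (sb E11030 F88141)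
theorem E11077 : n77422 = n26755 := ((D77422).symm.trans (sb E11031 (iv3 D55371)))
theorem E11078 : n77423 = n36017 := ((D77423).symm.trans (sb E11031 F87638))
theorem E11079 : n77426 = n26796 := ((D77426).symm.trans (sb E11031 F115437))
theorem E11080 : n77427 = n40566 := ((D77427).symm.trans (sb E11032 F117099))
theorem E11081 : n77428 = n36018 := ((D77428).symm.trans (sb E11032 (iv4 F115451)))
theorem E11082 : n36879 = n36671 := ((D36879).symm.trans (sb E11033 F113980))
theorem F117305 : act 5 n55575 = n58008 := (sb E11044 (iv5 F91767))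
theorem F117306 : act 6 n55575 = n27243 := (sb E11044 (iv6 D56677))
theorem F117308 : act 3 n58005 = n38960 := (sb E11045 (iv3 F116839))
theorem F117309 : act 5 n58005 = n34761 := (sb E11045 (iv5 D76079))
theorem F117310 : act 1 n35303 = n36882 := (sb E11046 F89061)
theorem E11084 : n76816 = n37535 := (((D37535).symm.trans (sb E11048 F116151))).symm
theorem E11085 : n77217 = n27123 := ((((iv4 F43858)).symm.trans (sb E11048 F115978))).symm
theorem E11086 : n37551 = n27254 := ((F117288).symm.trans (sb E11050 F89686))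
theorem F117312 : act 3 n17923 = n27254 := (sb E11051 (iv3 D56709))
theorem F117313 : act 4 n46697 = n27254 := (sb E11052 (iv4 D56710))
theorem E11087 : n76927 = n39184 := (((F91795).symm.trans (sb E11053 (iv1 F115592)))).symm
theorem F117314 : act 1 n56711 = n76926 := (sb E11053 F115591)
theorem F117315 : act 2 n56711 = n34795 := (sb E11053 F114135)
theorem F117316 : act 3 n56711 = n37313 := (sb E11053 (iv3 F116775))
theorem F117317 : act 7 n56711 = n37549 := (sb E11053 (tr (iv7 F115584) E11074))
theorem F117318 : act 2 n56712 = n34796 := (sb E11054 F114136)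
theorem F117319 : act 3 n56712 = n37314 := (sb E11054 (iv3 F116779))
theorem F117320 : act 1 n55577 = n27272 := (sb E11060 (iv0 D56775))
theorem E11088 : n37635 = n34773 := (((F87890).symm.trans (sb E11060 F89767))).symm
theorem F117321 : act 0 n34653 = n56698 := (sb E11061 (iv1 F89674))
theorem E11089 : n75771 = n18133 := ((D75771).symm.trans (sb E11061 (iv0 D37818)))
theorem E11090 : n76103 = n18585 := ((D76103).symm.trans (sb E11063 (iv5 D39173)))
theorem E11091 : n76104 = n76077 := ((D76104).symm.trans (sb E11063 F117253))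
theorem F117322 : act 4 n37543 = n35306 := (sb E11064 (iv4 D77337))
theorem F117323 : act 4 n37542 = n35305 := (sb E11065 (iv4 D77335))
theorem F117324 : act 2 n17062 = n18017 := (sb E11071 (iv2 D37546))
theorem F117325 : act 3 n21563 = n18017 := (sb E11072 (iv3 D37547))
theorem F117326 : act 0 n37548 = n46699 := (sb E11073 (iv1 F73817))
theorem F117327 : act 1 n37548 = n18030 := (sb E11073 (iv0 D37584))
theorem F117328 : act 2 n37548 = n35147 := (sb E11073 (iv2 F91501))
theorem F117329 : act 6 n37548 = n76076 := (sb E11073 (iv6 F114061))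
theorem F117330 : act 7 n37548 = n46697 := (sb E11073 F91500)
theorem E11092 : n76172 = n58026 := (((F91792).symm.trans (sb E11074 (iv1 F115585)))).symm
theorem F117331 : act 1 n37549 = n76171 := (sb E11074 F115586)
theorem F117332 : act 2 n37549 = n35148 := (sb E11074 F115581)
theorem F117333 : act 3 n37549 = n45174 := (sb E11074 (iv3 F116792))
theorem F117334 : act 0 n27122 = n36023 := (sb E11076 (iv1 F116139))
theorem F117336 : act 3 n26755 = n35350 := (sb E11077 (iv3 D77422))
theorem F117337 : act 4 n36017 = n35350 := (sb E11078 (iv4 D77423))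
theorem F117338 : act 2 n26796 = n35351 := (sb E11079 F116233)
theorem F117339 : act 7 n26796 = n35350 := (sb E11079 (iv7 D77426))
theorem F117340 : act 3 n40566 = n35351 := (sb E11080 (iv3 D77427))
theorem F117341 : act 4 n36018 = n35351 := (sb E11081 (iv4 D77428))
theorem F117342 : act 0 n36671 = n56300 := (sb E11082 (iv1 F89068))
theorem F117343 : act 1 n36671 = n17766 := (sb E11082 (iv0 D36879))
theorem F117347 : act 4 n37535 = n36828 := (sb E11084 F115337)
theorem F117348 : act 6 n37535 = n55505 := (sb E11084 F115336)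
theorem F117349 : act 7 n37535 = n35127 := (sb E11084 F115420)
theorem E11093 : n56301 = n35248 := ((D56301).symm.trans (sb E11085 (iv1 D77217)))
theorem E11094 : n56302 = n36051 := ((D56302).symm.trans (sb E11085 F115977))
theorem F117350 : act 2 n27254 = n16857 := (sb E11086 (iv2 F117288))
theorem F117351 : act 7 n27254 = n18017 := (sb E11086 (iv7 D37551))
theorem F117352 : act 0 n39184 = n35148 := (sb E11087 (iv1 D76927))
theorem E11095 : n76078 = n18042 := (((iv1 F114062)).symm.trans (sb E11088 (iv1 D37635)))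
theorem E11096 : n58059 = n58006 := (((iv5 F91824)).symm.trans (sb E11088 F91771))
theorem F117353 : act 0 n18133 = n34653 := (sb E11089 (iv1 D75771))
theorem F117354 : act 5 n18585 = n34768 := (sb E11090 (iv5 D76103))
theorem F117355 : act 6 n76077 = n34768 := (sb E11091 (iv6 D76104))
theorem F117356 : act 0 n58026 = n34795 := (sb E11092 (iv1 D76172))
theorem E11097 : n77216 = n36874 := ((D77216).symm.trans (sb E11093 (iv1 F89074)))
theorem F117357 : act 1 n35248 = n27123 := (sb E11093 (iv0 D56301))
theorem F117358 : act 0 n36051 = n27123 := (sb E11094 (iv1 D56302))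
theorem E11098 : n37634 = n34761 := ((D37634).symm.trans (sb E11095 (iv1 D76078)))
theorem F117359 : act 1 n18042 = n34773 := (sb E11095 F114062)
theorem F117360 : act 3 n58006 = n27684 := (sb E11096 (iv3 D58059))
theorem F117361 : act 5 n58006 = n34773 := (sb E11096 F91824)
theorem F117362 : act 6 n58006 = n35905 := (sb E11096 F91825)
theorem F117365 : act 1 n36874 = n35248 := (sb E11097 (iv0 D77216))
theorem F117366 : act 1 n34761 = n18042 := (sb E11098 (iv0 D37634))
theorem F117367 : act 2 n37637 = n76077 := d15_3 (iv0 D76077) F117366 D37637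
theorem F117368 : act 5 n39157 = n37630 := d21_6 (iv5 F117309) F91765 (iv5 D27673) D27674 D58024 F91791 (iv1 D37630) (iv5 D18041) D18042 (iv1 F117366)
theorem F117369 : act 0 n39732 = n39157 := d21_10 F117368 (iv1 D37630) (iv5 D18041) D18042 (iv1 F117366) (iv6 D34761) D34760 F117180 F117173 D39732
theorem F117370 : act 0 n58024 = n39741 := d21_4 D18046 (iv1 F58486) (iv5 F117368) (iv6 F91791) (iv6 D39741) (iv5 F117163) (iv1 F44078) F44074 F44075 (iv1 F29178)
theorem F117371 : act 6 n76171 = n39100 := d21_3 (iv5 F91790) F117370 (iv5 F114138) (iv1 D39100) F29804 (iv5 D16702) (iv1 F13732) D16701 (iv6 F44102) D56713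
theorem F117372 : act 2 n58027 = n39741 := d15_3 (iv0 F117370) (iv0 D58024) D58027
theorem F117373 : act 2 n76171 = n39184 := d2_3 F91794 F117372 (iv5 F114138)
theorem E11099 : n39737 = n39697 := (c3_4 F117168 F117372 (iv6 D39741) D39737)
theorem E11100 : n58011 = n18795 := ((F117166).symm.trans (sb E11099 (iv2 D39737)))
theorem E11101 : n27263 = n27242 := (((F117167).symm.trans (sb E11099 F117161))).symm
theorem E11102 : n57992 = n18796 := ((F117169).symm.trans (sb E11099 (iv7 F60593)))
theorem E11103 : n56671 = n13060 := ((((iv5 F117163)).symm.trans (sb E11100 F91779))).symm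
theorem E11104 : n39742 = n27669 := ((D39742).symm.trans (sb E11100 (iv7 D58011)))
theorem E11107 : n56740 = n56672 := (((D56672).symm.trans (sb E11101 D56740))).symm
theorem E11108 : n56741 = n56673 := (((D56673).symm.trans (sb E11101 D56741))).symm
theorem E11109 : n56743 = n39183 := ((((iv6 F60162)).symm.trans (sb E11101 D56743))).symm
theorem E11110 : n56675 = n13061 := ((D56675).symm.trans (sb E11101 (iv7 F44112)))
theorem E11111 : n27665 = n27653 := (((F117154).symm.trans (sb E11102 (iv6 D57992)))).symm
theorem F117375 : act 7 n18796 = n39697 := (sb E11102 (iv7 F117169))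
theorem F117376 : act 2 n13060 = n27242 := (sb E11103 (iv2 D56671))
theorem E11112 : n27268 = n27243 := ((D27268).symm.trans (sb E11103 (iv7 F89636)))
theorem F117377 : act 2 n27669 = n18796 := (sb E11104 F60594)
theorem E11113 : n57957 = n13209 := ((((iv6 D27669)).symm.trans (sb E11104 F117156))).symm
theorem F117378 : act 7 n27669 = n18795 := (sb E11104 (iv7 D39742))
theorem F117379 : act 7 n56672 = n27269 := (sb E11107 F89719)
theorem F117380 : act 2 n56673 = n27265 := (sb E11108 F89720)
theorem F117381 : act 7 n56673 = n27270 := (sb E11108 F89721)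
theorem F117382 : act 2 n39183 = n27267 := (sb E11109 F89724)
theorem F117383 : act 7 n13061 = n27242 := (sb E11110 (iv7 D56675))
theorem E11116 : n57989 = n57958 := (((D57958).symm.trans (sb E11111 D57989))).symm
theorem E11117 : n57990 = n57959 := (((D57959).symm.trans (sb E11111 D57990))).symm
theorem E11118 : n57991 = n57960 := (((D57960).symm.trans (sb E11111 D57991))).symm
theorem E11119 : n57961 = n13210 := ((D57961).symm.trans (sb E11111 (iv7 F44605)))
theorem F117384 : act 2 n27243 = n13061 := (sb E11112 F44113)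
theorem E11120 : n56749 = n56318 := ((((iv3 F89086)).symm.trans (sb E11112 (iv3 F89743)))).symm
theorem E11121 : n56755 = n56676 := (((D56676).symm.trans (sb E11112 (iv4 F89748)))).symm
theorem E11122 : n56764 = n55575 := ((((iv6 F117306)).symm.trans (sb E11112 D56764))).symm
theorem F117385 : act 7 n27243 = n13060 := (sb E11112 (iv7 D27268))
theorem F117386 : act 2 n13209 = n27653 := (sb E11113 (iv2 D57957))
theorem E11123 : n27670 = n27654 := ((D27670).symm.trans (sb E11113 (iv7 F91700)))
theorem F117387 : act 7 n57958 = n27671 := (sb E11116 F91744)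
theorem F117388 : act 2 n57959 = n27667 := (sb E11117 F91745)
theorem F117389 : act 7 n57959 = n27672 := (sb E11117 F91746)
theorem F117390 : act 2 n57960 = n27668 := (sb E11118 F91747)
theorem F117391 : act 7 n57960 = n27673 := (sb E11118 F91748)
theorem F117392 : act 7 n13210 = n27653 := (sb E11119 (iv7 D57961))
theorem F117393 : act 7 n56318 = n27264 := (sb E11120 (iv7 D56749))
theorem F117394 : act 2 n56676 = n27270 := (sb E11121 F89747)
theorem F117395 : act 7 n56676 = n27265 := (sb E11121 (iv7 D56755))
theorem F117396 : act 2 n55575 = n27272 := (sb E11122 F89758)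
theorem F117397 : act 2 n27654 = n13210 := (sb E11123 F44607)
theorem E11124 : n57998 = n55716 := ((((iv3 F88158)).symm.trans (sb E11123 (iv3 F91756)))).symm
theorem E11125 : n58004 = n57962 := (((D57962).symm.trans (sb E11123 (iv4 F91761)))).symm
theorem E11126 : n58009 = n57963 := (((D57963).symm.trans (sb E11123 (iv5 F91774)))).symm
theorem E11127 : n58012 = n57964 := (((D57964).symm.trans (sb E11123 D58012))).symm
theorem F117399 : act 7 n55716 = n27666 := (sb E11124 (iv7 D57998))
theorem F117400 : act 2 n57962 = n27672 := (sb E11125 F91760)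
theorem F117401 : act 7 n57962 = n27667 := (sb E11125 (iv7 D58004))
theorem F117402 : act 2 n57963 = n27673 := (sb E11126 F91773)
theorem F117403 : act 7 n57963 = n27668 := (sb E11126 (iv7 D58009))
theorem F117404 : act 1 n57964 = n37493 := (sb E11127 F91797)
theorem F117405 : act 2 n57964 = n27674 := (sb E11127 F91781)
theorem E11128 : n58025 = n56632 := (c15_1 D58025 (iv0 F117164) F117165 F117405)
theorem F117406 : act 0 n56632 = n27674 := (sb E11128 (iv1 D58025))
theorem F117407 : act 2 n58023 = n39883 := d3_3 F91707 F117402 D58023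
theorem E11129 : n76119 = n57963 := ((c15_4 (iv0 D76119) (iv0 F117153) F117391 (iv2 F117402))).symm
theorem F117408 : act 1 n57963 = n34772 := (sb E11129 (iv0 D76119))
theorem F117409 : act 7 n39884 = n58023 := d15_2 (iv0 D39883) D39884 F117407
theorem E11130 : n55709 = n55646 := ((c11_2 F117399 (iv4 F88038) (iv7 F88156) D55716)).symm
theorem F117410 : act 2 n55646 = n26899 := (sb E11130 (iv2 D55709))
theorem F117411 : act 7 n55646 = n26900 := (sb E11130 (iv7 F88156))
theorem E11131 : n55714 = n55647 := (c15_4 F88040 (iv0 F88039) F117411 (iv2 F88157))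
theorem F117412 : act 2 n55647 = n26900 := (sb E11131 F88157)
theorem F117413 : act 7 n55647 = n26899 := (sb E11131 (iv7 D55714))
theorem E11132 : n57995 = n55711 := ((c1_3 (iv4 F88038) F117410 D55711 (iv2 D57995))).symm
theorem F117414 : act 2 n55711 = n27666 := (sb E11132 (iv2 D57995))
theorem F117415 : act 2 n56777 = n58008 := d2_3 (iv5 F117305) F117396 D56777
theorem E11133 : n56778 = n55576 := ((c15_2 (iv0 D55575) D55576 (iv7 D56778) (iv2 F117396))).symm
theorem F117416 : act 7 n55576 = n27272 := (sb E11133 (iv7 D56778))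
theorem E11134 : n56311 = n56282 := ((c11_2 F117393 (iv4 F89023) (iv7 F89084) D56318)).symm
theorem F117417 : act 2 n56282 = n27126 := (sb E11134 (iv2 D56311))
theorem F117418 : act 7 n56282 = n27127 := (sb E11134 (iv7 F89084))
theorem F117419 : act 7 n39738 = n57997 := d13_2 F117393 (iv5 F117162) (iv5 F91755)
theorem E11135 : n56316 = n56283 := (c15_4 F89025 (iv0 F89024) F117418 (iv2 F89085))
theorem F117420 : act 2 n56283 = n27127 := (sb E11135 F89085)
theorem F117421 : act 7 n56283 = n27126 := (sb E11135 (iv7 D56316))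
theorem E11136 : n56746 = n56313 := ((c1_3 (iv4 F89023) F117417 D56313 (iv2 D56746))).symm
theorem F117422 : act 2 n56313 = n27264 := (sb E11136 (iv2 D56746))
theorem F117423 : act 2 n58003 = n39744 := d3_3 F117159 F117388 D58003
theorem E11137 : n39180 = n39100 := ((c2_3 D39183 F117382 F60104 F60161)).symm
theorem F117424 : act 2 n39100 = n18587 := (sb E11137 F60161)
theorem F117425 : act 7 n39100 = n18586 := (sb E11137 (iv7 D39180))
theorem E11138 : n56763 = n39178 := ((c13_2 F117425 D39178 (iv7 D56763) F60104)).symm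
theorem F117426 : act 7 n39178 = n27267 := (sb E11138 (iv7 D56763))
theorem E11139 : n39175 = n39099 := (c15_4 (iv0 D39099) D39100 F117425 D39175)
theorem F117427 : act 2 n39099 = n18586 := (sb E11139 (iv2 D39175))
theorem F117428 : act 7 n39099 = n18587 := (sb E11139 (iv7 F60160))
theorem F117429 : act 7 n39739 = n58003 := d11_2 F117378 D39739 F91759
theorem F117430 : act 7 n76926 = n76171 := d15_2 (iv0 F91795) F117314 F117373
theorem F117431 : act 2 n76926 = n58026 := d4_3 F91798 (iv2 F117373) (iv7 F117430)
theorem F117432 : act 5 n57964 = n76926 := d2_0 F117431 (iv5 D58026) (iv2 F117405)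
theorem F117433 : act 5 n39170 = n76077 := d21_2 D27655 F60159 F117355 (iv1 D34768) (iv6 F27998) D35148 D76926 (iv5 F117432) (iv6 D57964) (iv1 D27654)
theorem E11140 : n75213 = n35905 := ((c21_4 F117433 (iv1 F114065) (iv5 F117361) F117362 (iv1 D75213) (iv6 D34440) F28188 F28185 D18900 (iv6 F44582) F60159)).symm
theorem F117434 : act 0 n35905 = n34440 := (sb E11140 (iv1 D75213))
theorem E11141 : n39098 = n18792 := (c21_6 (iv5 F117433) (iv1 F91714) F44610 F22012 (iv1 F29802) D39098 D39726 F114068 (iv5 D34760) D34761 D76077)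
theorem E11142 : n39727 = n18564 := ((D39727).symm.trans (sb E11141 (iv6 D39098)))
theorem F117435 : act 6 n18564 = n18792 := (sb E11142 (iv6 D39727))
theorem E11143 : n39216 = n39152 := ((c21_5 F117309 D76077 (iv5 F117433) (iv6 D39170) (iv1 F60151) F60183 F43116 D55575 F117305 (iv6 D58008) D58005)).symm
theorem F117436 : act 3 n39152 = n18602 := (sb E11143 (iv3 D39216))
theorem F117437 : act 5 n39152 = n55574 := (sb E11143 (iv5 F87886))
theorem F117438 : act 6 n39152 = n18856 := (sb E11143 F60183)
theorem F117439 : act 7 n39152 = n58214 := (sb E11143 (iv7 F92008))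
theorem F117440 : act 2 n58214 = n39151 := d15_3 (iv0 D39151) D39152 F117439
theorem F117441 : act 3 n39151 = n58155 := d0_2 D58214 F117440 (iv2 F117002) (iv3 D39214) F44745
theorem F117442 : act 6 n39726 = n58031 := d21_5 D18584 (iv1 F60151) F117437 (iv6 D55574) (iv1 F114069) (iv5 D58031) (iv1 F91716) F91713 F44585 (iv1 F29807)
theorem E11144 : n39156 = n37498 := (c21_11 (iv5 F58485) (iv1 F58489) (iv5 D18046) D18047 (iv1 F117179) D55574 (iv5 F117437) (iv1 D39152) (iv5 D18579) D18580 D39156)
theorem F117443 : act 1 n37498 = n18580 := (sb E11144 (iv0 D39156))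
theorem E11145 : n58031 = n34770 := ((c21_5 F117354 (iv1 D34768) (iv5 D16841) D16842 D34770 (iv6 F117442) (iv5 D39726) (iv1 F44951) (iv5 D27838) F30034 F117251)).symm
theorem E11146 : n76112 = n27675 := ((D76112).symm.trans (sb E11145 (iv5 D58031)))
theorem E11147 : n76113 = n39726 := ((D76113).symm.trans (sb E11145 (iv6 F117442)))
theorem F117444 : act 5 n27675 = n34770 := (sb E11146 (iv5 D76112))
theorem F117445 : act 6 n39726 = n34770 := (sb E11147 (iv6 D76113))
theorem F117446 : act 5 n76109 = n58028 := d2_2 F117444 D76109 (iv2 D58028)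
theorem F117447 : act 5 n76110 = n58029 := d6_2 F117444 D76110 (iv3 D58029)
theorem F117448 : act 5 n76114 = n58032 := d13_3 (iv7 D58032) F117444 D76114
theorem E11148 : n37524 = n34771 := (c2_3 F117448 F91800 (iv5 F58406) (iv2 F114089))
theorem E11149 : n76117 = n27676 := ((D76117).symm.trans (sb E11148 F58406))
theorem E11150 : n76118 = n18008 := ((D76118).symm.trans (sb E11148 (iv6 D37524)))
theorem F117449 : act 5 n27676 = n34771 := (sb E11149 (iv5 D76117))
theorem F117450 : act 6 n18008 = n34771 := (sb E11150 (iv6 D76118))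
theorem F117451 : act 6 n76114 = n37520 := d3_2 F117450 (iv2 F114089) (iv2 D37520)
theorem F117452 : act 6 n76115 = n37521 := d7_2 F117450 D76115 (iv3 D37521)
theorem F117453 : act 6 n76116 = n37522 := d10_2 F117450 D76116 (iv4 D37522)
theorem F117454 : act 7 n37528 = n39726 := d14_4 D76114 F117451 (iv7 F58405) D37528 F117445
theorem F117455 : act 5 n39728 = n37528 := d13_3 F117454 (iv5 D39726) D39728
theorem E11151 : n37638 = n37528 := ((c15_3 (iv0 F117180) (iv0 F114068) (iv7 F117454) F58493)).symm
theorem F117456 : act 2 n37528 = n18047 := (sb E11151 F58493)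
theorem E11152 : n18043 = n18009 := ((((iv6 D37528)).symm.trans (sb E11151 (iv6 D37638)))).symm
theorem E11153 : n37612 = n8495 := ((((iv1 D18009)).symm.trans (sb E11152 (iv1 F58470)))).symm
theorem E11155 : n37525 = n8512 := (((iv2 F58407)).symm.trans (sb E11152 F29207))
theorem E11156 : n37622 = n36894 := (((F57830).symm.trans (sb E11152 (iv3 F58479)))).symm
theorem E11157 : n37628 = n37526 := (((D37526).symm.trans (sb E11152 (iv4 F58483)))).symm
theorem E11158 : n37633 = n37527 := (((D37527).symm.trans (sb E11152 (iv5 F58488)))).symm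
theorem E11159 : n37520 = n8511 := ((F58405).symm.trans (sb E11152 (iv7 D18043)))
theorem E11160 : n18038 = n18008 := (((D18008).symm.trans (sb E11153 (iv1 D37612)))).symm
theorem F117457 : act 2 n8512 = n18009 := (sb E11155 F58407)
theorem F117458 : act 7 n36894 = n18039 := (sb E11156 (iv7 D37622))
theorem F117459 : act 2 n37526 = n18045 := (sb E11157 F58482)
theorem F117460 : act 7 n37526 = n18040 := (sb E11157 (iv7 D37628))
theorem F117461 : act 2 n37527 = n18046 := (sb E11158 F58487)
theorem F117462 : act 7 n37527 = n18041 := (sb E11158 (iv7 D37633))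
theorem E11161 : n76114 = n18042 := (((D18042).symm.trans (sb E11159 (iv6 F117451)))).symm
theorem F117464 : act 2 n18008 = n8511 := (sb E11160 (iv2 D18038))
theorem E11162 : n37613 = n37521 := (((D37521).symm.trans (sb E11160 D37613))).symm
theorem E11163 : n37614 = n37522 := (((D37522).symm.trans (sb E11160 D37614))).symm
theorem E11164 : n37615 = n37523 := (((D37523).symm.trans (sb E11160 D37615))).symm
theorem E11165 : n37616 = n34771 := (((F117450).symm.trans (sb E11160 D37616))).symm
theorem E11166 : n58032 = n37636 := (((D37636).symm.trans (sb E11161 F117448))).symm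
theorem E11167 : n37637 = n34770 := ((D37637).symm.trans (sb E11161 (iv7 D76114)))
theorem F117466 : act 7 n37521 = n18044 := (sb E11162 F58471)
theorem F117467 : act 2 n37522 = n18040 := (sb E11163 F58472)
theorem F117468 : act 7 n37522 = n18045 := (sb E11163 F58473)
theorem F117469 : act 2 n37523 = n18041 := (sb E11164 F58474)
theorem F117470 : act 7 n37523 = n18046 := (sb E11164 F58475)
theorem F117471 : act 2 n34771 = n18042 := (sb E11165 F58476)
theorem F117472 : act 2 n37636 = n27676 := (sb E11166 F91800)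
theorem F117473 : act 7 n37636 = n27675 := (sb E11166 (iv7 D58032))
theorem E11168 : n76109 = n76077 := ((D76109).symm.trans (sb E11167 F117367))
theorem F117474 : act 7 n34770 = n18042 := (sb E11167 (iv7 D37637))
theorem E11169 : n58028 = n39170 := ((((iv5 F117433)).symm.trans (sb E11168 F117446))).symm
theorem F117477 : act 2 n39170 = n27675 := (sb E11169 (iv2 D58028))
theorem F117478 : act 7 n39170 = n27676 := (sb E11169 (iv7 F91799))
theorem E11170 : n39155 = n39097 := ((c3_3 D39170 F117477 F60102 F60152)).symm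
theorem F117479 : act 2 n39097 = n18584 := (sb E11170 F60152)
theorem E11171 : n18581 = n18564 := ((((iv5 D39097)).symm.trans (sb E11170 F60153))).symm
theorem F117480 : act 7 n39097 = n18579 := (sb E11170 (iv7 D39155))
theorem E11172 : n39134 = n8723 := ((((iv1 D18564)).symm.trans (sb E11171 (iv1 F60136)))).symm
theorem E11174 : n39095 = n8729 := (((iv2 F60101)).symm.trans (sb E11171 F29821))
theorem E11175 : n39144 = n36172 := (((F56898).symm.trans (sb E11171 (iv3 F60145)))).symm
theorem E11176 : n39150 = n39096 := (((D39096).symm.trans (sb E11171 (iv4 F60149)))).symm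
theorem E11177 : n39159 = n18792 := (((F117435).symm.trans (sb E11171 D39159))).symm
theorem E11179 : n18576 = n18563 := (((D18563).symm.trans (sb E11172 (iv1 D39134)))).symm
theorem F117481 : act 2 n8729 = n18564 := (sb E11174 F60101)
theorem F117482 : act 7 n36172 = n18577 := (sb E11175 (iv7 D39144))
theorem F117483 : act 2 n39096 = n18583 := (sb E11176 F60148)
theorem F117484 : act 7 n39096 = n18578 := (sb E11176 (iv7 D39150))
theorem E11180 : n39723 = n18585 := ((D39723).symm.trans (sb E11177 F60155))
theorem E11181 : n39728 = n27843 := ((D39728).symm.trans (sb E11177 F117252))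
theorem F117486 : act 2 n18563 = n8728 := (sb E11179 (iv2 D18576))
theorem E11182 : n39135 = n39092 := (((D39092).symm.trans (sb E11179 D39135))).symm
theorem E11183 : n39136 = n39093 := (((D39093).symm.trans (sb E11179 D39136))).symm
theorem E11184 : n39137 = n39094 := (((D39094).symm.trans (sb E11179 D39137))).symm
theorem E11185 : n39138 = n37659 := ((((iv6 F58500)).symm.trans (sb E11179 D39138))).symm
theorem F117487 : act 7 n18563 = n8729 := (sb E11179 (iv7 F29820))
theorem E11186 : n39174 = n18793 := ((D39174).symm.trans (sb E11180 (iv7 F60589)))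
theorem E11187 : n58514 = n37528 := ((D58514).symm.trans (sb E11181 F117455))
theorem F117489 : act 7 n27843 = n18792 := (sb E11181 (iv7 D39728))
theorem F117490 : act 7 n39092 = n18582 := (sb E11182 F60137)
theorem F117491 : act 2 n39093 = n18578 := (sb E11183 F60138)
theorem F117492 : act 7 n39093 = n18583 := (sb E11183 F60139)
theorem F117493 : act 2 n39094 = n18579 := (sb E11184 F60140)
theorem F117494 : act 7 n39094 = n18584 := (sb E11184 F60141)
theorem F117495 : act 2 n37659 = n18580 := (sb E11185 F60142)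
theorem F117496 : act 2 n18793 = n27843 := (sb E11186 F117254)
theorem F117497 : act 7 n18793 = n18585 := (sb E11186 (iv7 D39174))
theorem F117498 : act 5 n37528 = n27843 := (sb E11187 (iv5 D58514))
theorem E11188 : n58515 = n37655 := (c12_3 D37528 F117498 D58515 (iv5 D37655) F58408 (iv5 D37527))
theorem F117499 : act 6 n37655 = n27843 := (sb E11188 (iv6 D58515))
theorem E11189 : n37528 = n34767 := ((c21_11 F117498 (iv1 F44957) (iv5 D18785) D18786 D39697 F117168 (iv5 F91794) F117352 (iv5 D35148) F27998 D34767)).symm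
theorem E11190 : n76095 = n18047 := ((D76095).symm.trans (sb E11189 F117456))
theorem E11191 : n76098 = n27843 := ((D76098).symm.trans (sb E11189 F117498))
theorem E11192 : n76099 = n18009 := ((D76099).symm.trans (sb E11189 (iv6 D37528)))
theorem E11193 : n76100 = n39726 := ((D76100).symm.trans (sb E11189 F117454))
theorem F117500 : act 2 n18047 = n34767 := (sb E11190 (iv2 D76095))
theorem E11194 : n37651 = n34768 := ((D37651).symm.trans (sb E11190 (iv7 F114082)))
theorem F117501 : act 5 n27843 = n34767 := (sb E11191 (iv5 D76098))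
theorem F117502 : act 6 n18009 = n34767 := (sb E11192 (iv6 D76099))
theorem F117503 : act 2 n39726 = n34768 := (sb E11193 F114083)
theorem F117504 : act 7 n39726 = n34767 := (sb E11193 (iv7 D76100))
theorem F117505 : act 7 n34768 = n18047 := (sb E11194 (iv7 D37651))
theorem F117506 : act 7 n37644 = n76101 := d8_2 F117505 (iv3 F58495) (iv3 D76101)
theorem F117507 : act 7 n37647 = n76102 := d11_2 F117505 (iv4 F58496) (iv4 D76102)
theorem F117508 : act 6 n76096 = n36894 := d7_2 F117502 D76096 (iv3 F57830)
theorem F117509 : act 6 n76097 = n37526 := d10_2 F117502 D76097 (iv4 D37526)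
theorem F117510 : act 5 n37529 = n39732 := d21_2 D18010 D37529 (iv6 D39732) (iv1 D18793) (iv6 F13684) D13281 D27843 F117501 (iv6 F117502) (iv1 D18009)
theorem F117511 : act 6 n37630 = n37674 := d21_3 F117510 F117369 F117368 (iv1 D37674) (iv6 D18055) (iv5 D8518) (iv1 F5797) D8496 (iv6 F29175) D37529
theorem F117512 : act 0 n37498 = n39732 := d21_10 (iv5 F117510) (iv1 F58417) F29210 (iv6 F21788) (iv1 F44071) (iv6 F117306) F117305 F91768 (iv5 D37497) D37498
theorem F117513 : act 2 n39158 = n39732 := d15_3 (iv0 F117512) F117443 D39158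
theorem E11195 : n39158 = n37655 := ((c3_1 (iv6 F117499) F117513 (iv6 D39732) F117496)).symm
theorem F117514 : act 2 n37655 = n39732 := (sb E11195 F117513)
theorem F117515 : act 7 n37655 = n18580 := (sb E11195 (iv7 D39158))
theorem F117516 : act 7 n37659 = n39732 := d4_2 F117515 (iv2 F117495) (iv2 F117514)
theorem E11196 : n37656 = n37530 := ((c13_2 F117515 F58411 (iv7 D37656) D37655)).symm
theorem F117517 : act 2 n37530 = n18049 := (sb E11196 F58499)
theorem F117518 : act 7 n37530 = n18048 := (sb E11196 (iv7 D37656))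
theorem E11197 : n37652 = n37529 := (c15_4 (iv0 D37529) D37530 F117518 D37652)
theorem F117519 : act 2 n37529 = n18048 := (sb E11197 (iv2 D37652))
theorem F117520 : act 7 n37529 = n18049 := (sb E11197 (iv7 F58498))
theorem F117521 : act 1 n56637 = n37659 := d15_1 (iv0 F91705) F117516 (iv2 F117514)
theorem F117522 : act 2 n37647 = n76097 := d3_3 F117509 F117459 D37647
theorem F117523 : act 4 n36896 = n76096 := d10_3 F117508 (iv4 D36894) D36896
theorem F117524 : act 5 n76096 = n58512 := d6_2 F117501 D76096 (iv3 D58512)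
theorem F117525 : act 5 n76105 = n58507 := d17_1 D76105 (iv1 F92440) (iv5 D39694) (iv4 D18784) D18785 F44957 F117501 (iv0 D34767) D34769
theorem E11198 : n56776 = n55565 := ((c21_4 F117501 (iv1 F87872) (iv5 D55564) D55565 (iv1 D56776) (iv6 D27272) F117160 (iv1 D18796) D18797 F30040 D27843)).symm
theorem F117526 : act 0 n55565 = n27272 := (sb E11198 (iv1 D56776))
theorem F117527 : act 6 n76105 = n37517 := d21_3 D27842 D58507 (iv5 F117525) (iv1 D37517) (iv6 D18007) D18006 F29169 F22003 D27659 F91429
theorem F117528 : act 2 n37606 = n76105 := d3_3 F117527 F91565 D37606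
theorem F117529 : act 2 n58507 = n39716 := d2_3 F92419 F117528 F117525
theorem F117530 : act 7 n76106 = n37606 := d15_2 (iv0 D76105) D76106 F117528
theorem F117531 : act 7 n39715 = n58507 := d15_2 F92418 F92420 F117529
theorem F117532 : act 7 n58508 = n39716 := d15_2 (iv0 D58507) D58508 (iv2 F117529)
theorem F117533 : act 2 n39715 = n58508 := d4_3 F117532 (iv2 F117529) (iv7 F117531)
theorem F117534 : act 5 n76106 = n58508 := d13_3 F117532 F92419 (iv7 F117530)
theorem F117535 : act 7 n39165 = n39729 := d8_2 F117497 (iv3 F60157) (iv3 D39729)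
theorem F117536 : act 7 n39168 = n39730 := d11_2 F117497 (iv4 F60158) (iv4 D39730)
theorem F117537 : act 2 n58513 = n39730 := d1_3 (iv4 D39730) F117496 D58513
theorem F117538 : act 7 n39724 = n58512 := d8_2 F117489 D39724 (iv3 D58512)
theorem F117539 : act 7 n39725 = n58513 := d11_2 F117489 D39725 (iv4 D58513)
theorem F117540 : act 2 n39168 = n39725 := d4_3 F117539 F117537 (iv7 F117536)
theorem E11199 : n36165 = n36065 := ((c11_2 F117482 F56807 (iv7 F56896) D36172)).symm
theorem F117542 : act 2 n36065 = n17484 := (sb E11199 (iv2 D36165))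
theorem F117543 : act 7 n36065 = n17485 := (sb E11199 (iv7 F56896))
theorem E11200 : n36170 = n36066 := (c15_4 F56801 F56805 F117543 (iv2 F56897))
theorem F117544 : act 2 n36066 = n17485 := (sb E11200 F56897)
theorem F117545 : act 7 n36066 = n17484 := (sb E11200 (iv7 D36170))
theorem E11201 : n39141 = n36167 := ((c1_3 F56807 F117542 D36167 (iv2 D39141))).symm
theorem F117546 : act 2 n36167 = n18577 := (sb E11201 (iv2 D39141))
theorem F117547 : act 7 n37621 = n76110 := d8_2 F117474 (iv3 F58478) (iv3 D76110)
theorem F117548 : act 7 n37627 = n76111 := d11_2 F117474 (iv4 F58481) (iv4 D76111)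
theorem F117549 : act 2 n37627 = n76116 := d1_3 (iv4 D76116) F117471 (iv4 F58481)
theorem E11202 : n36887 = n36797 := ((c11_2 F117458 F57714 (iv7 F57828) D36894)).symm
theorem F117550 : act 2 n36797 = n17768 := (sb E11202 (iv2 D36887))
theorem F117551 : act 7 n36797 = n17769 := (sb E11202 (iv7 F57828))
theorem E11203 : n36892 = n36798 := (c15_4 F57708 F57712 F117551 (iv2 F57829))
theorem F117552 : act 2 n36798 = n17769 := (sb E11203 F57829)
theorem F117553 : act 7 n36798 = n17768 := (sb E11203 (iv7 D36892))
theorem E11204 : n37619 = n36889 := ((c1_3 F57714 F117550 D36889 (iv2 D37619))).symm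
theorem F117554 : act 2 n36889 = n18039 := (sb E11204 (iv2 D37619))
theorem F117555 : act 5 n76115 = n58033 := d6_2 F117449 D76115 (iv3 D58033)
theorem F117556 : act 6 n39724 = n36172 := d7_2 F117435 D39724 (iv3 F56898)
theorem F117557 : act 0 n58214 = n39097 := d21_7 (iv5 D27838) (iv1 F22075) F91477 (iv6 F117242) (iv1 F117287) D34796 (iv5 F92007) (iv5 D39097) F117435 (iv1 F44951)
theorem E11205 : n76175 = n39183 := ((c21_10 (iv5 F92007) F117557 (iv5 D39097) F117435 (iv1 F44951) (iv6 F60574) (iv5 D39699) D39697 F117167 (iv6 F60162) (iv1 D76175))).symm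
theorem F117558 : act 0 n39183 = n34796 := (sb E11205 (iv1 D76175))
theorem F117559 : act 1 n58214 = n39094 := d15_1 (iv0 F117557) F117494 (iv2 F117479)
theorem F117560 : act 4 n36174 = n39724 := d10_3 F117556 (iv4 D36172) D36174
theorem F117561 : act 2 n55959 = n75212 := d15_3 (iv0 D75212) (iv0 F117434) (iv7 F88556)
theorem E11206 : n75259 = n56696 := ((c20_5 D35248 (iv1 F117365) F57815 (iv3 F58673) (iv1 F89665) (iv3 D75259) F72481 (iv1 D45892) F34454 F16686 F59794)).symm
theorem F117562 : act 3 n56696 = n34454 := (sb E11206 (iv3 D75259))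
theorem F117563 : act 4 n56696 = n35217 := (sb E11206 F112820)
theorem F117564 : act 7 n56696 = n34653 := (sb E11206 (iv7 F113054))
theorem E11207 : n75772 = n56695 := (c15_4 (iv0 D56695) D56696 F117564 D75772)
theorem F117565 : act 2 n56695 = n34653 := (sb E11207 (iv2 D75772))
theorem F117566 : act 3 n56695 = n37967 := (sb E11207 (iv3 F117073))
theorem F117567 : act 4 n56695 = n35216 := (sb E11207 (iv4 F113639))
theorem F117568 : act 2 n56696 = n37819 := d15_3 F89673 (iv0 F117321) (iv7 F117564)
theorem F117569 : act 3 n37819 = n36032 := d0_2 (iv3 F117562) F117568 F117070 (iv3 D34657) F113018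
theorem F117570 : act 4 n37819 = n77050 := d1_2 (iv4 F117563) F117568 (iv2 F115781)
theorem F117571 : act 7 n37819 = n56695 := d4_2 (iv7 F117564) F117568 F117565
theorem E11209 : n77146 = n37817 := ((c20_1 (iv4 F58670) (iv1 D77146) (iv4 D35222) D35221 (iv1 F115857) F57385 (iv4 F57411) (iv1 F57414) (iv4 F117071) (iv3 F117569) (iv1 D37819))).symm
theorem F117574 : act 0 n37817 = n35222 := (sb E11209 (iv1 D77146))
theorem F117575 : act 1 n37817 = n35227 := (sb E11209 F115861)
theorem F117576 : act 7 n77145 = n56694 := d15_2 F117575 F115865 F89663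
theorem E11210 : n77350 = n36041 := (c20_1 D77350 (iv1 F57769) F57765 (iv3 F57734) (iv1 F115867) (iv3 D35226) D35227 (iv1 F117575) F58670 F29302 D35313)
theorem F117577 : act 4 n36041 = n35313 := (sb E11210 (iv4 D77350))
theorem E11211 : n77348 = n37535 := (c1_2 F117577 D77348 F117347 F115467)
theorem F117578 : act 2 n37535 = n35313 := (sb E11211 (iv2 D77348))
theorem E11212 : n35314 = n35127 := (((F117349).symm.trans (sb E11211 (iv7 F116164)))).symm
theorem E11213 : n76867 = n17142 := ((D76867).symm.trans (sb E11212 (iv1 D35314)))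
theorem E11215 : n77353 = n76869 := (((D76869).symm.trans (sb E11212 (iv2 F116166)))).symm
theorem F117579 : act 1 n17142 = n35127 := (sb E11213 (iv0 D76867))
theorem F117581 : act 7 n76869 = n35313 := (sb E11215 (iv7 D77353))
theorem E11220 : n77349 = n37292 := (c20_4 (iv4 F28440) D36041 F117577 D77349 (iv1 F89973) F89969 (iv4 F89306) (iv1 F117079) (iv4 D36555) (iv3 F91242) (iv1 D17447))
theorem F117582 : act 3 n37292 = n35313 := (sb E11220 (iv3 D77349))
theorem F117583 : act 4 n56701 = n36696 := d20_8 (iv4 F28754) D36686 (iv4 F117087) F117582 (iv1 F58433) F58429 (iv4 F58438) (iv1 F89677) (iv3 D36696) (iv1 D17685)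
theorem E11221 : n36872 = n36709 := (c20_2 (iv4 F89072) (iv1 F89075) (iv4 D36709) (iv3 D17692) (iv1 D8330) (iv3 F13145) (iv4 F28754) D36686 (iv4 F117087) F117582 (iv1 F58433))
theorem F117584 : act 0 n36709 = n17763 := (sb E11221 (iv1 D36872))
theorem F117585 : act 1 n36709 = n56304 := (sb E11221 F89075)
theorem F117586 : act 2 n37543 = n56701 := d1_3 F117583 F114031 (iv4 F117322)
theorem F117587 : act 7 n37542 = n56701 := d11_0 F117583 F114032 (iv4 F117323)
theorem F117588 : act 2 n37542 = n56700 := d15_3 (iv0 D56700) D56701 (iv7 F117587)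
theorem F117589 : act 4 n56700 = n45849 := d1_2 (iv4 F117323) F117588 F114025
theorem F117590 : act 7 n56700 = n37543 := d4_2 (iv7 F117587) F117588 F117586
theorem E11222 : n76869 = n37536 := ((c15_2 (iv0 D37535) D37536 F117581 (iv2 F117578))).symm
theorem F117591 : act 2 n37536 = n35127 := (sb E11222 (iv2 D76869))
theorem F117592 : act 3 n37536 = n56912 := (sb E11222 (iv3 F117051))
theorem F117593 : act 4 n37536 = n36829 := (sb E11222 F115479)
theorem F117594 : act 7 n37536 = n35313 := (sb E11222 F117581)
theorem F117596 : act 7 n37562 = n75696 := d14_4 F117576 (iv6 D56694) F44090 D37562 F115860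
theorem F117597 : act 0 n56694 = n77055 := d20_1 (iv4 F89664) (iv4 D77055) (iv3 F117056) (iv1 F61536) (iv3 F63798) F63799 (iv1 F72480) (iv4 F72481) (iv3 F117562) (iv1 D56696)
theorem F117598 : act 1 n56694 = n77058 := d15_1 (iv0 F117597) F115878 (iv2 F115884)
theorem E11223 : n76174 = n39178 := (c21_11 (iv5 D39178) (iv1 F60111) F60108 (iv6 F44585) (iv1 F44587) D27674 D58026 F117356 (iv5 D34795) D34796 D76174)
theorem F117599 : act 1 n39178 = n34796 := (sb E11223 (iv0 D76174))
theorem F117600 : act 5 n76101 = n39165 := d6_2 F117354 D76101 F60157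
theorem F117601 : act 5 n76088 = n58522 := d17_7 F117251 F117354 (iv1 D34768) (iv5 D16841) D16840 D34765 D76088 F92446 (iv4 D39696)
theorem F117602 : act 5 n39729 = n37644 := d13_3 F117506 F117600 F117535
theorem F117603 : act 4 n77421 = n36851 := d11_3 (iv7 F115452) F117341 F116232
theorem E11224 : n77421 = n56005 := ((c18_1 D56005 F117603 (iv1 F57802) F56780 (iv5 F28464) (iv4 F56850) F88117 (iv4 F117206) (iv0 D56405) F43907)).symm
theorem F117604 : act 2 n56005 = n35350 := (sb E11224 (iv2 D77421))
theorem F117605 : act 4 n56005 = n36851 := (sb E11224 F117603)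
theorem F117606 : act 7 n56005 = n35351 := (sb E11224 (iv7 F116232))
theorem F117607 : act 3 n45185 = n56005 := d8_3 F117606 (iv3 F117340) (iv7 F117095)
theorem F117608 : act 7 n77424 = n55505 := d13_2 F117339 D77424 (iv5 D55505)
theorem F117609 : act 3 n55373 = n77424 := d8_3 F117608 F87793 (iv7 F115428)
theorem F117610 : act 2 n77429 = n55506 := d3_3 (iv6 D55506) F117338 D77429
theorem F117611 : act 3 n77425 = n55374 := d7_3 (iv6 D55374) F117336 D77425
theorem F117612 : act 5 n57913 = n77425 := d6_0 F117611 F87640 D57913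
theorem F117613 : act 0 n57913 = n36480 := d21_7 F21928 F12354 D8042 D17155 D35350 D77425 (iv5 F117612) (iv5 D36480) (iv6 D17612) (iv1 F21929)
theorem E11225 : n56761 = n56712 := ((c15_4 (iv0 D56761) (iv0 F117220) F87887 (iv2 F117318))).symm
theorem F117614 : act 1 n56712 = n27267 := (sb E11225 (iv0 D56761))
theorem F117615 : act 0 n39877 = n55959 := d21_4 (iv5 F29164) (iv1 F28303) F30110 D39877 F88555 (iv5 D34795) F117286 D18019 F29191 (iv1 F29163)
theorem F117616 : act 0 n75711 = n37477 := d21_7 (iv5 D17075) (iv1 F12769) D16714 D34461 (iv1 F117277) D34619 D75711 (iv5 D37477) (iv6 D17993) (iv1 F28020)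
theorem F117617 : act 4 n75198 = n37570 := d20_0 (iv1 F117217) (iv4 D55555) (iv3 F117212) (iv1 F117263) (iv3 D26796) D26797 (iv1 F91216) F87644 (iv3 F54632) D75198
theorem F117618 : act 2 n37570 = n56678 := d1_1 F117617 F117284 (iv2 F114047)
theorem F117619 : act 3 n37570 = n75641 := d5_1 F117617 (iv4 D75641) (iv3 D34591) D34592 (iv3 F112737)
theorem F117620 : act 7 n37570 = n56679 := d11_2 F114008 F117617 F117282
theorem F117621 : act 7 n37568 = n76069 := d8_2 F117241 (iv3 F58453) (iv3 D76069)
theorem F117622 : act 7 n37572 = n76070 := d13_2 F117241 D37572 (iv5 D76070)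
theorem F117623 : act 0 n38724 = n38263 := d21_10 F59140 (iv1 D37814) F29299 (iv6 D18131) F27413 D34461 F54679 (iv1 F117226) D18417 D38724
theorem F117624 : act 5 n38726 = n75394 := d21_2 D38715 (iv1 F59513) (iv6 D75394) (iv1 D34507) (iv6 D16739) F12364 F9671 D13047 D27234 (iv1 F117190)
theorem F117625 : act 0 n38238 = n37834 := d21_10 (iv5 D37834) (iv1 F58667) F58664 (iv6 F113125) (iv1 F113127) D75394 (iv5 F117624) (iv1 D38726) (iv5 F29582) D38238
def n77787 : Q := act 0 n35498
theorem D77787 : act 0 n35498 = n77787 := rfl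
def n77788 : Q := act 1 n35498
theorem D77788 : act 1 n35498 = n77788 := rfl
def n77789 : Q := act 4 n35498
theorem D77789 : act 4 n35498 = n77789 := rfl
theorem F117626 : act 0 n77789 = n76121 := d20_7 D18541 (iv1 F56351) (iv4 D35670) (iv3 F91304) (iv1 D35508) (iv3 F56184) D77789 (iv4 D76121) F54985 F28001
def n77790 : Q := act 6 n35498
theorem D77790 : act 6 n35498 = n77790 := rfl
theorem F117627 : act 3 n77790 = n35510 := d7_1 D77790 (iv6 D35510) (iv3 F56184)
def n77791 : Q := act 0 n35499
theorem D77791 : act 0 n35499 = n77791 := rfl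
def n77792 : Q := act 1 n35499
theorem D77792 : act 1 n35499 = n77792 := rfl
def n77793 : Q := act 2 n35501
theorem D77793 : act 2 n35501 = n77793 := rfl
theorem F117628 : act 7 n35502 = n77793 := d15_2 (iv0 D35501) D35502 (iv2 D77793)
def n77794 : Q := act 3 n35501
theorem D77794 : act 3 n35501 = n77794 := rfl
def n77795 : Q := act 5 n35501
theorem D77795 : act 5 n35501 = n77795 := rfl
def n77796 : Q := act 6 n35501
theorem D77796 : act 6 n35501 = n77796 := rfl
def n77797 : Q := act 7 n35501
theorem D77797 : act 7 n35501 = n77797 := rfl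
theorem F117629 : act 2 n77797 = n35502 := d4_1 D77797 F117628 (iv2 D77793)
def n77801 : Q := act 6 n35502
theorem D77801 : act 6 n35502 = n77801 := rfl
def n77802 : Q := act 0 n35503
theorem D77802 : act 0 n35503 = n77802 := rfl
def n77803 : Q := act 1 n35503
theorem D77803 : act 1 n35503 = n77803 := rfl
def n77804 : Q := act 2 n35503
theorem D77804 : act 2 n35503 = n77804 := rfl
def n77805 : Q := act 5 n35503
theorem D77805 : act 5 n35503 = n77805 := rfl
theorem F117630 : act 3 n77805 = n35504 := d6_1 D77805 (iv5 D35504) D35503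
def n77806 : Q := act 6 n35503
theorem D77806 : act 6 n35503 = n77806 := rfl
theorem F117631 : act 3 n77806 = n35505 := d7_1 D77806 (iv6 D35505) D35503
def n77807 : Q := act 0 n35504
theorem D77807 : act 0 n35504 = n77807 := rfl
theorem F117632 : act 1 n35523 = n77807 := d15_0 (iv0 D77807) (iv7 F116361) F116360
def n77808 : Q := act 1 n35504
theorem D77808 : act 1 n35504 = n77808 := rfl
theorem F117633 : act 1 n77808 = n35523 := d15_1 D77808 (iv7 F116337) F116336
def n77809 : Q := act 4 n35504
theorem D77809 : act 4 n35504 = n77809 := rfl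
def n77810 : Q := act 6 n35504
theorem D77810 : act 6 n35504 = n77810 := rfl
def n77811 : Q := act 0 n35505
theorem D77811 : act 0 n35505 = n77811 := rfl
def n77812 : Q := act 1 n35505
theorem D77812 : act 1 n35505 = n77812 := rfl
def n77813 : Q := act 5 n35505
theorem D77813 : act 5 n35505 = n77813 := rfl
def n77814 : Q := act 4 n35507
theorem D77814 : act 4 n35507 = n77814 := rfl
def n77815 : Q := act 4 n35508
theorem D77815 : act 4 n35508 = n77815 := rfl
def n77816 : Q := act 0 n35509
theorem D77816 : act 0 n35509 = n77816 := rfl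
theorem F117635 : act 1 n35525 = n77816 := d15_0 (iv0 D77816) (iv7 F116365) F116364
def n77817 : Q := act 1 n35509
theorem D77817 : act 1 n35509 = n77817 := rfl
theorem F117636 : act 1 n77817 = n35525 := d15_1 D77817 (iv7 F116344) F116343
def n77820 : Q := act 6 n35509
theorem D77820 : act 6 n35509 = n77820 := rfl
theorem F117637 : act 4 n77820 = n35510 := d10_1 D77820 (iv6 D35510) D35509
def n77821 : Q := act 2 n35516
theorem D77821 : act 2 n35516 = n77821 := rfl
theorem F117638 : act 7 n35517 = n77821 := d15_2 (iv0 D35516) D35517 (iv2 D77821)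
theorem F117639 : act 3 n77821 = n35639 := d8_1 F117638 (iv7 D35639) (iv3 F116325)
theorem F117640 : act 2 n35640 = n55730 := d0_3 F117639 F56312 D35640 (iv3 F91848) D77821
def n77824 : Q := act 7 n35516
theorem D77824 : act 7 n35516 = n77824 := rfl
theorem F117641 : act 2 n77824 = n35517 := d4_1 D77824 F117638 (iv2 D77821)
def n77825 : Q := act 5 n35517
theorem D77825 : act 5 n35517 = n77825 := rfl
theorem F117642 : act 3 n77825 = n35637 := d6_1 D77825 (iv5 D35637) (iv3 F116325)
def n77826 : Q := act 6 n35517
theorem D77826 : act 6 n35517 = n77826 := rfl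
def n77827 : Q := act 4 n35518
theorem D77827 : act 4 n35518 = n77827 := rfl
theorem F117644 : act 2 n77827 = n35519 := d1_1 D77827 (iv4 D35519) D35518
theorem F117645 : act 0 n58068 = n77827 := d20_1 D58068 (iv4 D77827) (iv3 F116346) (iv1 F116351) (iv3 F91833) F91832 (iv1 F91811) (iv4 D58051) F44612 (iv1 F44631)
theorem F117646 : act 1 n58068 = n77487 := d15_1 (iv0 F117645) F116327 (iv2 F117644)
def n77828 : Q := act 5 n35518
theorem D77828 : act 5 n35518 = n77828 := rfl
theorem F117647 : act 2 n77828 = n35520 := d2_1 D77828 (iv5 D35520) D35518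
def n77829 : Q := act 6 n35518
theorem D77829 : act 6 n35518 = n77829 := rfl
theorem F117648 : act 2 n77829 = n35521 := d3_1 D77829 (iv6 D35521) D35518
def n77830 : Q := act 0 n35519
theorem D77830 : act 0 n35519 = n77830 := rfl
def n77831 : Q := act 3 n35519
theorem D77831 : act 3 n35519 = n77831 := rfl
theorem F117649 : act 4 n77831 = n35522 := d5_2 D35519 D77831 (iv3 D35522) (iv4 D17211) D17210
def n77832 : Q := act 5 n35519
theorem D77832 : act 5 n35519 = n77832 := rfl
def n77833 : Q := act 6 n35519
theorem D77833 : act 6 n35519 = n77833 := rfl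
theorem F117650 : act 4 n77833 = n35521 := d10_1 D77833 (iv6 D35521) D35519
def n77834 : Q := act 0 n35520
theorem D77834 : act 0 n35520 = n77834 := rfl
def n77835 : Q := act 1 n35520
theorem D77835 : act 1 n35520 = n77835 := rfl
def n77836 : Q := act 4 n35520
theorem D77836 : act 4 n35520 = n77836 := rfl
def n77837 : Q := act 6 n35520
theorem D77837 : act 6 n35520 = n77837 := rfl
theorem F117651 : act 3 n77837 = n35526 := d7_1 D77837 (iv6 D35526) (iv3 F56200)
def n77838 : Q := act 0 n35521
theorem D77838 : act 0 n35521 = n77838 := rfl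
def n77839 : Q := act 1 n35521
theorem D77839 : act 1 n35521 = n77839 := rfl
def n77840 : Q := act 5 n35521
theorem D77840 : act 5 n35521 = n77840 := rfl
theorem F117652 : act 3 n77840 = n35529 := d6_1 D77840 (iv5 D35529) (iv3 F56201)
def n77841 : Q := act 7 n35521
theorem D77841 : act 7 n35521 = n77841 := rfl
theorem F117653 : act 3 n77841 = n35530 := d8_1 D77841 (iv7 D35530) (iv3 F56201)
def n77842 : Q := act 0 n35522
theorem D77842 : act 0 n35522 = n77842 := rfl
def n77843 : Q := act 1 n35522
theorem D77843 : act 1 n35522 = n77843 := rfl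
def n77844 : Q := act 2 n35522
theorem D77844 : act 2 n35522 = n77844 := rfl
def n77845 : Q := act 5 n35522
theorem D77845 : act 5 n35522 = n77845 := rfl
theorem F117654 : act 3 n77845 = n35523 := d6_1 D77845 (iv5 D35523) D35522
def n77846 : Q := act 6 n35522
theorem D77846 : act 6 n35522 = n77846 := rfl
theorem F117655 : act 3 n77846 = n35524 := d7_1 D77846 (iv6 D35524) D35522
def n77847 : Q := act 4 n35523
theorem D77847 : act 4 n35523 = n77847 := rfl
def n77848 : Q := act 6 n35523
theorem D77848 : act 6 n35523 = n77848 := rfl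
def n77849 : Q := act 0 n35524
theorem D77849 : act 0 n35524 = n77849 := rfl
def n77850 : Q := act 1 n35524
theorem D77850 : act 1 n35524 = n77850 := rfl
def n77851 : Q := act 5 n35524
theorem D77851 : act 5 n35524 = n77851 := rfl
theorem F117656 : act 1 n77851 = n77370 := d17_6 D17147 D35328 F56204 (iv5 D35529) (iv4 F56202) D77851 (iv5 D77370) (iv0 D35321) F28095
theorem E11226 : n77801 = n17175 := (c21_6 D77370 (iv1 F117656) (iv5 D77851) (iv6 D35524) (iv1 F56187) D77801 (iv5 F29536) (iv1 D18353) F13555 D17146 D35321)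
theorem E11227 : n35502 = n35403 := (((D35403).symm.trans (sb E11226 (iv6 D77801)))).symm
theorem E11228 : n77543 = n17206 := ((D77543).symm.trans (sb E11227 (iv1 D35502)))
theorem E11229 : n77544 = n17211 := ((D77544).symm.trans (sb E11227 F56187))
theorem E11230 : n77797 = n38124 := ((((iv2 F58946)).symm.trans (sb E11227 (iv2 F117629)))).symm
theorem E11234 : n77793 = n77546 := (((D77546).symm.trans (sb E11227 F117628))).symm
theorem F117657 : act 1 n17206 = n35403 := (sb E11228 (iv0 D77543))
theorem F117658 : act 0 n17211 = n35403 := (sb E11229 (iv1 D77544))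
theorem F117659 : act 7 n38124 = n35501 := (sb E11230 (iv7 D77797))
theorem F117660 : act 2 n77546 = n35501 := (sb E11234 (iv2 D77793))
theorem E11235 : n38948 = n38128 := (c11_2 F117659 (iv4 F116323) (iv7 D38128) (iv4 F58947))
theorem F117661 : act 0 n38128 = n77477 := (sb E11235 (iv1 F116306))
theorem F117662 : act 1 n38128 = n18494 := (sb E11235 (iv0 D38948))
theorem E11236 : n18533 = n18238 := (((F58950).symm.trans (sb E11235 F116322))).symm
theorem F117663 : act 4 n38128 = n35501 := (sb E11235 F116323)
theorem E11237 : n8704 = n8628 := ((((iv1 F29415)).symm.trans (sb E11236 (iv1 D18533)))).symm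
theorem E11238 : n27681 = n8627 := (((F29416).symm.trans (sb E11236 F44616))).symm
theorem E11242 : n39036 = n8641 := (((F29413).symm.trans (sb E11236 D39036))).symm
theorem E11244 : n18532 = n3874 := ((((iv1 D8628)).symm.trans (sb E11237 D18532))).symm
theorem E11245 : n18534 = n18236 := (((F59631).symm.trans (sb E11237 D18534))).symm
theorem E11246 : n18301 = n3899 := ((D18301).symm.trans (sb E11237 (iv3 D8704)))
theorem E11247 : n18535 = n18302 := (((D18302).symm.trans (sb E11237 D18535))).symm
theorem E11248 : n18536 = n18303 := (((D18303).symm.trans (sb E11237 D18536))).symm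
theorem E11249 : n18537 = n18304 := (((D18304).symm.trans (sb E11237 D18537))).symm
theorem E11250 : n18235 = n13214 := ((F59632).symm.trans (sb E11237 (iv7 F29867)))
theorem E11251 : n18515 = n18296 := (((D18296).symm.trans (sb E11238 F44612))).symm
theorem E11254 : n37438 = n18299 := (((D18299).symm.trans (sb E11238 F58341))).symm
theorem E11255 : n58244 = n18341 := ((((iv5 F29528)).symm.trans (sb E11242 F92058))).symm
theorem E11256 : n39028 = n8621 := ((((iv3 F13535)).symm.trans (sb E11244 D39028))).symm
theorem E11260 : n27680 = n8605 := ((((iv1 D18236)).symm.trans (sb E11245 (iv1 F44615)))).symm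
theorem E11261 : n27679 = n8630 := (((F29409).symm.trans (sb E11245 F44611))).symm
theorem E11262 : n38143 = n27688 := ((D38143).symm.trans (sb E11245 (iv3 F44628)))
theorem E11263 : n39037 = n38144 := (((D38144).symm.trans (sb E11245 D39037))).symm
theorem E11264 : n39038 = n38145 := (((D38145).symm.trans (sb E11245 D39038))).symm
theorem F117664 : act 3 n3899 = n8628 := (sb E11246 (iv3 D18301))
theorem E11270 : n38346 = n8706 := (((D8706).symm.trans (sb E11246 D38346))).symm
theorem E11271 : n38347 = n8707 := (((D8707).symm.trans (sb E11246 D38347))).symm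
theorem E11272 : n38139 = n6281 := (((F29873).symm.trans (sb E11246 (iv7 F59626)))).symm
theorem E11273 : n39040 = n38331 := ((((iv1 F59188)).symm.trans (sb E11247 D39040))).symm
theorem E11274 : n39041 = n38330 := (((F59192).symm.trans (sb E11247 D39041))).symm
theorem E11275 : n38348 = n33862 := ((D38348).symm.trans (sb E11247 (iv3 F53206)))
theorem E11276 : n39042 = n38349 := (((D38349).symm.trans (sb E11247 D39042))).symm
theorem E11277 : n39043 = n38350 := (((D38350).symm.trans (sb E11247 D39043))).symm
theorem E11278 : n38140 = n27682 := (((iv7 F59628)).symm.trans (sb E11247 (iv7 F44617)))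
theorem E11281 : n39046 = n38351 := (((D38351).symm.trans (sb E11248 D39046))).symm
theorem E11282 : n39047 = n38352 := (((D38352).symm.trans (sb E11248 D39047))).symm
theorem E11283 : n38141 = n27683 := (((iv7 F59630)).symm.trans (sb E11248 (iv7 F44619)))
theorem E11286 : n39050 = n38355 := (((D38355).symm.trans (sb E11249 D39050))).symm
theorem E11287 : n39051 = n38356 := (((D38356).symm.trans (sb E11249 D39051))).symm
theorem F117665 : act 2 n13214 = n8627 := (sb E11250 F59614)
theorem E11288 : n18176 = n17978 := (((F29145).symm.trans (sb E11250 F29408))).symm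
theorem F117666 : act 7 n13214 = n8628 := (sb E11250 (iv7 F59632))
theorem E11291 : n38325 = n8699 := ((D38325).symm.trans (sb E11251 (iv2 D18515)))
theorem E11292 : n39010 = n38326 := (((D38326).symm.trans (sb E11251 D39010))).symm
theorem E11293 : n39011 = n38327 := (((D38327).symm.trans (sb E11251 D39011))).symm
theorem E11294 : n39012 = n38328 := (((D38328).symm.trans (sb E11251 D39012))).symm
theorem E11297 : n17976 = n16754 := (((F29501).symm.trans (sb E11254 (iv5 D37438)))).symm
theorem E11299 : n38173 = n27746 := (((iv1 F59024)).symm.trans (sb E11255 (iv1 D58244)))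
theorem E11300 : n39246 = n38172 := (((F59030).symm.trans (sb E11255 F92063))).symm
theorem E11301 : n35648 = n18275 := ((((iv4 F29474)).symm.trans (sb E11256 F60039))).symm
theorem F117667 : act 0 n8605 = n13214 := (sb E11260 (iv1 D27680))
theorem E11303 : n58047 = n18231 := ((((iv3 F29399)).symm.trans (sb E11260 D58047))).symm
theorem F117668 : act 1 n8630 = n13214 := (sb E11261 (iv0 D27679))
theorem E11308 : n58042 = n18279 := ((((iv3 F29477)).symm.trans (sb E11261 D58042))).symm
theorem E11309 : n58043 = n18294 := ((((iv4 F29499)).symm.trans (sb E11261 D58043))).symm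
theorem F117669 : act 3 n27688 = n18236 := (sb E11262 (iv3 D38143))
theorem F117670 : act 7 n27688 = n18296 := (sb E11262 F59633)
theorem F117671 : act 0 n38144 = n58054 := (sb E11263 (iv1 F91818))
theorem E11312 : n75769 = n58057 := (((iv1 F113631)).symm.trans (sb E11264 (iv1 F91822)))
theorem E11313 : n75371 = n58056 := ((F113112).symm.trans (sb E11264 F91821))
theorem F117673 : act 3 n38145 = n58072 := (sb E11264 (iv3 F91840))
theorem F117675 : act 3 n8706 = n18303 := (sb E11270 F59204)
theorem F117676 : act 3 n8707 = n18304 := (sb E11271 F59205)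
theorem E11314 : n37946 = n8474 := (((F13265).symm.trans (sb E11272 F58984))).symm
theorem F117677 : act 4 n38331 = n55748 := (sb E11273 (iv4 F91832))
theorem F117678 : act 4 n38330 = n55811 := (sb E11274 (iv4 F88285))
theorem F117679 : act 3 n33862 = n18302 := (sb E11275 (iv3 D38348))
theorem F117680 : act 3 n38349 = n73696 := (sb E11276 (iv3 F110391))
theorem F117681 : act 7 n38349 = n58055 := (sb E11276 (iv7 F91820))
theorem F117682 : act 3 n38350 = n73697 := (sb E11277 (iv3 F110392))
theorem F117683 : act 2 n27682 = n18297 := (sb E11278 F59627)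
theorem E11315 : n37951 = n37446 := ((((iv6 F58344)).symm.trans (sb E11278 F58985))).symm
theorem F117684 : act 7 n27682 = n18302 := (sb E11278 F59628)
theorem F117685 : act 7 n38351 = n58058 := (sb E11281 (iv7 F91823))
theorem F117686 : act 3 n38352 = n18542 := (sb E11282 F60046)
theorem E11316 : n75808 = n58709 := (((iv7 F113684)).symm.trans (sb E11282 (iv7 F92775)))
theorem F117687 : act 2 n27683 = n18298 := (sb E11283 F59629)
theorem E11317 : n37954 = n37449 := ((((iv6 F58346)).symm.trans (sb E11283 F58986))).symm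
theorem F117688 : act 7 n27683 = n18303 := (sb E11283 F59630)
theorem F117689 : act 3 n38355 = n18545 := (sb E11286 F60047)
theorem E11318 : n75778 = n58247 := (((iv7 F113646)).symm.trans (sb E11286 F92069))
theorem F117690 : act 3 n38356 = n18546 := (sb E11287 F60048)
theorem E11319 : n18811 = n18445 := (((F59208).symm.trans (sb E11287 F60049))).symm
theorem E11320 : n37444 = n18269 := ((D37444).symm.trans (sb E11288 (iv1 F29616)))
theorem E11321 : n37445 = n18447 := ((D37445).symm.trans (sb E11288 (iv0 F29613)))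
theorem F117691 : act 2 n17978 = n18299 := (sb E11288 F59611)
theorem E11322 : n8568 = n8472 := ((((iv5 D17978)).symm.trans (sb E11288 (iv5 D18176)))).symm
theorem F117694 : act 2 n8699 = n18296 := (sb E11291 (iv2 D38325))
theorem F117697 : act 2 n38326 = n18516 := (sb E11292 F60018)
theorem F117698 : act 7 n38326 = n58071 := (sb E11292 (iv7 F91836))
theorem F117701 : act 2 n38327 = n18517 := (sb E11293 F60019)
theorem F117702 : act 7 n38327 = n58072 := (sb E11293 (iv7 F91841))
theorem F117703 : act 0 n38328 = n37421 := (sb E11294 (iv1 F60024))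
theorem F117704 : act 1 n38328 = n37420 := (sb E11294 F60025)
theorem F117705 : act 2 n38328 = n18518 := (sb E11294 F60020)
theorem E11323 : n34552 = n27280 := (((iv5 F59186)).symm.trans (sb E11294 (iv5 F60022)))
theorem E11326 : n27273 = n8569 := (((F27509).symm.trans (sb E11297 F44114))).symm
theorem E11327 : n37437 = n34553 := (((D34553).symm.trans (sb E11297 D37437))).symm
theorem E11329 : n27275 = n8567 := ((((iv7 F59622)).symm.trans (sb E11297 (iv7 F44116)))).symm
theorem E11330 : n58243 = n18246 := ((D58243).symm.trans (sb E11299 (iv1 D38173)))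
theorem F117706 : act 1 n27746 = n18341 := (sb E11299 F59024)
theorem E11331 : n58245 = n18339 := ((D58245).symm.trans (sb E11299 F59645))
theorem E11332 : n34550 = n27277 := (((F44784).symm.trans (sb E11299 (iv5 F59025)))).symm
theorem E11333 : n18618 = n18338 := ((F44785).symm.trans (sb E11299 F59646))
theorem F117707 : act 3 n38172 = n58240 := (sb E11300 (iv3 F92049))
theorem E11334 : n38255 = n17277 := ((D38255).symm.trans (sb E11301 (iv1 D35648)))
theorem E11335 : n55842 = n38256 := (((D38256).symm.trans (sb E11301 F88324))).symm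
theorem E11336 : n77490 = n38124 := ((((iv4 F58947)).symm.trans (sb E11303 (iv4 F116333)))).symm
theorem E11337 : n55846 = n38258 := ((((iv4 F59138)).symm.trans (sb E11308 F91805))).symm
theorem E11338 : n55751 = n38135 := ((((iv1 F58974)).symm.trans (sb E11309 F91806))).symm
theorem F117708 : act 1 n58057 = n38145 := (sb E11312 F113631)
theorem F117709 : act 2 n58057 = n38336 := (sb E11312 F113628)
theorem F117710 : act 5 n58057 = n34650 := (sb E11312 F113629)
theorem F117711 : act 6 n58057 = n35892 := (sb E11312 F113632)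
theorem F117712 : act 7 n58057 = n34649 := (sb E11312 (iv7 D75769))
theorem F117713 : act 0 n58056 = n38145 := (sb E11313 (iv1 F113112))
theorem F117714 : act 2 n58056 = n34649 := (sb E11313 F113109)
theorem F117715 : act 5 n58056 = n34501 := (sb E11313 (iv5 D75371))
theorem F117716 : act 6 n58056 = n34655 := (sb E11313 F113110)
theorem F117717 : act 7 n58056 = n38336 := (sb E11313 (iv7 F113113))
theorem E11340 : n18174 = n3790 := ((((iv5 D8474)).symm.trans (sb E11314 (iv5 D37946)))).symm
theorem E11341 : n38799 = n8813 := ((((iv7 F29862)).symm.trans (sb E11314 (iv7 F59824)))).symm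
theorem F117718 : act 2 n37446 = n38334 := (sb E11315 (iv2 F59655))
theorem E11342 : n39781 = n38800 := (((iv7 F60621)).symm.trans (sb E11315 (iv7 F59826)))
theorem F117719 : act 0 n58709 = n34666 := (sb E11316 (iv1 D75808))
theorem F117720 : act 1 n58709 = n38485 := (sb E11316 F113683)
theorem F117721 : act 2 n58709 = n38866 := (sb E11316 (iv2 F113687))
theorem E11343 : n39249 = n38475 := ((F92773).symm.trans (sb E11316 (iv5 F113686)))
theorem E11344 : n39806 = n38821 := ((F92774).symm.trans (sb E11316 (iv6 F113685)))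
theorem F117722 : act 7 n58709 = n38352 := (sb E11316 F113684)
theorem F117723 : act 0 n37449 = n37801 := (sb E11317 F58987)
theorem F117724 : act 1 n37449 = n37796 := (sb E11317 (iv0 F58781))
theorem F117725 : act 2 n37449 = n38338 := (sb E11317 (iv2 F59654))
theorem E11345 : n18177 = n17979 := ((((iv5 D37449)).symm.trans (sb E11317 (iv5 D37954)))).symm
theorem F117726 : act 0 n58247 = n34655 := (sb E11318 (iv1 D75778))
theorem F117727 : act 1 n58247 = n34659 := (sb E11318 F113645)
theorem F117729 : act 5 n58247 = n38356 := (sb E11318 (iv5 F113648))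
theorem E11346 : n16753 = n13064 := ((F29608).symm.trans (sb E11319 F30067))
theorem F117731 : act 7 n18445 = n17978 := (sb E11319 F30068)
theorem F117732 : act 1 n18269 = n17978 := (sb E11320 (iv0 D37444))
theorem F117733 : act 0 n18447 = n17978 := (sb E11321 (iv1 D37445))
theorem E11347 : n17974 = n3837 := ((D17974).symm.trans (sb E11322 (iv1 D8568)))
theorem E11348 : n17975 = n16755 := ((D17975).symm.trans (sb E11322 F27514))
theorem F117734 : act 2 n8472 = n16754 := (sb E11322 F59613)
theorem E11349 : n18175 = n17977 := (((D17977).symm.trans (sb E11322 D18175))).symm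
theorem F117736 : act 5 n27280 = n38328 := (sb E11323 F59186)
theorem E11354 : n75518 = n56804 := (((D56804).symm.trans (sb E11323 D75518))).symm
theorem E11355 : n18169 = n17957 := (((F44124).symm.trans (sb E11323 F59617))).symm
theorem E11361 : n56780 = n18139 := ((((iv3 F29306)).symm.trans (sb E11326 D56780))).symm
theorem E11362 : n56781 = n18167 := ((((iv4 F29337)).symm.trans (sb E11326 D56781))).symm
theorem E11364 : n75510 = n56790 := (((iv1 F113327)).symm.trans (sb E11327 (iv1 F89793)))
theorem E11365 : n75509 = n56789 := ((F113326).symm.trans (sb E11327 F89792))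
theorem E11370 : n56788 = n18172 := (((D18172).symm.trans (sb E11329 D56788))).symm
theorem F117739 : act 1 n18246 = n27746 := (sb E11330 (iv0 D58243))
theorem F117740 : act 2 n18339 = n27746 := (sb E11331 (iv2 D58245))
theorem E11372 : n39252 = n38477 := (((D38477).symm.trans (sb E11331 F92059))).symm
theorem E11373 : n75261 = n56793 := (((D56793).symm.trans (sb E11332 F112825))).symm
theorem E11374 : n75359 = n56794 := (((D56794).symm.trans (sb E11332 (iv0 F112991)))).symm
theorem E11376 : n75513 = n56792 := ((((iv4 F89796)).symm.trans (sb E11332 (iv4 F113332)))).symm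
theorem E11377 : n39248 = n38474 := (((iv7 F60205)).symm.trans (sb E11332 F59644))
theorem E11378 : n38472 = n8742 := ((D38472).symm.trans (sb E11333 (iv3 D18618)))
theorem E11379 : n39247 = n38473 := (((D38473).symm.trans (sb E11333 D39247))).symm
theorem F117741 : act 7 n18338 = n27746 := (sb E11333 (iv7 F44785))
theorem F117742 : act 1 n17277 = n18275 := (sb E11334 (iv0 D38255))
theorem F117743 : act 1 n38256 = n35647 := (sb E11335 F88325)
theorem F117744 : act 2 n38256 = n26941 := (sb E11335 F88322)
theorem F117745 : act 4 n38256 = n26940 := (sb E11335 (iv4 D55842))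
theorem F117746 : act 7 n38256 = n35644 := (sb E11335 F88323)
theorem F117747 : act 0 n38124 = n35381 := (sb E11336 (iv1 D77490))
theorem F117748 : act 1 n38124 = n35385 := (sb E11336 F116332)
theorem F117749 : act 0 n38258 = n26941 := (sb E11337 (iv1 D55846))
theorem F117750 : act 1 n38258 = n35644 := (sb E11337 F88334)
theorem F117751 : act 4 n38135 = n26909 := (sb E11338 (iv4 D55751))
theorem E11384 : n37947 = n8475 := (((D8475).symm.trans (sb E11340 D37947))).symm
theorem F117752 : act 3 n8813 = n18445 := (sb E11341 (iv3 D38799))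
theorem F117753 : act 7 n38800 = n37446 := (sb E11342 F60621)
theorem F117754 : act 3 n38475 = n18621 := (sb E11343 F60207)
theorem F117755 : act 5 n38475 = n58709 := (sb E11343 (iv5 F92773))
theorem F117756 : act 3 n38821 = n18833 := (sb E11344 (iv3 D39806))
theorem E11386 : n34748 = n34633 := ((((iv5 F59847)).symm.trans (sb E11344 F60630))).symm
theorem F117757 : act 6 n38821 = n58709 := (sb E11344 (iv6 F92774))
theorem F117758 : act 7 n38821 = n37449 := (sb E11344 F60631)
theorem E11387 : n37447 = n34635 := ((D37447).symm.trans (sb E11345 (iv1 F113010)))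
theorem E11388 : n37448 = n34496 := ((D37448).symm.trans (sb E11345 (iv0 F58893)))
theorem F117759 : act 2 n17979 = n34554 := (sb E11345 (iv2 F59621))
theorem E11389 : n37950 = n37443 := ((((iv4 F58343)).symm.trans (sb E11345 (iv4 F58779)))).symm
theorem F117760 : act 0 n13064 = n8569 := (sb E11346 (iv1 F27513))
theorem F117761 : act 1 n13064 = n7825 := (sb E11346 (iv0 D16753))
theorem F117762 : act 2 n13064 = n8567 := (sb E11346 F59624)
theorem E11390 : n34549 = n27276 := (((D27276).symm.trans (sb E11346 D34549))).symm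
theorem F117763 : act 5 n13064 = n18445 := (sb E11346 (iv5 F29608))
theorem F117764 : act 1 n3837 = n8472 := (sb E11347 (iv0 D17974))
theorem E11392 : n37429 = n8552 := ((((iv3 F13374)).symm.trans (sb E11347 D37429))).symm
theorem F117765 : act 0 n16755 = n8472 := (sb E11348 (iv1 D17975))
theorem E11396 : n37434 = n34536 := ((((iv3 F54779)).symm.trans (sb E11348 D37434))).symm
theorem E11399 : n37931 = n37440 := (((D37440).symm.trans (sb E11349 (iv1 F58768)))).symm
theorem E11400 : n37930 = n37441 := (((D37441).symm.trans (sb E11349 F58772))).symm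
theorem F117766 : act 2 n17977 = n34553 := (sb E11349 (iv2 F59618))
theorem E11402 : n37949 = n37442 := (((D37442).symm.trans (sb E11349 D37949))).symm
theorem F117767 : act 3 n56804 = n34554 := (sb E11354 F113340)
theorem F117768 : act 3 n17957 = n8567 := (sb E11355 (iv3 D18169))
theorem E11408 : n56399 = n37830 := ((((iv4 F58677)).symm.trans (sb E11361 F89770))).symm
theorem E11409 : n56353 = n34544 := ((((iv1 F54794)).symm.trans (sb E11362 F89775))).symm
theorem F117769 : act 1 n56790 = n34553 := (sb E11364 F113327)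
theorem F117770 : act 0 n56789 = n34553 := (sb E11365 (iv1 F113326))
theorem F117771 : act 2 n18172 = n27277 := (sb E11370 F89790)
theorem F117773 : act 1 n38477 = n58238 := (sb E11372 F92047)
theorem F117774 : act 2 n38477 = n18622 := (sb E11372 (iv2 D39252))
theorem F117775 : act 7 n38477 = n58240 := (sb E11372 (iv7 F92050))
theorem F117776 : act 0 n56793 = n37940 := (sb E11373 (iv1 F112826))
theorem F117777 : act 2 n56793 = n34660 := (sb E11373 (iv2 F113022))
theorem F117778 : act 5 n56793 = n38451 := (sb E11373 F112824)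
theorem F117779 : act 6 n56793 = n34454 := (sb E11373 (iv6 D75261))
theorem F117781 : act 1 n56794 = n37940 := (sb E11374 (iv0 F112994))
theorem F117782 : act 2 n56794 = n34630 := (sb E11374 (iv2 F112995))
theorem F117783 : act 5 n56794 = n38452 := (sb E11374 (iv5 F112992))
theorem F117784 : act 6 n56794 = n34495 := (sb E11374 (iv6 D75359))
theorem F117785 : act 7 n56794 = n34660 := (sb E11374 F113023)
theorem F117786 : act 2 n56792 = n37934 := (sb E11376 F113331)
theorem F117787 : act 3 n38474 = n18620 := (sb E11377 F60204)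
theorem F117788 : act 7 n38474 = n27277 := (sb E11377 F60205)
theorem F117789 : act 3 n8742 = n18338 := (sb E11378 (iv3 D38472))
theorem F117790 : act 7 n38473 = n58246 := (sb E11379 (iv7 F92066))
theorem E11414 : n75735 = n16834 := ((((iv7 F29846)).symm.trans (sb E11384 (iv7 F113600)))).symm
theorem E11415 : n76056 = n75654 := ((((iv4 F113517)).symm.trans (sb E11386 D76056))).symm
theorem F117791 : act 7 n34633 = n17979 := (sb E11386 F54977)
theorem F117792 : act 1 n34635 = n17979 := (sb E11387 (iv0 D37447))
theorem F117793 : act 0 n34496 = n17979 := (sb E11388 (iv1 D37448))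
theorem F117794 : act 2 n37443 = n75521 := (sb E11389 (iv2 F113344))
theorem F117795 : act 2 n27276 = n18170 := (sb E11390 F59641)
theorem E11417 : n75512 = n56791 := (((D56791).symm.trans (sb E11390 D75512))).symm
theorem E11418 : n36727 = n18136 := ((((iv4 F29305)).symm.trans (sb E11392 F58330))).symm
theorem E11419 : n75467 = n36614 := (((iv4 F113282)).symm.trans (sb E11396 (iv4 F58332)))
theorem F117796 : act 0 n37440 = n18170 := (sb E11399 (iv1 D37931))
theorem F117797 : act 1 n37441 = n18170 := (sb E11400 (iv0 D37930))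
theorem F117798 : act 2 n37442 = n75520 := (sb E11402 (iv2 F113342))
theorem E11420 : n77113 = n27151 := (((iv1 F115828)).symm.trans (sb E11408 (iv1 D56399)))
theorem E11422 : n75497 = n27136 := ((D75497).symm.trans (sb E11409 (iv4 D56353)))
theorem F117801 : act 3 n16834 = n34633 := (sb E11414 (iv3 D75735))
theorem F117802 : act 7 n75654 = n37443 := (sb E11415 F113978)
theorem F117803 : act 2 n56791 = n37933 := (sb E11417 F113329)
theorem E11423 : n37827 = n17705 := ((D37827).symm.trans (sb E11418 (iv1 D36727)))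
theorem E11424 : n56396 = n37828 := (((D37828).symm.trans (sb E11418 F89238))).symm
theorem F117804 : act 4 n36614 = n34536 := (sb E11419 F113282)
theorem F117805 : act 6 n36614 = n37979 := (sb E11419 F113283)
theorem F117806 : act 7 n36614 = n34533 := (sb E11419 (iv7 D75467))
theorem E11425 : n56398 = n35212 := ((D56398).symm.trans (sb E11420 (iv1 D77113)))
theorem F117807 : act 1 n27151 = n37830 := (sb E11420 F115828)
theorem F117809 : act 4 n27136 = n34544 := (sb E11422 (iv4 D75497))
theorem E11426 : n77115 = n36726 := (((D36726).symm.trans (sb E11423 (iv1 F115834)))).symm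
theorem F117810 : act 1 n17705 = n18136 := (sb E11423 (iv0 D37827))
theorem F117811 : act 2 n37828 = n27151 := (sb E11424 F89236)
theorem F117812 : act 4 n37828 = n27150 := (sb E11424 (iv4 D56396))
theorem F117814 : act 0 n35212 = n36723 := (sb E11425 (iv1 F89249))
theorem F117815 : act 1 n35212 = n27151 := (sb E11425 (iv0 D56398))
theorem E11427 : n56765 = n18131 := (((F55954).symm.trans (sb E11425 (iv4 F89759)))).symm
theorem F117816 : act 0 n36726 = n37828 := (sb E11426 (iv1 F115833))
theorem F117818 : act 4 n36726 = n37815 := (sb E11426 F115831)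
theorem F117819 : act 7 n36726 = n35212 := (sb E11426 (iv7 D77115))
theorem E11428 : n37814 = n27269 := ((D37814).symm.trans (sb E11427 (iv0 D56765)))
theorem E11429 : n37368 = n34530 := ((((iv3 F54769)).symm.trans (sb E11427 F89761))).symm
theorem F117820 : act 0 n27269 = n18131 := (sb E11428 (iv1 D37814))
theorem E11430 : n56766 = n18139 := ((D56766).symm.trans (sb E11428 F58662))
theorem E11431 : n39743 = n38263 := (((iv5 F117157)).symm.trans (sb E11428 (iv5 F59140)))
theorem E11432 : n75455 = n17940 := ((D75455).symm.trans (sb E11429 (iv1 D37368)))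
theorem F117821 : act 0 n18139 = n27269 := (sb E11430 (iv1 D56766))
theorem F117823 : act 5 n38263 = n27269 := (sb E11431 F117157)
theorem E11433 : n57958 = n18276 := ((((iv6 D38263)).symm.trans (sb E11431 F117158))).symm
theorem E11434 : n37367 = n34536 := ((D37367).symm.trans (sb E11432 (iv1 F113242)))
theorem F117824 : act 1 n17940 = n34530 := (sb E11432 (iv0 D75455))
theorem E11435 : n38260 = n27653 := ((D38260).symm.trans (sb E11433 (iv3 D57958)))
theorem E11436 : n38264 = n27671 := ((D38264).symm.trans (sb E11433 F117387))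
theorem F117825 : act 1 n34536 = n17940 := (sb E11434 (iv0 D37367))
theorem F117826 : act 3 n27653 = n18276 := (sb E11435 (iv3 D38260))
theorem E11437 : n58015 = n18277 := ((D58015).symm.trans (sb E11436 F59141))
theorem F117827 : act 7 n27671 = n18276 := (sb E11436 (iv7 D38264))
theorem F117828 : act 2 n18277 = n27671 := (sb E11437 (iv2 D58015))
theorem E11438 : n77796 = n38386 := (c14_2 F117659 D77796 (iv7 D38386) (iv6 D18313) (iv7 F29396) D38124)
theorem F117829 : act 6 n38386 = n35501 := (sb E11438 (iv6 D77796))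
theorem E11439 : n77546 = n77489 := (c15_4 (iv0 D77489) (iv0 F117747) F117659 (iv2 F117660))
theorem F117831 : act 7 n77489 = n35403 := (sb E11439 (iv7 D77546))
theorem F117832 : act 2 n55716 = n38265 := d0_5 (iv3 D38265) F117828 (iv3 D27671) (iv2 F117397) (iv3 F88158)
theorem F117833 : act 2 n58016 = n38266 := d1_3 (iv4 D38266) F117828 D58016
theorem F117834 : act 2 n58017 = n38267 := d2_3 (iv5 D38267) F117828 D58017
theorem F117835 : act 2 n58018 = n38268 := d3_3 (iv6 D38268) F117828 D58018
theorem F117836 : act 1 n58014 = n38259 := d15_1 D58014 (iv7 F59139) F117828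
theorem F117837 : act 4 n38265 = n55647 := d1_2 D55716 F117832 F117412
theorem F117838 : act 7 n38265 = n55711 := d4_2 (iv7 F117399) F117832 F117414
theorem F117839 : act 1 n38265 = n57993 := d15_0 (iv0 D57993) (iv7 F117399) F117832
theorem E11440 : n58067 = n57993 := (c20_10 F117837 (iv1 D55647) F43328 F21346 D17165 D35380 D77487 (iv1 F117646) (iv4 D58068) D58067 (iv1 F117839))
theorem F117840 : act 3 n57993 = n27687 := (sb E11440 (iv3 D58067))
theorem F117841 : act 4 n57993 = n55735 := (sb E11440 (iv4 F91831))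
theorem E11441 : n77780 = n58000 := (c20_7 F117841 (iv1 F88176) (iv4 D26910) D26909 D55748 F91833 D77780 (iv1 D58000) (iv4 D27667) D27666 D57993)
theorem F117842 : act 4 n58000 = n35495 := (sb E11441 (iv4 D77780))
theorem F117843 : act 0 n38266 = n55834 := d20_7 D77487 (iv1 F117646) (iv4 D58068) (iv3 F117840) (iv1 F117839) (iv3 D38265) D38266 (iv4 D55834) D55833 F116352
theorem F117844 : act 3 n55711 = n38259 := d8_1 F117838 (iv7 F59139) D38265
theorem F117845 : act 1 n57994 = n38265 := d15_1 D57994 F117838 F117414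
theorem F117846 : act 0 n55839 = n38266 := d20_1 D55839 (iv4 D38266) D38265 (iv1 F117845) (iv3 F91752) F88321 (iv1 F88291) (iv4 D55820) F43426 (iv1 F43446)
theorem E11442 : n58014 = n18279 := (c20_5 (iv4 F21377) D26899 D55711 F117844 (iv1 F117836) F29477 (iv4 F29499) (iv1 F58974) F117751 (iv3 D26909) (iv1 D12876))
theorem E11443 : n38245 = n27671 := (((iv1 F59122)).symm.trans (sb E11442 (iv1 D58014)))
theorem E11444 : n38259 = n38244 := (((F59126).symm.trans (sb E11442 F117836))).symm
theorem E11445 : n58013 = n18271 := ((D58013).symm.trans (sb E11443 (iv1 D38245)))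
theorem F117847 : act 1 n27671 = n18279 := (sb E11443 F59122)
theorem F117848 : act 2 n38244 = n18276 := (sb E11444 (iv2 D38259))
theorem F117849 : act 3 n38244 = n55711 := (sb E11444 (iv3 F117844))
theorem F117850 : act 7 n38244 = n18277 := (sb E11444 (iv7 F59139))
theorem F117851 : act 1 n18271 = n27671 := (sb E11445 (iv0 D58013))
theorem E11446 : n38949 = n36003 := ((((iv3 F56754)).symm.trans (sb E11445 F91783))).symm
theorem E11447 : n55845 = n38243 := ((((iv4 F59120)).symm.trans (sb E11445 F91782))).symm
theorem F117852 : act 0 n36003 = n18494 := (sb E11446 (iv1 D38949))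
theorem F117853 : act 1 n36003 = n77477 := (sb E11446 F116304)
theorem F117854 : act 0 n38243 = n35644 := (sb E11447 (iv1 F88333))
theorem F117855 : act 1 n38243 = n26941 := (sb E11447 (iv0 D55845))
theorem E11448 : n36594 = n34535 := (c21_7 (iv5 D8188) D8186 D17430 D36003 F117852 D38952 (iv5 F59983) (iv1 D34535) F27502 (iv6 D16749) F13417)
theorem E11449 : n75474 = n17906 := ((D75474).symm.trans (sb E11448 (iv3 F57458)))
theorem E11450 : n75475 = n17649 := ((D75475).symm.trans (sb E11448 (iv4 D36594)))
theorem E11451 : n75476 = n38952 := ((D75476).symm.trans (sb E11448 F59983))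
theorem E11452 : n76017 = n75477 := (((D75477).symm.trans (sb E11448 (iv6 F117089)))).symm
theorem E11453 : n75468 = n17940 := ((F113284).symm.trans (sb E11448 F116874))
theorem F117856 : act 3 n17906 = n34535 := (sb E11449 (iv3 D75474))
theorem F117857 : act 4 n17649 = n34535 := (sb E11450 (iv4 D75475))
theorem F117858 : act 5 n38952 = n34535 := (sb E11451 (iv5 D75476))
theorem F117859 : act 3 n75477 = n34735 := (sb E11452 (iv3 D76017))
theorem F117860 : act 4 n75477 = n36596 := (sb E11452 (iv4 F117090))
theorem E11454 : n36589 = n34534 := (((iv2 F117043)).symm.trans (sb E11453 (iv2 D75468)))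
theorem F117861 : act 7 n17940 = n34535 := (sb E11453 (iv7 F113284))
theorem F117862 : act 2 n34534 = n17940 := (sb E11454 F117043)
theorem E11455 : n75470 = n17648 := ((D75470).symm.trans (sb E11454 (iv4 D36589)))
theorem F117863 : act 4 n17648 = n34534 := (sb E11455 (iv4 D75470))
theorem F117864 : act 0 n38951 = n75751 := d21_1 D38951 (iv5 D75751) (iv6 D34642) F116629 (iv6 D17432) (iv5 D8188) D8186 D17430 D36003 F117852
theorem F117865 : act 5 n77807 = n75745 := d17_3 (iv1 F117657) D35504 D77807 F113611 D75751 (iv0 F117864) (iv5 D38951) (iv0 F117852) F56755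
theorem F117866 : act 1 n75745 = n56472 := d17_8 (iv1 F91320) (iv5 F56192) F56194 (iv5 D17212) D17211 D35523 F117632 F117865 F89336
theorem F117867 : act 4 n77816 = n75751 := d18_3 (iv1 D35508) D35509 D77816 (iv5 D75751) (iv4 F113611) F117866 F89336 D56480 F89354
theorem E11456 : n75766 = n16847 := (c20_6 (iv4 F89336) (iv1 F117866) F113611 F54894 D34647 D75766 (iv4 F52377) F85660 F85656 (iv3 F91307) (iv1 D56480))
theorem E11457 : n34782 = n34647 := ((D34782).symm.trans (sb E11456 (iv3 D75766)))
theorem E11459 : n76147 = n75372 := ((((iv1 F113118)).symm.trans (sb E11457 D76147))).symm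
theorem E11461 : n76149 = n38360 := (((F59568).symm.trans (sb E11457 D76149))).symm
theorem F117868 : act 3 n34647 = n16847 := (sb E11457 (iv3 D34782))
theorem E11462 : n76150 = n75767 := (((D75767).symm.trans (sb E11457 D76150))).symm
theorem E11463 : n38147 = n27696 := ((F58998).symm.trans (sb E11457 F54992))
theorem E11464 : n39634 = n38755 := (((F59569).symm.trans (sb E11457 (iv6 F60513)))).symm
theorem E11465 : n18214 = n18077 := ((F59570).symm.trans (sb E11457 F54993))
theorem E11468 : n37711 = n34520 := ((((iv1 F113117)).symm.trans (sb E11459 (iv1 F114121)))).symm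
theorem E11469 : n37721 = n34650 := ((((iv1 F113058)).symm.trans (sb E11461 (iv1 F114126)))).symm
theorem E11470 : n37720 = n34501 := ((((iv0 F59601)).symm.trans (sb E11461 F114124))).symm
theorem E11471 : n58091 = n18305 := ((((iv5 D38360)).symm.trans (sb E11461 F114122))).symm
theorem F117869 : act 3 n75767 = n73646 := (sb E11462 F114127)
theorem E11472 : n38068 = n37715 := ((F113627).symm.trans (sb E11462 F114128))
theorem E11473 : n58089 = n18308 := ((D58089).symm.trans (sb E11463 (iv1 F58996)))
theorem E11474 : n58090 = n18237 := ((D58090).symm.trans (sb E11463 (iv0 D38147)))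
theorem F117870 : act 5 n27696 = n34647 := (sb E11463 (iv5 F58998))
theorem E11475 : n38170 = n27742 := (((F44776).symm.trans (sb E11463 F59023))).symm
theorem E11476 : n18551 = n18306 := ((F44696).symm.trans (sb E11463 F59567))
theorem F117871 : act 3 n38755 = n18767 := (sb E11464 F60512)
theorem E11477 : n18765 = n18427 := ((((iv5 D38755)).symm.trans (sb E11464 (iv5 D39634)))).symm
theorem E11478 : n34525 = n27297 := (((iv7 F59578)).symm.trans (sb E11464 F60514))
theorem E11479 : n8589 = n8529 := ((((iv6 D18077)).symm.trans (sb E11465 (iv6 D18214)))).symm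
theorem F117872 : act 7 n18077 = n34647 := (sb E11465 (iv7 F59570))
theorem F117873 : act 2 n34520 = n18077 := (sb E11468 F58573)
theorem E11486 : n75426 = n56823 := (((iv3 F113181)).symm.trans (sb E11468 (iv3 F89838)))
theorem E11487 : n39063 = n38148 := (((F58991).symm.trans (sb E11468 (iv5 F60060)))).symm
theorem E11488 : n18074 = n16743 := ((((iv6 D34520)).symm.trans (sb E11468 (iv6 D37711)))).symm
theorem F117874 : act 0 n34650 = n18077 := (sb E11469 (iv1 D37721))
theorem F117875 : act 1 n34501 = n18077 := (sb E11470 (iv0 D37720))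
theorem F117876 : act 2 n18305 = n27696 := (sb E11471 (iv2 D58091))
theorem E11491 : n39058 = n38358 := (((D38358).symm.trans (sb E11471 F91874))).symm
theorem E11492 : n58230 = n18336 := (((F29525).symm.trans (sb E11471 F92033))).symm
theorem F117877 : act 2 n37715 = n75431 := (sb E11472 (iv2 F113187))
theorem F117878 : act 5 n37715 = n38518 := (sb E11472 F59470)
theorem E11493 : n18212 = n18075 := ((((iv6 D37715)).symm.trans (sb E11472 (iv6 D38068)))).symm
theorem F117879 : act 7 n37715 = n75767 := (sb E11472 (iv7 F113627))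
theorem F117880 : act 1 n18308 = n27696 := (sb E11473 (iv0 D58089))
theorem F117881 : act 0 n18237 = n27696 := (sb E11474 (iv1 D58090))
theorem E11494 : n75734 = n58234 := (((D58234).symm.trans (sb E11475 F113599))).symm
theorem E11495 : n75790 = n58235 := (((D58235).symm.trans (sb E11475 (iv0 F113659)))).symm
theorem E11496 : n18245 = n13240 := ((((iv5 D27742)).symm.trans (sb E11475 (iv5 D38170)))).symm
theorem E11497 : n18594 = n18331 := ((F44775).symm.trans (sb E11475 F59564))
theorem F117882 : act 3 n18306 = n8709 := (sb E11476 (iv3 D18551))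
theorem E11498 : n39064 = n38363 := (((D38363).symm.trans (sb E11476 D39064))).symm
theorem F117883 : act 5 n18306 = n18077 := (sb E11476 F29790)
theorem E11499 : n39065 = n38364 := (((D38364).symm.trans (sb E11476 D39065))).symm
theorem F117884 : act 7 n18306 = n27696 := (sb E11476 (iv7 F44696))
theorem E11500 : n39630 = n8668 := ((((iv1 D18427)).symm.trans (sb E11477 D39630))).symm
theorem E11502 : n39632 = n18337 := ((((iv2 F59222)).symm.trans (sb E11477 D39632))).symm
theorem E11503 : n38753 = n8795 := ((D38753).symm.trans (sb E11477 (iv3 D18765)))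
theorem E11505 : n18773 = n18432 := ((((iv7 F59574)).symm.trans (sb E11477 (iv7 F30028)))).symm
theorem E11506 : n56857 = n16777 := ((D56857).symm.trans (sb E11478 F59575))
theorem E11507 : n56858 = n16782 := ((D56858).symm.trans (sb E11478 F59576))
theorem E11510 : n75443 = n56853 := ((((iv4 F89880)).symm.trans (sb E11478 (iv4 F113210)))).symm
theorem F117885 : act 7 n27297 = n38755 := (sb E11478 F59578)
theorem E11512 : n18072 = n16746 := ((D18072).symm.trans (sb E11479 (iv1 F27492)))
theorem E11513 : n18073 = n3852 := ((D18073).symm.trans (sb E11479 (iv0 D8589)))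
theorem E11514 : n18213 = n18076 := (((D18076).symm.trans (sb E11479 D18213))).symm
theorem E11521 : n34517 = n27285 := ((((iv6 D56823)).symm.trans (sb E11486 (iv6 D75426)))).symm
theorem F117887 : act 3 n38148 = n58095 := (sb E11487 (iv3 F91881))
theorem E11522 : n27293 = n8592 := ((((iv1 F27490)).symm.trans (sb E11488 (iv1 F44149)))).symm
theorem E11523 : n27292 = n7822 := ((((iv0 D16743)).symm.trans (sb E11488 F44145))).symm
theorem F117888 : act 2 n16743 = n8529 := (sb E11488 (iv2 D18074))
theorem E11524 : n37709 = n34518 := (((D34518).symm.trans (sb E11488 D37709))).symm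
theorem E11525 : n37710 = n34519 := (((D34519).symm.trans (sb E11488 D37710))).symm
theorem F117891 : act 2 n38358 = n18548 := (sb E11491 (iv2 D39058))
theorem E11527 : n39232 = n38463 := (((F59304).symm.trans (sb E11491 F60199))).symm
theorem F117892 : act 7 n38358 = n58095 := (sb E11491 (iv7 F91883))
theorem F117893 : act 2 n18336 = n27742 := (sb E11492 F92029)
theorem E11530 : n27740 = n8639 := ((((iv5 D18336)).symm.trans (sb E11492 (iv5 D58230)))).symm
theorem E11531 : n39202 = n38166 := ((((iv7 F59553)).symm.trans (sb E11492 F92031))).symm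
theorem E11532 : n37712 = n34565 := ((D37712).symm.trans (sb E11493 (iv1 F59468)))
theorem E11533 : n37713 = n10535 := ((D37713).symm.trans (sb E11493 F59465))
theorem E11535 : n38067 = n37714 := (((D37714).symm.trans (sb E11493 D38067))).symm
theorem F117894 : act 2 n58234 = n38452 := (sb E11494 F113595)
theorem F117895 : act 5 n58234 = n34630 := (sb E11494 (iv5 D75734))
theorem F117896 : act 6 n58234 = n34634 := (sb E11494 F113596)
theorem F117897 : act 7 n58234 = n38451 := (sb E11494 F113597)
theorem F117898 : act 2 n58235 = n38451 := (sb E11495 F113657)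
theorem F117899 : act 5 n58235 = n34660 := (sb E11495 (iv5 D75790))
theorem F117900 : act 7 n58235 = n38452 := (sb E11495 F113658)
theorem E11537 : n27738 = n8608 := ((D27738).symm.trans (sb E11496 (iv1 D18245)))
theorem E11538 : n27739 = n8641 := ((D27739).symm.trans (sb E11496 F29432))
theorem E11539 : n38168 = n6289 := ((((iv3 D13240)).symm.trans (sb E11496 D38168))).symm
theorem E11540 : n38169 = n27741 := (((D27741).symm.trans (sb E11496 D38169))).symm
theorem F117901 : act 6 n13240 = n18427 := (sb E11496 (iv6 F59565))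
theorem E11541 : n8733 = n8638 := ((F29766).symm.trans (sb E11496 (iv7 F59548)))
theorem E11542 : n38442 = n8735 := (((iv3 F59289)).symm.trans (sb E11497 F29825))
theorem E11543 : n39210 = n38453 := (((D38453).symm.trans (sb E11497 D39210))).symm
theorem E11544 : n39211 = n38454 := (((D38454).symm.trans (sb E11497 D39211))).symm
theorem F117902 : act 7 n18331 = n27742 := (sb E11497 (iv7 F44775))
theorem F117903 : act 7 n38363 = n58092 := (sb E11498 (iv7 F91879))
theorem E11545 : n38073 = n37719 := ((F59227).symm.trans (sb E11499 F60062))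
theorem E11546 : n39647 = n18426 := (((D18426).symm.trans (sb E11500 (iv1 F60538)))).symm
theorem E11549 : n39233 = n38464 := ((((iv3 F59305)).symm.trans (sb E11502 F60509))).symm
theorem F117905 : act 3 n8795 = n18427 := (sb E11503 (iv3 D38753))
theorem E11550 : n38761 = n8800 := (((F29785).symm.trans (sb E11503 (iv7 F59667)))).symm
theorem F117906 : act 5 n18432 = n27297 := (sb E11505 F44156)
theorem E11552 : n38094 = n37756 := (((iv6 F58899)).symm.trans (sb E11505 (iv6 F58602)))
theorem F117907 : act 1 n16777 = n27297 := (sb E11506 (iv0 D56857))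
theorem F117908 : act 0 n16782 = n27297 := (sb E11507 (iv1 D56858))
theorem F117910 : act 0 n56853 = n38677 := (sb E11510 (iv1 F113211))
theorem F117911 : act 1 n56853 = n38682 := (sb E11510 F113588)
theorem F117912 : act 2 n56853 = n38087 := (sb E11510 F113209)
theorem F117913 : act 1 n16746 = n8529 := (sb E11512 (iv0 D18072))
theorem E11556 : n37700 = n34509 := ((((iv3 F54740)).symm.trans (sb E11512 D37700))).symm
theorem E11557 : n37701 = n34515 := ((((iv4 F54748)).symm.trans (sb E11512 D37701))).symm
theorem F117914 : act 0 n3852 = n8529 := (sb E11513 (iv1 D18073))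
theorem E11565 : n38070 = n37716 := (((D37716).symm.trans (sb E11514 D38070))).symm
theorem E11566 : n38071 = n37717 := (((D37717).symm.trans (sb E11514 D38071))).symm
theorem E11575 : n75425 = n56822 := (((D56822).symm.trans (sb E11521 D75425))).symm
theorem F117916 : act 0 n8592 = n13077 := (sb E11522 (iv1 D27293))
theorem E11578 : n56843 = n18190 := ((((iv3 F29358)).symm.trans (sb E11522 D56843))).symm
theorem F117917 : act 1 n7822 = n13077 := (sb E11523 (iv0 D27292))
theorem E11583 : n56838 = n16739 := ((((iv3 F27478)).symm.trans (sb E11523 D56838))).symm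
theorem E11587 : n56851 = n22106 := ((((iv1 F113500)).symm.trans (sb E11524 (iv1 F89877)))).symm
theorem E11588 : n56850 = n16758 := ((((iv0 F113501)).symm.trans (sb E11524 F89874))).symm
theorem F117918 : act 2 n34518 = n18075 := (sb E11524 F58571)
theorem E11589 : n56847 = n18217 := (((F59592).symm.trans (sb E11524 (iv7 F89862)))).symm
theorem E11590 : n56855 = n38839 := (((F59858).symm.trans (sb E11525 (iv1 F89882)))).symm
theorem E11591 : n75432 = n56854 := ((D75432).symm.trans (sb E11525 F89881))
theorem E11592 : n56848 = n18218 := (((F59594).symm.trans (sb E11525 (iv7 F89867)))).symm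
theorem F117923 : act 2 n38463 = n18611 := (sb E11527 F60198)
theorem E11593 : n18609 = n18334 := ((((iv5 D38463)).symm.trans (sb E11527 (iv5 D39232)))).symm
theorem F117924 : act 7 n38463 = n58202 := (sb E11527 (iv7 F91990))
theorem E11595 : n18590 = n18247 := (((F29438).symm.trans (sb E11530 F44770))).symm
theorem F117925 : act 2 n8639 = n13240 := (sb E11530 (iv2 D27740))
theorem E11596 : n58229 = n18335 := (((D18335).symm.trans (sb E11530 D58229))).symm
theorem E11597 : n18592 = n18244 := (((F59557).symm.trans (sb E11530 F44769))).symm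
theorem F117926 : act 0 n38166 = n58235 := (sb E11531 (iv1 F92042))
theorem F117927 : act 1 n38166 = n58234 := (sb E11531 F92041)
theorem F117928 : act 3 n38166 = n58202 := (sb E11531 (iv3 F91989))
theorem F117929 : act 1 n34565 = n18075 := (sb E11532 (iv0 D37712))
theorem F117930 : act 0 n10535 = n18075 := (sb E11533 (iv1 D37713))
theorem E11598 : n56565 = n4824 := (((F16733).symm.trans (sb E11533 (iv4 F89459)))).symm
theorem F117931 : act 2 n37714 = n75430 := (sb E11535 (iv2 F113185))
theorem E11600 : n75442 = n56852 := ((((iv7 F89879)).symm.trans (sb E11535 (iv7 F113208)))).symm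
theorem F117932 : act 1 n8608 = n13240 := (sb E11537 (iv0 D27738))
theorem E11602 : n58220 = n18240 := ((((iv3 F29421)).symm.trans (sb E11537 D58220))).symm
theorem F117933 : act 0 n8641 = n13240 := (sb E11538 (iv1 D27739))
theorem E11607 : n58225 = n18317 := ((((iv3 F29517)).symm.trans (sb E11538 D58225))).symm
theorem E11611 : n18329 = n3907 := ((((iv7 F29765)).symm.trans (sb E11539 F59559))).symm
theorem F117934 : act 6 n27741 = n38754 := (sb E11540 F59561)
theorem E11612 : n18593 = n18330 := ((F44773).symm.trans (sb E11540 F59562))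
theorem E11613 : n18595 = n18332 := (((D18332).symm.trans (sb E11541 D18595))).symm
theorem F117935 : act 7 n8638 = n13240 := (sb E11541 (iv7 F29766))
theorem F117936 : act 3 n8735 = n18331 := (sb E11542 F59289)
theorem F117937 : act 7 n38453 = n58236 := (sb E11543 (iv7 F92044))
theorem E11614 : n75449 = n56868 := (((iv5 F113226)).symm.trans (sb E11544 (iv5 F89905)))
theorem F117940 : act 5 n37719 = n38364 := (sb E11545 (iv5 F59227))
theorem E11615 : n39625 = n38750 := (((D38750).symm.trans (sb E11546 F60536))).symm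
theorem F117942 : act 1 n38464 = n39623 := (sb E11549 F60493)
theorem E11616 : n76051 = n75728 := ((((iv5 F113584)).symm.trans (sb E11549 (iv5 F113967)))).symm
theorem F117944 : act 3 n8800 = n18432 := (sb E11550 (iv3 D38761))
theorem F117945 : act 1 n37756 = n18458 := (sb E11552 (iv0 F59196))
theorem E11617 : n18220 = n18107 := ((((iv5 D37756)).symm.trans (sb E11552 (iv5 D38094)))).symm
theorem F117947 : act 6 n37756 = n18432 := (sb E11552 F58899)
theorem E11619 : n75384 = n37042 := (((iv4 F113142)).symm.trans (sb E11556 F58568))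
theorem E11620 : n36933 = n18207 := ((((iv1 F54751)).symm.trans (sb E11557 F58569))).symm
theorem F117949 : act 5 n37716 = n37802 := (sb E11565 F58887)
theorem F117950 : act 5 n37717 = n38457 := (sb E11566 (iv5 F59603))
theorem F117951 : act 6 n37717 = n37164 := (sb E11566 F59604)
theorem F117953 : act 3 n56822 = n34519 := (sb E11575 F113179)
theorem E11623 : n38083 = n37740 := (((F89834).symm.trans (sb E11575 F113180))).symm
theorem E11624 : n56468 = n37979 := ((((iv4 F58813)).symm.trans (sb E11578 (iv4 F89858)))).symm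
theorem E11625 : n56548 = n34505 := ((((iv4 F54737)).symm.trans (sb E11583 F89856))).symm
theorem F117955 : act 0 n22106 = n27295 := (sb E11587 (iv1 D56851))
theorem E11626 : n36984 = n10539 := (((F34584).symm.trans (sb E11587 (iv4 F89878)))).symm
theorem F117956 : act 1 n16758 = n27295 := (sb E11588 (iv0 D56850))
theorem E11627 : n36930 = n10480 := (((F27523).symm.trans (sb E11588 (iv4 F89875)))).symm
theorem F117957 : act 2 n18217 = n27295 := (sb E11589 F89861)
theorem F117958 : act 0 n38839 = n27296 := (sb E11590 (iv1 D56855))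
theorem F117959 : act 0 n56854 = n34519 := (sb E11591 (iv1 D75432))
theorem F117960 : act 6 n56854 = n38109 := (sb E11591 (iv6 F113665))
theorem F117961 : act 0 n18218 = n37717 := (sb E11592 (iv1 F89868))
theorem F117962 : act 1 n18218 = n37716 := (sb E11592 F89870)
theorem E11628 : n37754 = n34526 := ((((iv6 F54757)).symm.trans (sb E11592 (iv6 F89869)))).symm
theorem E11629 : n38459 = n27728 := ((D38459).symm.trans (sb E11593 (iv1 F44736)))
theorem E11630 : n38460 = n27727 := ((D38460).symm.trans (sb E11593 F44732))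
theorem E11631 : n38461 = n8738 := ((D38461).symm.trans (sb E11593 (iv2 D18609)))
theorem E11632 : n39231 = n38462 := (((D38462).symm.trans (sb E11593 D39231))).symm
theorem E11633 : n38164 = n27729 := (((iv7 F59549)).symm.trans (sb E11593 (iv7 F44734)))
theorem E11640 : n39192 = n38156 := ((((iv3 F59007)).symm.trans (sb E11595 D39192))).symm
theorem E11641 : n39193 = n38162 := ((((iv4 F59016)).symm.trans (sb E11595 D39193))).symm
theorem E11644 : n39205 = n8649 := (((F113496).symm.trans (sb E11596 F92027))).symm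
theorem F117964 : act 2 n18335 = n27741 := (sb E11596 F92025)
theorem E11646 : n39201 = n38165 := ((((iv7 F59551)).symm.trans (sb E11596 F92026))).symm
theorem E11647 : n39203 = n38098 := (((F58901).symm.trans (sb E11597 D39203))).symm
theorem E11648 : n27207 = n10532 := ((((iv3 F16728)).symm.trans (sb E11598 (iv3 D56565)))).symm
theorem F117965 : act 2 n56852 = n38086 := (sb E11600 F113207)
theorem E11649 : n56194 = n38152 := ((((iv4 F59004)).symm.trans (sb E11602 F92020))).symm
theorem E11650 : n56104 = n38386 := ((((iv4 F59247)).symm.trans (sb E11607 (iv4 F92022)))).symm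
theorem F117966 : act 3 n3907 = n8638 := (sb E11611 (iv3 D18329))
theorem E11656 : n38447 = n33795 := ((D38447).symm.trans (sb E11612 (iv3 F53027)))
theorem E11657 : n39206 = n38448 := (((D38448).symm.trans (sb E11612 D39206))).symm
theorem E11658 : n39207 = n38449 := (((D38449).symm.trans (sb E11612 D39207))).symm
theorem F117967 : act 7 n18330 = n27741 := (sb E11612 (iv7 F44773))
theorem E11661 : n34527 = n27300 := ((F54759).symm.trans (sb E11613 (iv5 F44162)))
theorem F117969 : act 2 n56868 = n38099 := (sb E11614 F113225)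
theorem F117970 : act 5 n56868 = n38454 := (sb E11614 F113226)
theorem F117971 : act 0 n38750 = n39242 := (sb E11615 (iv1 F60498))
theorem F117972 : act 1 n38750 = n39241 := (sb E11615 F60496)
theorem F117973 : act 2 n38750 = n18762 := (sb E11615 (iv2 D39625))
theorem F117974 : act 5 n38750 = n37741 := (sb E11615 F60494)
theorem F117977 : act 2 n75728 = n34746 := (sb E11616 (iv2 D76051))
theorem E11662 : n37752 = n34529 := ((D37752).symm.trans (sb E11617 F54767))
theorem E11663 : n37753 = n8591 := ((D37753).symm.trans (sb E11617 (iv0 D18220)))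
theorem E11664 : n38093 = n37755 := (((D37755).symm.trans (sb E11617 D38093))).symm
theorem F117980 : act 4 n37042 = n34509 := (sb E11619 F113142)
theorem F117981 : act 6 n37042 = n37830 := (sb E11619 F113143)
theorem F117982 : act 7 n37042 = n34505 := (sb E11619 (iv7 D75384))
theorem E11665 : n38044 = n17778 := ((D38044).symm.trans (sb E11620 (iv4 D36933)))
theorem E11666 : n75445 = n56862 := ((((iv6 F89889)).symm.trans (sb E11623 (iv6 F113215)))).symm
theorem E11667 : n77366 = n27179 := (((iv1 F116178)).symm.trans (sb E11624 (iv1 F89339)))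
theorem E11668 : n77365 = n27174 := ((F116182).symm.trans (sb E11624 (iv0 D56468)))
theorem E11669 : n75381 = n27199 := ((D75381).symm.trans (sb E11625 (iv1 D56548)))
theorem E11671 : n22098 = n17802 := (((iv3 F34571)).symm.trans (sb E11626 (iv3 D36984)))
theorem E11672 : n21971 = n17778 := ((D21971).symm.trans (sb E11627 (iv0 D36930)))
theorem E11673 : n56463 = n21938 := ((((iv3 F34441)).symm.trans (sb E11627 F89876))).symm
theorem E11674 : n56865 = n18223 := ((((iv1 F54765)).symm.trans (sb E11628 (iv1 F89901)))).symm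
theorem E11675 : n56864 = n16745 := ((((iv0 D34526)).symm.trans (sb E11628 F89896))).symm
theorem F117985 : act 1 n27728 = n18334 := (sb E11629 (iv0 D38459))
theorem F117986 : act 0 n27727 = n18334 := (sb E11630 (iv1 D38460))
theorem F117987 : act 2 n8738 = n18334 := (sb E11631 (iv2 D38461))
theorem F117988 : act 0 n38462 = n58205 := (sb E11632 (iv1 F91997))
theorem F117990 : act 2 n38462 = n18610 := (sb E11632 F60197)
theorem F117991 : act 7 n38462 = n58201 := (sb E11632 (iv7 F91985))
theorem F117992 : act 3 n27729 = n18244 := (sb E11633 (iv3 D38164))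
theorem F117994 : act 4 n38156 = n36356 := (sb E11640 F60169)
theorem E11677 : n36211 = n18325 := ((((iv1 F59019)).symm.trans (sb E11641 F60170))).symm
theorem E11678 : n56212 = n9186 := ((((iv4 F14330)).symm.trans (sb E11644 (iv4 F88915)))).symm
theorem F117995 : act 0 n38165 = n58232 := (sb E11646 (iv1 F92038))
theorem F117996 : act 1 n38165 = n58231 := (sb E11646 F92035)
theorem F117997 : act 3 n38098 = n58203 := (sb E11647 (iv3 F91994))
theorem E11679 : n22095 = n17804 := ((D22095).symm.trans (sb E11648 (iv1 F43990)))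
theorem E11680 : n22096 = n13033 := ((D22096).symm.trans (sb E11648 (iv0 D27207)))
theorem F117998 : act 0 n38152 = n27080 := (sb E11649 (iv1 D56194))
theorem F118000 : act 0 n38386 = n27057 := (sb E11650 (iv1 F88773))
theorem F118001 : act 1 n38386 = n27052 := (sb E11650 (iv0 D56104))
theorem F118003 : act 3 n33795 = n18330 := (sb E11656 (iv3 D38447))
theorem F118004 : act 3 n38448 = n73522 := (sb E11657 (iv3 F110189))
theorem F118005 : act 7 n38448 = n58233 := (sb E11657 (iv7 F92040))
theorem F118006 : act 3 n38449 = n73523 := (sb E11658 (iv3 F110190))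
theorem E11686 : n75448 = n56867 := (((D56867).symm.trans (sb E11661 D75448))).symm
theorem F118007 : act 5 n27300 = n18332 := (sb E11661 (iv5 F54759))
theorem F118008 : act 1 n34529 = n18107 := (sb E11662 (iv0 D37752))
theorem F118009 : act 0 n8591 = n18107 := (sb E11663 (iv1 D37753))
theorem F118010 : act 1 n37755 = n22119 := (sb E11664 F113220)
theorem F118012 : act 4 n17778 = n18207 := (sb E11665 (iv4 D38044))
theorem F118013 : act 3 n56862 = n34526 := (sb E11666 (iv3 D75445))
theorem E11687 : n38096 = n37759 := (((F89890).symm.trans (sb E11666 F113216))).symm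
theorem E11688 : n56469 = n35320 := (((iv1 F89335)).symm.trans (sb E11667 (iv1 D77366)))
theorem F118014 : act 1 n27179 = n37979 := (sb E11667 F116178)
theorem F118015 : act 0 n27174 = n37979 := (sb E11668 (iv1 F116182))
theorem F118016 : act 1 n27199 = n34505 := (sb E11669 (iv0 D75381))
theorem E11690 : n27209 = n18921 := (((iv1 F43993)).symm.trans (sb E11671 (iv1 F34574)))
theorem E11691 : n18920 = n8397 := ((((iv0 D17802)).symm.trans (sb E11671 F34575))).symm
theorem F118018 : act 3 n17802 = n10539 := (sb E11671 F34571)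
theorem E11693 : n46166 = n36985 := (((D36985).symm.trans (sb E11671 (iv4 F72826)))).symm
theorem E11694 : n46180 = n36986 := (((D36986).symm.trans (sb E11671 (iv5 F72842)))).symm
theorem E11695 : n36987 = n18913 := ((D36987).symm.trans (sb E11671 F34572))
theorem E11696 : n36988 = n10532 := ((D36988).symm.trans (sb E11671 (iv7 D22098)))
theorem F118019 : act 0 n17778 = n10480 := (sb E11672 (iv1 D21971))
theorem E11697 : n36931 = n10539 := ((D36931).symm.trans (sb E11672 F34469))
theorem E11698 : n45979 = n36932 := (((D36932).symm.trans (sb E11672 (iv2 F72552)))).symm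
theorem E11701 : n45982 = n36934 := (((D36934).symm.trans (sb E11672 D45982))).symm
theorem E11703 : n45974 = n36903 := ((((iv7 F57834)).symm.trans (sb E11672 F72551))).symm
theorem E11704 : n45871 = n27173 := ((D45871).symm.trans (sb E11673 (iv1 D56463)))
theorem F118020 : act 0 n18223 = n27300 := (sb E11674 (iv1 D56865))
theorem F118021 : act 1 n16745 = n27300 := (sb E11675 (iv0 D56864))
theorem E11705 : n38425 = n17494 := ((D38425).symm.trans (sb E11677 (iv4 D36211)))
theorem E11706 : n27090 = n18929 := ((((iv3 F30222)).symm.trans (sb E11678 (iv3 D56212)))).symm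
theorem E11707 : n27208 = n18923 := (((iv1 F43994)).symm.trans (sb E11679 (iv1 F34573)))
theorem F118023 : act 1 n17804 = n10532 := (sb E11679 (iv0 D22095))
theorem F118024 : act 0 n13033 = n10532 := (sb E11680 (iv1 D22096))
theorem E11716 : n46175 = n27211 := (((D27211).symm.trans (sb E11680 D46175))).symm
theorem E11717 : n46176 = n27212 := (((D27212).symm.trans (sb E11680 D46176))).symm
theorem F118027 : act 2 n56867 = n38097 := (sb E11686 F113223)
theorem F118028 : act 3 n37759 = n18221 := (sb E11687 (iv3 D38096))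
theorem F118029 : act 0 n35320 = n27174 := (sb E11688 (iv1 D56469))
theorem F118030 : act 1 n35320 = n27179 := (sb E11688 F89335)
theorem E11718 : n17803 = n8871 := ((((iv1 D18921)).symm.trans (sb E11690 (iv1 F43995)))).symm
theorem F118032 : act 3 n18921 = n17826 := (sb E11690 F43991)
theorem E11720 : n56574 = n40021 := (((D40021).symm.trans (sb E11690 D56574))).symm
theorem E11721 : n56575 = n40022 := (((D40022).symm.trans (sb E11690 D56575))).symm
theorem E11722 : n56576 = n40023 := (((D40023).symm.trans (sb E11690 D56576))).symm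
theorem E11727 : n40018 = n17807 := (((D17807).symm.trans (sb E11691 D40018))).symm
theorem E11728 : n45275 = n40011 := ((F71335).symm.trans (sb E11693 (iv1 F72829)))
theorem F118034 : act 1 n36985 = n40010 := (sb E11693 F72830)
theorem F118036 : act 6 n36985 = n39988 := (sb E11693 F72827)
theorem F118037 : act 7 n36985 = n22094 := (sb E11693 (iv7 D46166))
theorem F118038 : act 0 n36986 = n40025 := (sb E11694 (iv1 F72845))
theorem F118039 : act 1 n36986 = n40024 := (sb E11694 (iv0 F72846))
theorem F118041 : act 3 n36986 = n22120 := (sb E11694 F72841)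
theorem F118042 : act 6 n36986 = n36986 := (sb E11694 (tr F72843 E11694))
theorem F118044 : act 6 n18913 = n17802 := (sb E11695 (iv6 D36987))
theorem F118045 : act 7 n10532 = n17802 := (sb E11696 (iv7 D36988))
theorem F118046 : act 0 n10539 = n17778 := (sb E11697 (iv1 D36931))
theorem F118047 : act 7 n36932 = n21970 := (sb E11698 (iv7 D45979))
theorem F118048 : act 6 n36934 = n22117 := (sb E11701 (iv6 F72553))
theorem F118049 : act 2 n36903 = n21970 := (sb E11703 (iv2 D45974))
theorem E11729 : n56462 = n40005 := ((D56462).symm.trans (sb E11704 (iv1 F72432)))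
theorem F118050 : act 1 n27173 = n21938 := (sb E11704 (iv0 D45871))
theorem F118051 : act 4 n17494 = n18325 := (sb E11705 (iv4 D38425))
theorem E11730 : n40039 = n17532 := ((D40039).symm.trans (sb E11706 (iv1 F43772)))
theorem E11731 : n40040 = n12977 := ((D40040).symm.trans (sb E11706 (iv0 D27090)))
theorem F118052 : act 0 n18923 = n13033 := (sb E11707 (iv1 D27208))
theorem F118053 : act 1 n18923 = n17804 := (sb E11707 F43994)
theorem E11737 : n56570 = n40005 := ((((iv3 F60875)).symm.trans (sb E11707 D56570))).symm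
theorem E11741 : n40024 = n17836 := ((((iv6 F43999)).symm.trans (sb E11716 (iv6 F72833)))).symm
theorem E11742 : n40270 = n40190 := (((iv5 F61252)).symm.trans (sb E11717 F72834))
theorem F118054 : act 0 n8871 = n8397 := (sb E11718 (iv1 D17803))
theorem F118056 : act 0 n40021 = n36997 := (sb E11720 (iv1 F89466))
theorem F118057 : act 1 n40021 = n36996 := (sb E11720 F89467)
theorem F118058 : act 2 n40021 = n27210 := (sb E11720 F89464)
theorem F118059 : act 7 n40021 = n36993 := (sb E11720 F89465)
theorem F118060 : act 0 n40022 = n37002 := (sb E11721 (iv1 F89471))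
theorem F118061 : act 1 n40022 = n37001 := (sb E11721 F89473)
theorem E11747 : n46177 = n37062 := (((iv6 F72835)).symm.trans (sb E11721 (iv6 F89472)))
theorem F118065 : act 2 n40023 = n27212 := (sb E11722 F89474)
theorem E11748 : n40084 = n17316 := ((((iv5 F28945)).symm.trans (sb E11727 F60977))).symm
theorem F118069 : act 4 n40011 = n21592 := (sb E11728 (iv4 D45275))
theorem F118070 : act 1 n40005 = n27173 := (sb E11729 (iv0 D56462))
theorem E11749 : n27091 = n18954 := (((iv1 F43776)).symm.trans (sb E11730 (iv1 F60920)))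
theorem F118071 : act 1 n17532 = n18929 := (sb E11730 (iv0 D40039))
theorem F118072 : act 0 n12977 = n18929 := (sb E11731 (iv1 D40040))
theorem F118073 : act 4 n40005 = n37623 := (sb E11737 (iv4 F89461))
theorem E11750 : n37060 = n36986 := ((D37060).symm.trans (sb E11741 (iv1 F118039)))
theorem E11751 : n37061 = n18922 := ((D37061).symm.trans (sb E11741 (iv0 D40024)))
theorem F118074 : act 3 n40190 = n19029 := (sb E11742 (iv3 D40270))
theorem F118075 : act 5 n40190 = n27212 := (sb E11742 F61252)
theorem F118076 : act 6 n40190 = n36319 := (sb E11742 F61253)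
theorem F118077 : act 7 n40190 = n27095 := (sb E11742 F61254)
theorem E11752 : n56592 = n40027 := (((iv1 F89502)).symm.trans (sb E11747 (iv1 F72844)))
theorem E11753 : n56591 = n22097 := ((F89497).symm.trans (sb E11747 (iv0 D46177)))
theorem F118078 : act 6 n37062 = n40022 := (sb E11747 F72835)
theorem E11754 : n35725 = n18943 := ((D35725).symm.trans (sb E11748 (iv1 D40084)))
theorem F118079 : act 0 n18954 = n12977 := (sb E11749 (iv1 D27091))
theorem F118080 : act 1 n18954 = n17532 := (sb E11749 F43776)
theorem E11755 : n56217 = n40093 := ((((iv3 F60989)).symm.trans (sb E11749 D56217))).symm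
theorem E11759 : n56593 = n40025 := (((F118038).symm.trans (sb E11750 (iv1 F89501)))).symm
theorem F118082 : act 0 n18922 = n17836 := (sb E11751 (iv1 D37061))
theorem E11760 : n46178 = n27215 := (((iv1 F72836)).symm.trans (sb E11752 (iv1 D56592)))
theorem F118084 : act 0 n22097 = n37062 := (sb E11753 (iv1 F89497))
theorem E11761 : n55862 = n40083 := (((D40083).symm.trans (sb E11754 (iv1 F88360)))).symm
theorem F118085 : act 1 n18943 = n17316 := (sb E11754 (iv0 D35725))
theorem F118086 : act 4 n40093 = n39145 := (sb E11755 (iv4 F88917))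
theorem F118087 : act 2 n40025 = n27215 := (sb E11759 (iv2 D56593))
theorem F118088 : act 3 n40025 = n37068 := (sb E11759 F89498)
theorem F118089 : act 5 n40025 = n36307 := (sb E11759 F89499)
theorem F118090 : act 7 n40025 = n37062 := (sb E11759 F89500)
theorem F118091 : act 0 n27215 = n22097 := (sb E11760 (iv1 D46178))
theorem F118092 : act 1 n27215 = n40027 := (sb E11760 F72836)
theorem E11762 : n40107 = n17535 := (((F44006).symm.trans (sb E11760 (iv5 F72837)))).symm
theorem F118093 : act 0 n40083 = n35726 := (sb E11761 (iv1 F88362))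
theorem F118094 : act 2 n40083 = n26948 := (sb E11761 (iv2 D55862))
theorem F118095 : act 3 n40083 = n35720 := (sb E11761 F88358)
theorem E11763 : n56222 = n40111 := (((F61003).symm.trans (sb E11761 F88927))).symm
theorem F118096 : act 7 n40083 = n35727 := (sb E11761 F88359)
theorem E11764 : n18951 = n8243 := ((((iv6 D17535)).symm.trans (sb E11762 (iv6 D40107)))).symm
theorem F118097 : act 0 n40111 = n36314 := (sb E11763 (iv1 F88926))
theorem F118098 : act 1 n40111 = n36313 := (sb E11763 F88928)
theorem F118099 : act 2 n40111 = n27094 := (sb E11763 F88923)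
theorem F118100 : act 3 n40111 = n36353 := (sb E11763 F88924)
theorem E11765 : n27092 = n18952 := ((((iv5 D40111)).symm.trans (sb E11763 (iv5 D56222)))).symm
theorem F118101 : act 7 n40111 = n36306 := (sb E11763 F88925)
theorem E11766 : n40042 = n17530 := (((D17530).symm.trans (sb E11764 (iv1 F60922)))).symm
theorem E11767 : n17531 = n8884 := ((D17531).symm.trans (sb E11764 (iv0 D18951)))
theorem E11768 : n40103 = n17532 := (((D17532).symm.trans (sb E11764 D40103))).symm
theorem E11772 : n40108 = n12977 := ((((iv7 F30504)).symm.trans (sb E11764 D40108))).symm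
theorem E11773 : n40109 = n17554 := ((D40109).symm.trans (sb E11765 F43773))
theorem E11774 : n56221 = n40110 := (((D40110).symm.trans (sb E11765 D56221))).symm
theorem E11775 : n56223 = n40112 := (((D40112).symm.trans (sb E11765 D56223))).symm
theorem F118102 : act 0 n17530 = n18952 := (sb E11766 (iv1 F60921))
theorem E11776 : n36295 = n18954 := ((D36295).symm.trans (sb E11766 F60917))
theorem E11777 : n36296 = n19515 := ((D36296).symm.trans (sb E11766 F60918))
theorem E11778 : n36299 = n18944 := ((D36299).symm.trans (sb E11766 F60919))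
theorem E11779 : n36300 = n18929 := ((D36300).symm.trans (sb E11766 (iv7 D40042)))
theorem F118103 : act 0 n8884 = n8243 := (sb E11767 (iv1 D17531))
theorem F118104 : act 7 n17532 = n18952 := (sb E11768 (iv7 F61001))
theorem F118105 : act 2 n12977 = n18952 := (sb E11772 F61002)
theorem F118106 : act 3 n17554 = n18952 := (sb E11773 (iv3 D40109))
theorem F118107 : act 0 n40110 = n36309 := (sb E11774 (iv1 F88921))
theorem F118108 : act 1 n40110 = n36308 := (sb E11774 F88922)
theorem F118109 : act 2 n40110 = n27093 := (sb E11774 F88919)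
theorem F118110 : act 7 n40110 = n36305 := (sb E11774 F88920)
theorem F118111 : act 2 n40112 = n27095 := (sb E11775 F88929)
theorem F118112 : act 3 n40112 = n36354 := (sb E11775 F88930)
theorem F118113 : act 2 n18954 = n17530 := (sb E11776 (iv2 D36295))
theorem F118114 : act 3 n19515 = n17530 := (sb E11777 (iv3 D36296))
theorem E11784 : n58232 = n18359 := (((F31250).symm.trans (sb E11777 F92039))).symm
theorem F118115 : act 6 n18944 = n17530 := (sb E11778 (iv6 D36299))
theorem F118116 : act 7 n18929 = n17530 := (sb E11779 (iv7 D36300))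
theorem E11785 : n38185 = n27741 := (((iv1 F59046)).symm.trans (sb E11784 (iv1 D58232)))
theorem E11786 : n38184 = n38165 := ((F59050).symm.trans (sb E11784 (iv0 F117995)))
theorem E11787 : n58231 = n18251 := ((D58231).symm.trans (sb E11785 (iv1 D38185)))
theorem F118117 : act 1 n27741 = n18359 := (sb E11785 F59046)
theorem F118118 : act 0 n38165 = n18359 := (sb E11786 (iv1 F59050))
theorem F118119 : act 0 n18251 = n38165 := (sb E11787 (iv1 F117996))
theorem F118120 : act 1 n18251 = n27741 := (sb E11787 (iv0 D58231))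
theorem E11788 : n36208 = n19497 := ((((iv4 F31218)).symm.trans (sb E11787 (iv4 F92036)))).symm
theorem E11789 : n41396 = n17494 := ((D41396).symm.trans (sb E11788 (iv0 D36208)))
theorem E11790 : n56099 = n40087 := ((((iv3 F60981)).symm.trans (sb E11788 F92037))).symm
theorem F118121 : act 0 n17494 = n19497 := (sb E11789 (iv1 D41396))
theorem E11791 : n36209 = n19515 := ((D36209).symm.trans (sb E11789 F63831))
theorem F118122 : act 0 n40087 = n27051 := (sb E11790 (iv1 D56099))
theorem F118123 : act 0 n19515 = n17494 := (sb E11791 (iv1 D36209))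
theorem F118124 : act 4 n38481 = n47672 := d18_7 F118123 F118051 (iv1 D18325) F13546 D8640 D18340 D38481 F74947 F63883
theorem F118125 : act 7 n41395 = n36210 := d15_2 (iv0 F118123) F63830 (iv2 D36210)
theorem F118126 : act 2 n36181 = n41395 := d4_3 F118125 (iv2 D36210) (iv7 F56902)
theorem F118127 : act 3 n41395 = n36187 := d0_2 D36181 F118126 (iv2 D36187) (iv3 D17489) D17488
theorem E11792 : n58126 = n36187 := (c20_3 (iv4 F22034) D27709 D58126 (iv3 F118127) (iv1 F63830) F118114 D36297 F91967 (iv4 D58167) (iv3 D27719) (iv1 D13231))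
theorem F118128 : act 4 n36187 = n27709 := (sb E11792 (iv4 D58126))
theorem E11793 : n58124 = n36188 := (c1_2 F118128 D58124 (iv4 D36188) D36187)
theorem F118129 : act 2 n36188 = n27709 := (sb E11793 (iv2 D58124))
theorem F118130 : act 7 n36188 = n27710 := (sb E11793 (iv7 F91936))
theorem E11794 : n39146 = n37457 := (c20_2 D18583 (iv1 F60146) (iv4 F60982) F60981 D41395 F118127 F118128 (iv1 F91914) F91911 F44717 (iv1 F29807))
theorem F118131 : act 0 n37457 = n18578 := (sb E11794 (iv1 D39146))
theorem F118132 : act 1 n37457 = n18583 := (sb E11794 F60146)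
theorem F118133 : act 7 n39145 = n40089 := d15_2 F118132 F60150 F60985
theorem E11795 : n39227 = n39139 := ((c20_11 (iv4 F60196) (iv1 F56917) (iv4 D17495) D17494 F118121 (iv3 F60981) F60982 F118131 (iv4 D18578) D18577 D39139)).symm
theorem F118134 : act 3 n39139 = n18608 := (sb E11795 (iv3 D39227))
theorem F118135 : act 4 n39139 = n36192 := (sb E11795 (iv4 F60196))
theorem E11796 : n36191 = n36075 := ((c11_2 F118130 (iv4 F56812) (iv7 D36191) D36188)).symm
theorem E11797 : n17493 = n17454 := ((((iv3 D36075)).symm.trans (sb E11796 F56912))).symm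
theorem F118136 : act 7 n36075 = n17489 := (sb E11796 (iv7 D36191))
theorem E11798 : n36180 = n8207 := ((((iv1 D17454)).symm.trans (sb E11797 (iv1 F56901)))).symm
theorem E11801 : n36197 = n36076 := (((D36076).symm.trans (sb E11797 (iv4 F56916)))).symm
theorem E11802 : n36202 = n36077 := (((D36077).symm.trans (sb E11797 (iv5 F56921)))).symm
theorem E11803 : n36207 = n36078 := (((D36078).symm.trans (sb E11797 D36207))).symm
theorem E11804 : n36069 = n8226 := ((F56809).symm.trans (sb E11797 (iv7 D17493)))
theorem E11805 : n17488 = n17453 := (((D17453).symm.trans (sb E11798 (iv1 D36180)))).symm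
theorem F118138 : act 2 n36076 = n17495 := (sb E11801 F56915)
theorem F118139 : act 7 n36076 = n17490 := (sb E11801 (iv7 D36197))
theorem F118140 : act 2 n36077 = n17496 := (sb E11802 F56920)
theorem F118141 : act 7 n36077 = n17491 := (sb E11802 (iv7 D36202))
theorem F118142 : act 2 n36078 = n17497 := (sb E11803 F56925)
theorem F118143 : act 7 n8226 = n17454 := (sb E11804 (iv7 F56809))
theorem E11806 : n36181 = n36070 := (((D36070).symm.trans (sb E11805 D36181))).symm
theorem E11807 : n36182 = n36071 := (((D36071).symm.trans (sb E11805 D36182))).symm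
theorem E11808 : n36183 = n36072 := (((D36072).symm.trans (sb E11805 D36183))).symm
theorem E11809 : n36184 = n36073 := (((D36073).symm.trans (sb E11805 D36184))).symm
theorem F118145 : act 7 n17453 = n8227 := (sb E11805 (iv7 F28479))
theorem F118147 : act 7 n36070 = n17494 := (sb E11806 F56902)
theorem F118148 : act 2 n36071 = n17490 := (sb E11807 F56903)
theorem F118149 : act 7 n36071 = n17495 := (sb E11807 F56904)
theorem F118150 : act 2 n36072 = n17491 := (sb E11808 F56905)
theorem F118151 : act 7 n36072 = n17496 := (sb E11808 F56906)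
theorem F118152 : act 2 n36073 = n17492 := (sb E11809 F56907)
theorem E11810 : n58129 = n58107 := (c15_4 F91907 (iv0 F56908) F118130 (iv2 F91937))
theorem F118153 : act 2 n58107 = n27710 := (sb E11810 F91937)
theorem F118154 : act 7 n58107 = n27709 := (sb E11810 (iv7 D58129))
theorem E11811 : n36947 = n36205 := ((c2_3 (iv5 F56810) F118152 D36205 F57864)).symm
theorem F118155 : act 2 n36205 = n17783 := (sb E11811 F57864)
theorem F118156 : act 7 n36205 = n17782 := (sb E11811 (iv7 D36947))
theorem E11812 : n36946 = n36206 := (c13_2 F118156 D36946 (iv7 D36206) D36205)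
theorem F118157 : act 1 n36206 = n55679 := (sb E11812 (iv0 F89197))
theorem F118158 : act 5 n36206 = n17782 := (sb E11812 (iv5 D36946))
theorem E11813 : n36943 = n36811 := (c15_4 (iv0 D36811) (iv0 F56923) F118156 D36943)
theorem F118159 : act 2 n36811 = n17782 := (sb E11813 (iv2 D36943))
theorem F118160 : act 7 n36811 = n17783 := (sb E11813 (iv7 F57863))
theorem E11814 : n36924 = n36809 := ((c3_3 (iv6 F57721) F118159 F57720 F57852)).symm
theorem F118161 : act 2 n36809 = n17780 := (sb E11814 F57852)
theorem E11815 : n17777 = n17741 := ((((iv5 D36809)).symm.trans (sb E11814 F57853))).symm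
theorem F118162 : act 7 n36809 = n17775 := (sb E11814 (iv7 D36924))
theorem E11816 : n36902 = n8364 := ((((iv1 D17741)).symm.trans (sb E11815 (iv1 F57833)))).symm
theorem E11819 : n36913 = n36807 := (((D36807).symm.trans (sb E11815 (iv3 F57844)))).symm
theorem E11820 : n36919 = n36808 := (((D36808).symm.trans (sb E11815 (iv4 F57848)))).symm
theorem E11821 : n36929 = n36810 := (((D36810).symm.trans (sb E11815 D36929))).symm
theorem E11823 : n17772 = n17740 := (((D17740).symm.trans (sb E11816 (iv1 D36902)))).symm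
theorem F118164 : act 7 n36807 = n17773 := (sb E11819 (iv7 D36913))
theorem F118165 : act 2 n36808 = n17779 := (sb E11820 F57847)
theorem F118166 : act 7 n36808 = n17774 := (sb E11820 (iv7 D36919))
theorem F118167 : act 2 n36810 = n17781 := (sb E11821 F57858)
theorem F118169 : act 2 n17740 = n8380 := (sb E11823 (iv2 D17772))
theorem E11824 : n36903 = n36802 := (((D36802).symm.trans (sb E11823 D36903))).symm
theorem E11825 : n36904 = n36803 := (((D36803).symm.trans (sb E11823 D36904))).symm
theorem E11826 : n36905 = n36804 := (((D36804).symm.trans (sb E11823 D36905))).symm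
theorem E11827 : n36906 = n36805 := (((D36805).symm.trans (sb E11823 D36906))).symm
theorem F118171 : act 2 n36802 = n21970 := (sb E11824 F118049)
theorem F118172 : act 7 n36802 = n17778 := (sb E11824 F57834)
theorem F118173 : act 2 n36803 = n17774 := (sb E11825 F57835)
theorem F118174 : act 7 n36803 = n17779 := (sb E11825 F57836)
theorem F118175 : act 2 n36804 = n17775 := (sb E11826 F57837)
theorem F118176 : act 7 n36804 = n17780 := (sb E11826 F57838)
theorem F118177 : act 2 n36805 = n17776 := (sb E11827 F57839)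
theorem E11828 : n55767 = n36927 := ((c2_3 (iv5 F57717) F118177 D36927 F88202)).symm
theorem F118179 : act 7 n36927 = n26913 := (sb E11828 (iv7 D55767))
theorem E11829 : n55766 = n36928 := (c13_2 F118179 D55766 (iv7 D36928) D36927)
theorem F118180 : act 1 n36928 = n35304 := (sb E11829 (iv0 F88201))
theorem F118181 : act 5 n36928 = n26913 := (sb E11829 (iv5 D55766))
theorem E11830 : n55763 = n36218 := (c15_4 (iv0 F56929) (iv0 F57856) F118179 D55763)
theorem F118182 : act 2 n36218 = n26913 := (sb E11830 (iv2 D55763))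
theorem F118183 : act 7 n36218 = n26914 := (sb E11830 (iv7 F88200))
theorem F118184 : act 4 n38037 = n36802 := d11_3 F118172 F118012 F58868
theorem E11831 : n45976 = n18206 := (c1_3 F118184 F118171 D45976 D38037)
theorem E11832 : n38039 = n21970 := ((D38039).symm.trans (sb E11831 (iv4 D45976)))
theorem F118185 : act 4 n21970 = n18206 := (sb E11832 (iv4 D38039))
theorem E11833 : n38037 = n34512 := ((c20_2 (iv4 F27484) D34512 F118184 (iv3 D36802) (iv1 F28853) F13182 (iv4 F11732) (iv1 F20981) F42172 D13077 (iv1 F117917))).symm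
theorem E11834 : n75407 = n18206 := ((D75407).symm.trans (sb E11833 (iv2 D38037)))
theorem E11835 : n75409 = n36802 := ((D75409).symm.trans (sb E11833 F118184))
theorem E11836 : n75412 = n18207 := ((D75412).symm.trans (sb E11833 (iv7 F58868)))
theorem E11837 : n38042 = n34513 := ((D38042).symm.trans (sb E11834 (iv7 F113162)))
theorem F118187 : act 4 n36802 = n34512 := (sb E11835 (iv4 D75409))
theorem F118188 : act 7 n18207 = n34512 := (sb E11836 (iv7 D75412))
theorem F118189 : act 2 n34513 = n18207 := (sb E11837 F58869)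
theorem F118190 : act 7 n34513 = n18206 := (sb E11837 (iv7 D38042))
theorem F118191 : act 7 n38038 = n75413 := d8_2 F118190 D38038 (iv3 D75413)
theorem E11838 : n75414 = n36932 := ((c11_3 F118190 (iv4 F118185) (iv7 F118047) (iv4 D75414))).symm
theorem F118192 : act 4 n36932 = n34513 := (sb E11838 (iv4 D75414))
theorem F118193 : act 7 n38040 = n75415 := d13_2 F118190 D38040 (iv5 D75415)
theorem F118194 : act 2 n38045 = n75415 := d2_3 (iv5 D75415) F118189 D38045
theorem F118195 : act 2 n38046 = n75416 := d3_3 (iv6 D75416) F118189 D38046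
theorem F118196 : act 7 n75408 = n38043 := d8_2 F118188 D75408 (iv3 D38043)
theorem F118197 : act 7 n75410 = n38045 := d13_2 F118188 D75410 (iv5 D38045)
theorem F118198 : act 2 n38040 = n75410 := d4_3 F118197 F118194 (iv7 F118193)
theorem F118199 : act 4 n37959 = n56414 := d20_0 (iv1 D56414) F43914 F21648 D17740 D36802 F118187 (iv1 F54750) F29376 (iv3 F29358) (iv1 F58785)
theorem F118200 : act 4 n36798 = n75391 := d20_2 (iv4 F28907) (iv1 F57708) (iv3 D75391) (iv1 D34507) F27478 (iv4 F27484) D34512 (iv4 F118187) (iv3 D36802) (iv1 F28853)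
theorem F118201 : act 2 n75391 = n36894 := d1_1 F118200 (iv4 D36894) (iv2 F117552)
theorem F118202 : act 7 n75391 = n36889 := d11_2 (iv7 F117553) F118200 (iv4 D36889)
theorem E11839 : n56419 = n37976 := (c20_1 D56419 (iv1 F116184) F116181 (iv3 F113124) (iv1 F113127) D75391 (iv4 F118200) (iv1 D36798) F28848 (iv3 F21648) D27159)
theorem F118203 : act 2 n37976 = n27174 := (sb E11839 F91523)
theorem F118204 : act 4 n37976 = n27159 := (sb E11839 (iv4 D56419))
theorem F118205 : act 7 n37976 = n27179 := (sb E11839 F91524)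
theorem E11840 : n56422 = n37977 := (c15_4 F116183 F116184 F118205 (iv2 F91516))
theorem F118206 : act 2 n37977 = n27179 := (sb E11840 F91516)
theorem F118207 : act 4 n37977 = n27160 := (sb E11840 (iv4 D56422))
theorem E11841 : n40003 = n37604 := (c20_5 D18075 (iv1 F117929) F54826 (iv3 F72428) (iv1 F72430) F58467 (iv4 F118207) (iv1 D37977) F29355 F13484 F117914)
theorem F118209 : act 0 n37604 = n18915 := (sb E11841 (iv1 D40003))
theorem F118210 : act 1 n37604 = n45870 := (sb E11841 F72430)
theorem F118211 : act 4 n40010 = n37981 := d20_8 (iv4 F116181) (iv1 F116183) F118207 (iv3 F58467) F118209 F30197 (iv4 F30203) D40010 (iv3 D37981) (iv1 F58791)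
theorem E11842 : n40002 = n37599 := ((c15_4 (iv0 D40002) (iv0 F118209) F91515 (iv2 F91567))).symm
theorem F118212 : act 0 n37599 = n45870 := (sb E11842 (iv1 F72431))
theorem F118213 : act 1 n37599 = n18915 := (sb E11842 (iv0 D40002))
theorem F118214 : act 4 n75376 = n56547 := d20_6 (iv4 F30203) D40010 F118211 (iv3 D37981) (iv1 F58791) (iv3 F113124) (iv1 F89427) (iv4 D37038) (iv3 F118032) (iv1 D18921)
theorem F118216 : act 6 n56547 = n36726 := d10_2 (iv6 F113125) F118214 F117818
theorem F118217 : act 7 n56547 = n36650 := d11_2 D75376 F118214 F57516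
theorem E11843 : n37987 = n27169 := (c20_1 D37987 (iv1 D27169) F21661 F9649 D6199 D13028 D27199 D56547 (iv4 F118214) F113124 (iv1 F58790))
theorem E11844 : n45063 = n18188 := (((iv4 F70934)).symm.trans (sb E11843 (iv4 D37987)))
theorem E11845 : n37986 = n21516 := ((D37986).symm.trans (sb E11844 (iv3 D45063)))
theorem F118218 : act 4 n18188 = n27169 := (sb E11844 F70934)
theorem E11846 : n37980 = n21587 := ((F58814).symm.trans (sb E11844 F116984))
theorem F118219 : act 3 n21516 = n18188 := (sb E11845 (iv3 D37986))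
theorem E11847 : n45252 = n18187 := ((D45252).symm.trans (sb E11846 (iv2 D37980)))
theorem F118220 : act 7 n21587 = n18188 := (sb E11846 (iv7 F58814))
theorem F118221 : act 2 n18187 = n21587 := (sb E11847 (iv2 D45252))
theorem E11848 : n37982 = n27168 := ((D37982).symm.trans (sb E11847 F117008))
theorem F118222 : act 4 n27168 = n18187 := (sb E11848 (iv4 D37982))
theorem F118223 : act 4 n37984 = n56447 := d10_3 (iv6 D56447) F118222 D37984
theorem E11849 : n37985 = n37959 := (c11_3 F117007 F118222 D37985 F118199)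
theorem F118224 : act 2 n37959 = n18188 := (sb E11849 F58815)
theorem F118225 : act 7 n37959 = n18187 := (sb E11849 (iv7 D37985))
theorem F118226 : act 0 n37981 = n56812 := d20_4 (iv4 F21661) D27168 F118222 D37981 (iv3 D56812) D56813 F89826 (iv4 D56486) (iv3 D27178) (iv1 D13018)
theorem E11850 : n45251 = n18179 := (c15_1 D45251 D37959 F118225 F118221)
theorem E11851 : n37958 = n21587 := ((D37958).symm.trans (sb E11850 (iv1 D45251)))
theorem E11852 : n37639 = n34502 := ((((iv3 F54732)).symm.trans (sb E11850 (iv3 F89463)))).symm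
theorem E11853 : n45250 = n18190 := ((D45250).symm.trans (sb E11851 (iv1 F58789)))
theorem F118227 : act 1 n21587 = n18179 := (sb E11851 (iv0 D37958))
theorem E11854 : n75374 = n18044 := ((D75374).symm.trans (sb E11852 (iv0 D37639)))
theorem E11855 : n37041 = n36650 := ((((iv4 F57516)).symm.trans (sb E11852 F89462))).symm
theorem F118228 : act 1 n18190 = n21587 := (sb E11853 (iv0 D45250))
theorem F118229 : act 0 n18044 = n34502 := (sb E11854 (iv1 D75374))
theorem E11856 : n37640 = n34509 := ((D37640).symm.trans (sb E11854 F113119))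
theorem F118230 : act 0 n36650 = n56544 := (sb E11855 (iv1 F89418))
theorem F118231 : act 1 n36650 = n17827 := (sb E11855 (iv0 D37041))
theorem F118232 : act 0 n34509 = n18044 := (sb E11856 (iv1 D37640))
theorem E11857 : n37624 = n37541 := (c20_8 F118185 (iv1 F54752) F54748 (iv3 F54740) F118232 (iv3 D18044) D18045 (iv1 F58480) F58437 F34441 D21970)
theorem F118233 : act 0 n37541 = n18040 := (sb E11857 (iv1 D37624))
theorem F118234 : act 1 n37541 = n18045 := (sb E11857 F58480)
theorem F118235 : act 7 n75373 = n37641 := d15_2 (iv0 F118232) F113126 (iv2 D37641)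
theorem F118236 : act 2 n37521 = n75373 := d4_3 F118235 (iv2 D37641) (iv7 F117466)
theorem F118237 : act 3 n75373 = n36889 := d0_2 D37521 F118236 F117554 (iv3 D18039) (iv2 F117464)
theorem E11858 : n75385 = n75373 := (c8_1 F113144 F118237 (iv7 F118202) (iv3 D75391))
theorem E11859 : n37521 = n34506 := (((iv2 F118236)).symm.trans (sb E11858 (iv2 D75385)))
theorem E11861 : n75386 = n18008 := ((D75386).symm.trans (sb E11859 (iv3 D37521)))
theorem E11862 : n76115 = n75389 := (((D75389).symm.trans (sb E11859 (iv6 F117452)))).symm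
theorem E11863 : n75390 = n18044 := ((D75390).symm.trans (sb E11859 F117466))
theorem F118240 : act 3 n18008 = n34506 := (sb E11861 (iv3 D75386))
theorem F118242 : act 5 n75389 = n58033 := (sb E11862 F117555)
theorem F118243 : act 2 n18044 = n34507 := (sb E11863 F113145)
theorem F118244 : act 7 n18044 = n34506 := (sb E11863 (iv7 D75390))
theorem F118245 : act 7 n75387 = n37642 := d11_2 F118244 D75387 (iv4 D37642)
theorem F118248 : act 2 n75392 = n37642 := d1_3 (iv4 D37642) F118243 D75392
theorem F118250 : act 2 n75394 = n37644 := d3_3 (iv6 D37644) F118243 D75394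
theorem F118251 : act 2 n39729 = n38726 := d2_3 F117624 F118250 (iv5 F117602)
theorem E11864 : n39165 = n38725 := ((c15_2 F59513 F59512 F117535 F118251)).symm
theorem F118253 : act 5 n38725 = n76101 := (sb E11864 (iv5 F117600))
theorem F118254 : act 6 n38725 = n18582 := (sb E11864 (iv6 D39165))
theorem F118255 : act 7 n38725 = n39729 := (sb E11864 F117535)
theorem F118256 : act 0 n58033 = n38246 := d21_7 (iv5 D17610) F13100 (iv5 F12364) D16739 D34506 D75389 F118242 (iv5 D38246) (iv6 D18271) (iv1 F28638)
theorem F118257 : act 0 n38272 = n58033 := d21_1 (iv5 F59144) (iv5 F118242) (iv6 D75389) (iv1 F113128) F113125 F58664 (iv1 F58666) D37839 (iv6 F59121) (iv1 F59126)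
theorem F118258 : act 0 n40001 = n37522 := d20_1 (iv4 F60872) (iv4 D37522) F118240 (iv1 F113128) F113124 (iv4 F116181) (iv1 F116183) F118207 (iv3 F58467) F118209
theorem F118259 : act 0 n37030 = n75387 := d20_1 D37030 (iv4 D75387) (iv3 F118240) (iv1 F29177) F13283 (iv4 F11682) (iv1 F41804) (iv4 D8403) D8402 D17824
theorem F118260 : act 1 n40001 = n37526 := d15_1 (iv0 F118258) F117460 (iv2 F117467)
theorem F118261 : act 7 n37623 = n40001 := d15_2 F118234 F58484 F60871
theorem E11865 : n45975 = n45233 := (c20_6 D18045 (iv1 F118234) F58437 F34441 D21970 D45975 (iv4 D45233) (iv1 F70931) F70928 F33843 (iv1 F29178))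
theorem F118262 : act 3 n45233 = n21970 := (sb E11865 (iv3 D45975))
theorem E11866 : n45233 = n36909 := ((c0_6 F118262 (iv2 F118171) (iv3 D36802) F118169 D17773 D36909)).symm
theorem F118263 : act 3 n36909 = n21970 := (sb E11866 F118262)
theorem F118264 : act 4 n36909 = n21582 := (sb E11866 (iv4 D45233))
theorem E11867 : n45231 = n36910 := (c1_2 F118264 D45231 (iv4 D36910) D36909)
theorem F118265 : act 2 n36910 = n21582 := (sb E11867 (iv2 D45231))
theorem F118266 : act 7 n36910 = n21583 := (sb E11867 (iv7 F71305))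
theorem F118267 : act 4 n45232 = n38038 := d5_2 F118264 D45232 (iv3 D38038) (iv4 F118185) (iv3 F118263)
theorem E11868 : n45236 = n45055 := (c15_4 F70924 (iv0 F57840) F118266 (iv2 F71306))
theorem F118268 : act 2 n45055 = n21583 := (sb E11868 F71306)
theorem F118269 : act 7 n45055 = n21582 := (sb E11868 (iv7 D45236))
theorem E11869 : n37735 = n37617 := ((c20_11 (iv4 F58596) (iv1 F57849) (iv4 D17779) D17778 F118019 (iv3 F34441) (iv4 F58437) F118233 (iv4 D18040) D18039 D37617)).symm
theorem F118270 : act 3 n37617 = n18095 := (sb E11869 (iv3 D37735))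
theorem F118271 : act 4 n37617 = n36914 := (sb E11869 (iv4 F58596))
theorem E11870 : n39729 = n38721 := ((c21_2 D18417 D38721 F117602 (iv6 D37644) F118229 (iv6 D34502) F27472 F13053 D8546 D18130 (iv1 F117226))).symm
theorem F118272 : act 2 n38721 = n38726 := (sb E11870 F118251)
theorem F118273 : act 3 n38721 = n18793 := (sb E11870 (iv3 D39729))
theorem F118274 : act 5 n38721 = n37644 := (sb E11870 F117602)
theorem F118275 : act 7 n38721 = n38725 := (sb E11870 (iv7 F118255))
theorem F118276 : act 6 n75395 = n37643 := d21_5 (iv5 D37678) (iv1 F29229) D18140 (iv6 F54739) D75395 (iv5 D37643) F118229 D75375 F113122 (iv1 F58527)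
theorem F118277 : act 3 n37529 = n75395 := d7_3 F118276 F58494 (iv6 F58409)
theorem F118279 : act 2 n38725 = n38722 := d15_3 F59507 F59506 F118275
theorem F118280 : act 7 n38726 = n38722 := d4_2 (iv7 F118275) F118272 (iv2 F118279)
theorem F118281 : act 6 n38722 = n39162 := d3_2 (iv6 F118254) F118279 (iv2 D39162)
theorem F118282 : act 4 n36908 = n45258 := d20_6 (iv4 F58813) (iv1 F118014) (iv4 D27179) D27178 D56483 F89860 (iv1 D45258) (iv4 D21588) D21587 (iv1 F118228)
theorem F118283 : act 3 n45274 = n37959 := d0_0 F118224 (iv3 F118219) (iv2 F116982) D21592 D45274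
theorem F118284 : act 7 n37981 = n45274 := d8_0 F118283 F118225 D37981
theorem F118285 : act 4 n46164 = n45274 := d20_2 (iv4 F60879) (iv1 F72823) F118283 (iv1 D37959) (iv3 F54732) (iv4 F57516) F118230 (iv4 D56544) F43966 (iv1 F118053)
theorem E11871 : n46207 = n18209 := (c20_2 D22109 D46207 F29376 (iv3 F29358) (iv1 F58785) (iv3 F118283) (iv4 F118285) (iv1 D46164) F34565 F16728 D10536)
theorem E11872 : n34513 = n22114 := (((iv1 F54745)).symm.trans (sb E11871 (iv1 F72874)))
theorem E11873 : n34512 = n22109 := ((F54750).symm.trans (sb E11871 (iv0 D46207)))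
theorem E11874 : n46208 = n16742 := (((iv1 F72870)).symm.trans (sb E11872 (iv1 D34513)))
theorem F118286 : act 1 n22114 = n18209 := (sb E11872 F54745)
theorem E11875 : n46212 = n18207 := (((iv2 F72872)).symm.trans (sb E11872 F118189))
theorem E11876 : n75413 = n46228 := (((D46228).symm.trans (sb E11872 D75413))).symm
theorem E11877 : n36932 = n10537 := ((((iv4 D22114)).symm.trans (sb E11872 (iv4 F118192)))).symm
theorem E11878 : n75415 = n46229 := (((D46229).symm.trans (sb E11872 D75415))).symm
theorem E11879 : n75416 = n46230 := (((D46230).symm.trans (sb E11872 D75416))).symm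
theorem E11880 : n46197 = n18206 := (((iv7 F72863)).symm.trans (sb E11872 F118190))
theorem F118287 : act 0 n22109 = n18209 := (sb E11873 (iv1 F54750))
theorem E11881 : n75408 = n46209 := (((D46209).symm.trans (sb E11873 D75408))).symm
theorem E11882 : n36802 = n10536 := ((((iv4 D22109)).symm.trans (sb E11873 (iv4 F118187)))).symm
theorem E11883 : n75410 = n46210 := (((D46210).symm.trans (sb E11873 D75410))).symm
theorem F118288 : act 0 n16742 = n22109 := (sb E11874 (iv1 D46208))
theorem F118289 : act 1 n16742 = n22114 := (sb E11874 F72870)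
theorem E11885 : n22112 = n17778 := ((((iv4 F118012)).symm.trans (sb E11875 F72873))).symm
theorem F118292 : act 7 n46228 = n38038 := (sb E11876 (iv7 F118191))
theorem E11886 : n22107 = n21970 := ((F34585).symm.trans (sb E11877 F118047))
theorem F118293 : act 2 n46229 = n38045 := (sb E11878 (iv2 F118194))
theorem F118294 : act 7 n46229 = n38040 := (sb E11878 (iv7 F118193))
theorem F118295 : act 2 n46230 = n38046 := (sb E11879 (iv2 F118195))
theorem F118296 : act 2 n18206 = n22109 := (sb E11880 F72862)
theorem F118298 : act 7 n46209 = n38043 := (sb E11881 F118196)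
theorem E11887 : n22108 = n17740 := ((D22108).symm.trans (sb E11882 (iv3 D36802)))
theorem F118299 : act 2 n46210 = n38040 := (sb E11883 (iv2 F118198))
theorem F118300 : act 7 n46210 = n38045 := (sb E11883 F118197)
theorem E11891 : n46217 = n36934 := (((D36934).symm.trans (sb E11885 (iv5 F72878)))).symm
theorem E11892 : n46221 = n36935 := (((D36935).symm.trans (sb E11885 D46221))).symm
theorem E11893 : n46196 = n36909 := ((((iv3 F118263)).symm.trans (sb E11886 D46196))).symm
theorem E11894 : n46198 = n45977 := (((D45977).symm.trans (sb E11886 D46198))).symm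
theorem E11895 : n46199 = n45978 := (((D45978).symm.trans (sb E11886 D46199))).symm
theorem F118305 : act 3 n17740 = n10536 := (sb E11887 (iv3 D22108))
theorem E11901 : n46205 = n36805 := (((D36805).symm.trans (sb E11887 D46205))).symm
theorem F118306 : act 2 n36934 = n22115 := (sb E11891 F72877)
theorem F118307 : act 7 n36934 = n22110 := (sb E11891 (iv7 D46217))
theorem F118308 : act 2 n36935 = n22116 := (sb E11892 F72881)
theorem F118309 : act 7 n36909 = n22113 := (sb E11893 F72861)
theorem F118310 : act 2 n45977 = n22110 := (sb E11894 F72864)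
theorem F118311 : act 7 n45977 = n22115 := (sb E11894 F72865)
theorem F118312 : act 2 n45978 = n22111 := (sb E11895 F72866)
theorem F118314 : act 3 n36805 = n22111 := (sb E11901 F72868)
theorem F118315 : act 0 n45274 = n37730 := d20_10 F58594 (iv1 D36997) (iv4 D17805) (iv3 D8397) (iv1 F9661) (iv3 F21664) (iv4 F43932) (iv1 F89276) (iv4 F118199) (iv3 F118283)
theorem E11902 : n55768 = n41392 := ((c6_3 (iv5 F57717) F118314 F63823 (iv3 D55768))).symm
theorem F118316 : act 3 n41392 = n26914 := (sb E11902 (iv3 D55768))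
theorem E11903 : n46224 = n36807 := (c4_2 F118309 D46224 F118164 D36909)
theorem F118317 : act 2 n36807 = n22113 := (sb E11903 (iv2 D46224))
theorem E11904 : n46225 = n45055 := (c11_2 F118309 D46225 F118269 (iv4 F118264))
theorem F118318 : act 4 n45055 = n22113 := (sb E11904 (iv4 D46225))
theorem E11905 : n46222 = n36908 := ((c15_1 D36908 (iv0 D46222) (iv7 F118309) (iv2 D36909))).symm
theorem F118319 : act 1 n36908 = n22113 := (sb E11905 (iv0 D46222))
theorem F118320 : act 4 n46163 = n45059 := d20_8 (iv4 F33983) (iv1 F70924) F118318 (iv3 D22113) (iv1 D10537) (iv3 F16728) (iv4 F34565) D46163 (iv3 D45059) (iv1 F33845)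
theorem F118321 : act 7 n40011 = n46163 := d11_0 F118320 F116976 (iv4 F118069)
theorem F118322 : act 4 n45872 = n37517 := d20_0 (iv1 D37517) F29172 (iv3 F16266) D21515 D45059 (iv4 F118320) (iv1 F72828) F60879 (iv3 F60875) (iv1 F72433)
theorem F118323 : act 2 n37604 = n45872 := d1_3 F118322 F91565 D37604
theorem F118324 : act 7 n37599 = n45872 := d11_0 F118322 F91566 D37599
theorem F118325 : act 3 n45872 = n56485 := d0_2 (iv3 F58467) F118323 (iv2 D56485) (iv3 D27178) F91514
theorem F118326 : act 0 n56485 = n37029 := d20_4 (iv4 F29205) (iv1 F58399) (iv4 F118322) F118325 (iv3 D37029) D37030 F118259 (iv4 D75387) (iv3 F118240) (iv1 F29177)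
theorem F118327 : act 2 n46163 = n40010 := d15_3 (iv0 D40010) D40011 F118321
theorem F118328 : act 2 n40011 = n46164 := d15_3 F72823 F72828 (iv7 F118321)
theorem F118330 : act 2 n37981 = n45059 := d1_3 (iv4 F118320) F118327 F118211
theorem F118331 : act 1 n45059 = n37730 := d15_0 (iv0 F118315) (iv7 F118284) F118330
theorem F118332 : act 1 n37981 = n45272 := d15_0 (iv0 D45272) (iv7 F116976) (iv2 F118330)
theorem F118333 : act 4 n36915 = n37618 := d20_2 D17779 (iv1 F57845) (iv3 F89478) (iv1 F118332) (iv3 D37981) (iv4 F118222) (iv1 F89282) F89279 F43920 (iv1 F28854)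
theorem E11906 : n37034 = n36907 := ((c20_11 (iv4 F71321) (iv1 F71326) (iv4 D21593) D21592 D45272 F89478 (iv4 F118333) (iv1 D36915) (iv4 D17774) D17773 D36907)).symm
theorem F118334 : act 3 n36907 = n17825 := (sb E11906 (iv3 D37034))
theorem E11907 : n46223 = n36907 := (c15_1 D46223 (iv0 D36907) (iv7 F118164) F118317)
theorem F118336 : act 0 n36907 = n22113 := (sb E11907 (iv1 D46223))
theorem F118337 : act 0 n75387 = n37035 := d20_1 D75387 (iv4 D37035) (iv3 F118334) F118336 (iv3 D22113) D22114 (iv1 F118289) F27484 (iv3 F27478) D34506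
theorem F118338 : act 1 n75392 = n37035 := d15_0 (iv0 F118337) F118245 (iv2 F118248)
theorem F118339 : act 0 n75391 = n37618 := d20_4 D37035 (iv1 F118338) (iv4 D75392) D75391 (iv3 F89478) F89477 (iv1 F89476) (iv4 D36993) (iv3 F43966) (iv1 F43970)
theorem F118340 : act 4 n38046 = n36935 := d1_0 F118308 (iv4 F72884) F118295
theorem F118341 : act 1 n36935 = n75664 := d18_8 F59758 (iv4 F29329) (iv1 F72463) (iv4 D34494) D34495 D75358 F113108 F118340 (iv5 D75664)
theorem F118342 : act 1 n75664 = n46234 := d15_1 F118341 (iv7 D46234) (iv2 F118308)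
theorem F118343 : act 1 n75645 = n36935 := d15_0 F118341 F114018 (iv2 F114011)
theorem F118344 : act 1 n46234 = n75645 := d15_1 F118342 (iv7 F114009) F114012
theorem F118345 : act 5 n46234 = n41435 := d21_2 D75645 (iv1 F118344) (iv6 D41435) (iv1 D19513) (iv6 D9186) (iv5 D4140) (iv1 F6042) F13369 D17754 (iv1 F59747)
theorem F118346 : act 7 n41435 = n46233 := d13_2 D46234 F118345 (iv5 D46233)
theorem F118347 : act 1 n41435 = n38648 := d17_8 (iv1 F59660) (iv5 F113494) (iv1 F113515) (iv5 D34598) D34597 D75664 F118342 F118345 F59460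
theorem F118348 : act 1 n40176 = n41435 := d15_0 F118347 F61167 (iv2 F61173)
theorem F118349 : act 4 n38757 = n41435 := d18_7 (iv1 F59779) F32909 (iv1 F59686) (iv4 D8667) D8668 D18428 D38757 F118347 (iv5 F59477)
theorem F118350 : act 6 n41433 = n38757 := d10_0 F118349 (iv6 D41435) D41433
theorem F118351 : act 7 n38747 = n38757 := d11_0 F118349 F118346 F72886
theorem F118352 : act 2 n38757 = n38427 := d15_3 F113578 D38747 F118351
theorem F118353 : act 2 n38747 = n38756 := d15_3 (iv0 D38756) D38757 (iv7 F118351)
theorem F118354 : act 7 n38756 = n38427 := d4_2 (iv7 F118351) F118353 (iv2 F118352)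
theorem E11908 : n41433 = n38423 := ((c3_4 F118350 F118352 (iv6 D38427) (iv2 F59278))).symm
theorem F118355 : act 4 n38423 = n19513 := (sb E11908 (iv4 D41433))
theorem F118356 : act 6 n38423 = n38757 := (sb E11908 F118350)
theorem E11909 : n41431 = n17494 := (c1_2 F118355 (iv2 F63879) F118051 (iv2 F59278))
theorem E11910 : n36210 = n19513 := ((D36210).symm.trans (sb E11909 F63879))
theorem E11911 : n36070 = n19512 := (((iv7 F118147)).symm.trans (sb E11909 (iv7 D41431)))
theorem F118357 : act 2 n19513 = n17494 := (sb E11910 (iv2 D36210))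
theorem E11912 : n41426 = n41395 := ((F63878).symm.trans (sb E11910 (iv7 F118125)))
theorem E11913 : n41427 = n17453 := ((D41427).symm.trans (sb E11911 (iv3 D36070)))
theorem F118358 : act 7 n19512 = n17494 := (sb E11911 F118147)
theorem F118359 : act 2 n41395 = n19512 := (sb E11912 (iv2 D41426))
theorem F118360 : act 7 n41395 = n19513 := (sb E11912 (iv7 F63878))
theorem F118361 : act 3 n17453 = n19512 := (sb E11913 (iv3 D41427))
theorem E11914 : n41395 = n38420 := (c11_3 D38423 F118355 (iv7 F118360) (iv4 D38420))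
theorem F118362 : act 0 n38420 = n19515 := (sb E11914 (iv1 F63830))
theorem F118363 : act 1 n38420 = n19497 := (sb E11914 (iv0 D41395))
theorem F118364 : act 2 n38420 = n19512 := (sb E11914 F118359)
theorem F118365 : act 3 n38420 = n36187 := (sb E11914 F118127)
theorem F118366 : act 6 n38420 = n46242 := (sb E11914 F72892)
theorem F118367 : act 7 n38420 = n19513 := (sb E11914 F118360)
theorem F118368 : act 7 n41432 = n36187 := d8_2 F118367 D41432 (iv3 F118365)
theorem F118369 : act 2 n36075 = n41432 := d4_3 F118368 (iv2 D36187) (iv7 F118136)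
theorem F118370 : act 4 n58107 = n41432 := d11_3 F118368 F118128 (iv7 F118154)
theorem F118371 : act 1 n36186 = n41432 := d15_1 D36186 F118368 (iv2 D36187)
theorem E11915 : n38423 = n38160 := ((c20_2 (iv4 F29522) (iv1 F59013) F118355 D41432 (iv1 F118371) (iv3 F92024) F92023 (iv1 F91987) (iv4 D58201) F117992 (iv1 F29437))).symm
theorem F118372 : act 2 n38160 = n18325 := (sb E11915 F59278)
theorem F118373 : act 4 n38160 = n19513 := (sb E11915 F118355)
theorem F118374 : act 6 n38160 = n38757 := (sb E11915 F118356)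
theorem F118375 : act 7 n38160 = n18324 := (sb E11915 (iv7 D38423))
theorem E11916 : n38418 = n38159 := (c15_4 (iv0 D38159) D38160 F118375 D38418)
theorem F118376 : act 2 n38159 = n18324 := (sb E11916 (iv2 D38418))
theorem F118377 : act 7 n38159 = n18325 := (sb E11916 (iv7 F59277))
theorem E11917 : n41428 = n38159 := (c11_4 F118377 (iv4 F118051) (iv7 F118358) D41428)
theorem F118378 : act 4 n38159 = n19512 := (sb E11917 (iv4 D41428))
theorem F118379 : act 4 n38374 = n56014 := d20_0 (iv1 D56014) F43666 F21525 D17453 F118361 (iv4 F118378) (iv1 F59018) F29522 (iv3 F29517) (iv1 F59236)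
theorem F118380 : act 2 n56085 = n38374 := d1_3 F118379 F117014 D56085
theorem F118381 : act 7 n56080 = n38374 := d11_0 F118379 F117015 D56080
theorem E11918 : n58144 = n18310 := (c15_1 D58144 D38374 (iv7 F118381) F117016)
theorem E11919 : n38373 = n27714 := ((D38373).symm.trans (sb E11918 (iv1 D58144)))
theorem E11920 : n39160 = n35171 := ((((iv3 F55918)).symm.trans (sb E11918 (iv3 F91947)))).symm
theorem E11921 : n58143 = n18317 := ((D58143).symm.trans (sb E11919 (iv1 F59240)))
theorem F118382 : act 1 n27714 = n18310 := (sb E11919 (iv0 D38373))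
theorem E11922 : n76991 = n18582 := ((D76991).symm.trans (sb E11920 (iv0 D39160)))
theorem E11923 : n36355 = n35606 := ((((iv4 F56285)).symm.trans (sb E11920 F88918))).symm
theorem F118383 : act 1 n18317 = n27714 := (sb E11921 (iv0 D58143))
theorem F118384 : act 0 n18582 = n35171 := (sb E11922 (iv1 D76991))
theorem E11924 : n39161 = n38156 := ((D39161).symm.trans (sb E11922 F115726))
theorem F118385 : act 0 n35606 = n56190 := (sb E11923 (iv1 F88867))
theorem F118386 : act 1 n35606 = n17555 := (sb E11923 (iv0 D36355))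
theorem F118387 : act 0 n38156 = n18582 := (sb E11924 (iv1 D39161))
theorem F118388 : act 7 n76990 = n39162 := d15_2 (iv0 F118387) F115733 (iv2 D39162)
theorem F118389 : act 2 n39092 = n76990 := d4_3 F118388 (iv2 D39162) (iv7 F117490)
theorem F118390 : act 3 n76990 = n36167 := d0_2 D39092 F118389 F117546 (iv3 D18577) (iv2 F117486)
theorem E11925 : n56105 = n38372 := (c20_2 D27057 (iv1 F88769) F59235 (iv3 F55918) D76990 F118390 (iv4 D36167) (iv1 F56808) F56804 (iv3 F43672) (iv1 F43675))
theorem F118391 : act 0 n38372 = n27052 := (sb E11925 (iv1 D56105))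
theorem F118392 : act 1 n38372 = n27057 := (sb E11925 F88769)
theorem E11926 : n56098 = n40093 := (c20_11 F118086 (iv1 F60150) (iv4 D18583) D18582 F118384 F55918 (iv4 F59235) F118391 (iv4 D27052) D27051 D56098)
theorem F118393 : act 1 n40093 = n27051 := (sb E11926 (iv0 D56098))
theorem F118394 : act 7 n36356 = n38152 := d15_2 F118386 D36356 F59003
theorem F118396 : act 2 n36356 = n56193 := d15_3 (iv0 D56193) (iv0 F117998) (iv7 F118394)
theorem F118397 : act 4 n56193 = n76993 := d1_2 F117994 F118396 F115730
theorem F118398 : act 7 n56193 = n35606 := d4_2 (iv7 F118394) F118396 (iv2 F59003)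
theorem E11927 : n38394 = n27047 := (c20_1 D38394 (iv1 D27047) F21556 F9576 D6161 D12972 D27080 D56193 F118397 F115731 (iv1 F59241))
theorem E11928 : n56085 = n18315 := ((D56085).symm.trans (sb E11927 (iv4 D38394)))
theorem E11929 : n38392 = n38374 := (((iv2 F59249)).symm.trans (sb E11928 F118380))
theorem E11930 : n38393 = n27705 := ((D38393).symm.trans (sb E11928 F88756))
theorem F118399 : act 4 n18315 = n27047 := (sb E11928 (iv4 D56085))
theorem E11931 : n39575 = n38396 := (((D38396).symm.trans (sb E11928 F117024))).symm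
theorem E11932 : n38387 = n27714 := ((F59248).symm.trans (sb E11928 F116951))
theorem F118400 : act 2 n38374 = n18315 := (sb E11929 F59249)
theorem E11933 : n56080 = n18314 := (((iv7 F118381)).symm.trans (sb E11929 (iv7 D38392)))
theorem F118401 : act 3 n27705 = n18315 := (sb E11930 (iv3 D38393))
theorem F118402 : act 1 n38396 = n38773 := (sb E11931 F117029)
theorem F118403 : act 3 n38396 = n18738 := (sb E11931 (iv3 D39575))
theorem F118404 : act 4 n38396 = n56087 := (sb E11931 F117027)
theorem F118405 : act 5 n38396 = n76000 := (sb E11931 (iv5 F113904))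
theorem F118406 : act 7 n38396 = n39558 := (sb E11931 (iv7 F117017))
theorem F118407 : act 7 n27714 = n18315 := (sb E11932 (iv7 F59248))
theorem F118408 : act 2 n18314 = n27714 := (sb E11933 F117016)
theorem E11934 : n38389 = n27046 := ((D38389).symm.trans (sb E11933 (iv4 D56080)))
theorem F118409 : act 7 n18314 = n38374 := (sb E11933 F118381)
theorem F118410 : act 4 n27046 = n18314 := (sb E11934 (iv4 D38389))
theorem F118411 : act 4 n40099 = n38388 := d20_2 (iv4 F30262) D40099 (iv3 D38388) (iv1 F59242) (iv3 F115731) (iv4 F118397) (iv1 F88876) (iv4 D36352) F118106 (iv1 D18952)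
theorem F118412 : act 0 n40099 = n36297 := d20_7 F118051 (iv1 D18325) F13546 (iv3 F13544) D18314 D38388 (iv4 F118411) (iv4 D36297) (iv3 F118114) F118123
theorem F118413 : act 2 n40102 = n36297 := d15_3 (iv0 F118412) (iv0 D40099) D40102
theorem F118414 : act 7 n36297 = n40038 := d4_2 D40102 F118413 F60910
theorem F118415 : act 6 n40072 = n36297 := d14_5 F118414 (iv6 D40038) F30218 D18940 D40072
theorem E11935 : n58167 = n40100 := ((c15_1 D40100 (iv0 F91967) F118414 F60910)).symm
theorem F118416 : act 1 n40100 = n36297 := (sb E11935 (iv0 F91967))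
theorem F118417 : act 4 n40100 = n27719 := (sb E11935 (iv4 D58167))
theorem E11936 : n40090 = n39121 := (c20_11 (iv4 D39121) (iv1 F60099) F60097 (iv3 F44717) (iv1 F44720) D27719 (iv4 F118417) (iv1 D40100) F30262 (iv3 F30259) D40090)
theorem F118418 : act 1 n39121 = n18947 := (sb E11936 (iv0 D40090))
theorem E11937 : n40091 = n39126 := (c15_2 F118418 D40091 F91536 (iv2 F91562))
theorem F118419 : act 0 n39126 = n18947 := (sb E11937 (iv1 D40091))
theorem F118420 : act 4 n38391 = n56082 := d10_3 (iv6 D56082) F118410 D38391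
theorem F118421 : act 0 n38388 = n58192 := d20_4 (iv4 F21556) D27046 F118410 D38388 (iv3 D58192) D58193 F91982 (iv4 D56123) (iv3 D27056) (iv1 D12962)
theorem F118422 : act 2 n58111 = n38388 := d0_5 (iv3 D38388) F118408 (iv3 D27714) (iv2 F116957) D58111
theorem F118423 : act 2 n58146 = n38390 := d2_3 (iv5 D38390) F118408 D58146
theorem F118424 : act 2 n58147 = n38391 := d3_3 (iv6 D38391) F118408 D58147
theorem F118425 : act 7 n38388 = n58166 := d4_2 (iv7 F116959) F118422 (iv2 D58166)
theorem F118426 : act 1 n38388 = n58164 := d15_0 (iv0 D58164) (iv7 F116959) F118422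
theorem F118427 : act 4 n36193 = n39140 := d20_2 D17495 (iv1 F56913) (iv3 F91966) (iv1 F118426) (iv3 D38388) (iv4 F118410) (iv1 F88674) F88671 F43672 (iv1 F28449)
theorem E11938 : n36348 = n36185 := ((c20_11 (iv4 F91951) (iv1 F91956) (iv4 D27720) D27719 D58164 F91966 (iv4 F118427) (iv1 D36193) (iv4 D17490) D17489 D36185)).symm
theorem F118428 : act 3 n36185 = n17553 := (sb E11938 (iv3 D36348))
theorem F118429 : act 4 n36185 = n58149 := (sb E11938 (iv4 F91951))
theorem F118430 : act 3 n58166 = n38374 := d8_1 F118425 (iv7 F118409) D38388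
theorem E11939 : n58192 = n58165 := ((c15_1 D58165 (iv0 F118421) F118425 (iv2 D58166))).symm
theorem F118431 : act 1 n58165 = n38388 := (sb E11939 (iv0 F118421))
theorem F118432 : act 3 n58165 = n27727 := (sb E11939 (iv3 D58192))
theorem F118433 : act 4 n58165 = n56225 := (sb E11939 F91981)
theorem F118434 : act 0 n58166 = n39222 := d20_10 F60194 (iv1 D36309) (iv4 D17533) (iv3 D8243) (iv1 F9588) (iv3 F21559) (iv4 F43710) (iv1 F88668) (iv4 F118379) (iv3 F118430)
theorem F118435 : act 1 n58111 = n39222 := d15_0 (iv0 F118434) (iv7 F118425) (iv2 F118422)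
theorem F118436 : act 7 n38395 = n58146 := d13_2 F118407 D38395 (iv5 D58146)
theorem F118437 : act 3 n38988 = n38395 := d8_3 F118436 F91948 (iv7 F116955)
theorem F118438 : act 6 n38395 = n38985 := d7_2 D38988 F118437 (iv3 D38985)
theorem E11940 : n76101 = n75705 := ((c21_2 D34618 D75705 (iv5 F118253) F118254 F118384 (iv6 D35171) (iv5 D17075) (iv1 F12769) D16714 D34461 (iv1 F117277))).symm
theorem F118440 : act 5 n75705 = n38725 := (sb E11940 (iv5 F118253))
theorem F118441 : act 7 n75705 = n37644 := (sb E11940 (iv7 F117506))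
theorem F118442 : act 6 n38269 = n39164 := d21_5 (iv5 D34463) (iv1 D16717) D16718 (iv6 F29476) D38269 (iv5 D39164) F118384 D76992 F115729 F55922
theorem F118443 : act 3 n39170 = n38269 := d7_3 F118442 F60156 D39170
theorem F118444 : act 7 n38269 = n58033 := d8_2 (iv7 F117478) F118443 (iv3 D58033)
theorem F118445 : act 4 n36186 = n58150 := d20_0 (iv1 D58150) (iv4 D27715) D27714 (iv1 F118383) F29517 (iv4 F29522) (iv1 F59013) F118373 D41432 (iv1 F118371)
theorem F118446 : act 5 n58147 = n37991 := d21_6 F13478 (iv1 F12348) (iv5 F13542) D18310 (iv1 F118382) D58147 (iv1 D37991) (iv5 D18189) (iv6 D8577) D8575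
theorem F118447 : act 3 n37991 = n45068 := d6_1 F118446 (iv5 F70938) (iv3 F91949)
theorem F118448 : act 7 n45286 = n37991 := d8_0 F118447 F117010 D45286
theorem F118450 : act 2 n45286 = n37990 := d15_3 (iv0 D37990) D37991 (iv7 F118448)
theorem F118451 : act 1 n41432 = n36185 := d15_0 (iv0 D36185) (iv7 F118136) F118369
theorem F118452 : act 2 n46242 = n41430 := d3_1 F118366 (iv6 D41430) (iv2 F118364)
theorem F118453 : act 4 n46242 = n38422 := d10_1 F118366 (iv6 D38422) D38420
theorem E11941 : n46239 = n45985 := ((c2_3 D46242 F118452 F72557 F72891)).symm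
theorem F118454 : act 2 n45985 = n22118 := (sb E11941 F72891)
theorem F118455 : act 7 n45985 = n22117 := (sb E11941 (iv7 D46239))
theorem F118456 : act 7 n46238 = n41430 := d13_2 F118455 D46238 F72557
theorem E11942 : n46235 = n45984 := (c15_4 (iv0 D45984) D45985 F118455 D46235)
theorem F118457 : act 2 n45984 = n22117 := (sb E11942 (iv2 D46235))
theorem F118458 : act 7 n45984 = n22118 := (sb E11942 (iv7 F72890))
theorem F118459 : act 4 n58125 = n38419 := d5_4 D38420 F118365 F118128 D58125 (iv3 D38419)
theorem F118460 : act 3 n41429 = n36072 := d6_3 (iv5 D36072) F118361 D41429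
theorem F118461 : act 3 n41430 = n36073 := d7_3 (iv6 D36073) F118361 D41430
theorem E11943 : n45985 = n36948 := ((c6_4 (iv5 F72557) F118461 F56810 D36948)).symm
theorem F118462 : act 0 n36948 = n21972 := (sb E11943 (iv1 D45985))
theorem F118463 : act 1 n36948 = n22120 := (sb E11943 F72556)
theorem F118464 : act 2 n36948 = n22118 := (sb E11943 F118454)
theorem F118465 : act 5 n36948 = n41430 := (sb E11943 (iv5 F72557))
theorem F118466 : act 7 n36948 = n22117 := (sb E11943 F118455)
theorem E11944 : n46236 = n36811 := (c8_2 F118466 D46236 F118160 D36948)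
theorem F118467 : act 3 n36811 = n22117 := (sb E11944 (iv3 D46236))
theorem E11945 : n75450 = n46237 := (c20_2 D34528 D75450 (iv4 D46237) (iv3 F118467) (iv1 F57727) F28911 (iv4 F29000) (iv1 F44016) F44018 D27300 (iv1 F118021))
theorem F118468 : act 0 n46237 = n38104 := (sb E11945 (iv1 F113234))
theorem F118470 : act 4 n38101 = n36948 := d18_7 F118046 F118012 (iv1 D18207) F13499 D8591 D18222 D38101 F118463 F34588
theorem F118471 : act 2 n46241 = n38101 := d1_3 F118470 F118464 D46241
theorem F118472 : act 7 n46237 = n38101 := d11_0 F118470 F118466 D46237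
theorem E11946 : n75451 = n46241 := ((c15_4 F113228 (iv0 F118468) F118472 (iv2 F118471))).symm
theorem F118474 : act 1 n46241 = n38104 := (sb E11946 F113228)
theorem F118475 : act 2 n46237 = n38100 := d15_3 (iv0 D38100) D38101 (iv7 F118472)
theorem F118476 : act 4 n38100 = n45984 := d1_2 D46237 F118475 F118457
theorem F118479 : act 7 n36212 = n41429 := d8_0 F118460 F118151 (iv3 F56926)
theorem F118480 : act 2 n36212 = n41434 := d2_3 (iv5 D41434) F118357 D36212
theorem F118481 : act 2 n36213 = n41435 := d3_3 (iv6 D41435) F118357 D36213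
theorem F118482 : act 4 n38427 = n36213 := d1_0 F118481 (iv4 F118349) F118352
theorem F118483 : act 1 n36213 = n38666 := d15_0 F72887 (iv7 F118346) (iv2 F118481)
theorem F118484 : act 1 n38647 = n36213 := d15_0 F118483 F61174 F61173
theorem F118485 : act 2 n46211 = n38041 := d3_3 (iv6 D38041) F118296 D46211
theorem F118486 : act 4 n38041 = n45978 := d1_2 (iv4 F72871) F118485 F118312
theorem F118487 : act 7 n75730 = n38046 := d15_2 (iv0 F72889) F113589 (iv2 F118295)
theorem E11947 : n56812 = n45273 := ((c15_1 D45273 (iv0 F118226) F118284 (iv2 D45274))).symm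
theorem F118488 : act 1 n45273 = n37981 := (sb E11947 (iv0 F118226))
theorem F118489 : act 3 n45273 = n27283 := (sb E11947 (iv3 D56812))
theorem F118490 : act 4 n45273 = n56578 := (sb E11947 F89825)
theorem F118491 : act 2 n45255 = n37984 := d1_3 F118223 F117135 (iv4 F117136)
theorem F118492 : act 2 n45254 = n37983 := d2_3 (iv5 D37983) F118221 D45254
theorem F118493 : act 7 n37988 = n45254 := d13_2 F118220 D37988 (iv5 D45254)
theorem F118494 : act 3 n45065 = n37988 := d8_3 F118493 F71318 (iv7 F116988)
theorem F118495 : act 6 n37988 = n45286 := d7_2 F70935 F118494 (iv3 D45286)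
theorem F118496 : act 0 n37960 = n45286 := d21_4 (iv5 D17786) F17600 D18180 (iv6 F58787) (iv6 F118495) (iv5 D37988) (iv1 D18188) D18189 F29357 (iv1 F28915)
theorem F118497 : act 3 n37989 = n39560 := d7_3 F116989 F118219 D37989
theorem F118498 : act 5 n39558 = n37989 := d6_0 F118497 (iv5 D39560) D39558
theorem F118499 : act 7 n76000 = n37989 := d8_0 F118497 F116945 D76000
theorem F118500 : act 4 n56451 = n37989 := d10_3 (iv6 D37989) F118218 D56451
theorem F118501 : act 0 n56451 = n77329 := d20_7 D36378 F57133 (iv4 D26845) (iv3 F43229) (iv1 F113879) (iv3 F118497) (iv4 F118500) (iv4 D77329) F56014 F28553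
theorem F118502 : act 0 n75741 = n37989 := d18_0 (iv4 F118500) F118501 (iv4 D77329) (iv5 D35298) D35297 F116609 F43931 (iv0 F116618) D75741
theorem F118503 : act 1 n75391 = n37617 := d15_0 (iv0 D37617) (iv7 F117458) (iv2 F118201)
theorem F118504 : act 1 n36077 = n56204 := d15_0 (iv0 F88892) F118151 (iv2 F118140)
theorem E11948 : n40278 = n36078 := ((c21_10 (iv5 D36104) (iv1 F59691) F59694 F28890 F59736 D36711 (iv5 F88889) (iv1 F118504) (iv5 D36077) D36078 (iv1 F61295))).symm
theorem F118505 : act 0 n36078 = n36104 := (sb E11948 (iv1 F61295))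
theorem F118506 : act 1 n36078 = n19034 := (sb E11948 (iv0 D40278))
theorem E11949 : n36941 = n36222 := (c15_2 F118506 F59718 (iv7 D36222) (iv2 F118142))
theorem F118507 : act 0 n36222 = n19034 := (sb E11949 (iv1 F59718))
theorem F118508 : act 1 n36222 = n36104 := (sb E11949 (iv0 F57862))
theorem F118509 : act 5 n36222 = n17781 := (sb E11949 (iv5 D36941))
theorem E11950 : n36942 = n36221 := (c13_3 D36222 F118509 D36942 (iv5 D36221))
theorem F118510 : act 7 n36221 = n17781 := (sb E11950 (iv7 D36942))
theorem E11951 : n77222 = n36810 := ((c15_4 (iv0 D77222) F59810 F118510 (iv2 F118167))).symm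
theorem F118512 : act 1 n36810 = n35250 := (sb E11951 (iv0 D77222))
theorem F118513 : act 0 n36231 = n36711 := d21_10 (iv5 F88889) (iv1 F118504) (iv5 D36077) D36078 F118505 (iv6 F89108) F89106 (iv1 F89044) (iv5 D56289) (iv6 F56934)
theorem F118514 : act 0 n58246 = n47670 := d18_2 (iv1 F117706) D58246 F74946 F36005 F31218 F118120 (iv4 D27741) (iv0 F117933) (iv5 F29528)
theorem F118515 : act 7 n36298 = n40041 := d13_2 F118116 D36298 (iv5 D40041)
theorem F118516 : act 2 n40116 = n36298 := d4_3 F118515 F60914 D40116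
theorem F118517 : act 3 n41439 = n36298 := d8_3 F118515 F60915 D41439
theorem F118518 : act 1 n40114 = n36298 := d15_1 D40114 F118515 F60914
theorem F118519 : act 1 n36298 = n40113 := d15_0 (iv0 D40113) D40116 F118516
theorem E11952 : n55860 = n40086 := ((c21_7 (iv5 F60883) (iv1 F118092) F44006 (iv6 D17535) D17530 (iv6 F118115) (iv5 F60979) (iv1 F88357) F57915 (iv6 D36995) (iv1 F118053))).symm
theorem F118520 : act 0 n40086 = n35727 := (sb E11952 (iv1 F88357))
theorem F118521 : act 1 n40086 = n26948 := (sb E11952 (iv0 D55860))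
theorem E11953 : n77320 = n37007 := (c21_11 F57922 (iv1 F118521) F60979 F118115 F118102 D40112 (iv5 F116106) (iv1 F116107) (iv5 D35292) D35293 D77320)
theorem F118522 : act 1 n37007 = n35293 := (sb E11953 (iv0 D77320))
theorem E11954 : n55861 = n36418 := ((c15_4 F88361 (iv0 F118520) (iv7 D40086) (iv2 F57178))).symm
theorem F118523 : act 0 n36418 = n26948 := (sb E11954 (iv1 D55861))
theorem F118524 : act 1 n36418 = n35727 := (sb E11954 F88361)
theorem F118525 : act 0 n56233 = n36694 := d21_10 F57570 (iv1 D35275) F28068 (iv6 D8878) D8875 D18927 (iv5 F57179) F118523 (iv5 F57922) (iv6 F88940)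
theorem F118527 : act 1 n40023 = n36694 := d15_0 (iv0 F118525) F88941 (iv2 F118065)
theorem F118528 : act 1 n77274 = n40023 := d15_0 F118527 (iv7 F114019) (iv2 F116054)
theorem F118529 : act 0 n77275 = n39998 := d21_4 F61107 (iv1 F118528) (iv5 D77274) D77275 (iv6 D39998) D39997 (iv1 F61193) (iv5 F61109) (iv6 D40187) D40184
theorem E11955 : n40189 = n40112 := ((c15_4 (iv0 D40189) D40190 F118077 (iv2 F118111))).symm
theorem F118531 : act 0 n40112 = n40055 := (sb E11955 (iv1 F61119))
theorem F118532 : act 1 n40112 = n18979 := (sb E11955 (iv0 D40189))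
theorem E11956 : n56231 = n18978 := (c21_8 (iv5 F116106) (iv1 F116107) (iv5 D35292) D35293 (iv1 F118522) (iv6 F88940) (iv5 D56233) D56231 (iv5 D18978) D18979 (iv1 F118532))
theorem E11957 : n40185 = n27095 := ((D40185).symm.trans (sb E11956 (iv0 D56231)))
theorem F118533 : act 0 n27095 = n18978 := (sb E11957 (iv1 D40185))
theorem E11958 : n56232 = n18983 := ((D56232).symm.trans (sb E11957 F61108))
theorem F118534 : act 0 n18983 = n27095 := (sb E11958 (iv1 D56232))
theorem F118535 : act 5 n56228 = n77308 := d21_8 F116106 F118531 (iv5 D40055) F30306 F118534 (iv6 D27095) D27094 D56228 (iv6 D77308) D77305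
theorem F118536 : act 7 n40184 = n40112 := d15_2 (iv0 F118534) F61113 F118111
theorem F118538 : act 7 n77305 = n40023 := d13_2 F118536 (iv5 F116106) (iv5 F61107)
theorem E11959 : n56585 = n35292 := (c15_1 D56585 F116107 F118538 F118065)
theorem E11960 : n77306 = n27212 := (((iv1 F116108)).symm.trans (sb E11959 (iv1 D56585)))
theorem E11961 : n56584 = n35287 := ((D56584).symm.trans (sb E11960 (iv1 D77306)))
theorem F118539 : act 1 n27212 = n35292 := (sb E11960 F116108)
theorem F118540 : act 1 n35287 = n27212 := (sb E11961 (iv0 D56584))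
theorem E11962 : n77309 = n45790 := (c21_5 F118075 (iv1 F118540) (iv5 D35287) D35288 D77309 (iv6 D45790) (iv5 F60975) (iv1 F61175) D40203 F61188 (iv1 F61116))
theorem F118541 : act 1 n45790 = n35288 := (sb E11962 (iv0 D77309))
theorem F118542 : act 5 n40213 = n56582 := d21_6 (iv5 D35287) (iv1 F56005) F56002 (iv6 F60850) (iv1 F60852) D40213 (iv1 D56582) (iv5 D27211) D27212 (iv1 F118540)
theorem F118543 : act 0 n36307 = n40213 := d21_10 F118542 (iv1 D56582) (iv5 D27211) D27212 (iv1 F118540) D77308 (iv5 F118535) (iv1 F88935) (iv5 D36306) D36307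
theorem F118544 : act 6 n77311 = n56228 := d12_0 F118535 (iv6 D77308) (iv5 D35287) D35288 D77311
theorem F118545 : act 5 n36699 = n56229 := d21_6 (iv5 D18978) (iv1 F30234) (iv5 F56002) (iv6 F57564) (iv1 F57565) D36699 (iv1 D56229) (iv5 D27094) D27095 F118533
theorem F118546 : act 0 n39993 = n36699 := d21_10 F118545 (iv1 D56229) (iv5 D27094) D27095 F118533 D40187 F61109 (iv1 F61190) (iv5 D39992) D39993
theorem F118547 : act 0 n39096 = n40089 := d20_1 D39096 F60986 F30259 F118103 (iv3 D8243) D8244 (iv1 F30464) F11579 (iv3 F13635) (iv1 F29802)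
theorem F118548 : act 1 n39093 = n40089 := d15_0 (iv0 F118547) F117484 (iv2 F117491)
theorem E11963 : n39092 = n38153 := (c20_10 (iv4 F118397) (iv1 F88876) (iv4 D36352) F118106 (iv1 D18952) (iv3 F30259) (iv4 F60986) (iv1 F118548) (iv4 D39093) D39092 (iv1 F115735))
theorem F118549 : act 2 n38153 = n76990 := (sb E11963 F118389)
theorem F118550 : act 3 n38153 = n18563 := (sb E11963 (iv3 D39092))
theorem F118551 : act 7 n38153 = n18582 := (sb E11963 F117490)
theorem E11964 : n39162 = n38154 := (c15_4 F115734 F115735 F118551 D39162)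
theorem F118552 : act 2 n38154 = n18582 := (sb E11964 (iv2 D39162))
theorem F118553 : act 6 n38154 = n38722 := (sb E11964 (iv6 F118281))
theorem F118554 : act 7 n38154 = n76990 := (sb E11964 (iv7 F118388))
theorem F118555 : act 2 n40086 = n35726 := d15_3 (iv0 F118093) (iv0 D40083) D40086
theorem F118557 : act 7 n35726 = n36418 := d4_2 D40086 F118555 F57178
theorem F118558 : act 0 n75815 = n58092 := d20_7 (iv4 F29793) (iv1 F41763) (iv4 D17317) D17316 (iv1 F118085) (iv3 F60950) (iv4 F113708) (iv4 D58092) (iv3 D27696) (iv1 F22021)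
theorem F118559 : act 4 n38424 = n36214 := d5_2 F118051 D38424 (iv3 D36214) (iv4 D17495) D17494
theorem F118560 : act 0 n75397 = n56590 := d20_7 (iv4 F29000) (iv1 F44016) F44018 D27300 (iv1 F118021) (iv3 F54738) D75397 (iv4 D56590) (iv3 D27214) (iv1 F21729)
theorem F118561 : act 4 n38043 = n36936 := d5_2 F118012 D38043 (iv3 D36936) (iv4 D17779) D17778
theorem E11965 : n56023 = n38384 := (c20_1 D56023 (iv1 D38384) F29514 F13544 D8638 (iv3 F117966) F42181 (iv1 F21126) F21122 (iv3 F21559) (iv1 F43667))
theorem F118562 : act 2 n38384 = n27057 := (sb E11965 F91537)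
theorem F118563 : act 4 n38384 = n27026 := (sb E11965 (iv4 D56023))
theorem F118564 : act 7 n38384 = n27052 := (sb E11965 F91538)
theorem E11966 : n56019 = n38383 := (c15_4 (iv0 D38383) D38384 F118564 (iv2 F91545))
theorem F118565 : act 2 n38383 = n27052 := (sb E11966 F91545)
theorem F118566 : act 4 n38383 = n27025 := (sb E11966 (iv4 D56019))
theorem F118567 : act 7 n38383 = n27057 := (sb E11966 F91546)
theorem F118568 : act 2 n58233 = n38466 := d2_3 (iv5 D38466) F117964 D58233
theorem F118569 : act 0 n38720 = n36359 := d20_7 (iv4 F44896) (iv1 F44899) F29953 F117944 (iv1 D18432) (iv3 F29581) (iv4 F59505) F57101 F28548 D17562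
theorem F118570 : act 2 n58236 = n38468 := d1_3 (iv4 D38468) F117893 D58236
theorem F118571 : act 2 n38359 = n58092 := d3_3 (iv6 F92043) F118570 F59307
theorem F118572 : act 0 n38271 = n35721 := d20_7 (iv4 F43486) (iv1 F43487) F42349 (iv3 F117882) (iv1 D18306) (iv3 F29475) D38271 (iv4 D35721) (iv3 D17312) (iv1 F21404)
theorem F118573 : act 4 n75472 = n36591 := d10_3 (iv6 D36591) F117863 D75472
theorem F118574 : act 4 n75473 = n36497 := d11_3 F117042 F117863 D75473
theorem F118575 : act 0 n75469 = n37404 := d20_4 (iv4 F13121) D17648 F117863 D75469 (iv3 D37404) D37405 F58316 (iv4 D36633) (iv3 D17658) (iv1 D8316)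
theorem F118576 : act 5 n77734 = n75473 := d18_4 (iv1 F57334) (iv4 F117120) (iv1 D77741) (iv4 F116604) F118574 F57320 F28725 F28658 D36503
theorem F118577 : act 7 n75471 = n77734 := d13_0 F118576 (iv7 D75473) D75471
theorem E11967 : n75473 = n75456 := (c17_6 (iv1 F57324) (iv5 F57459) (iv1 F117122) (iv5 D77742) (iv4 F116604) F118576 F113237 F54780 F117825 F57326)
theorem F118578 : act 2 n75456 = n34535 := (sb E11967 F113285)
theorem F118579 : act 4 n75456 = n36497 := (sb E11967 F118574)
theorem F118580 : act 5 n75456 = n77734 := (sb E11967 (iv5 F118576))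
theorem F118581 : act 7 n75456 = n34534 := (sb E11967 (iv7 D75473))
theorem F118582 : act 0 n38785 = n77734 := d21_10 (iv5 F118580) (iv1 D75456) F54770 (iv6 D34530) (iv1 F27497) D17908 (iv5 F33889) (iv1 F116633) D38228 (iv6 F59680)
theorem E11968 : n38125 = n35476 := (c21_5 F13256 (iv1 F12309) (iv5 F13510) D18231 D38125 D77734 (iv5 F118580) (iv1 D75456) F54770 (iv6 D34530) (iv1 F27497))
theorem E11969 : n77731 = n18231 := ((D77731).symm.trans (sb E11968 (iv0 D38125)))
theorem F118583 : act 0 n18231 = n35476 := (sb E11969 (iv1 D77731))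
theorem E11970 : n38126 = n35481 := ((D38126).symm.trans (sb E11969 F116601))
theorem F118584 : act 0 n35481 = n18231 := (sb E11970 (iv1 D38126))
theorem F118585 : act 7 n77730 = n36003 := d15_2 (iv0 F118584) F116607 F56753
theorem F118587 : act 3 n38247 = n77730 := d8_3 F118585 F56754 D38247
theorem F118588 : act 4 n77489 = n77730 := d11_3 F118585 F56755 (iv7 F117831)
theorem F118589 : act 6 n38376 = n77730 := d14_5 F118585 (iv6 D36003) F28426 D18310 D38376
theorem F118590 : act 4 n35647 = n38247 := d20_8 (iv4 D35481) (iv1 D17201) F12864 F5669 D3650 D8098 D17277 D35647 F118587 (iv1 F116607)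
theorem F118591 : act 2 n38258 = n35647 := d1_3 F118590 F59125 (iv4 F59138)
theorem F118593 : act 7 n38243 = n35647 := d11_0 F118590 (iv7 D38247) (iv4 F59120)
theorem F118594 : act 1 n38785 = n37370 := d15_1 (iv0 F118582) F117040 (iv2 F116906)
theorem F118595 : act 1 n38774 = n77734 := d15_0 (iv0 F118582) (iv7 F59681) (iv2 F59674)
theorem E11971 : n56287 = n37905 := (c20_6 F118579 (iv1 D36497) F28653 (iv3 F21609) D27118 D56287 (iv4 D37905) (iv1 F54801) F54797 (iv3 F54779) (iv1 F113237))
theorem F118596 : act 3 n37905 = n27118 := (sb E11971 (iv3 D56287))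
theorem F118597 : act 7 n37905 = n27136 := (sb E11971 F89144)
theorem E11972 : n75490 = n18164 := (c11_3 F118597 F117809 F113304 D37905)
theorem E11973 : n37903 = n34543 := ((D37903).symm.trans (sb E11972 (iv2 D75490)))
theorem E11974 : n37908 = n34544 := ((D37908).symm.trans (sb E11972 (iv7 F113304)))
theorem F118598 : act 2 n34543 = n18164 := (sb E11973 (iv2 D37903))
theorem E11975 : n75495 = n18165 := ((D75495).symm.trans (sb E11973 (iv7 F58754)))
theorem F118599 : act 7 n34544 = n18164 := (sb E11974 (iv7 D37908))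
theorem F118600 : act 2 n18165 = n34544 := (sb E11975 F113305)
theorem F118601 : act 7 n18165 = n34543 := (sb E11975 (iv7 D75495))
theorem F118602 : act 7 n75491 = n37909 := d8_2 F118601 D75491 (iv3 D37909)
theorem F118603 : act 7 n75492 = n37910 := d11_2 F118601 D75492 (iv4 D37910)
theorem F118604 : act 7 n75493 = n37911 := d13_2 F118601 D75493 (iv5 D37911)
theorem E11976 : n56352 = n37910 := (c1_4 (iv4 D37910) F118600 (iv4 F117809) D56352)
theorem F118605 : act 2 n37910 = n27136 := (sb E11976 (iv2 D56352))
theorem F118606 : act 2 n75498 = n37911 := d2_3 (iv5 D37911) F118600 D75498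
theorem F118607 : act 2 n75499 = n37912 := d3_3 (iv6 D37912) F118600 D75499
theorem F118608 : act 2 n37905 = n75492 := d4_3 F118603 F118605 (iv7 F118597)
theorem F118609 : act 1 n56351 = n75492 := d15_1 D56351 F118603 F118605
theorem F118610 : act 3 n75492 = n37349 := d0_2 (iv3 F118596) F118608 F89184 (iv3 D27131) F89141
theorem F118611 : act 1 n75492 = n56350 := d15_0 (iv0 D56350) (iv7 F118597) F118608
theorem F118612 : act 4 n56751 = n36608 := d20_2 D27270 (iv1 F89745) (iv3 F89809) (iv1 F118611) F118610 (iv4 D37349) (iv1 F58203) F58201 (iv3 F44073) (iv1 F44077)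
theorem E11977 : n56800 = n56744 := ((c20_11 (iv4 F89806) (iv1 F89105) (iv4 D27137) D27136 D56350 F89809 (iv4 F118612) (iv1 D56751) (iv4 D27265) D27264 D56744)).symm
theorem F118613 : act 3 n56744 = n27279 := (sb E11977 (iv3 D56800))
theorem F118616 : act 4 n37348 = n75491 := d5_4 D75492 F118610 (iv4 D37349) D37348 (iv3 D75491)
theorem E11978 : n56365 = n56351 := ((c20_5 (iv4 F13260) D17935 D37349 (iv3 F118610) (iv1 F118609) (iv3 D56365) D56366 F89201 (iv4 D37392) (iv3 D17945) (iv1 D8464))).symm
theorem F118617 : act 3 n56351 = n27140 := (sb E11978 (iv3 D56365))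
theorem F118618 : act 4 n56351 = n37441 := (sb E11978 F89200)
theorem F118619 : act 5 n56351 = n56351 := (sb E11978 (tr F89782 E11978))
theorem F118620 : act 4 n56354 = n38307 := d17_4 (iv1 F118609) F118619 (iv1 D56351) D56354 F113310 F113306 F58756 F54799 D75492
theorem E11979 : n55651 = n38305 := ((c10_4 F89123 F118620 (iv6 D38307) D38305)).symm
theorem F118621 : act 3 n38305 = n26873 := (sb E11979 (iv3 D55651))
theorem F118622 : act 6 n38305 = n56354 := (sb E11979 F89123)
theorem F118623 : act 7 n38305 = n26909 := (sb E11979 F89152)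
theorem E11980 : n38308 = n38135 := ((c11_2 F118623 (iv4 F117751) (iv7 D38308) D38305)).symm
theorem F118624 : act 2 n38135 = n18292 := (sb E11980 F59171)
theorem F118625 : act 7 n38135 = n18291 := (sb E11980 (iv7 D38308))
theorem E11981 : n38303 = n38134 := (c15_4 (iv0 D38134) D38135 F118625 D38303)
theorem F118626 : act 2 n38134 = n18291 := (sb E11981 (iv2 D38303))
theorem F118627 : act 7 n38134 = n18292 := (sb E11981 (iv7 F59170))
theorem E11982 : n55750 = n38310 := ((c1_3 (iv4 F117751) F118624 D38310 (iv2 D55750))).symm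
theorem F118628 : act 2 n38310 = n26909 := (sb E11982 (iv2 D55750))
theorem F118629 : act 7 n37904 = n75496 := d8_2 F118599 D37904 (iv3 D75496)
theorem F118630 : act 7 n37906 = n75498 := d13_2 F118599 D37906 (iv5 D75498)
theorem F118631 : act 2 n75493 = n37906 := d4_3 F118630 F118606 (iv7 F118604)
theorem F118632 : act 1 n37911 = n38795 := d15_0 F59685 F118630 F118606
theorem F118633 : act 2 n37907 = n75494 := d3_3 (iv6 D75494) F118598 D37907
theorem F118634 : act 4 n56283 = n37837 := d20_2 (iv4 F43864) (iv1 F89025) (iv3 D37837) (iv1 D18138) F13374 (iv4 F13407) D18164 D37905 F118596 (iv1 F43851)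
theorem F118635 : act 2 n37837 = n56318 := d1_1 F118634 (iv4 D56318) (iv2 F117420)
theorem F118636 : act 7 n37837 = n56313 := d11_2 (iv7 F117421) F118634 (iv4 D56313)
theorem F118637 : act 3 n56313 = n37831 := d8_1 F118636 (iv7 F58678) D37837
theorem F118638 : act 1 n56745 = n37837 := d15_1 D56745 F118636 F117422
theorem F118639 : act 0 n56394 = n37838 := d20_1 D56394 (iv4 D37838) D37837 (iv1 F118638) (iv3 F89726) F89229 (iv1 F89206) (iv4 D56374) F43870 (iv1 F43892)
theorem E11983 : n37832 = n27242 := (c0_3 F118637 (iv2 D37831) D37832 (iv2 F117376) D27264 (iv2 F117422))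
theorem E11984 : n56672 = n18137 := ((D56672).symm.trans (sb E11983 (iv3 D37832)))
theorem F118640 : act 3 n18137 = n27242 := (sb E11984 (iv3 D56672))
theorem E11985 : n37836 = n27269 := ((D37836).symm.trans (sb E11984 F117379))
theorem E11986 : n56767 = n18138 := ((D56767).symm.trans (sb E11985 F58679))
theorem F118641 : act 7 n27269 = n18137 := (sb E11985 (iv7 D37836))
theorem F118642 : act 2 n18138 = n27269 := (sb E11986 (iv2 D56767))
theorem E11987 : n37831 = n37813 := (c20_4 (iv4 F21620) D27126 D56313 F118637 (iv1 F58665) F29306 (iv4 F29337) (iv1 F54794) (iv4 F117809) (iv3 D27136) (iv1 D12997))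
theorem F118644 : act 3 n37813 = n56313 := (sb E11987 (iv3 F118637))
theorem F118645 : act 7 n37813 = n18138 := (sb E11987 (iv7 F58678))
theorem E11988 : n36615 = n36513 := (c20_2 D17659 (iv1 F57474) F57347 F54769 D37813 F118644 (iv4 D56313) (iv1 F89031) F89028 F43848 (iv1 F28659))
theorem F118646 : act 0 n36513 = n17654 := (sb E11988 (iv1 D36615))
theorem F118647 : act 1 n36513 = n17659 := (sb E11988 F57474)
theorem E11989 : n36757 = n36607 := ((c20_11 (iv4 F89744) (iv1 F89749) (iv4 D27270) D27269 F117820 (iv3 F54769) (iv4 F57347) F118646 (iv4 D17654) D17653 D36607)).symm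
theorem F118648 : act 3 n36607 = n17723 := (sb E11989 (iv3 D36757))
theorem F118649 : act 4 n36607 = n56750 := (sb E11989 (iv4 F89744))
theorem F118650 : act 5 n36607 = n36607 := (sb E11989 (tr F89730 E11989))
theorem F118651 : act 2 n56768 = n37838 := d1_3 (iv4 D37838) F118642 D56768
theorem F118652 : act 2 n38263 = n37839 := d2_3 (iv5 D37839) F118642 (iv5 F117823)
theorem F118653 : act 2 n56770 = n37840 := d3_3 (iv6 D37840) F118642 D56770
theorem F118654 : act 7 n37833 = n56768 := d11_2 F118641 D37833 (iv4 D56768)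
theorem F118655 : act 7 n37834 = n38263 := d13_2 F118641 D37834 F117823
theorem F118657 : act 1 n56394 = n37833 := d15_1 (iv0 F118639) F118654 F118651
theorem F118658 : act 3 n39183 = n37835 := d7_3 (iv6 D37835) F118640 (iv6 F60162)
theorem F118659 : act 0 n56389 = n37833 := d20_1 D56389 (iv4 D37833) F118640 (iv1 F44076) F21786 (iv4 F20929) (iv1 F20932) F41740 D13005 D27148
theorem F118660 : act 5 n37835 = n39181 := d6_2 D39183 F118658 (iv3 D39181)
theorem F118661 : act 0 n39181 = n76992 := d21_7 (iv5 D8546) (iv1 D3823) D3825 D8552 D18137 D37835 F118660 (iv5 D76992) (iv6 D35171) F28019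
theorem F118662 : act 0 n75708 = n37835 := d21_10 F118660 F118661 (iv5 D76992) (iv6 D35171) F28019 D18130 (iv5 F54679) (iv1 F117277) D34618 D75708
theorem F118663 : act 1 n37837 = n56744 := d15_0 (iv0 D56744) (iv7 F117393) (iv2 F118635)
theorem F118664 : act 3 n37391 = n75456 := d0_0 F118578 (iv3 F117856) F116865 D17945 D37391
theorem F118665 : act 7 n75469 = n37391 := d8_0 F118664 F118581 D75469
theorem F118666 : act 0 n37391 = n56796 := d20_10 F89798 (iv1 D56378) (iv4 D27143) (iv3 D13000) (iv1 F9623) (iv3 F13122) (iv4 F28725) (iv1 F57320) (iv4 F118579) (iv3 F118664)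
theorem F118667 : act 2 n37254 = n75469 := d4_3 F118665 (iv2 D37391) (iv7 F116858)
theorem E11990 : n37404 = n37390 := ((c15_1 D37390 (iv0 F118575) F118665 (iv2 D37391))).symm
theorem F118668 : act 1 n37390 = n75469 := (sb E11990 (iv0 F118575))
theorem F118669 : act 3 n37390 = n17955 := (sb E11990 (iv3 D37404))
theorem F118670 : act 4 n37390 = n36765 := (sb E11990 F58315)
theorem F118672 : act 1 n37254 = n56796 := d15_0 (iv0 F118666) (iv7 F118665) (iv2 F118667)
theorem F118673 : act 1 n75469 = n37389 := d15_0 (iv0 D37389) (iv7 F116858) F118667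
theorem F118674 : act 4 n56338 = n56745 := d20_2 D27137 (iv1 F89101) (iv3 F89726) (iv1 F118673) (iv3 D75469) (iv4 F117863) (iv1 F57327) F57323 (iv3 F43848) (iv1 F43852)
theorem E11991 : n56393 = n56331 := ((c20_5 (iv4 F118674) (iv1 D56338) (iv4 D27132) D27131 D56331 (iv3 D56393) D56394 F118639 (iv4 D37838) D37837 (iv1 F118638))).symm
theorem F118675 : act 3 n56331 = n27149 := (sb E11991 (iv3 D56393))
theorem F118676 : act 4 n56331 = n37373 := (sb E11991 (iv4 F89227))
theorem F118678 : act 2 n37370 = n75471 := d4_3 F118577 F116906 (iv7 F117040)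
theorem F118679 : act 4 n77743 = n75471 := d11_3 F118577 F116604 D77743
theorem F118680 : act 1 n37370 = n38774 := d15_0 F118595 (iv7 F118577) (iv2 F118678)
theorem F118681 : act 5 n36597 = n77743 := d17_3 (iv1 D17649) D17650 D36597 F118679 (iv5 D75471) (iv0 D34534) F27502 D34535 (iv4 F117857)
theorem F118682 : act 7 n77742 = n36597 := d13_0 F118681 (iv7 D77743) D77742
theorem F118683 : act 2 n37371 = n75472 := d3_3 (iv6 D75472) F117862 D37371
theorem E11992 : n77776 = n57999 := (c20_1 D77776 (iv1 F91762) (iv4 D27672) D27671 (iv1 F117851) (iv3 F56754) F56755 (iv1 F117657) (iv4 D17206) D17205 D35494)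
theorem E11993 : n35683 = n35494 := ((F91757).symm.trans (sb E11992 (iv4 D77776)))
theorem E11994 : n77775 = n17297 := ((D77775).symm.trans (sb E11993 (iv3 D35683)))
theorem F118684 : act 4 n35494 = n57999 := (sb E11993 (iv4 F91757))
theorem F118685 : act 3 n17297 = n35494 := (sb E11994 (iv3 D77775))
theorem F118686 : act 3 n77777 = n35685 := d6_3 (iv5 D35685) F118685 D77777
theorem F118687 : act 3 n77778 = n35686 := d7_3 (iv6 D35686) F118685 D77778
theorem F118688 : act 3 n77779 = n35677 := d8_3 (iv7 F56364) F118685 D77779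
theorem F118689 : act 2 n35678 = n55748 := d0_3 F118688 (iv2 D35677) D35678 F91833 (iv2 F117144)
theorem F118690 : act 2 n38331 = n58054 := d1_3 (iv4 F91819) F118689 (iv4 F117677)
theorem F118691 : act 7 n55749 = n35678 := d15_2 (iv0 D55748) D55749 F118689
theorem F118692 : act 3 n35682 = n55749 := d8_3 F118691 (iv3 D35678) D35682
theorem F118694 : act 7 n38330 = n58054 := d15_2 F59188 F59192 (iv2 F118690)
theorem E11995 : n55811 = n55749 := ((c11_3 F118694 (iv4 F91819) (iv7 F118691) (iv4 F117678))).symm
theorem E11996 : n35682 = n26930 := (((iv3 F118692)).symm.trans (sb E11995 (iv3 D55811)))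
theorem F118696 : act 4 n55749 = n38330 := (sb E11995 (iv4 F117678))
theorem E11997 : n55810 = n17297 := ((D55810).symm.trans (sb E11996 F56365))
theorem E11998 : n55815 = n17296 := ((D55815).symm.trans (sb E11996 (iv7 D35682)))
theorem F118698 : act 2 n17297 = n26930 := (sb E11997 (iv2 D55810))
theorem E11999 : n35677 = n26931 := ((F56364).symm.trans (sb E11997 (iv7 F88284)))
theorem F118699 : act 7 n17296 = n26930 := (sb E11998 (iv7 D55815))
theorem F118700 : act 2 n26931 = n17296 := (sb E11999 (iv2 D35677))
theorem E12000 : n77779 = n55816 := (((D55816).symm.trans (sb E11999 (iv3 F118688)))).symm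
theorem F118701 : act 7 n26931 = n17297 := (sb E11999 (iv7 F56364))
theorem F118702 : act 2 n55816 = n35495 := (sb E12000 F117144)
theorem F118703 : act 7 n55816 = n35494 := (sb E12000 (iv7 D77779))
theorem F118704 : act 7 n35684 = n55817 := d11_2 F118701 D35684 (iv4 D55817)
theorem F118705 : act 7 n35685 = n55818 := d13_2 F118701 D35685 (iv5 D55818)
theorem F118706 : act 2 n35679 = n55817 := d1_3 (iv4 D55817) F118700 D35679
theorem F118707 : act 2 n35680 = n55818 := d2_3 (iv5 D55818) F118700 D35680
theorem F118709 : act 7 n55812 = n35679 := d11_2 F118699 D55812 (iv4 D35679)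
theorem F118710 : act 7 n55813 = n35680 := d13_2 F118699 D55813 (iv5 D35680)
theorem F118711 : act 2 n35685 = n55813 := d4_3 F118710 F118707 (iv7 F118705)
theorem F118712 : act 2 n35684 = n55812 := d4_3 F118709 F118706 (iv7 F118704)
theorem F118713 : act 1 n55817 = n38972 := d15_0 (iv0 F88286) F118709 F118706
theorem E12001 : n77495 = n55816 := ((c20_10 (iv4 F91361) (iv1 F91698) F91695 F44584 (iv1 F29665) D18499 D38972 (iv1 F118713) (iv4 D55817) D55816 (iv1 F116345))).symm
theorem F118714 : act 0 n55816 = n35496 := (sb E12001 (iv1 F116345))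
theorem F118715 : act 1 n55816 = n35384 := (sb E12001 (iv0 D77495))
theorem E12002 : n77774 = n77496 := ((c15_2 F118715 D77496 (iv7 F117143) (iv2 F118702))).symm
theorem F118716 : act 2 n77496 = n35494 := (sb E12002 (iv2 D77774))
theorem F118717 : act 7 n77496 = n35495 := (sb E12002 (iv7 F117143))
theorem F118718 : act 2 n55814 = n35686 := d3_3 (iv6 D35686) F118698 D55814
theorem F118719 : act 2 n56241 = n36379 := d2_3 (iv5 F89732) F118718 F89786
theorem F118721 : act 7 n56240 = n36379 := d15_2 F88957 F88953 (iv2 F118719)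
theorem F118723 : act 7 n38261 = n58016 := d11_2 F117827 D38261 (iv4 D58016)
theorem F118724 : act 7 n38262 = n58017 := d13_2 F117827 D38262 (iv5 D58017)
theorem F118725 : act 3 n57960 = n38262 := d8_3 F118724 F91785 (iv7 F117391)
theorem F118726 : act 1 n55839 = n38261 := d15_1 (iv0 F117846) F118723 F117833
theorem F118727 : act 0 n55834 = n38261 := d20_1 D55834 (iv4 D38261) (iv3 F117826) (iv1 F44586) F22011 (iv4 F20845) (iv1 F20848) (iv4 F41950) D12890 D26938
theorem F118728 : act 4 n56332 = n37374 := d20_6 (iv4 F117804) (iv1 F57478) (iv4 D17659) D17658 D36630 F89819 (iv1 D37374) (iv4 D17941) D17940 (iv1 F117825)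
theorem F118729 : act 5 n37371 = n38398 := d21_6 (iv5 D8343) D8342 (iv5 F27494) D34530 (iv1 F117824) D37371 (iv1 D38398) (iv5 D18316) (iv6 D8634) F13358
theorem F118730 : act 3 n38398 = n37386 := d6_1 F118729 (iv5 D37386) (iv3 F58294)
theorem F118731 : act 7 n58178 = n38398 := d8_0 F118730 F116848 D58178
theorem F118732 : act 4 n38398 = n56143 := d20_6 (iv4 F41786) (iv1 F44796) F44794 (iv3 F44730) F58308 (iv3 F118730) (iv1 D56143) (iv4 D27062) F21557 D12981
theorem F118733 : act 2 n58178 = n38397 := d15_3 (iv0 D38397) D38398 (iv7 F118731)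
theorem F118734 : act 4 n75496 = n56356 := d5_2 F117809 D75496 (iv3 D56356) (iv4 D27137) D27136
theorem F118735 : act 4 n75499 = n56355 := d10_3 (iv6 D56355) F117809 D75499
theorem E12003 : n75724 = n75499 := (c20_2 (iv4 F54880) D75724 F118735 F89124 D56360 (iv3 F89129) (iv4 F43898) D32306 F51220 F117801 (iv1 D34633))
theorem F118736 : act 1 n75499 = n34625 := (sb E12003 (iv0 D75724))
theorem F118737 : act 7 n75725 = n37912 := d15_2 F118736 D75725 (iv2 F118607)
theorem F118738 : act 0 n75704 = n56401 := d20_7 (iv4 F43898) D32306 F51220 F117801 (iv1 D34633) (iv3 F54877) (iv4 F113563) F89252 F43895 D27153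
theorem E12004 : n75465 = n36507 := ((c20_1 D36507 (iv1 D75465) F54778 F27501 (iv1 F117761) (iv3 D13064) (iv4 F30384) (iv1 F21034) F11754 (iv3 F13122) (iv1 F28654))).symm
theorem F118739 : act 0 n36507 = n34533 := (sb E12004 (iv1 D75465))
theorem E12005 : n75464 = n36502 := ((c15_4 (iv0 D75464) (iv0 F118739) F91345 (iv2 F91330))).symm
theorem F118740 : act 1 n36502 = n34533 := (sb E12005 (iv0 D75464))
theorem E12006 : n77811 = n38779 := (c20_2 (iv4 F56188) D77811 F59677 F29605 D18445 (iv3 F117752) (iv4 F30363) (iv1 F44921) F44918 (iv3 F91185) (iv1 D35513))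
theorem F118741 : act 1 n38779 = n35505 := (sb E12006 (iv0 D77811))
theorem F118742 : act 2 n58246 = n38478 := d1_3 (iv4 D38478) F117740 D58246
theorem F118743 : act 2 n38337 = n58058 := d1_3 (iv4 D58058) F117687 D38337
theorem F118744 : act 2 n38333 = n58055 := d2_3 (iv5 D58055) F117683 D38333
theorem F118745 : act 0 n77813 = n75466 := d21_7 D17157 (iv1 F29535) F29536 D35403 (iv1 F117657) D35505 D77813 (iv5 D75466) (iv6 D34533) F27499
def n77852 : Q := act 7 n35524
theorem D77852 : act 7 n35524 = n77852 := rfl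
theorem F118746 : act 4 n77852 = n35530 := d11_1 D77852 (iv7 D35530) (iv4 F56202)
def n77853 : Q := act 3 n35525
theorem D77853 : act 3 n35525 = n77853 := rfl
def n77855 : Q := act 6 n35525
theorem D77855 : act 6 n35525 = n77855 := rfl
theorem F118747 : act 4 n77855 = n35526 := d10_1 D77855 (iv6 D35526) D35525
def n77856 : Q := act 5 n35526
theorem D77856 : act 5 n35526 = n77856 := rfl
theorem F118748 : act 6 n77856 = n35529 := d12_2 D35526 D77856 (iv5 D35529) (iv6 D17213) D17212
def n77857 : Q := act 3 n35527
theorem D77857 : act 3 n35527 = n77857 := rfl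
def n77858 : Q := act 4 n35527
theorem D77858 : act 4 n35527 = n77858 := rfl
def n77859 : Q := act 4 n35529
theorem D77859 : act 4 n35529 = n77859 := rfl
def n77860 : Q := act 0 n35532
theorem D77860 : act 0 n35532 = n77860 := rfl
def n77861 : Q := act 1 n35532
theorem D77861 : act 1 n35532 = n77861 := rfl
def n77862 : Q := act 2 n35532
theorem D77862 : act 2 n35532 = n77862 := rfl
def n77863 : Q := act 4 n35532
theorem D77863 : act 4 n35532 = n77863 := rfl
theorem F118749 : act 7 n77863 = n58037 := d11_2 F116377 D77863 (iv4 F116378)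
theorem F118750 : act 0 n77863 = n58040 := d20_7 (iv4 F42349) (iv1 D17320) (iv4 D8109) (iv3 F12865) D17214 D35532 D77863 F91803 F44609 (iv1 F22022)
theorem E12007 : n77861 = n77781 := (c18_9 (iv1 D35495) D35497 F56182 F44603 (iv5 F44610) (iv4 F91803) (iv0 F118750) (iv4 D77863) D77861 (iv5 D77781))
theorem F118751 : act 0 n77781 = n35532 := (sb E12007 (iv1 D77861))
theorem F118752 : act 2 n77863 = n58036 := d15_3 (iv0 D58036) D58037 (iv7 F118749)
theorem F118753 : act 4 n58036 = n77862 := d1_2 D77863 F118752 (iv2 D77862)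
def n77864 : Q := act 5 n35532
theorem D77864 : act 5 n35532 = n77864 := rfl
theorem F118754 : act 3 n77864 = n35534 := d6_1 D77864 (iv5 D35534) D35532
theorem F118755 : act 7 n77864 = n56466 := d13_2 F116377 D77864 (iv5 F116376)
def n77865 : Q := act 6 n35532
theorem D77865 : act 6 n35532 = n77865 := rfl
theorem F118756 : act 3 n77865 = n35535 := d7_1 D77865 (iv6 D35535) D35532
theorem F118757 : act 5 n39126 = n77865 := d6_0 F118756 F56206 (iv3 F60133)
theorem F118758 : act 7 n56101 = n77865 := d8_0 F118756 F91534 (iv3 F88766)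
theorem E12008 : n77781 = n41378 := ((c21_4 (iv5 D41380) (iv1 D19490) D19491 (iv6 F63812) F118751 D77865 (iv5 F118757) F118419 D40092 F60988 (iv1 F63818))).symm
theorem F118759 : act 0 n41378 = n35532 := (sb E12008 F118751)
theorem E12009 : n35495 = n19489 := ((((iv5 D41378)).symm.trans (sb E12008 (iv5 D77781)))).symm
theorem E12010 : n41376 = n17205 := ((D41376).symm.trans (sb E12009 (iv1 D35495)))
theorem E12011 : n77497 = n41377 := (((D41377).symm.trans (sb E12009 F116351))).symm
theorem E12012 : n55816 = n40032 := ((((iv2 F60894)).symm.trans (sb E12009 (iv2 F118702)))).symm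
theorem E12013 : n55748 = n9166 := (((F31196).symm.trans (sb E12009 (iv3 F91833)))).symm
theorem E12014 : n58000 = n41375 := ((((iv4 F63810)).symm.trans (sb E12009 (iv4 F117842)))).symm
theorem E12016 : n77496 = n41379 := (((D41379).symm.trans (sb E12009 (iv7 F118717)))).symm
theorem F118760 : act 1 n17205 = n19489 := (sb E12010 (iv0 D41376))
theorem F118761 : act 1 n41377 = n35494 := (sb E12011 F116349)
theorem F118762 : act 2 n41377 = n35384 := (sb E12011 (iv2 D77497))
theorem F118763 : act 3 n41377 = n35518 := (sb E12011 F116346)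
theorem F118764 : act 4 n41377 = n57954 := (sb E12011 F116347)
theorem F118765 : act 7 n41377 = n35496 := (sb E12011 F116348)
theorem F118766 : act 0 n40032 = n35496 := (sb E12012 F118714)
theorem F118767 : act 1 n40032 = n35384 := (sb E12012 F118715)
theorem E12017 : n26931 = n18927 := (((F60895).symm.trans (sb E12012 (iv3 D55816)))).symm
theorem F118768 : act 7 n40032 = n35494 := (sb E12012 F118703)
theorem E12018 : n26909 = n19494 := (((D19494).symm.trans (sb E12013 (iv0 D55748)))).symm
theorem E12019 : n35678 = n18936 := ((((iv2 F30235)).symm.trans (sb E12013 (iv2 F118689)))).symm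
theorem E12020 : n38331 = n8645 := (((F14308).symm.trans (sb E12013 (iv4 F117677)))).symm
theorem F118769 : act 0 n41375 = n27667 := (sb E12014 (iv1 D58000))
theorem F118770 : act 1 n41375 = n27672 := (sb E12014 F91758)
theorem F118771 : act 0 n41379 = n35384 := (sb E12016 (iv1 D77496))
theorem F118772 : act 1 n41379 = n35496 := (sb E12016 F116350)
theorem F118773 : act 2 n41379 = n35494 := (sb E12016 F118716)
theorem E12021 : n40035 = n12886 := ((D40035).symm.trans (sb E12017 (iv1 D26931)))
theorem E12022 : n40036 = n17298 := ((D40036).symm.trans (sb E12017 F43429))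
theorem E12023 : n17296 = n8881 := (((F30215).symm.trans (sb E12017 F118700))).symm
theorem E12024 : n55817 = n40034 := ((((iv4 F60902)).symm.trans (sb E12017 D55817))).symm
theorem E12025 : n55818 = n36418 := ((((iv5 F57179)).symm.trans (sb E12017 D55818))).symm
theorem E12027 : n40037 = n17297 := ((D40037).symm.trans (sb E12017 F118701))
theorem E12028 : n55749 = n40062 := (((F60957).symm.trans (sb E12018 D55749))).symm
theorem E12029 : n41386 = n38310 := (((iv2 F63822)).symm.trans (sb E12018 (iv2 F118628)))
theorem E12030 : n41387 = n12876 := ((D41387).symm.trans (sb E12018 (iv3 D26909)))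
theorem E12031 : n41388 = n38135 := ((D41388).symm.trans (sb E12018 (iv4 F117751)))
theorem E12032 : n55752 = n41389 := (((D41389).symm.trans (sb E12018 D55752))).symm
theorem E12033 : n55753 = n41390 := (((D41390).symm.trans (sb E12018 D55753))).symm
theorem E12034 : n41381 = n38305 := ((F63820).symm.trans (sb E12018 (iv7 F118623)))
theorem E12035 : n58054 = n18248 := (((F30237).symm.trans (sb E12019 F91819))).symm
theorem E12036 : n18349 = n18297 := ((D18349).symm.trans (sb E12020 (iv1 D38331)))
theorem E12037 : n18350 = n18302 := ((D18350).symm.trans (sb E12020 F59188))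
theorem E12039 : n26930 = n18944 := ((D26930).symm.trans (sb E12021 (iv1 F60907)))
theorem F118774 : act 1 n12886 = n18927 := (sb E12021 (iv0 D40035))
theorem E12040 : n39997 = n17726 := (((F28833).symm.trans (sb E12021 F60903))).symm
theorem F118775 : act 0 n17298 = n18927 := (sb E12022 (iv1 D40036))
theorem E12041 : n26932 = n18941 := (((D18941).symm.trans (sb E12023 (iv1 F43428)))).symm
theorem E12042 : n18942 = n8103 := ((D18942).symm.trans (sb E12023 (iv0 D17296)))
theorem F118776 : act 1 n40034 = n38972 := (sb E12024 F118713)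
theorem F118777 : act 7 n40034 = n35684 := (sb E12024 (iv7 F118704))
theorem E12046 : n35726 = n35685 := (((iv7 F118557)).symm.trans (sb E12025 (iv7 F118705)))
theorem E12047 : n35686 = n18954 := ((D35686).symm.trans (sb E12027 F60906))
theorem F118778 : act 7 n17297 = n18927 := (sb E12027 (iv7 D40037))
theorem E12048 : n38330 = n38179 := (((F60954).symm.trans (sb E12028 F118696))).symm
theorem F118779 : act 2 n38310 = n19494 := (sb E12029 F63822)
theorem F118780 : act 7 n38310 = n19493 := (sb E12029 (iv7 D41386))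
theorem F118781 : act 3 n12876 = n19494 := (sb E12030 (iv3 D41387))
theorem F118782 : act 4 n38135 = n19494 := (sb E12031 (iv4 D41388))
theorem F118783 : act 3 n41389 = n26911 := (sb E12032 F88190)
theorem F118784 : act 3 n41390 = n26912 := (sb E12033 F88191)
theorem F118785 : act 2 n38305 = n19493 := (sb E12034 (iv2 D41381))
theorem F118786 : act 7 n38305 = n19494 := (sb E12034 (iv7 F63820))
theorem E12049 : n38176 = n27682 := ((D38176).symm.trans (sb E12035 (iv1 D58054)))
theorem E12050 : n38177 = n38144 := ((D38177).symm.trans (sb E12035 (iv0 F117671)))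
theorem F118787 : act 1 n18297 = n8645 := (sb E12036 (iv0 D18349))
theorem E12054 : n38510 = n38333 := (((D38333).symm.trans (sb E12036 D38510))).symm
theorem E12055 : n38511 = n38334 := (((D38334).symm.trans (sb E12036 D38511))).symm
theorem F118788 : act 0 n18302 = n8645 := (sb E12037 (iv1 D18350))
theorem F118789 : act 0 n18944 = n17298 := (sb E12039 (iv1 F43425))
theorem F118790 : act 1 n18944 = n12886 := (sb E12039 (iv0 D26930))
theorem F118791 : act 2 n18944 = n17297 := (sb E12039 (iv2 F118698))
theorem E12061 : n55812 = n40072 := ((((iv4 F60973)).symm.trans (sb E12039 D55812))).symm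
theorem E12062 : n55813 = n40086 := ((((iv5 F60979)).symm.trans (sb E12039 D55813))).symm
theorem E12063 : n55814 = n17530 := (((F118115).symm.trans (sb E12039 D55814))).symm
theorem E12064 : n40058 = n36769 := (((D36769).symm.trans (sb E12040 (iv1 F61193)))).symm
theorem E12065 : n40203 = n36770 := (((D36770).symm.trans (sb E12040 (iv0 F61192)))).symm
theorem E12066 : n18912 = n8338 := ((((iv5 D17726)).symm.trans (sb E12040 (iv5 D39997)))).symm
theorem F118792 : act 0 n18941 = n17297 := (sb E12041 (iv1 F43430))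
theorem E12067 : n40073 = n12886 := ((D40073).symm.trans (sb E12041 (iv2 D26932)))
theorem E12068 : n40074 = n17276 := ((D40074).symm.trans (sb E12041 F43426))
theorem E12069 : n55820 = n40075 := (((D40075).symm.trans (sb E12041 D55820))).symm
theorem E12070 : n55821 = n40076 := (((D40076).symm.trans (sb E12041 D55821))).symm
theorem E12071 : n40077 = n36762 := ((D40077).symm.trans (sb E12041 F57658))
theorem E12072 : n40078 = n17298 := ((D40078).symm.trans (sb E12041 F43427))
theorem F118793 : act 0 n8103 = n8881 := (sb E12042 (iv1 D18942))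
theorem F118794 : act 0 n35685 = n17316 := (sb E12046 (iv1 D35726))
theorem F118795 : act 1 n35685 = n40083 := (sb E12046 (iv0 F118093))
theorem F118796 : act 7 n35685 = n36418 := (sb E12046 F118557)
theorem E12077 : n77778 = n40093 := ((((iv3 F60989)).symm.trans (sb E12047 (iv3 F118687)))).symm
theorem E12078 : n56241 = n40116 := ((((iv5 F61006)).symm.trans (sb E12047 F89786))).symm
theorem F118797 : act 6 n18954 = n17297 := (sb E12047 (iv6 D35686))
theorem F118798 : act 0 n38179 = n18302 := (sb E12048 (iv1 F59192))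
theorem F118799 : act 1 n38179 = n18297 := (sb E12048 (iv0 D38330))
theorem F118800 : act 0 n27682 = n18352 := (sb E12049 (iv1 F59037))
theorem F118801 : act 1 n27682 = n18248 := (sb E12049 (iv0 D38176))
theorem F118802 : act 0 n38144 = n18248 := (sb E12050 (iv1 D38177))
theorem F118803 : act 1 n38144 = n18352 := (sb E12050 F59033)
theorem F118804 : act 0 n38333 = n75670 := (sb E12054 F113529)
theorem F118805 : act 5 n38334 = n75574 := (sb E12055 F113421)
theorem F118806 : act 0 n40072 = n38972 := (sb E12061 F88286)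
theorem F118807 : act 2 n40072 = n35684 := (sb E12061 (iv2 F118712))
theorem F118808 : act 2 n40086 = n35685 := (sb E12062 (iv2 F118711))
theorem E12079 : n36379 = n36298 := (((D36298).symm.trans (sb E12063 F89732))).symm
theorem E12080 : n56375 = n39992 := (((iv1 F89211)).symm.trans (sb E12064 (iv1 F61190)))
theorem F118809 : act 2 n36769 = n18984 := (sb E12064 F61146)
theorem F118810 : act 3 n36769 = n38667 := (sb E12064 F60946)
theorem F118811 : act 5 n36769 = n40187 := (sb E12064 (iv5 F61109))
theorem F118812 : act 6 n36769 = n18934 := (sb E12064 (iv6 D40058))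
theorem F118813 : act 7 n36769 = n40187 := (sb E12064 (iv7 F61115))
theorem F118814 : act 2 n36770 = n40187 := (sb E12065 F61187)
theorem F118815 : act 5 n36770 = n18984 := (sb E12065 (iv5 D40203))
theorem F118816 : act 6 n36770 = n40055 := (sb E12065 F61188)
theorem F118817 : act 7 n36770 = n18984 := (sb E12065 (iv7 F61191))
theorem E12081 : n17722 = n8867 := ((D17722).symm.trans (sb E12066 (iv1 D18912)))
theorem E12082 : n21892 = n17723 := (((D17723).symm.trans (sb E12066 F34373))).symm
theorem E12086 : n39998 = n17727 := (((D17727).symm.trans (sb E12066 D39998))).symm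
theorem F118818 : act 2 n12886 = n18941 := (sb E12067 (iv2 D40073))
theorem F118819 : act 3 n17276 = n18941 := (sb E12068 (iv3 D40074))
theorem F118820 : act 0 n40075 = n35691 := (sb E12069 (iv1 F88290))
theorem F118821 : act 1 n40075 = n35690 := (sb E12069 F88291)
theorem F118822 : act 2 n40075 = n26933 := (sb E12069 F88288)
theorem F118823 : act 7 n40075 = n35687 := (sb E12069 F88289)
theorem E12088 : n77322 = n35696 := ((F116121).symm.trans (sb E12070 (iv1 F88295)))
theorem F118824 : act 1 n40076 = n35695 := (sb E12070 F88296)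
theorem F118825 : act 2 n40076 = n26934 := (sb E12070 F88292)
theorem F118826 : act 3 n40076 = n35645 := (sb E12070 F88293)
theorem F118827 : act 7 n40076 = n35688 := (sb E12070 F88294)
theorem E12089 : n56382 = n18984 := (((iv1 F89220)).symm.trans (sb E12071 (iv1 F61175)))
theorem E12090 : n56381 = n40187 := ((F89219).symm.trans (sb E12071 (iv0 F61110)))
theorem E12091 : n21891 = n17724 := ((((iv5 D36762)).symm.trans (sb E12071 F60975))).symm
theorem F118828 : act 6 n36762 = n18941 := (sb E12071 (iv6 D40077))
theorem F118829 : act 7 n17298 = n18941 := (sb E12072 (iv7 D40078))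
theorem F118830 : act 6 n40093 = n35494 := (sb E12077 (iv6 D77778))
theorem F118831 : act 0 n40116 = n27100 := (sb E12078 (iv1 D56241))
theorem F118832 : act 1 n40116 = n36381 := (sb E12078 F88957)
theorem E12093 : n56242 = n40114 := ((((iv1 F118518)).symm.trans (sb E12079 (iv1 F88956)))).symm
theorem E12094 : n40113 = n17567 := ((F118519).symm.trans (sb E12079 (iv0 D36379)))
theorem E12095 : n56240 = n40041 := (((F118515).symm.trans (sb E12079 (iv7 F118721)))).symm
theorem F118833 : act 0 n39992 = n36770 := (sb E12080 (iv1 F89210))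
theorem F118834 : act 1 n39992 = n36769 := (sb E12080 F89211)
theorem F118835 : act 2 n39992 = n27144 := (sb E12080 F89207)
theorem F118836 : act 3 n39992 = n36724 := (sb E12080 F89208)
theorem E12096 : n27142 = n18911 := ((((iv5 D39992)).symm.trans (sb E12080 (iv5 D56375)))).symm
theorem F118837 : act 7 n39992 = n36762 := (sb E12080 F89209)
theorem F118838 : act 1 n8867 = n8338 := (sb E12081 (iv0 D17722))
theorem E12097 : n36751 = n10443 := ((((iv2 F16632)).symm.trans (sb E12081 D36751))).symm
theorem E12098 : n36752 = n10434 := ((((iv3 F16613)).symm.trans (sb E12081 D36752))).symm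
theorem E12101 : n36756 = n18913 := (((D18913).symm.trans (sb E12081 D36756))).symm
theorem E12102 : n45772 = n36607 := ((((iv3 F118648)).symm.trans (sb E12082 (iv3 F72236)))).symm
theorem E12103 : n45782 = n36758 := (((D36758).symm.trans (sb E12082 (iv4 F72269)))).symm
theorem E12104 : n36760 = n18923 := ((D36760).symm.trans (sb E12082 F34371))
theorem E12105 : n77275 = n36773 := (((D36773).symm.trans (sb E12086 (iv0 F118529)))).symm
theorem F118839 : act 1 n35696 = n40076 := (sb E12088 (iv0 F116121))
theorem F118840 : act 5 n35696 = n35293 := (sb E12088 (iv5 D77322))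
theorem E12106 : n40202 = n27144 := ((D40202).symm.trans (sb E12089 (iv1 D56382)))
theorem F118841 : act 1 n18984 = n36762 := (sb E12089 F89220)
theorem F118842 : act 0 n40187 = n36762 := (sb E12090 (iv1 F89219))
theorem E12107 : n27141 = n10443 := (((iv1 F43873)).symm.trans (sb E12091 (iv1 D21891)))
theorem E12108 : n27140 = n18913 := ((F43869).symm.trans (sb E12091 F34368))
theorem E12112 : n45790 = n36763 := (((D36763).symm.trans (sb E12091 D45790))).symm
theorem F118843 : act 2 n40114 = n27100 := (sb E12093 (iv2 D56242))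
theorem F118844 : act 3 n40114 = n36390 := (sb E12093 F88954)
theorem E12114 : n56376 = n39993 := ((((iv5 F61004)).symm.trans (sb E12093 F89214))).symm
theorem F118845 : act 7 n40114 = n36381 := (sb E12093 F88955)
theorem F118846 : act 0 n17567 = n36298 := (sb E12094 (iv1 F118519))
theorem F118847 : act 1 n17567 = n18953 := (sb E12094 (iv0 D40113))
theorem F118848 : act 0 n40041 = n36381 := (sb E12095 (iv1 F88953))
theorem F118849 : act 1 n40041 = n27100 := (sb E12095 (iv0 D56240))
theorem F118850 : act 0 n18911 = n17723 := (sb E12096 (iv1 F43874))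
theorem F118851 : act 2 n18911 = n13000 := (sb E12096 (iv2 D27142))
theorem E12115 : n39990 = n17704 := ((D39990).symm.trans (sb E12096 F43870))
theorem E12116 : n56374 = n39991 := (((D39991).symm.trans (sb E12096 D56374))).symm
theorem F118852 : act 7 n18911 = n17724 := (sb E12096 F43871)
theorem F118853 : act 7 n10443 = n17723 := (sb E12097 (iv7 F57653))
theorem E12117 : n56790 = n16761 := ((((iv4 F27533)).symm.trans (sb E12098 F89794))).symm
theorem F118854 : act 2 n18913 = n17723 := (sb E12101 F57654)
theorem F118855 : act 0 n36607 = n21936 := (sb E12102 (iv1 F72240))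
theorem E12118 : n21935 = n17653 := ((((iv0 D36607)).symm.trans (sb E12102 F72241))).symm
theorem F118857 : act 6 n36607 = n40005 := (sb E12102 F72238)
theorem F118858 : act 7 n36607 = n21886 := (sb E12102 (iv7 D45772))
theorem F118859 : act 0 n36758 = n39986 := (sb E12103 (iv1 F72272))
theorem F118860 : act 1 n36758 = n39985 := (sb E12103 F72273)
theorem F118861 : act 2 n36758 = n39988 := (sb E12103 F72268)
theorem F118862 : act 6 n36758 = n40013 := (sb E12103 F72270)
theorem F118863 : act 7 n36758 = n21889 := (sb E12103 (iv7 D45782))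
theorem F118864 : act 6 n18923 = n17723 := (sb E12104 (iv6 D36760))
theorem F118865 : act 2 n36773 = n35288 := (sb E12105 F116056)
theorem F118866 : act 5 n36773 = n35813 := (sb E12105 F116057)
theorem F118867 : act 6 n36773 = n35274 := (sb E12105 (iv6 D77275))
theorem F118868 : act 0 n27144 = n40187 := (sb E12106 F61186)
theorem F118869 : act 1 n27144 = n18984 := (sb E12106 (iv0 D40202))
theorem E12119 : n21890 = n13000 := ((((iv5 D27144)).symm.trans (sb E12106 F61185))).symm
theorem F118870 : act 1 n10443 = n17724 := (sb E12107 F43873)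
theorem F118871 : act 0 n18913 = n17724 := (sb E12108 (iv1 F43869))
theorem E12125 : n56351 = n21879 := ((((iv3 F34341)).symm.trans (sb E12108 (iv3 F118617)))).symm
theorem E12126 : n56366 = n39988 := ((((iv4 F60861)).symm.trans (sb E12108 D56366))).symm
theorem F118872 : act 1 n36763 = n35288 := (sb E12112 F118541)
theorem F118873 : act 2 n39993 = n27145 := (sb E12114 F89212)
theorem F118874 : act 3 n39993 = n36725 := (sb E12114 F89213)
theorem F118875 : act 3 n17704 = n18911 := (sb E12115 (iv3 D39990))
theorem F118876 : act 0 n39991 = n36765 := (sb E12116 (iv1 F89205))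
theorem F118877 : act 1 n39991 = n36764 := (sb E12116 F89206)
theorem F118878 : act 2 n39991 = n27143 := (sb E12116 F89203)
theorem F118879 : act 7 n39991 = n36761 := (sb E12116 F89204)
theorem E12128 : n34569 = n27276 := ((D34569).symm.trans (sb E12117 (iv1 D56790)))
theorem E12129 : n34570 = n34553 := ((D34570).symm.trans (sb E12117 F117769))
theorem E12130 : n36608 = n10468 := ((D36608).symm.trans (sb E12118 (iv0 D21935)))
theorem E12131 : n45860 = n36609 := (((D36609).symm.trans (sb E12118 D45860))).symm
theorem E12136 : n45865 = n36506 := ((((iv7 F91343)).symm.trans (sb E12118 D45865))).symm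
theorem F118880 : act 0 n13000 = n18913 := (sb E12119 (iv1 F34372))
theorem F118881 : act 1 n13000 = n10443 := (sb E12119 (iv0 D21890))
theorem E12140 : n27136 = n10478 := ((((iv1 F34345)).symm.trans (sb E12125 (iv1 D56351)))).symm
theorem E12141 : n75492 = n10477 := (((F34346).symm.trans (sb E12125 F118609))).symm
theorem E12142 : n37441 = n34572 := ((((iv4 F54842)).symm.trans (sb E12125 F118618))).symm
theorem E12143 : n45780 = n37392 := (((iv1 F72266)).symm.trans (sb E12126 F89201))
theorem E12144 : n56789 = n21958 := ((D56789).symm.trans (sb E12128 (iv1 F54844)))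
theorem F118882 : act 1 n27276 = n16761 := (sb E12128 (iv0 D34569))
theorem F118883 : act 0 n34553 = n16761 := (sb E12129 (iv1 D34570))
theorem F118884 : act 0 n10468 = n17653 := (sb E12130 (iv1 D36608))
theorem E12155 : n56350 = n4765 := (((F16668).symm.trans (sb E12130 (iv3 F89809)))).symm
theorem E12156 : n56751 = n21934 := ((((iv4 F34437)).symm.trans (sb E12130 (iv4 F118612)))).symm
theorem F118885 : act 7 n36609 = n21936 := (sb E12131 (iv7 F72425))
theorem F118886 : act 2 n36506 = n21936 := (sb E12136 F72426)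
theorem E12157 : n37910 = n21964 := ((((iv2 F34463)).symm.trans (sb E12140 (iv2 F118605)))).symm
theorem E12158 : n21965 = n12997 := ((D21965).symm.trans (sb E12140 (iv3 D27136)))
theorem E12159 : n34544 = n21966 := (((D21966).symm.trans (sb E12140 F117809))).symm
theorem E12160 : n56354 = n21967 := (((D21967).symm.trans (sb E12140 D56354))).symm
theorem E12163 : n37349 = n21960 := (((D21960).symm.trans (sb E12141 F118610))).symm
theorem E12164 : n34543 = n21961 := (((D21961).symm.trans (sb E12141 (iv4 D75492)))).symm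
theorem E12165 : n21956 = n17977 := (((iv1 F54845)).symm.trans (sb E12142 (iv1 D37441)))
theorem E12166 : n21955 = n18170 := ((F54846).symm.trans (sb E12142 F117797))
theorem F118887 : act 0 n37392 = n21889 := (sb E12143 (iv1 D45780))
theorem F118888 : act 1 n37392 = n39988 := (sb E12143 F72266)
theorem F118889 : act 0 n21958 = n34553 := (sb E12144 F117770)
theorem F118890 : act 1 n21958 = n27276 := (sb E12144 (iv0 D56789))
theorem E12167 : n37440 = n10476 := ((((iv4 F16687)).symm.trans (sb E12155 F89807))).symm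
theorem E12168 : n45856 = n27265 := ((D45856).symm.trans (sb E12156 (iv1 D56751)))
theorem E12169 : n45857 = n27270 := ((D45857).symm.trans (sb E12156 F89745))
theorem E12170 : n45949 = n18165 := (((iv4 F72526)).symm.trans (sb E12157 (iv4 D37910)))
theorem E12175 : n45963 = n27138 := (((D27138).symm.trans (sb E12158 D45963))).symm
theorem E12176 : n45964 = n27139 := (((D27139).symm.trans (sb E12158 D45964))).symm
theorem E12177 : n45933 = n27118 := (((F89148).symm.trans (sb E12158 (iv7 F72514)))).symm
theorem E12178 : n45945 = n16752 := (((iv1 F72523)).symm.trans (sb E12159 (iv1 D34544)))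
theorem E12179 : n45944 = n18167 := ((F72527).symm.trans (sb E12159 F54794))
theorem E12180 : n75496 = n45965 := (((D45965).symm.trans (sb E12159 D75496))).symm
theorem E12181 : n75498 = n45966 := (((D45966).symm.trans (sb E12159 D75498))).symm
theorem E12182 : n75499 = n45967 := (((D45967).symm.trans (sb E12159 D75499))).symm
theorem E12183 : n45934 = n18164 := (((iv7 F72516)).symm.trans (sb E12159 F118599))
theorem E12184 : n45968 = n38307 := ((D45968).symm.trans (sb E12160 F118620))
theorem E12185 : n40059 = n38305 := (((iv6 F60947)).symm.trans (sb E12160 (iv6 F118622)))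
theorem E12186 : n45939 = n27131 := ((D45939).symm.trans (sb E12163 F89184))
theorem E12187 : n45940 = n17935 := ((D45940).symm.trans (sb E12163 (iv4 D37349)))
theorem E12188 : n75491 = n45946 := (((D45946).symm.trans (sb E12164 D75491))).symm
theorem E12189 : n75493 = n45947 := (((D45947).symm.trans (sb E12164 D75493))).symm
theorem E12190 : n75494 = n45948 := (((D45948).symm.trans (sb E12164 D75494))).symm
theorem F118892 : act 1 n17977 = n34572 := (sb E12165 F54845)
theorem F118893 : act 0 n18170 = n34572 := (sb E12166 (iv1 F54846))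
theorem E12199 : n45920 = n37933 := (((D37933).symm.trans (sb E12166 D45920))).symm
theorem E12200 : n45921 = n37934 := (((D37934).symm.trans (sb E12166 D45921))).symm
theorem F118894 : act 0 n10476 = n18170 := (sb E12167 F117796)
theorem F118895 : act 1 n10476 = n17977 := (sb E12167 (iv0 D37440))
theorem F118896 : act 1 n27265 = n21934 := (sb E12168 (iv0 D45856))
theorem F118897 : act 0 n27270 = n21934 := (sb E12169 (iv1 D45857))
theorem F118899 : act 4 n18165 = n21964 := (sb E12170 F72526)
theorem F118900 : act 7 n18165 = n21961 := (sb E12170 (iv7 D45949))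
theorem F118901 : act 3 n27138 = n21967 := (sb E12175 F72542)
theorem F118902 : act 3 n27139 = n21968 := (sb E12176 F72543)
theorem F118903 : act 3 n27118 = n21959 := (sb E12177 (iv3 D45933))
theorem F118904 : act 0 n16752 = n21961 := (sb E12178 (iv1 D45945))
theorem F118905 : act 1 n16752 = n21966 := (sb E12178 F72523)
theorem F118906 : act 0 n18167 = n21966 := (sb E12179 (iv1 F72527))
theorem F118908 : act 4 n45965 = n56356 := (sb E12180 F118734)
theorem F118909 : act 7 n45965 = n37904 := (sb E12180 (iv7 F118629))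
theorem F118910 : act 2 n45966 = n37911 := (sb E12181 F118606)
theorem F118911 : act 7 n45966 = n37906 := (sb E12181 (iv7 F118630))
theorem F118912 : act 1 n45967 = n34625 := (sb E12182 F118736)
theorem F118913 : act 2 n45967 = n37912 := (sb E12182 F118607)
theorem F118914 : act 2 n18164 = n21961 := (sb E12183 F72515)
theorem F118915 : act 4 n18164 = n21959 := (sb E12183 (iv4 D45934))
theorem F118916 : act 7 n18164 = n21966 := (sb E12183 F72516)
theorem F118917 : act 4 n38307 = n21967 := (sb E12184 (iv4 D45968))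
theorem F118918 : act 0 n38305 = n19496 := (sb E12185 (iv1 F60956))
theorem F118919 : act 1 n38305 = n18936 := (sb E12185 (iv0 D40059))
theorem F118920 : act 6 n38305 = n21967 := (sb E12185 F60947)
theorem F118921 : act 2 n27131 = n21960 := (sb E12186 (iv2 D45939))
theorem F118922 : act 4 n17935 = n21960 := (sb E12187 (iv4 D45940))
theorem F118923 : act 4 n45946 = n37348 := (sb E12188 (iv4 F118616))
theorem F118924 : act 7 n45946 = n37909 := (sb E12188 F118602)
theorem F118925 : act 2 n45947 = n37906 := (sb E12189 F118631)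
theorem F118926 : act 7 n45947 = n37911 := (sb E12189 F118604)
theorem F118927 : act 2 n45948 = n37907 := (sb E12190 (iv2 F118633))
theorem F118928 : act 0 n37933 = n38672 := (sb E12199 F72508)
theorem F118929 : act 5 n37934 = n38542 := (sb E12200 F72509)
theorem F118930 : act 1 n37442 = n38672 := d15_0 (iv0 F118928) (iv7 F113343) (iv2 F117798)
theorem E12201 : n38671 = n38334 := (c17_9 F29635 D18447 F117733 (iv5 D17978) D17977 D37442 F118930 (iv5 D38672) D38671 F59189)
theorem F118931 : act 0 n38334 = n18398 := (sb E12201 (iv1 D38671))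
theorem F118932 : act 1 n38673 = n37936 := d18_6 F29592 (iv4 F59189) F118931 (iv4 F59485) (iv5 F72528) (iv4 F72533) (iv4 D37936) F29636 (iv5 F29591)
theorem E12202 : n38800 = n38670 := (c15_4 (iv0 D38670) (iv0 F118931) F59657 (iv2 F59825))
theorem F118933 : act 2 n38670 = n37936 := (sb E12202 F59825)
theorem F118934 : act 4 n38670 = n18445 := (sb E12202 (iv4 D38800))
theorem F118935 : act 7 n38670 = n37446 := (sb E12202 F117753)
theorem F118936 : act 0 n41385 = n38667 := d18_0 F59485 D38670 F118934 (iv5 F117763) D27276 F118882 F27533 D21878 (iv5 F63821)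
theorem F118937 : act 1 n37446 = n38673 := d15_0 F118932 (iv7 F59657) (iv2 F117718)
theorem F118938 : act 1 n38219 = n37446 := d15_0 F118937 (iv7 D38673) (iv2 F61161)
theorem F118939 : act 5 n45928 = n37446 := d17_7 F72532 (iv5 D21967) (iv1 D10478) F7220 (iv4 F16687) D21957 D45928 F118937 F72533
theorem F118940 : act 4 n58588 = n45941 := d20_8 (iv4 F72533) (iv1 F118937) (iv4 D37446) F29144 (iv1 F13696) (iv3 F22093) (iv4 F45002) D58588 F72520 D45950
theorem F118941 : act 2 n75574 = n45928 := d2_3 F118939 F117718 F118805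
theorem F118942 : act 7 n75573 = n45928 := d13_0 F118939 (iv7 F118935) (iv5 F113427)
theorem F118943 : act 2 n75573 = n45927 := d15_3 (iv0 D45927) D45928 (iv7 F118942)
theorem F118944 : act 5 n45927 = n37936 := d2_2 (iv5 F113427) F118943 (iv2 F118933)
theorem F118945 : act 7 n45927 = n75574 := d4_2 (iv7 F118942) F118943 F118941
theorem F118946 : act 1 n37936 = n38219 := d17_8 (iv1 D45951) (iv5 D21962) (iv1 F34346) F34342 (iv4 F54842) (iv5 F113424) F113428 F118944 (iv4 F72536)
theorem F118947 : act 4 n37907 = n45936 := d1_2 (iv4 F72524) F118927 F72519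
theorem F118948 : act 3 n45936 = n36231 := d20_3 (iv4 F113593) F113594 F118947 F118513 F57592 (iv4 F42958) (iv1 F53148) F53147 (iv3 F117787) (iv1 F59315)
theorem F118949 : act 2 n56335 = n45942 := d0_3 F118948 F89147 (iv3 F89099) F72521 (iv2 F72519)
theorem F118950 : act 5 n36229 = n45936 := d6_0 F118948 (iv5 D36231) D36229
theorem F118951 : act 2 n41437 = n36229 := d2_3 F118950 F72519 F63881
theorem F118952 : act 7 n41436 = n36229 := d15_2 F74952 F74953 (iv2 F118951)
theorem F118953 : act 3 n36079 = n41436 := d8_3 F118952 (iv3 D36229) (iv7 F89190)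
theorem F118954 : act 4 n45942 = n37351 := d10_3 (iv6 D37351) F118922 D45942
theorem F118955 : act 4 n45943 = n37250 := d11_3 F89183 F118922 D45943
theorem F118956 : act 5 n45938 = n45938 := d18_9 (iv1 D45938) (iv4 F118922) (iv1 F58203) F58201 F29077 (iv4 F58201) F58203 F118922 D45938
theorem F118957 : act 2 n37354 = n45943 := d1_3 F118955 F89182 D37354
theorem E12203 : n45932 = n10434 := (c20_11 (iv4 F27533) (iv1 F118882) (iv4 D27276) (iv3 D13064) (iv1 F9686) (iv3 F13261) (iv4 F29108) (iv1 F58198) (iv4 F118955) F72522 (iv1 F72513))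
theorem E12204 : n21959 = n21877 := (((D21877).symm.trans (sb E12203 (iv1 D45932)))).symm
theorem E12205 : n21964 = n21878 := (((D21878).symm.trans (sb E12203 F72513))).symm
theorem E12207 : n45759 = n10477 := ((D45759).symm.trans (sb E12204 (iv2 D21959)))
theorem E12208 : n45760 = n27118 := ((D45760).symm.trans (sb E12204 (iv3 F118903)))
theorem E12209 : n45761 = n18164 := ((D45761).symm.trans (sb E12204 (iv4 F118915)))
theorem E12210 : n45935 = n45762 := (((D45762).symm.trans (sb E12204 D45935))).symm
theorem E12211 : n45936 = n45763 := (((D45763).symm.trans (sb E12204 D45936))).symm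
theorem E12213 : n45943 = n45765 := (((D45765).symm.trans (sb E12205 (iv3 F72522)))).symm
theorem E12214 : n45766 = n18165 := ((D45766).symm.trans (sb E12205 (iv4 F118899)))
theorem E12215 : n45954 = n41385 := ((((iv5 F63821)).symm.trans (sb E12205 (iv5 F72540)))).symm
theorem E12216 : n45958 = n45767 := (((D45767).symm.trans (sb E12205 D45958))).symm
theorem F118959 : act 2 n10477 = n21877 := (sb E12207 (iv2 D45759))
theorem F118960 : act 7 n10477 = n21878 := (sb E12207 (iv7 F72223))
theorem F118961 : act 3 n27118 = n21877 := (sb E12208 (iv3 D45760))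
theorem F118962 : act 4 n18164 = n21877 := (sb E12209 (iv4 D45761))
theorem F118963 : act 2 n45762 = n21962 := (sb E12210 F72517)
theorem F118964 : act 7 n45762 = n21967 := (sb E12210 F72518)
theorem F118965 : act 2 n45763 = n21963 := (sb E12211 F72519)
theorem F118966 : act 3 n45763 = n36231 := (sb E12211 F118948)
theorem F118967 : act 4 n45763 = n37907 := (sb E12211 (iv4 F118947))
theorem E12217 : n47672 = n36229 := ((F74948).symm.trans (sb E12211 (iv5 F118950)))
theorem F118971 : act 2 n45765 = n37354 := (sb E12213 (iv2 F118957))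
theorem F118972 : act 4 n45765 = n37250 := (sb E12213 F118955)
theorem F118973 : act 7 n45765 = n21960 := (sb E12213 (iv7 D45943))
theorem F118974 : act 4 n18165 = n21878 := (sb E12214 (iv4 D45766))
theorem F118975 : act 2 n41385 = n21967 := (sb E12215 F72539)
theorem F118976 : act 7 n41385 = n21962 := (sb E12215 (iv7 D45954))
theorem F118977 : act 2 n45767 = n21968 := (sb E12216 F72541)
theorem F118978 : act 0 n36229 = n22948 := (sb E12217 (iv1 D47672))
theorem F118979 : act 1 n36229 = n41439 := (sb E12217 F74947)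
theorem F118980 : act 4 n36229 = n38481 := (sb E12217 (iv4 F118124))
theorem F118981 : act 5 n36229 = n45763 := (sb E12217 (iv5 F74948))
theorem F118982 : act 7 n47671 = n41437 := d15_2 F118979 F74951 F118951
theorem F118983 : act 2 n41436 = n47671 := d4_3 F118982 F118951 (iv7 F118952)
theorem F118984 : act 5 n45957 = n47671 := d13_3 F118982 (iv5 F63881) D45957
theorem F118985 : act 4 n37912 = n45767 := d1_0 F118977 (iv4 F72544) F118913
theorem F118986 : act 0 n45765 = n56332 := d20_4 (iv4 F54797) (iv1 F54800) F118974 D45765 (iv3 F89819) F89817 (iv1 F89816) (iv4 D37413) F117768 (iv1 F27515)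
theorem F118987 : act 0 n56673 = n45859 := d20_7 (iv4 F118974) (iv1 D18165) F13407 (iv3 F13374) D18137 F118640 D56673 F72424 F34438 (iv1 F34339)
theorem F118988 : act 0 n37909 = n54864 := d20_4 F34461 (iv1 F34339) (iv4 F118974) D37909 F86810 F42498 F113935 D54727 F86537 (iv1 F118890)
theorem F118989 : act 1 n56676 = n45859 := d15_0 (iv0 F118987) F117381 (iv2 F117394)
theorem F118990 : act 1 n37540 = n56676 := d15_0 F118989 (iv7 D45859) (iv2 F58435)
theorem F118991 : act 1 n56673 = n37540 := d15_0 F118990 F117395 (iv2 F117380)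
theorem F118992 : act 1 n37354 = n45937 := d15_0 (iv0 D45937) (iv7 F118973) F118971
theorem F118994 : act 4 n39985 = n37254 := d20_8 (iv4 F29108) (iv1 F58198) (iv4 F118972) (iv3 D45765) (iv1 D21878) F16613 (iv4 F30191) D39985 (iv3 D37254) (iv1 F29078)
theorem F118995 : act 7 n37392 = n39985 := d11_0 F118994 F116858 D37392
theorem E12218 : n56668 = n45867 := ((c20_1 D45867 (iv1 D56668) F44070 F21760 D17905 D37254 (iv4 F118994) (iv1 F118860) (iv4 D36758) (iv3 F118648) F118855)).symm
theorem F118996 : act 0 n45867 = n27241 := (sb E12218 (iv1 D56668))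
theorem F118997 : act 1 n45867 = n27262 := (sb E12218 F89628)
theorem F118998 : act 2 n45867 = n27260 := (sb E12218 F91367)
theorem F118999 : act 7 n45867 = n27259 := (sb E12218 F91368)
theorem F119000 : act 0 n45866 = n56388 := d20_4 (iv4 F44110) (iv1 F118997) (iv4 D45867) D45866 (iv3 D56388) D56389 F118659 (iv4 D37833) F118640 (iv1 F44076)
theorem F119001 : act 2 n39985 = n45779 := d15_3 (iv0 D45779) (iv0 F118887) F118995
theorem F119002 : act 2 n37392 = n39986 := d15_3 (iv0 F118859) F118860 (iv7 F118995)
theorem F119003 : act 4 n39986 = n37391 := d1_2 D37392 F119002 (iv2 D37391)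
theorem F119004 : act 7 n39986 = n45779 := d4_2 (iv7 F118995) F119002 (iv2 F119001)
theorem F119005 : act 4 n45779 = n75469 := d11_1 F119004 F118665 (iv4 F119003)
theorem F119006 : act 3 n56289 = n45762 := d8_3 F118964 (iv3 F118901) F89140
theorem F119007 : act 2 n45941 = n56334 := d0_3 F119006 F118963 (iv3 F72520) F89098 F89139
theorem F119008 : act 1 n45938 = n37354 := d15_1 D45938 F89158 F118921
theorem F119009 : act 5 n37357 = n58588 := d17_3 (iv1 D17936) D17937 D37357 F118940 (iv5 D45941) D45938 F118956 F119008 (iv4 D37354)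
theorem E12219 : n40060 = n38310 := (c15_2 F118919 D40060 F118780 (iv2 F118785))
theorem F119010 : act 0 n38310 = n18936 := (sb E12219 (iv1 D40060))
theorem F119011 : act 1 n38310 = n19496 := (sb E12219 F60948)
theorem F119012 : act 4 n38971 = n40070 := d20_6 (iv4 D38305) (iv1 F58981) F58977 (iv3 F58950) F117661 (iv3 F116305) (iv1 D40070) F30247 (iv3 F30236) (iv1 F118919)
theorem F119013 : act 2 n40070 = n38972 := d1_1 F119012 (iv4 D38972) D38971
theorem F119014 : act 0 n35684 = n40070 := d20_1 D35684 (iv4 F119012) F116305 (iv1 F117853) F56754 (iv4 F59120) F117854 (iv4 D35644) F118819 F118792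
theorem F119015 : act 0 n38309 = n54936 := d20_4 (iv4 F31216) (iv1 F119011) (iv4 D38310) D38309 F86887 F42559 D26572 D54942 F86900 F118800
theorem E12220 : n45952 = n38793 := (c17_5 (iv1 D10478) F7220 D10477 D21962 D45952 (iv5 F113316) (iv0 D75500) (iv5 D34545) F118905 (iv4 D21966))
theorem F119016 : act 4 n38793 = n21962 := (sb E12220 (iv4 D45952))
theorem F119018 : act 3 n45972 = n56363 := d8_3 (iv7 D56363) F118902 D45972
theorem F119019 : act 7 n56750 = n37540 := d15_2 (iv0 F118897) F89749 F58435
theorem F119021 : act 6 n37623 = n56750 := d14_5 F119019 (iv6 D37540) (iv7 F30194) D40001 (iv7 F118261)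
theorem E12221 : n45771 = n36506 := (c20_5 D27276 (iv1 F118890) F34461 (iv3 F34438) (iv1 F72234) (iv3 D36506) D36507 F118739 F54778 F27501 (iv1 F117761))
theorem F119022 : act 0 n36506 = n21886 := (sb E12221 (iv1 D45771))
theorem F119023 : act 1 n36506 = n21937 := (sb E12221 F72234)
theorem E12222 : n45770 = n36609 := (c15_2 F119023 F72239 F118885 (iv2 F118886))
theorem F119024 : act 0 n36609 = n21937 := (sb E12222 (iv1 F72239))
theorem F119025 : act 1 n36609 = n21886 := (sb E12222 (iv0 D45770))
theorem E12223 : n45866 = n36632 := (c0_3 D36506 F118886 D45866 (iv2 D36632) (iv3 D17658) (iv2 F91334))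
theorem F119026 : act 0 n36632 = n56388 := (sb E12223 F119000)
theorem F119027 : act 3 n36632 = n21936 := (sb E12223 (iv3 D45866))
theorem E12224 : n77784 = n45868 := ((c2_3 (iv5 F57338) F118886 D45868 F117146)).symm
theorem F119028 : act 2 n45868 = n35499 := (sb E12224 F117146)
theorem F119029 : act 4 n45868 = n57979 := (sb E12224 F117147)
theorem F119030 : act 6 n45868 = n35496 := (sb E12224 (iv6 D77784))
theorem F119031 : act 1 n57979 = n39722 := d18_6 (iv1 F44076) (iv4 F44110) (iv1 F118997) (iv4 D45867) D45868 F119029 F60587 F60576 F117167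
theorem F119032 : act 1 n39695 = n57979 := d15_0 F119031 (iv7 D39722) (iv2 F60567)
theorem F119033 : act 1 n77308 = n36383 := d15_1 (iv0 F116109) F57137 (iv2 F118873)
theorem E12225 : n77310 = n36775 := (c15_2 F118872 D77310 (iv7 D36775) (iv2 F57659))
theorem F119034 : act 0 n36775 = n35288 := (sb E12225 (iv1 D77310))
theorem F119035 : act 0 n75335 = n37443 := d20_7 (iv4 F46004) (iv1 F57693) F57690 (iv3 F57666) F119034 (iv3 F72466) (iv4 F112954) F58343 F29146 (iv1 F43155)
theorem F119036 : act 0 n56244 = n36693 := d21_7 (iv5 F61107) (iv1 F61113) (iv5 D18983) D18984 (iv1 F118869) (iv6 F56375) (iv5 F88961) (iv5 D36693) D36694 (iv1 F118527)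
theorem F119037 : act 5 n56384 = n36313 := d21_0 (iv1 F118098) (iv5 D40111) D40112 F118531 (iv6 F118816) F118815 (iv1 F118869) (iv5 D27144) D27145 D56384
theorem F119038 : act 6 n36683 = n56384 := d21_5 (iv5 D40055) (iv1 F30232) (iv5 F28074) (iv6 F28756) (iv1 F57561) F119037 (iv1 F118098) (iv5 D40111) D40112 F118531
theorem F119039 : act 2 n56384 = n36699 := d3_1 F119038 (iv6 D36699) (iv2 F114033)
theorem F119040 : act 3 n56384 = n45901 := d7_1 F119038 (iv6 D45901) (iv3 F71267)
theorem F119041 : act 7 n56384 = n77308 := d14_2 (iv7 F114034) F119038 (iv6 D77308) F114019 (iv6 D36694)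
theorem F119042 : act 7 n56228 = n36313 := d13_2 F119041 (iv5 F118535) (iv5 F119037)
theorem F119043 : act 2 n36313 = n56229 := d15_3 F88936 F88935 F119042
theorem F119044 : act 2 n56228 = n36314 := d15_3 (iv0 F118097) F118098 (iv7 F119042)
theorem F119045 : act 6 n36314 = n35813 := d3_2 F118544 F119044 (iv2 F116110)
theorem F119046 : act 7 n36314 = n56229 := d4_2 (iv7 F119042) F119044 (iv2 F119043)
theorem F119047 : act 7 n56385 = n36699 := d15_2 (iv0 D56384) D56385 (iv2 F119039)
theorem F119048 : act 2 n77308 = n56385 := d4_3 F119047 (iv2 F119039) F119041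
theorem F119049 : act 5 n36314 = n56385 := d13_3 F119047 F118545 (iv7 F119046)
theorem F119050 : act 6 n77274 = n56385 := d14_5 F119047 (iv6 D36699) (iv7 F114037) F57559 (iv7 F116055)
theorem F119051 : act 1 n36383 = n36699 := d15_1 F119033 (iv7 F119047) (iv2 F119048)
theorem F119052 : act 5 n36317 = n37001 := d21_0 (iv1 F118061) (iv5 D40022) D40023 (iv1 F118528) F119050 (iv5 F119049) (iv1 D36314) (iv5 D17534) D17535 D36317
theorem F119053 : act 6 n39979 = n36317 := d21_5 (iv5 D77274) (iv1 F56003) F28074 D18985 (iv1 F60845) F119052 (iv1 F118061) (iv5 D40022) D40023 (iv1 F118528)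
theorem F119054 : act 0 n36698 = n56244 := d21_1 D36698 F88961 F56375 F118868 (iv6 D40187) (iv5 D18978) (iv1 F30234) (iv5 F56002) (iv6 F57564) (iv1 F57565)
theorem F119055 : act 0 n41438 = n38473 := d20_7 (iv4 F44794) (iv1 F44795) F41782 D27100 (iv1 F118849) F60915 D41438 (iv4 D38473) (iv3 F117789) (iv1 F22051)
theorem F119056 : act 0 n56270 = n35783 := d21_7 F28280 F13825 D17120 (iv6 F30263) (iv1 F118847) D36384 (iv5 F88998) (iv5 F57170) (iv6 D36415) (iv1 F28572)
theorem F119057 : act 6 n57999 = n39145 := d10_2 F118830 F118684 (iv4 F118086)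
theorem F119058 : act 7 n37456 = n57999 := d14_0 F119057 F118133 (iv6 D40089) F30256 D37456
theorem F119059 : act 5 n55825 = n77277 := d21_8 F28068 D18933 D40055 (iv6 F118816) (iv1 D36770) (iv6 F28833) D26934 D55825 (iv6 D77277) (iv1 D35275)
theorem F119060 : act 2 n35696 = n55825 := d2_3 F119059 F116062 (iv5 F118840)
theorem F119061 : act 6 n36693 = n55825 := d12_0 F119059 (iv6 D77277) (iv5 F57570) (iv6 D36694) D36693
theorem F119062 : act 7 n55826 = n35696 := d15_2 (iv0 D55825) D55826 F119060
theorem F119063 : act 7 n35695 = n55825 := d15_2 F118839 F118824 (iv2 F119060)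
theorem F119064 : act 2 n55826 = n35695 := d4_3 F119063 (iv2 F119060) (iv7 F119062)
theorem F119065 : act 5 n77323 = n55826 := d13_3 F119062 F118840 D77323
theorem F119066 : act 6 n35684 = n40102 := d3_2 (iv6 F118415) F118807 F118413
theorem F119067 : act 1 n35684 = n40069 := d15_0 (iv0 D40069) D40072 F118807
theorem F119068 : act 7 n40069 = n38972 := d15_2 (iv0 F119014) F119067 (iv2 F119013)
theorem F119069 : act 4 n38896 = n40069 := d20_6 F118764 (iv1 D57954) F44577 F21992 D18478 D38896 (iv1 F119067) (iv4 D35684) F118685 (iv1 F118761)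
theorem F119070 : act 0 n77827 = n58063 := d20_7 F119069 (iv1 F119067) (iv4 D35684) F118685 (iv1 F118761) F118763 D77827 (iv4 D58063) D58062 (iv1 F116911)
theorem E12226 : n41382 = n38930 := ((c20_3 (iv4 F13614) D18489 D38930 (iv3 D41382) (iv1 F60958) F60953 (iv4 F60973) F118806 (iv4 D38972) (iv3 D18499) (iv1 D8695))).symm
theorem F119071 : act 3 n38930 = n19493 := (sb E12226 (iv3 D41382))
theorem F119072 : act 0 n40216 = n35698 := d21_4 (iv5 D17583) (iv1 F13865) D18989 D40216 (iv6 D35698) (iv5 D17300) F118793 D18943 F30248 (iv1 F28569)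
theorem F119073 : act 1 n38876 = n38363 := d18_6 (iv1 F29415) D18302 F118788 (iv4 F14308) D19495 (iv4 F59905) (iv4 D38363) F58997 F58995
theorem F119074 : act 1 n38359 = n38876 := d15_0 F119073 F117903 (iv2 F118571)
theorem E12227 : n41383 = n38134 := (c1_3 D38305 F118785 D41383 F118626)
theorem F119075 : act 4 n38134 = n19493 := (sb E12227 (iv4 D41383))
theorem F119076 : act 3 n55758 = n47686 := d7_3 F74970 F118783 D55758
theorem F119077 : act 0 n37456 = n57959 := d20_7 (iv4 F118590) (iv1 F117743) F117745 F43443 F118775 (iv3 F60895) F60896 (iv4 D57959) F117826 (iv1 F59128)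
theorem F119078 : act 1 n37456 = n57962 := d15_1 (iv0 F119077) F117401 (iv2 F117388)
theorem F119079 : act 5 n77787 = n77315 := d21_2 D35498 D77787 (iv6 D77315) F114048 (iv6 D34433) (iv5 D16699) (iv1 F12802) D9163 D19489 (iv1 F118760)
theorem F119080 : act 3 n35696 = n77787 := d6_3 F119079 F116119 (iv5 F118840)
theorem F119081 : act 6 n77336 = n77787 := d12_0 F119079 (iv6 D77315) D77314 (iv6 F116118) D77336
def n77866 : Q := act 0 n35533
theorem D77866 : act 0 n35533 = n77866 := rfl
theorem F119082 : act 1 n35538 = n77866 := d15_0 (iv0 D77866) (iv7 F116380) F116379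
def n77867 : Q := act 1 n35533
theorem D77867 : act 1 n35533 = n77867 := rfl
theorem F119083 : act 1 n77867 = n35538 := d15_1 D77867 (iv7 F116375) F116373
def n77868 : Q := act 3 n35533
theorem D77868 : act 3 n35533 = n77868 := rfl
def n77870 : Q := act 6 n35533
theorem D77870 : act 6 n35533 = n77870 := rfl
theorem F119084 : act 2 n77870 = n56129 := d3_1 D77870 (iv6 F116374) F116373
theorem F119085 : act 4 n77870 = n35535 := d10_1 D77870 (iv6 D35535) D35533
theorem F119086 : act 7 n56112 = n77870 := d11_0 F119085 F91534 D56112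
def n77871 : Q := act 4 n35534
theorem D77871 : act 4 n35534 = n77871 := rfl
theorem F119087 : act 7 n77871 = n56472 := d11_2 (iv7 F91530) D77871 F89336
def n77872 : Q := act 0 n35535
theorem D77872 : act 0 n35535 = n77872 := rfl
theorem F119088 : act 6 n77872 = n35577 := d21_5 (iv5 F91226) F91384 (iv5 D35534) D35535 D77872 (iv5 F57373) F91386 D36642 F57497 F91387
theorem F119090 : act 1 n56020 = n77872 := d15_0 (iv0 D77872) F91534 (iv2 F91547)
theorem F119091 : act 7 n77872 = n56110 := d15_2 (iv0 F91297) F119090 F91247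
def n77873 : Q := act 0 n35537
theorem D77873 : act 0 n35537 = n77873 := rfl
def n77874 : Q := act 1 n35537
theorem D77874 : act 1 n35537 = n77874 := rfl
def n77875 : Q := act 2 n35537
theorem D77875 : act 2 n35537 = n77875 := rfl
def n77876 : Q := act 4 n35537
theorem D77876 : act 4 n35537 = n77876 := rfl
def n77877 : Q := act 5 n35537
theorem D77877 : act 5 n35537 = n77877 := rfl
theorem F119092 : act 3 n77877 = n35539 := d6_1 D77877 (iv5 D35539) D35537
theorem F119093 : act 6 n56418 = n77877 := d7_0 F119092 F56208 D56418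
def n77878 : Q := act 6 n35537
theorem D77878 : act 6 n35537 = n77878 := rfl
theorem F119094 : act 3 n77878 = n35540 := d7_1 D77878 (iv6 D35540) D35537
def n77881 : Q := act 6 n35538
theorem D77881 : act 6 n35538 = n77881 := rfl
theorem F119095 : act 4 n77881 = n35540 := d10_1 D77881 (iv6 D35540) D35538
def n77882 : Q := act 4 n35539
theorem D77882 : act 4 n35539 = n77882 := rfl
theorem F119096 : act 2 n77882 = n56472 := d1_1 D77882 F89336 (iv2 F91527)
theorem F119097 : act 6 n77882 = n37976 := d10_2 (iv6 F56208) D77882 F118204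
def n77883 : Q := act 0 n35540
theorem D77883 : act 0 n35540 = n77883 := rfl
theorem F119098 : act 5 n77883 = n56520 := d21_0 (iv1 F89386) F89371 (iv6 F88820) (iv1 F88822) (iv6 F116342) (iv5 F116340) (iv1 F116259) (iv5 D35539) D35540 D77883
def n77885 : Q := act 7 n35540
theorem D77885 : act 7 n35540 = n77885 := rfl
theorem F119102 : act 2 n77885 = n56113 := d4_1 D77885 (iv7 F116383) F116381
theorem F119105 : act 1 n56113 = n77883 := d15_0 (iv0 D77883) D77885 F119102
def n77886 : Q := act 2 n35541
theorem D77886 : act 2 n35541 = n77886 := rfl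
theorem F119106 : act 7 n35542 = n77886 := d15_2 (iv0 D35541) D35542 (iv2 D77886)
def n77887 : Q := act 3 n35541
theorem D77887 : act 3 n35541 = n77887 := rfl
def n77888 : Q := act 4 n35541
theorem D77888 : act 4 n35541 = n77888 := rfl
theorem F119107 : act 1 n77888 = n38127 := d18_8 F118583 (iv4 D35476) (iv1 F56084) F56080 (iv5 F56094) (iv4 F116388) F116392 D77888 (iv5 D38127)
def n77890 : Q := act 6 n35541
theorem D77890 : act 6 n35541 = n77890 := rfl
def n77892 : Q := act 3 n35542
theorem D77892 : act 3 n35542 = n77892 := rfl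
def n77893 : Q := act 4 n35542
theorem D77893 : act 4 n35542 = n77893 := rfl
theorem F119109 : act 3 n38904 = n77893 := d20_5 D17313 F41764 F29793 (iv3 F29685) (iv1 F59941) (iv4 D77893) (iv1 D35542) (iv4 D17216) F12865 D8107
theorem F119110 : act 5 n77893 = n45255 := d6_2 F59942 F119109 F71319
theorem F119111 : act 7 n77893 = n38985 := d8_2 (iv7 F116994) F119109 (iv3 D38985)
theorem F119112 : act 0 n57965 = n77863 := d20_7 (iv4 F116388) (iv1 F116390) D77893 (iv3 F119109) (iv1 D38904) (iv3 F44581) D57965 (iv4 D77863) (iv3 D35532) (iv1 F56097)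
theorem E12228 : n77886 = n77510 := ((c11_2 F119111 F116391 (iv7 F119106) D77893)).symm
theorem F119113 : act 2 n77510 = n35541 := (sb E12228 (iv2 D77886))
theorem F119117 : act 2 n77888 = n38985 := d1_3 F116391 F119113 D77888
theorem F119118 : act 1 n38127 = n77893 := d15_1 F119107 F119111 (iv2 F119117)
def n77895 : Q := act 6 n35542
theorem D77895 : act 6 n35542 = n77895 := rfl
def n77896 : Q := act 0 n35543
theorem D77896 : act 0 n35543 = n77896 := rfl
def n77897 : Q := act 1 n35543
theorem D77897 : act 1 n35543 = n77897 := rfl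
def n77898 : Q := act 2 n35543
theorem D77898 : act 2 n35543 = n77898 := rfl
theorem F119119 : act 4 n77898 = n35741 := d1_2 (iv4 F56209) D77898 (iv2 D35741)
theorem F119120 : act 6 n77898 = n35587 := d3_2 (iv6 F56210) D77898 (iv2 D35587)
def n77900 : Q := act 7 n35543
theorem D77900 : act 7 n35543 = n77900 := rfl
theorem F119123 : act 4 n77900 = n35743 := d11_1 D77900 (iv7 D35743) (iv4 F56209)
def n77901 : Q := act 0 n35544
theorem D77901 : act 0 n35544 = n77901 := rfl
def n77906 : Q := act 6 n35545
theorem D77906 : act 6 n35545 = n77906 := rfl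
theorem F119126 : act 4 n77906 = n35546 := d10_1 D77906 (iv6 D35546) (iv4 F56211)
theorem F119127 : act 7 n77906 = n35595 := d14_2 D35545 D77906 (iv6 D35595) (iv7 D17243) (iv6 F28163)
def n77907 : Q := act 6 n35547
theorem D77907 : act 6 n35547 = n77907 := rfl
theorem F119128 : act 2 n77907 = n35549 := d3_1 D77907 (iv6 D35549) (iv2 F56214)
theorem F119129 : act 5 n77907 = n37667 := d12_1 D77907 (iv6 D37667) (iv5 D18053) (iv6 F28167) D35547
def n77908 : Q := act 4 n35548
theorem D77908 : act 4 n35548 = n77908 := rfl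
theorem F119130 : act 2 n77908 = n75208 := d1_1 D77908 F112759 F56220
theorem F119131 : act 7 n77908 = n47667 := d11_2 (iv7 F56218) D77908 (iv4 D47667)
theorem F119132 : act 0 n77908 = n37677 := d18_2 F63817 D77908 (iv4 D37677) (iv5 D18056) (iv4 F28166) F31170 F31167 D19490 D41380
theorem F119133 : act 1 n77908 = n39876 := d18_6 (iv1 F13732) (iv4 F12805) D17139 F28629 (iv5 F56219) D77908 (iv4 D39876) F30108 (iv5 D16702)
def n77909 : Q := act 6 n35548
theorem D77909 : act 6 n35548 = n77909 := rfl
theorem F119134 : act 2 n77909 = n77344 := d3_1 D77909 (iv6 D77344) F56220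
theorem F119135 : act 3 n77909 = n41870 := d7_1 D77909 (iv6 D41870) F56221
def n77910 : Q := act 0 n35549
theorem D77910 : act 0 n35549 = n77910 := rfl
def n77911 : Q := act 1 n35549
theorem D77911 : act 1 n35549 = n77911 := rfl
def n77912 : Q := act 7 n35549
theorem D77912 : act 7 n35549 = n77912 := rfl
def n77913 : Q := act 6 n35550
theorem D77913 : act 6 n35550 = n77913 := rfl
theorem F119137 : act 2 n77913 = n75216 := d3_1 D77913 (iv6 D75216) (iv2 F56223)
def n77914 : Q := act 3 n35551
theorem D77914 : act 3 n35551 = n77914 := rfl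
theorem F119139 : act 7 n77914 = n36277 := d8_2 (iv7 F56230) D77914 (iv3 D36277)
def n77915 : Q := act 6 n35551
theorem D77915 : act 6 n35551 = n77915 := rfl
theorem F119140 : act 2 n77915 = n36282 := d3_1 D77915 (iv6 D36282) (iv2 F56229)
theorem F119141 : act 4 n77915 = n35552 := d10_1 D77915 (iv6 D35552) D35551
def n77916 : Q := act 0 n35552
theorem D77916 : act 0 n35552 = n77916 := rfl
def n77917 : Q := act 1 n35552
theorem D77917 : act 1 n35552 = n77917 := rfl
def n77918 : Q := act 7 n35552
theorem D77918 : act 7 n35552 = n77918 := rfl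
def n77919 : Q := act 3 n35553
theorem D77919 : act 3 n35553 = n77919 := rfl
def n77920 : Q := act 5 n35553
theorem D77920 : act 5 n35553 = n77920 := rfl
theorem F119144 : act 0 n77920 = n36487 := d17_2 (iv1 F56233) D77920 (iv5 D36487) (iv4 D17614) (iv5 D8286) (iv0 F16976) (iv5 F21570) (iv0 F21572) D17234
theorem F119145 : act 1 n77920 = n56009 := d17_6 F54669 (iv5 D17505) D17503 D36241 F56951 D77920 (iv5 D56009) F57304 F57303
def n77921 : Q := act 6 n35553
theorem D77921 : act 6 n35553 = n77921 := rfl
def n77922 : Q := act 0 n35554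
theorem D77922 : act 0 n35554 = n77922 := rfl
def n77923 : Q := act 1 n35554
theorem D77923 : act 1 n35554 = n77923 := rfl
def n77924 : Q := act 2 n35554
theorem D77924 : act 2 n35554 = n77924 := rfl
def n77925 : Q := act 5 n35554
theorem D77925 : act 5 n35554 = n77925 := rfl
theorem F119146 : act 3 n77925 = n35555 := d6_1 D77925 (iv5 D35555) D35554
def n77928 : Q := act 0 n35556
theorem D77928 : act 0 n35556 = n77928 := rfl
def n77931 : Q := act 7 n35556
theorem D77931 : act 7 n35556 = n77931 := rfl
theorem F119148 : act 4 n77931 = n35559 := d11_1 D77931 (iv7 D35559) (iv4 F56234)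
def n77933 : Q := act 4 n35557
theorem D77933 : act 4 n35557 = n77933 := rfl
def n77935 : Q := act 3 n35558
theorem D77935 : act 3 n35558 = n77935 := rfl
def n77936 : Q := act 4 n35558
theorem D77936 : act 4 n35558 = n77936 := rfl
def n77937 : Q := act 5 n35558
theorem D77937 : act 5 n35558 = n77937 := rfl
theorem F119152 : act 6 n56520 = n77937 := d21_5 (iv5 D13012) (iv1 F9651) D13025 D27191 D56520 (iv5 D77937) (iv1 D35558) (iv5 F43947) (iv6 D27188) F21709
def n77938 : Q := act 6 n35558
theorem D77938 : act 6 n35558 = n77938 := rfl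
def n77939 : Q := act 6 n35560
theorem D77939 : act 6 n35560 = n77939 := rfl
theorem F119153 : act 2 n77939 = n35562 := d3_1 D77939 (iv6 D35562) (iv2 F56235)
theorem F119154 : act 5 n77939 = n77939 := d12_1 D77939 (iv6 D77939) (iv5 D35560) F28180 D35560
def n77940 : Q := act 3 n35561
theorem D77940 : act 3 n35561 = n77940 := rfl
theorem F119155 : act 4 n77940 = n35565 := d5_2 D35561 D77940 (iv3 D35565) (iv4 D17234) (iv3 F28182)
def n77941 : Q := act 5 n35561
theorem D77941 : act 5 n35561 = n77941 := rfl
theorem F119156 : act 0 n77941 = n76807 := d17_2 (iv1 F56239) D77941 (iv5 D76807) (iv4 D35108) (iv5 D17047) F21446 D26978 (iv0 F43543) D27639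
theorem F119157 : act 1 n77941 = n76900 := d17_6 F87583 F55974 (iv1 D17228) D17231 D35561 D77941 (iv5 D76900) F115302 F115300
def n77942 : Q := act 6 n35561
theorem D77942 : act 6 n35561 = n77942 := rfl
theorem F119158 : act 4 n77942 = n35562 := d10_1 D77942 (iv6 D35562) D35561
def n77943 : Q := act 0 n35562
theorem D77943 : act 0 n35562 = n77943 := rfl
def n77944 : Q := act 1 n35562
theorem D77944 : act 1 n35562 = n77944 := rfl
def n77945 : Q := act 7 n35562
theorem D77945 : act 7 n35562 = n77945 := rfl
theorem F119159 : act 3 n77945 = n35570 := d8_1 D77945 (iv7 D35570) (iv3 F56240)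
def n77946 : Q := act 3 n35563
theorem D77946 : act 3 n35563 = n77946 := rfl
theorem F119161 : act 4 n77946 = n75209 := d5_2 D35563 D77946 (iv3 D75209) (iv4 D34439) (iv3 F28189)
theorem F119162 : act 7 n77946 = n36280 := d8_2 (iv7 F56243) D77946 (iv3 D36280)
def n77947 : Q := act 6 n35563
theorem D77947 : act 6 n35563 = n77947 := rfl
theorem F119163 : act 2 n77947 = n36279 := d3_1 D77947 (iv6 D36279) (iv2 F56242)
theorem F119164 : act 4 n77947 = n35564 := d10_1 D77947 (iv6 D35564) D35563
def n77948 : Q := act 0 n35564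
theorem D77948 : act 0 n35564 = n77948 := rfl
theorem F119165 : act 6 n77948 = n76870 := d21_5 F56037 (iv1 F28169) D17233 D35564 D77948 (iv5 D76870) (iv1 F117579) D35315 F56032 D35318
theorem F119166 : act 3 n76876 = n77948 := d7_3 F119165 F115480 D76876
def n77949 : Q := act 1 n35564
theorem D77949 : act 1 n35564 = n77949 := rfl
def n77950 : Q := act 7 n35564
theorem D77950 : act 7 n35564 = n77950 := rfl
theorem F119167 : act 3 n77950 = n75214 := d8_1 D77950 (iv7 D75214) (iv3 F56246)
def n77952 : Q := act 1 n35565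
theorem D77952 : act 1 n35565 = n77952 := rfl
def n77954 : Q := act 5 n35565
theorem D77954 : act 5 n35565 = n77954 := rfl
theorem F119169 : act 3 n77954 = n35566 := d6_1 D77954 (iv5 D35566) D35565
def n77955 : Q := act 6 n35565
theorem D77955 : act 6 n35565 = n77955 := rfl
theorem F119170 : act 3 n77955 = n35567 := d7_1 D77955 (iv6 D35567) D35565
def n77957 : Q := act 0 n35567
theorem D77957 : act 0 n35567 = n77957 := rfl
def n77958 : Q := act 1 n35567
theorem D77958 : act 1 n35567 = n77958 := rfl
def n77960 : Q := act 7 n35567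
theorem D77960 : act 7 n35567 = n77960 := rfl
theorem F119171 : act 4 n77960 = n35570 := d11_1 D77960 (iv7 D35570) (iv4 F56248)
def n77961 : Q := act 4 n35568
theorem D77961 : act 4 n35568 = n77961 := rfl
def n77962 : Q := act 5 n35568
theorem D77962 : act 5 n35568 = n77962 := rfl
theorem F119173 : act 3 n77962 = n35802 := d6_1 D77962 (iv5 D35802) (iv3 F91279)
theorem F119174 : act 6 n77962 = n36330 := d12_2 (iv6 F91280) D77962 F57069 (iv6 D35257) D35256
def n77963 : Q := act 4 n35569
theorem D77963 : act 4 n35569 = n77963 := rfl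
def n77964 : Q := act 3 n35571
theorem D77964 : act 3 n35571 = n77964 := rfl
theorem F119175 : act 4 n77964 = n35573 := d5_2 D35571 D77964 (iv3 D35573) (iv4 D17237) D17236
def n77965 : Q := act 5 n35571
theorem D77965 : act 5 n35571 = n77965 := rfl
theorem F119176 : act 0 n77965 = n55359 := d17_2 (iv1 F56252) D77965 (iv5 D55359) (iv4 D26751) (iv5 D12802) F14032 D13088 F27993 D35138
theorem F119177 : act 1 n77965 = n76894 := d17_6 F56236 (iv5 D27641) F27387 (iv5 F28191) D35571 D77965 (iv5 D76894) F87613 F87612
def n77966 : Q := act 6 n35571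
theorem D77966 : act 6 n35571 = n77966 := rfl
theorem F119178 : act 4 n77966 = n35572 := d10_1 D77966 (iv6 D35572) D35571
def n77967 : Q := act 0 n35572
theorem D77967 : act 0 n35572 = n77967 := rfl
def n77968 : Q := act 1 n35572
theorem D77968 : act 1 n35572 = n77968 := rfl
def n77969 : Q := act 7 n35572
theorem D77969 : act 7 n35572 = n77969 := rfl
theorem F119179 : act 3 n77969 = n35578 := d8_1 D77969 (iv7 D35578) (iv3 F56253)
theorem F119180 : act 5 n77969 = n56047 := d13_1 D77969 (iv7 D56047) (iv5 F56254)
def n77970 : Q := act 0 n35573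
theorem D77970 : act 0 n35573 = n77970 := rfl
def n77971 : Q := act 1 n35573
theorem D77971 : act 1 n35573 = n77971 := rfl
def n77972 : Q := act 2 n35573
theorem D77972 : act 2 n35573 = n77972 := rfl
def n77974 : Q := act 6 n35573
theorem D77974 : act 6 n35573 = n77974 := rfl
theorem F119182 : act 3 n77974 = n35575 := d7_1 D77974 (iv6 D35575) D35573
def n77975 : Q := act 6 n35574
theorem D77975 : act 6 n35574 = n77975 := rfl
def n77976 : Q := act 0 n35575
theorem D77976 : act 0 n35575 = n77976 := rfl
def n77977 : Q := act 1 n35575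
theorem D77977 : act 1 n35575 = n77977 := rfl
theorem F119183 : act 1 n77977 = n77601 := d15_1 D77977 (iv7 D77601) (iv2 F56255)
theorem F119184 : act 4 n77977 = n38846 := d20_2 (iv4 F116492) (iv1 F119183) (iv3 D38846) (iv1 D18460) F13584 D8829 D18859 F41677 (iv3 F91311) (iv1 F56260)
def n77978 : Q := act 5 n35575
theorem D77978 : act 5 n35575 = n77978 := rfl
theorem F119185 : act 2 n77978 = n77600 := d2_1 D77978 (iv5 D77600) (iv2 F56255)
def n77979 : Q := act 7 n35575
theorem D77979 : act 7 n35575 = n77979 := rfl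
theorem F119186 : act 2 n77979 = n77601 := d4_1 D77979 (iv7 D77601) (iv2 F56255)
theorem F119187 : act 4 n77979 = n35578 := d11_1 D77979 (iv7 D35578) (iv4 F56256)
theorem F119188 : act 1 n77601 = n77976 := d15_0 (iv0 D77976) D77979 F119186
theorem F119189 : act 1 n77598 = n77979 := d15_1 D77598 (iv7 D77979) F56255
theorem F119190 : act 1 n77979 = n77597 := d15_0 (iv0 D77597) D77601 (iv2 F119186)
def n77980 : Q := act 4 n35576
theorem D77980 : act 4 n35576 = n77980 := rfl
theorem F119191 : act 2 n77980 = n77593 := d1_1 D77980 (iv4 D77593) (iv2 F91314)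
theorem F119192 : act 7 n77980 = n77596 := d11_2 (iv7 F91312) D77980 (iv4 D77596)
theorem F119193 : act 0 n35584 = n77980 := d20_7 (iv4 F56307) (iv1 F56309) (iv4 D27906) D27905 (iv1 F116795) (iv3 F56994) F56995 (iv4 D77980) F91311 (iv1 F28289)
def n77981 : Q := act 6 n35576
theorem D77981 : act 6 n35576 = n77981 := rfl
theorem F119195 : act 3 n77981 = n35822 := d7_1 D77981 (iv6 D35822) (iv3 F91311)
theorem F119196 : act 5 n77981 = n55914 := d12_1 D77981 (iv6 F91305) (iv5 F89354) (iv6 F89346) F57496
def n77982 : Q := act 4 n35577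
theorem D77982 : act 4 n35577 = n77982 := rfl
theorem F119198 : act 2 n77982 = n77596 := d1_1 D77982 (iv4 D77596) F91313
theorem F119199 : act 7 n77982 = n77593 := d11_2 F91316 D77982 (iv4 D77593)
theorem F119200 : act 1 n35584 = n77982 := d15_1 (iv0 F119193) F119199 (iv2 F119191)
theorem E12230 : n56071 = n56060 := ((c18_2 (iv1 F43694) D56060 (iv1 D56071) F43709 (iv5 F56996) F56995 F119200 (iv4 D77982) F56257 F56127)).symm
theorem F119201 : act 0 n56060 = n27044 := (sb E12230 (iv1 D56071))
theorem F119202 : act 1 n56060 = n35456 := (sb E12230 F88744)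
theorem E12231 : n56070 = n56055 := (c15_2 F119202 F88749 F116450 F116469)
theorem F119203 : act 0 n56055 = n35456 := (sb E12231 (iv1 F88749))
theorem F119204 : act 1 n56055 = n27044 := (sb E12231 (iv0 D56070))
theorem F119205 : act 4 n37202 = n57968 := d20_6 D56060 F119201 F43709 F28846 D17889 D37202 (iv1 F91725) F60127 F56121 (iv1 F43694)
def n77984 : Q := act 1 n35579
theorem D77984 : act 1 n35579 = n77984 := rfl
def n77986 : Q := act 4 n35579
theorem D77986 : act 4 n35579 = n77986 := rfl
def n77992 : Q := act 7 n35581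
theorem D77992 : act 7 n35581 = n77992 := rfl
def n77994 : Q := act 1 n35582
theorem D77994 : act 1 n35582 = n77994 := rfl
def n77995 : Q := act 2 n35582
theorem D77995 : act 2 n35582 = n77995 := rfl
def n77996 : Q := act 5 n35582
theorem D77996 : act 5 n35582 = n77996 := rfl
theorem F119208 : act 3 n77996 = n35583 := d6_1 D77996 (iv5 D35583) D35582
def n77997 : Q := act 6 n35582
theorem D77997 : act 6 n35582 = n77997 := rfl
theorem F119209 : act 3 n77997 = n35584 := d7_1 D77997 (iv6 D35584) D35582
def n77999 : Q := act 5 n35584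
theorem D77999 : act 5 n35584 = n77999 := rfl
def n78000 : Q := act 7 n35584
theorem D78000 : act 7 n35584 = n78000 := rfl
def n78001 : Q := act 0 n35585
theorem D78001 : act 0 n35585 = n78001 := rfl
theorem F119210 : act 2 n35589 = n78001 := d15_3 (iv0 D78001) (iv0 D35585) D35589
theorem F119211 : act 4 n78001 = n35824 := d1_2 (iv4 F56268) F119210 (iv2 F56487)
theorem F119212 : act 7 n78001 = n35587 := d4_2 D35589 F119210 (iv2 D35587)
theorem F119213 : act 1 n35586 = n78001 := d15_1 D35586 F119212 (iv2 D35587)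
def n78002 : Q := act 2 n35585
theorem D78002 : act 2 n35585 = n78002 := rfl
theorem F119214 : act 7 n35586 = n78002 := d15_2 (iv0 D35585) D35586 (iv2 D78002)
def n78003 : Q := act 3 n35585
theorem D78003 : act 3 n35585 = n78003 := rfl
def n78004 : Q := act 4 n35585
theorem D78004 : act 4 n35585 = n78004 := rfl
def n78005 : Q := act 5 n35585
theorem D78005 : act 5 n35585 = n78005 := rfl
def n78006 : Q := act 6 n35585
theorem D78006 : act 6 n35585 = n78006 := rfl
def n78007 : Q := act 7 n35585
theorem D78007 : act 7 n35585 = n78007 := rfl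
theorem F119215 : act 2 n78007 = n35586 := d4_1 D78007 F119214 (iv2 D78002)
def n78008 : Q := act 3 n35586
theorem D78008 : act 3 n35586 = n78008 := rfl
def n78009 : Q := act 4 n35586
theorem D78009 : act 4 n35586 = n78009 := rfl
theorem F119216 : act 3 n39900 = n78009 := d20_5 (iv4 D7987) (iv1 F5872) D8840 D18875 D39900 (iv4 D78009) (iv1 D35586) F28194 (iv3 D8126) (iv1 F12765)
def n78010 : Q := act 5 n35586
theorem D78010 : act 5 n35586 = n78010 := rfl
def n78011 : Q := act 6 n35586
theorem D78011 : act 6 n35586 = n78011 := rfl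
def n78012 : Q := act 0 n35587
theorem D78012 : act 0 n35587 = n78012 := rfl
theorem F119217 : act 1 n35589 = n78012 := d15_0 (iv0 D78012) (iv7 F119212) (iv2 F119210)
def n78013 : Q := act 1 n35587
theorem D78013 : act 1 n35587 = n78013 := rfl
theorem F119218 : act 1 n78013 = n35589 := d15_1 D78013 (iv7 D35589) D35587
def n78014 : Q := act 5 n35587
theorem D78014 : act 5 n35587 = n78014 := rfl
theorem F119219 : act 2 n78014 = n35588 := d2_1 D78014 (iv5 D35588) D35587
def n78015 : Q := act 0 n35588
theorem D78015 : act 0 n35588 = n78015 := rfl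
def n78016 : Q := act 1 n35588
theorem D78016 : act 1 n35588 = n78016 := rfl
def n78017 : Q := act 4 n35588
theorem D78017 : act 4 n35588 = n78017 := rfl
def n78019 : Q := act 7 n35588
theorem D78019 : act 7 n35588 = n78019 := rfl
theorem F119221 : act 3 n78019 = n35594 := d8_1 D78019 (iv7 D35594) (iv3 F56266)
theorem F119222 : act 5 n78019 = n35589 := d13_1 D78019 (iv7 D35589) D35588
def n78021 : Q := act 3 n35590
theorem D78021 : act 3 n35590 = n78021 := rfl
def n78023 : Q := act 3 n35591
theorem D78023 : act 3 n35591 = n78023 := rfl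
def n78025 : Q := act 3 n35592
theorem D78025 : act 3 n35592 = n78025 := rfl
def n78026 : Q := act 6 n35592
theorem D78026 : act 6 n35592 = n78026 := rfl
def n78031 : Q := act 0 n35595
theorem D78031 : act 0 n35595 = n78031 := rfl
def n78032 : Q := act 1 n35595
theorem D78032 : act 1 n35595 = n78032 := rfl
def n78034 : Q := act 2 n35596
theorem D78034 : act 2 n35596 = n78034 := rfl
theorem F119226 : act 7 n35597 = n78034 := d15_2 (iv0 D35596) D35597 (iv2 D78034)
def n78035 : Q := act 3 n35596
theorem D78035 : act 3 n35596 = n78035 := rfl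
def n78036 : Q := act 4 n35596
theorem D78036 : act 4 n35596 = n78036 := rfl
def n78038 : Q := act 6 n35596
theorem D78038 : act 6 n35596 = n78038 := rfl
theorem F119228 : act 5 n78038 = n77403 := d21_6 F21567 (iv1 F12859) (iv5 F12871) D17244 D35596 D78038 (iv1 D77403) F56060 (iv6 D35340) F28099
def n78039 : Q := act 7 n35596
theorem D78039 : act 7 n35596 = n78039 := rfl
theorem F119229 : act 2 n78039 = n35597 := d4_1 D78039 F119226 (iv2 D78034)
def n78040 : Q := act 3 n35597
theorem D78040 : act 3 n35597 = n78040 := rfl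
def n78041 : Q := act 4 n35597
theorem D78041 : act 4 n35597 = n78041 := rfl
def n78043 : Q := act 6 n35597
theorem D78043 : act 6 n35597 = n78043 := rfl
def n78044 : Q := act 0 n35598
theorem D78044 : act 0 n35598 = n78044 := rfl
theorem F119231 : act 1 n60028 = n78044 := d15_0 (iv0 D78044) (iv7 F59130) (iv2 F94522)
theorem F119232 : act 4 n78044 = n77696 := d18_7 D36062 F74450 (iv1 F59063) (iv4 F74444) F74445 (iv4 F94523) F119231 (iv0 D77696) F56166
def n78045 : Q := act 1 n35598
theorem D78045 : act 1 n35598 = n78045 := rfl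
theorem F119233 : act 1 n78045 = n60028 := d15_1 D78045 F94525 (iv2 F56271)
theorem F119234 : act 4 n78045 = n77697 := d20_0 (iv1 D77697) (iv4 F110322) (iv3 D73619) F53190 (iv3 D28615) (iv4 D13645) (iv1 F22770) D28502 D60028 (iv1 F119233)
def n78046 : Q := act 6 n35598
theorem D78046 : act 6 n35598 = n78046 := rfl
def n78047 : Q := act 6 n35599
theorem D78047 : act 6 n35599 = n78047 := rfl
theorem F119237 : act 2 n78047 = n35609 := d3_1 D78047 (iv6 D35609) (iv2 F56272)
theorem F119238 : act 4 n78047 = n39950 := d10_1 D78047 (iv6 D39950) (iv4 F56273)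
def n78048 : Q := act 1 n35600
theorem D78048 : act 1 n35600 = n78048 := rfl
theorem F119239 : act 1 n78048 = n35613 := d15_1 D78048 (iv7 D35613) (iv2 F56276)
def n78049 : Q := act 5 n35600
theorem D78049 : act 5 n35600 = n78049 := rfl
theorem F119240 : act 2 n78049 = n35612 := d2_1 D78049 (iv5 D35612) (iv2 F56276)
def n78050 : Q := act 7 n35600
theorem D78050 : act 7 n35600 = n78050 := rfl
theorem F119241 : act 2 n78050 = n35613 := d4_1 D78050 (iv7 D35613) (iv2 F56276)
theorem F119242 : act 4 n78050 = n35604 := d11_1 D78050 (iv7 D35604) (iv4 F56277)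
theorem F119243 : act 1 n35611 = n78050 := d15_1 D35611 (iv7 D78050) F56276
theorem F119244 : act 1 n78050 = n35610 := d15_0 (iv0 D35610) D35613 (iv2 F119241)
def n78052 : Q := act 3 n35601
theorem D78052 : act 3 n35601 = n78052 := rfl
def n78053 : Q := act 4 n35601
theorem D78053 : act 4 n35601 = n78053 := rfl
def n78054 : Q := act 5 n35601
theorem D78054 : act 5 n35601 = n78054 := rfl
def n78056 : Q := act 4 n35602
theorem D78056 : act 4 n35602 = n78056 := rfl
def n78057 : Q := act 5 n35602
theorem D78057 : act 5 n35602 = n78057 := rfl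
theorem F119247 : act 6 n35760 = n78057 := d21_5 (iv5 D17083) F17607 D8114 D17330 D35760 (iv5 D78057) (iv1 D35602) D35603 F56280 F28598
def n78058 : Q := act 6 n35602
theorem D78058 : act 6 n35602 = n78058 := rfl
def n78059 : Q := act 0 n35603
theorem D78059 : act 0 n35603 = n78059 := rfl
def n78060 : Q := act 1 n35603
theorem D78060 : act 1 n35603 = n78060 := rfl
theorem F119248 : act 1 n78060 = n35627 := d15_1 D78060 (iv7 D35627) (iv2 F56279)
theorem F119249 : act 5 n36662 = n78060 := d21_6 F13761 (iv1 D6089) (iv5 F5739) D8322 D17667 D36662 (iv1 D78060) (iv5 D35603) (iv6 D17246) (iv1 F13760)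
def n78061 : Q := act 4 n35603
theorem D78061 : act 4 n35603 = n78061 := rfl
theorem F119250 : act 2 n78061 = n35626 := d1_1 D78061 (iv4 D35626) (iv2 F56279)
theorem F119251 : act 6 n78061 = n36436 := d10_2 (iv6 F56280) D78061 (iv4 D36436)
def n78062 : Q := act 7 n35603
theorem D78062 : act 7 n35603 = n78062 := rfl
theorem F119252 : act 2 n78062 = n35627 := d4_1 D78062 (iv7 D35627) (iv2 F56279)
theorem F119253 : act 5 n78062 = n35604 := d13_1 D78062 (iv7 D35604) D35603
theorem F119254 : act 6 n78062 = n77064 := d14_1 D78062 (iv7 D77064) F55938 (iv7 F28597) (iv6 F56280)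
theorem F119255 : act 1 n35627 = n78059 := d15_0 (iv0 D78059) D78062 F119252
theorem F119256 : act 1 n35625 = n78062 := d15_1 D35625 (iv7 D78062) F56279
theorem F119257 : act 1 n78062 = n35624 := d15_0 (iv0 D35624) D35627 (iv2 F119252)
def n78063 : Q := act 0 n35605
theorem D78063 : act 0 n35605 = n78063 := rfl
theorem F119258 : act 3 n78063 = n60261 := d20_5 (iv4 D17992) (iv1 F28020) (iv4 F28199) D35605 D78063 (iv4 F109320) (iv1 D57257) (iv4 F60760) (iv3 D39938) F30135
def n78064 : Q := act 1 n35605
theorem D78064 : act 1 n35605 = n78064 := rfl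
theorem F119259 : act 4 n77455 = n78064 := d20_0 (iv1 D78064) (iv4 F59231) (iv3 D38371) F29508 (iv3 F27527) F27528 D19553 F31300 D37896 F116262
def n78065 : Q := act 2 n35605
theorem D78065 : act 2 n35605 = n78065 := rfl
theorem F119260 : act 3 n78065 = n73616 := d0_2 D35605 D78065 F110309 (iv3 D38151) F29417
def n78066 : Q := act 6 n35605
theorem D78066 : act 6 n35605 = n78066 := rfl
theorem F119261 : act 3 n78066 = n35606 := d7_1 D78066 (iv6 D35606) D35605
def n78067 : Q := act 5 n35606
theorem D78067 : act 5 n35606 = n78067 := rfl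
def n78068 : Q := act 3 n35607
theorem D78068 : act 3 n35607 = n78068 := rfl
theorem F119262 : act 2 n78068 = n71887 := d0_1 D78068 (iv3 D71887) (iv2 F83175) F83178 F56287
theorem F119263 : act 5 n78068 = n36649 := d6_2 (iv5 F56286) D78068 (iv3 D36649)
theorem F119264 : act 7 n78068 = n77109 := d8_2 (iv7 F56288) D78068 F115824
def n78070 : Q := act 6 n35608
theorem D78070 : act 6 n35608 = n78070 := rfl
theorem F119266 : act 2 n78070 = n39950 := d3_1 D78070 (iv6 D39950) (iv2 F56289)
theorem F119267 : act 4 n78070 = n35609 := d10_1 D78070 (iv6 D35609) D35608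
def n78071 : Q := act 0 n35609
theorem D78071 : act 0 n35609 = n78071 := rfl
def n78072 : Q := act 1 n35609
theorem D78072 : act 1 n35609 = n78072 := rfl
def n78073 : Q := act 5 n35609
theorem D78073 : act 5 n35609 = n78073 := rfl
theorem F119268 : act 3 n78073 = n60275 := d6_1 D78073 (iv5 D60275) (iv3 F56294)
theorem F119269 : act 6 n78073 = n35612 := d12_2 D35609 D78073 (iv5 D35612) (iv6 D17249) D17248
def n78074 : Q := act 7 n35609
theorem D78074 : act 7 n35609 = n78074 := rfl
theorem F119270 : act 3 n78074 = n60276 := d8_1 D78074 (iv7 D60276) (iv3 F56294)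
def n78075 : Q := act 2 n35610
theorem D78075 : act 2 n35610 = n78075 := rfl
theorem F119271 : act 7 n35611 = n78075 := d15_2 (iv0 D35610) D35611 (iv2 D78075)
def n78076 : Q := act 3 n35610
theorem D78076 : act 3 n35610 = n78076 := rfl
def n78077 : Q := act 4 n35610
theorem D78077 : act 4 n35610 = n78077 := rfl
def n78078 : Q := act 5 n35610
theorem D78078 : act 5 n35610 = n78078 := rfl
def n78079 : Q := act 6 n35610
theorem D78079 : act 6 n35610 = n78079 := rfl
def n78080 : Q := act 7 n35610
theorem D78080 : act 7 n35610 = n78080 := rfl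
theorem F119272 : act 2 n78080 = n35611 := d4_1 D78080 F119271 (iv2 D78075)
def n78081 : Q := act 3 n35611
theorem D78081 : act 3 n35611 = n78081 := rfl
def n78083 : Q := act 6 n35611
theorem D78083 : act 6 n35611 = n78083 := rfl
def n78084 : Q := act 0 n35612
theorem D78084 : act 0 n35612 = n78084 := rfl
def n78085 : Q := act 1 n35612
theorem D78085 : act 1 n35612 = n78085 := rfl
theorem F119273 : act 5 n75704 = n78085 := d21_6 (iv5 F55955) (iv1 F55961) F55959 D36645 F57504 D75704 (iv1 D78085) (iv5 D35612) (iv6 D17249) D17247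
def n78086 : Q := act 4 n35612
theorem D78086 : act 4 n35612 = n78086 := rfl
def n78087 : Q := act 7 n35612
theorem D78087 : act 7 n35612 = n78087 := rfl
def n78089 : Q := act 1 n35614
theorem D78089 : act 1 n35614 = n78089 := rfl
theorem F119277 : act 1 n78089 = n35619 := d15_1 D78089 (iv7 D35619) D35614
def n78090 : Q := act 3 n35614
theorem D78090 : act 3 n35614 = n78090 := rfl
theorem F119278 : act 7 n78090 = n35620 := d8_2 F56298 D78090 (iv3 D35620)
def n78091 : Q := act 4 n35614
theorem D78091 : act 4 n35614 = n78091 := rfl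
theorem F119279 : act 2 n78091 = n35616 := d1_1 D78091 (iv4 D35616) D35614
theorem F119280 : act 7 n78091 = n35621 := d11_2 F56298 D78091 (iv4 D35621)
def n78092 : Q := act 5 n35614
theorem D78092 : act 5 n35614 = n78092 := rfl
theorem F119281 : act 2 n78092 = n35617 := d2_1 D78092 (iv5 D35617) D35614
theorem F119282 : act 7 n78092 = n35622 := d13_2 F56298 D78092 (iv5 D35622)
def n78093 : Q := act 6 n35614
theorem D78093 : act 6 n35614 = n78093 := rfl
theorem F119283 : act 2 n78093 = n35618 := d3_1 D78093 (iv6 D35618) D35614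
def n78094 : Q := act 0 n35615
theorem D78094 : act 0 n35615 = n78094 := rfl
def n78095 : Q := act 1 n35615
theorem D78095 : act 1 n35615 = n78095 := rfl
def n78096 : Q := act 2 n35615
theorem D78096 : act 2 n35615 = n78096 := rfl
def n78097 : Q := act 5 n35615
theorem D78097 : act 5 n35615 = n78097 := rfl
theorem F119284 : act 3 n78097 = n35617 := d6_1 D78097 (iv5 D35617) D35615
def n78098 : Q := act 6 n35615
theorem D78098 : act 6 n35615 = n78098 := rfl
theorem F119285 : act 3 n78098 = n35618 := d7_1 D78098 (iv6 D35618) D35615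
def n78099 : Q := act 7 n35615
theorem D78099 : act 7 n35615 = n78099 := rfl
theorem F119286 : act 3 n78099 = n35619 := d8_1 D78099 (iv7 D35619) D35615
def n78100 : Q := act 0 n35616
theorem D78100 : act 0 n35616 = n78100 := rfl
theorem F119287 : act 4 n78100 = n39818 := d20_2 D35616 D78100 (iv3 D39818) (iv1 D18840) (iv3 D8823) F43124 (iv1 D6495) (iv4 F5673) (iv3 F12874) D17250
def n78101 : Q := act 1 n35616
theorem D78101 : act 1 n35616 = n78101 := rfl
theorem F119288 : act 1 n78101 = n35621 := d15_1 D78101 (iv7 F119280) F119279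
def n78102 : Q := act 3 n35616
theorem D78102 : act 3 n35616 = n78102 := rfl
def n78103 : Q := act 5 n35616
theorem D78103 : act 5 n35616 = n78103 := rfl
def n78104 : Q := act 6 n35616
theorem D78104 : act 6 n35616 = n78104 := rfl
theorem F119289 : act 4 n78104 = n35618 := d10_1 D78104 (iv6 D35618) D35616
def n78105 : Q := act 7 n35616
theorem D78105 : act 7 n35616 = n78105 := rfl
theorem F119290 : act 2 n78105 = n35621 := d4_1 D78105 (iv7 F119280) F119279
theorem F119291 : act 4 n78105 = n35619 := d11_1 D78105 (iv7 D35619) D35616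
theorem F119292 : act 1 n35621 = n78100 := d15_0 (iv0 D78100) D78105 F119290
def n78106 : Q := act 0 n35617
theorem D78106 : act 0 n35617 = n78106 := rfl
def n78107 : Q := act 1 n35617
theorem D78107 : act 1 n35617 = n78107 := rfl
theorem F119293 : act 1 n78107 = n35622 := d15_1 D78107 (iv7 F119282) F119281
def n78108 : Q := act 4 n35617
theorem D78108 : act 4 n35617 = n78108 := rfl
def n78109 : Q := act 6 n35617
theorem D78109 : act 6 n35617 = n78109 := rfl
def n78110 : Q := act 7 n35617
theorem D78110 : act 7 n35617 = n78110 := rfl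
theorem F119294 : act 2 n78110 = n35622 := d4_1 D78110 (iv7 F119282) F119281
theorem F119295 : act 5 n78110 = n35619 := d13_1 D78110 (iv7 D35619) D35617
theorem F119296 : act 1 n35622 = n78106 := d15_0 (iv0 D78106) D78110 F119294
def n78111 : Q := act 0 n35618
theorem D78111 : act 0 n35618 = n78111 := rfl
def n78112 : Q := act 1 n35618
theorem D78112 : act 1 n35618 = n78112 := rfl
def n78113 : Q := act 7 n35618
theorem D78113 : act 7 n35618 = n78113 := rfl
def n78114 : Q := act 6 n35619
theorem D78114 : act 6 n35619 = n78114 := rfl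
theorem F119297 : act 2 n78114 = n35623 := d3_1 D78114 (iv6 D35623) (iv2 F56299)
def n78115 : Q := act 0 n35620
theorem D78115 : act 0 n35620 = n78115 := rfl
theorem F119298 : act 4 n78115 = n58669 := d20_0 (iv1 F92662) (iv4 D39793) (iv3 F45023) (iv1 F45027) D39818 (iv4 F119287) (iv1 F119292) (iv4 D35621) D35620 D78115
def n78118 : Q := act 4 n35620
theorem D78118 : act 4 n35620 = n78118 := rfl
theorem F119299 : act 0 n39785 = n78118 := d20_1 D39785 (iv4 D78118) (iv3 D35620) (iv1 D17251) F12874 F5673 D6494 F43120 D8818 D18820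
def n78119 : Q := act 5 n35620
theorem D78119 : act 5 n35620 = n78119 := rfl
theorem F119300 : act 3 n78119 = n35622 := d6_1 D78119 (iv5 D35622) D35620
def n78120 : Q := act 6 n35620
theorem D78120 : act 6 n35620 = n78120 := rfl
theorem F119301 : act 3 n78120 = n35623 := d7_1 D78120 (iv6 D35623) D35620
def n78121 : Q := act 3 n35621
theorem D78121 : act 3 n35621 = n78121 := rfl
def n78122 : Q := act 5 n35621
theorem D78122 : act 5 n35621 = n78122 := rfl
def n78123 : Q := act 6 n35621
theorem D78123 : act 6 n35621 = n78123 := rfl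
theorem F119302 : act 4 n78123 = n35623 := d10_1 D78123 (iv6 D35623) D35621
def n78124 : Q := act 4 n35622
theorem D78124 : act 4 n35622 = n78124 := rfl
def n78125 : Q := act 6 n35622
theorem D78125 : act 6 n35622 = n78125 := rfl
theorem F119303 : act 0 n35752 = n78125 := d21_4 F28600 F27422 D17327 D35752 (iv6 D78125) (iv5 D35622) (iv1 D17251) D17252 F28204 D17594
def n78126 : Q := act 0 n35623
theorem D78126 : act 0 n35623 = n78126 := rfl
def n78127 : Q := act 1 n35623
theorem D78127 : act 1 n35623 = n78127 := rfl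
def n78128 : Q := act 5 n35623
theorem D78128 : act 5 n35623 = n78128 := rfl
def n78129 : Q := act 7 n35623
theorem D78129 : act 7 n35623 = n78129 := rfl
def n78130 : Q := act 2 n35624
theorem D78130 : act 2 n35624 = n78130 := rfl
theorem F119304 : act 7 n35625 = n78130 := d15_2 (iv0 D35624) D35625 (iv2 D78130)
def n78131 : Q := act 3 n35624
theorem D78131 : act 3 n35624 = n78131 := rfl
def n78132 : Q := act 4 n35624
theorem D78132 : act 4 n35624 = n78132 := rfl
def n78133 : Q := act 5 n35624
theorem D78133 : act 5 n35624 = n78133 := rfl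
def n78134 : Q := act 6 n35624
theorem D78134 : act 6 n35624 = n78134 := rfl
def n78135 : Q := act 7 n35624
theorem D78135 : act 7 n35624 = n78135 := rfl
theorem F119305 : act 2 n78135 = n35625 := d4_1 D78135 F119304 (iv2 D78130)
def n78136 : Q := act 3 n35625
theorem D78136 : act 3 n35625 = n78136 := rfl
def n78137 : Q := act 4 n35625
theorem D78137 : act 4 n35625 = n78137 := rfl
def n78138 : Q := act 5 n35625
theorem D78138 : act 5 n35625 = n78138 := rfl
theorem F119306 : act 6 n78138 = n36646 := d21_3 (iv5 F119253) (iv1 F119256) D78138 (iv1 F57510) F28742 (iv5 F55967) (iv1 F115790) (iv5 F115791) (iv6 D35618) (iv1 F56284)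
theorem F119307 : act 2 n36662 = n78138 := d3_3 F119306 F115893 D36662
theorem E12232 : n78135 = n78060 := (c2_4 (iv5 F119249) F119307 (iv5 D78138) (iv2 F119305))
theorem F119308 : act 2 n78060 = n35625 := (sb E12232 F119305)
theorem F119309 : act 7 n78060 = n35624 := (sb E12232 (iv7 D78135))
theorem F119310 : act 7 n78133 = n36662 := d13_2 F119309 D78133 F119249
theorem E12233 : n78130 = n78059 := (c15_4 (iv0 D78059) D78060 F119309 D78130)
theorem F119311 : act 2 n78059 = n35624 := (sb E12233 (iv2 D78130))
theorem F119312 : act 7 n78059 = n35625 := (sb E12233 (iv7 F119304))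
def n78139 : Q := act 6 n35625
theorem D78139 : act 6 n35625 = n78139 := rfl
def n78140 : Q := act 0 n35626
theorem D78140 : act 0 n35626 = n78140 := rfl
def n78141 : Q := act 1 n35626
theorem D78141 : act 1 n35626 = n78141 := rfl
theorem F119313 : act 4 n75711 = n78141 := d20_6 (iv4 F45065) (iv1 F45066) (iv4 D18813) (iv3 F29637) F54891 (iv3 F113565) (iv1 D78141) (iv4 D35626) F28203 D17264
def n78142 : Q := act 3 n35626
theorem D78142 : act 3 n35626 = n78142 := rfl
theorem F119314 : act 4 n78142 = n35631 := d5_2 D35626 D78142 (iv3 D35631) (iv4 D17266) (iv3 F28203)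
theorem F119315 : act 6 n78142 = n36443 := d7_2 (iv6 F56300) D78142 (iv3 D36443)
def n78143 : Q := act 5 n35626
theorem D78143 : act 5 n35626 = n78143 := rfl
def n78144 : Q := act 7 n35626
theorem D78144 : act 7 n35626 = n78144 := rfl
theorem F119316 : act 4 n78144 = n35627 := d11_1 D78144 (iv7 D35627) D35626
def n78145 : Q := act 4 n35628
theorem D78145 : act 4 n35628 = n78145 := rfl
theorem F119318 : act 0 n55797 = n78145 := d20_7 (iv4 F56479) (iv1 F56480) (iv4 D18857) D18856 F117291 (iv3 F88801) F88802 (iv4 D78145) (iv3 D35628) (iv1 F28291)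
def n78147 : Q := act 1 n35629
theorem D78147 : act 1 n35629 = n78147 := rfl
theorem F119321 : act 1 n78147 = n35802 := d15_1 D78147 (iv7 F56485) F56483
theorem F119322 : act 5 n55941 = n78147 := d21_0 (iv1 D78147) F56304 (iv6 F43439) (iv1 D26936) (iv6 F28840) (iv5 D17734) D17732 F28838 D35822 F88518
theorem F119323 : act 6 n35852 = n78147 := d21_3 F21586 D17362 D35852 (iv1 D78147) (iv6 D35629) (iv5 F43897) F43899 (iv5 F57701) F57702 (iv1 D27111)
def n78148 : Q := act 0 n35631
theorem D78148 : act 0 n35631 = n78148 := rfl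
def n78149 : Q := act 1 n35631
theorem D78149 : act 1 n35631 = n78149 := rfl
def n78150 : Q := act 2 n35631
theorem D78150 : act 2 n35631 = n78150 := rfl
theorem F119324 : act 6 n78150 = n36447 := d3_2 (iv6 F56306) D78150 (iv2 D36447)
def n78151 : Q := act 5 n35631
theorem D78151 : act 5 n35631 = n78151 := rfl
theorem F119325 : act 3 n78151 = n35632 := d6_1 D78151 (iv5 D35632) D35631
def n78152 : Q := act 7 n35631
theorem D78152 : act 7 n35631 = n78152 := rfl
theorem F119326 : act 3 n78152 = n35633 := d8_1 D78152 (iv7 D35633) D35631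
theorem F119327 : act 6 n78152 = n77246 := d14_1 D78152 (iv7 D77246) F55990 (iv7 F28610) (iv6 F56306)
def n78153 : Q := act 7 n35632
theorem D78153 : act 7 n35632 = n78153 := rfl
theorem F119329 : act 4 n78153 = n48930 := d11_1 D78153 (iv7 F105851) F105850
theorem F119333 : act 6 n59782 = n78153 := d10_0 F119329 F77146 D59782
def n78154 : Q := act 0 n35634
theorem D78154 : act 0 n35634 = n78154 := rfl
theorem F119334 : act 1 n35639 = n78154 := d15_0 (iv0 D78154) (iv7 F56311) (iv2 F56312)
def n78156 : Q := act 3 n35634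
theorem D78156 : act 3 n35634 = n78156 := rfl
theorem F119336 : act 7 n78156 = n35640 := d8_2 F56311 D78156 (iv3 D35640)
def n78157 : Q := act 4 n35634
theorem D78157 : act 4 n35634 = n78157 := rfl
theorem F119337 : act 2 n78157 = n35636 := d1_1 D78157 (iv4 D35636) D35634
theorem F119338 : act 7 n78157 = n35641 := d11_2 F56311 D78157 (iv4 D35641)
def n78158 : Q := act 5 n35634
theorem D78158 : act 5 n35634 = n78158 := rfl
theorem F119339 : act 2 n78158 = n35637 := d2_1 D78158 (iv5 D35637) D35634
theorem F119340 : act 7 n78158 = n35642 := d13_2 F56311 D78158 (iv5 D35642)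
def n78159 : Q := act 6 n35634
theorem D78159 : act 6 n35634 = n78159 := rfl
theorem F119341 : act 2 n78159 = n35638 := d3_1 D78159 (iv6 D35638) D35634
def n78160 : Q := act 1 n35636
theorem D78160 : act 1 n35636 = n78160 := rfl
theorem F119342 : act 1 n78160 = n35641 := d15_1 D78160 (iv7 F119338) F119337
theorem F119343 : act 7 n78160 = n38266 := d15_2 (iv0 F91784) D78160 (iv2 F117833)
theorem F119344 : act 4 n38244 = n78160 := d20_0 (iv1 D78160) (iv4 D35636) (iv3 F116325) (iv1 D35517) (iv3 D17210) D17211 F117658 (iv4 F56755) F56754 D38244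
theorem F119345 : act 2 n78160 = n38261 := d1_1 F119344 (iv4 D38261) (iv2 F117848)
theorem F119346 : act 1 n35641 = n58016 := d15_1 F119342 (iv7 F118723) (iv2 F119345)
theorem F119347 : act 0 n35640 = n38930 := d20_4 D58016 (iv1 F119346) (iv4 D35641) D35640 F119071 (iv4 F119075) (iv1 F58979) F29499 (iv3 F29477) (iv1 F117847)
theorem F119348 : act 1 n35640 = n38935 := d15_1 (iv0 F119347) F89164 (iv2 F89178)
def n78161 : Q := act 3 n35636
theorem D78161 : act 3 n35636 = n78161 := rfl
def n78162 : Q := act 5 n35636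
theorem D78162 : act 5 n35636 = n78162 := rfl
def n78163 : Q := act 6 n35636
theorem D78163 : act 6 n35636 = n78163 := rfl
theorem F119349 : act 4 n78163 = n35638 := d10_1 D78163 (iv6 D35638) D35636
def n78164 : Q := act 7 n35636
theorem D78164 : act 7 n35636 = n78164 := rfl
theorem F119351 : act 4 n78164 = n35639 := d11_1 D78164 (iv7 D35639) D35636
def n78165 : Q := act 0 n35637
theorem D78165 : act 0 n35637 = n78165 := rfl
def n78166 : Q := act 1 n35637
theorem D78166 : act 1 n35637 = n78166 := rfl
def n78167 : Q := act 4 n35637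
theorem D78167 : act 4 n35637 = n78167 := rfl
def n78168 : Q := act 6 n35637
theorem D78168 : act 6 n35637 = n78168 := rfl
def n78169 : Q := act 7 n35637
theorem D78169 : act 7 n35637 = n78169 := rfl
theorem F119354 : act 5 n78169 = n35639 := d13_1 D78169 (iv7 D35639) D35637
def n78174 : Q := act 4 n35640
theorem D78174 : act 4 n35640 = n78174 := rfl
theorem F119357 : act 2 n78174 = n38955 := d1_1 D78174 F116321 (iv2 F117640)
theorem F119358 : act 0 n38900 = n78174 := d20_1 D38900 (iv4 D78174) (iv3 D35640) (iv1 D17275) (iv3 D8098) D8099 (iv1 F41758) F11664 (iv3 F13617) (iv1 F29660)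
theorem F119359 : act 1 n38897 = n78174 := d15_0 (iv0 F119358) F116884 (iv2 F116869)
theorem F119360 : act 7 n38954 = n78174 := d15_2 F59985 F59989 F119357
theorem E12234 : n78156 = n55729 := (c11_3 F119360 (iv4 D78174) (iv7 F119336) F117048)
theorem E12235 : n35634 = n26939 := (((F117047).symm.trans (sb E12234 (iv3 D78156)))).symm
theorem E12236 : n78154 = n12890 := ((((iv1 D26939)).symm.trans (sb E12235 D78154))).symm
theorem E12238 : n55837 = n17274 := (((iv2 F88319)).symm.trans (sb E12235 (iv2 D35634)))
theorem E12239 : n78157 = n55839 := (((D55839).symm.trans (sb E12235 D78157))).symm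
theorem E12240 : n78158 = n55840 := (((D55840).symm.trans (sb E12235 D78158))).symm
theorem E12241 : n78159 = n55841 := (((D55841).symm.trans (sb E12235 D78159))).symm
theorem E12242 : n55832 = n17275 := ((F88317).symm.trans (sb E12235 (iv7 F56311)))
theorem E12243 : n35639 = n26938 := (((D26938).symm.trans (sb E12236 (iv1 F119334)))).symm
theorem F119362 : act 2 n17274 = n26939 := (sb E12238 F88319)
theorem F119363 : act 2 n55839 = n35636 := (sb E12239 F119337)
theorem F119364 : act 7 n55839 = n35641 := (sb E12239 F119338)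
theorem F119365 : act 2 n55840 = n35637 := (sb E12240 F119339)
theorem F119366 : act 7 n55840 = n35642 := (sb E12240 F119340)
theorem F119367 : act 2 n55841 = n35638 := (sb E12241 F119341)
theorem F119368 : act 7 n17275 = n26939 := (sb E12242 (iv7 F88317))
theorem F119369 : act 2 n26938 = n17275 := (sb E12243 F56312)
theorem E12244 : n77821 = n55833 := (((D55833).symm.trans (sb E12243 (iv3 F117639)))).symm
theorem E12245 : n78164 = n55834 := (((D55834).symm.trans (sb E12243 (iv4 F119351)))).symm
theorem E12246 : n78169 = n55835 := (((D55835).symm.trans (sb E12243 (iv5 F119354)))).symm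
theorem F119370 : act 7 n26938 = n17274 := (sb E12243 (iv7 D35639))
theorem F119371 : act 2 n55833 = n35516 := (sb E12244 (iv2 D77821))
theorem F119372 : act 7 n55833 = n35517 := (sb E12244 (iv7 F117638))
theorem F119374 : act 7 n55834 = n35636 := (sb E12245 (iv7 D78164))
theorem F119376 : act 7 n55835 = n35637 := (sb E12246 (iv7 D78169))
theorem E12248 : n77824 = n77484 := (c15_4 (iv0 D77484) (iv0 F116352) F119372 (iv2 F117641))
theorem F119380 : act 7 n77484 = n35516 := (sb E12248 (iv7 D77824))
theorem F119381 : act 7 n58074 = n39013 := d11_2 F119380 F91847 (iv4 F116334)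
theorem F119384 : act 2 n56235 = n36389 := d2_3 (iv5 F89243) F119367 F89233
theorem F119386 : act 7 n56236 = n36389 := d15_2 (iv0 D56235) D56236 (iv2 F119384)
def n78186 : Q := act 3 n35644
theorem D78186 : act 3 n35644 = n78186 := rfl
def n78187 : Q := act 5 n35644
theorem D78187 : act 5 n35644 = n78187 := rfl
theorem F119392 : act 2 n78187 = n35650 := d2_1 D78187 (iv5 D35650) (iv2 F56313)
def n78188 : Q := act 6 n35644
theorem D78188 : act 6 n35644 = n78188 := rfl
theorem F119393 : act 2 n78188 = n35651 := d3_1 D78188 (iv6 D35651) (iv2 F56313)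
theorem F119394 : act 4 n78188 = n35646 := d10_1 D78188 (iv6 D35646) D35644
def n78189 : Q := act 4 n35645
theorem D78189 : act 4 n35645 = n78189 := rfl
theorem F119395 : act 2 n78189 = n35654 := d1_1 D78189 (iv4 D35654) (iv2 F56314)
def n78190 : Q := act 6 n35645
theorem D78190 : act 6 n35645 = n78190 := rfl
theorem F119397 : act 5 n78190 = n56397 := d12_1 D78190 (iv6 D56397) F56316 (iv6 D35646) D35645
def n78191 : Q := act 3 n35647
theorem D78191 : act 3 n35647 = n78191 := rfl
def n78192 : Q := act 5 n35647
theorem D78192 : act 5 n35647 = n78192 := rfl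
def n78194 : Q := act 1 n35649
theorem D78194 : act 1 n35649 = n78194 := rfl
def n78195 : Q := act 2 n35649
theorem D78195 : act 2 n35649 = n78195 := rfl
theorem F119399 : act 4 n78195 = n35660 := d1_2 (iv4 F56317) D78195 (iv2 D35660)
theorem F119400 : act 7 n78195 = n70514 := d4_2 (iv7 F56318) D78195 F106965
theorem F119401 : act 1 n78195 = n70517 := d15_0 (iv0 D70517) (iv7 F56318) D78195
theorem F119402 : act 1 n78194 = n70514 := d15_1 D78194 (iv7 F119400) (iv2 D78195)
theorem F119403 : act 1 n70518 = n78195 := d15_1 D70518 F119400 F106965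
def n78196 : Q := act 5 n35649
theorem D78196 : act 5 n35649 = n78196 := rfl
theorem F119404 : act 3 n78196 = n35650 := d6_1 D78196 (iv5 D35650) D35649
theorem F119405 : act 7 n78196 = n70519 := d13_2 (iv7 F56318) D78196 (iv5 D70519)
def n78197 : Q := act 6 n35649
theorem D78197 : act 6 n35649 = n78197 := rfl
theorem F119406 : act 3 n78197 = n35651 := d7_1 D78197 (iv6 D35651) D35649
theorem F119407 : act 4 n78197 = n35662 := d10_1 D78197 (iv6 D35662) (iv4 F56317)
def n78198 : Q := act 0 n35650
theorem D78198 : act 0 n35650 = n78198 := rfl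
def n78199 : Q := act 1 n35650
theorem D78199 : act 1 n35650 = n78199 := rfl
def n78200 : Q := act 4 n35650
theorem D78200 : act 4 n35650 = n78200 := rfl
def n78201 : Q := act 6 n35650
theorem D78201 : act 6 n35650 = n78201 := rfl
def n78202 : Q := act 0 n35651
theorem D78202 : act 0 n35651 = n78202 := rfl
def n78203 : Q := act 1 n35651
theorem D78203 : act 1 n35651 = n78203 := rfl
theorem F119408 : act 4 n38724 = n78203 := d20_6 F28978 D18697 F30363 F117752 F29609 (iv3 F59509) (iv1 D78203) F56319 F28223 (iv1 F30381)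
theorem F119409 : act 6 n78203 = n38723 := d10_2 D38724 F119408 (iv4 D38723)
def n78204 : Q := act 5 n35651
theorem D78204 : act 5 n35651 = n78204 := rfl
theorem F119410 : act 0 n78204 = n77114 := d17_2 (iv1 D78203) D78204 (iv5 D77114) F55954 F29299 (iv0 F117820) (iv5 F117823) (iv0 F117623) F119408
def n78205 : Q := act 2 n35652
theorem D78205 : act 2 n35652 = n78205 := rfl
theorem F119411 : act 7 n35653 = n78205 := d15_2 (iv0 D35652) D35653 (iv2 D78205)
def n78206 : Q := act 3 n35652
theorem D78206 : act 3 n35652 = n78206 := rfl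
def n78207 : Q := act 4 n35652
theorem D78207 : act 4 n35652 = n78207 := rfl
def n78208 : Q := act 5 n35652
theorem D78208 : act 5 n35652 = n78208 := rfl
def n78209 : Q := act 6 n35652
theorem D78209 : act 6 n35652 = n78209 := rfl
def n78210 : Q := act 7 n35652
theorem D78210 : act 7 n35652 = n78210 := rfl
theorem F119412 : act 2 n78210 = n35653 := d4_1 D78210 F119411 (iv2 D78205)
def n78211 : Q := act 3 n35653
theorem D78211 : act 3 n35653 = n78211 := rfl
def n78212 : Q := act 4 n35653
theorem D78212 : act 4 n35653 = n78212 := rfl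
def n78213 : Q := act 5 n35653
theorem D78213 : act 5 n35653 = n78213 := rfl
def n78214 : Q := act 6 n35653
theorem D78214 : act 6 n35653 = n78214 := rfl
def n78215 : Q := act 0 n35654
theorem D78215 : act 0 n35654 = n78215 := rfl
def n78216 : Q := act 1 n35654
theorem D78216 : act 1 n35654 = n78216 := rfl
def n78217 : Q := act 3 n35654
theorem D78217 : act 3 n35654 = n78217 := rfl
theorem F119413 : act 4 n78217 = n35673 := d5_2 D35654 D78217 (iv3 D35673) (iv4 D17289) (iv3 F28222)
def n78218 : Q := act 5 n35654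
theorem D78218 : act 5 n35654 = n78218 := rfl
def n78219 : Q := act 6 n35654
theorem D78219 : act 6 n35654 = n78219 := rfl
theorem F119414 : act 4 n78219 = n35655 := d10_1 D78219 (iv6 D35655) D35654
def n78220 : Q := act 0 n35655
theorem D78220 : act 0 n35655 = n78220 := rfl
def n78221 : Q := act 1 n35655
theorem D78221 : act 1 n35655 = n78221 := rfl
def n78222 : Q := act 2 n35656
theorem D78222 : act 2 n35656 = n78222 := rfl
theorem F119415 : act 7 n35657 = n78222 := d15_2 (iv0 D35656) D35657 (iv2 D78222)
def n78223 : Q := act 3 n35656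
theorem D78223 : act 3 n35656 = n78223 := rfl
def n78224 : Q := act 4 n35656
theorem D78224 : act 4 n35656 = n78224 := rfl
def n78225 : Q := act 5 n35656
theorem D78225 : act 5 n35656 = n78225 := rfl
def n78226 : Q := act 6 n35656
theorem D78226 : act 6 n35656 = n78226 := rfl
def n78227 : Q := act 7 n35656
theorem D78227 : act 7 n35656 = n78227 := rfl
theorem F119416 : act 2 n78227 = n35657 := d4_1 D78227 F119415 (iv2 D78222)
def n78228 : Q := act 3 n35657
theorem D78228 : act 3 n35657 = n78228 := rfl
def n78229 : Q := act 4 n35657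
theorem D78229 : act 4 n35657 = n78229 := rfl
def n78230 : Q := act 5 n35657
theorem D78230 : act 5 n35657 = n78230 := rfl
def n78231 : Q := act 6 n35657
theorem D78231 : act 6 n35657 = n78231 := rfl
def n78233 : Q := act 3 n35658
theorem D78233 : act 3 n35658 = n78233 := rfl
theorem F119418 : act 4 n78233 = n73695 := d20_6 F5432 D3650 D8099 D17283 D35658 D78233 (iv1 D73695) (iv4 D33862) (iv3 D16369) (iv1 D7601)
def n78234 : Q := act 4 n35658
theorem D78234 : act 4 n35658 = n78234 := rfl
theorem F119419 : act 0 n78234 = n73652 := d20_1 D78234 (iv4 D73652) (iv3 D33845) (iv1 D16360) F11833 F5432 D3650 D8099 D17283 D35658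
def n78235 : Q := act 5 n35658
theorem D78235 : act 5 n35658 = n78235 := rfl
def n78236 : Q := act 6 n35658
theorem D78236 : act 6 n35658 = n78236 := rfl
def n78238 : Q := act 3 n35659
theorem D78238 : act 3 n35659 = n78238 := rfl
def n78239 : Q := act 4 n35659
theorem D78239 : act 4 n35659 = n78239 := rfl
def n78240 : Q := act 5 n35659
theorem D78240 : act 5 n35659 = n78240 := rfl
def n78242 : Q := act 5 n35660
theorem D78242 : act 5 n35660 = n78242 := rfl
theorem F119421 : act 2 n78242 = n35661 := d2_1 D78242 (iv5 D35661) D35660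
theorem F119422 : act 3 n78242 = n70481 := d6_1 D78242 (iv5 D70481) (iv3 F56323)
theorem F119423 : act 7 n78242 = n70515 := d13_2 (iv7 F56324) D78242 (iv5 D70515)
theorem F119424 : act 1 n70522 = n78242 := d15_1 D70522 F119423 F106966
theorem F119425 : act 1 n78242 = n70521 := d15_0 (iv0 D70521) (iv7 F56329) (iv2 F119421)
def n78243 : Q := act 6 n35660
theorem D78243 : act 6 n35660 = n78243 := rfl
theorem F119426 : act 2 n78243 = n35662 := d3_1 D78243 (iv6 D35662) D35660
theorem F119427 : act 3 n78243 = n70482 := d7_1 D78243 (iv6 D70482) (iv3 F56323)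
theorem F119428 : act 5 n71060 = n78243 := d2_0 F119426 (iv5 F56331) D71060
def n78244 : Q := act 0 n35661
theorem D78244 : act 0 n35661 = n78244 := rfl
theorem F119429 : act 1 n70515 = n78244 := d15_0 (iv0 D78244) F56329 (iv2 F106966)
def n78245 : Q := act 1 n35661
theorem D78245 : act 1 n35661 = n78245 := rfl
def n78246 : Q := act 4 n35661
theorem D78246 : act 4 n35661 = n78246 := rfl
theorem F119431 : act 7 n78246 = n70523 := d11_2 (iv7 F56329) D78246 (iv4 D70523)
def n78247 : Q := act 6 n35661
theorem D78247 : act 6 n35661 = n78247 := rfl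
theorem F119432 : act 3 n78247 = n35666 := d7_1 D78247 (iv6 D35666) (iv3 F56328)
theorem F119433 : act 5 n78247 = n71062 := d12_1 D78247 (iv6 D71062) F56331 (iv6 D35662) D35661
def n78248 : Q := act 0 n35662
theorem D78248 : act 0 n35662 = n78248 := rfl
def n78249 : Q := act 1 n35662
theorem D78249 : act 1 n35662 = n78249 := rfl
def n78250 : Q := act 3 n35663
theorem D78250 : act 3 n35663 = n78250 := rfl
theorem F119434 : act 5 n78250 = n55609 := d6_2 (iv5 F56332) D78250 F87959
def n78251 : Q := act 4 n35663
theorem D78251 : act 4 n35663 = n78251 := rfl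
theorem F119436 : act 2 n78251 = n70493 := d1_1 D78251 (iv4 D70493) F56334
theorem F119437 : act 7 n78251 = n70496 := d11_2 F56335 D78251 (iv4 D70496)
theorem F119438 : act 0 n78251 = n55135 := d18_2 D35663 D78251 (iv4 D55135) (iv5 D26642) F30358 F9772 (iv4 F11664) F41758 D17284
theorem F119439 : act 1 n78251 = n55128 := d18_6 F51228 F29941 (iv1 F30019) (iv4 F43237) (iv5 F56332) D78251 (iv4 D55128) D55127 F87196
def n78252 : Q := act 3 n35664
theorem D78252 : act 3 n35664 = n78252 := rfl
theorem F119440 : act 5 n78252 = n70816 := d6_2 (iv5 F56338) D78252 (iv3 D70816)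
theorem F119441 : act 6 n78252 = n70389 := d7_2 (iv6 F56339) D78252 (iv3 D70389)
theorem F119442 : act 7 n78252 = n70492 := d8_2 (iv7 F56337) D78252 (iv3 D70492)
def n78253 : Q := act 4 n35664
theorem D78253 : act 4 n35664 = n78253 := rfl
theorem F119444 : act 6 n78253 = n70390 := d10_2 (iv6 F56339) D78253 (iv4 D70390)
theorem F119445 : act 7 n78253 = n70493 := d11_2 (iv7 F56337) D78253 (iv4 D70493)
theorem F119446 : act 0 n78253 = n55128 := d18_2 (iv1 F56336) D78253 (iv4 D55128) (iv5 D26640) F30354 (iv0 D6281) (iv4 F9233) (iv0 F41760) D17303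
theorem F119447 : act 1 n78253 = n55135 := d18_6 (iv1 F53214) F53213 (iv1 F43193) (iv4 F51967) (iv5 F56338) D78253 (iv4 D55135) F87191 F87190
def n78254 : Q := act 3 n35665
theorem D78254 : act 3 n35665 = n78254 := rfl
theorem F119448 : act 7 n78254 = n70528 := d8_2 (iv7 F56342) D78254 (iv3 D70528)
def n78255 : Q := act 6 n35665
theorem D78255 : act 6 n35665 = n78255 := rfl
theorem F119449 : act 2 n78255 = n70501 := d3_1 D78255 (iv6 D70501) (iv2 F56341)
theorem F119450 : act 4 n78255 = n35666 := d10_1 D78255 (iv6 D35666) D35665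
def n78256 : Q := act 4 n35667
theorem D78256 : act 4 n35667 = n78256 := rfl
def n78257 : Q := act 3 n35668
theorem D78257 : act 3 n35668 = n78257 := rfl
theorem F119452 : act 6 n78257 = n77223 := d7_2 (iv6 F56347) D78257 (iv3 D77223)
def n78258 : Q := act 5 n35668
theorem D78258 : act 5 n35668 = n78258 := rfl
theorem F119453 : act 0 n78258 = n55870 := d17_2 (iv1 F56349) D78258 (iv5 D55870) F43476 (iv5 F27592) (iv0 D16847) D16849 (iv0 F27593) D18527
theorem F119454 : act 1 n78258 = n55872 := d17_6 (iv1 F21397) (iv5 F21718) (iv1 F30524) (iv5 F28231) D35668 D78258 (iv5 D55872) F43471 F28253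
def n78259 : Q := act 3 n35670
theorem D78259 : act 3 n35670 = n78259 := rfl
def n78260 : Q := act 5 n35670
theorem D78260 : act 5 n35670 = n78260 := rfl
theorem F119455 : act 0 n78260 = n55872 := d17_2 (iv1 F56351) D78260 (iv5 D55872) F43472 (iv5 F22016) F43252 F43250 F29706 D18541
theorem F119456 : act 1 n78260 = n55870 := d17_6 D12894 F30499 (iv1 F43986) F43988 D35670 D78260 (iv5 D55870) (iv0 D26951) (iv4 D12896)
def n78261 : Q := act 3 n35671
theorem D78261 : act 3 n35671 = n78261 := rfl
theorem F119457 : act 6 n78261 = n76162 := d7_2 F56355 D78261 (iv3 D76162)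
def n78262 : Q := act 5 n35671
theorem D78262 : act 5 n35671 = n78262 := rfl
theorem F119458 : act 2 n78262 = n76152 := d2_1 D78262 (iv5 D76152) F56354
theorem F119459 : act 0 n78262 = n39067 := d17_2 D35671 D78262 (iv5 D39067) F41956 F30499 (iv0 F30523) (iv5 F28231) (iv0 D17287) D17289
theorem F119460 : act 1 n78262 = n39069 := d17_6 (iv1 F22022) (iv5 F13621) (iv1 F30019) D26846 (iv4 F56352) D78262 (iv5 D39069) F44705 F44704
def n78263 : Q := act 3 n35672
theorem D78263 : act 3 n35672 = n78263 := rfl
theorem F119461 : act 7 n78263 = n76151 := d8_2 (iv7 F56357) D78263 (iv3 D76151)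
def n78264 : Q := act 5 n35672
theorem D78264 : act 5 n35672 = n78264 := rfl
theorem F119462 : act 7 n78264 = n76152 := d13_2 (iv7 F56357) D78264 (iv5 D76152)
theorem F119463 : act 0 n78264 = n39069 := d17_2 (iv1 F56356) D78264 (iv5 D39069) F41952 (iv5 F21718) D27206 F43988 F28234 D17305
theorem F119464 : act 1 n78264 = n39067 := d17_6 D8708 D18550 (iv1 F43193) F44622 (iv4 F56358) D78264 (iv5 D39067) (iv0 D18554) (iv4 D8710)
def n78265 : Q := act 0 n35673
theorem D78265 : act 0 n35673 = n78265 := rfl
def n78266 : Q := act 1 n35673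
theorem D78266 : act 1 n35673 = n78266 := rfl
def n78267 : Q := act 2 n35673
theorem D78267 : act 2 n35673 = n78267 := rfl
def n78268 : Q := act 5 n35673
theorem D78268 : act 5 n35673 = n78268 := rfl
theorem F119465 : act 3 n78268 = n35674 := d6_1 D78268 (iv5 D35674) D35673
def n78269 : Q := act 6 n35673
theorem D78269 : act 6 n35673 = n78269 := rfl
theorem F119466 : act 3 n78269 = n35675 := d7_1 D78269 (iv6 D35675) D35673
def n78270 : Q := act 6 n35674
theorem D78270 : act 6 n35674 = n78270 := rfl
def n78271 : Q := act 5 n35675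
theorem D78271 : act 5 n35675 = n78271 := rfl
theorem F119469 : act 1 n78271 = n39852 := d17_6 (iv1 F28290) (iv5 F28208) F28593 (iv5 F28235) (iv4 F56360) D78271 (iv5 D39852) F56480 F56479
def n78272 : Q := act 3 n35684
theorem D78272 : act 3 n35684 = n78272 := rfl
def n78273 : Q := act 5 n35684
theorem D78273 : act 5 n35684 = n78273 := rfl
def n78274 : Q := act 4 n35685
theorem D78274 : act 4 n35685 = n78274 := rfl
def n78275 : Q := act 6 n35685
theorem D78275 : act 6 n35685 = n78275 := rfl
theorem F119470 : act 7 n78275 = n35779 := d14_2 (iv7 F118796) D78275 (iv6 D35779) (iv7 F28576) D36418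
def n78276 : Q := act 3 n35687
theorem D78276 : act 3 n35687 = n78276 := rfl
def n78277 : Q := act 5 n35687
theorem D78277 : act 5 n35687 = n78277 := rfl
theorem F119471 : act 2 n78277 = n35693 := d2_1 D78277 (iv5 D35693) (iv2 F56366)
def n78278 : Q := act 6 n35687
theorem D78278 : act 6 n35687 = n78278 := rfl
theorem F119472 : act 2 n78278 = n35694 := d3_1 D78278 (iv6 D35694) (iv2 F56366)
theorem F119473 : act 4 n78278 = n35689 := d10_1 D78278 (iv6 D35689) D35687
def n78279 : Q := act 4 n35688
theorem D78279 : act 4 n35688 = n78279 := rfl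
theorem F119474 : act 2 n78279 = n35697 := d1_1 D78279 (iv4 D35697) (iv2 F56367)
def n78280 : Q := act 6 n35688
theorem D78280 : act 6 n35688 = n78280 := rfl
theorem F119475 : act 2 n78280 = n35698 := d3_1 D78280 (iv6 D35698) (iv2 F56367)
theorem F119476 : act 0 n35783 = n78280 := d21_4 (iv5 D8258) D8256 (iv5 F30319) D35783 (iv6 D78280) (iv5 D35688) F118775 (iv5 F57179) (iv6 D36418) (iv1 D17585)
def n78281 : Q := act 0 n35689
theorem D78281 : act 0 n35689 = n78281 := rfl
def n78282 : Q := act 1 n35689
theorem D78282 : act 1 n35689 = n78282 := rfl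
theorem F119477 : act 1 n78282 = n35702 := d15_1 D78282 (iv7 D35702) (iv2 F56368)
def n78283 : Q := act 5 n35689
theorem D78283 : act 5 n35689 = n78283 := rfl
theorem F119478 : act 2 n78283 = n35701 := d2_1 D78283 (iv5 D35701) (iv2 F56368)
theorem F119479 : act 0 n78283 = n36698 := d21_7 (iv5 D36383) F118846 (iv5 D36298) (iv6 F118115) F118789 D35689 D78283 (iv5 D36698) D36699 (iv1 F119051)
theorem F119480 : act 0 n36693 = n78283 := d21_1 D36693 (iv5 D78283) (iv6 D35689) F118775 (iv6 D18927) F13834 F6032 (iv5 F5742) D8328 D17684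
def n78284 : Q := act 7 n35689
theorem D78284 : act 7 n35689 = n78284 := rfl
theorem F119481 : act 2 n78284 = n35702 := d4_1 D78284 (iv7 D35702) (iv2 F56368)
theorem F119482 : act 6 n78284 = n39992 := d14_1 D78284 F118837 F118828 (iv7 F118829) D35689
theorem F119483 : act 1 n35702 = n78281 := d15_0 (iv0 D78281) D78284 F119481
theorem F119484 : act 1 n35700 = n78284 := d15_1 D35700 (iv7 D78284) F56368
theorem F119485 : act 5 n35700 = n36425 := d21_0 (iv1 D36425) F28581 (iv6 D8328) (iv1 F7184) D8867 F13827 D18911 D39992 (iv6 F119482) (iv1 F119484)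
theorem F119486 : act 6 n39978 = n35700 := d21_5 (iv5 D3955) D3952 D8864 D18907 D39978 F119485 (iv1 D36425) F28581 (iv6 D8328) (iv1 F7184)
def n78285 : Q := act 2 n35690
theorem D78285 : act 2 n35690 = n78285 := rfl
theorem F119488 : act 7 n35691 = n78285 := d15_2 (iv0 D35690) D35691 (iv2 D78285)
def n78289 : Q := act 7 n35690
theorem D78289 : act 7 n35690 = n78289 := rfl
theorem F119489 : act 2 n78289 = n35691 := d4_1 D78289 F119488 (iv2 D78285)
def n78290 : Q := act 3 n35691
theorem D78290 : act 3 n35691 = n78290 := rfl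
def n78291 : Q := act 5 n35691
theorem D78291 : act 5 n35691 = n78291 := rfl
def n78293 : Q := act 1 n35692
theorem D78293 : act 1 n35692 = n78293 := rfl
theorem F119490 : act 7 n78293 = n39274 := d15_2 (iv0 F85910) D78293 (iv2 F61029)
theorem F119491 : act 4 n39277 = n78293 := d20_6 F9233 D6281 (iv4 F30354) (iv3 F53224) (iv1 F42565) (iv3 F60247) (iv1 D78293) F56369 (iv3 D17302) F41760
theorem F119492 : act 2 n78293 = n70483 := d1_1 F119491 F106936 F87184
theorem F119493 : act 1 n78293 = n70480 := d15_0 F106933 F106938 (iv2 F119492)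
def n78294 : Q := act 2 n35692
theorem D78294 : act 2 n35692 = n78294 := rfl
theorem F119494 : act 4 n78294 = n35705 := d1_2 (iv4 F56369) D78294 (iv2 D35705)
theorem F119495 : act 7 n78294 = n70480 := d4_2 (iv7 F56370) D78294 F106932
theorem F119496 : act 1 n78294 = n70483 := d15_0 (iv0 D70483) (iv7 F56370) D78294
theorem F119497 : act 1 n39274 = n78294 := d15_0 F119496 (iv7 F106938) F61029
theorem F119498 : act 0 n78239 = n73708 := d20_1 D78239 (iv4 D73708) (iv3 D33868) (iv1 F42713) (iv3 F87185) (iv4 F106936) (iv1 F119496) F119494 F56377 (iv1 F56326)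
theorem F119499 : act 0 n54415 = n78238 := d20_4 (iv4 F87232) (iv1 F87234) F53223 D54415 (iv3 D78238) D78239 F119498 (iv4 D73708) (iv3 D33868) (iv1 F42713)
theorem F119500 : act 1 n70451 = n78238 := d15_0 (iv0 F119499) F85903 D70451
def n78295 : Q := act 5 n35692
theorem D78295 : act 5 n35692 = n78295 := rfl
theorem F119501 : act 3 n78295 = n35693 := d6_1 D78295 (iv5 D35693) D35692
theorem F119502 : act 7 n78295 = n70484 := d13_2 (iv7 F56370) D78295 (iv5 D70484)
def n78296 : Q := act 6 n35692
theorem D78296 : act 6 n35692 = n78296 := rfl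
theorem F119503 : act 3 n78296 = n35694 := d7_1 D78296 (iv6 D35694) D35692
theorem F119504 : act 4 n78296 = n35707 := d10_1 D78296 (iv6 D35707) (iv4 F56369)
def n78297 : Q := act 0 n35693
theorem D78297 : act 0 n35693 = n78297 := rfl
def n78298 : Q := act 1 n35693
theorem D78298 : act 1 n35693 = n78298 := rfl
def n78299 : Q := act 4 n35693
theorem D78299 : act 4 n35693 = n78299 := rfl
def n78300 : Q := act 6 n35693
theorem D78300 : act 6 n35693 = n78300 := rfl
def n78301 : Q := act 0 n35694
theorem D78301 : act 0 n35694 = n78301 := rfl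
def n78302 : Q := act 1 n35694
theorem D78302 : act 1 n35694 = n78302 := rfl
def n78303 : Q := act 5 n35694
theorem D78303 : act 5 n35694 = n78303 := rfl
def n78304 : Q := act 7 n35694
theorem D78304 : act 7 n35694 = n78304 := rfl
theorem F119505 : act 4 n78304 = n35702 := d11_1 D78304 (iv7 D35702) (iv4 F56371)
def n78305 : Q := act 3 n35695
theorem D78305 : act 3 n35695 = n78305 := rfl
def n78306 : Q := act 4 n35695
theorem D78306 : act 4 n35695 = n78306 := rfl
def n78307 : Q := act 5 n35695
theorem D78307 : act 5 n35695 = n78307 := rfl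
theorem F119507 : act 2 n78307 = n77323 := d2_1 D78307 F119065 F119064
theorem F119508 : act 7 n78307 = n77277 := d13_2 (iv7 F119063) D78307 (iv5 F119059)
theorem F119509 : act 0 n37007 = n78307 := d21_10 (iv5 D78307) (iv1 F118824) (iv5 D40076) (iv6 F118828) (iv1 F118841) (iv6 D18984) D18983 F118534 D56233 F88940
theorem F119510 : act 6 n36772 = n78307 := d21_5 (iv5 F118815) (iv1 D36770) (iv5 D17726) D17727 D36772 (iv5 D78307) (iv1 F118824) (iv5 D40076) (iv6 F118828) (iv1 F118841)
theorem E12249 : n77312 = n36772 := (c14_1 D77312 F119510 F119508 (iv6 D77277) F113988 D35288)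
theorem F119511 : act 7 n36772 = n35288 := (sb E12249 (iv7 D77312))
theorem F119512 : act 1 n36995 = n78307 := d15_0 (iv0 F119509) (iv7 D37007) (iv2 F57914)
theorem E12250 : n77321 = n36995 := (c15_1 D77321 F119512 F119508 F116062)
theorem F119513 : act 0 n36995 = n35293 := (sb E12250 (iv1 D77321))
theorem F119514 : act 5 n35812 = n36772 := d21_2 (iv5 F28282) D35812 F119510 (iv1 F119512) (iv6 D36995) D36994 (iv1 F89483) (iv5 F118542) (iv6 D40213) (iv1 D18987)
theorem F119515 : act 7 n77311 = n35812 := d13_0 F119514 F119511 D77311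
def n78308 : Q := act 6 n35695
theorem D78308 : act 6 n35695 = n78308 := rfl
theorem F119516 : act 0 n78308 = n35781 := d21_4 (iv5 F57922) F119509 (iv5 D78307) D78308 (iv6 D35781) (iv5 D17338) (iv1 F17518) (iv5 F28577) D36418 F118523
theorem F119517 : act 1 n78308 = n35791 := d15_1 (iv0 F119516) (iv7 D35791) (iv2 F56450)
def n78309 : Q := act 4 n35696
theorem D78309 : act 4 n35696 = n78309 := rfl
def n78310 : Q := act 6 n35696
theorem D78310 : act 6 n35696 = n78310 := rfl
theorem F119518 : act 2 n78310 = n36693 := d3_1 D78310 F119061 (iv2 F119060)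
theorem F119519 : act 3 n78310 = n77336 := d7_1 D78310 F119081 (iv3 F119080)
theorem F119520 : act 5 n78310 = n36682 := d12_1 D78310 F57559 (iv5 D35292) D35293 (iv5 F118840)
theorem F119521 : act 7 n36698 = n78310 := d13_0 F119520 F114037 D36698
theorem F119522 : act 0 n78310 = n35701 := d21_1 (iv5 F119520) (iv5 D35701) (iv6 D17301) F118793 (iv6 D8881) F7337 F6117 (iv5 F13140) D17681 D36682
def n78311 : Q := act 0 n35697
theorem D78311 : act 0 n35697 = n78311 := rfl
def n78312 : Q := act 1 n35697
theorem D78312 : act 1 n35697 = n78312 := rfl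
def n78313 : Q := act 3 n35697
theorem D78313 : act 3 n35697 = n78313 := rfl
theorem F119523 : act 4 n78313 = n35712 := d5_2 D35697 D78313 (iv3 D35712) (iv4 D17305) (iv3 F28244)
def n78314 : Q := act 5 n35697
theorem D78314 : act 5 n35697 = n78314 := rfl
def n78315 : Q := act 6 n35697
theorem D78315 : act 6 n35697 = n78315 := rfl
theorem F119524 : act 4 n78315 = n35698 := d10_1 D78315 (iv6 D35698) D35697
def n78316 : Q := act 0 n35698
theorem D78316 : act 0 n35698 = n78316 := rfl
theorem F119525 : act 6 n78316 = n36298 := d21_5 (iv5 D35685) (iv1 D17297) D17300 D35698 D78316 (iv5 D36298) F118102 D40111 (iv6 F61003) (iv1 F118795)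
theorem F119526 : act 3 n47688 = n78316 := d7_3 F119525 (iv3 F118517) (iv6 F74971)
theorem F119527 : act 7 n35783 = n78316 := d14_0 F119525 F118515 F60916 (iv7 F30320) D35783
def n78317 : Q := act 5 n35698
theorem D78317 : act 5 n35698 = n78317 := rfl
theorem F119528 : act 3 n78317 = n35715 := d6_1 D78317 (iv5 D35715) (iv3 F56372)
theorem F119529 : act 6 n78317 = n35701 := d12_2 D35698 D78317 (iv5 D35701) (iv6 D17301) D17300
theorem F119530 : act 7 n78317 = n36384 := d13_2 F88999 D78317 (iv5 F88998)
def n78318 : Q := act 2 n35699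
theorem D78318 : act 2 n35699 = n78318 := rfl
theorem F119531 : act 7 n35700 = n78318 := d15_2 (iv0 D35699) D35700 (iv2 D78318)
def n78319 : Q := act 3 n35699
theorem D78319 : act 3 n35699 = n78319 := rfl
def n78320 : Q := act 4 n35699
theorem D78320 : act 4 n35699 = n78320 := rfl
def n78321 : Q := act 5 n35699
theorem D78321 : act 5 n35699 = n78321 := rfl
def n78322 : Q := act 6 n35699
theorem D78322 : act 6 n35699 = n78322 := rfl
theorem F119532 : act 5 n78322 = n56581 := d21_6 (iv5 F118840) (iv1 D35696) (iv5 D17300) D17301 D35699 D78322 (iv1 F89482) (iv5 D36994) D36995 F119513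
theorem F119533 : act 0 n36319 = n78322 := d21_10 F119532 (iv1 F89482) (iv5 D36994) D36995 F119513 (iv6 D35293) D35292 (iv1 F118539) (iv5 F118075) F118076
theorem F119534 : act 1 n36307 = n78322 := d15_0 (iv0 F119533) (iv7 D36319) (iv2 F57033)
theorem E12251 : n78321 = n36424 := ((c21_2 (iv5 F28581) D36424 (iv5 D78321) D78322 (iv1 F119534) (iv6 D36307) D36306 (iv1 F88936) (iv5 F118545) (iv6 D36699) (iv1 D17685))).symm
theorem F119535 : act 5 n36424 = n35699 := (sb E12251 (iv5 D78321))
def n78323 : Q := act 7 n35699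
theorem D78323 : act 7 n35699 = n78323 := rfl
theorem F119536 : act 2 n78323 = n35700 := d4_1 D78323 F119531 (iv2 D78318)
def n78324 : Q := act 3 n35700
theorem D78324 : act 3 n35700 = n78324 := rfl
def n78325 : Q := act 4 n35700
theorem D78325 : act 4 n35700 = n78325 := rfl
def n78326 : Q := act 0 n35701
theorem D78326 : act 0 n35701 = n78326 := rfl
theorem F119537 : act 5 n78326 = n36683 := d21_0 (iv1 D36683) (iv5 F57166) (iv6 D36413) F28570 D35779 (iv5 F61202) F119072 D78317 F119529 D78326
theorem F119538 : act 2 n36698 = n78326 := d15_3 (iv0 D78326) (iv0 F119522) (iv7 F119521)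
theorem F119539 : act 7 n78326 = n36693 := d4_2 (iv7 F119521) F119538 (iv2 F119518)
theorem F119540 : act 3 n45900 = n78326 := d6_3 F119537 F71267 D45900
theorem F119541 : act 6 n35789 = n78326 := d21_5 (iv5 D17337) (iv1 D8118) D8120 D17341 D35789 F119537 (iv1 D36683) (iv5 F57166) (iv6 D36413) F28570
theorem F119542 : act 7 n78308 = n35789 := d14_0 F119541 F119539 F119061 (iv7 F119063) D78308
def n78327 : Q := act 4 n35701
theorem D78327 : act 4 n35701 = n78327 := rfl
def n78329 : Q := act 3 n35703
theorem D78329 : act 3 n35703 = n78329 := rfl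
theorem F119544 : act 4 n78329 = n73676 := d20_6 F21141 (iv1 F9494) D8104 D17302 D35703 D78329 (iv1 D73676) (iv4 D33852) (iv3 D16364) (iv1 F21145)
def n78330 : Q := act 4 n35703
theorem D78330 : act 4 n35703 = n78330 := rfl
def n78331 : Q := act 5 n35703
theorem D78331 : act 5 n35703 = n78331 := rfl
def n78334 : Q := act 3 n35704
theorem D78334 : act 3 n35704 = n78334 := rfl
theorem F119546 : act 4 n73639 = n78334 := d20_2 D33841 D73639 (iv3 D78334) (iv1 D35704) (iv3 D17302) (iv4 D8104) (iv1 D3651) (iv4 F5432) (iv3 F11833) D16359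
theorem F119547 : act 4 n73650 = n70517 := d20_0 (iv1 F119401) F119399 F56323 (iv1 F56380) D78334 (iv4 F119546) (iv1 F110332) (iv4 D33846) D33845 D73650
def n78335 : Q := act 4 n35704
theorem D78335 : act 4 n35704 = n78335 := rfl
def n78336 : Q := act 5 n35704
theorem D78336 : act 5 n35704 = n78336 := rfl
theorem F119548 : act 0 n78336 = n54415 := d18_0 F87175 (iv1 D55110) F42685 D26637 (iv4 F61030) (iv0 F85910) F56369 D35704 D78336
def n78337 : Q := act 6 n35704
theorem D78337 : act 6 n35704 = n78337 := rfl
def n78338 : Q := act 5 n35705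
theorem D78338 : act 5 n35705 = n78338 := rfl
theorem F119549 : act 2 n78338 = n35706 := d2_1 D78338 (iv5 D35706) D35705
theorem F119551 : act 7 n78338 = n70481 := d13_2 (iv7 F56378) D78338 (iv5 D70481)
theorem F119552 : act 1 n70487 = n78338 := d15_1 D70487 F119551 F106934
theorem F119553 : act 6 n71566 = n78338 := d3_0 F119549 (iv6 F85967) (iv2 F108088)
theorem F119554 : act 1 n78338 = n70486 := d15_0 (iv0 D70486) (iv7 F56383) (iv2 F119549)
theorem F119555 : act 4 n78338 = n71568 := d10_1 F119553 (iv6 D71568) D71566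
def n78339 : Q := act 6 n35705
theorem D78339 : act 6 n35705 = n78339 := rfl
theorem F119556 : act 2 n78339 = n35707 := d3_1 D78339 (iv6 D35707) D35705
theorem F119557 : act 3 n78339 = n70516 := d7_1 D78339 (iv6 D70516) (iv3 F56377)
def n78340 : Q := act 0 n35706
theorem D78340 : act 0 n35706 = n78340 := rfl
theorem F119558 : act 1 n70481 = n78340 := d15_0 (iv0 D78340) F56383 (iv2 F106934)
def n78341 : Q := act 1 n35706
theorem D78341 : act 1 n35706 = n78341 := rfl
theorem F119559 : act 1 n78341 = n70481 := d15_1 D78341 (iv7 F119551) F119549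
def n78342 : Q := act 4 n35706
theorem D78342 : act 4 n35706 = n78342 := rfl
theorem F119560 : act 2 n78342 = n71568 := d1_1 D78342 (iv4 F119555) F119549
theorem F119561 : act 6 n78342 = n71399 := d10_2 F85967 D78342 F107902
theorem F119562 : act 7 n78342 = n70488 := d11_2 (iv7 F56383) D78342 (iv4 D70488)
def n78343 : Q := act 0 n35707
theorem D78343 : act 0 n35707 = n78343 := rfl
def n78344 : Q := act 1 n35707
theorem D78344 : act 1 n35707 = n78344 := rfl
def n78345 : Q := act 5 n35707
theorem D78345 : act 5 n35707 = n78345 := rfl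
theorem F119563 : act 3 n78345 = n35710 := d6_1 D78345 (iv5 D35710) (iv3 F56384)
def n78346 : Q := act 7 n35707
theorem D78346 : act 7 n35707 = n78346 := rfl
theorem F119564 : act 3 n78346 = n35711 := d8_1 D78346 (iv7 D35711) (iv3 F56384)
theorem F119565 : act 6 n78346 = n56386 := d14_1 D78346 F89223 (iv6 D32706) F41963 D35707
def n78347 : Q := act 3 n35708
theorem D78347 : act 3 n35708 = n78347 := rfl
theorem F119566 : act 7 n78347 = n70499 := d8_2 (iv7 F56386) D78347 (iv3 D70499)
def n78348 : Q := act 3 n35709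
theorem D78348 : act 3 n35709 = n78348 := rfl
theorem F119567 : act 5 n78348 = n49875 := d6_2 (iv5 F56387) D78348 (iv3 D49875)
theorem F119568 : act 6 n78348 = n60419 := d7_2 (iv6 F56389) D78348 F94927
theorem F119569 : act 7 n78348 = n49026 := d8_2 (iv7 F56391) D78348 F77371
def n78349 : Q := act 0 n35712
theorem D78349 : act 0 n35712 = n78349 := rfl
def n78350 : Q := act 1 n35712
theorem D78350 : act 1 n35712 = n78350 := rfl
def n78351 : Q := act 2 n35712
theorem D78351 : act 2 n35712 = n78351 := rfl
def n78352 : Q := act 5 n35712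
theorem D78352 : act 5 n35712 = n78352 := rfl
theorem F119570 : act 3 n78352 = n35713 := d6_1 D78352 (iv5 D35713) D35712
def n78353 : Q := act 6 n35712
theorem D78353 : act 6 n35712 = n78353 := rfl
theorem F119571 : act 3 n78353 = n35714 := d7_1 D78353 (iv6 D35714) D35712
def n78354 : Q := act 6 n35713
theorem D78354 : act 6 n35713 = n78354 := rfl
def n78355 : Q := act 5 n35714
theorem D78355 : act 5 n35714 = n78355 := rfl
def n78356 : Q := act 4 n35715
theorem D78356 : act 4 n35715 = n78356 := rfl
theorem F119572 : act 6 n78356 = n35717 := d10_2 (iv6 F56405) D78356 (iv4 D35717)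
theorem F119573 : act 7 n78356 = n36387 := d11_2 (iv7 F56406) D78356 F57139
theorem F119574 : act 1 n58655 = n78356 := d15_1 F92648 F119573 (iv2 F60214)
def n78361 : Q := act 3 n35717
theorem D78361 : act 3 n35717 = n78361 := rfl
def n78362 : Q := act 5 n35717
theorem D78362 : act 5 n35717 = n78362 := rfl
def n78363 : Q := act 2 n35718
theorem D78363 : act 2 n35718 = n78363 := rfl
theorem F119577 : act 7 n35719 = n78363 := d15_2 (iv0 D35718) D35719 (iv2 D78363)
def n78364 : Q := act 3 n35718
theorem D78364 : act 3 n35718 = n78364 := rfl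
def n78366 : Q := act 5 n35718
theorem D78366 : act 5 n35718 = n78366 := rfl
def n78367 : Q := act 6 n35718
theorem D78367 : act 6 n35718 = n78367 := rfl
def n78373 : Q := act 4 n35720
theorem D78373 : act 4 n35720 = n78373 := rfl
theorem F119579 : act 2 n78373 = n35721 := d1_1 D78373 (iv4 D35721) D35720
def n78374 : Q := act 5 n35720
theorem D78374 : act 5 n35720 = n78374 := rfl
theorem F119580 : act 2 n78374 = n35722 := d2_1 D78374 (iv5 D35722) D35720
theorem F119581 : act 7 n78374 = n56546 := d13_2 F88366 D78374 (iv5 F89426)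
theorem F119582 : act 1 n56556 = n78374 := d15_1 D56556 F119581 F89424
theorem F119583 : act 1 n78374 = n56555 := d15_0 (iv0 D56555) (iv7 F56410) (iv2 F119580)
def n78375 : Q := act 0 n35721
theorem D78375 : act 0 n35721 = n78375 := rfl
def n78376 : Q := act 3 n35721
theorem D78376 : act 3 n35721 = n78376 := rfl
theorem F119584 : act 4 n78376 = n35723 := d5_2 D35721 D78376 (iv3 D35723) (iv4 D17313) D17312
def n78377 : Q := act 5 n35721
theorem D78377 : act 5 n35721 = n78377 := rfl
def n78378 : Q := act 0 n35722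
theorem D78378 : act 0 n35722 = n78378 := rfl
theorem F119585 : act 1 n56546 = n78378 := d15_0 (iv0 D78378) F56410 (iv2 F89424)
def n78379 : Q := act 1 n35722
theorem D78379 : act 1 n35722 = n78379 := rfl
theorem F119586 : act 1 n78379 = n56546 := d15_1 D78379 (iv7 F119581) F119580
def n78380 : Q := act 4 n35722
theorem D78380 : act 4 n35722 = n78380 := rfl
theorem F119587 : act 7 n78380 = n56550 := d11_2 (iv7 F56410) D78380 F89430
def n78381 : Q := act 0 n35723
theorem D78381 : act 0 n35723 = n78381 := rfl
def n78382 : Q := act 1 n35723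
theorem D78382 : act 1 n35723 = n78382 := rfl
def n78383 : Q := act 2 n35723
theorem D78383 : act 2 n35723 = n78383 := rfl
def n78384 : Q := act 5 n35723
theorem D78384 : act 5 n35723 = n78384 := rfl
theorem F119588 : act 3 n78384 = n35724 := d6_1 D78384 (iv5 D35724) D35723
def n78385 : Q := act 0 n35724
theorem D78385 : act 0 n35724 = n78385 := rfl
theorem F119589 : act 5 n78385 = n39024 := d17_3 (iv1 F41958) D35724 D78385 (iv4 D39024) (iv5 F43250) F43253 F27592 (iv0 D13222) D13224
theorem F119590 : act 2 n78264 = n78385 := d15_3 (iv0 D78385) (iv0 F114129) (iv7 F119462)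
theorem F119591 : act 1 n35731 = n78385 := d15_0 (iv0 D78385) (iv7 F60068) F60067
theorem F119592 : act 7 n78385 = n78262 := d15_2 F114130 F119591 F119458
def n78386 : Q := act 6 n35724
theorem D78386 : act 6 n35724 = n78386 := rfl
def n78387 : Q := act 4 n35727
theorem D78387 : act 4 n35727 = n78387 := rfl
theorem F119593 : act 2 n78387 = n35728 := d1_1 D78387 (iv4 D35728) D35727
def n78388 : Q := act 6 n35727
theorem D78388 : act 6 n35727 = n78388 := rfl
theorem F119594 : act 2 n78388 = n35729 := d3_1 D78388 (iv6 D35729) D35727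
def n78389 : Q := act 0 n35728
theorem D78389 : act 0 n35728 = n78389 := rfl
def n78390 : Q := act 1 n35728
theorem D78390 : act 1 n35728 = n78390 := rfl
def n78391 : Q := act 3 n35728
theorem D78391 : act 3 n35728 = n78391 := rfl
theorem F119595 : act 4 n78391 = n35730 := d5_2 D35728 D78391 (iv3 D35730) (iv4 D17317) D17316
def n78392 : Q := act 5 n35728
theorem D78392 : act 5 n35728 = n78392 := rfl
def n78393 : Q := act 6 n35728
theorem D78393 : act 6 n35728 = n78393 := rfl
theorem F119596 : act 4 n78393 = n35729 := d10_1 D78393 (iv6 D35729) D35728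
def n78394 : Q := act 0 n35729
theorem D78394 : act 0 n35729 = n78394 := rfl
def n78395 : Q := act 1 n35729
theorem D78395 : act 1 n35729 = n78395 := rfl
def n78396 : Q := act 0 n35730
theorem D78396 : act 0 n35730 = n78396 := rfl
def n78397 : Q := act 1 n35730
theorem D78397 : act 1 n35730 = n78397 := rfl
def n78398 : Q := act 2 n35730
theorem D78398 : act 2 n35730 = n78398 := rfl
def n78399 : Q := act 5 n35730
theorem D78399 : act 5 n35730 = n78399 := rfl
theorem F119597 : act 3 n78399 = n35731 := d6_1 D78399 (iv5 D35731) D35730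
def n78400 : Q := act 6 n35730
theorem D78400 : act 6 n35730 = n78400 := rfl
def n78401 : Q := act 6 n35731
theorem D78401 : act 6 n35731 = n78401 := rfl
def n78402 : Q := act 0 n35732
theorem D78402 : act 0 n35732 = n78402 := rfl
theorem F119599 : act 4 n78402 = n37179 := d18_3 F55988 (iv4 F56412) D78402 (iv5 D37179) (iv4 F67518) (iv0 D37101) F29009 D17854 (iv5 F55987)
theorem F119600 : act 1 n56209 = n78402 := d15_0 (iv0 D78402) (iv7 F57083) (iv2 F88909)
theorem F119601 : act 7 n78402 = n76956 := d15_2 (iv0 F114151) F119600 F115659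
def n78403 : Q := act 5 n35732
theorem D78403 : act 5 n35732 = n78403 := rfl
def n78404 : Q := act 3 n35733
theorem D78404 : act 3 n35733 = n78404 := rfl
theorem F119602 : act 5 n78404 = n37105 := d6_2 (iv5 F56413) D78404 (iv3 D37105)
def n78405 : Q := act 4 n35733
theorem D78405 : act 4 n35733 = n78405 := rfl
theorem F119604 : act 1 n78405 = n35738 := d18_6 (iv1 D17875) (iv4 F29034) (iv1 F92763) (iv4 D37106) (iv5 F56413) D78405 F56415 (iv0 F55884) F55883
theorem F119605 : act 1 n58217 = n78405 := d15_0 F119604 (iv7 F60190) (iv2 F92013)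
def n78406 : Q := act 0 n35734
theorem D78406 : act 0 n35734 = n78406 := rfl
def n78407 : Q := act 1 n35734
theorem D78407 : act 1 n35734 = n78407 := rfl
def n78408 : Q := act 2 n35734
theorem D78408 : act 2 n35734 = n78408 := rfl
def n78409 : Q := act 4 n35734
theorem D78409 : act 4 n35734 = n78409 := rfl
theorem F119606 : act 3 n78409 = n39059 := d5_1 D78409 (iv4 D39059) (iv3 D18548) (iv4 F43479) D35734
def n78410 : Q := act 5 n35734
theorem D78410 : act 5 n35734 = n78410 := rfl
theorem F119607 : act 3 n78410 = n35735 := d6_1 D78410 (iv5 D35735) D35734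
def n78411 : Q := act 0 n35735
theorem D78411 : act 0 n35735 = n78411 := rfl
theorem F119608 : act 5 n78411 = n55830 := d17_3 D17319 D35735 D78411 (iv4 D55830) (iv5 F43438) F28988 (iv5 D17314) (iv0 D8107) D8109
theorem F119609 : act 1 n35737 = n78411 := d15_0 (iv0 D78411) (iv7 F88377) F88376
theorem F119610 : act 2 n78260 = n78411 := d2_3 F119608 F88311 D78260
theorem F119611 : act 7 n78258 = n78411 := d13_0 F119608 F88313 D78258
def n78412 : Q := act 1 n35735
theorem D78412 : act 1 n35735 = n78412 := rfl
theorem F119612 : act 1 n78412 = n35737 := d15_1 D78412 (iv7 F88374) F88373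
theorem F119613 : act 7 n78412 = n78260 := d15_2 (iv0 D78411) D78412 F119610
theorem F119614 : act 5 n78412 = n55829 := d17_7 F43246 (iv5 D26846) F30018 (iv5 D18550) (iv4 F43479) D35735 D78412 F88310 (iv4 D27685)
theorem F119615 : act 2 n78258 = n78412 := d2_3 F119614 F88306 D78258
def n78413 : Q := act 6 n35735
theorem D78413 : act 6 n35735 = n78413 := rfl
def n78414 : Q := act 0 n35736
theorem D78414 : act 0 n35736 = n78414 := rfl
def n78415 : Q := act 1 n35736
theorem D78415 : act 1 n35736 = n78415 := rfl
def n78416 : Q := act 2 n35736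
theorem D78416 : act 2 n35736 = n78416 := rfl
def n78417 : Q := act 4 n35736
theorem D78417 : act 4 n35736 = n78417 := rfl
theorem F119616 : act 3 n78417 = n38363 := d5_1 D78417 (iv4 D38363) F117882 (iv4 F42349) D35736
def n78418 : Q := act 5 n35736
theorem D78418 : act 5 n35736 = n78418 := rfl
theorem F119617 : act 3 n78418 = n35737 := d6_1 D78418 (iv5 D35737) D35736
def n78419 : Q := act 6 n35736
theorem D78419 : act 6 n35736 = n78419 := rfl
def n78420 : Q := act 6 n35737
theorem D78420 : act 6 n35737 = n78420 := rfl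
def n78422 : Q := act 0 n35739
theorem D78422 : act 0 n35739 = n78422 := rfl
theorem F119619 : act 2 n35743 = n78422 := d15_3 (iv0 D78422) (iv0 D35739) D35743
theorem F119620 : act 7 n78422 = n35741 := d4_2 D35743 F119619 (iv2 D35741)
theorem F119621 : act 1 n35740 = n78422 := d15_1 D35740 F119620 (iv2 D35741)
def n78423 : Q := act 2 n35739
theorem D78423 : act 2 n35739 = n78423 := rfl
theorem F119622 : act 7 n35740 = n78423 := d15_2 (iv0 D35739) D35740 (iv2 D78423)
def n78424 : Q := act 3 n35739
theorem D78424 : act 3 n35739 = n78424 := rfl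
def n78425 : Q := act 4 n35739
theorem D78425 : act 4 n35739 = n78425 := rfl
def n78426 : Q := act 5 n35739
theorem D78426 : act 5 n35739 = n78426 := rfl
def n78427 : Q := act 6 n35739
theorem D78427 : act 6 n35739 = n78427 := rfl
def n78428 : Q := act 7 n35739
theorem D78428 : act 7 n35739 = n78428 := rfl
theorem F119623 : act 2 n78428 = n35740 := d4_1 D78428 F119622 (iv2 D78423)
def n78429 : Q := act 3 n35740
theorem D78429 : act 3 n35740 = n78429 := rfl
def n78430 : Q := act 4 n35740
theorem D78430 : act 4 n35740 = n78430 := rfl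
def n78431 : Q := act 5 n35740
theorem D78431 : act 5 n35740 = n78431 := rfl
def n78432 : Q := act 6 n35740
theorem D78432 : act 6 n35740 = n78432 := rfl
def n78433 : Q := act 0 n35741
theorem D78433 : act 0 n35741 = n78433 := rfl
theorem F119624 : act 1 n35743 = n78433 := d15_0 (iv0 D78433) (iv7 F119620) (iv2 F119619)
def n78434 : Q := act 1 n35741
theorem D78434 : act 1 n35741 = n78434 := rfl
theorem F119625 : act 1 n78434 = n35743 := d15_1 D78434 (iv7 D35743) D35741
def n78435 : Q := act 5 n35741
theorem D78435 : act 5 n35741 = n78435 := rfl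
theorem F119626 : act 2 n78435 = n35742 := d2_1 D78435 (iv5 D35742) D35741
def n78436 : Q := act 0 n35742
theorem D78436 : act 0 n35742 = n78436 := rfl
def n78437 : Q := act 1 n35742
theorem D78437 : act 1 n35742 = n78437 := rfl
def n78438 : Q := act 4 n35742
theorem D78438 : act 4 n35742 = n78438 := rfl
def n78439 : Q := act 6 n35742
theorem D78439 : act 6 n35742 = n78439 := rfl
theorem F119627 : act 3 n78439 = n35747 := d7_1 D78439 (iv6 D35747) (iv3 F56417)
theorem F119628 : act 5 n78439 = n35841 := d12_1 D78439 (iv6 D35841) (iv5 D17358) (iv6 F28252) D35742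
def n78440 : Q := act 7 n35742
theorem D78440 : act 7 n35742 = n78440 := rfl
theorem F119629 : act 3 n78440 = n35748 := d8_1 D78440 (iv7 D35748) (iv3 F56417)
theorem F119630 : act 5 n78440 = n35743 := d13_1 D78440 (iv7 D35743) D35742
def n78441 : Q := act 6 n35743
theorem D78441 : act 6 n35743 = n78441 := rfl
theorem F119631 : act 3 n78441 = n35749 := d7_1 D78441 (iv6 D35749) (iv3 F56418)
def n78442 : Q := act 3 n35744
theorem D78442 : act 3 n35744 = n78442 := rfl
theorem F119633 : act 5 n78442 = n39025 := d6_2 (iv5 F56419) D78442 (iv3 D39025)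
def n78443 : Q := act 6 n35744
theorem D78443 : act 6 n35744 = n78443 := rfl
def n78444 : Q := act 3 n35745
theorem D78444 : act 3 n35745 = n78444 := rfl
theorem F119634 : act 5 n78444 = n39052 := d6_2 (iv5 F56420) D78444 (iv3 D39052)
def n78445 : Q := act 6 n35745
theorem D78445 : act 6 n35745 = n78445 := rfl
def n78446 : Q := act 3 n35746
theorem D78446 : act 3 n35746 = n78446 := rfl
def n78447 : Q := act 6 n35746
theorem D78447 : act 6 n35746 = n78447 := rfl
theorem F119635 : act 4 n78447 = n35747 := d10_1 D78447 (iv6 D35747) D35746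
def n78448 : Q := act 0 n35747
theorem D78448 : act 0 n35747 = n78448 := rfl
def n78449 : Q := act 1 n35747
theorem D78449 : act 1 n35747 = n78449 := rfl
def n78450 : Q := act 7 n35747
theorem D78450 : act 7 n35747 = n78450 := rfl
theorem F119636 : act 5 n78450 = n35845 := d13_1 D78450 (iv7 D35845) (iv5 F56421)
def n78451 : Q := act 6 n35748
theorem D78451 : act 6 n35748 = n78451 := rfl
def n78452 : Q := act 5 n35749
theorem D78452 : act 5 n35749 = n78452 := rfl
theorem F119637 : act 7 n78452 = n35848 := d13_2 (iv7 F56424) D78452 (iv5 D35848)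
def n78453 : Q := act 6 n35750
theorem D78453 : act 6 n35750 = n78453 := rfl
theorem F119638 : act 2 n78453 = n75279 := d3_1 D78453 (iv6 D75279) (iv2 F56425)
theorem F119639 : act 4 n78453 = n77207 := d10_1 D78453 (iv6 D77207) (iv4 F56429)
theorem F119640 : act 5 n78453 = n77185 := d12_1 D78453 (iv6 D77185) (iv5 D35234) (iv6 F28259) D35750
def n78454 : Q := act 3 n35751
theorem D78454 : act 3 n35751 = n78454 := rfl
def n78455 : Q := act 5 n35751
theorem D78455 : act 5 n35751 = n78455 := rfl
theorem F119641 : act 2 n78455 = n35758 := d2_1 D78455 (iv5 D35758) (iv2 F56430)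
theorem F119642 : act 4 n78455 = n55899 := d16_2 D35751 D78455 (iv5 D55899) (iv4 D26963) (iv5 D12903) F9500 D12903 F21422 (iv2 F28263)
def n78456 : Q := act 6 n35751
theorem D78456 : act 6 n35751 = n78456 := rfl
theorem F119644 : act 4 n78456 = n35752 := d10_1 D78456 (iv6 D35752) D35751
def n78457 : Q := act 1 n35752
theorem D78457 : act 1 n35752 = n78457 := rfl
theorem F119645 : act 1 n78457 = n35762 := d15_1 D78457 (iv7 D35762) (iv2 F56431)
def n78458 : Q := act 7 n35752
theorem D78458 : act 7 n35752 = n78458 := rfl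
theorem F119646 : act 2 n78458 = n35762 := d4_1 D78458 (iv7 D35762) (iv2 F56431)
theorem F119647 : act 1 n35762 = n78125 := d15_0 (iv0 F119303) D78458 F119646
theorem F119649 : act 1 n78458 = n35760 := d15_0 (iv0 D35760) D35762 (iv2 F119646)
def n78459 : Q := act 3 n35753
theorem D78459 : act 3 n35753 = n78459 := rfl
theorem F119650 : act 7 n78459 = n77192 := d8_2 (iv7 F56433) D78459 (iv3 D77192)
def n78460 : Q := act 5 n35753
theorem D78460 : act 5 n35753 = n78460 := rfl
theorem F119651 : act 2 n78460 = n77187 := d2_1 D78460 (iv5 D77187) (iv2 F56432)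
theorem F119652 : act 7 n78460 = n77193 := d13_2 (iv7 F56433) D78460 (iv5 D77193)
def n78461 : Q := act 6 n35753
theorem D78461 : act 6 n35753 = n78461 := rfl
theorem F119653 : act 2 n78461 = n77188 := d3_1 D78461 (iv6 D77188) (iv2 F56432)
theorem F119654 : act 4 n78461 = n35754 := d10_1 D78461 (iv6 D35754) D35753
def n78462 : Q := act 0 n35754
theorem D78462 : act 0 n35754 = n78462 := rfl
def n78463 : Q := act 1 n35754
theorem D78463 : act 1 n35754 = n78463 := rfl
theorem F119655 : act 1 n78463 = n77191 := d15_1 D78463 (iv7 D77191) (iv2 F56434)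
def n78464 : Q := act 7 n35754
theorem D78464 : act 7 n35754 = n78464 := rfl
theorem F119656 : act 2 n78464 = n77191 := d4_1 D78464 (iv7 D77191) (iv2 F56434)
theorem F119657 : act 6 n78464 = n77197 := d14_1 D78464 (iv7 D77197) (iv6 D35238) (iv7 F28267) D35754
theorem F119658 : act 1 n77191 = n78462 := d15_0 (iv0 D78462) D78464 F119656
theorem F119659 : act 1 n77190 = n78464 := d15_1 D77190 (iv7 D78464) F56434
theorem F119660 : act 1 n78464 = n77189 := d15_0 (iv0 D77189) D77191 (iv2 F119656)
def n78465 : Q := act 3 n35755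
theorem D78465 : act 3 n35755 = n78465 := rfl
def n78466 : Q := act 5 n35755
theorem D78466 : act 5 n35755 = n78466 := rfl
theorem F119661 : act 2 n78466 = n77213 := d2_1 D78466 F115969 F59868
theorem F119662 : act 7 n78466 = n77212 := d13_2 F88439 D78466 F115967
theorem F119663 : act 4 n78466 = n78460 := d16_2 (iv4 F56435) D78466 (iv5 D78460) (iv4 D35753) (iv5 F28268) (iv4 F27549) D34664 F54904 (iv2 F55919)
theorem F119664 : act 0 n78466 = n77066 := d17_2 D35755 D78466 (iv5 D77066) (iv4 D35196) (iv5 D17086) (iv0 F13769) D17079 (iv0 F28027) D17329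
theorem F119665 : act 1 n78466 = n36444 := d17_6 (iv1 F54688) (iv5 D17994) F28025 D35172 (iv4 F56435) D78466 (iv5 D36444) D36442 F57234
def n78467 : Q := act 6 n35755
theorem D78467 : act 6 n35755 = n78467 := rfl
theorem F119666 : act 4 n78467 = n76992 := d10_1 D78467 F115729 (iv4 F56435)
def n78468 : Q := act 3 n35756
theorem D78468 : act 3 n35756 = n78468 := rfl
theorem F119667 : act 4 n78468 = n75804 := d5_2 (iv4 F56436) D78468 (iv3 D75804) (iv4 D34665) (iv3 F54903)
def n78469 : Q := act 5 n35756
theorem D78469 : act 5 n35756 = n78469 := rfl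
theorem F119668 : act 2 n78469 = n77212 := d2_1 D78469 F115967 (iv2 F88437)
theorem F119669 : act 4 n78469 = n77018 := d9_1 D78469 (iv5 D77018) (iv4 D35180) (iv5 D17079) (iv4 F28024) D35172 (iv4 F56435) D78466 F119663 (iv5 D78460) (iv4 D35753) (iv5 F28268) (iv4 F27549) D34664 (iv4 F56436)
theorem F119670 : act 7 n78469 = n77213 := d13_2 F59869 D78469 F115969
theorem F119671 : act 0 n78469 = n36444 := d17_2 F88431 D78469 (iv5 D36444) (iv4 D17596) (iv5 D8264) D8262 F28268 (iv0 F43509) D55895
theorem F119672 : act 1 n78469 = n77066 := d17_6 (iv1 F56031) (iv5 D35312) (iv1 F28086) D34664 (iv4 F56436) D78469 (iv5 D77066) F57229 F57228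
def n78470 : Q := act 6 n35756
theorem D78470 : act 6 n35756 = n78470 := rfl
theorem F119673 : act 4 n78470 = n75803 := d10_1 D78470 (iv6 D75803) (iv4 F56436)
def n78471 : Q := act 0 n35757
theorem D78471 : act 0 n35757 = n78471 := rfl
def n78472 : Q := act 1 n35757
theorem D78472 : act 1 n35757 = n78472 := rfl
def n78473 : Q := act 2 n35757
theorem D78473 : act 2 n35757 = n78473 := rfl
theorem F119674 : act 4 n78473 = n35765 := d1_2 (iv4 F56437) D78473 (iv2 D35765)
def n78474 : Q := act 5 n35757
theorem D78474 : act 5 n35757 = n78474 := rfl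
theorem F119675 : act 3 n78474 = n35758 := d6_1 D78474 (iv5 D35758) D35757
def n78475 : Q := act 6 n35757
theorem D78475 : act 6 n35757 = n78475 := rfl
theorem F119676 : act 3 n78475 = n35759 := d7_1 D78475 (iv6 D35759) D35757
def n78476 : Q := act 4 n35758
theorem D78476 : act 4 n35758 = n78476 := rfl
theorem F119678 : act 2 n78476 = n55899 := d1_1 D78476 (iv4 F119642) F119641
theorem F119679 : act 7 n78476 = n78455 := d11_2 F88442 D78476 F119642
theorem F119680 : act 5 n78476 = n55895 := d16_3 D17329 D35758 D78476 (iv4 D55895) (iv5 D26962) F21413 D26962 F43508 F28263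
theorem F119681 : act 0 n78476 = n75278 := d17_0 (iv5 D75278) F54685 D35244 D77214 F115973 F57219 D77206 F115963 D78476
theorem F119682 : act 1 n78476 = n77206 := d18_8 (iv1 F57219) (iv4 D36436) F28598 D35188 D77044 (iv4 F115962) F115963 D78476 (iv5 D77206)
def n78477 : Q := act 6 n35758
theorem D78477 : act 6 n35758 = n78477 := rfl
def n78480 : Q := act 5 n35759
theorem D78480 : act 5 n35759 = n78480 := rfl
def n78481 : Q := act 7 n35759
theorem D78481 : act 7 n35759 = n78481 := rfl
def n78482 : Q := act 2 n35760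
theorem D78482 : act 2 n35760 = n78482 := rfl
theorem F119684 : act 7 n35761 = n78482 := d15_2 (iv0 D35760) D35761 (iv2 D78482)
def n78483 : Q := act 3 n35760
theorem D78483 : act 3 n35760 = n78483 := rfl
def n78484 : Q := act 4 n35760
theorem D78484 : act 4 n35760 = n78484 := rfl
def n78485 : Q := act 5 n35760
theorem D78485 : act 5 n35760 = n78485 := rfl
def n78486 : Q := act 7 n35760
theorem D78486 : act 7 n35760 = n78486 := rfl
theorem F119685 : act 2 n78486 = n35761 := d4_1 D78486 F119684 (iv2 D78482)
def n78487 : Q := act 3 n35761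
theorem D78487 : act 3 n35761 = n78487 := rfl
def n78489 : Q := act 5 n35761
theorem D78489 : act 5 n35761 = n78489 := rfl
def n78490 : Q := act 6 n35761
theorem D78490 : act 6 n35761 = n78490 := rfl
def n78491 : Q := act 2 n35763
theorem D78491 : act 2 n35763 = n78491 := rfl
theorem F119686 : act 7 n35764 = n78491 := d15_2 (iv0 D35763) D35764 (iv2 D78491)
def n78492 : Q := act 3 n35763
theorem D78492 : act 3 n35763 = n78492 := rfl
def n78493 : Q := act 4 n35763
theorem D78493 : act 4 n35763 = n78493 := rfl
def n78494 : Q := act 5 n35763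
theorem D78494 : act 5 n35763 = n78494 := rfl
def n78495 : Q := act 6 n35763
theorem D78495 : act 6 n35763 = n78495 := rfl
def n78496 : Q := act 7 n35763
theorem D78496 : act 7 n35763 = n78496 := rfl
theorem F119687 : act 2 n78496 = n35764 := d4_1 D78496 F119686 (iv2 D78491)
def n78497 : Q := act 3 n35764
theorem D78497 : act 3 n35764 = n78497 := rfl
def n78498 : Q := act 4 n35764
theorem D78498 : act 4 n35764 = n78498 := rfl
def n78499 : Q := act 5 n35764
theorem D78499 : act 5 n35764 = n78499 := rfl
def n78500 : Q := act 6 n35764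
theorem D78500 : act 6 n35764 = n78500 := rfl
def n78501 : Q := act 6 n35765
theorem D78501 : act 6 n35765 = n78501 := rfl
theorem F119688 : act 2 n78501 = n35766 := d3_1 D78501 (iv6 D35766) D35765
def n78502 : Q := act 0 n35766
theorem D78502 : act 0 n35766 = n78502 := rfl
def n78503 : Q := act 1 n35766
theorem D78503 : act 1 n35766 = n78503 := rfl
def n78504 : Q := act 5 n35766
theorem D78504 : act 5 n35766 = n78504 := rfl
theorem F119689 : act 3 n78504 = n35769 := d6_1 D78504 (iv5 D35769) (iv3 F56440)
def n78505 : Q := act 7 n35766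
theorem D78505 : act 7 n35766 = n78505 := rfl
def n78506 : Q := act 3 n35767
theorem D78506 : act 3 n35767 = n78506 := rfl
theorem F119691 : act 6 n78506 = n58678 := d7_2 (iv6 F92676) D78506 (iv3 D58678)
def n78508 : Q := act 3 n35768
theorem D78508 : act 3 n35768 = n78508 := rfl
def n78509 : Q := act 5 n35768
theorem D78509 : act 5 n35768 = n78509 := rfl
theorem F119693 : act 1 n78509 = n78403 := d17_6 F55003 F44700 F58133 F58131 (iv4 F92679) D78509 (iv5 D78403) F114152 F114150
def n78510 : Q := act 6 n35768
theorem D78510 : act 6 n35768 = n78510 := rfl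
theorem F119694 : act 4 n78510 = n43118 := d10_1 D78510 (iv6 D43118) (iv4 F92679)
theorem F119695 : act 7 n78510 = n58655 := d14_2 (iv7 F92680) D78510 (iv6 D58655) F45038 (iv6 F56533)
def n78511 : Q := act 0 n35769
theorem D78511 : act 0 n35769 = n78511 := rfl
def n78512 : Q := act 1 n35769
theorem D78512 : act 1 n35769 = n78512 := rfl
theorem F119696 : act 5 n78512 = n76956 := d17_7 D36339 F57085 (iv1 D17863) F13218 (iv4 F28271) D35769 D78512 (iv0 F115661) F57082
def n78515 : Q := act 0 n35771
theorem D78515 : act 0 n35771 = n78515 := rfl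
def n78516 : Q := act 1 n35771
theorem D78516 : act 1 n35771 = n78516 := rfl
def n78517 : Q := act 2 n35771
theorem D78517 : act 2 n35771 = n78517 := rfl
def n78519 : Q := act 5 n35771
theorem D78519 : act 5 n35771 = n78519 := rfl
theorem F119699 : act 6 n78519 = n56557 := d12_2 (iv6 F61332) D78519 F89437 (iv6 D40294) D40293
def n78520 : Q := act 3 n35772
theorem D78520 : act 3 n35772 = n78520 := rfl
def n78521 : Q := act 5 n35772
theorem D78521 : act 5 n35772 = n78521 := rfl
def n78525 : Q := act 2 n35774
theorem D78525 : act 2 n35774 = n78525 := rfl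
def n78527 : Q := act 5 n35774
theorem D78527 : act 5 n35774 = n78527 := rfl
theorem F119704 : act 3 n78527 = n35776 := d6_1 D78527 (iv5 D35776) D35774
theorem F119705 : act 6 n37105 = n78527 := d7_0 F119704 (iv6 F56446) D37105
def n78528 : Q := act 6 n35774
theorem D78528 : act 6 n35774 = n78528 := rfl
theorem F119706 : act 3 n78528 = n35777 := d7_1 D78528 (iv6 D35777) D35774
def n78529 : Q := act 3 n35775
theorem D78529 : act 3 n35775 = n78529 := rfl
def n78530 : Q := act 5 n35775
theorem D78530 : act 5 n35775 = n78530 := rfl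
def n78531 : Q := act 6 n35775
theorem D78531 : act 6 n35775 = n78531 := rfl
theorem F119708 : act 4 n78531 = n35777 := d10_1 D78531 (iv6 D35777) D35775
def n78533 : Q := act 3 n35778
theorem D78533 : act 3 n35778 = n78533 := rfl
def n78534 : Q := act 5 n35778
theorem D78534 : act 5 n35778 = n78534 := rfl
theorem F119712 : act 4 n78534 = n41281 := d9_1 D78534 (iv5 D41281) (iv4 F31158) (iv5 D19479) F14265 D17118 D35269 D77261 F116025 (iv5 D41284) (iv4 F31180) F31181 F17491 D17337 D35778
def n78535 : Q := act 6 n35778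
theorem D78535 : act 6 n35778 = n78535 := rfl
theorem F119713 : act 4 n78535 = n35779 := d10_1 D78535 (iv6 D35779) D35778
def n78536 : Q := act 0 n35779
theorem D78536 : act 0 n35779 = n78536 := rfl
def n78537 : Q := act 1 n35779
theorem D78537 : act 1 n35779 = n78537 := rfl
def n78538 : Q := act 3 n35780
theorem D78538 : act 3 n35780 = n78538 := rfl
def n78539 : Q := act 6 n35780
theorem D78539 : act 6 n35780 = n78539 := rfl
theorem F119714 : act 2 n78539 = n35788 := d3_1 D78539 (iv6 D35788) (iv2 F56449)
theorem F119715 : act 4 n78539 = n35781 := d10_1 D78539 (iv6 D35781) D35780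
def n78540 : Q := act 0 n35781
theorem D78540 : act 0 n35781 = n78540 := rfl
theorem F119716 : act 6 n78540 = n36698 := d21_5 F28571 (iv1 F14931) D17338 D35781 D78540 (iv5 D36698) (iv1 D17685) (iv5 F28581) (iv6 D17587) D17584
theorem F119717 : act 2 n35789 = n78540 := d15_3 (iv0 D78540) (iv0 F119516) F119542
theorem F119718 : act 7 n35790 = n78540 := d15_2 (iv0 D35789) D35790 (iv2 F119717)
theorem F119719 : act 2 n78308 = n35790 := d4_3 F119718 (iv2 F119717) (iv7 F119542)
theorem F119720 : act 6 n55826 = n35790 := d14_5 F119718 F119716 F119521 (iv6 D78310) (iv7 F119062)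
theorem F119721 : act 1 n35791 = n78540 := d15_1 F119517 (iv7 F119718) (iv2 F119719)
def n78541 : Q := act 7 n35781
theorem D78541 : act 7 n35781 = n78541 := rfl
theorem F119722 : act 2 n78541 = n35791 := d4_1 D78541 (iv7 D35791) (iv2 F56450)
theorem F119723 : act 5 n78541 = n78541 := d13_1 D78541 (iv7 D78541) F56451
theorem F119724 : act 1 n35790 = n78541 := d15_1 D35790 (iv7 D78541) F56450
theorem F119725 : act 1 n78541 = n35789 := d15_1 F119724 (iv7 F119542) F119719
def n78542 : Q := act 3 n35782
theorem D78542 : act 3 n35782 = n78542 := rfl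
theorem F119726 : act 4 n78542 = n47684 := d5_2 D35782 D78542 (iv3 D47684) (iv4 D22953) (iv3 F30318)
def n78543 : Q := act 5 n35782
theorem D78543 : act 5 n35782 = n78543 := rfl
theorem F119727 : act 4 n78543 = n42085 := d9_1 D78543 F65000 F32177 (iv5 D10831) (iv4 F12782) D17120 D35271 D77266 F116036 F64994 (iv4 F57158) (iv5 D36411) (iv4 D17581) (iv5 F30319) D35782
def n78544 : Q := act 6 n35782
theorem D78544 : act 6 n35782 = n78544 := rfl
theorem F119728 : act 4 n78544 = n35783 := d10_1 D78544 (iv6 D35783) D35782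
def n78545 : Q := act 3 n35784
theorem D78545 : act 3 n35784 = n78545 := rfl
def n78546 : Q := act 5 n35784
theorem D78546 : act 5 n35784 = n78546 := rfl
theorem F119729 : act 4 n78546 = n40314 := d16_2 (iv4 F56453) D78546 (iv5 D40314) (iv4 D19056) (iv5 D8930) (iv4 F13903) D19055 (iv7 F31074) (iv2 F31639)
theorem F119730 : act 0 n78546 = n42086 := d17_2 D35784 D78546 F65003 (iv4 D35805) F28280 (iv0 F13826) (iv5 F30319) (iv0 D17339) D17340
theorem F119731 : act 1 n78546 = n36422 := d17_6 (iv1 F60834) (iv5 D39974) (iv1 F30172) D19836 (iv4 F56453) D78546 (iv5 D36422) D36420 F57186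
def n78547 : Q := act 6 n35784
theorem D78547 : act 6 n35784 = n78547 := rfl
theorem F119732 : act 4 n78547 = n42064 := d10_1 D78547 (iv6 D42064) (iv4 F56453)
def n78548 : Q := act 3 n35785
theorem D78548 : act 3 n35785 = n78548 := rfl
theorem F119733 : act 4 n78548 = n57922 := d5_2 F56454 D78548 (iv3 D57922) (iv4 D27639) (iv3 F30582)
def n78549 : Q := act 5 n35785
theorem D78549 : act 5 n35785 = n78549 := rfl
theorem F119734 : act 4 n78549 = n42066 := d9_1 D78549 (iv5 D42066) (iv4 D19837) (iv5 D9335) D9334 D19836 (iv4 F56453) D78546 F119729 (iv5 D40314) (iv4 D19056) (iv5 D8930) (iv4 F13903) D19055 F56454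
theorem F119735 : act 0 n78549 = n36422 := d17_2 F67160 D78549 (iv5 D36422) (iv4 D17586) (iv5 D8258) (iv0 F12783) D17120 (iv0 F32116) D42862
theorem F119736 : act 1 n78549 = n42086 := d17_6 F32112 (iv5 D19159) F16936 D19055 F56454 D78549 F65003 F57181 F57180
def n78550 : Q := act 6 n35785
theorem D78550 : act 6 n35785 = n78550 := rfl
theorem F119737 : act 4 n78550 = n40309 := d10_1 D78550 F61365 F56454
def n78551 : Q := act 0 n35786
theorem D78551 : act 0 n35786 = n78551 := rfl
def n78552 : Q := act 1 n35786
theorem D78552 : act 1 n35786 = n78552 := rfl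
def n78553 : Q := act 2 n35786
theorem D78553 : act 2 n35786 = n78553 := rfl
theorem F119738 : act 4 n78553 = n35794 := d1_2 (iv4 F56455) D78553 (iv2 D35794)
def n78554 : Q := act 5 n35786
theorem D78554 : act 5 n35786 = n78554 := rfl
theorem F119739 : act 3 n78554 = n35787 := d6_1 D78554 (iv5 D35787) D35786
def n78555 : Q := act 6 n35786
theorem D78555 : act 6 n35786 = n78555 := rfl
theorem F119740 : act 3 n78555 = n35788 := d7_1 D78555 (iv6 D35788) D35786
theorem F119741 : act 4 n78555 = n35795 := d10_1 D78555 (iv6 D35795) (iv4 F56455)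
def n78556 : Q := act 0 n35787
theorem D78556 : act 0 n35787 = n78556 := rfl
theorem F119742 : act 5 n78556 = n35807 := d17_1 D78556 (iv1 F57163) (iv5 F63612) (iv4 D41292) (iv5 D19421) D19419 D41284 (iv0 F67168) F67167
theorem F119743 : act 4 n78556 = n41275 := d18_3 (iv1 F67169) F67167 D78556 (iv5 D41275) (iv4 D19416) (iv0 F14529) D19835 F31638 D41281
theorem F119744 : act 1 n42944 = n78556 := d15_0 (iv0 D78556) (iv7 F67182) (iv2 F67301)
def n78557 : Q := act 1 n35787
theorem D78557 : act 1 n35787 = n78557 := rfl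
theorem F119745 : act 1 n78557 = n42944 := d15_1 D78557 F67303 F67194
theorem F119746 : act 5 n78557 = n35808 := d17_7 F28570 (iv5 D17337) (iv1 D8118) D8120 D17340 D35787 D78557 (iv0 F57162) (iv4 D36412)
theorem F119747 : act 4 n40305 = n78557 := d9_15 F119746 (iv4 F56469) (iv5 D20277) (iv4 D9591) (iv5 F17522) D19416 D41275 (iv4 F119743) F119742 F56468 (iv5 D19051) F13897 D8925 D19052 D40305
def n78558 : Q := act 6 n35787
theorem D78558 : act 6 n35787 = n78558 := rfl
def n78559 : Q := act 0 n35788
theorem D78559 : act 0 n35788 = n78559 := rfl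
def n78560 : Q := act 1 n35788
theorem D78560 : act 1 n35788 = n78560 := rfl
def n78561 : Q := act 5 n35788
theorem D78561 : act 5 n35788 = n78561 := rfl
def n78562 : Q := act 7 n35788
theorem D78562 : act 7 n35788 = n78562 := rfl
theorem F119748 : act 4 n78562 = n35791 := d11_1 D78562 (iv7 D35791) (iv4 F56456)
def n78563 : Q := act 3 n35789
theorem D78563 : act 3 n35789 = n78563 := rfl
theorem F119749 : act 6 n78563 = n45900 := d7_2 (iv6 F119541) D78563 F119540
theorem F119750 : act 0 n42619 = n78563 := d21_4 F31225 F17492 D20116 D42619 F119749 (iv5 D45900) (iv1 D21948) D21949 F34456 (iv1 F31227)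
def n78564 : Q := act 4 n35789
theorem D78564 : act 4 n35789 = n78564 := rfl
def n78565 : Q := act 5 n35789
theorem D78565 : act 5 n35789 = n78565 := rfl
theorem F119751 : act 6 n78565 = n36313 := d12_2 (iv6 F119541) D78565 (iv5 F119037) (iv6 F119038) (iv5 F119537)
def n78566 : Q := act 3 n35790
theorem D78566 : act 3 n35790 = n78566 := rfl
def n78567 : Q := act 4 n35790
theorem D78567 : act 4 n35790 = n78567 := rfl
def n78568 : Q := act 5 n35790
theorem D78568 : act 5 n35790 = n78568 := rfl
def n78569 : Q := act 2 n35792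
theorem D78569 : act 2 n35792 = n78569 := rfl
theorem F119752 : act 7 n35793 = n78569 := d15_2 (iv0 D35792) D35793 (iv2 D78569)
def n78570 : Q := act 3 n35792
theorem D78570 : act 3 n35792 = n78570 := rfl
def n78571 : Q := act 4 n35792
theorem D78571 : act 4 n35792 = n78571 := rfl
def n78572 : Q := act 5 n35792
theorem D78572 : act 5 n35792 = n78572 := rfl
def n78573 : Q := act 6 n35792
theorem D78573 : act 6 n35792 = n78573 := rfl
def n78574 : Q := act 7 n35792
theorem D78574 : act 7 n35792 = n78574 := rfl
theorem F119753 : act 2 n78574 = n35793 := d4_1 D78574 F119752 (iv2 D78569)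
def n78575 : Q := act 3 n35793
theorem D78575 : act 3 n35793 = n78575 := rfl
def n78576 : Q := act 4 n35793
theorem D78576 : act 4 n35793 = n78576 := rfl
def n78577 : Q := act 5 n35793
theorem D78577 : act 5 n35793 = n78577 := rfl
def n78578 : Q := act 6 n35793
theorem D78578 : act 6 n35793 = n78578 := rfl
def n78579 : Q := act 6 n35794
theorem D78579 : act 6 n35794 = n78579 := rfl
theorem F119754 : act 2 n78579 = n35795 := d3_1 D78579 (iv6 D35795) D35794
def n78580 : Q := act 0 n35795
theorem D78580 : act 0 n35795 = n78580 := rfl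
def n78581 : Q := act 1 n35795
theorem D78581 : act 1 n35795 = n78581 := rfl
def n78582 : Q := act 5 n35795
theorem D78582 : act 5 n35795 = n78582 := rfl
theorem F119755 : act 3 n78582 = n35798 := d6_1 D78582 (iv5 D35798) (iv3 F56459)
def n78583 : Q := act 7 n35795
theorem D78583 : act 7 n35795 = n78583 := rfl
theorem F119756 : act 3 n78583 = n35799 := d8_1 D78583 (iv7 D35799) (iv3 F56459)
def n78584 : Q := act 3 n35796
theorem D78584 : act 3 n35796 = n78584 := rfl
theorem F119757 : act 6 n78584 = n76176 := d7_2 (iv6 F114142) D78584 (iv3 D76176)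
def n78585 : Q := act 5 n35796
theorem D78585 : act 5 n35796 = n78585 := rfl
def n78586 : Q := act 3 n35797
theorem D78586 : act 3 n35797 = n78586 := rfl
def n78587 : Q := act 5 n35797
theorem D78587 : act 5 n35797 = n78587 := rfl
def n78588 : Q := act 0 n35798
theorem D78588 : act 0 n35798 = n78588 := rfl
def n78589 : Q := act 1 n35798
theorem D78589 : act 1 n35798 = n78589 := rfl
theorem F119758 : act 5 n39844 = n78589 := d21_6 F13737 (iv1 F13034) (iv5 F13048) (iv6 F28209) (iv1 F45056) D39844 (iv1 D78589) (iv5 D35798) (iv6 D17343) (iv1 F13739)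
def n78590 : Q := act 4 n35798
theorem D78590 : act 4 n35798 = n78590 := rfl
def n78591 : Q := act 7 n35798
theorem D78591 : act 7 n35798 = n78591 := rfl
theorem F119759 : act 5 n78591 = n35799 := d13_1 D78591 (iv7 D35799) D35798
def n78592 : Q := act 3 n35801
theorem D78592 : act 3 n35801 = n78592 := rfl
theorem F119760 : act 6 n78592 = n77230 := d7_2 (iv6 F56462) D78592 (iv3 D77230)
def n78593 : Q := act 5 n35801
theorem D78593 : act 5 n35801 = n78593 := rfl
def n78594 : Q := act 4 n35802
theorem D78594 : act 4 n35802 = n78594 := rfl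
theorem F119761 : act 6 n78594 = n36331 := d10_2 (iv6 F56463) D78594 (iv4 D36331)
theorem F119762 : act 7 n78594 = n39855 := d11_2 F56485 D78594 F60651
def n78595 : Q := act 4 n35803
theorem D78595 : act 4 n35803 = n78595 := rfl
def n78596 : Q := act 3 n35804
theorem D78596 : act 3 n35804 = n78596 := rfl
def n78597 : Q := act 5 n35804
theorem D78597 : act 5 n35804 = n78597 := rfl
def n78598 : Q := act 3 n35805
theorem D78598 : act 3 n35805 = n78598 := rfl
def n78599 : Q := act 6 n35805
theorem D78599 : act 6 n35805 = n78599 := rfl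
theorem F119763 : act 2 n78599 = n35811 := d3_1 D78599 (iv6 D35811) (iv2 F56464)
theorem F119764 : act 4 n78599 = n35806 := d10_1 D78599 (iv6 D35806) D35805
def n78600 : Q := act 0 n35806
theorem D78600 : act 0 n35806 = n78600 := rfl
theorem F119765 : act 6 n78600 = n78568 := d21_5 F30319 F13826 (iv5 F28280) D35806 D78600 (iv5 D78568) (iv1 D35790) F28276 (iv6 D17341) D17339
theorem F119766 : act 2 n35812 = n78600 := d15_3 (iv0 D78600) (iv0 F116111) F119515
theorem F119767 : act 7 n78600 = n35813 := d4_2 F119515 F119766 (iv2 F116110)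
theorem F119768 : act 1 n35814 = n78600 := d15_1 (iv0 F116112) F119767 (iv2 F116110)
def n78601 : Q := act 7 n35806
theorem D78601 : act 7 n35806 = n78601 := rfl
theorem F119769 : act 2 n78601 = n35814 := d4_1 D78601 (iv7 D35814) (iv2 F56465)
theorem F119770 : act 3 n78601 = n78062 := d8_1 D78601 (iv7 D78062) (iv3 F56466)
theorem F119771 : act 5 n78601 = n39980 := d13_1 D78601 (iv7 D39980) (iv5 F56467)
theorem F119772 : act 1 n35813 = n78601 := d15_1 D35813 (iv7 D78601) F56465
theorem F119773 : act 1 n78601 = n35812 := d15_1 F119772 (iv7 F119515) F116110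
def n78602 : Q := act 3 n35807
theorem D78602 : act 3 n35807 = n78602 := rfl
def n78603 : Q := act 6 n35807
theorem D78603 : act 6 n35807 = n78603 := rfl
theorem F119774 : act 2 n78603 = n57341 := d3_1 D78603 F90523 (iv2 F57187)
theorem F119775 : act 4 n78603 = n40299 := d10_1 D78603 F61346 (iv4 F56468)
def n78604 : Q := act 3 n35808
theorem D78604 : act 3 n35808 = n78604 := rfl
theorem F119776 : act 4 n78604 = n76899 := d5_2 F56469 D78604 (iv3 D76899) (iv4 D35138) (iv3 F32166)
def n78605 : Q := act 6 n35808
theorem D78605 : act 6 n35808 = n78605 := rfl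
theorem F119777 : act 4 n78605 = n42930 := d10_1 D78605 (iv6 D42930) F56469
def n78606 : Q := act 0 n35809
theorem D78606 : act 0 n35809 = n78606 := rfl
def n78607 : Q := act 1 n35809
theorem D78607 : act 1 n35809 = n78607 := rfl
theorem F119778 : act 4 n76208 = n78607 := d20_6 (iv4 D8860) F5898 D7860 D16864 D34808 D76208 (iv1 D78607) F56470 (iv3 D17350) (iv1 F13802)
def n78608 : Q := act 2 n35809
theorem D78608 : act 2 n35809 = n78608 := rfl
theorem F119779 : act 4 n78608 = n35817 := d1_2 (iv4 F56470) D78608 (iv2 D35817)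
def n78609 : Q := act 5 n35809
theorem D78609 : act 5 n35809 = n78609 := rfl
theorem F119780 : act 3 n78609 = n35810 := d6_1 D78609 (iv5 D35810) D35809
def n78610 : Q := act 6 n35809
theorem D78610 : act 6 n35809 = n78610 := rfl
theorem F119781 : act 3 n78610 = n35811 := d7_1 D78610 (iv6 D35811) D35809
theorem F119782 : act 4 n78610 = n35818 := d10_1 D78610 (iv6 D35818) (iv4 F56470)
def n78611 : Q := act 0 n35810
theorem D78611 : act 0 n35810 = n78611 := rfl
theorem F119783 : act 5 n78611 = n41261 := d17_1 D78611 F63577 (iv5 F67195) (iv4 D42884) (iv5 D20257) D20255 (iv5 F63610) (iv0 F64947) F64945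
theorem F119784 : act 4 n78611 = n41270 := d18_3 (iv1 F64948) F64945 D78611 (iv5 D41270) (iv4 D19413) F17551 D20278 F32171 (iv5 F63609)
theorem F119785 : act 1 n41292 = n78611 := d15_0 (iv0 D78611) (iv7 F57190) (iv2 F63611)
theorem F119786 : act 2 n78549 = n78611 := d1_3 F119784 (iv2 F64951) (iv4 F119734)
theorem F119787 : act 7 n78546 = n78611 := d11_0 F119784 F63593 (iv4 F119729)
def n78612 : Q := act 1 n35810
theorem D78612 : act 1 n35810 = n78612 := rfl
theorem F119788 : act 1 n78612 = n41292 := d15_1 D78612 (iv7 F65004) F65002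
theorem F119789 : act 7 n78612 = n78549 := d15_2 (iv0 D78611) D78612 F119786
theorem F119790 : act 5 n78612 = n41267 := d17_7 (iv1 F30321) (iv5 D18989) (iv1 D8896) (iv5 F12888) D17348 D35810 D78612 F63590 (iv4 D35780)
theorem F119791 : act 2 n78546 = n78612 := d2_3 F119790 F63587 D78546
theorem F119792 : act 4 n41265 = n78612 := d9_15 F119790 (iv4 D41267) (iv5 D19412) (iv4 D9107) D9108 D19413 D41270 (iv4 F119784) F119783 (iv4 D41261) (iv5 D19409) (iv4 D9104) D9105 D19410 D41265
def n78613 : Q := act 6 n35810
theorem D78613 : act 6 n35810 = n78613 := rfl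
def n78614 : Q := act 0 n35811
theorem D78614 : act 0 n35811 = n78614 := rfl
def n78615 : Q := act 1 n35811
theorem D78615 : act 1 n35811 = n78615 := rfl
def n78616 : Q := act 5 n35811
theorem D78616 : act 5 n35811 = n78616 := rfl
def n78617 : Q := act 7 n35811
theorem D78617 : act 7 n35811 = n78617 := rfl
theorem F119793 : act 4 n78617 = n35814 := d11_1 D78617 (iv7 D35814) (iv4 F56471)
def n78618 : Q := act 3 n35812
theorem D78618 : act 3 n35812 = n78618 := rfl
def n78619 : Q := act 4 n35812
theorem D78619 : act 4 n35812 = n78619 := rfl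
def n78620 : Q := act 6 n35812
theorem D78620 : act 6 n35812 = n78620 := rfl
theorem F119794 : act 2 n78620 = n78568 := d3_1 D78620 (iv6 F119765) (iv2 F119766)
theorem F119795 : act 5 n78620 = n78308 := d12_1 D78620 (iv6 D78308) D78307 (iv6 F119510) (iv5 F119514)
theorem F119796 : act 7 n78620 = n78565 := d14_2 F119515 D78620 F119751 (iv7 F119042) (iv6 F118544)
def n78621 : Q := act 3 n35813
theorem D78621 : act 3 n35813 = n78621 := rfl
def n78622 : Q := act 4 n35813
theorem D78622 : act 4 n35813 = n78622 := rfl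
def n78623 : Q := act 2 n35815
theorem D78623 : act 2 n35815 = n78623 := rfl
theorem F119797 : act 7 n35816 = n78623 := d15_2 (iv0 D35815) D35816 (iv2 D78623)
def n78624 : Q := act 3 n35815
theorem D78624 : act 3 n35815 = n78624 := rfl
theorem F119798 : act 4 n78624 = n76911 := d20_6 F13747 (iv1 F9510) D8124 D17350 D35815 D78624 (iv1 D76911) F55848 (iv3 D17074) (iv1 F13745)
def n78625 : Q := act 4 n35815
theorem D78625 : act 4 n35815 = n78625 := rfl
def n78626 : Q := act 5 n35815
theorem D78626 : act 5 n35815 = n78626 := rfl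
def n78627 : Q := act 6 n35815
theorem D78627 : act 6 n35815 = n78627 := rfl
def n78628 : Q := act 7 n35815
theorem D78628 : act 7 n35815 = n78628 := rfl
theorem F119799 : act 2 n78628 = n35816 := d4_1 D78628 F119797 (iv2 D78623)
def n78629 : Q := act 3 n35816
theorem D78629 : act 3 n35816 = n78629 := rfl
def n78630 : Q := act 4 n35816
theorem D78630 : act 4 n35816 = n78630 := rfl
def n78631 : Q := act 5 n35816
theorem D78631 : act 5 n35816 = n78631 := rfl
def n78632 : Q := act 6 n35816
theorem D78632 : act 6 n35816 = n78632 := rfl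
def n78633 : Q := act 6 n35817
theorem D78633 : act 6 n35817 = n78633 := rfl
theorem F119800 : act 2 n78633 = n35818 := d3_1 D78633 (iv6 D35818) D35817
theorem F119801 : act 3 n78633 = n78150 := d7_1 D78633 F119324 F57240
def n78634 : Q := act 0 n35818
theorem D78634 : act 0 n35818 = n78634 := rfl
def n78635 : Q := act 1 n35818
theorem D78635 : act 1 n35818 = n78635 := rfl
def n78636 : Q := act 5 n35818
theorem D78636 : act 5 n35818 = n78636 := rfl
theorem F119802 : act 3 n78636 = n35819 := d6_1 D78636 (iv5 D35819) (iv3 F56475)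
theorem F119803 : act 6 n78636 = n77245 := d12_2 D35818 D78636 (iv5 D77245) F55990 (iv5 F28283)
def n78637 : Q := act 7 n35818
theorem D78637 : act 7 n35818 = n78637 := rfl
theorem F119804 : act 3 n78637 = n35820 := d8_1 D78637 (iv7 D35820) (iv3 F56475)
def n78638 : Q := act 1 n35822
theorem D78638 : act 1 n35822 = n78638 := rfl
theorem F119805 : act 1 n78638 = n55913 := d15_1 D78638 F88469 (iv2 F56483)
theorem F119806 : act 5 n35858 = n78638 := d21_0 (iv1 D78638) F56484 (iv6 F43989) (iv1 D17288) D17290 F28235 D27153 F43897 D35629 F61321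
theorem F119807 : act 6 n55937 = n78638 := d21_3 (iv5 F21435) D26975 D55937 (iv1 D78638) (iv6 D35822) (iv5 F28838) (iv1 F43903) F53255 F53256 (iv1 D17601)
def n78639 : Q := act 4 n35823
theorem D78639 : act 4 n35823 = n78639 := rfl
theorem F119808 : act 7 n78639 = n78145 := d11_2 (iv7 F56486) D78639 (iv4 D78145)
def n78640 : Q := act 6 n35824
theorem D78640 : act 6 n35824 = n78640 := rfl
theorem F119809 : act 2 n78640 = n35842 := d3_1 D78640 (iv6 D35842) F56487
def n78641 : Q := act 0 n35825
theorem D78641 : act 0 n35825 = n78641 := rfl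
theorem F119810 : act 1 n35830 = n78641 := d15_0 (iv0 D78641) (iv7 F56491) (iv2 F56492)
def n78642 : Q := act 1 n35825
theorem D78642 : act 1 n35825 = n78642 := rfl
theorem F119811 : act 1 n78642 = n35830 := d15_1 D78642 (iv7 D35830) D35825
def n78643 : Q := act 3 n35825
theorem D78643 : act 3 n35825 = n78643 := rfl
theorem F119812 : act 7 n78643 = n35831 := d8_2 F56491 D78643 (iv3 D35831)
def n78644 : Q := act 4 n35825
theorem D78644 : act 4 n35825 = n78644 := rfl
theorem F119813 : act 2 n78644 = n35827 := d1_1 D78644 (iv4 D35827) D35825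
theorem F119814 : act 7 n78644 = n35832 := d11_2 F56491 D78644 (iv4 D35832)
def n78645 : Q := act 5 n35825
theorem D78645 : act 5 n35825 = n78645 := rfl
theorem F119815 : act 2 n78645 = n35828 := d2_1 D78645 (iv5 D35828) D35825
theorem F119816 : act 7 n78645 = n35833 := d13_2 F56491 D78645 (iv5 D35833)
def n78646 : Q := act 6 n35825
theorem D78646 : act 6 n35825 = n78646 := rfl
theorem F119817 : act 2 n78646 = n35829 := d3_1 D78646 (iv6 D35829) D35825
def n78647 : Q := act 0 n35826
theorem D78647 : act 0 n35826 = n78647 := rfl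
def n78648 : Q := act 1 n35826
theorem D78648 : act 1 n35826 = n78648 := rfl
def n78649 : Q := act 2 n35826
theorem D78649 : act 2 n35826 = n78649 := rfl
def n78650 : Q := act 4 n35826
theorem D78650 : act 4 n35826 = n78650 := rfl
theorem F119818 : act 0 n78650 = n58710 := d20_7 (iv4 D8124) (iv1 D3658) D3659 D8126 D17355 D35826 D78650 F92776 (iv3 D27916) F22122
theorem F119819 : act 0 n75183 = n78650 := d20_7 (iv4 F119211) (iv1 F119213) D78009 (iv3 F119216) (iv1 F60826) F60824 (iv4 F112727) (iv4 D78650) (iv3 D35826) D35824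
def n78651 : Q := act 5 n35826
theorem D78651 : act 5 n35826 = n78651 := rfl
theorem F119820 : act 3 n78651 = n35828 := d6_1 D78651 (iv5 D35828) D35826
def n78652 : Q := act 6 n35826
theorem D78652 : act 6 n35826 = n78652 := rfl
theorem F119821 : act 3 n78652 = n35829 := d7_1 D78652 (iv6 D35829) D35826
def n78653 : Q := act 7 n35826
theorem D78653 : act 7 n35826 = n78653 := rfl
theorem F119822 : act 3 n78653 = n35830 := d8_1 D78653 (iv7 D35830) D35826
def n78654 : Q := act 0 n35827
theorem D78654 : act 0 n35827 = n78654 := rfl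
theorem F119823 : act 4 n78654 = n78629 := d20_2 D35827 D78654 (iv3 D78629) (iv1 D35816) (iv3 D17350) (iv4 D8124) (iv1 D3658) D3659 D8126 D17355
def n78655 : Q := act 1 n35827
theorem D78655 : act 1 n35827 = n78655 := rfl
theorem F119824 : act 1 n78655 = n35832 := d15_1 D78655 (iv7 F119814) F119813
def n78656 : Q := act 3 n35827
theorem D78656 : act 3 n35827 = n78656 := rfl
def n78657 : Q := act 5 n35827
theorem D78657 : act 5 n35827 = n78657 := rfl
def n78658 : Q := act 6 n35827
theorem D78658 : act 6 n35827 = n78658 := rfl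
theorem F119825 : act 4 n78658 = n35829 := d10_1 D78658 (iv6 D35829) D35827
def n78659 : Q := act 7 n35827
theorem D78659 : act 7 n35827 = n78659 := rfl
theorem F119826 : act 2 n78659 = n35832 := d4_1 D78659 (iv7 F119814) F119813
theorem F119827 : act 4 n78659 = n35830 := d11_1 D78659 (iv7 D35830) D35827
theorem F119828 : act 1 n35832 = n78654 := d15_0 (iv0 D78654) D78659 F119826
def n78660 : Q := act 0 n35828
theorem D78660 : act 0 n35828 = n78660 := rfl
def n78661 : Q := act 1 n35828
theorem D78661 : act 1 n35828 = n78661 := rfl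
def n78662 : Q := act 4 n35828
theorem D78662 : act 4 n35828 = n78662 := rfl
def n78663 : Q := act 6 n35828
theorem D78663 : act 6 n35828 = n78663 := rfl
def n78664 : Q := act 7 n35828
theorem D78664 : act 7 n35828 = n78664 := rfl
theorem F119830 : act 2 n78664 = n35833 := d4_1 D78664 (iv7 F119816) F119815
theorem F119831 : act 5 n78664 = n35830 := d13_1 D78664 (iv7 D35830) D35828
theorem F119832 : act 1 n35833 = n78660 := d15_0 (iv0 D78660) D78664 F119830
def n78665 : Q := act 0 n35829
theorem D78665 : act 0 n35829 = n78665 := rfl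
def n78666 : Q := act 1 n35829
theorem D78666 : act 1 n35829 = n78666 := rfl
def n78667 : Q := act 5 n35829
theorem D78667 : act 5 n35829 = n78667 := rfl
def n78668 : Q := act 7 n35829
theorem D78668 : act 7 n35829 = n78668 := rfl
def n78669 : Q := act 6 n35830
theorem D78669 : act 6 n35830 = n78669 := rfl
theorem F119833 : act 2 n78669 = n35834 := d3_1 D78669 (iv6 D35834) (iv2 F56492)
def n78670 : Q := act 0 n35831
theorem D78670 : act 0 n35831 = n78670 := rfl
def n78671 : Q := act 1 n35831
theorem D78671 : act 1 n35831 = n78671 := rfl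
def n78672 : Q := act 2 n35831
theorem D78672 : act 2 n35831 = n78672 := rfl
def n78673 : Q := act 4 n35831
theorem D78673 : act 4 n35831 = n78673 := rfl
theorem F119834 : act 0 n77251 = n78673 := d20_1 D77251 (iv4 D78673) (iv3 D35831) (iv1 D17356) (iv3 D8126) (iv4 D3659) (iv1 F5658) D8007 D17117 D35266
def n78674 : Q := act 5 n35831
theorem D78674 : act 5 n35831 = n78674 := rfl
theorem F119835 : act 3 n78674 = n35833 := d6_1 D78674 (iv5 D35833) D35831
def n78675 : Q := act 6 n35831
theorem D78675 : act 6 n35831 = n78675 := rfl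
theorem F119836 : act 3 n78675 = n35834 := d7_1 D78675 (iv6 D35834) D35831
def n78676 : Q := act 3 n35832
theorem D78676 : act 3 n35832 = n78676 := rfl
def n78677 : Q := act 5 n35832
theorem D78677 : act 5 n35832 = n78677 := rfl
def n78678 : Q := act 6 n35832
theorem D78678 : act 6 n35832 = n78678 := rfl
theorem F119837 : act 4 n78678 = n35834 := d10_1 D78678 (iv6 D35834) D35832
def n78679 : Q := act 4 n35833
theorem D78679 : act 4 n35833 = n78679 := rfl
def n78680 : Q := act 6 n35833
theorem D78680 : act 6 n35833 = n78680 := rfl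
def n78681 : Q := act 0 n35834
theorem D78681 : act 0 n35834 = n78681 := rfl
def n78682 : Q := act 1 n35834
theorem D78682 : act 1 n35834 = n78682 := rfl
def n78683 : Q := act 5 n35834
theorem D78683 : act 5 n35834 = n78683 := rfl
def n78684 : Q := act 7 n35834
theorem D78684 : act 7 n35834 = n78684 := rfl
def n78685 : Q := act 2 n35835
theorem D78685 : act 2 n35835 = n78685 := rfl
theorem F119838 : act 7 n35836 = n78685 := d15_2 (iv0 D35835) D35836 (iv2 D78685)
def n78686 : Q := act 3 n35835
theorem D78686 : act 3 n35835 = n78686 := rfl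
def n78688 : Q := act 5 n35835
theorem D78688 : act 5 n35835 = n78688 := rfl
def n78690 : Q := act 7 n35835
theorem D78690 : act 7 n35835 = n78690 := rfl
theorem F119839 : act 2 n78690 = n35836 := d4_1 D78690 F119838 (iv2 D78685)
def n78691 : Q := act 3 n35836
theorem D78691 : act 3 n35836 = n78691 := rfl
theorem F119840 : act 4 n78691 = n75182 := d20_6 (iv4 D8259) F5718 (iv4 F12894) (iv3 F28294) (iv1 F56494) D78691 (iv1 D75182) F54630 (iv3 D16698) (iv1 F13034)
def n78693 : Q := act 5 n35836
theorem D78693 : act 5 n35836 = n78693 := rfl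
def n78695 : Q := act 4 n35837
theorem D78695 : act 4 n35837 = n78695 := rfl
theorem F119841 : act 2 n78695 = n35840 := d1_1 D78695 (iv4 D35840) (iv2 F56495)
theorem F119842 : act 7 n78695 = n36285 := d11_2 (iv7 F56496) D78695 F57018
theorem F119843 : act 1 n36284 = n78695 := d15_1 D36284 F119842 (iv2 D36285)
theorem F119844 : act 1 n78695 = n36283 := d15_0 (iv0 D36283) (iv7 F56502) (iv2 F119841)
def n78696 : Q := act 6 n35837
theorem D78696 : act 6 n35837 = n78696 := rfl
theorem F119845 : act 2 n78696 = n35841 := d3_1 D78696 (iv6 D35841) (iv2 F56495)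
def n78697 : Q := act 2 n35838
theorem D78697 : act 2 n35838 = n78697 := rfl
theorem F119846 : act 7 n35839 = n78697 := d15_2 (iv0 D35838) D35839 (iv2 D78697)
def n78698 : Q := act 3 n35838
theorem D78698 : act 3 n35838 = n78698 := rfl
theorem F119847 : act 4 n78698 = n75230 := d20_6 (iv4 D12904) F9505 (iv4 F12892) (iv3 F28292) D35838 D78698 (iv1 D75230) F54648 (iv3 D16708) (iv1 F21426)
def n78699 : Q := act 4 n35838
theorem D78699 : act 4 n35838 = n78699 := rfl
def n78700 : Q := act 5 n35838
theorem D78700 : act 5 n35838 = n78700 := rfl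
def n78701 : Q := act 6 n35838
theorem D78701 : act 6 n35838 = n78701 := rfl
def n78702 : Q := act 7 n35838
theorem D78702 : act 7 n35838 = n78702 := rfl
theorem F119848 : act 2 n78702 = n35839 := d4_1 D78702 F119846 (iv2 D78697)
def n78703 : Q := act 3 n35839
theorem D78703 : act 3 n35839 = n78703 := rfl
def n78704 : Q := act 4 n35839
theorem D78704 : act 4 n35839 = n78704 := rfl
def n78705 : Q := act 5 n35839
theorem D78705 : act 5 n35839 = n78705 := rfl
def n78706 : Q := act 6 n35839
theorem D78706 : act 6 n35839 = n78706 := rfl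
def n78707 : Q := act 0 n35840
theorem D78707 : act 0 n35840 = n78707 := rfl
theorem F119849 : act 1 n36285 = n78707 := d15_0 (iv0 D78707) F56502 D36285
def n78708 : Q := act 1 n35840
theorem D78708 : act 1 n35840 = n78708 := rfl
theorem F119850 : act 1 n78708 = n36285 := d15_1 D78708 (iv7 F119842) F119841
def n78709 : Q := act 5 n35840
theorem D78709 : act 5 n35840 = n78709 := rfl
theorem F119851 : act 3 n78709 = n36291 := d6_1 D78709 F57027 (iv3 F56501)
theorem F119852 : act 7 n78709 = n36286 := d13_2 (iv7 F56502) D78709 (iv5 D36286)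
def n78710 : Q := act 6 n35840
theorem D78710 : act 6 n35840 = n78710 := rfl
theorem F119853 : act 3 n78710 = n36292 := d7_1 D78710 (iv6 D36292) (iv3 F56501)
theorem F119854 : act 4 n78710 = n35841 := d10_1 D78710 (iv6 D35841) D35840
def n78711 : Q := act 0 n35841
theorem D78711 : act 0 n35841 = n78711 := rfl
def n78712 : Q := act 1 n35841
theorem D78712 : act 1 n35841 = n78712 := rfl
def n78713 : Q := act 7 n35841
theorem D78713 : act 7 n35841 = n78713 := rfl
theorem F119855 : act 3 n78713 = n35845 := d8_1 D78713 (iv7 D35845) (iv3 F56503)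
theorem F119856 : act 6 n78713 = n36406 := d14_1 D78713 (iv7 D36406) F28557 F28293 D35841
def n78716 : Q := act 5 n35842
theorem D78716 : act 5 n35842 = n78716 := rfl
theorem F119857 : act 3 n78716 = n35848 := d6_1 D78716 (iv5 D35848) (iv3 F56504)
theorem F119858 : act 6 n78716 = n36405 := d12_2 D35842 D78716 (iv5 D36405) F28557 (iv5 F28295)
def n78717 : Q := act 3 n35843
theorem D78717 : act 3 n35843 = n78717 := rfl
theorem F119859 : act 6 n78717 = n39052 := d7_2 (iv6 F56505) D78717 (iv3 D39052)
def n78718 : Q := act 5 n35843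
theorem D78718 : act 5 n35843 = n78718 := rfl
def n78719 : Q := act 3 n35844
theorem D78719 : act 3 n35844 = n78719 := rfl
def n78720 : Q := act 5 n35844
theorem D78720 : act 5 n35844 = n78720 := rfl
def n78721 : Q := act 2 n35846
theorem D78721 : act 2 n35846 = n78721 := rfl
theorem F119860 : act 4 n78721 = n58719 := d1_2 F88503 D78721 (iv2 D58719)
theorem F119861 : act 7 n35847 = n78721 := d15_2 (iv0 D35846) D35847 (iv2 D78721)
def n78722 : Q := act 3 n35846
theorem D78722 : act 3 n35846 = n78722 := rfl
def n78723 : Q := act 5 n35846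
theorem D78723 : act 5 n35846 = n78723 := rfl
def n78724 : Q := act 6 n35846
theorem D78724 : act 6 n35846 = n78724 := rfl
theorem F119862 : act 4 n78724 = n39915 := d10_1 D78724 F60728 F88503
theorem F119863 : act 5 n78724 = n78449 := d21_6 F14990 F12903 (iv5 F12895) D17361 D35846 D78724 (iv1 D78449) F56421 (iv6 D17360) (iv1 F14992)
def n78725 : Q := act 7 n35846
theorem D78725 : act 7 n35846 = n78725 := rfl
theorem F119864 : act 2 n78725 = n35847 := d4_1 D78725 F119861 (iv2 D78721)
theorem F119865 : act 4 n78725 = n58722 := d11_1 D78725 (iv7 D58722) F88503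
def n78726 : Q := act 3 n35847
theorem D78726 : act 3 n35847 = n78726 := rfl
def n78727 : Q := act 5 n35847
theorem D78727 : act 5 n35847 = n78727 := rfl
def n78728 : Q := act 6 n35847
theorem D78728 : act 6 n35847 = n78728 := rfl
theorem F119866 : act 4 n78728 = n58687 := d10_1 D78728 F92707 (iv4 F88501)
theorem F119867 : act 1 n78594 = n78728 := d18_6 (iv1 D17381) (iv4 F28333) (iv1 F115714) (iv4 D35801) D35802 D78594 F119866 (iv0 D58687) F45058
def n78729 : Q := act 0 n35848
theorem D78729 : act 0 n35848 = n78729 := rfl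
def n78730 : Q := act 1 n35848
theorem D78730 : act 1 n35848 = n78730 := rfl
theorem F119868 : act 5 n78730 = n36398 := d17_7 F53257 F43825 (iv1 D27111) F21586 (iv4 F28297) D35848 D78730 F110627 F110626
def n78731 : Q := act 4 n35848
theorem D78731 : act 4 n35848 = n78731 := rfl
def n78734 : Q := act 3 n35849
theorem D78734 : act 3 n35849 = n78734 := rfl
theorem F119872 : act 7 n78734 = n35855 := d8_2 F56510 D78734 (iv3 D35855)
def n78735 : Q := act 4 n35849
theorem D78735 : act 4 n35849 = n78735 := rfl
theorem F119873 : act 2 n78735 = n35851 := d1_1 D78735 (iv4 D35851) D35849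
theorem F119874 : act 7 n78735 = n35856 := d11_2 F56510 D78735 (iv4 D35856)
def n78736 : Q := act 5 n35849
theorem D78736 : act 5 n35849 = n78736 := rfl
theorem F119875 : act 2 n78736 = n35852 := d2_1 D78736 (iv5 D35852) D35849
theorem F119876 : act 7 n78736 = n35857 := d13_2 F56510 D78736 (iv5 D35857)
def n78737 : Q := act 6 n35849
theorem D78737 : act 6 n35849 = n78737 := rfl
theorem F119877 : act 2 n78737 = n35853 := d3_1 D78737 (iv6 D35853) D35849
theorem F119878 : act 5 n55938 = n78737 := d2_0 F119877 F56512 (iv2 F88515)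
theorem F119879 : act 7 n55937 = n78737 := d15_2 F116004 (iv0 F116005) F119877
theorem F119880 : act 7 n35858 = n78638 := d14_4 F119879 (iv6 D78737) (iv7 F56510) D35858 (iv6 F119807)
theorem F119881 : act 2 n78638 = n78147 := d15_3 F119321 F88470 F119880
theorem F119882 : act 2 n35858 = n55941 := d15_3 (iv0 F88518) D78638 (iv7 F119880)
theorem E12252 : n55938 = n17363 := (c3_4 D35858 F119882 (iv6 D55941) (iv2 F88515))
theorem E12253 : n35854 = n26976 := (((iv2 F56513)).symm.trans (sb E12252 F88515))
theorem E12254 : n78737 = n35857 := (((D35857).symm.trans (sb E12252 F119878))).symm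
theorem E12255 : n35849 = n26975 := ((F56510).symm.trans (sb E12252 (iv7 D55938)))
theorem F119883 : act 2 n26976 = n17363 := (sb E12253 F56513)
theorem E12258 : n55934 = n17362 := ((F88511).symm.trans (sb E12253 (iv7 D35854)))
theorem F119884 : act 2 n35857 = n35853 := (sb E12254 F119877)
theorem E12259 : n78736 = n55937 := (((iv7 F119876)).symm.trans (sb E12254 (iv7 F119879)))
theorem E12260 : n78734 = n55935 := (((D55935).symm.trans (sb E12255 D78734))).symm
theorem E12261 : n78735 = n55936 := (((D55936).symm.trans (sb E12255 D78735))).symm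
theorem F119885 : act 7 n26975 = n17363 := (sb E12255 (iv7 F56510))
theorem F119886 : act 2 n17362 = n26975 := (sb E12258 (iv2 D55934))
theorem F119887 : act 7 n17362 = n26976 := (sb E12258 (iv7 F88511))
theorem F119888 : act 2 n55937 = n35852 := (sb E12259 F119875)
theorem F119889 : act 7 n55937 = n35857 := (sb E12259 F119876)
theorem F119890 : act 7 n55935 = n35855 := (sb E12260 F119872)
theorem F119891 : act 2 n55936 = n35851 := (sb E12261 F119873)
theorem F119892 : act 7 n55936 = n35856 := (sb E12261 F119874)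
theorem F119893 : act 7 n55941 = n78147 := d4_2 (iv7 F119880) F119882 (iv2 F119881)
theorem F119894 : act 7 n35852 = n35853 := d14_2 F119893 (iv6 F119323) (iv6 D35853) F119887 D55941
theorem F119895 : act 2 n35856 = n55940 := d15_3 F88517 (iv0 F88512) F119892
theorem F119896 : act 7 n35851 = n55940 := d4_2 (iv7 F119892) F119891 (iv2 F119895)
theorem F119897 : act 7 n55939 = n35850 := d8_2 F119887 D55939 (iv3 D35850)
def n78738 : Q := act 0 n35850
theorem D78738 : act 0 n35850 = n78738 := rfl
def n78739 : Q := act 1 n35850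
theorem D78739 : act 1 n35850 = n78739 := rfl
def n78740 : Q := act 2 n35850
theorem D78740 : act 2 n35850 = n78740 := rfl
def n78741 : Q := act 4 n35850
theorem D78741 : act 4 n35850 = n78741 := rfl
def n78742 : Q := act 5 n35850
theorem D78742 : act 5 n35850 = n78742 := rfl
theorem F119898 : act 3 n78742 = n35852 := d6_1 D78742 (iv5 D35852) D35850
def n78743 : Q := act 6 n35850
theorem D78743 : act 6 n35850 = n78743 := rfl
theorem F119899 : act 3 n78743 = n35853 := d7_1 D78743 (iv6 D35853) D35850
theorem F119900 : act 5 n55939 = n78743 := d6_0 F119899 F56512 D55939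
theorem F119901 : act 7 n78742 = n78743 := d8_0 F119899 (iv7 F119894) (iv3 F119898)
def n78744 : Q := act 3 n35851
theorem D78744 : act 3 n35851 = n78744 := rfl
def n78745 : Q := act 5 n35851
theorem D78745 : act 5 n35851 = n78745 := rfl
def n78746 : Q := act 6 n35851
theorem D78746 : act 6 n35851 = n78746 := rfl
theorem F119902 : act 4 n78746 = n35853 := d10_1 D78746 (iv6 D35853) D35851
def n78747 : Q := act 0 n35852
theorem D78747 : act 0 n35852 = n78747 := rfl
theorem F119903 : act 5 n78747 = n55894 := d21_2 D35852 D78747 (iv6 D55894) (iv1 D26960) (iv6 D12899) (iv5 D6114) F4108 (iv5 F5681) D8129 D17362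
theorem F119904 : act 6 n78747 = n36340 := d21_5 (iv5 F56484) F88518 F119322 (iv6 F119323) D78747 (iv5 F57091) (iv1 F29030) (iv5 F43501) F43502 (iv1 F43519)
theorem F119906 : act 1 n35857 = n78747 := d15_0 (iv0 D78747) F119894 (iv2 F119884)
def n78748 : Q := act 4 n35852
theorem D78748 : act 4 n35852 = n78748 := rfl
theorem F119908 : act 7 n78748 = n78746 := d11_2 (iv7 F119894) D78748 F119902
def n78749 : Q := act 0 n35855
theorem D78749 : act 0 n35855 = n78749 := rfl
def n78750 : Q := act 1 n35855
theorem D78750 : act 1 n35855 = n78750 := rfl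
def n78751 : Q := act 2 n35855
theorem D78751 : act 2 n35855 = n78751 := rfl
def n78752 : Q := act 4 n35855
theorem D78752 : act 4 n35855 = n78752 := rfl
def n78753 : Q := act 5 n35855
theorem D78753 : act 5 n35855 = n78753 := rfl
theorem F119910 : act 3 n78753 = n35857 := d6_1 D78753 (iv5 D35857) D35855
theorem F119911 : act 6 n55935 = n78753 := d7_0 F119910 F56514 D55935
def n78754 : Q := act 6 n35855
theorem D78754 : act 6 n35855 = n78754 := rfl
theorem F119912 : act 3 n78754 = n35858 := d7_1 D78754 (iv6 D35858) D35855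
def n78755 : Q := act 3 n35856
theorem D78755 : act 3 n35856 = n78755 := rfl
def n78756 : Q := act 5 n35856
theorem D78756 : act 5 n35856 = n78756 := rfl
def n78757 : Q := act 6 n35856
theorem D78757 : act 6 n35856 = n78757 := rfl
theorem F119913 : act 4 n78757 = n35858 := d10_1 D78757 (iv6 D35858) D35856
def n78758 : Q := act 4 n35857
theorem D78758 : act 4 n35857 = n78758 := rfl
theorem F119914 : act 2 n78758 = n78746 := d1_1 D78758 F119902 (iv2 F119884)
theorem F119915 : act 6 n78758 = n55936 := d10_2 (iv6 F56514) D78758 (iv4 D55936)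
theorem F119916 : act 0 n78758 = n76193 := d18_2 (iv1 F119906) D78758 F114156 F55007 (iv4 F92647) F119574 (iv4 D78356) (iv0 F88427) (iv5 F119903)
def n78759 : Q := act 6 n35859
theorem D78759 : act 6 n35859 = n78759 := rfl
theorem F119917 : act 2 n78759 = n77198 := d3_1 D78759 (iv6 D77198) (iv2 F56515)
theorem F119918 : act 3 n78759 = n44985 := d7_1 D78759 (iv6 D44985) (iv3 F56516)
theorem F119919 : act 4 n78759 = n76906 := d10_1 D78759 (iv6 D76906) (iv4 F56520)
theorem F119920 : act 5 n78759 = n76892 := d12_1 D78759 (iv6 D76892) (iv5 D35135) (iv6 F28305) D35859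
def n78760 : Q := act 3 n35860
theorem D78760 : act 3 n35860 = n78760 := rfl
theorem F119921 : act 4 n78760 = n75280 := d5_2 D35860 D78760 (iv3 D75280) (iv4 D34467) (iv3 F28318)
def n78761 : Q := act 5 n35860
theorem D78761 : act 5 n35860 = n78761 := rfl
theorem F119922 : act 2 n78761 = n35865 := d2_1 D78761 (iv5 D35865) (iv2 F56521)
theorem F119923 : act 4 n78761 = n55946 := d16_2 D35860 D78761 (iv5 D55946) (iv4 D26979) (iv5 D12911) F9512 D12911 F21448 (iv2 F28317)
theorem F119924 : act 0 n78761 = n57941 := d17_2 (iv1 F88529) D78761 (iv5 D57941) (iv4 F55976) F55974 F42970 D55345 F87593 (iv4 F88527)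
theorem F119925 : act 1 n78761 = n57938 := d17_6 F21245 (iv5 D12798) F17554 D17366 D35860 D78761 (iv5 D57938) (iv0 D27647) (iv4 D13202)
def n78763 : Q := act 1 n35861
theorem D78763 : act 1 n35861 = n78763 := rfl
theorem F119928 : act 1 n78763 = n35869 := d15_1 D78763 (iv7 D35869) (iv2 F56522)
def n78764 : Q := act 7 n35861
theorem D78764 : act 7 n35861 = n78764 := rfl
theorem F119929 : act 2 n78764 = n35869 := d4_1 D78764 (iv7 D35869) (iv2 F56522)
theorem F119931 : act 5 n78764 = n57196 := d13_1 D78764 (iv7 D57196) (iv5 F56524)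
theorem F119932 : act 1 n35868 = n78764 := d15_1 D35868 (iv7 D78764) F56522
theorem F119933 : act 1 n78764 = n35867 := d15_0 (iv0 D35867) D35869 (iv2 F119929)
def n78765 : Q := act 3 n35862
theorem D78765 : act 3 n35862 = n78765 := rfl
def n78766 : Q := act 6 n35862
theorem D78766 : act 6 n35862 = n78766 := rfl
theorem F119934 : act 4 n78766 = n57920 := d10_1 D78766 (iv6 D57920) (iv4 F56525)
def n78767 : Q := act 3 n35863
theorem D78767 : act 3 n35863 = n78767 := rfl
theorem F119935 : act 4 n78767 = n77186 := d5_2 (iv4 F56526) D78767 (iv3 D77186) (iv4 D35235) (iv3 F44563)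
def n78768 : Q := act 6 n35863
theorem D78768 : act 6 n35863 = n78768 := rfl
theorem F119936 : act 4 n78768 = n57925 := d10_1 D78768 (iv6 D57925) (iv4 F56526)
def n78769 : Q := act 0 n35864
theorem D78769 : act 0 n35864 = n78769 := rfl
def n78770 : Q := act 1 n35864
theorem D78770 : act 1 n35864 = n78770 := rfl
theorem F119937 : act 4 n78570 = n78770 := d20_6 (iv4 D3718) (iv1 F5679) D8121 D17342 D35792 D78570 (iv1 D78770) F56527 (iv3 D17369) F12903
def n78771 : Q := act 2 n35864
theorem D78771 : act 2 n35864 = n78771 := rfl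
theorem F119938 : act 4 n78771 = n35872 := d1_2 (iv4 F56527) D78771 (iv2 D35872)
def n78772 : Q := act 5 n35864
theorem D78772 : act 5 n35864 = n78772 := rfl
theorem F119939 : act 3 n78772 = n35865 := d6_1 D78772 (iv5 D35865) D35864
def n78773 : Q := act 6 n35864
theorem D78773 : act 6 n35864 = n78773 := rfl
theorem F119940 : act 3 n78773 = n35866 := d7_1 D78773 (iv6 D35866) D35864
theorem F119941 : act 4 n78773 = n35873 := d10_1 D78773 (iv6 D35873) (iv4 F56527)
def n78774 : Q := act 4 n35865
theorem D78774 : act 4 n35865 = n78774 := rfl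
theorem F119942 : act 2 n78774 = n55946 := d1_1 D78774 (iv4 F119923) F119922
theorem F119943 : act 7 n78774 = n78761 := d11_2 F88533 D78774 F119923
theorem F119944 : act 5 n78774 = n55942 := d16_3 D17367 D35865 D78774 (iv4 D55942) (iv5 D26978) F21442 D26978 F43541 F28317
theorem F119945 : act 0 n78774 = n76908 := d17_0 (iv5 D76908) (iv1 D35141) D35143 (iv4 F89954) (iv5 D56907) F55841 D76905 F115537 D78774
theorem F119946 : act 1 n78774 = n76905 := d18_6 F56238 (iv4 D27642) F21984 D17367 D35865 D78774 F115536 (iv0 F119156) (iv5 D77941)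

end Cfsg.Agent.Helper17.ONTC
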