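import Cfsg.Agent.Helper17.ONTC.Facts16

set_option autoImplicit false
set_option linter.all false

noncomputable section

namespace Cfsg.Agent.Helper17.ONTC

def n78775 : Q := act 6 n35865
theorem D78775 : act 6 n35865 = n78775 := rfl
def n78776 : Q := act 0 n35866
theorem D78776 : act 0 n35866 = n78776 := rfl
def n78778 : Q := act 5 n35866
theorem D78778 : act 5 n35866 = n78778 := rfl
def n78780 : Q := act 2 n35867
theorem D78780 : act 2 n35867 = n78780 := rfl
theorem F119948 : act 7 n35868 = n78780 := d15_2 (iv0 D35867) D35868 (iv2 D78780)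
def n78781 : Q := act 3 n35867
theorem D78781 : act 3 n35867 = n78781 := rfl
def n78782 : Q := act 4 n35867
theorem D78782 : act 4 n35867 = n78782 := rfl
def n78783 : Q := act 5 n35867
theorem D78783 : act 5 n35867 = n78783 := rfl
theorem F119949 : act 6 n78783 = n57156 := d12_2 (iv6 F89943) D78783 F90186 (iv6 D56902) D56901
def n78784 : Q := act 7 n35867
theorem D78784 : act 7 n35867 = n78784 := rfl
theorem F119950 : act 2 n78784 = n35868 := d4_1 D78784 F119948 (iv2 D78780)
def n78785 : Q := act 3 n35868
theorem D78785 : act 3 n35868 = n78785 := rfl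
def n78786 : Q := act 4 n35868
theorem D78786 : act 4 n35868 = n78786 := rfl
def n78787 : Q := act 5 n35868
theorem D78787 : act 5 n35868 = n78787 := rfl
theorem F119951 : act 6 n57194 = n78787 := d21_5 (iv5 D13108) (iv1 F9746) D13123 D27403 D57194 (iv5 D78787) (iv1 D35868) (iv5 F29048) (iv6 D17878) F21870
def n78788 : Q := act 6 n35868
theorem D78788 : act 6 n35868 = n78788 := rfl
def n78789 : Q := act 2 n35870
theorem D78789 : act 2 n35870 = n78789 := rfl
theorem F119952 : act 7 n35871 = n78789 := d15_2 (iv0 D35870) D35871 (iv2 D78789)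
def n78790 : Q := act 3 n35870
theorem D78790 : act 3 n35870 = n78790 := rfl
def n78791 : Q := act 4 n35870
theorem D78791 : act 4 n35870 = n78791 := rfl
def n78792 : Q := act 5 n35870
theorem D78792 : act 5 n35870 = n78792 := rfl
def n78793 : Q := act 6 n35870
theorem D78793 : act 6 n35870 = n78793 := rfl
def n78794 : Q := act 7 n35870
theorem D78794 : act 7 n35870 = n78794 := rfl
theorem F119953 : act 2 n78794 = n35871 := d4_1 D78794 F119952 (iv2 D78789)
def n78795 : Q := act 3 n35871
theorem D78795 : act 3 n35871 = n78795 := rfl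
def n78796 : Q := act 4 n35871
theorem D78796 : act 4 n35871 = n78796 := rfl
def n78797 : Q := act 5 n35871
theorem D78797 : act 5 n35871 = n78797 := rfl
def n78798 : Q := act 6 n35871
theorem D78798 : act 6 n35871 = n78798 := rfl
def n78799 : Q := act 6 n35872
theorem D78799 : act 6 n35872 = n78799 := rfl
theorem F119954 : act 2 n78799 = n35873 := d3_1 D78799 (iv6 D35873) D35872
def n78800 : Q := act 0 n35873
theorem D78800 : act 0 n35873 = n78800 := rfl
def n78801 : Q := act 1 n35873
theorem D78801 : act 1 n35873 = n78801 := rfl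
def n78802 : Q := act 5 n35873
theorem D78802 : act 5 n35873 = n78802 := rfl
theorem F119955 : act 3 n78802 = n35876 := d6_1 D78802 (iv5 D35876) (iv3 F56530)
def n78803 : Q := act 7 n35873
theorem D78803 : act 7 n35873 = n78803 := rfl
theorem F119956 : act 3 n78803 = n35877 := d8_1 D78803 (iv7 D35877) (iv3 F56530)
def n78805 : Q := act 1 n35876
theorem D78805 : act 1 n35876 = n78805 := rfl
theorem F119957 : act 5 n78805 = n76197 := d17_7 F55004 F55002 (iv1 D17880) F13243 (iv4 F28322) D35876 D78805 (iv0 F114163) F60189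
def n78806 : Q := act 4 n35876
theorem D78806 : act 4 n35876 = n78806 := rfl
def n78808 : Q := act 0 n35878
theorem D78808 : act 0 n35878 = n78808 := rfl
def n78809 : Q := act 1 n35878
theorem D78809 : act 1 n35878 = n78809 := rfl
def n78810 : Q := act 2 n35878
theorem D78810 : act 2 n35878 = n78810 := rfl
theorem F119959 : act 6 n78810 = n39823 := d3_2 (iv6 F56532) D78810 F60642
def n78811 : Q := act 4 n35878
theorem D78811 : act 4 n35878 = n78811 := rfl
theorem F119960 : act 6 n78811 = n39831 := d10_2 (iv6 F56532) D78811 (iv4 D39831)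
def n78812 : Q := act 5 n35878
theorem D78812 : act 5 n35878 = n78812 := rfl
theorem F119962 : act 6 n78812 = n39834 := d12_2 (iv6 F56532) D78812 (iv5 D39834) (iv6 D18844) D18843
def n78813 : Q := act 3 n35879
theorem D78813 : act 3 n35879 = n78813 := rfl
theorem F119963 : act 6 n78813 = n39835 := d7_2 (iv6 F56533) D78813 (iv3 D39835)
theorem F119964 : act 7 n78813 = n78508 := d8_2 F92680 D78813 (iv3 D78508)
def n78816 : Q := act 0 n35881
theorem D78816 : act 0 n35881 = n78816 := rfl
def n78817 : Q := act 1 n35881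
theorem D78817 : act 1 n35881 = n78817 := rfl
def n78818 : Q := act 2 n35881
theorem D78818 : act 2 n35881 = n78818 := rfl
def n78819 : Q := act 4 n35881
theorem D78819 : act 4 n35881 = n78819 := rfl
def n78820 : Q := act 5 n35881
theorem D78820 : act 5 n35881 = n78820 := rfl
theorem F119970 : act 3 n78820 = n35883 := d6_1 D78820 (iv5 D35883) D35881
theorem F119971 : act 6 n37166 = n78820 := d7_0 F119970 (iv6 F56538) D37166
def n78821 : Q := act 6 n35881
theorem D78821 : act 6 n35881 = n78821 := rfl
theorem F119973 : act 7 n78821 = n39803 := d14_2 F67507 D78821 (iv6 D39803) (iv7 F45049) (iv6 F67506)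
def n78822 : Q := act 3 n35882
theorem D78822 : act 3 n35882 = n78822 := rfl
theorem F119974 : act 7 n78822 = n78506 := d8_2 F92677 D78822 (iv3 D78506)
def n78824 : Q := act 6 n35882
theorem D78824 : act 6 n35882 = n78824 := rfl
theorem F119977 : act 2 n78824 = n78510 := d3_1 D78824 (iv6 D78510) F92678
theorem F119978 : act 4 n78824 = n35884 := d10_1 D78824 (iv6 D35884) D35882
theorem F119979 : act 7 n78824 = n39811 := d14_2 F92677 D78824 (iv6 D39811) (iv7 F45052) (iv6 F92676)
theorem F119980 : act 1 n78356 = n78824 := d15_1 F119574 F119979 (iv2 F92646)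
theorem F119981 : act 1 n78510 = n36387 := d15_0 (iv0 F92089) (iv7 F119979) F119977
theorem F119982 : act 1 n78824 = n39257 := d15_0 F92648 (iv7 F119695) (iv2 F119977)
def n78825 : Q := act 4 n35883
theorem D78825 : act 4 n35883 = n78825 := rfl
theorem F119984 : act 1 n78825 = n56562 := d18_6 (iv1 F43503) (iv4 F56441) (iv1 F67512) (iv4 D35882) D35883 D78825 F89453 (iv0 F57962) F57960
theorem F119985 : act 1 n37766 = n78825 := d15_0 F119984 F89454 (iv2 F58612)
def n78826 : Q := act 3 n35885
theorem D78826 : act 3 n35885 = n78826 := rfl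
theorem F119986 : act 7 n78826 = n75280 := d8_2 (iv7 F56543) D78826 (iv3 D75280)
def n78827 : Q := act 6 n35885
theorem D78827 : act 6 n35885 = n78827 := rfl
theorem F119987 : act 2 n78827 = n35890 := d3_1 D78827 (iv6 D35890) (iv2 F56542)
theorem F119988 : act 4 n78827 = n35886 := d10_1 D78827 (iv6 D35886) D35885
def n78828 : Q := act 1 n35886
theorem D78828 : act 1 n35886 = n78828 := rfl
theorem F119989 : act 1 n78828 = n35893 := d15_1 D78828 (iv7 D35893) (iv2 F56546)
theorem F119990 : act 7 n78828 = n35891 := d15_2 (iv0 F113656) D78828 (iv2 F113654)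
theorem F119991 : act 6 n38336 = n78828 := d21_3 F117870 (iv1 F113118) F113115 (iv1 D78828) (iv6 D35886) (iv5 D17375) (iv1 F17489) D16713 (iv6 F29411) F117881
theorem F119992 : act 5 n38844 = n78828 := d21_6 (iv5 D8684) (iv1 D3891) D3892 (iv6 F13585) D18459 D38844 (iv1 D78828) F56547 (iv6 D35886) F28330
theorem F119993 : act 2 n78828 = n35892 := d3_1 F119991 (iv6 F117711) F117709
def n78829 : Q := act 7 n35886
theorem D78829 : act 7 n35886 = n78829 := rfl
theorem F119994 : act 2 n78829 = n35893 := d4_1 D78829 (iv7 D35893) (iv2 F56546)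
theorem F119995 : act 5 n78829 = n78829 := d13_1 D78829 (iv7 D78829) F56547
theorem F119996 : act 6 n78829 = n75283 := d14_1 D78829 (iv7 D75283) (iv6 D34468) (iv7 F28328) D35886
theorem F119997 : act 1 n35892 = n78829 := d15_1 D35892 (iv7 D78829) F56546
theorem F119998 : act 1 n78829 = n35891 := d15_1 F119997 (iv7 F119990) F119993
def n78830 : Q := act 3 n35887
theorem D78830 : act 3 n35887 = n78830 := rfl
theorem F119999 : act 7 n78830 = n47669 := d8_2 (iv7 F56551) D78830 (iv3 D47669)
def n78831 : Q := act 6 n35887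
theorem D78831 : act 6 n35887 = n78831 := rfl
theorem F120000 : act 2 n78831 = n47685 := d3_1 D78831 (iv6 D47685) F56549
theorem F120001 : act 4 n78831 = n41870 := d10_1 D78831 (iv6 D41870) (iv4 F56548)
def n78832 : Q := act 0 n35888
theorem D78832 : act 0 n35888 = n78832 := rfl
def n78833 : Q := act 1 n35888
theorem D78833 : act 1 n35888 = n78833 := rfl
theorem F120002 : act 4 n78492 = n78833 := d20_6 F21430 (iv1 F9592) D8115 D17331 D35763 D78492 (iv1 D78833) F56552 (iv3 D17378) (iv1 F21433)
def n78834 : Q := act 2 n35888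
theorem D78834 : act 2 n35888 = n78834 := rfl
theorem F120003 : act 4 n78834 = n35896 := d1_2 (iv4 F56552) D78834 (iv2 D35896)
def n78835 : Q := act 5 n35888
theorem D78835 : act 5 n35888 = n78835 := rfl
theorem F120004 : act 3 n78835 = n35889 := d6_1 D78835 (iv5 D35889) D35888
def n78836 : Q := act 6 n35888
theorem D78836 : act 6 n35888 = n78836 := rfl
theorem F120005 : act 3 n78836 = n35890 := d7_1 D78836 (iv6 D35890) D35888
theorem F120006 : act 4 n78836 = n35897 := d10_1 D78836 (iv6 D35897) (iv4 F56552)
def n78837 : Q := act 6 n35889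
theorem D78837 : act 6 n35889 = n78837 := rfl
def n78838 : Q := act 0 n35890
theorem D78838 : act 0 n35890 = n78838 := rfl
def n78839 : Q := act 1 n35890
theorem D78839 : act 1 n35890 = n78839 := rfl
def n78840 : Q := act 5 n35890
theorem D78840 : act 5 n35890 = n78840 := rfl
def n78841 : Q := act 7 n35890
theorem D78841 : act 7 n35890 = n78841 := rfl
theorem F120007 : act 4 n78841 = n35893 := d11_1 D78841 (iv7 D35893) (iv4 F56553)
def n78842 : Q := act 3 n35891
theorem D78842 : act 3 n35891 = n78842 := rfl
def n78843 : Q := act 4 n35891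
theorem D78843 : act 4 n35891 = n78843 := rfl
def n78844 : Q := act 5 n35891
theorem D78844 : act 5 n35891 = n78844 := rfl
theorem F120008 : act 6 n78844 = n38451 := d12_2 (iv6 F112822) D78844 (iv5 F117778) F117779 D75260
theorem F120009 : act 7 n78844 = n38844 := d13_2 F119990 D78844 F119992
def n78845 : Q := act 3 n35892
theorem D78845 : act 3 n35892 = n78845 := rfl
def n78846 : Q := act 4 n35892
theorem D78846 : act 4 n35892 = n78846 := rfl
def n78847 : Q := act 5 n35892
theorem D78847 : act 5 n35892 = n78847 := rfl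
theorem F120010 : act 2 n78847 = n38844 := d2_1 D78847 F119992 F119993
theorem F120011 : act 6 n78847 = n37803 := d12_2 F117711 D78847 (iv5 F113076) F113077 (iv5 F117710)
def n78848 : Q := act 2 n35894
theorem D78848 : act 2 n35894 = n78848 := rfl
theorem F120012 : act 7 n35895 = n78848 := d15_2 (iv0 D35894) D35895 (iv2 D78848)
def n78849 : Q := act 3 n35894
theorem D78849 : act 3 n35894 = n78849 := rfl
def n78850 : Q := act 4 n35894
theorem D78850 : act 4 n35894 = n78850 := rfl
def n78851 : Q := act 5 n35894
theorem D78851 : act 5 n35894 = n78851 := rfl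
def n78852 : Q := act 6 n35894
theorem D78852 : act 6 n35894 = n78852 := rfl
def n78853 : Q := act 7 n35894
theorem D78853 : act 7 n35894 = n78853 := rfl
theorem F120013 : act 2 n78853 = n35895 := d4_1 D78853 F120012 (iv2 D78848)
def n78854 : Q := act 3 n35895
theorem D78854 : act 3 n35895 = n78854 := rfl
def n78855 : Q := act 4 n35895
theorem D78855 : act 4 n35895 = n78855 := rfl
def n78856 : Q := act 5 n35895
theorem D78856 : act 5 n35895 = n78856 := rfl
def n78857 : Q := act 6 n35895
theorem D78857 : act 6 n35895 = n78857 := rfl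
def n78858 : Q := act 6 n35896
theorem D78858 : act 6 n35896 = n78858 := rfl
theorem F120014 : act 2 n78858 = n35897 := d3_1 D78858 (iv6 D35897) D35896
def n78859 : Q := act 0 n35897
theorem D78859 : act 0 n35897 = n78859 := rfl
def n78860 : Q := act 1 n35897
theorem D78860 : act 1 n35897 = n78860 := rfl
def n78861 : Q := act 5 n35897
theorem D78861 : act 5 n35897 = n78861 := rfl
def n78862 : Q := act 7 n35897
theorem D78862 : act 7 n35897 = n78862 := rfl
theorem F120016 : act 3 n78862 = n35901 := d8_1 D78862 (iv7 D35901) (iv3 F56556)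
def n78863 : Q := act 0 n35900
theorem D78863 : act 0 n35900 = n78863 := rfl
theorem F120017 : act 5 n78863 = n78594 := d17_3 F115715 D35900 D78863 (iv4 D78594) (iv5 D35802) (iv0 D17344) F12887 D17345 D35804
def n78864 : Q := act 1 n35900
theorem D78864 : act 1 n35900 = n78864 := rfl
theorem F120018 : act 5 n58696 = n78864 := d21_6 (iv5 D12907) (iv1 F12405) F12404 (iv6 F22109) D27907 D58696 (iv1 D78864) (iv5 D35900) (iv6 D17379) (iv1 F21433)
def n78866 : Q := act 7 n35900
theorem D78866 : act 7 n35900 = n78866 := rfl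
theorem F120019 : act 5 n78866 = n35901 := d13_1 D78866 (iv7 D35901) D35900
def n78867 : Q := act 0 n35902
theorem D78867 : act 0 n35902 = n78867 := rfl
theorem F120020 : act 2 n75178 = n78867 := d15_3 (iv0 D78867) F116818 D75178
theorem F120021 : act 5 n78867 = n78867 := d2_2 F112724 F120020 (iv2 F120020)
theorem F120022 : act 7 n78867 = n39865 := d4_2 D75178 F120020 F60656
theorem F120023 : act 6 n75170 = n78867 := d14_5 F120022 (iv6 D39865) (iv7 F30104) D34423 D75170
theorem F120024 : act 1 n75177 = n78867 := d15_1 D75177 F120022 F60656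
theorem F120025 : act 2 n55962 = n75177 := d15_3 F120024 (iv0 D78867) (iv7 F88567)
def n78868 : Q := act 2 n35902
theorem D78868 : act 2 n35902 = n78868 := rfl
theorem F120026 : act 3 n78868 = n75212 := d0_2 D35902 D78868 (iv2 F117561) (iv3 D55959) (iv2 F43552)
theorem F120027 : act 6 n78868 = n37313 := d3_2 (iv6 F56558) D78868 F116774
theorem F120028 : act 7 n78868 = n75177 := d4_2 F88567 D78868 (iv2 F120025)
theorem F120029 : act 1 n78868 = n39865 := d15_0 (iv0 F117091) F88567 D78868
theorem F120030 : act 1 n75178 = n78868 := d15_0 F120029 (iv7 F120022) (iv2 F120020)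
def n78869 : Q := act 4 n35902
theorem D78869 : act 4 n35902 = n78869 := rfl
theorem F120031 : act 6 n78869 = n76944 := d10_2 (iv6 F56558) D78869 (iv4 D76944)
def n78870 : Q := act 5 n35902
theorem D78870 : act 5 n35902 = n78870 := rfl
theorem F120032 : act 3 n78870 = n35904 := d6_1 D78870 (iv5 D35904) D35902
theorem F120033 : act 6 n78870 = n39214 := d12_2 (iv6 F56558) D78870 F60178 (iv6 D35155) D35154
theorem F120034 : act 7 n78870 = n39841 := d13_2 F88567 D78870 (iv5 F88565)
def n78871 : Q := act 3 n35903
theorem D78871 : act 3 n35903 = n78871 := rfl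
theorem F120035 : act 6 n78871 = n76947 := d7_2 (iv6 F56559) D78871 (iv3 D76947)
theorem F120036 : act 7 n78871 = n78586 := d8_2 F114147 D78871 (iv3 D78586)
def n78872 : Q := act 5 n35903
theorem D78872 : act 5 n35903 = n78872 := rfl
theorem F120038 : act 7 n78872 = n78587 := d13_2 F114147 D78872 (iv5 D78587)
def n78873 : Q := act 4 n35904
theorem D78873 : act 4 n35904 = n78873 := rfl
theorem F120039 : act 6 n78873 = n39215 := d10_2 (iv6 F56560) D78873 (iv4 D39215)
theorem F120040 : act 7 n78873 = n39844 := d11_2 (iv7 F56561) D78873 F60650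
def n78874 : Q := act 1 n35905
theorem D78874 : act 1 n35905 = n78874 := rfl
theorem F120041 : act 7 n78874 = n39877 := d15_2 (iv0 F117434) D78874 F60674
theorem F120042 : act 2 n75214 = n78874 := d4_3 F120041 F60674 D75214
theorem F120043 : act 5 n78874 = n78874 := d13_3 F120041 F60675 (iv7 F120041)
theorem F120044 : act 6 n75222 = n78874 := d14_5 F120041 (iv6 D39877) F30109 D34443 D75222
theorem F120045 : act 1 n75214 = n55959 := d15_0 (iv0 F117615) (iv7 F120041) (iv2 F120042)
theorem F120046 : act 0 n75212 = n78874 := d21_10 F120043 (iv1 D78874) (iv5 F92700) (iv6 D58683) F117269 F89570 F58444 (iv1 F44100) D56711 (iv6 F112762)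
def n78875 : Q := act 2 n35905
theorem D78875 : act 2 n35905 = n78875 := rfl
theorem F120047 : act 3 n78875 = n75177 := d0_2 D35905 D78875 (iv2 F120025) (iv3 D55962) (iv2 F43559)
theorem F120049 : act 1 n78875 = n75214 := d15_0 F120045 F88556 D78875
theorem F120050 : act 1 n39877 = n78875 := d15_0 F120049 (iv7 D75214) (iv2 F60674)
def n78876 : Q := act 4 n35905
theorem D78876 : act 4 n35905 = n78876 := rfl
def n78877 : Q := act 3 n35906
theorem D78877 : act 3 n35906 = n78877 := rfl
theorem F120051 : act 6 n78877 = n78263 := d7_2 (iv6 F56562) D78877 (iv3 D78263)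
theorem F120052 : act 7 n78877 = n78584 := d8_2 F114143 D78877 (iv3 D78584)
def n78878 : Q := act 5 n35906
theorem D78878 : act 5 n35906 = n78878 := rfl
theorem F120054 : act 7 n78878 = n78585 := d13_2 F114143 D78878 (iv5 D78585)
def n78879 : Q := act 2 n35907
theorem D78879 : act 2 n35907 = n78879 := rfl
theorem F120055 : act 7 n35908 = n78879 := d15_2 (iv0 D35907) D35908 (iv2 D78879)
def n78880 : Q := act 3 n35907
theorem D78880 : act 3 n35907 = n78880 := rfl
def n78881 : Q := act 4 n35907
theorem D78881 : act 4 n35907 = n78881 := rfl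
def n78882 : Q := act 5 n35907
theorem D78882 : act 5 n35907 = n78882 := rfl
def n78883 : Q := act 6 n35907
theorem D78883 : act 6 n35907 = n78883 := rfl
theorem F120056 : act 5 n78883 = n53079 := d21_6 (iv5 D6123) (iv1 F5695) D8143 D17383 D35907 D78883 (iv1 D53079) (iv5 D25746) (iv6 D12220) (iv1 F9527)
def n78884 : Q := act 7 n35907
theorem D78884 : act 7 n35907 = n78884 := rfl
theorem F120057 : act 2 n78884 = n35908 := d4_1 D78884 F120055 (iv2 D78879)
def n78885 : Q := act 3 n35908
theorem D78885 : act 3 n35908 = n78885 := rfl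
def n78886 : Q := act 4 n35908
theorem D78886 : act 4 n35908 = n78886 := rfl
def n78887 : Q := act 5 n35908
theorem D78887 : act 5 n35908 = n78887 := rfl
def n78888 : Q := act 6 n35908
theorem D78888 : act 6 n35908 = n78888 := rfl
def n78889 : Q := act 6 n35910
theorem D78889 : act 6 n35910 = n78889 := rfl
theorem F120058 : act 3 n78889 = n35914 := d7_1 D78889 (iv6 D35914) (iv3 F56570)
def n78890 : Q := act 6 n35913
theorem D78890 : act 6 n35913 = n78890 := rfl
theorem F120059 : act 2 n78890 = n71909 := d3_1 D78890 (iv6 D71909) (iv2 F56579)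
theorem F120060 : act 3 n78890 = n38254 := d7_1 D78890 (iv6 D38254) (iv3 F56582)
theorem F120061 : act 4 n78890 = n35914 := d10_1 D78890 (iv6 D35914) D35913
def n78891 : Q := act 0 n35914
theorem D78891 : act 0 n35914 = n78891 := rfl
def n78892 : Q := act 1 n35914
theorem D78892 : act 1 n35914 = n78892 := rfl
theorem F120062 : act 1 n78892 = n71913 := d15_1 D78892 (iv7 D71913) (iv2 F56583)
def n78893 : Q := act 5 n35914
theorem D78893 : act 5 n35914 = n78893 := rfl
theorem F120063 : act 2 n78893 = n71912 := d2_1 D78893 (iv5 D71912) (iv2 F56583)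
theorem F120064 : act 6 n78893 = n35915 := d12_2 D35914 D78893 (iv5 D35915) (iv6 D17387) D17386
def n78894 : Q := act 7 n35914
theorem D78894 : act 7 n35914 = n78894 := rfl
theorem F120065 : act 2 n78894 = n71913 := d4_1 D78894 (iv7 D71913) (iv2 F56583)
theorem F120066 : act 6 n78894 = n71905 := d14_1 D78894 (iv7 D71905) (iv6 D33225) F28357 D35914
theorem F120067 : act 1 n71913 = n78891 := d15_0 (iv0 D78891) D78894 F120065
theorem F120068 : act 1 n71911 = n78894 := d15_1 D71911 (iv7 D78894) F56583
theorem F120069 : act 1 n78894 = n71910 := d15_0 (iv0 D71910) D71913 (iv2 F120065)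
def n78895 : Q := act 4 n35915
theorem D78895 : act 4 n35915 = n78895 := rfl
def n78896 : Q := act 7 n35915
theorem D78896 : act 7 n35915 = n78896 := rfl
theorem F120070 : act 2 n78896 = n54807 := d4_1 D78896 F86725 F83165
theorem F120071 : act 5 n78896 = n35916 := d13_1 D78896 (iv7 D35916) D35915
theorem F120072 : act 1 n54809 = n78896 := d15_1 F86724 (iv7 D78896) (iv2 F83165)
theorem F120073 : act 1 n78896 = n49225 := d15_1 F120072 (iv7 F77993) (iv2 F86721)
def n78897 : Q := act 4 n35917
theorem D78897 : act 4 n35917 = n78897 := rfl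
theorem F120074 : act 7 n78897 = n71906 := d11_2 (iv7 F56589) D78897 (iv4 D71906)
theorem F120075 : act 5 n78897 = n37329 := d16_1 D78897 (iv4 F114864) (iv5 D76591) (iv4 D35000) (iv5 D16989) D16988 D34998 (iv7 F88612) F88610
theorem F120076 : act 0 n78897 = n54771 := d18_2 (iv1 F56591) D78897 (iv4 D54771) (iv5 D26488) (iv4 D12649) D12647 F37225 F37223 D23890
theorem F120077 : act 1 n78897 = n37341 := d18_6 D15315 (iv4 F27040) (iv1 F26661) (iv4 F28347) D35917 D78897 F58276 (iv0 D32415) (iv5 D15317)
def n78898 : Q := act 6 n35917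
theorem D78898 : act 6 n35917 = n78898 := rfl
theorem F120078 : act 3 n78898 = n35920 := d7_1 D78898 (iv6 D35920) (iv3 F56588)
def n78899 : Q := act 5 n35918
theorem D78899 : act 5 n35918 = n78899 := rfl
theorem F120079 : act 2 n78899 = n59814 := d2_1 D78899 (iv5 D59814) (iv2 F56592)
theorem F120080 : act 3 n78899 = n35921 := d6_1 D78899 (iv5 D35921) (iv3 F56593)
theorem F120081 : act 7 n78899 = n59812 := d13_2 F56595 D78899 (iv5 D59812)
theorem F120082 : act 0 n78899 = n59871 := d17_2 F56596 D78899 (iv5 D59871) (iv4 D28426) D28427 (iv0 F54351) (iv5 D16972) D16971 D34972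
theorem F120083 : act 1 n78899 = n68614 := d17_6 (iv1 D7167) D7170 D15076 (iv5 F50467) (iv4 F56594) D78899 (iv5 D68614) F50247 (iv4 D15066)
theorem F120084 : act 4 n78899 = n68662 := d18_5 (iv1 F55211) F37162 D23834 (iv4 F56594) D78899 (iv0 D68662) (iv4 D31949) D31948 (iv5 F55209)
def n78900 : Q := act 3 n35919
theorem D78900 : act 3 n35919 = n78900 := rfl
theorem F120085 : act 2 n78900 = n77116 := d0_1 D78900 (iv3 D77116) F57525 (iv3 F57524) (iv2 F56598)
theorem F120086 : act 5 n78900 = n78065 := d6_2 F110310 D78900 F119260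
theorem F120087 : act 7 n78900 = n71908 := d8_2 (iv7 F56599) D78900 (iv3 D71908)
def n78901 : Q := act 6 n35919
theorem D78901 : act 6 n35919 = n78901 := rfl
theorem F120088 : act 2 n78901 = n71901 := d3_1 D78901 (iv6 D71901) (iv2 F56598)
theorem F120089 : act 4 n78901 = n35920 := d10_1 D78901 (iv6 D35920) D35919
def n78902 : Q := act 0 n35920
theorem D78902 : act 0 n35920 = n78902 := rfl
def n78903 : Q := act 1 n35920
theorem D78903 : act 1 n35920 = n78903 := rfl
theorem F120090 : act 1 n78903 = n71905 := d15_1 D78903 (iv7 D71905) (iv2 F56600)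
def n78904 : Q := act 5 n35920
theorem D78904 : act 5 n35920 = n78904 := rfl
theorem F120092 : act 6 n78904 = n35921 := d12_2 D35920 D78904 (iv5 D35921) (iv6 D17390) D17389
def n78905 : Q := act 7 n35920
theorem D78905 : act 7 n35920 = n78905 := rfl
theorem F120093 : act 2 n78905 = n71905 := d4_1 D78905 (iv7 D71905) (iv2 F56600)
theorem F120094 : act 6 n78905 = n71913 := d14_1 D78905 (iv7 D71913) (iv6 D33228) (iv7 F28353) D35920
theorem F120095 : act 1 n71905 = n78902 := d15_0 (iv0 D78902) D78905 F120093
def n78906 : Q := act 4 n35921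
theorem D78906 : act 4 n35921 = n78906 := rfl
def n78907 : Q := act 7 n35921
theorem D78907 : act 7 n35921 = n78907 := rfl
theorem F120098 : act 2 n78907 = n54114 := d4_1 D78907 F85425 F83162
theorem F120099 : act 3 n78907 = n59812 := d8_1 D78907 (iv7 F120081) F120080
theorem F120100 : act 5 n78907 = n35922 := d13_1 D78907 (iv7 D35922) D35921
theorem F120101 : act 1 n52502 = n78907 := d15_1 (iv0 F83164) (iv7 D78907) (iv2 F83162)
theorem F120102 : act 1 n78907 = n54117 := d15_1 F120101 (iv7 D54117) (iv2 F82899)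
def n78908 : Q := act 3 n35923
theorem D78908 : act 3 n35923 = n78908 := rfl
def n78909 : Q := act 6 n35923
theorem D78909 : act 6 n35923 = n78909 := rfl
theorem F120103 : act 2 n78909 = n35926 := d3_1 D78909 (iv6 D35926) (iv2 F56608)
theorem F120104 : act 4 n78909 = n35924 := d10_1 D78909 (iv6 D35924) D35923
def n78910 : Q := act 0 n35924
theorem D78910 : act 0 n35924 = n78910 := rfl
def n78911 : Q := act 1 n35924
theorem D78911 : act 1 n35924 = n78911 := rfl
theorem F120105 : act 1 n78911 = n35930 := d15_1 D78911 (iv7 D35930) (iv2 F56609)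
def n78912 : Q := act 7 n35924
theorem D78912 : act 7 n35924 = n78912 := rfl
theorem F120106 : act 2 n78912 = n35930 := d4_1 D78912 (iv7 D35930) (iv2 F56609)
theorem F120107 : act 1 n35930 = n78910 := d15_0 (iv0 D78910) D78912 F120106
theorem F120108 : act 1 n35928 = n78912 := d15_1 D35928 (iv7 D78912) F56609
theorem F120109 : act 1 n78912 = n35927 := d15_0 (iv0 D35927) D35930 (iv2 F120106)
def n78913 : Q := act 6 n35925
theorem D78913 : act 6 n35925 = n78913 := rfl
theorem F120110 : act 4 n78913 = n38288 := d10_1 D78913 (iv6 D38288) (iv4 F56610)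
def n78914 : Q := act 0 n35926
theorem D78914 : act 0 n35926 = n78914 := rfl
def n78915 : Q := act 1 n35926
theorem D78915 : act 1 n35926 = n78915 := rfl
def n78916 : Q := act 5 n35926
theorem D78916 : act 5 n35926 = n78916 := rfl
def n78917 : Q := act 7 n35926
theorem D78917 : act 7 n35926 = n78917 := rfl
theorem F120111 : act 4 n78917 = n35930 := d11_1 D78917 (iv7 D35930) (iv4 F56612)
def n78918 : Q := act 2 n35927
theorem D78918 : act 2 n35927 = n78918 := rfl
theorem F120112 : act 7 n35928 = n78918 := d15_2 (iv0 D35927) D35928 (iv2 D78918)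
def n78919 : Q := act 3 n35927
theorem D78919 : act 3 n35927 = n78919 := rfl
def n78920 : Q := act 4 n35927
theorem D78920 : act 4 n35927 = n78920 := rfl
def n78921 : Q := act 5 n35927
theorem D78921 : act 5 n35927 = n78921 := rfl
def n78922 : Q := act 6 n35927
theorem D78922 : act 6 n35927 = n78922 := rfl
def n78923 : Q := act 7 n35927
theorem D78923 : act 7 n35927 = n78923 := rfl
theorem F120113 : act 2 n78923 = n35928 := d4_1 D78923 F120112 (iv2 D78918)
def n78924 : Q := act 3 n35928
theorem D78924 : act 3 n35928 = n78924 := rfl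
def n78925 : Q := act 4 n35928
theorem D78925 : act 4 n35928 = n78925 := rfl
def n78926 : Q := act 5 n35928
theorem D78926 : act 5 n35928 = n78926 := rfl
theorem F120114 : act 6 n54800 = n78926 := d21_5 (iv5 D26499) (iv1 D12654) D12656 D26508 D54800 (iv5 D78926) (iv1 D35928) D35929 F56614 (iv1 F46075)
def n78927 : Q := act 6 n35928
theorem D78927 : act 6 n35928 = n78927 := rfl
def n78928 : Q := act 0 n35929
theorem D78928 : act 0 n35929 = n78928 := rfl
def n78929 : Q := act 1 n35929
theorem D78929 : act 1 n35929 = n78929 := rfl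
def n78930 : Q := act 7 n35929
theorem D78930 : act 7 n35929 = n78930 := rfl
theorem F120115 : act 3 n78930 = n35946 := d8_1 D78930 (iv7 D35946) (iv3 F56613)
theorem F120116 : act 5 n78930 = n35930 := d13_1 D78930 (iv7 D35930) D35929
def n78931 : Q := act 6 n35931
theorem D78931 : act 6 n35931 = n78931 := rfl
theorem F120117 : act 2 n78931 = n54794 := d3_1 D78931 (iv6 D54794) (iv2 F56616)
theorem F120118 : act 3 n78931 = n52737 := d7_1 D78931 (iv6 D52737) (iv3 F56617)
def n78932 : Q := act 5 n35932
theorem D78932 : act 5 n35932 = n78932 := rfl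
theorem F120119 : act 2 n78932 = n52127 := d2_1 D78932 (iv5 F82402) (iv2 F56621)
theorem F120120 : act 7 n78932 = n52126 := d13_2 F82808 D78932 F94244
theorem F120121 : act 0 n78932 = n52125 := d17_2 F76663 D78932 (iv5 D52125) F39971 D26386 (iv0 F42127) (iv5 D12772) D12770 D26716
theorem F120122 : act 1 n78932 = n52130 := d17_6 (iv1 F77207) D61611 F106296 (iv5 D69873) (iv4 F56622) D78932 F82406 (iv0 F46869) (iv4 D29217)
def n78935 : Q := act 3 n35933
theorem D78935 : act 3 n35933 = n78935 := rfl
theorem F120125 : act 7 n78935 = n35939 := d8_2 F56623 D78935 (iv3 D35939)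
def n78936 : Q := act 5 n35933
theorem D78936 : act 5 n35933 = n78936 := rfl
theorem F120126 : act 2 n78936 = n35936 := d2_1 D78936 (iv5 D35936) D35933
theorem F120127 : act 7 n78936 = n35941 := d13_2 F56623 D78936 (iv5 D35941)
def n78937 : Q := act 6 n35933
theorem D78937 : act 6 n35933 = n78937 := rfl
theorem F120128 : act 2 n78937 = n35937 := d3_1 D78937 (iv6 D35937) D35933
def n78938 : Q := act 0 n35934
theorem D78938 : act 0 n35934 = n78938 := rfl
def n78939 : Q := act 1 n35934
theorem D78939 : act 1 n35934 = n78939 := rfl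
def n78940 : Q := act 2 n35934
theorem D78940 : act 2 n35934 = n78940 := rfl
def n78941 : Q := act 4 n35934
theorem D78941 : act 4 n35934 = n78941 := rfl
def n78942 : Q := act 5 n35934
theorem D78942 : act 5 n35934 = n78942 := rfl
theorem F120129 : act 3 n78942 = n35936 := d6_1 D78942 (iv5 D35936) D35934
def n78943 : Q := act 6 n35934
theorem D78943 : act 6 n35934 = n78943 := rfl
theorem F120130 : act 3 n78943 = n35937 := d7_1 D78943 (iv6 D35937) D35934
def n78944 : Q := act 7 n35934
theorem D78944 : act 7 n35934 = n78944 := rfl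
theorem F120131 : act 3 n78944 = n35938 := d8_1 D78944 (iv7 D35938) D35934
def n78945 : Q := act 0 n35936
theorem D78945 : act 0 n35936 = n78945 := rfl
theorem F120132 : act 5 n78945 = n76331 := d21_2 D35936 D78945 (iv6 D76331) (iv1 D34869) (iv6 D16905) (iv5 D7887) F5610 D3668 D8149 D17397
def n78946 : Q := act 1 n35936
theorem D78946 : act 1 n35936 = n78946 := rfl
theorem F120133 : act 1 n78946 = n35941 := d15_1 D78946 (iv7 F120127) F120126
def n78947 : Q := act 4 n35936
theorem D78947 : act 4 n35936 = n78947 := rfl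
def n78948 : Q := act 6 n35936
theorem D78948 : act 6 n35936 = n78948 := rfl
def n78949 : Q := act 7 n35936
theorem D78949 : act 7 n35936 = n78949 := rfl
theorem F120134 : act 2 n78949 = n35941 := d4_1 D78949 (iv7 F120127) F120126
theorem F120135 : act 5 n78949 = n35938 := d13_1 D78949 (iv7 D35938) D35936
theorem F120136 : act 1 n35941 = n78945 := d15_0 (iv0 D78945) D78949 F120134
def n78950 : Q := act 0 n35937
theorem D78950 : act 0 n35937 = n78950 := rfl
def n78951 : Q := act 1 n35937
theorem D78951 : act 1 n35937 = n78951 := rfl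
def n78952 : Q := act 7 n35937
theorem D78952 : act 7 n35937 = n78952 := rfl
def n78953 : Q := act 6 n35938
theorem D78953 : act 6 n35938 = n78953 := rfl
theorem F120137 : act 2 n78953 = n35942 := d3_1 D78953 (iv6 D35942) (iv2 F56624)
def n78955 : Q := act 1 n35939
theorem D78955 : act 1 n35939 = n78955 := rfl
def n78956 : Q := act 2 n35939
theorem D78956 : act 2 n35939 = n78956 := rfl
def n78957 : Q := act 4 n35939
theorem D78957 : act 4 n35939 = n78957 := rfl
def n78958 : Q := act 5 n35939
theorem D78958 : act 5 n35939 = n78958 := rfl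
theorem F120138 : act 3 n78958 = n35941 := d6_1 D78958 (iv5 D35941) D35939
def n78959 : Q := act 6 n35939
theorem D78959 : act 6 n35939 = n78959 := rfl
theorem F120139 : act 3 n78959 = n35942 := d7_1 D78959 (iv6 D35942) D35939
def n78960 : Q := act 4 n35941
theorem D78960 : act 4 n35941 = n78960 := rfl
def n78961 : Q := act 6 n35941
theorem D78961 : act 6 n35941 = n78961 := rfl
theorem F120140 : act 0 n76270 = n78961 := d21_4 F28367 (iv1 F27665) D34839 D76270 (iv6 D78961) (iv5 D35941) (iv1 D17398) D17399 F28366 D17402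
def n78962 : Q := act 0 n35942
theorem D78962 : act 0 n35942 = n78962 := rfl
theorem F120141 : act 5 n78962 = n49231 := d21_0 (iv1 F78006) F78003 (iv6 F83142) (iv1 F83144) D76331 (iv5 F120132) (iv1 F120136) (iv5 D35941) D35942 D78962
def n78963 : Q := act 1 n35942
theorem D78963 : act 1 n35942 = n78963 := rfl
def n78964 : Q := act 5 n35942
theorem D78964 : act 5 n35942 = n78964 := rfl
theorem F120142 : act 0 n76356 = n78964 := d21_1 D76356 (iv5 D78964) (iv6 D35942) (iv1 D17398) (iv6 D8149) (iv5 D3668) (iv1 F5613) D7893 D16916 D34885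
def n78965 : Q := act 7 n35942
theorem D78965 : act 7 n35942 = n78965 := rfl
def n78966 : Q := act 2 n35943
theorem D78966 : act 2 n35943 = n78966 := rfl
theorem F120143 : act 7 n35944 = n78966 := d15_2 (iv0 D35943) D35944 (iv2 D78966)
def n78967 : Q := act 3 n35943
theorem D78967 : act 3 n35943 = n78967 := rfl
def n78968 : Q := act 4 n35943
theorem D78968 : act 4 n35943 = n78968 := rfl
def n78969 : Q := act 5 n35943
theorem D78969 : act 5 n35943 = n78969 := rfl
def n78970 : Q := act 6 n35943
theorem D78970 : act 6 n35943 = n78970 := rfl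
def n78971 : Q := act 7 n35943
theorem D78971 : act 7 n35943 = n78971 := rfl
theorem F120144 : act 2 n78971 = n35944 := d4_1 D78971 F120143 (iv2 D78966)
def n78972 : Q := act 3 n35944
theorem D78972 : act 3 n35944 = n78972 := rfl
def n78973 : Q := act 4 n35944
theorem D78973 : act 4 n35944 = n78973 := rfl
theorem F120145 : act 0 n78973 = n53001 := d18_2 (iv1 F83276) D78973 (iv4 D53001) (iv5 D25723) F20211 D25557 (iv4 F83205) F40465 (iv5 F83274)
def n78974 : Q := act 5 n35944
theorem D78974 : act 5 n35944 = n78974 := rfl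
theorem F120146 : act 4 n78974 = n52755 := d17_4 (iv1 F40466) (iv5 F83274) (iv1 F83276) D78974 F83351 F83203 (iv5 F76693) F76697 (iv4 F83209)
theorem F120147 : act 6 n78974 = n48723 := d21_3 (iv5 F83274) (iv1 F83276) D78974 (iv1 F76720) (iv6 F46016) (iv5 F94478) (iv1 F94480) (iv5 F83353) (iv6 D35937) (iv1 F40466)
def n78975 : Q := act 6 n35944
theorem D78975 : act 6 n35944 = n78975 := rfl
def n78976 : Q := act 0 n35945
theorem D78976 : act 0 n35945 = n78976 := rfl
def n78977 : Q := act 1 n35945
theorem D78977 : act 1 n35945 = n78977 := rfl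
def n78978 : Q := act 5 n35945
theorem D78978 : act 5 n35945 = n78978 := rfl
theorem F120148 : act 3 n78978 = n45414 := d6_1 D78978 (iv5 D45414) F56626
theorem F120149 : act 6 n78978 = n45411 := d12_2 (iv6 F56625) D78978 (iv5 D45411) (iv6 D21669) (iv5 F28369)
def n78979 : Q := act 7 n35945
theorem D78979 : act 7 n35945 = n78979 := rfl
theorem F120150 : act 3 n78979 = n45415 := d8_1 D78979 (iv7 D45415) F56626
theorem F120151 : act 4 n78979 = n35946 := d11_1 D78979 (iv7 D35946) D35945
def n78980 : Q := act 6 n35946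
theorem D78980 : act 6 n35946 = n78980 := rfl
theorem F120152 : act 7 n78980 = n35953 := d14_2 D35946 D78980 (iv6 D35953) (iv7 D17404) (iv6 F28366)
def n78981 : Q := act 6 n35947
theorem D78981 : act 6 n35947 = n78981 := rfl
theorem F120153 : act 4 n78981 = n35948 := d10_1 D78981 (iv6 D35948) D35947
def n78982 : Q := act 0 n35948
theorem D78982 : act 0 n35948 = n78982 := rfl
def n78983 : Q := act 1 n35948
theorem D78983 : act 1 n35948 = n78983 := rfl
def n78984 : Q := act 7 n35948
theorem D78984 : act 7 n35948 = n78984 := rfl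
def n78985 : Q := act 3 n35949
theorem D78985 : act 3 n35949 = n78985 := rfl
theorem F120154 : act 2 n78985 = n70061 := d0_1 D78985 (iv3 F106459) F70034 F55101 (iv2 F56630)
theorem F120155 : act 4 n78985 = n69857 := d5_2 D35949 D78985 F106282 F54522 F37454
theorem F120156 : act 5 n78985 = n44924 := d6_2 (iv5 F56631) D78985 (iv3 D44924)
theorem F120157 : act 7 n78985 = n70061 := d8_2 F70036 D78985 (iv3 F106459)
theorem F120158 : act 0 n78985 = n61672 := d20_10 (iv4 D61672) F46887 F36221 F36219 F17707 (iv3 F28370) (iv4 D17403) D17402 D35949 D78985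
theorem F120159 : act 1 n78985 = n61672 := d15_1 (iv0 F120158) F96255 (iv2 F96254)
def n78986 : Q := act 6 n35949
theorem D78986 : act 6 n35949 = n78986 := rfl
theorem F120160 : act 2 n78986 = n49057 := d3_1 D78986 (iv6 D49057) (iv2 F56630)
theorem F120161 : act 4 n78986 = n35950 := d10_1 D78986 (iv6 D35950) D35949
def n78987 : Q := act 0 n35950
theorem D78987 : act 0 n35950 = n78987 := rfl
def n78988 : Q := act 1 n35950
theorem D78988 : act 1 n35950 = n78988 := rfl
theorem F120162 : act 1 n78988 = n49060 := d15_1 D78988 (iv7 D49060) (iv2 F56633)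
def n78989 : Q := act 5 n35950
theorem D78989 : act 5 n35950 = n78989 := rfl
theorem F120163 : act 2 n78989 = n49046 := d2_1 D78989 F77428 (iv2 F56633)
theorem F120164 : act 6 n78989 = n49044 := d12_2 D35950 D78989 (iv5 D49044) F37347 (iv5 F28367)
def n78990 : Q := act 7 n35950
theorem D78990 : act 7 n35950 = n78990 := rfl
theorem F120165 : act 2 n78990 = n49060 := d4_1 D78990 (iv7 D49060) (iv2 F56633)
theorem F120166 : act 1 n49060 = n78987 := d15_0 (iv0 D78987) D78990 F120165
theorem F120167 : act 1 n49059 = n78990 := d15_1 D49059 (iv7 D78990) F56633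
theorem F120168 : act 1 n78990 = n49058 := d15_0 (iv0 D49058) D49060 (iv2 F120165)
def n78991 : Q := act 3 n35951
theorem D78991 : act 3 n35951 = n78991 := rfl
theorem F120169 : act 2 n78991 = n73106 := d0_1 D78991 F109607 (iv2 F71596) F71592 (iv2 F70329)
theorem F120170 : act 4 n78991 = n71439 := d5_2 (iv4 F56635) D78991 (iv3 D71439) (iv4 D33055) F43585
theorem F120171 : act 5 n78991 = n46971 := d6_2 (iv5 F56634) D78991 F74187
def n78992 : Q := act 6 n35951
theorem D78992 : act 6 n35951 = n78992 := rfl
theorem F120172 : act 4 n78992 = n55984 := d10_1 D78992 (iv6 D55984) (iv4 F56635)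
def n78993 : Q := act 6 n35952
theorem D78993 : act 6 n35952 = n78993 := rfl
theorem F120173 : act 4 n78993 = n55985 := d10_1 D78993 (iv6 D55985) (iv4 F56637)
def n78994 : Q := act 0 n35953
theorem D78994 : act 0 n35953 = n78994 := rfl
def n78995 : Q := act 1 n35953
theorem D78995 : act 1 n35953 = n78995 := rfl
def n78996 : Q := act 3 n35954
theorem D78996 : act 3 n35954 = n78996 := rfl
theorem F120174 : act 2 n78996 = n73049 := d0_1 D78996 F109576 (iv2 F71561) F71562 F70309
theorem F120175 : act 4 n78996 = n73045 := d5_2 D35954 D78996 F109568 (iv4 D34906) (iv3 F28373)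
theorem F120176 : act 5 n78996 = n45405 := d6_2 (iv5 F56638) D78996 (iv3 D45405)
theorem F120177 : act 0 n73045 = n44595 := d20_7 (iv4 F61784) F61785 F33895 D21677 (iv1 F56639) D78996 F120175 (iv4 D44595) F33449 (iv1 F33424)
theorem F120178 : act 1 n57641 = n44595 := d15_0 (iv0 F120177) F109569 F107994
def n78997 : Q := act 6 n35954
theorem D78997 : act 6 n35954 = n78997 := rfl
theorem F120179 : act 4 n78997 = n35955 := d10_1 D78997 (iv6 D35955) D35954
def n78998 : Q := act 0 n35955
theorem D78998 : act 0 n35955 = n78998 := rfl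
def n78999 : Q := act 1 n35955
theorem D78999 : act 1 n35955 = n78999 := rfl
def n79000 : Q := act 7 n35955
theorem D79000 : act 7 n35955 = n79000 := rfl
theorem F120180 : act 3 n79000 = n76399 := d8_1 D79000 (iv7 D76399) (iv3 F56640)
def n79001 : Q := act 6 n35956
theorem D79001 : act 6 n35956 = n79001 := rfl
theorem F120181 : act 2 n79001 = n52901 := d3_1 D79001 (iv6 D52901) F56643
def n79002 : Q := act 6 n35957
theorem D79002 : act 6 n35957 = n79002 := rfl
theorem F120182 : act 2 n79002 = n71776 := d3_1 D79002 (iv6 D71776) F56648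
theorem F120183 : act 3 n79002 = n52873 := d7_1 D79002 (iv6 D52873) F56649
def n79003 : Q := act 3 n35958
theorem D79003 : act 3 n35958 = n79003 := rfl
theorem F120184 : act 2 n79003 = n60230 := d0_1 D79003 F94790 (iv2 F90817) F90818 (iv2 F56650)
theorem F120185 : act 4 n79003 = n45382 := d5_2 D35958 D79003 F71562 F70310 F40480
theorem F120186 : act 5 n79003 = n60229 := d6_2 F110318 D79003 (iv3 F110321)
theorem F120187 : act 7 n79003 = n71914 := d8_2 (iv7 F56651) D79003 (iv3 D71914)
def n79004 : Q := act 6 n35958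
theorem D79004 : act 6 n35958 = n79004 := rfl
theorem F120188 : act 2 n79004 = n71916 := d3_1 D79004 (iv6 D71916) (iv2 F56650)
theorem F120189 : act 4 n79004 = n35959 := d10_1 D79004 (iv6 D35959) D35958
def n79005 : Q := act 0 n35959
theorem D79005 : act 0 n35959 = n79005 := rfl
def n79006 : Q := act 1 n35959
theorem D79006 : act 1 n35959 = n79006 := rfl
def n79007 : Q := act 7 n35959
theorem D79007 : act 7 n35959 = n79007 := rfl
def n79008 : Q := act 3 n35960
theorem D79008 : act 3 n35960 = n79008 := rfl
theorem F120190 : act 4 n79008 = n48969 := d5_2 (iv4 F56654) D79008 (iv3 D48969) (iv4 D23892) (iv3 F37294)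
theorem F120191 : act 7 n79008 = n71959 := d8_2 F56657 D79008 (iv3 D71959)
def n79009 : Q := act 6 n35960
theorem D79009 : act 6 n35960 = n79009 := rfl
theorem F120192 : act 2 n79009 = n71961 := d3_1 D79009 (iv6 D71961) F56656
theorem F120193 : act 4 n79009 = n48961 := d10_1 D79009 (iv6 D48961) (iv4 F56654)
def n79010 : Q := act 6 n35961
theorem D79010 : act 6 n35961 = n79010 := rfl
theorem F120194 : act 2 n79010 = n71960 := d3_1 D79010 (iv6 D71960) F56661
theorem F120195 : act 4 n79010 = n60054 := d10_1 D79010 (iv6 D60054) (iv4 F56660)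
def n79011 : Q := act 0 n35962
theorem D79011 : act 0 n35962 = n79011 := rfl
def n79012 : Q := act 1 n35962
theorem D79012 : act 1 n35962 = n79012 := rfl
theorem F120196 : act 1 n79012 = n71985 := d15_1 D79012 (iv7 D71985) (iv2 F56662)
def n79013 : Q := act 5 n35962
theorem D79013 : act 5 n35962 = n79013 := rfl
theorem F120197 : act 2 n79013 = n71984 := d2_1 D79013 (iv5 D71984) (iv2 F56662)
def n79014 : Q := act 7 n35962
theorem D79014 : act 7 n35962 = n79014 := rfl
theorem F120198 : act 2 n79014 = n71985 := d4_1 D79014 (iv7 D71985) (iv2 F56662)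
theorem F120199 : act 4 n79014 = n35965 := d11_1 D79014 (iv7 D35965) (iv4 F56663)
theorem F120200 : act 6 n79014 = n71965 := d14_1 D79014 (iv7 D71965) (iv6 D33248) (iv7 F28379) D35962
theorem F120201 : act 1 n71985 = n79011 := d15_0 (iv0 D79011) D79014 F120198
theorem F120202 : act 1 n71983 = n79014 := d15_1 D71983 (iv7 D79014) F56662
theorem F120203 : act 1 n79014 = n71982 := d15_0 (iv0 D71982) D71985 (iv2 F120198)
def n79015 : Q := act 2 n35963
theorem D79015 : act 2 n35963 = n79015 := rfl
def n79016 : Q := act 3 n35963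
theorem D79016 : act 3 n35963 = n79016 := rfl
def n79017 : Q := act 4 n35963
theorem D79017 : act 4 n35963 = n79017 := rfl
def n79018 : Q := act 5 n35963
theorem D79018 : act 5 n35963 = n79018 := rfl
theorem F120205 : act 0 n79018 = n73661 := d21_1 D79018 (iv5 D73661) (iv6 D33848) (iv1 D16360) (iv6 D7599) F5431 D3673 D8159 D17411 D35963
def n79019 : Q := act 6 n35963
theorem D79019 : act 6 n35963 = n79019 := rfl
theorem F120206 : act 5 n79019 = n71832 := d21_6 F5431 D3673 D8159 D17411 D35963 D79019 (iv1 D71832) (iv5 D33198) (iv6 D16021) (iv1 F27120)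
def n79020 : Q := act 7 n35963
theorem D79020 : act 7 n35963 = n79020 := rfl
def n79023 : Q := act 5 n35964
theorem D79023 : act 5 n35964 = n79023 := rfl
theorem F120208 : act 0 n73661 = n79023 := d21_10 (iv5 D79023) (iv1 D35964) (iv5 F47625) (iv6 D29643) F27036 (iv6 F42467) (iv5 D26525) D26523 D54828 (iv6 F110363)
def n79025 : Q := act 6 n35966
theorem D79025 : act 6 n35966 = n79025 := rfl
theorem F120210 : act 3 n79025 = n60204 := d7_1 D79025 (iv6 D60204) (iv3 F56671)
theorem F120211 : act 4 n79025 = n35967 := d10_1 D79025 (iv6 D35967) D35966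
def n79026 : Q := act 0 n35967
theorem D79026 : act 0 n35967 = n79026 := rfl
def n79027 : Q := act 1 n35967
theorem D79027 : act 1 n35967 = n79027 := rfl
def n79028 : Q := act 5 n35967
theorem D79028 : act 5 n35967 = n79028 := rfl
theorem F120212 : act 3 n79028 = n76389 := d6_1 D79028 (iv5 D76389) (iv3 F56676)
theorem F120213 : act 6 n79028 = n35968 := d12_2 D35967 D79028 (iv5 D35968) (iv6 D17413) D17412
def n79029 : Q := act 7 n35967
theorem D79029 : act 7 n35967 = n79029 := rfl
def n79030 : Q := act 4 n35968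
theorem D79030 : act 4 n35968 = n79030 := rfl
theorem F120215 : act 0 n79030 = n54128 := d18_2 (iv1 F56678) D79030 (iv4 D54128) (iv5 D26193) (iv4 D12424) F20689 (iv4 F40337) (iv0 D25504) D25508
theorem F120216 : act 1 n79030 = n54115 := d18_6 (iv1 F82863) (iv4 D31521) (iv1 F26729) (iv4 F28383) D35968 D79030 (iv4 D54115) D54114 F85426
def n79031 : Q := act 6 n35969
theorem D79031 : act 6 n35969 = n79031 := rfl
theorem F120217 : act 3 n79031 = n35971 := d7_1 D79031 (iv6 D35971) D35969
def n79032 : Q := act 6 n35970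
theorem D79032 : act 6 n35970 = n79032 := rfl
theorem F120218 : act 2 n79032 = n54963 := d3_1 D79032 (iv6 D54963) (iv2 F56682)
def n79033 : Q := act 0 n35971
theorem D79033 : act 0 n35971 = n79033 := rfl
def n79034 : Q := act 1 n35971
theorem D79034 : act 1 n35971 = n79034 := rfl
theorem F120219 : act 1 n79034 = n71965 := d15_1 D79034 (iv7 D71965) (iv2 F56684)
def n79035 : Q := act 5 n35971
theorem D79035 : act 5 n35971 = n79035 := rfl
theorem F120220 : act 2 n79035 = n71964 := d2_1 D79035 (iv5 D71964) (iv2 F56684)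
def n79036 : Q := act 7 n35971
theorem D79036 : act 7 n35971 = n79036 := rfl
theorem F120221 : act 2 n79036 = n71965 := d4_1 D79036 (iv7 D71965) (iv2 F56684)
theorem F120222 : act 4 n79036 = n35975 := d11_1 D79036 (iv7 D35975) (iv4 F56685)
theorem F120223 : act 6 n79036 = n71985 := d14_1 D79036 (iv7 D71985) (iv6 D33255) (iv7 F28385) D35971
theorem F120224 : act 1 n71965 = n79033 := d15_0 (iv0 D79033) D79036 F120221
theorem F120225 : act 1 n71963 = n79036 := d15_1 D71963 (iv7 D79036) F56684
theorem F120226 : act 1 n79036 = n71962 := d15_0 (iv0 D71962) D71965 (iv2 F120221)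
def n79038 : Q := act 4 n35972
theorem D79038 : act 4 n35972 = n79038 := rfl
theorem F120229 : act 7 n79038 = n71973 := d11_2 (iv7 F113761) D79038 (iv4 D71973)
def n79039 : Q := act 5 n35972
theorem D79039 : act 5 n35972 = n79039 := rfl
theorem F120231 : act 7 n79039 = n71974 := d13_2 (iv7 F113761) D79039 (iv5 D71974)
def n79040 : Q := act 6 n35972
theorem D79040 : act 6 n35972 = n79040 := rfl
theorem F120232 : act 2 n79040 = n71970 := d3_1 D79040 (iv6 D71970) (iv2 F113760)
theorem F120233 : act 5 n79040 = n68821 := d21_6 F21110 (iv1 F9443) D8164 D17415 D35972 D79040 (iv1 D68821) F50379 (iv6 D16011) F27122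
def n79041 : Q := act 3 n35973
theorem D79041 : act 3 n35973 = n79041 := rfl
theorem F120234 : act 7 n79041 = n71967 := d8_2 (iv7 F113758) D79041 (iv3 D71967)
theorem F120235 : act 4 n79041 = n71552 := d20_6 D70869 F107353 F107043 (iv3 F52487) (iv1 F56686) D79041 (iv1 D71552) F52317 F51992 D32840
def n79042 : Q := act 4 n35973
theorem D79042 : act 4 n35973 = n79042 := rfl
theorem F120236 : act 2 n79042 = n71973 := d1_1 D79042 (iv4 D71973) (iv2 F113757)
theorem F120237 : act 7 n79042 = n71968 := d11_2 (iv7 F113758) D79042 (iv4 D71968)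
def n79043 : Q := act 6 n35973
theorem D79043 : act 6 n35973 = n79043 := rfl
theorem F120238 : act 2 n79043 = n71975 := d3_1 D79043 (iv6 D71975) (iv2 F113757)
theorem F120239 : act 5 n79043 = n73644 := d12_1 D79043 (iv6 F110336) (iv5 D54197) D54198 F85522
theorem F120240 : act 5 n73659 = n71996 := d21_0 (iv1 F108485) F97811 F56666 (iv1 F56686) D79043 F120239 (iv1 F110335) (iv5 D33847) D33848 D73659
theorem E12262 : n75869 = n71701 := (c2_2 F120239 (iv2 F113788) F110284 (iv2 F120238))
theorem F120241 : act 2 n71701 = n73644 := (sb E12262 F113788)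
theorem F120242 : act 7 n71701 = n34683 := (sb E12262 (iv7 D75869))
theorem F120243 : act 7 n73699 = n71975 := d13_2 F120242 (iv5 F110396) (iv5 F110284)
theorem E12263 : n75829 = n71700 := (c15_4 (iv0 D71700) D71701 F120242 (iv2 F113777))
theorem F120244 : act 2 n71700 = n34683 := (sb E12263 F113777)
theorem F120245 : act 6 n71700 = n34672 := (sb E12263 (iv6 D75829))
theorem F120246 : act 7 n71700 = n73644 := (sb E12263 F113778)
theorem E12264 : n79043 = n73698 := (c15_4 (iv0 D73698) D73699 F120243 (iv2 F120238))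
theorem F120247 : act 2 n73698 = n71975 := (sb E12264 F120238)
theorem F120248 : act 5 n73698 = n73644 := (sb E12264 F120239)
theorem F120249 : act 6 n73698 = n35973 := (sb E12264 (iv6 D79043))
theorem E12265 : n39369 = n39291 := ((c21_4 (iv5 F120248) (iv1 F110394) (iv5 D39290) D39291 (iv1 D39369) (iv6 D18662) D18661 (iv1 F60314) F110345 (iv6 D73647) D73644)).symm
theorem F120250 : act 0 n39291 = n18662 := (sb E12265 (iv1 D39369))
def n79044 : Q := act 0 n35974
theorem D79044 : act 0 n35974 = n79044 := rfl
def n79045 : Q := act 1 n35974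
theorem D79045 : act 1 n35974 = n79045 := rfl
theorem F120251 : act 1 n79045 = n68728 := d15_1 D79045 (iv7 D68728) (iv2 F56687)
def n79046 : Q := act 4 n35974
theorem D79046 : act 4 n35974 = n79046 := rfl
theorem F120252 : act 2 n79046 = n68725 := d1_1 D79046 F104919 (iv2 F56687)
theorem F120253 : act 6 n79046 = n35976 := d10_2 (iv6 F56689) D79046 (iv4 D35976)
def n79047 : Q := act 7 n35974
theorem D79047 : act 7 n35974 = n79047 := rfl
theorem F120254 : act 2 n79047 = n68728 := d4_1 D79047 (iv7 D68728) (iv2 F56687)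
theorem F120255 : act 3 n79047 = n68990 := d8_1 D79047 (iv7 D68990) (iv3 F56688)
theorem F120256 : act 5 n79047 = n35975 := d13_1 D79047 (iv7 D35975) D35974
theorem F120257 : act 1 n68728 = n79044 := d15_0 (iv0 D79044) D79047 F120254
theorem F120258 : act 1 n68727 = n79047 := d15_1 D68727 (iv7 D79047) F56687
theorem F120259 : act 1 n79047 = n68726 := d15_0 (iv0 D68726) D68728 (iv2 F120254)
def n79048 : Q := act 3 n35976
theorem D79048 : act 3 n35976 = n79048 := rfl
theorem F120260 : act 4 n79048 = n68985 := d5_2 D35976 D79048 (iv3 D68985) (iv4 D32092) F50752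
def n79049 : Q := act 5 n35976
theorem D79049 : act 5 n35976 = n79049 := rfl
theorem F120261 : act 2 n79049 = n68724 := d2_1 D79049 (iv5 D68724) (iv2 F56695)
def n79050 : Q := act 2 n35977
theorem D79050 : act 2 n35977 = n79050 := rfl
theorem F120262 : act 7 n35978 = n79050 := d15_2 (iv0 D35977) D35978 (iv2 D79050)
def n79051 : Q := act 3 n35977
theorem D79051 : act 3 n35977 = n79051 := rfl
def n79052 : Q := act 4 n35977
theorem D79052 : act 4 n35977 = n79052 := rfl
def n79053 : Q := act 5 n35977
theorem D79053 : act 5 n35977 = n79053 := rfl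
def n79054 : Q := act 7 n35977
theorem D79054 : act 7 n35977 = n79054 := rfl
theorem F120263 : act 2 n79054 = n35978 := d4_1 D79054 F120262 (iv2 D79050)
def n79057 : Q := act 5 n35978
theorem D79057 : act 5 n35978 = n79057 := rfl
theorem F120264 : act 6 n79057 = n69755 := d21_3 F113824 (iv1 F88640) D79057 (iv1 F106158) (iv6 D55552) F43101 (iv1 F21287) D16803 D34702 D75932
def n79059 : Q := act 2 n35980
theorem D79059 : act 2 n35980 = n79059 := rfl
theorem F120265 : act 7 n35981 = n79059 := d15_2 (iv0 D35980) D35981 (iv2 D79059)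
def n79060 : Q := act 3 n35980
theorem D79060 : act 3 n35980 = n79060 := rfl
def n79061 : Q := act 4 n35980
theorem D79061 : act 4 n35980 = n79061 := rfl
def n79062 : Q := act 7 n35980
theorem D79062 : act 7 n35980 = n79062 := rfl
def n79063 : Q := act 3 n35981
theorem D79063 : act 3 n35981 = n79063 := rfl
def n79064 : Q := act 4 n35981
theorem D79064 : act 4 n35981 = n79064 := rfl
def n79065 : Q := act 6 n35981
theorem D79065 : act 6 n35981 = n79065 := rfl
def n79066 : Q := act 0 n35983
theorem D79066 : act 0 n35983 = n79066 := rfl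
theorem F120267 : act 4 n79066 = n57267 := d20_8 F109320 (iv1 D60261) F46199 (iv3 D27756) D27754 D58259 F92098 D79066 F90338 (iv1 F90325)
theorem F120268 : act 2 n44479 = n79066 := d15_3 (iv0 D79066) (iv0 F56698) (iv7 F69995)
theorem F120269 : act 1 n57570 = n79066 := d15_0 (iv0 D79066) F56697 (iv2 F90727)
theorem F120270 : act 7 n79066 = n57567 := d15_2 D57570 F120269 F90721
theorem F120271 : act 5 n70246 = n79066 := d13_3 F120270 (iv5 F115052) (iv7 F115066)
def n79067 : Q := act 2 n35983
theorem D79067 : act 2 n35983 = n79067 := rfl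
theorem F120272 : act 3 n79067 = n70394 := d0_2 D35983 D79067 (iv2 D70394) (iv3 D32675) F28393
theorem F120273 : act 5 n79067 = n70205 := d2_2 (iv5 F56696) D79067 (iv2 D70205)
theorem F120274 : act 7 n79067 = n57570 := d4_2 (iv7 F56697) D79067 F90727
theorem F120275 : act 1 n79067 = n57567 := d15_0 F90722 (iv7 F56697) D79067
theorem F120276 : act 1 n44479 = n79067 := d15_0 F120275 (iv7 F120270) (iv2 F120268)
def n79068 : Q := act 6 n35983
theorem D79068 : act 6 n35983 = n79068 := rfl
theorem F120277 : act 3 n79068 = n35984 := d7_1 D79068 (iv6 D35984) D35983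
def n79069 : Q := act 0 n35984
theorem D79069 : act 0 n35984 = n79069 := rfl
def n79070 : Q := act 5 n35984
theorem D79070 : act 5 n35984 = n79070 := rfl
theorem F120278 : act 2 n79070 = n70398 := d2_1 D79070 (iv5 D70398) (iv2 F56699)
theorem F120279 : act 6 n79070 = n70209 := d12_2 D35984 D79070 (iv5 D70209) (iv6 D32585) (iv5 F28391)
def n79071 : Q := act 7 n35984
theorem D79071 : act 7 n35984 = n79071 := rfl
theorem F120280 : act 2 n79071 = n60364 := d4_1 D79071 F110494 (iv2 F56699)
theorem F120281 : act 4 n79071 = n49031 := d11_1 D79071 F109830 (iv4 F56700)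
theorem F120283 : act 1 n60364 = n79069 := d15_0 (iv0 D79069) D79071 F120280
theorem F120284 : act 1 n70397 = n79071 := d15_1 D70397 (iv7 D79071) F56699
theorem F120285 : act 1 n79071 = n70396 := d15_0 (iv0 D70396) (iv7 F110494) (iv2 F120280)
theorem F120286 : act 0 n73257 = n72773 := d20_10 (iv4 D72773) (iv1 D33572) F25769 (iv3 F21095) D26557 D54901 (iv4 F109939) (iv1 F120285) F120281 (iv3 F109717)
theorem F120287 : act 1 n72365 = n72773 := d15_0 (iv0 F120286) F109825 (iv2 F108835)
def n79072 : Q := act 2 n35985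
theorem D79072 : act 2 n35985 = n79072 := rfl
theorem F120288 : act 3 n79072 = n57570 := d0_2 D35985 D79072 F90727 (iv3 D32681) F28397
theorem F120289 : act 4 n79072 = n69812 := d1_2 F77220 D79072 F106239
theorem F120290 : act 5 n79072 = n69799 := d2_2 (iv5 F56701) D79072 (iv2 F106215)
theorem F120292 : act 1 n79072 = n52951 := d15_0 (iv0 F83683) (iv7 F56702) D79072
theorem F120293 : act 1 n40142 = n79072 := d15_0 F120292 F83682 F76778
def n79074 : Q := act 0 n35986
theorem D79074 : act 0 n35986 = n79074 := rfl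
def n79075 : Q := act 1 n35986
theorem D79075 : act 1 n35986 = n79075 := rfl
def n79077 : Q := act 7 n35986
theorem D79077 : act 7 n35986 = n79077 := rfl
theorem F120298 : act 2 n79077 = n70416 := d4_1 D79077 (iv7 D70416) (iv2 F56703)
theorem F120299 : act 4 n79077 = n54324 := d11_1 D79077 (iv7 D54324) (iv4 F56704)
theorem F120300 : act 6 n79077 = n60364 := d14_1 D79077 F110494 (iv6 D32676) (iv7 F28395) D35986
theorem F120301 : act 1 n70416 = n79074 := d15_0 (iv0 D79074) D79077 F120298
theorem F120303 : act 1 n79077 = n70413 := d15_0 (iv0 D70413) D70416 (iv2 F120298)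
def n79078 : Q := act 2 n35987
theorem D79078 : act 2 n35987 = n79078 := rfl
theorem F120304 : act 7 n35988 = n79078 := d15_2 (iv0 D35987) D35988 (iv2 D79078)
def n79079 : Q := act 4 n35987
theorem D79079 : act 4 n35987 = n79079 := rfl
theorem F120305 : act 3 n79079 = n38181 := d20_3 F42553 D35987 D79079 (iv1 D38181) (iv3 D18249) (iv4 F14310) (iv1 F15483) F15484 D18282 F42555
theorem F120306 : act 0 n38189 = n79079 := d20_10 (iv4 D79079) F115109 F115110 (iv3 D35465) (iv1 F43397) D55703 (iv4 F90547) F90548 (iv4 D38190) D38189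
theorem F120307 : act 5 n77608 = n79079 := d6_0 F120305 F59334 D77608
theorem F120308 : act 7 n38491 = n79079 := d8_0 F120305 F59335 D38491
theorem F120309 : act 7 n35987 = n76733 := d11_2 F120308 (iv4 D79079) F115112
theorem F120310 : act 2 n76733 = n35988 := d4_1 F120309 F120304 (iv2 D79078)
theorem E12266 : n79078 = n76734 := (c15_4 F115114 F115113 (iv7 F120309) D79078)
theorem F120311 : act 2 n76734 = n35987 := (sb E12266 (iv2 D79078))
theorem F120312 : act 7 n76734 = n35988 := (sb E12266 (iv7 F120304))
def n79080 : Q := act 5 n35987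
theorem D79080 : act 5 n35987 = n79080 := rfl
theorem F120313 : act 4 n79080 = n57478 := d16_6 (iv4 F87694) D71541 (iv4 F116509) F120307 (iv4 D79079) D79080 F94620 (iv7 F87698) (iv2 F87697)
def n79081 : Q := act 6 n35987
theorem D79081 : act 6 n35987 = n79081 := rfl
def n79082 : Q := act 3 n35988
theorem D79082 : act 3 n35988 = n79082 := rfl
def n79083 : Q := act 4 n35988
theorem D79083 : act 4 n35988 = n79083 := rfl
theorem F120314 : act 2 n79083 = n38491 := d1_1 D79083 (iv4 F115112) F120310
theorem F120315 : act 5 n79083 = n71785 := d18_4 (iv1 F72366) (iv4 F115110) (iv1 F115111) D79083 F108251 (iv0 F61208) (iv4 D35449) D35447 F86809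
theorem F120316 : act 3 n79083 = n38557 := d20_3 (iv4 F115110) (iv1 F115111) D79083 (iv1 F59382) (iv3 F59369) (iv4 F88100) (iv1 F88102) (iv4 F59145) (iv3 F72362) (iv1 F72366)
def n79084 : Q := act 5 n35988
theorem D79084 : act 5 n35988 = n79084 := rfl
theorem F120317 : act 4 n79084 = n57479 := d16_2 (iv4 D79083) D79084 F94617 (iv4 F87694) D71541 (iv4 F116509) F120307 (iv7 F120308) (iv2 F120314)
theorem F120318 : act 0 n79084 = n54104 := d17_2 (iv1 F115111) D79084 (iv5 F86791) F86790 D54863 (iv0 F86806) F56154 (iv0 F57353) (iv4 F115110)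
theorem E12267 : n76723 = n57111 := (c17_5 F120318 (iv5 F86791) (iv1 F115101) (iv5 D76724) D76723 F110125 (iv0 D27491) D27494 D57479 (iv4 F120317))
theorem F120319 : act 4 n57111 = n35068 := (sb E12267 (iv4 D76723))
def n79085 : Q := act 6 n35988
theorem D79085 : act 6 n35988 = n79085 := rfl
def n79086 : Q := act 2 n35990
theorem D79086 : act 2 n35990 = n79086 := rfl
theorem F120320 : act 7 n35991 = n79086 := d15_2 (iv0 D35990) D35991 (iv2 D79086)
def n79087 : Q := act 3 n35990
theorem D79087 : act 3 n35990 = n79087 := rfl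
def n79088 : Q := act 4 n35990
theorem D79088 : act 4 n35990 = n79088 := rfl
def n79089 : Q := act 5 n35990
theorem D79089 : act 5 n35990 = n79089 := rfl
def n79090 : Q := act 7 n35990
theorem D79090 : act 7 n35990 = n79090 := rfl
theorem F120321 : act 2 n79090 = n35991 := d4_1 D79090 F120320 (iv2 D79086)
def n79091 : Q := act 3 n35991
theorem D79091 : act 3 n35991 = n79091 := rfl
def n79092 : Q := act 4 n35991
theorem D79092 : act 4 n35991 = n79092 := rfl
def n79093 : Q := act 5 n35991
theorem D79093 : act 5 n35991 = n79093 := rfl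
theorem F120322 : act 6 n79093 = n54100 := d21_9 F50677 (iv1 F41520) D54099 F85388 (iv1 F42662) D33822 (iv5 F87237) (iv1 F87239) D79093 (iv1 F85396)
theorem F120323 : act 2 n68936 = n79093 := d3_3 F120322 F105723 D68936
theorem E12268 : n79090 = n56004 := (c2_4 (iv5 F105106) F120323 (iv5 D79093) (iv2 F120321))
theorem F120324 : act 2 n56004 = n35991 := (sb E12268 F120321)
theorem F120325 : act 7 n56004 = n35990 := (sb E12268 (iv7 D79090))
theorem F120326 : act 7 n79089 = n68936 := d13_2 F120325 D79089 F105106
theorem E12269 : n79086 = n56003 := (c15_4 (iv0 D56003) D56004 F120325 D79086)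
theorem F120327 : act 2 n56003 = n35990 := (sb E12269 (iv2 D79086))
theorem F120328 : act 7 n56003 = n35991 := (sb E12269 (iv7 F120320))
def n79094 : Q := act 6 n35991
theorem D79094 : act 6 n35991 = n79094 := rfl
theorem F120329 : act 2 n79094 = n69590 := d3_1 D79094 F105881 F120324
theorem F120330 : act 5 n79094 = n54288 := d21_6 (iv5 D16366) (iv1 F21145) (iv5 F42707) D55144 (iv1 F87239) D79094 (iv1 D54288) D54289 F85663 (iv1 D33856)
theorem F120331 : act 7 n69456 = n79094 := d13_0 F120330 (iv7 F105743) D69456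
theorem F120332 : act 0 n79094 = n68732 := d21_1 (iv5 F120330) (iv5 D68732) D68733 F104974 (iv6 D31996) D31995 (iv1 F104960) (iv5 F104962) F85695 (iv1 F85661)
def n79095 : Q := act 3 n35993
theorem D79095 : act 3 n35993 = n79095 := rfl
theorem F120333 : act 2 n79095 = n48900 := d0_1 D79095 F77083 F54292 F54168 F56713
theorem F120334 : act 4 n79095 = n52555 := d5_2 F56716 D79095 F83056 (iv4 F83064) F83063
theorem F120335 : act 5 n79095 = n76782 := d6_2 (iv5 F56711) D79095 (iv3 D76782)
theorem F120336 : act 6 n79095 = n48897 := d7_2 F56717 D79095 F77073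
theorem F120337 : act 7 n79095 = n52557 := d8_2 (iv7 F56715) D79095 F83063
theorem F120338 : act 0 n79095 = n54019 := d20_4 F23544 (iv1 F54175) F56716 D79095 (iv3 D54019) (iv4 F54356) (iv1 F51062) (iv4 F51057) F51056 F54024
theorem F120339 : act 0 n61650 = n79095 := d20_4 (iv4 F24726) D32028 D68860 F105046 (iv3 D79095) (iv4 F56716) (iv1 F56725) F56721 F50233 (iv1 D15117)
def n79096 : Q := act 3 n35995
theorem D79096 : act 3 n35995 = n79096 := rfl
theorem F120340 : act 2 n79096 = n54770 := d0_1 D79096 F86644 F42385 F51816 F56729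
theorem F120341 : act 5 n79096 = n44071 := d6_2 (iv5 F56727) D79096 F69414
theorem F120342 : act 7 n79096 = n70564 := d8_2 F56730 D79096 (iv3 D70564)
theorem F120343 : act 0 n79096 = n76301 := d19_4 (iv1 F33694) D44926 F70609 D79096 (iv5 D76301) (iv4 D34857) D34856 F55174 (iv5 F83643) F83642 F54537 (iv1 D26859) (iv5 D12850) (iv4 F20093) F20092 D12148 (iv5 F32550) (iv4 F33682) F33683
theorem F120344 : act 0 n76296 = n79096 := d20_4 (iv4 F51624) F54162 (iv4 F83547) (iv3 F114349) (iv3 D79096) (iv4 F70609) F70611 (iv4 D35947) (iv3 F54191) (iv1 F54190)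
def n79097 : Q := act 6 n35995
theorem D79097 : act 6 n35995 = n79097 := rfl
theorem F120345 : act 2 n79097 = n70563 := d3_1 D79097 (iv6 D70563) F56729
theorem F120346 : act 5 n79097 = n49195 := d12_1 D79097 (iv6 D49195) (iv5 D24007) D24008 (iv5 F56727)
def n79098 : Q := act 6 n35996
theorem D79098 : act 6 n35996 = n79098 := rfl
theorem F120347 : act 2 n79098 = n70565 := d3_1 D79098 (iv6 D70565) F56734
theorem F120348 : act 3 n79098 = n69798 := d7_1 D79098 (iv6 D69798) F56735
theorem F120349 : act 4 n79098 = n44523 := d10_1 D79098 (iv6 D44523) F56736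
theorem F120350 : act 5 n79098 = n76224 := d12_1 D79098 (iv6 D76224) (iv5 D34814) (iv6 F45392) (iv5 F56733)
def n79099 : Q := act 3 n35997
theorem D79099 : act 3 n35997 = n79099 := rfl
theorem F120351 : act 4 n79099 = n71452 := d5_2 D35997 D79099 (iv3 D71452) (iv4 D33059) (iv3 F35193)
theorem F120352 : act 5 n79099 = n44729 := d6_2 (iv5 F56739) D79099 (iv3 D44729)
theorem F120353 : act 7 n79099 = n78996 := d8_2 (iv7 F56738) D79099 (iv3 D78996)
theorem F120354 : act 0 n79099 = n46982 := d20_4 F56736 (iv1 D35996) D35997 D79099 F74199 F70964 F55624 D69031 F105247 F56629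
theorem F120355 : act 0 n46973 = n79099 := d18_0 F120351 (iv1 F109570) (iv4 D44993) (iv5 D21483) (iv4 F30926) D40881 (iv4 F74186) (iv0 D46971) D46973
def n79100 : Q := act 6 n35997
theorem D79100 : act 6 n35997 = n79100 := rfl
theorem F120356 : act 2 n79100 = n70566 := d3_1 D79100 (iv6 D70566) (iv2 F56737)
theorem F120357 : act 4 n79100 = n35998 := d10_1 D79100 (iv6 D35998) D35997
def n79101 : Q := act 0 n35998
theorem D79101 : act 0 n35998 = n79101 := rfl
def n79102 : Q := act 1 n35998
theorem D79102 : act 1 n35998 = n79102 := rfl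
theorem F120358 : act 1 n79102 = n70569 := d15_1 D79102 (iv7 D70569) (iv2 F56741)
theorem F120359 : act 5 n52610 = n79102 := d21_6 (iv5 D12124) (iv1 D5750) D5752 D12134 D25530 D52610 (iv1 D79102) (iv5 F82946) (iv6 D52523) (iv1 F40327)
def n79103 : Q := act 7 n35998
theorem D79103 : act 7 n35998 = n79103 := rfl
theorem F120360 : act 2 n79103 = n70569 := d4_1 D79103 (iv7 D70569) (iv2 F56741)
theorem F120361 : act 3 n79103 = n71456 := d8_1 D79103 (iv7 D71456) (iv3 F56742)
theorem F120362 : act 6 n79103 = n79000 := d14_1 D79103 (iv7 D79000) (iv6 D35955) (iv7 F28414) D35998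
theorem F120363 : act 1 n70569 = n79101 := d15_0 (iv0 D79101) D79103 F120360
theorem F120364 : act 1 n70568 = n79103 := d15_1 D70568 (iv7 D79103) F56741
theorem F120365 : act 1 n79103 = n70567 := d15_0 (iv0 D70567) D70569 (iv2 F120360)
def n79104 : Q := act 6 n35999
theorem D79104 : act 6 n35999 = n79104 := rfl
theorem F120366 : act 2 n79104 = n60165 := d3_1 D79104 (iv6 D60165) (iv2 F56743)
theorem F120367 : act 3 n79104 = n54954 := d7_1 D79104 (iv6 D54954) (iv3 F56744)
theorem F120368 : act 4 n79104 = n71330 := d10_1 D79104 (iv6 D71330) (iv4 F56748)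
theorem F120369 : act 5 n79104 = n70185 := d12_1 D79104 (iv6 D70185) (iv5 D32572) (iv6 F54153) D35999
def n79105 : Q := act 5 n36000
theorem D79105 : act 5 n36000 = n79105 := rfl
def n79106 : Q := act 6 n36000
theorem D79106 : act 6 n36000 = n79106 := rfl
theorem F120370 : act 3 n79106 = n78138 := d7_1 D79106 F119306 (iv3 F115906)
theorem F120371 : act 5 n79106 = n44502 := d21_6 F15942 (iv1 D8183) D8184 D17429 D36000 D79106 (iv1 D44502) (iv5 D21162) (iv6 D10085) D10083
theorem E12270 : n78136 = n44502 := ((c6_1 F120371 (iv3 D78136) D78138 (iv3 F120370))).symm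
theorem F120372 : act 3 n44502 = n35625 := (sb E12270 (iv3 D78136))
def n79107 : Q := act 5 n36001
theorem D79107 : act 5 n36001 = n79107 := rfl
theorem F120373 : act 6 n79107 = n40442 := d21_3 (iv5 F61585) (iv1 F61588) D79107 (iv1 F61534) F57735 F56752 (iv1 F33666) (iv5 F70113) (iv6 D44584) (iv1 F33671)
def n79108 : Q := act 6 n36001
theorem D79108 : act 6 n36001 = n79108 := rfl
def n79109 : Q := act 5 n36003
theorem D79109 : act 5 n36003 = n79109 := rfl
theorem F120374 : act 2 n79109 = n38127 := d2_1 D79109 (iv5 D38127) (iv2 F56753)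
theorem F120376 : act 6 n79109 = n36004 := d12_2 D36003 D79109 (iv5 D36004) (iv6 D17431) D17430
theorem F120377 : act 4 n79109 = n77867 := d18_5 (iv1 F28117) D17211 F117658 (iv4 F56755) D79109 F119083 (iv4 D35538) F56096 F56094
theorem F120378 : act 0 n79109 = n38985 := d18_0 F116391 (iv1 F116389) F56211 F28165 (iv4 F28160) F56081 (iv4 F56083) (iv0 F117852) D79109
theorem E12271 : n77867 = n77410 := (c10_2 (iv6 F120376) F120377 (iv6 D77410) (iv4 F56760))
theorem F120379 : act 0 n77410 = n35533 := (sb E12271 (iv1 D77867))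
theorem F120380 : act 1 n77410 = n35538 := (sb E12271 F119083)
theorem F120381 : act 4 n77410 = n79109 := (sb E12271 (iv4 F120377))
def n79110 : Q := act 5 n36005
theorem D79110 : act 5 n36005 = n79110 := rfl
theorem F120382 : act 2 n79110 = n75351 := d2_1 D79110 (iv5 D75351) (iv2 F116625)
theorem F120384 : act 7 n79110 = n75741 := d13_2 (iv7 F116628) D79110 (iv5 D75741)
theorem F120385 : act 0 n79110 = n76000 := d21_1 D79110 (iv5 F118405) (iv6 D38396) (iv1 D18315) (iv6 D8634) (iv5 F7226) F12102 D8188 D17432 D36005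
theorem E12272 : n76000 = n75747 := ((c15_1 D75747 (iv0 F120385) F120384 F113608)).symm
theorem F120386 : act 1 n75747 = n79110 := (sb E12272 (iv0 F120385))
theorem F120387 : act 3 n75747 = n34731 := (sb E12272 (iv3 D76000))
theorem F120388 : act 5 n75747 = n38396 := (sb E12272 (iv5 F118405))
theorem F120389 : act 7 n75747 = n37989 := (sb E12272 F118499)
theorem F120390 : act 2 n37989 = n75746 := d15_3 (iv0 D75746) D75747 F120389
theorem F120391 : act 6 n75746 = n37959 := d3_2 D37989 F120390 F118224
theorem F120392 : act 1 n75351 = n37989 := d15_0 (iv0 F118502) (iv7 F120384) F120382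
theorem F120393 : act 1 n79110 = n75746 := d15_0 (iv0 D75746) (iv7 F113044) (iv2 F120382)
def n79111 : Q := act 6 n36005
theorem D79111 : act 6 n36005 = n79111 := rfl
theorem F120394 : act 2 n79111 = n75352 := d3_1 D79111 (iv6 D75352) (iv2 F116625)
theorem F120395 : act 3 n79111 = n75701 := d7_1 D79111 (iv6 D75701) (iv3 F116626)
theorem F120396 : act 4 n79111 = n77444 := d10_1 D79111 (iv6 D77444) (iv4 F116627)
def n79112 : Q := act 6 n36008
theorem D79112 : act 6 n36008 = n79112 := rfl
theorem F120397 : act 3 n79112 = n36010 := d7_1 D79112 (iv6 D36010) D36008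
def n79114 : Q := act 0 n36010
theorem D79114 : act 0 n36010 = n79114 := rfl
def n79118 : Q := act 3 n36011
theorem D79118 : act 3 n36011 = n79118 := rfl
theorem F120401 : act 2 n79118 = n40375 := d0_1 D79118 (iv3 D40375) F30635 (iv3 F51483) F56768
theorem F120402 : act 4 n79118 = n75320 := d5_2 F106834 D79118 F112931 (iv4 F71167) (iv3 F106835)
theorem F120403 : act 5 n79118 = n69793 := d6_2 (iv5 F56767) D79118 (iv3 D69793)
def n79120 : Q := act 6 n36012
theorem D79120 : act 6 n36012 = n79120 := rfl
theorem F120405 : act 2 n79120 = n36013 := d3_1 D79120 (iv6 D36013) D36012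
def n79121 : Q := act 0 n36013
theorem D79121 : act 0 n36013 = n79121 := rfl
def n79122 : Q := act 1 n36013
theorem D79122 : act 1 n36013 = n79122 := rfl
def n79124 : Q := act 7 n36013
theorem D79124 : act 7 n36013 = n79124 := rfl
theorem F120407 : act 3 n79124 = n36020 := d8_1 D79124 (iv7 D36020) (iv3 F56771)
def n79125 : Q := act 3 n36014
theorem D79125 : act 3 n36014 = n79125 := rfl
theorem F120408 : act 5 n79125 = n36087 := d6_2 (iv5 F56772) D79125 (iv3 D36087)
theorem F120409 : act 7 n79125 = n57449 := d8_2 F56775 D79125 F90635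
theorem F120410 : act 0 n79125 = n77632 := d20_10 (iv4 D77632) (iv1 D35447) D35449 F56156 F30784 F30217 F28902 (iv1 F29513) (iv4 F56773) D79125
def n79128 : Q := act 0 n36016
theorem D79128 : act 0 n36016 = n79128 := rfl
def n79129 : Q := act 1 n36016
theorem D79129 : act 1 n36016 = n79129 := rfl
def n79131 : Q := act 7 n36016
theorem D79131 : act 7 n36016 = n79131 := rfl
def n79132 : Q := act 3 n36017
theorem D79132 : act 3 n36017 = n79132 := rfl
def n79134 : Q := act 6 n36017
theorem D79134 : act 6 n36017 = n79134 := rfl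
theorem F120415 : act 4 n79134 = n77425 := d10_1 D79134 (iv6 D77425) (iv4 F117337)
def n79135 : Q := act 3 n36018
theorem D79135 : act 3 n36018 = n79135 := rfl
def n79137 : Q := act 6 n36018
theorem D79137 : act 6 n36018 = n79137 := rfl
theorem F120416 : act 4 n79137 = n77429 := d10_1 D79137 (iv6 D77429) (iv4 F117341)
def n79139 : Q := act 1 n36019
theorem D79139 : act 1 n36019 = n79139 := rfl
def n79142 : Q := act 3 n36023
theorem D79142 : act 3 n36023 = n79142 := rfl
def n79144 : Q := act 6 n36023
theorem D79144 : act 6 n36023 = n79144 := rfl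
theorem F120418 : act 4 n79144 = n36025 := d10_1 D79144 (iv6 D36025) D36023
def n79145 : Q := act 4 n36024
theorem D79145 : act 4 n36024 = n79145 := rfl
def n79146 : Q := act 6 n36024
theorem D79146 : act 6 n36024 = n79146 := rfl
theorem F120419 : act 2 n79146 = n56347 := d3_1 D79146 (iv6 F89117) (iv2 F59808)
theorem F120420 : act 7 n79146 = n36053 := d14_2 F59807 D79146 (iv6 D36053) F59796 D36836
theorem F120421 : act 0 n79146 = n36231 := d21_4 (iv5 F17022) D17437 D36024 D79146 F56934 D56289 F89035 F57644 (iv6 D19035) (iv1 F59697)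
def n79147 : Q := act 1 n36025
theorem D79147 : act 1 n36025 = n79147 := rfl
theorem F120424 : act 7 n79147 = n56292 := d15_2 (iv0 F89194) D79147 F89161
theorem F120425 : act 6 n36226 = n79147 := d21_3 D8228 D17498 D36226 (iv1 D79147) (iv6 D36025) D36024 F56931 (iv5 D36221) (iv6 D17497) (iv1 D8227)
theorem F120426 : act 2 n56363 = n79147 := d4_3 F120424 F89161 D56363
def n79148 : Q := act 7 n36025
theorem D79148 : act 7 n36025 = n79148 := rfl
theorem F120428 : act 3 n79148 = n77594 := d8_1 D79148 F116486 (iv3 F91318)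
theorem F120429 : act 5 n79148 = n55680 := d13_1 D79148 F88089 (iv5 F56871)
theorem F120430 : act 1 n56363 = n79148 := d15_1 F89198 (iv7 D79148) (iv2 F59812)
theorem F120431 : act 1 n79148 = n56292 := d15_1 F120430 (iv7 F120424) (iv2 F120426)
def n79149 : Q := act 5 n36031
theorem D79149 : act 5 n36031 = n79149 := rfl
theorem F120432 : act 3 n79149 = n75257 := d6_1 D79149 (iv5 D75257) (iv3 F117066)
theorem F120433 : act 6 n79149 = n75751 := d12_2 (iv6 F117068) D79149 (iv5 D75751) (iv6 D34642) D34641
theorem F120434 : act 7 n79149 = n75783 := d13_2 (iv7 F117069) D79149 (iv5 D75783)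
def n79150 : Q := act 5 n36032
theorem D79150 : act 5 n36032 = n79150 := rfl
theorem F120435 : act 2 n79150 = n75783 := d2_1 D79150 (iv5 D75783) (iv2 F117070)
def n79151 : Q := act 6 n36032
theorem D79151 : act 6 n36032 = n79151 := rfl
theorem F120436 : act 2 n79151 = n75784 := d3_1 D79151 (iv6 D75784) (iv2 F117070)
theorem F120437 : act 4 n79151 = n77373 := d10_1 D79151 (iv6 D77373) (iv4 F117071)
def n79152 : Q := act 0 n36033
theorem D79152 : act 0 n36033 = n79152 := rfl
def n79153 : Q := act 1 n36033
theorem D79153 : act 1 n36033 = n79153 := rfl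
def n79154 : Q := act 7 n36033
theorem D79154 : act 7 n36033 = n79154 := rfl
theorem F120438 : act 3 n79154 = n45184 := d8_1 D79154 (iv7 D45184) (iv3 F56784)
theorem F120439 : act 5 n79154 = n36034 := d13_1 D79154 (iv7 D36034) D36033
def n79155 : Q := act 3 n36035
theorem D79155 : act 3 n36035 = n79155 := rfl
theorem F120440 : act 2 n79155 = n60118 := d0_1 D79155 (iv3 D60118) F55434 F57782 F57785
theorem F120441 : act 4 n79155 = n60133 := d5_2 (iv4 F108271) D79155 (iv3 F108245) F108246 (iv3 F108270)
def n79156 : Q := act 5 n36035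
theorem D79156 : act 5 n36035 = n79156 := rfl
theorem F120442 : act 1 n79156 = n55685 := d17_6 D54948 F86919 F59233 D71814 (iv4 F108271) D79156 (iv5 D55685) (iv0 F86934) (iv4 D54951)
theorem F120443 : act 1 n69817 = n79156 := d15_0 F120442 F88110 (iv2 F106251)
def n79157 : Q := act 6 n36035
theorem D79157 : act 6 n36035 = n79157 := rfl
def n79158 : Q := act 5 n36036
theorem D79158 : act 5 n36036 = n79158 := rfl
theorem F120444 : act 3 n79158 = n40719 := d6_1 D79158 F61834 F56787
theorem F120445 : act 1 n79158 = n69817 := d17_6 (iv1 F86926) (iv5 F108268) (iv1 F108267) F86983 F56788 D79158 F106253 F88102 F88100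
theorem F120446 : act 1 n55685 = n79158 := d15_0 F120445 (iv7 F107242) F107239
def n79159 : Q := act 6 n36036
theorem D79159 : act 6 n36036 = n79159 := rfl
theorem F120447 : act 3 n79159 = n71492 := d7_1 D79159 (iv6 D71492) F56787
theorem F120448 : act 4 n79159 = n75579 := d10_1 D79159 (iv6 D75579) F56788
def n79160 : Q := act 6 n36037
theorem D79160 : act 6 n36037 = n79160 := rfl
def n79161 : Q := act 0 n36038
theorem D79161 : act 0 n36038 = n79161 := rfl
theorem F120450 : act 5 n79161 = n36115 := d17_3 (iv1 D36036) D36038 D79161 F86937 (iv5 F86931) (iv0 F56041) (iv5 F113398) (iv0 F113401) F56788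
theorem F120451 : act 1 n49003 = n79161 := d15_0 (iv0 D79161) (iv7 F57793) (iv2 F77345)
def n79162 : Q := act 1 n36038
theorem D79162 : act 1 n36038 = n79162 := rfl
theorem F120452 : act 1 n79162 = n49003 := d15_1 D79162 F77348 F61026
theorem F120453 : act 3 n57324 = n79162 := d19_19 (iv1 D79162) (iv5 D36038) (iv4 F34451) (iv3 D21945) F16684 D16751 F27505 (iv3 F31375) F34423 (iv5 F34781) D46500 F73467 D46971 (iv5 F120171) F120170 (iv3 D71439) (iv1 F107958) F107960 F90509
theorem F120454 : act 5 n79162 = n36116 := d6_2 (iv5 F90507) F120453 F86372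
def n79163 : Q := act 6 n36038
theorem D79163 : act 6 n36038 = n79163 := rfl
theorem F120455 : act 3 n79163 = n36040 := d7_1 D79163 (iv6 D36040) (iv3 F56789)
def n79165 : Q := act 1 n36039
theorem D79165 : act 1 n36039 = n79165 := rfl
def n79167 : Q := act 7 n36039
theorem D79167 : act 7 n36039 = n79167 := rfl
def n79168 : Q := act 0 n36040
theorem D79168 : act 0 n36040 = n79168 := rfl
def n79169 : Q := act 1 n36040
theorem D79169 : act 1 n36040 = n79169 := rfl
def n79171 : Q := act 7 n36040
theorem D79171 : act 7 n36040 = n79171 := rfl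
def n79173 : Q := act 5 n36041
theorem D79173 : act 5 n36041 = n79173 := rfl
def n79174 : Q := act 6 n36041
theorem D79174 : act 6 n36041 = n79174 := rfl
def n79175 : Q := act 3 n36042
theorem D79175 : act 3 n36042 = n79175 := rfl
theorem F120460 : act 4 n79175 = n76872 := d5_2 (iv4 F59804) D79175 (iv3 D76872) (iv4 D35128) D35127
def n79177 : Q := act 6 n36042
theorem D79177 : act 6 n36042 = n79177 := rfl
theorem F120461 : act 4 n79177 = n76871 := d10_1 D79177 (iv6 D76871) (iv4 F59804)
def n79178 : Q := act 0 n36043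
theorem D79178 : act 0 n36043 = n79178 := rfl
def n79181 : Q := act 7 n36043
theorem D79181 : act 7 n36043 = n79181 := rfl
def n79182 : Q := act 3 n36051
theorem D79182 : act 3 n36051 = n79182 := rfl
def n79183 : Q := act 5 n36051
theorem D79183 : act 5 n36051 = n79183 := rfl
def n79184 : Q := act 6 n36051
theorem D79184 : act 6 n36051 = n79184 := rfl
theorem F120463 : act 4 n79184 = n36053 := d10_1 D79184 (iv6 D36053) D36051
def n79186 : Q := act 0 n36053
theorem D79186 : act 0 n36053 = n79186 := rfl
theorem F120464 : act 5 n79186 = n36079 := d21_0 (iv1 F56820) F28483 (iv6 F21381) (iv1 F43329) D55657 (iv5 F115982) (iv1 F115984) (iv5 D36052) D36053 D79186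
theorem F120466 : act 1 n56347 = n79186 := d15_0 (iv0 D79186) (iv7 F120420) F120419
theorem F120467 : act 7 n79186 = n36231 := d15_2 D56347 F120466 F89147
theorem F120468 : act 6 n56363 = n79186 := d14_5 F120467 F56934 (iv7 F89148) D27139 D56363
def n79187 : Q := act 2 n36054
theorem D79187 : act 2 n36054 = n79187 := rfl
theorem F120469 : act 7 n36055 = n79187 := d15_2 (iv0 D36054) D36055 (iv2 D79187)
def n79190 : Q := act 6 n36054
theorem D79190 : act 6 n36054 = n79190 := rfl
theorem F120470 : act 5 n79190 = n36962 := d21_6 (iv5 D8210) (iv1 F12990) D8204 (iv6 F28441) D36054 D79190 (iv1 D36962) (iv5 F43414) (iv6 D26920) F21385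
def n79191 : Q := act 7 n36054
theorem D79191 : act 7 n36054 = n79191 := rfl
theorem F120472 : act 2 n79191 = n36055 := d4_1 D79191 F120469 (iv2 D79187)
def n79192 : Q := act 3 n36055
theorem D79192 : act 3 n36055 = n79192 := rfl
def n79193 : Q := act 4 n36055
theorem D79193 : act 4 n36055 = n79193 := rfl
def n79195 : Q := act 0 n36056
theorem D79195 : act 0 n36056 = n79195 := rfl
def n79196 : Q := act 1 n36056
theorem D79196 : act 1 n36056 = n79196 := rfl
def n79197 : Q := act 3 n36056
theorem D79197 : act 3 n36056 = n79197 := rfl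
theorem F120473 : act 6 n79197 = n36060 := d7_2 (iv6 F56794) D79197 (iv3 D36060)
def n79199 : Q := act 7 n36056
theorem D79199 : act 7 n36056 = n79199 := rfl
theorem F120474 : act 4 n79199 = n36057 := d11_1 D79199 (iv7 D36057) D36056
def n79200 : Q := act 3 n36058
theorem D79200 : act 3 n36058 = n79200 := rfl
def n79201 : Q := act 5 n36058
theorem D79201 : act 5 n36058 = n79201 := rfl
def n79202 : Q := act 6 n36058
theorem D79202 : act 6 n36058 = n79202 := rfl
theorem F120478 : act 4 n79202 = n77362 := d10_1 D79202 (iv6 D77362) (iv4 F56796)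
def n79203 : Q := act 3 n36059
theorem D79203 : act 3 n36059 = n79203 := rfl
theorem F120479 : act 4 n79203 = n76806 := d5_2 (iv4 F56799) D79203 (iv3 D76806) (iv4 D35108) (iv3 F55785)
def n79204 : Q := act 5 n36059
theorem D79204 : act 5 n36059 = n79204 := rfl
theorem F120482 : act 1 n79204 = n36265 := d17_6 F54704 (iv5 D17233) (iv1 F28310) D35105 (iv4 F56799) D79204 (iv5 D36265) D36263 F57011
def n79205 : Q := act 6 n36059
theorem D79205 : act 6 n36059 = n79205 := rfl
def n79206 : Q := act 0 n36060
theorem D79206 : act 0 n36060 = n79206 := rfl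
def n79207 : Q := act 1 n36060
theorem D79207 : act 1 n36060 = n79207 := rfl
def n79208 : Q := act 2 n36060
theorem D79208 : act 2 n36060 = n79208 := rfl
def n79209 : Q := act 5 n36060
theorem D79209 : act 5 n36060 = n79209 := rfl
def n79213 : Q := act 2 n36062
theorem D79213 : act 2 n36062 = n79213 := rfl
theorem F120491 : act 7 n36063 = n79213 := d15_2 (iv0 D36062) D36063 (iv2 D79213)
def n79214 : Q := act 3 n36062
theorem D79214 : act 3 n36062 = n79214 := rfl
theorem F120492 : act 4 n79214 = n40118 := d20_6 (iv4 D12867) (iv1 F9480) D8206 D17451 D36062 D79214 (iv1 D40118) D40120 F61011 (iv1 D26879)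
def n79215 : Q := act 5 n36062
theorem D79215 : act 5 n36062 = n79215 := rfl
theorem F120493 : act 1 n79215 = n36581 := d17_6 (iv1 D41703) (iv5 F54649) D75247 F115312 (iv4 F74450) D79215 F57452 D36795 F86433
def n79217 : Q := act 7 n36062
theorem D79217 : act 7 n36062 = n79217 := rfl
theorem F120494 : act 2 n79217 = n36063 := d4_1 D79217 F120491 (iv2 D79213)
def n79218 : Q := act 3 n36063
theorem D79218 : act 3 n36063 = n79218 := rfl
theorem F120495 : act 4 n79218 = n54949 := d20_6 (iv4 D15906) (iv1 F30290) D26629 D55099 F87152 D79218 (iv1 D54949) D54951 F86932 (iv1 D33006)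
def n79219 : Q := act 5 n36063
theorem D79219 : act 5 n36063 = n79219 := rfl
def n79225 : Q := act 3 n36065
theorem D79225 : act 3 n36065 = n79225 := rfl
theorem F120498 : act 4 n79225 = n39147 := d5_2 F56807 D79225 (iv3 D39147) (iv4 D18578) D18577
theorem F120499 : act 7 n79225 = n36171 := d8_2 (iv7 F117543) D79225 (iv3 D36171)
def n79227 : Q := act 6 n36065
theorem D79227 : act 6 n36065 = n79227 := rfl
theorem F120502 : act 2 n79227 = n36169 := d3_1 D79227 (iv6 D36169) (iv2 F117542)
theorem F120503 : act 4 n79227 = n39143 := d10_1 D79227 (iv6 D39143) F56807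
theorem F120504 : act 5 n79227 = n36898 := d21_6 D17762 F28897 F28159 D17452 D36065 D79227 (iv1 D36898) (iv5 D17770) (iv6 D8379) D8376
def n79229 : Q := act 4 n36066
theorem D79229 : act 4 n36066 = n79229 := rfl
theorem F120506 : act 2 n79229 = n36172 := d1_1 D79229 (iv4 D36172) (iv2 F117544)
theorem F120507 : act 7 n79229 = n36167 := d11_2 (iv7 F117545) D79229 (iv4 D36167)
theorem F120508 : act 3 n79229 = n38154 := d20_3 (iv4 F28478) (iv1 F56801) D79229 (iv1 D38154) F29421 (iv4 F29431) D38159 F118378 (iv3 F118361) (iv1 F28448)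
theorem F120509 : act 1 n39140 = n79229 := d15_1 D39140 F120507 F117546
theorem F120510 : act 1 n79229 = n39139 := d15_0 (iv0 D39139) (iv7 F117482) (iv2 F120506)
def n79230 : Q := act 5 n36066
theorem D79230 : act 5 n36066 = n79230 := rfl
theorem F120511 : act 2 n79230 = n36173 := d2_1 D79230 (iv5 D36173) (iv2 F117544)
theorem F120512 : act 7 n79230 = n36168 := d13_2 (iv7 F117545) D79230 (iv5 D36168)
def n79231 : Q := act 6 n36066
theorem D79231 : act 6 n36066 = n79231 := rfl
theorem F120513 : act 2 n79231 = n36174 := d3_1 D79231 (iv6 D36174) (iv2 F117544)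
def n79232 : Q := act 0 n36067
theorem D79232 : act 0 n36067 = n79232 := rfl
def n79233 : Q := act 1 n36067
theorem D79233 : act 1 n36067 = n79233 := rfl
theorem F120515 : act 5 n56315 = n79233 := d21_6 (iv5 F34559) F34561 (iv5 D12994) D12995 D27126 D56315 (iv1 D79233) (iv5 D36067) (iv6 D17452) (iv1 F21374)
def n79235 : Q := act 7 n36067
theorem D79235 : act 7 n36067 = n79235 := rfl
theorem F120517 : act 2 n79235 = n36178 := d4_1 D79235 (iv7 D36178) (iv2 F56802)
theorem F120518 : act 5 n79235 = n36068 := d13_1 D79235 (iv7 D36068) D36067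
theorem F120520 : act 1 n36176 = n79235 := d15_1 D36176 (iv7 D79235) F56802
theorem F120521 : act 1 n79235 = n36175 := d15_0 (iv0 D36175) D36178 (iv2 F120517)
def n79236 : Q := act 0 n36071
theorem D79236 : act 0 n36071 = n79236 := rfl
theorem F120522 : act 1 n36076 = n79236 := d15_0 (iv0 D79236) F118149 (iv2 F118138)
def n79237 : Q := act 1 n36071
theorem D79237 : act 1 n36071 = n79237 := rfl
theorem F120523 : act 1 n79237 = n36076 := d15_1 D79237 F118139 (iv2 F118148)
theorem F120524 : act 4 n58197 = n79237 := d20_6 F63826 F113497 (iv4 D18335) D18334 (iv1 F117985) D58197 (iv1 D79237) (iv4 D36071) F118361 (iv1 F63829)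
def n79238 : Q := act 3 n36071
theorem D79238 : act 3 n36071 = n79238 := rfl
theorem F120525 : act 7 n79238 = n36214 := d8_2 (iv7 F118149) D79238 (iv3 D36214)
def n79240 : Q := act 6 n36071
theorem D79240 : act 6 n36071 = n79240 := rfl
theorem F120529 : act 4 n79240 = n36073 := d10_1 D79240 (iv6 D36073) D36071
def n79241 : Q := act 1 n36072
theorem D79241 : act 1 n36072 = n79241 := rfl
theorem F120530 : act 1 n79241 = n36077 := d15_1 D79241 F118141 (iv2 F118150)
theorem F120531 : act 7 n79241 = n36198 := d15_2 (iv0 F88892) D79241 F88891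
theorem F120533 : act 3 n77872 = n79241 := d8_3 F120531 F91246 (iv7 F119091)
theorem F120534 : act 5 n79146 = n79241 := d13_3 F120531 F56918 (iv7 F120420)
theorem F120535 : act 6 n79241 = n36136 := d12_2 D79146 F120534 (iv5 F56871) (iv6 D36025) D36024
def n79242 : Q := act 4 n36072
theorem D79242 : act 4 n36072 = n79242 := rfl
theorem F120536 : act 2 n79242 = n36200 := d1_1 D79242 (iv4 D36200) (iv2 F118150)
theorem F120537 : act 7 n79242 = n36217 := d11_2 (iv7 F118151) D79242 (iv4 D36217)
def n79243 : Q := act 6 n36072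
theorem D79243 : act 6 n36072 = n79243 := rfl
theorem F120538 : act 2 n79243 = n36201 := d3_1 D79243 (iv6 D36201) (iv2 F118150)
theorem F120539 : act 5 n79243 = n36950 := d12_1 D79243 (iv6 D36950) (iv5 F56810) (iv6 D36073) D36072
theorem F120540 : act 7 n79243 = n55770 := d14_2 (iv7 F118151) D79243 (iv6 D55770) (iv7 F118183) (iv6 D36218)
def n79244 : Q := act 0 n36073
theorem D79244 : act 0 n36073 = n79244 := rfl
def n79245 : Q := act 1 n36073
theorem D79245 : act 1 n36073 = n79245 := rfl
theorem F120542 : act 1 n79245 = n36206 := d15_1 D79245 (iv7 D36206) (iv2 F118152)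
def n79246 : Q := act 7 n36073
theorem D79246 : act 7 n36073 = n79246 := rfl
theorem F120543 : act 2 n79246 = n36206 := d4_1 D79246 (iv7 D36206) (iv2 F118152)
theorem F120544 : act 3 n79246 = n46238 := d8_1 D79246 F118456 F118461
theorem F120545 : act 5 n79246 = n36811 := d13_1 D79246 F118160 (iv5 F56810)
theorem F120546 : act 6 n79246 = n36222 := d14_1 D79246 (iv7 D36222) (iv6 D17497) (iv7 F118145) D36073
theorem E12273 : n79244 = n55679 := ((c15_1 F118157 (iv0 D79244) D79246 F120543)).symm
theorem F120547 : act 1 n55679 = n36073 := (sb E12273 (iv0 D79244))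
theorem F120548 : act 1 n36204 = n79246 := d15_1 D36204 (iv7 D79246) F118152
theorem F120549 : act 0 n36134 = n79246 := d21_4 F89047 F88186 (iv5 D36133) D36134 F120546 F118509 (iv1 F59728) (iv5 D36672) D36673 F89049
def n79247 : Q := act 0 n36075
theorem D79247 : act 0 n36075 = n79247 := rfl
theorem F120550 : act 1 n36187 = n79247 := d15_0 (iv0 D79247) F118136 D36187
def n79249 : Q := act 5 n36075
theorem D79249 : act 5 n36075 = n79249 := rfl
theorem F120552 : act 3 n79249 = n36077 := d6_1 D79249 (iv5 D36077) D36075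
theorem F120553 : act 7 n79249 = n36189 := d13_2 (iv7 F118136) D79249 (iv5 D36189)
theorem F120554 : act 6 n55764 = n79249 := d7_0 F120552 (iv6 F56813) D55764
def n79250 : Q := act 6 n36075
theorem D79250 : act 6 n36075 = n79250 := rfl
theorem F120555 : act 3 n79250 = n36078 := d7_1 D79250 (iv6 D36078) D36075
theorem F120556 : act 4 n79250 = n58132 := d10_1 D79250 (iv6 D58132) (iv4 F56812)
theorem E12274 : n58132 = n39568 := (c20_7 D18763 F29997 F29957 (iv3 F30540) (iv1 F118506) (iv3 F120555) F120556 (iv1 D39568) (iv4 D18736) F13660 D8794)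
theorem F120557 : act 4 n39568 = n79250 := (sb E12274 (iv4 F120556))
theorem F120558 : act 6 n39568 = n27710 := (sb E12274 (iv6 D58132))
theorem F120559 : act 1 n79250 = n44588 := d18_8 (iv1 D21209) (iv4 F29669) F59762 (iv4 D8784) D8785 D18736 D39568 F120557 (iv5 D44588)
theorem F120560 : act 1 n44583 = n79250 := d15_0 F120559 (iv7 F90441) F90448
theorem E12275 : n57745 = n39626 := ((c20_7 (iv4 F120557) (iv1 D39568) (iv4 D18736) F13660 D8794 D18762 D39626 (iv1 D57745) (iv4 F90915) F90914 (iv1 F120559))).symm
theorem E12276 : n27608 = n18762 := ((((iv4 D39626)).symm.trans (sb E12275 F90927))).symm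
theorem E12277 : n57832 = n39237 := (((F60499).symm.trans (sb E12275 (iv7 F91119)))).symm
theorem E12278 : n39623 = n13186 := ((D39623).symm.trans (sb E12276 (iv1 D27608)))
theorem E12279 : n39624 = n27442 := ((D39624).symm.trans (sb E12276 F44509))
theorem E12280 : n38750 = n27602 := (((iv2 F117973)).symm.trans (sb E12276 F91034))
theorem E12281 : n57839 = n8794 := ((((iv3 D18762)).symm.trans (sb E12276 D57839))).symm
theorem E12282 : n55397 = n18099 := (((F29993).symm.trans (sb E12276 (iv5 F87671)))).symm
theorem E12283 : n57180 = n39627 := (((D39627).symm.trans (sb E12276 (iv6 F90198)))).symm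
theorem E12284 : n27603 = n18612 := (((F29994).symm.trans (sb E12276 F91035))).symm
theorem F120563 : act 0 n39237 = n57747 := (sb E12277 F91001)
theorem F120564 : act 1 n39237 = n57300 := (sb E12277 F91002)
theorem E12285 : n57249 = n18610 := ((((iv6 D39237)).symm.trans (sb E12277 (iv6 F91022)))).symm
theorem E12286 : n38464 = n27510 := (((F91033).symm.trans (sb E12278 (iv1 F117942)))).symm
theorem F120566 : act 1 n13186 = n18762 := (sb E12278 (iv0 D39623))
theorem F120567 : act 0 n27442 = n18762 := (sb E12279 (iv1 D39624))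
theorem E12287 : n39242 = n13190 := ((((iv1 F44506)).symm.trans (sb E12280 F117971))).symm
theorem E12288 : n39241 = n13185 := ((((iv0 D27602)).symm.trans (sb E12280 F117972))).symm
theorem E12289 : n57828 = n18426 := ((D57828).symm.trans (sb E12280 (iv3 D38750)))
theorem E12290 : n37741 = n27397 := (((F44500).symm.trans (sb E12280 F117974))).symm
theorem E12291 : n57831 = n8741 := (((F29736).symm.trans (sb E12281 F91128))).symm
theorem E12292 : n37749 = n26793 := ((D37749).symm.trans (sb E12282 F91036))
theorem E12293 : n37750 = n26798 := ((D37750).symm.trans (sb E12282 F91037))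
theorem E12294 : n26763 = n8534 := ((((iv6 D18099)).symm.trans (sb E12282 (iv6 D55397)))).symm
theorem E12295 : n57833 = n34746 := ((((iv7 F54976)).symm.trans (sb E12282 F91039))).symm
theorem F120569 : act 1 n39627 = n27634 := (sb E12283 (iv0 F90589))
theorem E12296 : n27398 = n27299 := (((F60501).symm.trans (sb E12283 (iv5 D57180)))).symm
theorem E12297 : n27732 = n27505 := ((F60502).symm.trans (sb E12283 F91041))
theorem E12298 : n27420 = n8738 := ((((iv6 D18612)).symm.trans (sb E12284 F91026))).symm
theorem E12299 : n38462 = n27508 := (((iv2 F117990)).symm.trans (sb E12285 F91021))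
theorem E12300 : n27730 = n27503 := (((iv7 F44738)).symm.trans (sb E12285 F91023))
theorem E12301 : n57536 = n18337 := (((iv3 F90686)).symm.trans (sb E12286 F59305))
theorem E12302 : n75728 = n55492 := ((((iv5 F87783)).symm.trans (sb E12286 (iv5 F113584)))).symm
theorem E12303 : n18334 = n13156 := ((((iv6 D27510)).symm.trans (sb E12286 (iv6 D38464)))).symm
theorem F120572 : act 0 n13190 = n18612 := (sb E12287 (iv1 D39242))
theorem F120573 : act 1 n13185 = n18612 := (sb E12288 (iv0 D39241))
theorem F120574 : act 3 n18426 = n27602 := (sb E12289 (iv3 D57828))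
theorem E12304 : n57170 = n18219 := (((F29589).symm.trans (sb E12289 F90987))).symm
theorem E12305 : n76050 = n55373 := (((F90191).symm.trans (sb E12290 (iv1 F113970)))).symm
theorem E12306 : n76049 = n35125 := ((((iv0 F91060)).symm.trans (sb E12290 F113966))).symm
theorem E12307 : n18096 = n13120 := ((((iv6 D27397)).symm.trans (sb E12290 (iv6 D37741)))).symm
theorem E12308 : n57248 = n3908 := ((((iv6 D8741)).symm.trans (sb E12291 (iv6 F91019)))).symm
theorem F120576 : act 1 n26793 = n18099 := (sb E12292 (iv0 D37749))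
theorem F120577 : act 0 n26798 = n18099 := (sb E12293 (iv1 D37750))
theorem E12309 : n18094 = n12806 := ((D18094).symm.trans (sb E12294 (iv1 D26763)))
theorem E12310 : n18095 = n13122 := ((D18095).symm.trans (sb E12294 F43002))
theorem E12311 : n55394 = n3810 := ((((iv3 D8534)).symm.trans (sb E12294 D55394))).symm
theorem E12312 : n55395 = n18097 := (((D18097).symm.trans (sb E12294 D55395))).symm
theorem E12313 : n55396 = n18098 := (((D18098).symm.trans (sb E12294 D55396))).symm
theorem E12314 : n13119 = n13072 := ((((iv7 F29747)).symm.trans (sb E12294 (iv7 F91048)))).symm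
theorem E12315 : n55511 = n39060 := ((((iv6 F60058)).symm.trans (sb E12295 (iv6 F91030)))).symm
theorem E12316 : n56860 = n55401 := ((D56860).symm.trans (sb E12296 F87683))
theorem E12318 : n56862 = n55398 := ((D56862).symm.trans (sb E12296 (iv2 F91067)))
theorem E12321 : n55399 = n18111 := (((F44161).symm.trans (sb E12296 (iv7 F91070)))).symm
theorem E12324 : n58203 = n57184 := ((((iv2 F91015)).symm.trans (sb E12297 (iv2 F91993)))).symm
theorem E12325 : n57515 = n13238 := (((iv3 F90671)).symm.trans (sb E12297 F44741))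
theorem E12327 : n13235 = n13155 := ((((iv6 D27505)).symm.trans (sb E12297 (iv6 D27732)))).symm
theorem F120578 : act 7 n27505 = n39627 := (sb E12297 (iv7 F60502))
theorem E12328 : n18607 = n13129 := ((D18607).symm.trans (sb E12298 (iv1 D27420)))
theorem E12329 : n18608 = n13158 := ((D18608).symm.trans (sb E12298 F44322))
theorem E12330 : n57250 = n18611 := (((D18611).symm.trans (sb E12298 D57250))).symm
theorem E12331 : n58205 = n57518 := ((((iv1 F90673)).symm.trans (sb E12299 F117988))).symm
theorem F120579 : act 2 n27508 = n18610 := (sb E12299 F117990)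
theorem E12333 : n58201 = n57245 := ((((iv7 F91012)).symm.trans (sb E12299 F117991))).symm
theorem E12334 : n57519 = n55078 := ((D57519).symm.trans (sb E12300 (iv3 F87095)))
theorem E12335 : n58206 = n57520 := (((D57520).symm.trans (sb E12300 D58206))).symm
theorem F120580 : act 7 n27503 = n18610 := (sb E12300 F44738)
theorem F120581 : act 3 n18337 = n27510 := (sb E12301 F90686)
theorem E12336 : n27507 = n8639 := ((((iv6 D18337)).symm.trans (sb E12301 (iv6 D57536)))).symm
theorem F120582 : act 2 n55492 = n34746 := (sb E12302 F117977)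
theorem E12337 : n27728 = n6262 := ((((iv1 D13156)).symm.trans (sb E12303 (iv1 F117985)))).symm
theorem E12338 : n27727 = n27422 := (((F44328).symm.trans (sb E12303 (iv0 F117986)))).symm
theorem F120584 : act 2 n13156 = n8738 := (sb E12303 (iv2 F117987))
theorem E12339 : n38463 = n27509 := (((D27509).symm.trans (sb E12303 D38463))).symm
theorem E12341 : n27394 = n8590 := ((((iv6 D18219)).symm.trans (sb E12304 (iv6 D57170)))).symm
theorem F120586 : act 0 n55373 = n34746 := (sb E12305 (iv1 D76050))
theorem F120587 : act 1 n35125 = n34746 := (sb E12306 (iv0 D76049))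
theorem E12342 : n27284 = n6245 := ((((iv1 D13120)).symm.trans (sb E12307 (iv1 F44134)))).symm
theorem E12343 : n27283 = n26765 := (((F43010).symm.trans (sb E12307 F44130))).symm
theorem E12344 : n37739 = n27395 := (((D27395).symm.trans (sb E12307 D37739))).symm
theorem E12345 : n37740 = n27396 := (((D27396).symm.trans (sb E12307 D37740))).symm
theorem E12346 : n27285 = n26762 := ((((iv7 F91050)).symm.trans (sb E12307 (iv7 F44132)))).symm
theorem E12347 : n27502 = n6288 := ((((iv7 F29763)).symm.trans (sb E12308 F91020))).symm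
theorem F120589 : act 1 n12806 = n8534 := (sb E12309 (iv0 D18094))
theorem E12349 : n37730 = n9033 := (((F21258).symm.trans (sb E12309 D37730))).symm
theorem F120590 : act 0 n13122 = n8534 := (sb E12310 (iv1 D18095))
theorem E12354 : n37617 = n27368 := ((((iv3 F44260)).symm.trans (sb E12310 (iv3 F118270)))).symm
theorem E12358 : n27389 = n6220 := ((((iv7 F29746)).symm.trans (sb E12311 F91043))).symm
theorem E12359 : n27390 = n27286 := ((((iv7 F44136)).symm.trans (sb E12312 F91045))).symm
theorem E12360 : n57906 = n37747 := (((D37747).symm.trans (sb E12313 (iv0 F91632)))).symm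
theorem E12361 : n27391 = n27287 := ((((iv7 F44138)).symm.trans (sb E12313 F91047))).symm
theorem E12362 : n27392 = n27288 := (((D27288).symm.trans (sb E12314 D27392))).symm
theorem F120591 : act 1 n39060 = n26799 := (sb E12315 (iv0 D55511))
theorem E12363 : n57232 = n18548 := ((((iv5 D39060)).symm.trans (sb E12315 F90289))).symm
theorem E12364 : n37759 = n27399 := ((((iv1 F87682)).symm.trans (sb E12316 (iv1 F89887)))).symm
theorem F120593 : act 1 n55401 = n27299 := (sb E12316 (iv0 D56860))
theorem E12365 : n37758 = n27401 := ((((iv1 F87681)).symm.trans (sb E12318 (iv1 F89893)))).symm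
theorem E12366 : n37757 = n26764 := ((((iv0 D55398)).symm.trans (sb E12318 F89891))).symm
theorem F120595 : act 2 n55398 = n27299 := (sb E12318 (iv2 D56862))
theorem F120596 : act 3 n55398 = n34526 := (sb E12318 F118013)
theorem F120597 : act 5 n18111 = n27505 := (sb E12321 (iv5 F87674))
theorem F120598 : act 3 n57184 = n38098 := (sb E12324 (iv3 F117997))
theorem F120599 : act 3 n13238 = n27505 := (sb E12325 F90671)
theorem E12367 : n27731 = n27504 := (((D27504).symm.trans (sb E12327 D27731))).symm
theorem F120600 : act 7 n13155 = n8738 := (sb E12327 (iv7 F29787))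
theorem F120601 : act 1 n13129 = n8738 := (sb E12328 (iv0 D18607))
theorem E12369 : n39222 = n19054 := ((((iv3 F30580)).symm.trans (sb E12328 D39222))).symm
theorem F120602 : act 0 n13158 = n8738 := (sb E12329 (iv1 D18608))
theorem E12374 : n39139 = n27490 := ((((iv3 F44406)).symm.trans (sb E12329 (iv3 F118134)))).symm
theorem E12378 : n76877 = n39239 := (((D39239).symm.trans (sb E12330 (iv0 F115487)))).symm
theorem F120603 : act 4 n57518 = n36343 := (sb E12331 (iv4 F91998))
theorem F120604 : act 0 n57245 = n39235 := (sb E12333 F91986)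
theorem F120605 : act 1 n57245 = n39234 := (sb E12333 F91987)
theorem F120606 : act 3 n55078 = n27503 := (sb E12334 (iv3 D57519))
theorem F120607 : act 7 n57520 = n39236 := (sb E12335 F91999)
theorem F120608 : act 3 n8639 = n13156 := (sb E12336 (iv3 D27507))
theorem E12383 : n57535 = n18336 := (((D18336).symm.trans (sb E12336 D57535))).symm
theorem E12384 : n57244 = n18244 := (((F59557).symm.trans (sb E12336 (iv7 F91010)))).symm
theorem E12386 : n58197 = n13151 := ((((iv3 F21933)).symm.trans (sb E12337 D58197))).symm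
theorem E12391 : n58165 = n40310 := ((((iv3 F61366)).symm.trans (sb E12338 (iv3 F118432)))).symm
theorem E12392 : n58193 = n57242 := ((((iv4 F90303)).symm.trans (sb E12338 D58193))).symm
theorem F120609 : act 2 n27509 = n18611 := (sb E12339 F117923)
theorem E12397 : n38358 = n27479 := ((((iv6 F44412)).symm.trans (sb E12339 (iv6 F59304)))).symm
theorem E12398 : n58202 = n57246 := ((((iv7 F91014)).symm.trans (sb E12339 F117924))).symm
theorem F120610 : act 3 n8590 = n13120 := (sb E12341 (iv3 D27394))
theorem E12404 : n55389 = n16743 := ((((iv7 F59589)).symm.trans (sb E12341 (iv7 F91051)))).symm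
theorem F120611 : act 0 n6245 = n13072 := (sb E12342 (iv1 D27284))
theorem F120612 : act 1 n26765 = n13072 := (sb E12343 (iv0 D27283))
theorem E12411 : n45273 = n19219 := (((F43007).symm.trans (sb E12343 (iv3 F118489)))).symm
theorem E12412 : n56813 = n55387 := ((((iv4 F87663)).symm.trans (sb E12343 D56813))).symm
theorem E12415 : n56825 = n27371 := (((F90920).symm.trans (sb E12344 (iv1 F89840)))).symm
theorem E12416 : n56824 = n55432 := ((((iv0 F90921)).symm.trans (sb E12344 F89839))).symm
theorem F120613 : act 2 n27395 = n18097 := (sb E12344 F58597)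
theorem E12417 : n56821 = n55390 := ((((iv7 F91053)).symm.trans (sb E12344 (iv7 F89829)))).symm
theorem E12418 : n57157 = n56829 := (((iv1 F90187)).symm.trans (sb E12345 (iv1 F89845)))
theorem E12419 : n57156 = n56828 := ((F90190).symm.trans (sb E12345 F89844))
theorem E12420 : n56822 = n55391 := ((((iv7 F91055)).symm.trans (sb E12345 (iv7 F89834)))).symm
theorem F120615 : act 2 n26762 = n13072 := (sb E12346 (iv2 D27285))
theorem E12421 : n56823 = n55392 := (((D55392).symm.trans (sb E12346 D56823))).symm
theorem E12426 : n57514 = n13237 := (((D13237).symm.trans (sb E12347 D57514))).symm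
theorem E12427 : n45059 = n19216 := (((D19216).symm.trans (sb E12349 (iv1 F118331)))).symm
theorem E12428 : n45274 = n19217 := (((D19217).symm.trans (sb E12349 (iv0 F118315)))).symm
theorem E12429 : n36997 = n19215 := ((((iv4 F30868)).symm.trans (sb E12349 F58594))).symm
theorem E12430 : n75391 = n37964 := ((((iv1 F58796)).symm.trans (sb E12354 (iv1 F118503)))).symm
theorem E12431 : n37963 = n18039 := ((F58800).symm.trans (sb E12354 (iv0 D37617)))
theorem E12432 : n57061 = n36914 := (((iv4 F90112)).symm.trans (sb E12354 F118271))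
theorem E12438 : n57148 = n13075 := (((D13075).symm.trans (sb E12358 D57148))).symm
theorem E12441 : n57154 = n56827 := (((D56827).symm.trans (sb E12359 D57154))).symm
theorem F120617 : act 5 n37747 = n27634 := (sb E12360 (iv5 D57906))
theorem E12443 : n57159 = n56831 := (((D56831).symm.trans (sb E12361 D57159))).symm
theorem E12444 : n56832 = n55378 := ((D56832).symm.trans (sb E12362 (iv1 F91063)))
theorem E12445 : n56833 = n55514 := ((D56833).symm.trans (sb E12362 (iv0 F115453)))
theorem E12446 : n27697 = n27480 := (((iv5 F44697)).symm.trans (sb E12362 F44395))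
theorem E12447 : n39056 = n27482 := ((D39056).symm.trans (sb E12363 (iv1 F90287)))
theorem E12448 : n39057 = n27414 := ((D39057).symm.trans (sb E12363 (iv0 D57232)))
theorem E12449 : n57182 = n18221 := ((D57182).symm.trans (sb E12364 F118028))
theorem F120619 : act 0 n27401 = n18111 := (sb E12365 (iv1 D37758))
theorem F120620 : act 1 n26764 = n18111 := (sb E12366 (iv0 D37757))
theorem E12450 : n58210 = n57525 := (((D57525).symm.trans (sb E12367 D58210))).symm
theorem E12451 : n58211 = n57526 := (((D57526).symm.trans (sb E12367 D58211))).symm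
theorem F120621 : act 7 n27504 = n18611 := (sb E12367 F44740)
theorem E12452 : n58111 = n40307 := (((D40307).symm.trans (sb E12369 (iv1 F118435)))).symm
theorem E12453 : n58166 = n40308 := (((D40308).symm.trans (sb E12369 (iv0 F118434)))).symm
theorem E12454 : n36309 = n18960 := (((F30581).symm.trans (sb E12369 F60194))).symm
theorem E12455 : n79229 = n57443 := ((((iv1 F90624)).symm.trans (sb E12374 (iv1 F120510)))).symm
theorem E12456 : n57442 = n18577 := ((F90630).symm.trans (sb E12374 (iv0 D39139)))
theorem E12457 : n57455 = n36192 := (((iv4 F90638)).symm.trans (sb E12374 F118135))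
theorem F120623 : act 5 n39239 = n35130 := (sb E12378 (iv5 D76877))
theorem F120624 : act 7 n39239 = n57524 := (sb E12378 (iv7 F115489))
theorem F120625 : act 3 n18336 = n27509 := (sb E12383 F90684)
theorem E12458 : n57429 = n18305 := ((((iv6 F29525)).symm.trans (sb E12383 (iv6 F90685)))).symm
theorem F120626 : act 3 n18244 = n27419 := (sb E12384 (iv3 D57244))
theorem E12459 : n79237 = n27486 := ((((iv4 F44403)).symm.trans (sb E12386 F120524))).symm
theorem E12460 : n42057 = n27719 := (((iv1 F64929)).symm.trans (sb E12391 (iv1 D58165)))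
theorem E12461 : n42056 = n38388 := ((F64932).symm.trans (sb E12391 F118431))
theorem E12462 : n56225 = n40135 := (((F61367).symm.trans (sb E12391 F118433))).symm
theorem E12463 : n56123 = n27498 := ((((iv1 F90306)).symm.trans (sb E12392 F91982))).symm
theorem F120627 : act 2 n27479 = n18548 := (sb E12397 F117891)
theorem E12466 : n58095 = n57233 := ((((iv7 F91059)).symm.trans (sb E12397 F117892))).symm
theorem F120628 : act 0 n57246 = n39239 := (sb E12398 (iv1 F91991))
theorem F120629 : act 1 n57246 = n39238 := (sb E12398 F91992)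
theorem F120630 : act 3 n57246 = n38166 := (sb E12398 (iv3 F117928))
theorem F120632 : act 3 n16743 = n26762 := (sb E12404 (iv3 D55389))
theorem E12467 : n40588 = n21592 := (((iv1 F61709)).symm.trans (sb E12411 (iv1 D45273)))
theorem E12468 : n40587 = n37981 := ((F61708).symm.trans (sb E12411 F118488))
theorem E12469 : n56578 = n40725 := ((((iv4 F61839)).symm.trans (sb E12411 F118490))).symm
theorem E12470 : n56486 = n27385 := ((((iv1 F87666)).symm.trans (sb E12412 F89826))).symm
theorem F120633 : act 0 n27371 = n27286 := (sb E12415 (iv1 D56825))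
theorem E12471 : n37029 = n13113 := (((F44266).symm.trans (sb E12415 (iv4 F89841)))).symm
theorem F120634 : act 1 n55432 = n27286 := (sb E12416 (iv0 D56824))
theorem F120635 : act 0 n55390 = n37743 := (sb E12417 F89830)
theorem F120636 : act 1 n55390 = n37742 := (sb E12417 F89831)
theorem F120637 : act 2 n55390 = n27286 := (sb E12417 F89828)
theorem F120638 : act 1 n56829 = n27396 := (sb E12418 F90187)
theorem F120639 : act 5 n56829 = n57529 := (sb E12418 (iv5 F91064))
theorem F120640 : act 6 n56829 = n37175 := (sb E12418 F91065)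
theorem F120641 : act 0 n56828 = n27396 := (sb E12419 (iv1 F90190))
theorem F120642 : act 5 n56828 = n56902 := (sb E12419 F90186)
theorem F120643 : act 6 n56828 = n78783 := (sb E12419 (iv6 F119949))
theorem F120645 : act 1 n55391 = n37746 := (sb E12420 F89836)
theorem F120647 : act 3 n55391 = n34519 := (sb E12420 F117953)
theorem F120648 : act 2 n55392 = n27288 := (sb E12421 F89837)
theorem F120650 : act 3 n13237 = n27504 := (sb E12426 F90670)
theorem E12472 : n40726 = n37981 := ((D40726).symm.trans (sb E12427 (iv2 F118330)))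
theorem E12473 : n40727 = n21515 := ((D40727).symm.trans (sb E12427 (iv3 D45059)))
theorem E12474 : n46163 = n40728 := (((D40728).symm.trans (sb E12427 (iv4 F118320)))).symm
theorem E12475 : n40731 = n21592 := ((D40731).symm.trans (sb E12427 F116976))
theorem E12476 : n40732 = n37959 := ((D40732).symm.trans (sb E12428 F118283))
theorem E12477 : n46164 = n40733 := (((D40733).symm.trans (sb E12428 (iv4 F118285)))).symm
theorem E12478 : n40722 = n17805 := ((D40722).symm.trans (sb E12429 (iv1 D36997)))
theorem E12479 : n40723 = n40021 := ((D40723).symm.trans (sb E12429 (iv0 F118056)))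
theorem E12480 : n37618 = n18181 := ((((iv1 D37964)).symm.trans (sb E12430 F118339))).symm
theorem F120651 : act 2 n37964 = n36894 := (sb E12430 F118201)
theorem F120652 : act 3 n37964 = n34507 := (sb E12430 (iv3 D75391))
theorem F120653 : act 4 n37964 = n36798 := (sb E12430 (iv4 F118200))
theorem F120654 : act 7 n37964 = n36889 := (sb E12430 F118202)
theorem F120655 : act 0 n18039 = n27368 := (sb E12431 (iv1 F58800))
theorem F120656 : act 4 n36914 = n27368 := (sb E12432 F90112)
theorem E12481 : n57433 = n13223 := (((F22016).symm.trans (sb E12438 (iv5 F90619)))).symm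
theorem F120658 : act 5 n56827 = n57596 := (sb E12441 F90925)
theorem E12482 : n58097 = n57435 := (((iv5 F91889)).symm.trans (sb E12443 (iv5 F90620)))
theorem F120659 : act 1 n55378 = n27288 := (sb E12444 (iv0 D56832))
theorem F120660 : act 0 n55514 = n27288 := (sb E12445 (iv1 D56833))
theorem E12483 : n58096 = n57434 := (((D57434).symm.trans (sb E12446 D58096))).symm
theorem F120661 : act 5 n27480 = n27288 := (sb E12446 F44697)
theorem F120662 : act 7 n27480 = n18548 := (sb E12446 F44698)
theorem F120663 : act 1 n27482 = n18548 := (sb E12447 (iv0 D39056))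
theorem F120664 : act 0 n27414 = n18548 := (sb E12448 (iv1 D39057))
theorem F120665 : act 3 n18221 = n27399 := (sb E12449 (iv3 D57182))
theorem F120666 : act 7 n57525 = n39240 := (sb E12450 F92003)
theorem F120667 : act 3 n57526 = n27736 := (sb E12451 F92004)
theorem F120668 : act 5 n57526 = n37761 := (sb E12451 F92005)
theorem F120669 : act 2 n40307 = n38388 := (sb E12452 F118422)
theorem F120670 : act 3 n40307 = n27704 := (sb E12452 (iv3 D58111))
theorem F120671 : act 7 n40307 = n27719 := (sb E12452 F116959)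
theorem F120672 : act 2 n40308 = n27719 := (sb E12453 (iv2 D58166))
theorem F120673 : act 3 n40308 = n38374 := (sb E12453 F118430)
theorem F120674 : act 7 n40308 = n38388 := (sb E12453 (iv7 F118425))
theorem E12484 : n40132 = n17533 := ((D40132).symm.trans (sb E12454 (iv1 D36309)))
theorem E12485 : n40133 = n40110 := ((D40133).symm.trans (sb E12454 (iv0 F118107)))
theorem E12486 : n39140 = n27483 := ((((iv1 D57443)).symm.trans (sb E12455 (iv1 F120509)))).symm
theorem F120675 : act 2 n57443 = n36172 := (sb E12455 F120506)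
theorem F120676 : act 3 n57443 = n38154 := (sb E12455 F120508)
theorem F120677 : act 4 n57443 = n36066 := (sb E12455 (iv4 D79229))
theorem F120678 : act 7 n57443 = n36167 := (sb E12455 F120507)
theorem F120679 : act 0 n18577 = n27490 := (sb E12456 (iv1 F90630))
theorem F120680 : act 4 n36192 = n27490 := (sb E12457 F90638)
theorem F120682 : act 3 n18305 = n27479 := (sb E12458 (iv3 D57429))
theorem E12487 : n57452 = n36071 := ((D57452).symm.trans (sb E12459 (iv1 D79237)))
theorem E12488 : n57453 = n36076 := ((D57453).symm.trans (sb E12459 F120523))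
theorem E12489 : n58164 = n19831 := ((D58164).symm.trans (sb E12460 (iv1 D42057)))
theorem F120683 : act 1 n27719 = n40310 := (sb E12460 F64929)
theorem F120684 : act 0 n38388 = n40310 := (sb E12461 (iv1 F64932))
theorem F120685 : act 0 n40135 = n27093 := (sb E12462 (iv1 D56225))
theorem E12490 : n57497 = n27056 := ((D57497).symm.trans (sb E12463 (iv4 D56123)))
theorem F120687 : act 3 n57233 = n38148 := (sb E12466 (iv3 F117887))
theorem E12491 : n45272 = n19168 := ((D45272).symm.trans (sb E12467 (iv1 D40588)))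
theorem F120688 : act 1 n21592 = n19219 := (sb E12467 F61709)
theorem F120689 : act 0 n37981 = n19219 := (sb E12468 (iv1 F61708))
theorem E12493 : n77282 = n36993 := ((F116086).symm.trans (sb E12469 F89479))
theorem E12494 : n57130 = n27178 := ((D57130).symm.trans (sb E12470 (iv4 D56486)))
theorem E12495 : n56485 = n27373 := (((D27373).symm.trans (sb E12471 (iv0 F118326)))).symm
theorem E12496 : n17824 = n17604 := ((((iv3 F28619)).symm.trans (sb E12471 (iv3 D37029)))).symm
theorem F120690 : act 2 n37981 = n19216 := (sb E12472 (iv2 D40726))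
theorem F120691 : act 7 n37981 = n19217 := (sb E12472 (iv7 F61840))
theorem F120692 : act 3 n21515 = n19216 := (sb E12473 (iv3 D40727))
theorem F120693 : act 0 n40728 = n40013 := (sb E12474 (iv1 F72828))
theorem F120694 : act 1 n40728 = n22094 := (sb E12474 (iv0 D46163))
theorem F120697 : act 2 n21592 = n19217 := (sb E12475 F61841)
theorem F120698 : act 7 n21592 = n19216 := (sb E12475 (iv7 D40731))
theorem F120699 : act 3 n37959 = n19217 := (sb E12476 (iv3 D40732))
theorem F120700 : act 0 n40733 = n22094 := (sb E12477 (iv1 D46164))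
theorem F120701 : act 1 n40733 = n40013 := (sb E12477 F72823)
theorem F120702 : act 2 n40733 = n40011 := (sb E12477 (iv2 F118328))
theorem E12497 : n77285 = n36996 := (((D36996).symm.trans (sb E12478 (iv1 F116088)))).symm
theorem F120704 : act 1 n17805 = n19215 := (sb E12478 (iv0 D40722))
theorem F120705 : act 0 n40021 = n19215 := (sb E12479 (iv1 D40723))
theorem F120706 : act 0 n18181 = n18039 := (sb E12480 (iv1 D37618))
theorem E12498 : n36915 = n36822 := ((((iv4 F57744)).symm.trans (sb E12480 (iv4 F118333)))).symm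
theorem F120707 : act 3 n13223 = n27480 := (sb E12481 (iv3 D57433))
theorem F120709 : act 5 n57435 = n56831 := (sb E12482 F91889)
theorem F120710 : act 7 n57434 = n39059 := (sb E12483 F91887)
theorem F120711 : act 1 n17533 = n18960 := (sb E12484 (iv0 D40132))
theorem F120712 : act 0 n40110 = n18960 := (sb E12485 (iv1 D40133))
theorem F120713 : act 0 n27483 = n18577 := (sb E12486 (iv1 D39140))
theorem E12499 : n36193 = n36090 := ((((iv4 F56834)).symm.trans (sb E12486 (iv4 F118427)))).symm
theorem F120714 : act 1 n36071 = n27486 := (sb E12487 (iv0 D57452))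
theorem F120715 : act 0 n36076 = n27486 := (sb E12488 (iv1 D57453))
theorem F120716 : act 0 n19831 = n38388 := (sb E12489 (iv1 F118426))
theorem F120717 : act 1 n19831 = n27719 := (sb E12489 (iv0 D58164))
theorem E12500 : n56224 = n40044 := ((((iv4 F60926)).symm.trans (sb E12489 F91965))).symm
theorem F120718 : act 4 n27056 = n27498 := (sb E12490 (iv4 D57497))
theorem F120719 : act 0 n19168 = n37981 := (sb E12491 (iv1 F118332))
theorem F120720 : act 1 n19168 = n21592 := (sb E12491 (iv0 D45272))
theorem E12501 : n56577 = n35278 := ((((iv4 F56008)).symm.trans (sb E12491 F89477))).symm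
theorem F120722 : act 0 n36993 = n40725 := (sb E12493 (iv1 F116086))
theorem F120723 : act 4 n27178 = n27385 := (sb E12494 (iv4 D57130))
theorem E12502 : n57091 = n27178 := (((iv2 F90142)).symm.trans (sb E12495 (iv2 D56485)))
theorem E12503 : n57092 = n45872 := ((D57092).symm.trans (sb E12495 (iv3 F118325)))
theorem E12504 : n36464 = n27198 := ((D36464).symm.trans (sb E12496 (iv1 F43968)))
theorem E12505 : n36465 = n8402 := ((D36465).symm.trans (sb E12496 (iv0 D17824)))
theorem E12507 : n37030 = n36463 := ((((iv4 F57258)).symm.trans (sb E12496 D37030))).symm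
theorem F120725 : act 4 n36996 = n40586 := (sb E12497 F116084)
theorem F120727 : act 7 n36996 = n35278 := (sb E12497 (iv7 D77285))
theorem F120728 : act 0 n36822 = n17774 := (sb E12498 (iv1 D36915))
theorem F120730 : act 0 n36090 = n17490 := (sb E12499 (iv1 D36193))
theorem F120731 : act 1 n36090 = n17495 := (sb E12499 F56913)
theorem F120732 : act 0 n40044 = n36305 := (sb E12500 (iv1 F88931))
theorem F120733 : act 1 n40044 = n27093 := (sb E12500 (iv0 D56224))
theorem F120734 : act 0 n35278 = n36993 := (sb E12501 (iv1 F89476))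
theorem F120735 : act 1 n35278 = n27210 := (sb E12501 (iv0 D56577))
theorem F120736 : act 2 n27178 = n27373 := (sb E12502 F90142)
theorem E12511 : n56418 = n27372 := (((iv7 F91522)).symm.trans (sb E12502 (iv7 D57091)))
theorem F120737 : act 3 n45872 = n27373 := (sb E12503 (iv3 D57092))
theorem E12512 : n35209 = n17825 := ((((iv1 F43970)).symm.trans (sb E12504 (iv1 F57266)))).symm
theorem F120739 : act 0 n8402 = n17604 := (sb E12505 (iv1 D36465))
theorem F120740 : act 0 n36463 = n75387 := (sb E12507 F118259)
theorem E12513 : n57087 = n27159 := ((D57087).symm.trans (sb E12511 (iv3 D56418)))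
theorem E12514 : n77877 = n57090 := (((D57090).symm.trans (sb E12511 F119093))).symm
theorem F120741 : act 7 n27372 = n27178 := (sb E12511 F91522)
theorem F120742 : act 2 n17825 = n36467 := (sb E12512 (iv2 F57263))
theorem E12515 : n44893 = n36907 := ((((iv3 F118334)).symm.trans (sb E12512 (iv3 F70535)))).symm
theorem E12516 : n77091 = n37035 := (((D37035).symm.trans (sb E12512 (iv4 F115814)))).symm
theorem E12517 : n77105 = n37036 := (((D37036).symm.trans (sb E12512 (iv5 F115819)))).symm
theorem E12518 : n37037 = n36474 := ((D37037).symm.trans (sb E12512 (iv6 F57279)))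
theorem F120743 : act 7 n17825 = n17090 := (sb E12512 (iv7 D35209))
theorem F120744 : act 3 n27159 = n27372 := (sb E12513 (iv3 D57087))
theorem F120745 : act 3 n57090 = n35539 := (sb E12514 F119092)
theorem F120746 : act 5 n57090 = n35537 := (sb E12514 (iv5 D77877))
theorem E12519 : n40682 = n22113 := (((F118336).symm.trans (sb E12515 (iv1 F70538)))).symm
theorem F120748 : act 6 n36907 = n44478 := (sb E12515 F70536)
theorem F120749 : act 7 n36907 = n21427 := (sb E12515 (iv7 D44893))
theorem F120750 : act 7 n37035 = n35205 := (sb E12516 (iv7 D77091))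
theorem F120752 : act 7 n37036 = n35208 := (sb E12517 (iv7 D77105))
theorem F120753 : act 6 n36474 = n17825 := (sb E12518 (iv6 D37037))
theorem E12521 : n36908 = n19202 := (((iv1 F118319)).symm.trans (sb E12519 (iv1 D40682)))
theorem F120754 : act 0 n19202 = n17773 := (sb E12521 (iv1 D36908))
theorem F120755 : act 1 n19202 = n22113 := (sb E12521 F118319)
theorem E12522 : n56483 = n27331 := ((((iv3 F44229)).symm.trans (sb E12521 (iv3 F89860)))).symm
theorem E12523 : n45258 = n40680 := ((((iv4 F61788)).symm.trans (sb E12521 F118282))).symm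
theorem E12524 : n56961 = n27178 := ((D56961).symm.trans (sb E12522 (iv0 D56483)))
theorem E12525 : n37742 = n26775 := (((F44230).symm.trans (sb E12522 F89859))).symm
theorem F120756 : act 0 n40680 = n21588 := (sb E12523 (iv1 D45258))
theorem F120757 : act 1 n40680 = n21593 := (sb E12523 F71322)
theorem F120758 : act 0 n27178 = n27331 := (sb E12524 (iv1 D56961))
theorem E12526 : n56484 = n27375 := ((D56484).symm.trans (sb E12524 F90041))
theorem E12527 : n55429 = n55390 := ((D55429).symm.trans (sb E12525 (iv1 F120636)))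
theorem E12528 : n55430 = n18097 := ((D55430).symm.trans (sb E12525 (iv0 D37742)))
theorem F120759 : act 0 n27375 = n27178 := (sb E12526 (iv1 D56484))
theorem E12529 : n57085 = n37743 := (((F120635).symm.trans (sb E12527 (iv1 F90140)))).symm
theorem F120760 : act 1 n55390 = n26775 := (sb E12527 (iv0 D55429))
theorem F120761 : act 0 n18097 = n26775 := (sb E12528 (iv1 D55430))
theorem E12530 : n56535 = n27375 := (((iv4 F89412)).symm.trans (sb E12529 F90136))
theorem F120763 : act 6 n37743 = n55441 := (sb E12529 F90137)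
theorem F120764 : act 7 n37743 = n27371 := (sb E12529 (iv7 D57085))
theorem E12531 : n36467 = n27196 := (((iv3 F57264)).symm.trans (sb E12530 (iv3 D56535)))
theorem E12532 : n35207 = n17826 := ((((iv1 F43965)).symm.trans (sb E12531 (iv1 F57267)))).symm
theorem E12534 : n56534 = n17825 := ((D56534).symm.trans (sb E12531 (iv2 F120742)))
theorem F120766 : act 3 n27196 = n27375 := (sb E12531 F57264)
theorem E12535 : n56538 = n35202 := ((D56538).symm.trans (sb E12531 F57265))
theorem E12536 : n56539 = n17604 := ((D56539).symm.trans (sb E12531 (iv7 D36467)))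
theorem E12537 : n27197 = n17090 := (((iv1 F43969)).symm.trans (sb E12532 (iv1 D35207)))
theorem F120767 : act 2 n17825 = n27196 := (sb E12534 (iv2 D56534))
theorem F120768 : act 6 n35202 = n27196 := (sb E12535 (iv6 D56538))
theorem F120769 : act 7 n17604 = n27196 := (sb E12536 (iv7 D56539))
theorem F120770 : act 0 n17090 = n13028 := (sb E12537 (iv1 D27197))
theorem F120771 : act 1 n17090 = n17826 := (sb E12537 F43969)
theorem F120772 : act 0 n37265 = n45060 := d20_7 (iv4 F120725) (iv1 F118057) (iv4 D40021) F118032 (iv1 F120771) (iv3 F33648) (iv4 F58215) (iv4 D45060) F120692 (iv1 F61707)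
theorem F120773 : act 4 n77088 = n57063 := d20_2 (iv4 F55948) D77088 (iv3 D57063) (iv1 F58802) (iv3 F61704) (iv4 F120725) (iv1 F118057) (iv4 D40021) F118032 (iv1 F120771)
theorem F120774 : act 6 n78485 = n56551 := d21_9 (iv5 D37039) (iv1 F120771) D35208 F55949 F29013 D17859 F29021 D35760 D78485 (iv1 F89431)
theorem E12552 : n37066 = n36466 := ((c21_4 (iv5 D8419) (iv1 F17603) D17605 (iv6 F57262) (iv1 F89492) F89490 (iv5 D37039) (iv1 F120771) D35208 F55949 F29013)).symm
theorem F120776 : act 1 n36466 = n17840 := (sb E12552 (iv0 D37066))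
theorem E12553 : n37067 = n37036 := (c15_2 F120776 D37067 F120752 (iv2 F57260))
theorem F120777 : act 0 n37036 = n17840 := (sb E12553 (iv1 D37067))
theorem F120779 : act 0 n57098 = n56863 := d20_7 (iv4 F29280) (iv1 F41806) (iv4 D17841) D17840 (iv1 F120776) F57261 D57098 (iv4 D56863) (iv3 D27299) (iv1 F21803)
theorem E12554 : n39947 = n12972 := (c21_5 (iv5 D7994) (iv1 F9467) (iv5 F13761) D18889 D39947 D27082 (iv5 F43747) (iv1 F120776) (iv5 D36466) (iv6 D17604) F13315)
theorem E12555 : n35179 = n27077 := (((D27077).symm.trans (sb E12554 (iv1 F60783)))).symm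
theorem E12556 : n27078 = n18889 := ((D27078).symm.trans (sb E12554 (iv0 D39947)))
theorem E12557 : n39948 = n17554 := ((((iv1 F43737)).symm.trans (sb E12555 (iv1 F60780)))).symm
theorem E12558 : n56180 = n39949 := ((D56180).symm.trans (sb E12555 (iv2 F60781)))
theorem E12559 : n56181 = n55354 := ((D56181).symm.trans (sb E12555 (iv3 F87606)))
theorem E12560 : n77000 = n56182 := (((D56182).symm.trans (sb E12555 (iv4 F115744)))).symm
theorem E12561 : n77014 = n56183 := (((D56183).symm.trans (sb E12555 (iv5 F115748)))).symm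
theorem E12562 : n56184 = n39943 := ((D56184).symm.trans (sb E12555 (iv6 F60769)))
theorem E12563 : n56185 = n17078 := ((D56185).symm.trans (sb E12555 (iv7 D35179)))
theorem F120780 : act 0 n18889 = n12972 := (sb E12556 (iv1 D27078))
theorem F120781 : act 0 n17554 = n18889 := (sb E12557 (iv1 D39948))
theorem F120782 : act 2 n39949 = n27077 := (sb E12558 (iv2 D56180))
theorem F120783 : act 3 n55354 = n27077 := (sb E12559 (iv3 D56181))
theorem E12568 : n39235 = n27536 := (((F87607).symm.trans (sb E12559 F88861))).symm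
theorem F120784 : act 7 n56182 = n35175 := (sb E12560 (iv7 D77000))
theorem F120785 : act 0 n56183 = n77196 := (sb E12561 (iv1 F115947))
theorem F120786 : act 1 n56183 = n77195 := (sb E12561 F115951)
theorem F120787 : act 2 n56183 = n77197 := (sb E12561 (iv2 F115949))
theorem F120788 : act 6 n56183 = n77191 := (sb E12561 (iv6 F115943))
theorem F120789 : act 7 n56183 = n35178 := (sb E12561 (iv7 D77014))
theorem F120790 : act 6 n39943 = n27077 := (sb E12562 (iv6 D56184))
theorem F120791 : act 7 n17078 = n27077 := (sb E12563 (iv7 D56185))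
theorem E12569 : n57272 = n18610 := (((iv1 F90348)).symm.trans (sb E12568 (iv1 D39235)))
theorem E12570 : n57271 = n57245 := ((F90352).symm.trans (sb E12568 (iv0 F120604)))
theorem E12571 : n39234 = n27428 := ((D39234).symm.trans (sb E12569 (iv1 D57272)))
theorem F120792 : act 1 n18610 = n27536 := (sb E12569 F90348)
theorem F120793 : act 0 n57245 = n27536 := (sb E12570 (iv1 F90352))
theorem F120794 : act 0 n27428 = n57245 := (sb E12571 (iv1 F120605))
theorem F120795 : act 1 n27428 = n18610 := (sb E12571 (iv0 D39234))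
theorem E12572 : n56120 = n35104 := ((((iv4 F55784)).symm.trans (sb E12571 (iv4 F92023)))).symm
theorem E12573 : n76799 = n27056 := ((D76799).symm.trans (sb E12572 (iv0 D56120)))
theorem E12574 : n36186 = n21157 := (((F55783).symm.trans (sb E12572 F92024))).symm
theorem F120796 : act 0 n27056 = n35104 := (sb E12573 (iv1 D76799))
theorem E12575 : n56121 = n55354 := ((D56121).symm.trans (sb E12573 F115280))
theorem E12576 : n44481 = n17489 := ((D44481).symm.trans (sb E12574 (iv1 D36186)))
theorem E12577 : n44482 = n41432 := ((D44482).symm.trans (sb E12574 F118371))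
theorem E12578 : n58150 = n44480 := ((((iv4 F69998)).symm.trans (sb E12574 F118445))).symm
theorem F120797 : act 0 n55354 = n27056 := (sb E12575 (iv1 D56121))
theorem E12579 : n44901 = n36185 := (((D36185).symm.trans (sb E12576 (iv1 F70559)))).symm
theorem F120798 : act 1 n17489 = n21157 := (sb E12576 (iv0 D44481))
theorem F120799 : act 0 n41432 = n21157 := (sb E12577 (iv1 D44482))
theorem F120800 : act 0 n44480 = n27715 := (sb E12578 (iv1 D58150))
theorem F120801 : act 1 n44480 = n27720 := (sb E12578 F91952)
theorem E12580 : n39949 = n17553 := (((F118428).symm.trans (sb E12579 F70555))).symm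
theorem F120803 : act 6 n36185 = n44490 := (sb E12579 F70556)
theorem F120804 : act 7 n36185 = n21430 := (sb E12579 (iv7 D44901))
theorem E12581 : n35177 = n8248 := ((((iv1 D17553)).symm.trans (sb E12580 (iv1 F60784)))).symm
theorem E12582 : n35176 = n27079 := (((F43742).symm.trans (sb E12580 F60785))).symm
theorem E12583 : n36347 = n27077 := (((iv2 F57094)).symm.trans (sb E12580 F120782))
theorem E12584 : n77197 = n36350 := (((D36350).symm.trans (sb E12580 (iv5 F115950)))).symm
theorem E12585 : n36351 = n35187 := ((D36351).symm.trans (sb E12580 F60782))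
theorem E12586 : n36342 = n18889 := ((F57093).symm.trans (sb E12580 (iv7 D39949)))
theorem E12587 : n17552 = n17078 := ((D17552).symm.trans (sb E12581 (iv1 D35177)))
theorem E12591 : n77009 = n17556 := (((D17556).symm.trans (sb E12581 D77009))).symm
theorem E12596 : n77004 = n56191 := (((D56191).symm.trans (sb E12582 D77004))).symm
theorem E12597 : n77005 = n56192 := (((D56192).symm.trans (sb E12582 D77005))).symm
theorem F120805 : act 2 n27077 = n17553 := (sb E12583 F57094)
theorem F120806 : act 0 n36350 = n77012 := (sb E12584 (iv1 F115952))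
theorem F120807 : act 1 n36350 = n77011 := (sb E12584 F115954)
theorem F120808 : act 2 n36350 = n56183 := (sb E12584 (iv2 F120787))
theorem F120809 : act 6 n36350 = n78464 := (sb E12584 (iv6 F119657))
theorem F120810 : act 7 n36350 = n35238 := (sb E12584 (iv7 D77197))
theorem F120811 : act 6 n35187 = n17553 := (sb E12585 (iv6 D36351))
theorem F120812 : act 7 n18889 = n17553 := (sb E12586 (iv7 F57093))
theorem F120813 : act 0 n17078 = n27079 := (sb E12587 (iv1 F43740))
theorem F120814 : act 1 n17078 = n8248 := (sb E12587 (iv0 D17552))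
theorem E12598 : n36343 = n26749 := ((((iv3 F42976)).symm.trans (sb E12587 D36343))).symm
theorem E12602 : n77038 = n17312 := ((((iv6 F28547)).symm.trans (sb E12591 (iv6 F115765)))).symm
theorem E12603 : n77168 = n36361 := ((((iv1 F88871)).symm.trans (sb E12596 F115931))).symm
theorem E12604 : n77103 = n37068 := ((((iv5 F88875)).symm.trans (sb E12597 F115817))).symm
theorem E12605 : n57518 = n13166 := (((F42977).symm.trans (sb E12598 (iv4 F120603)))).symm
theorem E12606 : n35719 = n35186 := ((D35719).symm.trans (sb E12602 (iv0 D77038)))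
theorem F120815 : act 5 n36361 = n35229 := (sb E12603 (iv5 D77168))
theorem E12607 : n56588 = n35208 := (((iv1 F89493)).symm.trans (sb E12604 (iv1 D77103)))
theorem E12608 : n27533 = n27503 := ((D27533).symm.trans (sb E12605 (iv1 D57518)))
theorem E12609 : n27534 = n27508 := ((D27534).symm.trans (sb E12605 F90673))
theorem F120816 : act 0 n35186 = n17312 := (sb E12606 (iv1 D35719))
theorem E12610 : n77039 = n55866 := ((D77039).symm.trans (sb E12606 F88369))
theorem E12616 : n78363 = n77041 := (((D77041).symm.trans (sb E12606 F119577))).symm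
theorem E12617 : n77102 = n27214 := ((D77102).symm.trans (sb E12607 (iv1 D56588)))
theorem F120817 : act 1 n35208 = n37068 := (sb E12607 F89493)
theorem E12618 : n57517 = n57274 := ((D57517).symm.trans (sb E12608 (iv1 F90354)))
theorem F120818 : act 1 n27503 = n13166 := (sb E12608 (iv0 D27533))
theorem F120819 : act 0 n27508 = n13166 := (sb E12609 (iv1 D27534))
theorem F120820 : act 0 n55866 = n35186 := (sb E12610 (iv1 D77039))
theorem F120822 : act 2 n77041 = n35718 := (sb E12616 (iv2 D78363))
theorem F120823 : act 1 n27214 = n35208 := (sb E12617 (iv0 D77102))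
theorem F120824 : act 0 n57274 = n27508 := (sb E12618 (iv1 F90677))
theorem F120825 : act 1 n57274 = n27503 := (sb E12618 (iv0 D57517))
theorem E12629 : n44899 = n36075 := (c20_5 D27503 (iv1 F120825) (iv4 F115283) F115282 (iv1 F70550) (iv3 D36075) D36076 F120715 F44403 F21933 D13155)
theorem E12630 : n79247 = n21430 := ((D79247).symm.trans (sb E12629 (iv1 D44899)))
theorem E12632 : n44898 = n36187 := ((D44898).symm.trans (sb E12630 (iv1 F120550)))
theorem F120826 : act 1 n21430 = n36075 := (sb E12630 (iv0 D79247))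
theorem F120828 : act 0 n36187 = n44484 := (sb E12632 (iv1 F70557))
theorem F120829 : act 1 n36187 = n21430 := (sb E12632 (iv0 D44898))
theorem F120830 : act 0 n39163 = n39946 := d20_1 D39163 F60779 (iv3 F33656) (iv1 F120829) (iv3 F118365) (iv4 D38420) (iv1 F59020) F59016 (iv3 F59007) F118387
theorem F120831 : act 0 n44509 = n55764 := d21_4 F57001 F30743 (iv5 F33410) D44509 F120554 (iv5 D79249) (iv1 F120826) D44900 F70553 (iv1 F57003)
theorem E12633 : n56018 = n55351 := (c20_10 F115283 F120824 (iv4 D27508) (iv3 F120608) (iv1 D8639) (iv3 F13544) (iv4 F29514) D38383 F118566 D56018 (iv1 F115287))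
theorem F120832 : act 3 n55351 = n27025 := (sb E12633 (iv3 D56018))
theorem F120833 : act 7 n55351 = n27056 := (sb E12633 F91544)
theorem F120834 : act 4 n57490 = n55351 := d11_3 F120833 F120718 F90658
theorem E12634 : n56122 = n55352 := (c15_4 F115286 F115287 F120833 D56122)
theorem F120835 : act 2 n55352 = n27056 := (sb E12634 (iv2 D56122))
theorem F120836 : act 2 n55351 = n76798 := d15_3 (iv0 D76798) (iv0 F120796) (iv7 F120833)
theorem F120837 : act 3 n76798 = n39121 := d0_2 (iv3 F120832) F120836 F91562 (iv3 D27051) (iv2 F91542)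
theorem E12635 : n76798 = n57492 := (c1_2 F120834 F120836 (iv4 D57492) D57490)
theorem F120838 : act 0 n57492 = n55354 := (sb E12635 (iv1 F115285))
theorem F120839 : act 1 n57492 = n35104 := (sb E12635 (iv0 D76798))
theorem F120840 : act 2 n57492 = n55351 := (sb E12635 (iv2 F120836))
theorem F120841 : act 3 n57492 = n39121 := (sb E12635 F120837)
theorem F120842 : act 7 n57492 = n55352 := d4_2 (iv7 F120833) (iv2 F120840) F120835
theorem F120843 : act 4 n55352 = n57495 := d11_1 F120842 (iv7 D57495) D57492
theorem F120844 : act 4 n39120 = n57491 := d5_4 D57492 F120841 (iv4 D39121) D39120 (iv3 D57491)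
theorem E12636 : n57490 = n57239 := ((c20_2 (iv4 F44321) D57239 F120834 F120832 (iv1 F43674) F21559 (iv4 F21122) (iv1 F21125) (iv4 F42185) D8738 (iv1 F120601))).symm
theorem F120846 : act 4 n57239 = n55351 := (sb E12636 F120834)
theorem F120847 : act 7 n57239 = n27498 := (sb E12636 (iv7 F90658))
theorem E12637 : n57495 = n57240 := (c15_4 F90300 F90305 F120847 (iv2 F90659))
theorem F120848 : act 2 n57240 = n27498 := (sb E12637 F90659)
theorem F120849 : act 4 n57240 = n55352 := (sb E12637 (iv4 F120843))
theorem F120850 : act 7 n57240 = n27497 := (sb E12637 (iv7 D57495))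
theorem F120851 : act 4 n38154 = n76998 := d20_6 (iv4 F120846) (iv1 F90305) F44409 (iv3 F44406) (iv1 F90624) F120676 (iv1 D76998) F55928 (iv3 F42976) D55351
theorem F120852 : act 2 n76998 = n39163 := d1_1 F120851 (iv4 D39163) (iv2 F118552)
theorem F120853 : act 0 n36349 = n76998 := d20_1 D36349 (iv4 F120851) (iv3 F120676) (iv1 D57443) F44399 (iv4 F60926) F120732 (iv4 D36305) (iv3 F43738) (iv1 F43742)
theorem F120854 : act 7 n36349 = n39946 := d15_2 D76998 (iv0 F120853) F60778
theorem F120855 : act 2 n56182 = n36349 := d4_3 F120854 F60778 (iv7 F120784)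
theorem F120856 : act 6 n77027 = n36349 := d14_5 F120854 (iv6 D39946) F30139 D35183 D77027
theorem F120857 : act 1 n36349 = n76997 := d15_0 (iv0 D76997) (iv7 F120784) F120855
theorem F120858 : act 7 n76997 = n39163 := d15_2 (iv0 F120853) F120857 (iv2 F120852)
theorem F120859 : act 4 n38153 = n76997 := d20_0 (iv1 F120857) (iv4 D36349) (iv3 F118428) (iv1 F118451) (iv3 D41432) (iv4 F118373) (iv1 D38160) F29431 (iv3 F29421) D38153
theorem F120860 : act 2 n37036 = n56587 := d15_3 (iv0 D56587) F120823 (iv7 F120752)
theorem F120861 : act 0 n36366 = n39956 := d21_10 F60789 (iv1 D39936) F30132 (iv6 D17663) (iv1 F13130) D17090 D35208 (iv1 F120823) (iv5 F88887) F88888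
theorem F120862 : act 1 n36354 = n39956 := d15_0 (iv0 F120861) (iv7 D36366) (iv2 F57098)
theorem E12638 : n56587 = n56537 := (c2_2 D37036 F120860 (iv5 D56537) (iv2 F120767))
theorem F120863 : act 0 n56537 = n37068 := (sb E12638 (iv1 F89488))
theorem F120864 : act 1 n56537 = n27214 := (sb E12638 (iv0 D56587))
theorem E12639 : n77041 = n55865 := (c21_7 D56537 F120863 F88875 (iv6 D56192) (iv1 F43742) (iv6 F120811) (iv5 F115767) (iv1 D55865) F43975 (iv6 D27201) D27196)
theorem F120869 : act 2 n55865 = n35718 := (sb E12639 F120822)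
theorem F120870 : act 5 n55865 = n35187 := (sb E12639 F115767)
theorem F120871 : act 7 n55865 = n35186 := (sb E12639 (iv7 D77041))
theorem E12640 : n55864 = n36438 := ((c15_4 (iv0 D55864) D55865 F120871 (iv2 F57222))).symm
theorem F120872 : act 0 n36438 = n35720 := (sb E12640 (iv1 F88364))
theorem F120873 : act 1 n36438 = n26949 := (sb E12640 (iv0 D55864))
theorem F120874 : act 0 n76909 = n39059 := d20_7 (iv4 F44704) (iv1 F44705) F41952 D26949 (iv1 F120873) (iv3 F115291) (iv4 F115545) (iv4 D39059) (iv3 D18548) (iv1 F22023)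
theorem E12641 : n78366 = n39943 := ((c2_2 F120870 (iv2 F60768) (iv5 D78366) (iv2 F120869))).symm
theorem F120875 : act 5 n39943 = n35718 := (sb E12641 (iv5 D78366))
theorem F120876 : act 5 n78364 = n76804 := d6_2 F120875 D78364 F115294
theorem E12642 : n78367 = n77204 := (c12_3 (iv6 F120790) F120875 D78367 F115961 (iv6 F120788) (iv5 D56183))
theorem F120877 : act 6 n77204 = n35718 := (sb E12642 (iv6 D78367))
theorem F120878 : act 7 n76803 = n78364 := d13_0 F120876 (iv7 D76804) D76803
theorem F120879 : act 6 n78133 = n78378 := d21_9 (iv5 F89426) F120820 (iv5 D35186) (iv6 D17082) F13757 D8092 D17252 D35624 D78133 (iv1 F119585)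
theorem E12643 : n78128 = n37047 := ((c21_8 D17252 D35624 D78133 F120879 (iv1 F119585) (iv6 D56546) D56545 (iv1 F89422) (iv5 D78128) (iv6 D35623) (iv1 D17251))).symm
theorem F120880 : act 5 n37047 = n35623 := (sb E12643 (iv5 D78128))
theorem E12644 : n39960 = n36364 := (c21_1 D39960 (iv1 D36364) D36365 F57104 D78378 (iv6 F120879) (iv5 D78133) (iv1 F119257) F119253 (iv6 F60756) (iv1 F60758))
theorem F120882 : act 3 n36364 = n44584 := (sb E12644 F90414)
theorem F120883 : act 5 n36364 = n18893 := (sb E12644 (iv5 D39960))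
theorem F120884 : act 6 n36364 = n39935 := (sb E12644 F60798)
theorem E12645 : n37049 = n36661 := (c21_11 (iv5 D36661) (iv1 F57512) (iv5 F60755) F60756 (iv1 F56283) D35623 (iv5 F120880) (iv1 D37047) (iv5 D17828) D17829 D37049)
theorem F120885 : act 1 n36661 = n17829 := (sb E12645 (iv0 D37049))
theorem E12646 : n77156 = n36365 := ((c21_4 D35186 F120816 D35722 (iv6 F57104) (iv1 D77156) (iv6 D35224) D35223 D77151 F115918 (iv6 D77037) (iv1 D35185))).symm
theorem F120886 : act 0 n36365 = n35224 := (sb E12646 (iv1 D77156))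
theorem F120887 : act 0 n57770 = n37745 := d20_7 D26832 (iv1 F57134) (iv4 D36378) (iv3 F57103) F120886 (iv3 F115854) F115855 F58600 F29274 F29270
theorem F120888 : act 6 n36647 = n56555 := d21_9 (iv5 D78374) (iv1 F88368) F120870 F120811 (iv1 D17553) D17557 D36365 F120886 F57506 (iv1 F119583)
theorem E12647 : n77155 = n37040 := ((c15_4 (iv0 D77155) (iv0 F120886) (iv7 F57105) (iv2 F57978))).symm
theorem F120889 : act 1 n37040 = n35224 := (sb E12647 (iv0 D77155))
theorem F120890 : act 2 n56555 = n36667 := d3_1 F120888 (iv6 D36667) (iv2 F115889)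
theorem F120891 : act 3 n56555 = n77420 := d7_1 F120888 (iv6 D77420) F91464
theorem F120892 : act 5 n56555 = n77154 := d12_1 F120888 (iv6 D77154) (iv5 D35223) D35224 F57506
theorem F120893 : act 7 n56555 = n78378 := d14_2 (iv7 F115890) F120888 (iv6 F120879) F119310 (iv6 D36662)
theorem F120895 : act 2 n78378 = n56556 := d15_3 F119582 F119583 F120893
theorem F120896 : act 7 n36667 = n56556 := d4_2 (iv7 F120893) F120890 (iv2 F120895)
theorem E12648 : n78379 = n36667 := ((c15_4 F119586 F119585 (iv7 F120893) F120890)).symm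
theorem F120897 : act 0 n36667 = n35722 := (sb E12648 (iv1 D78379))
theorem F120898 : act 1 n36667 = n56546 := (sb E12648 F119586)
theorem E12649 : n39955 = n36363 := ((c21_11 (iv5 D39955) (iv1 F60759) F60755 F57509 (iv1 F55941) D35229 (iv5 F120815) (iv1 D36361) (iv5 D17556) D17557 D36363)).symm
theorem F120899 : act 5 n36363 = n18892 := (sb E12649 (iv5 D39955))
theorem F120900 : act 7 n36363 = n39956 := (sb E12649 F90428)
theorem F120901 : act 7 n37189 = n58149 := d11_2 F120804 (iv4 F58150) (iv4 F118429)
theorem F120902 : act 0 n76803 = n77505 := d21_4 (iv5 D35560) F30569 D35107 (iv6 F115292) F116371 (iv5 D56124) F120796 (iv5 F91640) (iv6 D57920) (iv1 F56237)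
theorem F120903 : act 0 n58115 = n37189 := d20_1 D58115 F58150 F33656 F120780 (iv3 D12972) (iv4 F41771) (iv1 F20784) F20780 (iv3 F22037) (iv1 F44712)
theorem F120904 : act 5 n56197 = n77060 := d21_2 D27081 D56197 (iv6 D77060) (iv1 D35193) (iv6 D17085) (iv5 D7994) (iv1 F9467) (iv5 F13761) D18889 F120780
theorem F120905 : act 2 n36361 = n56197 := d2_3 F120904 F115909 (iv5 F120815)
theorem F120906 : act 7 n56198 = n36361 := d15_2 (iv0 D56197) D56198 F120905
theorem F120907 : act 7 n36360 = n56197 := d15_2 F88871 F88872 (iv2 F120905)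
theorem F120908 : act 2 n56198 = n36360 := d4_3 F120907 (iv2 F120905) (iv7 F120906)
theorem F120909 : act 5 n77169 = n56198 := d13_3 F120906 F120815 D77169
theorem F120910 : act 1 n58112 = n37189 := d15_0 (iv0 F120903) F116953 (iv2 F116960)
theorem F120911 : act 4 n57445 = n79236 := d20_6 (iv4 F58150) (iv1 F120910) (iv4 D58112) (iv3 F120670) (iv1 F64934) (iv3 F90629) (iv1 F120522) (iv4 D36076) D36075 (iv1 F120826)
theorem F120912 : act 4 n42058 = n36308 := d20_0 (iv1 F118108) (iv4 D40110) (iv3 F118106) F120781 (iv3 F33656) (iv4 F58150) (iv1 F120910) (iv4 D58112) (iv3 F120670) (iv1 F64934)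
theorem F120915 : act 7 n36308 = n40044 := d11_2 D42058 F120912 F60926
theorem E12650 : n57462 = n18564 := (c20_6 D17533 D36308 (iv4 F120912) (iv3 F90629) (iv1 F90631) D57462 D39096 F118547 F60986 F30259 F118103)
theorem E12651 : n36172 = n27488 := ((F56898).symm.trans (sb E12650 (iv3 D57462)))
theorem E12652 : n57461 = n57443 := (((iv2 F90640)).symm.trans (sb E12651 (iv2 F120675)))
theorem F120916 : act 3 n27488 = n18564 := (sb E12651 (iv3 F56898))
theorem E12653 : n57463 = n17485 := ((D57463).symm.trans (sb E12651 (iv4 D36172)))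
theorem E12655 : n57456 = n18577 := ((F90639).symm.trans (sb E12651 F117482))
theorem F120917 : act 2 n57443 = n27488 := (sb E12652 F90640)
theorem E12656 : n36167 = n27487 := ((F120678).symm.trans (sb E12652 (iv7 D57461)))
theorem F120918 : act 4 n17485 = n27488 := (sb E12653 (iv4 D57463))
theorem F120920 : act 7 n18577 = n27488 := (sb E12655 (iv7 F90639))
theorem F120921 : act 2 n27487 = n18577 := (sb E12656 F117546)
theorem E12657 : n76990 = n57457 := (((D57457).symm.trans (sb E12656 (iv3 F118390)))).symm
theorem E12658 : n57458 = n17484 := ((D57458).symm.trans (sb E12656 (iv4 D36167)))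
theorem F120922 : act 7 n27487 = n57443 := (sb E12656 (iv7 F120678))
theorem F120923 : act 0 n57457 = n38156 := (sb E12657 (iv1 F115733))
theorem F120924 : act 1 n57457 = n35171 := (sb E12657 (iv0 D76990))
theorem F120925 : act 2 n57457 = n38153 := (sb E12657 (iv2 F118549))
theorem F120926 : act 7 n57457 = n38154 := (sb E12657 (iv7 F118554))
theorem F120927 : act 4 n17484 = n27487 := (sb E12658 (iv4 D57458))
theorem F120928 : act 4 n57460 = n36169 := d10_3 (iv6 D36169) F120927 D57460
theorem F120929 : act 2 n39143 = n57460 := d1_3 F120928 (iv2 F120502) F120503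
theorem F120930 : act 2 n39142 = n57459 := d2_3 (iv5 D57459) F120921 D39142
theorem F120931 : act 7 n57464 = n39142 := d13_2 F120920 D57464 (iv5 D39142)
theorem F120932 : act 3 n39097 = n57464 := d8_3 F120931 F60143 (iv7 F117480)
theorem F120933 : act 6 n57464 = n58029 := d7_2 F60102 F120932 (iv3 D58029)
theorem F120936 : act 5 n56551 = n78058 := d12_1 F120774 (iv6 D78058) D78057 (iv6 F119247) D78485
theorem F120937 : act 0 n77088 = n56536 := d20_7 F120723 (iv1 D27385) F21887 (iv3 F21874) D27365 D57063 (iv4 F120773) (iv4 D56536) F120766 F120759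
theorem E12659 : n75373 = n57063 := (c20_11 (iv4 F120773) F120937 (iv4 D56536) F120766 F120759 (iv3 D27178) D27179 (iv1 F118030) F56043 (iv3 F54732) D75373)
theorem F120938 : act 0 n57063 = n34509 := (sb E12659 (iv1 F113126))
theorem F120939 : act 1 n57063 = n34502 := (sb E12659 (iv0 D75373))
theorem E12660 : n36889 = n27365 := ((((iv3 D57063)).symm.trans (sb E12659 F118237))).symm
theorem E12661 : n57062 = n18039 := ((D57062).symm.trans (sb E12660 F117554))
theorem E12662 : n57064 = n17768 := ((D57064).symm.trans (sb E12660 (iv4 D36889)))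
theorem E12663 : n57067 = n37964 := ((D57067).symm.trans (sb E12660 (iv7 F120654)))
theorem F120942 : act 2 n18039 = n27365 := (sb E12661 (iv2 D57062))
theorem E12664 : n36894 = n27366 := (((iv7 F117458)).symm.trans (sb E12661 (iv7 F90113)))
theorem F120943 : act 4 n17768 = n27365 := (sb E12662 (iv4 D57064))
theorem F120944 : act 7 n37964 = n27365 := (sb E12663 (iv7 D57067))
theorem F120945 : act 2 n27366 = n37964 := (sb E12664 (iv2 F120651))
theorem E12665 : n57068 = n18009 := ((D57068).symm.trans (sb E12664 (iv3 F57830)))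
theorem E12666 : n57069 = n17769 := ((D57069).symm.trans (sb E12664 (iv4 D36894)))
theorem E12667 : n76096 = n57071 := (((D57071).symm.trans (sb E12664 (iv6 F117508)))).symm
theorem F120947 : act 3 n18009 = n27366 := (sb E12665 (iv3 D57068))
theorem F120948 : act 4 n17769 = n27366 := (sb E12666 (iv4 D57069))
theorem F120949 : act 3 n57071 = n34767 := (sb E12667 (iv3 D76096))
theorem F120950 : act 4 n57071 = n36896 := (sb E12667 (iv4 F117523))
theorem F120951 : act 5 n57071 = n58512 := (sb E12667 F117524)
theorem F120952 : act 2 n37035 = n56536 := d15_3 (iv0 F120937) (iv0 D77088) (iv7 F120750)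
theorem F120953 : act 7 n77088 = n75392 := d15_2 (iv0 F89413) (iv0 F120937) F118248
theorem F120954 : act 2 n75387 = n77088 := d4_3 F120953 F118248 (iv7 F118245)
theorem F120955 : act 1 n36463 = n75392 := d15_1 (iv0 F120740) (iv7 F120953) (iv2 F120954)
theorem E12668 : n57088 = n55384 := (c20_1 D57088 (iv1 F87665) F44277 (iv3 F44260) (iv1 F58796) F120652 D75392 (iv1 F120955) F57258 F28619 D27372)
theorem F120956 : act 4 n55384 = n27372 := (sb E12668 (iv4 D57088))
theorem E12669 : n57123 = n55384 := (c11_1 F90167 F120956 F120741 F120723)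
theorem F120957 : act 2 n55384 = n27384 := (sb E12669 (iv2 D57123))
theorem F120958 : act 7 n55384 = n27385 := (sb E12669 (iv7 F90167))
theorem E12670 : n57125 = n57086 := (c1_3 (iv4 F120956) F120957 D57125 (iv2 D57086))
theorem F120959 : act 4 n57086 = n27384 := (sb E12670 (iv4 D57125))
theorem E12671 : n57128 = n57093 := (c11_3 F90141 F120959 D57128 (iv4 D57093))
theorem F120960 : act 2 n57093 = n27385 := (sb E12671 F90168)
theorem F120961 : act 7 n57093 = n27384 := (sb E12671 (iv7 D57128))
theorem E12672 : n57086 = n56960 := ((c20_11 F120959 (iv1 F87667) F87663 F43007 (iv1 F120688) (iv3 D21592) D21593 (iv1 F120757) F61788 (iv3 F44229) D56960)).symm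
theorem F120962 : act 2 n56960 = n27372 := (sb E12672 (iv2 D57086))
theorem F120963 : act 4 n56960 = n27384 := (sb E12672 F120959)
theorem F120964 : act 7 n56960 = n27373 := (sb E12672 (iv7 F90141))
theorem F120965 : act 3 n37599 = n56960 := d8_3 F120964 (iv3 F120737) (iv7 F118324)
theorem F120966 : act 4 n57124 = n37598 := d5_4 D37599 F120965 F120963 D57124 (iv3 D37598)
theorem E12673 : n57093 = n55385 := ((c15_2 (iv0 D55384) D55385 F120961 (iv2 F120957))).symm
theorem F120967 : act 2 n55385 = n27385 := (sb E12673 F120960)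
theorem F120968 : act 4 n55385 = n27373 := (sb E12673 (iv4 D57093))
theorem F120969 : act 7 n55385 = n27384 := (sb E12673 F120961)
theorem E12674 : n77089 = n37642 := (c15_2 (iv0 D77088) D77089 (iv7 F118245) F120954)
theorem F120970 : act 0 n37642 = n35205 := (sb E12674 (iv1 D77089))
theorem E12675 : n44890 = n36909 := (c20_5 D37642 F120970 F55948 (iv3 F33648) D44890 F118263 F118185 (iv1 F54752) F54748 (iv3 F54740) F118232)
theorem F120972 : act 1 n36909 = n21427 := (sb E12675 (iv0 D44890))
theorem F120973 : act 7 n56536 = n36463 := d15_2 (iv0 F120970) (iv0 F89413) F57257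
theorem F120974 : act 6 n77073 = n56536 := d14_5 F120973 (iv6 D36463) F28617 D35199 D77073
theorem E12676 : n44891 = n36807 := (c15_2 F120972 D44891 F118164 D36909)
theorem F120975 : act 0 n36807 = n21427 := (sb E12676 (iv1 D44891))
theorem F120976 : act 1 n36807 = n40684 := (sb E12676 F70530)
theorem E12677 : n57059 = n36808 := ((c20_7 D27286 (iv1 F120634) (iv4 F90036) F90035 (iv1 F120976) (iv3 D36807) D36808 (iv1 D57059) F44257 F21874 F120611)).symm
theorem F120977 : act 0 n36808 = n27364 := (sb E12677 (iv1 D57059))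
theorem F120979 : act 3 n57070 = n37527 := d6_3 (iv5 D37527) F120947 D57070
theorem F120980 : act 6 n37653 = n57070 := d7_0 F120979 (iv6 F58408) D37653
theorem F120982 : act 0 n37965 = n37653 := d21_4 (iv5 D27186) F21706 D18182 (iv6 F58798) F120980 (iv5 D57070) (iv1 D27366) D27367 F44259 (iv1 F43943)
theorem F120983 : act 4 n57066 = n36891 := d10_3 (iv6 D36891) F120943 D57066
theorem F120984 : act 2 n57065 = n37620 := d2_3 (iv5 D37620) F120942 D57065
theorem F120985 : act 2 n57066 = n37621 := d3_3 (iv6 D37621) F120942 D57066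
theorem F120986 : act 1 n37265 = n45064 := d15_1 (iv0 F120772) F116986 (iv2 F116977)
theorem F120987 : act 6 n57096 = n56487 := d21_5 (iv5 D27376) (iv1 D13114) D13115 (iv6 F44267) D57096 (iv5 D56487) F120758 D56962 F90044 (iv1 F44272)
theorem F120988 : act 3 n56425 = n57096 := d7_3 F120987 F89348 (iv6 F89286)
theorem F120990 : act 7 n45257 = n37265 := d15_2 F120757 F71326 (iv2 F61787)
theorem E12679 : n77873 = n55343 := (c21_8 (iv5 D13093) F9726 D6242 D13113 D27372 D57090 F120746 D77873 (iv5 D55343) (iv6 D26744) (iv1 F21836))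
theorem F120991 : act 1 n55343 = n35537 := (sb E12679 (iv0 D77873))
theorem E12680 : n78364 = n77874 := ((c15_2 F120991 D77874 (iv7 F120878) F115290)).symm
theorem F120993 : act 5 n77874 = n76804 := (sb E12680 F120876)
theorem F120994 : act 7 n77874 = n76803 := (sb E12680 (iv7 F120878))
theorem F120995 : act 3 n57089 = n56420 := d6_3 (iv5 D56420) F120744 D57089
theorem F120996 : act 7 n56487 = n57089 := d8_0 F120995 F91526 (iv3 F89348)
theorem F120998 : act 2 n57095 = n56488 := d3_3 (iv6 D56488) F120736 D57095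
theorem F121000 : act 4 n57132 = n56488 := d10_3 (iv6 D56488) F120723 D57132
theorem E12681 : n57799 = n39580 := (c21_2 D27593 D57799 (iv5 F116800) (iv6 D45277) (iv1 F120720) (iv6 D19168) F14061 F6667 D10110 D21201 (iv1 F116683))
theorem F121001 : act 0 n39580 = n57795 := (sb E12681 (iv1 F90961))
theorem F121002 : act 1 n39580 = n27593 := (sb E12681 (iv0 D57799))
theorem F121003 : act 6 n40736 = n45276 := d21_5 (iv5 D19222) (iv1 D9035) D9036 (iv6 F30869) D40736 (iv5 D45276) (iv1 F120720) D40589 F61712 (iv1 F30884)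
theorem F121004 : act 3 n45067 = n40736 := d7_3 F121003 F71336 (iv6 F70936)
theorem F121005 : act 7 n40736 = n45290 := d8_2 (iv7 F116971) F121004 (iv3 D45290)
theorem F121006 : act 2 n39563 = n57800 := d15_3 F90962 (iv0 F121001) F117021
theorem F121007 : act 6 n57800 = n40308 := d3_2 (iv6 F116821) F121006 F120672
theorem F121008 : act 4 n57496 = n56126 := d5_2 F120718 D57496 (iv3 D56126) (iv4 D27057) D27056
theorem F121009 : act 4 n57499 = n56125 := d10_3 (iv6 D56125) F120718 D57499
theorem E12682 : n57824 = n57499 := (c20_2 (iv4 F44496) D57824 F121009 F88785 F91184 F30366 (iv4 F30425) F30423 (iv4 D18763) D18762 (iv1 F120566))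
theorem F121010 : act 0 n57499 = n57316 := (sb E12682 (iv1 F90980))
theorem F121011 : act 1 n57499 = n27600 := (sb E12682 (iv0 D57824))
theorem F121012 : act 0 n57754 = n56125 := d18_0 (iv4 F121009) F121010 (iv4 D57316) (iv5 D27442) D27441 (iv0 F91189) F56143 (iv0 F91407) D57754
theorem F121013 : act 6 n57339 = n58168 := d21_5 (iv5 D40460) (iv1 F30730) D19833 (iv6 F44369) D57339 (iv5 D58168) (iv1 F120717) (iv5 F63580) (iv6 D41262) (iv1 F61560)
theorem F121014 : act 3 n38903 = n57339 := d7_3 F121013 F91968 (iv6 F59940)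
theorem F121015 : act 7 n57339 = n38990 := d8_2 (iv7 F116996) F121014 (iv3 D38990)
theorem F121016 : act 5 n39143 = n57073 := d21_6 (iv5 D8029) F12353 (iv5 F21928) D27483 F120713 D39143 (iv1 D57073) (iv5 D27367) (iv6 D13110) (iv1 F13359)
theorem F121017 : act 3 n57073 = n37530 := d6_1 F121016 (iv5 F58411) (iv3 F60144)
theorem F121018 : act 7 n37653 = n57073 := d8_0 F121017 F117518 D37653
theorem F121019 : act 4 n57073 = n36952 := d20_6 D17837 (iv1 F41808) F29280 (iv3 F29209) (iv1 F58410) (iv3 F121017) (iv1 D36952) (iv4 D17784) F13180 D8406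
theorem F121020 : act 2 n37653 = n57072 := d15_3 (iv0 D57072) D57073 (iv7 F121018)
theorem F121021 : act 0 n57341 = n55863 := d20_7 (iv4 F28253) (iv1 F43471) F43472 F120707 (iv1 D27480) (iv3 F44368) D57341 (iv4 D55863) (iv3 D26948) (iv1 F21402)
theorem F121022 : act 4 n57436 = n77505 := d20_2 D27481 D57436 (iv3 D77505) (iv1 F56095) F28164 (iv4 F28253) (iv1 F43471) F43472 F120707 (iv1 D27480)
theorem F121023 : act 7 n77876 = n57436 := d11_0 F121022 F116372 D77876
theorem F121024 : act 3 n40735 = n75746 := d7_3 F120391 F120699 D40735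
theorem F121025 : act 2 n45277 = n40735 := d0_5 F121024 (iv2 F120390) F118497 F116943 (iv3 F71337)
theorem F121026 : act 2 n57804 = n39580 := d2_3 (iv5 F116800) F121025 (iv5 F117105)
theorem F121027 : act 7 n57800 = n57804 := d4_0 F121026 F117021 F121006
theorem E12683 : n57803 = n39563 := (c15_2 F90968 F90967 (iv7 F117021) (iv2 F121026))
theorem F121028 : act 0 n39563 = n57794 := (sb E12683 (iv1 F90967))
theorem F121029 : act 1 n39563 = n27594 := (sb E12683 (iv0 D57803))
theorem F121030 : act 7 n40729 = n45276 := d13_2 F120698 D40729 (iv5 D45276)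
theorem F121031 : act 3 n45061 = n40729 := d8_3 F121030 F71336 (iv7 F116980)
theorem F121032 : act 2 n40734 = n45276 := d2_3 (iv5 D45276) F120697 D40734
theorem F121033 : act 3 n40730 = n38992 := d7_3 F60008 F120692 D40730
theorem F121034 : act 5 n38990 = n40730 := d6_0 F121033 (iv5 D38992) D38990
theorem F121035 : act 0 n57342 = n38990 := d21_1 (iv5 F90525) F121034 (iv6 D40730) (iv1 F61707) (iv6 D40586) F30794 (iv1 F44207) D56930 (iv6 F89994) (iv1 F61349)
theorem F121036 : act 0 n38990 = n40299 := d21_7 (iv5 D9003) (iv1 F5978) D4055 D9033 D19216 D40730 (iv5 F121034) (iv5 D40299) (iv6 D19049) F14143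
theorem F121037 : act 3 n57431 = n38360 := d6_3 (iv5 D38360) F120682 D57431
theorem F121038 : act 6 n57195 = n37746 := d21_9 (iv5 D55391) (iv1 F43009) (iv5 F44281) F44282 F120619 D37761 (iv5 F120668) F115498 F115496 (iv1 F120645)
theorem F121039 : act 3 n57185 = n38099 := d7_3 (iv6 D38099) F120665 D57185
theorem F121040 : act 2 n37761 = n57185 := d0_5 F121039 (iv2 F117969) F89904 F44164 (iv3 F58604)
theorem F121041 : act 4 n57342 = n78390 := d20_6 D8109 D17319 F43479 D18548 (iv1 F120663) (iv3 F90524) (iv1 D78390) (iv4 D35728) (iv3 D17316) (iv1 D8108)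
theorem F121042 : act 0 n57440 = n77876 := d20_1 (iv4 F90622) (iv4 D77876) (iv3 D35537) (iv1 D17215) F12865 D8109 D17319 F43479 D18548 (iv1 F120663)
theorem F121043 : act 1 n57234 = n77876 := d15_0 (iv0 F121042) (iv7 D57440) (iv2 F90283)
theorem F121044 : act 4 n55342 = n57220 := d18_1 (iv1 F115298) (iv1 D57220) F44304 D27414 D57234 F121043 (iv4 D77876) D77874 F120993
theorem F121045 : act 7 n78390 = n57341 := d11_2 D57342 F121041 (iv4 D57341)
theorem E12684 : n78603 = n78389 := (c15_4 (iv0 D78389) D78390 F121045 (iv2 F119774))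
theorem F121046 : act 2 n78389 = n57341 := (sb E12684 F119774)
theorem F121047 : act 4 n78389 = n40299 := (sb E12684 F119775)
theorem F121048 : act 6 n78389 = n35807 := (sb E12684 (iv6 D78603))
theorem E12685 : n40125 = n17299 := (c18_7 F118794 D35728 D78389 F121047 (iv5 D40299) F30573 D40125 (iv4 D17299) D17297 D35685)
theorem E12686 : n35690 = n18957 := ((D35690).symm.trans (sb E12685 (iv1 D40125)))
theorem E12687 : n57329 = n35691 := (((D35691).symm.trans (sb E12685 F90519))).symm
theorem E12688 : n40124 = n40075 := ((D40124).symm.trans (sb E12686 (iv1 F118821)))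
theorem F121049 : act 1 n18957 = n17299 := (sb E12686 (iv0 D35690))
theorem E12689 : n78285 = n27448 := ((((iv2 F44366)).symm.trans (sb E12686 D78285))).symm
theorem E12691 : n38969 = n19049 := ((((iv4 F30573)).symm.trans (sb E12686 (iv4 F88321)))).symm
theorem E12694 : n78289 = n40127 := (((D40127).symm.trans (sb E12686 D78289))).symm
theorem E12695 : n38970 = n27452 := (((iv4 F116910)).symm.trans (sb E12687 F90516))
theorem F121050 : act 1 n40075 = n18957 := (sb E12688 (iv0 D40124))
theorem F121051 : act 7 n27448 = n35691 := (sb E12689 (iv7 F119488))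
theorem E12697 : n77732 = n40297 := (((D40297).symm.trans (sb E12691 (iv1 F117045)))).symm
theorem E12698 : n40298 = n18499 := ((D40298).symm.trans (sb E12691 (iv0 D38969)))
theorem E12699 : n57994 = n40296 := ((((iv3 F61343)).symm.trans (sb E12691 F91752))).symm
theorem F121052 : act 2 n40127 = n35691 := (sb E12694 F119489)
theorem E12700 : n18513 = n13148 := (((F44370).symm.trans (sb E12695 F116909))).symm
theorem F121053 : act 4 n27452 = n35691 := (sb E12695 F116910)
theorem F121055 : act 2 n40297 = n38896 := (sb E12697 F116602)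
theorem F121056 : act 3 n40297 = n35476 := (sb E12697 (iv3 D77732))
theorem F121058 : act 0 n18499 = n19049 := (sb E12698 (iv1 D40298))
theorem F121059 : act 1 n18499 = n27452 := (sb E12698 F61344)
theorem F121060 : act 0 n40296 = n27666 := (sb E12699 (iv1 D57994))
theorem F121061 : act 1 n40296 = n38265 := (sb E12699 F117845)
theorem E12701 : n55736 = n55663 := ((((iv4 F88071)).symm.trans (sb E12699 (iv4 F117046)))).symm
theorem E12702 : n27688 = n27413 := ((((iv1 F44306)).symm.trans (sb E12700 (iv1 F44630)))).symm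
theorem E12703 : n27412 = n8699 := ((F44311).symm.trans (sb E12700 (iv0 D18513)))
theorem E12705 : n39002 = n27468 := ((((iv4 F44391)).symm.trans (sb E12700 D39002))).symm
theorem E12707 : n39004 = n27422 := ((((iv6 F44326)).symm.trans (sb E12700 D39004))).symm
theorem F121062 : act 0 n55663 = n26905 := (sb E12701 (iv1 D55736))
theorem F121063 : act 1 n55663 = n26910 := (sb E12701 F88172)
theorem E12709 : n18514 = n13127 := ((((iv1 D27413)).symm.trans (sb E12702 (iv1 F44632)))).symm
theorem E12710 : n13218 = n13146 := ((((iv2 F91092)).symm.trans (sb E12702 (iv2 D27688)))).symm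
theorem E12711 : n57228 = n18236 := ((D57228).symm.trans (sb E12702 F117669))
theorem E12712 : n58071 = n57229 := (((D57229).symm.trans (sb E12702 D58071))).symm
theorem E12713 : n58072 = n57230 := (((D57230).symm.trans (sb E12702 D58072))).symm
theorem E12715 : n18296 = n13145 := (((F91084).symm.trans (sb E12702 F117670))).symm
theorem F121064 : act 0 n8699 = n13148 := (sb E12703 (iv1 F44311))
theorem E12717 : n57225 = n18516 := (((D18516).symm.trans (sb E12703 D57225))).symm
theorem E12718 : n57226 = n18517 := (((D18517).symm.trans (sb E12703 D57226))).symm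
theorem E12719 : n27359 = n18518 := (((D18518).symm.trans (sb E12703 F44305))).symm
theorem E12720 : n57220 = n35519 := (((iv1 F90265)).symm.trans (sb E12705 F60016))
theorem E12721 : n58238 = n57255 := ((((iv5 F90316)).symm.trans (sb E12707 F92048))).symm
theorem F121065 : act 0 n13127 = n8699 := (sb E12709 (iv1 D18514))
theorem E12726 : n27686 = n6257 := ((((iv1 D13146)).symm.trans (sb E12710 D27686))).symm
theorem E12727 : n27687 = n27415 := (((F44312).symm.trans (sb E12710 D27687))).symm
theorem E12728 : n27475 = n6282 := ((D27475).symm.trans (sb E12710 (iv3 D13218)))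
theorem E12729 : n27689 = n27476 := (((D27476).symm.trans (sb E12710 D27689))).symm
theorem E12730 : n27690 = n27477 := (((D27477).symm.trans (sb E12710 D27690))).symm
theorem E12731 : n27691 = n27478 := (((D27478).symm.trans (sb E12710 D27691))).symm
theorem F121066 : act 7 n13146 = n8699 := (sb E12710 F29874)
theorem F121067 : act 3 n18236 = n27413 := (sb E12711 (iv3 D57228))
theorem E12732 : n27470 = n8627 := (((F59623).symm.trans (sb E12711 F91094))).symm
theorem F121069 : act 1 n57229 = n39013 := (sb E12712 F91838)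
theorem E12733 : n38326 = n27471 := (((F91096).symm.trans (sb E12712 (iv7 F117698)))).symm
theorem F121070 : act 0 n57230 = n39018 := (sb E12713 (iv1 F91842))
theorem E12734 : n76866 = n39017 := (((iv0 F115475)).symm.trans (sb E12713 F91843))
theorem F121071 : act 3 n57230 = n38145 := (sb E12713 (iv3 F117673))
theorem E12735 : n38327 = n27472 := (((F91098).symm.trans (sb E12713 (iv7 F117702)))).symm
theorem F121073 : act 2 n13145 = n8699 := (sb E12715 (iv2 F117694))
theorem E12736 : n38328 = n27473 := (((D27473).symm.trans (sb E12715 D38328))).symm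
theorem E12738 : n57045 = n39016 := (((D39016).symm.trans (sb E12717 F90276))).symm
theorem E12739 : n57048 = n39020 := (((D39020).symm.trans (sb E12718 F90277))).symm
theorem E12740 : n39021 = n27446 := ((D39021).symm.trans (sb E12719 (iv1 F44527)))
theorem E12741 : n39022 = n27623 := ((D39022).symm.trans (sb E12719 (iv0 F44524)))
theorem E12742 : n13106 = n13068 := ((((iv5 F29699)).symm.trans (sb E12719 (iv5 D27359)))).symm
theorem E12744 : n77830 = n27411 := ((D77830).symm.trans (sb E12720 (iv1 D57220)))
theorem F121074 : act 1 n35519 = n27468 := (sb E12720 F90265)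
theorem E12745 : n55342 = n17210 := ((((iv4 D35519)).symm.trans (sb E12720 (iv4 F121044)))).symm
theorem E12746 : n38477 = n27512 := ((((iv1 F90318)).symm.trans (sb E12721 (iv1 F117773)))).symm
theorem E12747 : n27744 = n27511 := (((F90319).symm.trans (sb E12721 (iv0 D58238)))).symm
theorem E12749 : n58062 = n13139 := ((((iv3 F21921)).symm.trans (sb E12726 D58062))).symm
theorem E12750 : n58063 = n13144 := ((((iv4 F21925)).symm.trans (sb E12726 D58063))).symm
theorem E12754 : n57993 = n57212 := ((((iv3 F90247)).symm.trans (sb E12727 (iv3 F117840)))).symm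
theorem E12757 : n58070 = n13158 := (((F44310).symm.trans (sb E12727 D58070))).symm
theorem F121075 : act 3 n6282 = n13146 := (sb E12728 (iv3 D27475))
theorem E12762 : n57417 = n13220 := (((D13220).symm.trans (sb E12728 D57417))).symm
theorem E12763 : n57418 = n13221 := (((D13221).symm.trans (sb E12728 D57418))).symm
theorem E12764 : n58074 = n57402 := ((((iv1 F90581)).symm.trans (sb E12729 D58074))).symm
theorem E12766 : n57419 = n55132 := ((D57419).symm.trans (sb E12729 (iv3 F87205)))
theorem E12767 : n58076 = n57420 := (((D57420).symm.trans (sb E12729 D58076))).symm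
theorem F121076 : act 7 n27476 = n18516 := (sb E12729 F44633)
theorem E12771 : n58080 = n57422 := (((D57422).symm.trans (sb E12730 D58080))).symm
theorem E12772 : n58081 = n57423 := (((D57423).symm.trans (sb E12730 D58081))).symm
theorem F121077 : act 7 n27477 = n18517 := (sb E12730 F44635)
theorem E12775 : n58084 = n57426 := (((D57426).symm.trans (sb E12731 D58084))).symm
theorem E12776 : n57427 = n37423 := ((D57427).symm.trans (sb E12731 (iv7 F58323)))
theorem F121078 : act 3 n8627 = n13145 := (sb E12732 (iv3 D27470))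
theorem E12781 : n57398 = n18298 := (((D18298).symm.trans (sb E12732 D57398))).symm
theorem E12782 : n57399 = n18299 := (((D18299).symm.trans (sb E12732 D57399))).symm
theorem F121079 : act 2 n27471 = n18516 := (sb E12733 F117697)
theorem F121080 : act 0 n39017 = n57230 := (sb E12734 F115475)
theorem F121081 : act 2 n39017 = n55513 := (sb E12734 F115473)
theorem F121082 : act 5 n39017 = n55378 := (sb E12734 F115474)
theorem F121083 : act 6 n39017 = n35124 := (sb E12734 (iv6 D76866))
theorem F121084 : act 7 n39017 = n57407 := (sb E12734 (iv7 F115478))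
theorem F121085 : act 2 n27472 = n18517 := (sb E12735 F117701)
theorem E12783 : n37421 = n13191 := (((F44549).symm.trans (sb E12736 F117703))).symm
theorem E12784 : n37420 = n27605 := ((((iv0 F44503)).symm.trans (sb E12736 F117704))).symm
theorem F121086 : act 2 n27473 = n18518 := (sb E12736 F117705)
theorem E12785 : n27280 = n26771 := (((F44393).symm.trans (sb E12736 (iv5 F117736)))).symm
theorem F121087 : act 2 n39016 = n57405 := (sb E12738 (iv2 F91116))
theorem E12789 : n57867 = n37422 := ((((iv7 F60027)).symm.trans (sb E12738 (iv7 F91600)))).symm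
theorem F121088 : act 0 n39020 = n56901 := (sb E12739 F90278)
theorem F121089 : act 1 n39020 = n56896 := (sb E12739 (iv0 F90103))
theorem F121090 : act 2 n39020 = n57409 := (sb E12739 (iv2 F91115))
theorem E12790 : n27360 = n27282 := (((F60029).symm.trans (sb E12739 (iv5 D57048)))).symm
theorem E12791 : n58650 = n57888 := (((iv7 F92630)).symm.trans (sb E12739 (iv7 F91621)))
theorem F121091 : act 1 n27446 = n18518 := (sb E12740 (iv0 D39021))
theorem F121092 : act 0 n27623 = n18518 := (sb E12741 (iv1 D39022))
theorem E12792 : n27278 = n6237 := ((D27278).symm.trans (sb E12742 (iv1 D13106)))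
theorem E12793 : n27279 = n26772 := ((D27279).symm.trans (sb E12742 F43025))
theorem E12795 : n26770 = n8467 := (((F29850).symm.trans (sb E12742 (iv7 F91086)))).symm
theorem F121093 : act 1 n27411 = n35519 := (sb E12744 (iv0 D77830))
theorem E12796 : n35516 = n26744 := ((D35516).symm.trans (sb E12745 (iv1 D55342)))
theorem E12797 : n76804 = n35517 := (((D35517).symm.trans (sb E12745 F115298))).symm
theorem E12799 : n57253 = n18622 := (((iv2 F91106)).symm.trans (sb E12746 F117774))
theorem E12800 : n57549 = n18339 := ((D57549).symm.trans (sb E12746 (iv3 D38477)))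
theorem E12802 : n58240 = n57252 := ((((iv7 F91110)).symm.trans (sb E12746 F117775))).symm
theorem E12803 : n57544 = n13244 := ((D57544).symm.trans (sb E12747 (iv3 D27744)))
theorem E12804 : n58241 = n57545 := (((D57545).symm.trans (sb E12747 D58241))).symm
theorem E12805 : n57546 = n37426 := ((D57546).symm.trans (sb E12747 (iv5 F58325)))
theorem E12806 : n58242 = n57547 := (((D57547).symm.trans (sb E12747 D58242))).symm
theorem E12807 : n38896 = n27449 := (((D27449).symm.trans (sb E12749 (iv1 F116911)))).symm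
theorem E12808 : n38971 = n27450 := (((D27450).symm.trans (sb E12749 (iv0 F116307)))).symm
theorem E12809 : n55823 = n27448 := ((((iv4 F44367)).symm.trans (sb E12749 F91829))).symm
theorem E12810 : n77487 = n27465 := (((D27465).symm.trans (sb E12750 F116328))).symm
theorem E12811 : n77827 = n27466 := (((D27466).symm.trans (sb E12750 (iv0 F119070)))).symm
theorem F121096 : act 4 n57212 = n55735 := (sb E12754 F117841)
theorem E12812 : n39251 = n27514 := ((((iv5 F44415)).symm.trans (sb E12757 F91834))).symm
theorem F121097 : act 3 n13220 = n27477 := (sb E12762 F90597)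
theorem F121098 : act 3 n13221 = n27478 := (sb E12763 F90598)
theorem E12813 : n57402 = n13162 := (((F42966).symm.trans (iv4 (sb E12764 (tr (iv4 F91847) E12796))))).symm
theorem E12814 : n58074 = n13162 := (E12764).trans E12813
theorem E12815 : n39013 = n27525 := (((D27525).symm.trans (sb E12814 F119381))).symm
theorem F121100 : act 3 n55132 = n27476 := (sb E12766 (iv3 D57419))
theorem F121101 : act 7 n57420 = n39015 := (sb E12767 F91851)
theorem F121102 : act 7 n57422 = n39019 := (sb E12771 F91855)
theorem F121103 : act 3 n57423 = n27693 := (sb E12772 F91856)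
theorem E12819 : n76897 = n39891 := (((iv7 F115517)).symm.trans (sb E12772 (iv7 F91857)))
theorem F121104 : act 3 n57426 = n27695 := (sb E12775 F91858)
theorem E12820 : n76864 = n39254 := (((iv7 F115406)).symm.trans (sb E12775 F91859))
theorem F121105 : act 0 n37423 = n27629 := (sb E12776 F90602)
theorem F121106 : act 2 n37423 = n57031 := (sb E12776 F91111)
theorem F121107 : act 7 n37423 = n27478 := (sb E12776 (iv7 D57427))
theorem F121108 : act 3 n18298 = n27472 := (sb E12781 F90577)
theorem F121109 : act 3 n18299 = n27473 := (sb E12782 F90578)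
theorem E12821 : n55420 = n16754 := (((F29501).symm.trans (sb E12782 (iv5 F90579)))).symm
theorem E12822 : n57021 = n18171 := ((((iv7 F59612)).symm.trans (sb E12782 (iv7 F91117)))).symm
theorem F121110 : act 0 n13191 = n17959 := (sb E12783 (iv1 D37421))
theorem F121111 : act 1 n27605 = n17959 := (sb E12784 (iv0 D37420))
theorem E12823 : n17956 = n12809 := ((((iv1 D26771)).symm.trans (sb E12785 (iv1 F44127)))).symm
theorem E12824 : n17955 = n13107 := (((F43020).symm.trans (sb E12785 F44125))).symm
theorem F121112 : act 2 n26771 = n13068 := (sb E12785 (iv2 D27280))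
theorem E12825 : n56803 = n55421 := (((D55421).symm.trans (sb E12785 D56803))).symm
theorem E12826 : n56804 = n55422 := (((D55422).symm.trans (sb E12785 D56804))).symm
theorem F121114 : act 2 n37422 = n57030 := (sb E12789 F91599)
theorem E12834 : n56809 = n55500 := ((D56809).symm.trans (sb E12790 (iv1 F115443)))
theorem E12835 : n56810 = n55374 := ((D56810).symm.trans (sb E12790 (iv0 F90192)))
theorem E12837 : n55586 = n55498 := (((iv7 F87911)).symm.trans (sb E12790 (iv7 F90695)))
theorem F121115 : act 3 n57888 = n27892 := (sb E12791 (iv3 D58650))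
theorem F121116 : act 7 n57888 = n39020 := (sb E12791 F92630)
theorem F121117 : act 1 n6237 = n13068 := (sb E12792 (iv0 D27278))
theorem E12839 : n56796 = n13092 := ((((iv3 F21830)).symm.trans (sb E12792 D56796))).symm
theorem F121118 : act 0 n26772 = n13068 := (sb E12793 (iv1 D27279))
theorem E12843 : n56744 = n55404 := ((((iv3 F87686)).symm.trans (sb E12793 (iv3 F118613)))).symm
theorem E12851 : n55418 = n17960 := (((D17960).symm.trans (sb E12795 D55418))).symm
theorem E12852 : n77486 = n55341 := (((D55341).symm.trans (sb E12796 (iv1 F116319)))).symm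
theorem F121119 : act 1 n26744 = n17210 := (sb E12796 (iv0 D35516))
theorem E12853 : n55833 = n35106 := ((((iv2 F55789)).symm.trans (sb E12796 (iv2 F119371)))).symm
theorem E12854 : n55730 = n21429 := (((F42965).symm.trans (sb E12796 F91848))).symm
theorem E12858 : n39943 = n17274 := (((F116325).symm.trans (sb E12797 F115294))).symm
theorem F121120 : act 4 n35517 = n57264 := (sb E12797 F115295)
theorem E12859 : n77874 = n77825 := (((D77825).symm.trans (sb E12797 (iv5 F120993)))).symm
theorem E12860 : n77826 = n55354 := ((D77826).symm.trans (sb E12797 F115296))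
theorem E12861 : n39250 = n27421 := ((D39250).symm.trans (sb E12799 (iv1 D57253)))
theorem F121121 : act 2 n18622 = n27512 := (sb E12799 F91106)
theorem F121122 : act 7 n18622 = n27511 := (sb E12799 F91107)
theorem F121123 : act 3 n18339 = n27512 := (sb E12800 (iv3 D57549))
theorem E12862 : n57022 = n18172 := ((((iv5 F29526)).symm.trans (sb E12800 F90701))).symm
theorem F121124 : act 3 n57252 = n38172 := (sb E12802 (iv3 F117707))
theorem F121125 : act 3 n13244 = n27511 := (sb E12803 (iv3 D57544))
theorem F121126 : act 7 n57545 = n39253 := (sb E12804 F92054)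
theorem F121127 : act 0 n37426 = n55495 := (sb E12805 (iv1 F90696))
theorem F121128 : act 1 n37426 = n35130 := (sb E12805 (iv0 F115411))
theorem F121129 : act 2 n37426 = n57034 := (sb E12805 F90691)
theorem F121130 : act 5 n37426 = n27511 := (sb E12805 (iv5 D57546))
theorem F121131 : act 3 n57547 = n27745 := (sb E12806 F92055)
theorem E12863 : n57330 = n40297 := ((D57330).symm.trans (sb E12807 (iv2 F121055)))
theorem E12864 : n57331 = n18478 := ((D57331).symm.trans (sb E12807 (iv3 D38896)))
theorem E12865 : n57332 = n40069 := ((D57332).symm.trans (sb E12807 F119069))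
theorem E12866 : n40584 = n37393 := ((F61702).symm.trans (sb E12807 F59934))
theorem E12867 : n57334 = n18499 := ((D57334).symm.trans (sb E12807 F116868))
theorem E12868 : n77477 = n57335 := (((D57335).symm.trans (sb E12808 F116305))).symm
theorem E12869 : n57336 = n40070 := ((D57336).symm.trans (sb E12808 F119012))
theorem E12870 : n57326 = n26933 := ((D57326).symm.trans (sb E12809 (iv1 D55823)))
theorem E12871 : n57327 = n35687 := ((D57327).symm.trans (sb E12809 F88298))
theorem E12872 : n57376 = n35380 := ((D57376).symm.trans (sb E12810 (iv4 D77487)))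
theorem E12873 : n57379 = n35519 := ((D57379).symm.trans (sb E12810 F116327))
theorem E12874 : n57381 = n35518 := ((D57381).symm.trans (sb E12811 (iv4 D77827)))
theorem F121132 : act 0 n27514 = n18622 := (sb E12812 (iv1 D39251))
theorem E12875 : n27522 = n27471 := ((D27522).symm.trans (sb E12813 (iv1 D57402)))
theorem E12876 : n27523 = n27476 := ((D27523).symm.trans (sb E12813 F90581))
theorem E12877 : n57262 = n57229 := (((iv1 F90330)).symm.trans (sb E12815 (iv1 F121069)))
theorem E12878 : n57261 = n18516 := ((F90334).symm.trans (sb E12815 (iv0 D39013)))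
theorem F121133 : act 0 n39891 = n35137 := (sb E12819 (iv1 D76897))
theorem F121134 : act 1 n39891 = n57557 := (sb E12819 F115516)
theorem F121135 : act 2 n39891 = n57929 := (sb E12819 (iv2 F115520))
theorem F121136 : act 5 n39891 = n57547 := (sb E12819 (iv5 F115518))
theorem F121138 : act 7 n39891 = n57423 := (sb E12819 F115517)
theorem F121139 : act 0 n39254 = n35124 := (sb E12820 (iv1 D76864))
theorem F121140 : act 1 n39254 = n35129 := (sb E12820 F115405)
theorem F121141 : act 2 n39254 = n57551 := (sb E12820 F115408)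
theorem F121142 : act 7 n39254 = n57426 := (sb E12820 F115406)
theorem F121143 : act 3 n16754 = n26771 := (sb E12821 (iv3 D55420))
theorem E12879 : n27352 = n8567 := ((((iv7 F59622)).symm.trans (sb E12821 F91078))).symm
theorem F121144 : act 3 n18171 = n27354 := (sb E12822 F90087)
theorem F121145 : act 0 n12809 = n8467 := (sb E12823 (iv1 D17956))
theorem F121146 : act 1 n13107 = n8467 := (sb E12824 (iv0 D17955))
theorem E12885 : n37390 = n27321 := ((((iv3 F44209)).symm.trans (sb E12824 (iv3 F118669)))).symm
theorem E12886 : n37405 = n27350 := ((((iv4 F44249)).symm.trans (sb E12824 D37405))).symm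
theorem F121147 : act 0 n55421 = n37417 := (sb E12825 F89812)
theorem F121148 : act 1 n55421 = n37416 := (sb E12825 F89813)
theorem F121149 : act 2 n55421 = n27281 := (sb E12825 F89810)
theorem E12888 : n37413 = n27353 := (((F91080).symm.trans (sb E12825 F89811))).symm
theorem F121150 : act 2 n55422 = n27282 := (sb E12826 F89814)
theorem F121151 : act 3 n55422 = n34554 := (sb E12826 F117767)
theorem F121153 : act 1 n55500 = n27282 := (sb E12834 (iv0 D56809))
theorem F121154 : act 0 n55374 = n27282 := (sb E12835 (iv1 D56810))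
theorem F121155 : act 3 n55498 = n26834 := (sb E12837 (iv3 D55586))
theorem F121156 : act 6 n55498 = n37426 := (sb E12837 F87910)
theorem E12889 : n37254 = n27319 := (((D27319).symm.trans (sb E12839 (iv1 F118672)))).symm
theorem E12890 : n37391 = n27320 := (((D27320).symm.trans (sb E12839 (iv0 F118666)))).symm
theorem E12891 : n56378 = n27318 := ((((iv4 F44206)).symm.trans (sb E12839 F89798))).symm
theorem E12892 : n40562 = n37837 := (((iv1 F87690)).symm.trans (sb E12843 (iv1 F118663)))
theorem E12894 : n76823 = n37424 := (((D37424).symm.trans (sb E12851 F115350))).symm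
theorem E12895 : n76878 = n37425 := (((D37425).symm.trans (sb E12851 F115493))).symm
theorem F121160 : act 0 n55341 = n35517 := (sb E12852 (iv1 F116324))
theorem F121161 : act 2 n55341 = n35380 := (sb E12852 (iv2 D77486))
theorem F121162 : act 3 n55341 = n35496 := (sb E12852 F116317)
theorem F121163 : act 7 n55341 = n35518 := (sb E12852 F116318)
theorem E12896 : n76801 = n35380 := ((D76801).symm.trans (sb E12853 F116352))
theorem E12897 : n76802 = n35518 := ((D76802).symm.trans (sb E12853 F116353))
theorem E12898 : n26938 = n18887 := (((F55790).symm.trans (sb E12853 (iv3 D55833)))).symm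
theorem F121164 : act 7 n35106 = n35517 := (sb E12853 F119372)
theorem E12899 : n44895 = n26904 := ((D44895).symm.trans (sb E12854 (iv1 D55730)))
theorem E12900 : n35640 = n21159 := (((F33654).symm.trans (sb E12854 (iv2 F117640)))).symm
theorem E12901 : n38955 = n37191 := ((((iv4 F58154)).symm.trans (sb E12854 (iv4 F116321)))).symm
theorem E12902 : n35185 = n26940 := ((((iv1 F43445)).symm.trans (sb E12858 (iv1 F60771)))).symm
theorem E12903 : n35184 = n8098 := ((((iv0 D17274)).symm.trans (sb E12858 F60772))).symm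
theorem E12904 : n35187 = n26939 := (((F119362).symm.trans (sb E12858 F60768))).symm
theorem E12905 : n35718 = n35637 := (((D35637).symm.trans (sb E12858 F120875))).symm
theorem E12906 : n35638 = n27077 := ((D35638).symm.trans (sb E12858 F120790))
theorem F121166 : act 0 n77825 = n35537 := (sb E12859 (iv1 D77874))
theorem F121167 : act 7 n77825 = n76803 := (sb E12859 F120994)
theorem F121168 : act 6 n55354 = n35517 := (sb E12860 (iv6 D77826))
theorem F121169 : act 1 n27421 = n18622 := (sb E12861 (iv0 D39250))
theorem F121170 : act 3 n18172 = n27355 := (sb E12862 F90088)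
theorem F121171 : act 2 n40297 = n27449 := (sb E12863 (iv2 D57330))
theorem F121172 : act 7 n40297 = n27450 := (sb E12863 (iv7 F90521))
theorem F121173 : act 3 n18478 = n27449 := (sb E12864 (iv3 D57331))
theorem F121174 : act 4 n40069 = n27449 := (sb E12865 (iv4 D57332))
theorem F121175 : act 1 n37393 = n57802 := (sb E12866 (iv0 F117109))
theorem E12907 : n19166 = n17945 := ((((iv5 D37393)).symm.trans (sb E12866 (iv5 D40584)))).symm
theorem F121176 : act 6 n37393 = n27449 := (sb E12866 (iv6 F61702))
theorem F121177 : act 2 n18499 = n27450 := (sb E12867 F90522)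
theorem F121178 : act 7 n18499 = n27449 := (sb E12867 (iv7 D57334))
theorem F121179 : act 0 n57335 = n36003 := (sb E12868 (iv1 F117853))
theorem F121180 : act 1 n57335 = n38128 := (sb E12868 (iv0 F117661))
theorem F121181 : act 2 n57335 = n35481 := (sb E12868 F116892)
theorem F121182 : act 4 n57335 = n35376 := (sb E12868 (iv4 D77477))
theorem F121183 : act 7 n57335 = n35476 := (sb E12868 F116893)
theorem F121184 : act 4 n40070 = n27450 := (sb E12869 (iv4 D57336))
theorem E12908 : n55822 = n40127 := ((D55822).symm.trans (sb E12870 (iv1 F90518)))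
theorem F121185 : act 1 n26933 = n27448 := (sb E12870 (iv0 D57326))
theorem F121186 : act 0 n35687 = n27448 := (sb E12871 (iv1 D57327))
theorem F121187 : act 4 n35380 = n27465 := (sb E12872 (iv4 D57376))
theorem F121188 : act 2 n35519 = n27466 := (sb E12873 F90564)
theorem F121189 : act 7 n35519 = n27465 := (sb E12873 (iv7 D57379))
theorem F121190 : act 4 n35518 = n27466 := (sb E12874 (iv4 D57381))
theorem F121191 : act 0 n27471 = n57264 := (sb E12875 (iv1 F90336))
theorem F121192 : act 1 n27471 = n13162 := (sb E12875 (iv0 D27522))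
theorem F121193 : act 0 n27476 = n13162 := (sb E12876 (iv1 D27523))
theorem F121194 : act 1 n27476 = n57264 := (sb E12876 F90335)
theorem F121195 : act 0 n57229 = n27425 := (sb E12877 (iv1 D57262))
theorem F121196 : act 1 n57229 = n27525 := (sb E12877 F90330)
theorem F121197 : act 0 n18516 = n27525 := (sb E12878 (iv1 F90334))
theorem F121198 : act 1 n18516 = n27425 := (sb E12878 (iv0 D57261))
theorem F121199 : act 3 n8567 = n13105 := (sb E12879 (iv3 D27352))
theorem E12923 : n75469 = n19165 := (((F44214).symm.trans (sb E12885 F118668))).symm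
theorem E12924 : n56921 = n36765 := (((iv4 F89987)).symm.trans (sb E12885 F118670))
theorem E12925 : n55412 = n36633 := (((iv1 F87708)).symm.trans (sb E12886 F58316))
theorem F121200 : act 0 n27353 = n56806 := (sb E12888 (iv1 F89820))
theorem F121201 : act 1 n27353 = n56805 := (sb E12888 F89816)
theorem F121202 : act 2 n27353 = n17958 := (sb E12888 F58318)
theorem E12926 : n56922 = n19165 := ((D56922).symm.trans (sb E12889 (tr F118667 E12923)))
theorem E12927 : n56923 = n17905 := ((D56923).symm.trans (sb E12889 (iv3 D37254)))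
theorem E12928 : n56924 = n39985 := ((D56924).symm.trans (sb E12889 (iv4 F118994)))
theorem E12930 : n75456 = n56928 := (((D56928).symm.trans (sb E12890 F118664))).symm
theorem E12931 : n56929 = n39986 := ((D56929).symm.trans (sb E12890 (iv4 F119003)))
theorem E12932 : n56918 = n27143 := ((D56918).symm.trans (sb E12891 (iv1 D56378)))
theorem E12933 : n56919 = n36761 := ((D56919).symm.trans (sb E12891 F89216))
theorem E12934 : n56745 = n19160 := (((iv1 F118638)).symm.trans (sb E12892 (iv1 D40562)))
theorem F121203 : act 1 n37837 = n55404 := (sb E12892 F87690)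
theorem F121205 : act 0 n37424 = n57034 := (sb E12894 (iv1 F115351))
theorem F121206 : act 2 n37424 = n35130 := (sb E12894 (iv2 F115413))
theorem F121207 : act 5 n37424 = n57523 := (sb E12894 F115349)
theorem F121208 : act 6 n37424 = n35112 := (sb E12894 (iv6 D76823))
theorem F121209 : act 7 n37424 = n55495 := (sb E12894 F115348)
theorem F121210 : act 1 n37425 = n57034 := (sb E12895 F115494)
theorem F121211 : act 2 n37425 = n55495 := (sb E12895 F115490)
theorem F121212 : act 5 n37425 = n57524 := (sb E12895 F115491)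
theorem F121213 : act 6 n37425 = n55373 := (sb E12895 F115492)
theorem F121214 : act 7 n37425 = n35130 := (sb E12895 (iv7 D76878))
theorem F121215 : act 0 n35380 = n55344 := (sb E12896 (iv1 F115297))
theorem F121216 : act 1 n35380 = n35106 := (sb E12896 (iv0 D76801))
theorem E12935 : n56957 = n36634 := (((F57492).symm.trans (sb E12896 F115288))).symm
theorem F121217 : act 0 n35518 = n35106 := (sb E12897 (iv1 D76802))
theorem F121218 : act 1 n35518 = n55344 := (sb E12897 F115289)
theorem E12936 : n39941 = n17276 := ((D39941).symm.trans (sb E12898 (iv1 F43442)))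
theorem E12937 : n39942 = n12890 := ((D39942).symm.trans (sb E12898 (iv0 D26938)))
theorem E12938 : n17275 = n17082 := (((F30137).symm.trans (sb E12898 F119369))).symm
theorem E12939 : n55834 = n39940 := ((((iv4 F60766)).symm.trans (sb E12898 D55834))).symm
theorem E12940 : n55835 = n36438 := ((((iv5 F57223)).symm.trans (sb E12898 D55835))).symm
theorem F121219 : act 7 n18887 = n17274 := (sb E12898 F119370)
theorem E12942 : n55729 = n44490 := ((D55729).symm.trans (sb E12899 (iv1 F70547)))
theorem F121220 : act 1 n26904 = n21429 := (sb E12899 (iv0 D44895))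
theorem E12943 : n44487 = n38930 := ((D44487).symm.trans (sb E12900 F119347))
theorem E12944 : n44488 = n38935 := ((D44488).symm.trans (sb E12900 F119348))
theorem E12945 : n78174 = n44486 := ((((iv4 F70003)).symm.trans (sb E12900 D78174))).symm
theorem F121221 : act 0 n37191 = n18495 := (sb E12901 (iv1 D38955))
theorem F121222 : act 1 n37191 = n18500 := (sb E12901 F59985)
theorem E12951 : n77036 = n55843 := (((D55843).symm.trans (sb E12902 D77036))).symm
theorem E12952 : n77037 = n55844 := (((D55844).symm.trans (sb E12902 D77037))).symm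
theorem E12957 : n77032 = n17279 := (((D17279).symm.trans (sb E12903 D77032))).symm
theorem E12958 : n77027 = n55839 := (((D55839).symm.trans (sb E12904 (iv4 F115761)))).symm
theorem E12959 : n55865 = n55840 := (((D55840).symm.trans (sb E12904 (iv5 F120870)))).symm
theorem E12960 : n55841 = n17553 := ((D55841).symm.trans (sb E12904 F120811))
theorem E12961 : n78165 = n55866 := ((D78165).symm.trans (sb E12905 (iv1 F88367)))
theorem E12962 : n78166 = n17312 := ((D78166).symm.trans (sb E12905 (iv0 D35718)))
theorem E12964 : n78168 = n77204 := ((D78168).symm.trans (sb E12905 (iv6 F120877)))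
theorem E12967 : n78163 = n56182 := (((D56182).symm.trans (sb E12906 (iv4 F119349)))).symm
theorem E12968 : n56235 = n56183 := (((D56183).symm.trans (sb E12906 F89233))).symm
theorem F121223 : act 6 n27077 = n17274 := (sb E12906 (iv6 D35638))
theorem E12970 : n37389 = n9008 := ((D37389).symm.trans (sb E12907 (iv1 D19166)))
theorem F121224 : act 1 n17945 = n27321 := (sb E12907 F44213)
theorem F121225 : act 2 n17945 = n40581 := (sb E12907 (iv2 F61701))
theorem F121226 : act 7 n17945 = n40576 := (sb E12907 F61700)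
theorem F121227 : act 0 n40127 = n35687 := (sb E12908 (iv1 F88297))
theorem F121228 : act 1 n40127 = n26933 := (sb E12908 (iv0 D55822))
theorem E12974 : n40577 = n34534 := ((D40577).symm.trans (sb E12923 (iv3 D75469)))
theorem E12975 : n45779 = n40578 := (((D40578).symm.trans (sb E12923 (iv4 F119005)))).symm
theorem F121230 : act 4 n36765 = n27321 := (sb E12924 F89987)
theorem F121231 : act 6 n36765 = n40725 := (sb E12924 F89988)
theorem F121232 : act 7 n36765 = n27318 := (sb E12924 (iv7 D56921))
theorem F121233 : act 0 n36633 = n26769 := (sb E12925 (iv1 D55412))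
theorem F121234 : act 1 n36633 = n27350 := (sb E12925 F87708)
theorem E12978 : n40576 = n27319 := ((D40576).symm.trans (sb E12926 (iv2 D56922)))
theorem E12979 : n40581 = n27320 := ((D40581).symm.trans (sb E12926 (iv7 F89992)))
theorem F121235 : act 3 n17905 = n27319 := (sb E12927 (iv3 D56923))
theorem F121236 : act 4 n39985 = n27319 := (sb E12928 (iv4 D56924))
theorem F121237 : act 0 n56928 = n34530 := (sb E12930 (iv1 D75456))
theorem F121238 : act 1 n56928 = n34536 := (sb E12930 F113237)
theorem F121239 : act 2 n56928 = n34535 := (sb E12930 F118578)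
theorem F121240 : act 4 n56928 = n36497 := (sb E12930 F118579)
theorem F121241 : act 5 n56928 = n77734 := (sb E12930 F118580)
theorem F121243 : act 4 n39986 = n27320 := (sb E12931 (iv4 D56929))
theorem E12980 : n56377 = n40575 := ((D56377).symm.trans (sb E12932 (iv1 F89989)))
theorem F121244 : act 1 n27143 = n27318 := (sb E12932 (iv0 D56918))
theorem F121245 : act 0 n36761 = n27318 := (sb E12933 (iv1 D56919))
theorem F121246 : act 0 n19160 = n27264 := (sb E12934 (iv1 D56745))
theorem F121247 : act 1 n19160 = n37837 := (sb E12934 F118638)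
theorem E12981 : n56338 = n36010 := ((((iv4 F56766)).symm.trans (sb E12934 (iv4 F118674)))).symm
theorem E12982 : n27329 = n17658 := ((((iv5 D36634)).symm.trans (sb E12935 (iv5 D56957)))).symm
theorem F121248 : act 1 n17276 = n18887 := (sb E12936 (iv0 D39941))
theorem F121249 : act 0 n12890 = n18887 := (sb E12937 (iv1 D39942))
theorem F121250 : act 0 n17082 = n8098 := (sb E12938 (iv1 D17275))
theorem F121251 : act 1 n17082 = n26940 := (sb E12938 F43447)
theorem E12983 : n35641 = n35183 := ((((iv4 F55930)).symm.trans (sb E12938 D35641))).symm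
theorem E12984 : n35642 = n35186 := (((D35186).symm.trans (sb E12938 D35642))).symm
theorem F121252 : act 7 n17082 = n26939 := (sb E12938 F119368)
theorem F121253 : act 0 n39940 = n38261 := (sb E12939 F118727)
theorem F121254 : act 1 n39940 = n38266 := (sb E12939 (iv0 F117843))
theorem F121255 : act 7 n39940 = n35636 := (sb E12939 F119374)
theorem F121256 : act 7 n36438 = n35637 := (sb E12940 F119376)
theorem F121257 : act 1 n44490 = n26904 := (sb E12942 (iv0 D55729))
theorem F121258 : act 3 n44490 = n26939 := (sb E12942 F117047)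
theorem F121259 : act 4 n44490 = n38954 := (sb E12942 F117048)
theorem F121260 : act 0 n38930 = n44897 := (sb E12943 (iv1 F70549))
theorem F121261 : act 1 n38930 = n21159 := (sb E12943 (iv0 D44487))
theorem F121262 : act 0 n38935 = n21159 := (sb E12944 (iv1 D44488))
theorem F121263 : act 1 n38935 = n44897 := (sb E12944 F70548)
theorem F121264 : act 0 n44486 = n38897 := (sb E12945 (iv1 F119359))
theorem F121265 : act 1 n44486 = n38900 := (sb E12945 (iv0 F119358))
theorem F121266 : act 7 n44486 = n38954 := (sb E12945 (iv7 F119360))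
theorem E12986 : n77154 = n35652 := (((F88330).symm.trans (sb E12951 (iv0 F115921)))).symm
theorem F121267 : act 6 n55843 = n77189 := (sb E12951 (iv6 F115942))
theorem F121268 : act 5 n55844 = n77151 := (sb E12952 (iv5 F115918))
theorem E12987 : n35201 = n13005 := ((((iv5 F28224)).symm.trans (sb E12957 F115763))).symm
theorem F121269 : act 6 n55839 = n36349 := (sb E12958 F120856)
theorem F121270 : act 0 n55840 = n26949 := (sb E12959 (iv1 D55865))
theorem F121271 : act 1 n55840 = n35720 := (sb E12959 F88368)
theorem E12988 : n36389 = n36350 := (((D36350).symm.trans (sb E12960 F89243))).symm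
theorem F121272 : act 6 n17553 = n26939 := (sb E12960 (iv6 D55841))
theorem F121273 : act 1 n55866 = n35637 := (sb E12961 (iv0 D78165))
theorem F121274 : act 0 n17312 = n35637 := (sb E12962 (iv1 D78166))
theorem F121275 : act 6 n77204 = n35637 := (sb E12964 (iv6 D78168))
theorem F121276 : act 6 n56182 = n35636 := (sb E12967 (iv6 D78163))
theorem E12989 : n77196 = n36390 := ((F120785).symm.trans (sb E12968 (iv1 F88944)))
theorem E12990 : n77195 = n27098 := ((F120786).symm.trans (sb E12968 (iv0 D56235)))
theorem F121277 : act 1 n9008 = n17945 := (sb E12970 (iv0 D37389))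
theorem E12992 : n36764 = n19164 := ((((iv4 F30793)).symm.trans (sb E12970 F89229))).symm
theorem F121278 : act 3 n34534 = n19165 := (sb E12974 (iv3 D40577))
theorem F121279 : act 0 n40578 = n39988 := (sb E12975 (iv1 F72271))
theorem F121280 : act 1 n40578 = n21889 := (sb E12975 (iv0 D45779))
theorem F121281 : act 2 n40578 = n39985 := (sb E12975 (iv2 F119001))
theorem F121282 : act 7 n40578 = n39986 := (sb E12975 (iv7 F119004))
theorem F121283 : act 2 n27319 = n19165 := (sb E12978 (iv2 D40576))
theorem F121284 : act 7 n27319 = n17945 := (sb E12978 (iv7 F121226))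
theorem F121285 : act 2 n27320 = n17945 := (sb E12979 (iv2 F121225))
theorem F121286 : act 7 n27320 = n19165 := (sb E12979 (iv7 D40581))
theorem F121287 : act 0 n40575 = n36761 := (sb E12980 (iv1 F89215))
theorem F121288 : act 1 n40575 = n27143 := (sb E12980 (iv0 D56377))
theorem E12993 : n79114 = n27132 := ((D79114).symm.trans (sb E12981 (iv1 D56338)))
theorem E12995 : n36630 = n13097 := ((D36630).symm.trans (sb E12982 (iv1 D27329)))
theorem E12996 : n56910 = n36631 := (((D36631).symm.trans (sb E12982 F89962))).symm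
theorem E12997 : n56954 = n36632 := (((D36632).symm.trans (sb E12982 (iv2 F90033)))).symm
theorem E13001 : n56949 = n36501 := ((((iv7 F91329)).symm.trans (sb E12982 F90032))).symm
theorem E13002 : n78160 = n77024 := (((D77024).symm.trans (sb E12983 (iv1 F119342)))).symm
theorem E13003 : n77025 = n58016 := ((D77025).symm.trans (sb E12983 F119346))
theorem F121289 : act 7 n35183 = n55839 := (sb E12983 (iv7 F119364))
theorem F121290 : act 7 n35186 = n55840 := (sb E12984 (iv7 F119366))
theorem E13013 : n78208 = n56555 := ((D78208).symm.trans (sb E12986 (iv5 F120892)))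
theorem E13014 : n78209 = n35223 := ((D78209).symm.trans (sb E12986 (iv6 D77154)))
theorem E13015 : n27148 = n17088 := ((D27148).symm.trans (sb E12987 (iv1 D35201)))
theorem E13016 : n36474 = n27149 := (((D27149).symm.trans (sb E12987 F57281))).symm
theorem E13022 : n77012 = n17572 := ((F120806).symm.trans (sb E12988 (iv1 D36389)))
theorem E13023 : n77011 = n56237 := ((F120807).symm.trans (sb E12988 F88949))
theorem E13024 : n56236 = n35238 := (((F120810).symm.trans (sb E12988 (iv7 F119386)))).symm
theorem F121291 : act 1 n36390 = n56183 := (sb E12989 (iv0 F120785))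
theorem F121292 : act 0 n27098 = n56183 := (sb E12990 (iv1 F120786))
theorem E13026 : n77166 = n36737 := ((((iv5 F57614)).symm.trans (sb E12990 (iv5 F115953)))).symm
theorem F121293 : act 0 n19164 = n39991 := (sb E12992 (iv1 F118877))
theorem F121294 : act 1 n19164 = n17725 := (sb E12992 (iv0 D36764))
theorem F121295 : act 1 n27132 = n36010 := (sb E12993 (iv0 D79114))
theorem F121297 : act 1 n13097 = n17658 := (sb E12995 (iv0 D36630))
theorem E13027 : n56332 = n21426 := ((((iv3 F33645)).symm.trans (sb E12995 F89819))).symm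
theorem E13028 : n56805 = n27327 := ((((iv4 F44226)).symm.trans (sb E12995 F89817))).symm
theorem F121298 : act 1 n36631 = n27328 := (sb E12996 F89963)
theorem F121300 : act 3 n36631 = n35202 := (sb E12996 F89957)
theorem F121301 : act 4 n36631 = n55441 := (sb E12996 F89958)
theorem F121303 : act 6 n36631 = n27375 := (sb E12996 F89960)
theorem F121305 : act 7 n36632 = n27328 := (sb E12997 (iv7 D56954))
theorem F121306 : act 2 n36501 = n27328 := (sb E13001 (iv2 D56949))
theorem F121307 : act 0 n77024 = n35636 := (sb E13002 (iv1 D78160))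
theorem F121308 : act 2 n77024 = n38261 := (sb E13002 F119345)
theorem F121309 : act 4 n77024 = n38244 := (sb E13002 (iv4 F119344))
theorem F121310 : act 7 n77024 = n38266 := (sb E13002 F119343)
theorem F121311 : act 0 n58016 = n35183 := (sb E13003 (iv1 D77025))
theorem F121312 : act 5 n56555 = n35652 := (sb E13013 (iv5 D78208))
theorem F121313 : act 6 n35223 = n35652 := (sb E13014 (iv6 D78209))
theorem E13029 : n35200 = n17704 := ((D35200).symm.trans (sb E13015 (iv1 F43888)))
theorem F121314 : act 1 n17088 = n13005 := (sb E13015 (iv0 D27148))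
theorem E13030 : n56387 = n17607 := ((((iv2 F28625)).symm.trans (sb E13015 D56387))).symm
theorem E13031 : n56388 = n27315 := ((((iv3 F44197)).symm.trans (sb E13015 D56388))).symm
theorem E13032 : n56389 = n35199 := ((((iv4 F55946)).symm.trans (sb E13015 D56389))).symm
theorem E13035 : n56331 = n44478 := (((iv3 F118675)).symm.trans (sb E13016 (iv3 F69992)))
theorem E13036 : n56395 = n17825 := ((D56395).symm.trans (sb E13016 F120753))
theorem F121315 : act 0 n17572 = n35178 := (sb E13022 (iv1 D77012))
theorem F121316 : act 1 n17572 = n36350 := (sb E13022 (iv0 F120806))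
theorem F121317 : act 0 n56237 = n36350 := (sb E13023 (iv1 F120807))
theorem F121318 : act 1 n56237 = n35178 := (sb E13023 (iv0 D77011))
theorem F121319 : act 0 n35238 = n27098 := (sb E13024 (iv1 D56236))
theorem F121320 : act 1 n35238 = n36390 := (sb E13024 F88948)
theorem F121321 : act 1 n36737 = n35229 := (sb E13026 (iv0 D77166))
theorem E13037 : n44887 = n27131 := ((D44887).symm.trans (sb E13027 (iv1 D56332)))
theorem E13038 : n45765 = n44888 := (((D44888).symm.trans (sb E13027 (iv0 F118986)))).symm
theorem E13039 : n37374 = n37267 := ((((iv4 F58218)).symm.trans (sb E13027 F118728))).symm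
theorem E13040 : n56945 = n27353 := ((D56945).symm.trans (sb E13028 (iv1 F121201)))
theorem E13041 : n56946 = n27281 := ((D56946).symm.trans (sb E13028 (iv0 D56805)))
theorem F121322 : act 1 n17704 = n17088 := (sb E13029 (iv0 D35200))
theorem F121323 : act 7 n17607 = n27149 := (sb E13030 (iv7 F89224))
theorem E13045 : n56909 = n36632 := ((D56909).symm.trans (sb E13031 (iv0 F119026)))
theorem E13046 : n37417 = n26778 := (((F44198).symm.trans (sb E13031 F89225))).symm
theorem E13047 : n77070 = n37833 := ((D77070).symm.trans (sb E13032 F118659))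
theorem F121325 : act 3 n44478 = n27149 := (sb E13035 F118675)
theorem F121326 : act 4 n44478 = n37373 := (sb E13035 F118676)
theorem F121327 : act 6 n17825 = n27149 := (sb E13036 (iv6 D56395))
theorem F121328 : act 0 n27131 = n44478 := (sb E13037 (iv1 F70527))
theorem F121329 : act 1 n27131 = n21426 := (sb E13037 (iv0 D44887))
theorem F121331 : act 3 n44888 = n21878 := (sb E13038 (iv3 D45765))
theorem F121332 : act 4 n44888 = n37250 := (sb E13038 F118972)
theorem F121333 : act 7 n44888 = n21960 := (sb E13038 F118973)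
theorem F121334 : act 0 n37267 = n17941 := (sb E13039 (iv1 D37374))
theorem F121335 : act 1 n37267 = n17946 := (sb E13039 F58296)
theorem E13048 : n56806 = n55441 := ((F121200).symm.trans (sb E13040 (iv1 F90029)))
theorem F121336 : act 1 n27353 = n27327 := (sb E13040 (iv0 D56945))
theorem F121337 : act 0 n27281 = n27327 := (sb E13041 (iv1 D56946))
theorem F121338 : act 0 n36632 = n27315 := (sb E13045 (iv1 D56909))
theorem F121339 : act 1 n36632 = n27330 := (sb E13045 F89955)
theorem E13049 : n55438 = n17958 := ((D55438).symm.trans (sb E13046 (iv1 D37417)))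
theorem E13050 : n55439 = n55421 := ((D55439).symm.trans (sb E13046 (iv0 F121147)))
theorem F121340 : act 1 n37833 = n35199 := (sb E13047 (iv0 D77070))
theorem F121341 : act 0 n55441 = n27281 := (sb E13048 (iv1 D56806))
theorem F121342 : act 1 n55441 = n27353 := (sb E13048 (iv0 F121200))
theorem E13051 : n36714 = n36631 := ((((iv4 F121301)).symm.trans (sb E13048 (iv4 F89821)))).symm
theorem E13052 : n56948 = n37416 := (((D37416).symm.trans (sb E13049 (iv1 F90031)))).symm
theorem F121343 : act 1 n17958 = n26778 := (sb E13049 (iv0 D55438))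
theorem F121344 : act 0 n55421 = n26778 := (sb E13050 (iv1 D55439))
theorem E13053 : n35202 = n17702 := ((F121300).symm.trans (sb E13051 (iv3 D36714)))
theorem F121345 : act 2 n37416 = n55441 := (sb E13052 F90026)
theorem F121346 : act 4 n37416 = n27330 := (sb E13052 F90027)
theorem F121347 : act 6 n37416 = n55432 := (sb E13052 F90028)
theorem F121348 : act 7 n37416 = n27327 := (sb E13052 (iv7 D56948))
theorem E13054 : n36473 = n27150 := ((((iv1 F43891)).symm.trans (sb E13053 (iv1 F57276)))).symm
theorem E13057 : n77073 = n36715 := (((D36715).symm.trans (sb E13053 (iv4 F115807)))).symm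
theorem E13058 : n36717 = n27196 := ((D36717).symm.trans (sb E13053 F120768))
theorem E13060 : n17703 = n17607 := (((iv1 F43893)).symm.trans (sb E13054 (iv1 D36473)))
theorem F121351 : act 6 n36715 = n56536 := (sb E13057 F120974)
theorem F121352 : act 7 n36715 = n35199 := (sb E13057 (iv7 D77073))
theorem F121353 : act 6 n27196 = n17702 := (sb E13058 (iv6 D36717))
theorem F121355 : act 0 n17607 = n8333 := (sb E13060 (iv1 D17703))
theorem F121356 : act 1 n17607 = n27150 := (sb E13060 F43893)
theorem F121357 : act 0 n44475 = n37255 := d20_7 (iv4 F61699) F121287 (iv4 D36761) (iv3 F43889) (iv1 F121356) (iv3 F33387) (iv4 F69991) (iv4 D37255) F121235 (iv1 F44212)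
theorem F121358 : act 6 n36363 = n36731 := d21_9 (iv5 F56316) (iv1 F121356) F28626 (iv6 D17607) F13308 D8322 (iv5 F13775) D18892 (iv5 F120899) (iv1 F57607)
theorem E13064 : n78190 = n78106 := ((c21_2 D35617 D78106 F119397 (iv6 D56397) (iv1 F121356) (iv6 D17607) (iv5 D8271) (iv1 D3721) (iv5 F5672) D8092 D17250)).symm
theorem F121360 : act 5 n78106 = n56397 := (sb E13064 F119397)
theorem F121361 : act 6 n78106 = n35645 := (sb E13064 (iv6 D78190))
theorem E13065 : n78112 = n36734 := ((c21_4 F28626 F121355 D17706 D36734 (iv1 D78112) (iv6 D35618) D35617 D78106 F121360 (iv6 D56397) (iv1 F121356))).symm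
theorem F121362 : act 0 n36734 = n35618 := (sb E13065 (iv1 D78112))
theorem E13066 : n78111 = n55844 := ((c15_4 (iv0 D78111) (iv0 F121362) F57612 (iv2 F88331))).symm
theorem F121363 : act 1 n55844 = n35618 := (sb E13066 (iv0 D78111))
theorem E13067 : n78107 = n73840 := ((c21_7 F121268 (iv1 F115919) (iv5 D35228) D35229 (iv1 F121321) (iv6 F89254) (iv5 F110623) (iv1 D78107) (iv5 D35617) D35618 (iv1 F121363))).symm
theorem F121364 : act 0 n73840 = n35617 := (sb E13067 (iv1 D78107))
theorem F121365 : act 1 n73840 = n35622 := (sb E13067 F119293)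
theorem E13068 : n78126 = n56203 := (c21_11 F88887 (iv1 F120864) (iv5 D56537) F121353 (iv1 F43891) D56397 (iv5 F121360) (iv1 F119296) (iv5 D35622) D35623 D78126)
theorem F121366 : act 1 n56203 = n35623 := (sb E13068 (iv0 D78126))
theorem F121367 : act 0 n36662 = n56397 := d21_10 (iv5 F121360) (iv1 F119296) (iv5 D35622) D35623 (iv1 F121366) F88888 F57107 (iv1 F120885) (iv5 D36661) D36662
theorem F121368 : act 6 n55850 = n77056 := d21_5 (iv5 F119249) F121367 (iv5 F121360) F121361 (iv1 F88338) (iv5 D77056) (iv1 F55940) (iv5 F55967) (iv6 F56303) (iv1 F119248)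
theorem F121369 : act 1 n36662 = n56404 := d15_1 (iv0 F121367) (iv7 D56404) (iv2 F89247)
theorem E13069 : n78205 = n55850 := (c3_4 F121368 F115886 F121313 D78205)
theorem F121370 : act 2 n55850 = n35652 := (sb E13069 (iv2 D78205))
theorem F121371 : act 7 n55850 = n35653 := (sb E13069 (iv7 F119411))
theorem F121372 : act 5 n36667 = n55850 := d12_5 F121368 (iv5 D77056) F57532 (iv5 D36666) D36667
theorem E13070 : n78214 = n55902 := ((c14_5 (iv7 F121371) F121368 F115887 D77165 (iv7 F115930) (iv6 D78214))).symm
theorem F121373 : act 6 n55902 = n35653 := (sb E13070 (iv6 D78214))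
theorem E13071 : n78213 = n56556 := ((c21_2 D78374 (iv1 F119582) (iv5 D78213) (iv6 F121373) (iv1 D55902) (iv6 D26964) (iv5 D12903) (iv1 F27423) (iv5 F28600) D36438 F120872)).symm
theorem F121374 : act 5 n56556 = n35653 := (sb E13071 (iv5 D78213))
theorem F121375 : act 5 n78210 = n78378 := d2_2 F121374 (iv2 F119412) F120895
theorem E13072 : n77173 = n55853 := ((c21_11 (iv5 D77173) (iv1 F115798) F115795 (iv6 F57509) (iv1 F57511) D36667 F121372 (iv1 D55850) (iv5 D26942) D26943 D55853)).symm
theorem F121376 : act 5 n55853 = n35230 := (sb E13072 (iv5 D77173))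
theorem F121377 : act 6 n36360 = n78060 := d21_5 (iv5 F121372) F120897 (iv5 D35722) F28547 D36360 (iv5 F119249) F121367 (iv5 F121360) F121361 (iv1 F88338)
theorem E13073 : n78139 = n56198 := (c3_3 F121377 F119308 D78139 F120908)
theorem F121378 : act 6 n56198 = n35625 := (sb E13073 (iv6 D78139))
theorem E13074 : n77190 = n36458 := (c21_5 (iv5 D56191) (iv1 F43742) D36350 F120809 (iv1 F119659) (iv6 F110624) F110623 (iv1 F121369) F119249 (iv6 F121377) (iv1 F88872))
theorem F121379 : act 0 n36458 = n35236 := (sb E13074 (iv1 D77190))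
theorem F121380 : act 1 n36458 = n78464 := (sb E13074 F119659)
theorem F121381 : act 2 n55852 = n77189 := d15_3 (iv0 D77189) (iv0 F121379) F88341
theorem F121382 : act 3 n77189 = n78280 := d0_2 (iv3 F88340) F121381 F119475 F56372 (iv2 F43454)
theorem E13075 : n78138 = n56403 := (c21_7 (iv5 F121312) (iv1 F119583) (iv5 D78374) F57097 (iv1 F88881) F121378 D78138 (iv1 D56403) (iv5 F56321) (iv6 D35655) D35652)
theorem F121383 : act 2 n56403 = n36662 := (sb E13075 (iv2 F119307))
theorem F121384 : act 3 n56403 = n79106 := (sb E13075 (iv3 F120370))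
theorem F121385 : act 5 n56403 = n35625 := (sb E13075 (iv5 D78138))
theorem F121386 : act 6 n56403 = n36646 := (sb E13075 F119306)
theorem E13076 : n78210 = n55849 := (c15_4 (iv0 D55849) D55850 F121371 (iv2 F119412))
theorem F121387 : act 2 n55849 = n35653 := (sb E13076 F119412)
theorem F121388 : act 5 n55849 = n78378 := (sb E13076 F121375)
theorem F121389 : act 7 n55849 = n35652 := (sb E13076 (iv7 D78210))
theorem E13077 : n39961 = n36732 := ((c21_5 (iv5 F121388) (iv1 F88337) (iv5 D35645) D35646 (iv1 F57608) (iv6 D39961) (iv5 F120883) (iv1 D36364) D36365 F57104 D78378)).symm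
theorem F121390 : act 3 n36732 = n44914 := (sb E13077 F90415)
theorem F121391 : act 6 n36732 = n18893 := (sb E13077 (iv6 D39961))
theorem E13078 : n78230 = n36732 := (c21_3 D36724 (iv1 F57600) D78230 F121391 (iv1 D18893) (iv6 D8849) (iv5 D3942) D3939 F13310 D17088 (iv1 F121322))
theorem F121392 : act 5 n36732 = n35657 := (sb E13078 (iv5 D78230))
theorem F121393 : act 5 n78231 = n39935 := d12_3 (iv6 F121391) F121392 D78231 (iv6 F120884) F120883
theorem E13079 : n78133 = n56402 := ((c21_11 (iv5 D78133) (iv1 F119257) F119253 (iv6 F60756) (iv1 F60758) (iv6 F121391) F121392 (iv1 D35657) (iv5 F28224) D27152 D56402)).symm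
theorem F121394 : act 5 n56402 = n35624 := (sb E13079 (iv5 D78133))
theorem F121395 : act 6 n56402 = n78378 := (sb E13079 F120879)
theorem F121396 : act 7 n56402 = n36662 := (sb E13079 F119310)
theorem F121397 : act 2 n36363 = n78231 := d2_3 F121393 F90429 (iv5 F120899)
theorem F121398 : act 3 n44583 = n78231 := d6_3 F121393 F90433 D44583
theorem F121399 : act 7 n36364 = n78231 := d13_0 F121393 F90431 (iv5 F120883)
theorem F121400 : act 0 n36354 = n78231 := d21_10 F121393 (iv1 F60757) F30146 F28742 (iv1 F55936) D77060 (iv5 F120904) (iv1 F88880) (iv5 D36353) D36354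
theorem F121401 : act 0 n78231 = n36366 := d21_1 (iv5 F121393) F57107 (iv6 D17829) F120739 (iv6 D17604) (iv5 D8269) (iv1 F5880) D8845 D18885 D39935
theorem E13080 : n77060 = n36735 := ((c21_11 (iv5 F120904) (iv1 F88880) (iv5 D36353) D36354 F121400 (iv6 D78231) (iv5 F121392) (iv1 D36732) (iv5 D17706) D17707 D36735)).symm
theorem F121402 : act 2 n36735 = n35229 := (sb E13080 F115909)
theorem F121403 : act 5 n36735 = n56197 := (sb E13080 (iv5 F120904))
theorem F121404 : act 6 n36735 = n35193 := (sb E13080 (iv6 D77060))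
theorem E13081 : n77169 = n36736 := ((c15_2 (iv0 D36735) D36736 (iv7 D77169) (iv2 F121402))).symm
theorem F121405 : act 5 n36736 = n56198 := (sb E13081 F120909)
theorem F121406 : act 7 n36736 = n35229 := (sb E13081 (iv7 D77169))
theorem E13082 : n77152 = n36392 := ((c21_4 (iv5 F121405) (iv1 D36736) (iv5 F28771) D36392 (iv1 D77152) F121313 (iv5 F121312) (iv1 F119583) (iv5 D78374) F57097 (iv1 F88881))).symm
theorem F121407 : act 0 n36392 = n35223 := (sb E13082 (iv1 D77152))
theorem F121408 : act 1 n36392 = n35228 := (sb E13082 F115920)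
theorem F121409 : act 2 n55855 = n77151 := d15_3 (iv0 D77151) (iv0 F121407) (iv7 F88343)
theorem F121410 : act 3 n77151 = n78283 := d0_2 (iv3 F88342) F121409 F119478 F56373 (iv2 F43465)
theorem E13083 : n78222 = n36732 := (c14_3 F121399 (iv6 D78231) F119415 F121391 (iv7 F90431) (iv6 F120884))
theorem F121411 : act 2 n36732 = n35656 := (sb E13083 (iv2 D78222))
theorem F121412 : act 7 n36732 = n35657 := (sb E13083 (iv7 F119415))
theorem F121413 : act 7 n78228 = n44914 := d8_2 F121412 D78228 (iv3 F121390)
theorem E13084 : n78227 = n36731 := (c15_4 (iv0 D36731) D36732 F121412 (iv2 F119416))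
theorem F121414 : act 2 n36731 = n35657 := (sb E13084 F119416)
theorem F121415 : act 7 n36731 = n35656 := (sb E13084 (iv7 D78227))
theorem E13085 : n78226 = n39936 := (c14_2 F121415 D78226 F90427 D39956 (iv7 F120900) F121358)
theorem F121416 : act 6 n39936 = n35656 := (sb E13085 (iv6 D78226))
theorem E13086 : n78223 = n57755 := (c7_2 F121416 D78223 (iv6 D57755) F60752)
theorem F121417 : act 3 n57755 = n35656 := (sb E13086 (iv3 D78223))
theorem E13087 : n78225 = n36731 := (c12_2 F121416 D78225 (iv6 F121358) F120899 D39956 F60789)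
theorem F121418 : act 5 n36731 = n35656 := (sb E13087 (iv5 D78225))
theorem E13088 : n77167 = n36725 := ((c21_4 F121418 (iv1 F57601) (iv5 D36724) D36725 (iv1 D77167) (iv6 D35229) D35228 (iv1 F121408) (iv5 F57611) (iv6 D36734) D36731)).symm
theorem F121419 : act 0 n36725 = n35229 := (sb E13088 (iv1 D77167))
theorem E13089 : n57758 = n37422 := (c20_8 (iv4 F30062) (iv1 F41738) F28227 (iv3 F28223) D35656 (iv3 F121417) F90938 D57758 (iv4 D37422) F29119 F13691)
theorem F121420 : act 1 n37422 = n27574 := (sb E13089 (iv0 D57758))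
theorem E13090 : n57759 = n57405 := (c15_2 F121420 D57759 F91118 (iv2 F121114))
theorem F121421 : act 0 n57405 = n27574 := (sb E13090 (iv1 D57759))
theorem F121422 : act 0 n57760 = n56807 := d17_2 F121421 D57760 (iv5 D56807) (iv4 D27281) F29699 (iv0 F121092) (iv5 D27623) (iv0 F44549) (iv4 F90582)
theorem F121423 : act 6 n44583 = n78228 := d14_5 F121413 (iv6 D44914) F90434 D44584 (iv7 F90447)
theorem F121424 : act 5 n78228 = n44914 := d12_1 F121423 (iv6 D44914) (iv5 F70113) (iv6 D44584) D44583
theorem F121425 : act 0 n56334 = n78228 := d21_1 D56334 F121424 (iv6 D44914) (iv1 D21435) (iv6 D10213) (iv5 D4639) D4637 D10207 D21426 (iv1 F121329)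
theorem F121426 : act 1 n44475 = n37259 := d15_1 (iv0 F121357) F116876 (iv2 F116859)
theorem F121427 : act 1 n36471 = n56768 := d15_0 (iv0 F89762) F121352 (iv2 F57274)
theorem F121428 : act 2 n36715 = n56394 := d15_3 F118657 F121340 (iv7 F121352)
theorem F121429 : act 6 n56394 = n37035 := d3_2 (iv6 F121351) F121428 F120952
theorem F121430 : act 7 n56394 = n36471 := d4_2 (iv7 F121352) F121428 F57274
theorem E13091 : n77071 = n37838 := (c15_1 D77071 (iv0 F118639) F121430 F57274)
theorem F121431 : act 0 n37838 = n35199 := (sb E13091 (iv1 D77071))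
theorem E13092 : n56999 = n56908 := ((c20_11 (iv4 D56999) (iv1 F87715) F87711 (iv3 F87686) (iv1 F121203) (iv3 D37837) D37838 F121431 F55946 (iv3 F44197) D56908)).symm
theorem F121432 : act 4 n56908 = n27347 := (sb E13092 (iv4 D56999))
theorem E13093 : n56908 = n36501 := ((c20_6 (iv4 F118634) (iv1 D56283) F43844 F21609 D17619 D36501 F121432 (iv1 F87715) F87711 (iv3 F87686) (iv1 F121203))).symm
theorem F121433 : act 0 n36501 = n27330 := (sb E13093 (iv1 F89961))
theorem F121434 : act 1 n36501 = n27315 := (sb E13093 (iv0 D56908))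
theorem F121435 : act 4 n36501 = n27347 := (sb E13093 F121432)
theorem E13094 : n56997 = n56951 := (c1_2 F121435 D56997 (iv4 D56951) (iv2 F121306))
theorem F121436 : act 2 n56951 = n27347 := (sb E13094 (iv2 D56997))
theorem F121437 : act 7 n56951 = n27348 := (sb E13094 (iv7 F90076))
theorem E13095 : n57002 = n36633 := (c11_3 (iv7 F91329) F121435 D57002 (iv4 D36633))
theorem F121438 : act 2 n36633 = n27348 := (sb E13095 F90077)
theorem F121439 : act 7 n36633 = n27347 := (sb E13095 (iv7 D57002))
theorem E13096 : n56951 = n55411 := (c15_4 (iv0 D55411) (iv0 F121233) F121439 (iv2 F121436))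
theorem F121440 : act 2 n55411 = n27347 := (sb E13096 F121436)
theorem F121441 : act 4 n55411 = n27328 := (sb E13096 (iv4 D56951))
theorem F121442 : act 7 n55411 = n27348 := (sb E13096 F121437)
theorem E13097 : n57004 = n36632 := (c11_2 F121442 D57004 F121305 (iv4 F121441))
theorem F121443 : act 4 n36632 = n27348 := (sb E13097 (iv4 D57004))
theorem F121444 : act 4 n56952 = n57860 := d18_5 (iv1 D26771) (iv4 F43019) D55411 F121441 D56952 (iv0 D57860) F44517 (iv0 F44549) F44393
theorem E13098 : n56950 = n36609 := (c20_4 (iv4 F43019) D55411 F121441 D56950 F119024 F34438 (iv4 F34461) F118889 (iv4 D34553) F121143 (iv1 D26771))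
theorem F121445 : act 3 n36609 = n27328 := (sb E13098 (iv3 D56950))
theorem E13099 : n56318 = n55403 := (c20_4 (iv4 F72424) (iv1 F118989) (iv4 D56676) (iv3 F89086) (iv1 D55403) F43013 (iv4 F43019) D55411 F121441 (iv3 F121445) F119024)
theorem F121446 : act 2 n55403 = n37837 := (sb E13099 (iv2 F118635))
theorem F121447 : act 3 n55403 = n27243 := (sb E13099 F89086)
theorem F121448 : act 4 n55403 = n27127 := (sb E13099 (iv4 D56318))
theorem F121449 : act 5 n55403 = n57997 := (sb E13099 F91755)
theorem F121450 : act 7 n55403 = n27264 := (sb E13099 F117393)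
theorem E13100 : n56313 = n55402 := (c15_4 (iv0 D55402) D55403 F121450 (iv2 F117422))
theorem F121451 : act 2 n55402 = n27264 := (sb E13100 F117422)
theorem F121452 : act 3 n55402 = n37813 := (sb E13100 (iv3 F118644))
theorem F121453 : act 4 n55402 = n27126 := (sb E13100 (iv4 D56313))
theorem F121454 : act 7 n55402 = n37837 := (sb E13100 (iv7 F118636))
theorem F121455 : act 0 n36820 = n56288 := d20_1 (iv4 F57739) (iv4 D56288) F118961 (iv1 F34344) (iv3 F34438) (iv4 F72424) (iv1 F118989) (iv4 D56676) (iv3 F121447) (iv1 D55403)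
theorem F121456 : act 1 n36820 = n56291 := d15_1 (iv0 F121455) F89160 (iv2 F89145)
theorem E13101 : n44477 = n37354 := (c20_5 D17958 D37416 F121346 (iv3 F70524) (iv1 F70528) F58282 D56291 (iv1 F121456) F57739 F43013 F121145)
theorem E13102 : n45938 = n21155 := (((iv1 F119008)).symm.trans (sb E13101 (iv1 D44477)))
theorem E13103 : n45937 = n44889 := ((F118992).symm.trans (sb E13101 F70528))
theorem E13104 : n44476 = n21960 := ((D44476).symm.trans (sb E13102 (iv1 D45938)))
theorem F121458 : act 1 n21155 = n37354 := (sb E13102 F119008)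
theorem F121459 : act 0 n44889 = n37354 := (sb E13103 (iv1 F118992))
theorem F121460 : act 0 n21960 = n44889 := (sb E13104 (iv1 F70529))
theorem F121461 : act 1 n21960 = n21155 := (sb E13104 (iv0 D44476))
theorem F121463 : act 5 n57028 = n57636 := d21_6 D6266 D13172 F21952 D27327 (iv1 F121336) D57028 (iv1 D57636) (iv5 D27535) (iv6 D13166) (iv1 D6264)
theorem F121464 : act 0 n57027 = n57760 := d21_1 D57027 (iv5 D57760) (iv6 D27574) (iv1 D13178) (iv6 D6267) D6266 D13172 F21952 D27327 (iv1 F121336)
theorem F121465 : act 7 n37373 = n44475 := d15_2 F121335 F58300 F69990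
theorem F121466 : act 6 n45257 = n37373 := d14_5 F121465 (iv6 D44475) F33384 D37265 (iv7 F120990)
theorem F121467 : act 1 n78467 = n36391 := d18_6 (iv1 D17553) D17555 (iv1 F118386) F56285 D76992 (iv4 F119666) (iv4 D36391) F121316 (iv5 D36350)
theorem E13105 : n78221 = n78054 := ((c21_1 D78054 (iv1 D78221) F56321 (iv6 D27152) (iv1 F121314) (iv6 D17088) (iv5 F13310) (iv1 F5875) (iv5 F12872) D17246 D35601)).symm
theorem F121468 : act 0 n78054 = n35655 := (sb E13105 (iv1 D78221))
theorem F121469 : act 6 n78206 = n77142 := d7_2 F121313 D78206 F115853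
theorem F121470 : act 6 n78207 = n77153 := d10_2 F121313 D78207 (iv4 D77153)
theorem F121471 : act 5 n77420 = n78206 := d12_5 F121469 (iv5 D77142) D77143 F115856 D77420
theorem E13106 : n57209 = n55711 := (c20_5 D35519 (iv1 F121093) F44304 (iv3 F44297) D57209 (iv3 F117849) (iv4 F121309) F121307 (iv4 D35636) (iv3 F116325) (iv1 D35517))
theorem F121472 : act 1 n55711 = n27408 := (sb E13106 (iv0 D57209))
theorem E13107 : n57210 = n55716 := (c15_2 F121472 D57210 F117399 (iv2 F117414))
theorem F121473 : act 0 n55716 = n27408 := (sb E13107 (iv1 D57210))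
theorem F121477 : act 7 n40579 = n56930 := d13_2 F121286 D40579 (iv5 D56930)
theorem F121478 : act 2 n56930 = n37393 := d15_3 F121175 (iv0 F117107) F121477
theorem F121479 : act 3 n77734 = n56930 := d0_0 F121478 F58310 (iv2 F116856) (iv3 F59982) (iv2 F116906)
theorem F121480 : act 3 n40579 = n75471 := d8_3 F118577 F121479 (iv7 F121477)
theorem F121481 : act 2 n37394 = n56931 := d3_3 (iv6 D56931) F121285 D37394
theorem F121482 : act 7 n37393 = n56925 := d13_2 F121284 D37393 (iv5 D56925)
theorem F121483 : act 2 n56925 = n40579 := d4_1 F121482 F121477 F121478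
theorem F121485 : act 1 n57319 = n56930 := d15_1 (iv0 F117106) (iv7 F121477) (iv2 F121483)
theorem F121486 : act 1 n56383 = n40160 := d18_6 (iv1 D27320) (iv4 F44206) (iv1 F121244) (iv4 D27143) D27144 D56383 (iv4 F90493) F121485 (iv5 D56930)
theorem F121487 : act 2 n40580 = n56926 := d3_3 (iv6 D56926) F121283 D40580
theorem F121488 : act 3 n40580 = n75472 := d7_3 (iv6 D75472) F121278 D40580
theorem F121489 : act 3 n37257 = n56926 := d0_4 F121488 (iv2 F118683) F58294 (iv2 F116863) (iv2 F121487)
theorem F121490 : act 5 n56926 = n58183 := d6_2 (iv5 F58205) F121489 (iv3 D58183)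
theorem F121491 : act 0 n58183 = n41262 := d21_7 (iv5 D10110) F6666 D6230 D13092 D27319 D56926 F121490 F63580 (iv6 D19831) (iv1 F15961)
theorem E13108 : n78462 = n55852 := ((c21_4 (iv5 D55840) (iv1 D26939) D26942 D55852 (iv1 F119658) (iv6 F120788) (iv5 D56183) (iv1 F43737) D36353 (iv6 F57097) (iv1 F121271))).symm
theorem F121492 : act 0 n55852 = n77191 := (sb E13108 (iv1 F119658))
theorem F121493 : act 1 n55852 = n35754 := (sb E13108 (iv0 D78462))
theorem F121494 : act 7 n78463 = n77189 := d15_2 F121493 D78463 (iv2 F121381)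
theorem F121495 : act 2 n36458 = n78463 := d4_3 F121494 (iv2 F121381) (iv7 F88341)
theorem F121497 : act 0 n55655 = n36088 := d20_7 D18516 F121197 (iv4 F87588) F87587 (iv1 F121263) F59969 D55655 F56832 F44297 F121065
theorem F121498 : act 1 n55652 = n36088 := d15_0 (iv0 F121497) F89166 (iv2 F89153)
theorem F121499 : act 3 n44896 = n38310 := d20_5 D38261 (iv1 F118726) (iv4 D55839) (iv3 F121258) (iv1 F70544) (iv4 D38310) (iv1 D18292) F13540 (iv3 F13535) D18276
theorem F121500 : act 4 n44896 = n38892 := d20_0 (iv1 D38892) F29658 (iv3 F21992) D27653 F117826 D38261 (iv1 F118726) (iv4 D55839) (iv3 F121258) (iv1 F70544)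
theorem F121501 : act 2 n38935 = n44896 := d1_3 F121500 F89176 D38935
theorem F121502 : act 7 n38930 = n44896 := d11_0 F121500 F89177 D38930
theorem F121503 : act 0 n57572 = n73715 := d20_4 (iv4 F121500) (iv1 D44896) (iv4 F58154) (iv3 F90730) (iv3 D73715) F53219 (iv1 F41939) (iv4 F51768) F51767 (iv1 F59926)
theorem E13109 : n78220 = n78057 := (c21_11 (iv5 D78057) (iv1 D35602) D35603 F56280 F28598 (iv6 F55931) (iv5 D35186) F121250 D17278 D35655 D78220)
theorem F121504 : act 1 n78057 = n35655 := (sb E13109 (iv0 D78220))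
theorem F121505 : act 0 n77056 = n55855 := d21_1 D77056 (iv5 D55855) (iv6 D26943) F121249 (iv6 D18887) (iv5 F13764) (iv1 F9461) D7994 D17085 D35192
theorem F121506 : act 1 n77059 = n55855 := d15_0 (iv0 F121505) F115887 F115908
theorem F121507 : act 5 n56748 = n57467 := d21_6 (iv5 D13008) F9630 D9005 D19160 F121246 D56748 (iv1 D57467) (iv5 D27489) (iv6 D13151) (iv1 F21630)
theorem F121508 : act 0 n39738 = n57852 := d21_1 (iv5 F117162) (iv5 D57852) (iv6 D27616) (iv1 F117247) (iv6 D27155) (iv5 D13008) F9630 D9005 D19160 F121246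
theorem F121509 : act 3 n57467 = n39100 := d6_1 F121507 (iv5 F60104) (iv3 F89742)
theorem F121510 : act 7 n39176 = n57467 := d8_0 F121509 F117425 D39176
theorem F121511 : act 4 n57467 = n36234 := d20_6 D17568 F30470 F29900 (iv3 F29823) (iv1 F60103) (iv3 F121509) (iv1 D36234) (iv4 D17500) F12998 D8252
theorem F121512 : act 2 n39176 = n57466 := d15_3 (iv0 D57466) D57467 (iv7 F121510)
theorem F121513 : act 4 n57861 = n36634 := d18_3 (iv1 F121111) (iv4 F91126) (iv1 F91144) (iv5 D36634) D36633 F121234 F44249 F121146 D17959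
theorem E13110 : n57861 = n57378 := ((c10_1 D57378 F121513 (iv6 F57492) F121187)).symm
theorem F121514 : act 0 n57378 = n27619 := (sb E13110 (iv1 D57861))
theorem F121515 : act 1 n57378 = n57838 := (sb E13110 F91144)
theorem F121516 : act 4 n57378 = n36634 := (sb E13110 F121513)
theorem F121517 : act 4 n55341 = n57219 := d20_0 (iv1 F90270) F44391 (iv3 F44370) (iv1 F121059) (iv3 D18499) D18500 (iv1 F121222) F58154 (iv3 F42965) D55341
theorem E13111 : n57374 = n57219 := ((c1_1 F121517 (iv2 D57374) (iv4 F121187) (iv2 F121161))).symm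
theorem F121518 : act 2 n57219 = n27465 := (sb E13111 (iv2 D57374))
theorem F121519 : act 7 n57219 = n27466 := (sb E13111 (iv7 F90563))
theorem F121520 : act 2 n37418 = n57027 := d2_3 (iv5 D57027) F121202 D37418
theorem F121521 : act 2 n37419 = n57028 := d3_3 (iv6 D57028) F121202 D37419
theorem F121522 : act 4 n57026 = n37932 := d5_4 (iv4 D18170) F121199 D27353 D57026 (iv3 D37932)
theorem F121523 : act 1 n57939 = n57434 := d18_6 (iv1 F44312) D27476 F121193 (iv4 F42966) D55343 (iv4 F91661) (iv4 D57434) F90288 F90286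
theorem F121524 : act 4 n57383 = n77829 := d10_3 (iv6 D77829) F121190 D57383
theorem F121525 : act 2 n77833 = n57383 := d1_3 F121524 F117648 (iv4 F117650)
theorem F121526 : act 7 n57375 = n77831 := d8_2 F121189 D57375 (iv3 D77831)
theorem F121527 : act 7 n57377 = n77832 := d13_2 F121189 D57377 (iv5 D77832)
theorem F121528 : act 4 n77491 = n57375 := d11_3 F121526 F117649 (iv7 F116335)
theorem F121529 : act 2 n57382 = n77832 := d2_3 (iv5 D77832) F121188 D57382
theorem F121530 : act 1 n57341 = n78387 := d18_6 F118789 D35687 F121186 F44367 D27451 D57341 (iv4 D78387) (iv0 F118520) F60979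
theorem F121531 : act 7 n57333 = n38973 := d13_2 F121178 D57333 (iv5 D38973)
theorem F121532 : act 3 n38898 = n57333 := d8_3 F121531 F60001 (iv7 F116872)
theorem F121533 : act 2 n57337 = n38973 := d2_3 (iv5 D38973) F121177 D57337
theorem F121534 : act 2 n57338 = n38974 := d3_3 (iv6 D38974) F121177 D57338
theorem F121535 : act 3 n57034 = n37940 := d8_3 (iv7 D37940) F121170 D57034
theorem F121536 : act 0 n78550 = n36382 := d20_7 (iv4 F43814) (iv1 F43815) F42190 D18622 (iv1 F121169) (iv3 F61364) (iv4 F119737) (iv4 D36382) (iv3 D17567) (iv1 F21584)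
theorem F121537 : act 5 n55495 = n39238 := d21_0 (iv1 F120629) (iv5 D57246) F90200 (iv1 F91071) (iv6 D27634) D27633 (iv1 F91620) (iv5 F91622) F121156 F121127
theorem F121538 : act 2 n39238 = n57524 := d2_1 F121537 (iv5 F121212) F121211
theorem F121539 : act 6 n39238 = n55499 := d12_2 D55495 F121537 (iv5 D55499) (iv6 D26794) D26793
theorem F121540 : act 7 n39238 = n57523 := d13_2 F121209 F121537 (iv5 F121207)
theorem F121541 : act 3 n38338 = n57409 := d6_3 F90587 F121151 (iv5 F59194)
theorem F121545 : act 3 n57929 = n38866 := d0_2 D39891 F121135 (iv2 F117721) (iv3 D58709) F45079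
theorem F121546 : act 3 n75807 = n76896 := d8_3 (iv7 F115515) F121545 F113682
theorem F121547 : act 0 n39253 = n78766 := d18_2 F121132 D39253 F119934 F91640 F55784 F120795 (iv4 D18610) (iv0 F120602) (iv5 F44415)
theorem F121548 : act 0 n56341 = n79177 := d20_1 (iv4 F89102) F120461 F115481 (iv1 F121128) F58324 (iv4 F52549) (iv1 F86546) F86548 (iv3 F89118) (iv1 D56347)
theorem F121549 : act 2 n57550 = n39253 := d1_3 (iv4 D39253) F121121 D57550
theorem F121550 : act 0 n77142 = n77840 := d21_1 D77142 (iv5 D77840) (iv6 D35521) (iv1 F121119) (iv6 D26744) (iv5 D12796) D12795 (iv5 F28685) D36532 F115324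
theorem F121551 : act 0 n57925 = n77837 := d21_4 (iv5 D55340) (iv1 F42964) D27641 D57925 (iv6 D77837) (iv5 D35520) (iv1 F121119) D55343 F87586 (iv1 F87584)
theorem F121553 : act 4 n57880 = n78302 := d20_6 F53082 (iv1 F53095) F29128 (iv3 F58322) F121105 (iv3 F91613) (iv1 D78302) F56371 F28245 D17307
theorem F121554 : act 6 n78302 = n57878 := d10_2 D57880 F121553 (iv4 D57878)
theorem F121555 : act 6 n55735 = n36192 := d10_2 (iv6 F90248) F121096 F120680
theorem F121556 : act 7 n55735 = n36088 := d11_2 D57212 F121096 F56832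
theorem F121557 : act 5 n55514 = n39018 := d21_0 (iv1 D39018) (iv5 D18517) D18518 (iv1 F121091) (iv6 D27446) (iv5 F21968) F91033 (iv5 F87783) (iv6 F90607) (iv1 F115454)
theorem F121558 : act 7 n39018 = n55513 := d13_2 D55514 F121557 (iv5 D55513)
theorem F121559 : act 6 n39018 = n55949 := d21_3 D57431 (iv1 F115454) F121557 (iv1 D55949) (iv6 D26980) (iv5 D12911) (iv1 F17555) D12798 (iv6 F21926) D27479
theorem F121560 : act 2 n57407 = n39018 := d4_3 F121558 (iv2 F121081) F121084
theorem F121561 : act 2 n39019 = n57408 := d1_3 (iv4 D57408) F121085 D39019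
theorem F121562 : act 2 n39015 = n57404 := d2_3 (iv5 D57404) F121079 D39015
theorem F121563 : act 4 n57403 = n38332 := d5_4 (iv4 D18297) F121078 D27471 D57403 (iv3 D38332)
theorem F121564 : act 4 n78290 = n57366 := d5_2 F121053 D78290 F90555 F44391 (iv3 F44370)
theorem F121565 : act 7 n57325 = n78290 := d11_0 F121564 (iv7 D57366) (iv4 F90512)
theorem F121566 : act 7 n78291 = n57328 := d13_2 F121051 D78291 (iv5 D57328)
theorem F121567 : act 0 n37761 = n78783 := d21_4 F120639 (iv1 D57529) (iv5 F120597) D37761 (iv6 F120643) F120642 F90995 F90993 F87672 (iv1 F120638)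
theorem F121568 : act 2 n39059 = n57430 := d1_3 (iv4 D57430) F120627 D39059
theorem F121569 : act 2 n57540 = n39240 := d3_3 F60202 F121568 (iv6 F90688)
theorem F121570 : act 1 n57430 = n57939 := d15_0 F121523 F120710 F121568
theorem F121571 : act 0 n40738 = n37063 := d20_7 (iv4 F44024) (iv1 F44026) F29947 D18111 (iv1 F120620) F43004 D40738 (iv4 D37063) (iv3 D17836) F21731
theorem F121574 : act 2 n37744 = n57172 := d2_3 (iv5 D57172) F120613 D37744
theorem F121575 : act 2 n37745 = n57173 := d3_3 (iv6 D57173) F120613 D37745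
theorem F121576 : act 4 n57171 = n38085 := d5_4 (iv4 D18217) F120610 D27395 D57171 (iv3 D38085)
theorem F121577 : act 4 n57537 = n38465 := d5_4 (iv4 D18335) F120608 D27508 D57537 (iv3 D38465)
theorem F121578 : act 3 n38752 = n57830 := d8_3 (iv7 F91016) F120598 F59555
theorem F121579 : act 0 n76052 = n76835 := d17_0 F115371 (iv1 D57306) (iv5 D27437) F21910 (iv5 F21254) D26756 (iv5 F55824) F120587 D76052
theorem F121580 : act 1 n57173 = n76835 := d15_0 (iv0 F121579) F113972 F121575
theorem F121581 : act 2 n39236 = n57538 := d2_3 (iv5 D57538) F120579 D39236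
theorem F121582 : act 0 n37745 = n57765 := d18_2 F120577 (iv4 F58600) (iv4 F116229) (iv5 D77418) F91405 (iv0 D26786) F21269 D12816 D26798
theorem F121584 : act 5 n76052 = n57741 := d17_5 (iv1 F21915) D13190 F120572 (iv5 F54975) D76052 F90926 (iv5 D27573) F44358 F44356
theorem F121586 : act 0 n39570 = n75985 := d17_2 (iv1 D39568) D39570 (iv5 D75985) F61589 F61585 F33671 D44583 F120560 (iv4 F120557)
def n79251 : Q := act 3 n36076
theorem D79251 : act 3 n36076 = n79251 := rfl
theorem F121588 : act 7 n79251 = n36194 := d8_2 (iv7 F118139) D79251 (iv3 D36194)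
def n79254 : Q := act 4 n36077
theorem D79254 : act 4 n36077 = n79254 := rfl
theorem F121593 : act 2 n79254 = n36217 := d1_1 D79254 (iv4 D36217) (iv2 F118140)
theorem F121594 : act 6 n79254 = n55765 := d10_2 F56813 D79254 (iv4 D55765)
theorem F121595 : act 7 n79254 = n36200 := d11_2 (iv7 F118141) D79254 (iv4 D36200)
def n79255 : Q := act 5 n36078
theorem D79255 : act 5 n36078 = n79255 := rfl
theorem F121598 : act 0 n36672 = n79255 := d21_10 (iv5 D79255) F118505 (iv5 D36104) D36105 F59712 (iv6 D17497) D17496 (iv1 F56919) (iv5 F89119) (iv6 F89117)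
theorem F121599 : act 1 n36836 = n79255 := d15_0 (iv0 F121598) F57541 F59733
theorem F121600 : act 7 n79255 = n36810 := d15_2 (iv0 F59809) F121599 F118167
def n79256 : Q := act 7 n36078
theorem D79256 : act 7 n36078 = n79256 := rfl
theorem F121602 : act 5 n79256 = n36810 := d13_1 D79256 (iv7 F121600) (iv5 D79255)
theorem F121603 : act 6 n79256 = n36206 := d14_1 D79256 (iv7 D36206) (iv6 D17492) F118143 D36078
theorem F121604 : act 1 n36105 = n79256 := d15_1 (iv0 F59712) (iv7 D79256) F118142
theorem F121605 : act 1 n79256 = n36219 := d15_1 F121604 F59705 (iv2 F59713)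
def n79257 : Q := act 4 n36079
theorem D79257 : act 4 n36079 = n79257 := rfl
theorem F121606 : act 2 n79257 = n36225 := d1_1 D79257 (iv4 D36225) (iv2 F89189)
theorem F121607 : act 7 n79257 = n36230 := d11_2 (iv7 F89190) D79257 (iv4 D36230)
def n79258 : Q := act 6 n36079
theorem D79258 : act 6 n36079 = n79258 := rfl
theorem F121608 : act 2 n79258 = n36227 := d3_1 D79258 (iv6 D36227) (iv2 F89189)
theorem F121609 : act 5 n79258 = n36294 := d21_6 (iv5 D12989) F16793 D8210 (iv6 F28446) D36079 D79258 (iv1 D36294) (iv5 F43424) (iv6 D26929) F21603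
def n79259 : Q := act 3 n36080
theorem D79259 : act 3 n36080 = n79259 := rfl
theorem F121610 : act 5 n79259 = n56335 := d6_2 F56815 D79259 F89099
theorem F121611 : act 7 n79259 = n36224 := d8_2 (iv7 F89187) D79259 (iv3 D36224)
theorem F121612 : act 4 n79259 = n58187 := d20_6 (iv4 F43805) (iv1 F43810) F28558 (iv3 F28482) (iv1 F56814) D79259 (iv1 D58187) (iv4 D27725) F22035 D13244
theorem F121613 : act 0 n79259 = n44900 := d21_7 (iv5 D4639) D4637 D10207 D21426 (iv1 F121329) D56335 (iv5 F121610) (iv5 D44900) (iv6 D21430) (iv1 D10211)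
def n79260 : Q := act 4 n36080
theorem D79260 : act 4 n36080 = n79260 := rfl
theorem F121614 : act 2 n79260 = n36230 := d1_1 D79260 (iv4 D36230) (iv2 F89186)
theorem F121615 : act 7 n79260 = n36225 := d11_2 (iv7 F89187) D79260 (iv4 D36225)
def n79261 : Q := act 6 n36080
theorem D79261 : act 6 n36080 = n79261 := rfl
theorem F121620 : act 0 n79261 = n36835 := d21_10 (iv5 D36835) (iv1 F28876) (iv5 F56795) (iv6 F56874) (iv1 F59744) (iv6 F88894) (iv5 F89119) (iv1 D56347) F56815 D79261
theorem F121622 : act 7 n79261 = n77220 := d15_2 (iv0 F88197) (iv0 F121620) (iv2 F115983)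
def n79262 : Q := act 0 n36081
theorem D79262 : act 0 n36081 = n79262 := rfl
def n79263 : Q := act 1 n36081
theorem D79263 : act 1 n36081 = n79263 := rfl
theorem F121623 : act 1 n79263 = n36237 := d15_1 D79263 (iv7 D36237) (iv2 F56816)
def n79264 : Q := act 3 n36081
theorem D79264 : act 3 n36081 = n79264 := rfl
theorem F121624 : act 6 n79264 = n36083 := d7_2 (iv6 F56817) D79264 (iv3 D36083)
def n79265 : Q := act 5 n36081
theorem D79265 : act 5 n36081 = n79265 := rfl
def n79266 : Q := act 7 n36081
theorem D79266 : act 7 n36081 = n79266 := rfl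
theorem F121626 : act 2 n79266 = n36237 := d4_1 D79266 (iv7 D36237) (iv2 F56816)
theorem F121627 : act 4 n79266 = n36082 := d11_1 D79266 (iv7 D36082) D36081
theorem F121628 : act 1 n36237 = n79262 := d15_0 (iv0 D79262) D79266 F121626
theorem F121629 : act 1 n36234 = n79266 := d15_1 D36234 (iv7 D79266) F56816
theorem F121630 : act 4 n39176 = n79262 := d20_6 (iv4 F41782) (iv1 D18626) (iv4 D8744) (iv3 F13633) D18586 D39176 (iv1 F121628) F56937 F28482 (iv1 F21577)
theorem F121631 : act 7 n79262 = n36234 := d11_2 (iv7 F121510) F121630 (iv4 F121511)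
theorem F121632 : act 0 n57444 = n39176 := d18_0 F121630 (iv1 F121628) F56937 F28483 (iv4 F28478) F56805 (iv4 F56807) (iv0 F120713) D57444
theorem F121633 : act 2 n36234 = n79263 := d15_3 F121623 F121628 F121631
theorem F121634 : act 2 n79262 = n36233 := d15_3 (iv0 D36233) D36234 (iv7 F121631)
theorem F121635 : act 4 n36233 = n57466 := d1_2 F121630 F121634 (iv2 F121512)
theorem F121636 : act 7 n36233 = n79263 := d4_2 (iv7 F121631) F121634 (iv2 F121633)
theorem F121637 : act 1 n79266 = n36233 := d15_1 F121629 F121636 (iv2 F121633)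
theorem F121638 : act 4 n56139 = n57553 := d20_6 (iv4 F121635) (iv1 F121637) F121627 (iv3 F88681) (iv1 F88684) D56139 (iv1 D57553) (iv4 D27513) (iv3 F44404) D57466
def n79267 : Q := act 6 n36082
theorem D79267 : act 6 n36082 = n79267 := rfl
theorem F121640 : act 3 n79267 = n77399 := d7_1 D79267 F116203 F88681
theorem F121641 : act 7 n79267 = n36086 := d14_2 D36082 D79267 (iv6 D36086) (iv7 D17458) (iv6 F28446)
theorem F121642 : act 0 n36293 = n79267 := d21_4 F43404 (iv1 F43329) D55656 (iv6 F88051) (iv6 D79267) F56819 (iv1 F28449) D17496 D36218 (iv1 F88057)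
theorem F121643 : act 1 n36294 = n79267 := d15_1 D36294 F121641 F56828
def n79268 : Q := act 0 n36083
theorem D79268 : act 0 n36083 = n79268 := rfl
def n79269 : Q := act 1 n36083
theorem D79269 : act 1 n36083 = n79269 := rfl
def n79270 : Q := act 2 n36083
theorem D79270 : act 2 n36083 = n79270 := rfl
theorem F121644 : act 3 n79270 = n36285 := d0_2 D36083 D79270 (iv2 D36285) (iv3 D17520) (iv2 F28451)
def n79271 : Q := act 5 n36083
theorem D79271 : act 5 n36083 = n79271 := rfl
theorem F121645 : act 3 n79271 = n36084 := d6_1 D79271 (iv5 D36084) D36083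
def n79272 : Q := act 7 n36083
theorem D79272 : act 7 n36083 = n79272 := rfl
theorem F121646 : act 3 n79272 = n36085 := d8_1 D79272 (iv7 D36085) D36083
def n79273 : Q := act 0 n36084
theorem D79273 : act 0 n36084 = n79273 := rfl
theorem F121648 : act 5 n79273 = n55660 := d17_1 D79273 (iv1 F88062) (iv5 F88280) F88279 (iv5 D35397) D35395 D77521 F116415 F88856
theorem F121649 : act 4 n79273 = n36487 := d18_3 F116406 F88856 D79273 (iv5 D36487) (iv4 D17614) F13431 (iv4 F28195) F56111 D77518
theorem F121650 : act 1 n36291 = n79273 := d15_0 (iv0 D79273) (iv7 F88854) F88850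
theorem F121651 : act 2 n36287 = n79273 := d1_3 F121649 F57312 F57021
theorem F121652 : act 7 n36288 = n79273 := d11_0 F121649 F57313 F57023
def n79274 : Q := act 1 n36084
theorem D79274 : act 1 n36084 = n79274 := rfl
theorem F121655 : act 5 n79274 = n36483 := d17_7 F21603 (iv5 D12989) F16793 D8210 D17457 D36084 D79274 F57302 F43422
theorem F121656 : act 4 n79274 = n56009 := d17_9 (iv1 F119145) (iv5 D77920) (iv1 D35553) D35555 F88272 F88270 F56245 D36084 D79274
def n79275 : Q := act 6 n36084
theorem D79275 : act 6 n36084 = n79275 := rfl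
def n79276 : Q := act 6 n36085
theorem D79276 : act 6 n36085 = n79276 := rfl
theorem F121660 : act 4 n79276 = n36086 := d10_1 D79276 (iv6 D36086) (iv4 F56825)
def n79277 : Q := act 1 n36086
theorem D79277 : act 1 n36086 = n79277 := rfl
theorem F121661 : act 1 n79277 = n36238 := d15_1 D79277 F56939 (iv2 F56828)
theorem F121662 : act 7 n79277 = n36293 := d15_2 (iv0 F88194) D79277 (iv2 F89172)
theorem F121663 : act 5 n36227 = n79277 := d21_6 (iv5 D8236) (iv1 D3707) D3708 (iv6 F12999) D17498 D36227 (iv1 D79277) (iv5 F56971) (iv6 D36246) (iv1 F28500)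
theorem F121664 : act 2 n79277 = n36294 := d2_1 F121663 (iv5 F121609) F121608
def n79278 : Q := act 0 n36087
theorem D79278 : act 0 n36087 = n79278 := rfl
theorem F121665 : act 4 n79278 = n73042 := d20_2 (iv4 F56830) D79278 (iv3 D73042) (iv1 D33653) (iv3 D16269) D16270 (iv1 F46087) F46088 F90250 (iv1 D57214)
theorem F121666 : act 3 n79278 = n47161 := d20_5 (iv4 F21375) (iv1 F21898) (iv4 F28457) D36087 D79278 F88663 (iv1 D56011) F43663 (iv3 D17451) (iv1 F21374)
theorem F121667 : act 1 n57448 = n79278 := d15_0 (iv0 D79278) F56831 D57448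
theorem F121668 : act 7 n57446 = n79278 := d8_0 F121666 (iv7 F116275) (iv3 F90633)
def n79279 : Q := act 1 n36087
theorem D79279 : act 1 n36087 = n79279 := rfl
theorem F121669 : act 4 n57600 = n79279 := d20_6 (iv4 D27322) F21834 F21248 D13164 D27526 D57600 (iv1 D79279) F56830 (iv3 D27409) (iv1 F44218)
def n79280 : Q := act 2 n36087
theorem D79280 : act 2 n36087 = n79280 := rfl
theorem F121670 : act 4 n79280 = n57215 := d1_2 (iv4 F56830) D79280 (iv2 D57215)
theorem F121671 : act 7 n79280 = n57448 := d4_2 (iv7 F56831) D79280 (iv2 D57448)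
theorem F121672 : act 1 n79280 = n57446 := d15_0 (iv0 D57446) (iv7 F56831) D79280
theorem F121673 : act 1 n79279 = n57448 := d15_1 D79279 (iv7 F121671) (iv2 D79280)
theorem F121674 : act 2 n57446 = n79279 := d15_3 F121673 F121667 (iv7 F121668)
theorem F121675 : act 7 n57447 = n79279 := d15_2 (iv0 D57446) D57447 (iv2 F121674)
theorem F121676 : act 2 n79278 = n57447 := d4_3 F121675 (iv2 F121674) F121668
theorem F121677 : act 1 n57447 = n79280 := d15_0 F121672 F121668 F121676
def n79281 : Q := act 6 n36087
theorem D79281 : act 6 n36087 = n79281 := rfl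
theorem F121678 : act 3 n79281 = n36088 := d7_1 D79281 (iv6 D36088) D36087
theorem F121679 : act 4 n79281 = n57217 := d10_1 D79281 (iv6 D57217) (iv4 F56830)
def n79282 : Q := act 5 n36088
theorem D79282 : act 5 n36088 = n79282 := rfl
def n79283 : Q := act 6 n36089
theorem D79283 : act 6 n36089 = n79283 := rfl
theorem F121680 : act 3 n79283 = n36090 := d7_1 D79283 (iv6 D36090) D36089
def n79285 : Q := act 6 n36091
theorem D79285 : act 6 n36091 = n79285 := rfl
def n79286 : Q := act 6 n36092
theorem D79286 : act 6 n36092 = n79286 := rfl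
theorem F121683 : act 2 n79286 = n36093 := d3_1 D79286 (iv6 D36093) D36092
def n79287 : Q := act 0 n36093
theorem D79287 : act 0 n36093 = n79287 := rfl
def n79288 : Q := act 1 n36093
theorem D79288 : act 1 n36093 = n79288 := rfl
def n79289 : Q := act 5 n36093
theorem D79289 : act 5 n36093 = n79289 := rfl
theorem F121684 : act 3 n79289 = n36099 := d6_1 D79289 (iv5 D36099) (iv3 F56839)
def n79290 : Q := act 7 n36093
theorem D79290 : act 7 n36093 = n79290 := rfl
theorem F121685 : act 3 n79290 = n36100 := d8_1 D79290 (iv7 D36100) (iv3 F56839)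
def n79291 : Q := act 3 n36094
theorem D79291 : act 3 n36094 = n79291 := rfl
theorem F121687 : act 5 n79291 = n36819 := d6_2 (iv5 F56840) D79291 (iv3 D36819)
def n79294 : Q := act 0 n36096
theorem D79294 : act 0 n36096 = n79294 := rfl
def n79295 : Q := act 1 n36096
theorem D79295 : act 1 n36096 = n79295 := rfl
def n79296 : Q := act 5 n36096
theorem D79296 : act 5 n36096 = n79296 := rfl
theorem F121693 : act 6 n79296 = n36099 := d12_2 D36096 D79296 (iv5 D36099) (iv6 D17463) D17462
def n79297 : Q := act 7 n36096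
theorem D79297 : act 7 n36096 = n79297 := rfl
theorem F121694 : act 3 n79297 = n70831 := d8_1 D79297 F107302 F86657
def n79298 : Q := act 3 n36097
theorem D79298 : act 3 n36097 = n79298 := rfl
theorem F121695 : act 4 n79298 = n57314 := d5_2 (iv4 F59782) D79298 (iv3 D57314) (iv4 D27441) D27440
def n79300 : Q := act 3 n36098
theorem D79300 : act 3 n36098 = n79300 := rfl
def n79302 : Q := act 6 n36098
theorem D79302 : act 6 n36098 = n79302 := rfl
theorem F121700 : act 4 n79302 = n57843 := d10_1 D79302 (iv6 D57843) (iv4 F61262)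
def n79303 : Q := act 0 n36099
theorem D79303 : act 0 n36099 = n79303 := rfl
def n79304 : Q := act 1 n36099
theorem D79304 : act 1 n36099 = n79304 := rfl
theorem F121701 : act 5 n79174 = n79304 := d21_6 (iv5 F56772) (iv1 F56774) (iv5 D17444) D17445 D36041 D79174 (iv1 D79304) (iv5 D36099) (iv6 D17463) D17459
def n79305 : Q := act 4 n36099
theorem D79305 : act 4 n36099 = n79305 := rfl
def n79306 : Q := act 7 n36099
theorem D79306 : act 7 n36099 = n79306 := rfl
theorem F121702 : act 5 n79306 = n36100 := d13_1 D79306 (iv7 D36100) D36099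
def n79307 : Q := act 3 n36103
theorem D79307 : act 3 n36103 = n79307 := rfl
def n79308 : Q := act 5 n36103
theorem D79308 : act 5 n36103 = n79308 := rfl
def n79309 : Q := act 6 n36103
theorem D79309 : act 6 n36103 = n79309 := rfl
theorem F121703 : act 2 n79309 = n40279 := d3_1 D79309 F61296 F60799
theorem F121704 : act 4 n79309 = n36105 := d10_1 D79309 (iv6 D36105) D36103
def n79310 : Q := act 4 n36104
theorem D79310 : act 4 n36104 = n79310 := rfl
theorem F121705 : act 7 n79310 = n79309 := d11_2 F59714 D79310 F121704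
def n79311 : Q := act 2 n36111
theorem D79311 : act 2 n36111 = n79311 := rfl
theorem F121706 : act 7 n36112 = n79311 := d15_2 (iv0 D36111) D36112 (iv2 D79311)
def n79312 : Q := act 3 n36111
theorem D79312 : act 3 n36111 = n79312 := rfl
def n79313 : Q := act 4 n36111
theorem D79313 : act 4 n36111 = n79313 := rfl
def n79314 : Q := act 5 n36111
theorem D79314 : act 5 n36111 = n79314 := rfl
def n79315 : Q := act 6 n36111
theorem D79315 : act 6 n36111 = n79315 := rfl
def n79316 : Q := act 7 n36111
theorem D79316 : act 7 n36111 = n79316 := rfl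
theorem F121707 : act 2 n79316 = n36112 := d4_1 D79316 F121706 (iv2 D79311)
def n79317 : Q := act 3 n36112
theorem D79317 : act 3 n36112 = n79317 := rfl
def n79318 : Q := act 4 n36112
theorem D79318 : act 4 n36112 = n79318 := rfl
def n79319 : Q := act 5 n36112
theorem D79319 : act 5 n36112 = n79319 := rfl
def n79320 : Q := act 6 n36112
theorem D79320 : act 6 n36112 = n79320 := rfl
def n79321 : Q := act 0 n36113
theorem D79321 : act 0 n36113 = n79321 := rfl
def n79322 : Q := act 1 n36113
theorem D79322 : act 1 n36113 = n79322 := rfl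
theorem F121708 : act 1 n79322 = n45839 := d15_1 D79322 (iv7 D45839) (iv2 F56856)
theorem F121709 : act 5 n45882 = n79322 := d21_6 F14311 F6297 (iv5 F6937) D10472 D21942 D45882 (iv1 D79322) (iv5 D36113) (iv6 D17467) F14312
theorem F121710 : act 2 n79322 = n45837 := d2_1 F121709 (iv5 F113491) F114005
theorem F121711 : act 3 n79322 = n77311 := d6_1 F121709 (iv5 D77311) (iv3 F72466)
theorem F121712 : act 7 n78618 = n79322 := d8_0 F121711 F119515 D78618
theorem F121713 : act 4 n79322 = n38850 := d20_6 D18853 (iv1 F56481) F56479 (iv3 F56472) F116112 (iv3 F121711) (iv1 D38850) (iv4 D18461) F13584 D8827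
theorem E13112 : n38698 = n36112 := (c18_8 (iv1 F121708) F121713 (iv1 D38850) (iv4 D18461) (iv5 D8678) (iv4 F13577) D18405 D38698 F56855 (iv5 F72387))
theorem E13113 : n79317 = n39979 := ((D79317).symm.trans (sb E13112 (iv3 F60846)))
theorem E13114 : n79318 = n18405 := ((D79318).symm.trans (sb E13112 (iv4 D38698)))
theorem F121714 : act 3 n39979 = n36112 := (sb E13113 (iv3 D79317))
theorem F121715 : act 4 n18405 = n36112 := (sb E13114 (iv4 D79318))
theorem F121716 : act 4 n79316 = n38696 := d1_2 F121715 (iv2 F121707) F59491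
theorem F121717 : act 4 n79320 = n38700 := d10_3 (iv6 D38700) F121715 D79320
theorem F121718 : act 4 n79311 = n38691 := d11_3 (iv7 F59490) F121715 F121706
theorem E13115 : n39796 = n38914 := (c20_8 (iv4 F121715) (iv1 D18405) F13577 F5850 D3930 D8818 D18823 D39796 F59952 (iv3 F34414) (iv1 F56855))
theorem E13116 : n58666 = n44965 := ((((iv1 F70702)).symm.trans (sb E13115 (iv1 F92654)))).symm
theorem E13117 : n44964 = n18823 := ((F70707).symm.trans (sb E13115 (iv0 D39796)))
theorem E13118 : n39797 = n21471 := ((((iv1 D44965)).symm.trans (sb E13116 (iv1 F92653)))).symm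
theorem F121719 : act 2 n44965 = n27898 := (sb E13116 F92651)
theorem F121720 : act 4 n44965 = n27897 := (sb E13116 (iv4 D58666))
theorem F121721 : act 7 n44965 = n39793 := (sb E13116 F92652)
theorem F121722 : act 0 n18823 = n38914 := (sb E13117 (iv1 F70707))
theorem F121723 : act 0 n21471 = n18823 := (sb E13118 (iv1 D39797))
theorem F121724 : act 4 n56890 = n44974 := d20_8 (iv4 F33747) F121723 (iv4 D18823) (iv3 D8818) (iv1 F9818) (iv3 F21971) (iv4 F44476) (iv1 F89930) (iv3 D44974) (iv1 D21473)
theorem E13119 : n40289 = n12868 := (c20_5 F9815 (iv1 F9356) F41672 D19042 D40289 F21366 (iv4 F33747) F121723 (iv4 D18823) (iv3 D8818) (iv1 F9818))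
theorem E13120 : n33907 = n26883 := (((D26883).symm.trans (sb E13119 (iv1 F61322)))).symm
theorem E13121 : n26884 = n19042 := ((D26884).symm.trans (sb E13119 (iv0 D40289)))
theorem E13122 : n40290 = n17474 := ((((iv1 F43365)).symm.trans (sb E13120 (iv1 F61326)))).symm
theorem E13124 : n55671 = n40283 := ((D55671).symm.trans (sb E13120 (iv3 F61298)))
theorem E13125 : n73779 = n55672 := (((D55672).symm.trans (sb E13120 (iv4 F110600)))).symm
theorem E13126 : n73832 = n55673 := (((D55673).symm.trans (sb E13120 D73832))).symm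
theorem E13127 : n73833 = n55674 := (((D55674).symm.trans (sb E13120 D73833))).symm
theorem F121725 : act 0 n19042 = n12868 := (sb E13121 (iv1 D26884))
theorem E13131 : n55678 = n40293 := (((D40293).symm.trans (sb E13121 D55678))).symm
theorem E13132 : n55679 = n40294 := (((D40294).symm.trans (sb E13121 D55679))).symm
theorem F121726 : act 0 n17474 = n19042 := (sb E13122 (iv1 D40290))
theorem F121728 : act 3 n40283 = n26883 := (sb E13124 (iv3 D55671))
theorem F121729 : act 2 n55672 = n33894 := (sb E13125 (iv2 D73779))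
theorem F121730 : act 2 n55673 = n33908 := (sb E13126 F110620)
theorem F121731 : act 2 n55674 = n33909 := (sb E13127 F110621)
theorem F121733 : act 1 n40293 = n56362 := (sb E13131 (iv0 F89196))
theorem E13133 : n36274 = n35771 := ((((iv6 F61332)).symm.trans (sb E13131 (iv6 F88087)))).symm
theorem F121734 : act 0 n40294 = n36206 := (sb E13132 (iv1 F118157))
theorem F121735 : act 1 n40294 = n36073 := (sb E13132 F120547)
theorem E13134 : n78515 = n55785 := ((D78515).symm.trans (sb E13133 (iv1 F88231)))
theorem E13135 : n78516 = n17517 := ((D78516).symm.trans (sb E13133 (iv0 D36274)))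
theorem F121736 : act 1 n55785 = n35771 := (sb E13134 (iv0 D78515))
theorem F121737 : act 0 n17517 = n35771 := (sb E13135 (iv1 D78516))
theorem F121738 : act 0 n56557 = n36809 := d21_10 (iv5 D36809) (iv1 D17741) D17742 F28851 (iv1 F16910) D17791 F28924 F121737 D78519 F119699
theorem F121739 : act 7 n36275 = n78517 := d15_2 (iv0 F121737) D36275 (iv2 D78517)
theorem F121740 : act 2 n55892 = n36275 := d4_3 F121739 (iv2 D78517) (iv7 F88422)
theorem F121741 : act 3 n36275 = n78525 := d0_2 D55892 F121740 (iv2 D78525) (iv3 D35774) F53118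
theorem F121742 : act 1 n56557 = n36804 := d15_1 (iv0 F121738) F118176 (iv2 F118161)
theorem F121743 : act 0 n78519 = n36923 := d21_4 (iv5 F56810) (iv1 F121735) (iv5 F89437) (iv6 F119699) (iv6 D36923) (iv5 D17775) (iv1 F28855) (iv5 F57725) F57726 (iv1 F57728)
theorem E13136 : n79191 = n36434 := ((c2_3 (iv5 F88085) F121731 (iv5 F57211) F120472)).symm
theorem F121745 : act 2 n36434 = n36055 := (sb E13136 F120472)
theorem E13137 : n36054 = n35259 := (((F57212).symm.trans (sb E13136 (iv7 D79191)))).symm
theorem E13138 : n77231 = n36254 := ((D77231).symm.trans (sb E13137 (iv1 F56989)))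
theorem E13140 : n79187 = n77233 := (((D77233).symm.trans (sb E13137 D79187))).symm
theorem E13143 : n55858 = n55759 := (((iv5 F88350)).symm.trans (sb E13137 (iv5 F88195)))
theorem E13144 : n79190 = n77235 := (((D77235).symm.trans (sb E13137 D79190))).symm
theorem F121746 : act 1 n36254 = n35259 := (sb E13138 (iv0 D77231))
theorem F121748 : act 7 n77233 = n36055 := (sb E13140 (iv7 F120469))
theorem F121749 : act 3 n55759 = n26946 := (sb E13143 (iv3 D55858))
theorem F121750 : act 5 n55759 = n35259 := (sb E13143 F88350)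
theorem E13145 : n36341 = n36204 := (((F88196).symm.trans (sb E13143 F88351))).symm
theorem E13146 : n37107 = n36962 := ((F116000).symm.trans (sb E13144 F120470))
theorem F121754 : act 3 n36204 = n17549 := (sb E13145 (iv3 D36341))
theorem E13147 : n37020 = n36921 := (((F89136).symm.trans (sb E13145 (iv5 F57964)))).symm
theorem F121755 : act 7 n36204 = n40294 := (sb E13145 F61334)
theorem F121756 : act 3 n36962 = n17854 := (sb E13146 (iv3 D37107))
theorem F121757 : act 5 n36962 = n77235 := (sb E13146 (iv5 F116000))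
theorem F121758 : act 7 n36962 = n37128 := (sb E13146 (iv7 F58065))
theorem F121759 : act 3 n36921 = n17816 := (sb E13147 (iv3 D37020))
theorem F121760 : act 7 n36921 = n56557 := (sb E13147 (iv7 F89438))
theorem F121761 : act 2 n56557 = n36920 := d15_3 (iv0 D36920) D36921 F121760
theorem F121762 : act 2 n36134 = n40294 := d2_3 (iv5 F89437) F121761 F57850
theorem F121763 : act 3 n73993 = n36134 := d0_0 F121762 F61333 F53073 (iv3 F53295) (iv2 F110751)
theorem E13148 : n40291 = n17472 := (c3_4 D36134 F121762 (iv6 D40294) D40291)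
theorem E13149 : n33906 = n8221 := ((((iv1 D17472)).symm.trans (sb E13148 (iv1 F61327)))).symm
theorem E13150 : n33905 = n26886 := (((F43366).symm.trans (sb E13148 F61325))).symm
theorem E13154 : n17471 = n16392 := ((D17471).symm.trans (sb E13149 (iv1 D33906)))
theorem E13161 : n73823 = n21475 := (((F43363).symm.trans (sb E13150 D73823))).symm
theorem E13162 : n73824 = n55669 := ((((iv4 F88079)).symm.trans (sb E13150 D73824))).symm
theorem F121767 : act 0 n16392 = n26886 := (sb E13154 (iv1 F43367))
theorem F121768 : act 1 n16392 = n8221 := (sb E13154 (iv0 D17471))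
theorem E13167 : n36128 = n33908 := (((D33908).symm.trans (sb E13154 D36128))).symm
theorem E13168 : n36129 = n33909 := (((D33909).symm.trans (sb E13154 D36129))).symm
theorem E13169 : n58670 = n44967 := ((((iv4 F70705)).symm.trans (sb E13161 F110617))).symm
theorem E13170 : n57898 = n36122 := ((((iv1 F88082)).symm.trans (sb E13162 F110618))).symm
theorem E13171 : n73834 = n55744 := ((D73834).symm.trans (sb E13167 F89048))
theorem E13172 : n73838 = n55657 := ((D73838).symm.trans (sb E13168 (iv1 F89169)))
theorem E13173 : n73839 = n55762 := ((D73839).symm.trans (sb E13168 (iv0 F89040)))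
theorem E13174 : n36434 = n36253 := (((iv5 F57211)).symm.trans (sb E13168 F56984))
theorem E13175 : n38912 = n27898 := (((iv1 F70708)).symm.trans (sb E13169 (iv1 D58670)))
theorem E13176 : n39793 = n38911 := (((F70709).symm.trans (sb E13169 F92663))).symm
theorem F121769 : act 4 n36122 = n27631 := (sb E13170 (iv4 D57898))
theorem F121770 : act 1 n55744 = n33908 := (sb E13171 (iv0 D73834))
theorem F121771 : act 1 n55657 = n33909 := (sb E13172 (iv0 D73838))
theorem F121772 : act 0 n55762 = n33909 := (sb E13173 (iv1 D73839))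
theorem F121773 : act 2 n36253 = n36055 := (sb E13174 F121745)
theorem F121774 : act 3 n36253 = n17591 := (sb E13174 (iv3 D36434))
theorem F121775 : act 5 n36253 = n33909 := (sb E13174 F57211)
theorem F121776 : act 7 n36253 = n35259 := (sb E13174 F57212)
theorem E13177 : n58669 = n18483 := ((D58669).symm.trans (sb E13175 (iv1 D38912)))
theorem F121777 : act 1 n27898 = n44967 := (sb E13175 F70708)
theorem F121779 : act 4 n38911 = n18822 := (sb E13176 (iv4 D39793))
theorem F121780 : act 7 n38911 = n44965 := (sb E13176 (iv7 F121721))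
theorem F121781 : act 1 n18483 = n27898 := (sb E13177 (iv0 D58669))
theorem E13178 : n78115 = n10085 := (((F29667).symm.trans (sb E13177 (iv4 F119298)))).symm
theorem E13179 : n35620 = n21161 := (((D21161).symm.trans (sb E13178 (iv0 D78115)))).symm
theorem E13182 : n44497 = n17251 := ((D44497).symm.trans (sb E13179 (iv3 D35620)))
theorem E13183 : n78118 = n44498 := (((D44498).symm.trans (sb E13179 D78118))).symm
theorem E13184 : n78119 = n44499 := (((D44499).symm.trans (sb E13179 D78119))).symm
theorem E13185 : n78120 = n44500 := (((D44500).symm.trans (sb E13179 D78120))).symm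
theorem E13186 : n78090 = n44491 := (((F70007).symm.trans (sb E13179 (iv7 F119278)))).symm
theorem F121782 : act 3 n17251 = n21161 := (sb E13182 (iv3 D44497))
theorem F121783 : act 1 n44498 = n39785 := (sb E13183 (iv0 F119299))
theorem F121784 : act 3 n44499 = n35622 := (sb E13184 F119300)
theorem F121785 : act 3 n44500 = n35623 := (sb E13185 F119301)
theorem F121786 : act 3 n44491 = n35614 := (sb E13186 (iv3 D78090))
theorem E13187 : n78096 = n44492 := (c0_4 F121786 (iv2 D35614) D35615 D78096 (iv3 D44492) D44491)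
theorem F121788 : act 2 n44492 = n35615 := (sb E13187 (iv2 D78096))
theorem E13188 : n45828 = n37789 := (c20_1 D45828 (iv1 F58642) F29568 F13582 (iv1 F9820) D13302 D27898 (iv1 F121781) F29667 (iv3 F16654) D21920)
theorem E13189 : n40205 = n21920 := (((iv4 F61195)).symm.trans (sb E13188 (iv4 D45828)))
theorem E13190 : n45827 = n18986 := ((D45827).symm.trans (sb E13189 (iv3 D40205)))
theorem F121789 : act 4 n21920 = n37789 := (sb E13189 F61195)
theorem F121790 : act 3 n18986 = n21920 := (sb E13190 (iv3 D45827))
theorem F121791 : act 3 n45829 = n40207 := d6_3 (iv5 D40207) F121790 D45829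
theorem F121792 : act 3 n45830 = n40208 := d7_3 (iv6 D40208) F121790 D45830
theorem F121793 : act 3 n45831 = n40209 := d8_3 (iv7 D40209) F121790 D45831
theorem F121794 : act 2 n40210 = n45832 := d0_3 F121793 F61196 D40210 (iv3 D45832) (iv2 F72384)
theorem F121795 : act 0 n36132 = n73778 := d20_1 D36132 (iv4 F110599) (iv3 D39813) (iv1 F45025) F45023 (iv4 F121779) (iv1 F70709) F70705 (iv3 F43363) (iv1 F43366)
theorem F121796 : act 7 n36132 = n55672 := d15_2 D73778 (iv0 F121795) F121729
theorem F121797 : act 2 n40292 = n36132 := d4_3 F121796 F121729 (iv7 F61329)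
theorem E13191 : n57781 = n44492 := (c20_9 (iv4 F70705) (iv1 F121777) (iv4 D27898) (iv3 D13302) (iv1 D6310) (iv3 F9761) (iv4 F21966) D27580 D57781 (iv3 D44492) (iv1 F33755))
theorem F121799 : act 4 n44492 = n27580 := (sb E13191 (iv4 D57781))
theorem E13192 : n57779 = n56889 := (c1_2 F121799 D57779 (iv4 F89937) (iv2 F121788))
theorem F121800 : act 2 n56889 = n27580 := (sb E13192 (iv2 D57779))
theorem F121801 : act 7 n56889 = n27581 := (sb E13192 (iv7 F90944))
theorem E13193 : n38816 = n21919 := (c20_2 D18456 (iv1 F59840) F34411 F16654 D21160 D44492 F121799 (iv1 F89938) F89933 F44190 (iv1 F29295))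
theorem E13194 : n45822 = n18451 := ((D45822).symm.trans (sb E13193 (iv1 D38816)))
theorem E13195 : n45823 = n18456 := ((D45823).symm.trans (sb E13193 F59840))
theorem E13196 : n38815 = n38280 := ((D38815).symm.trans (sb E13194 (iv1 F72380)))
theorem F121802 : act 1 n18451 = n21919 := (sb E13194 (iv0 D45822))
theorem F121803 : act 0 n18456 = n21919 := (sb E13195 (iv1 D45823))
theorem F121804 : act 0 n38280 = n18456 := (sb E13196 (iv1 F59844))
theorem F121805 : act 1 n38280 = n18451 := (sb E13196 (iv0 D38815))
theorem F121806 : act 1 n45838 = n38847 := d18_6 (iv1 F29295) D18456 F121803 F34411 D21922 D45838 (iv4 D38847) F58654 F58652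
theorem E13197 : n39818 = n38808 := ((c20_11 (iv4 F119287) (iv1 F119292) (iv4 D35621) F121782 (iv1 D21161) (iv3 F16654) (iv4 F34411) (iv1 F121802) (iv4 D18451) D18450 D38808)).symm
theorem F121807 : act 3 n38808 = n18840 := (sb E13197 (iv3 D39818))
theorem F121808 : act 4 n38808 = n78100 := (sb E13197 (iv4 F119287))
theorem E13198 : n78099 = n57786 := ((c11_2 F121801 D57786 (iv7 D78099) F89937)).symm
theorem E13199 : n35619 = n35602 := (((F90946).symm.trans (sb E13198 F119286))).symm
theorem F121809 : act 7 n57786 = n35615 := (sb E13198 (iv7 D78099))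
theorem E13200 : n78089 = n17246 := ((((iv1 D35602)).symm.trans (sb E13199 (iv1 F119277)))).symm
theorem E13203 : n78105 = n78056 := (((D78056).symm.trans (sb E13199 (iv4 F119291)))).symm
theorem E13204 : n78110 = n78057 := (((D78057).symm.trans (sb E13199 (iv5 F119295)))).symm
theorem E13205 : n78114 = n78058 := (((D78058).symm.trans (sb E13199 D78114))).symm
theorem E13207 : n35614 = n35601 := (((D35601).symm.trans (sb E13200 (iv1 D78089)))).symm
theorem F121812 : act 7 n78056 = n35616 := (sb E13203 (iv7 D78105))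
theorem F121813 : act 2 n78057 = n35622 := (sb E13204 F119294)
theorem F121814 : act 7 n78057 = n35617 := (sb E13204 (iv7 D78110))
theorem F121815 : act 2 n78058 = n35623 := (sb E13205 F119297)
theorem E13208 : n78052 = n44491 := ((D78052).symm.trans (sb E13207 (iv3 F121786)))
theorem E13209 : n78091 = n78053 := (((D78053).symm.trans (sb E13207 D78091))).symm
theorem E13210 : n78092 = n78054 := (((D78054).symm.trans (sb E13207 D78092))).symm
theorem E13211 : n78093 = n77178 := ((((iv6 F115934)).symm.trans (sb E13207 D78093))).symm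
theorem F121819 : act 3 n44491 = n35601 := (sb E13208 (iv3 D78052))
theorem F121820 : act 2 n78053 = n35616 := (sb E13209 F119279)
theorem F121821 : act 7 n78053 = n35621 := (sb E13209 F119280)
theorem F121822 : act 2 n78054 = n35617 := (sb E13210 F119281)
theorem F121824 : act 2 n77178 = n35618 := (sb E13211 F119283)
theorem E13212 : n57784 = n56890 := (c15_4 F89930 F89935 F121801 (iv2 F90945))
theorem F121825 : act 2 n56890 = n27581 := (sb E13212 F90945)
theorem F121826 : act 7 n56890 = n27580 := (sb E13212 (iv7 D57784))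
theorem F121827 : act 7 n44492 = n44974 := d11_2 F121826 (iv4 F121799) (iv4 F121724)
theorem F121828 : act 2 n44974 = n57786 := d4_1 F121827 F121809 (iv2 F121788)
theorem E13213 : n44968 = n21160 := (c8_3 F121827 (iv3 D44974) F70710 D44492)
theorem E13214 : n44491 = n21472 := ((D44491).symm.trans (sb E13213 (iv2 D44968)))
theorem E13215 : n44496 = n21473 := ((D44496).symm.trans (sb E13213 (iv7 F70710)))
theorem F121829 : act 2 n21472 = n21160 := (sb E13214 (iv2 D44491))
theorem E13216 : n44969 = n35601 := ((D44969).symm.trans (sb E13214 F121819))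
theorem E13217 : n44973 = n21161 := ((D44973).symm.trans (sb E13214 (iv7 F70007)))
theorem F121830 : act 7 n21473 = n21160 := (sb E13215 (iv7 D44496))
theorem F121831 : act 3 n35601 = n21472 := (sb E13216 (iv3 D44969))
theorem F121832 : act 2 n21161 = n21473 := (sb E13217 F70711)
theorem F121833 : act 7 n21161 = n21472 := (sb E13217 (iv7 D44973))
theorem F121834 : act 1 n78095 = n44974 := d15_1 D78095 (iv7 F121827) F121788
theorem F121835 : act 7 n44970 = n44498 := d11_2 F121833 D44970 (iv4 D44498)
theorem F121836 : act 7 n44971 = n44499 := d13_2 F121833 D44971 (iv5 D44499)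
theorem F121838 : act 2 n44975 = n44498 := d1_3 (iv4 D44498) F121832 D44975
theorem F121839 : act 2 n44976 = n44499 := d2_3 (iv5 D44499) F121832 D44976
theorem F121840 : act 2 n44977 = n44500 := d3_3 (iv6 D44500) F121832 D44977
theorem F121841 : act 3 n44972 = n77178 := d7_3 F115934 F121831 D44972
theorem F121842 : act 0 n58658 = n44970 := d20_1 D58658 (iv4 D44970) (iv3 F121831) (iv1 F56282) F28205 F12876 (iv1 F18165) F37327 D13302 D27895
theorem F121843 : act 5 n77176 = n44972 := d6_0 F121841 (iv5 D77178) D77176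
theorem F121844 : act 0 n77176 = n40444 := d21_7 (iv5 D10207) (iv1 F6690) D4652 D10249 D21472 D44972 (iv5 F121843) (iv5 D40444) (iv6 D19113) (iv1 F16127)
theorem F121845 : act 7 n44493 = n44975 := d11_2 F121830 D44493 (iv4 D44975)
theorem F121846 : act 7 n44494 = n44976 := d13_2 F121830 D44494 (iv5 D44976)
theorem F121847 : act 2 n44971 = n44494 := d4_3 F121846 F121839 (iv7 F121836)
theorem F121848 : act 2 n44970 = n44493 := d4_3 F121845 F121838 (iv7 F121835)
theorem F121849 : act 1 n39785 = n44493 := d15_1 F121783 F121845 F121838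
theorem F121850 : act 1 n58658 = n44975 := d15_1 (iv0 F121842) (iv7 F121845) (iv2 F121848)
theorem E13218 : n39784 = n38829 := (c20_4 D44493 (iv1 F121849) (iv4 D39785) D39784 (iv1 D38829) (iv3 D18455) D18456 F121803 F34411 F16654 D21160)
theorem F121851 : act 3 n38829 = n18820 := (sb E13218 (iv3 D39784))
theorem F121852 : act 4 n38829 = n73938 := (sb E13218 F110729)
theorem F121853 : act 2 n44495 = n44972 := d3_3 (iv6 D44972) F121829 D44495
theorem F121854 : act 1 n44974 = n78094 := d15_0 (iv0 D78094) (iv7 F121809) (iv2 F121828)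
theorem E13219 : n77175 = n77062 := ((c2_3 D77178 F121824 F115791 F115933)).symm
theorem F121855 : act 2 n77062 = n35231 := (sb E13219 F115933)
theorem F121856 : act 7 n77062 = n35230 := (sb E13219 (iv7 D77175))
theorem E13220 : n78113 = n55853 := ((c13_2 F121856 (iv5 F121376) (iv7 D78113) F115791)).symm
theorem F121857 : act 7 n55853 = n35618 := (sb E13220 (iv7 D78113))
theorem E13221 : n77170 = n77061 := (c15_4 (iv0 D77061) D77062 F121856 D77170)
theorem F121858 : act 2 n77061 = n35230 := (sb E13221 (iv2 D77170))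
theorem F121859 : act 7 n77061 = n35231 := (sb E13221 (iv7 F115932))
theorem F121860 : act 2 n37047 = n56551 := d2_3 F120936 F121815 (iv5 F120880)
theorem F121861 : act 7 n56552 = n37047 := d15_2 (iv0 D56551) D56552 F121860
theorem F121862 : act 7 n37046 = n56551 := d15_2 F89422 F89423 (iv2 F121860)
theorem F121864 : act 5 n78129 = n56552 := d13_3 F121861 F120880 D78129
theorem E13222 : n78482 = n78125 := ((c3_3 F119247 F121813 D78125 (iv2 D78482))).symm
theorem F121866 : act 7 n78125 = n35761 := (sb E13222 (iv7 F119684))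
theorem E13223 : n78486 = n78457 := (c15_4 F119645 F119647 F121866 (iv2 F119685))
theorem F121867 : act 2 n78457 = n35761 := (sb E13223 F119685)
theorem F121868 : act 7 n78457 = n35760 := (sb E13223 (iv7 D78486))
theorem E13224 : n77233 = n36252 := (c15_4 (iv0 D36252) D36253 F121776 D77233)
theorem F121869 : act 2 n36252 = n35259 := (sb E13224 (iv2 D77233))
theorem F121870 : act 7 n36252 = n36055 := (sb E13224 F121748)
theorem E13225 : n79192 = n77238 := ((c0_4 F121774 (iv2 F53084) D35261 D77238 (iv3 D79192) (iv2 F121773))).symm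
theorem F121871 : act 3 n77238 = n36055 := (sb E13225 (iv3 D79192))
theorem F121872 : act 5 n56363 = n73835 := d21_6 (iv5 F115982) (iv1 F115984) (iv5 D36052) D36053 D79186 (iv6 F120468) (iv1 D73835) (iv5 D33908) D33909 (iv1 F121771)
theorem F121875 : act 0 n36133 = n73835 := d21_1 D36133 (iv5 F121872) F120468 (iv1 F120466) (iv6 F89117) (iv5 D36672) (iv1 F59726) (iv5 F28464) (iv6 F43364) (iv1 F43366)
theorem F121876 : act 7 n36133 = n55673 := d15_2 D73835 (iv0 F121875) F121730
theorem F121877 : act 2 n40293 = n36133 := d4_3 F121876 F121730 (iv7 F61331)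
theorem E13226 : n78517 = n55783 := ((c3_3 F61332 F121877 (iv6 F88224) (iv2 D78517))).symm
theorem F121880 : act 7 n55783 = n36275 := (sb E13226 (iv7 F121739))
theorem E13227 : n55892 = n55784 := (c15_4 F88225 F88229 F121880 (iv2 F121740))
theorem F121882 : act 3 n55784 = n26960 := (sb E13227 (iv3 D55892))
theorem E13228 : n79313 = n18404 := (c20_1 D79313 (iv1 F58644) F58640 (iv3 F44190) (iv1 F44193) D27631 (iv4 F121769) (iv1 D36122) F28467 (iv3 F28466) D36111)
theorem E13229 : n38693 = n36111 := ((D38693).symm.trans (sb E13228 (iv4 D79313)))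
theorem F121884 : act 4 n36111 = n18404 := (sb E13229 (iv4 D38693))
theorem F121885 : act 4 n38695 = n79315 := d10_3 (iv6 D79315) F121884 D38695
theorem E13230 : n38278 = n37800 := ((c20_1 D37800 (iv1 D38278) F29479 F28466 (iv1 F121768) (iv3 D16392) (iv4 D7606) (iv1 F9362) F9358 (iv3 F13582) (iv1 F29289))).symm
theorem F121886 : act 0 n37800 = n18281 := (sb E13230 (iv1 D38278))
theorem F121887 : act 1 n37800 = n45825 := (sb E13230 F72381)
theorem F121889 : act 2 n37128 = n36961 := d15_3 (iv0 D36961) D36962 F121758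
theorem F121890 : act 4 n55666 = n56894 := d20_2 (iv4 F43357) D55666 (iv3 D56894) (iv1 F44192) F21971 F9815 (iv1 F9356) F41672 D19042 F121725
theorem E13231 : n45833 = n37790 := (c20_1 D45833 (iv1 D37790) F29288 (iv3 F21813) D27310 D56894 (iv4 F121890) (iv1 F88081) F56868 (iv3 F56860) (iv1 F56863))
theorem F121891 : act 4 n37790 = n21921 := (sb E13231 (iv4 D45833))
theorem F121892 : act 0 n45832 = n73983 := d20_10 F110747 (iv1 D58641) (iv4 D27889) (iv3 D13297) (iv1 F9819) (iv3 F13582) (iv4 F29568) (iv1 F58636) F121891 D45832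
theorem E13232 : n38277 = n37795 := ((c20_1 D37795 (iv1 F72382) F72378 F34414 (iv1 F33748) D44974 (iv4 F121724) (iv1 D56890) F44184 F21813 D18124)).symm
theorem F121893 : act 0 n37795 = n45825 := (sb E13232 (iv1 F72382))
theorem F121894 : act 1 n37795 = n18281 := (sb E13232 (iv0 D38277))
theorem F121895 : act 0 n58657 = n37794 := d20_4 D44975 (iv1 F121850) (iv4 D58658) D58657 (iv3 D37794) D37795 F121893 F72378 F34414 (iv1 F33748)
theorem F121896 : act 3 n79320 = n36317 := d7_3 (iv6 F119053) F121714 D79320
theorem F121897 : act 2 n78618 = n79321 := d15_3 (iv0 D79321) D79322 (iv7 F121712)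
theorem F121898 : act 7 n79321 = n45837 := d4_2 (iv7 F121712) F121897 (iv2 F121710)
theorem E13233 : n78618 = n45836 := (c15_4 (iv0 D45836) D45837 (iv7 F121898) (iv2 F121897))
theorem F121899 : act 2 n45836 = n79321 := (sb E13233 F121897)
theorem F121900 : act 3 n45836 = n35812 := (sb E13233 (iv3 D78618))
theorem F121901 : act 7 n45836 = n79322 := (sb E13233 F121712)
theorem F121902 : act 1 n45839 = n79321 := d15_1 F121708 F121898 (iv2 F121710)
theorem F121903 : act 5 n45969 = n79321 := d21_0 (iv1 F121902) F72387 F59756 (iv1 F59463) D38667 (iv5 F72528) F72532 (iv5 D21967) D21968 D45969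
theorem F121904 : act 7 n75646 = n45969 := d13_0 F121903 F121898 (iv5 F113491)
theorem F121905 : act 4 n45969 = n75656 := d11_1 F121904 (iv7 D75656) (iv4 F113490)
theorem F121906 : act 5 n75656 = n38701 := d17_5 (iv1 D36112) D36113 D79321 (iv5 F121903) F121905 (iv0 D38701) (iv5 D18406) D18405 F121715
theorem F121907 : act 7 n38701 = n75655 := d13_2 D75656 F121906 (iv5 D75655)
def n79323 : Q := act 4 n36113
theorem D79323 : act 4 n36113 = n79323 := rfl
theorem F121908 : act 2 n79323 = n45838 := d1_1 D79323 (iv4 D45838) (iv2 F56856)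
theorem F121909 : act 6 n79323 = n36255 := d10_2 (iv6 F56858) D79323 (iv4 D36255)
theorem F121910 : act 1 n79323 = n75736 := d18_6 (iv1 F29289) D37800 F121886 F29479 D36113 D79323 (iv4 D75736) (iv0 F54891) (iv5 D18448)
def n79324 : Q := act 7 n36113
theorem D79324 : act 7 n36113 = n79324 := rfl
theorem F121912 : act 3 n79324 = n36138 := d8_1 D79324 (iv7 D36138) (iv3 F56857)
theorem F121913 : act 5 n79324 = n36114 := d13_1 D79324 (iv7 D36114) D36113
theorem F121915 : act 1 n45837 = n79324 := d15_1 D45837 (iv7 D79324) F56856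
theorem F121916 : act 1 n79324 = n45836 := d15_1 F121915 F121901 F121710
def n79325 : Q := act 3 n36115
theorem D79325 : act 3 n36115 = n79325 := rfl
def n79326 : Q := act 6 n36115
theorem D79326 : act 6 n36115 = n79326 := rfl
def n79327 : Q := act 6 n36116
theorem D79327 : act 6 n36116 = n79327 := rfl
theorem F121917 : act 4 n79327 = n38548 := d10_1 D79327 (iv6 D38548) F56865
def n79328 : Q := act 6 n36117
theorem D79328 : act 6 n36117 = n79328 := rfl
def n79329 : Q := act 0 n36118
theorem D79329 : act 0 n36118 = n79329 := rfl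
theorem F121919 : act 5 n79329 = n36845 := d17_1 D79329 (iv1 F57781) (iv5 F61028) F61027 (iv5 F88023) F88025 F83666 F71222 F58254
theorem F121920 : act 1 n70760 = n79329 := d15_0 (iv0 D79329) (iv7 F88110) (iv2 F107239)
theorem F121921 : act 2 n79158 = n79329 := d2_3 F121919 (iv2 F57784) D79158
theorem F121922 : act 7 n79156 = n79329 := d13_0 F121919 (iv7 F57786) D79156
def n79330 : Q := act 1 n36118
theorem D79330 : act 1 n36118 = n79330 := rfl
theorem F121924 : act 7 n79330 = n79158 := d15_2 (iv0 D79329) D79330 F121921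
theorem F121925 : act 2 n79156 = n79330 := d4_3 F121924 F121921 (iv7 F121922)
theorem F121926 : act 3 n56916 = n79330 := d8_3 F121924 F120444 (iv7 F89979)
theorem F121927 : act 5 n36846 = n79330 := d13_3 F121924 (iv5 D79158) (iv7 F57783)
def n79331 : Q := act 6 n36118
theorem D79331 : act 6 n36118 = n79331 := rfl
theorem F121928 : act 3 n79331 = n36120 := d7_1 D79331 (iv6 D36120) (iv3 F56866)
def n79332 : Q := act 0 n36119
theorem D79332 : act 0 n36119 = n79332 := rfl
def n79333 : Q := act 1 n36119
theorem D79333 : act 1 n36119 = n79333 := rfl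
def n79335 : Q := act 7 n36119
theorem D79335 : act 7 n36119 = n79335 := rfl
theorem F121930 : act 3 n79335 = n36124 := d8_1 D79335 (iv7 D36124) (iv3 F56867)
def n79336 : Q := act 0 n36120
theorem D79336 : act 0 n36120 = n79336 := rfl
def n79337 : Q := act 1 n36120
theorem D79337 : act 1 n36120 = n79337 := rfl
def n79339 : Q := act 7 n36120
theorem D79339 : act 7 n36120 = n79339 := rfl
def n79340 : Q := act 2 n36121
theorem D79340 : act 2 n36121 = n79340 := rfl
theorem F121932 : act 7 n36122 = n79340 := d15_2 (iv0 D36121) D36122 (iv2 D79340)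
theorem F121933 : act 4 n79340 = n57871 := d11_1 F121932 F91604 (iv4 F121769)
def n79341 : Q := act 3 n36121
theorem D79341 : act 3 n36121 = n79341 := rfl
def n79342 : Q := act 4 n36121
theorem D79342 : act 4 n36121 = n79342 := rfl
theorem F121934 : act 2 n79342 = n57871 := d1_1 D79342 (iv4 F121933) (iv2 D79340)
theorem F121935 : act 3 n57877 = n79342 := d0_0 F121934 (iv3 D57871) (iv2 D27625) D27626 D57877
theorem F121936 : act 7 n57897 = n79342 := d4_0 F121934 F91604 D57897
theorem F121937 : act 1 n79342 = n57895 := d15_0 (iv0 D57895) (iv7 F91604) (iv2 F121934)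
def n79344 : Q := act 6 n36121
theorem D79344 : act 6 n36121 = n79344 := rfl
def n79345 : Q := act 7 n36121
theorem D79345 : act 7 n36121 = n79345 := rfl
theorem F121939 : act 2 n79345 = n36122 := d4_1 D79345 F121932 (iv2 D79340)
theorem F121940 : act 4 n79345 = n57897 := d11_1 D79345 F121936 (iv4 D79342)
def n79346 : Q := act 3 n36122
theorem D79346 : act 3 n36122 = n79346 := rfl
theorem F121941 : act 4 n79346 = n57901 := d5_2 (iv4 F121769) D79346 (iv3 D57901) (iv4 D27632) D27631
def n79347 : Q := act 5 n36122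
theorem D79347 : act 5 n36122 = n79347 := rfl
def n79348 : Q := act 6 n36122
theorem D79348 : act 6 n36122 = n79348 := rfl
theorem F121942 : act 4 n79348 = n57900 := d10_1 D79348 (iv6 D57900) (iv4 F121769)
def n79349 : Q := act 0 n36123
theorem D79349 : act 0 n36123 = n79349 := rfl
def n79350 : Q := act 1 n36123
theorem D79350 : act 1 n36123 = n79350 := rfl
theorem F121944 : act 5 n79134 = n79350 := d21_6 (iv5 F56777) (iv1 D36015) (iv5 D17435) D17436 D36017 D79134 (iv1 D79350) (iv5 D36123) (iv6 D17470) (iv1 F28460)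
def n79352 : Q := act 7 n36123
theorem D79352 : act 7 n36123 = n79352 := rfl
def n79353 : Q := act 3 n36132
theorem D79353 : act 3 n36132 = n79353 := rfl
def n79355 : Q := act 6 n36132
theorem D79355 : act 6 n36132 = n79355 := rfl
theorem F121946 : act 4 n79355 = n36134 := d10_1 D79355 (iv6 D36134) D36132
def n79357 : Q := act 4 n36136
theorem D79357 : act 4 n36136 = n79357 := rfl
def n79358 : Q := act 0 n36137
theorem D79358 : act 0 n36137 = n79358 := rfl
def n79359 : Q := act 1 n36137
theorem D79359 : act 1 n36137 = n79359 := rfl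
def n79360 : Q := act 3 n36137
theorem D79360 : act 3 n36137 = n79360 := rfl
theorem F121948 : act 6 n79360 = n36257 := d7_2 (iv6 F56872) D79360 (iv3 D36257)
def n79362 : Q := act 7 n36137
theorem D79362 : act 7 n36137 = n79362 := rfl
theorem F121949 : act 4 n79362 = n36138 := d11_1 D79362 (iv7 D36138) D36137
def n79363 : Q := act 4 n36139
theorem D79363 : act 4 n36139 = n79363 := rfl
def n79364 : Q := act 6 n36139
theorem D79364 : act 6 n36139 = n79364 := rfl
def n79365 : Q := act 3 n36140
theorem D79365 : act 3 n36140 = n79365 := rfl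
def n79366 : Q := act 4 n36140
theorem D79366 : act 4 n36140 = n79366 := rfl
theorem F121951 : act 3 n79366 = n78044 := d19_3 F61863 F72261 D79366 (iv1 F119231) F94524 F52949 F44349 (iv1 F43036) (iv5 D26777) (iv4 F21820) F21817 (iv1 F13128) F13126 F9463 F9462 F6033 (iv5 F13834) D18926 D40033
def n79368 : Q := act 4 n36141
theorem D79368 : act 4 n36141 = n79368 := rfl
theorem F121952 : act 2 n79368 = n36142 := d1_1 D79368 (iv4 D36142) D36141
theorem F121953 : act 3 n79368 = n41127 := d5_1 D79368 (iv4 D41127) (iv3 D19350) (iv4 F30202) (iv3 F56875)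
theorem F121954 : act 7 n79368 = n60228 := d11_2 F72259 D79368 F94788
theorem F121955 : act 0 n60166 = n79368 := d20_4 (iv4 D13641) D13639 D28602 D60166 F121953 (iv4 D41127) (iv1 F58367) (iv4 F94733) (iv3 D60176) (iv1 D28606)
theorem F121956 : act 1 n60229 = n79368 := d15_0 (iv0 F121955) F94713 D60229
theorem F121957 : act 1 n55692 = n60229 := d15_0 F121956 F121954 (iv2 F94789)
def n79369 : Q := act 6 n36141
theorem D79369 : act 6 n36141 = n79369 := rfl
theorem F121958 : act 2 n79369 = n36144 := d3_1 D79369 (iv6 D36144) D36141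
theorem F121959 : act 3 n79369 = n40009 := d7_1 D79369 (iv6 D40009) (iv3 F56875)
def n79370 : Q := act 1 n36142
theorem D79370 : act 1 n36142 = n79370 := rfl
theorem F121960 : act 1 n79370 = n60228 := d15_1 D79370 (iv7 F121954) F121952
theorem F121961 : act 7 n79370 = n60229 := d15_2 (iv0 F56878) D79370 (iv2 D60229)
theorem F121962 : act 3 n60200 = n79370 := d20_3 F86958 (iv1 F86955) (iv4 F94755) (iv1 D79370) F56877 (iv4 D18129) F13534 D8620 D18273 D38250
theorem F121963 : act 4 n79325 = n79370 := d20_6 (iv4 D12862) (iv1 F9475) D8219 D17468 D36115 D79325 (iv1 D79370) (iv4 D36142) (iv3 D17475) (iv1 F21344)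
theorem F121964 : act 2 n79370 = n60166 := d0_1 F121962 (iv3 D60166) F46164 D28615 D60200
theorem F121965 : act 5 n79370 = n71914 := d6_2 (iv5 F94756) F121962 (iv3 D71914)
def n79371 : Q := act 5 n36142
theorem D79371 : act 5 n36142 = n79371 := rfl
theorem F121966 : act 3 n79371 = n37808 := d6_1 D79371 (iv5 D37808) (iv3 F56877)
theorem F121967 : act 0 n79371 = n60134 := d20_4 (iv4 F57272) (iv1 F115740) F115737 (iv3 F121966) F94694 F46156 (iv1 F44441) F44440 (iv3 F28200) D35607
def n79372 : Q := act 6 n36142
theorem D79372 : act 6 n36142 = n79372 := rfl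
theorem F121968 : act 3 n79372 = n37809 := d7_1 D79372 (iv6 D37809) (iv3 F56877)
theorem F121969 : act 4 n79372 = n36144 := d10_1 D79372 (iv6 D36144) D36142
def n79373 : Q := act 6 n36143
theorem D79373 : act 6 n36143 = n79373 := rfl
theorem F121970 : act 2 n79373 = n40008 := d3_1 D79373 (iv6 D40008) (iv2 F56879)
theorem F121971 : act 3 n79373 = n36145 := d7_1 D79373 (iv6 D36145) (iv3 F56880)
def n79374 : Q := act 0 n36144
theorem D79374 : act 0 n36144 = n79374 := rfl
def n79375 : Q := act 1 n36144
theorem D79375 : act 1 n36144 = n79375 := rfl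
def n79376 : Q := act 5 n36144
theorem D79376 : act 5 n36144 = n79376 := rfl
def n79377 : Q := act 7 n36144
theorem D79377 : act 7 n36144 = n79377 := rfl
def n79378 : Q := act 0 n36145
theorem D79378 : act 0 n36145 = n79378 := rfl
def n79379 : Q := act 1 n36145
theorem D79379 : act 1 n36145 = n79379 := rfl
def n79380 : Q := act 5 n36145
theorem D79380 : act 5 n36145 = n79380 := rfl
def n79381 : Q := act 7 n36145
theorem D79381 : act 7 n36145 = n79381 := rfl
def n79382 : Q := act 0 n36148
theorem D79382 : act 0 n36148 = n79382 := rfl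
theorem F121975 : act 5 n79382 = n79145 := d17_3 (iv1 F117297) D36148 D79382 (iv4 D79145) (iv5 D36024) (iv0 D17437) F17022 F59697 D19033
def n79385 : Q := act 7 n36148
theorem D79385 : act 7 n36148 = n79385 := rfl
theorem F121977 : act 5 n79385 = n36149 := d13_1 D79385 (iv7 D36149) D36148
def n79386 : Q := act 3 n36150
theorem D79386 : act 3 n36150 = n79386 := rfl
theorem F121978 : act 4 n79386 = n45843 := d5_2 (iv4 F56883) D79386 (iv3 F74489) F74488 F70103
theorem F121979 : act 5 n79386 = n40063 := d6_2 (iv5 F56882) D79386 (iv3 D40063)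
def n79387 : Q := act 6 n36150
theorem D79387 : act 6 n36150 = n79387 := rfl
theorem F121980 : act 4 n79387 = n44578 := d10_1 D79387 (iv6 D44578) (iv4 F56883)
def n79388 : Q := act 6 n36151
theorem D79388 : act 6 n36151 = n79388 := rfl
def n79389 : Q := act 0 n36152
theorem D79389 : act 0 n36152 = n79389 := rfl
def n79390 : Q := act 1 n36152
theorem D79390 : act 1 n36152 = n79390 := rfl
def n79391 : Q := act 5 n36152
theorem D79391 : act 5 n36152 = n79391 := rfl
theorem F121983 : act 6 n79391 = n39987 := d12_2 D36152 D79391 (iv5 D39987) (iv6 D18910) F28471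
def n79392 : Q := act 7 n36152
theorem D79392 : act 7 n36152 = n79392 := rfl
theorem F121984 : act 3 n79392 = n36157 := d8_1 D79392 (iv7 D36157) (iv3 F56888)
theorem F121985 : act 4 n79392 = n41136 := d11_1 D79392 (iv7 D41136) (iv4 F56889)
def n79393 : Q := act 0 n36153
theorem D79393 : act 0 n36153 = n79393 := rfl
def n79394 : Q := act 1 n36153
theorem D79394 : act 1 n36153 = n79394 := rfl
def n79395 : Q := act 5 n36153
theorem D79395 : act 5 n36153 = n79395 := rfl
theorem F121986 : act 3 n79395 = n39987 := d6_1 D79395 (iv5 D39987) (iv3 F56890)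
def n79396 : Q := act 7 n36153
theorem D79396 : act 7 n36153 = n79396 := rfl
theorem F121988 : act 3 n79396 = n39988 := d8_1 D79396 (iv7 D39988) (iv3 F56890)
theorem F121989 : act 4 n79396 = n75558 := d11_1 D79396 (iv7 D75558) (iv4 F56891)
def n79407 : Q := act 0 n36156
theorem D79407 : act 0 n36156 = n79407 := rfl
def n79408 : Q := act 1 n36156
theorem D79408 : act 1 n36156 = n79408 := rfl
theorem F121992 : act 5 n79144 = n79408 := d21_6 D8224 D17481 F28475 D27122 F117334 D79144 (iv1 D79408) (iv5 D36156) (iv6 D17480) (iv1 D8223)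
def n79410 : Q := act 7 n36156
theorem D79410 : act 7 n36156 = n79410 := rfl
theorem F121993 : act 5 n79410 = n36157 := d13_1 D79410 (iv7 D36157) D36156
def n79411 : Q := act 4 n36158
theorem D79411 : act 4 n36158 = n79411 := rfl
theorem F121994 : act 2 n79411 = n40088 := d1_1 D79411 F60983 (iv2 F56892)
theorem F121995 : act 3 n79411 = n41633 := d5_1 D79411 F64248 F57401 F28697 D36158
theorem F121996 : act 7 n79411 = n46980 := d11_2 F57811 D79411 F74197
theorem F121997 : act 5 n79411 = n46502 := d17_5 D40006 F89057 (iv1 D56294) (iv5 F56893) D79411 F73514 D46522 (iv0 F73520) F60864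
theorem F121998 : act 1 n79411 = n46547 := d18_8 (iv1 F70291) (iv4 F64234) (iv1 F71397) F71395 (iv5 F51566) D69962 F106386 D79411 (iv5 F74224)
def n79412 : Q := act 6 n36158
theorem D79412 : act 6 n36158 = n79412 := rfl
theorem F121999 : act 2 n79412 = n40097 := d3_1 D79412 (iv6 D40097) (iv2 F56892)
theorem F122000 : act 3 n79412 = n36159 := d7_1 D79412 (iv6 D36159) D36158
def n79413 : Q := act 0 n36159
theorem D79413 : act 0 n36159 = n79413 := rfl
def n79414 : Q := act 1 n36159
theorem D79414 : act 1 n36159 = n79414 := rfl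
def n79415 : Q := act 5 n36159
theorem D79415 : act 5 n36159 = n79415 := rfl
def n79416 : Q := act 7 n36159
theorem D79416 : act 7 n36159 = n79416 := rfl
def n79417 : Q := act 0 n36160
theorem D79417 : act 0 n36160 = n79417 := rfl
def n79418 : Q := act 1 n36160
theorem D79418 : act 1 n36160 = n79418 := rfl
def n79419 : Q := act 5 n36160
theorem D79419 : act 5 n36160 = n79419 := rfl
def n79420 : Q := act 7 n36160
theorem D79420 : act 7 n36160 = n79420 := rfl
theorem F122004 : act 3 n79420 = n40072 := d8_1 D79420 (iv7 D40072) (iv3 F56894)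
def n79421 : Q := act 2 n36161
theorem D79421 : act 2 n36161 = n79421 := rfl
theorem F122005 : act 7 n36162 = n79421 := d15_2 (iv0 D36161) D36162 (iv2 D79421)
def n79422 : Q := act 3 n36161
theorem D79422 : act 3 n36161 = n79422 := rfl
def n79423 : Q := act 4 n36161
theorem D79423 : act 4 n36161 = n79423 := rfl
def n79424 : Q := act 5 n36161
theorem D79424 : act 5 n36161 = n79424 := rfl
def n79425 : Q := act 6 n36161
theorem D79425 : act 6 n36161 = n79425 := rfl
def n79426 : Q := act 7 n36161
theorem D79426 : act 7 n36161 = n79426 := rfl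
theorem F122006 : act 2 n79426 = n36162 := d4_1 D79426 F122005 (iv2 D79421)
def n79427 : Q := act 3 n36162
theorem D79427 : act 3 n36162 = n79427 := rfl
def n79428 : Q := act 4 n36162
theorem D79428 : act 4 n36162 = n79428 := rfl
def n79429 : Q := act 5 n36162
theorem D79429 : act 5 n36162 = n79429 := rfl
def n79430 : Q := act 6 n36162
theorem D79430 : act 6 n36162 = n79430 := rfl
def n79434 : Q := act 7 n36163
theorem D79434 : act 7 n36163 = n79434 := rfl
theorem F122008 : act 5 n79434 = n36164 := d13_1 D79434 (iv7 D36164) D36163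
def n79438 : Q := act 4 n36166
theorem D79438 : act 4 n36166 = n79438 := rfl
def n79441 : Q := act 0 n36168
theorem D79441 : act 0 n36168 = n79441 := rfl
theorem F122011 : act 5 n79441 = n79184 := d17_3 D17484 D36168 D79441 F120463 (iv5 F56918) (iv0 D36198) (iv5 D17491) (iv0 D8226) (iv4 F12997)
theorem F122012 : act 1 n36173 = n79441 := d15_0 (iv0 D79441) (iv7 F120512) F120511
def n79445 : Q := act 0 n36169
theorem D79445 : act 0 n36169 = n79445 := rfl
def n79446 : Q := act 1 n36169
theorem D79446 : act 1 n36169 = n79446 := rfl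
def n79447 : Q := act 5 n36169
theorem D79447 : act 5 n36169 = n79447 := rfl
theorem F122014 : act 2 n79447 = n36898 := d2_1 D79447 (iv5 F120504) F120502
theorem F122015 : act 0 n79447 = n36799 := d21_7 (iv5 F28476) (iv1 D17482) (iv5 D8224) D8225 D17484 D36169 D79447 (iv5 D36799) (iv6 D17739) (iv1 F21615)
theorem F122016 : act 4 n79446 = n36204 := d17_9 (iv1 D36204) D36205 F56923 (iv5 D17742) (iv4 F28848) D36799 (iv0 F122015) (iv5 D79447) D79446
theorem F122017 : act 1 n79447 = n36900 := d15_1 (iv0 F122015) (iv7 D36900) (iv2 F57709)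
def n79448 : Q := act 7 n36169
theorem D79448 : act 7 n36169 = n79448 := rfl
def n79451 : Q := act 2 n36171
theorem D79451 : act 2 n36171 = n79451 := rfl
def n79452 : Q := act 4 n36171
theorem D79452 : act 4 n36171 = n79452 := rfl
def n79457 : Q := act 0 n36174
theorem D79457 : act 0 n36174 = n79457 := rfl
theorem F122022 : act 4 n79457 = n36219 := d20_8 F30452 (iv1 F30022) (iv4 D8812) (iv3 F13683) D18792 D39724 (iv4 F117560) D79457 F59702 (iv1 F30450)
theorem F122023 : act 1 n39724 = n57842 := d18_8 F117245 (iv4 F43392) (iv1 F117300) (iv4 D39962) (iv5 F59703) (iv4 F122022) (iv0 D79457) F117560 (iv5 D57842)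
theorem F122024 : act 2 n79310 = n79457 := d1_3 F122022 (iv2 F59708) D79310
theorem F122025 : act 7 n40279 = n79457 := d11_0 F122022 F59705 D40279
theorem F122026 : act 1 n36174 = n79309 := d15_1 (iv0 D79457) (iv7 F121705) F122024
def n79459 : Q := act 7 n36174
theorem D79459 : act 7 n36174 = n79459 := rfl
theorem F122029 : act 4 n79459 = n58512 := d11_1 D79459 (iv7 F117538) (iv4 F117560)
theorem F122031 : act 0 n79459 = n40279 := d20_7 (iv4 F41780) F41777 (iv4 D13286) (iv3 F22077) D27843 D58512 (iv4 F122029) (iv4 D40279) F30540 (iv1 F30509)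
theorem F122032 : act 1 n79231 = n40279 := d15_0 (iv0 F122031) (iv7 D79459) (iv2 F120513)
theorem F122033 : act 1 n79310 = n79231 := d15_0 F122032 F122025 (iv2 F122024)
theorem F122034 : act 4 n79231 = n57847 := d18_7 (iv1 F117247) F43906 F117296 (iv4 D36103) D36104 D79310 F122033 (iv0 D57847) (iv5 D27615)
theorem F122035 : act 2 n57847 = n39724 := d1_1 F122034 (iv4 F117560) (iv2 F120513)
theorem F122036 : act 6 n57847 = n57443 := d10_2 D79231 F122034 F120677
theorem F122037 : act 3 n38722 = n57847 := d7_3 F122036 F120676 F118553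
theorem E13234 : n58512 = n57848 := ((c15_2 (iv0 D57847) D57848 (iv7 F117538) (iv2 F122035))).symm
theorem F122040 : act 5 n57848 = n57071 := (sb E13234 (iv5 F120951))
theorem F122042 : act 5 n57850 = n55402 := d21_0 (iv1 F87689) F61689 F61690 (iv1 F58801) D57071 (iv5 F122040) (iv1 D57848) (iv5 D27615) D27616 D57850
theorem F122043 : act 2 n39738 = n57850 := d2_3 F122042 F121451 (iv5 F117162)
theorem E13235 : n57997 = n57851 := ((c15_2 (iv0 D57850) D57851 (iv7 F117419) F122043)).symm
theorem F122045 : act 5 n57851 = n55403 := (sb E13235 (iv5 F121449))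
theorem F122046 : act 6 n57851 = n27666 := (sb E13235 (iv6 D57997))
def n79460 : Q := act 2 n36175
theorem D79460 : act 2 n36175 = n79460 := rfl
theorem F122048 : act 7 n36176 = n79460 := d15_2 (iv0 D36175) D36176 (iv2 D79460)
def n79462 : Q := act 4 n36175
theorem D79462 : act 4 n36175 = n79462 := rfl
def n79463 : Q := act 5 n36175
theorem D79463 : act 5 n36175 = n79463 := rfl
def n79465 : Q := act 7 n36175
theorem D79465 : act 7 n36175 = n79465 := rfl
theorem F122049 : act 2 n79465 = n36176 := d4_1 D79465 F122048 (iv2 D79460)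
def n79466 : Q := act 3 n36176
theorem D79466 : act 3 n36176 = n79466 := rfl
def n79467 : Q := act 4 n36176
theorem D79467 : act 4 n36176 = n79467 := rfl
def n79468 : Q := act 5 n36176
theorem D79468 : act 5 n36176 = n79468 := rfl
theorem F122050 : act 6 n79468 = n56282 := d21_3 (iv5 F120518) (iv1 F120520) D79468 F89024 F43865 (iv5 F57831) (iv1 F122017) (iv5 D79447) (iv6 D36169) (iv1 F56808)
theorem F122051 : act 2 n56315 = n79468 := d3_3 F122050 F117417 D56315
theorem F122052 : act 4 n56748 = n79468 := d10_3 F122050 F89023 D56748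
theorem E13236 : n79465 = n79233 := (c2_4 (iv5 F120515) F122051 (iv5 D79468) (iv2 F122049))
theorem F122054 : act 7 n79233 = n36175 := (sb E13236 (iv7 D79465))
theorem E13237 : n79460 = n79232 := (c15_4 (iv0 D79232) D79233 F122054 D79460)
theorem F122056 : act 2 n79232 = n36175 := (sb E13237 (iv2 D79460))
theorem F122057 : act 7 n79232 = n36176 := (sb E13237 (iv7 F122048))
def n79475 : Q := act 6 n36178
theorem D79475 : act 6 n36178 = n79475 := rfl
def n79476 : Q := act 5 n36185
theorem D79476 : act 5 n36185 = n79476 := rfl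
theorem F122059 : act 3 n79476 = n36350 := d6_1 D79476 (iv5 D36350) (iv3 F118428)
theorem F122060 : act 7 n79476 = n44900 := d13_2 (iv7 F120804) D79476 (iv5 D44900)
def n79477 : Q := act 5 n36187
theorem D79477 : act 5 n36187 = n79477 := rfl
theorem F122061 : act 2 n79477 = n36189 := d2_1 D79477 (iv5 D36189) D36187
def n79478 : Q := act 6 n36187
theorem D79478 : act 6 n36187 = n79478 := rfl
theorem F122062 : act 2 n79478 = n36190 := d3_1 D79478 (iv6 D36190) D36187
theorem F122063 : act 3 n79478 = n46242 := d7_1 D79478 (iv6 F118366) F118365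
theorem F122064 : act 4 n79478 = n58128 := d10_1 D79478 (iv6 D58128) (iv4 F118128)
theorem F122065 : act 5 n46240 = n79478 := d6_0 F122063 (iv5 D46242) D46240
theorem F122066 : act 0 n46240 = n40683 := d21_7 F13325 (iv1 F13955) (iv5 F16143) D21430 (iv1 F120829) D79478 (iv5 F122065) (iv5 D40683) (iv6 D19202) F14097
def n79479 : Q := act 3 n36188
theorem D79479 : act 3 n36188 = n79479 := rfl
theorem F122068 : act 7 n79479 = n58130 := d8_2 (iv7 F118130) D79479 (iv3 D58130)
def n79480 : Q := act 5 n36188
theorem D79480 : act 5 n36188 = n79480 := rfl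
theorem F122069 : act 2 n79480 = n58127 := d2_1 D79480 (iv5 D58127) (iv2 F118129)
theorem F122070 : act 7 n79480 = n58131 := d13_2 (iv7 F118130) D79480 (iv5 D58131)
def n79481 : Q := act 6 n36188
theorem D79481 : act 6 n36188 = n79481 := rfl
theorem F122071 : act 2 n79481 = n58128 := d3_1 D79481 (iv6 D58128) (iv2 F118129)
theorem F122072 : act 4 n79481 = n36190 := d10_1 D79481 (iv6 D36190) D36188
theorem F122073 : act 5 n79481 = n45241 := d21_6 (iv5 F29670) (iv1 F29672) (iv5 F22025) D27703 F56909 D79481 (iv1 D45241) (iv5 D21584) (iv6 D10310) D10306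
theorem F122074 : act 0 n79481 = n58672 := d20_7 F42171 (iv1 F53063) F53065 (iv3 F121754) (iv1 D36204) (iv3 F56911) (iv4 F122072) F92665 F45050 F30001
def n79482 : Q := act 0 n36189
theorem D79482 : act 0 n36189 = n79482 := rfl
theorem F122075 : act 5 n79482 = n77160 := d21_2 D36189 D79482 (iv6 D77160) F115866 (iv6 D19113) (iv5 D8954) (iv1 F12958) (iv5 F15942) D21157 (iv1 F120798)
def n79483 : Q := act 1 n36189
theorem D79483 : act 1 n36189 = n79483 := rfl
def n79484 : Q := act 4 n36189
theorem D79484 : act 4 n36189 = n79484 := rfl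
def n79485 : Q := act 6 n36189
theorem D79485 : act 6 n36189 = n79485 := rfl
theorem F122077 : act 3 n79485 = n36201 := d7_1 D79485 (iv6 D36201) (iv3 F56910)
def n79486 : Q := act 0 n36190
theorem D79486 : act 0 n36190 = n79486 := rfl
def n79487 : Q := act 1 n36190
theorem D79487 : act 1 n36190 = n79487 := rfl
def n79488 : Q := act 5 n36190
theorem D79488 : act 5 n36190 = n79488 := rfl
theorem F122078 : act 2 n79488 = n46240 := d2_1 D79488 F122065 F122062
theorem F122079 : act 3 n79488 = n36205 := d6_1 D79488 (iv5 D36205) (iv3 F56911)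
theorem F122080 : act 0 n79488 = n44892 := d21_7 (iv5 D8954) (iv1 F12958) (iv5 F15942) D21157 (iv1 F120798) D36190 D79488 (iv5 D44892) (iv6 D21427) F16131
theorem F122081 : act 7 n36944 = n79488 := d8_0 F122079 F118156 D36944
def n79489 : Q := act 7 n36190
theorem D79489 : act 7 n36190 = n79489 := rfl
theorem F122083 : act 3 n79489 = n36206 := d8_1 D79489 (iv7 D36206) (iv3 F56911)
theorem F122084 : act 5 n79489 = n36944 := d13_1 D79489 F122081 (iv5 D79488)
def n79492 : Q := act 0 n36194
theorem D79492 : act 0 n36194 = n79492 := rfl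
def n79493 : Q := act 1 n36194
theorem D79493 : act 1 n36194 = n79493 := rfl
def n79494 : Q := act 2 n36194
theorem D79494 : act 2 n36194 = n79494 := rfl
def n79496 : Q := act 6 n36194
theorem D79496 : act 6 n36194 = n79496 := rfl
theorem F122089 : act 3 n79496 = n36196 := d7_1 D79496 (iv6 D36196) D36194
def n79497 : Q := act 0 n36195
theorem D79497 : act 0 n36195 = n79497 := rfl
theorem F122090 : act 5 n79497 = n79177 := d21_2 D36195 D79497 (iv6 D79177) (iv1 D36042) (iv6 D17445) D17444 (iv1 F56776) F56777 D36090 F120730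
def n79501 : Q := act 1 n36196
theorem D79501 : act 1 n36196 = n79501 := rfl
def n79502 : Q := act 5 n36196
theorem D79502 : act 5 n36196 = n79502 := rfl
theorem F122093 : act 0 n79502 = n57060 := d21_7 D17444 (iv1 F56776) F56777 D36090 F120730 D36196 D79502 (iv5 D57060) (iv6 D27364) F21872
def n79503 : Q := act 7 n36196
theorem D79503 : act 7 n36196 = n79503 := rfl
theorem F122094 : act 4 n79503 = n36206 := d11_1 D79503 (iv7 D36206) (iv4 F56914)
def n79504 : Q := act 4 n36198
theorem D79504 : act 4 n36198 = n79504 := rfl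
def n79505 : Q := act 6 n36198
theorem D79505 : act 6 n36198 = n79505 := rfl
theorem F122095 : act 5 n79505 = n36267 := d12_1 D79505 F57013 (iv5 D36052) D36053 (iv5 F56918)
def n79506 : Q := act 4 n36199
theorem D79506 : act 4 n36199 = n79506 := rfl
def n79507 : Q := act 0 n36200
theorem D79507 : act 0 n36200 = n79507 := rfl
theorem F122097 : act 1 n36217 = n79507 := d15_0 (iv0 D79507) (iv7 F121595) F121593
def n79511 : Q := act 6 n36200
theorem D79511 : act 6 n36200 = n79511 := rfl
theorem F122099 : act 4 n79511 = n36201 := d10_1 D79511 (iv6 D36201) D36200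
def n79512 : Q := act 0 n36201
theorem D79512 : act 0 n36201 = n79512 := rfl
theorem F122100 : act 5 n79512 = n36969 := d21_0 (iv1 D36969) F28924 (iv6 D17517) (iv1 D8239) (iv6 F12999) (iv5 D8228) D8226 D17491 D36201 D79512
theorem F122101 : act 6 n36252 = n79512 := d21_5 (iv5 D3708) D3706 D8233 D17508 D36252 F122100 (iv1 D36969) F28924 (iv6 D17517) (iv1 D8239)
theorem F122102 : act 2 n79512 = n77235 := d3_1 F122101 (iv6 D77235) (iv2 F121869)
theorem F122103 : act 2 n36962 = n36969 := d2_3 (iv5 F122100) F122102 (iv5 F121757)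
theorem F122104 : act 7 n36969 = n36961 := d4_2 (iv7 F121758) F122103 (iv2 F121889)
theorem E13238 : n37128 = n36968 := ((c15_2 F57884 F57888 (iv7 F121758) F122103)).symm
theorem F122105 : act 2 n36968 = n36961 := (sb E13238 F121889)
theorem F122106 : act 3 n36968 = n17862 := (sb E13238 (iv3 D37128))
theorem F122107 : act 7 n36968 = n36962 := (sb E13238 (iv7 F121758))
def n79513 : Q := act 1 n36201
theorem D79513 : act 1 n36201 = n79513 := rfl
theorem F122109 : act 7 n79513 = n77235 := d15_2 (iv0 D79512) D79513 (iv2 F122102)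
theorem F122111 : act 5 n36968 = n79513 := d13_3 F122109 (iv5 F121757) (iv7 F122107)
def n79514 : Q := act 5 n36201
theorem D79514 : act 5 n36201 = n79514 := rfl
theorem F122112 : act 2 n79514 = n36950 := d2_1 D79514 (iv5 F120539) F120538
theorem F122113 : act 6 n79514 = n36205 := d12_2 D36201 D79514 (iv5 D36205) (iv6 D17492) D17491
theorem F122114 : act 7 n36923 = n79514 := d14_0 F122113 F118156 F57720 F118162 D36923
def n79515 : Q := act 7 n36201
theorem D79515 : act 7 n36201 = n79515 := rfl
theorem F122115 : act 2 n79515 = n55770 := d4_1 D79515 (iv7 F120540) F120538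
theorem F122118 : act 1 n55770 = n79512 := d15_0 (iv0 D79512) D79515 F122115
def n79516 : Q := act 4 n36205
theorem D79516 : act 4 n36205 = n79516 := rfl
theorem F122120 : act 2 n79516 = n36949 := d1_1 D79516 (iv4 D36949) (iv2 F118155)
theorem F122121 : act 7 n79516 = n36945 := d11_2 (iv7 F118156) D79516 (iv4 D36945)
def n79517 : Q := act 0 n36212
theorem D79517 : act 0 n36212 = n79517 := rfl
theorem F122123 : act 5 n79517 = n45956 := d21_8 F118345 (iv1 F118348) (iv5 D40176) F59483 (iv1 F118483) (iv6 D36213) D36212 D79517 (iv6 F113489) (iv1 F118344)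
theorem F122124 : act 6 n45837 = n79517 := d12_0 F122123 (iv6 F113489) (iv5 D75645) D75646 F113491
def n79518 : Q := act 1 n36212
theorem D79518 : act 1 n36212 = n79518 := rfl
theorem F122125 : act 5 n45901 = n79518 := d21_6 (iv5 D38647) D38644 (iv5 F59755) (iv6 F63800) (iv1 F63802) D45901 (iv1 D79518) (iv5 D36212) D36213 (iv1 F118484)
theorem F122126 : act 3 n79518 = n36313 := d6_1 F122125 (iv5 F119037) F119040
def n79519 : Q := act 4 n36212
theorem D79519 : act 4 n36212 = n79519 := rfl
def n79520 : Q := act 6 n36212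
theorem D79520 : act 6 n36212 = n79520 := rfl
theorem F122127 : act 2 n79520 = n41391 := d3_1 D79520 F63880 (iv2 F118480)
theorem F122128 : act 3 n79520 = n36218 := d7_1 D79520 (iv6 D36218) (iv3 F56926)
theorem F122129 : act 0 n40061 = n79520 := d21_4 (iv5 D20116) (iv1 F17596) D19476 (iv6 F60951) (iv6 D79520) (iv5 D36212) F118121 (iv5 F36005) (iv6 D22948) (iv1 F31936)
theorem F122130 : act 7 n41392 = n79520 := d8_0 F122128 F118183 (iv3 F118316)
theorem F122131 : act 4 n38365 = n79520 := d20_2 D18307 D38365 F122128 (iv1 F88057) F43403 (iv4 F43486) (iv1 F43487) F42349 (iv3 F117882) (iv1 D18306)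
theorem F122132 : act 6 n79519 = n38365 := d10_0 F122131 (iv6 D79520) D79519
theorem F122133 : act 5 n79520 = n46220 := d13_1 F122130 (iv7 D46220) F63823
def n79521 : Q := act 5 n36213
theorem D79521 : act 5 n36213 = n79521 := rfl
theorem F122135 : act 3 n79521 = n36221 := d6_1 D79521 (iv5 D36221) (iv3 F56927)
theorem F122136 : act 6 n79521 = n46220 := d12_2 D36213 D79521 (iv5 F122133) (iv6 D79520) (iv5 D36212)
theorem F122137 : act 1 n79521 = n45881 := d17_6 F59786 D34624 D75720 F113575 F118482 D79521 (iv5 D45881) (iv0 D21942) (iv4 F34450)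
theorem F122138 : act 4 n79521 = n75730 := d18_5 (iv1 D18432) (iv4 F29585) (iv1 F113578) F118482 D79521 (iv0 D75730) (iv4 D34629) F117907 (iv5 F117906)
theorem F122139 : act 0 n79521 = n45885 := d18_0 (iv4 F113549) (iv1 F113551) F58897 (iv5 F29589) D38751 F61164 (iv4 F61166) F118484 D79521
theorem F122140 : act 0 n75665 = n46220 := d21_4 (iv5 F118345) (iv1 F118342) (iv5 D75664) D75665 (iv6 F122136) (iv5 D79521) (iv1 F118484) (iv5 D38647) D38648 (iv1 F118347)
theorem F122141 : act 0 n79520 = n41393 := d21_1 (iv5 F122133) F63824 D41394 (iv1 F63828) D41435 (iv5 F118345) (iv1 F118342) (iv5 D75664) D75665 F122140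
theorem F122142 : act 7 n79521 = n36935 := d15_2 (iv0 F113070) (iv0 F122139) F118308
def n79522 : Q := act 7 n36213
theorem D79522 : act 7 n36213 = n79522 := rfl
theorem F122145 : act 4 n79522 = n38756 := d11_1 D79522 F118354 F118482
theorem F122146 : act 5 n79522 = n36935 := d13_1 D79522 (iv7 F122142) (iv5 D79521)
theorem F122147 : act 6 n79522 = n46238 := d14_1 D79522 F118456 (iv6 D41430) F118358 D36213
theorem F122148 : act 1 n38648 = n79522 := d15_1 F118347 (iv7 D79522) F118481
theorem F122149 : act 1 n79522 = n40176 := d15_1 F122148 (iv7 F61174) (iv2 F61162)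
theorem F122150 : act 0 n75646 = n45767 := d21_4 F122146 (iv1 F118343) (iv5 D75645) D75646 (iv6 D45767) (iv5 F63821) F118936 (iv5 F72528) (iv6 F72530) (iv1 F122149)
theorem F122151 : act 1 n75646 = n45972 := d15_1 (iv0 F122150) (iv7 D45972) (iv2 F118977)
def n79523 : Q := act 0 n36214
theorem D79523 : act 0 n36214 = n79523 := rfl
def n79524 : Q := act 1 n36214
theorem D79524 : act 1 n36214 = n79524 := rfl
def n79525 : Q := act 2 n36214
theorem D79525 : act 2 n36214 = n79525 := rfl
def n79527 : Q := act 6 n36214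
theorem D79527 : act 6 n36214 = n79527 := rfl
theorem F122153 : act 3 n79527 = n36216 := d7_1 D79527 (iv6 D36216) D36214
def n79532 : Q := act 7 n36216
theorem D79532 : act 7 n36216 = n79532 := rfl
theorem F122155 : act 4 n79532 = n36222 := d11_1 D79532 (iv7 D36222) (iv4 F56928)
def n79533 : Q := act 3 n36217
theorem D79533 : act 3 n36217 = n79533 := rfl
def n79535 : Q := act 6 n36217
theorem D79535 : act 6 n36217 = n79535 := rfl
theorem F122156 : act 2 n79535 = n55765 := d3_1 D79535 (iv6 F121594) F121593
theorem F122157 : act 4 n79535 = n36218 := d10_1 D79535 (iv6 D36218) D36217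
theorem F122158 : act 7 n55769 = n79535 := d11_0 F122157 F118183 D55769
def n79536 : Q := act 5 n36218
theorem D79536 : act 5 n36218 = n79536 := rfl
theorem F122159 : act 2 n79536 = n36928 := d2_1 D79536 F118181 (iv2 F118182)
theorem F122160 : act 3 n79536 = n46220 := d6_1 D79536 (iv5 F122133) F122128
theorem F122162 : act 7 n79536 = n36805 := d13_2 (iv7 F118183) D79536 F57717
theorem F122164 : act 0 n36863 = n79536 := d21_10 (iv5 D79536) (iv1 F88057) F43404 F21381 (iv1 F28444) D36078 D79255 (iv1 F121599) F57771 D36863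
theorem E13239 : n77334 = n36805 := (c15_2 F118180 D77334 (iv7 F122162) F122159)
theorem F122165 : act 0 n36805 = n35304 := (sb E13239 (iv1 D77334))
def n79537 : Q := act 4 n36221
theorem D79537 : act 4 n36221 = n79537 := rfl
theorem F122166 : act 7 n79537 = n36938 := d11_2 (iv7 F118510) D79537 F57861
theorem F122167 : act 0 n79537 = n79174 := d17_0 F121701 (iv1 D79304) (iv5 D36099) F28463 (iv5 F17022) F59788 F55983 F59810 D79537
def n79538 : Q := act 0 n36224
theorem D79538 : act 0 n36224 = n79538 := rfl
def n79539 : Q := act 1 n36224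
theorem D79539 : act 1 n36224 = n79539 := rfl
def n79540 : Q := act 2 n36224
theorem D79540 : act 2 n36224 = n79540 := rfl
theorem F122168 : act 3 n79540 = n47671 := d0_2 D36224 D79540 (iv2 F118983) (iv3 F118953) F89189
theorem F122169 : act 1 n79540 = n44900 := d15_0 (iv0 F121613) F121611 D79540
def n79541 : Q := act 4 n36224
theorem D79541 : act 4 n36224 = n79541 := rfl
theorem F122170 : act 7 n79541 = n58187 := d11_2 F121611 D79541 (iv4 F121612)
theorem F122171 : act 0 n79541 = n58190 := d20_7 (iv4 F42190) (iv1 D17576) (iv4 D8254) (iv3 F12998) D17498 D36224 D79541 F91979 F44730 (iv1 F22050)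
theorem E13240 : n79539 = n44483 := (c18_9 (iv1 F120798) D36188 F56908 F44725 (iv5 F44731) (iv4 F91979) (iv0 F122171) (iv4 D79541) D79539 (iv5 D44483))
theorem F122172 : act 0 n44483 = n36224 := (sb E13240 (iv1 D79539))
theorem F122173 : act 0 n58118 = n79541 := d20_7 (iv4 F121627) (iv1 F121629) (iv4 F121511) F121509 (iv1 D39100) (iv3 F44714) D58118 (iv4 D79541) (iv3 D36224) (iv1 F56822)
theorem F122174 : act 2 n79541 = n58186 := d15_3 (iv0 D58186) D58187 (iv7 F122170)
theorem F122175 : act 4 n58186 = n79540 := d1_2 D79541 F122174 (iv2 D79540)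
def n79542 : Q := act 5 n36224
theorem D79542 : act 5 n36224 = n79542 := rfl
theorem F122176 : act 3 n79542 = n36226 := d6_1 D79542 (iv5 D36226) D36224
theorem F122177 : act 7 n79542 = n56335 := d13_2 F121611 D79542 (iv5 F121610)
def n79543 : Q := act 6 n36224
theorem D79543 : act 6 n36224 = n79543 := rfl
theorem F122178 : act 3 n79543 = n36227 := d7_1 D79543 (iv6 D36227) D36224
def n79544 : Q := act 0 n36225
theorem D79544 : act 0 n36225 = n79544 := rfl
theorem F122179 : act 4 n79544 = n57469 := d18_3 D17498 D36225 D79544 F90643 (iv4 F120680) (iv0 D36192) (iv4 D17490) (iv0 D8226) D8228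
theorem F122180 : act 1 n36230 = n79544 := d15_0 (iv0 D79544) (iv7 F121615) F121614
theorem F122181 : act 7 n57468 = n79544 := d11_0 F122179 (iv7 D57469) D57468
def n79545 : Q := act 1 n36225
theorem D79545 : act 1 n36225 = n79545 := rfl
theorem F122182 : act 1 n79545 = n36230 := d15_1 D79545 (iv7 F121607) F121606
theorem F122184 : act 4 n57444 = n79545 := d18_5 (iv1 F28449) D17495 (iv1 F120731) F56834 D57444 F122182 (iv4 D36230) F56821 F56819
theorem F122185 : act 6 n79545 = n36263 := d10_2 (iv6 F90627) F122184 F57011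
def n79546 : Q := act 3 n36225
theorem D79546 : act 3 n36225 = n79546 := rfl
def n79547 : Q := act 5 n36225
theorem D79547 : act 5 n36225 = n79547 := rfl
def n79549 : Q := act 4 n36226
theorem D79549 : act 4 n36226 = n79549 := rfl
theorem F122187 : act 7 n79549 = n56341 := d11_2 (iv7 F89188) D79549 F89102
def n79551 : Q := act 7 n36227
theorem D79551 : act 7 n36227 = n79551 := rfl
theorem F122189 : act 6 n79551 = n77220 := d14_1 D79551 (iv7 F121622) (iv6 D79261) F89187 D36227
def n79552 : Q := act 6 n36229
theorem D79552 : act 6 n36229 = n79552 := rfl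
theorem F122190 : act 3 n79552 = n36232 := d7_1 D79552 (iv6 D36232) D36229
def n79553 : Q := act 3 n36230
theorem D79553 : act 3 n36230 = n79553 := rfl
def n79556 : Q := act 4 n36231
theorem D79556 : act 4 n36231 = n79556 := rfl
theorem F122192 : act 2 n79556 = n56341 := d1_1 D79556 F89102 (iv2 F89147)
def n79557 : Q := act 3 n36233
theorem D79557 : act 3 n36233 = n79557 := rfl
def n79558 : Q := act 5 n36233
theorem D79558 : act 5 n36233 = n79558 := rfl
def n79559 : Q := act 6 n36233
theorem D79559 : act 6 n36233 = n79559 := rfl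
def n79560 : Q := act 3 n36234
theorem D79560 : act 3 n36234 = n79560 := rfl
def n79561 : Q := act 5 n36234
theorem D79561 : act 5 n36234 = n79561 := rfl
def n79562 : Q := act 6 n36234
theorem D79562 : act 6 n36234 = n79562 := rfl
def n79563 : Q := act 0 n36235
theorem D79563 : act 0 n36235 = n79563 := rfl
def n79564 : Q := act 1 n36235
theorem D79564 : act 1 n36235 = n79564 := rfl
def n79565 : Q := act 2 n36235
theorem D79565 : act 2 n36235 = n79565 := rfl
theorem F122194 : act 4 n79565 = n36404 := d1_2 (iv4 F56935) D79565 (iv2 D36404)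
theorem F122195 : act 6 n79565 = n36285 := d3_2 (iv6 F56936) D79565 (iv2 D36285)
def n79566 : Q := act 5 n36235
theorem D79566 : act 5 n36235 = n79566 := rfl
theorem F122196 : act 3 n79566 = n36236 := d6_1 D79566 (iv5 D36236) D36235
def n79567 : Q := act 7 n36235
theorem D79567 : act 7 n36235 = n79567 := rfl
theorem F122198 : act 4 n79567 = n36406 := d11_1 D79567 (iv7 D36406) (iv4 F56935)
def n79568 : Q := act 0 n36236
theorem D79568 : act 0 n36236 = n79568 := rfl
def n79569 : Q := act 1 n36236
theorem D79569 : act 1 n36236 = n79569 := rfl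
def n79570 : Q := act 4 n36236
theorem D79570 : act 4 n36236 = n79570 := rfl
def n79571 : Q := act 6 n36236
theorem D79571 : act 6 n36236 = n79571 := rfl
theorem F122199 : act 5 n79571 = n36290 := d12_1 D79571 (iv6 D36290) (iv5 D17521) (iv6 F28481) D36236
def n79572 : Q := act 7 n36236
theorem D79572 : act 7 n36236 = n79572 := rfl
theorem F122200 : act 5 n79572 = n36237 := d13_1 D79572 (iv7 D36237) D36236
def n79573 : Q := act 6 n36237
theorem D79573 : act 6 n36237 = n79573 := rfl
theorem F122201 : act 4 n79573 = n36238 := d10_1 D79573 (iv6 D36238) (iv4 F56937)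
def n79574 : Q := act 3 n36239
theorem D79574 : act 3 n36239 = n79574 := rfl
theorem F122203 : act 4 n79574 = n36249 := d5_2 D36239 D79574 (iv3 D36249) (iv4 D17507) (iv3 F28484)
theorem F122204 : act 7 n79574 = n44987 := d8_2 (iv7 F56941) D79574 (iv3 D44987)
def n79575 : Q := act 6 n36239
theorem D79575 : act 6 n36239 = n79575 := rfl
theorem F122205 : act 2 n79575 = n75180 := d3_1 D79575 (iv6 D75180) (iv2 F56940)
theorem F122206 : act 4 n79575 = n36240 := d10_1 D79575 (iv6 D36240) D36239
theorem F122207 : act 0 n79575 = n76181 := d20_7 (iv4 F55906) (iv1 F55908) F55009 (iv3 F121774) (iv1 D36253) (iv3 F56944) (iv4 F122206) (iv4 D76181) (iv3 D34798) (iv1 F28013)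
def n79576 : Q := act 0 n36240
theorem D79576 : act 0 n36240 = n79576 := rfl
def n79577 : Q := act 1 n36240
theorem D79577 : act 1 n36240 = n79577 := rfl
theorem F122208 : act 5 n44495 = n79577 := d21_6 (iv5 D10082) (iv1 D4586) D4587 D10085 D21160 D44495 (iv1 D79577) F56945 (iv6 D17745) (iv1 F15941)
theorem F122209 : act 2 n79577 = n77176 := d2_1 F122208 F121843 (iv2 F121853)
def n79578 : Q := act 7 n36240
theorem D79578 : act 7 n36240 = n79578 := rfl
theorem F122210 : act 3 n79578 = n36254 := d8_1 D79578 (iv7 D36254) (iv3 F56944)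
theorem F122211 : act 5 n79578 = n36818 := d13_1 D79578 (iv7 D36818) (iv5 F56945)
theorem F122212 : act 6 n79578 = n44981 := d14_1 D79578 (iv7 D44981) F33750 (iv7 F28485) D36240
theorem F122213 : act 1 n77176 = n79578 := d15_1 (iv0 F121844) (iv7 D79578) (iv2 F61531)
def n79579 : Q := act 6 n36241
theorem D79579 : act 6 n36241 = n79579 := rfl
theorem F122214 : act 2 n79579 = n38861 := d3_1 D79579 (iv6 D38861) (iv2 F56946)
theorem F122215 : act 3 n79579 = n77185 := d7_1 D79579 (iv6 D77185) (iv3 F56947)
theorem F122216 : act 4 n79579 = n77921 := d10_1 D79579 (iv6 D77921) (iv4 F56951)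
def n79580 : Q := act 4 n36242
theorem D79580 : act 4 n36242 = n79580 := rfl
theorem F122217 : act 2 n79580 = n77259 := d1_1 D79580 F116021 F60829
theorem F122218 : act 3 n79580 = n77986 := d5_1 D79580 (iv4 D77986) (iv3 D35579) (iv4 F28497) (iv3 F56952)
theorem F122219 : act 7 n79580 = n40560 := d11_2 (iv7 F56953) D79580 (iv4 D40560)
theorem F122220 : act 0 n79580 = n36414 := d18_2 (iv1 F56955) D79580 (iv4 D36414) F28571 (iv4 F31161) F31164 (iv4 F30574) (iv0 D19050) D19051
theorem F122221 : act 1 n79580 = n36417 := d18_6 F13825 F12782 F15465 (iv4 F28491) D36242 D79580 (iv4 D36417) F28575 F28280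
def n79581 : Q := act 6 n36243
theorem D79581 : act 6 n36243 = n79581 := rfl
theorem F122222 : act 2 n79581 = n38867 := d3_1 D79581 (iv6 D38867) F56957
theorem F122223 : act 3 n79581 = n78453 := d7_1 D79581 (iv6 D78453) F56960
theorem F122224 : act 5 n79581 = n79579 := d12_1 D79581 (iv6 D79579) (iv5 D36241) F43409 (iv5 F56956)
def n79582 : Q := act 0 n36244
theorem D79582 : act 0 n36244 = n79582 := rfl
def n79583 : Q := act 1 n36244
theorem D79583 : act 1 n36244 = n79583 := rfl
theorem F122225 : act 1 n79583 = n79154 := d15_1 D79583 (iv7 D79154) (iv2 F56961)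
def n79584 : Q := act 7 n36244
theorem D79584 : act 7 n36244 = n79584 := rfl
theorem F122226 : act 2 n79584 = n79154 := d4_1 D79584 (iv7 D79154) (iv2 F56961)
theorem F122227 : act 4 n79584 = n77992 := d11_1 D79584 (iv7 D77992) (iv4 F56962)
theorem F122228 : act 5 n79584 = n37969 := d13_1 D79584 (iv7 D37969) (iv5 F56963)
theorem F122229 : act 1 n79154 = n79582 := d15_0 (iv0 D79582) D79584 F122226
theorem F122230 : act 1 n79153 = n79584 := d15_1 D79153 (iv7 D79584) F56961
theorem F122231 : act 4 n77392 = n79153 := d18_7 (iv1 F58807) F117071 (iv1 D35322) F28095 D17149 D35337 D77392 F122230 F122228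
theorem F122232 : act 1 n79584 = n79152 := d15_0 (iv0 D79152) D79154 (iv2 F122226)
def n79585 : Q := act 3 n36245
theorem D79585 : act 3 n36245 = n79585 := rfl
theorem F122234 : act 5 n79585 = n78025 := d6_2 (iv5 F56966) D79585 (iv3 D78025)
theorem F122235 : act 7 n79585 = n55661 := d8_2 (iv7 F56965) D79585 (iv3 D55661)
def n79586 : Q := act 6 n36245
theorem D79586 : act 6 n36245 = n79586 := rfl
theorem F122236 : act 2 n79586 = n55807 := d3_1 D79586 (iv6 D55807) (iv2 F56964)
theorem F122237 : act 4 n79586 = n36246 := d10_1 D79586 (iv6 D36246) D36245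
def n79589 : Q := act 7 n36246
theorem D79589 : act 7 n36246 = n79589 := rfl
theorem F122240 : act 3 n79589 = n77404 := d8_1 D79589 (iv7 D77404) (iv3 F56970)
theorem F122241 : act 5 n79589 = n79267 := d13_1 D79589 F121641 (iv5 F56971)
theorem F122242 : act 6 n79589 = n55659 := d14_1 D79589 (iv7 D55659) F43332 (iv7 F28501) D36246
theorem F122244 : act 1 n55809 = n79589 := d15_1 D55809 (iv7 D79589) F56969
def n79590 : Q := act 3 n36247
theorem D79590 : act 3 n36247 = n79590 := rfl
theorem F122246 : act 4 n79590 = n57931 := d5_2 (iv4 F56972) D79590 (iv3 D57931) (iv4 D27645) D27644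
theorem F122247 : act 7 n79590 = n79203 := d8_2 F56975 D79590 (iv3 D79203)
def n79591 : Q := act 5 n36247
theorem D79591 : act 5 n36247 = n79591 := rfl
theorem F122249 : act 7 n79591 = n79204 := d13_2 F56975 D79591 (iv5 D79204)
def n79592 : Q := act 6 n36247
theorem D79592 : act 6 n36247 = n79592 := rfl
theorem F122252 : act 2 n79592 = n79202 := d3_1 D79592 (iv6 D79202) F56974
theorem F122253 : act 4 n79592 = n57930 := d10_1 D79592 (iv6 D57930) (iv4 F56972)
def n79593 : Q := act 3 n36248
theorem D79593 : act 3 n36248 = n79593 := rfl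
theorem F122254 : act 4 n79593 = n78602 := d5_2 F57294 D79593 (iv3 D78602) F56468 F57298
theorem F122255 : act 7 n79593 = n79200 := d8_2 (iv7 F56977) D79593 (iv3 D79200)
def n79594 : Q := act 5 n36248
theorem D79594 : act 5 n36248 = n79594 := rfl
theorem F122259 : act 1 n79594 = n55789 := d17_6 (iv1 F56108) (iv5 D35393) (iv1 F30567) (iv5 F57293) F57294 D79594 (iv5 D55789) (iv0 F87602) (iv4 D55350)
def n79595 : Q := act 6 n36248
theorem D79595 : act 6 n36248 = n79595 := rfl
def n79596 : Q := act 0 n36249
theorem D79596 : act 0 n36249 = n79596 := rfl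
def n79597 : Q := act 1 n36249
theorem D79597 : act 1 n36249 = n79597 := rfl
def n79598 : Q := act 2 n36249
theorem D79598 : act 2 n36249 = n79598 := rfl
theorem F122261 : act 3 n79598 = n79208 := d0_2 D36249 D79598 (iv2 D79208) (iv3 D36060) (iv2 F28503)
def n79599 : Q := act 5 n36249
theorem D79599 : act 5 n36249 = n79599 := rfl
theorem F122262 : act 3 n79599 = n36250 := d6_1 D79599 (iv5 D36250) D36249
def n79600 : Q := act 6 n36249
theorem D79600 : act 6 n36249 = n79600 := rfl
def n79602 : Q := act 1 n36250
theorem D79602 : act 1 n36250 = n79602 := rfl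
theorem F122269 : act 1 n79602 = n36258 := d15_1 D79602 F56999 (iv2 F56979)
theorem F122272 : act 4 n79602 = n77920 := d18_7 (iv1 F57307) F57309 (iv1 F56958) F28512 D35583 (iv4 F56980) D79602 F119145 (iv5 D56009)
def n79603 : Q := act 6 n36250
theorem D79603 : act 6 n36250 = n79603 := rfl
def n79604 : Q := act 0 n36251
theorem D79604 : act 0 n36251 = n79604 := rfl
def n79606 : Q := act 5 n36251
theorem D79606 : act 5 n36251 = n79606 := rfl
def n79607 : Q := act 7 n36251
theorem D79607 : act 7 n36251 = n79607 := rfl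
theorem F122278 : act 2 n79607 = n79199 := d4_1 D79607 (iv7 D79199) (iv2 F56981)
theorem F122279 : act 4 n79607 = n36254 := d11_1 D79607 (iv7 D36254) (iv4 F56982)
theorem F122280 : act 1 n79199 = n79604 := d15_0 (iv0 D79604) D79607 F122278
theorem F122281 : act 1 n79196 = n79607 := d15_1 D79196 (iv7 D79607) F56981
theorem F122282 : act 4 n79196 = n76884 := d20_2 (iv4 F122279) (iv1 F122281) (iv3 D76884) (iv1 D35132) F27979 D17072 D35163 F55894 D35259 (iv1 F121746)
theorem F122283 : act 1 n79607 = n79195 := d15_0 (iv0 D79195) D79199 (iv2 F122278)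
theorem F122284 : act 4 n79195 = n77358 := d18_7 D35313 (iv4 F117577) (iv1 F57769) F57765 (iv5 F56986) (iv4 F122279) F122283 (iv0 D77358) (iv5 D35315)
def n79608 : Q := act 3 n36252
theorem D79608 : act 3 n36252 = n79608 := rfl
theorem F122285 : act 2 n79608 = n36433 := d0_1 D79608 (iv3 D36433) F53085 D35259 (iv2 F121869)
theorem F122286 : act 7 n79608 = n77238 := d8_2 (iv7 F121870) D79608 F121871
theorem F122289 : act 1 n79608 = n77236 := d15_0 (iv0 D77236) (iv7 F57210) (iv2 F122285)
def n79609 : Q := act 4 n36252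
theorem D79609 : act 4 n36252 = n79609 := rfl
theorem F122290 : act 2 n79609 = n77234 := d1_1 D79609 (iv4 D77234) (iv2 F121869)
def n79610 : Q := act 5 n36252
theorem D79610 : act 5 n36252 = n79610 := rfl
theorem F122297 : act 0 n55657 = n79610 := d21_10 (iv5 D79610) (iv1 F56987) F56795 (iv6 F28890) F59789 D35304 (iv5 F56345) F88050 (iv5 D55656) D55657
def n79611 : Q := act 4 n36253
theorem D79611 : act 4 n36253 = n79611 := rfl
theorem F122299 : act 7 n79611 = n77234 := d11_2 (iv7 F121776) D79611 (iv4 D77234)
theorem F122300 : act 0 n79611 = n55795 := d18_2 (iv1 F56983) D79611 F88260 (iv5 D35315) (iv4 F28899) (iv0 F117584) (iv4 D36709) (iv0 F59736) (iv5 F56795)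
theorem F122301 : act 1 n79609 = n55795 := d15_0 (iv0 F122300) F122299 (iv2 F122290)
def n79612 : Q := act 6 n36253
theorem D79612 : act 6 n36253 = n79612 := rfl
theorem F122304 : act 5 n79612 = n73837 := d12_1 D79612 (iv6 D73837) (iv5 D33908) D33909 (iv5 F121775)
def n79613 : Q := act 3 n36255
theorem D79613 : act 3 n36255 = n79613 := rfl
theorem F122305 : act 4 n79613 = n36257 := d5_2 D36255 D79613 (iv3 D36257) (iv4 D17511) (iv3 F28507)
theorem F122306 : act 7 n79613 = n75284 := d8_2 (iv7 F56991) D79613 (iv3 D75284)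
def n79614 : Q := act 0 n36256
theorem D79614 : act 0 n36256 = n79614 := rfl
def n79615 : Q := act 1 n36256
theorem D79615 : act 1 n36256 = n79615 := rfl
theorem F122307 : act 5 n79111 = n79615 := d21_6 (iv5 F7226) F12102 D8188 D17432 D36005 D79111 (iv1 D79615) F56996 (iv6 D17737) F16297
theorem F122308 : act 2 n79615 = n38846 := d2_1 F122307 F112985 (iv2 F120394)
def n79616 : Q := act 7 n36256
theorem D79616 : act 7 n36256 = n79616 := rfl
theorem F122309 : act 3 n79616 = n37214 := d8_1 D79616 (iv7 D37214) (iv3 F56994)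
theorem F122310 : act 4 n79616 = n78000 := d11_1 D79616 (iv7 D78000) (iv4 F56995)
theorem F122311 : act 5 n79616 = n36793 := d13_1 D79616 (iv7 D36793) (iv5 F56996)
theorem F122313 : act 1 n38846 = n79616 := d15_1 (iv0 F117115) (iv7 D79616) (iv2 F89001)
theorem F122314 : act 4 n56272 = n56050 := d18_1 (iv1 F89000) (iv1 D56050) F43693 (iv5 F28193) (iv4 F56256) D77977 F119184 F122313 F122311
theorem F122315 : act 0 n78000 = n77596 := d20_7 D17266 (iv1 F45056) (iv4 D18853) D18852 F116793 (iv3 F122309) F122310 (iv4 D77596) F91262 (iv1 D17265)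
theorem F122316 : act 1 n78000 = n77593 := d15_1 (iv0 F122315) (iv7 F119199) F119198
theorem F122317 : act 1 n77522 = n77596 := d15_0 (iv0 F122315) (iv7 D78000) (iv2 F116416)
theorem F122318 : act 1 n77593 = n77522 := d15_0 F122317 (iv7 F119192) F119191
theorem E13241 : n77574 = n17192 := (c18_3 (iv1 F43698) D35415 (iv1 F116473) (iv4 F43829) D56273 (iv4 F116417) F122317 (iv4 D77596) F56261 F56259)
theorem E13242 : n35453 = n35410 := ((D35453).symm.trans (sb E13241 (iv1 D77574)))
theorem E13243 : n35454 = n35415 := ((D35454).symm.trans (sb E13241 F116473))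
theorem E13244 : n77573 = n56073 := ((D77573).symm.trans (sb E13242 (iv1 F88751)))
theorem F122319 : act 1 n35410 = n17192 := (sb E13242 (iv0 D35453))
theorem F122320 : act 0 n35415 = n17192 := (sb E13243 (iv1 D35454))
theorem F122321 : act 0 n56073 = n35415 := (sb E13244 (iv1 F116472))
theorem F122322 : act 1 n56073 = n35410 := (sb E13244 (iv0 D77573))
theorem F122323 : act 4 n45152 = n39111 := d20_6 D35410 (iv1 F122322) F88747 F57706 (iv1 F33917) D45152 (iv1 D39111) F29813 F28134 D17177
def n79617 : Q := act 0 n36257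
theorem D79617 : act 0 n36257 = n79617 := rfl
theorem F122324 : act 1 n79208 = n79617 := d15_0 (iv0 D79617) F56997 D79208
def n79618 : Q := act 1 n36257
theorem D79618 : act 1 n36257 = n79618 := rfl
def n79619 : Q := act 2 n36257
theorem D79619 : act 2 n36257 = n79619 := rfl
theorem F122325 : act 7 n79619 = n79208 := d4_2 (iv7 F56997) D79619 (iv2 D79208)
theorem F122326 : act 1 n79619 = n79206 := d15_0 (iv0 D79206) (iv7 F56997) D79619
theorem F122327 : act 1 n79618 = n79208 := d15_1 D79618 (iv7 F122325) (iv2 D79619)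
theorem F122328 : act 1 n79207 = n79619 := d15_1 D79207 F122325 (iv2 D79208)
def n79620 : Q := act 5 n36257
theorem D79620 : act 5 n36257 = n79620 := rfl
def n79622 : Q := act 6 n36259
theorem D79622 : act 6 n36259 = n79622 := rfl
theorem F122332 : act 2 n79622 = n36261 := d3_1 D79622 (iv6 D36261) D36259
theorem F122333 : act 3 n79622 = n42619 := d7_1 D79622 (iv6 D42619) (iv3 F57000)
theorem F122334 : act 5 n79622 = n79622 := d12_1 D79622 (iv6 D79622) F57001 F30711 (iv5 F57001)
def n79623 : Q := act 3 n36260
theorem D79623 : act 3 n36260 = n79623 := rfl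
theorem F122335 : act 4 n79623 = n36264 := d5_2 D36260 D79623 (iv3 D36264) (iv4 D17513) D17512
def n79624 : Q := act 6 n36260
theorem D79624 : act 6 n36260 = n79624 := rfl
theorem F122336 : act 4 n79624 = n36261 := d10_1 D79624 (iv6 D36261) D36260
theorem F122337 : act 0 n79624 = n78869 := d20_7 (iv4 F88550) (iv1 F115716) (iv4 D35804) D35803 F88250 (iv3 F57006) (iv4 F122336) (iv4 D78869) (iv3 D35902) (iv1 F43564)
def n79625 : Q := act 0 n36261
theorem D79625 : act 0 n36261 = n79625 := rfl
theorem F122338 : act 6 n79625 = n77159 := d21_5 F33768 (iv1 F30722) (iv5 F28514) D36261 D79625 (iv5 D77159) F115866 D40444 F61532 (iv1 F33766)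
theorem F122339 : act 3 n77165 = n79625 := d7_3 F122338 F115925 D77165
def n79626 : Q := act 1 n36261
theorem D79626 : act 1 n36261 = n79626 := rfl
def n79627 : Q := act 7 n36261
theorem D79627 : act 7 n36261 = n79627 := rfl
theorem F122340 : act 3 n79627 = n36269 := d8_1 D79627 (iv7 D36269) (iv3 F57006)
theorem F122341 : act 5 n79627 = n79627 := d13_1 D79627 (iv7 D79627) F57007
def n79628 : Q := act 3 n36262
theorem D79628 : act 3 n36262 = n79628 := rfl
theorem F122342 : act 4 n79628 = n57926 := d5_2 (iv4 F57008) D79628 (iv3 D57926) (iv4 D27642) (iv3 F44560)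
def n79629 : Q := act 6 n36262
theorem D79629 : act 6 n36262 = n79629 := rfl
theorem F122343 : act 4 n79629 = n57924 := d10_1 D79629 (iv6 D57924) (iv4 F57008)
def n79630 : Q := act 3 n36263
theorem D79630 : act 3 n36263 = n79630 := rfl
def n79631 : Q := act 0 n36264
theorem D79631 : act 0 n36264 = n79631 := rfl
def n79632 : Q := act 1 n36264
theorem D79632 : act 1 n36264 = n79632 := rfl
def n79633 : Q := act 2 n36264
theorem D79633 : act 2 n36264 = n79633 := rfl
def n79634 : Q := act 5 n36264
theorem D79634 : act 5 n36264 = n79634 := rfl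
theorem F122344 : act 3 n79634 = n36265 := d6_1 D79634 (iv5 D36265) D36264
def n79635 : Q := act 6 n36264
theorem D79635 : act 6 n36264 = n79635 := rfl
def n79637 : Q := act 0 n36266
theorem D79637 : act 0 n36266 = n79637 := rfl
theorem F122346 : act 4 n79637 = n77948 := d20_2 (iv4 F57012) D79637 (iv3 F119166) F115499 F88535 (iv4 F88550) (iv1 F115716) (iv4 D35804) D35803 F88250
def n79638 : Q := act 1 n36266
theorem D79638 : act 1 n36266 = n79638 := rfl
def n79640 : Q := act 7 n36266
theorem D79640 : act 7 n36266 = n79640 := rfl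
theorem F122347 : act 4 n79640 = n36269 := d11_1 D79640 (iv7 D36269) (iv4 F57012)
def n79641 : Q := act 4 n36267
theorem D79641 : act 4 n36267 = n79641 := rfl
def n79642 : Q := act 0 n36270
theorem D79642 : act 0 n36270 = n79642 := rfl
theorem F122349 : act 6 n79642 = n45834 := d21_5 (iv5 D19476) F17024 (iv5 F28516) D36270 D79642 (iv5 D45834) (iv1 D21921) D21922 F34413 (iv1 F31149)
def n79643 : Q := act 1 n36270
theorem D79643 : act 1 n36270 = n79643 := rfl
def n79644 : Q := act 7 n36270
theorem D79644 : act 7 n36270 = n79644 := rfl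
theorem F122351 : act 5 n79644 = n46250 := d13_1 D79644 (iv7 D46250) (iv5 F57016)
def n79645 : Q := act 0 n36271
theorem D79645 : act 0 n36271 = n79645 := rfl
def n79646 : Q := act 1 n36271
theorem D79646 : act 1 n36271 = n79646 := rfl
def n79647 : Q := act 2 n36271
theorem D79647 : act 2 n36271 = n79647 := rfl
def n79651 : Q := act 0 n36273
theorem D79651 : act 0 n36273 = n79651 := rfl
def n79652 : Q := act 1 n36273
theorem D79652 : act 1 n36273 = n79652 := rfl
def n79654 : Q := act 7 n36273
theorem D79654 : act 7 n36273 = n79654 := rfl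
theorem F122354 : act 4 n79654 = n36276 := d11_1 D79654 (iv7 D36276) (iv4 F57017)
def n79656 : Q := act 5 n36275
theorem D79656 : act 5 n36275 = n79656 := rfl
theorem F122355 : act 0 n36923 = n79656 := d21_10 (iv5 D79656) (iv1 D36275) (iv5 F28924) (iv6 D17791) F16909 (iv6 F13181) (iv5 D8382) D8380 D17775 D36923
theorem F122357 : act 1 n36950 = n79656 := d15_0 (iv0 F122355) F122114 F122112
def n79657 : Q := act 0 n36277
theorem D79657 : act 0 n36277 = n79657 := rfl
def n79658 : Q := act 1 n36277
theorem D79658 : act 1 n36277 = n79658 := rfl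
def n79659 : Q := act 2 n36277
theorem D79659 : act 2 n36277 = n79659 := rfl
def n79660 : Q := act 4 n36277
theorem D79660 : act 4 n36277 = n79660 := rfl
theorem F122359 : act 3 n79660 = n75273 := d5_1 D79660 (iv4 D75273) (iv3 F56105) F56109 D36277
def n79661 : Q := act 5 n36277
theorem D79661 : act 5 n36277 = n79661 := rfl
theorem F122360 : act 3 n79661 = n36278 := d6_1 D79661 (iv5 D36278) D36277
def n79662 : Q := act 6 n36277
theorem D79662 : act 6 n36277 = n79662 := rfl
def n79664 : Q := act 0 n36279
theorem D79664 : act 0 n36279 = n79664 := rfl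
def n79665 : Q := act 1 n36279
theorem D79665 : act 1 n36279 = n79665 := rfl
def n79667 : Q := act 7 n36279
theorem D79667 : act 7 n36279 = n79667 := rfl
def n79668 : Q := act 0 n36280
theorem D79668 : act 0 n36280 = n79668 := rfl
def n79669 : Q := act 1 n36280
theorem D79669 : act 1 n36280 = n79669 := rfl
def n79670 : Q := act 2 n36280
theorem D79670 : act 2 n36280 = n79670 := rfl
def n79671 : Q := act 4 n36280
theorem D79671 : act 4 n36280 = n79671 := rfl
theorem F122362 : act 3 n79671 = n37677 := d5_1 D79671 (iv4 D37677) (iv3 F56099) (iv4 F56103) D36280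
theorem F122363 : act 7 n79671 = n75209 := d11_2 F119162 D79671 (iv4 F119161)
def n79672 : Q := act 5 n36280
theorem D79672 : act 5 n36280 = n79672 := rfl
theorem F122364 : act 3 n79672 = n36281 := d6_1 D79672 (iv5 D36281) D36280
def n79678 : Q := act 7 n36282
theorem D79678 : act 7 n36282 = n79678 := rfl
def n79679 : Q := act 2 n36283
theorem D79679 : act 2 n36283 = n79679 := rfl
theorem F122366 : act 7 n36284 = n79679 := d15_2 (iv0 D36283) D36284 (iv2 D79679)
def n79680 : Q := act 3 n36283
theorem D79680 : act 3 n36283 = n79680 := rfl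
def n79681 : Q := act 4 n36283
theorem D79681 : act 4 n36283 = n79681 := rfl
def n79682 : Q := act 5 n36283
theorem D79682 : act 5 n36283 = n79682 := rfl
def n79683 : Q := act 6 n36283
theorem D79683 : act 6 n36283 = n79683 := rfl
def n79684 : Q := act 7 n36283
theorem D79684 : act 7 n36283 = n79684 := rfl
theorem F122367 : act 2 n79684 = n36284 := d4_1 D79684 F122366 (iv2 D79679)
def n79685 : Q := act 3 n36284
theorem D79685 : act 3 n36284 = n79685 := rfl
def n79686 : Q := act 4 n36284
theorem D79686 : act 4 n36284 = n79686 := rfl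
theorem F122368 : act 3 n58705 = n79686 := d20_5 (iv4 D8141) (iv1 F9826) D13309 D27911 D58705 (iv4 D79686) (iv1 D36284) F28519 (iv3 D8266) (iv1 F12907)
def n79687 : Q := act 5 n36284
theorem D79687 : act 5 n36284 = n79687 := rfl
def n79688 : Q := act 6 n36284
theorem D79688 : act 6 n36284 = n79688 := rfl
def n79689 : Q := act 5 n36285
theorem D79689 : act 5 n36285 = n79689 := rfl
theorem F122369 : act 2 n79689 = n36286 := d2_1 D79689 (iv5 D36286) D36285
def n79690 : Q := act 0 n36286
theorem D79690 : act 0 n36286 = n79690 := rfl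
def n79691 : Q := act 1 n36286
theorem D79691 : act 1 n36286 = n79691 := rfl
def n79692 : Q := act 4 n36286
theorem D79692 : act 4 n36286 = n79692 := rfl
def n79693 : Q := act 6 n36286
theorem D79693 : act 6 n36286 = n79693 := rfl
def n79694 : Q := act 3 n36287
theorem D79694 : act 3 n36287 = n79694 := rfl
theorem F122371 : act 5 n79694 = n55794 := d6_2 (iv5 F57020) D79694 (iv3 D55794)
def n79695 : Q := act 6 n36287
theorem D79695 : act 6 n36287 = n79695 := rfl
theorem F122372 : act 4 n79695 = n77975 := d10_1 D79695 (iv6 D77975) F57021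
def n79696 : Q := act 3 n36288
theorem D79696 : act 3 n36288 = n79696 := rfl
theorem F122373 : act 5 n79696 = n55796 := d6_2 (iv5 F57022) D79696 (iv3 D55796)
def n79703 : Q := act 6 n36291
theorem D79703 : act 6 n36291 = n79703 := rfl
def n79704 : Q := act 0 n36292
theorem D79704 : act 0 n36292 = n79704 := rfl
def n79705 : Q := act 1 n36292
theorem D79705 : act 1 n36292 = n79705 := rfl
def n79706 : Q := act 5 n36292
theorem D79706 : act 5 n36292 = n79706 := rfl
def n79707 : Q := act 3 n36293
theorem D79707 : act 3 n36293 = n79707 := rfl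
def n79708 : Q := act 4 n36293
theorem D79708 : act 4 n36293 = n79708 := rfl
def n79709 : Q := act 3 n36294
theorem D79709 : act 3 n36294 = n79709 := rfl
theorem F122377 : act 7 n79709 = n47686 := d8_2 (iv7 F89173) D79709 (iv3 F119076)
def n79710 : Q := act 4 n36294
theorem D79710 : act 4 n36294 = n79710 := rfl
def n79711 : Q := act 3 n36297
theorem D79711 : act 3 n36297 = n79711 := rfl
theorem F122378 : act 4 n79711 = n38526 := d5_2 D36297 D79711 F59361 (iv4 F31250) F118114
theorem F122379 : act 6 n79711 = n79420 := d7_2 F118415 D79711 F122004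
theorem F122380 : act 7 n79711 = n36878 := d8_2 (iv7 F118414) D79711 (iv3 F60911)
theorem F122381 : act 2 n79416 = n79711 := d4_3 F122380 F57824 D79416
theorem F122382 : act 1 n79414 = n79711 := d15_1 D79414 F122380 F57824
theorem F122383 : act 1 n79711 = n79413 := d15_0 (iv0 D79413) D79416 F122381
def n79712 : Q := act 5 n36297
theorem D79712 : act 5 n36297 = n79712 := rfl
def n79713 : Q := act 4 n36298
theorem D79713 : act 4 n36298 = n79713 := rfl
def n79714 : Q := act 3 n36305
theorem D79714 : act 3 n36305 = n79714 := rfl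
def n79715 : Q := act 5 n36305
theorem D79715 : act 5 n36305 = n79715 := rfl
theorem F122384 : act 2 n79715 = n36311 := d2_1 D79715 (iv5 D36311) (iv2 F57031)
def n79716 : Q := act 6 n36305
theorem D79716 : act 6 n36305 = n79716 := rfl
theorem F122385 : act 2 n79716 = n36312 := d3_1 D79716 (iv6 D36312) (iv2 F57031)
theorem F122386 : act 4 n79716 = n36307 := d10_1 D79716 (iv6 D36307) D36305
def n79717 : Q := act 4 n36306
theorem D79717 : act 4 n36306 = n79717 := rfl
theorem F122387 : act 2 n79717 = n36315 := d1_1 D79717 (iv4 D36315) (iv2 F57032)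
def n79718 : Q := act 6 n36306
theorem D79718 : act 6 n36306 = n79718 := rfl
theorem F122388 : act 2 n79718 = n36316 := d3_1 D79718 (iv6 D36316) (iv2 F57032)
theorem F122389 : act 7 n79718 = n78388 := d14_2 F118101 D79718 (iv6 D78388) (iv7 F118096) F61003
theorem F122390 : act 1 n78395 = n79718 := d15_1 D78395 F122389 F119594
theorem F122391 : act 5 n78395 = n37095 := d21_0 (iv1 D37095) (iv5 F32124) (iv6 D20253) F30313 (iv6 F60916) (iv5 D40041) (iv1 F118071) D36306 D79718 (iv1 F122390)
theorem F122392 : act 1 n79718 = n78394 := d15_0 (iv0 D78394) (iv7 F57038) (iv2 F122388)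
def n79719 : Q := act 7 n36307
theorem D79719 : act 7 n36307 = n79719 := rfl
theorem F122393 : act 2 n79719 = n36319 := d4_1 D79719 (iv7 D36319) (iv2 F57033)
theorem F122394 : act 5 n79719 = n37062 := d13_1 D79719 (iv7 F118090) F118089
theorem F122395 : act 6 n79719 = n40184 := d14_1 D79719 F118536 (iv6 D40112) (iv7 F118104) D36307
theorem F122396 : act 1 n36319 = n40213 := d15_0 (iv0 F118543) D79719 F122393
theorem F122397 : act 1 n36318 = n79719 := d15_1 D36318 (iv7 D79719) F57033
theorem F122398 : act 1 n79719 = n36317 := d15_0 (iv0 D36317) D36319 (iv2 F122393)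
theorem F122399 : act 6 n37002 = n37095 := d21_5 (iv5 F119052) (iv1 F122398) F122394 F118078 F118060 (iv5 F122391) (iv1 D78395) (iv5 F57920) (iv6 D37004) D37001
theorem F122400 : act 5 n36318 = n37002 := d21_2 (iv5 F122394) (iv1 F122397) F122399 (iv1 D37095) (iv6 D17850) (iv5 D8413) F17405 D10533 (iv6 F34569) F118084
theorem E13255 : n77277 = n37005 := ((c21_5 F122400 (iv1 D37002) (iv5 D17806) D17807 D37005 (iv6 D77277) (iv5 F57570) (iv1 F118527) (iv5 F61107) (iv6 F122395) (iv1 F122397))).symm
theorem F122401 : act 2 n37005 = n35293 := (sb E13255 F116062)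
theorem F122402 : act 3 n37005 = n75665 := (sb E13255 F116063)
theorem F122403 : act 5 n37005 = n55825 := (sb E13255 (iv5 F119059))
theorem F122404 : act 6 n37005 = n35275 := (sb E13255 (iv6 D77277))
theorem F122405 : act 7 n37005 = n78307 := (sb E13255 (iv7 F119508))
theorem F122406 : act 6 n78281 = n36318 := d21_5 F122403 (iv1 F88300) (iv5 D35688) D35689 D78281 F122400 (iv1 D37002) (iv5 D17806) D17807 D37005
theorem E13256 : n75767 = n75668 := ((c20_8 (iv4 F57947) (iv1 D37016) F28948 (iv3 F28944) D37005 F122402 F113527 D75668 (iv4 D75767) F117868 (iv1 F43253))).symm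
theorem F122407 : act 3 n75668 = n73646 := (sb E13256 F117869)
theorem F122408 : act 4 n75668 = n34647 := (sb E13256 (iv4 D75767))
theorem F122409 : act 7 n75668 = n37715 := (sb E13256 (iv7 F117879))
theorem E13257 : n77323 = n37006 := ((c15_2 (iv0 D37005) D37006 (iv7 D77323) (iv2 F122401))).symm
theorem F122410 : act 2 n37006 = n78307 := (sb E13257 (iv2 F119507))
theorem F122411 : act 5 n37006 = n55826 := (sb E13257 F119065)
theorem F122412 : act 7 n37006 = n35293 := (sb E13257 (iv7 D77323))
def n79720 : Q := act 3 n36308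
theorem D79720 : act 3 n36308 = n79720 := rfl
def n79721 : Q := act 5 n36308
theorem D79721 : act 5 n36308 = n79721 := rfl
def n79722 : Q := act 0 n36310
theorem D79722 : act 0 n36310 = n79722 := rfl
theorem F122413 : act 1 n70113 = n79722 := d15_0 (iv0 D79722) F57035 (iv2 F106494)
def n79723 : Q := act 1 n36310
theorem D79723 : act 1 n36310 = n79723 := rfl
def n79724 : Q := act 2 n36310
theorem D79724 : act 2 n36310 = n79724 := rfl
theorem F122414 : act 4 n79724 = n36322 := d1_2 (iv4 F57034) D79724 (iv2 D36322)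
theorem F122415 : act 7 n79724 = n70113 := d4_2 (iv7 F57035) D79724 F106494
theorem F122416 : act 1 n79724 = n70116 := d15_0 (iv0 D70116) (iv7 F57035) D79724
theorem F122417 : act 1 n79723 = n70113 := d15_1 D79723 (iv7 F122415) (iv2 D79724)
theorem F122418 : act 1 n70117 = n79724 := d15_1 D70117 F122415 F106494
def n79725 : Q := act 5 n36310
theorem D79725 : act 5 n36310 = n79725 := rfl
theorem F122419 : act 3 n79725 = n36311 := d6_1 D79725 (iv5 D36311) D36310
theorem F122420 : act 7 n79725 = n70118 := d13_2 (iv7 F57035) D79725 (iv5 D70118)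
def n79726 : Q := act 6 n36310
theorem D79726 : act 6 n36310 = n79726 := rfl
theorem F122421 : act 3 n79726 = n36312 := d7_1 D79726 (iv6 D36312) D36310
theorem F122422 : act 4 n79726 = n36324 := d10_1 D79726 (iv6 D36324) (iv4 F57034)
def n79727 : Q := act 0 n36311
theorem D79727 : act 0 n36311 = n79727 := rfl
def n79728 : Q := act 1 n36311
theorem D79728 : act 1 n36311 = n79728 := rfl
def n79729 : Q := act 4 n36311
theorem D79729 : act 4 n36311 = n79729 := rfl
def n79730 : Q := act 6 n36311
theorem D79730 : act 6 n36311 = n79730 := rfl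
def n79731 : Q := act 0 n36312
theorem D79731 : act 0 n36312 = n79731 := rfl
def n79733 : Q := act 5 n36312
theorem D79733 : act 5 n36312 = n79733 := rfl
def n79734 : Q := act 7 n36312
theorem D79734 : act 7 n36312 = n79734 := rfl
theorem F122424 : act 4 n79734 = n36319 := d11_1 D79734 (iv7 D36319) (iv4 F57036)
def n79735 : Q := act 4 n36313
theorem D79735 : act 4 n36313 = n79735 := rfl
def n79736 : Q := act 3 n36314
theorem D79736 : act 3 n36314 = n79736 := rfl
theorem F122425 : act 6 n79736 = n78621 := d7_2 (iv6 F119045) D79736 (iv3 D78621)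
def n79737 : Q := act 4 n36314
theorem D79737 : act 4 n36314 = n79737 := rfl
theorem F122426 : act 6 n79737 = n78622 := d10_2 (iv6 F119045) D79737 (iv4 D78622)
def n79738 : Q := act 0 n36315
theorem D79738 : act 0 n36315 = n79738 := rfl
def n79739 : Q := act 1 n36315
theorem D79739 : act 1 n36315 = n79739 := rfl
def n79740 : Q := act 3 n36315
theorem D79740 : act 3 n36315 = n79740 := rfl
theorem F122427 : act 4 n79740 = n36336 := d5_2 D36315 D79740 (iv3 D36336) (iv4 D17545) (iv3 F28530)
def n79741 : Q := act 5 n36315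
theorem D79741 : act 5 n36315 = n79741 := rfl
def n79742 : Q := act 6 n36315
theorem D79742 : act 6 n36315 = n79742 := rfl
theorem F122428 : act 4 n79742 = n36316 := d10_1 D79742 (iv6 D36316) D36315
theorem F122429 : act 7 n79742 = n78393 := d14_2 F88938 D79742 (iv6 D78393) (iv7 F88363) (iv6 F88937)
def n79743 : Q := act 0 n36316
theorem D79743 : act 0 n36316 = n79743 := rfl
theorem F122430 : act 1 n78388 = n79743 := d15_0 (iv0 D79743) F57038 (iv2 F119594)
theorem F122431 : act 6 n36424 = n79743 := d21_3 (iv5 D35701) D35699 (iv5 F119535) (iv1 F122430) (iv6 D78388) F57915 F119513 (iv5 F118840) D78310 F119522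
def n79744 : Q := act 1 n36316
theorem D79744 : act 1 n36316 = n79744 := rfl
theorem F122432 : act 1 n79744 = n78388 := d15_1 D79744 (iv7 F122389) F122388
def n79745 : Q := act 2 n36317
theorem D79745 : act 2 n36317 = n79745 := rfl
theorem F122433 : act 7 n36318 = n79745 := d15_2 (iv0 D36317) D36318 (iv2 D79745)
def n79747 : Q := act 7 n36317
theorem D79747 : act 7 n36317 = n79747 := rfl
theorem F122434 : act 2 n79747 = n36318 := d4_1 D79747 F122433 (iv2 D79745)
def n79748 : Q := act 3 n36318
theorem D79748 : act 3 n36318 = n79748 := rfl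
def n79749 : Q := act 4 n36318
theorem D79749 : act 4 n36318 = n79749 := rfl
def n79751 : Q := act 3 n36320
theorem D79751 : act 3 n36320 = n79751 := rfl
theorem F122436 : act 4 n79751 = n73552 := d20_6 F5430 D3710 D8244 D17539 D36320 D79751 (iv1 D73552) (iv4 D33806) (iv3 D16335) (iv1 D7592)
def n79752 : Q := act 4 n36320
theorem D79752 : act 4 n36320 = n79752 := rfl
theorem F122437 : act 0 n79752 = n73479 := d20_1 D79752 (iv4 D73479) (iv3 D33784) (iv1 D16326) F11828 F5430 D3710 D8244 D17539 D36320
def n79753 : Q := act 5 n36320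
theorem D79753 : act 5 n36320 = n79753 := rfl
def n79754 : Q := act 6 n36320
theorem D79754 : act 6 n36320 = n79754 := rfl
def n79755 : Q := act 7 n36320
theorem D79755 : act 7 n36320 = n79755 := rfl
def n79760 : Q := act 5 n36322
theorem D79760 : act 5 n36322 = n79760 := rfl
theorem F122439 : act 2 n79760 = n36323 := d2_1 D79760 (iv5 D36323) D36322
theorem F122440 : act 3 n79760 = n70080 := d6_1 D79760 (iv5 D70080) (iv3 F57042)
theorem F122441 : act 7 n79760 = n70114 := d13_2 (iv7 F57043) D79760 (iv5 D70114)
theorem F122442 : act 1 n70121 = n79760 := d15_1 D70121 F122441 F106495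
theorem F122443 : act 1 n79760 = n70120 := d15_0 (iv0 D70120) (iv7 F57048) (iv2 F122439)
def n79761 : Q := act 6 n36322
theorem D79761 : act 6 n36322 = n79761 := rfl
theorem F122444 : act 2 n79761 = n36324 := d3_1 D79761 (iv6 D36324) D36322
theorem F122445 : act 3 n79761 = n70081 := d7_1 D79761 (iv6 D70081) (iv3 F57042)
theorem F122446 : act 5 n61818 = n79761 := d6_0 F122445 (iv5 F106469) F98156
def n79762 : Q := act 0 n36323
theorem D79762 : act 0 n36323 = n79762 := rfl
theorem F122447 : act 1 n70114 = n79762 := d15_0 (iv0 D79762) F57048 (iv2 F106495)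
def n79763 : Q := act 1 n36323
theorem D79763 : act 1 n36323 = n79763 := rfl
theorem F122448 : act 1 n79763 = n70114 := d15_1 D79763 (iv7 F122441) F122439
def n79764 : Q := act 4 n36323
theorem D79764 : act 4 n36323 = n79764 := rfl
theorem F122449 : act 7 n79764 = n70122 := d11_2 (iv7 F57048) D79764 (iv4 D70122)
def n79765 : Q := act 6 n36323
theorem D79765 : act 6 n36323 = n79765 := rfl
theorem F122451 : act 5 n79765 = n61820 := d12_1 D79765 (iv6 D61820) F57050 (iv6 D36324) D36323
def n79766 : Q := act 0 n36324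
theorem D79766 : act 0 n36324 = n79766 := rfl
def n79767 : Q := act 1 n36324
theorem D79767 : act 1 n36324 = n79767 := rfl
def n79768 : Q := act 3 n36325
theorem D79768 : act 3 n36325 = n79768 := rfl
theorem F122452 : act 5 n79768 = n70752 := d6_2 (iv5 F57051) D79768 F107220
theorem F122453 : act 7 n79768 = n70095 := d8_2 F57054 D79768 (iv3 D70095)
def n79769 : Q := act 4 n36325
theorem D79769 : act 4 n36325 = n79769 := rfl
theorem F122454 : act 2 n79769 = n70093 := d1_1 D79769 (iv4 D70093) F57053
theorem F122456 : act 0 n79769 = n55090 := d18_2 D36325 D79769 (iv4 D55090) (iv5 D26624) F42641 F9787 (iv4 F11579) F30464 D17540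
theorem F122457 : act 1 n79769 = n55083 := d18_6 (iv1 D33313) F29133 (iv1 F43166) (iv4 F51921) (iv5 F57051) D79769 (iv4 D55083) D55082 F87108
def n79770 : Q := act 6 n36325
theorem D79770 : act 6 n36325 = n79770 := rfl
theorem F122458 : act 2 n79770 = n70094 := d3_1 D79770 (iv6 D70094) F57053
theorem F122459 : act 5 n79770 = n62823 := d12_1 D79770 F98048 (iv5 D32796) D32797 (iv5 F57051)
def n79771 : Q := act 4 n36326
theorem D79771 : act 4 n36326 = n79771 := rfl
theorem F122462 : act 6 n79771 = n70216 := d10_2 (iv6 F57058) D79771 (iv4 D70216)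
theorem F122463 : act 7 n79771 = n70093 := d11_2 (iv7 F57056) D79771 (iv4 D70093)
theorem F122464 : act 0 n79771 = n55083 := d18_2 (iv1 F57055) D79771 (iv4 D55083) (iv5 D26621) F42637 (iv0 D6288) (iv4 F9204) (iv0 F30466) D17559
theorem F122465 : act 1 n79771 = n55090 := d18_6 (iv1 F53148) F53147 (iv1 F29847) (iv4 F52071) (iv5 F57057) D79771 (iv4 D55090) F87103 F87102
def n79772 : Q := act 3 n36327
theorem D79772 : act 3 n36327 = n79772 := rfl
theorem F122466 : act 7 n79772 = n70127 := d8_2 (iv7 F57061) D79772 (iv3 D70127)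
def n79773 : Q := act 6 n36327
theorem D79773 : act 6 n36327 = n79773 := rfl
theorem F122468 : act 4 n79773 = n36328 := d10_1 D79773 (iv6 D36328) D36327
def n79774 : Q := act 7 n36328
theorem D79774 : act 7 n36328 = n79774 := rfl
theorem F122470 : act 5 n79774 = n61826 := d13_1 D79774 (iv7 D61826) (iv5 F57063)
theorem F122471 : act 6 n79774 = n70132 := d14_1 D79774 (iv7 D70132) (iv6 D32535) (iv7 F41790) D36328
theorem F122472 : act 1 n62786 = n79774 := d15_1 (iv0 F97973) (iv7 D79774) F57062
theorem F122473 : act 1 n79774 = n62791 := d15_1 F122472 (iv7 F109917) (iv2 F109918)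
def n79775 : Q := act 3 n36329
theorem D79775 : act 3 n36329 = n79775 := rfl
theorem F122474 : act 6 n79775 = n60385 := d7_2 F57067 D79775 F94896
theorem F122476 : act 0 n74758 = n79775 := d21_4 (iv5 F77150) F94902 D68398 (iv6 F112201) F122474 F109843 (iv1 F47838) (iv5 F51741) (iv6 F52002) (iv1 F52004)
theorem F122477 : act 0 n79775 = n54340 := d21_10 F85748 (iv1 D34255) (iv5 F41978) (iv6 D26323) (iv1 F20891) D15811 (iv5 F26884) D29751 (iv5 F109843) (iv6 F122474)
def n79776 : Q := act 4 n36330
theorem D79776 : act 4 n36330 = n79776 := rfl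
def n79777 : Q := act 3 n36331
theorem D79777 : act 3 n36331 = n79777 := rfl
def n79778 : Q := act 5 n36331
theorem D79778 : act 5 n36331 = n79778 := rfl
theorem F122478 : act 0 n79778 = n56246 := d17_2 (iv1 F57071) D79778 (iv5 D56246) F43805 F29890 F29887 (iv5 F29830) (iv0 D18601) D18603
theorem F122479 : act 1 n79778 = n56249 := d17_6 (iv1 F21577) (iv5 F21625) F30428 (iv5 F28538) D36331 D79778 (iv5 D56249) F43800 F28558
def n79779 : Q := act 3 n36333
theorem D79779 : act 3 n36333 = n79779 := rfl
theorem F122480 : act 6 n79779 = n39856 := d7_2 (iv6 F57073) D79779 (iv3 D39856)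
def n79780 : Q := act 5 n36333
theorem D79780 : act 5 n36333 = n79780 := rfl
theorem F122481 : act 0 n79780 = n56249 := d17_2 (iv1 F57075) D79780 (iv5 D56249) F43801 (iv5 F22044) (iv0 F43136) (iv5 F43137) F29833 D18616
theorem F122482 : act 1 n79780 = n56246 := d17_6 D12981 (iv5 F28830) (iv1 F43885) (iv5 F43886) D36333 D79780 (iv5 D56246) (iv0 D27102) (iv4 D12983)
def n79781 : Q := act 3 n36334
theorem D79781 : act 3 n36334 = n79781 := rfl
def n79782 : Q := act 5 n36334
theorem D79782 : act 5 n36334 = n79782 := rfl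
theorem F122483 : act 0 n79782 = n39256 := d17_2 D36334 D79782 (iv5 D39256) F41786 (iv5 F28830) F30429 (iv5 F28538) (iv0 D17543) D17545
theorem F122484 : act 1 n79782 = n39259 := d17_6 (iv1 F22050) (iv5 F13639) (iv1 F43166) (iv5 F44743) (iv4 F57076) D79782 (iv5 D39259) F44795 F44794
def n79783 : Q := act 6 n36334
theorem D79783 : act 6 n36334 = n79783 := rfl
theorem F122485 : act 2 n79783 = n78873 := d3_1 D79783 F120039 F60179
theorem F122486 : act 4 n79783 = n55961 := d10_1 D79783 F88561 (iv4 F57076)
theorem F122487 : act 7 n79783 = n58686 := d14_2 F60186 D79783 (iv6 D58686) F45055 (iv6 F60185)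
theorem F122488 : act 5 n78588 = n79783 := d21_2 D35798 D78588 (iv6 D79783) (iv1 F57077) F28550 D35724 D78385 F119589 (iv6 F114146) (iv1 D35797)
theorem F122489 : act 0 n78757 = n79783 := d18_2 F61321 (iv4 F119913) F122486 (iv5 D55961) (iv4 F114141) (iv0 D35796) F28277 D17345 (iv5 F56304)
theorem F122490 : act 1 n78757 = n39844 := d15_1 (iv0 F122489) (iv7 F120040) (iv2 F122485)
def n79784 : Q := act 3 n36335
theorem D79784 : act 3 n36335 = n79784 := rfl
theorem F122491 : act 6 n79784 = n58692 := d7_2 F57080 D79784 (iv3 D58692)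
def n79785 : Q := act 5 n36335
theorem D79785 : act 5 n36335 = n79785 := rfl
theorem F122492 : act 0 n79785 = n39259 := d17_2 (iv1 F57078) D79785 (iv5 D39259) F41782 (iv5 F21625) D27147 (iv5 F43886) F28539 D17561
def n79786 : Q := act 0 n36336
theorem D79786 : act 0 n36336 = n79786 := rfl
def n79787 : Q := act 1 n36336
theorem D79787 : act 1 n36336 = n79787 := rfl
def n79788 : Q := act 2 n36336
theorem D79788 : act 2 n36336 = n79788 := rfl
def n79789 : Q := act 5 n36336
theorem D79789 : act 5 n36336 = n79789 := rfl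
theorem F122494 : act 3 n79789 = n36337 := d6_1 D79789 (iv5 D36337) D36336
def n79790 : Q := act 6 n36336
theorem D79790 : act 6 n36336 = n79790 := rfl
theorem F122495 : act 3 n79790 = n36338 := d7_1 D79790 (iv6 D36338) D36336
def n79791 : Q := act 6 n36337
theorem D79791 : act 6 n36337 = n79791 := rfl
def n79792 : Q := act 1 n36338
theorem D79792 : act 1 n36338 = n79792 := rfl
theorem F122497 : act 1 n79792 = n39070 := d15_1 D79792 (iv7 F88911) F88909
theorem F122498 : act 7 n79792 = n76185 := d15_2 (iv0 F115661) D79792 (iv2 F115659)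
theorem F122499 : act 4 n79792 = n37168 := d18_7 F56537 D78825 (iv1 F119985) F58613 F44009 (iv4 F57082) D79792 (iv0 F58112) F29791
theorem F122501 : act 5 n78511 = n79792 := d17_3 (iv1 D35768) D35769 D78511 F122499 (iv5 D37168) (iv0 D17874) (iv5 F14994) D20340 (iv4 F92679)
def n79794 : Q := act 3 n36339
theorem D79794 : act 3 n36339 = n79794 := rfl
theorem F122505 : act 5 n79794 = n37131 := d6_2 (iv5 F57085) D79794 (iv3 D37131)
theorem F122506 : act 6 n79794 = n36433 := d7_2 (iv6 F57084) D79794 (iv3 D36433)
theorem F122507 : act 7 n79794 = n78404 := d8_2 F57088 D79794 (iv3 D78404)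
def n79795 : Q := act 4 n36340
theorem D79795 : act 4 n36340 = n79795 := rfl
theorem F122509 : act 7 n79795 = n76968 := d11_2 (iv7 F57090) D79795 F115689
def n79796 : Q := act 3 n36349
theorem D79796 : act 3 n36349 = n79796 := rfl
def n79797 : Q := act 5 n36349
theorem D79797 : act 5 n36349 = n79797 := rfl
def n79798 : Q := act 4 n36350
theorem D79798 : act 4 n36350 = n79798 := rfl
theorem F122513 : act 7 n79798 = n77194 := d11_2 (iv7 F120810) D79798 F115946
def n79799 : Q := act 3 n36352
theorem D79799 : act 3 n36352 = n79799 := rfl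
def n79800 : Q := act 5 n36352
theorem D79800 : act 5 n36352 = n79800 := rfl
theorem F122514 : act 2 n79800 = n36358 := d2_1 D79800 (iv5 D36358) (iv2 F57095)
def n79801 : Q := act 6 n36352
theorem D79801 : act 6 n36352 = n79801 := rfl
theorem F122515 : act 2 n79801 = n36359 := d3_1 D79801 (iv6 D36359) (iv2 F57095)
theorem F122516 : act 4 n79801 = n36354 := d10_1 D79801 (iv6 D36354) D36352
theorem F122517 : act 1 n38723 = n79801 := d18_6 (iv1 D39936) (iv4 F59132) F59133 (iv4 D18416) D18417 D38723 F122516 F120862 F60789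
def n79802 : Q := act 4 n36353
theorem D79802 : act 4 n36353 = n79802 := rfl
theorem F122518 : act 2 n79802 = n36362 := d1_1 D79802 (iv4 D36362) (iv2 F57096)
theorem F122519 : act 6 n79802 = n78373 := d10_2 F57097 D79802 (iv4 D78373)
def n79803 : Q := act 5 n36354
theorem D79803 : act 5 n36354 = n79803 := rfl
theorem F122520 : act 2 n79803 = n36365 := d2_1 D79803 (iv5 D36365) (iv2 F57098)
theorem F122522 : act 6 n79803 = n78374 := d12_2 D36354 D79803 (iv5 D78374) F57097 (iv5 D36353)
theorem F122523 : act 0 n79803 = n36666 := d21_1 D79803 (iv5 D36666) D36667 F120897 (iv6 F57104) (iv5 D36365) D36363 F120899 D39956 (iv1 F120862)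
theorem F122524 : act 0 n36661 = n79803 := d21_1 D36661 (iv5 D79803) (iv6 D36354) F120781 (iv6 D18889) F13761 (iv1 D6089) (iv5 F5739) D8322 D17667
theorem F122525 : act 7 n37040 = n79803 := d14_0 F122522 F119581 (iv6 D56546) F43967 D37040
theorem E13258 : n37050 = n36666 := (c15_1 D37050 (iv0 F122523) (iv7 F122525) F57978)
theorem F122526 : act 0 n36666 = n17829 := (sb E13258 (iv1 D37050))
def n79804 : Q := act 7 n36354
theorem D79804 : act 7 n36354 = n79804 := rfl
theorem F122530 : act 1 n36364 = n79804 := d15_1 D36364 (iv7 D79804) F57098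
def n79805 : Q := act 3 n36356
theorem D79805 : act 3 n36356 = n79805 := rfl
def n79806 : Q := act 5 n36356
theorem D79806 : act 5 n36356 = n79806 := rfl
def n79807 : Q := act 0 n36357
theorem D79807 : act 0 n36357 = n79807 := rfl
theorem F122532 : act 1 n70079 = n79807 := d15_0 (iv0 D79807) F57100 (iv2 F106466)
def n79808 : Q := act 1 n36357
theorem D79808 : act 1 n36357 = n79808 := rfl
def n79809 : Q := act 2 n36357
theorem D79809 : act 2 n36357 = n79809 := rfl
theorem F122533 : act 4 n79809 = n36369 := d1_2 (iv4 F57099) D79809 (iv2 D36369)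
theorem F122534 : act 7 n79809 = n70079 := d4_2 (iv7 F57100) D79809 F106466
theorem F122536 : act 1 n79808 = n70079 := d15_1 D79808 (iv7 F122534) (iv2 D79809)
theorem F122537 : act 1 n70083 = n79809 := d15_1 D70083 F122534 F106466
def n79810 : Q := act 5 n36357
theorem D79810 : act 5 n36357 = n79810 := rfl
theorem F122538 : act 3 n79810 = n36358 := d6_1 D79810 (iv5 D36358) D36357
theorem F122539 : act 7 n79810 = n70084 := d13_2 (iv7 F57100) D79810 (iv5 D70084)
def n79811 : Q := act 6 n36357
theorem D79811 : act 6 n36357 = n79811 := rfl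
theorem F122541 : act 4 n79811 = n36371 := d10_1 D79811 (iv6 D36371) (iv4 F57099)
def n79812 : Q := act 0 n36358
theorem D79812 : act 0 n36358 = n79812 := rfl
def n79813 : Q := act 1 n36358
theorem D79813 : act 1 n36358 = n79813 := rfl
def n79814 : Q := act 4 n36358
theorem D79814 : act 4 n36358 = n79814 := rfl
def n79815 : Q := act 6 n36358
theorem D79815 : act 6 n36358 = n79815 := rfl
def n79816 : Q := act 0 n36359
theorem D79816 : act 0 n36359 = n79816 := rfl
theorem F122542 : act 4 n79816 = n38715 := d18_3 (iv1 D36364) (iv4 F57101) D79816 (iv5 D38715) D38714 F59495 F30144 D18893 (iv5 F120883)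
theorem F122543 : act 2 n38723 = n79816 := d15_3 (iv0 D79816) (iv0 F118569) (iv7 F59508)
def n79817 : Q := act 5 n36359
theorem D79817 : act 5 n36359 = n79817 := rfl
theorem F122544 : act 0 n75703 = n79817 := d21_1 D75703 (iv5 D79817) (iv6 D36359) (iv1 F118386) (iv6 D35606) (iv5 F55955) (iv1 F55961) F55959 D36645 F57504
def n79818 : Q := act 7 n36359
theorem D79818 : act 7 n36359 = n79818 := rfl
theorem F122545 : act 4 n79818 = n36366 := d11_1 D79818 (iv7 D36366) (iv4 F57101)
theorem F122546 : act 0 n38723 = n79818 := d20_1 D38723 F122545 F57106 (iv1 F30376) (iv3 F30540) D40279 (iv1 F122032) F122034 (iv3 F122037) (iv1 D38722)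
def n79819 : Q := act 3 n36360
theorem D79819 : act 3 n36360 = n79819 := rfl
def n79820 : Q := act 4 n36360
theorem D79820 : act 4 n36360 = n79820 := rfl
def n79821 : Q := act 5 n36360
theorem D79821 : act 5 n36360 = n79821 := rfl
theorem F122547 : act 2 n79821 = n36736 := d2_1 D79821 F121405 F120908
theorem F122548 : act 6 n79821 = n36661 := d12_2 (iv6 F121377) D79821 (iv5 D36661) D36662 F119249
theorem F122549 : act 7 n79821 = n36735 := d13_2 (iv7 F120907) D79821 F121403
theorem F122550 : act 0 n36737 = n79821 := d21_1 (iv5 F57614) (iv5 D79821) F121377 (iv1 D78060) F56280 (iv5 D17593) (iv1 F13043) D17100 D35238 F121319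
theorem E13259 : n78127 = n56192 := ((c21_10 (iv5 F120880) (iv1 D37047) (iv5 D17828) D17829 (iv1 F120885) (iv6 F122548) (iv5 D79821) (iv1 F88872) (iv5 D56191) D56192 (iv1 D78127))).symm
theorem F122551 : act 0 n56192 = n35623 := (sb E13259 (iv1 D78127))
theorem F122552 : act 1 n36725 = n79821 := d15_0 (iv0 F122550) (iv7 D36737) (iv2 F57602)
def n79822 : Q := act 4 n36361
theorem D79822 : act 4 n36361 = n79822 := rfl
def n79823 : Q := act 6 n36361
theorem D79823 : act 6 n36361 = n79823 := rfl
theorem F122553 : act 5 n79823 = n77165 := d12_1 D79823 (iv6 D77165) (iv5 D35228) D35229 (iv5 F120815)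
def n79824 : Q := act 0 n36362
theorem D79824 : act 0 n36362 = n79824 := rfl
def n79825 : Q := act 1 n36362
theorem D79825 : act 1 n36362 = n79825 := rfl
def n79826 : Q := act 3 n36362
theorem D79826 : act 3 n36362 = n79826 := rfl
theorem F122554 : act 4 n79826 = n36375 := d5_2 D36362 D79826 (iv3 D36375) (iv4 D17561) (iv3 F28546)
theorem F122555 : act 6 n79826 = n78376 := d7_2 (iv6 F57102) D79826 (iv3 D78376)
def n79827 : Q := act 5 n36362
theorem D79827 : act 5 n36362 = n79827 := rfl
def n79828 : Q := act 3 n36363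
theorem D79828 : act 3 n36363 = n79828 := rfl
theorem F122556 : act 2 n79828 = n57738 := d0_1 D79828 F90913 F90448 F121398 (iv2 F121397)
theorem F122557 : act 5 n79828 = n39953 := d6_2 (iv5 F120899) D79828 (iv3 D39953)
theorem F122558 : act 7 n79828 = n57754 := d8_2 (iv7 F120900) D79828 F90935
theorem F122559 : act 1 n57738 = n56125 := d15_0 (iv0 F121012) (iv7 F122558) F122556
theorem F122560 : act 0 n38782 = n56128 := d20_7 (iv4 F90931) (iv1 F90991) (iv4 D57829) (iv3 F120574) (iv1 F29595) (iv3 F29603) D38782 F88786 (iv3 F88785) (iv1 F122559)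
def n79829 : Q := act 4 n36363
theorem D79829 : act 4 n36363 = n79829 := rfl
def n79831 : Q := act 1 n36365
theorem D79831 : act 1 n36365 = n79831 := rfl
theorem F122561 : act 1 n79831 = n37040 := d15_1 D79831 F122525 F122520
theorem F122563 : act 5 n79831 = n36646 := d17_7 F57504 D75703 F122544 (iv5 D79817) F57101 D36365 D79831 (iv0 D36646) (iv4 F57503)
theorem F122564 : act 6 n36736 = n79831 := d21_3 D36353 (iv1 F88881) (iv5 F121405) (iv1 D79831) F57104 (iv5 D35722) F121274 (iv5 D35637) (iv6 F121223) (iv1 F43737)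
theorem E13260 : n78058 = n56201 := ((c21_11 (iv5 F120936) (iv1 F89431) (iv5 D37039) D37040 (iv1 F122561) (iv6 F122564) F121405 (iv1 D56198) (iv5 D27081) D27082 D56201)).symm
theorem F122566 : act 2 n56201 = n35623 := (sb E13260 F121815)
theorem F122567 : act 5 n56201 = n56551 := (sb E13260 (iv5 F120936))
theorem F122568 : act 6 n56201 = n35602 := (sb E13260 (iv6 D78058))
theorem E13261 : n78129 = n56202 := ((c15_2 (iv0 D56201) D56202 (iv7 D78129) (iv2 F122566))).symm
theorem F122569 : act 5 n56202 = n56552 := (sb E13261 F121864)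
theorem F122570 : act 7 n56202 = n35623 := (sb E13261 (iv7 D78129))
theorem F122571 : act 3 n79105 = n79831 := d6_3 F122563 (iv3 F115906) D79105
def n79832 : Q := act 4 n36365
theorem D79832 : act 4 n36365 = n79832 := rfl
theorem F122573 : act 7 n79832 = n37045 := d11_2 F57105 D79832 F57981
theorem F122574 : act 0 n75707 = n79832 := d20_7 F28971 (iv1 F44886) (iv4 F42201) (iv3 F44155) (iv1 F117907) (iv3 F54876) D75707 (iv4 D79832) F57103 F28554
theorem E13262 : n75706 = n75394 := ((c18_10 (iv1 D75706) D75707 F122574 (iv4 D79832) (iv5 D36365) (iv4 F57101) (iv0 F118569) F59505 D38726 F117624)).symm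
theorem F122575 : act 0 n75394 = n34618 := (sb E13262 (iv1 D75706))
def n79833 : Q := act 2 n36367
theorem D79833 : act 2 n36367 = n79833 := rfl
theorem F122576 : act 7 n36368 = n79833 := d15_2 (iv0 D36367) D36368 (iv2 D79833)
def n79834 : Q := act 3 n36367
theorem D79834 : act 3 n36367 = n79834 := rfl
theorem F122577 : act 4 n79834 = n73521 := d20_6 F21122 (iv1 F9587) D8249 D17558 D36367 D79834 (iv1 D73521) (iv4 D33795) (iv3 D16330) (iv1 F21126)
def n79838 : Q := act 7 n36367
theorem D79838 : act 7 n36367 = n79838 := rfl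
theorem F122578 : act 2 n79838 = n36368 := d4_1 D79838 F122576 (iv2 D79833)
def n79839 : Q := act 3 n36368
theorem D79839 : act 3 n36368 = n79839 := rfl
theorem F122579 : act 4 n73461 = n79839 := d20_2 D33780 D73461 (iv3 D79839) (iv1 D36368) (iv3 D17558) (iv4 D8249) (iv1 D3711) (iv4 F5430) (iv3 F11828) D16325
theorem F122580 : act 4 n73476 = n70116 := d20_0 (iv1 F122416) F122414 F57042 (iv1 F57112) D79839 (iv4 F122579) (iv1 F110164) (iv4 D33785) D33784 D73476
def n79840 : Q := act 4 n36368
theorem D79840 : act 4 n36368 = n79840 := rfl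
def n79841 : Q := act 5 n36368
theorem D79841 : act 5 n36368 = n79841 := rfl
def n79842 : Q := act 6 n36368
theorem D79842 : act 6 n36368 = n79842 := rfl
def n79843 : Q := act 5 n36369
theorem D79843 : act 5 n36369 = n79843 := rfl
theorem F122581 : act 2 n79843 = n36370 := d2_1 D79843 (iv5 D36370) D36369
theorem F122582 : act 3 n79843 = n70114 := d6_1 D79843 (iv5 D70114) (iv3 F57109)
theorem F122583 : act 7 n79843 = n70080 := d13_2 (iv7 F57110) D79843 (iv5 D70080)
theorem F122584 : act 1 n70087 = n79843 := d15_1 D70087 F122583 F106467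
theorem F122585 : act 1 n79843 = n70086 := d15_0 (iv0 D70086) (iv7 F57115) (iv2 F122581)
def n79844 : Q := act 6 n36369
theorem D79844 : act 6 n36369 = n79844 := rfl
theorem F122586 : act 2 n79844 = n36371 := d3_1 D79844 (iv6 D36371) D36369
theorem F122587 : act 3 n79844 = n70115 := d7_1 D79844 (iv6 D70115) (iv3 F57109)
def n79845 : Q := act 0 n36370
theorem D79845 : act 0 n36370 = n79845 := rfl
theorem F122588 : act 1 n70080 = n79845 := d15_0 (iv0 D79845) F57115 (iv2 F106467)
def n79846 : Q := act 1 n36370
theorem D79846 : act 1 n36370 = n79846 := rfl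
theorem F122589 : act 1 n79846 = n70080 := d15_1 D79846 (iv7 F122583) F122581
def n79847 : Q := act 4 n36370
theorem D79847 : act 4 n36370 = n79847 := rfl
theorem F122590 : act 7 n79847 = n70088 := d11_2 (iv7 F57115) D79847 (iv4 D70088)
def n79848 : Q := act 6 n36370
theorem D79848 : act 6 n36370 = n79848 := rfl
theorem F122591 : act 3 n79848 = n36373 := d7_1 D79848 (iv6 D36373) (iv3 F57114)
def n79849 : Q := act 0 n36371
theorem D79849 : act 0 n36371 = n79849 := rfl
def n79850 : Q := act 1 n36371
theorem D79850 : act 1 n36371 = n79850 := rfl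
def n79851 : Q := act 5 n36371
theorem D79851 : act 5 n36371 = n79851 := rfl
theorem F122592 : act 3 n79851 = n36374 := d6_1 D79851 (iv5 D36374) (iv3 F57116)
theorem F122593 : act 7 n79851 = n76044 := d13_2 F60487 D79851 F113914
def n79852 : Q := act 3 n36372
theorem D79852 : act 3 n36372 = n79852 := rfl
theorem F122594 : act 7 n79852 = n70099 := d8_2 (iv7 F57118) D79852 (iv3 D70099)
def n79853 : Q := act 6 n36372
theorem D79853 : act 6 n36372 = n79853 := rfl
theorem F122596 : act 4 n79853 = n36373 := d10_1 D79853 (iv6 D36373) D36372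
theorem F122597 : act 0 n68950 = n79853 := d21_4 (iv5 F27881) (iv1 F51736) F51738 D68950 (iv6 D79853) (iv5 F110256) (iv1 D73590) (iv5 D33820) F25853 D17021
def n79854 : Q := act 5 n36373
theorem D79854 : act 5 n36373 = n79854 := rfl
theorem F122598 : act 2 n79854 = n70131 := d2_1 D79854 (iv5 D70131) (iv2 F57119)
theorem F122599 : act 6 n79854 = n36374 := d12_2 D36373 D79854 (iv5 D36374) (iv6 D17560) D17559
theorem E13263 : n59983 = n53893 := ((c21_1 (iv5 F84978) (iv1 D59983) (iv5 F87905) (iv6 D55584) (iv1 F57124) (iv6 F122599) (iv5 D79854) F104765 F104763 (iv6 F85178) (iv1 F85180))).symm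
theorem F122600 : act 0 n53893 = n28483 := (sb E13263 (iv1 D59983))
theorem F122601 : act 0 n71162 = n53892 := d21_1 F107662 (iv5 D53892) D53893 F122600 (iv6 D28483) (iv5 F43119) F51205 D32900 (iv6 F104190) (iv1 F104796)
theorem F122602 : act 0 n39644 = n68527 := d21_4 (iv5 D36374) F30420 D18771 D39644 (iv6 D68527) (iv5 F84978) F122600 (iv5 F87905) (iv6 D55584) (iv1 F57124)
def n79855 : Q := act 0 n36375
theorem D79855 : act 0 n36375 = n79855 := rfl
def n79856 : Q := act 1 n36375
theorem D79856 : act 1 n36375 = n79856 := rfl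
def n79857 : Q := act 2 n36375
theorem D79857 : act 2 n36375 = n79857 := rfl
theorem F122603 : act 6 n79857 = n78383 := d3_2 (iv6 F57125) D79857 (iv2 D78383)
def n79858 : Q := act 5 n36375
theorem D79858 : act 5 n36375 = n79858 := rfl
theorem F122604 : act 3 n79858 = n36376 := d6_1 D79858 (iv5 D36376) D36375
def n79860 : Q := act 3 n36378
theorem D79860 : act 3 n36378 = n79860 := rfl
theorem F122606 : act 5 n79860 = n39613 := d6_2 (iv5 F57132) D79860 (iv3 D39613)
theorem F122607 : act 6 n79860 = n70806 := d7_2 (iv6 F57130) D79860 F107271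
theorem F122608 : act 7 n79860 = n37055 := d8_2 (iv7 F57131) D79860 F57990
def n79861 : Q := act 4 n36381
theorem D79861 : act 4 n36381 = n79861 := rfl
theorem F122609 : act 2 n79861 = n36382 := d1_1 D79861 (iv4 D36382) D36381
def n79862 : Q := act 5 n36381
theorem D79862 : act 5 n36381 = n79862 := rfl
theorem F122610 : act 2 n79862 = n36383 := d2_1 D79862 (iv5 D36383) D36381
theorem F122611 : act 7 n79862 = n39993 := d13_2 F118845 D79862 F61004
theorem F122612 : act 0 n79862 = n56385 := d21_1 D79862 (iv5 F119049) F119045 (iv1 D35813) (iv6 D17349) F12888 D8895 D18988 (iv6 F60916) F118848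
theorem F122613 : act 0 n56384 = n79862 := d21_10 (iv5 D79862) (iv1 F118832) F61006 F118797 (iv1 D17297) D17301 D35701 D78326 F119537 F119038
def n79863 : Q := act 6 n36381
theorem D79863 : act 6 n36381 = n79863 := rfl
theorem F122614 : act 2 n79863 = n36384 := d3_1 D79863 (iv6 D36384) D36381
def n79864 : Q := act 0 n36382
theorem D79864 : act 0 n36382 = n79864 := rfl
def n79865 : Q := act 3 n36382
theorem D79865 : act 3 n36382 = n79865 := rfl
theorem F122615 : act 4 n79865 = n36385 := d5_2 D36382 D79865 (iv3 D36385) (iv4 D17568) D17567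
def n79866 : Q := act 5 n36382
theorem D79866 : act 5 n36382 = n79866 := rfl
def n79867 : Q := act 6 n36382
theorem D79867 : act 6 n36382 = n79867 := rfl
theorem F122616 : act 4 n79867 = n36384 := d10_1 D79867 (iv6 D36384) D36382
def n79868 : Q := act 4 n36383
theorem D79868 : act 4 n36383 = n79868 := rfl
theorem F122617 : act 7 n79868 = n56380 := d11_2 (iv7 F57137) D79868 F89218
def n79869 : Q := act 0 n36384
theorem D79869 : act 0 n36384 = n79869 := rfl
def n79870 : Q := act 1 n36384
theorem D79870 : act 1 n36384 = n79870 := rfl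
def n79871 : Q := act 0 n36385
theorem D79871 : act 0 n36385 = n79871 := rfl
def n79872 : Q := act 1 n36385
theorem D79872 : act 1 n36385 = n79872 := rfl
def n79873 : Q := act 2 n36385
theorem D79873 : act 2 n36385 = n79873 := rfl
def n79874 : Q := act 5 n36385
theorem D79874 : act 5 n36385 = n79874 := rfl
theorem F122618 : act 3 n79874 = n36386 := d6_1 D79874 (iv5 D36386) D36385
def n79875 : Q := act 6 n36385
theorem D79875 : act 6 n36385 = n79875 := rfl
theorem F122619 : act 3 n79875 = n36387 := d7_1 D79875 (iv6 D36387) D36385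
def n79876 : Q := act 0 n36386
theorem D79876 : act 0 n36386 = n79876 := rfl
theorem F122620 : act 5 n79876 = n39217 := d17_3 (iv1 F41788) D36386 D79876 (iv4 D39217) F43137 (iv0 F43139) (iv5 F29890) (iv0 D13244) D13246
def n79877 : Q := act 1 n36386
theorem D79877 : act 1 n36386 = n79877 := rfl
theorem F122626 : act 5 n79877 = n39215 := d17_7 D27083 F43748 F43750 (iv5 D17569) D17568 D36386 D79877 F60182 (iv4 D27085)
def n79879 : Q := act 5 n36387
theorem D79879 : act 5 n36387 = n79879 := rfl
theorem F122628 : act 0 n79879 = n39905 := d17_2 F92089 D79879 (iv5 D39905) F30120 F13744 D18872 (iv5 F44782) (iv0 F44783) (iv4 F60638)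
def n79880 : Q := act 4 n36390
theorem D79880 : act 4 n36390 = n79880 := rfl
theorem F122629 : act 2 n79880 = n36391 := d1_1 D79880 (iv4 D36391) D36390
def n79881 : Q := act 6 n36390
theorem D79881 : act 6 n36390 = n79881 := rfl
theorem F122630 : act 2 n79881 = n36392 := d3_1 D79881 (iv6 D36392) D36390
theorem F122631 : act 0 n79881 = n77056 := d21_4 D79821 (iv1 F122552) (iv5 F57603) D79881 (iv6 F121368) (iv5 F121372) F120897 (iv5 D35722) F28547 D36360
theorem F122632 : act 1 n79881 = n77059 := d15_1 (iv0 F122631) F115907 (iv2 F115886)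
theorem F122633 : act 7 n79881 = n77151 := d15_2 (iv0 F121505) (iv0 F122631) (iv2 F121409)
def n79882 : Q := act 1 n36391
theorem D79882 : act 1 n36391 = n79882 := rfl
def n79883 : Q := act 3 n36391
theorem D79883 : act 3 n36391 = n79883 := rfl
theorem F122634 : act 4 n79883 = n36393 := d5_2 D36391 D79883 (iv3 D36393) (iv4 D17573) D17572
def n79884 : Q := act 5 n36391
theorem D79884 : act 5 n36391 = n79884 := rfl
def n79885 : Q := act 6 n36391
theorem D79885 : act 6 n36391 = n79885 := rfl
theorem F122635 : act 4 n79885 = n36392 := d10_1 D79885 (iv6 D36392) D36391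
def n79886 : Q := act 0 n36393
theorem D79886 : act 0 n36393 = n79886 := rfl
def n79887 : Q := act 1 n36393
theorem D79887 : act 1 n36393 = n79887 := rfl
def n79888 : Q := act 2 n36393
theorem D79888 : act 2 n36393 = n79888 := rfl
def n79889 : Q := act 5 n36393
theorem D79889 : act 5 n36393 = n79889 := rfl
theorem F122636 : act 3 n79889 = n36394 := d6_1 D79889 (iv5 D36394) D36393
def n79890 : Q := act 6 n36393
theorem D79890 : act 6 n36393 = n79890 := rfl
theorem F122637 : act 3 n79890 = n36395 := d7_1 D79890 (iv6 D36395) D36393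
def n79891 : Q := act 6 n36394
theorem D79891 : act 6 n36394 = n79891 := rfl
def n79892 : Q := act 5 n36395
theorem D79892 : act 5 n36395 = n79892 := rfl
theorem F122638 : act 0 n79892 = n76963 := d17_2 F57142 D79892 (iv5 D76963) (iv4 D35161) (iv5 F28005) (iv0 F29726) (iv5 F44787) F44789 D34797
theorem F122639 : act 1 n79892 = n76955 := d17_6 D17590 (iv5 F28592) F28785 F28782 (iv4 F57141) D79892 (iv5 D76955) F55891 F28584
def n79893 : Q := act 0 n36396
theorem D79893 : act 0 n36396 = n79893 := rfl
def n79894 : Q := act 1 n36396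
theorem D79894 : act 1 n36396 = n79894 := rfl
def n79895 : Q := act 2 n36396
theorem D79895 : act 2 n36396 = n79895 := rfl
def n79896 : Q := act 4 n36396
theorem D79896 : act 4 n36396 = n79896 := rfl
theorem F122640 : act 3 n79896 = n38473 := d5_1 D79896 (iv4 D38473) (iv3 F117789) (iv4 F43808) D36396
def n79897 : Q := act 5 n36396
theorem D79897 : act 5 n36396 = n79897 := rfl
theorem F122641 : act 3 n79897 = n36397 := d6_1 D79897 (iv5 D36397) D36396
def n79898 : Q := act 6 n36396
theorem D79898 : act 6 n36396 = n79898 := rfl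
theorem F122642 : act 3 n79898 = n36398 := d7_1 D79898 (iv6 D36398) D36396
def n79899 : Q := act 0 n36397
theorem D79899 : act 0 n36397 = n79899 := rfl
theorem F122643 : act 5 n79899 = n56207 := d17_3 D17575 D36397 D79899 (iv4 D56207) F43754 F28827 (iv5 D17569) (iv0 D8252) D8254
theorem F122645 : act 2 n79780 = n79899 := d2_3 F122643 F88903 D79780
theorem F122646 : act 7 n79778 = n79899 := d13_0 F122643 F88905 D79778
def n79900 : Q := act 1 n36397
theorem D79900 : act 1 n36397 = n79900 := rfl
theorem F122647 : act 1 n79900 = n36400 := d15_1 D79900 (iv7 F88965) F88964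
theorem F122648 : act 7 n79900 = n79780 := d15_2 (iv0 D79899) D79900 F122645
theorem F122649 : act 5 n79900 = n56205 := d17_7 D27733 F44743 F43165 (iv5 D18620) (iv4 F43808) D36397 D79900 F88899 (iv4 D27735)
def n79902 : Q := act 0 n36398
theorem D79902 : act 0 n36398 = n79902 := rfl
def n79903 : Q := act 7 n36398
theorem D79903 : act 7 n36398 = n79903 := rfl
theorem F122651 : act 4 n79903 = n39053 := d11_1 D79903 F60051 (iv4 F57144)
theorem F122652 : act 6 n79903 = n39055 := d14_1 D79903 F88973 (iv6 D56250) (iv7 F43809) D36398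
def n79904 : Q := act 0 n36399
theorem D79904 : act 0 n36399 = n79904 := rfl
def n79905 : Q := act 1 n36399
theorem D79905 : act 1 n36399 = n79905 := rfl
def n79906 : Q := act 2 n36399
theorem D79906 : act 2 n36399 = n79906 := rfl
def n79907 : Q := act 4 n36399
theorem D79907 : act 4 n36399 = n79907 := rfl
theorem F122653 : act 3 n79907 = n39253 := d5_1 D79907 (iv4 D39253) (iv3 D18622) (iv4 F42190) D36399
def n79908 : Q := act 5 n36399
theorem D79908 : act 5 n36399 = n79908 := rfl
theorem F122654 : act 3 n79908 = n36400 := d6_1 D79908 (iv5 D36400) D36399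
def n79909 : Q := act 6 n36399
theorem D79909 : act 6 n36399 = n79909 := rfl
theorem F122655 : act 3 n79909 = n36401 := d7_1 D79909 (iv6 D36401) D36399
def n79910 : Q := act 6 n36400
theorem D79910 : act 6 n36400 = n79910 := rfl
def n79911 : Q := act 5 n36401
theorem D79911 : act 5 n36401 = n79911 := rfl
theorem F122657 : act 1 n79911 = n76196 := d17_6 D16861 (iv5 F29723) (iv1 F29883) (iv5 F29896) (iv4 F57145) D79911 (iv5 D76196) (iv0 D34804) (iv4 D16863)
def n79912 : Q := act 0 n36402
theorem D79912 : act 0 n36402 = n79912 := rfl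
theorem F122658 : act 2 n36406 = n79912 := d15_3 (iv0 D79912) (iv0 D36402) D36406
theorem F122659 : act 7 n79912 = n36404 := d4_2 D36406 F122658 (iv2 D36404)
theorem F122660 : act 1 n36403 = n79912 := d15_1 D36403 F122659 (iv2 D36404)
def n79913 : Q := act 2 n36402
theorem D79913 : act 2 n36402 = n79913 := rfl
theorem F122661 : act 7 n36403 = n79913 := d15_2 (iv0 D36402) D36403 (iv2 D79913)
def n79914 : Q := act 3 n36402
theorem D79914 : act 3 n36402 = n79914 := rfl
def n79915 : Q := act 4 n36402
theorem D79915 : act 4 n36402 = n79915 := rfl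
def n79916 : Q := act 5 n36402
theorem D79916 : act 5 n36402 = n79916 := rfl
def n79917 : Q := act 6 n36402
theorem D79917 : act 6 n36402 = n79917 := rfl
def n79918 : Q := act 7 n36402
theorem D79918 : act 7 n36402 = n79918 := rfl
theorem F122662 : act 2 n79918 = n36403 := d4_1 D79918 F122661 (iv2 D79913)
def n79919 : Q := act 3 n36403
theorem D79919 : act 3 n36403 = n79919 := rfl
def n79920 : Q := act 4 n36403
theorem D79920 : act 4 n36403 = n79920 := rfl
def n79921 : Q := act 5 n36403
theorem D79921 : act 5 n36403 = n79921 := rfl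
def n79922 : Q := act 6 n36403
theorem D79922 : act 6 n36403 = n79922 := rfl
def n79923 : Q := act 0 n36404
theorem D79923 : act 0 n36404 = n79923 := rfl
theorem F122663 : act 1 n36406 = n79923 := d15_0 (iv0 D79923) (iv7 F122659) (iv2 F122658)
def n79924 : Q := act 1 n36404
theorem D79924 : act 1 n36404 = n79924 := rfl
theorem F122664 : act 1 n79924 = n36406 := d15_1 D79924 (iv7 D36406) D36404
def n79925 : Q := act 5 n36404
theorem D79925 : act 5 n36404 = n79925 := rfl
theorem F122665 : act 2 n79925 = n36405 := d2_1 D79925 (iv5 D36405) D36404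
def n79926 : Q := act 0 n36405
theorem D79926 : act 0 n36405 = n79926 := rfl
def n79927 : Q := act 1 n36405
theorem D79927 : act 1 n36405 = n79927 := rfl
def n79928 : Q := act 4 n36405
theorem D79928 : act 4 n36405 = n79928 := rfl
def n79929 : Q := act 7 n36405
theorem D79929 : act 7 n36405 = n79929 := rfl
theorem F122666 : act 3 n79929 = n36410 := d8_1 D79929 (iv7 D36410) (iv3 F57149)
theorem F122667 : act 5 n79929 = n36406 := d13_1 D79929 (iv7 D36406) D36405
def n79930 : Q := act 3 n36407
theorem D79930 : act 3 n36407 = n79930 := rfl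
theorem F122668 : act 5 n79930 = n39218 := d6_2 (iv5 F57151) D79930 (iv3 D39218)
def n79931 : Q := act 6 n36407
theorem D79931 : act 6 n36407 = n79931 := rfl
def n79932 : Q := act 3 n36408
theorem D79932 : act 3 n36408 = n79932 := rfl
theorem F122669 : act 5 n79932 = n39243 := d6_2 (iv5 F57152) D79932 (iv3 D39243)
def n79933 : Q := act 6 n36408
theorem D79933 : act 6 n36408 = n79933 := rfl
def n79934 : Q := act 3 n36409
theorem D79934 : act 3 n36409 = n79934 := rfl
def n79935 : Q := act 6 n36410
theorem D79935 : act 6 n36410 = n79935 := rfl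
def n79936 : Q := act 6 n36411
theorem D79936 : act 6 n36411 = n79936 := rfl
theorem F122671 : act 2 n79936 = n41869 := d3_1 D79936 (iv6 D41869) (iv2 F57154)
theorem F122672 : act 3 n79936 = n42115 := d7_1 D79936 (iv6 D42115) (iv3 F57155)
theorem F122674 : act 0 n79936 = n46658 := d21_4 (iv5 D19136) F28564 D36411 D79936 (iv6 D46658) (iv5 D22371) (iv1 D10646) D10647 F17192 F30751
theorem F122675 : act 0 n48532 = n79936 := d21_4 (iv5 F64452) (iv1 F69726) (iv5 F76150) (iv6 F76385) (iv6 D79936) (iv5 D36411) F28563 (iv5 F31172) D41366 F74929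
def n79937 : Q := act 3 n36412
theorem D79937 : act 3 n36412 = n79937 := rfl
theorem F122676 : act 4 n79937 = n77065 := d5_2 D36412 D79937 (iv3 D77065) (iv4 D35196) (iv3 F28567)
theorem F122677 : act 7 n79937 = n78598 := d8_2 (iv7 F57161) D79937 (iv3 D78598)
def n79938 : Q := act 6 n36412
theorem D79938 : act 6 n36412 = n79938 := rfl
theorem F122678 : act 2 n79938 = n36423 := d3_1 D79938 (iv6 D36423) (iv2 F57160)
theorem F122679 : act 4 n79938 = n36413 := d10_1 D79938 (iv6 D36413) D36412
def n79939 : Q := act 0 n36413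
theorem D79939 : act 0 n36413 = n79939 := rfl
theorem F122680 : act 5 n79939 = n78281 := d21_2 (iv5 F57166) D79939 F122406 (iv1 D36318) (iv6 D17535) D17534 D36313 (iv5 F119037) (iv6 F119038) (iv1 D36683)
theorem F122681 : act 6 n79939 = n78395 := d21_5 (iv5 D18988) (iv1 F13862) D17583 D36413 D79939 F122391 (iv1 D37095) (iv5 F32124) (iv6 D20253) F30313
theorem F122682 : act 0 n79939 = n36426 := d21_1 (iv5 F122680) F57193 F28756 (iv1 F55999) (iv6 F122404) F122403 (iv1 F88300) (iv5 D35688) D35689 D78281
def n79940 : Q := act 1 n36413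
theorem D79940 : act 1 n36413 = n79940 := rfl
theorem F122683 : act 1 n79940 = n36426 := d15_1 D79940 (iv7 D36426) (iv2 F57164)
theorem F122684 : act 5 n78282 = n79940 := d21_0 (iv1 D79940) F57166 (iv6 D17681) (iv1 F13143) D10443 F16633 (iv1 F118881) D27144 (iv6 F56375) (iv1 F119477)
theorem E13264 : n78282 = n40208 := ((c21_6 (iv5 D4743) F3280 (iv5 F5918) D8894 D18986 D40208 F122684 (iv1 D79940) F57166 (iv6 D17681) (iv1 F13143))).symm
theorem F122685 : act 0 n40208 = n35689 := (sb E13264 (iv1 D78282))
theorem F122686 : act 1 n40208 = n35702 := (sb E13264 F119477)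
theorem F122687 : act 5 n40208 = n79940 := (sb E13264 F122684)
theorem F122688 : act 3 n79940 = n45903 := d6_1 F122687 (iv5 F72492) F121792
theorem F122689 : act 4 n45903 = n75800 := d20_6 D34799 (iv1 F57208) F57205 (iv3 F57192) (iv1 F122683) F122688 (iv1 D75800) (iv4 D34663) F27547 D16861
def n79941 : Q := act 7 n36413
theorem D79941 : act 7 n36413 = n79941 := rfl
theorem F122690 : act 2 n79941 = n36426 := d4_1 D79941 (iv7 D36426) (iv2 F57164)
theorem F122691 : act 3 n79941 = n77064 := d8_1 D79941 (iv7 D77064) (iv3 F57165)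
theorem F122692 : act 5 n79941 = n36684 := d13_1 D79941 (iv7 D36684) (iv5 F57166)
theorem F122693 : act 6 n79941 = n78601 := d14_1 D79941 (iv7 D78601) (iv6 D35806) (iv7 F28568) D36413
theorem F122694 : act 1 n36425 = n79941 := d15_1 D36425 (iv7 D79941) F57164
theorem F122695 : act 0 n36424 = n79941 := d21_1 (iv5 F119535) F122692 F57564 (iv1 F56004) D35293 (iv5 F118840) (iv1 D35696) (iv5 D17300) D17301 D35699
def n79942 : Q := act 3 n36414
theorem D79942 : act 3 n36414 = n79942 := rfl
theorem F122696 : act 4 n79942 = n38877 := d5_2 D36414 D79942 (iv3 D38877) F32316 F32312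
theorem F122697 : act 7 n79942 = n77260 := d8_2 (iv7 F57168) D79942 (iv3 D77260)
def n79943 : Q := act 5 n36414
theorem D79943 : act 5 n36414 = n79943 := rfl
theorem F122698 : act 2 n79943 = n78534 := d2_1 D79943 (iv5 D78534) (iv2 F57167)
theorem F122699 : act 7 n79943 = n77261 := d13_2 (iv7 F57168) D79943 (iv5 D77261)
theorem F122700 : act 4 n79943 = n41368 := d16_2 D36414 D79943 (iv5 D41368) (iv4 D19484) (iv5 D9158) (iv4 F14272) (iv5 F28577) F28576 F28573
def n79944 : Q := act 6 n36414
theorem D79944 : act 6 n36414 = n79944 := rfl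
theorem F122701 : act 2 n79944 = n78535 := d3_1 D79944 (iv6 D78535) (iv2 F57167)
theorem F122702 : act 4 n79944 = n36415 := d10_1 D79944 (iv6 D36415) D36414
def n79945 : Q := act 0 n36415
theorem D79945 : act 0 n36415 = n79945 := rfl
def n79946 : Q := act 1 n36415
theorem D79946 : act 1 n36415 = n79946 := rfl
def n79947 : Q := act 7 n36415
theorem D79947 : act 7 n36415 = n79947 := rfl
theorem F122704 : act 2 n79947 = n78275 := d4_1 D79947 F119470 (iv2 F57169)
theorem F122705 : act 5 n79947 = n78316 := d13_1 D79947 (iv7 F119527) (iv5 F57170)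
theorem F122706 : act 6 n79947 = n40086 := d14_1 D79947 (iv7 D40086) F30248 F28574 D36415
theorem F122707 : act 1 n78275 = n79945 := d15_0 (iv0 D79945) D79947 F122704
theorem F122708 : act 1 n78537 = n79947 := d15_1 D78537 (iv7 D79947) F57169
theorem F122709 : act 1 n79947 = n78536 := d15_0 (iv0 D78536) (iv7 F119470) (iv2 F122704)
def n79948 : Q := act 6 n36416
theorem D79948 : act 6 n36416 = n79948 := rfl
theorem F122710 : act 2 n79948 = n41378 := d3_1 D79948 F63812 (iv2 F57171)
theorem F122711 : act 3 n79948 = n36418 := d7_1 D79948 (iv6 D36418) D36416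
theorem F122712 : act 5 n79948 = n40032 := d12_1 D79948 (iv6 D40032) F30207 D19481 (iv5 F57172)
theorem F122713 : act 7 n77777 = n79948 := d13_0 F122712 F118768 D77777
theorem F122714 : act 0 n77507 = n79948 := d21_7 (iv5 D13042) F9666 (iv5 F16672) D21938 (iv1 F118050) D56466 (iv5 F116376) F122712 (iv6 D40032) (iv1 F30211)
theorem F122715 : act 1 n77862 = n79948 := d15_0 (iv0 F122714) F116377 D77862
def n79949 : Q := act 3 n36417
theorem D79949 : act 3 n36417 = n79949 := rfl
theorem F122716 : act 7 n79949 = n78533 := d8_2 (iv7 F57177) D79949 (iv3 D78533)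
def n79950 : Q := act 5 n36417
theorem D79950 : act 5 n36417 = n79950 := rfl
theorem F122717 : act 2 n79950 = n77261 := d2_1 D79950 (iv5 D77261) (iv2 F57176)
theorem F122718 : act 4 n79950 = n42078 := d9_1 D79950 (iv5 D42078) (iv4 F61603) F61602 F31161 (iv5 F28571) D36414 D79943 F122700 (iv5 D41368) (iv4 D19484) (iv5 D9158) (iv4 F14272) (iv5 F28577) D36417
theorem F122719 : act 7 n79950 = n78534 := d13_2 (iv7 F57177) D79950 (iv5 D78534)
def n79951 : Q := act 6 n36417
theorem D79951 : act 6 n36417 = n79951 := rfl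
theorem F122720 : act 2 n79951 = n40085 := d3_1 D79951 F60978 (iv2 F57176)
theorem F122721 : act 4 n79951 = n36418 := d10_1 D79951 (iv6 D36418) D36417
theorem F122722 : act 7 n78274 = n79951 := d11_0 F122721 (iv7 F118796) D78274
def n79952 : Q := act 3 n36419
theorem D79952 : act 3 n36419 = n79952 := rfl
theorem F122723 : act 4 n79952 = n79200 := d5_2 (iv4 F57180) D79952 (iv3 D79200) F56796 F56040
theorem F122724 : act 7 n79952 = n78602 := d8_2 F57183 D79952 (iv3 D78602)
def n79953 : Q := act 5 n36419
theorem D79953 : act 5 n36419 = n79953 := rfl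
theorem F122725 : act 2 n79953 = n78557 := d2_1 D79953 F119746 F57182
theorem F122726 : act 7 n79953 = n78556 := d13_2 F57183 D79953 F119742
theorem F122727 : act 4 n79953 = n42061 := d16_2 (iv4 F57180) D79953 (iv5 D42061) (iv4 D19834) (iv5 D9332) (iv4 F14520) D19833 (iv7 F32167) F32165
theorem F122729 : act 1 n79953 = n42870 := d17_6 F60660 F60658 (iv1 F30878) D20248 (iv4 F57180) D79953 (iv5 D42870) (iv0 F63589) (iv4 D41267)
def n79954 : Q := act 6 n36419
theorem D79954 : act 6 n36419 = n79954 := rfl
theorem F122730 : act 2 n79954 = n78605 := d3_1 D79954 (iv6 D78605) F57182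
theorem F122731 : act 4 n79954 = n42861 := d10_1 D79954 (iv6 D42861) (iv4 F57180)
def n79955 : Q := act 3 n36420
theorem D79955 : act 3 n36420 = n79955 := rfl
theorem F122732 : act 4 n79955 = n55348 := d5_2 (iv4 F57186) D79955 (iv3 D55348) (iv4 D26747) (iv3 F31631)
theorem F122733 : act 7 n79955 = n78604 := d8_2 (iv7 F57185) D79955 (iv3 D78604)
def n79956 : Q := act 5 n36420
theorem D79956 : act 5 n36420 = n79956 := rfl
theorem F122734 : act 2 n79956 = n78556 := d2_1 D79956 F119742 F57187
theorem F122735 : act 4 n79956 = n42073 := d9_1 D79956 (iv5 D42073) (iv4 D19840) F17526 D9562 D20248 (iv4 F57180) D79953 F122727 (iv5 D42061) (iv4 D19834) (iv5 D9332) (iv4 F14520) D19833 (iv4 F57186)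
theorem F122736 : act 7 n79956 = n78557 := d13_2 (iv7 F57185) D79956 F119746
theorem F122737 : act 0 n79956 = n42870 := d17_2 (iv1 F57184) D79956 (iv5 D42870) (iv4 D20252) (iv5 D9574) (iv0 F17517) (iv5 F28577) F28575 D35805
theorem F122738 : act 1 n79956 = n42884 := d17_6 (iv1 F61560) (iv5 D40460) (iv1 F30730) D19833 (iv4 F57186) D79956 F67195 (iv0 F63577) (iv4 D41261)
def n79957 : Q := act 0 n36421
theorem D79957 : act 0 n36421 = n79957 := rfl
theorem F122739 : act 1 n78608 = n79957 := d15_0 (iv0 D79957) F57189 D78608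
def n79958 : Q := act 1 n36421
theorem D79958 : act 1 n36421 = n79958 := rfl
theorem F122740 : act 4 n39926 = n79958 := d20_6 (iv4 D8840) (iv1 D3937) D3938 D8843 D18882 D39926 (iv1 D79958) F57188 (iv3 D17588) (iv1 F13743)
theorem F122741 : act 0 n78608 = n79958 := d20_7 (iv4 F113710) (iv1 F113714) (iv4 F116019) (iv3 D77250) (iv1 F57243) F57240 (iv4 F119779) (iv4 F122740) (iv3 D39926) (iv1 F55015)
def n79959 : Q := act 2 n36421
theorem D79959 : act 2 n36421 = n79959 := rfl
theorem F122742 : act 4 n79959 = n36429 := d1_2 (iv4 F57188) D79959 (iv2 D36429)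
theorem F122743 : act 7 n79959 = n78608 := d4_2 (iv7 F57189) D79959 (iv2 D78608)
theorem F122744 : act 1 n79959 = n78606 := d15_0 (iv0 D78606) (iv7 F57189) D79959
theorem F122745 : act 1 n78607 = n79959 := d15_1 D78607 F122743 (iv2 D78608)
def n79960 : Q := act 5 n36421
theorem D79960 : act 5 n36421 = n79960 := rfl
theorem F122746 : act 3 n79960 = n36422 := d6_1 D79960 (iv5 D36422) D36421
theorem F122747 : act 7 n79960 = n78609 := d13_2 (iv7 F57189) D79960 (iv5 D78609)
def n79961 : Q := act 6 n36421
theorem D79961 : act 6 n36421 = n79961 := rfl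
theorem F122748 : act 3 n79961 = n36423 := d7_1 D79961 (iv6 D36423) D36421
theorem F122749 : act 4 n79961 = n36430 := d10_1 D79961 (iv6 D36430) (iv4 F57188)
def n79962 : Q := act 6 n36422
theorem D79962 : act 6 n36422 = n79962 := rfl
def n79963 : Q := act 0 n36423
theorem D79963 : act 0 n36423 = n79963 := rfl
def n79964 : Q := act 1 n36423
theorem D79964 : act 1 n36423 = n79964 := rfl
def n79965 : Q := act 5 n36423
theorem D79965 : act 5 n36423 = n79965 := rfl
def n79966 : Q := act 7 n36423
theorem D79966 : act 7 n36423 = n79966 := rfl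
theorem F122750 : act 4 n79966 = n36426 := d11_1 D79966 (iv7 D36426) (iv4 F57191)
theorem F122751 : act 6 n79966 = n78617 := d14_1 D79966 (iv7 D78617) (iv6 D35811) (iv7 F28579) D36423
def n79967 : Q := act 2 n36424
theorem D79967 : act 2 n36424 = n79967 := rfl
theorem F122752 : act 5 n79967 = n78318 := d2_2 (iv5 F119535) D79967 (iv2 D78318)
theorem F122753 : act 7 n36425 = n79967 := d15_2 (iv0 D36424) D36425 (iv2 D79967)
def n79968 : Q := act 3 n36424
theorem D79968 : act 3 n36424 = n79968 := rfl
theorem F122754 : act 5 n79968 = n78319 := d6_2 (iv5 F119535) D79968 (iv3 D78319)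
def n79969 : Q := act 4 n36424
theorem D79969 : act 4 n36424 = n79969 := rfl
def n79970 : Q := act 7 n36424
theorem D79970 : act 7 n36424 = n79970 := rfl
theorem F122755 : act 2 n79970 = n36425 := d4_1 D79970 F122753 (iv2 D79967)
theorem F122756 : act 5 n79970 = n78323 := d13_1 D79970 (iv7 D78323) (iv5 F119535)
def n79971 : Q := act 3 n36425
theorem D79971 : act 3 n36425 = n79971 := rfl
theorem F122757 : act 5 n79971 = n78324 := d6_2 F119485 D79971 (iv3 D78324)
def n79972 : Q := act 4 n36425
theorem D79972 : act 4 n36425 = n79972 := rfl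
def n79973 : Q := act 6 n36425
theorem D79973 : act 6 n36425 = n79973 := rfl
def n79974 : Q := act 2 n36427
theorem D79974 : act 2 n36427 = n79974 := rfl
theorem F122758 : act 7 n36428 = n79974 := d15_2 (iv0 D36427) D36428 (iv2 D79974)
def n79975 : Q := act 3 n36427
theorem D79975 : act 3 n36427 = n79975 := rfl
theorem F122759 : act 4 n79975 = n57944 := d20_6 (iv4 D6117) (iv1 F5719) D8259 D17588 D36427 D79975 (iv1 D57944) F44572 (iv3 D13314) F9832
def n79976 : Q := act 4 n36427
theorem D79976 : act 4 n36427 = n79976 := rfl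
def n79977 : Q := act 5 n36427
theorem D79977 : act 5 n36427 = n79977 := rfl
def n79978 : Q := act 6 n36427
theorem D79978 : act 6 n36427 = n79978 := rfl
def n79979 : Q := act 7 n36427
theorem D79979 : act 7 n36427 = n79979 := rfl
theorem F122760 : act 2 n79979 = n36428 := d4_1 D79979 F122758 (iv2 D79974)
def n79980 : Q := act 3 n36428
theorem D79980 : act 3 n36428 = n79980 := rfl
def n79981 : Q := act 4 n36428
theorem D79981 : act 4 n36428 = n79981 := rfl
def n79982 : Q := act 5 n36428
theorem D79982 : act 5 n36428 = n79982 := rfl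
def n79983 : Q := act 6 n36428
theorem D79983 : act 6 n36428 = n79983 := rfl
def n79984 : Q := act 6 n36429
theorem D79984 : act 6 n36429 = n79984 := rfl
theorem F122761 : act 2 n79984 = n36430 := d3_1 D79984 (iv6 D36430) D36429
theorem F122762 : act 3 n79984 = n77244 := d7_1 D79984 F116006 (iv3 F57196)
def n79985 : Q := act 0 n36430
theorem D79985 : act 0 n36430 = n79985 := rfl
def n79986 : Q := act 1 n36430
theorem D79986 : act 1 n36430 = n79986 := rfl
def n79987 : Q := act 5 n36430
theorem D79987 : act 5 n36430 = n79987 := rfl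
theorem F122763 : act 3 n79987 = n36431 := d6_1 D79987 (iv5 D36431) (iv3 F57201)
theorem F122764 : act 6 n79987 = n78151 := d12_2 D36430 D79987 (iv5 D78151) F56306 F28609
def n79988 : Q := act 7 n36430
theorem D79988 : act 7 n36430 = n79988 := rfl
theorem F122765 : act 3 n79988 = n36432 := d8_1 D79988 (iv7 D36432) (iv3 F57201)
theorem F122766 : act 6 n79988 = n78637 := d14_1 D79988 (iv7 D78637) (iv6 D35818) (iv7 F28582) D36430
def n79989 : Q := act 4 n36431
theorem D79989 : act 4 n36431 = n79989 := rfl
theorem F122767 : act 2 n79989 = n77247 := d1_1 D79989 (iv4 D77247) (iv2 F57202)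
theorem F122768 : act 5 n79989 = n50047 := d9_2 D36431 D79989 F79206 F38270 F25185 (iv5 F28054) (iv4 F55991) (iv5 F116015) F116014 (iv5 D49873) F38103 F18714 F11566 (iv5 F13036) (iv4 F28584)
theorem F122769 : act 6 n79989 = n69575 := d10_2 (iv6 F57203) D79989 F105850
theorem F122770 : act 7 n50046 = n79989 := d14_0 F122769 F105851 F77146 (iv7 F78712) (iv6 F79204)
def n79990 : Q := act 7 n36431
theorem D79990 : act 7 n36431 = n79990 := rfl
theorem F122771 : act 2 n79990 = n77248 := d4_1 D79990 (iv7 D77248) (iv2 F57202)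
theorem F122772 : act 4 n79990 = n50046 := d11_1 D79990 F122770 (iv4 D79989)
theorem F122773 : act 5 n79990 = n36432 := d13_1 D79990 (iv7 D36432) D36431
theorem F122774 : act 1 n76177 = n79990 := d15_1 (iv0 F114139) (iv7 D79990) F57202
theorem F122775 : act 1 n79990 = n76163 := d15_1 F122774 (iv7 F115640) F115638
def n79991 : Q := act 0 n36433
theorem D79991 : act 0 n36433 = n79991 := rfl
theorem F122776 : act 1 n77238 = n79991 := d15_0 (iv0 D79991) F57210 D77238
def n79992 : Q := act 1 n36433
theorem D79992 : act 1 n36433 = n79992 := rfl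
theorem F122777 : act 1 n79992 = n77238 := d15_1 D79992 (iv7 F122286) F122285
def n79993 : Q := act 4 n36433
theorem D79993 : act 4 n36433 = n79993 := rfl
theorem F122778 : act 7 n79993 = n77239 := d11_2 (iv7 F57210) D79993 (iv4 D77239)
def n79994 : Q := act 3 n36436
theorem D79994 : act 3 n36436 = n79994 := rfl
theorem F122779 : act 4 n79994 = n78598 := d5_2 D36436 D79994 (iv3 D78598) (iv4 D35805) (iv3 F28596)
theorem F122780 : act 7 n79994 = n77065 := d8_2 (iv7 F57217) D79994 (iv3 D77065)
def n79995 : Q := act 3 n36437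
theorem D79995 : act 3 n36437 = n79995 := rfl
theorem F122781 : act 4 n79995 = n76907 := d5_2 D36437 D79995 (iv3 D76907) F55843 F55793
theorem F122782 : act 7 n79995 = n77199 := d8_2 (iv7 F57221) D79995 (iv3 D77199)
def n79996 : Q := act 5 n36437
theorem D79996 : act 5 n36437 = n79996 := rfl
theorem F122783 : act 2 n79996 = n77044 := d2_1 D79996 (iv5 D77044) (iv2 F57220)
theorem F122784 : act 7 n79996 = n77200 := d13_2 (iv7 F57221) D79996 (iv5 D77200)
def n79997 : Q := act 6 n36437
theorem D79997 : act 6 n36437 = n79997 := rfl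
theorem F122785 : act 2 n79997 = n77040 := d3_1 D79997 F115766 (iv2 F57220)
theorem F122786 : act 4 n79997 = n36438 := d10_1 D79997 (iv6 D36438) D36437
theorem F122787 : act 7 n78167 = n79997 := d11_0 F122786 F121256 D78167
def n79998 : Q := act 3 n36439
theorem D79998 : act 3 n36439 = n79998 := rfl
theorem F122788 : act 7 n79998 = n77043 := d8_2 (iv7 F57225) D79998 (iv3 D77043)
def n79999 : Q := act 5 n36439
theorem D79999 : act 5 n36439 = n79999 := rfl
theorem F122789 : act 2 n79999 = n77200 := d2_1 D79999 (iv5 D77200) (iv2 F57224)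
theorem F122790 : act 7 n79999 = n77044 := d13_2 (iv7 F57225) D79999 (iv5 D77044)
def n80000 : Q := act 6 n36439
theorem D80000 : act 6 n36439 = n80000 := rfl
theorem F122791 : act 2 n80000 = n77201 := d3_1 D80000 (iv6 D77201) (iv2 F57224)
theorem F122792 : act 4 n80000 = n36440 := d10_1 D80000 (iv6 D36440) D36439
def n80001 : Q := act 0 n36440
theorem D80001 : act 0 n36440 = n80001 := rfl
def n80002 : Q := act 1 n36440
theorem D80002 : act 1 n36440 = n80002 := rfl
theorem F122793 : act 1 n80002 = n77204 := d15_1 D80002 (iv7 D77204) (iv2 F57226)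
def n80003 : Q := act 7 n36440
theorem D80003 : act 7 n36440 = n80003 := rfl
theorem F122794 : act 2 n80003 = n77204 := d4_1 D80003 (iv7 D77204) (iv2 F57226)
theorem F122795 : act 5 n80003 = n78464 := d13_1 D80003 (iv7 D78464) (iv5 F57227)
theorem F122796 : act 6 n80003 = n55840 := d14_1 D80003 (iv7 F121290) F55931 (iv7 F28605) D36440
theorem F122797 : act 1 n77204 = n80001 := d15_0 (iv0 D80001) D80003 F122794
theorem F122798 : act 1 n77203 = n80003 := d15_1 D77203 (iv7 D80003) F57226
def n80004 : Q := act 3 n36441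
theorem D80004 : act 3 n36441 = n80004 := rfl
theorem F122800 : act 4 n80004 = n77408 := d5_2 (iv4 F57228) D80004 (iv3 D77408) (iv4 F56760) F56757
def n80005 : Q := act 5 n36441
theorem D80005 : act 5 n36441 = n80005 := rfl
theorem F122802 : act 2 n80005 = n75278 := d2_1 D80005 (iv5 D75278) F57230
theorem F122803 : act 7 n80005 = n77206 := d13_2 F57231 D80005 (iv5 D77206)
theorem F122804 : act 4 n80005 = n79999 := d16_2 (iv4 F57228) D80005 (iv5 D79999) (iv4 D36439) (iv5 F28606) F27418 (iv5 F54687) (iv7 D34466) (iv2 F54680)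
theorem F122805 : act 0 n80005 = n78455 := d17_2 D36441 D80005 (iv5 D78455) (iv4 D35751) (iv5 D17327) (iv0 F27422) (iv5 F28600) (iv0 D17594) D17596
theorem F122806 : act 1 n80005 = n55899 := d17_6 D38853 F59863 (iv1 F30163) D34462 (iv4 F57228) D80005 (iv5 D55899) (iv0 F59870) (iv4 D38854)
def n80006 : Q := act 6 n36441
theorem D80006 : act 6 n36441 = n80006 := rfl
theorem F122807 : act 2 n80006 = n38271 := d3_1 D80006 F59142 F57230
theorem F122808 : act 4 n80006 = n38246 := d10_1 D80006 F59124 (iv4 F57228)
theorem F122809 : act 0 n55867 = n80006 := d18_2 F121270 D55867 F122808 (iv5 D38246) (iv4 F59120) F117855 (iv4 D26941) D26939 D55840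
theorem F122810 : act 1 n78373 = n80006 := d15_0 (iv0 F122809) F88370 (iv2 F119579)
def n80007 : Q := act 3 n36442
theorem D80007 : act 3 n36442 = n80007 := rfl
theorem F122811 : act 4 n80007 = n75290 := d5_2 (iv4 F57234) D80007 F112884 F54697 (iv3 F54686)
theorem F122812 : act 7 n80007 = n75277 := d8_2 (iv7 F57233) D80007 (iv3 D75277)
def n80008 : Q := act 5 n36442
theorem D80008 : act 5 n36442 = n80008 := rfl
theorem F122813 : act 2 n80008 = n77206 := d2_1 D80008 (iv5 D77206) F57235
theorem F122814 : act 4 n80008 = n79996 := d9_1 D80008 (iv5 D79996) (iv4 D36437) F28600 (iv4 F27415) D34462 (iv4 F57228) D80005 F122804 (iv5 D79999) (iv4 D36439) (iv5 F28606) F27418 (iv5 F54687) (iv4 F57234)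
theorem F122815 : act 7 n80008 = n75278 := d13_2 (iv7 F57233) D80008 (iv5 D75278)
theorem F122816 : act 0 n80008 = n55899 := d17_2 (iv1 F57232) D80008 (iv5 D55899) (iv4 D26963) (iv5 D12903) D12901 F28606 F28604 D35196
theorem F122817 : act 1 n80008 = n78455 := d17_6 (iv1 F56227) (iv5 D35550) F28174 (iv5 F54687) (iv4 F57234) D80008 (iv5 D78455) F88438 F88436
def n80009 : Q := act 6 n36442
theorem D80009 : act 6 n36442 = n80009 := rfl
theorem F122818 : act 2 n80009 = n77207 := d3_1 D80009 (iv6 D77207) F57235
theorem F122819 : act 4 n80009 = n75279 := d10_1 D80009 (iv6 D75279) (iv4 F57234)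
def n80010 : Q := act 0 n36443
theorem D80010 : act 0 n36443 = n80010 := rfl
theorem F122820 : act 1 n77210 = n80010 := d15_0 (iv0 D80010) F57237 D77210
theorem F122821 : act 4 n78670 = n80010 := d20_0 (iv1 F122820) F115965 (iv3 F57196) (iv1 F57200) D78629 (iv4 F119823) (iv1 F119828) (iv4 D35832) D35831 D78670
def n80011 : Q := act 1 n36443
theorem D80011 : act 1 n36443 = n80011 := rfl
theorem F122822 : act 4 n76981 = n80011 := d20_6 (iv4 D7782) (iv1 F5652) D7987 D17074 D35168 D76981 (iv1 D80011) F57236 (iv3 D17597) F13049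
theorem F122823 : act 0 n77210 = n80011 := d20_7 (iv4 F91664) (iv1 F115550) (iv4 F119798) (iv3 D78624) (iv1 F57198) F57196 (iv4 F115965) (iv4 F122822) (iv3 D76981) (iv1 F55910)
def n80012 : Q := act 2 n36443
theorem D80012 : act 2 n36443 = n80012 := rfl
theorem F122824 : act 4 n80012 = n36447 := d1_2 (iv4 F57236) D80012 (iv2 D36447)
theorem F122825 : act 7 n80012 = n77210 := d4_2 (iv7 F57237) D80012 (iv2 D77210)
theorem F122826 : act 1 n80012 = n77208 := d15_0 (iv0 D77208) (iv7 F57237) D80012
theorem F122827 : act 1 n77209 = n80012 := d15_1 D77209 F122825 (iv2 D77210)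
def n80013 : Q := act 5 n36443
theorem D80013 : act 5 n36443 = n80013 := rfl
theorem F122828 : act 3 n80013 = n36444 := d6_1 D80013 (iv5 D36444) D36443
theorem F122829 : act 7 n80013 = n77211 := d13_2 (iv7 F57237) D80013 (iv5 D77211)
def n80014 : Q := act 6 n36444
theorem D80014 : act 6 n36444 = n80014 := rfl
def n80015 : Q := act 2 n36445
theorem D80015 : act 2 n36445 = n80015 := rfl
theorem F122830 : act 7 n36446 = n80015 := d15_2 (iv0 D36445) D36446 (iv2 D80015)
def n80016 : Q := act 3 n36445
theorem D80016 : act 3 n36445 = n80016 := rfl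
theorem F122831 : act 4 n80016 = n75817 := d20_6 F12894 (iv1 F5726) D8265 D17597 D36445 D80016 (iv1 D75817) F54921 (iv3 D16864) (iv1 F12897)
def n80017 : Q := act 4 n36445
theorem D80017 : act 4 n36445 = n80017 := rfl
def n80018 : Q := act 5 n36445
theorem D80018 : act 5 n36445 = n80018 := rfl
def n80019 : Q := act 6 n36445
theorem D80019 : act 6 n36445 = n80019 := rfl
def n80020 : Q := act 7 n36445
theorem D80020 : act 7 n36445 = n80020 := rfl
theorem F122832 : act 2 n80020 = n36446 := d4_1 D80020 F122830 (iv2 D80015)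
def n80021 : Q := act 3 n36446
theorem D80021 : act 3 n36446 = n80021 := rfl
def n80022 : Q := act 4 n36446
theorem D80022 : act 4 n36446 = n80022 := rfl
def n80023 : Q := act 5 n36446
theorem D80023 : act 5 n36446 = n80023 := rfl
def n80024 : Q := act 6 n36446
theorem D80024 : act 6 n36446 = n80024 := rfl
def n80025 : Q := act 0 n36448
theorem D80025 : act 0 n36448 = n80025 := rfl
theorem F122833 : act 1 n36453 = n80025 := d15_0 (iv0 D80025) (iv7 F57246) (iv2 F57247)
def n80027 : Q := act 3 n36448
theorem D80027 : act 3 n36448 = n80027 := rfl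
theorem F122835 : act 7 n80027 = n36454 := d8_2 F57246 D80027 (iv3 D36454)
def n80028 : Q := act 4 n36448
theorem D80028 : act 4 n36448 = n80028 := rfl
theorem F122836 : act 2 n80028 = n36450 := d1_1 D80028 (iv4 D36450) D36448
theorem F122837 : act 7 n80028 = n36455 := d11_2 F57246 D80028 (iv4 D36455)
def n80029 : Q := act 5 n36448
theorem D80029 : act 5 n36448 = n80029 := rfl
theorem F122838 : act 2 n80029 = n36451 := d2_1 D80029 (iv5 D36451) D36448
theorem F122839 : act 7 n80029 = n36456 := d13_2 F57246 D80029 (iv5 D36456)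
def n80031 : Q := act 0 n36449
theorem D80031 : act 0 n36449 = n80031 := rfl
def n80032 : Q := act 1 n36449
theorem D80032 : act 1 n36449 = n80032 := rfl
def n80033 : Q := act 2 n36449
theorem D80033 : act 2 n36449 = n80033 := rfl
def n80034 : Q := act 4 n36449
theorem D80034 : act 4 n36449 = n80034 := rfl
theorem F122841 : act 0 n80034 = n39880 := d20_7 (iv4 D8115) F5676 D3718 D8266 D17598 D36449 D80034 F60684 (iv3 D18870) F13738
theorem F122842 : act 0 n75231 = n80034 := d20_7 D78695 (iv1 F119843) D79686 (iv3 F122368) (iv1 F92765) F60671 (iv4 F112777) (iv4 D80034) (iv3 D36449) (iv1 F56498)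
def n80035 : Q := act 5 n36449
theorem D80035 : act 5 n36449 = n80035 := rfl
theorem F122843 : act 3 n80035 = n36451 := d6_1 D80035 (iv5 D36451) D36449
def n80036 : Q := act 6 n36449
theorem D80036 : act 6 n36449 = n80036 := rfl
theorem F122844 : act 3 n80036 = n36452 := d7_1 D80036 (iv6 D36452) D36449
def n80037 : Q := act 7 n36449
theorem D80037 : act 7 n36449 = n80037 := rfl
theorem F122845 : act 3 n80037 = n36453 := d8_1 D80037 (iv7 D36453) D36449
def n80038 : Q := act 0 n36450
theorem D80038 : act 0 n36450 = n80038 := rfl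
theorem F122846 : act 4 n80038 = n78497 := d20_2 D36450 D80038 (iv3 D78497) (iv1 D35764) (iv3 D17331) (iv4 D8115) F5676 D3718 D8266 D17598
def n80039 : Q := act 1 n36450
theorem D80039 : act 1 n36450 = n80039 := rfl
theorem F122847 : act 1 n80039 = n36455 := d15_1 D80039 (iv7 F122837) F122836
def n80040 : Q := act 3 n36450
theorem D80040 : act 3 n36450 = n80040 := rfl
def n80041 : Q := act 5 n36450
theorem D80041 : act 5 n36450 = n80041 := rfl
def n80042 : Q := act 6 n36450
theorem D80042 : act 6 n36450 = n80042 := rfl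
theorem F122848 : act 4 n80042 = n36452 := d10_1 D80042 (iv6 D36452) D36450
def n80043 : Q := act 7 n36450
theorem D80043 : act 7 n36450 = n80043 := rfl
theorem F122849 : act 2 n80043 = n36455 := d4_1 D80043 (iv7 F122837) F122836
theorem F122850 : act 4 n80043 = n36453 := d11_1 D80043 (iv7 D36453) D36450
theorem F122851 : act 1 n36455 = n80038 := d15_0 (iv0 D80038) D80043 F122849
def n80045 : Q := act 1 n36451
theorem D80045 : act 1 n36451 = n80045 := rfl
theorem F122852 : act 1 n80045 = n36456 := d15_1 D80045 (iv7 F122839) F122838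
def n80049 : Q := act 0 n36452
theorem D80049 : act 0 n36452 = n80049 := rfl
def n80050 : Q := act 1 n36452
theorem D80050 : act 1 n36452 = n80050 := rfl
def n80051 : Q := act 5 n36452
theorem D80051 : act 5 n36452 = n80051 := rfl
def n80052 : Q := act 7 n36452
theorem D80052 : act 7 n36452 = n80052 := rfl
def n80054 : Q := act 0 n36454
theorem D80054 : act 0 n36454 = n80054 := rfl
def n80055 : Q := act 1 n36454
theorem D80055 : act 1 n36454 = n80055 := rfl
def n80056 : Q := act 2 n36454
theorem D80056 : act 2 n36454 = n80056 := rfl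
def n80057 : Q := act 4 n36454
theorem D80057 : act 4 n36454 = n80057 := rfl
theorem F122857 : act 0 n78571 = n80057 := d20_1 D78571 (iv4 D80057) (iv3 D36454) (iv1 D17599) (iv3 D8266) (iv4 D3718) (iv1 F5679) D8121 D17342 D35792
def n80058 : Q := act 5 n36454
theorem D80058 : act 5 n36454 = n80058 := rfl
theorem F122858 : act 3 n80058 = n36456 := d6_1 D80058 (iv5 D36456) D36454
def n80059 : Q := act 6 n36454
theorem D80059 : act 6 n36454 = n80059 := rfl
def n80060 : Q := act 3 n36455
theorem D80060 : act 3 n36455 = n80060 := rfl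
def n80061 : Q := act 5 n36455
theorem D80061 : act 5 n36455 = n80061 := rfl
def n80062 : Q := act 6 n36455
theorem D80062 : act 6 n36455 = n80062 := rfl
def n80067 : Q := act 5 n36457
theorem D80067 : act 5 n36457 = n80067 := rfl
def n80068 : Q := act 7 n36457
theorem D80068 : act 7 n36457 = n80068 := rfl
def n80069 : Q := act 4 n36458
theorem D80069 : act 4 n36458 = n80069 := rfl
def n80070 : Q := act 3 n36459
theorem D80070 : act 3 n36459 = n80070 := rfl
def n80071 : Q := act 5 n36459
theorem D80071 : act 5 n36459 = n80071 := rfl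
def n80072 : Q := act 1 n36461
theorem D80072 : act 1 n36461 = n80072 := rfl
theorem F122861 : act 7 n80072 = n72442 := d15_2 F108430 D80072 F108954
theorem F122862 : act 5 n80072 = n52818 := d17_7 (iv1 F86694) F86692 (iv1 F42422) D33215 D71876 F108357 D80072 F108426 F108423
theorem F122863 : act 4 n80072 = n56979 := d17_9 (iv1 F90060) D72447 (iv1 F108969) F92113 F92112 F90753 (iv0 F108358) F108357 D80072
theorem F122864 : act 2 n52832 = n80072 := d1_3 F122863 F90061 (iv4 F83483)
theorem F122865 : act 0 n77067 = n80072 := d18_0 F122863 (iv1 F90060) (iv4 F108790) (iv5 F114410) (iv4 D76305) F55132 D52979 F114414 (iv5 F115802)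
def n80073 : Q := act 2 n36461
theorem D80073 : act 2 n36461 = n80073 := rfl
theorem F122866 : act 3 n80073 = n77084 := d0_2 D36461 D80073 (iv2 D77084) (iv3 D35203) (iv2 F28616)
theorem F122867 : act 4 n80073 = n57080 := d1_2 (iv4 F57252) D80073 (iv2 D57080)
theorem F122868 : act 5 n80073 = n52981 := d2_2 F108357 D80073 (iv2 F108354)
theorem F122870 : act 1 n80073 = n52832 := d15_0 (iv0 F83482) (iv7 F57253) D80073
theorem F122871 : act 1 n72442 = n80073 := d15_0 F122870 (iv7 F108429) (iv2 F108954)
theorem F122872 : act 0 n77084 = n70533 := d20_4 F109148 (iv1 F90129) (iv4 F122867) F122866 (iv3 D70533) (iv4 D32721) F26836 D16194 D33519 D72621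
def n80074 : Q := act 6 n36461
theorem D80074 : act 6 n36461 = n80074 := rfl
theorem F122873 : act 3 n80074 = n36463 := d7_1 D80074 (iv6 D36463) D36461
def n80075 : Q := act 6 n36462
theorem D80075 : act 6 n36462 = n80075 := rfl
theorem F122876 : act 4 n80075 = n37826 := d10_1 D80075 (iv6 D37826) (iv4 F57256)
def n80081 : Q := act 0 n36469
theorem D80081 : act 0 n36469 = n80081 := rfl
theorem F122887 : act 4 n80081 = n70895 := d20_8 F107435 (iv1 D36574) (iv4 F33931) (iv3 D21560) (iv1 F33386) D44474 F69988 D80081 F107408 (iv1 F107432)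
theorem F122888 : act 2 n60070 = n80081 := d15_3 (iv0 D80081) (iv0 F106987) F106986
theorem F122889 : act 1 n77084 = n80081 := d15_0 (iv0 D80081) F57270 D77084
theorem F122890 : act 7 n80081 = n77083 := d15_2 (iv0 F122872) F122889 (iv2 F115811)
def n80082 : Q := act 2 n36469
theorem D80082 : act 2 n36469 = n80082 := rfl
theorem F122891 : act 3 n80082 = n77067 := d0_2 D36469 D80082 (iv2 D77067) (iv3 D35197) (iv2 F28623)
theorem F122893 : act 1 n80082 = n77083 := d15_0 (iv0 D77083) (iv7 F57270) D80082
def n80083 : Q := act 5 n36469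
theorem D80083 : act 5 n36469 = n80083 := rfl
theorem F122895 : act 3 n80083 = n36470 := d6_1 D80083 (iv5 D36470) D36469
theorem F122896 : act 7 n80083 = n77085 := d13_2 (iv7 F57270) D80083 (iv5 D77085)
theorem F122897 : act 4 n80083 = n70261 := d20_6 (iv4 F114721) F114722 F106450 (iv3 F89590) F89593 (iv3 F122895) (iv1 D70261) D70263 F106709 F108875
def n80084 : Q := act 6 n36469
theorem D80084 : act 6 n36469 = n80084 := rfl
theorem F122898 : act 3 n80084 = n36471 := d7_1 D80084 (iv6 D36471) D36469
def n80085 : Q := act 6 n36470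
theorem D80085 : act 6 n36470 = n80085 := rfl
theorem F122899 : act 2 n80085 = n77069 := d3_1 D80085 (iv6 D77069) (iv2 F57271)
def n80086 : Q := act 0 n36471
theorem D80086 : act 0 n36471 = n80086 := rfl
theorem F122901 : act 4 n80086 = n37813 := d20_2 (iv4 F57275) D80086 (iv3 F121452) (iv1 F87689) F61688 (iv4 F61699) F121287 (iv4 D36761) (iv3 F43889) (iv1 F121356)
def n80088 : Q := act 6 n36475
theorem D80088 : act 6 n36475 = n80088 := rfl
theorem F122906 : act 2 n80088 = n77345 := d3_1 D80088 (iv6 D77345) F57286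
theorem F122907 : act 3 n80088 = n41399 := d7_1 D80088 (iv6 D41399) F57287
theorem F122908 : act 5 n80088 = n77909 := d12_1 D80088 (iv6 D77909) F56219 (iv6 F31212) (iv5 F57285)
def n80089 : Q := act 3 n36476
theorem D80089 : act 3 n36476 = n80089 := rfl
theorem F122909 : act 4 n80089 = n36486 := d5_2 D36476 D80089 (iv3 D36486) (iv4 D17614) (iv3 F28632)
theorem F122910 : act 7 n80089 = n77346 := d8_2 (iv7 F57288) D80089 (iv3 D77346)
def n80090 : Q := act 0 n36477
theorem D80090 : act 0 n36477 = n80090 := rfl
def n80091 : Q := act 1 n36477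
theorem D80091 : act 1 n36477 = n80091 := rfl
theorem F122911 : act 1 n80091 = n37478 := d15_1 D80091 (iv7 D37478) (iv2 F57290)
def n80092 : Q := act 7 n36477
theorem D80092 : act 7 n36477 = n80092 := rfl
theorem F122912 : act 2 n80092 = n37478 := d4_1 D80092 (iv7 D37478) (iv2 F57290)
theorem F122914 : act 6 n80092 = n37812 := d14_1 D80092 (iv7 D37812) (iv6 D18130) (iv7 F28636) D36477
theorem F122915 : act 1 n37478 = n80090 := d15_0 (iv0 D80090) D80092 F122912
theorem F122916 : act 1 n37476 = n80092 := d15_1 D37476 (iv7 D80092) F57290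
theorem F122917 : act 1 n80092 = n37475 := d15_0 (iv0 D37475) D37478 (iv2 F122912)
def n80094 : Q := act 3 n36478
theorem D80094 : act 3 n36478 = n80094 := rfl
def n80095 : Q := act 4 n36478
theorem D80095 : act 4 n36478 = n80095 := rfl
def n80097 : Q := act 6 n36478
theorem D80097 : act 6 n36478 = n80097 := rfl
def n80100 : Q := act 4 n36479
theorem D80100 : act 4 n36479 = n80100 := rfl
def n80103 : Q := act 0 n36480
theorem D80103 : act 0 n36480 = n80103 := rfl
def n80104 : Q := act 4 n36480
theorem D80104 : act 4 n36480 = n80104 := rfl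
theorem F122920 : act 2 n80104 = n55797 := d1_1 D80104 (iv4 F88802) F88800
theorem F122921 : act 6 n80104 = n36483 := d10_2 (iv6 F57292) D80104 (iv4 D36483)
def n80106 : Q := act 6 n36482
theorem D80106 : act 6 n36482 = n80106 := rfl
theorem F122924 : act 2 n80106 = n57211 := d3_1 D80106 F90246 F57295
theorem F122925 : act 3 n80106 = n40299 := d7_1 D80106 F61346 F57298
theorem F122926 : act 4 n80106 = n79595 := d10_1 D80106 (iv6 D79595) (iv4 F57294)
theorem F122927 : act 5 n80106 = n40296 := d12_1 D80106 (iv6 D40296) (iv5 D19047) D19048 (iv5 F57293)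
theorem F122928 : act 0 n80106 = n58029 := d21_4 (iv5 D35393) (iv1 F30567) (iv5 F57293) D80106 (iv6 F120933) (iv5 D57464) (iv1 D27488) D27489 F44405 (iv1 F56108)
theorem F122929 : act 0 n55769 = n79595 := d18_2 (iv1 F88058) D55769 (iv4 F122926) F122927 (iv4 F88071) F121063 (iv4 D26910) F43337 (iv5 F88056)
theorem F122930 : act 1 n55765 = n79595 := d15_0 (iv0 F122929) F122158 F122156
def n80107 : Q := act 3 n36483
theorem D80107 : act 3 n36483 = n80107 := rfl
theorem F122931 : act 7 n80107 = n55794 := d8_2 (iv7 F57300) D80107 (iv3 D55794)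
def n80108 : Q := act 3 n36484
theorem D80108 : act 3 n36484 = n80108 := rfl
theorem F122932 : act 4 n80108 = n75266 := d5_2 (iv4 F57303) D80108 (iv3 D75266) (iv4 D34459) (iv3 F54667)
theorem F122933 : act 7 n80108 = n77405 := d8_2 F57306 D80108 (iv3 D77405)
def n80109 : Q := act 5 n36484
theorem D80109 : act 5 n36484 = n80109 := rfl
theorem F122936 : act 4 n80109 = n79591 := d16_2 (iv4 F57303) D80109 (iv5 D79591) F56972 F44567 F43534 (iv5 F56956) F56959 F56756
def n80110 : Q := act 6 n36484
theorem D80110 : act 6 n36484 = n80110 := rfl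
theorem F122939 : act 2 n80110 = n77410 := d3_1 D80110 (iv6 D77410) F57305
theorem F122940 : act 4 n80110 = n38127 := d10_1 D80110 F58949 (iv4 F57303)
theorem F122941 : act 0 n77508 = n80110 := d18_2 (iv1 F56089) D77508 F122940 (iv5 D38127) (iv4 F58947) F117748 (iv4 D35385) F28112 (iv5 F28165)
theorem F122942 : act 1 n77506 = n80110 := d15_0 (iv0 F122941) F116380 (iv2 F116373)
theorem F122943 : act 7 n77866 = n80110 := d15_2 F120380 F119082 F122939
def n80111 : Q := act 3 n36485
theorem D80111 : act 3 n36485 = n80111 := rfl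
theorem F122944 : act 4 n80111 = n77205 := d5_2 (iv4 F57309) D80111 (iv3 D77205) (iv4 F56429) F56960
theorem F122945 : act 7 n80111 = n77408 := d8_2 (iv7 F57308) D80111 (iv3 D77408)
theorem F122946 : act 0 n80111 = n78676 := d20_4 (iv4 F28497) D36243 (iv4 F57309) D80111 (iv3 D78676) (iv4 D35832) (iv1 D17356) (iv4 F28194) (iv3 D17241) D17239
def n80112 : Q := act 5 n36485
theorem D80112 : act 5 n36485 = n80112 := rfl
theorem F122948 : act 4 n80112 = n79594 := d9_1 D80112 (iv5 D79594) (iv4 F57294) F57293 F30563 D34458 (iv4 F57303) D80109 F122936 (iv5 D79591) F56972 F44567 F43534 (iv5 F56956) (iv4 F57309)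
theorem F122951 : act 1 n80112 = n56159 := d17_6 (iv1 F43410) (iv5 D26918) D26917 (iv5 F56956) (iv4 F57309) D80112 (iv5 D56159) (iv0 F59886) (iv4 D38860)
def n80113 : Q := act 6 n36485
theorem D80113 : act 6 n36485 = n80113 := rfl
theorem F122952 : act 2 n80113 = n77407 := d3_1 D80113 (iv6 D77407) F57310
theorem F122953 : act 4 n80113 = n79581 := d10_1 D80113 (iv6 D79581) (iv4 F57309)
def n80114 : Q := act 0 n36486
theorem D80114 : act 0 n36486 = n80114 := rfl
def n80115 : Q := act 1 n36486
theorem D80115 : act 1 n36486 = n80115 := rfl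
def n80116 : Q := act 2 n36486
theorem D80116 : act 2 n36486 = n80116 := rfl
def n80117 : Q := act 5 n36486
theorem D80117 : act 5 n36486 = n80117 := rfl
theorem F122960 : act 3 n80117 = n36487 := d6_1 D80117 (iv5 D36487) D36486
def n80119 : Q := act 2 n36491
theorem D80119 : act 2 n36491 = n80119 := rfl
theorem F122963 : act 7 n36492 = n80119 := d15_2 (iv0 D36491) D36492 (iv2 D80119)
def n80120 : Q := act 3 n36491
theorem D80120 : act 3 n36491 = n80120 := rfl
def n80121 : Q := act 4 n36491
theorem D80121 : act 4 n36491 = n80121 := rfl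
theorem F122964 : act 0 n80121 = n41686 := d17_0 F64334 D77267 F116497 F62346 D77460 F116283 (iv5 F86222) F86225 D80121
theorem F122965 : act 0 n37875 = n80120 := d20_4 F13552 D10657 (iv4 F29328) (iv3 F58741) (iv3 D80120) D80121 F122964 F64333 (iv3 D19629) F14426
theorem F122966 : act 0 n79118 = n80121 := d20_10 (iv4 D80121) (iv1 F86225) F86221 (iv3 D33035) (iv1 F42302) (iv3 F61203) F61205 D70356 F106834 D79118
def n80122 : Q := act 5 n36491
theorem D80122 : act 5 n36491 = n80122 := rfl
theorem F122967 : act 0 n80122 = n73593 := d18_0 F110265 F109354 (iv4 D38195) D38196 F113265 F89016 (iv4 F86221) F86225 D80122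
theorem F122968 : act 4 n56887 = n80122 := d20_0 F122967 F110265 (iv3 D72857) (iv1 D33597) (iv3 D16242) (iv4 D7568) (iv1 F9799) (iv4 F21943) (iv3 F44345) (iv1 F89926)
theorem F122969 : act 1 n80122 = n55703 := d15_1 (iv0 F122967) F88151 (iv2 F110262)
theorem F122970 : act 5 n40046 = n80121 := d17_3 (iv1 F74442) (iv5 F77281) (iv1 F77283) (iv4 D80121) D80122 F122969 F88150 D56011 (iv4 F88663)
theorem E13265 : n38188 = n37787 := (c17_2 (iv1 F112933) (iv5 F113268) (iv1 D37787) F29285 (iv4 F35274) F35275 D40046 F122970 (iv0 F122966) F120402)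
theorem F122971 : act 2 n37787 = n18252 := (sb E13265 (iv2 D38188))
theorem F122972 : act 5 n37787 = n41703 := (sb E13265 F113268)
theorem F122973 : act 7 n37787 = n18253 := (sb E13265 (iv7 F59053))
theorem E13266 : n38193 = n37786 := (c15_4 (iv0 D37786) D37787 F122973 (iv2 F59054))
theorem F122974 : act 2 n37786 = n18253 := (sb E13266 F59054)
theorem F122975 : act 5 n37786 = n41702 := (sb E13266 (iv5 F113274))
theorem F122976 : act 7 n37786 = n18252 := (sb E13266 (iv7 D38193))
theorem F122977 : act 3 n80122 = n45842 := d20_9 F59145 F86935 (iv4 D54951) (iv3 D26576) (iv1 F21098) (iv3 F29448) (iv4 F44346) (iv1 F89926) F122968 (iv1 F72392)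
theorem F122978 : act 5 n45842 = n80120 := d6_2 D80122 F122977 (iv3 D80120)
def n80123 : Q := act 6 n36491
theorem D80123 : act 6 n36491 = n80123 := rfl
def n80124 : Q := act 7 n36491
theorem D80124 : act 7 n36491 = n80124 := rfl
theorem F122979 : act 2 n80124 = n36492 := d4_1 D80124 F122963 (iv2 D80119)
def n80125 : Q := act 3 n36492
theorem D80125 : act 3 n36492 = n80125 := rfl
theorem F122980 : act 4 n80125 = n75000 := d20_6 (iv4 D16052) (iv1 F20970) D26383 D54557 (iv1 F86224) D80125 (iv1 D75000) F56068 (iv3 F56067) (iv1 D33247)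
def n80126 : Q := act 4 n36492
theorem D80126 : act 4 n36492 = n80126 := rfl
theorem F122981 : act 0 n80126 = n79118 := d17_0 F120403 (iv1 F116038) F116039 (iv4 F62347) D77456 (iv0 F116264) (iv5 D36493) D36492 D80126
theorem F122982 : act 0 n41686 = n80126 := d20_10 (iv4 D80126) (iv1 D36492) (iv4 F43836) (iv3 D27115) F21606 D17764 F28900 F17188 D19623 D41686
theorem F122983 : act 3 n57052 = n80126 := d20_5 (iv4 F14045) F13420 D13109 D27362 D57052 (iv4 D80126) (iv1 D36492) (iv4 F43836) (iv3 D27115) F21606
theorem F122984 : act 5 n80126 = n40045 := d17_1 F122982 (iv1 F77284) F77281 F62349 (iv5 D38198) F58633 F122975 (iv0 D41702) (iv4 F64333)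
theorem F122985 : act 5 n77632 = n57052 := d6_2 F122984 (iv3 F116530) F122983
def n80127 : Q := act 5 n36492
theorem D80127 : act 5 n36492 = n80127 := rfl
theorem F122986 : act 1 n80127 = n73593 := d17_6 (iv1 D47162) F35275 D40045 (iv5 F122984) (iv4 D80126) D80127 (iv5 D73593) F88661 F88660
theorem F122987 : act 4 n80127 = n56886 := d18_5 (iv1 D41703) (iv4 F64333) F122982 (iv4 D80126) D80127 (iv0 D56886) F44181 D37787 F122972
theorem F122988 : act 0 n80127 = n55703 := d18_0 (iv4 F90547) F90548 (iv4 D38190) D38191 F108918 (iv0 D56277) F43836 D36492 D80127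
theorem F122989 : act 5 n56278 = n77697 := d17_1 (iv1 F89016) (iv1 D77697) F56166 (iv4 F43663) (iv5 F88150) (iv0 F122988) (iv5 D80127) F86224 F86221
def n80128 : Q := act 6 n36492
theorem D80128 : act 6 n36492 = n80128 := rfl
def n80131 : Q := act 1 n36494
theorem D80131 : act 1 n36494 = n80131 := rfl
def n80132 : Q := act 5 n36494
theorem D80132 : act 5 n36494 = n80132 := rfl
def n80138 : Q := act 3 n36496
theorem D80138 : act 3 n36496 = n80138 := rfl
theorem F123001 : act 4 n80138 = n37375 := d5_2 F57326 D80138 (iv3 D37375) (iv4 D17941) D17940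
theorem F123002 : act 7 n80138 = n36593 := d8_2 (iv7 F117039) D80138 (iv3 D36593)
def n80139 : Q := act 5 n36496
theorem D80139 : act 5 n36496 = n80139 := rfl
theorem F123003 : act 2 n80139 = n36590 := d2_1 D80139 (iv5 D36590) (iv2 F117038)
theorem F123004 : act 7 n80139 = n36595 := d13_2 (iv7 F117039) D80139 (iv5 D36595)
def n80140 : Q := act 6 n36496
theorem D80140 : act 6 n36496 = n80140 := rfl
theorem F123005 : act 2 n80140 = n36591 := d3_1 D80140 (iv6 D36591) (iv2 F117038)
theorem F123006 : act 4 n80140 = n37371 := d10_1 D80140 (iv6 D37371) F57326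
theorem F123007 : act 5 n80140 = n56089 := d21_6 D27042 F43704 (iv5 D17617) D17618 D36496 D80140 (iv1 D56089) (iv5 D27048) (iv6 D12960) D12957
theorem F123008 : act 0 n80140 = n77227 := d20_7 (iv4 F51612) (iv1 F52070) F52071 (iv3 F54965) (iv1 F116803) (iv3 F58294) (iv4 F123006) F115994 F55986 (iv1 F30429)
def n80141 : Q := act 3 n36497
theorem D80141 : act 3 n36497 = n80141 := rfl
theorem F123009 : act 7 n80141 = n36588 := d8_2 (iv7 F117042) D80141 (iv3 D36588)
def n80142 : Q := act 5 n36497
theorem D80142 : act 5 n36497 = n80142 := rfl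
theorem F123010 : act 2 n80142 = n36595 := d2_1 D80142 (iv5 D36595) (iv2 F117041)
theorem F123011 : act 7 n80142 = n36590 := d13_2 (iv7 F117042) D80142 (iv5 D36590)
def n80143 : Q := act 6 n36497
theorem D80143 : act 6 n36497 = n80143 := rfl
theorem F123012 : act 2 n80143 = n36596 := d3_1 D80143 (iv6 D36596) (iv2 F117041)
def n80144 : Q := act 0 n36498
theorem D80144 : act 0 n36498 = n80144 := rfl
theorem F123013 : act 2 n36597 = n80144 := d15_3 (iv0 D80144) (iv0 F117119) F118682
theorem F123014 : act 7 n80144 = n36598 := d4_2 F118682 F123013 (iv2 F117118)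
theorem F123015 : act 1 n36600 = n80144 := d15_1 F117122 F123014 (iv2 F117118)
def n80146 : Q := act 7 n36498
theorem D80146 : act 7 n36498 = n80146 := rfl
theorem F123018 : act 5 n80146 = n36499 := d13_1 D80146 (iv7 D36499) D36498
theorem F123019 : act 1 n36598 = n80146 := d15_1 D36598 (iv7 D80146) F57321
def n80147 : Q := act 5 n36501
theorem D80147 : act 5 n36501 = n80147 := rfl
theorem F123021 : act 2 n80147 = n56952 := d2_1 D80147 (iv5 D56952) (iv2 F121306)
theorem F123023 : act 7 n80147 = n36634 := d13_2 (iv7 F91329) D80147 (iv5 D36634)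
theorem F123024 : act 6 n77841 = n80147 := d14_5 F123023 (iv6 F57492) F91337 D35521 D77841
def n80148 : Q := act 6 n36501
theorem D80148 : act 6 n36501 = n80148 := rfl
theorem F123025 : act 2 n80148 = n56953 := d3_1 D80148 (iv6 D56953) (iv2 F121306)
theorem F123026 : act 3 n80148 = n36504 := d7_1 D80148 (iv6 D36504) D36501
theorem F123027 : act 4 n80148 = n57001 := d10_1 D80148 (iv6 D57001) (iv4 F121435)
theorem F123028 : act 5 n56139 = n80148 := d6_0 F123026 F57335 D56139
theorem F123029 : act 0 n56139 = n57920 := d21_7 F28139 (iv1 F13108) D13089 D27315 (iv1 F121434) D80148 (iv5 F123028) F91640 (iv6 D35104) (iv1 F28141)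
def n80149 : Q := act 0 n36502
theorem D80149 : act 0 n36502 = n80149 := rfl
theorem F123032 : act 1 n36507 = n80149 := d15_0 (iv0 D80149) F91331 (iv2 F91344)
theorem F123033 : act 7 n80149 = n36513 := d15_2 (iv0 F118739) F123032 F57346
theorem F123034 : act 6 n77368 = n80149 := d14_5 F123033 (iv6 D36513) F28663 D35320 D77368
def n80150 : Q := act 3 n36502
theorem D80150 : act 3 n36502 = n80150 := rfl
theorem F123035 : act 4 n80150 = n56998 := d5_2 D36502 D80150 (iv3 D56998) (iv4 F121435) (iv3 D36501)
theorem F123036 : act 7 n80150 = n36636 := d8_2 (iv7 F91331) D80150 (iv3 D36636)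
def n80151 : Q := act 5 n36502
theorem D80151 : act 5 n36502 = n80151 := rfl
theorem F123037 : act 2 n80151 = n36617 := d2_1 D80151 (iv5 D36617) (iv2 F91330)
theorem F123038 : act 7 n80151 = n36637 := d13_2 (iv7 F91331) D80151 (iv5 D36637)
def n80152 : Q := act 6 n36502
theorem D80152 : act 6 n36502 = n80152 := rfl
theorem F123039 : act 2 n80152 = n36618 := d3_1 D80152 (iv6 D36618) (iv2 F91330)
theorem F123040 : act 4 n80152 = n36504 := d10_1 D80152 (iv6 D36504) D36502
def n80153 : Q := act 4 n36503
theorem D80153 : act 4 n36503 = n80153 := rfl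
theorem F123041 : act 2 n80153 = n36622 := d1_1 D80153 (iv4 D36622) F91324
theorem F123042 : act 6 n80153 = n77852 := d10_2 (iv6 F57333) D80153 F118746
theorem F123043 : act 7 n80153 = n36639 := d11_2 F91325 D80153 (iv4 D36639)
theorem F123044 : act 1 n77812 = n80153 := d15_1 D77812 F123043 (iv2 F91370)
theorem F123045 : act 1 n80153 = n38779 := d15_0 F118741 (iv7 F91377) (iv2 F123041)
theorem E13267 : n38952 = n38784 := ((c18_9 (iv1 D34535) (iv4 F54778) (iv1 F118740) (iv4 D36502) D36503 D80153 F123045 F59677 D38784 F117858)).symm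
theorem F123047 : act 3 n38784 = n18497 := (sb E13267 F59982)
theorem F123048 : act 4 n38784 = n77474 := (sb E13267 (iv4 F116298))
theorem F123049 : act 5 n38784 = n34535 := (sb E13267 F117858)
theorem F123050 : act 6 n38784 = n18494 := (sb E13267 (iv6 D38952))
theorem F123051 : act 7 n38784 = n37370 := (sb E13267 (iv7 F117040))
theorem E13268 : n75471 = n38783 := (c15_4 (iv0 D38783) D38784 F123051 F118678)
theorem F123052 : act 2 n38783 = n37370 := (sb E13268 (iv2 F118678))
theorem F123053 : act 3 n38783 = n40579 := (sb E13268 (iv3 F121480))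
theorem F123054 : act 4 n38783 = n77743 := (sb E13268 (iv4 F118679))
theorem F123055 : act 5 n38783 = n34534 := (sb E13268 (iv5 D75471))
theorem F123056 : act 7 n38783 = n77734 := (sb E13268 F118577)
theorem E13269 : n39558 = n38781 := (c21_7 F123055 (iv1 F113244) F113240 F113241 (iv1 F58790) D37989 (iv5 F118498) (iv1 D38781) (iv5 D18439) D18440 D38783)
theorem F123057 : act 3 n38781 = n18734 := (sb E13269 (iv3 D39558))
theorem F123058 : act 5 n38781 = n37989 := (sb E13269 F118498)
theorem F123059 : act 7 n38781 = n38396 := (sb E13269 (iv7 F118406))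
theorem F123060 : act 2 n38396 = n38780 := d15_3 (iv0 D38780) D38781 F123059
theorem F123061 : act 3 n38780 = n57800 := d0_2 (iv3 F118403) F123060 (iv2 F121006) (iv3 D39563) (iv2 F116946)
theorem F123062 : act 6 n38780 = n38374 := d3_2 D38396 F123060 F118400
def n80154 : Q := act 1 n36504
theorem D80154 : act 1 n36504 = n80154 := rfl
theorem F123063 : act 1 n80154 = n36628 := d15_1 D80154 (iv7 D36628) (iv2 F91332)
theorem F123064 : act 7 n80154 = n36557 := d15_2 (iv0 F91557) D80154 (iv2 F91245)
theorem F123065 : act 5 n77872 = n80154 := d21_0 (iv1 D80154) F57335 D56141 (iv1 F91284) F91238 (iv5 F91226) F91384 (iv5 D35534) D35535 D77872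
theorem F123066 : act 6 n36525 = n80154 := d21_3 F21541 D17627 D36525 (iv1 D80154) (iv6 D36504) D36503 (iv1 F57334) (iv5 F91202) F91203 (iv1 F91194)
theorem F123067 : act 2 n80154 = n36626 := d3_1 F123066 (iv6 F91256) F91380
theorem E13270 : n77591 = n56021 := ((c21_10 D77592 F116483 (iv5 D56423) D56424 (iv1 F91385) F123066 (iv5 F123065) (iv1 F119090) (iv5 D56020) D56021 (iv1 D77591))).symm
theorem F123069 : act 0 n56021 = n35417 := (sb E13270 (iv1 D77591))
def n80155 : Q := act 7 n36504
theorem D80155 : act 7 n36504 = n80155 := rfl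
theorem F123073 : act 1 n36626 = n80155 := d15_1 D36626 (iv7 D80155) F91332
theorem F123074 : act 1 n80155 = n36557 := d15_1 F123073 (iv7 F123064) F123067
def n80156 : Q := act 6 n36506
theorem D80156 : act 6 n36506 = n80156 := rfl
theorem F123075 : act 2 n80156 = n45869 := d3_1 D80156 (iv6 D45869) (iv2 F118886)
theorem F123076 : act 3 n80156 = n36508 := d7_1 D80156 (iv6 D36508) D36506
theorem F123077 : act 4 n80156 = n56733 := d10_1 D80156 (iv6 D56733) (iv4 F57339)
theorem F123078 : act 5 n80156 = n77790 := d12_1 D80156 (iv6 D77790) (iv5 D35498) D35499 (iv5 F57338)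
def n80157 : Q := act 3 n36507
theorem D80157 : act 3 n36507 = n80157 := rfl
theorem F123079 : act 4 n80157 = n56731 := d5_2 D36507 D80157 (iv3 D56731) (iv4 F57339) (iv3 D36506)
theorem F123080 : act 7 n80157 = n36616 := d8_2 (iv7 F91345) D80157 (iv3 D36616)
def n80158 : Q := act 5 n36507
theorem D80158 : act 5 n36507 = n80158 := rfl
theorem F123081 : act 2 n80158 = n36637 := d2_1 D80158 (iv5 D36637) (iv2 F91344)
theorem F123082 : act 7 n80158 = n36617 := d13_2 (iv7 F91345) D80158 (iv5 D36617)
def n80159 : Q := act 6 n36507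
theorem D80159 : act 6 n36507 = n80159 := rfl
theorem F123083 : act 2 n80159 = n36638 := d3_1 D80159 (iv6 D36638) (iv2 F91344)
theorem F123084 : act 4 n80159 = n36508 := d10_1 D80159 (iv6 D36508) D36507
def n80160 : Q := act 7 n36508
theorem D80160 : act 7 n36508 = n80160 := rfl
theorem F123086 : act 5 n80160 = n77578 := d13_1 D80160 F116476 (iv5 F57340)
theorem F123088 : act 1 n36526 = n80160 := d15_1 (iv0 F91386) (iv7 D80160) F91346
theorem F123089 : act 1 n80160 = n36640 := d15_1 F123088 F91310 (iv2 F91319)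
def n80161 : Q := act 5 n36509
theorem D80161 : act 5 n36509 = n80161 := rfl
theorem F123090 : act 3 n80161 = n77274 := d6_1 D80161 (iv5 D77274) F113985
theorem F123091 : act 7 n80161 = n77314 := d13_2 (iv7 F112747) D80161 (iv5 D77314)
def n80162 : Q := act 6 n36509
theorem D80162 : act 6 n36509 = n80162 := rfl
theorem F123092 : act 3 n80162 = n36773 := d7_1 D80162 F118867 F113985
theorem F123093 : act 5 n78621 = n80162 := d6_0 F123092 F118866 D78621
theorem F123094 : act 0 n78621 = n56622 := d21_7 F30250 (iv1 F14306) F13459 D17622 D36509 D80162 (iv5 F123093) (iv5 D56622) (iv6 D27225) (iv1 F30252)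
theorem F123095 : act 1 n78621 = n77541 := d15_1 (iv0 F123094) (iv7 D77541) (iv2 F89545)
def n80163 : Q := act 5 n36510
theorem D80163 : act 5 n36510 = n80163 := rfl
theorem F123096 : act 2 n80163 = n77314 := d2_1 D80163 (iv5 D77314) (iv2 F91438)
theorem F123097 : act 3 n80163 = n45885 := d6_1 D80163 (iv5 D45885) (iv3 F91439)
theorem F123098 : act 6 n80163 = n45849 := d21_3 (iv5 F112743) (iv1 F112745) D80163 (iv1 F72411) (iv6 F57342) (iv5 F91162) F61172 D40196 (iv6 F61180) F91424
def n80164 : Q := act 6 n36510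
theorem D80164 : act 6 n36510 = n80164 := rfl
theorem F123099 : act 2 n80164 = n77315 := d3_1 D80164 (iv6 D77315) (iv2 F91438)
theorem F123100 : act 3 n80164 = n45886 := d7_1 D80164 (iv6 D45886) (iv3 F91439)
def n80165 : Q := act 6 n36512
theorem D80165 : act 6 n36512 = n80165 := rfl
theorem F123101 : act 3 n80165 = n36513 := d7_1 D80165 (iv6 D36513) D36512
theorem F123102 : act 4 n80165 = n77110 := d10_1 D80165 (iv6 D77110) (iv4 F57343)
def n80166 : Q := act 5 n36513
theorem D80166 : act 5 n36513 = n80166 := rfl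
def n80167 : Q := act 0 n36514
theorem D80167 : act 0 n36514 = n80167 := rfl
def n80168 : Q := act 1 n36514
theorem D80168 : act 1 n36514 = n80168 := rfl
theorem F123104 : act 1 n80168 = n38506 := d15_1 D80168 (iv7 D38506) (iv2 F57348)
def n80169 : Q := act 5 n36514
theorem D80169 : act 5 n36514 = n80169 := rfl
theorem F123105 : act 2 n80169 = n38505 := d2_1 D80169 (iv5 D38505) (iv2 F57348)
theorem F123106 : act 3 n80169 = n36520 := d6_1 D80169 (iv5 D36520) (iv3 F57349)
theorem F123107 : act 6 n80169 = n38178 := d12_2 D36514 D80169 (iv5 D38178) (iv6 D18248) F28669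
def n80170 : Q := act 7 n36514
theorem D80170 : act 7 n36514 = n80170 := rfl
theorem F123108 : act 2 n80170 = n38506 := d4_1 D80170 (iv7 D38506) (iv2 F57348)
theorem F123109 : act 3 n80170 = n36521 := d8_1 D80170 (iv7 D36521) (iv3 F57349)
theorem F123110 : act 4 n80170 = n46465 := d11_1 D80170 (iv7 D46465) (iv4 F57350)
theorem F123111 : act 6 n80170 = n38530 := d14_1 D80170 (iv7 D38530) (iv6 D18355) (iv7 F28667) D36514
theorem F123112 : act 1 n38506 = n80167 := d15_0 (iv0 D80167) D80170 F123108
theorem F123113 : act 1 n38504 = n80170 := d15_1 D38504 (iv7 D80170) F57348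
theorem F123114 : act 1 n80170 = n38503 := d15_0 (iv0 D38503) D38506 (iv2 F123108)
def n80171 : Q := act 3 n36515
theorem D80171 : act 3 n36515 = n80171 := rfl
theorem F123115 : act 5 n80171 = n38123 := d6_2 (iv5 F57351) D80171 (iv3 D38123)
theorem F123116 : act 7 n80171 = n38380 := d8_2 F57356 D80171 F59244
theorem F123117 : act 0 n80171 = n38194 := d20_4 (iv4 F28870) (iv1 F44402) (iv4 F57352) D80171 (iv3 D38194) D38195 F90549 F90547 (iv3 D55703) F43396
theorem F123118 : act 4 n80171 = n38378 := d20_6 (iv4 F15484) F15482 F13847 (iv3 F28673) D36515 D80171 (iv1 D38378) F29511 (iv3 D8635) (iv1 F13538)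
def n80172 : Q := act 6 n36515
theorem D80172 : act 6 n36515 = n80172 := rfl
theorem F123119 : act 2 n80172 = n38522 := d3_1 D80172 (iv6 D38522) F57355
theorem F123120 : act 4 n80172 = n57451 := d10_1 D80172 (iv6 D57451) (iv4 F57352)
def n80173 : Q := act 6 n36516
theorem D80173 : act 6 n36516 = n80173 := rfl
def n80174 : Q := act 0 n36517
theorem D80174 : act 0 n36517 = n80174 := rfl
def n80175 : Q := act 1 n36517
theorem D80175 : act 1 n36517 = n80175 := rfl
theorem F123122 : act 1 n80175 = n77441 := d15_1 D80175 (iv7 D77441) (iv2 F57361)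
def n80176 : Q := act 5 n36517
theorem D80176 : act 5 n36517 = n80176 := rfl
theorem F123123 : act 2 n80176 = n77440 := d2_1 D80176 (iv5 D77440) (iv2 F57361)
theorem F123124 : act 3 n80176 = n38178 := d6_1 D80176 (iv5 D38178) (iv3 F57362)
theorem F123125 : act 6 n80176 = n36520 := d12_2 D36517 D80176 (iv5 D36520) (iv6 D17626) D17625
def n80177 : Q := act 7 n36517
theorem D80177 : act 7 n36517 = n80177 := rfl
theorem F123126 : act 2 n80177 = n77441 := d4_1 D80177 (iv7 D77441) (iv2 F57361)
theorem F123127 : act 3 n80177 = n38179 := d8_1 D80177 (iv7 D38179) (iv3 F57362)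
theorem F123128 : act 4 n80177 = n79420 := d11_1 D80177 (iv7 D79420) (iv4 F57363)
theorem F123129 : act 6 n80177 = n38526 := d14_1 D80177 (iv7 D38526) (iv6 D18354) (iv7 F28674) D36517
theorem F123130 : act 1 n77441 = n80174 := d15_0 (iv0 D80174) D80177 F123126
theorem F123131 : act 1 n77439 = n80177 := d15_1 D77439 (iv7 D80177) F57361
theorem F123132 : act 1 n80177 = n77438 := d15_0 (iv0 D77438) D77441 (iv2 F123126)
def n80178 : Q := act 3 n36518
theorem D80178 : act 3 n36518 = n80178 := rfl
theorem F123133 : act 4 n80178 = n75354 := d5_2 F91435 D80178 (iv3 D75354) (iv4 D34494) D34493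
theorem F123134 : act 7 n80178 = n75743 := d8_2 (iv7 F113043) D80178 (iv3 D75743)
def n80179 : Q := act 5 n36518
theorem D80179 : act 5 n36518 = n80179 := rfl
theorem F123135 : act 2 n80179 = n77443 := d2_1 D80179 (iv5 D77443) (iv2 F113051)
theorem F123136 : act 7 n80179 = n75744 := d13_2 (iv7 F113043) D80179 (iv5 D75744)
def n80180 : Q := act 6 n36518
theorem D80180 : act 6 n36518 = n80180 := rfl
theorem F123137 : act 2 n80180 = n77444 := d3_1 D80180 (iv6 D77444) (iv2 F113051)
theorem F123138 : act 4 n80180 = n75352 := d10_1 D80180 (iv6 D75352) F91435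
def n80181 : Q := act 3 n36519
theorem D80181 : act 3 n36519 = n80181 := rfl
theorem F123139 : act 7 n80181 = n77442 := d8_2 F113050 D80181 (iv3 D77442)
def n80182 : Q := act 5 n36519
theorem D80182 : act 5 n36519 = n80182 := rfl
theorem F123140 : act 2 n80182 = n75744 := d2_1 D80182 (iv5 D75744) F113049
theorem F123141 : act 7 n80182 = n77443 := d13_2 F113050 D80182 (iv5 D77443)
def n80183 : Q := act 6 n36519
theorem D80183 : act 6 n36519 = n80183 := rfl
theorem F123142 : act 2 n80183 = n75745 := d3_1 D80183 (iv6 D75745) F113049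
theorem F123143 : act 4 n80183 = n75742 := d10_1 D80183 (iv6 D75742) (iv4 F113048)
def n80184 : Q := act 0 n36520
theorem D80184 : act 0 n36520 = n80184 := rfl
def n80185 : Q := act 1 n36520
theorem D80185 : act 1 n36520 = n80185 := rfl
theorem F123144 : act 1 n80185 = n77448 := d15_1 D80185 (iv7 D77448) (iv2 F57365)
theorem F123145 : act 5 n77620 = n80185 := d21_6 D18185 F29353 (iv5 D17185) D17186 D35432 D77620 (iv1 D80185) (iv5 D36520) (iv6 D17626) (iv1 F13482)
theorem F123146 : act 2 n80185 = n77446 := d2_1 F123145 (iv5 F116249) (iv2 F116520)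
def n80186 : Q := act 4 n36520
theorem D80186 : act 4 n36520 = n80186 := rfl
theorem F123147 : act 2 n80186 = n77447 := d1_1 D80186 (iv4 D77447) (iv2 F57365)
def n80187 : Q := act 7 n36520
theorem D80187 : act 7 n36520 = n80187 := rfl
theorem F123148 : act 2 n80187 = n77448 := d4_1 D80187 (iv7 D77448) (iv2 F57365)
theorem F123149 : act 5 n80187 = n36521 := d13_1 D80187 (iv7 D36521) D36520
theorem F123150 : act 1 n77448 = n80184 := d15_0 (iv0 D80184) D80187 F123148
theorem F123151 : act 1 n77446 = n80187 := d15_1 D77446 (iv7 D80187) F57365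
theorem F123152 : act 7 n80184 = n77446 := d15_2 F123144 F123150 (iv2 F123146)
theorem F123153 : act 2 n80184 = n77445 := d15_3 (iv0 D77445) D77446 (iv7 F123152)
theorem F123154 : act 7 n77445 = n80185 := d4_2 (iv7 F123152) F123153 F123146
theorem F123155 : act 1 n80187 = n77445 := d15_1 F123151 F123154 F123146
def n80188 : Q := act 3 n36524
theorem D80188 : act 3 n36524 = n80188 := rfl
theorem F123156 : act 4 n80188 = n79142 := d5_2 D36524 D80188 (iv3 D79142) (iv4 D36023) F91230
theorem F123157 : act 7 n80188 = n77449 := d8_2 (iv7 F91378) D80188 (iv3 D77449)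
def n80189 : Q := act 5 n36524
theorem D80189 : act 5 n36524 = n80189 := rfl
theorem F123158 : act 2 n80189 = n77326 := d2_1 D80189 (iv5 D77326) (iv2 F91390)
theorem F123159 : act 7 n80189 = n77450 := d13_2 (iv7 F91378) D80189 (iv5 D77450)
def n80190 : Q := act 6 n36524
theorem D80190 : act 6 n36524 = n80190 := rfl
theorem F123160 : act 2 n80190 = n77327 := d3_1 D80190 (iv6 D77327) (iv2 F91390)
theorem F123161 : act 4 n80190 = n36526 := d10_1 D80190 (iv6 D36526) D36524
def n80191 : Q := act 4 n36525
theorem D80191 : act 4 n36525 = n80191 := rfl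
theorem F123162 : act 2 n80191 = n77329 := d1_1 D80191 (iv4 D77329) F91380
theorem F123163 : act 7 n80191 = n77380 := d11_2 (iv7 F91379) D80191 F116186
theorem F123164 : act 1 n56451 = n77380 := d15_1 (iv0 F118501) (iv7 F123163) F123162
def n80192 : Q := act 5 n36529
theorem D80192 : act 5 n36529 = n80192 := rfl
theorem F123165 : act 2 n80192 = n77450 := d2_1 D80192 (iv5 D77450) (iv2 F91389)
theorem F123166 : act 7 n80192 = n77326 := d13_2 (iv7 F91222) D80192 (iv5 D77326)
def n80193 : Q := act 6 n36529
theorem D80193 : act 6 n36529 = n80193 := rfl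
theorem F123167 : act 2 n80193 = n77451 := d3_1 D80193 (iv6 D77451) (iv2 F91389)
theorem F123168 : act 4 n80193 = n36531 := d10_1 D80193 (iv6 D36531) D36529
theorem F123169 : act 1 n77761 = n80193 := d17_8 F91384 (iv5 D35534) (iv1 F56097) F56094 (iv4 F56080) (iv5 F116312) F116315 D77761 F123168
theorem F123170 : act 0 n77766 = n80193 := d20_7 (iv4 F51971) (iv1 F57945) F57947 (iv3 F116831) (iv1 D45269) (iv3 F71319) F117136 F123168 F91225 F43462
def n80194 : Q := act 4 n36530
theorem D80194 : act 4 n36530 = n80194 := rfl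
theorem F123172 : act 6 n80194 = n36551 := d10_2 (iv6 F57375) D80194 (iv4 D36551)
theorem F123173 : act 7 n80194 = n77329 := d11_2 (iv7 F91224) D80194 (iv4 D77329)
def n80195 : Q := act 1 n36532
theorem D80195 : act 1 n36532 = n80195 := rfl
theorem F123174 : act 1 n80195 = n36538 := d15_1 D80195 (iv7 D36538) (iv2 F57376)
theorem F123175 : act 7 n80195 = n36535 := d15_2 (iv0 F115324) D80195 F115869
theorem F123176 : act 3 n36817 = n80195 := d20_3 (iv4 F58259) (iv1 F71181) F117063 (iv1 D80195) F57377 F34427 (iv1 F117327) (iv4 D37548) (iv3 F117325) (iv1 F33943)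
theorem F123177 : act 2 n80195 = n36536 := d0_1 F123176 (iv3 F115875) (iv2 F115876) D35226 (iv2 F117059)
theorem F123178 : act 4 n80195 = n76812 := d20_6 (iv4 F113033) (iv1 F72486) (iv4 F63799) F63798 (iv1 F61535) F123176 (iv1 D76812) F55802 F27969 D34453
def n80196 : Q := act 5 n36532
theorem D80196 : act 5 n36532 = n80196 := rfl
theorem F123179 : act 2 n80196 = n36537 := d2_1 D80196 (iv5 D36537) (iv2 F57376)
theorem F123180 : act 3 n80196 = n45851 := d6_1 D80196 (iv5 D45851) (iv3 F57377)
theorem F123181 : act 6 n80196 = n55340 := d12_2 D36532 D80196 (iv5 D55340) (iv6 D26743) (iv5 F28685)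
theorem E13271 : n78206 = n77835 := (c21_10 (iv5 D35520) (iv1 F121119) D55343 F87586 (iv1 F87584) (iv6 F123181) (iv5 D80196) F115324 D77142 (iv6 F121469) (iv1 D77835))
theorem F123182 : act 3 n77835 = n35652 := (sb E13271 (iv3 D78206))
theorem F123183 : act 5 n77835 = n77420 := (sb E13271 (iv5 F121471))
theorem F123184 : act 6 n77835 = n77142 := (sb E13271 F121469)
def n80197 : Q := act 7 n36532
theorem D80197 : act 7 n36532 = n80197 := rfl
theorem F123185 : act 2 n80197 = n36538 := d4_1 D80197 (iv7 D36538) (iv2 F57376)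
theorem F123186 : act 3 n80197 = n45852 := d8_1 D80197 (iv7 D45852) (iv3 F57377)
theorem F123187 : act 4 n80197 = n56978 := d11_1 D80197 (iv7 D56978) (iv4 F57378)
theorem F123188 : act 6 n80197 = n56940 := d14_1 D80197 (iv7 D56940) (iv6 D27325) (iv7 F28686) D36532
theorem F123189 : act 1 n36536 = n80197 := d15_1 D36536 (iv7 D80197) F57376
theorem F123190 : act 1 n80197 = n36535 := d15_1 F123189 (iv7 F123175) F123177
def n80198 : Q := act 0 n36533
theorem D80198 : act 0 n36533 = n80198 := rfl
theorem F123191 : act 3 n80198 = n75318 := d20_5 (iv4 D13112) (iv1 F21819) D17631 D36533 D80198 (iv4 D75318) (iv1 D34483) (iv4 F42980) (iv3 D26752) (iv1 F21880)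
theorem F123192 : act 1 n38497 = n80198 := d15_0 (iv0 D80198) F57380 (iv2 F59346)
def n80199 : Q := act 1 n36533
theorem D80199 : act 1 n36533 = n80199 := rfl
def n80200 : Q := act 2 n36533
theorem D80200 : act 2 n36533 = n80200 := rfl
theorem F123193 : act 3 n80200 = n46427 := d0_2 D36533 D80200 F73271 (iv3 D27336) (iv2 F28690)
theorem F123194 : act 4 n80200 = n36541 := d1_2 (iv4 F57379) D80200 (iv2 D36541)
theorem F123195 : act 5 n80200 = n76643 := d2_2 F90556 D80200 F114965
theorem F123196 : act 7 n80200 = n38497 := d4_2 (iv7 F57380) D80200 F59346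
theorem F123197 : act 1 n80200 = n56963 := d15_0 (iv0 D56963) (iv7 F57380) D80200
theorem F123198 : act 1 n80199 = n38497 := d15_1 D80199 (iv7 F123196) (iv2 D80200)
theorem F123199 : act 1 n56964 = n80200 := d15_1 D56964 F123196 F59346
theorem F123200 : act 5 n56964 = n46995 := d19_1 (iv1 F123199) (iv4 D46995) F35138 F33415 (iv5 D10326) (iv4 D4680) (iv3 F7294) (iv1 F12164) F7142 F6544 (iv3 F6529) F6527 D9834 (iv4 F17803) (iv3 F31827) F31831 D22237 D46427 (iv3 F123193)
theorem F123201 : act 0 n46995 = n56989 := d17_2 (iv1 F123199) F123200 F90069 F44371 F54809 F54807 (iv5 F56066) F57397 (iv4 F123194)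
theorem F123202 : act 0 n54104 = n79080 := d19_16 (iv1 D38181) F57398 (iv4 F123194) F123193 (iv1 F73275) (iv5 F106195) (iv4 D69789) (iv3 F55749) F55751 F41816 (iv4 F23544) F23543 (iv1 F11515) D12414 D26177 D54104 (iv5 D79080) D79079 F120305
def n80201 : Q := act 6 n36533
theorem D80201 : act 6 n36533 = n80201 := rfl
theorem F123203 : act 3 n80201 = n36534 := d7_1 D80201 (iv6 D36534) D36533
theorem F123204 : act 4 n80201 = n36543 := d10_1 D80201 (iv6 D36543) (iv4 F57379)
def n80202 : Q := act 5 n36534
theorem D80202 : act 5 n36534 = n80202 := rfl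
theorem F123205 : act 2 n80202 = n56977 := d2_1 D80202 (iv5 D56977) (iv2 F57381)
def n80203 : Q := act 5 n36535
theorem D80203 : act 5 n36535 = n80203 := rfl
theorem F123206 : act 2 n80203 = n77142 := d2_1 D80203 (iv5 D77142) (iv2 F115869)
def n80204 : Q := act 6 n36535
theorem D80204 : act 6 n36535 = n80204 := rfl
theorem F123207 : act 2 n80204 = n77143 := d3_1 D80204 (iv6 D77143) (iv2 F115869)
theorem F123208 : act 3 n80204 = n79107 := d7_1 D80204 F120373 F115333
theorem F123209 : act 4 n80204 = n76835 := d10_1 D80204 (iv6 D76835) (iv4 F115332)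
theorem F123210 : act 5 n80204 = n56939 := d21_6 (iv5 D17045) (iv1 F12848) (iv5 F13428) D17632 D36535 D80204 (iv1 D56939) (iv5 F56132) (iv6 D35422) (iv1 F28142)
theorem F123211 : act 7 n77418 = n80204 := d13_0 F123210 (iv7 F115899) D77418
def n80205 : Q := act 5 n36536
theorem D80205 : act 5 n36536 = n80205 := rfl
theorem F123212 : act 3 n80205 = n77059 := d6_1 D80205 (iv5 D77059) F115875
theorem F123213 : act 7 n80205 = n77142 := d13_2 (iv7 F115873) D80205 (iv5 D77142)
def n80206 : Q := act 6 n36536
theorem D80206 : act 6 n36536 = n80206 := rfl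
theorem F123214 : act 3 n80206 = n36735 := d7_1 D80206 F121404 F115875
theorem F123215 : act 4 n80206 = n76840 := d10_1 D80206 (iv6 D76840) (iv4 F115874)
def n80207 : Q := act 0 n36537
theorem D80207 : act 0 n36537 = n80207 := rfl
def n80208 : Q := act 1 n36537
theorem D80208 : act 1 n36537 = n80208 := rfl
def n80209 : Q := act 4 n36537
theorem D80209 : act 4 n36537 = n80209 := rfl
theorem F123216 : act 6 n80209 = n55346 := d10_2 (iv6 F57384) D80209 F87594
def n80210 : Q := act 7 n36537
theorem D80210 : act 7 n36537 = n80210 := rfl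
theorem F123217 : act 3 n80210 = n36561 := d8_1 D80210 (iv7 D36561) (iv3 F57383)
theorem F123218 : act 5 n80210 = n36538 := d13_1 D80210 (iv7 D36538) D36537
def n80211 : Q := act 3 n36539
theorem D80211 : act 3 n36539 = n80211 := rfl
theorem F123220 : act 2 n80211 = n79008 := d0_1 D80211 (iv3 D79008) (iv2 F56656) F56067 F57391
theorem F123221 : act 5 n80211 = n75525 := d6_2 F64255 D80211 (iv3 D75525)
def n80212 : Q := act 6 n36539
theorem D80212 : act 6 n36539 = n80212 := rfl
theorem F123223 : act 2 n80212 = n77433 := d3_1 D80212 (iv6 D77433) F57391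
def n80213 : Q := act 6 n36540
theorem D80213 : act 6 n36540 = n80213 := rfl
theorem F123224 : act 2 n80213 = n77432 := d3_1 D80213 (iv6 D77432) (iv2 F57392)
theorem F123225 : act 3 n80213 = n79010 := d7_1 D80213 (iv6 D79010) F57388
def n80214 : Q := act 6 n36541
theorem D80214 : act 6 n36541 = n80214 := rfl
theorem F123226 : act 2 n80214 = n36543 := d3_1 D80214 (iv6 D36543) D36541
theorem F123227 : act 3 n80214 = n38183 := d7_1 D80214 (iv6 D38183) (iv3 F57394)
def n80215 : Q := act 6 n36542
theorem D80215 : act 6 n36542 = n80215 := rfl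
theorem F123228 : act 2 n80215 = n38182 := d3_1 D80215 (iv6 D38182) (iv2 F57400)
theorem F123229 : act 3 n80215 = n36544 := d7_1 D80215 (iv6 D36544) (iv3 F57401)
def n80216 : Q := act 0 n36543
theorem D80216 : act 0 n36543 = n80216 := rfl
def n80217 : Q := act 1 n36543
theorem D80217 : act 1 n36543 = n80217 := rfl
def n80218 : Q := act 5 n36543
theorem D80218 : act 5 n36543 = n80218 := rfl
theorem F123230 : act 3 n80218 = n36547 := d6_1 D80218 (iv5 D36547) (iv3 F57405)
def n80219 : Q := act 7 n36543
theorem D80219 : act 7 n36543 = n80219 := rfl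
theorem F123231 : act 3 n80219 = n36548 := d8_1 D80219 (iv7 D36548) (iv3 F57405)
theorem F123232 : act 6 n80219 = n77437 := d14_1 D80219 (iv7 D77437) (iv6 D35355) (iv7 F28695) D36543
def n80220 : Q := act 0 n36544
theorem D80220 : act 0 n36544 = n80220 := rfl
def n80221 : Q := act 1 n36544
theorem D80221 : act 1 n36544 = n80221 := rfl
theorem F123233 : act 1 n80221 = n38526 := d15_1 D80221 (iv7 D38526) (iv2 F57406)
def n80222 : Q := act 5 n36544
theorem D80222 : act 5 n36544 = n80222 := rfl
theorem F123234 : act 2 n80222 = n38525 := d2_1 D80222 (iv5 D38525) (iv2 F57406)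
theorem F123235 : act 6 n80222 = n36547 := d12_2 D36544 D80222 (iv5 D36547) (iv6 D17635) D17634
def n80223 : Q := act 7 n36544
theorem D80223 : act 7 n36544 = n80223 := rfl
theorem F123236 : act 2 n80223 = n38526 := d4_1 D80223 (iv7 D38526) (iv2 F57406)
theorem F123237 : act 4 n80223 = n79416 := d11_1 D80223 (iv7 D79416) (iv4 F57407)
theorem F123238 : act 6 n80223 = n77441 := d14_1 D80223 (iv7 D77441) (iv6 D35356) (iv7 F28698) D36544
theorem F123239 : act 1 n38526 = n80220 := d15_0 (iv0 D80220) D80223 F123236
theorem F123240 : act 1 n38524 = n80223 := d15_1 D38524 (iv7 D80223) F57406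
theorem F123241 : act 1 n80223 = n38523 := d15_0 (iv0 D38523) D38526 (iv2 F123236)
def n80224 : Q := act 3 n36545
theorem D80224 : act 3 n36545 = n80224 := rfl
theorem F123242 : act 4 n80224 = n77124 := d5_2 F117074 D80224 (iv3 D77124) (iv4 F117567) F117566
theorem F123243 : act 7 n80224 = n77371 := d8_2 F113031 D80224 (iv3 D77371)
def n80225 : Q := act 5 n36545
theorem D80225 : act 5 n36545 = n80225 := rfl
theorem F123244 : act 2 n80225 = n77370 := d2_1 D80225 (iv5 D77370) F113029
theorem F123245 : act 7 n80225 = n77372 := d13_2 F113031 D80225 (iv5 D77372)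
def n80226 : Q := act 6 n36545
theorem D80226 : act 6 n36545 = n80226 := rfl
theorem F123247 : act 4 n80226 = n75741 := d10_1 D80226 (iv6 F117075) F117074
def n80227 : Q := act 3 n36546
theorem D80227 : act 3 n36546 = n80227 := rfl
theorem F123248 : act 4 n80227 = n75785 := d5_2 (iv4 F91499) D80227 (iv3 D75785) (iv4 D34658) D34657
theorem F123249 : act 7 n80227 = n77369 := d8_2 (iv7 F113028) D80227 (iv3 D77369)
def n80228 : Q := act 5 n36546
theorem D80228 : act 5 n36546 = n80228 := rfl
theorem F123250 : act 2 n80228 = n77372 := d2_1 D80228 (iv5 D77372) (iv2 F113030)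
theorem F123251 : act 7 n80228 = n77370 := d13_2 (iv7 F113028) D80228 (iv5 D77370)
theorem F123252 : act 1 n77372 = n77851 := d15_0 F117656 (iv7 F123251) F123250
def n80229 : Q := act 6 n36546
theorem D80229 : act 6 n36546 = n80229 := rfl
theorem F123253 : act 2 n80229 = n77373 := d3_1 D80229 (iv6 D77373) (iv2 F113030)
theorem F123254 : act 4 n80229 = n75784 := d10_1 D80229 (iv6 D75784) (iv4 F91499)
theorem F123255 : act 0 n36618 = n80229 := d20_1 (iv4 F57475) F123254 F113652 F113020 F117787 (iv4 F53147) (iv1 F53150) F52545 (iv3 F91252) (iv1 D36626)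
def n80230 : Q := act 0 n36547
theorem D80230 : act 0 n36547 = n80230 := rfl
def n80231 : Q := act 1 n36547
theorem D80231 : act 1 n36547 = n80231 := rfl
theorem F123256 : act 1 n80231 = n77377 := d15_1 D80231 (iv7 D77377) (iv2 F57409)
theorem F123257 : act 5 n77551 = n80231 := d21_6 (iv5 F34578) (iv1 D22100) F16732 D17176 D35404 D77551 (iv1 D80231) (iv5 D36547) (iv6 D17635) (iv1 F28662)
def n80233 : Q := act 7 n36547
theorem D80233 : act 7 n36547 = n80233 := rfl
theorem F123259 : act 2 n80233 = n77377 := d4_1 D80233 (iv7 D77377) (iv2 F57409)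
theorem F123260 : act 5 n80233 = n36548 := d13_1 D80233 (iv7 D36548) D36547
theorem F123261 : act 1 n77377 = n80230 := d15_0 (iv0 D80230) D80233 F123259
theorem F123262 : act 1 n77375 = n80233 := d15_1 D77375 (iv7 D80233) F57409
theorem F123263 : act 5 n80230 = n77849 := d17_7 D35527 F57427 (iv1 F57425) F56049 (iv4 F56044) (iv5 F116185) F123261 (iv0 D77849) F56202
theorem F123264 : act 1 n80233 = n77374 := d15_0 (iv0 D77374) D77377 (iv2 F123259)
def n80234 : Q := act 5 n36551
theorem D80234 : act 5 n36551 = n80234 := rfl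
theorem F123265 : act 2 n80234 = n77379 := d2_1 D80234 (iv5 D77379) F91301
theorem F123266 : act 7 n80234 = n77226 := d13_2 (iv7 F91236) D80234 (iv5 D77226)
def n80235 : Q := act 4 n36552
theorem D80235 : act 4 n36552 = n80235 := rfl
def n80236 : Q := act 3 n36555
theorem D80236 : act 3 n36555 = n80236 := rfl
theorem F123269 : act 4 n80236 = n79182 := d5_2 D36555 D80236 (iv3 D79182) (iv4 D36051) F91242
theorem F123270 : act 7 n80236 = n77378 := d8_2 F91300 D80236 (iv3 D77378)
def n80237 : Q := act 5 n36555
theorem D80237 : act 5 n36555 = n80237 := rfl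
theorem F123271 : act 2 n80237 = n77226 := d2_1 D80237 (iv5 D77226) F91303
theorem F123272 : act 7 n80237 = n77379 := d13_2 F91300 D80237 (iv5 D77379)
theorem F123273 : act 1 n77226 = n77756 := d15_0 (iv0 F117131) (iv7 F123272) F123271
theorem E13272 : n77755 = n77577 := (c17_9 F91356 D35529 (iv1 F91285) (iv5 D35256) D35255 D77226 F123273 (iv5 D77756) D77755 F116474)
theorem F123274 : act 0 n77577 = n35483 := (sb E13272 (iv1 D77755))
def n80238 : Q := act 6 n36555
theorem D80238 : act 6 n36555 = n80238 := rfl
theorem F123275 : act 2 n80238 = n77227 := d3_1 D80238 (iv6 D77227) F91303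
theorem F123276 : act 4 n80238 = n36557 := d10_1 D80238 (iv6 D36557) D36555
def n80241 : Q := act 4 n36558
theorem D80241 : act 4 n36558 = n80241 := rfl
theorem F123281 : act 2 n80241 = n77384 := d1_1 D80241 (iv4 D77384) (iv2 F116455)
theorem F123282 : act 7 n80241 = n77389 := d11_2 (iv7 F116456) D80241 (iv4 D77389)
def n80242 : Q := act 6 n36558
theorem D80242 : act 6 n36558 = n80242 := rfl
theorem F123285 : act 2 n80242 = n77386 := d3_1 D80242 (iv6 D77386) (iv2 F116455)
theorem F123286 : act 0 n80242 = n77509 := d21_4 (iv5 D35529) D35527 F57427 D80242 (iv6 D77509) (iv5 F56090) (iv1 F91320) (iv5 F56192) (iv6 F56193) F56204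
theorem F123287 : act 5 n80242 = n56514 := d21_6 (iv5 D12950) (iv1 F13433) D12947 (iv6 F28703) D36558 D80242 (iv1 D56514) F43947 (iv6 D17226) (iv1 F21528)
theorem F123288 : act 6 n56475 = n56514 := d12_4 (iv6 D80242) (iv5 F57427) F88780 F91321 (iv5 F123287)
theorem F123290 : act 2 n56514 = n56521 := d2_1 F123287 (iv5 F116190) (iv2 F123285)
theorem F123291 : act 7 n56520 = n56514 := d15_2 F89382 F89386 F123290
theorem F123292 : act 7 n56513 = n56521 := d15_2 F89387 F89388 (iv2 F123290)
theorem F123293 : act 2 n56520 = n56513 := d4_3 F123292 (iv2 F123290) (iv7 F123291)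
theorem F123294 : act 7 n80242 = n77883 := d13_2 F123291 (iv5 F123287) F119098
def n80244 : Q := act 4 n36559
theorem D80244 : act 4 n36559 = n80244 := rfl
theorem F123298 : act 7 n80244 = n77384 := d11_2 (iv7 F116460) D80244 (iv4 D77384)
theorem F123299 : act 0 n80244 = n77519 := d18_2 (iv1 F57418) D80244 F116409 (iv5 D36033) (iv4 F28722) (iv0 F117078) (iv4 D36555) F28701 (iv5 F56049)
theorem F123300 : act 1 n80244 = n77992 := d15_1 (iv0 F123299) (iv7 D77992) (iv2 F116408)
theorem F123301 : act 1 n80241 = n77519 := d15_0 (iv0 F123299) F123298 (iv2 F123281)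
def n80245 : Q := act 6 n36559
theorem D80245 : act 6 n36559 = n80245 := rfl
theorem F123302 : act 2 n80245 = n77390 := d3_1 D80245 (iv6 D77390) (iv2 F116459)
theorem F123303 : act 5 n80245 = n77580 := d12_1 D80245 (iv6 D77580) (iv5 D35411) D35412 F57419
theorem F123304 : act 0 n78038 = n80245 := d21_1 (iv5 F119228) F123303 (iv6 D77580) F57498 F57497 (iv5 D35382) (iv1 F28116) (iv5 F28165) D35546 (iv1 F116209)
def n80246 : Q := act 0 n36560
theorem D80246 : act 0 n36560 = n80246 := rfl
def n80250 : Q := act 7 n36560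
theorem D80250 : act 7 n36560 = n80250 := rfl
theorem F123309 : act 2 n80250 = n77395 := d4_1 D80250 (iv7 D77395) (iv2 F57420)
theorem F123310 : act 4 n80250 = n36561 := d11_1 D80250 (iv7 D36561) D36560
theorem F123312 : act 1 n77395 = n80246 := d15_0 (iv0 D80246) D80250 F123309
theorem F123313 : act 1 n77392 = n80250 := d15_1 D77392 (iv7 D80250) F57420
theorem F123314 : act 4 n80246 = n79582 := d18_7 D37967 F117074 (iv1 F57413) F56044 (iv5 F56049) (iv4 F116194) F123312 (iv0 D79582) F56963
theorem F123315 : act 1 n80250 = n77391 := d15_0 (iv0 D77391) D77395 (iv2 F123309)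
theorem F123316 : act 4 n77391 = n79152 := d18_7 D36031 F117067 (iv1 F57415) F57411 (iv5 F57423) (iv4 F123310) F123315 (iv0 D79152) (iv5 D36033)
def n80251 : Q := act 4 n36562
theorem D80251 : act 4 n36562 = n80251 := rfl
theorem F123317 : act 3 n80251 = n46721 := d5_1 D80251 (iv4 D46721) (iv3 D22402) (iv4 F29330) (iv3 F57431)
theorem F123318 : act 5 n80251 = n79279 := d16_7 F121665 F115021 (iv4 F115019) F59957 F33962 (iv5 F57430) D80251 (iv7 F121675) (iv2 F121676)
theorem F123319 : act 0 n80251 = n79291 := d19_4 (iv1 F34484) (iv5 F34957) D46721 (iv3 F123317) F121687 F57736 (iv3 D26767) (iv1 F42992) (iv5 F44388) F44389 (iv3 F90052) (iv1 F92153) (iv5 D58289) (iv4 F92140) (iv3 D58283) F44836 (iv5 F58829) (iv4 F61390) F61389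
def n80252 : Q := act 6 n36562
theorem D80252 : act 6 n36562 = n80252 := rfl
theorem F123320 : act 3 n80252 = n37884 := d7_1 D80252 (iv6 D37884) (iv3 F57431)
def n80253 : Q := act 3 n36563
theorem D80253 : act 3 n36563 = n80253 := rfl
theorem F123321 : act 2 n80253 = n37875 := d0_1 D80253 F58741 F29497 D38297 F60276
theorem F123322 : act 5 n80253 = n37874 := d6_2 F72449 D80253 (iv3 F72447)
def n80254 : Q := act 4 n36563
theorem D80254 : act 4 n36563 = n80254 := rfl
theorem F123323 : act 5 n80254 = n79278 := d16_1 D80254 F121665 F115021 (iv4 F115019) F59957 F33962 (iv5 F57430) (iv7 F59163) F60276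
theorem F123324 : act 1 n79125 = n77629 := d17_8 F86806 (iv5 D54863) (iv1 F72451) F72449 D80254 F123323 (iv0 D79278) (iv5 F120408) (iv4 D77629)
def n80255 : Q := act 6 n36563
theorem D80255 : act 6 n36563 = n80255 := rfl
def n80256 : Q := act 4 n36564
theorem D80256 : act 4 n36564 = n80256 := rfl
theorem F123326 : act 2 n80256 = n36565 := d1_1 D80256 (iv4 D36565) D36564
theorem F123327 : act 0 n80256 = n71555 := d17_0 F108071 D73416 F110116 F60962 (iv5 F72445) F72446 F89301 F89298 D80256
theorem F123328 : act 0 n48969 = n80256 := d20_7 (iv4 F107435) (iv1 D70900) F52023 (iv3 F29543) D35960 D79008 F120190 (iv4 D80256) F57432 (iv1 F57446)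
def n80257 : Q := act 6 n36564
theorem D80257 : act 6 n36564 = n80257 := rfl
theorem F123329 : act 2 n80257 = n36567 := d3_1 D80257 (iv6 D36567) D36564
theorem F123330 : act 3 n80257 = n54937 := d7_1 D80257 (iv6 D54937) (iv3 F57432)
def n80258 : Q := act 1 n36565
theorem D80258 : act 1 n36565 = n80258 := rfl
theorem F123331 : act 7 n80258 = n71555 := d15_2 (iv0 F106238) D80258 F108070
theorem F123332 : act 4 n80211 = n80258 := d20_6 (iv4 D13010) (iv1 F9640) D8308 D17633 D36539 D80211 (iv1 D80258) (iv4 D36565) (iv3 D17640) (iv1 F21646)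
theorem F123333 : act 2 n80258 = n48969 := d1_1 F123332 (iv4 F120190) (iv2 F123220)
theorem F123334 : act 5 n80258 = n55105 := d16_7 (iv4 D57471) (iv5 F110125) F120319 D76724 F115102 (iv5 F123221) F123332 F87170 (iv2 F90645)
theorem F123335 : act 3 n54686 = n80258 := d6_3 F123334 (iv3 D55105) (iv5 F86502)
def n80259 : Q := act 5 n36565
theorem D80259 : act 5 n36565 = n80259 := rfl
theorem F123336 : act 3 n80259 = n40067 := d6_1 D80259 F60968 (iv3 F57434)
theorem F123337 : act 7 n80259 = n71539 := d13_2 F60858 D80259 F108054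
theorem F123338 : act 4 n80259 = n76677 := d16_2 D36565 D80259 (iv5 D76677) F55666 D35071 (iv4 F55689) D39292 F60273 (iv2 D36564)
theorem F123339 : act 1 n80259 = n54683 := d17_6 (iv1 F88729) (iv5 F88732) (iv1 F59150) (iv5 D36566) D36565 D80259 (iv5 F110131) F116533 (iv4 D77634)
theorem F123340 : act 1 n57104 = n80259 := d15_0 F123339 F86498 (iv2 F90153)
def n80260 : Q := act 6 n36565
theorem D80260 : act 6 n36565 = n80260 := rfl
theorem F123341 : act 3 n80260 = n40564 := d7_1 D80260 (iv6 D40564) (iv3 F57434)
theorem F123342 : act 4 n80260 = n36567 := d10_1 D80260 (iv6 D36567) D36565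
def n80261 : Q := act 6 n36566
theorem D80261 : act 6 n36566 = n80261 := rfl
theorem F123343 : act 2 n80261 = n54936 := d3_1 D80261 (iv6 D54936) (iv2 F57435)
theorem F123344 : act 3 n80261 = n36568 := d7_1 D80261 (iv6 D36568) (iv3 F57436)
theorem F123345 : act 4 n80261 = n73723 := d10_1 D80261 F110433 F57439
def n80262 : Q := act 0 n36567
theorem D80262 : act 0 n36567 = n80262 := rfl
theorem F123346 : act 3 n80262 = n46882 := d20_5 (iv4 D34640) F116629 (iv4 F28714) (iv3 F57440) D80262 (iv4 D46882) (iv1 F73371) (iv4 F123110) F123109 (iv1 F91400)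
def n80263 : Q := act 1 n36567
theorem D80263 : act 1 n36567 = n80263 := rfl
def n80264 : Q := act 5 n36567
theorem D80264 : act 5 n36567 = n80264 := rfl
theorem F123347 : act 3 n80264 = n36571 := d6_1 D80264 (iv5 D36571) (iv3 F57440)
def n80265 : Q := act 7 n36567
theorem D80265 : act 7 n36567 = n80265 := rfl
theorem F123348 : act 3 n80265 = n36572 := d8_1 D80265 (iv7 D36572) (iv3 F57440)
def n80266 : Q := act 0 n36568
theorem D80266 : act 0 n36568 = n80266 := rfl
def n80267 : Q := act 1 n36568
theorem D80267 : act 1 n36568 = n80267 := rfl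
theorem F123349 : act 1 n80267 = n77695 := d15_1 D80267 (iv7 D77695) (iv2 F57441)
theorem F123350 : act 4 n80267 = n79418 := d20_0 (iv1 D79418) (iv4 F57363) F57362 (iv1 F118801) (iv3 F86900) (iv4 D54942) (iv1 F42565) (iv4 F60269) (iv3 F116574) (iv1 F123349)
def n80268 : Q := act 5 n36568
theorem D80268 : act 5 n36568 = n80268 := rfl
theorem F123351 : act 2 n80268 = n77694 := d2_1 D80268 (iv5 D77694) (iv2 F57441)
theorem F123352 : act 6 n80268 = n36571 := d12_2 D36568 D80268 (iv5 D36571) (iv6 D17642) D17641
def n80269 : Q := act 7 n36568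
theorem D80269 : act 7 n36568 = n80269 := rfl
theorem F123353 : act 2 n80269 = n77695 := d4_1 D80269 (iv7 D77695) (iv2 F57441)
theorem F123354 : act 4 n80269 = n79171 := d11_1 D80269 (iv7 D79171) (iv4 F57442)
theorem F123355 : act 6 n80269 = n77691 := d14_1 D80269 (iv7 D77691) (iv6 D35466) (iv7 F28710) D36568
theorem F123356 : act 1 n77695 = n80266 := d15_0 (iv0 D80266) D80269 F123353
theorem F123358 : act 1 n80269 = n77692 := d15_0 (iv0 D77692) D77695 (iv2 F123353)
def n80270 : Q := act 0 n36571
theorem D80270 : act 0 n36571 = n80270 := rfl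
def n80271 : Q := act 1 n36571
theorem D80271 : act 1 n36571 = n80271 := rfl
theorem F123359 : act 5 n40264 = n80271 := d21_6 (iv5 F43860) F43862 (iv5 D17194) D17195 (iv1 F116662) D40264 (iv1 D80271) (iv5 D36571) (iv6 D17642) (iv1 F21646)
def n80272 : Q := act 4 n36571
theorem D80272 : act 4 n36571 = n80272 := rfl
def n80273 : Q := act 7 n36571
theorem D80273 : act 7 n36571 = n80273 := rfl
theorem F123360 : act 5 n80273 = n36572 := d13_1 D80273 (iv7 D36572) D36571
def n80274 : Q := act 3 n36573
theorem D80274 : act 3 n36573 = n80274 := rfl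
theorem F123361 : act 5 n80274 = n70633 := d6_2 (iv5 F57444) D80274 (iv3 D70633)
theorem F123362 : act 4 n80274 = n56964 := d20_6 F28093 F13412 F13120 D17643 D36573 D80274 (iv1 D56964) F44236 (iv3 D17156) (iv1 F28092)
def n80275 : Q := act 6 n36573
theorem D80275 : act 6 n36573 = n80275 := rfl
def n80276 : Q := act 6 n36574
theorem D80276 : act 6 n36574 = n80276 := rfl
def n80277 : Q := act 0 n36575
theorem D80277 : act 0 n36575 = n80277 := rfl
def n80278 : Q := act 1 n36575
theorem D80278 : act 1 n36575 = n80278 := rfl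
def n80279 : Q := act 5 n36575
theorem D80279 : act 5 n36575 = n80279 := rfl
theorem F123363 : act 3 n80279 = n36579 := d6_1 D80279 (iv5 D36579) (iv3 F57447)
theorem F123364 : act 6 n80279 = n54920 := d12_2 D36575 D80279 (iv5 D54920) (iv6 D26564) (iv5 F28721)
def n80280 : Q := act 7 n36575
theorem D80280 : act 7 n36575 = n80280 := rfl
theorem F123365 : act 3 n80280 = n36580 := d8_1 D80280 (iv7 D36580) (iv3 F57447)
def n80281 : Q := act 0 n36576
theorem D80281 : act 0 n36576 = n80281 := rfl
def n80282 : Q := act 1 n36576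
theorem D80282 : act 1 n36576 = n80282 := rfl
def n80283 : Q := act 5 n36576
theorem D80283 : act 5 n36576 = n80283 := rfl
theorem F123367 : act 2 n80283 = n77690 := d2_1 D80283 (iv5 D77690) (iv2 F57448)
theorem F123368 : act 3 n80283 = n54920 := d6_1 D80283 (iv5 D54920) (iv3 F57449)
theorem F123369 : act 6 n80283 = n36579 := d12_2 D36576 D80283 (iv5 D36579) (iv6 D17645) D17644
def n80284 : Q := act 7 n36576
theorem D80284 : act 7 n36576 = n80284 := rfl
theorem F123370 : act 2 n80284 = n77691 := d4_1 D80284 (iv7 D77691) (iv2 F57448)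
theorem F123371 : act 3 n80284 = n54921 := d8_1 D80284 (iv7 D54921) (iv3 F57449)
theorem F123372 : act 4 n80284 = n79131 := d11_1 D80284 (iv7 D79131) (iv4 F57450)
theorem F123373 : act 6 n80284 = n77695 := d14_1 D80284 (iv7 D77695) (iv6 D35467) (iv7 F28717) D36576
theorem F123374 : act 1 n77691 = n80281 := d15_0 (iv0 D80281) D80284 F123370
theorem F123375 : act 1 n77689 = n80284 := d15_1 D77689 (iv7 D80284) F57448
theorem F123376 : act 1 n80284 = n77688 := d15_0 (iv0 D77688) D77691 (iv2 F123370)
def n80285 : Q := act 0 n36579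
theorem D80285 : act 0 n36579 = n80285 := rfl
theorem F123377 : act 5 n80285 = n77858 := d17_3 F117078 D36579 D80285 (iv4 D77858) F57427 (iv0 D36558) (iv5 D17638) D17637 D36555
def n80286 : Q := act 1 n36579
theorem D80286 : act 1 n36579 = n80286 := rfl
theorem F123378 : act 5 n77577 = n80286 := d21_6 D8313 (iv1 F28153) (iv5 D17191) D17192 (iv1 F122319) D77577 (iv1 D80286) (iv5 D36579) (iv6 D17645) (iv1 D8312)
def n80287 : Q := act 4 n36579
theorem D80287 : act 4 n36579 = n80287 := rfl
def n80288 : Q := act 7 n36579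
theorem D80288 : act 7 n36579 = n80288 := rfl
theorem F123379 : act 5 n80288 = n36580 := d13_1 D80288 (iv7 D36580) D36579
def n80289 : Q := act 1 n36581
theorem D80289 : act 1 n36581 = n80289 := rfl
def n80309 : Q := act 0 n36588
theorem D80309 : act 0 n36588 = n80309 := rfl
def n80310 : Q := act 1 n36588
theorem D80310 : act 1 n36588 = n80310 := rfl
def n80311 : Q := act 2 n36588
theorem D80311 : act 2 n36588 = n80311 := rfl
def n80312 : Q := act 4 n36588
theorem D80312 : act 4 n36588 = n80312 := rfl
theorem F123393 : act 3 n80312 = n40578 := d5_1 D80312 (iv4 D40578) (iv3 F121278) (iv4 F117863) D36588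
def n80313 : Q := act 5 n36588
theorem D80313 : act 5 n36588 = n80313 := rfl
theorem F123394 : act 3 n80313 = n36590 := d6_1 D80313 (iv5 D36590) D36588
def n80314 : Q := act 6 n36588
theorem D80314 : act 6 n36588 = n80314 := rfl
theorem F123395 : act 3 n80314 = n36591 := d7_1 D80314 (iv6 D36591) D36588
def n80315 : Q := act 0 n36590
theorem D80315 : act 0 n36590 = n80315 := rfl
theorem F123396 : act 5 n80315 = n77627 := d17_3 D17648 D36590 D80315 F116524 (iv5 F57479) (iv0 D36620) (iv5 D17655) (iv0 D8315) (iv4 F13121)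
theorem F123397 : act 1 n36595 = n80315 := d15_0 (iv0 D80315) (iv7 F123011) F123010
def n80316 : Q := act 1 n36590
theorem D80316 : act 1 n36590 = n80316 := rfl
theorem F123398 : act 1 n80316 = n36595 := d15_1 D80316 (iv7 F123004) F123003
theorem F123399 : act 5 n77741 = n80316 := d17_5 (iv1 F28659) D17660 (iv1 F57480) F91202 (iv4 F117120) F123398 (iv5 D36595) F57325 F57323
def n80317 : Q := act 4 n36590
theorem D80317 : act 4 n36590 = n80317 := rfl
def n80318 : Q := act 6 n36590
theorem D80318 : act 6 n36590 = n80318 := rfl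
def n80319 : Q := act 0 n36591
theorem D80319 : act 0 n36591 = n80319 := rfl
def n80320 : Q := act 1 n36591
theorem D80320 : act 1 n36591 = n80320 := rfl
theorem F123400 : act 6 n77329 = n80320 := d21_3 D35463 D77683 F117112 (iv1 D80320) (iv6 D36591) D36590 D80315 F123396 (iv6 D77627) F116663
theorem F123401 : act 4 n80320 = n36626 := d10_1 F123400 (iv6 F91256) D77329
theorem F123402 : act 7 n80320 = n77227 := d14_2 F123173 F123400 (iv6 D77227) (iv7 F91236) (iv6 F123172)
theorem E13274 : n80319 = n80238 := ((c15_4 (iv0 D80319) D80320 F123402 (iv2 F123275))).symm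
theorem F123403 : act 1 n80238 = n36591 := (sb E13274 (iv0 D80319))
def n80321 : Q := act 5 n36591
theorem D80321 : act 5 n36591 = n80321 := rfl
theorem F123404 : act 2 n80321 = n56089 := d2_1 D80321 (iv5 F123007) F123005
theorem F123405 : act 0 n80321 = n56015 := d17_2 (iv1 D80320) D80321 (iv5 D56015) F43666 D27027 (iv0 F57488) (iv5 D36627) D36626 (iv4 F123401)
theorem F123406 : act 0 n56091 = n80321 := d21_7 (iv5 F123018) (iv1 F123019) (iv5 F116299) (iv6 D77474) (iv1 F56081) (iv6 F43711) (iv5 F88757) (iv5 D80321) (iv6 D36591) (iv1 F57327)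
def n80322 : Q := act 7 n36591
theorem D80322 : act 7 n36591 = n80322 := rfl
def n80323 : Q := act 0 n36593
theorem D80323 : act 0 n36593 = n80323 := rfl
def n80324 : Q := act 1 n36593
theorem D80324 : act 1 n36593 = n80324 := rfl
def n80325 : Q := act 2 n36593
theorem D80325 : act 2 n36593 = n80325 := rfl
def n80326 : Q := act 4 n36593
theorem D80326 : act 4 n36593 = n80326 := rfl
theorem F123407 : act 3 n80326 = n37259 := d5_1 D80326 (iv4 D37259) F117856 (iv4 F117857) D36593
theorem F123408 : act 7 n80326 = n37375 := d11_2 F123002 D80326 (iv4 F123001)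
def n80328 : Q := act 6 n36593
theorem D80328 : act 6 n36593 = n80328 := rfl
theorem F123410 : act 3 n80328 = n36596 := d7_1 D80328 (iv6 D36596) D36593
def n80329 : Q := act 4 n36595
theorem D80329 : act 4 n36595 = n80329 := rfl
def n80331 : Q := act 0 n36596
theorem D80331 : act 0 n36596 = n80331 := rfl
theorem F123411 : act 4 n80331 = n36640 := d20_8 (iv4 F52086) (iv1 F52089) F27578 (iv3 F27575) D34735 (iv3 F117859) F117860 D80331 F91309 (iv1 F43903)
theorem F123412 : act 1 n75477 = n79111 := d18_8 (iv1 D79615) F56995 F119193 (iv4 D77980) (iv5 F57496) (iv4 F123411) (iv0 D80331) (iv4 F117860) F122307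
theorem F123413 : act 7 n77327 = n80331 := d11_0 F123411 F91310 (iv4 F116132)
def n80332 : Q := act 1 n36596
theorem D80332 : act 1 n36596 = n80332 := rfl
def n80333 : Q := act 5 n36596
theorem D80333 : act 5 n36596 = n80333 := rfl
theorem F123414 : act 0 n77576 = n80333 := d21_1 D77576 (iv5 D80333) (iv6 D36596) (iv1 D17649) (iv6 D8314) D8313 (iv1 F28153) (iv5 D17191) D17192 (iv1 F122319)
def n80334 : Q := act 7 n36596
theorem D80334 : act 7 n36596 = n80334 := rfl
def n80336 : Q := act 4 n36597
theorem D80336 : act 4 n36597 = n80336 := rfl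
theorem F123415 : act 5 n80336 = n80329 := d16_1 D80336 (iv4 D80329) (iv5 D36595) F117857 (iv5 F123049) F123048 F116299 (iv7 F123014) (iv2 F123013)
def n80338 : Q := act 3 n36598
theorem D80338 : act 3 n36598 = n80338 := rfl
def n80339 : Q := act 4 n36598
theorem D80339 : act 4 n36598 = n80339 := rfl
theorem F123416 : act 5 n80339 = n80317 := d9_2 F116299 D80339 (iv4 D80317) (iv5 D36590) F117863 (iv5 F123055) F123054 (iv5 F118681) D80336 F123415 (iv4 D80329) (iv5 D36595) F117857 (iv5 F123049) F123048
def n80347 : Q := act 5 n36609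
theorem D80347 : act 5 n36609 = n80347 := rfl
theorem F123424 : act 2 n80347 = n36611 := d2_1 D80347 (iv5 D36611) D36609
theorem F123425 : act 3 n80347 = n56952 := d6_1 D80347 (iv5 D56952) (iv3 F121445)
theorem F123426 : act 7 n80347 = n45868 := d13_2 (iv7 F118885) D80347 (iv5 D45868)
theorem F123427 : act 4 n80347 = n39719 := d18_5 (iv1 D13061) (iv4 F21785) D27259 (iv4 F91369) D80347 (iv0 D39719) F30037 D18796 (iv5 F117160)
theorem F123428 : act 5 n56734 = n39719 := d17_3 (iv1 D27260) D27261 D56734 (iv4 F123427) (iv5 D80347) F119025 F34361 (iv0 F119022) F57339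
theorem F123429 : act 7 n39719 = n57979 := d11_2 (iv7 F123426) F123427 (iv4 F119029)
theorem F123430 : act 1 n77792 = n80347 := d15_1 D77792 F123426 F119028
theorem F123431 : act 1 n80347 = n77791 := d15_0 (iv0 D77791) (iv7 F91366) (iv2 F123424)
def n80348 : Q := act 6 n36609
theorem D80348 : act 6 n36609 = n80348 := rfl
theorem F123432 : act 2 n80348 = n36612 := d3_1 D80348 (iv6 D36612) D36609
theorem F123433 : act 3 n80348 = n56953 := d7_1 D80348 (iv6 D56953) (iv3 F121445)
theorem F123434 : act 4 n80348 = n56729 := d10_1 D80348 (iv6 D56729) (iv4 F91369)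
def n80349 : Q := act 3 n36610
theorem D80349 : act 3 n36610 = n80349 := rfl
theorem F123435 : act 4 n80349 = n36616 := d5_2 D36610 D80349 (iv3 D36616) (iv4 D17654) D17653
theorem F123436 : act 7 n80349 = n56731 := d8_2 (iv7 F91365) D80349 (iv3 D56731)
def n80350 : Q := act 5 n36610
theorem D80350 : act 5 n36610 = n80350 := rfl
theorem F123437 : act 2 n80350 = n56728 := d2_1 D80350 (iv5 D56728) (iv2 F91364)
theorem F123438 : act 7 n80350 = n56732 := d13_2 (iv7 F91365) D80350 (iv5 D56732)
theorem F123439 : act 0 n80350 = n39721 := d17_2 F57470 D80350 (iv5 D39721) F30037 D18797 F60576 F117167 (iv0 D27242) (iv4 F44070)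
def n80351 : Q := act 6 n36610
theorem D80351 : act 6 n36610 = n80351 := rfl
theorem F123440 : act 2 n80351 = n56729 := d3_1 D80351 (iv6 D56729) (iv2 F91364)
theorem F123441 : act 4 n80351 = n36612 := d10_1 D80351 (iv6 D36612) D36610
theorem F123442 : act 5 n80351 = n39130 := d21_6 (iv5 F29199) (iv1 F29201) (iv5 F21756) D27241 F57470 D80351 (iv1 D39130) (iv5 D18574) (iv6 D8727) D8724
theorem F123443 : act 0 n80351 = n76170 := d20_7 (iv4 F53147) (iv1 F53150) F52545 (iv3 F91252) (iv1 D36626) (iv3 F57472) (iv4 F123441) F114137 F55000 F43165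
def n80352 : Q := act 0 n36611
theorem D80352 : act 0 n36611 = n80352 := rfl
theorem F123444 : act 5 n80352 = n40197 := d21_2 D36611 D80352 (iv6 D40197) F91155 (iv6 D17985) (iv5 D8476) F6852 D4759 D10468 F118884
theorem F123445 : act 1 n45868 = n80352 := d15_0 (iv0 D80352) F91366 (iv2 F119028)
theorem F123446 : act 3 n36770 = n80352 := d6_3 F123444 F61181 (iv5 F118815)
theorem F123447 : act 7 n80352 = n40197 := d8_2 (iv7 F118817) F123446 F61181
def n80353 : Q := act 1 n36611
theorem D80353 : act 1 n36611 = n80353 := rfl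
theorem F123448 : act 1 n80353 = n45868 := d15_1 D80353 (iv7 F123426) F123424
theorem F123449 : act 2 n40197 = n80353 := d15_3 F123448 F123445 F123447
theorem F123450 : act 3 n80353 = n45951 := d0_2 (iv3 F61181) F123449 (iv2 F72535) (iv3 F118810) F118809
theorem F123451 : act 6 n80353 = n40194 := d3_2 D40197 F123449 (iv2 D40194)
theorem F123452 : act 5 n77792 = n80353 := d21_2 D80347 (iv1 F123430) F123451 F91422 (iv6 D27030) F21534 F9629 D10441 D21886 (iv1 F119025)
theorem F123453 : act 2 n80352 = n77792 := d2_3 F123452 (iv2 F123449) (iv5 F123444)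
theorem F123454 : act 7 n77792 = n80353 := d4_2 (iv7 F123447) F123453 (iv2 F123449)
theorem E13275 : n77791 = n40197 := (c15_2 F123430 F123431 (iv7 F123447) F123453)
theorem F123455 : act 0 n40197 = n80347 := (sb E13275 (iv1 F123431))
theorem F123456 : act 1 n40197 = n35499 := (sb E13275 (iv0 D77791))
def n80354 : Q := act 4 n36611
theorem D80354 : act 4 n36611 = n80354 := rfl
theorem F123457 : act 2 n80354 = n39719 := d1_1 D80354 (iv4 F123427) F123424
theorem F123458 : act 7 n80354 = n39720 := d11_2 (iv7 F91366) D80354 (iv4 F91576)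
theorem F123460 : act 1 n80354 = n39695 := d18_6 (iv1 D27243) (iv4 F44070) F57470 (iv4 D36610) D36611 D80354 F60568 (iv0 F117170) F44606
def n80355 : Q := act 6 n36611
theorem D80355 : act 6 n36611 = n80355 := rfl
theorem F123461 : act 3 n80355 = n36623 := d7_1 D80355 (iv6 D36623) (iv3 F57471)
theorem F123462 : act 7 n80355 = n77499 := d14_2 (iv7 F91366) D80355 (iv6 D77499) F91349 D35499
def n80356 : Q := act 0 n36612
theorem D80356 : act 0 n36612 = n80356 := rfl
def n80357 : Q := act 1 n36612
theorem D80357 : act 1 n36612 = n80357 := rfl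
def n80358 : Q := act 5 n36612
theorem D80358 : act 5 n36612 = n80358 := rfl
theorem F123463 : act 3 n80358 = n36627 := d6_1 D80358 (iv5 D36627) (iv3 F57472)
theorem F123464 : act 0 n80358 = n40092 := d21_7 (iv5 D8476) F6852 D4759 D10468 F118884 D36612 D80358 (iv5 D40092) (iv6 D18947) F14295
theorem F123465 : act 7 n56134 = n80358 := d8_0 F123463 F91372 D56134
theorem F123466 : act 4 n80358 = n39186 := d20_6 (iv4 F43808) (iv1 F43816) F43814 (iv3 F43715) F57489 (iv3 F123463) (iv1 D39186) (iv4 D18588) F13633 D8742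
def n80359 : Q := act 7 n36612
theorem D80359 : act 7 n36612 = n80359 := rfl
theorem F123467 : act 3 n80359 = n36628 := d8_1 D80359 (iv7 D36628) (iv3 F57472)
theorem F123468 : act 5 n80359 = n56134 := d13_1 D80359 F123465 (iv5 D80358)
def n80360 : Q := act 3 n36614
theorem D80360 : act 3 n36614 = n80360 := rfl
theorem F123469 : act 4 n80360 = n75485 := d5_2 (iv4 F117804) D80360 F113293 F54797 (iv3 F54779)
theorem F123470 : act 7 n80360 = n75462 := d8_2 (iv7 F117806) D80360 F113278
def n80361 : Q := act 5 n36614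
theorem D80361 : act 5 n36614 = n80361 := rfl
def n80362 : Q := act 0 n36616
theorem D80362 : act 0 n36616 = n80362 := rfl
def n80365 : Q := act 5 n36616
theorem D80365 : act 5 n36616 = n80365 := rfl
theorem F123472 : act 3 n80365 = n36617 := d6_1 D80365 (iv5 D36617) D36616
def n80366 : Q := act 6 n36616
theorem D80366 : act 6 n36616 = n80366 := rfl
theorem F123473 : act 3 n80366 = n36618 := d7_1 D80366 (iv6 D36618) D36616
def n80367 : Q := act 0 n36617
theorem D80367 : act 0 n36617 = n80367 := rfl
theorem F123474 : act 5 n80367 = n38779 := d17_3 F118646 D36617 D80367 F59677 D38785 F118594 (iv5 D37370) F117824 (iv4 F57347)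
theorem F123475 : act 1 n36637 = n80367 := d15_0 (iv0 D80367) (iv7 F123082) F123081
def n80368 : Q := act 1 n36617
theorem D80368 : act 1 n36617 = n80368 := rfl
theorem F123476 : act 1 n80368 = n36637 := d15_1 D80368 (iv7 F123038) F123037
theorem F123477 : act 5 n80368 = n77812 := d17_7 (iv1 F57334) (iv5 F91202) (iv1 D36621) (iv5 D17655) D17654 D36617 D80368 F123044 (iv4 D80153)
def n80369 : Q := act 4 n36617
theorem D80369 : act 4 n36617 = n80369 := rfl
def n80370 : Q := act 6 n36617
theorem D80370 : act 6 n36617 = n80370 := rfl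
def n80371 : Q := act 1 n36618
theorem D80371 : act 1 n36618 = n80371 := rfl
theorem F123478 : act 7 n80371 = n77373 := d15_2 (iv0 F123255) D80371 (iv2 F123253)
def n80372 : Q := act 5 n36618
theorem D80372 : act 5 n36618 = n80372 := rfl
theorem F123479 : act 0 n80372 = n38385 := d21_7 D17185 F34579 F34578 D36513 F118646 D36618 D80372 (iv5 D38385) (iv6 D18313) F16298
def n80373 : Q := act 7 n36618
theorem D80373 : act 7 n36618 = n80373 := rfl
theorem F123480 : act 4 n80373 = n36628 := d11_1 D80373 (iv7 D36628) (iv4 F57475)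
def n80374 : Q := act 4 n36620
theorem D80374 : act 4 n36620 = n80374 := rfl
theorem F123481 : act 2 n80374 = n77741 := d1_1 D80374 F117120 F91205
theorem F123482 : act 7 n80374 = n77627 := d11_2 F91208 D80374 F116524
theorem F123483 : act 0 n80374 = n77474 := d17_0 F116299 (iv1 D36598) (iv5 D17650) F13121 F5738 D8316 D17660 F57484 D80374
theorem F123484 : act 0 n77743 = n80374 := d20_1 F123054 (iv4 D80374) F91209 (iv1 F89110) F118901 (iv4 F118917) F113308 F29606 (iv3 F29605) D38783
theorem E13276 : n77740 = n77627 := ((c18_6 D38783 F123054 F123484 (iv4 D80374) F57479 (iv4 F116524) (iv0 D77740) (iv4 F116604) (iv0 F118582) (iv5 D38785))).symm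
theorem F123485 : act 1 n77627 = n35478 := (sb E13276 (iv0 D77740))
def n80375 : Q := act 4 n36621
theorem D80375 : act 4 n36621 = n80375 := rfl
theorem F123487 : act 3 n80375 = n58434 := d5_1 D80375 F92292 F44910 F30411 (iv3 F91201)
theorem F123488 : act 6 n80375 = n39966 := d10_2 (iv6 F91203) D80375 (iv4 D39966)
theorem F123489 : act 7 n80375 = n77741 := d11_2 (iv7 F91204) D80375 F117120
def n80376 : Q := act 0 n36622
theorem D80376 : act 0 n36622 = n80376 := rfl
theorem F123492 : act 4 n80376 = n38785 := d18_3 (iv1 D36621) D36622 D80376 (iv5 D38785) (iv4 F59677) F118741 F56188 D35513 (iv5 F91202)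
theorem F123493 : act 1 n36639 = n80376 := d15_0 (iv0 D80376) F91377 F91370
theorem F123494 : act 7 n38779 = n80376 := d11_0 F123492 (iv7 F59681) (iv4 F59677)
def n80377 : Q := act 1 n36622
theorem D80377 : act 1 n36622 = n80377 := rfl
theorem F123498 : act 4 n80377 = n38774 := d18_7 F121237 (iv4 F57347) F118646 (iv4 D17654) D17655 D36622 D80377 F118595 (iv5 F121241)
theorem F123499 : act 2 n38779 = n80377 := d1_3 F123498 F59674 (iv4 F59677)
theorem F123500 : act 6 n38772 = n80377 := d10_0 F123498 (iv6 D38774) D38772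
def n80378 : Q := act 3 n36622
theorem D80378 : act 3 n36622 = n80378 := rfl
theorem F123501 : act 7 n80378 = n77806 := d8_2 (iv7 F91377) D80378 F117631
def n80379 : Q := act 5 n36622
theorem D80379 : act 5 n36622 = n80379 := rfl
theorem F123502 : act 7 n80379 = n77813 := d13_2 (iv7 F91377) D80379 (iv5 D77813)
theorem F123504 : act 1 n80379 = n80166 := d17_6 (iv1 D8316) F5738 D8315 D17655 D36622 D80379 (iv5 D80166) F118647 (iv4 D17659)
def n80380 : Q := act 6 n36622
theorem D80380 : act 6 n36622 = n80380 := rfl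
theorem F123506 : act 2 n80380 = n77852 := d3_1 D80380 (iv6 F123042) F123041
theorem F123508 : act 7 n80380 = n77502 := d14_2 (iv7 F91377) D80380 (iv6 D77502) F91351 D35505
theorem F123509 : act 0 n80380 = n77551 := d21_10 F123257 (iv1 D80231) (iv5 D36547) (iv6 D17635) (iv1 F28662) D36513 D80166 (iv1 F123504) (iv5 D80379) D80380
theorem E13277 : n77850 = n77551 := (c15_1 D77850 (iv0 F123509) F123508 F116362)
theorem F123510 : act 0 n77551 = n35524 := (sb E13277 (iv1 D77850))
theorem F123511 : act 1 n80380 = n77849 := d15_0 (iv0 D77849) D77852 (iv2 F123506)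
def n80381 : Q := act 4 n36627
theorem D80381 : act 4 n36627 = n80381 := rfl
theorem F123512 : act 2 n80381 = n56140 := d1_1 D80381 (iv4 D56140) (iv2 F91371)
theorem F123513 : act 7 n80381 = n56135 := d11_2 (iv7 F91372) D80381 (iv4 D56135)
theorem F123514 : act 0 n80381 = n38399 := d18_2 F57489 D80381 (iv4 D38399) (iv5 D18316) (iv4 F29514) D38384 F118563 F43667 (iv5 F43716)
def n80382 : Q := act 5 n36632
theorem D80382 : act 5 n36632 = n80382 := rfl
theorem F123515 : act 2 n80382 = n36634 := d2_1 D80382 (iv5 D36634) D36632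
theorem F123517 : act 7 n80382 = n56952 := d13_2 (iv7 F121305) D80382 (iv5 D56952)
theorem F123518 : act 0 n80382 = n57755 := d18_0 F90938 (iv1 F121420) (iv4 D37422) (iv5 D17959) D17958 F121343 (iv4 F44198) (iv0 F121338) D80382
theorem F123519 : act 6 n80382 = n55341 := d21_9 D77825 F121166 (iv5 F120746) (iv6 D57090) (iv1 F90039) (iv6 D56959) F44227 (iv1 F121339) D80382 F121160
theorem F123520 : act 1 n80147 = n57755 := d15_0 (iv0 F123518) F123517 (iv2 F123021)
def n80383 : Q := act 6 n36632
theorem D80383 : act 6 n36632 = n80383 := rfl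
theorem F123521 : act 2 n80383 = n36635 := d3_1 D80383 (iv6 D36635) D36632
theorem F123522 : act 3 n80383 = n45869 := d7_1 D80383 (iv6 D45869) (iv3 F119027)
theorem F123523 : act 4 n80383 = n57006 := d10_1 D80383 (iv6 D57006) (iv4 F121443)
def n80384 : Q := act 3 n36633
theorem D80384 : act 3 n36633 = n80384 := rfl
theorem F123524 : act 4 n80384 = n36636 := d5_2 D36633 D80384 (iv3 D36636) (iv4 D17659) D17658
theorem F123525 : act 7 n80384 = n56998 := d8_2 (iv7 F121439) D80384 (iv3 D56998)
def n80385 : Q := act 5 n36633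
theorem D80385 : act 5 n36633 = n80385 := rfl
theorem F123526 : act 2 n80385 = n57005 := d2_1 D80385 (iv5 D57005) (iv2 F121438)
theorem F123527 : act 7 n80385 = n57000 := d13_2 (iv7 F121439) D80385 (iv5 D57000)
theorem F123528 : act 1 n57005 = n57862 := d15_0 F91145 (iv7 F123527) F123526
def n80386 : Q := act 6 n36633
theorem D80386 : act 6 n36633 = n80386 := rfl
theorem F123529 : act 2 n80386 = n57006 := d3_1 D80386 (iv6 D57006) (iv2 F121438)
theorem F123530 : act 4 n80386 = n36635 := d10_1 D80386 (iv6 D36635) D36633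
theorem F123531 : act 0 n55490 = n80386 := d20_1 (iv4 F87779) F123530 F57493 D36640 F91309 F41674 (iv1 F53263) F53262 (iv3 F121155) (iv1 D55498)
def n80387 : Q := act 0 n36634
theorem D80387 : act 0 n36634 = n80387 := rfl
theorem F123532 : act 1 n56952 = n80387 := d15_0 (iv0 D80387) (iv7 F123023) F123021
def n80388 : Q := act 1 n36634
theorem D80388 : act 1 n36634 = n80388 := rfl
theorem F123533 : act 1 n80388 = n56952 := d15_1 D80388 (iv7 F123517) F123515
theorem F123534 : act 6 n79828 = n80388 := d21_9 (iv5 D36634) (iv1 F121297) F21849 (iv6 D13097) D13095 D27325 (iv5 F56132) F91149 (iv5 F122557) (iv1 D80388)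
theorem F123535 : act 3 n80388 = n36731 := d7_1 F123534 (iv6 F121358) D79828
theorem F123536 : act 5 n80388 = n57755 := d12_1 F123534 (iv6 D57755) D57754 (iv6 F90936) (iv5 F122557)
theorem F123537 : act 7 n80388 = n57755 := d14_2 (iv7 F122558) F123534 (iv6 D57755) (iv7 F90424) F90936
theorem F123538 : act 4 n57761 = n80388 := d11_3 F123537 F90938 D57761
theorem F123539 : act 2 n57755 = n80387 := d15_3 (iv0 D80387) D80388 F123537
theorem F123540 : act 3 n80387 = n44589 := d0_2 (iv3 F121417) F123539 (iv2 F90445) (iv3 F121390) F121411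
theorem F123541 : act 4 n80387 = n57304 := d1_2 (iv4 F90938) F123539 F90459
theorem F123542 : act 6 n80387 = n44586 := d3_2 D57755 F123539 F90443
theorem F123543 : act 0 n57304 = n57030 := d18_2 D80387 F123541 (iv4 D57030) (iv5 D27354) D27353 F121336 F44226 F121297 D36634
theorem F123544 : act 1 n57304 = n39016 := d15_1 (iv0 F123543) (iv7 F60027) F121114
theorem F123545 : act 1 n39016 = n57761 := d15_1 F123544 (iv7 D57761) (iv2 F90459)
theorem F123546 : act 1 n57761 = n57030 := d15_1 F123545 (iv7 F91118) (iv2 F121087)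
def n80389 : Q := act 0 n36635
theorem D80389 : act 0 n36635 = n80389 := rfl
def n80390 : Q := act 1 n36635
theorem D80390 : act 1 n36635 = n80390 := rfl
def n80391 : Q := act 5 n36635
theorem D80391 : act 5 n36635 = n80391 := rfl
theorem F123547 : act 3 n80391 = n36642 := d6_1 D80391 (iv5 D36642) (iv3 F57493)
theorem F123548 : act 6 n80391 = n77488 := d12_2 D36635 D80391 (iv5 D77488) F57492 (iv5 D36634)
def n80392 : Q := act 7 n36635
theorem D80392 : act 7 n36635 = n80392 := rfl
theorem F123549 : act 3 n80392 = n36643 := d8_1 D80392 (iv7 D36643) (iv3 F57493)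
def n80393 : Q := act 0 n36636
theorem D80393 : act 0 n36636 = n80393 := rfl
def n80394 : Q := act 1 n36636
theorem D80394 : act 1 n36636 = n80394 := rfl
def n80395 : Q := act 2 n36636
theorem D80395 : act 2 n36636 = n80395 := rfl
def n80400 : Q := act 0 n36638
theorem D80400 : act 0 n36638 = n80400 := rfl
def n80401 : Q := act 1 n36638
theorem D80401 : act 1 n36638 = n80401 := rfl
def n80402 : Q := act 5 n36638
theorem D80402 : act 5 n36638 = n80402 := rfl
theorem F123553 : act 1 n80402 = n77550 := d17_6 D17177 D35411 F57498 (iv5 D36642) (iv4 F57494) D80402 (iv5 D77550) (iv0 D35404) F28136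
def n80403 : Q := act 7 n36638
theorem D80403 : act 7 n36638 = n80403 := rfl
theorem F123554 : act 4 n80403 = n36643 := d11_1 D80403 (iv7 D36643) (iv4 F57494)
theorem F123555 : act 1 n77444 = n80403 := d17_8 (iv1 F91363) (iv5 F91263) (iv1 D35419) (iv5 D17179) (iv4 F28136) D35406 D77558 (iv5 F116431) F123554
theorem F123556 : act 4 n77598 = n79615 := d18_3 (iv1 F56262) (iv4 F119187) (iv1 F119189) (iv5 F122307) F120396 F123555 F123554 F116489 (iv5 D77594)
theorem F123557 : act 2 n77977 = n77598 := d1_3 F123556 F122308 (iv4 F119184)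
theorem F123558 : act 7 n77597 = n77977 := d15_2 F119189 F119190 F123557
theorem F123559 : act 7 n77976 = n77598 := d15_2 F119183 F119188 (iv2 F123557)
theorem F123560 : act 2 n77597 = n77976 := d4_3 F123559 (iv2 F123557) (iv7 F123558)
theorem F123561 : act 1 n80159 = n77444 := d15_0 F123555 (iv7 D80403) (iv2 F123083)
def n80404 : Q := act 3 n36639
theorem D80404 : act 3 n36639 = n80404 := rfl
theorem F123562 : act 6 n80404 = n77491 := d7_2 (iv6 F57495) D80404 (iv3 D77491)
def n80405 : Q := act 5 n36639
theorem D80405 : act 5 n36639 = n80405 := rfl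
theorem F123565 : act 1 n80405 = n80361 := d17_6 (iv1 F28660) F28657 (iv1 F28659) D17660 D36639 D80405 (iv5 D80361) (iv0 D36614) (iv4 D17654)
def n80406 : Q := act 4 n36642
theorem D80406 : act 4 n36642 = n80406 := rfl
theorem F123569 : act 6 n80406 = n77494 := d10_2 (iv6 F57497) D80406 (iv4 D77494)
def n80407 : Q := act 7 n36642
theorem D80407 : act 7 n36642 = n80407 := rfl
theorem F123571 : act 5 n80407 = n36643 := d13_1 D80407 (iv7 D36643) D36642
theorem F123573 : act 1 n56056 = n80407 := d15_1 (iv0 F88722) (iv7 D80407) F91362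
def n80408 : Q := act 0 n36644
theorem D80408 : act 0 n36644 = n80408 := rfl
theorem F123575 : act 5 n80408 = n73117 := d17_1 D80408 (iv1 D73117) (iv5 F94524) F94523 (iv5 F74445) F74447 (iv5 F116497) (iv0 D77267) (iv4 F57500)
theorem F123576 : act 4 n80408 = n79215 := d18_3 (iv1 D77268) (iv4 F57500) D80408 (iv5 D79215) F74450 (iv0 D38200) (iv4 F30989) D41138 (iv5 F116039)
theorem F123577 : act 1 n60062 = n80408 := d15_0 (iv0 D80408) F57501 (iv2 F94598)
def n80409 : Q := act 1 n36644
theorem D80409 : act 1 n36644 = n80409 := rfl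
theorem F123578 : act 1 n80409 = n60062 := d15_1 D80409 (iv7 F106166) F106165
theorem F123579 : act 5 n80409 = n73116 := d17_7 D57286 F115309 (iv1 F115308) (iv5 F109585) (iv4 F115838) F115839 D80409 (iv0 D73116) F52949
theorem F123580 : act 4 n79219 = n80409 := d18_5 (iv1 F74447) F74444 (iv1 F59064) F71077 D79219 F123578 (iv4 F106204) F116037 F116497
theorem E13278 : n80289 = n79219 := ((c20_1 (iv4 F123580) (iv1 D80289) (iv4 F108493) (iv3 D72010) F52501 (iv3 D28536) (iv4 D13609) D13607 D28532 D60062 (iv1 F123578))).symm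
theorem F123581 : act 0 n79219 = n36581 := (sb E13278 (iv1 D80289))
def n80410 : Q := act 6 n36644
theorem D80410 : act 6 n36644 = n80410 := rfl
theorem F123582 : act 3 n80410 = n36645 := d7_1 D80410 (iv6 D36645) D36644
theorem F123583 : act 4 n80410 = n77269 := d10_1 D80410 (iv6 D77269) (iv4 F57500)
def n80411 : Q := act 1 n36645
theorem D80411 : act 1 n36645 = n80411 := rfl
theorem F123585 : act 7 n80411 = n36654 := d15_2 (iv0 F57504) D80411 (iv2 F113062)
theorem F123586 : act 4 n75271 = n80411 := d20_0 (iv1 D80411) F57503 F28734 D35274 F113985 (iv4 F117284) F117283 (iv4 D34756) (iv3 F113085) (iv1 F117273)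
theorem F123587 : act 2 n80411 = n36655 := d1_1 F123586 (iv4 F57526) (iv2 F117274)
def n80412 : Q := act 5 n36645
theorem D80412 : act 5 n36645 = n80412 := rfl
theorem F123588 : act 2 n80412 = n36656 := d2_1 D80412 (iv5 D36656) (iv2 F57502)
def n80413 : Q := act 7 n36645
theorem D80413 : act 7 n36645 = n80413 := rfl
theorem F123589 : act 2 n80413 = n36657 := d4_1 D80413 (iv7 D36657) (iv2 F57502)
theorem F123590 : act 4 n80413 = n36648 := d11_1 D80413 (iv7 D36648) (iv4 F57503)
theorem F123591 : act 6 n80413 = n77052 := d14_1 D80413 (iv7 D77052) (iv6 D35191) (iv7 F28730) D36645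
theorem F123592 : act 1 n36655 = n80413 := d15_1 D36655 (iv7 D80413) F57502
theorem F123593 : act 1 n80413 = n36654 := d15_1 F123592 (iv7 F123585) F123587
def n80414 : Q := act 4 n36646
theorem D80414 : act 4 n36646 = n80414 := rfl
theorem F123594 : act 2 n80414 = n36660 := d1_1 D80414 (iv4 D36660) (iv2 F115893)
theorem F123595 : act 7 n80414 = n36665 := d11_2 (iv7 F115894) D80414 (iv4 D36665)
theorem F123596 : act 0 n37562 = n80414 := d20_1 (iv4 F58448) (iv4 D80414) (iv3 F115906) (iv1 F61601) F61583 (iv4 F72459) (iv1 F72461) (iv4 D34499) D34498 F117258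
def n80415 : Q := act 4 n36647
theorem D80415 : act 4 n36647 = n80415 := rfl
theorem F123597 : act 2 n80415 = n36665 := d1_1 D80415 (iv4 D36665) (iv2 F115889)
theorem F123599 : act 0 n80415 = n37562 := d20_1 D80415 F58448 F29194 (iv1 F117201) (iv3 D12827) D12828 F30448 F24882 (iv3 F28741) (iv1 F57505)
def n80416 : Q := act 0 n36649
theorem D80416 : act 0 n36649 = n80416 := rfl
theorem F123600 : act 3 n80416 = n72622 := d20_5 (iv4 D18021) (iv1 F27474) (iv4 F28735) D36649 D80416 (iv4 F109150) (iv1 D55434) (iv4 F55944) (iv3 D35197) (iv1 F29193)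
theorem F123601 : act 1 n77108 = n80416 := d15_0 (iv0 D80416) F57514 D77108
def n80417 : Q := act 1 n36649
theorem D80417 : act 1 n36649 = n80417 := rfl
theorem F123602 : act 4 n80120 = n80417 := d20_0 (iv1 D80417) F57513 (iv3 D35319) (iv1 D17145) F13554 F13552 D10657 (iv4 F29328) (iv3 F58741) F122965
theorem F123603 : act 0 n77108 = n80417 := d20_1 (iv4 F115823) (iv4 F123602) (iv3 D80120) (iv1 F86225) (iv3 D54557) (iv4 D26383) (iv1 F20969) D16057 D33253 D71979
def n80418 : Q := act 2 n36649
theorem D80418 : act 2 n36649 = n80418 := rfl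
theorem F123604 : act 3 n80418 = n71888 := d0_2 D36649 D80418 F108380 (iv3 D34503) F28736
theorem F123605 : act 4 n80418 = n77363 := d1_2 (iv4 F57513) D80418 (iv2 D77363)
theorem F123606 : act 5 n80418 = n71887 := d2_2 F119263 D80418 (iv2 F119262)
theorem F123607 : act 7 n80418 = n77108 := d4_2 (iv7 F57514) D80418 (iv2 D77108)
theorem F123609 : act 1 n77107 = n80418 := d15_1 D77107 F123607 (iv2 D77108)
def n80419 : Q := act 6 n36649
theorem D80419 : act 6 n36649 = n80419 := rfl
theorem F123610 : act 3 n80419 = n36650 := d7_1 D80419 (iv6 D36650) D36649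
theorem F123611 : act 4 n80419 = n77364 := d10_1 D80419 (iv6 D77364) (iv4 F57513)
def n80420 : Q := act 5 n36650
theorem D80420 : act 5 n36650 = n80420 := rfl
def n80421 : Q := act 3 n36651
theorem D80421 : act 3 n36651 = n80421 := rfl
theorem F123613 : act 2 n80421 = n71908 := d0_1 D80421 (iv3 D71908) (iv2 F56579) F56582 F57519
theorem F123614 : act 5 n80421 = n38242 := d6_2 (iv5 F57517) D80421 (iv3 D38242)
def n80422 : Q := act 6 n36651
theorem D80422 : act 6 n36651 = n80422 := rfl
theorem F123616 : act 2 n80422 = n38254 := d3_1 D80422 (iv6 D38254) F57519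
def n80423 : Q := act 6 n36652
theorem D80423 : act 6 n36652 = n80423 := rfl
theorem F123617 : act 2 n80423 = n77117 := d3_1 D80423 (iv6 D77117) F57525
theorem F123618 : act 3 n80423 = n71901 := d7_1 D80423 (iv6 D71901) F57524
def n80424 : Q := act 0 n36653
theorem D80424 : act 0 n36653 = n80424 := rfl
def n80425 : Q := act 1 n36653
theorem D80425 : act 1 n36653 = n80425 := rfl
def n80426 : Q := act 5 n36653
theorem D80426 : act 5 n36653 = n80426 := rfl
theorem F123619 : act 6 n80426 = n36656 := d12_2 D36653 D80426 (iv5 D36656) (iv6 D17666) D17665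
def n80427 : Q := act 7 n36653
theorem D80427 : act 7 n36653 = n80427 := rfl
theorem F123620 : act 6 n80427 = n77123 := d14_1 D80427 (iv7 D77123) (iv6 D35215) (iv7 F28739) D36653
def n80428 : Q := act 3 n36654
theorem D80428 : act 3 n36654 = n80428 := rfl
theorem F123621 : act 4 n80428 = n77442 := d5_2 (iv4 F113063) D80428 (iv3 D77442) (iv4 F116627) F116626
def n80429 : Q := act 5 n36654
theorem D80429 : act 5 n36654 = n80429 := rfl
theorem F123622 : act 2 n80429 = n75703 := d2_1 D80429 (iv5 D75703) F113062
def n80430 : Q := act 6 n36654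
theorem D80430 : act 6 n36654 = n80430 := rfl
theorem F123623 : act 2 n80430 = n75704 := d3_1 D80430 (iv6 D75704) F113062
theorem F123624 : act 4 n80430 = n75701 := d10_1 D80430 (iv6 D75701) (iv4 F113063)
def n80431 : Q := act 3 n36655
theorem D80431 : act 3 n36655 = n80431 := rfl
theorem F123625 : act 4 n80431 = n75367 := d5_2 F57526 D80431 (iv3 D75367) (iv4 D34499) D34498
theorem F123626 : act 7 n80431 = n75702 := d8_2 F113061 D80431 (iv3 D75702)
def n80432 : Q := act 5 n36655
theorem D80432 : act 5 n36655 = n80432 := rfl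
theorem F123627 : act 7 n80432 = n75703 := d13_2 F113061 D80432 (iv5 D75703)
def n80433 : Q := act 6 n36655
theorem D80433 : act 6 n36655 = n80433 := rfl
theorem F123628 : act 4 n80433 = n75366 := d10_1 D80433 (iv6 D75366) F57526
theorem F123629 : act 0 n80433 = n78380 := d20_7 (iv4 F51227) F51228 F29941 (iv3 F29258) (iv1 F117875) (iv3 F113098) (iv4 F123628) (iv4 D78380) F56409 (iv1 F28988)
def n80434 : Q := act 0 n36656
theorem D80434 : act 0 n36656 = n80434 := rfl
theorem F123630 : act 5 n80434 = n79816 := d17_3 (iv1 D36655) D36656 D80434 F122542 (iv5 D38715) F117190 F44054 (iv0 F117258) F57526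
def n80435 : Q := act 1 n36656
theorem D80435 : act 1 n36656 = n80435 := rfl
theorem F123631 : act 5 n38720 = n80435 := d21_6 (iv5 F56286) (iv1 F56293) F56291 D38249 F59133 D38720 (iv1 D80435) (iv5 D36656) (iv6 D17666) D17664
def n80436 : Q := act 4 n36656
theorem D80436 : act 4 n36656 = n80436 := rfl
def n80437 : Q := act 7 n36656
theorem D80437 : act 7 n36656 = n80437 := rfl
theorem F123632 : act 5 n80437 = n36657 := d13_1 D80437 (iv7 D36657) D36656
def n80438 : Q := act 5 n36659
theorem D80438 : act 5 n36659 = n80438 := rfl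
theorem F123633 : act 2 n80438 = n77418 := d2_1 D80438 (iv5 D77418) (iv2 F115898)
theorem F123635 : act 7 n80438 = n77143 := d13_2 (iv7 F115891) D80438 F115856
def n80439 : Q := act 6 n36659
theorem D80439 : act 6 n36659 = n80439 := rfl
theorem F123636 : act 2 n80439 = n77419 := d3_1 D80439 (iv6 D77419) (iv2 F115898)
theorem F123637 : act 3 n80439 = n36662 := d7_1 D80439 (iv6 D36662) D36659
theorem F123638 : act 5 n80439 = n77968 := d21_6 (iv5 D17043) (iv1 F12846) (iv5 F21843) D27325 (iv1 F91433) D80439 (iv1 D77968) F56254 (iv6 D27035) (iv1 F27945)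
theorem F123639 : act 3 n77968 = n78060 := d6_1 F123638 (iv5 F119249) (iv3 F123637)
theorem F123640 : act 6 n79819 = n77968 := d7_0 F123639 (iv6 F121377) D79819
theorem F123641 : act 7 n78131 = n77968 := d8_0 F123639 F119309 D78131
theorem F123642 : act 4 n77968 = n57917 := d20_6 D27903 (iv1 F56310) F56307 (iv3 F56301) (iv1 F119248) (iv3 F123639) (iv1 D57917) (iv4 D27637) F21973 D13306
theorem F123643 : act 2 n78131 = n77967 := d15_3 (iv0 D77967) D77968 (iv7 F123641)
def n80440 : Q := act 3 n36660
theorem D80440 : act 3 n36660 = n80440 := rfl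
def n80441 : Q := act 5 n36660
theorem D80441 : act 5 n36660 = n80441 := rfl
def n80442 : Q := act 6 n36660
theorem D80442 : act 6 n36660 = n80442 := rfl
theorem F123644 : act 4 n80442 = n36662 := d10_1 D80442 (iv6 D36662) D36660
def n80444 : Q := act 5 n36664
theorem D80444 : act 5 n36664 = n80444 := rfl
theorem F123649 : act 6 n80444 = n36816 := d21_3 (iv5 F56752) (iv1 F113857) D80444 (iv1 F61536) (iv6 F61586) F61585 (iv1 F33670) D44588 (iv6 F70116) (iv1 F33669)
def n80445 : Q := act 6 n36664
theorem D80445 : act 6 n36664 = n80445 := rfl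
theorem F123650 : act 2 n80445 = n79108 := d3_1 D80445 (iv6 D79108) F115904
theorem F123651 : act 3 n80445 = n36667 := d7_1 D80445 (iv6 D36667) D36664
def n80446 : Q := act 3 n36665
theorem D80446 : act 3 n36665 = n80446 := rfl
def n80447 : Q := act 5 n36665
theorem D80447 : act 5 n36665 = n80447 := rfl
def n80448 : Q := act 6 n36665
theorem D80448 : act 6 n36665 = n80448 := rfl
theorem F123652 : act 4 n80448 = n36667 := d10_1 D80448 (iv6 D36667) D36665
def n80451 : Q := act 6 n36671
theorem D80451 : act 6 n36671 = n80451 := rfl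
theorem F123657 : act 2 n80451 = n79144 := d3_1 D80451 (iv6 D79144) F59811
theorem F123658 : act 4 n80451 = n36673 := d10_1 D80451 (iv6 D36673) D36671
def n80452 : Q := act 4 n36672
theorem D80452 : act 4 n36672 = n80452 := rfl
theorem F123659 : act 2 n80452 = n79145 := d1_1 D80452 (iv4 D79145) F59808
theorem F123660 : act 7 n80452 = n77219 := d11_2 (iv7 F57541) D80452 F115981
theorem F123661 : act 0 n36896 = n80452 := d20_7 (iv4 F51978) (iv1 F51981) (iv4 D16846) (iv3 F27589) D34767 (iv3 F120949) F120950 (iv4 D80452) F57540 F43790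
def n80453 : Q := act 0 n36680
theorem D80453 : act 0 n36680 = n80453 := rfl
theorem F123663 : act 3 n80453 = n80254 := d20_5 (iv4 D10531) (iv1 F13142) D17680 D36680 D80453 (iv4 D80254) (iv1 D36563) D36565 F57434 F30790
theorem F123664 : act 1 n70754 = n80453 := d15_0 (iv0 D80453) F57556 (iv2 F107223)
theorem F123665 : act 5 n47161 = n80453 := d6_0 F123663 F123323 F121666
theorem F123666 : act 2 n80453 = n77268 := d2_1 F123665 F116039 F116280
def n80454 : Q := act 1 n36680
theorem D80454 : act 1 n36680 = n80454 := rfl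
theorem F123668 : act 1 n80454 = n70754 := d15_1 D80454 F107225 F106203
theorem F123669 : act 7 n80454 = n77268 := d15_2 (iv0 D80453) D80454 (iv2 F123666)
theorem F123670 : act 5 n80454 = n47162 := d17_7 (iv1 F59059) (iv5 F112919) (iv1 D34483) D34485 (iv4 F61455) F61456 D80454 F74448 F62349
theorem F123671 : act 2 n77267 = n80454 := d2_3 F123670 F116279 (iv5 F116497)
def n80455 : Q := act 6 n36680
theorem D80455 : act 6 n36680 = n80455 := rfl
theorem F123672 : act 3 n80455 = n36681 := d7_1 D80455 (iv6 D36681) D36680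
theorem F123673 : act 4 n80455 = n77048 := d10_1 D80455 (iv6 D77048) (iv4 F57555)
def n80456 : Q := act 1 n36681
theorem D80456 : act 1 n36681 = n80456 := rfl
theorem F123674 : act 1 n80456 = n36689 := d15_1 D80456 (iv7 D36689) (iv2 F57557)
theorem F123675 : act 7 n80456 = n36686 := d15_2 (iv0 F115388) D80456 (iv2 F115471)
theorem F123676 : act 4 n56912 = n80456 := d20_0 (iv1 D80456) F57558 F28752 D35192 (iv3 F117056) F117053 (iv1 F71186) F58259 (iv3 F58253) (iv1 F89964)
theorem F123677 : act 2 n80456 = n36687 := d1_1 F123676 (iv4 F117084) F117082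
def n80457 : Q := act 5 n36681
theorem D80457 : act 5 n36681 = n80457 := rfl
theorem F123678 : act 2 n80457 = n36688 := d2_1 D80457 (iv5 D36688) (iv2 F57557)
def n80458 : Q := act 7 n36681
theorem D80458 : act 7 n36681 = n80458 := rfl
theorem F123679 : act 2 n80458 = n36689 := d4_1 D80458 (iv7 D36689) (iv2 F57557)
theorem F123680 : act 4 n80458 = n36684 := d11_1 D80458 (iv7 D36684) (iv4 F57558)
theorem F123682 : act 1 n36687 = n80458 := d15_1 D36687 (iv7 D80458) F57557
theorem F123683 : act 1 n80458 = n36686 := d15_1 F123682 (iv7 F123675) F123677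
def n80459 : Q := act 4 n36682
theorem D80459 : act 4 n36682 = n80459 := rfl
theorem F123684 : act 2 n80459 = n36692 := d1_1 D80459 (iv4 D36692) (iv2 F114035)
theorem F123686 : act 7 n80459 = n36697 := d11_2 (iv7 F114037) D80459 (iv4 D36697)
theorem F123687 : act 0 n37291 = n80459 := d20_1 (iv4 F58251) (iv4 D80459) F114036 (iv1 F72413) (iv3 F123186) F123187 (iv1 F115345) (iv4 D76821) (iv3 F117083) (iv1 D37293)
def n80460 : Q := act 4 n36683
theorem D80460 : act 4 n36683 = n80460 := rfl
theorem F123688 : act 2 n80460 = n36697 := d1_1 D80460 (iv4 D36697) (iv2 F114033)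
theorem F123689 : act 7 n80460 = n36692 := d11_2 (iv7 F114034) D80460 (iv4 D36692)
theorem F123690 : act 0 n80460 = n37291 := d20_1 D80460 F58251 F29091 F116746 (iv3 D16853) (iv4 F38268) (iv1 F25187) F24900 (iv3 F28755) (iv1 F57561)
def n80461 : Q := act 0 n36685
theorem D80461 : act 0 n36685 = n80461 := rfl
def n80462 : Q := act 1 n36685
theorem D80462 : act 1 n36685 = n80462 := rfl
def n80463 : Q := act 5 n36685
theorem D80463 : act 5 n36685 = n80463 := rfl
theorem F123691 : act 6 n80463 = n36688 := d12_2 D36685 D80463 (iv5 D36688) (iv6 D17683) D17682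
def n80464 : Q := act 7 n36685
theorem D80464 : act 7 n36685 = n80464 := rfl
theorem F123692 : act 6 n80464 = n77289 := d14_1 D80464 (iv7 D77289) (iv6 D35279) (iv7 F28753) D36685
def n80465 : Q := act 3 n36686
theorem D80465 : act 3 n36686 = n80465 := rfl
def n80466 : Q := act 5 n36686
theorem D80466 : act 5 n36686 = n80466 := rfl
def n80467 : Q := act 6 n36686
theorem D80467 : act 6 n36686 = n80467 := rfl
def n80468 : Q := act 3 n36687
theorem D80468 : act 3 n36687 = n80468 := rfl
def n80469 : Q := act 5 n36687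
theorem D80469 : act 5 n36687 = n80469 := rfl
def n80470 : Q := act 6 n36687
theorem D80470 : act 6 n36687 = n80470 := rfl
def n80471 : Q := act 0 n36688
theorem D80471 : act 0 n36688 = n80471 := rfl
def n80472 : Q := act 1 n36688
theorem D80472 : act 1 n36688 = n80472 := rfl
theorem F123694 : act 5 n78302 = n80472 := d21_6 (iv5 F30284) (iv1 F30286) (iv5 F30179) D39977 F91611 (iv6 F121554) (iv1 D80472) (iv5 D36688) (iv6 D17683) (iv1 F14057)
def n80473 : Q := act 4 n36688
theorem D80473 : act 4 n36688 = n80473 := rfl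
def n80474 : Q := act 7 n36688
theorem D80474 : act 7 n36688 = n80474 := rfl
theorem F123695 : act 5 n80474 = n36689 := d13_1 D80474 (iv7 D36689) D36688
def n80475 : Q := act 5 n36691
theorem D80475 : act 5 n36691 = n80475 := rfl
theorem F123696 : act 2 n80475 = n45898 := d2_1 D80475 (iv5 D45898) (iv2 F114014)
theorem F123697 : act 3 n80475 = n36693 := d6_1 D80475 (iv5 D36693) D36691
theorem F123698 : act 7 n80475 = n45900 := d13_2 (iv7 F114015) D80475 (iv5 D45900)
def n80476 : Q := act 0 n36692
theorem D80476 : act 0 n36692 = n80476 := rfl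
theorem F123699 : act 4 n80476 = n37295 := d20_2 D36692 D80476 F58253 (iv1 F116744) (iv3 D17066) (iv4 F43174) (iv1 D15323) F11566 (iv3 F13145) D17684
theorem F123700 : act 1 n36697 = n80476 := d15_0 (iv0 D80476) (iv7 F123689) F123688
theorem F123701 : act 7 n80476 = n37291 := d15_2 (iv0 F117077) F123700 (iv2 F60859)
def n80477 : Q := act 3 n36692
theorem D80477 : act 3 n36692 = n80477 := rfl
def n80478 : Q := act 5 n36692
theorem D80478 : act 5 n36692 = n80478 := rfl
def n80479 : Q := act 6 n36692
theorem D80479 : act 6 n36692 = n80479 := rfl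
theorem F123704 : act 4 n80479 = n36694 := d10_1 D80479 (iv6 D36694) D36692
theorem F123705 : act 7 n77307 = n80479 := d11_0 F123704 (iv7 F114019) D77307
def n80480 : Q := act 4 n36693
theorem D80480 : act 4 n36693 = n80480 := rfl
def n80481 : Q := act 5 n36696
theorem D80481 : act 5 n36696 = n80481 := rfl
theorem F123706 : act 2 n80481 = n77338 := d2_1 D80481 (iv5 D77338) (iv2 F114031)
theorem F123707 : act 3 n80481 = n36698 := d6_1 D80481 (iv5 D36698) D36696
theorem F123708 : act 7 n80481 = n77336 := d13_2 (iv7 F114032) D80481 (iv5 D77336)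
def n80482 : Q := act 6 n36696
theorem D80482 : act 6 n36696 = n80482 := rfl
theorem F123709 : act 2 n80482 = n77339 := d3_1 D80482 (iv6 D77339) (iv2 F114031)
theorem F123710 : act 3 n80482 = n36699 := d7_1 D80482 (iv6 D36699) D36696
def n80483 : Q := act 3 n36697
theorem D80483 : act 3 n36697 = n80483 := rfl
def n80484 : Q := act 5 n36697
theorem D80484 : act 5 n36697 = n80484 := rfl
def n80485 : Q := act 6 n36697
theorem D80485 : act 6 n36697 = n80485 := rfl
theorem F123711 : act 4 n80485 = n36699 := d10_1 D80485 (iv6 D36699) D36697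
def n80486 : Q := act 4 n36698
theorem D80486 : act 4 n36698 = n80486 := rfl
def n80487 : Q := act 3 n36705
theorem D80487 : act 3 n36705 = n80487 := rfl
def n80489 : Q := act 6 n36709
theorem D80489 : act 6 n36709 = n80489 := rfl
theorem F123716 : act 4 n80489 = n36711 := d10_1 D80489 (iv6 D36711) D36709
theorem F123717 : act 1 n79463 = n80489 := d17_8 F88199 (iv5 D36226) (iv1 F56822) F56819 (iv4 F56804) (iv5 F120518) F120521 D79463 F123716
theorem F123718 : act 0 n79468 = n80489 := d20_7 (iv4 F52076) (iv1 F57633) F57635 (iv3 F87885) F117220 (iv3 F89742) F122052 F123716 F57592 F43750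
def n80490 : Q := act 4 n36710
theorem D80490 : act 4 n36710 = n80490 := rfl
def n80491 : Q := act 3 n36712
theorem D80491 : act 3 n36712 = n80491 := rfl
theorem F123721 : act 7 n80491 = n77223 := d8_2 (iv7 F57594) D80491 (iv3 D77223)
def n80492 : Q := act 3 n36715
theorem D80492 : act 3 n36715 = n80492 := rfl
theorem F123722 : act 7 n80492 = n77068 := d8_2 (iv7 F121352) D80492 F115804
def n80494 : Q := act 3 n36723
theorem D80494 : act 3 n36723 = n80494 := rfl
def n80495 : Q := act 5 n36723
theorem D80495 : act 5 n36723 = n80495 := rfl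
theorem F123724 : act 2 n80495 = n36729 := d2_1 D80495 (iv5 D36729) (iv2 F57597)
def n80496 : Q := act 6 n36723
theorem D80496 : act 6 n36723 = n80496 := rfl
theorem F123725 : act 2 n80496 = n36730 := d3_1 D80496 (iv6 D36730) (iv2 F57597)
theorem F123726 : act 4 n80496 = n36725 := d10_1 D80496 (iv6 D36725) D36723
def n80497 : Q := act 4 n36724
theorem D80497 : act 4 n36724 = n80497 := rfl
theorem F123727 : act 2 n80497 = n36733 := d1_1 D80497 (iv4 D36733) (iv2 F57598)
theorem F123728 : act 7 n80497 = n78188 := d11_2 (iv7 F57599) D80497 F119394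
theorem F123729 : act 0 n80497 = n78203 := d20_1 D80497 (iv4 F119408) F59509 F29592 F121109 (iv4 F90582) F121421 (iv4 F90938) F121417 (iv1 F57601)
theorem F123730 : act 1 n80497 = n78202 := d15_0 (iv0 D78202) (iv7 F57609) (iv2 F123727)
def n80498 : Q := act 6 n36724
theorem D80498 : act 6 n36724 = n80498 := rfl
theorem F123731 : act 2 n80498 = n36734 := d3_1 D80498 (iv6 D36734) (iv2 F57598)
theorem F123733 : act 5 n80498 = n79881 := d12_1 D80498 (iv6 D79881) F57603 (iv6 D36725) D36724
theorem F123734 : act 7 n80498 = n55844 := d14_2 (iv7 F57599) D80498 (iv6 D55844) F43444 D35646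
theorem F123735 : act 0 n80498 = n77178 := d21_4 F28037 (iv1 F121322) D36724 D80498 F115934 D78054 F121468 F56321 (iv6 D27152) (iv1 F121314)
theorem F123736 : act 1 n80498 = n55853 := d15_1 (iv0 F123735) F121857 (iv2 F121824)
theorem E13279 : n77178 = n55854 := ((c15_1 D55854 (iv0 F123735) F123734 F88331)).symm
theorem F123737 : act 1 n55854 = n80498 := (sb E13279 (iv0 F123735))
theorem F123738 : act 2 n55854 = n35618 := (sb E13279 F121824)
theorem F123739 : act 3 n55854 = n44972 := (sb E13279 (iv3 F121841))
theorem F123740 : act 5 n55854 = n35231 := (sb E13279 (iv5 D77178))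
theorem F123742 : act 0 n56200 = n77174 := d21_4 F55973 F120780 D27081 D56200 (iv6 D77174) (iv5 F121376) (iv1 F123736) F123733 (iv6 D79881) (iv1 F121320)
def n80499 : Q := act 7 n36725
theorem D80499 : act 7 n36725 = n80499 := rfl
theorem F123743 : act 2 n80499 = n36737 := d4_1 D80499 (iv7 D36737) (iv2 F57602)
theorem F123744 : act 3 n80499 = n79862 := d8_1 D80499 F122611 F118874
theorem F123745 : act 5 n80499 = n56237 := d13_1 D80499 F88946 F57603
theorem F123746 : act 1 n36736 = n80499 := d15_1 D36736 (iv7 D80499) F57602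
theorem F123747 : act 1 n80499 = n36735 := d15_1 F123746 (iv7 F122549) F122547
def n80500 : Q := act 3 n36726
theorem D80500 : act 3 n36726 = n80500 := rfl
theorem F123748 : act 7 n80500 = n77110 := d8_2 (iv7 F117819) D80500 F115825
def n80501 : Q := act 5 n36726
theorem D80501 : act 5 n36726 = n80501 := rfl
theorem F123749 : act 7 n80501 = n77114 := d13_2 (iv7 F117819) D80501 (iv5 D77114)
def n80502 : Q := act 0 n36728
theorem D80502 : act 0 n36728 = n80502 := rfl
theorem F123750 : act 1 n71033 = n80502 := d15_0 (iv0 D80502) F57605 (iv2 F107577)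
def n80503 : Q := act 1 n36728
theorem D80503 : act 1 n36728 = n80503 := rfl
def n80504 : Q := act 2 n36728
theorem D80504 : act 2 n36728 = n80504 := rfl
theorem F123751 : act 4 n80504 = n36740 := d1_2 (iv4 F57604) D80504 (iv2 D36740)
theorem F123752 : act 7 n80504 = n71033 := d4_2 (iv7 F57605) D80504 F107577
theorem F123753 : act 1 n80504 = n71036 := d15_0 (iv0 D71036) (iv7 F57605) D80504
theorem F123754 : act 1 n80503 = n71033 := d15_1 D80503 (iv7 F123752) (iv2 D80504)
theorem F123755 : act 1 n71037 = n80504 := d15_1 D71037 F123752 F107577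
def n80505 : Q := act 5 n36728
theorem D80505 : act 5 n36728 = n80505 := rfl
theorem F123756 : act 3 n80505 = n36729 := d6_1 D80505 (iv5 D36729) D36728
theorem F123757 : act 7 n80505 = n71038 := d13_2 (iv7 F57605) D80505 (iv5 D71038)
def n80506 : Q := act 6 n36728
theorem D80506 : act 6 n36728 = n80506 := rfl
theorem F123758 : act 3 n80506 = n36730 := d7_1 D80506 (iv6 D36730) D36728
theorem F123759 : act 4 n80506 = n36742 := d10_1 D80506 (iv6 D36742) (iv4 F57604)
def n80507 : Q := act 0 n36729
theorem D80507 : act 0 n36729 = n80507 := rfl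
def n80508 : Q := act 1 n36729
theorem D80508 : act 1 n36729 = n80508 := rfl
theorem F123760 : act 5 n80508 = n78203 := d17_7 (iv1 F57600) (iv5 F121392) (iv1 D36732) (iv5 D17706) D17705 D36729 D80508 (iv0 F123729) (iv4 D80497)
def n80509 : Q := act 4 n36729
theorem D80509 : act 4 n36729 = n80509 := rfl
def n80510 : Q := act 6 n36729
theorem D80510 : act 6 n36729 = n80510 := rfl
def n80511 : Q := act 0 n36730
theorem D80511 : act 0 n36730 = n80511 := rfl
def n80512 : Q := act 1 n36730
theorem D80512 : act 1 n36730 = n80512 := rfl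
theorem F123761 : act 4 n75708 = n80512 := d20_6 (iv4 F42958) (iv1 F53148) F53147 (iv3 F117787) (iv1 F59315) (iv3 F113564) (iv1 D80512) F57606 F28770 (iv1 F43751)
theorem F123762 : act 6 n80512 = n75707 := d10_2 D75708 F123761 (iv4 D75707)
def n80513 : Q := act 5 n36730
theorem D80513 : act 5 n36730 = n80513 := rfl
theorem F123764 : act 1 n80513 = n79806 := d17_6 (iv1 F43742) D36350 (iv1 F121316) F28771 (iv4 F57606) D80513 (iv5 D79806) F88866 (iv4 D56190)
def n80514 : Q := act 7 n36730
theorem D80514 : act 7 n36730 = n80514 := rfl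
theorem F123765 : act 4 n80514 = n36737 := d11_1 D80514 (iv7 D36737) (iv4 F57606)
def n80515 : Q := act 4 n36731
theorem D80515 : act 4 n36731 = n80515 := rfl
theorem F123766 : act 2 n80515 = n78229 := d1_1 D80515 (iv4 D78229) (iv2 F121414)
theorem F123767 : act 6 n80515 = n79829 := d10_2 F121358 D80515 (iv4 D79829)
theorem F123768 : act 7 n80515 = n78224 := d11_2 (iv7 F121415) D80515 (iv4 D78224)
def n80516 : Q := act 4 n36732
theorem D80516 : act 4 n36732 = n80516 := rfl
theorem F123770 : act 6 n80516 = n39959 := d10_2 (iv6 F121391) D80516 (iv4 D39959)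
def n80517 : Q := act 0 n36733
theorem D80517 : act 0 n36733 = n80517 := rfl
theorem F123772 : act 1 n78188 = n80517 := d15_0 (iv0 D80517) F57609 (iv2 F119393)
def n80518 : Q := act 1 n36733
theorem D80518 : act 1 n36733 = n80518 := rfl
theorem F123773 : act 1 n80518 = n78188 := d15_1 D80518 (iv7 F123728) F123727
theorem F123774 : act 4 n38238 = n80518 := d20_6 (iv4 F30344) (iv1 F30350) (iv4 D17980) (iv3 F29144) (iv1 F117732) (iv3 F59111) (iv1 D80518) (iv4 D36733) F28769 D17715
theorem F123775 : act 6 n80518 = n38237 := d10_2 D38238 F123774 (iv4 D38237)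
theorem F123776 : act 7 n80518 = n78203 := d11_2 F59511 F123774 (iv4 F119408)
theorem F123777 : act 0 n37839 = n38238 := d18_0 F123774 (iv1 D80518) (iv4 D36733) (iv5 D17706) D17705 F117810 F29305 D18138 D37839
theorem F123778 : act 2 n78203 = n80517 := d15_3 (iv0 D80517) D80518 F123776
theorem F123779 : act 2 n80518 = n78202 := d15_3 (iv0 D78202) D78203 (iv7 F123776)
theorem F123780 : act 7 n78202 = n80517 := d4_2 (iv7 F123776) F123779 (iv2 F123778)
theorem F123781 : act 6 n80517 = n79816 := d3_2 (iv6 F119409) F123778 (iv2 F122543)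
def n80519 : Q := act 3 n36733
theorem D80519 : act 3 n36733 = n80519 := rfl
theorem F123782 : act 4 n80519 = n36749 := d5_2 D36733 D80519 (iv3 D36749) (iv4 D17717) (iv3 F28769)
theorem F123783 : act 7 n80519 = n78197 := d8_2 (iv7 F57609) D80519 F119406
def n80520 : Q := act 5 n36733
theorem D80520 : act 5 n36733 = n80520 := rfl
theorem F123785 : act 0 n80520 = n80501 := d17_2 (iv1 D80518) D80520 (iv5 D80501) F117818 F58664 F58667 D37834 (iv0 F117625) F123774
theorem F123786 : act 1 n80520 = n37829 := d17_6 (iv1 F121356) F28626 F121355 D17706 D36733 D80520 (iv5 D37829) D37828 F117812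
def n80521 : Q := act 6 n36733
theorem D80521 : act 6 n36733 = n80521 := rfl
theorem F123787 : act 4 n80521 = n36734 := d10_1 D80521 (iv6 D36734) D36733
theorem F123788 : act 7 n80521 = n55848 := d14_2 (iv7 F57609) D80521 (iv6 D55848) F43448 D35651
def n80522 : Q := act 1 n36734
theorem D80522 : act 1 n36734 = n80522 := rfl
theorem F123789 : act 1 n80522 = n55844 := d15_1 D80522 (iv7 F123734) F123731
theorem F123790 : act 7 n80522 = n55854 := d15_2 (iv0 F121362) D80522 F123738
theorem F123791 : act 5 n77061 = n80522 := d21_0 (iv1 D80522) F57611 (iv6 D36392) F121315 F55929 (iv5 D17079) F13769 D17086 (iv6 F55938) D77061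
theorem F123792 : act 6 n56202 = n80522 := d21_3 D37039 (iv1 F89432) (iv5 F122569) (iv1 D80522) (iv6 D36734) (iv5 D17706) D17702 F89239 (iv6 F121353) (iv1 F43965)
theorem F123793 : act 2 n80522 = n55853 := d2_1 F123791 F121376 (iv2 F121858)
def n80523 : Q := act 4 n36735
theorem D80523 : act 4 n36735 = n80523 := rfl
theorem F123794 : act 2 n80523 = n77163 := d1_1 D80523 F115927 (iv2 F121402)
theorem F123795 : act 6 n80523 = n77058 := d10_2 (iv6 F121404) D80523 (iv4 D77058)
def n80524 : Q := act 3 n36736
theorem D80524 : act 3 n36736 = n80524 := rfl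
theorem F123796 : act 6 n80524 = n79105 := d7_2 (iv6 F122564) D80524 F122571
theorem F123797 : act 7 n80524 = n77160 := d8_2 (iv7 F121406) D80524 F115926
def n80525 : Q := act 4 n36736
theorem D80525 : act 4 n36736 = n80525 := rfl
theorem F123798 : act 7 n80525 = n77163 := d11_2 (iv7 F121406) D80525 F115927
def n80526 : Q := act 2 n36738
theorem D80526 : act 2 n36738 = n80526 := rfl
def n80527 : Q := act 3 n36738
theorem D80527 : act 3 n36738 = n80527 := rfl
theorem F123800 : act 4 n80527 = n72178 := d20_6 F5415 D3742 D8334 D17711 D36738 D80527 (iv1 D72178) (iv4 D33318) (iv3 D16088) (iv1 D7512)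
def n80528 : Q := act 4 n36738
theorem D80528 : act 4 n36738 = n80528 := rfl
theorem F123801 : act 0 n80528 = n72061 := d20_1 D80528 (iv4 D72061) (iv3 D33276) (iv1 D16065) F11750 F5415 D3742 D8334 D17711 D36738
def n80529 : Q := act 5 n36738
theorem D80529 : act 5 n36738 = n80529 := rfl
def n80530 : Q := act 6 n36738
theorem D80530 : act 6 n36738 = n80530 := rfl
def n80531 : Q := act 7 n36738
theorem D80531 : act 7 n36738 = n80531 := rfl
def n80536 : Q := act 5 n36740
theorem D80536 : act 5 n36740 = n80536 := rfl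
theorem F123803 : act 2 n80536 = n36741 := d2_1 D80536 (iv5 D36741) D36740
theorem F123804 : act 3 n80536 = n71004 := d6_1 D80536 (iv5 D71004) (iv3 F57616)
theorem F123805 : act 7 n80536 = n71034 := d13_2 (iv7 F57617) D80536 (iv5 D71034)
theorem F123806 : act 1 n71041 = n80536 := d15_1 D71041 F123805 F107578
theorem F123807 : act 1 n80536 = n71040 := d15_0 (iv0 D71040) (iv7 F57622) (iv2 F123803)
def n80537 : Q := act 6 n36740
theorem D80537 : act 6 n36740 = n80537 := rfl
theorem F123808 : act 2 n80537 = n36742 := d3_1 D80537 (iv6 D36742) D36740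
theorem F123809 : act 3 n80537 = n71005 := d7_1 D80537 (iv6 D71005) (iv3 F57616)
def n80538 : Q := act 0 n36741
theorem D80538 : act 0 n36741 = n80538 := rfl
theorem F123810 : act 1 n71034 = n80538 := d15_0 (iv0 D80538) F57622 (iv2 F107578)
def n80539 : Q := act 1 n36741
theorem D80539 : act 1 n36741 = n80539 := rfl
theorem F123811 : act 1 n80539 = n71034 := d15_1 D80539 (iv7 F123805) F123803
def n80540 : Q := act 4 n36741
theorem D80540 : act 4 n36741 = n80540 := rfl
theorem F123812 : act 7 n80540 = n71042 := d11_2 (iv7 F57622) D80540 (iv4 D71042)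
def n80541 : Q := act 6 n36741
theorem D80541 : act 6 n36741 = n80541 := rfl
theorem F123813 : act 3 n80541 = n36745 := d7_1 D80541 (iv6 D36745) (iv3 F57621)
def n80542 : Q := act 0 n36742
theorem D80542 : act 0 n36742 = n80542 := rfl
def n80543 : Q := act 1 n36742
theorem D80543 : act 1 n36742 = n80543 := rfl
def n80544 : Q := act 3 n36743
theorem D80544 : act 3 n36743 = n80544 := rfl
theorem F123814 : act 5 n80544 = n39766 := d6_2 (iv5 F57626) D80544 F60603
theorem F123815 : act 6 n80544 = n71135 := d7_2 (iv6 F57628) D80544 (iv3 D71135)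
theorem F123816 : act 7 n80544 = n39765 := d8_2 (iv7 F57625) D80544 F60602
def n80545 : Q := act 4 n36743
theorem D80545 : act 4 n36743 = n80545 := rfl
theorem F123818 : act 5 n80545 = n71018 := d9_2 (iv5 F57626) D80545 (iv4 D71018) F52068 F30026 F13671 (iv4 F22098) D27884 D58625 F92603 (iv4 D39772) (iv5 D18807) F13686 D8815 (iv4 F30062)
theorem F123819 : act 6 n80545 = n71136 := d10_2 (iv6 F57628) D80545 (iv4 D71136)
theorem F123822 : act 1 n80545 = n54739 := d18_6 F30408 (iv4 D17968) F13691 (iv4 F30062) (iv5 F57626) D80545 (iv4 D54739) (iv0 F44915) (iv5 D27810)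
theorem E13280 : n71301 = n71136 := ((c21_4 (iv5 F52555) (iv1 F107568) (iv5 F123818) F123819 (iv1 D71301) (iv6 D32993) F25357 F25342 (iv5 D15871) (iv6 F25324) D32908)).symm
theorem F123823 : act 0 n71136 = n32993 := (sb E13280 (iv1 D71301))
def n80548 : Q := act 7 n36745
theorem D80548 : act 7 n36745 = n80548 := rfl
theorem F123829 : act 6 n80548 = n53899 := d14_1 D80548 F84981 F49954 F41753 D36745
theorem F123830 : act 1 n70178 = n80548 := d15_1 (iv0 F106623) (iv7 D80548) F57632
theorem F123831 : act 1 n80548 = n70182 := d15_1 F123830 (iv7 F115206) F115205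
def n80549 : Q := act 3 n36746
theorem D80549 : act 3 n36746 = n80549 := rfl
theorem F123832 : act 5 n80549 = n70095 := d6_2 (iv5 F57638) D80549 (iv3 D70095)
theorem F123833 : act 6 n80549 = n55585 := d7_2 F57636 D80549 (iv3 D55585)
theorem F123834 : act 7 n80549 = n70752 := d8_2 (iv7 F57634) D80549 F107220
def n80550 : Q := act 4 n36747
theorem D80550 : act 4 n36747 = n80550 := rfl
theorem F123835 : act 6 n80550 = n79457 := d10_2 F59704 D80550 F122022
def n80551 : Q := act 0 n36749
theorem D80551 : act 0 n36749 = n80551 := rfl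
theorem F123837 : act 1 n78243 = n80551 := d15_0 (iv0 D80551) F57650 (iv2 F119426)
def n80552 : Q := act 1 n36749
theorem D80552 : act 1 n36749 = n80552 := rfl
def n80553 : Q := act 2 n36749
theorem D80553 : act 2 n36749 = n80553 := rfl
theorem F123838 : act 7 n80553 = n78243 := d4_2 (iv7 F57650) D80553 F119426
theorem F123839 : act 1 n80553 = n78248 := d15_0 (iv0 D78248) (iv7 F57650) D80553
theorem F123840 : act 1 n80552 = n78243 := d15_1 D80552 (iv7 F123838) (iv2 D80553)
theorem F123841 : act 1 n78249 = n80553 := d15_1 D78249 F123838 F119426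
def n80554 : Q := act 3 n36758
theorem D80554 : act 3 n36758 = n80554 := rfl
theorem F123842 : act 7 n80554 = n45777 := d8_2 (iv7 F118863) D80554 F72263
def n80555 : Q := act 5 n36758
theorem D80555 : act 5 n36758 = n80555 := rfl
theorem F123843 : act 7 n80555 = n45781 := d13_2 (iv7 F118863) D80555 (iv5 D45781)
def n80556 : Q := act 3 n36761
theorem D80556 : act 3 n36761 = n80556 := rfl
def n80557 : Q := act 5 n36761
theorem D80557 : act 5 n36761 = n80557 := rfl
theorem F123844 : act 2 n80557 = n36767 := d2_1 D80557 (iv5 D36767) (iv2 F57655)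
def n80558 : Q := act 6 n36761
theorem D80558 : act 6 n36761 = n80558 := rfl
theorem F123845 : act 2 n80558 = n36768 := d3_1 D80558 (iv6 D36768) (iv2 F57655)
theorem F123846 : act 4 n80558 = n36763 := d10_1 D80558 (iv6 D36763) D36761
def n80559 : Q := act 4 n36762
theorem D80559 : act 4 n36762 = n80559 := rfl
theorem F123847 : act 2 n80559 = n36771 := d1_1 D80559 (iv4 D36771) (iv2 F57656)
theorem F123848 : act 6 n80559 = n40075 := d10_2 (iv6 F118828) D80559 (iv4 D40075)
theorem F123849 : act 0 n80559 = n40160 := d20_1 D80559 (iv4 F90493) F90492 (iv1 F44550) (iv3 F121144) D37936 (iv1 F118932) F72533 (iv3 F72529) F118842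
def n80560 : Q := act 0 n36763
theorem D80560 : act 0 n36763 = n80560 := rfl
theorem F123851 : act 5 n80560 = n78600 := d21_0 (iv1 F119768) F56473 (iv6 D18985) (iv1 F30229) (iv6 F118812) F118811 F118842 (iv5 D36762) D36763 D80560
theorem F123852 : act 2 n36772 = n80560 := d15_3 (iv0 D80560) F118872 (iv7 F119511)
theorem F123853 : act 7 n80560 = n36773 := d4_2 (iv7 F119511) F123852 F118865
theorem F123854 : act 1 n36775 = n80560 := d15_1 (iv0 F119034) F123853 F118865
def n80561 : Q := act 5 n36763
theorem D80561 : act 5 n36763 = n80561 := rfl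
theorem F123855 : act 2 n80561 = n36774 := d2_1 D80561 (iv5 D36774) (iv2 F57659)
theorem F123857 : act 6 n80561 = n40076 := d12_2 D36763 D80561 (iv5 D40076) (iv6 F118828) (iv5 D36762)
theorem F123858 : act 0 n80561 = n40212 := d21_1 D80561 (iv5 D40212) D40213 (iv1 F122396) (iv6 F118076) F118075 (iv1 F118540) (iv5 D35287) D35288 (iv1 F118872)
theorem F123859 : act 0 n40207 = n80561 := d21_1 D40207 (iv5 D80561) (iv6 D36763) (iv1 F118870) (iv6 D10443) (iv5 D4743) F3280 (iv5 F5918) D8894 D18986
def n80562 : Q := act 7 n36763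
theorem D80562 : act 7 n36763 = n80562 := rfl
theorem F123860 : act 2 n80562 = n36775 := d4_1 D80562 (iv7 D36775) (iv2 F57659)
theorem F123861 : act 6 n80562 = n79862 := d14_1 D80562 F122611 (iv6 D39993) F118852 D36763
theorem F123862 : act 1 n36773 = n80562 := d15_1 D36773 (iv7 D80562) F57659
theorem F123863 : act 1 n80562 = n36772 := d15_1 F123862 F119511 (iv2 F118865)
def n80563 : Q := act 3 n36765
theorem D80563 : act 3 n36765 = n80563 := rfl
theorem F123864 : act 4 n80563 = n56988 := d5_2 (iv4 F121230) D80563 F90068 F44249 (iv3 F44209)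
theorem F123865 : act 7 n80563 = n56917 := d8_2 (iv7 F121232) D80563 F89982
def n80564 : Q := act 5 n36765
theorem D80564 : act 5 n36765 = n80564 := rfl
theorem F123866 : act 7 n80564 = n56920 := d13_2 (iv7 F121232) D80564 (iv5 D56920)
def n80565 : Q := act 0 n36766
theorem D80565 : act 0 n36766 = n80565 := rfl
theorem F123867 : act 1 n71003 = n80565 := d15_0 (iv0 D80565) F57661 (iv2 F107553)
def n80566 : Q := act 1 n36766
theorem D80566 : act 1 n36766 = n80566 := rfl
def n80567 : Q := act 2 n36766
theorem D80567 : act 2 n36766 = n80567 := rfl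
theorem F123868 : act 4 n80567 = n36778 := d1_2 (iv4 F57660) D80567 (iv2 D36778)
theorem F123869 : act 7 n80567 = n71003 := d4_2 (iv7 F57661) D80567 F107553
theorem F123870 : act 1 n80567 = n71006 := d15_0 (iv0 D71006) (iv7 F57661) D80567
theorem F123871 : act 1 n80566 = n71003 := d15_1 D80566 (iv7 F123869) (iv2 D80567)
theorem F123872 : act 1 n70762 = n80567 := d15_1 (iv0 F110798) F123869 F107553
theorem F123873 : act 7 n71006 = n69818 := d15_2 F123872 F123870 (iv2 F107245)
def n80568 : Q := act 5 n36766
theorem D80568 : act 5 n36766 = n80568 := rfl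
theorem F123874 : act 3 n80568 = n36767 := d6_1 D80568 (iv5 D36767) D36766
theorem F123875 : act 7 n80568 = n71008 := d13_2 (iv7 F57661) D80568 (iv5 D71008)
def n80569 : Q := act 6 n36766
theorem D80569 : act 6 n36766 = n80569 := rfl
theorem F123876 : act 3 n80569 = n36768 := d7_1 D80569 (iv6 D36768) D36766
theorem F123877 : act 4 n80569 = n36780 := d10_1 D80569 (iv6 D36780) (iv4 F57660)
def n80570 : Q := act 0 n36767
theorem D80570 : act 0 n36767 = n80570 := rfl
def n80571 : Q := act 1 n36767
theorem D80571 : act 1 n36767 = n80571 := rfl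
theorem F123878 : act 5 n80571 = n40160 := d17_7 (iv1 F118841) (iv5 F118815) (iv1 D36770) (iv5 D17726) D17725 D36767 D80571 (iv0 F123849) (iv4 D80559)
def n80572 : Q := act 4 n36767
theorem D80572 : act 4 n36767 = n80572 := rfl
def n80573 : Q := act 6 n36767
theorem D80573 : act 6 n36767 = n80573 := rfl
def n80574 : Q := act 0 n36768
theorem D80574 : act 0 n36768 = n80574 := rfl
def n80575 : Q := act 1 n36768
theorem D80575 : act 1 n36768 = n80575 := rfl
theorem F123879 : act 4 n55484 = n80575 := d20_6 F41674 (iv1 F53263) F53262 (iv3 F121155) (iv1 D55498) (iv3 F87776) (iv1 D80575) F57662 F28834 D17732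
theorem F123880 : act 6 n80575 = n55482 := d10_2 D55484 F123879 (iv4 D55482)
theorem F123881 : act 2 n77292 = n80575 := d3_3 F123880 F115457 D77292
def n80576 : Q := act 5 n36768
theorem D80576 : act 5 n36768 = n80576 := rfl
def n80577 : Q := act 7 n36768
theorem D80577 : act 7 n36768 = n80577 := rfl
theorem F123882 : act 4 n80577 = n36775 := d11_1 D80577 (iv7 D36775) (iv4 F57662)
def n80578 : Q := act 4 n36769
theorem D80578 : act 4 n36769 = n80578 := rfl
theorem F123884 : act 2 n80578 = n40200 := d1_1 D80578 F61182 (iv2 F118809)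
theorem F123885 : act 6 n80578 = n40057 := d10_2 (iv6 F118812) D80578 (iv4 D40057)
def n80579 : Q := act 4 n36770
theorem D80579 : act 4 n36770 = n80579 := rfl
theorem F123886 : act 7 n80579 = n40200 := d11_2 (iv7 F118817) D80579 F61182
def n80580 : Q := act 0 n36771
theorem D80580 : act 0 n36771 = n80580 := rfl
def n80581 : Q := act 1 n36771
theorem D80581 : act 1 n36771 = n80581 := rfl
theorem F123887 : act 4 n80581 = n57802 := d18_7 (iv1 F44214) (iv4 F121230) (iv1 D36765) (iv4 D17725) D17726 D36771 D80581 (iv0 F117107) (iv5 D40579)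
theorem F123888 : act 6 n57801 = n80581 := d10_0 F123887 (iv6 D57802) D57801
theorem F123889 : act 7 n40160 = n80581 := d11_0 F123887 F90966 F90493
theorem F123890 : act 2 n40160 = n80580 := d15_3 (iv0 D80580) D80581 (iv7 F123889)
theorem F123891 : act 6 n80580 = n40049 := d3_2 D40160 F123890 (iv2 F60931)
def n80582 : Q := act 5 n36771
theorem D80582 : act 5 n36771 = n80582 := rfl
theorem F123892 : act 0 n80582 = n40574 := d17_2 (iv1 D80581) D80582 (iv5 D40574) F30793 F14058 F121277 D37393 F121175 (iv4 F123887)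
theorem F123893 : act 1 n80582 = n80564 := d17_6 F118850 F89728 (iv1 D17723) D17726 D36771 D80582 (iv5 D80564) (iv0 F118876) (iv4 D39991)
def n80583 : Q := act 3 n36772
theorem D80583 : act 3 n36772 = n80583 := rfl
theorem F123894 : act 5 n80583 = n45836 := d6_2 F119514 D80583 F121900
theorem F123895 : act 7 n80583 = n45882 := d8_2 (iv7 F119511) D80583 F72466
theorem F123896 : act 2 n45969 = n80583 := d4_3 F123895 (iv2 F114005) F121904
theorem F123897 : act 1 n45972 = n80583 := d15_1 F122151 F123895 (iv2 F114005)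
theorem E13281 : n45970 = n45882 := (c15_2 (iv0 D45969) D45970 (iv7 F123895) (iv2 F123896))
theorem F123898 : act 0 n45882 = n21968 := (sb E13281 (iv1 D45970))
theorem F123899 : act 1 n80583 = n45767 := d15_0 (iv0 F122150) F121904 F123896
theorem F123900 : act 6 n80583 = n46219 := d21_3 D21922 D45836 (iv5 F123894) (iv1 D46219) (iv6 D22111) D22110 D46213 F72875 (iv6 D45835) (iv1 D21921)
theorem F123901 : act 3 n46219 = n78307 := d7_1 F123900 (iv6 F119510) D80583
theorem F123902 : act 7 n46219 = n75665 := d14_2 (iv7 F123895) F123900 (iv6 D75665) (iv7 F113990) D45882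
theorem F123903 : act 4 n75671 = n46219 := d11_3 F123902 F113527 D75671
theorem E13282 : n46218 = n45886 := ((c15_4 (iv0 D46218) D46219 F123902 F114007)).symm
theorem F123904 : act 1 n45886 = n22111 := (sb E13282 (iv0 D46218))
theorem F123905 : act 1 n37715 = n75671 := d17_8 (iv1 D46219) F63823 (iv1 D41392) (iv5 D19495) F14308 D18351 D38518 (iv5 F117878) F123903
theorem F123906 : act 1 n75339 = n37715 := d15_0 F123905 (iv7 D75671) (iv2 F113998)
theorem F123907 : act 5 n78305 = n46219 := d6_0 F123901 (iv5 D78307) D78305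
def n80584 : Q := act 4 n36772
theorem D80584 : act 4 n36772 = n80584 := rfl
def n80585 : Q := act 4 n36773
theorem D80585 : act 4 n36773 = n80585 := rfl
theorem F123910 : act 6 n80585 = n77273 := d10_2 (iv6 F118867) D80585 (iv4 D77273)
def n80586 : Q := act 0 n36774
theorem D80586 : act 0 n36774 = n80586 := rfl
theorem F123911 : act 5 n80586 = n39979 := d21_2 D36774 D80586 F119053 (iv1 F122398) F122395 F61107 (iv1 F118528) (iv5 D77274) (iv6 F118867) (iv1 D36773)
theorem F123912 : act 3 n79319 = n80586 := d6_3 F123911 F121714 D79319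
theorem F123913 : act 6 n42872 = n80586 := d21_5 F28577 F17517 D9574 D20253 D42872 F123911 (iv1 D39979) (iv5 F56467) (iv6 D35806) (iv1 F28575)
def n80587 : Q := act 1 n36774
theorem D80587 : act 1 n36774 = n80587 := rfl
theorem F123914 : act 5 n39978 = n80587 := d21_0 (iv1 D80587) (iv5 D36774) (iv6 D17727) (iv1 F118838) (iv6 D8867) (iv5 D3955) D3952 D8864 D18907 D39978
theorem F123915 : act 6 n80587 = n79870 := d21_3 F56467 D39978 F123914 (iv1 D79870) (iv6 D36384) D36383 (iv1 F119033) (iv5 F118535) (iv6 F118544) F116111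
theorem F123916 : act 5 n79973 = n79870 := d12_5 (iv6 F123915) (iv5 F123914) F119486 F119485 D79973
def n80588 : Q := act 4 n36774
theorem D80588 : act 4 n36774 = n80588 := rfl
theorem F123917 : act 6 n80588 = n55827 := d10_2 (iv6 F57665) D80588 (iv4 D55827)
def n80589 : Q := act 7 n36774
theorem D80589 : act 7 n36774 = n80589 := rfl
theorem F123918 : act 3 n80589 = n36787 := d8_1 D80589 (iv7 D36787) (iv3 F57664)
theorem F123919 : act 5 n80589 = n36775 := d13_1 D80589 (iv7 D36775) D36774
theorem F123920 : act 6 n80589 = n56270 := d14_1 D80589 F88999 (iv6 D35698) (iv7 F43433) (iv6 F57665)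
theorem F123921 : act 1 n40207 = n80589 := d15_1 (iv0 F123859) (iv7 D80589) (iv2 F123855)
theorem F123922 : act 0 n40212 = n80589 := d21_1 D40212 F123919 F57667 (iv1 F119033) (iv6 D77308) (iv5 D35287) (iv1 F56005) F56002 (iv6 F60850) (iv1 F60852)
def n80590 : Q := act 2 n36776
theorem D80590 : act 2 n36776 = n80590 := rfl
theorem F123923 : act 7 n36777 = n80590 := d15_2 (iv0 D36776) D36777 (iv2 D80590)
def n80591 : Q := act 3 n36776
theorem D80591 : act 3 n36776 = n80591 := rfl
theorem F123924 : act 4 n80591 = n72149 := d20_6 F21032 (iv1 F9624) D8339 D17728 D36776 D80591 (iv1 D72149) (iv4 D33306) (iv3 D16083) (iv1 F21036)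
def n80595 : Q := act 7 n36776
theorem D80595 : act 7 n36776 = n80595 := rfl
theorem F123925 : act 2 n80595 = n36777 := d4_1 D80595 F123923 (iv2 D80590)
def n80596 : Q := act 3 n36777
theorem D80596 : act 3 n36777 = n80596 := rfl
theorem F123926 : act 4 n72042 = n80596 := d20_2 D33272 D72042 (iv3 D80596) (iv1 D36777) (iv3 D17728) (iv4 D8339) (iv1 D3743) (iv4 F5415) (iv3 F11750) D16064
theorem F123927 : act 4 n72058 = n71036 := d20_0 (iv1 F123753) F123751 F57616 (iv1 F57672) D80596 (iv4 F123926) (iv1 F108518) (iv4 D33277) D33276 D72058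
def n80597 : Q := act 4 n36777
theorem D80597 : act 4 n36777 = n80597 := rfl
def n80598 : Q := act 5 n36777
theorem D80598 : act 5 n36777 = n80598 := rfl
def n80599 : Q := act 6 n36777
theorem D80599 : act 6 n36777 = n80599 := rfl
def n80600 : Q := act 5 n36778
theorem D80600 : act 5 n36778 = n80600 := rfl
theorem F123928 : act 2 n80600 = n36779 := d2_1 D80600 (iv5 D36779) D36778
theorem F123929 : act 3 n80600 = n71034 := d6_1 D80600 (iv5 D71034) (iv3 F57669)
theorem F123930 : act 7 n80600 = n71004 := d13_2 (iv7 F57670) D80600 (iv5 D71004)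
theorem F123931 : act 1 n71011 = n80600 := d15_1 D71011 F123930 F107554
theorem F123932 : act 1 n80600 = n71010 := d15_0 (iv0 D71010) (iv7 F57675) (iv2 F123928)
def n80601 : Q := act 6 n36778
theorem D80601 : act 6 n36778 = n80601 := rfl
theorem F123933 : act 2 n80601 = n36780 := d3_1 D80601 (iv6 D36780) D36778
theorem F123934 : act 3 n80601 = n71035 := d7_1 D80601 (iv6 D71035) (iv3 F57669)
def n80602 : Q := act 0 n36779
theorem D80602 : act 0 n36779 = n80602 := rfl
theorem F123935 : act 1 n71004 = n80602 := d15_0 (iv0 D80602) F57675 (iv2 F107554)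
def n80603 : Q := act 1 n36779
theorem D80603 : act 1 n36779 = n80603 := rfl
theorem F123936 : act 1 n80603 = n71004 := d15_1 D80603 (iv7 F123930) F123928
def n80604 : Q := act 4 n36779
theorem D80604 : act 4 n36779 = n80604 := rfl
theorem F123937 : act 7 n80604 = n71012 := d11_2 (iv7 F57675) D80604 (iv4 D71012)
def n80605 : Q := act 6 n36779
theorem D80605 : act 6 n36779 = n80605 := rfl
theorem F123938 : act 3 n80605 = n36782 := d7_1 D80605 (iv6 D36782) (iv3 F57674)
theorem F123939 : act 7 n68073 = n80605 := d8_0 F123938 (iv7 F57682) D68073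
def n80606 : Q := act 0 n36780
theorem D80606 : act 0 n36780 = n80606 := rfl
def n80607 : Q := act 1 n36780
theorem D80607 : act 1 n36780 = n80607 := rfl
def n80608 : Q := act 7 n36780
theorem D80608 : act 7 n36780 = n80608 := rfl
theorem F123940 : act 3 n80608 = n36784 := d8_1 D80608 (iv7 D36784) (iv3 F57676)
theorem F123941 : act 6 n80608 = n71016 := d14_1 D80608 (iv7 D71016) (iv6 D32886) (iv7 F41749) D36780
def n80610 : Q := act 3 n36783
theorem D80610 : act 3 n36783 = n80610 := rfl
theorem F123944 : act 5 n80610 = n48931 := d6_2 (iv5 F57683) D80610 (iv3 D48931)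
theorem F123945 : act 6 n80610 = n70816 := d7_2 (iv6 F57685) D80610 (iv3 D70816)
theorem F123946 : act 7 n80610 = n55582 := d8_2 (iv7 F57687) D80610 F87899
def n80611 : Q := act 3 n36786
theorem D80611 : act 3 n36786 = n80611 := rfl
theorem F123947 : act 6 n80611 = n55831 := d7_2 (iv6 F57697) D80611 (iv3 D55831)
def n80612 : Q := act 5 n36786
theorem D80612 : act 5 n36786 = n80612 := rfl
theorem F123948 : act 2 n80612 = n78271 := d2_1 D80612 (iv5 D78271) (iv2 F57696)
theorem F123949 : act 4 n80612 = n73862 := d16_2 D36786 D80612 (iv5 D73862) F53274 (iv5 F52087) F52086 F53255 F53254 (iv2 F28839)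
theorem F123950 : act 0 n80612 = n58685 := d17_2 (iv1 F57699) D80612 (iv5 D58685) (iv4 D27903) (iv5 F43217) F43220 (iv5 F29707) (iv0 F29713) D18834
theorem F123951 : act 1 n80612 = n58693 := d17_6 (iv1 F28286) (iv5 F28744) F30417 D17734 D36786 D80612 (iv5 D58693) F56309 F56307
def n80613 : Q := act 5 n36788
theorem D80613 : act 5 n36788 = n80613 := rfl
theorem F123952 : act 2 n80613 = n38228 := d2_1 D80613 (iv5 D38228) (iv2 F116646)
theorem F123954 : act 7 n80613 = n38773 := d13_2 (iv7 F116650) D80613 (iv5 D38773)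
theorem F123955 : act 0 n80613 = n38781 := d21_1 D80613 F123058 (iv6 D37989) (iv1 D18188) (iv6 D8577) (iv5 D3847) F5823 D8343 D17736 D36788
theorem F123956 : act 1 n38228 = n38396 := d15_0 F118402 (iv7 F123954) F123952
theorem F123957 : act 1 n80613 = n38780 := d15_0 (iv0 D38780) (iv7 F59095) (iv2 F123952)
def n80614 : Q := act 2 n36791
theorem D80614 : act 2 n36791 = n80614 := rfl
theorem F123958 : act 7 n36792 = n80614 := d15_2 (iv0 D36791) D36792 (iv2 D80614)
def n80615 : Q := act 3 n36791
theorem D80615 : act 3 n36791 = n80615 := rfl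
def n80616 : Q := act 4 n36791
theorem D80616 : act 4 n36791 = n80616 := rfl
def n80617 : Q := act 5 n36791
theorem D80617 : act 5 n36791 = n80617 := rfl
def n80618 : Q := act 6 n36791
theorem D80618 : act 6 n36791 = n80618 := rfl
theorem F123959 : act 5 n80618 = n79583 := d21_6 F27494 (iv1 F13159) D8355 D17737 D36791 D80618 (iv1 D79583) F56963 (iv6 D18183) (iv1 F27496)
theorem F123960 : act 4 n77551 = n80618 := d17_4 (iv1 F57413) (iv5 F116185) (iv1 F123256) (iv5 F123257) F123959 F122225 F120439 F58806 F117074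
theorem E13283 : n80616 = n35404 := (c10_4 D77551 F123960 (iv6 D80618) D80616)
theorem E13284 : n77549 = n36791 := ((D77549).symm.trans (sb E13283 (iv4 D80616)))
theorem F123961 : act 4 n36791 = n35404 := (sb E13284 (iv4 D77549))
theorem F123962 : act 4 n77547 = n80614 := d1_2 F123961 D77547 (iv2 D80614)
theorem F123963 : act 4 n77597 = n79614 := d18_7 D36791 F123961 (iv1 F88720) F88716 (iv5 F56259) (iv4 F119187) F119190 (iv0 D79614) F56996
theorem F123964 : act 7 n79614 = n38846 := d11_2 (iv7 F123558) F123963 (iv4 F119184)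
theorem F123965 : act 3 n79614 = n37803 := d20_3 D35420 D77597 F123963 (iv1 F58653) F29637 D18813 (iv1 F45067) F45068 (iv3 F91262) (iv1 D35419)
theorem E13285 : n77554 = n36792 := ((c11_3 F116429 F123962 (iv7 F123958) (iv4 D77554))).symm
theorem F123966 : act 4 n36792 = n35405 := (sb E13285 (iv4 D77554))
def n80619 : Q := act 7 n36791
theorem D80619 : act 7 n36791 = n80619 := rfl
theorem F123967 : act 2 n80619 = n36792 := d4_1 D80619 F123958 (iv2 D80614)
theorem F123968 : act 4 n80619 = n77552 := d11_1 D80619 (iv7 D77552) (iv4 F123961)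
def n80621 : Q := act 5 n36792
theorem D80621 : act 5 n36792 = n80621 := rfl
def n80622 : Q := act 6 n36792
theorem D80622 : act 6 n36792 = n80622 := rfl
theorem F123969 : act 4 n80622 = n77556 := d10_1 D80622 (iv6 D77556) (iv4 F123966)
def n80623 : Q := act 3 n36794
theorem D80623 : act 3 n36794 = n80623 := rfl
theorem F123970 : act 4 n80623 = n40569 := d20_6 (iv4 D8192) F13415 D8363 D17738 D36794 D80623 (iv1 D40569) (iv4 F56761) (iv3 D36008) (iv1 D17433)
def n80624 : Q := act 5 n36794
theorem D80624 : act 5 n36794 = n80624 := rfl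
theorem F123971 : act 2 n80624 = n77697 := d2_1 D80624 (iv5 F122989) F113275
theorem F123972 : act 7 n80624 = n77696 := d13_2 (iv7 F113273) D80624 F116575
theorem F123973 : act 1 n80624 = n55643 := d17_6 (iv1 D22727) (iv5 F29285) D37786 F122975 F86435 D80624 (iv5 D55643) (iv0 F74511) (iv4 D47262)
theorem F123974 : act 4 n80624 = n60178 := d18_5 F122964 F64333 D41702 F86435 D80624 F94736 F59129 D40046 F122970
theorem F123975 : act 2 n60178 = n78045 := d1_1 F123974 F119234 (iv2 F123971)
theorem F123976 : act 7 n60178 = n78044 := d11_2 (iv7 F123972) F123974 F119232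
theorem F123977 : act 2 n78044 = n60177 := d15_3 (iv0 D60177) D60178 F123976
theorem F123978 : act 7 n78045 = n60177 := d4_2 (iv7 F123976) F123975 (iv2 F123977)
theorem F123979 : act 1 n73397 = n80624 := d15_0 F123973 F88033 (iv2 F110091)
theorem F123980 : act 5 n56411 = n57281 := d17_1 D56411 (iv1 F90362) (iv5 F87045) F87044 D73397 F123979 (iv5 D80624) (iv0 D36794) (iv4 F43911)
def n80626 : Q := act 3 n36795
theorem D80626 : act 3 n36795 = n80626 := rfl
theorem F123981 : act 4 n80626 = n75577 := d20_6 (iv4 D15953) (iv1 F21009) D26435 D54656 (iv1 F86432) D80626 (iv1 D75577) F56788 (iv3 F56787) (iv1 D33075)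
def n80627 : Q := act 5 n36795
theorem D80627 : act 5 n36795 = n80627 := rfl
theorem F123983 : act 7 n80627 = n77697 := d13_2 F113267 D80627 (iv5 F122989)
theorem F123984 : act 0 n80627 = n55643 := d17_2 (iv1 F86432) D80627 (iv5 D55643) F43320 D35372 (iv0 F90358) (iv5 F115015) F89273 (iv4 F86430)
theorem F123986 : act 4 n80627 = n60177 := d18_5 F122981 F120402 (iv1 F112933) (iv4 F86433) D80627 (iv0 D60177) (iv4 F77280) F77284 (iv5 F122984)
def n80633 : Q := act 3 n36797
theorem D80633 : act 3 n36797 = n80633 := rfl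
theorem F123989 : act 4 n80633 = n37625 := d5_2 F57714 D80633 (iv3 D37625) (iv4 D18040) D18039
theorem F123990 : act 7 n80633 = n36893 := d8_2 (iv7 F117551) D80633 (iv3 D36893)
def n80635 : Q := act 6 n36797
theorem D80635 : act 6 n36797 = n80635 := rfl
theorem F123993 : act 2 n80635 = n36891 := d3_1 D80635 (iv6 D36891) (iv2 F117550)
theorem F123995 : act 5 n80635 = n55720 := d21_6 D26894 F43387 F28724 D17739 D36797 D80635 (iv1 D55720) (iv5 D26901) (iv6 D12874) D12871
def n80636 : Q := act 3 n36798
theorem D80636 : act 3 n36798 = n80636 := rfl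
theorem F123997 : act 7 n80636 = n36888 := d8_2 (iv7 F117553) D80636 (iv3 D36888)
def n80637 : Q := act 5 n36798
theorem D80637 : act 5 n36798 = n80637 := rfl
theorem F123998 : act 2 n80637 = n36895 := d2_1 D80637 (iv5 D36895) (iv2 F117552)
theorem F123999 : act 7 n80637 = n36890 := d13_2 (iv7 F117553) D80637 (iv5 D36890)
def n80638 : Q := act 6 n36798
theorem D80638 : act 6 n36798 = n80638 := rfl
def n80639 : Q := act 0 n36799
theorem D80639 : act 0 n36799 = n80639 := rfl
def n80641 : Q := act 7 n36799
theorem D80641 : act 7 n36799 = n80641 := rfl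
theorem F124002 : act 2 n80641 = n36900 := d4_1 D80641 (iv7 D36900) (iv2 F57709)
theorem F124003 : act 5 n80641 = n36800 := d13_1 D80641 (iv7 D36800) D36799
theorem F124004 : act 1 n36900 = n80639 := d15_0 (iv0 D80639) D80641 F124002
theorem F124005 : act 1 n36898 = n80641 := d15_1 D36898 (iv7 D80641) F57709
theorem F124006 : act 7 n80639 = n36898 := d15_2 F122017 F124004 (iv2 F122014)
theorem F124007 : act 2 n80639 = n36897 := d15_3 (iv0 D36897) D36898 (iv7 F124006)
theorem F124008 : act 7 n36897 = n79447 := d4_2 (iv7 F124006) F124007 F122014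
theorem F124009 : act 5 n79448 = n36897 := d13_3 F124008 (iv5 D79447) D79448
theorem F124010 : act 1 n80641 = n36897 := d15_1 F124005 F124008 F122014
def n80642 : Q := act 0 n36803
theorem D80642 : act 0 n36803 = n80642 := rfl
theorem F124011 : act 4 n80642 = n37966 := d20_2 D36803 D80642 (iv3 F61704) (iv1 F61706) (iv3 F120699) F118199 (iv1 D56414) F43914 F21648 D17740
def n80643 : Q := act 3 n36803
theorem D80643 : act 3 n36803 = n80643 := rfl
theorem F124016 : act 4 n80643 = n46209 := d5_2 D36803 D80643 (iv3 D46209) (iv4 D22109) (iv3 F118305)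
def n80644 : Q := act 5 n36803
theorem D80644 : act 5 n36803 = n80644 := rfl
theorem F124018 : act 2 n80644 = n36917 := d2_1 D80644 (iv5 D36917) (iv2 F118173)
theorem F124019 : act 7 n80644 = n36937 := d13_2 (iv7 F118174) D80644 (iv5 D36937)
def n80645 : Q := act 6 n36803
theorem D80645 : act 6 n36803 = n80645 := rfl
theorem F124021 : act 4 n80645 = n36805 := d10_1 D80645 (iv6 D36805) D36803
def n80646 : Q := act 1 n36804
theorem D80646 : act 1 n36804 = n80646 := rfl
theorem F124024 : act 5 n79245 = n80646 := d21_0 (iv1 D80646) (iv5 D36804) D36805 F122165 (iv6 D35304) F55983 (iv1 F118512) (iv5 F121602) F121603 (iv1 F120542)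
def n80647 : Q := act 4 n36804
theorem D80647 : act 4 n36804 = n80647 := rfl
theorem F124028 : act 2 n80647 = n36922 := d1_1 D80647 (iv4 D36922) (iv2 F118175)
theorem F124029 : act 7 n80647 = n36939 := d11_2 (iv7 F118176) D80647 (iv4 D36939)
def n80648 : Q := act 6 n36804
theorem D80648 : act 6 n36804 = n80648 := rfl
theorem F124032 : act 5 n80648 = n55770 := d12_1 D80648 (iv6 D55770) (iv5 F57717) (iv6 D36805) D36804
def n80649 : Q := act 1 n36805
theorem D80649 : act 1 n36805 = n80649 := rfl
theorem F124036 : act 6 n79148 = n80649 := d21_3 D26885 D55680 (iv5 F120429) (iv1 D80649) (iv6 D36805) D36804 (iv1 F121742) F89437 (iv6 D40294) F121725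
theorem F124038 : act 3 n80649 = n77453 := d7_1 F124036 (iv6 F116487) (iv3 F120428)
def n80650 : Q := act 5 n36807
theorem D80650 : act 5 n36807 = n80650 := rfl
theorem F124039 : act 2 n80650 = n46226 := d2_1 D80650 (iv5 D46226) (iv2 F118317)
theorem F124040 : act 3 n80650 = n36809 := d6_1 D80650 (iv5 D36809) D36807
theorem F124041 : act 7 n80650 = n36911 := d13_2 (iv7 F118164) D80650 (iv5 D36911)
theorem F124042 : act 6 n36944 = n80650 := d7_0 F124040 (iv6 F57720) D36944
theorem F124043 : act 0 n40683 = n36944 := d21_4 (iv5 D10370) (iv1 F17427) D19203 (iv6 F61789) F124042 (iv5 D80650) F120975 D44892 F70533 F33652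
def n80651 : Q := act 6 n36807
theorem D80651 : act 6 n36807 = n80651 := rfl
theorem F124044 : act 2 n80651 = n46227 := d3_1 D80651 (iv6 D46227) (iv2 F118317)
theorem F124045 : act 3 n80651 = n36810 := d7_1 D80651 (iv6 D36810) D36807
theorem F124046 : act 4 n80651 = n45239 := d10_1 D80651 (iv6 D45239) (iv4 F57719)
theorem E13286 : n76010 = n45239 := ((c20_7 (iv4 F52384) (iv1 F52386) (iv4 F28971) (iv3 F55982) (iv1 F118512) (iv3 F124045) F124046 (iv1 D76010) (iv4 D34733) F27574 D16828)).symm
theorem F124047 : act 0 n45239 = n34733 := (sb E13286 (iv1 D76010))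
theorem F124048 : act 0 n80651 = n79105 := d17_0 (iv5 D79105) (iv1 F61601) F61585 (iv4 F59760) D39544 F113893 (iv5 D76012) (iv0 F124047) (iv4 F124046)
theorem F124049 : act 1 n80651 = n79107 := d18_8 (iv1 D36001) (iv4 F33969) F59814 (iv4 D16818) D16819 D34733 (iv0 F124047) (iv4 F124046) (iv5 D79107)
def n80652 : Q := act 3 n36808
theorem D80652 : act 3 n36808 = n80652 := rfl
theorem F124050 : act 4 n80652 = n45237 := d5_2 D36808 D80652 (iv3 D45237) (iv4 F57719) (iv3 D36807)
theorem F124051 : act 7 n80652 = n36916 := d8_2 (iv7 F118166) D80652 (iv3 D36916)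
def n80654 : Q := act 6 n36808
theorem D80654 : act 6 n36808 = n80654 := rfl
theorem F124054 : act 2 n80654 = n36938 := d3_1 D80654 (iv6 D36938) (iv2 F118165)
theorem F124055 : act 4 n80654 = n36810 := d10_1 D80654 (iv6 D36810) D36808
theorem F124056 : act 1 n80654 = n79174 := d15_0 (iv0 F122167) F122166 (iv2 F124054)
def n80656 : Q := act 4 n36811
theorem D80656 : act 4 n36811 = n80656 := rfl
theorem F124060 : act 2 n80656 = n36945 := d1_1 D80656 (iv4 D36945) (iv2 F118159)
theorem F124061 : act 6 n80656 = n36939 := d10_2 (iv6 F57721) D80656 (iv4 D36939)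
theorem F124062 : act 7 n80656 = n36949 := d11_2 (iv7 F118160) D80656 (iv4 D36949)
def n80657 : Q := act 0 n36812
theorem D80657 : act 0 n36812 = n80657 := rfl
def n80658 : Q := act 1 n36812
theorem D80658 : act 1 n36812 = n80658 := rfl
theorem F124064 : act 1 n80658 = n36955 := d15_1 D80658 (iv7 D36955) (iv2 F57722)
def n80661 : Q := act 7 n36812
theorem D80661 : act 7 n36812 = n80661 := rfl
theorem F124067 : act 2 n80661 = n36955 := d4_1 D80661 (iv7 D36955) (iv2 F57722)
theorem F124068 : act 4 n80661 = n36813 := d11_1 D80661 (iv7 D36813) D36812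
theorem F124070 : act 1 n36955 = n80657 := d15_0 (iv0 D80657) D80661 F124067
theorem F124071 : act 1 n36952 = n80661 := d15_1 D36952 (iv7 D80661) F57722
theorem F124072 : act 4 n80657 = n37653 := d18_7 F120706 F57714 (iv1 F57712) F28907 (iv5 F28912) (iv4 F57867) F124070 (iv0 F120982) (iv5 D37965)
theorem F124073 : act 7 n36952 = n80657 := d11_0 F124072 F121018 F121019
theorem F124074 : act 2 n80657 = n36951 := d15_3 (iv0 D36951) D36952 F124073
theorem F124075 : act 2 n36952 = n80658 := d15_3 F124064 F124070 (iv7 F124073)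
theorem F124076 : act 7 n80658 = n36951 := d4_2 (iv7 F124073) F124075 (iv2 F124074)
theorem F124077 : act 1 n80661 = n36951 := d15_1 F124071 (iv7 F124076) (iv2 F124075)
theorem F124078 : act 4 n36951 = n57072 := d18_7 D27365 (iv4 F120943) (iv1 F57715) F57711 (iv5 F57725) (iv4 F124068) F124077 (iv0 D57072) (iv5 D27367)
theorem F124079 : act 4 n56501 = n57187 := d20_6 (iv4 F124078) (iv1 F124077) F124068 (iv3 F89290) (iv1 F89294) D56501 (iv1 D57187) (iv4 D27400) (iv3 F44258) D57072
theorem F124080 : act 0 n57099 = n56501 := d18_0 F124079 (iv1 D57187) (iv4 D27400) (iv5 D13121) (iv4 F21887) D27385 (iv4 F120723) (iv0 F120759) (iv5 F90144)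
theorem F124081 : act 1 n56962 = n56501 := d15_0 (iv0 F124080) (iv7 D57099) (iv2 F90042)
def n80667 : Q := act 5 n36816
theorem D80667 : act 5 n36816 = n80667 := rfl
theorem F124090 : act 3 n80667 = n77056 := d6_1 D80667 (iv5 D77056) (iv3 F117056)
theorem F124091 : act 7 n80667 = n77159 := d13_2 (iv7 F117057) D80667 (iv5 D77159)
def n80668 : Q := act 5 n36817
theorem D80668 : act 5 n36817 = n80668 := rfl
theorem F124092 : act 2 n80668 = n77159 := d2_1 D80668 (iv5 D77159) (iv2 F117059)
def n80669 : Q := act 6 n36817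
theorem D80669 : act 6 n36817 = n80669 := rfl
theorem F124093 : act 2 n80669 = n77160 := d3_1 D80669 (iv6 D77160) (iv2 F117059)
def n80670 : Q := act 0 n36819
theorem D80670 : act 0 n36819 = n80670 := rfl
theorem F124094 : act 1 n57054 = n80670 := d15_0 (iv0 D80670) F57737 D57054
def n80671 : Q := act 1 n36819
theorem D80671 : act 1 n36819 = n80671 := rfl
def n80672 : Q := act 2 n36819
theorem D80672 : act 2 n36819 = n80672 := rfl
theorem F124095 : act 3 n80672 = n76605 := d0_2 D36819 D80672 (iv2 F114878) (iv3 D36008) F28861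
theorem F124096 : act 4 n80672 = n55407 := d1_2 (iv4 F57736) D80672 (iv2 D55407)
theorem F124097 : act 7 n80672 = n57054 := d4_2 (iv7 F57737) D80672 (iv2 D57054)
theorem F124098 : act 1 n80672 = n57052 := d15_0 (iv0 D57052) (iv7 F57737) D80672
theorem F124099 : act 1 n80671 = n57054 := d15_1 D80671 (iv7 F124097) (iv2 D80672)
theorem F124100 : act 1 n57053 = n80672 := d15_1 D57053 F124097 (iv2 D57054)
theorem F124101 : act 5 n77629 = n57053 := d17_7 (iv1 F87703) D57107 F94771 (iv5 D57216) (iv4 F56830) (iv5 F120408) F123324 F124100 F124096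
def n80675 : Q := act 6 n36821
theorem D80675 : act 6 n36821 = n80675 := rfl
theorem F124105 : act 3 n80675 = n36822 := d7_1 D80675 (iv6 D36822) D36821
def n80677 : Q := act 3 n36823
theorem D80677 : act 3 n36823 = n80677 := rfl
theorem F124108 : act 2 n80677 = n41686 := d0_1 D80677 (iv3 D41686) F31395 (iv3 F51939) F57747
theorem F124109 : act 4 n80677 = n41704 := d5_2 F106218 D80677 F64351 F59379 (iv3 F106217)
theorem F124110 : act 5 n80677 = n70754 := d6_2 (iv5 F57746) D80677 (iv3 D70754)
def n80678 : Q := act 6 n36823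
theorem D80678 : act 6 n36823 = n80678 := rfl
theorem F124112 : act 2 n80678 = n70763 := d3_1 D80678 (iv6 D70763) F57747
def n80679 : Q := act 6 n36824
theorem D80679 : act 6 n36824 = n80679 := rfl
theorem F124113 : act 2 n80679 = n36825 := d3_1 D80679 (iv6 D36825) D36824
theorem F124114 : act 3 n80679 = n79160 := d7_1 D80679 (iv6 D79160) (iv3 F57749)
def n80680 : Q := act 0 n36825
theorem D80680 : act 0 n36825 = n80680 := rfl
def n80681 : Q := act 1 n36825
theorem D80681 : act 1 n36825 = n80681 := rfl
def n80682 : Q := act 5 n36825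
theorem D80682 : act 5 n36825 = n80682 := rfl
def n80683 : Q := act 7 n36825
theorem D80683 : act 7 n36825 = n80683 := rfl
theorem F124116 : act 3 n80683 = n36831 := d8_1 D80683 (iv7 D36831) (iv3 F57754)
def n80684 : Q := act 3 n36826
theorem D80684 : act 3 n36826 = n80684 := rfl
theorem F124118 : act 5 n80684 = n40120 := d6_2 (iv5 F57757) D80684 F61011
theorem F124119 : act 7 n80684 = n40117 := d8_2 (iv7 F57756) D80684 F61008
theorem F124120 : act 0 n80684 = n40119 := d20_4 (iv4 F28697) (iv1 F57357) (iv4 F57758) D80684 F61009 F55552 (iv1 F55269) (iv4 D33772) F25844 D17481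
theorem F124121 : act 0 n40043 = n80684 := d20_4 F30238 F16316 (iv4 F30225) D40043 (iv3 D80684) F57758 (iv1 D36516) F28675 (iv3 F28477) D18937
theorem F124122 : act 2 n80684 = n40118 := d15_3 F108043 (iv0 F108045) (iv7 F124119)
def n80685 : Q := act 6 n36826
theorem D80685 : act 6 n36826 = n80685 := rfl
def n80686 : Q := act 0 n36827
theorem D80686 : act 0 n36827 = n80686 := rfl
def n80687 : Q := act 1 n36827
theorem D80687 : act 1 n36827 = n80687 := rfl
theorem F124125 : act 1 n80687 = n79171 := d15_1 D80687 (iv7 D79171) (iv2 F57760)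
def n80688 : Q := act 5 n36827
theorem D80688 : act 5 n36827 = n80688 := rfl
def n80689 : Q := act 7 n36827
theorem D80689 : act 7 n36827 = n80689 := rfl
theorem F124128 : act 2 n80689 = n79171 := d4_1 D80689 (iv7 D79171) (iv2 F57760)
theorem F124129 : act 3 n80689 = n78293 := d8_1 D80689 F119490 F60243
theorem F124130 : act 4 n80689 = n77695 := d11_1 D80689 (iv7 D77695) (iv4 F57761)
theorem F124132 : act 1 n79171 = n80686 := d15_0 (iv0 D80686) D80689 F124128
theorem F124133 : act 1 n79169 = n80689 := d15_1 D79169 (iv7 D80689) F57760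
theorem F124134 : act 4 n79417 = n80266 := d20_0 (iv1 F123356) (iv4 F124130) F124129 (iv1 D78293) (iv3 D35692) (iv4 D17299) F118793 (iv4 F30247) (iv3 F56894) D79417
theorem F124135 : act 1 n80689 = n79168 := d15_0 (iv0 D79168) D79171 (iv2 F124128)
def n80691 : Q := act 5 n36828
theorem D80691 : act 5 n36828 = n80691 := rfl
theorem F124137 : act 2 n80691 = n79173 := d2_1 D80691 (iv5 D79173) (iv2 F115467)
def n80693 : Q := act 3 n36829
theorem D80693 : act 3 n36829 = n80693 := rfl
def n80694 : Q := act 5 n36829
theorem D80694 : act 5 n36829 = n80694 := rfl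
theorem F124144 : act 7 n80694 = n79173 := d13_2 (iv7 F115469) D80694 (iv5 D79173)
def n80695 : Q := act 6 n36829
theorem D80695 : act 6 n36829 = n80695 := rfl
def n80697 : Q := act 1 n36830
theorem D80697 : act 1 n36830 = n80697 := rfl
theorem F124147 : act 5 n79344 = n80697 := d21_6 (iv5 F56840) (iv1 F56842) (iv5 D17469) D17470 D36121 D79344 (iv1 D80697) (iv5 D36830) (iv6 D17750) D17746
def n80699 : Q := act 7 n36830
theorem D80699 : act 7 n36830 = n80699 := rfl
theorem F124149 : act 2 n80699 = n79181 := d4_1 D80699 (iv7 D79181) (iv2 F57763)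
theorem F124150 : act 5 n80699 = n36831 := d13_1 D80699 (iv7 D36831) D36830
theorem F124153 : act 1 n80699 = n79178 := d15_0 (iv0 D79178) D79181 (iv2 F124149)
def n80700 : Q := act 3 n36834
theorem D80700 : act 3 n36834 = n80700 := rfl
theorem F124154 : act 4 n80700 = n77378 := d5_2 D36834 D80700 (iv3 D77378) (iv4 D35327) (iv3 F91275)
def n80704 : Q := act 3 n36845
theorem D80704 : act 3 n36845 = n80704 := rfl
def n80705 : Q := act 6 n36845
theorem D80705 : act 6 n36845 = n80705 := rfl
theorem F124166 : act 2 n80705 = n79159 := d3_1 D80705 (iv6 D79159) F57784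
def n80706 : Q := act 6 n36846
theorem D80706 : act 6 n36846 = n80706 := rfl
theorem F124167 : act 2 n80706 = n79157 := d3_1 D80706 (iv6 D79157) (iv2 F57785)
theorem F124168 : act 3 n80706 = n76563 := d7_1 D80706 (iv6 D76563) F57782
def n80707 : Q := act 6 n36847
theorem D80707 : act 6 n36847 = n80707 := rfl
theorem F124169 : act 2 n80707 = n36849 := d3_1 D80707 (iv6 D36849) D36847
theorem F124170 : act 3 n80707 = n79120 := d7_1 D80707 (iv6 D79120) (iv3 F57788)
def n80708 : Q := act 0 n36848
theorem D80708 : act 0 n36848 = n80708 := rfl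
theorem F124171 : act 5 n80708 = n55683 := d17_1 D80708 (iv1 F88102) (iv5 F106253) F106252 F71214 (iv0 F86709) F86708 F71124 F71122
theorem F124172 : act 1 n40136 = n80708 := d15_0 (iv0 D80708) F57793 (iv2 F61026)
theorem F124173 : act 2 n79162 = n80708 := d2_3 F124171 (iv2 F88101) (iv5 F120454)
theorem F124174 : act 7 n79161 = n80708 := d13_0 F124171 F88103 (iv5 F120450)
def n80709 : Q := act 1 n36848
theorem D80709 : act 1 n36848 = n80709 := rfl
theorem F124175 : act 1 n80709 = n40136 := d15_1 D80709 (iv7 F77348) F77345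
theorem F124176 : act 7 n80709 = n79162 := d15_2 (iv0 D80708) D80709 F124173
theorem F124177 : act 3 n40129 = n80709 := d20_3 (iv4 F52937) F90710 F90707 (iv1 D80709) F57792 F28884 (iv1 F43397) (iv4 D26897) (iv3 F42682) (iv1 F52311)
theorem F124178 : act 5 n80709 = n54951 := d6_2 (iv5 F61022) F124177 F86932
def n80710 : Q := act 6 n36848
theorem D80710 : act 6 n36848 = n80710 := rfl
theorem F124180 : act 3 n80710 = n36850 := d7_1 D80710 (iv6 D36850) (iv3 F57792)
def n80711 : Q := act 0 n36849
theorem D80711 : act 0 n36849 = n80711 := rfl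
def n80712 : Q := act 1 n36849
theorem D80712 : act 1 n36849 = n80712 := rfl
def n80713 : Q := act 5 n36849
theorem D80713 : act 5 n36849 = n80713 := rfl
def n80714 : Q := act 7 n36849
theorem D80714 : act 7 n36849 = n80714 := rfl
theorem F124182 : act 3 n80714 = n36854 := d8_1 D80714 (iv7 D36854) (iv3 F57794)
theorem F124183 : act 4 n80714 = n75713 := d11_1 D80714 F113569 F58743
def n80715 : Q := act 0 n36850
theorem D80715 : act 0 n36850 = n80715 := rfl
def n80716 : Q := act 1 n36850
theorem D80716 : act 1 n36850 = n80716 := rfl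
theorem F124185 : act 1 n80716 = n79131 := d15_1 D80716 (iv7 D79131) (iv2 F57795)
def n80717 : Q := act 5 n36850
theorem D80717 : act 5 n36850 = n80717 := rfl
def n80718 : Q := act 7 n36850
theorem D80718 : act 7 n36850 = n80718 := rfl
theorem F124188 : act 2 n80718 = n79131 := d4_1 D80718 (iv7 D79131) (iv2 F57795)
theorem F124189 : act 4 n80718 = n77691 := d11_1 D80718 (iv7 D77691) (iv4 F57796)
theorem F124191 : act 1 n79131 = n80715 := d15_0 (iv0 D80715) D80718 F124188
theorem F124192 : act 1 n79129 = n80718 := d15_1 D79129 (iv7 D80718) F57795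
theorem F124193 : act 1 n80718 = n79128 := d15_0 (iv0 D79128) D79131 (iv2 F124188)
def n80719 : Q := act 3 n36851
theorem D80719 : act 3 n36851 = n80719 := rfl
theorem F124194 : act 4 n80719 = n77290 := d5_2 F117605 D80719 (iv3 D77290) (iv4 F116675) F117607
theorem F124195 : act 7 n80719 = n79135 := d8_2 F115452 D80719 (iv3 D79135)
def n80721 : Q := act 6 n36851
theorem D80721 : act 6 n36851 = n80721 := rfl
theorem F124198 : act 2 n80721 = n79134 := d3_1 D80721 (iv6 D79134) F115449
def n80724 : Q := act 6 n36852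
theorem D80724 : act 6 n36852 = n80724 := rfl
theorem F124204 : act 2 n80724 = n79137 := d3_1 D80724 (iv6 D79137) (iv2 F115450)
theorem F124205 : act 4 n80724 = n55506 := d10_1 D80724 (iv6 D55506) (iv4 F59745)
theorem F124206 : act 0 n36918 = n80724 := d20_1 (iv4 F57846) F124205 F87794 (iv1 F120591) F60057 (iv4 F53213) F53217 F51227 (iv3 F89131) (iv1 D36926)
def n80726 : Q := act 1 n36853
theorem D80726 : act 1 n36853 = n80726 := rfl
theorem F124208 : act 5 n57849 = n80726 := d21_6 (iv5 F56847) (iv1 D36095) (iv5 D17462) D17463 D36097 (iv6 F91138) (iv1 D80726) (iv5 D36853) (iv6 D17757) (iv1 F28863)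
def n80729 : Q := act 3 n36862
theorem D80729 : act 3 n36862 = n80729 := rfl
theorem F124216 : act 4 n80729 = n77449 := d5_2 D36862 D80729 (iv3 D77449) (iv4 D35368) (iv3 F91266)
def n80731 : Q := act 6 n36862
theorem D80731 : act 6 n36862 = n80731 := rfl
theorem F124220 : act 2 n80731 = n77333 := d3_1 D80731 (iv6 D77333) F59732
theorem F124221 : act 4 n80731 = n36863 := d10_1 D80731 (iv6 D36863) D36862
def n80732 : Q := act 4 n36864
theorem D80732 : act 4 n36864 = n80732 := rfl
def n80734 : Q := act 3 n36865
theorem D80734 : act 3 n36865 = n80734 := rfl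
def n80735 : Q := act 4 n36865
theorem D80735 : act 4 n36865 = n80735 := rfl
theorem F124222 : act 3 n80735 = n80408 := d20_3 F94692 (iv1 F60995) D80735 (iv1 F123577) (iv3 D60062) (iv4 D28532) (iv1 F22794) D13625 D28580 D60132
def n80737 : Q := act 4 n36866
theorem D80737 : act 4 n36866 = n80737 := rfl
theorem F124223 : act 2 n80737 = n36867 := d1_1 D80737 (iv4 D36867) D36866
theorem F124224 : act 3 n80737 = n47128 := d5_1 D80737 (iv4 D47128) F35235 D22677 (iv3 F57807)
theorem F124226 : act 0 n60033 = n80737 := d20_7 F57821 (iv1 D19278) (iv4 F30266) (iv3 F30268) D34987 D76561 F114810 (iv4 D80737) F57807 (iv1 F57819)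
theorem F124227 : act 1 n60133 = n80737 := d15_0 (iv0 F124226) F94535 D60133
def n80738 : Q := act 6 n36866
theorem D80738 : act 6 n36866 = n80738 := rfl
theorem F124229 : act 3 n80738 = n47133 := d7_1 D80738 (iv6 D47133) (iv3 F57807)
def n80739 : Q := act 1 n36867
theorem D80739 : act 1 n36867 = n80739 := rfl
theorem F124231 : act 7 n80739 = n60133 := d15_2 (iv0 F57809) D80739 (iv2 D60133)
theorem F124232 : act 3 n60073 = n80739 := d20_3 (iv4 F113439) (iv1 F113441) (iv4 F94624) (iv1 D80739) F57808 (iv4 D18132) (iv1 D8550) D8551 D18134 D37822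
theorem F124233 : act 4 n80704 = n80739 := d20_6 (iv4 D12990) (iv1 F9612) D8373 D17755 D36845 D80704 (iv1 D80739) (iv4 D36867) (iv3 D17761) (iv1 F21607)
def n80740 : Q := act 5 n36867
theorem D80740 : act 5 n36867 = n80740 := rfl
theorem F124236 : act 1 n80740 = n79003 := d17_6 (iv1 F88124) (iv5 F88127) (iv1 F60990) (iv5 D36868) D36867 D80740 F120186 F121956 (iv4 D79368)
def n80741 : Q := act 6 n36867
theorem D80741 : act 6 n36867 = n80741 := rfl
theorem F124237 : act 3 n80741 = n37817 := d7_1 D80741 (iv6 D37817) (iv3 F57808)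
theorem F124238 : act 4 n80741 = n36869 := d10_1 D80741 (iv6 D36869) D36867
def n80742 : Q := act 6 n36868
theorem D80742 : act 6 n36868 = n80742 := rfl
def n80747 : Q := act 0 n36870
theorem D80747 : act 0 n36870 = n80747 := rfl
def n80748 : Q := act 1 n36870
theorem D80748 : act 1 n36870 = n80748 := rfl
theorem F124242 : act 1 n80748 = n79420 := d15_1 D80748 (iv7 D79420) (iv2 F57813)
theorem F124243 : act 4 n80748 = n77693 := d20_0 (iv1 D77693) (iv4 F57761) (iv3 F60243) F60245 F51773 (iv4 D26933) (iv1 F118790) (iv4 F60973) (iv3 F122004) (iv1 F124242)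
def n80750 : Q := act 7 n36870
theorem D80750 : act 7 n36870 = n80750 := rfl
theorem F124246 : act 2 n80750 = n79420 := d4_1 D80750 (iv7 D79420) (iv2 F57813)
theorem F124247 : act 4 n80750 = n77441 := d11_1 D80750 (iv7 D77441) (iv4 F57814)
theorem F124249 : act 1 n79420 = n80747 := d15_0 (iv0 D80747) D80750 F124246
theorem F124250 : act 1 n79418 = n80750 := d15_1 D79418 (iv7 D80750) F57813
theorem F124251 : act 4 n77692 = n80747 := d20_0 (iv1 F124249) (iv4 F123128) F123127 F118798 (iv3 F117679) (iv4 D33862) (iv1 F53232) (iv4 F29915) (iv3 F56165) D77692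
theorem F124252 : act 3 n38291 = n77692 := d20_5 (iv4 D18302) (iv1 D8628) (iv4 F13540) (iv3 F29487) D38291 F124251 (iv1 F124249) (iv4 F123128) F123127 F118798
theorem F124253 : act 1 n80750 = n79417 := d15_0 (iv0 D79417) D79420 (iv2 F124246)
def n80755 : Q := act 3 n36875
theorem D80755 : act 3 n36875 = n80755 := rfl
theorem F124256 : act 5 n80755 = n39981 := d6_2 (iv5 F57816) D80755 (iv3 D39981)
theorem F124257 : act 4 n80755 = n45888 := d20_6 F28435 F14043 F14045 D17764 D36875 D80755 (iv1 D45888) F34451 (iv3 D17443) (iv1 F28434)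
def n80756 : Q := act 6 n36875
theorem D80756 : act 6 n36875 = n80756 := rfl
theorem F124258 : act 4 n80756 = n40900 := d10_1 D80756 (iv6 D40900) (iv4 F57817)
def n80758 : Q := act 0 n36877
theorem D80758 : act 0 n36877 = n80758 := rfl
def n80759 : Q := act 1 n36877
theorem D80759 : act 1 n36877 = n80759 := rfl
def n80760 : Q := act 5 n36877
theorem D80760 : act 5 n36877 = n80760 := rfl
def n80761 : Q := act 7 n36877
theorem D80761 : act 7 n36877 = n80761 := rfl
theorem F124261 : act 3 n80761 = n36882 := d8_1 D80761 (iv7 D36882) (iv3 F57822)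
theorem F124262 : act 4 n80761 = n46648 := d11_1 D80761 (iv7 D46648) (iv4 F57823)
def n80762 : Q := act 0 n36878
theorem D80762 : act 0 n36878 = n80762 := rfl
def n80763 : Q := act 1 n36878
theorem D80763 : act 1 n36878 = n80763 := rfl
theorem F124264 : act 1 n80763 = n79416 := d15_1 D80763 (iv7 D79416) (iv2 F57824)
def n80764 : Q := act 5 n36878
theorem D80764 : act 5 n36878 = n80764 := rfl
theorem F124266 : act 6 n80764 = n36881 := d12_2 D36878 D80764 (iv5 D36881) (iv6 D17766) D17765
def n80766 : Q := act 1 n36881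
theorem D80766 : act 1 n36881 = n80766 := rfl
theorem F124268 : act 5 n79309 = n80766 := d21_6 D8378 (iv1 F28469) (iv5 D17476) D17477 F117296 D79309 (iv1 D80766) (iv5 D36881) (iv6 D17766) (iv1 D8377)
def n80783 : Q := act 0 n36888
theorem D80783 : act 0 n36888 = n80783 := rfl
def n80785 : Q := act 2 n36888
theorem D80785 : act 2 n36888 = n80785 := rfl
def n80786 : Q := act 4 n36888
theorem D80786 : act 4 n36888 = n80786 := rfl
theorem F124274 : act 3 n80786 = n77088 := d5_1 D80786 F120773 (iv3 D57063) (iv4 F120943) D36888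
def n80789 : Q := act 0 n36890
theorem D80789 : act 0 n36890 = n80789 := rfl
theorem F124277 : act 5 n80789 = n79355 := d17_3 D17768 D36890 D80789 F121946 (iv5 F57850) (iv0 D36920) (iv5 D17775) (iv0 D8380) (iv4 F13179)
theorem E13287 : n73778 = n17480 := (c21_5 D36890 D80789 F124277 (iv6 D79355) F121795 (iv6 D17480) D17479 F28474 (iv5 D8378) D8379 D17768)
theorem E13288 : n36154 = n33894 := ((D36154).symm.trans (sb E13287 (iv1 D73778)))
theorem E13290 : n39813 = n27156 := ((((iv4 F43910)).symm.trans (sb E13287 (iv4 F110599)))).symm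
theorem E13291 : n73777 = n55698 := ((D73777).symm.trans (sb E13288 (iv1 F88140)))
theorem F124278 : act 1 n33894 = n17480 := (sb E13288 (iv0 D36154))
theorem E13302 : n18839 = n13045 := (((F43909).symm.trans (sb E13290 (iv3 D39813)))).symm
theorem F124281 : act 1 n55698 = n33894 := (sb E13291 (iv0 D73777))
theorem E13303 : n27888 = n27228 := (((D27228).symm.trans (sb E13302 (iv1 F45025)))).symm
theorem E13304 : n27229 = n8823 := ((D27229).symm.trans (sb E13302 (iv0 D18839)))
theorem E13310 : n18840 = n18001 := ((((iv1 F44044)).symm.trans (sb E13303 (iv1 F45027)))).symm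
theorem E13312 : n56629 = n18822 := ((D56629).symm.trans (sb E13303 F45023))
theorem E13313 : n58637 = n56630 := (((D56630).symm.trans (sb E13303 D58637))).symm
theorem E13314 : n58638 = n56631 := (((D56631).symm.trans (sb E13303 D58638))).symm
theorem E13315 : n58639 = n56632 := (((D56632).symm.trans (sb E13303 D58639))).symm
theorem F124283 : act 0 n8823 = n13045 := (sb E13304 (iv1 D27229))
theorem E13319 : n56636 = n18843 := (((D18843).symm.trans (sb E13304 D56636))).symm
theorem E13320 : n56637 = n18844 := (((D18844).symm.trans (sb E13304 D56637))).symm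
theorem F124284 : act 0 n18001 = n8823 := (sb E13310 (iv1 D18840))
theorem E13321 : n38808 = n37478 := ((((iv3 F58363)).symm.trans (sb E13310 (iv3 F121807)))).symm
theorem F124286 : act 3 n18822 = n27228 := (sb E13312 (iv3 D56629))
theorem F124287 : act 0 n56630 = n39826 := (sb E13313 (iv1 F92611))
theorem F124288 : act 1 n56630 = n39825 := (sb E13313 F92612)
theorem F124289 : act 2 n56630 = n27889 := (sb E13313 F92609)
theorem E13325 : n56777 = n39830 := ((F89768).symm.trans (sb E13314 (iv1 F92616)))
theorem F124291 : act 1 n56631 = n39829 := (sb E13314 F92617)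
theorem F124292 : act 2 n56631 = n27890 := (sb E13314 F92613)
theorem F124293 : act 3 n56631 = n39794 := (sb E13314 F92614)
theorem F124294 : act 7 n56631 = n39823 := (sb E13314 F92615)
theorem E13326 : n76188 = n56714 := (((F89690).symm.trans (sb E13315 (iv5 F114153)))).symm
theorem E13327 : n75220 = n35878 := ((((iv6 F56532)).symm.trans (sb E13319 (iv6 F112769)))).symm
theorem E13328 : n39832 = n37655 := ((D39832).symm.trans (sb E13320 F91705))
theorem E13329 : n39833 = n37659 := ((D39833).symm.trans (sb E13320 F117521))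
theorem E13330 : n80090 = n18450 := ((F122915).symm.trans (sb E13321 (iv0 D38808)))
theorem F124298 : act 4 n37478 = n78100 := (sb E13321 F121808)
theorem F124299 : act 1 n39830 = n56631 := (sb E13325 (iv0 F89768))
theorem F124300 : act 2 n39830 = n58008 := (sb E13325 F117415)
theorem F124301 : act 5 n39830 = n27272 := (sb E13325 (iv5 D56777))
theorem F124302 : act 6 n39830 = n57960 := (sb E13325 (iv6 F91703))
theorem E13331 : n76950 = n27255 := ((((iv1 D56714)).symm.trans (sb E13326 (iv1 F115650)))).symm
theorem F124303 : act 2 n56714 = n34801 := (sb E13326 (iv2 D76188))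
theorem F124304 : act 3 n56714 = n76959 := (sb E13326 (iv3 F115664))
theorem F124305 : act 7 n56714 = n76951 := (sb E13326 (iv7 F115648))
theorem E13333 : n78809 = n34443 := ((D78809).symm.trans (sb E13327 (iv0 D75220)))
theorem F124306 : act 1 n37655 = n18844 := (sb E13328 (iv0 D39832))
theorem F124307 : act 0 n37659 = n18844 := (sb E13329 (iv1 D39833))
theorem F124308 : act 0 n18450 = n37478 := (sb E13330 (iv1 F122915))
theorem E13334 : n38809 = n36477 := ((D38809).symm.trans (sb E13330 (iv0 D80090)))
theorem E13335 : n56713 = n35157 := ((D56713).symm.trans (sb E13331 (iv1 D76950)))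
theorem F124309 : act 0 n34443 = n35878 := (sb E13333 (iv1 D78809))
theorem F124310 : act 0 n36477 = n18450 := (sb E13334 (iv1 D38809))
theorem F124312 : act 1 n35157 = n27255 := (sb E13335 (iv0 D56713))
theorem E13336 : n58087 = n58024 := (((iv5 F91866)).symm.trans (sb E13335 (iv5 F91790)))
theorem F124313 : act 3 n58024 = n27694 := (sb E13336 (iv3 D58087))
theorem E13337 : n39220 = n39157 := (((F91791).symm.trans (sb E13336 F91867))).symm
theorem E13338 : n37725 = n37630 := (((F117368).symm.trans (sb E13337 F60191))).symm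
theorem F124317 : act 7 n39157 = n18844 := (sb E13337 F60192)
theorem F124318 : act 3 n37630 = n18086 := (sb E13338 (iv3 D37725))
theorem E13339 : n37674 = n37169 := ((F117511).symm.trans (sb E13338 F58586))
theorem F124319 : act 7 n37630 = n39834 := (sb E13338 (iv7 F60646))
theorem F124320 : act 0 n37169 = n18055 := (sb E13339 (iv1 D37674))
theorem F124321 : act 1 n37169 = n37687 := (sb E13339 F58544)
theorem F124322 : act 6 n37169 = n37630 := (sb E13339 (iv6 F117511))
theorem F124323 : act 1 n36895 = n80789 := d15_0 (iv0 D80789) (iv7 F123999) F123998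
theorem F124324 : act 2 n37177 = n37673 := d15_3 (iv0 D37673) (iv0 F124320) (iv7 F58122)
theorem F124325 : act 2 n39834 = n37629 := d15_3 (iv0 D37629) D37630 F124319
theorem E13340 : n39824 = n37498 := ((c2_3 D39834 F124325 F58485 F60643)).symm
theorem F124326 : act 2 n37498 = n18844 := (sb E13340 F60643)
theorem F124327 : act 3 n37498 = n58668 := (sb E13340 (iv3 F92661))
theorem E13341 : n18841 = n17999 := ((((iv6 D37498)).symm.trans (sb E13340 (iv6 D39824)))).symm
theorem E13342 : n27887 = n8489 := ((((iv1 D17999)).symm.trans (sb E13341 (iv1 F45026)))).symm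
theorem E13345 : n37495 = n27897 := ((D37495).symm.trans (sb E13341 (iv3 F45042)))
theorem E13346 : n39822 = n37496 := (((D37496).symm.trans (sb E13341 D39822))).symm
theorem E13347 : n39823 = n37497 := (((D37497).symm.trans (sb E13341 D39823))).symm
theorem E13349 : n17998 = n13297 := ((D17998).symm.trans (sb E13342 (iv1 D27887)))
theorem F124329 : act 3 n27897 = n17999 := (sb E13345 (iv3 D37495))
theorem F124330 : act 0 n37496 = n58641 := (sb E13346 (iv1 F92621))
theorem F124331 : act 1 n37496 = n58640 := (sb E13346 F92620)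
theorem F124332 : act 2 n37496 = n18842 := (sb E13346 F60641)
theorem F124334 : act 0 n37497 = n58645 := (sb E13347 (iv1 F92625))
theorem F124335 : act 2 n37497 = n18843 := (sb E13347 F60642)
theorem F124337 : act 6 n37497 = n78810 := (sb E13347 (iv6 F119959))
theorem F124338 : act 7 n37497 = n56631 := (sb E13347 (iv7 F124294))
theorem F124340 : act 0 n13297 = n27231 := (sb E13349 (iv1 F44046))
theorem F124341 : act 1 n13297 = n8489 := (sb E13349 (iv0 D17998))
theorem E13363 : n37492 = n27890 := (((D27890).symm.trans (sb E13349 D37492))).symm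
theorem E13364 : n37493 = n27891 := (((D27891).symm.trans (sb E13349 D37493))).symm
theorem F124342 : act 0 n27890 = n58008 := (sb E13363 F91772)
theorem E13365 : n58648 = n57964 := ((D58648).symm.trans (sb E13364 (iv1 F117404)))
theorem E13366 : n58649 = n58027 := ((D58649).symm.trans (sb E13364 (iv0 F91796)))
theorem E13367 : n37557 = n34801 := ((((iv5 F55005)).symm.trans (sb E13364 F58442))).symm
theorem F124343 : act 1 n57964 = n27891 := (sb E13365 (iv0 D58648))
theorem F124344 : act 0 n58027 = n27891 := (sb E13366 (iv1 D58649))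
theorem E13368 : n76186 = n18019 := ((D76186).symm.trans (sb E13367 (iv1 D37557)))
theorem E13369 : n76187 = n56716 := ((D76187).symm.trans (sb E13367 F89697))
theorem E13370 : n76951 = n37556 := (((D37556).symm.trans (sb E13368 (iv1 F115649)))).symm
theorem F124345 : act 1 n18019 = n34801 := (sb E13368 (iv0 D76186))
theorem F124346 : act 0 n56716 = n34801 := (sb E13369 (iv1 D76187))
theorem F124347 : act 2 n37556 = n35157 := (sb E13370 (iv2 D76951))
theorem F124348 : act 3 n37556 = n76180 := (sb E13370 F115647)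
theorem F124349 : act 7 n37556 = n56714 := (sb E13370 (iv7 F124305))
theorem F124350 : act 7 n58645 = n39830 := d15_2 (iv0 F124342) D58645 F124300
theorem F124351 : act 5 n55576 = n58645 := d13_3 F124350 F124301 (iv7 F117416)
theorem F124352 : act 6 n39884 = n58645 := d14_5 F124350 F124302 F117391 D58023 (iv7 F117409)
theorem F124353 : act 2 n58645 = n39829 := d15_3 (iv0 D39829) D39830 (iv7 F124350)
theorem F124354 : act 7 n39829 = n58008 := d4_2 (iv7 F124350) F124353 (iv2 F124300)
theorem F124355 : act 0 n78056 = n37474 := d20_1 D78056 F58360 F29155 (iv1 F124341) (iv3 D13297) (iv4 F37195) (iv1 F18169) (iv4 F12876) (iv3 F28205) (iv1 F56278)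
theorem F124356 : act 1 n78053 = n37474 := d15_0 (iv0 F124355) F121812 (iv2 F121820)
theorem E13371 : n37799 = n37476 := (c20_10 (iv4 F58360) (iv1 F124356) (iv4 D78053) F121831 (iv1 F33753) (iv3 F34414) (iv4 F72378) (iv1 F121887) (iv4 D37800) D37799 (iv1 D37476))
theorem F124357 : act 3 n37476 = n18125 := (sb E13371 (iv3 D37799))
theorem F124358 : act 4 n37476 = n35611 := (sb E13371 F58648)
theorem F124359 : act 4 n37485 = n79312 := d20_8 (iv4 F72378) (iv1 F121887) (iv4 D37800) (iv3 F124357) (iv1 D37476) F29155 (iv4 F29157) D37485 (iv3 D79312) (iv1 F56862)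
theorem E13372 : n80100 = n36122 := (c20_1 D80100 (iv1 D36122) F28467 (iv3 F28466) D36111 D79312 (iv4 F124359) (iv1 F89561) F89557 (iv3 F89266) (iv1 F89270))
theorem E13373 : n36479 = n27631 := (((F121769).symm.trans (sb E13372 (iv4 D80100)))).symm
theorem E13374 : n57895 = n17612 := ((D57895).symm.trans (sb E13373 (iv1 D36479)))
theorem E13375 : n57896 = n56410 := ((D57896).symm.trans (sb E13373 F89270))
theorem E13381 : n79342 = n36478 := (((D36478).symm.trans (sb E13374 (iv1 F121937)))).symm
theorem F124360 : act 1 n17612 = n27631 := (sb E13374 (iv0 D57895))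
theorem F124361 : act 0 n56410 = n27631 := (sb E13375 (iv1 D57896))
theorem E13382 : n80094 = n57877 := ((D80094).symm.trans (sb E13381 (iv3 F121935)))
theorem E13383 : n80095 = n36121 := ((D80095).symm.trans (sb E13381 (iv4 D79342)))
theorem F124363 : act 7 n36478 = n57897 := (sb E13381 (iv7 F121936))
theorem F124364 : act 3 n57877 = n36478 := (sb E13382 (iv3 D80094))
theorem F124365 : act 4 n36121 = n36478 := (sb E13383 (iv4 D80095))
theorem F124366 : act 4 n80097 = n79344 := d10_3 (iv6 D79344) F124365 D80097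
theorem E13384 : n78101 = n76995 := (c20_8 (iv4 F124365) (iv1 F88083) F88079 F43363 (iv1 F33754) (iv3 F121782) D35621 (iv1 F119288) F115742 F57291 D36478)
theorem F124367 : act 0 n76995 = n35616 := (sb E13384 (iv1 D78101))
theorem F124368 : act 1 n76995 = n35621 := (sb E13384 F119288)
theorem F124369 : act 7 n78100 = n37474 := d15_2 F124368 F119292 (iv2 F115741)
theorem E13385 : n78094 = n73988 := (c20_11 (iv4 F110749) (iv1 F91619) (iv4 D27632) D27631 (iv1 F124360) (iv3 F57291) (iv4 F115742) F124367 (iv4 D35616) D35615 D78094)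
theorem F124371 : act 0 n73988 = n44974 := (sb E13385 (iv1 F121854))
theorem F124372 : act 1 n73988 = n35615 := (sb E13385 (iv0 D78094))
theorem E13386 : n55695 = n55672 := (c20_2 (iv4 F43390) D55695 (iv4 D55672) (iv3 F121728) (iv1 F61302) D73988 (iv4 F110749) (iv1 F91619) (iv4 D27632) D27631 (iv1 F124360))
theorem F124374 : act 1 n55672 = n26895 := (sb E13386 (iv0 D55695))
theorem E13387 : n55696 = n40292 := (c15_2 F124374 D55696 F61329 (iv2 F121729))
theorem F124375 : act 0 n40292 = n26895 := (sb E13387 (iv1 D55696))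
theorem F124376 : act 1 n40292 = n36157 := (sb E13387 F88133)
theorem F124377 : act 4 n40166 = n57877 := d20_8 F89267 (iv1 F124376) (iv4 D40292) (iv3 D19042) (iv1 D8917) (iv3 F13859) (iv4 F30302) D40166 F124364 (iv1 F89271)
theorem F124378 : act 2 n57878 = n40166 := d1_3 F124377 (iv2 D57877) D57878
theorem F124379 : act 4 n37486 = n40210 := d20_8 (iv4 F30302) D40166 F124377 F124364 (iv1 F89271) F89266 (iv4 F89557) (iv1 F89560) (iv3 D40210) (iv1 D18987)
theorem E13388 : n78077 = n37475 := ((c20_11 (iv4 D78077) (iv1 F119244) F119242 (iv3 F60849) (iv1 F60852) D40210 (iv4 F124379) (iv1 D37486) F29157 (iv3 F29155) D37475)).symm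
theorem F124380 : act 4 n37475 = n35610 := (sb E13388 (iv4 D78077))
theorem F124381 : act 7 n40167 = n57878 := d15_2 (iv0 D40166) D40167 F124378
theorem E13389 : n57881 = n56899 := (c11_3 F124381 (iv4 D57878) D57881 F89942)
theorem E13390 : n27630 = n27311 := ((((iv3 D56899)).symm.trans (sb E13389 F91614))).symm
theorem F124382 : act 7 n56899 = n27626 := (sb E13389 (iv7 D57881))
theorem E13391 : n57870 = n13087 := ((((iv1 D27311)).symm.trans (sb E13390 (iv1 F91603)))).symm
theorem E13394 : n57887 = n56900 := (((D56900).symm.trans (sb E13390 (iv4 F91618)))).symm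
theorem E13395 : n57891 = n56901 := (((D56901).symm.trans (sb E13390 (iv5 F91624)))).symm
theorem E13396 : n57894 = n56902 := (((D56902).symm.trans (sb E13390 D57894))).symm
theorem E13398 : n27625 = n27310 := (((D27310).symm.trans (sb E13391 (iv1 D57870)))).symm
theorem F124384 : act 2 n56900 = n27632 := (sb E13394 F91617)
theorem F124385 : act 7 n56900 = n27627 := (sb E13394 (iv7 D57887))
theorem F124386 : act 2 n56901 = n27633 := (sb E13395 F91623)
theorem F124387 : act 7 n56901 = n27628 := (sb E13395 (iv7 D57891))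
theorem F124388 : act 2 n56902 = n27634 := (sb E13396 F91627)
theorem E13399 : n57871 = n56894 := (((D56894).symm.trans (sb E13398 D57871))).symm
theorem E13400 : n57872 = n56895 := (((D56895).symm.trans (sb E13398 D57872))).symm
theorem E13401 : n57873 = n56896 := (((D56896).symm.trans (sb E13398 D57873))).symm
theorem E13402 : n57874 = n56897 := (((D56897).symm.trans (sb E13398 D57874))).symm
theorem E13403 : n79340 = n55666 := ((((iv4 F121890)).symm.trans (sb E13399 (iv4 F121933)))).symm
theorem F124393 : act 7 n56894 = n27631 := (sb E13399 F91604)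
theorem F124394 : act 2 n56895 = n27627 := (sb E13400 F91605)
theorem F124395 : act 7 n56895 = n27632 := (sb E13400 F91606)
theorem F124396 : act 2 n56896 = n27628 := (sb E13401 F91607)
theorem F124397 : act 7 n56896 = n27633 := (sb E13401 F91608)
theorem F124398 : act 2 n56897 = n27629 := (sb E13402 F91609)
theorem F124400 : act 7 n55666 = n36122 := (sb E13403 (iv7 F121932))
theorem E13404 : n79345 = n55667 := (c15_4 F88076 F88081 F124400 (iv2 F121939))
theorem F124401 : act 2 n55667 = n36122 := (sb E13404 F121939)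
theorem F124402 : act 4 n55667 = n57897 := (sb E13404 F121940)
theorem E13405 : n76883 = n57892 := ((c2_3 (iv5 F89940) F124398 D57892 F115500)).symm
theorem F124404 : act 2 n57892 = n35132 := (sb E13405 F115500)
theorem F124405 : act 7 n57892 = n35131 := (sb E13405 (iv7 D76883))
theorem E13406 : n57893 = n57424 := ((c15_2 (iv0 F90095) F91113 (iv7 D57893) (iv2 F124398))).symm
theorem F124406 : act 7 n57424 = n27629 := (sb E13406 (iv7 D57893))
theorem E13407 : n76879 = n76824 := (c15_4 (iv0 D76824) (iv0 F91625) F124405 D76879)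
theorem F124407 : act 2 n76824 = n35131 := (sb E13407 (iv2 D76879))
theorem F124408 : act 7 n76824 = n35132 := (sb E13407 (iv7 F115495))
theorem F124409 : act 2 n37747 = n56828 := d2_3 F120642 F124388 (iv5 F120617)
theorem E13408 : n57907 = n57529 := ((c15_2 F90996 D57529 (iv7 D57907) (iv2 F124388))).symm
theorem F124410 : act 7 n57529 = n27634 := (sb E13408 (iv7 D57907))
theorem F124411 : act 7 n37747 = n56829 := d13_2 F124410 (iv5 F120617) F120639
theorem F124412 : act 2 n56829 = n37746 := d15_3 (iv0 D37746) D37747 F124411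
theorem F124413 : act 7 n56828 = n37746 := d4_2 (iv7 F124411) F124409 (iv2 F124412)
theorem F124414 : act 2 n57195 = n37175 := d3_3 (iv6 F120640) F124412 (iv6 F121038)
theorem F124415 : act 7 n37174 = n57195 := d15_2 F90217 F90218 F124414
theorem F124416 : act 7 n57194 = n37175 := d15_2 F90212 F90216 (iv2 F124414)
theorem F124417 : act 2 n37174 = n57194 := d4_3 F124416 (iv2 F124414) (iv7 F124415)
theorem E13409 : n78780 = n57905 := ((c3_3 F89943 F124386 D57905 (iv2 D78780))).symm
theorem F124418 : act 2 n57905 = n35867 := (sb E13409 (iv2 D78780))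
theorem F124419 : act 7 n57905 = n35868 := (sb E13409 (iv7 F119948))
theorem E13410 : n78784 = n78763 := (c15_4 F119928 (iv0 F115497) F124419 (iv2 F119950))
theorem F124420 : act 2 n78763 = n35868 := (sb E13410 F119950)
theorem F124421 : act 7 n78763 = n35867 := (sb E13410 (iv7 D78784))
theorem F124422 : act 1 n80104 = n78639 := d18_6 F121726 D40292 F124375 F43390 D36480 D80104 (iv4 D78639) F59744 F56873
theorem F124424 : act 0 n37675 = n78810 := d21_4 (iv5 D8859) (iv1 F17001) D18056 (iv6 F58519) (iv6 F124337) (iv5 D37497) (iv1 D17999) D18000 F29158 F13797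
theorem F124425 : act 1 n37675 = n43116 := d15_1 (iv0 F124424) F67521 D78810
theorem F124426 : act 1 n43116 = n75222 := d15_1 F124425 (iv7 D75222) (iv2 F58518)
theorem F124428 : act 7 n80091 = n38810 := d15_2 (iv0 F124310) D80091 (iv2 D38810)
theorem F124429 : act 2 n38814 = n80091 := d4_3 F124428 (iv2 D38810) D38814
theorem F124430 : act 3 n80091 = n38830 := d0_2 (iv3 F59839) F124429 (iv2 D38830) (iv3 D18455) (iv2 F29640)
theorem F124431 : act 0 n39834 = n37527 := d21_10 (iv5 D37527) (iv1 D18009) D18010 F29175 (iv1 F17006) D18061 (iv5 F54646) F124309 D78812 F119962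
theorem F124432 : act 7 n75221 = n78810 := d15_2 (iv0 F124309) D75221 (iv2 D78810)
theorem F124433 : act 2 n75222 = n78808 := d15_3 (iv0 D78808) (iv0 F124309) D75222
theorem F124434 : act 5 n78808 = n37676 := d2_2 (iv5 F112770) F124433 (iv2 F58541)
theorem F124435 : act 6 n78808 = n75214 := d3_2 (iv6 F120044) F124433 F120042
theorem F124436 : act 7 n78808 = n37675 := d4_2 D75222 F124433 F58518
theorem F124437 : act 1 n75221 = n78808 := d15_1 D75221 F124436 F58518
theorem F124438 : act 2 n43116 = n75221 := d15_3 F124437 (iv0 D78808) (iv7 F67521)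
theorem F124439 : act 3 n75221 = n78818 := d0_2 D43116 F124438 (iv2 D78818) (iv3 D35881) (iv2 F44688)
theorem F124440 : act 1 n39834 = n37523 := d15_1 (iv0 F124431) F117470 (iv2 F117461)
theorem F124441 : act 4 n56625 = n45832 := d20_8 (iv4 F34411) (iv1 F121802) (iv4 D18451) D18450 F124308 F58363 (iv4 F58374) (iv1 F89552) (iv3 D45832) (iv1 D21921)
theorem F124442 : act 2 n37486 = n56625 := d1_3 F124441 (iv2 F121794) (iv4 F124379)
theorem E13412 : n56894 = n56408 := ((c20_11 (iv4 F121890) (iv1 F88081) F56868 (iv3 F56860) (iv1 F56863) D45832 (iv4 F124441) (iv1 D56625) F44038 (iv3 F43909) D56408)).symm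
theorem F124445 : act 4 n56408 = n55666 := (sb E13412 (iv4 F121890))
theorem F124446 : act 7 n56408 = n27631 := (sb E13412 F124393)
theorem E13413 : n57897 = n56409 := (c15_4 F89264 F89269 F124446 D57897)
theorem F124447 : act 2 n56409 = n27631 := (sb E13413 (iv2 D57897))
theorem F124448 : act 4 n56409 = n55667 := (sb E13413 (iv4 F124402))
theorem F124449 : act 7 n56409 = n36478 := (sb E13413 (iv7 F124363))
theorem F124450 : act 7 n56624 = n37486 := d15_2 F89552 F89559 F124442
theorem F124451 : act 7 n37485 = n56625 := d15_2 F89560 F89561 (iv2 F124442)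
theorem F124452 : act 2 n56624 = n37485 := d4_3 F124451 (iv2 F124442) (iv7 F124450)
theorem F124453 : act 7 n45832 = n79312 := d11_2 F124451 F124441 (iv4 F124359)
theorem E13414 : n79316 = n21921 := (c8_3 F124453 (iv3 D79312) D79316 D45832)
theorem E13415 : n45831 = n36112 := (((iv2 F72384)).symm.trans (sb E13414 F121707))
theorem E13416 : n38696 = n37790 := ((((iv4 F121891)).symm.trans (sb E13414 F121716))).symm
theorem E13417 : n45826 = n36111 := ((F72383).symm.trans (sb E13414 (iv7 D79316)))
theorem F124454 : act 2 n36112 = n21921 := (sb E13415 F72384)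
theorem E13418 : n40209 = n39979 := ((((iv3 F121714)).symm.trans (sb E13415 F121793))).symm
theorem E13419 : n79311 = n21920 := ((F121706).symm.trans (sb E13415 (iv7 D45831)))
theorem F124455 : act 2 n37790 = n18405 := (sb E13416 F59491)
theorem F124456 : act 7 n37790 = n18404 := (sb E13416 (iv7 D38696))
theorem F124457 : act 7 n36111 = n21921 := (sb E13417 (iv7 F72383))
theorem F124458 : act 2 n39979 = n18987 := (sb E13418 F61196)
theorem F124460 : act 2 n21920 = n36111 := (sb E13419 (iv2 D79311))
theorem E13420 : n38691 = n37789 := (((F121789).symm.trans (sb E13419 F121718))).symm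
theorem F124461 : act 7 n21920 = n36112 := (sb E13419 (iv7 F121706))
theorem F124462 : act 2 n37789 = n18404 := (sb E13420 (iv2 D38691))
theorem F124463 : act 7 n37789 = n18405 := (sb E13420 (iv7 F59490))
theorem F124464 : act 7 n79319 = n45829 := d13_2 F124461 D79319 (iv5 D45829)
theorem F124465 : act 7 n40207 = n80586 := d8_2 F124464 F121791 (iv3 F123912)
theorem F124466 : act 2 n80586 = n40212 := d15_3 (iv0 F123858) (iv0 F123859) F124465
theorem F124467 : act 7 n80587 = n40212 := d15_2 (iv0 D80586) D80587 (iv2 F124466)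
theorem F124468 : act 2 n40207 = n80587 := d4_3 F124467 (iv2 F124466) (iv7 F124465)
theorem E13421 : n40204 = n39978 := (c13_3 F124467 (iv5 D40212) F61194 F123914)
theorem F124469 : act 2 n39978 = n18986 := (sb E13421 (iv2 D40204))
theorem F124470 : act 7 n39978 = n18987 := (sb E13421 (iv7 F61194))
theorem E13422 : n78323 = n40208 := ((c3_3 (iv6 F119486) F124469 D40208 F119536)).symm
theorem F124471 : act 2 n40208 = n35700 := (sb E13422 F119536)
theorem E13423 : n79970 = n79940 := (((F122687).symm.trans (sb E13422 (iv5 F122756)))).symm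
theorem F124472 : act 7 n40208 = n35699 := (sb E13422 (iv7 D78323))
theorem F124473 : act 2 n79940 = n36425 := (sb E13423 F122755)
theorem F124474 : act 7 n79940 = n36424 := (sb E13423 (iv7 D79970))
theorem F124475 : act 7 n79968 = n45903 := d8_2 F124474 D79968 (iv3 F122688)
theorem E13424 : n79967 = n79939 := (c15_4 (iv0 D79939) D79940 F124474 D79967)
theorem F124476 : act 2 n79939 = n36424 := (sb E13424 (iv2 D79967))
theorem E13425 : n78318 = n78281 := (((F122680).symm.trans (sb E13424 F122752))).symm
theorem F124477 : act 7 n79939 = n36425 := (sb E13424 (iv7 F122753))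
theorem F124479 : act 7 n78281 = n35700 := (sb E13425 (iv7 F119531))
theorem E13426 : n79745 = n40213 := ((c14_4 F124479 (iv6 F119486) F124470 D40213 (iv7 F122433) (iv6 F122406))).symm
theorem F124481 : act 7 n40213 = n36318 := (sb E13426 (iv7 F122433))
theorem F124482 : act 7 n37002 = n56582 := d13_2 F124481 F122400 (iv5 F118542)
theorem E13427 : n79747 = n78322 := (c15_4 (iv0 F119533) F122396 F124481 (iv2 F122434))
theorem F124484 : act 7 n78322 = n36317 := (sb E13427 (iv7 D79747))
theorem F124485 : act 7 n37001 = n56581 := d13_2 F124484 F119052 (iv5 F119532)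
theorem F124486 : act 2 n56581 = n37002 := d15_3 (iv0 F118060) F118061 F124485
theorem F124487 : act 2 n37001 = n56582 := d4_1 (iv7 F124485) (iv7 F124482) (iv2 F124486)
theorem F124488 : act 2 n79743 = n78395 := d3_3 (iv6 F122681) F124476 F122431
theorem F124489 : act 7 n78394 = n79743 := d15_2 F122390 F122392 F124488
theorem F124490 : act 7 n79744 = n78395 := d15_2 (iv0 D79743) D79744 (iv2 F124488)
theorem F124491 : act 2 n78394 = n79744 := d4_3 F124490 (iv2 F124488) (iv7 F124489)
theorem F124492 : act 7 n45830 = n78319 := d13_2 F124475 (iv5 F72492) (iv5 F122754)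
theorem F124493 : act 2 n79968 = n45902 := d15_3 (iv0 D45902) D45903 (iv7 F124475)
theorem F124494 : act 2 n79314 = n45829 := d2_3 (iv5 D45829) F124460 D79314
theorem F124495 : act 2 n79315 = n45830 := d3_3 (iv6 D45830) F124460 D79315
theorem F124496 : act 7 n45834 = n79314 := d13_2 F124457 D45834 (iv5 D79314)
theorem F124497 : act 2 n79319 = n45834 := d4_3 F124496 F124494 (iv7 F124464)
theorem F124498 : act 1 n45834 = n45971 := d15_0 (iv0 F72545) (iv7 F124464) F124497
theorem F124499 : act 2 n45835 = n79320 := d3_3 (iv6 D79320) F124454 D45835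
def n80793 : Q := act 0 n36891
theorem D80793 : act 0 n36891 = n80793 := rfl
def n80794 : Q := act 1 n36891
theorem D80794 : act 1 n36891 = n80794 := rfl
def n80795 : Q := act 5 n36891
theorem D80795 : act 5 n36891 = n80795 := rfl
theorem F124505 : act 2 n80795 = n55720 := d2_1 D80795 (iv5 F123995) F123993
theorem F124506 : act 0 n80795 = n55648 := d21_7 D17479 F28474 (iv5 D8378) D8379 D17768 D36891 D80795 (iv5 D55648) (iv6 D26872) (iv1 F21343)
theorem F124507 : act 4 n80794 = n36926 := d17_9 (iv1 D36926) D36927 F57856 (iv5 D26875) (iv4 F43328) D55648 (iv0 F124506) (iv5 D80795) D80794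
theorem F124508 : act 0 n55722 = n80795 := d21_7 (iv5 F124003) (iv1 F124005) (iv5 F120504) (iv6 D79227) (iv1 F56805) (iv6 F43399) (iv5 F88159) (iv5 D80795) (iv6 D36891) (iv1 F57715)
theorem F124509 : act 7 n77333 = n80794 := d11_0 F124507 F89134 (iv4 F116146)
theorem E13428 : n80793 = n80731 := ((c15_4 (iv0 D80793) D80794 (iv7 F124509) (iv2 F124220))).symm
theorem F124510 : act 1 n80731 = n36891 := (sb E13428 (iv0 D80793))
def n80796 : Q := act 7 n36891
theorem D80796 : act 7 n36891 = n80796 := rfl
def n80797 : Q := act 0 n36893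
theorem D80797 : act 0 n36893 = n80797 := rfl
def n80798 : Q := act 1 n36893
theorem D80798 : act 1 n36893 = n80798 := rfl
def n80799 : Q := act 2 n36893
theorem D80799 : act 2 n36893 = n80799 := rfl
def n80800 : Q := act 4 n36893
theorem D80800 : act 4 n36893 = n80800 := rfl
theorem F124511 : act 3 n80800 = n37526 := d5_1 D80800 (iv4 D37526) F120947 (iv4 F120948) D36893
theorem F124512 : act 7 n80800 = n37625 := d11_2 F123990 D80800 (iv4 F123989)
def n80802 : Q := act 6 n36893
theorem D80802 : act 6 n36893 = n80802 := rfl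
theorem F124514 : act 3 n80802 = n36896 := d7_1 D80802 (iv6 D36896) D36893
def n80805 : Q := act 5 n36896
theorem D80805 : act 5 n36896 = n80805 := rfl
theorem F124516 : act 0 n79308 = n80805 := d21_1 D79308 (iv5 D80805) (iv6 D36896) (iv1 D17769) (iv6 D8379) D8378 (iv1 F28469) (iv5 D17476) D17477 F117296
def n80820 : Q := act 5 n36909
theorem D80820 : act 5 n36909 = n80820 := rfl
theorem F124523 : act 2 n80820 = n36911 := d2_1 D80820 (iv5 D36911) D36909
theorem F124525 : act 7 n80820 = n46226 := d13_2 (iv7 F118309) D80820 (iv5 D46226)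
def n80821 : Q := act 6 n36909
theorem D80821 : act 6 n36909 = n80821 := rfl
theorem F124526 : act 2 n80821 = n36912 := d3_1 D80821 (iv6 D36912) D36909
theorem F124528 : act 4 n80821 = n45235 := d10_1 D80821 (iv6 D45235) (iv4 F118264)
def n80822 : Q := act 3 n36910
theorem D80822 : act 3 n36910 = n80822 := rfl
theorem F124529 : act 4 n80822 = n36916 := d5_2 D36910 D80822 (iv3 D36916) (iv4 D17774) D17773
theorem F124530 : act 7 n80822 = n45237 := d8_2 (iv7 F118266) D80822 (iv3 D45237)
def n80823 : Q := act 5 n36910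
theorem D80823 : act 5 n36910 = n80823 := rfl
def n80824 : Q := act 6 n36910
theorem D80824 : act 6 n36910 = n80824 := rfl
theorem F124533 : act 2 n80824 = n45235 := d3_1 D80824 (iv6 D45235) (iv2 F118265)
theorem F124534 : act 4 n80824 = n36912 := d10_1 D80824 (iv6 D36912) D36910
theorem F124535 : act 5 n80824 = n38939 := d21_6 (iv5 F29102) (iv1 F29104) (iv5 F16262) D21514 F57841 D80824 (iv1 D38939) (iv5 D18491) (iv6 D8693) D8690
theorem F124536 : act 0 n80824 = n55597 := d20_7 (iv4 F53213) F53217 F51227 (iv3 F89131) (iv1 D36926) (iv3 F57843) (iv4 F124534) F87940 F43232 F30018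
def n80825 : Q := act 0 n36911
theorem D80825 : act 0 n36911 = n80825 := rfl
theorem F124537 : act 5 n80825 = n44500 := d21_2 D36911 D80825 (iv6 D44500) (iv1 D21161) (iv6 D10085) (iv5 D4587) F5988 D9024 D19202 F120754
theorem F124538 : act 1 n46226 = n80825 := d15_0 (iv0 D80825) (iv7 F124041) F124039
theorem F124539 : act 3 n37047 = n80825 := d6_3 F124537 F121785 (iv5 F120880)
def n80826 : Q := act 1 n36911
theorem D80826 : act 1 n36911 = n80826 := rfl
theorem F124540 : act 1 n80826 = n46226 := d15_1 D80826 (iv7 F124525) F124523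
def n80827 : Q := act 4 n36911
theorem D80827 : act 4 n36911 = n80827 := rfl
def n80828 : Q := act 6 n36911
theorem D80828 : act 6 n36911 = n80828 := rfl
def n80829 : Q := act 0 n36912
theorem D80829 : act 0 n36912 = n80829 := rfl
def n80830 : Q := act 1 n36912
theorem D80830 : act 1 n36912 = n80830 := rfl
def n80831 : Q := act 5 n36912
theorem D80831 : act 5 n36912 = n80831 := rfl
theorem F124542 : act 3 n80831 = n36927 := d6_1 D80831 (iv5 D36927) (iv3 F57843)
theorem F124543 : act 0 n80831 = n44489 := d21_7 (iv5 D4587) F5988 D9024 D19202 F120754 D36912 D80831 (iv5 D44489) (iv6 D21159) (iv1 D10084)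
theorem F124544 : act 7 n55764 = n80831 := d8_0 F124542 F118179 D55764
theorem F124545 : act 4 n80831 = n38995 := d20_6 (iv4 F43479) (iv1 F43488) F43486 (iv3 F43403) F57857 (iv3 F124542) (iv1 D38995) (iv4 D18505) F13615 D8708
def n80832 : Q := act 7 n36912
theorem D80832 : act 7 n36912 = n80832 := rfl
theorem F124547 : act 5 n80832 = n55764 := d13_1 D80832 F124544 (iv5 D80831)
def n80835 : Q := act 0 n36916
theorem D80835 : act 0 n36916 = n80835 := rfl
def n80836 : Q := act 1 n36916
theorem D80836 : act 1 n36916 = n80836 := rfl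
def n80837 : Q := act 2 n36916
theorem D80837 : act 2 n36916 = n80837 := rfl
def n80839 : Q := act 6 n36916
theorem D80839 : act 6 n36916 = n80839 := rfl
theorem F124552 : act 3 n80839 = n36918 := d7_1 D80839 (iv6 D36918) D36916
def n80840 : Q := act 0 n36917
theorem D80840 : act 0 n36917 = n80840 := rfl
theorem F124553 : act 5 n80840 = n79348 := d21_2 D36917 D80840 (iv6 D79348) (iv1 D36122) (iv6 D17470) D17469 (iv1 F56845) F56847 D36822 F120728
def n80841 : Q := act 1 n36917
theorem D80841 : act 1 n36917 = n80841 := rfl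
theorem F124555 : act 1 n80841 = n36937 := d15_1 D80841 (iv7 F124019) F124018
def n80844 : Q := act 1 n36918
theorem D80844 : act 1 n36918 = n80844 := rfl
theorem F124556 : act 7 n80844 = n79137 := d15_2 (iv0 F124206) D80844 (iv2 F124204)
def n80845 : Q := act 5 n36918
theorem D80845 : act 5 n36918 = n80845 := rfl
theorem F124557 : act 0 n80845 = n79282 := d21_7 D17469 (iv1 F56845) F56847 D36822 F120728 D36918 D80845 (iv5 D79282) (iv6 D36088) (iv1 F28458)
def n80852 : Q := act 1 n36922
theorem D80852 : act 1 n36922 = n80852 := rfl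
def n80855 : Q := act 6 n36922
theorem D80855 : act 6 n36922 = n80855 := rfl
theorem F124568 : act 4 n80855 = n36923 := d10_1 D80855 (iv6 D36923) D36922
def n80857 : Q := act 0 n36934
theorem D80857 : act 0 n36934 = n80857 := rfl
theorem F124573 : act 1 n45977 = n80857 := d15_0 (iv0 D80857) F118307 (iv2 F118310)
def n80858 : Q := act 1 n36934
theorem D80858 : act 1 n36934 = n80858 := rfl
theorem F124574 : act 1 n80858 = n45977 := d15_1 D80858 F118311 (iv2 F118306)
theorem F124575 : act 5 n79320 = n80858 := d21_6 (iv5 D75645) F59746 F59755 (iv6 F59756) (iv1 F56855) D79320 (iv1 D80858) (iv5 D36934) D36935 (iv1 F118343)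
theorem F124576 : act 2 n80858 = n46213 := d2_1 F124575 F72875 F124499
theorem F124577 : act 3 n80858 = n37001 := d6_1 F124575 (iv5 F119052) (iv3 F121896)
theorem F124578 : act 7 n46214 = n80858 := d15_2 (iv0 D46213) D46214 F124576
theorem F124579 : act 7 n80857 = n46213 := d15_2 F124574 F124573 (iv2 F124576)
theorem F124580 : act 2 n46214 = n80857 := d4_3 F124579 (iv2 F124576) (iv7 F124578)
theorem F124581 : act 3 n56581 = n46214 := d8_3 F124578 F124577 F124485
def n80859 : Q := act 4 n36934
theorem D80859 : act 4 n36934 = n80859 := rfl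
theorem F124582 : act 2 n80859 = n46231 := d1_1 D80859 (iv4 D46231) (iv2 F118306)
theorem F124584 : act 7 n80859 = n46215 := d11_2 (iv7 F118307) D80859 (iv4 D46215)
def n80860 : Q := act 0 n36936
theorem D80860 : act 0 n36936 = n80860 := rfl
def n80861 : Q := act 1 n36936
theorem D80861 : act 1 n36936 = n80861 := rfl
def n80864 : Q := act 6 n36936
theorem D80864 : act 6 n36936 = n80864 := rfl
theorem F124586 : act 3 n80864 = n36938 := d7_1 D80864 (iv6 D36938) D36936
def n80867 : Q := act 0 n36938
theorem D80867 : act 0 n36938 = n80867 := rfl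
def n80871 : Q := act 2 n36944
theorem D80871 : act 2 n36944 = n80871 := rfl
theorem F124591 : act 7 n80871 = n46240 := d4_2 (iv7 F122081) D80871 (iv2 F122078)
theorem F124592 : act 1 n80871 = n44892 := d15_0 (iv0 F122080) (iv7 F122081) D80871
def n80873 : Q := act 0 n36945
theorem D80873 : act 0 n36945 = n80873 := rfl
theorem F124598 : act 4 n80873 = n57075 := d18_3 D17782 D36945 D80873 F90117 (iv4 F120656) (iv0 D36914) (iv4 D17774) (iv0 D8380) D8382
theorem F124599 : act 1 n36949 = n80873 := d15_0 (iv0 D80873) (iv7 F122121) F122120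
def n80876 : Q := act 5 n36945
theorem D80876 : act 5 n36945 = n80876 := rfl
def n80877 : Q := act 6 n36948
theorem D80877 : act 6 n36948 = n80877 := rfl
theorem F124606 : act 2 n80877 = n46243 := d3_1 D80877 (iv6 D46243) (iv2 F118464)
theorem F124608 : act 7 n80877 = n46216 := d14_2 (iv7 F118466) D80877 (iv6 D46216) (iv7 F118307) F118048
def n80879 : Q := act 5 n36949
theorem D80879 : act 5 n36949 = n80879 := rfl
def n80880 : Q := act 6 n36949
theorem D80880 : act 6 n36949 = n80880 := rfl
theorem F124609 : act 4 n80880 = n36950 := d10_1 D80880 (iv6 D36950) D36949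
def n80886 : Q := act 6 n36952
theorem D80886 : act 6 n36952 = n80886 := rfl
def n80897 : Q := act 0 n36956
theorem D80897 : act 0 n36956 = n80897 := rfl
def n80898 : Q := act 1 n36956
theorem D80898 : act 1 n36956 = n80898 := rfl
def n80899 : Q := act 7 n36956
theorem D80899 : act 7 n36956 = n80899 := rfl
def n80908 : Q := act 0 n36960
theorem D80908 : act 0 n36960 = n80908 := rfl
def n80909 : Q := act 1 n36960
theorem D80909 : act 1 n36960 = n80909 := rfl
def n80911 : Q := act 7 n36960
theorem D80911 : act 7 n36960 = n80911 := rfl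
theorem F124630 : act 4 n80911 = n36963 := d11_1 D80911 (iv7 D36963) (iv4 F57875)
def n80912 : Q := act 3 n36961
theorem D80912 : act 3 n36961 = n80912 := rfl
theorem F124632 : act 2 n80912 = n37105 := d0_1 D80912 (iv3 D37105) (iv2 F53102) (iv3 F122106) F122105
def n80913 : Q := act 4 n36961
theorem D80913 : act 4 n36961 = n80913 := rfl
def n80915 : Q := act 4 n36962
theorem D80915 : act 4 n36962 = n80915 := rfl
def n80916 : Q := act 0 n36964
theorem D80916 : act 0 n36964 = n80916 := rfl
def n80917 : Q := act 1 n36964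
theorem D80917 : act 1 n36964 = n80917 := rfl
theorem F124638 : act 1 n80917 = n80899 := d15_1 D80917 (iv7 D80899) (iv2 F57877)
def n80918 : Q := act 7 n36964
theorem D80918 : act 7 n36964 = n80918 := rfl
theorem F124639 : act 2 n80918 = n80899 := d4_1 D80918 (iv7 D80899) (iv2 F57877)
theorem F124640 : act 3 n80918 = n45304 := d8_1 D80918 (iv7 D45304) (iv3 F57878)
theorem F124642 : act 1 n80899 = n80916 := d15_0 (iv0 D80916) D80918 F124639
theorem F124643 : act 1 n80898 = n80918 := d15_1 D80898 (iv7 D80918) F57877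
def n80919 : Q := act 0 n36965
theorem D80919 : act 0 n36965 = n80919 := rfl
def n80920 : Q := act 1 n36965
theorem D80920 : act 1 n36965 = n80920 := rfl
def n80925 : Q := act 0 n36967
theorem D80925 : act 0 n36967 = n80925 := rfl
def n80926 : Q := act 1 n36967
theorem D80926 : act 1 n36967 = n80926 := rfl
theorem F124653 : act 1 n80926 = n80911 := d15_1 D80926 (iv7 D80911) (iv2 F57882)
def n80928 : Q := act 7 n36967
theorem D80928 : act 7 n36967 = n80928 := rfl
theorem F124655 : act 2 n80928 = n80911 := d4_1 D80928 (iv7 D80911) (iv2 F57882)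
theorem F124656 : act 4 n80928 = n36970 := d11_1 D80928 (iv7 D36970) (iv4 F57883)
theorem F124658 : act 1 n80911 = n80925 := d15_0 (iv0 D80925) D80928 F124655
theorem F124659 : act 1 n80909 = n80928 := d15_1 D80909 (iv7 D80928) F57882
theorem F124660 : act 1 n80928 = n80908 := d15_0 (iv0 D80908) D80911 (iv2 F124655)
def n80930 : Q := act 6 n36968
theorem D80930 : act 6 n36968 = n80930 := rfl
theorem F124668 : act 5 n80930 = n55784 := d21_6 (iv5 D8365) (iv1 F5754) D8391 D17791 D36968 D80930 (iv1 D55784) F43414 (iv6 D17788) F16907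
theorem F124669 : act 0 n80648 = n80930 := d21_4 (iv5 D17742) D17740 D36804 D80648 (iv6 D80930) F122111 (iv1 D79513) D79514 F122113 F56923
def n80932 : Q := act 4 n36969
theorem D80932 : act 4 n36969 = n80932 := rfl
theorem F124672 : act 2 n80932 = n80915 := d1_1 D80932 (iv4 D80915) F122103
theorem F124673 : act 7 n80932 = n80913 := d11_2 (iv7 F122104) D80932 (iv4 D80913)
def n80940 : Q := act 0 n36973
theorem D80940 : act 0 n36973 = n80940 := rfl
def n80941 : Q := act 1 n36973
theorem D80941 : act 1 n36973 = n80941 := rfl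
def n80943 : Q := act 7 n36973
theorem D80943 : act 7 n36973 = n80943 := rfl
def n80951 : Q := act 7 n36976
theorem D80951 : act 7 n36976 = n80951 := rfl
theorem F124696 : act 2 n80951 = n80943 := d4_1 D80951 (iv7 D80943) (iv2 F57900)
theorem F124698 : act 1 n80941 = n80951 := d15_1 D80941 (iv7 D80951) F57900
theorem F124699 : act 1 n80951 = n80940 := d15_0 (iv0 D80940) D80943 (iv2 F124696)
def n80952 : Q := act 2 n36977
theorem D80952 : act 2 n36977 = n80952 := rfl
theorem F124700 : act 7 n36978 = n80952 := d15_2 (iv0 D36977) D36978 (iv2 D80952)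
def n80954 : Q := act 4 n36977
theorem D80954 : act 4 n36977 = n80954 := rfl
def n80957 : Q := act 7 n36977
theorem D80957 : act 7 n36977 = n80957 := rfl
theorem F124702 : act 2 n80957 = n36978 := d4_1 D80957 F124700 (iv2 D80952)
def n80971 : Q := act 3 n36985
theorem D80971 : act 3 n36985 = n80971 := rfl
theorem F124714 : act 4 n80971 = n46189 := d5_2 D36985 D80971 F72857 F34584 (iv3 F118018)
theorem F124716 : act 7 n80971 = n46162 := d8_2 (iv7 F118037) D80971 F72821
theorem F124717 : act 2 n79381 = n80971 := d4_3 F124716 F72820 D79381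
theorem F124718 : act 1 n79379 = n80971 := d15_1 D79379 F124716 F72820
theorem F124719 : act 1 n80971 = n79378 := d15_0 (iv0 D79378) D79381 F124717
def n80972 : Q := act 5 n36985
theorem D80972 : act 5 n36985 = n80972 := rfl
theorem F124720 : act 7 n80972 = n46165 := d13_2 (iv7 F118037) D80972 (iv5 D46165)
def n80973 : Q := act 4 n36986
theorem D80973 : act 4 n36986 = n80973 := rfl
def n80974 : Q := act 3 n36993
theorem D80974 : act 3 n36993 = n80974 := rfl
def n80975 : Q := act 5 n36993
theorem D80975 : act 5 n36993 = n80975 := rfl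
def n80976 : Q := act 6 n36993
theorem D80976 : act 6 n36993 = n80976 := rfl
theorem F124725 : act 4 n80976 = n36995 := d10_1 D80976 (iv6 D36995) D36993
def n80978 : Q := act 6 n36994
theorem D80978 : act 6 n36994 = n80978 := rfl
theorem F124728 : act 5 n80978 = n78388 := d12_1 D80978 (iv6 D78388) F57915 (iv6 D36995) D36994
def n80979 : Q := act 7 n36995
theorem D80979 : act 7 n36995 = n80979 := rfl
theorem F124731 : act 5 n80979 = n40083 := d13_1 D80979 F118096 F57915
theorem F124733 : act 1 n37006 = n80979 := d15_1 D37006 (iv7 D80979) F57914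
theorem F124734 : act 1 n80979 = n37005 := d15_1 F124733 F122405 (iv2 F122410)
def n80981 : Q := act 5 n36996
theorem D80981 : act 5 n36996 = n80981 := rfl
theorem F124736 : act 7 n80981 = n77284 := d13_2 (iv7 F120727) D80981 (iv5 D77284)
def n80982 : Q := act 0 n36998
theorem D80982 : act 0 n36998 = n80982 := rfl
theorem F124737 : act 2 n70831 = n80982 := d15_3 (iv0 D80982) (iv0 F86659) (iv7 F107302)
theorem F124738 : act 1 n70827 = n80982 := d15_0 (iv0 D80982) F57917 (iv2 F107298)
theorem F124739 : act 7 n80982 = n70761 := d4_2 (iv7 F107302) F124737 F107243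
theorem F124740 : act 6 n71006 = n80982 := d14_5 F124739 (iv6 D70761) (iv7 F51932) D69818 (iv7 F123873)
theorem F124741 : act 1 n54775 = n70827 := d15_0 F124738 F124739 F107243
def n80983 : Q := act 2 n36998
theorem D80983 : act 2 n36998 = n80983 := rfl
theorem F124742 : act 4 n80983 = n37010 := d1_2 (iv4 F57916) D80983 (iv2 D37010)
theorem F124744 : act 1 n80983 = n70761 := d15_0 F107303 (iv7 F57917) D80983
theorem F124745 : act 1 n70831 = n80983 := d15_0 F124744 (iv7 F124739) (iv2 F124737)
def n80984 : Q := act 5 n36998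
theorem D80984 : act 5 n36998 = n80984 := rfl
theorem F124747 : act 7 n80984 = n70832 := d13_2 (iv7 F57917) D80984 (iv5 D70832)
def n80985 : Q := act 6 n36998
theorem D80985 : act 6 n36998 = n80985 := rfl
theorem F124749 : act 4 n80985 = n37012 := d10_1 D80985 (iv6 D37012) (iv4 F57916)
def n80986 : Q := act 0 n36999
theorem D80986 : act 0 n36999 = n80986 := rfl
def n80990 : Q := act 0 n37000
theorem D80990 : act 0 n37000 = n80990 := rfl
def n80991 : Q := act 1 n37000
theorem D80991 : act 1 n37000 = n80991 := rfl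
def n80992 : Q := act 5 n37000
theorem D80992 : act 5 n37000 = n80992 := rfl
theorem F124750 : act 1 n80992 = n78291 := d17_6 F118792 D35685 F118794 F28945 (iv4 F57918) D80992 (iv5 D78291) (iv0 F118820) (iv4 D40075)
theorem F124751 : act 0 n80992 = n40126 := d21_7 F30179 (iv1 F30287) F30288 D19215 (iv1 F120704) D37000 D80992 (iv5 D40126) (iv6 D18957) (iv1 F30182)
def n80993 : Q := act 7 n37000
theorem D80993 : act 7 n37000 = n80993 := rfl
theorem F124752 : act 4 n80993 = n37007 := d11_1 D80993 (iv7 D37007) (iv4 F57918)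
def n80994 : Q := act 4 n37001
theorem D80994 : act 4 n37001 = n80994 := rfl
def n80995 : Q := act 6 n37001
theorem D80995 : act 6 n37001 = n80995 := rfl
theorem F124755 : act 0 n56595 = n80995 := d21_4 (iv5 F122400) (iv1 D36318) (iv5 F44006) D56595 (iv6 D80995) (iv5 F119052) (iv1 F122398) F122394 F118078 F118060
def n80996 : Q := act 3 n37002
theorem D80996 : act 3 n37002 = n80996 := rfl
theorem F124756 : act 5 n80996 = n79748 := d6_2 F122400 D80996 (iv3 D79748)
def n81003 : Q := act 0 n37004
theorem D81003 : act 0 n37004 = n81003 := rfl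
def n81004 : Q := act 1 n37004
theorem D81004 : act 1 n37004 = n81004 := rfl
theorem F124759 : act 6 n56582 = n81004 := d21_3 F118089 F118543 F118542 (iv1 D81004) (iv6 D37004) (iv5 D17806) D17802 D36986 F118042 F118038
theorem F124760 : act 2 n81004 = n80995 := d3_1 F124759 (iv6 D80995) F124487
def n81005 : Q := act 4 n37005
theorem D81005 : act 4 n37005 = n81005 := rfl
theorem F124761 : act 2 n81005 = n77318 := d1_1 D81005 F116120 (iv2 F122401)
def n81006 : Q := act 3 n37006
theorem D81006 : act 3 n37006 = n81006 := rfl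
theorem F124763 : act 7 n81006 = n77315 := d8_2 (iv7 F122412) D81006 F116119
def n81007 : Q := act 4 n37006
theorem D81007 : act 4 n37006 = n81007 := rfl
theorem F124764 : act 7 n81007 = n77318 := d11_2 (iv7 F122412) D81007 F116120
def n81008 : Q := act 2 n37008
theorem D81008 : act 2 n37008 = n81008 := rfl
def n81009 : Q := act 3 n37008
theorem D81009 : act 3 n37008 = n81009 := rfl
theorem F124766 : act 4 n81009 = n71721 := d20_6 F5408 D3763 D8398 D17811 D37008 D81009 (iv1 D71721) (iv4 D33158) (iv3 D15989) (iv1 D7481)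
def n81010 : Q := act 4 n37008
theorem D81010 : act 4 n37008 = n81010 := rfl
theorem F124767 : act 0 n81010 = n71608 := d20_1 D81010 (iv4 D71608) (iv3 D33110) (iv1 D15966) F11728 F5408 D3763 D8398 D17811 D37008
def n81011 : Q := act 5 n37008
theorem D81011 : act 5 n37008 = n81011 := rfl
def n81012 : Q := act 6 n37008
theorem D81012 : act 6 n37008 = n81012 := rfl
def n81013 : Q := act 7 n37008
theorem D81013 : act 7 n37008 = n81013 := rfl
def n81018 : Q := act 5 n37010
theorem D81018 : act 5 n37010 = n81018 := rfl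
theorem F124769 : act 2 n81018 = n37011 := d2_1 D81018 (iv5 D37011) D37010
theorem F124770 : act 3 n81018 = n70794 := d6_1 D81018 (iv5 D70794) (iv3 F57924)
theorem F124771 : act 7 n81018 = n70828 := d13_2 (iv7 F57925) D81018 (iv5 D70828)
theorem F124772 : act 1 n70835 = n81018 := d15_1 D70835 F124771 F107299
theorem F124773 : act 1 n81018 = n70834 := d15_0 (iv0 D70834) (iv7 F57930) (iv2 F124769)
def n81019 : Q := act 6 n37010
theorem D81019 : act 6 n37010 = n81019 := rfl
theorem F124774 : act 2 n81019 = n37012 := d3_1 D81019 (iv6 D37012) D37010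
theorem F124775 : act 3 n81019 = n70795 := d7_1 D81019 (iv6 D70795) (iv3 F57924)
def n81020 : Q := act 0 n37011
theorem D81020 : act 0 n37011 = n81020 := rfl
theorem F124776 : act 1 n70828 = n81020 := d15_0 (iv0 D81020) F57930 (iv2 F107299)
def n81021 : Q := act 1 n37011
theorem D81021 : act 1 n37011 = n81021 := rfl
theorem F124777 : act 1 n81021 = n70828 := d15_1 D81021 (iv7 F124771) F124769
def n81022 : Q := act 4 n37011
theorem D81022 : act 4 n37011 = n81022 := rfl
theorem F124778 : act 7 n81022 = n70836 := d11_2 (iv7 F57930) D81022 (iv4 D70836)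
def n81023 : Q := act 6 n37011
theorem D81023 : act 6 n37011 = n81023 := rfl
theorem F124779 : act 3 n81023 = n37015 := d7_1 D81023 (iv6 D37015) (iv3 F57929)
def n81024 : Q := act 0 n37012
theorem D81024 : act 0 n37012 = n81024 := rfl
def n81025 : Q := act 1 n37012
theorem D81025 : act 1 n37012 = n81025 := rfl
def n81026 : Q := act 3 n37013
theorem D81026 : act 3 n37013 = n81026 := rfl
theorem F124780 : act 5 n81026 = n79775 := d6_2 (iv5 F57934) D81026 (iv3 D79775)
theorem F124781 : act 6 n81026 = n61640 := d7_2 (iv6 F57936) D81026 (iv3 D61640)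
theorem F124782 : act 7 n81026 = n70807 := d8_2 (iv7 F57933) D81026 (iv3 D70807)
theorem F124783 : act 0 n81026 = n54431 := d21_1 (iv5 F124780) (iv5 D54431) F41979 (iv1 F56336) F56339 (iv5 F77150) F94902 D68398 (iv6 F112201) F122476
def n81027 : Q := act 4 n37013
theorem D81027 : act 4 n37013 = n81027 := rfl
theorem F124786 : act 6 n81027 = n61641 := d10_2 (iv6 F57936) D81027 (iv4 D61641)
theorem F124788 : act 0 n81027 = n54608 := d17_0 (iv5 F98118) (iv1 F98120) F89914 F46933 F23178 F41801 D17812 D37013 D81027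
def n81029 : Q := act 6 n37014
theorem D81029 : act 6 n37014 = n81029 := rfl
theorem F124792 : act 4 n81029 = n37015 := d10_1 D81029 (iv6 D37015) D37014
def n81030 : Q := act 7 n37015
theorem D81030 : act 7 n37015 = n81030 := rfl
theorem F124794 : act 6 n81030 = n61599 := d14_1 D81030 F96156 (iv6 D32830) F30530 D37015
theorem F124795 : act 1 n70367 = n81030 := d15_1 (iv0 F106850) (iv7 D81030) F57944
def n81031 : Q := act 3 n37016
theorem D81031 : act 3 n37016 = n81031 := rfl
theorem F124798 : act 6 n81031 = n59972 := d7_2 F57948 D81031 F94455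
def n81034 : Q := act 4 n37017
theorem D81034 : act 4 n37017 = n81034 := rfl
def n81037 : Q := act 5 n37018
theorem D81037 : act 5 n37018 = n81037 := rfl
theorem F124804 : act 1 n81037 = n56599 := d17_6 (iv1 F21722) (iv5 F21723) (iv1 F43771) (iv5 F28952) D37018 D81037 (iv5 D56599) F44016 F29000
def n81042 : Q := act 5 n37022
theorem D81042 : act 5 n37022 = n81042 := rfl
theorem F124814 : act 1 n81042 = n37765 := d17_6 (iv1 F21804) (iv5 F22040) (iv1 F30004) D18849 (iv4 F57967) D81042 (iv5 D37765) F44173 F44171
def n81052 : Q := act 1 n37026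
theorem D81052 : act 1 n37026 = n81052 := rfl
theorem F124826 : act 4 n81052 = n37724 := d18_7 F55004 (iv4 F114150) (iv1 F114152) F56412 (iv5 F28983) (iv4 F57972) D81052 (iv0 F58585) F44165
def n81054 : Q := act 3 n37035
theorem D81054 : act 3 n37035 = n81054 := rfl
theorem F124829 : act 7 n81054 = n77086 := d8_2 (iv7 F120750) D81054 F115813
def n81055 : Q := act 5 n37035
theorem D81055 : act 5 n37035 = n81055 := rfl
theorem F124830 : act 7 n81055 = n77090 := d13_2 (iv7 F120750) D81055 (iv5 D77090)
def n81058 : Q := act 5 n37038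
theorem D81058 : act 5 n37038 = n81058 := rfl
theorem F124833 : act 2 n81058 = n37044 := d2_1 D81058 (iv5 D37044) (iv2 F57976)
def n81059 : Q := act 6 n37038
theorem D81059 : act 6 n37038 = n81059 := rfl
theorem F124835 : act 4 n81059 = n37040 := d10_1 D81059 (iv6 D37040) D37038
theorem F124836 : act 1 n75707 = n81059 := d18_6 (iv1 D36647) (iv4 F57503) F57504 (iv4 D34617) D34618 D75707 F124835 F120889 F57506
def n81061 : Q := act 3 n37042
theorem D81061 : act 3 n37042 = n81061 := rfl
theorem F124838 : act 4 n81061 = n75402 := d5_2 (iv4 F117980) D81061 F113151 F54748 (iv3 F54740)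
theorem F124839 : act 7 n81061 = n75379 := d8_2 (iv7 F117982) D81061 F113140
def n81063 : Q := act 0 n37043
theorem D81063 : act 0 n37043 = n81063 := rfl
theorem F124841 : act 1 n70793 = n81063 := d15_0 (iv0 D81063) F57980 (iv2 F107262)
def n81065 : Q := act 2 n37043
theorem D81065 : act 2 n37043 = n81065 := rfl
theorem F124842 : act 4 n81065 = n37053 := d1_2 (iv4 F57979) D81065 (iv2 D37053)
theorem F124843 : act 7 n81065 = n70793 := d4_2 (iv7 F57980) D81065 F107262
theorem F124846 : act 1 n70797 = n81065 := d15_1 D70797 F124843 F107262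
def n81066 : Q := act 5 n37043
theorem D81066 : act 5 n37043 = n81066 := rfl
theorem F124848 : act 7 n81066 = n70798 := d13_2 (iv7 F57980) D81066 (iv5 D70798)
def n81067 : Q := act 6 n37043
theorem D81067 : act 6 n37043 = n81067 := rfl
theorem F124850 : act 4 n81067 = n37055 := d10_1 D81067 (iv6 D37055) (iv4 F57979)
def n81068 : Q := act 0 n37044
theorem D81068 : act 0 n37044 = n81068 := rfl
def n81069 : Q := act 1 n37044
theorem D81069 : act 1 n37044 = n81069 := rfl
def n81072 : Q := act 0 n37045
theorem D81072 : act 0 n37045 = n81072 := rfl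
theorem F124851 : act 4 n81072 = n75700 := d18_3 F122526 (iv4 F57981) D81072 (iv5 D75700) (iv4 F113063) (iv0 D36654) F28740 D17668 D36666
theorem F124852 : act 2 n75707 = n81072 := d1_3 F124851 F113560 D75707
def n81073 : Q := act 1 n37045
theorem D81073 : act 1 n37045 = n81073 := rfl
theorem F124853 : act 7 n81073 = n75707 := d15_2 (iv0 D81072) D81073 F124852
theorem F124854 : act 4 n75365 = n81073 := d20_6 (iv4 F44923) (iv1 F60349) F60348 (iv3 F117871) (iv1 F59600) (iv3 F113095) (iv1 D81073) F57981 F28995 F28987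
theorem F124855 : act 6 n81073 = n75773 := d10_2 F113097 F124854 (iv4 D75773)
theorem F124857 : act 7 n77129 = n80512 := d14_4 (iv7 F124853) F124855 F113635 D77129 F123762
theorem F124858 : act 2 n77129 = n80511 := d15_3 (iv0 D80511) D80512 (iv7 F124857)
theorem F124859 : act 6 n80511 = n77050 := d3_2 D77129 F124858 (iv2 F115781)
def n81075 : Q := act 3 n37046
theorem D81075 : act 3 n37046 = n81075 := rfl
def n81077 : Q := act 5 n37046
theorem D81077 : act 5 n37046 = n81077 := rfl
theorem F124866 : act 6 n81077 = n55853 := d21_3 D17828 D37046 D81077 (iv1 F123736) (iv6 D80498) (iv5 D36724) (iv1 F43892) F89230 (iv6 F121327) (iv1 D17825)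
theorem F124867 : act 0 n56203 = n81077 := d21_10 (iv5 D81077) (iv1 F89423) (iv5 D56545) D56546 (iv1 F120898) (iv6 D36667) D36666 F122526 (iv5 F57107) (iv6 F88888)
def n81078 : Q := act 6 n37046
theorem D81078 : act 6 n37046 = n81078 := rfl
theorem F124869 : act 5 n81078 = n77174 := d12_1 D81078 (iv6 D77174) (iv5 F121376) (iv6 F124866) (iv5 D81077)
theorem F124870 : act 0 n81078 = n37111 := d21_4 (iv5 F88887) F124867 (iv5 D81077) D81078 (iv6 D37111) (iv5 D17857) (iv1 F13209) D17856 (iv6 F55949) (iv1 F120823)
def n81080 : Q := act 6 n37047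
theorem D81080 : act 6 n37047 = n81080 := rfl
theorem F124873 : act 2 n81080 = n78485 := d3_1 D81080 F120774 (iv2 F121860)
theorem F124874 : act 5 n81080 = n78125 := d12_1 D81080 (iv6 D78125) (iv5 D35622) D35623 (iv5 F120880)
theorem F124876 : act 7 n78489 = n81080 := d13_0 F124874 F121866 D78489
def n81081 : Q := act 0 n37048
theorem D81081 : act 0 n37048 = n81081 := rfl
def n81086 : Q := act 3 n37051
theorem D81086 : act 3 n37051 = n81086 := rfl
theorem F124879 : act 4 n81086 = n71693 := d20_6 F20985 (iv1 F9660) D8403 D17830 D37051 D81086 (iv1 D71693) (iv4 D33148) (iv3 D15984) (iv1 F20989)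
def n81091 : Q := act 3 n37052
theorem D81091 : act 3 n37052 = n81091 := rfl
theorem F124881 : act 4 n71590 = n81091 := d20_2 D33106 D71590 (iv3 D81091) (iv1 D37052) (iv3 D17830) (iv4 D8403) (iv1 D3764) (iv4 F5408) (iv3 F11728) D15965
theorem E13430 : n71605 = n54769 := (c20_11 (iv4 F107244) (iv1 F124744) F124742 F57924 (iv1 F57986) D81091 (iv4 F124881) (iv1 F108106) (iv4 D33111) D33110 D71605)
theorem F124882 : act 1 n54769 = n33110 := (sb E13430 (iv0 D71605))
theorem E13431 : n71606 = n54779 := (c15_2 F124882 D71606 (iv7 D54779) (iv2 F86641))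
theorem F124883 : act 0 n54779 = n33110 := (sb E13431 (iv1 D71606))
theorem F124884 : act 0 n54429 = n81091 := d20_10 (iv4 F124881) (iv1 F108106) (iv4 D33111) D33110 (iv1 F124882) F86642 (iv4 F106832) F110445 (iv4 D54430) D54429
def n81092 : Q := act 4 n37052
theorem D81092 : act 4 n37052 = n81092 := rfl
def n81093 : Q := act 5 n37052
theorem D81093 : act 5 n37052 = n81093 := rfl
def n81094 : Q := act 6 n37052
theorem D81094 : act 6 n37052 = n81094 := rfl
def n81095 : Q := act 5 n37053
theorem D81095 : act 5 n37053 = n81095 := rfl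
theorem F124885 : act 2 n81095 = n37054 := d2_1 D81095 (iv5 D37054) D37053
theorem F124886 : act 3 n81095 = n70828 := d6_1 D81095 (iv5 D70828) (iv3 F57983)
theorem F124887 : act 7 n81095 = n70794 := d13_2 (iv7 F57984) D81095 (iv5 D70794)
theorem F124888 : act 1 n70801 = n81095 := d15_1 D70801 F124887 F107263
theorem F124889 : act 1 n81095 = n70800 := d15_0 (iv0 D70800) (iv7 F57989) (iv2 F124885)
def n81096 : Q := act 6 n37053
theorem D81096 : act 6 n37053 = n81096 := rfl
theorem F124890 : act 2 n81096 = n37055 := d3_1 D81096 (iv6 D37055) D37053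
theorem F124891 : act 3 n81096 = n70829 := d7_1 D81096 (iv6 D70829) (iv3 F57983)
def n81097 : Q := act 0 n37054
theorem D81097 : act 0 n37054 = n81097 := rfl
theorem F124892 : act 1 n70794 = n81097 := d15_0 (iv0 D81097) F57989 (iv2 F107263)
def n81098 : Q := act 1 n37054
theorem D81098 : act 1 n37054 = n81098 := rfl
theorem F124893 : act 1 n81098 = n70794 := d15_1 D81098 (iv7 F124887) F124885
def n81099 : Q := act 4 n37054
theorem D81099 : act 4 n37054 = n81099 := rfl
theorem F124894 : act 7 n81099 = n70802 := d11_2 (iv7 F57989) D81099 (iv4 D70802)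
def n81100 : Q := act 6 n37054
theorem D81100 : act 6 n37054 = n81100 := rfl
theorem F124895 : act 3 n81100 = n37057 := d7_1 D81100 (iv6 D37057) (iv3 F57988)
def n81101 : Q := act 0 n37055
theorem D81101 : act 0 n37055 = n81101 := rfl
def n81102 : Q := act 1 n37055
theorem D81102 : act 1 n37055 = n81102 := rfl
def n81103 : Q := act 3 n37056
theorem D81103 : act 3 n37056 = n81103 := rfl
theorem F124896 : act 7 n81103 = n70812 := d8_2 (iv7 F57992) D81103 (iv3 D70812)
def n81104 : Q := act 6 n37056
theorem D81104 : act 6 n37056 = n81104 := rfl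
theorem F124897 : act 2 n81104 = n70843 := d3_1 D81104 (iv6 D70843) (iv2 F57991)
theorem F124898 : act 4 n81104 = n37057 := d10_1 D81104 (iv6 D37057) D37056
theorem F124899 : act 0 n60940 = n81104 := d21_4 (iv5 D13993) (iv1 F23087) (iv5 F46534) D60940 (iv6 D81104) (iv5 F108226) (iv1 D71754) (iv5 D33169) F25493 (iv1 F23320)
def n81111 : Q := act 0 n37063
theorem D81111 : act 0 n37063 = n81111 := rfl
def n81119 : Q := act 1 n37065
theorem D81119 : act 1 n37065 = n81119 := rfl
theorem F124908 : act 1 n81119 = n37072 := d15_1 D81119 (iv7 F58608) F58607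
theorem F124910 : act 5 n81119 = n37723 := d17_7 D27202 F43976 F30551 F30471 D17837 D37065 D81119 F58580 (iv4 D27204)
def n81122 : Q := act 6 n37068
theorem D81122 : act 6 n37068 = n81122 := rfl
theorem F124914 : act 2 n81122 = n37070 := d3_1 D81122 (iv6 D37070) D37068
def n81123 : Q := act 0 n37069
theorem D81123 : act 0 n37069 = n81123 := rfl
theorem F124916 : act 4 n81123 = n75375 := d18_3 F120777 D37069 D81123 (iv5 D75375) (iv4 F57516) F118231 (iv4 D17827) D17825 D37036
theorem F124917 : act 2 n75397 = n81123 := d1_3 F124916 F113120 D75397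
def n81124 : Q := act 1 n37069
theorem D81124 : act 1 n37069 = n81124 := rfl
theorem F124919 : act 7 n81124 = n75397 := d15_2 (iv0 D81123) D81124 F124917
theorem F124920 : act 4 n75398 = n81124 := d20_6 D8408 D17843 F43769 D18107 (iv1 F118008) (iv3 F113147) (iv1 D81124) (iv4 D37069) (iv3 D17840) (iv1 D8407)
def n81128 : Q := act 0 n37070
theorem D81128 : act 0 n37070 = n81128 := rfl
def n81129 : Q := act 1 n37070
theorem D81129 : act 1 n37070 = n81129 := rfl
def n81140 : Q := act 4 n37074
theorem D81140 : act 4 n37074 = n81140 := rfl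
theorem F124926 : act 3 n81140 = n37755 := d5_1 D81140 (iv4 D37755) (iv3 D18107) (iv4 F43769) D37074
def n81142 : Q := act 0 n37075
theorem D81142 : act 0 n37075 = n81142 := rfl
theorem F124928 : act 5 n81142 = n56560 := d17_3 D17843 D37075 D81142 (iv4 D56560) (iv5 F43979) F43761 F30471 (iv0 D8406) D8408
def n81143 : Q := act 1 n37075
theorem D81143 : act 1 n37075 = n81143 := rfl
theorem F124932 : act 1 n81143 = n37077 := d15_1 D81143 (iv7 F89511) F89510
theorem F124934 : act 5 n81143 = n56558 := d17_7 F30098 (iv5 D18849) F29712 (iv5 D18109) (iv4 F43769) D37075 D81143 F89442 (iv4 D27290)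
def n81175 : Q := act 3 n37086
theorem D81175 : act 3 n37086 = n81175 := rfl
def n81177 : Q := act 6 n37088
theorem D81177 : act 6 n37088 = n81177 := rfl
theorem F124954 : act 4 n81177 = n37089 := d10_1 D81177 (iv6 D37089) D37088
def n81178 : Q := act 0 n37089
theorem D81178 : act 0 n37089 = n81178 := rfl
theorem F124955 : act 5 n81178 = n79744 := d21_0 (iv1 D79744) (iv5 F89506) (iv6 D56595) F118091 F34569 (iv5 D10533) (iv1 F17404) D17848 D37089 D81178
theorem F124956 : act 7 n37095 = n81178 := d13_0 F124955 F124490 F122391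
theorem F124957 : act 0 n81178 = n37096 := d21_1 (iv5 F124955) (iv5 F67185) F67186 (iv1 F119517) (iv6 D78308) D78307 (iv1 F119512) (iv5 F57915) D78388 (iv1 F122432)
theorem F124958 : act 2 n81178 = n37094 := d15_3 (iv0 D37094) D37095 F124956
theorem F124959 : act 5 n37094 = n78394 := d2_2 (iv5 F124955) F124958 F124491
def n81179 : Q := act 1 n37089
theorem D81179 : act 1 n37089 = n81179 := rfl
theorem F124960 : act 1 n81179 = n37096 := d15_1 D81179 (iv7 D37096) (iv2 F58010)
theorem F124961 : act 7 n81179 = n37094 := d15_2 (iv0 D81178) D81179 (iv2 F124958)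
theorem F124962 : act 5 n79743 = n81179 := d21_0 (iv1 D81179) (iv5 F67164) (iv6 D42863) F32116 (iv6 F30263) (iv5 D18953) F118103 D17534 D36316 D79743
theorem F124963 : act 6 n56581 = n81179 := d21_3 (iv5 F57040) F119533 F119532 (iv1 D81179) (iv6 D37089) (iv5 D17848) (iv1 F17412) D8874 (iv6 F30204) F118082
theorem F124964 : act 2 n81179 = n37095 := d3_1 F124963 (iv6 F122399) (iv2 F124486)
def n81180 : Q := act 7 n37089
theorem D81180 : act 7 n37089 = n81180 := rfl
theorem F124967 : act 1 n37095 = n81180 := d15_1 D37095 (iv7 D81180) F58010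
theorem F124968 : act 1 n81180 = n37094 := d15_1 F124967 (iv7 F124961) F124964
def n81182 : Q := act 6 n37090
theorem D81182 : act 6 n37090 = n81182 := rfl
theorem F124971 : act 2 n81182 = n40738 := d3_1 D81182 F61842 F58012
theorem F124972 : act 4 n81182 = n40589 := d10_1 D81182 F61712 (iv4 F58011)
theorem F124973 : act 0 n56594 = n81182 := d18_2 (iv1 F118092) D56594 F124972 (iv5 D40589) (iv4 F56008) F120735 (iv4 D27210) (iv0 F118052) (iv5 F60883)
def n81183 : Q := act 0 n37091
theorem D81183 : act 0 n37091 = n81183 := rfl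
def n81184 : Q := act 1 n37091
theorem D81184 : act 1 n37091 = n81184 := rfl
def n81185 : Q := act 2 n37091
theorem D81185 : act 2 n37091 = n81185 := rfl
theorem F124975 : act 4 n81185 = n37099 := d1_2 (iv4 F58015) D81185 (iv2 D37099)
theorem F124976 : act 7 n81185 = n81185 := d4_2 F58016 D81185 (iv2 D81185)
theorem F124977 : act 1 n81185 = n81183 := d15_0 (iv0 D81183) F58016 D81185
theorem F124978 : act 1 n81184 = n81185 := d15_1 D81184 F124976 (iv2 D81185)
def n81193 : Q := act 3 n37094
theorem D81193 : act 3 n37094 = n81193 := rfl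
def n81194 : Q := act 4 n37094
theorem D81194 : act 4 n37094 = n81194 := rfl
def n81195 : Q := act 6 n37094
theorem D81195 : act 6 n37094 = n81195 := rfl
theorem F124985 : act 7 n81195 = n80995 := d14_2 F124961 D81195 (iv6 D80995) F124485 F124963
def n81196 : Q := act 3 n37095
theorem D81196 : act 3 n37095 = n81196 := rfl
theorem F124986 : act 6 n81196 = n80996 := d7_2 F122399 D81196 (iv3 D80996)
def n81197 : Q := act 4 n37095
theorem D81197 : act 4 n37095 = n81197 := rfl
def n81198 : Q := act 2 n37097
theorem D81198 : act 2 n37097 = n81198 := rfl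
theorem F124988 : act 7 n37098 = n81198 := d15_2 (iv0 D37097) D37098 (iv2 D81198)
def n81199 : Q := act 3 n37097
theorem D81199 : act 3 n37097 = n81199 := rfl
def n81201 : Q := act 5 n37097
theorem D81201 : act 5 n37097 = n81201 := rfl
def n81204 : Q := act 3 n37098
theorem D81204 : act 3 n37098 = n81204 := rfl
def n81206 : Q := act 5 n37098
theorem D81206 : act 5 n37098 = n81206 := rfl
def n81214 : Q := act 5 n37101
theorem D81214 : act 5 n37101 = n81214 := rfl
def n81221 : Q := act 0 n37105
theorem D81221 : act 0 n37105 = n81221 := rfl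
def n81222 : Q := act 1 n37105
theorem D81222 : act 1 n37105 = n81222 := rfl
def n81223 : Q := act 4 n37105
theorem D81223 : act 4 n37105 = n81223 := rfl
def n81231 : Q := act 5 n37110
theorem D81231 : act 5 n37110 = n81231 := rfl
def n81232 : Q := act 6 n37110
theorem D81232 : act 6 n37110 = n81232 := rfl
theorem F125016 : act 4 n81232 = n37111 := d10_1 D81232 (iv6 D37111) D37110
def n81233 : Q := act 0 n37111
theorem D81233 : act 0 n37111 = n81233 := rfl
theorem F125017 : act 6 n81233 = n78489 := d21_5 (iv5 D17605) F17602 D17857 D37111 D81233 (iv5 D78489) (iv1 D35761) (iv5 F29021) (iv6 D17859) F28622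
def n81234 : Q := act 7 n37111
theorem D81234 : act 7 n37111 = n81234 := rfl
theorem F125018 : act 2 n81234 = n37119 := d4_1 D81234 (iv7 D37119) (iv2 F58033)
theorem F125020 : act 5 n81234 = n78458 := d13_1 D81234 (iv7 D78458) (iv5 F58035)
theorem F125021 : act 6 n81234 = n81234 := d14_1 D81234 (iv7 D81234) (iv6 D37111) F29016 D37111
theorem F125022 : act 1 n37119 = n81233 := d15_0 (iv0 D81233) D81234 F125018
theorem F125023 : act 1 n37118 = n81234 := d15_1 D37118 (iv7 D81234) F58033
theorem F125024 : act 1 n81234 = n37117 := d15_0 (iv0 D37117) D37119 (iv2 F125018)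
def n81237 : Q := act 3 n37113
theorem D81237 : act 3 n37113 = n81237 := rfl
theorem F125030 : act 4 n81237 = n37956 := d5_2 F58040 D81237 (iv3 D37956) (iv4 D18178) (iv3 F29308)
def n81238 : Q := act 5 n37113
theorem D81238 : act 5 n37113 = n81238 := rfl
theorem F125036 : act 1 n81238 = n81231 := d17_6 (iv1 F58527) (iv5 D37678) (iv1 F29229) D18140 F58040 D81238 (iv5 D81231) F58037 F58036
def n81239 : Q := act 0 n37114
theorem D81239 : act 0 n37114 = n81239 := rfl
def n81240 : Q := act 1 n37114
theorem D81240 : act 1 n37114 = n81240 := rfl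
def n81241 : Q := act 2 n37114
theorem D81241 : act 2 n37114 = n81241 := rfl
theorem F125037 : act 4 n81241 = n37122 := d1_2 (iv4 F58043) D81241 (iv2 D37122)
theorem F125038 : act 7 n81241 = n81241 := d4_2 F58044 D81241 (iv2 D81241)
theorem F125039 : act 1 n81241 = n81239 := d15_0 (iv0 D81239) F58044 D81241
theorem F125040 : act 1 n81240 = n81241 := d15_1 D81240 F125038 (iv2 D81241)
def n81249 : Q := act 2 n37117
theorem D81249 : act 2 n37117 = n81249 := rfl
theorem F125047 : act 7 n37118 = n81249 := d15_2 (iv0 D37117) D37118 (iv2 D81249)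
def n81250 : Q := act 3 n37117
theorem D81250 : act 3 n37117 = n81250 := rfl
def n81252 : Q := act 5 n37117
theorem D81252 : act 5 n37117 = n81252 := rfl
def n81253 : Q := act 6 n37117
theorem D81253 : act 6 n37117 = n81253 := rfl
theorem F125048 : act 5 n81253 = n78457 := d21_6 (iv5 D17856) (iv1 D8417) D8419 D17859 D37117 D81253 (iv1 D78457) (iv5 F58035) (iv6 D37111) F29017
theorem F125050 : act 7 n78485 = n81253 := d13_0 F125048 F121868 D78485
theorem F125051 : act 0 n56554 = n81253 := d21_10 F125048 (iv1 D78457) (iv5 F58035) (iv6 D37111) F29017 (iv6 F55949) (iv5 D35208) F120770 D27200 D56554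
theorem F125052 : act 1 n81122 = n81253 := d15_0 (iv0 F125051) F89436 (iv2 F124914)
theorem F125054 : act 7 n37117 = n81078 := d14_2 F125050 (iv6 D81253) (iv6 D81078) F121862 (iv6 F120774)
theorem F125055 : act 2 n81078 = n37118 := d4_1 F125054 F125047 (iv2 D81249)
theorem E13432 : n81249 = n81233 := (c15_4 (iv0 D81233) (iv0 F124870) (iv7 F125054) D81249)
theorem F125057 : act 2 n81233 = n37117 := (sb E13432 (iv2 D81249))
theorem F125058 : act 7 n81233 = n37118 := (sb E13432 (iv7 F125047))
theorem F125059 : act 6 n37118 = n56552 := d14_1 F125058 F121861 D81080 (iv7 F124876) (iv6 F125017)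
theorem E13433 : n81128 = n78485 := (c21_11 (iv5 D78485) (iv1 F119649) (iv5 F125020) F125021 (iv1 F125023) F125059 (iv5 F122569) (iv1 D56202) (iv5 F43747) D37070 D81128)
theorem F125060 : act 1 n78485 = n37070 := (sb E13433 (iv0 D81128))
theorem E13434 : n81129 = n78489 := (c15_2 F125060 D81129 F124876 F124873)
theorem F125061 : act 0 n78489 = n37070 := (sb E13434 (iv1 D81129))
def n81254 : Q := act 3 n37118
theorem D81254 : act 3 n37118 = n81254 := rfl
def n81256 : Q := act 5 n37118
theorem D81256 : act 5 n37118 = n81256 := rfl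
theorem F125062 : act 2 n81256 = n77174 := d2_1 D81256 (iv5 F124869) F125055
theorem F125063 : act 6 n81256 = n77061 := d12_2 (iv6 F125059) D81256 F123791 (iv6 F123792) F122569
theorem F125064 : act 0 n81256 = n55868 := d21_1 D81256 (iv5 F89435) (iv6 D56554) D56551 (iv6 F120774) (iv5 D78485) (iv1 F119649) (iv5 F125020) F125021 (iv1 F125023)
def n81257 : Q := act 2 n37120
theorem D81257 : act 2 n37120 = n81257 := rfl
theorem F125065 : act 7 n37121 = n81257 := d15_2 (iv0 D37120) D37121 (iv2 D81257)
def n81258 : Q := act 3 n37120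
theorem D81258 : act 3 n37120 = n81258 := rfl
def n81260 : Q := act 5 n37120
theorem D81260 : act 5 n37120 = n81260 := rfl
def n81263 : Q := act 3 n37121
theorem D81263 : act 3 n37121 = n81263 := rfl
def n81265 : Q := act 5 n37121
theorem D81265 : act 5 n37121 = n81265 := rfl
def n81273 : Q := act 5 n37124
theorem D81273 : act 5 n37124 = n81273 := rfl
theorem F125074 : act 2 n81273 = n81214 := d2_1 D81273 (iv5 D81214) (iv2 F92685)
def n81275 : Q := act 5 n37125
theorem D81275 : act 5 n37125 = n81275 := rfl
theorem F125078 : act 7 n81275 = n81214 := d13_2 (iv7 F92684) D81275 (iv5 D81214)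
def n81283 : Q := act 0 n37131
theorem D81283 : act 0 n37131 = n81283 := rfl
def n81284 : Q := act 1 n37131
theorem D81284 : act 1 n37131 = n81284 := rfl
def n81285 : Q := act 4 n37131
theorem D81285 : act 4 n37131 = n81285 := rfl
theorem F125103 : act 7 n81285 = n81223 := d11_2 (iv7 F58073) D81285 (iv4 D81223)
def n81288 : Q := act 2 n37133
theorem D81288 : act 2 n37133 = n81288 := rfl
theorem F125107 : act 7 n37134 = n81288 := d15_2 (iv0 D37133) D37134 (iv2 D81288)
def n81289 : Q := act 3 n37133
theorem D81289 : act 3 n37133 = n81289 := rfl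
theorem F125108 : act 4 n81289 = n81184 := d20_6 (iv4 D3813) (iv1 F5775) (iv4 F13219) D17865 D37133 D81289 (iv1 D81184) F58015 (iv3 D17851) F13202
def n81290 : Q := act 4 n37133
theorem D81290 : act 4 n37133 = n81290 := rfl
def n81291 : Q := act 5 n37133
theorem D81291 : act 5 n37133 = n81291 := rfl
def n81293 : Q := act 7 n37133
theorem D81293 : act 7 n37133 = n81293 := rfl
theorem F125109 : act 2 n81293 = n37134 := d4_1 D81293 F125107 (iv2 D81288)
def n81294 : Q := act 3 n37134
theorem D81294 : act 3 n37134 = n81294 := rfl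
def n81295 : Q := act 4 n37134
theorem D81295 : act 4 n37134 = n81295 := rfl
def n81296 : Q := act 5 n37134
theorem D81296 : act 5 n37134 = n81296 := rfl
def n81297 : Q := act 6 n37134
theorem D81297 : act 6 n37134 = n81297 := rfl
def n81298 : Q := act 4 n37135
theorem D81298 : act 4 n37135 = n81298 := rfl
theorem F125110 : act 2 n81298 = n37136 := d1_1 D81298 (iv4 D37136) D37135
def n81300 : Q := act 0 n37136
theorem D81300 : act 0 n37136 = n81300 := rfl
theorem F125113 : act 1 n81298 = n81300 := d15_0 (iv0 D81300) F58080 (iv2 F125110)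
def n81301 : Q := act 1 n37136
theorem D81301 : act 1 n37136 = n81301 := rfl
theorem F125115 : act 4 n81258 = n81301 := d20_6 (iv4 D6203) (iv1 F5769) D8420 D17860 D37120 D81258 (iv1 D81301) (iv4 D37136) (iv3 D17865) (iv1 F13220)
def n81312 : Q := act 2 n37142
theorem D81312 : act 2 n37142 = n81312 := rfl
theorem F125126 : act 7 n37143 = n81312 := d15_2 (iv0 D37142) D37143 (iv2 D81312)
def n81313 : Q := act 3 n37142
theorem D81313 : act 3 n37142 = n81313 := rfl
theorem F125127 : act 4 n81313 = n81240 := d20_6 (iv4 D6224) (iv1 F5782) (iv4 F13224) D17867 D37142 D81313 (iv1 D81240) F58043 (iv3 D17860) F13215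
def n81315 : Q := act 5 n37142
theorem D81315 : act 5 n37142 = n81315 := rfl
def n81317 : Q := act 7 n37142
theorem D81317 : act 7 n37142 = n81317 := rfl
theorem F125128 : act 2 n81317 = n37143 := d4_1 D81317 F125126 (iv2 D81312)
def n81318 : Q := act 3 n37143
theorem D81318 : act 3 n37143 = n81318 := rfl
def n81320 : Q := act 5 n37143
theorem D81320 : act 5 n37143 = n81320 := rfl
def n81322 : Q := act 4 n37144
theorem D81322 : act 4 n37144 = n81322 := rfl
theorem F125129 : act 2 n81322 = n37145 := d1_1 D81322 (iv4 D37145) D37144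
def n81324 : Q := act 0 n37145
theorem D81324 : act 0 n37145 = n81324 := rfl
theorem F125133 : act 1 n81322 = n81324 := d15_0 (iv0 D81324) F58090 (iv2 F125129)
def n81325 : Q := act 1 n37145
theorem D81325 : act 1 n37145 = n81325 := rfl
theorem F125135 : act 4 n81199 = n81325 := d20_6 (iv4 D3771) (iv1 F5762) D8414 D17851 D37097 D81199 (iv1 D81325) (iv4 D37145) (iv3 D17867) (iv1 D8423)
def n81326 : Q := act 5 n37145
theorem D81326 : act 5 n37145 = n81326 := rfl
theorem F125136 : act 3 n81326 = n37172 := d6_1 D81326 (iv5 D37172) (iv3 F58089)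
def n81338 : Q := act 3 n37151
theorem D81338 : act 3 n37151 = n81338 := rfl
theorem F125160 : act 7 n81338 = n37157 := d8_2 F58101 D81338 (iv3 D37157)
def n81339 : Q := act 4 n37151
theorem D81339 : act 4 n37151 = n81339 := rfl
theorem F125161 : act 2 n81339 = n37153 := d1_1 D81339 (iv4 D37153) D37151
theorem F125162 : act 7 n81339 = n37158 := d11_2 F58101 D81339 (iv4 D37158)
def n81340 : Q := act 5 n37151
theorem D81340 : act 5 n37151 = n81340 := rfl
theorem F125163 : act 2 n81340 = n37154 := d2_1 D81340 (iv5 D37154) D37151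
theorem F125164 : act 7 n81340 = n37159 := d13_2 F58101 D81340 (iv5 D37159)
def n81342 : Q := act 0 n37152
theorem D81342 : act 0 n37152 = n81342 := rfl
def n81343 : Q := act 1 n37152
theorem D81343 : act 1 n37152 = n81343 := rfl
def n81344 : Q := act 2 n37152
theorem D81344 : act 2 n37152 = n81344 := rfl
def n81345 : Q := act 5 n37152
theorem D81345 : act 5 n37152 = n81345 := rfl
theorem F125166 : act 3 n81345 = n37154 := d6_1 D81345 (iv5 D37154) D37152
def n81347 : Q := act 7 n37152
theorem D81347 : act 7 n37152 = n81347 := rfl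
theorem F125168 : act 3 n81347 = n37156 := d8_1 D81347 (iv7 D37156) D37152
def n81348 : Q := act 0 n37153
theorem D81348 : act 0 n37153 = n81348 := rfl
theorem F125169 : act 4 n81348 = n81263 := d20_2 D37153 D81348 (iv3 D81263) (iv1 D37121) (iv3 D17860) (iv4 D8420) F5768 D3771 D8424 D17869
def n81349 : Q := act 1 n37153
theorem D81349 : act 1 n37153 = n81349 := rfl
theorem F125170 : act 1 n81349 = n37158 := d15_1 D81349 (iv7 F125162) F125161
def n81353 : Q := act 7 n37153
theorem D81353 : act 7 n37153 = n81353 := rfl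
theorem F125172 : act 2 n81353 = n37158 := d4_1 D81353 (iv7 F125162) F125161
theorem F125174 : act 1 n37158 = n81348 := d15_0 (iv0 D81348) D81353 F125172
def n81355 : Q := act 1 n37154
theorem D81355 : act 1 n37154 = n81355 := rfl
theorem F125175 : act 1 n81355 = n37159 := d15_1 D81355 (iv7 F125164) F125163
def n81364 : Q := act 0 n37157
theorem D81364 : act 0 n37157 = n81364 := rfl
theorem F125180 : act 4 n81364 = n81183 := d20_0 (iv1 F124977) F124975 (iv3 F58050) (iv1 F58054) D81263 (iv4 F125169) (iv1 F125174) (iv4 D37158) D37157 D81364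
def n81365 : Q := act 1 n37157
theorem D81365 : act 1 n37157 = n81365 := rfl
def n81366 : Q := act 2 n37157
theorem D81366 : act 2 n37157 = n81366 := rfl
def n81368 : Q := act 5 n37157
theorem D81368 : act 5 n37157 = n81368 := rfl
theorem F125182 : act 3 n81368 = n37159 := d6_1 D81368 (iv5 D37159) D37157
def n81380 : Q := act 0 n37162
theorem D81380 : act 0 n37162 = n81380 := rfl
def n81381 : Q := act 1 n37162
theorem D81381 : act 1 n37162 = n81381 := rfl
def n81382 : Q := act 5 n37162
theorem D81382 : act 5 n37162 = n81382 := rfl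
def n81383 : Q := act 7 n37162
theorem D81383 : act 7 n37162 = n81383 := rfl
theorem F125187 : act 4 n81383 = n37165 := d11_1 D81383 (iv7 D37165) (iv4 F58107)
def n81384 : Q := act 2 n37163
theorem D81384 : act 2 n37163 = n81384 := rfl
theorem F125189 : act 7 n37164 = n81384 := d15_2 (iv0 D37163) D37164 (iv2 D81384)
def n81386 : Q := act 4 n37163
theorem D81386 : act 4 n37163 = n81386 := rfl
def n81387 : Q := act 5 n37163
theorem D81387 : act 5 n37163 = n81387 := rfl
def n81388 : Q := act 6 n37163
theorem D81388 : act 6 n37163 = n81388 := rfl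
theorem F125191 : act 5 n81388 = n75282 := d21_6 (iv5 D3855) F17440 D8428 D17873 D37163 D81388 (iv1 D75282) F54692 (iv6 D18225) F13506
theorem F125192 : act 0 n37719 = n81388 := d21_10 F125191 (iv1 D75282) F54692 (iv6 D18225) F13506 (iv6 F13500) (iv5 D8591) F117914 D18076 D37719
theorem F125193 : act 1 n38099 = n81388 := d15_0 (iv0 F125192) (iv7 F89906) F117969
def n81389 : Q := act 7 n37163
theorem D81389 : act 7 n37163 = n81389 := rfl
theorem F125194 : act 2 n81389 = n37164 := d4_1 D81389 F125189 (iv2 D81384)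
def n81390 : Q := act 3 n37164
theorem D81390 : act 3 n37164 = n81390 := rfl
def n81391 : Q := act 4 n37164
theorem D81391 : act 4 n37164 = n81391 := rfl
def n81392 : Q := act 5 n37164
theorem D81392 : act 5 n37164 = n81392 := rfl
theorem F125195 : act 6 n81392 = n75262 := d21_3 F112875 (iv1 F58917) D81392 (iv1 F112835) F54898 (iv5 D18448) (iv1 F29289) D37801 (iv6 F67479) (iv1 F112878)
theorem F125196 : act 0 n81392 = n38364 := d21_7 F117949 F59535 F59533 F54757 F117961 F117951 D81392 (iv5 F117940) (iv6 D37719) D37716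
def n81393 : Q := act 0 n37166
theorem D81393 : act 0 n37166 = n81393 := rfl
def n81394 : Q := act 1 n37166
theorem D81394 : act 1 n37166 = n81394 := rfl
def n81395 : Q := act 2 n37166
theorem D81395 : act 2 n37166 = n81395 := rfl
theorem F125197 : act 3 n81395 = n37673 := d0_2 D37166 D81395 (iv2 F124324) (iv3 D37177) (iv2 F44766)
def n81397 : Q := act 5 n37166
theorem D81397 : act 5 n37166 = n81397 := rfl
theorem F125199 : act 3 n81397 = n37168 := d6_1 D81397 (iv5 D37168) D37166
theorem F125200 : act 7 n81397 = n76182 := d13_2 F58134 D81397 F114149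
def n81398 : Q := act 2 n37169
theorem D81398 : act 2 n37169 = n81398 := rfl
theorem F125201 : act 7 n81398 = n37673 := d4_2 F58122 D81398 (iv2 F124324)
def n81399 : Q := act 4 n37169
theorem D81399 : act 4 n37169 = n81399 := rfl
def n81400 : Q := act 3 n37171
theorem D81400 : act 3 n37171 = n81400 := rfl
def n81401 : Q := act 6 n37171
theorem D81401 : act 6 n37171 = n81401 := rfl
theorem F125204 : act 4 n81401 = n56962 := d10_1 D81401 F90044 (iv4 F58113)
theorem F125205 : act 0 n37760 = n81401 := d18_2 F120619 D37760 F125204 (iv5 D56962) F44230 (iv0 F120761) (iv4 D18097) (iv0 F120590) (iv5 F44281)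
def n81407 : Q := act 3 n37174
theorem D81407 : act 3 n37174 = n81407 := rfl
def n81408 : Q := act 4 n37174
theorem D81408 : act 4 n37174 = n81408 := rfl
def n81409 : Q := act 5 n37174
theorem D81409 : act 5 n37174 = n81409 := rfl
theorem F125208 : act 7 n81409 = n76882 := d13_2 (iv7 F124415) D81409 F115496
def n81410 : Q := act 6 n37174
theorem D81410 : act 6 n37174 = n81410 := rfl
theorem F125211 : act 5 n81410 = n78763 := d21_6 (iv5 D6248) F17510 D8433 D17878 D37174 D81410 (iv1 D78763) F56524 (iv6 D27403) F21892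
theorem F125212 : act 0 n56831 = n81410 := d21_10 F125211 (iv1 D78763) F56524 (iv6 D27403) F21892 (iv6 F21888) (iv5 D13121) F120611 D27287 D56831
theorem F125213 : act 1 n57185 = n81410 := d15_0 (iv0 F125212) F89848 F121040
def n81411 : Q := act 3 n37175
theorem D81411 : act 3 n37175 = n81411 := rfl
theorem F125214 : act 4 n80926 = n81411 := d20_2 (iv4 F124630) (iv1 F124653) (iv3 D81411) (iv1 D37175) F29047 (iv4 F29038) (iv1 F67501) (iv4 D37129) (iv3 F122106) (iv1 F57888)
def n81412 : Q := act 4 n37175
theorem D81412 : act 4 n37175 = n81412 := rfl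
def n81413 : Q := act 5 n37175
theorem D81413 : act 5 n37175 = n81413 := rfl
theorem F125216 : act 0 n81413 = n57435 := d21_1 D81413 F120709 (iv6 D56831) D56828 F120643 (iv5 D78783) (iv1 F119933) F119931 F90215 (iv1 F90217)
theorem F125217 : act 6 n81413 = n76824 := d21_3 F119931 (iv1 F90217) D81413 (iv1 F115361) F55829 (iv5 D27624) (iv1 F44185) D56901 (iv6 F89943) (iv1 F119933)
def n81414 : Q := act 0 n37177
theorem D81414 : act 0 n37177 = n81414 := rfl
theorem F125218 : act 1 n81398 = n81414 := d15_0 (iv0 D81414) F58122 D81398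
def n81415 : Q := act 1 n37177
theorem D81415 : act 1 n37177 = n81415 := rfl
def n81416 : Q := act 4 n37177
theorem D81416 : act 4 n37177 = n81416 := rfl
theorem F125220 : act 7 n81416 = n81399 := d11_2 (iv7 F58122) D81416 (iv4 D81399)
def n81417 : Q := act 5 n37177
theorem D81417 : act 5 n37177 = n81417 := rfl
theorem F125221 : act 3 n81417 = n37179 := d6_1 D81417 (iv5 D37179) D37177
theorem F125222 : act 7 n81417 = n76953 := d13_2 (iv7 F58122) D81417 F115654
def n81418 : Q := act 6 n37177
theorem D81418 : act 6 n37177 = n81418 := rfl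
theorem F125224 : act 7 n81418 = n78812 := d14_2 (iv7 F58122) D81418 F119962 (iv7 F124319) (iv6 F124322)
theorem F125225 : act 5 n43116 = n81418 := d13_3 F125224 (iv5 D78812) (iv7 F67521)
theorem E13435 : n37685 = n37177 := (c21_5 (iv5 D8496) (iv1 F5798) D8523 D18061 D37685 D81418 (iv5 F125225) (iv1 F124425) (iv5 D37675) (iv6 D18055) F16999)
theorem E13436 : n81414 = n37676 := ((D81414).symm.trans (sb E13435 (iv1 F58543)))
theorem E13437 : n81415 = n18061 := ((D81415).symm.trans (sb E13435 (iv0 D37685)))
theorem E13438 : n81398 = n37686 := ((((iv1 F58540)).symm.trans (sb E13436 (iv1 F125218)))).symm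
theorem F125226 : act 1 n37676 = n37177 := (sb E13436 (iv0 D81414))
theorem F125227 : act 0 n18061 = n37177 := (sb E13437 (iv1 D81415))
theorem F125228 : act 2 n37686 = n37169 := (sb E13438 (iv2 D81398))
theorem F125229 : act 7 n37686 = n37673 := (sb E13438 F125201)
def n81419 : Q := act 0 n37181
theorem D81419 : act 0 n37181 = n81419 := rfl
theorem F125230 : act 1 n81395 = n81419 := d15_0 (iv0 D81419) F58134 D81395
def n81420 : Q := act 1 n37181
theorem D81420 : act 1 n37181 = n81420 := rfl
def n81421 : Q := act 2 n37181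
theorem D81421 : act 2 n37181 = n81421 := rfl
theorem F125231 : act 3 n81421 = n37686 := d0_2 D37181 D81421 F125228 (iv3 D37169) (iv2 F44763)
theorem F125232 : act 7 n81421 = n81395 := d4_2 (iv7 F58134) D81421 (iv2 D81395)
theorem F125233 : act 1 n81421 = n81393 := d15_0 (iv0 D81393) (iv7 F58134) D81421
def n81422 : Q := act 4 n37181
theorem D81422 : act 4 n37181 = n81422 := rfl
def n81423 : Q := act 5 n37183
theorem D81423 : act 5 n37183 = n81423 := rfl
theorem F125237 : act 2 n81423 = n42263 := d2_1 D81423 (iv5 D42263) F66616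
theorem F125239 : act 7 n81423 = n42268 := d13_2 (iv7 F66615) D81423 (iv5 D42268)
theorem F125240 : act 0 n81423 = n42481 := d17_2 D37183 D81423 (iv5 F68950) F68949 D44803 (iv0 F70379) (iv5 D44545) F66715 (iv4 F29057)
theorem F125241 : act 1 n42263 = n48315 := d15_0 (iv0 F76160) (iv7 F125239) F125237
theorem F125242 : act 1 n81423 = n48253 := d15_0 (iv0 D48253) F66626 (iv2 F125237)
def n81424 : Q := act 6 n37183
theorem D81424 : act 6 n37183 = n81424 := rfl
theorem F125243 : act 2 n81424 = n42264 := d3_1 D81424 (iv6 D42264) F66616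
theorem F125244 : act 3 n81424 = n43372 := d7_1 D81424 (iv6 D43372) F66646
theorem F125245 : act 4 n81424 = n45004 := d10_1 D81424 (iv6 D45004) (iv4 F66805)
theorem F125246 : act 5 n81424 = n42106 := d21_6 F13917 (iv1 F6458) D8435 D17882 D37183 D81424 (iv1 D42106) (iv5 D19855) (iv6 D9342) (iv1 F14092)
theorem F125247 : act 2 n42106 = n41919 := d2_1 F125246 F66623 (iv2 F125243)
theorem F125248 : act 4 n42106 = n45358 := d18_5 (iv1 F66785) (iv4 F75222) (iv1 F75224) (iv4 F125245) F125246 F71495 F70282 F34046 F66794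
theorem F125249 : act 1 n42235 = n81424 := d18_8 (iv1 D42106) D42107 F66673 (iv4 D42035) F31609 (iv4 F36658) (iv0 F66681) (iv4 F65226) F125246
def n81425 : Q := act 0 n37185
theorem D81425 : act 0 n37185 = n81425 := rfl
theorem F125250 : act 4 n81425 = n45019 := d18_1 D81425 (iv1 F70826) F70071 F33430 (iv4 F33426) F33790 (iv4 F66805) (iv0 D37183) D37185
theorem F125251 : act 3 n81425 = n42647 := d20_5 D22940 F66635 F63857 F58682 D81425 (iv4 F72216) (iv1 F72218) F72208 F34332 (iv1 F34335)
theorem F125252 : act 2 n42270 = n81425 := d15_3 (iv0 D81425) (iv0 F67686) F70831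
theorem F125253 : act 7 n81425 = n48275 := d4_2 F70831 F125252 (iv2 D48275)
theorem E13439 : n48275 = n42271 := ((c15_2 (iv0 D42270) D42271 (iv7 F125253) (iv2 F125252))).symm
theorem F125254 : act 2 n42271 = n23425 := (sb E13439 (iv2 D48275))
theorem F125255 : act 4 n42271 = n44552 := (sb E13439 F75891)
theorem F125256 : act 6 n42271 = n43481 := (sb E13439 F75892)
def n81426 : Q := act 7 n37185
theorem D81426 : act 7 n37185 = n81426 := rfl
theorem F125260 : act 4 n81426 = n48487 := d11_1 D81426 F76324 F76320
theorem F125261 : act 5 n81426 = n37186 := d13_1 D81426 (iv7 D37186) D37185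
theorem F125262 : act 1 n42271 = n81426 := d15_1 D42271 (iv7 D81426) F58139
theorem F125263 : act 1 n81426 = n42270 := d15_1 F125262 (iv7 F70831) (iv2 F125254)
def n81427 : Q := act 0 n37187
theorem D81427 : act 0 n37187 = n81427 := rfl
theorem F125264 : act 3 n81427 = n46557 := d20_5 (iv4 D10248) (iv1 F16141) (iv4 F29059) D37187 D81427 F91684 (iv1 D57952) F44573 (iv3 D18476) (iv1 F16209)
def n81428 : Q := act 1 n37187
theorem D81428 : act 1 n37187 = n81428 := rfl
def n81429 : Q := act 2 n37187
theorem D81429 : act 2 n37187 = n81429 := rfl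
theorem F125265 : act 3 n81429 = n79066 := d0_2 D37187 D81429 (iv2 F120268) (iv3 D44479) F33389
def n81430 : Q := act 5 n37187
theorem D81430 : act 5 n37187 = n81430 := rfl
theorem F125266 : act 3 n81430 = n37188 := d6_1 D81430 (iv5 D37188) D37187
def n81431 : Q := act 6 n37187
theorem D81431 : act 6 n37187 = n81431 := rfl
theorem F125267 : act 3 n81431 = n37189 := d7_1 D81431 (iv6 D37189) D37187
def n81432 : Q := act 6 n37188
theorem D81432 : act 6 n37188 = n81432 := rfl
theorem F125268 : act 4 n81432 = n44645 := d10_1 D81432 (iv6 D44645) (iv4 F58147)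
def n81433 : Q := act 5 n37189
theorem D81433 : act 5 n37189 = n81433 := rfl
def n81434 : Q := act 6 n37190
theorem D81434 : act 6 n37190 = n81434 := rfl
theorem F125269 : act 4 n81434 = n44647 := d10_1 D81434 (iv6 D44647) (iv4 F58151)
def n81435 : Q := act 5 n37191
theorem D81435 : act 5 n37191 = n81435 := rfl
def n81436 : Q := act 7 n37191
theorem D81436 : act 7 n37191 = n81436 := rfl
theorem F125270 : act 2 n81436 = n38954 := d4_1 D81436 (iv7 F121266) F70002
theorem F125271 : act 4 n81436 = n44897 := d11_1 D81436 (iv7 D44897) (iv4 F58154)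
theorem F125272 : act 1 n38900 = n81436 := d15_1 F121265 (iv7 D81436) (iv2 F70002)
theorem F125273 : act 1 n81436 = n38897 := d15_1 F125272 F116870 (iv2 F116883)
def n81437 : Q := act 6 n37192
theorem D81437 : act 6 n37192 = n81437 := rfl
theorem F125274 : act 2 n81437 = n37193 := d3_1 D81437 (iv6 D37193) D37192
def n81438 : Q := act 0 n37193
theorem D81438 : act 0 n37193 = n81438 := rfl
def n81439 : Q := act 1 n37193
theorem D81439 : act 1 n37193 = n81439 := rfl
def n81440 : Q := act 5 n37193
theorem D81440 : act 5 n37193 = n81440 := rfl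
theorem F125275 : act 3 n81440 = n37199 := d6_1 D81440 (iv5 D37199) (iv3 F58155)
def n81441 : Q := act 7 n37193
theorem D81441 : act 7 n37193 = n81441 := rfl
theorem F125276 : act 3 n81441 = n37200 := d8_1 D81441 (iv7 D37200) (iv3 F58155)
theorem F125277 : act 6 n81441 = n39510 := d14_1 D81441 (iv7 F116726) (iv6 D45118) F33891 D37193
def n81442 : Q := act 3 n37194
theorem D81442 : act 3 n37194 = n81442 := rfl
theorem F125278 : act 5 n81442 = n37264 := d6_2 (iv5 F58156) D81442 (iv3 D37264)
def n81443 : Q := act 6 n37194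
theorem D81443 : act 6 n37194 = n81443 := rfl
theorem F125279 : act 4 n81443 = n44935 := d10_1 D81443 (iv6 D44935) (iv4 F58157)
def n81444 : Q := act 6 n37195
theorem D81444 : act 6 n37195 = n81444 := rfl
theorem F125280 : act 4 n81444 = n44936 := d10_1 D81444 (iv6 D44936) (iv4 F58161)
def n81445 : Q := act 0 n37196
theorem D81445 : act 0 n37196 = n81445 := rfl
def n81446 : Q := act 1 n37196
theorem D81446 : act 1 n37196 = n81446 := rfl
def n81447 : Q := act 5 n37196
theorem D81447 : act 5 n37196 = n81447 := rfl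
theorem F125281 : act 6 n81447 = n37199 := d12_2 D37196 D81447 (iv5 D37199) (iv6 D17888) D17887
def n81448 : Q := act 7 n37196
theorem D81448 : act 7 n37196 = n81448 := rfl
theorem F125282 : act 4 n81448 = n44762 := d11_1 D81448 (iv7 D44762) (iv4 F58162)
def n81449 : Q := act 2 n37197
theorem D81449 : act 2 n37197 = n81449 := rfl
theorem F125283 : act 7 n37198 = n81449 := d15_2 (iv0 D37197) D37198 (iv2 D81449)
def n81450 : Q := act 3 n37197
theorem D81450 : act 3 n37197 = n81450 := rfl
def n81451 : Q := act 4 n37197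
theorem D81451 : act 4 n37197 = n81451 := rfl
def n81452 : Q := act 5 n37197
theorem D81452 : act 5 n37197 = n81452 := rfl
def n81453 : Q := act 6 n37197
theorem D81453 : act 6 n37197 = n81453 := rfl
def n81454 : Q := act 7 n37197
theorem D81454 : act 7 n37197 = n81454 := rfl
theorem F125284 : act 2 n81454 = n37198 := d4_1 D81454 F125283 (iv2 D81449)
def n81455 : Q := act 3 n37198
theorem D81455 : act 3 n37198 = n81455 := rfl
def n81456 : Q := act 4 n37198
theorem D81456 : act 4 n37198 = n81456 := rfl
theorem F125285 : act 3 n81456 = n56935 := d20_3 (iv4 F71140) (iv1 F71143) D81456 (iv1 D56935) F44220 (iv4 F44598) D57968 (iv4 F119205) (iv3 D37202) (iv1 F33924)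
def n81457 : Q := act 5 n37198
theorem D81457 : act 5 n37198 = n81457 := rfl
def n81458 : Q := act 6 n37198
theorem D81458 : act 6 n37198 = n81458 := rfl
def n81459 : Q := act 0 n37199
theorem D81459 : act 0 n37199 = n81459 := rfl
def n81460 : Q := act 1 n37199
theorem D81460 : act 1 n37199 = n81460 := rfl
def n81461 : Q := act 4 n37199
theorem D81461 : act 4 n37199 = n81461 := rfl
def n81462 : Q := act 7 n37199
theorem D81462 : act 7 n37199 = n81462 := rfl
theorem F125286 : act 5 n81462 = n37200 := d13_1 D81462 (iv7 D37200) D37199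
def n81466 : Q := act 4 n37201
theorem D81466 : act 4 n37201 = n81466 := rfl
theorem F125290 : act 2 n81466 = n37203 := d1_1 D81466 (iv4 D37203) D37201
def n81467 : Q := act 5 n37201
theorem D81467 : act 5 n37201 = n81467 := rfl
theorem F125292 : act 2 n81467 = n37204 := d2_1 D81467 (iv5 D37204) D37201
theorem F125293 : act 7 n81467 = n37209 := d13_2 F58164 D81467 (iv5 D37209)
def n81468 : Q := act 6 n37201
theorem D81468 : act 6 n37201 = n81468 := rfl
theorem F125294 : act 2 n81468 = n37205 := d3_1 D81468 (iv6 D37205) D37201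
theorem F125295 : act 7 n38980 = n81468 := d15_2 (iv0 F58303) (iv0 F116935) F125294
theorem F125296 : act 7 n37210 = n58161 := d14_4 F125295 (iv6 D81468) (iv7 F58164) D37210 (iv6 F91963)
theorem F125297 : act 2 n37210 = n45155 := d15_3 F117003 D58161 (iv7 F125296)
theorem E13440 : n45151 = n17890 := (c3_4 D37210 F125297 (iv6 D45155) (iv2 F71149))
theorem E13441 : n37206 = n21555 := (((iv2 F58165)).symm.trans (sb E13440 F71149))
theorem E13442 : n37201 = n21554 := ((F58164).symm.trans (sb E13440 (iv7 D45151)))
theorem F125298 : act 2 n21555 = n17890 := (sb E13441 F58165)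
theorem E13445 : n45146 = n17889 := ((F71145).symm.trans (sb E13441 (iv7 D37206)))
theorem E13447 : n81466 = n45148 := (((D45148).symm.trans (sb E13442 D81466))).symm
theorem E13448 : n81467 = n45149 := (((D45149).symm.trans (sb E13442 D81467))).symm
theorem E13449 : n81468 = n45150 := (((D45150).symm.trans (sb E13442 D81468))).symm
theorem F125300 : act 2 n17889 = n21554 := (sb E13445 (iv2 D45146))
theorem F125301 : act 7 n17889 = n21555 := (sb E13445 (iv7 F71145))
theorem F125303 : act 2 n45148 = n37203 := (sb E13447 F125290)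
theorem F125305 : act 2 n45149 = n37204 := (sb E13448 F125292)
theorem F125306 : act 7 n45149 = n37209 := (sb E13448 F125293)
theorem F125307 : act 2 n45150 = n37205 := (sb E13449 F125294)
theorem F125308 : act 7 n45150 = n38980 := (sb E13449 (iv7 F125295))
theorem F125309 : act 7 n37315 = n45182 := d13_2 F125308 F71244 (iv5 F71195)
theorem F125310 : act 2 n45182 = n37316 := d15_3 F71202 F71203 F125309
theorem F125311 : act 2 n37315 = n45181 := d15_3 (iv0 D45181) D45182 (iv7 F125309)
theorem F125312 : act 7 n45181 = n37316 := d4_2 (iv7 F125309) F125311 (iv2 F125310)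
theorem F125313 : act 2 n37209 = n45154 := d15_3 (iv0 F71150) (iv0 F71146) F125306
theorem F125314 : act 7 n37204 = n45154 := d4_2 (iv7 F125306) F125305 (iv2 F125313)
theorem F125315 : act 7 n45152 = n37202 := d8_2 F125301 D45152 (iv3 D37202)
theorem F125318 : act 7 n57968 = n39111 := d11_2 F125315 F119205 (iv4 F122323)
theorem F125320 : act 2 n57968 = n39110 := d15_3 (iv0 D39110) D39111 (iv7 F125318)
def n81475 : Q := act 1 n37203
theorem D81475 : act 1 n37203 = n81475 := rfl
def n81476 : Q := act 3 n37203
theorem D81476 : act 3 n37203 = n81476 := rfl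
def n81477 : Q := act 5 n37203
theorem D81477 : act 5 n37203 = n81477 := rfl
def n81478 : Q := act 6 n37203
theorem D81478 : act 6 n37203 = n81478 := rfl
theorem F125327 : act 4 n81478 = n37205 := d10_1 D81478 (iv6 D37205) D37203
def n81479 : Q := act 1 n37204
theorem D81479 : act 1 n37204 = n81479 := rfl
theorem F125330 : act 5 n75982 = n81479 := d21_0 (iv1 D81479) (iv5 D37204) D37205 F117030 (iv6 D18502) D18501 (iv1 F59990) (iv5 F71342) F116832 (iv1 F113872)
theorem F125331 : act 2 n81479 = n76024 := d2_1 F125330 (iv5 D76024) F116889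
def n81480 : Q := act 4 n37204
theorem D81480 : act 4 n37204 = n81480 := rfl
def n81481 : Q := act 6 n37204
theorem D81481 : act 6 n37204 = n81481 := rfl
def n81482 : Q := act 7 n37205
theorem D81482 : act 7 n37205 = n81482 := rfl
theorem F125333 : act 5 n81482 = n45181 := d13_1 D81482 F125312 (iv5 F58262)
theorem F125334 : act 1 n38983 = n81482 := d15_1 (iv0 F71147) (iv7 D81482) (iv2 F125307)
theorem F125335 : act 1 n81482 = n38902 := d15_1 F125334 F59939 (iv2 F116933)
def n81493 : Q := act 6 n37209
theorem D81493 : act 6 n37209 = n81493 := rfl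
theorem F125339 : act 2 n81493 = n75168 := d3_1 D81493 F112715 (iv2 F125313)
theorem F125340 : act 0 n39868 = n81493 := d21_4 (iv5 D16691) F14687 (iv5 F30106) D39868 (iv6 D81493) (iv5 D37209) (iv1 D17890) D17891 F29065 (iv1 F27352)
theorem F125341 : act 7 n75169 = n81493 := d15_2 (iv0 D75168) D75169 F125339
def n81494 : Q := act 5 n37210
theorem D81494 : act 5 n37210 = n81494 := rfl
theorem F125343 : act 7 n81494 = n45264 := d13_2 (iv7 F125296) D81494 F116936
theorem F125345 : act 0 n45061 = n81494 := d21_1 D45061 (iv5 D81494) (iv6 D37210) (iv1 D17890) (iv6 D8438) (iv5 D3778) (iv1 F3229) D4660 D10275 D21515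
def n81495 : Q := act 4 n37211
theorem D81495 : act 4 n37211 = n81495 := rfl
theorem F125346 : act 2 n81495 = n39840 := d1_1 D81495 (iv4 D39840) (iv2 F116814)
def n81496 : Q := act 6 n37211
theorem D81496 : act 6 n37211 = n81496 := rfl
theorem F125348 : act 5 n81496 = n75177 := d21_6 (iv5 D11084) F16845 D8441 (iv6 F29065) D37211 D81496 (iv1 D75177) F54627 (iv6 D34426) F27371
def n81497 : Q := act 0 n37213
theorem D81497 : act 0 n37213 = n81497 := rfl
def n81498 : Q := act 1 n37213
theorem D81498 : act 1 n37213 = n81498 := rfl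
def n81499 : Q := act 3 n37213
theorem D81499 : act 3 n37213 = n81499 := rfl
theorem F125350 : act 4 n81499 = n77997 := d5_2 D37213 D81499 F119209 (iv4 F56995) F56994
theorem F125351 : act 6 n81499 = n37218 := d7_2 (iv6 F58166) D81499 (iv3 D37218)
def n81500 : Q := act 5 n37213
theorem D81500 : act 5 n37213 = n81500 := rfl
def n81501 : Q := act 7 n37213
theorem D81501 : act 7 n37213 = n81501 := rfl
theorem F125352 : act 4 n81501 = n37214 := d11_1 D81501 (iv7 D37214) D37213
def n81502 : Q := act 3 n37215
theorem D81502 : act 3 n37215 = n81502 := rfl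
theorem F125353 : act 4 n81502 = n75204 := d5_2 D37215 D81502 (iv3 D75204) (iv4 D34436) (iv3 F29067)
def n81503 : Q := act 3 n37216
theorem D81503 : act 3 n37216 = n81503 := rfl
theorem F125354 : act 4 n81503 = n77043 := d5_2 (iv4 F58170) D81503 (iv3 D77043) (iv4 D35188) F33764
def n81504 : Q := act 5 n37216
theorem D81504 : act 5 n37216 = n81504 := rfl
theorem F125355 : act 4 n81504 = n45041 := d16_2 (iv4 F58170) D81504 (iv5 D45041) F33830 F31076 (iv4 F30720) (iv5 F33768) F33767 F33763
def n81505 : Q := act 6 n37216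
theorem D81505 : act 6 n37216 = n81505 := rfl
theorem F125356 : act 4 n81505 = n44489 := d10_1 D81505 F70005 (iv4 F58170)
def n81506 : Q := act 3 n37217
theorem D81506 : act 3 n37217 = n81506 := rfl
theorem F125357 : act 4 n81506 = n76904 := d5_2 (iv4 F58171) D81506 (iv3 D76904) (iv4 F56520) F56516
def n81507 : Q := act 5 n37217
theorem D81507 : act 5 n37217 = n81507 := rfl
theorem F125358 : act 4 n81507 = n45038 := d9_1 D81507 (iv5 D45038) F33824 (iv5 D19850) (iv4 F28029) (iv5 F33761) (iv4 F58170) D81504 F125355 (iv5 D45041) F33830 F31076 (iv4 F30720) (iv5 F33768) (iv4 F58171)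
def n81508 : Q := act 6 n37217
theorem D81508 : act 6 n37217 = n81508 := rfl
theorem F125359 : act 4 n81508 = n44985 := d10_1 D81508 (iv6 D44985) (iv4 F58171)
def n81509 : Q := act 0 n37218
theorem D81509 : act 0 n37218 = n81509 := rfl
def n81510 : Q := act 1 n37218
theorem D81510 : act 1 n37218 = n81510 := rfl
def n81511 : Q := act 2 n37218
theorem D81511 : act 2 n37218 = n81511 := rfl
theorem F125360 : act 4 n81511 = n77995 := d1_2 (iv4 F58172) D81511 (iv2 D77995)
def n81512 : Q := act 5 n37218
theorem D81512 : act 5 n37218 = n81512 := rfl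
theorem F125361 : act 3 n81512 = n37219 := d6_1 D81512 (iv5 D37219) D37218
def n81513 : Q := act 0 n37219
theorem D81513 : act 0 n37219 = n81513 := rfl
theorem F125362 : act 5 n81513 = n44982 := d17_1 D81513 F70723 D75174 F112721 F61577 (iv0 D23671) D23673 (iv0 F65032) F65031
theorem F125363 : act 4 n81513 = n45048 := d18_1 D81513 (iv1 D45048) D45049 F70908 F54628 F33762 (iv4 F58170) (iv0 D37216) D37219
def n81514 : Q := act 1 n37219
theorem D81514 : act 1 n37219 = n81514 := rfl
theorem F125364 : act 5 n81514 = n44983 := d17_7 F27371 (iv5 D11084) F16845 D8441 D17894 D37219 D81514 F70728 (iv4 D34425)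
theorem F125365 : act 4 n81514 = n45047 := d17_9 (iv1 F70900) (iv5 D40447) (iv1 F33828) D45041 (iv4 F125355) (iv5 D81504) (iv0 D37216) D37219 D81514
def n81515 : Q := act 6 n37219
theorem D81515 : act 6 n37219 = n81515 := rfl
def n81516 : Q := act 0 n37220
theorem D81516 : act 0 n37220 = n81516 := rfl
theorem F125366 : act 3 n81516 = n77697 := d20_5 (iv4 F14004) (iv1 F14039) D17895 D37220 D81516 (iv4 F119234) (iv1 D78045) (iv4 F60840) (iv3 D39976) F30181
def n81517 : Q := act 1 n37220
theorem D81517 : act 1 n37220 = n81517 := rfl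
def n81518 : Q := act 2 n37220
theorem D81518 : act 2 n37220 = n81518 := rfl
theorem F125367 : act 4 n81518 = n37228 := d1_2 (iv4 F58173) D81518 (iv2 D37228)
def n81519 : Q := act 5 n37220
theorem D81519 : act 5 n37220 = n81519 := rfl
theorem F125368 : act 3 n81519 = n37221 := d6_1 D81519 (iv5 D37221) D37220
theorem F125369 : act 7 n81519 = n79386 := d13_2 F60960 D81519 F121979
theorem F125370 : act 4 n81519 = n38274 := d18_5 (iv1 F120451) F77346 (iv1 D37227) (iv4 F58173) D81519 F72397 (iv4 F88105) F88107 (iv5 F120450)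
theorem F125371 : act 7 n38274 = n45843 := d11_2 (iv7 F125369) F125370 (iv4 F121978)
theorem F125372 : act 2 n45843 = n38273 := d15_3 (iv0 D38273) D38274 F125371
theorem F125373 : act 2 n38274 = n45842 := d15_3 (iv0 D45842) D45843 (iv7 F125371)
theorem F125374 : act 7 n45842 = n38273 := d4_2 (iv7 F125371) F125373 (iv2 F125372)
theorem F125375 : act 7 n57281 = n80122 := d8_2 F125374 (iv3 F90361) F122977
theorem E13450 : n57275 = n56887 := ((c11_2 F125375 (iv4 F122968) (iv7 F90355) D57281)).symm
theorem F125376 : act 2 n56887 = n27429 := (sb E13450 (iv2 D57275))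
theorem F125377 : act 7 n56887 = n27430 := (sb E13450 (iv7 F90355))
theorem E13451 : n80124 = n56411 := (c13_3 F125375 (iv5 D80122) D80124 F123980)
theorem F125378 : act 2 n56411 = n36492 := (sb E13451 F122979)
theorem F125379 : act 7 n56411 = n36491 := (sb E13451 (iv7 D80124))
theorem F125380 : act 2 n80122 = n57276 := d15_3 F90357 F90362 F125375
theorem F125381 : act 2 n57281 = n80127 := d15_3 F122986 (iv0 F122967) (iv7 F125375)
theorem E13452 : n57279 = n56886 := ((c1_3 D57281 F125381 F122987 F90359)).symm
theorem F125382 : act 2 n56886 = n27430 := (sb E13452 F90359)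
theorem F125383 : act 7 n56886 = n27429 := (sb E13452 (iv7 D57279))
theorem F125384 : act 7 n80127 = n57276 := d4_2 (iv7 F125375) F125381 (iv2 F125380)
theorem E13453 : n80119 = n56412 := ((c13_2 F125384 (iv5 F115015) (iv7 F122963) D80127)).symm
theorem F125385 : act 2 n56412 = n36491 := (sb E13453 (iv2 D80119))
theorem F125386 : act 7 n56412 = n36492 := (sb E13453 (iv7 F122963))
theorem F125387 : act 0 n81519 = n79218 := d20_4 (iv4 F30297) D19180 (iv4 F58176) (iv3 F125368) (iv3 D79218) (iv4 F71077) (iv1 D38201) (iv4 F30989) (iv3 D19353) (iv1 F30287)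
def n81520 : Q := act 6 n37220
theorem D81520 : act 6 n37220 = n81520 := rfl
theorem F125388 : act 3 n81520 = n37222 := d7_1 D81520 (iv6 D37222) D37220
def n81521 : Q := act 6 n37221
theorem D81521 : act 6 n37221 = n81521 := rfl
theorem F125390 : act 2 n81521 = n79388 := d3_1 D81521 (iv6 D79388) (iv2 F58174)
def n81522 : Q := act 5 n37222
theorem D81522 : act 5 n37222 = n81522 := rfl
def n81523 : Q := act 5 n37226
theorem D81523 : act 5 n37226 = n81523 := rfl
theorem F125392 : act 2 n81523 = n55638 := d2_1 D81523 F88023 F58183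
theorem F125393 : act 3 n81523 = n76720 := d6_1 D81523 F115095 (iv3 F58181)
theorem F125394 : act 7 n81523 = n55637 := d13_2 F71125 D81523 F88019
theorem F125395 : act 1 n81523 = n45191 := d17_6 (iv1 F120445) (iv5 D79158) (iv1 D36036) D36038 (iv4 F58182) D81523 (iv5 D45191) D45189 (iv4 F106252)
theorem F125396 : act 1 n55636 = n81523 := d15_0 F125395 F71225 (iv2 F88016)
def n81524 : Q := act 6 n37226
theorem D81524 : act 6 n37226 = n81524 := rfl
theorem F125397 : act 2 n81524 = n55141 := d3_1 D81524 F87227 F58183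
theorem F125398 : act 3 n81524 = n73723 := d7_1 D81524 F110433 (iv3 F58181)
theorem F125399 : act 4 n81524 = n79163 := d10_1 D81524 (iv6 D79163) (iv4 F58182)
def n81525 : Q := act 6 n37227
theorem D81525 : act 6 n37227 = n81525 := rfl
theorem F125400 : act 3 n81525 = n55639 := d7_1 D81525 (iv6 D55639) F58185
def n81526 : Q := act 6 n37228
theorem D81526 : act 6 n37228 = n81526 := rfl
theorem F125401 : act 2 n81526 = n37230 := d3_1 D81526 (iv6 D37230) D37228
def n81527 : Q := act 4 n37229
theorem D81527 : act 4 n37229 = n81527 := rfl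
theorem F125402 : act 3 n81527 = n44751 := d5_1 D81527 (iv4 D44751) (iv3 D21316) (iv4 F29071) (iv3 F58187)
theorem F125403 : act 5 n77107 = n81527 := d19_1 (iv1 F123609) (iv4 D81527) F58187 (iv1 F58159) F58160 F29086 F16124 D13095 F21843 (iv4 F12844) (iv3 D3634) (iv1 D1597) D1599 D3642 (iv3 F11832) D16355 (iv5 F52496) (iv4 F108381) (iv3 F123604)
theorem F125404 : act 0 n81527 = n77116 := d17_2 (iv1 F123609) F125403 F115835 (iv4 F59231) (iv5 F86919) (iv0 D54948) D54952 F116176 (iv4 F123605)
theorem F125405 : act 1 n81527 = n71908 := d15_1 (iv0 F125404) (iv7 F120087) F120085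
def n81529 : Q := act 0 n37230
theorem D81529 : act 0 n37230 = n81529 := rfl
def n81530 : Q := act 1 n37230
theorem D81530 : act 1 n37230 = n81530 := rfl
def n81537 : Q := act 6 n37232
theorem D81537 : act 6 n37232 = n81537 := rfl
theorem F125410 : act 4 n81537 = n44588 := d10_1 D81537 (iv6 F70116) (iv4 F116752)
theorem F125411 : act 0 n39581 = n81537 := d18_2 (iv1 F29984) D39581 F125410 (iv5 D44588) D44587 F90450 (iv4 D27865) F22090 D18727
theorem F125412 : act 1 n39576 = n81537 := d15_0 (iv0 F125411) F117022 F117019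
def n81538 : Q := act 3 n37233
theorem D81538 : act 3 n37233 = n81538 := rfl
def n81540 : Q := act 6 n37233
theorem D81540 : act 6 n37233 = n81540 := rfl
theorem F125413 : act 4 n81540 = n44914 := d10_1 D81540 (iv6 D44914) (iv4 F116756)
theorem F125414 : act 0 n38958 = n81540 := d20_1 (iv4 F59986) F125413 (iv3 F121390) (iv1 D36732) F28769 D17717 F41733 F30026 (iv3 F29980) (iv1 F116809)
def n81541 : Q := act 0 n37234
theorem D81541 : act 0 n37234 = n81541 := rfl
theorem F125415 : act 1 n39511 = n81541 := d15_0 (iv0 D81541) F116759 F92523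
def n81542 : Q := act 1 n37234
theorem D81542 : act 1 n37234 = n81542 := rfl
def n81544 : Q := act 3 n37246
theorem D81544 : act 3 n37246 = n81544 := rfl
theorem F125417 : act 4 n81544 = n55424 := d5_2 F72922 D81544 (iv3 F115037) F115036 F73528
def n81545 : Q := act 6 n37246
theorem D81545 : act 6 n37246 = n81545 := rfl
theorem F125418 : act 4 n81545 = n46535 := d10_1 D81545 (iv6 D46535) F72922
def n81546 : Q := act 3 n37247
theorem D81546 : act 3 n37247 = n81546 := rfl
theorem F125419 : act 4 n81546 = n79156 := d20_6 (iv4 D15804) (iv1 F20892) (iv4 F33970) (iv3 F70914) (iv1 F70921) D81546 (iv1 F120443) F106252 (iv3 F71213) F50680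
def n81547 : Q := act 6 n37247
theorem D81547 : act 6 n37247 = n81547 := rfl
theorem F125420 : act 4 n81547 = n46525 := d10_1 D81547 (iv6 D46525) F72919
def n81548 : Q := act 0 n37248
theorem D81548 : act 0 n37248 = n81548 := rfl
def n81549 : Q := act 1 n37248
theorem D81549 : act 1 n37248 = n81549 := rfl
def n81550 : Q := act 5 n37248
theorem D81550 : act 5 n37248 = n81550 := rfl
theorem F125421 : act 3 n81550 = n37251 := d6_1 D81550 (iv5 D37251) (iv3 F58195)
def n81551 : Q := act 7 n37248
theorem D81551 : act 7 n37248 = n81551 := rfl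
def n81552 : Q := act 3 n37249
theorem D81552 : act 3 n37249 = n81552 := rfl
theorem F125423 : act 4 n81552 = n56339 := d5_2 (iv4 F58196) D81552 (iv3 D56339) (iv4 D27132) D27131
theorem F125424 : act 7 n81552 = n37353 := d8_2 (iv7 F89180) D81552 (iv3 D37353)
def n81553 : Q := act 5 n37249
theorem D81553 : act 5 n37249 = n81553 := rfl
theorem F125425 : act 2 n81553 = n37350 := d2_1 D81553 (iv5 D37350) (iv2 F89179)
theorem F125426 : act 7 n81553 = n37355 := d13_2 (iv7 F89180) D81553 (iv5 D37355)
theorem F125427 : act 0 n81553 = n58590 := d17_2 D37249 D81553 (iv5 D58590) F45002 (iv5 F29981) (iv0 F116806) (iv5 D37256) (iv0 D17905) (iv4 F29074)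
def n81554 : Q := act 6 n37249
theorem D81554 : act 6 n37249 = n81554 := rfl
theorem F125428 : act 2 n81554 = n37351 := d3_1 D81554 (iv6 D37351) (iv2 F89179)
theorem F125429 : act 4 n81554 = n56335 := d10_1 D81554 (iv6 D56335) (iv4 F58196)
theorem F125430 : act 5 n81554 = n58134 := d21_6 D21432 F33662 F16474 D17904 D37249 D81554 (iv1 D58134) (iv5 D27711) (iv6 D13229) (iv1 F16149)
theorem F125431 : act 0 n81554 = n76941 := d20_7 (iv4 F52549) (iv1 F86546) F86548 (iv3 F89118) (iv1 D56347) (iv3 F89099) (iv4 F125429) F115629 F55875 (iv1 F29887)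
def n81555 : Q := act 3 n37250
theorem D81555 : act 3 n37250 = n81555 := rfl
theorem F125432 : act 4 n81555 = n37909 := d5_2 F121332 D81555 (iv3 D37909) F118974 (iv3 F121331)
theorem F125433 : act 7 n81555 = n37348 := d8_2 (iv7 F89183) D81555 (iv3 D37348)
def n81556 : Q := act 5 n37250
theorem D81556 : act 5 n37250 = n81556 := rfl
theorem F125434 : act 2 n81556 = n37355 := d2_1 D81556 (iv5 D37355) (iv2 F89182)
theorem F125435 : act 7 n81556 = n37350 := d13_2 (iv7 F89183) D81556 (iv5 D37350)
theorem F125436 : act 1 n81556 = n58590 := d15_0 (iv0 F125427) F125426 (iv2 F125434)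
def n81557 : Q := act 6 n37250
theorem D81557 : act 6 n37250 = n81557 := rfl
theorem F125437 : act 2 n81557 = n37356 := d3_1 D81557 (iv6 D37356) (iv2 F89182)
def n81558 : Q := act 0 n37251
theorem D81558 : act 0 n37251 = n81558 := rfl
def n81559 : Q := act 1 n37251
theorem D81559 : act 1 n37251 = n81559 := rfl
theorem F125438 : act 1 n81559 = n37360 := d15_1 D81559 (iv7 D37360) (iv2 F58199)
theorem F125439 : act 5 n38932 = n81559 := d21_6 (iv5 F29677) (iv1 D18487) (iv5 D8692) D8693 D18489 D38932 (iv1 D81559) (iv5 D37251) (iv6 D17904) (iv1 F16392)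
theorem F125440 : act 2 n81559 = n37358 := d2_1 F125439 (iv5 F92566) (iv2 F92565)
theorem F125441 : act 0 n39571 = n38932 := d17_0 F125439 (iv1 D81559) (iv5 D37251) F29074 F13255 D17906 (iv5 F29682) F116809 (iv4 F60445)
theorem F125442 : act 1 n58576 = n38932 := d15_0 (iv0 F125441) F60446 (iv2 F92541)
def n81560 : Q := act 4 n37251
theorem D81560 : act 4 n37251 = n81560 := rfl
theorem F125443 : act 2 n81560 = n37359 := d1_1 D81560 (iv4 D37359) (iv2 F58199)
def n81561 : Q := act 7 n37251
theorem D81561 : act 7 n37251 = n81561 := rfl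
theorem F125444 : act 2 n81561 = n37360 := d4_1 D81561 (iv7 D37360) (iv2 F58199)
theorem F125445 : act 5 n81561 = n37252 := d13_1 D81561 (iv7 D37252) D37251
theorem F125446 : act 1 n37360 = n81558 := d15_0 (iv0 D81558) D81561 F125444
theorem F125447 : act 1 n37358 = n81561 := d15_1 D37358 (iv7 D81561) F58199
theorem F125448 : act 7 n81558 = n37358 := d15_2 F125438 F125446 (iv2 F125440)
theorem F125449 : act 2 n81558 = n37357 := d15_3 (iv0 D37357) D37358 (iv7 F125448)
theorem F125450 : act 7 n37357 = n81559 := d4_2 (iv7 F125448) F125449 F125440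
theorem F125451 : act 7 n38932 = n58588 := d13_2 F125450 (iv5 F125439) (iv5 F119009)
theorem F125452 : act 1 n81561 = n37357 := d15_1 F125447 F125450 F125440
def n81562 : Q := act 0 n37255
theorem D81562 : act 0 n37255 = n81562 := rfl
theorem F125453 : act 4 n81562 = n44889 := d20_2 D37255 D81562 F70524 (iv1 F121339) F119027 D45867 F118996 F44070 F21760 D17905
theorem F125454 : act 2 n37373 = n81562 := d15_3 (iv0 D81562) (iv0 F121357) (iv7 F121465)
theorem F125455 : act 1 n37259 = n81562 := d15_0 (iv0 D81562) F116860 (iv2 F116875)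
theorem F125456 : act 7 n81562 = n37267 := d15_2 F121426 F125455 (iv2 F69990)
def n81563 : Q := act 3 n37255
theorem D81563 : act 3 n37255 = n81563 := rfl
theorem F125457 : act 7 n81563 = n37395 := d8_2 (iv7 F116860) D81563 (iv3 D37395)
def n81564 : Q := act 5 n37255
theorem D81564 : act 5 n37255 = n81564 := rfl
theorem F125458 : act 2 n81564 = n37376 := d2_1 D81564 (iv5 D37376) (iv2 F116859)
theorem F125459 : act 7 n81564 = n37396 := d13_2 (iv7 F116860) D81564 (iv5 D37396)
def n81565 : Q := act 6 n37255
theorem D81565 : act 6 n37255 = n81565 := rfl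
theorem F125460 : act 2 n81565 = n37377 := d3_1 D81565 (iv6 D37377) (iv2 F116859)
theorem F125461 : act 4 n81565 = n37257 := d10_1 D81565 (iv6 D37257) D37255
def n81566 : Q := act 4 n37256
theorem D81566 : act 4 n37256 = n81566 := rfl
theorem F125462 : act 2 n81566 = n37381 := d1_1 D81566 (iv4 D37381) F116853
theorem F125463 : act 7 n81566 = n37398 := d11_2 F116854 D81566 (iv4 D37398)
theorem F125464 : act 1 n81566 = n81540 := d15_0 (iv0 F125414) (iv7 F117049) (iv2 F125462)
theorem F125465 : act 1 n44914 = n55733 := d18_8 (iv1 F121458) (iv4 F69991) F121357 (iv4 D37255) D37256 D81566 F125464 F125413 (iv5 F88170)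
theorem F125466 : act 1 n45941 = n44914 := d15_0 F125465 (iv7 F89181) (iv2 F119007)
def n81567 : Q := act 5 n37259
theorem D81567 : act 5 n37259 = n81567 := rfl
theorem F125467 : act 2 n81567 = n37396 := d2_1 D81567 (iv5 D37396) (iv2 F116875)
theorem F125468 : act 7 n81567 = n37376 := d13_2 (iv7 F116876) D81567 (iv5 D37376)
def n81568 : Q := act 0 n37264
theorem D81568 : act 0 n37264 = n81568 := rfl
def n81569 : Q := act 1 n37264
theorem D81569 : act 1 n37264 = n81569 := rfl
def n81570 : Q := act 2 n37264
theorem D81570 : act 2 n37264 = n81570 := rfl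
theorem F125469 : act 3 n81570 = n70379 := d0_2 D37264 D81570 (iv2 F106864) (iv3 D40678) F30841
theorem F125470 : act 4 n81570 = n77084 := d1_2 (iv4 F58214) D81570 (iv2 D77084)
def n81571 : Q := act 6 n37264
theorem D81571 : act 6 n37264 = n81571 := rfl
theorem F125471 : act 3 n81571 = n37265 := d7_1 D81571 (iv6 D37265) D37264
def n81572 : Q := act 5 n37265
theorem D81572 : act 5 n37265 = n81572 := rfl
def n81573 : Q := act 6 n37266
theorem D81573 : act 6 n37266 = n81573 := rfl
theorem F125473 : act 3 n81573 = n37267 := d7_1 D81573 (iv6 D37267) D37266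
theorem F125474 : act 4 n81573 = n56944 := d10_1 D81573 (iv6 D56944) (iv4 F58216)
def n81574 : Q := act 5 n37267
theorem D81574 : act 5 n37267 = n81574 := rfl
def n81575 : Q := act 6 n37268
theorem D81575 : act 6 n37268 = n81575 := rfl
def n81576 : Q := act 6 n37269
theorem D81576 : act 6 n37269 = n81576 := rfl
theorem F125475 : act 2 n81576 = n37271 := d3_1 D81576 (iv6 D37271) D37269
theorem F125476 : act 4 n81576 = n54937 := d10_1 D81576 (iv6 D54937) (iv4 F58220)
def n81577 : Q := act 6 n37270
theorem D81577 : act 6 n37270 = n81577 := rfl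
theorem F125477 : act 2 n81577 = n52947 := d3_1 D81577 (iv6 D52947) (iv2 F58222)
theorem F125478 : act 3 n81577 = n37274 := d7_1 D81577 (iv6 D37274) (iv3 F58223)
theorem F125479 : act 4 n81577 = n69730 := d10_1 D81577 (iv6 D69730) (iv4 F58225)
def n81578 : Q := act 0 n37271
theorem D81578 : act 0 n37271 = n81578 := rfl
def n81579 : Q := act 1 n37271
theorem D81579 : act 1 n37271 = n81579 := rfl
def n81580 : Q := act 5 n37271
theorem D81580 : act 5 n37271 = n81580 := rfl
def n81581 : Q := act 3 n37272
theorem D81581 : act 3 n37272 = n81581 := rfl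
theorem F125481 : act 5 n81581 = n44485 := d6_2 (iv5 F58229) D81581 (iv3 D44485)
theorem F125482 : act 7 n81581 = n81430 := d8_2 F58233 D81581 F125266
def n81582 : Q := act 6 n37272
theorem D81582 : act 6 n37272 = n81582 := rfl
theorem F125483 : act 2 n81582 = n81434 := d3_1 D81582 (iv6 D81434) F58232
theorem F125484 : act 4 n81582 = n40979 := d10_1 D81582 (iv6 D40979) (iv4 F58230)
def n81583 : Q := act 6 n37273
theorem D81583 : act 6 n37273 = n81583 := rfl
theorem F125485 : act 2 n81583 = n81432 := d3_1 D81583 (iv6 D81432) F58238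
theorem F125486 : act 4 n81583 = n44514 := d10_1 D81583 (iv6 D44514) (iv4 F58237)
def n81584 : Q := act 0 n37274
theorem D81584 : act 0 n37274 = n81584 := rfl
def n81585 : Q := act 1 n37274
theorem D81585 : act 1 n37274 = n81585 := rfl
def n81586 : Q := act 5 n37274
theorem D81586 : act 5 n37274 = n81586 := rfl
theorem F125487 : act 6 n81586 = n37277 := d12_2 D37274 D81586 (iv5 D37277) (iv6 D17913) D17912
def n81587 : Q := act 7 n37274
theorem D81587 : act 7 n37274 = n81587 := rfl
theorem F125488 : act 4 n81587 = n44745 := d11_1 D81587 (iv7 D44745) (iv4 F58240)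
def n81588 : Q := act 3 n37275
theorem D81588 : act 3 n37275 = n81588 := rfl
def n81589 : Q := act 5 n37275
theorem D81589 : act 5 n37275 = n81589 := rfl
def n81590 : Q := act 6 n37275
theorem D81590 : act 6 n37275 = n81590 := rfl
def n81591 : Q := act 3 n37276
theorem D81591 : act 3 n37276 = n81591 := rfl
def n81592 : Q := act 5 n37276
theorem D81592 : act 5 n37276 = n81592 := rfl
def n81593 : Q := act 6 n37276
theorem D81593 : act 6 n37276 = n81593 := rfl
theorem F125490 : act 4 n81593 = n79108 := d10_1 D81593 (iv6 D79108) (iv4 F117104)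
def n81594 : Q := act 0 n37277
theorem D81594 : act 0 n37277 = n81594 := rfl
def n81595 : Q := act 1 n37277
theorem D81595 : act 1 n37277 = n81595 := rfl
def n81597 : Q := act 0 n37289
theorem D81597 : act 0 n37289 = n81597 := rfl
theorem F125492 : act 3 n81597 = n79219 := d20_5 (iv4 D9032) (iv1 F13810) D17917 D37289 D81597 F123580 (iv1 D80409) F57500 (iv3 D35272) F28065
theorem F125493 : act 5 n79218 = n81597 := d6_0 F125492 (iv5 D79219) D79218
def n81598 : Q := act 1 n37289
theorem D81598 : act 1 n37289 = n81598 := rfl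
def n81599 : Q := act 2 n37289
theorem D81599 : act 2 n37289 = n81599 := rfl
theorem F125494 : act 4 n81599 = n37298 := d1_2 (iv4 F58245) D81599 (iv2 D37298)
def n81600 : Q := act 5 n37289
theorem D81600 : act 5 n37289 = n81600 := rfl
theorem F125495 : act 3 n81600 = n37290 := d6_1 D81600 (iv5 D37290) D37289
theorem F125496 : act 7 n81600 = n80755 := d13_2 F60855 D81600 F124256
theorem F125497 : act 4 n81600 = n37873 := d18_5 (iv1 F121920) F107240 (iv1 D37297) (iv4 F58245) D81600 F72477 F72473 F57781 (iv5 F121919)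
theorem F125498 : act 7 n37873 = n45888 := d11_2 (iv7 F125496) F125497 (iv4 F124257)
theorem F125499 : act 2 n45888 = n37872 := d15_3 (iv0 D37872) D37873 F125498
theorem F125500 : act 2 n37873 = n45887 := d15_3 (iv0 D45887) D45888 (iv7 F125498)
theorem F125501 : act 7 n45887 = n37872 := d4_2 (iv7 F125498) F125500 (iv2 F125499)
def n81601 : Q := act 6 n37289
theorem D81601 : act 6 n37289 = n81601 := rfl
def n81603 : Q := act 5 n37291
theorem D81603 : act 5 n37291 = n81603 := rfl
def n81604 : Q := act 5 n37292
theorem D81604 : act 5 n37292 = n81604 := rfl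
theorem F125507 : act 2 n81604 = n76855 := d2_1 D81604 (iv5 D76855) (iv2 F117086)
def n81605 : Q := act 6 n37292
theorem D81605 : act 6 n37292 = n81605 := rfl
theorem F125509 : act 2 n81605 = n76856 := d3_1 D81605 (iv6 D76856) (iv2 F117086)
theorem F125511 : act 4 n81605 = n80467 := d10_1 D81605 (iv6 D80467) (iv4 F117087)
theorem F125512 : act 5 n81605 = n40566 := d21_6 (iv5 F14037) F13808 F13805 D17918 D37292 D81605 (iv1 D40566) (iv5 F33438) (iv6 D21201) F15960
def n81606 : Q := act 5 n37293
theorem D81606 : act 5 n37293 = n81606 := rfl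
theorem F125513 : act 3 n81606 = n76822 := d6_1 D81606 (iv5 D76822) (iv3 F117083)
theorem F125514 : act 7 n81606 = n76855 := d13_2 (iv7 F117085) D81606 (iv5 D76855)
def n81607 : Q := act 6 n37293
theorem D81607 : act 6 n37293 = n81607 := rfl
theorem F125515 : act 3 n81607 = n37424 := d7_1 D81607 F121208 (iv3 F117083)
theorem F125516 : act 4 n81607 = n80470 := d10_1 D81607 (iv6 D80470) (iv4 F117084)
theorem F125517 : act 0 n80470 = n79868 := d20_7 (iv4 F52545) (iv1 D33313) F29133 (iv3 F29120) D37424 (iv3 F125515) F125516 (iv4 D79868) F57136 (iv1 F28827)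
theorem F125518 : act 0 n40580 = n81607 := d20_10 F125516 F125517 (iv4 D79868) F57136 (iv1 F28827) (iv3 F91252) (iv4 F123401) (iv1 D80320) (iv4 F118573) (iv3 F121488)
def n81608 : Q := act 0 n37294
theorem D81608 : act 0 n37294 = n81608 := rfl
def n81609 : Q := act 1 n37294
theorem D81609 : act 1 n37294 = n81609 := rfl
def n81610 : Q := act 4 n37294
theorem D81610 : act 4 n37294 = n81610 := rfl
theorem F125519 : act 6 n81610 = n77259 := d10_2 F60831 D81610 F116021
def n81611 : Q := act 7 n37294
theorem D81611 : act 7 n37294 = n81611 := rfl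
theorem F125521 : act 5 n81611 = n37295 := d13_1 D81611 (iv7 D37295) D37294
def n81612 : Q := act 3 n37296
theorem D81612 : act 3 n37296 = n81612 := rfl
theorem F125522 : act 2 n81612 = n54848 := d0_1 D81612 (iv3 D54848) (iv2 F50678) F71213 F71217
theorem F125523 : act 4 n81612 = n45875 := d5_2 (iv4 F58254) D81612 (iv3 F72443) F43702 (iv3 F56866)
theorem F125524 : act 7 n81612 = n77638 := d8_2 (iv7 F71218) D81612 F116544
theorem F125525 : act 1 n54848 = n76728 := d15_0 (iv0 F116545) (iv7 F125524) F125522
def n81613 : Q := act 6 n37296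
theorem D81613 : act 6 n37296 = n81613 := rfl
theorem F125526 : act 4 n81613 = n79331 := d10_1 D81613 (iv6 D79331) (iv4 F58254)
def n81614 : Q := act 6 n37297
theorem D81614 : act 6 n37297 = n81614 := rfl
theorem F125527 : act 3 n81614 = n70355 := d7_1 D81614 (iv6 D70355) F58255
def n81615 : Q := act 6 n37298
theorem D81615 : act 6 n37298 = n81615 := rfl
theorem F125528 : act 2 n81615 = n37300 := d3_1 D81615 (iv6 D37300) D37298
def n81616 : Q := act 4 n37299
theorem D81616 : act 4 n37299 = n81616 := rfl
theorem F125529 : act 3 n81616 = n44718 := d5_1 D81616 (iv4 D44718) F33510 (iv4 F29092) (iv3 F58256)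
theorem F125530 : act 5 n81616 = n78064 := d16_5 (iv4 F125497) (iv5 D81600) F58245 D37299 D81616 (iv4 F119259) F116266 (iv7 F125501) (iv2 F125500)
theorem F125531 : act 0 n81616 = n78068 := d20_4 (iv4 F94695) (iv1 D44717) D44718 (iv3 F125529) (iv3 D78068) (iv4 F57272) (iv1 F115740) F115737 (iv3 F121966) F121967
def n81618 : Q := act 0 n37300
theorem D81618 : act 0 n37300 = n81618 := rfl
def n81619 : Q := act 1 n37300
theorem D81619 : act 1 n37300 = n81619 := rfl
def n81621 : Q := act 7 n37300
theorem D81621 : act 7 n37300 = n81621 := rfl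
theorem F125534 : act 3 n81621 = n37305 := d8_1 D81621 (iv7 D37305) (iv3 F58257)
def n81625 : Q := act 7 n37301
theorem D81625 : act 7 n37301 = n81625 := rfl
def n81626 : Q := act 3 n37302
theorem D81626 : act 3 n37302 = n81626 := rfl
def n81627 : Q := act 5 n37302
theorem D81627 : act 5 n37302 = n81627 := rfl
def n81628 : Q := act 6 n37302
theorem D81628 : act 6 n37302 = n81628 := rfl
theorem F125538 : act 4 n81628 = n79107 := d10_1 D81628 F120373 (iv4 F117065)
def n81629 : Q := act 3 n37303
theorem D81629 : act 3 n37303 = n81629 := rfl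
theorem F125539 : act 4 n81629 = n77161 := d5_2 (iv4 F116760) D81629 (iv3 D77161) (iv4 D35227) D35226
def n81630 : Q := act 5 n37303
theorem D81630 : act 5 n37303 = n81630 := rfl
def n81631 : Q := act 6 n37303
theorem D81631 : act 6 n37303 = n81631 := rfl
theorem F125540 : act 4 n81631 = n77160 := d10_1 D81631 (iv6 D77160) (iv4 F116760)
theorem F125541 : act 0 n37377 = n81631 := d20_1 (iv4 F58297) F125540 F115926 (iv1 F121321) F57613 (iv4 F51612) (iv1 F52070) F52071 (iv3 F54965) (iv1 F116803)
def n81632 : Q := act 0 n37304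
theorem D81632 : act 0 n37304 = n81632 := rfl
def n81633 : Q := act 1 n37304
theorem D81633 : act 1 n37304 = n81633 := rfl
theorem F125542 : act 5 n81453 = n81633 := d21_6 (iv5 F58160) (iv1 D37195) (iv5 D17887) D17888 D37197 D81453 (iv1 D81633) (iv5 D37304) (iv6 D17921) (iv1 F29085)
def n81635 : Q := act 7 n37304
theorem D81635 : act 7 n37304 = n81635 := rfl
theorem F125543 : act 5 n81635 = n37305 := d13_1 D81635 (iv7 D37305) D37304
def n81636 : Q := act 3 n37312
theorem D81636 : act 3 n37312 = n81636 := rfl
def n81637 : Q := act 5 n37312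
theorem D81637 : act 5 n37312 = n81637 := rfl
theorem F125544 : act 2 n81637 = n76940 := d2_1 D81637 (iv5 D76940) (iv2 F116771)
def n81638 : Q := act 6 n37312
theorem D81638 : act 6 n37312 = n81638 := rfl
theorem F125545 : act 2 n81638 = n76941 := d3_1 D81638 (iv6 D76941) (iv2 F116771)
theorem F125546 : act 4 n81638 = n37314 := d10_1 D81638 (iv6 D37314) D37312
def n81639 : Q := act 4 n37313
theorem D81639 : act 4 n37313 = n81639 := rfl
theorem F125547 : act 2 n81639 = n76944 := d1_1 D81639 (iv4 D76944) (iv2 F116774)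
def n81644 : Q := act 4 n37316
theorem D81644 : act 4 n37316 = n81644 := rfl
theorem F125550 : act 0 n81644 = n79575 := d18_2 (iv1 F71202) D81644 F122206 F56945 (iv4 F29101) (iv0 F116769) (iv4 D37312) F33944 (iv5 F71199)
def n81645 : Q := act 6 n37316
theorem D81645 : act 6 n37316 = n81645 := rfl
theorem F125551 : act 5 n81645 = n81481 := d12_1 D81645 (iv6 D81481) (iv5 D37204) D37205 F58262
def n81646 : Q := act 0 n37317
theorem D81646 : act 0 n37317 = n81646 := rfl
def n81647 : Q := act 1 n37317
theorem D81647 : act 1 n37317 = n81647 := rfl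
theorem F125552 : act 4 n81647 = n77176 := d18_7 (iv1 F115867) (iv4 F116760) (iv1 D37303) F29093 D17924 D37317 D81647 F122213 F122211
theorem F125553 : act 3 n81608 = n77358 := d20_5 (iv4 F125552) (iv1 D81647) (iv4 D37317) (iv3 F58252) D81608 (iv4 F122284) (iv1 F122283) F122279 (iv3 F122210) (iv1 F122213)
def n81648 : Q := act 3 n37317
theorem D81648 : act 3 n37317 = n81648 := rfl
def n81649 : Q := act 5 n37317
theorem D81649 : act 5 n37317 = n81649 := rfl
def n81650 : Q := act 7 n37317
theorem D81650 : act 7 n37317 = n81650 := rfl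
theorem F125554 : act 4 n81650 = n37318 := d11_1 D81650 (iv7 D37318) D37317
def n81651 : Q := act 4 n37319
theorem D81651 : act 4 n37319 = n81651 := rfl
theorem F125555 : act 2 n81651 = n75313 := d1_1 D81651 F112922 (iv2 F107439)
theorem F125556 : act 0 n75525 = n81651 := d20_10 (iv4 D81651) (iv1 F71249) F71247 (iv3 F72472) (iv1 F72477) (iv3 F113358) F74247 F113366 (iv4 D75526) D75525
def n81652 : Q := act 5 n37319
theorem D81652 : act 5 n37319 = n81652 := rfl
theorem F125557 : act 3 n81652 = n52888 := d6_1 D81652 (iv5 F107434) (iv3 F107437)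
theorem F125558 : act 4 n81652 = n76551 := d17_4 F90162 (iv5 D37322) D37319 D81652 F114789 F90259 (iv5 F110125) (iv0 D57111) D57113
theorem F125559 : act 0 n37339 = n81652 := d20_4 (iv4 D40695) F30852 (iv4 F29103) D37339 F125557 F83581 F55406 (iv4 F71091) F71089 (iv1 F61815)
def n81653 : Q := act 6 n37319
theorem D81653 : act 6 n37319 = n81653 := rfl
def n81654 : Q := act 3 n37320
theorem D81654 : act 3 n37320 = n81654 := rfl
theorem F125560 : act 5 n81654 = n57575 := d6_2 (iv5 F90652) D81654 F90734
theorem F125561 : act 4 n72426 = n81654 := d20_2 (iv4 F52724) D72426 (iv3 D81654) (iv1 D37320) (iv3 D17926) (iv4 F13963) (iv1 F14098) D19201 D40678 F61781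
def n81655 : Q := act 4 n37320
theorem D81655 : act 4 n37320 = n81655 := rfl
theorem F125562 : act 7 n81655 = n75313 := d11_2 (iv7 F107441) D81655 F112922
theorem F125563 : act 3 n81655 = n75247 := d20_3 (iv4 F71247) (iv1 F71251) D81655 (iv1 F112790) F54714 F27534 (iv1 F27128) D26483 (iv3 F72437) (iv1 F72438)
theorem E13454 : n75316 = n75247 := ((c8_2 (iv7 F125562) F125563 (iv7 D75316) D75313)).symm
theorem F125564 : act 2 n75247 = n34483 := (sb E13454 F112924)
theorem E13455 : n47260 = n38200 := (((F115312).symm.trans (sb E13454 F112925))).symm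
theorem F125565 : act 7 n75247 = n34482 := (sb E13454 (iv7 D75316))
theorem F125566 : act 2 n38200 = n22727 := (sb E13455 F74510)
theorem F125567 : act 7 n38200 = n22726 := (sb E13455 (iv7 D47260))
theorem E13456 : n79217 = n47257 := ((c11_2 F125567 D47257 (iv7 D79217) F74450)).symm
theorem F125568 : act 2 n47257 = n36063 := (sb E13456 F120494)
theorem F125569 : act 7 n47257 = n36062 := (sb E13456 (iv7 D79217))
theorem E13457 : n47255 = n38201 := (c15_4 F59064 F59063 F125567 D47255)
theorem F125570 : act 2 n38201 = n22726 := (sb E13457 (iv2 D47255))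
theorem E13458 : n75312 = n75248 := ((((iv5 F115317)).symm.trans (sb E13457 (iv5 F112917)))).symm
theorem F125571 : act 7 n38201 = n22727 := (sb E13457 (iv7 F74507))
theorem F125572 : act 2 n75248 = n34482 := (sb E13458 (iv2 D75312))
theorem F125573 : act 7 n75248 = n34483 := (sb E13458 (iv7 F112918))
theorem E13459 : n79213 = n47262 := ((c11_2 F125571 D47262 (iv7 F120491) (iv4 F71077))).symm
theorem F125574 : act 2 n47262 = n36062 := (sb E13459 (iv2 D79213))
theorem F125576 : act 1 n75525 = n81655 := d15_1 (iv0 F125556) F125562 (iv2 F125555)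
def n81656 : Q := act 6 n37320
theorem D81656 : act 6 n37320 = n81656 := rfl
def n81657 : Q := act 5 n37321
theorem D81657 : act 5 n37321 = n81657 := rfl
theorem F125577 : act 2 n81657 = n37322 := d2_1 D81657 (iv5 D37322) D37321
theorem F125578 : act 3 n81657 = n48751 := d6_1 D81657 F76775 F71269
theorem F125579 : act 4 n81657 = n76674 := d9_1 D81657 (iv5 F115018) F121669 (iv5 F123318) (iv4 D80251) F57430 (iv4 F33962) (iv5 F59957) F115019 (iv5 F115021) (iv4 F121665) (iv5 F123323) (iv4 D80254) (iv5 F72449) F72448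
def n81658 : Q := act 6 n37321
theorem D81658 : act 6 n37321 = n81658 := rfl
theorem F125580 : act 2 n81658 = n37323 := d3_1 D81658 (iv6 D37323) D37321
def n81659 : Q := act 0 n37322
theorem D81659 : act 0 n37322 = n81659 := rfl
theorem F125581 : act 3 n81659 = n54782 := d20_5 F58147 (iv1 F33481) (iv4 F29094) (iv3 F58264) D81659 (iv4 D54782) F42407 F40618 F40619 (iv1 F58149)
theorem F125582 : act 4 n71321 = n81659 := d5_0 F125581 (iv4 D54782) F42406 D33003 D71321
theorem F125583 : act 5 n44902 = n81659 := d19_1 D44902 (iv4 F125582) (iv3 D71321) (iv1 F88579) F88576 (iv4 D33772) F25844 D17481 F28475 F21611 (iv3 F27409) F27411 F12364 F6434 (iv3 F6697) (iv1 D4638) D4639 D10212 D21431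
theorem F125584 : act 0 n76727 = n81430 := d20_4 (iv4 F125582) (iv1 F107824) F107826 D76727 F125266 F58147 (iv1 F33481) (iv4 F29094) (iv3 F58264) D81659
def n81660 : Q := act 4 n37322
theorem D81660 : act 4 n37322 = n81660 := rfl
theorem F125585 : act 2 n81660 = n76674 := d1_1 D81660 (iv4 F125579) F125577
theorem F125586 : act 3 n81660 = n44677 := d5_1 D81660 (iv4 D44677) F33501 (iv4 F29094) (iv3 F58264)
theorem F125587 : act 7 n81660 = n76675 := d11_2 F59958 D81660 (iv4 F115019)
theorem F125588 : act 0 n81660 = n76678 := d18_2 F90162 D81660 F115027 F55692 (iv4 F42553) (iv0 F42555) (iv4 F33657) D44903 F90161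
theorem F125589 : act 0 n76676 = n81660 := d20_7 (iv4 D10912) (iv1 F16007) (iv4 F29092) (iv3 F58256) F88020 F88018 (iv4 F115024) (iv4 D81660) F58264 F29095
def n81661 : Q := act 6 n37322
theorem D81661 : act 6 n37322 = n81661 := rfl
theorem F125590 : act 3 n81661 = n37324 := d7_1 D81661 (iv6 D37324) (iv3 F58264)
def n81662 : Q := act 0 n37323
theorem D81662 : act 0 n37323 = n81662 := rfl
def n81663 : Q := act 1 n37323
theorem D81663 : act 1 n37323 = n81663 := rfl
def n81664 : Q := act 5 n37323
theorem D81664 : act 5 n37323 = n81664 := rfl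
theorem F125591 : act 3 n81664 = n37327 := d6_1 D81664 (iv5 D37327) (iv3 F58265)
def n81665 : Q := act 0 n37324
theorem D81665 : act 0 n37324 = n81665 := rfl
def n81666 : Q := act 1 n37324
theorem D81666 : act 1 n37324 = n81666 := rfl
def n81667 : Q := act 5 n37324
theorem D81667 : act 5 n37324 = n81667 := rfl
theorem F125592 : act 6 n81667 = n37327 := d12_2 D37324 D81667 (iv5 D37327) (iv6 D17928) D17927
def n81668 : Q := act 7 n37324
theorem D81668 : act 7 n37324 = n81668 := rfl
theorem F125593 : act 4 n81668 = n44685 := d11_1 D81668 (iv7 D44685) (iv4 F58266)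
def n81669 : Q := act 0 n37327
theorem D81669 : act 0 n37327 = n81669 := rfl
theorem F125594 : act 5 n81669 = n39541 := d17_3 F59775 D37327 D81669 (iv4 D39541) (iv5 D18727) F116658 F17012 (iv0 F116631) D26839
theorem F125595 : act 2 n39570 = n81669 := d15_3 (iv0 D81669) (iv0 F60437) (iv7 F60444)
def n81670 : Q := act 4 n37327
theorem D81670 : act 4 n37327 = n81670 := rfl
def n81671 : Q := act 3 n37329
theorem D81671 : act 3 n37329 = n81671 := rfl
def n81672 : Q := act 6 n37329
theorem D81672 : act 6 n37329 = n81672 := rfl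
def n81673 : Q := act 3 n37330
theorem D81673 : act 3 n37330 = n81673 := rfl
theorem F125596 : act 7 n81673 = n70546 := d8_2 F114851 D81673 F108063
theorem F125597 : act 2 n81673 = n70547 := d15_3 F107413 F107411 (iv7 F125596)
def n81674 : Q := act 4 n37330
theorem D81674 : act 4 n37330 = n81674 := rfl
theorem F125599 : act 5 n81674 = n48949 := d9_2 F114847 D81674 F77209 F42391 (iv4 F28347) D35917 D78897 F120075 (iv4 F114864) (iv5 D76591) (iv4 D35000) (iv5 D16989) D16988 D34998 D76587
theorem F125601 : act 0 n81674 = n40217 := d17_0 (iv5 D40217) (iv1 F52194) D71359 F107857 (iv5 F108376) F108378 (iv5 D37332) D37330 D81674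
theorem F125602 : act 1 n81674 = n40224 := d18_6 (iv1 F77196) (iv4 D48944) (iv1 F55458) D76587 F114847 D81674 (iv4 F107335) F107338 F106833
theorem F125603 : act 3 n81674 = n56293 := d20_3 (iv4 F71270) (iv1 F71274) D81674 (iv1 F89051) F57807 (iv4 D22677) (iv1 F30587) F30585 (iv3 F51483) (iv1 F56770)
theorem E13460 : n81673 = n70893 := ((c20_5 (iv4 D26534) F26461 (iv4 F26745) D32849 D70893 (iv3 D81673) D81674 F125601 F61205 (iv3 D32660) (iv1 F42482))).symm
theorem F125604 : act 2 n70893 = n70547 := (sb E13460 F125597)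
theorem F125605 : act 3 n70893 = n37330 := (sb E13460 (iv3 D81673))
theorem F125606 : act 7 n70893 = n70546 := (sb E13460 F125596)
theorem F125607 : act 2 n70546 = n70894 := d15_3 F107412 F107407 F125606
theorem F125608 : act 7 n70547 = n70894 := d4_2 (iv7 F125606) F125604 (iv2 F125607)
def n81675 : Q := act 6 n37330
theorem D81675 : act 6 n37330 = n81675 := rfl
def n81676 : Q := act 6 n37331
theorem D81676 : act 6 n37331 = n81676 := rfl
theorem F125609 : act 2 n81676 = n37333 := d3_1 D81676 (iv6 D37333) D37331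
theorem F125610 : act 4 n81676 = n80679 := d10_1 D81676 (iv6 D80679) (iv4 F58267)
def n81677 : Q := act 6 n37332
theorem D81677 : act 6 n37332 = n81677 := rfl
theorem F125611 : act 3 n81677 = n37334 := d7_1 D81677 (iv6 D37334) (iv3 F58268)
theorem F125612 : act 4 n81677 = n48749 := d10_1 D81677 (iv6 D48749) (iv4 F58269)
def n81678 : Q := act 0 n37333
theorem D81678 : act 0 n37333 = n81678 := rfl
def n81679 : Q := act 1 n37333
theorem D81679 : act 1 n37333 = n81679 := rfl
def n81680 : Q := act 5 n37333
theorem D81680 : act 5 n37333 = n81680 := rfl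
theorem F125613 : act 3 n81680 = n37337 := d6_1 D81680 (iv5 D37337) (iv3 F58270)
def n81681 : Q := act 7 n37333
theorem D81681 : act 7 n37333 = n81681 := rfl
def n81682 : Q := act 0 n37334
theorem D81682 : act 0 n37334 = n81682 := rfl
def n81683 : Q := act 1 n37334
theorem D81683 : act 1 n37334 = n81683 := rfl
def n81684 : Q := act 5 n37334
theorem D81684 : act 5 n37334 = n81684 := rfl
theorem F125616 : act 6 n81684 = n37337 := d12_2 D37334 D81684 (iv5 D37337) (iv6 D17931) D17930
def n81685 : Q := act 7 n37334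
theorem D81685 : act 7 n37334 = n81685 := rfl
theorem F125617 : act 4 n81685 = n44651 := d11_1 D81685 (iv7 D44651) (iv4 F58272)
def n81686 : Q := act 0 n37337
theorem D81686 : act 0 n37337 = n81686 := rfl
def n81687 : Q := act 1 n37337
theorem D81687 : act 1 n37337 = n81687 := rfl
def n81688 : Q := act 4 n37337
theorem D81688 : act 4 n37337 = n81688 := rfl
def n81689 : Q := act 7 n37337
theorem D81689 : act 7 n37337 = n81689 := rfl
theorem F125618 : act 5 n81689 = n37338 := d13_1 D81689 (iv7 D37338) D37337
def n81690 : Q := act 2 n37339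
theorem D81690 : act 2 n37339 = n81690 := rfl
theorem F125619 : act 3 n81690 = n54771 := d0_2 D37339 D81690 F86648 (iv3 D44937) F33708
theorem F125620 : act 5 n81690 = n38909 := d2_2 (iv5 F58274) D81690 (iv2 D38909)
def n81691 : Q := act 4 n37339
theorem D81691 : act 4 n37339 = n81691 := rfl
theorem F125621 : act 3 n81691 = n44595 := d5_1 D81691 (iv4 D44595) F33449 (iv4 F29103) D37339
def n81692 : Q := act 6 n37339
theorem D81692 : act 6 n37339 = n81692 := rfl
theorem F125622 : act 3 n81692 = n37340 := d7_1 D81692 (iv6 D37340) D37339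
def n81693 : Q := act 0 n37340
theorem D81693 : act 0 n37340 = n81693 := rfl
def n81694 : Q := act 1 n37340
theorem D81694 : act 1 n37340 = n81694 := rfl
def n81695 : Q := act 5 n37340
theorem D81695 : act 5 n37340 = n81695 := rfl
theorem F125623 : act 6 n81695 = n38913 := d12_2 D37340 D81695 (iv5 D38913) (iv6 D18483) (iv5 F29102)
def n81696 : Q := act 7 n37340
theorem D81696 : act 7 n37340 = n81696 := rfl
def n81697 : Q := act 6 n37341
theorem D81697 : act 6 n37341 = n81697 := rfl
theorem F125625 : act 3 n81697 = n37342 := d7_1 D81697 (iv6 D37342) D37341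
theorem F125626 : act 4 n81697 = n69798 := d10_1 D81697 (iv6 D69798) (iv4 F58276)
def n81698 : Q := act 0 n37342
theorem D81698 : act 0 n37342 = n81698 := rfl
def n81699 : Q := act 1 n37342
theorem D81699 : act 1 n37342 = n81699 := rfl
def n81701 : Q := act 7 n37342
theorem D81701 : act 7 n37342 = n81701 := rfl
theorem F125628 : act 4 n81701 = n44533 := d11_1 D81701 (iv7 D44533) (iv4 F58278)
def n81702 : Q := act 2 n37343
theorem D81702 : act 2 n37343 = n81702 := rfl
theorem F125629 : act 7 n37344 = n81702 := d15_2 (iv0 D37343) D37344 (iv2 D81702)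
def n81703 : Q := act 3 n37343
theorem D81703 : act 3 n37343 = n81703 := rfl
def n81704 : Q := act 4 n37343
theorem D81704 : act 4 n37343 = n81704 := rfl
def n81705 : Q := act 5 n37343
theorem D81705 : act 5 n37343 = n81705 := rfl
def n81706 : Q := act 6 n37343
theorem D81706 : act 6 n37343 = n81706 := rfl
def n81707 : Q := act 7 n37343
theorem D81707 : act 7 n37343 = n81707 := rfl
theorem F125630 : act 2 n81707 = n37344 := d4_1 D81707 F125629 (iv2 D81702)
def n81708 : Q := act 3 n37344
theorem D81708 : act 3 n37344 = n81708 := rfl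
def n81709 : Q := act 4 n37344
theorem D81709 : act 4 n37344 = n81709 := rfl
def n81710 : Q := act 5 n37344
theorem D81710 : act 5 n37344 = n81710 := rfl
def n81711 : Q := act 6 n37344
theorem D81711 : act 6 n37344 = n81711 := rfl
def n81712 : Q := act 0 n37345
theorem D81712 : act 0 n37345 = n81712 := rfl
def n81713 : Q := act 1 n37345
theorem D81713 : act 1 n37345 = n81713 := rfl
def n81714 : Q := act 4 n37345
theorem D81714 : act 4 n37345 = n81714 := rfl
theorem F125631 : act 6 n81714 = n37359 := d10_2 (iv6 F58279) D81714 (iv4 D37359)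
def n81715 : Q := act 7 n37345
theorem D81715 : act 7 n37345 = n81715 := rfl
theorem F125632 : act 5 n81715 = n37346 := d13_1 D81715 (iv7 D37346) D37345
def n81716 : Q := act 0 n37348
theorem D81716 : act 0 n37348 = n81716 := rfl
def n81717 : Q := act 1 n37348
theorem D81717 : act 1 n37348 = n81717 := rfl
def n81718 : Q := act 2 n37348
theorem D81718 : act 2 n37348 = n81718 := rfl
def n81719 : Q := act 5 n37348
theorem D81719 : act 5 n37348 = n81719 := rfl
theorem F125633 : act 3 n81719 = n37350 := d6_1 D81719 (iv5 D37350) D37348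
def n81720 : Q := act 6 n37348
theorem D81720 : act 6 n37348 = n81720 := rfl
theorem F125634 : act 3 n81720 = n37351 := d7_1 D81720 (iv6 D37351) D37348
def n81721 : Q := act 0 n37350
theorem D81721 : act 0 n37350 = n81721 := rfl
theorem F125635 : act 5 n81721 = n58576 := d17_3 D17935 D37350 D81721 F92542 (iv5 F116764) (iv0 D37379) (iv5 D17942) (iv0 D8463) (iv4 F13260)
theorem F125636 : act 0 n76013 = n37351 := d21_4 D38919 (iv1 F113892) (iv5 D76012) D76013 (iv6 D37351) D37350 D81721 F125635 (iv6 D58576) (iv1 F59763)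
theorem F125637 : act 1 n37355 = n81721 := d15_0 (iv0 D81721) (iv7 F125435) F125434
theorem F125638 : act 1 n81638 = n37351 := d15_0 (iv0 F125636) (iv7 F115630) (iv2 F125545)
theorem F125639 : act 2 n58590 = n81721 := d2_3 F125635 F92541 D58590
def n81722 : Q := act 1 n37350
theorem D81722 : act 1 n37350 = n81722 := rfl
theorem F125640 : act 1 n81722 = n37355 := d15_1 D81722 (iv7 F125426) F125425
theorem F125641 : act 7 n81722 = n58590 := d15_2 (iv0 D81721) D81722 F125639
theorem F125642 : act 5 n39571 = n81722 := d13_3 F125641 (iv5 D58590) (iv7 F60446)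
def n81723 : Q := act 4 n37350
theorem D81723 : act 4 n37350 = n81723 := rfl
def n81724 : Q := act 6 n37350
theorem D81724 : act 6 n37350 = n81724 := rfl
def n81725 : Q := act 5 n37351
theorem D81725 : act 5 n37351 = n81725 := rfl
theorem F125643 : act 2 n81725 = n58134 := d2_1 D81725 (iv5 F125430) F125428
theorem F125644 : act 0 n81725 = n58108 := d17_2 F125636 D81725 (iv5 D58108) F44711 D27706 (iv0 F58307) (iv5 D37386) F116803 (iv4 F113894)
theorem F125645 : act 0 n58136 = n81725 := d21_7 (iv5 F125445) (iv1 F125447) (iv5 F92566) F92564 F59925 (iv6 F44726) (iv5 F91938) (iv5 D81725) (iv6 D37351) (iv1 F58203)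
def n81726 : Q := act 7 n37351
theorem D81726 : act 7 n37351 = n81726 := rfl
def n81727 : Q := act 0 n37353
theorem D81727 : act 0 n37353 = n81727 := rfl
def n81728 : Q := act 1 n37353
theorem D81728 : act 1 n37353 = n81728 := rfl
def n81729 : Q := act 2 n37353
theorem D81729 : act 2 n37353 = n81729 := rfl
def n81730 : Q := act 4 n37353
theorem D81730 : act 4 n37353 = n81730 := rfl
def n81731 : Q := act 5 n37353
theorem D81731 : act 5 n37353 = n81731 := rfl
theorem F125648 : act 3 n81731 = n37355 := d6_1 D81731 (iv5 D37355) D37353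
def n81732 : Q := act 6 n37353
theorem D81732 : act 6 n37353 = n81732 := rfl
theorem F125649 : act 3 n81732 = n37356 := d7_1 D81732 (iv6 D37356) D37353
def n81733 : Q := act 6 n37354
theorem D81733 : act 6 n37354 = n81733 := rfl
theorem F125650 : act 3 n81733 = n56292 := d7_1 D81733 (iv6 D56292) (iv3 F58282)
theorem F125651 : act 4 n81733 = n37356 := d10_1 D81733 (iv6 D37356) D37354
theorem F125652 : act 0 n37356 = n75998 := d20_7 (iv4 F53262) F53268 (iv4 F41666) (iv3 F57542) F89049 (iv3 F125650) F125651 F113888 F54966 (iv1 F43212)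
def n81734 : Q := act 4 n37355
theorem D81734 : act 4 n37355 = n81734 := rfl
def n81735 : Q := act 6 n37355
theorem D81735 : act 6 n37355 = n81735 := rfl
def n81736 : Q := act 1 n37356
theorem D81736 : act 1 n37356 = n81736 := rfl
def n81737 : Q := act 5 n37356
theorem D81737 : act 5 n37356 = n81737 := rfl
def n81738 : Q := act 7 n37356
theorem D81738 : act 7 n37356 = n81738 := rfl
def n81739 : Q := act 3 n37357
theorem D81739 : act 3 n37357 = n81739 := rfl
def n81740 : Q := act 4 n37357
theorem D81740 : act 4 n37357 = n81740 := rfl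
theorem F125653 : act 5 n81740 = n81734 := d16_1 D81740 (iv4 D81734) (iv5 D37355) D37354 F88170 F92563 F92566 (iv7 F125448) F125449
def n81741 : Q := act 6 n37357
theorem D81741 : act 6 n37357 = n81741 := rfl
def n81742 : Q := act 3 n37358
theorem D81742 : act 3 n37358 = n81742 := rfl
def n81743 : Q := act 4 n37358
theorem D81743 : act 4 n37358 = n81743 := rfl
theorem F125654 : act 5 n81743 = n81723 := d9_2 F92566 D81743 (iv4 D81723) (iv5 D37350) F118922 D45941 (iv4 F118940) (iv5 F119009) D81740 F125653 (iv4 D81734) (iv5 D37355) D37354 F88170 F92563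
def n81744 : Q := act 6 n37358
theorem D81744 : act 6 n37358 = n81744 := rfl
def n81745 : Q := act 0 n37359
theorem D81745 : act 0 n37359 = n81745 := rfl
def n81746 : Q := act 1 n37359
theorem D81746 : act 1 n37359 = n81746 := rfl
def n81747 : Q := act 3 n37359
theorem D81747 : act 3 n37359 = n81747 := rfl
def n81748 : Q := act 5 n37359
theorem D81748 : act 5 n37359 = n81748 := rfl
theorem F125655 : act 4 n81748 = n81561 := d16_2 D37359 D81748 F125445 F58201 F29077 (iv4 F58201) (iv5 F125445) (iv7 D81561) F58199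
theorem F125656 : act 7 n81748 = n81560 := d16_8 (iv4 D37359) (iv5 D17937) F13260 F5788 (iv4 F13260) D17937 D37359 D81748 F125443
theorem F125657 : act 1 n81746 = n81748 := d15_1 D81746 F125656 F125443
def n81749 : Q := act 7 n37359
theorem D81749 : act 7 n37359 = n81749 := rfl
theorem F125658 : act 2 n81749 = n81748 := d4_1 D81749 F125656 F125443
theorem F125659 : act 4 n81749 = n37360 := d11_1 D81749 (iv7 D37360) D37359
theorem F125660 : act 5 n81749 = n81560 := d13_1 D81749 (iv7 F125656) (iv5 D81748)
theorem F125661 : act 1 n81748 = n81745 := d15_0 (iv0 D81745) D81749 F125658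
def n81750 : Q := act 6 n37360
theorem D81750 : act 6 n37360 = n81750 := rfl
def n81751 : Q := act 4 n37370
theorem D81751 : act 4 n37370 = n81751 := rfl
theorem F125663 : act 7 n81751 = n77474 := d11_2 F123051 D81751 (iv4 F123048)
theorem F125664 : act 5 n81751 = n80144 := d17_5 F121237 F54770 (iv1 F117824) D37370 D81751 (iv0 D80144) (iv5 D36498) D36497 (iv4 F121240)
theorem F125666 : act 1 n81751 = n77627 := d18_6 (iv1 D17620) (iv4 F28653) D36496 (iv4 F57326) D37370 D81751 F116524 F89353 F28655
theorem F125667 : act 6 n77757 = n81751 := d14_5 F125663 (iv6 D77474) (iv7 F116898) D35483 D77757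
def n81752 : Q := act 6 n37370
theorem D81752 : act 6 n37370 = n81752 := rfl
theorem F125668 : act 3 n81752 = n37382 := d7_1 D81752 (iv6 D37382) (iv3 F58293)
theorem F125669 : act 4 n81752 = n77757 := d10_1 D81752 F125667 (iv4 D81751)
theorem F125670 : act 7 n81752 = n77751 := d14_2 F123051 D81752 (iv6 D77751) F116882 (iv6 F123050)
theorem F125671 : act 0 n81752 = n80618 := d21_10 F123959 (iv1 D79583) F56963 (iv6 D18183) (iv1 F27496) D34530 F54770 (iv1 F117824) D37370 D81752
def n81753 : Q := act 0 n37371
theorem D81753 : act 0 n37371 = n81753 := rfl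
def n81754 : Q := act 1 n37371
theorem D81754 : act 1 n37371 = n81754 := rfl
theorem F125672 : act 4 n81754 = n80371 := d17_9 (iv1 D80371) D80372 F123479 (iv5 D38385) F29514 D18316 D38398 (iv5 F118729) D81754
theorem F125673 : act 6 n79110 = n81754 := d21_3 F28845 D36005 D79110 (iv1 D81754) (iv6 D37371) D37370 (iv1 F118594) (iv5 D38785) (iv6 D18440) F116651
theorem F125674 : act 7 n81754 = n79151 := d14_2 (iv7 F120384) F125673 (iv6 D79151) (iv7 F117076) F117075
theorem E13461 : n81753 = n75784 := ((c15_4 (iv0 D81753) D81754 F125674 F120436)).symm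
theorem F125675 : act 1 n75784 = n37371 := (sb E13461 (iv0 D81753))
def n81755 : Q := act 7 n37371
theorem D81755 : act 7 n37371 = n81755 := rfl
theorem F125676 : act 3 n81755 = n37387 := d8_1 D81755 (iv7 D37387) (iv3 F58294)
theorem F125677 : act 5 n81755 = n58178 := d13_1 D81755 F118731 (iv5 F118729)
def n81756 : Q := act 3 n37373
theorem D81756 : act 3 n37373 = n81756 := rfl
def n81757 : Q := act 5 n37373
theorem D81757 : act 5 n37373 = n81757 := rfl
def n81758 : Q := act 0 n37375
theorem D81758 : act 0 n37375 = n81758 := rfl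
def n81759 : Q := act 1 n37375
theorem D81759 : act 1 n37375 = n81759 := rfl
def n81760 : Q := act 2 n37375
theorem D81760 : act 2 n37375 = n81760 := rfl
def n81761 : Q := act 5 n37375
theorem D81761 : act 5 n37375 = n81761 := rfl
theorem F125678 : act 3 n81761 = n37376 := d6_1 D81761 (iv5 D37376) D37375
def n81762 : Q := act 6 n37375
theorem D81762 : act 6 n37375 = n81762 := rfl
theorem F125679 : act 3 n81762 = n37377 := d7_1 D81762 (iv6 D37377) D37375
def n81763 : Q := act 0 n37376
theorem D81763 : act 0 n37376 = n81763 := rfl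
theorem F125680 : act 5 n81763 = n81540 := d17_3 F121334 D37376 D81763 F125413 (iv5 F121424) (iv0 F121425) (iv5 D56334) F121329 (iv4 F58218)
theorem F125681 : act 1 n37396 = n81763 := d15_0 (iv0 D81763) (iv7 F125468) F125467
def n81764 : Q := act 1 n37376
theorem D81764 : act 1 n37376 = n81764 := rfl
theorem F125682 : act 1 n81764 = n37396 := d15_1 D81764 (iv7 F125459) F125458
def n81765 : Q := act 4 n37376
theorem D81765 : act 4 n37376 = n81765 := rfl
def n81766 : Q := act 6 n37376
theorem D81766 : act 6 n37376 = n81766 := rfl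
def n81768 : Q := act 5 n37377
theorem D81768 : act 5 n37377 = n81768 := rfl
theorem F125683 : act 0 n81768 = n81433 := d21_7 D17898 (iv1 F58159) F58160 D37267 F121334 D37377 D81768 (iv5 D81433) (iv6 D37189) (iv1 F29060)
def n81769 : Q := act 7 n37377
theorem D81769 : act 7 n37377 = n81769 := rfl
theorem F125684 : act 4 n81769 = n37387 := d11_1 D81769 (iv7 D37387) (iv4 F58297)
def n81770 : Q := act 4 n37379
theorem D81770 : act 4 n37379 = n81770 := rfl
theorem F125685 : act 2 n81770 = n39571 := d1_1 D81770 F60445 (iv2 F116762)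
theorem F125686 : act 6 n81770 = n39541 := d10_2 (iv6 F116765) D81770 (iv4 D39541)
theorem F125688 : act 0 n81770 = n58589 := d17_0 F92566 (iv1 D37358) (iv5 D17937) F13260 F5788 D8464 D17947 F58306 D81770
theorem F125689 : act 1 n81770 = n58588 := d15_1 (iv0 F125688) (iv7 F125451) F92565
def n81771 : Q := act 0 n37381
theorem D81771 : act 0 n37381 = n81771 := rfl
theorem F125690 : act 4 n81771 = n78228 := d18_3 F116826 D37381 D81771 F121424 (iv4 F125413) (iv0 F125414) F59986 F116809 F29981
theorem F125691 : act 1 n37398 = n81771 := d15_0 (iv0 D81771) F117049 F117044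
theorem F125692 : act 7 n81540 = n81771 := d11_0 F125690 F121413 (iv4 F125413)
def n81772 : Q := act 1 n37381
theorem D81772 : act 1 n37381 = n81772 := rfl
theorem F125693 : act 1 n81772 = n37398 := d15_1 D81772 (iv7 F125463) F125462
theorem F125694 : act 4 n44589 = n81772 := d20_6 (iv4 F123492) (iv1 F123493) (iv4 D36639) (iv3 F57491) D80387 F123540 (iv1 D81772) (iv4 D37381) (iv3 F58293) (iv1 F118594)
theorem F125695 : act 2 n81772 = n81540 := d1_1 F125694 F125413 F90445
theorem F125696 : act 6 n81772 = n44587 := d10_2 D44589 F125694 (iv4 D44587)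
def n81773 : Q := act 3 n37381
theorem D81773 : act 3 n37381 = n81773 := rfl
def n81774 : Q := act 5 n37381
theorem D81774 : act 5 n37381 = n81774 := rfl
theorem F125697 : act 1 n81774 = n81574 := d17_6 (iv1 D8464) F5788 D8463 D17942 D37381 D81774 (iv5 D81574) F121335 (iv4 D17946)
theorem F125698 : act 4 n81774 = n81745 := d18_5 (iv1 D58589) F45002 F116826 D37381 D81774 (iv0 D81745) (iv4 D37359) D37358 (iv5 F92566)
def n81775 : Q := act 6 n37381
theorem D81775 : act 6 n37381 = n81775 := rfl
theorem F125699 : act 4 n81775 = n37382 := d10_1 D81775 (iv6 D37382) D37381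
theorem F125700 : act 0 n81775 = n81453 := d21_10 F125542 (iv1 D81633) (iv5 D37304) (iv6 D17921) (iv1 F29085) D37267 D81574 (iv1 F125697) (iv5 D81774) D81775
def n81776 : Q := act 4 n37386
theorem D81776 : act 4 n37386 = n81776 := rfl
theorem F125701 : act 2 n81776 = n58184 := d1_1 D81776 (iv4 D58184) (iv2 F116847)
theorem F125702 : act 7 n81776 = n58179 := d11_2 (iv7 F116848) D81776 (iv4 D58179)
def n81777 : Q := act 3 n37392
theorem D81777 : act 3 n37392 = n81777 := rfl
theorem F125703 : act 4 n81777 = n37395 := d5_2 D37392 D81777 (iv3 D37395) (iv4 D17946) D17945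
def n81778 : Q := act 5 n37392
theorem D81778 : act 5 n37392 = n81778 := rfl
def n81779 : Q := act 6 n37392
theorem D81779 : act 6 n37392 = n81779 := rfl
theorem F125704 : act 4 n81779 = n37394 := d10_1 D81779 (iv6 D37394) D37392
theorem F125705 : act 0 n77304 = n81779 := d20_1 (iv4 F116105) F125704 F58311 F116830 F54966 (iv4 F46004) (iv1 F57693) F57690 (iv3 F57666) F119034
def n81780 : Q := act 0 n37393
theorem D81780 : act 0 n37393 = n81780 := rfl
theorem F125707 : act 1 n40579 = n81780 := d15_0 (iv0 D81780) F121482 F121483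
theorem F125708 : act 6 n44571 = n81780 := d21_9 (iv5 D40579) (iv1 F44214) F44210 F44211 (iv1 F120688) D45277 F116800 F121001 (iv5 F116687) (iv1 F125707)
theorem F125709 : act 3 n81780 = n57843 := d7_1 F125708 (iv6 D57843) (iv3 F116685)
theorem F125710 : act 4 n81780 = n80580 := d10_1 F125708 F123891 (iv4 F116686)
theorem F125711 : act 0 n79302 = n56344 := d20_7 (iv4 F125690) (iv1 F125691) (iv4 D37398) (iv3 F58310) D81780 F125709 (iv4 F121700) (iv4 D56344) (iv3 F89098) F121425
def n81781 : Q := act 4 n37393
theorem D81781 : act 4 n37393 = n81781 := rfl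
theorem F125713 : act 6 n81781 = n40069 := d10_2 (iv6 F121176) D81781 F121174
theorem F125714 : act 0 n81781 = n40200 := d20_1 D81781 F61182 (iv3 F61181) F123455 F123425 F121444 (iv1 F91594) F91126 (iv3 F90964) (iv1 F121175)
def n81782 : Q := act 0 n37394
theorem D81782 : act 0 n37394 = n81782 := rfl
def n81783 : Q := act 1 n37394
theorem D81783 : act 1 n37394 = n81783 := rfl
def n81784 : Q := act 5 n37394
theorem D81784 : act 5 n37394 = n81784 := rfl
theorem F125715 : act 3 n81784 = n37401 := d6_1 D81784 (iv5 D37401) (iv3 F58311)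
theorem F125716 : act 6 n81784 = n57333 := d12_2 D37394 D81784 (iv5 D57333) (iv6 F121176) (iv5 D37393)
def n81785 : Q := act 0 n37395
theorem D81785 : act 0 n37395 = n81785 := rfl
def n81786 : Q := act 1 n37395
theorem D81786 : act 1 n37395 = n81786 := rfl
def n81787 : Q := act 2 n37395
theorem D81787 : act 2 n37395 = n81787 := rfl
def n81788 : Q := act 5 n37395
theorem D81788 : act 5 n37395 = n81788 := rfl
theorem F125717 : act 3 n81788 = n37396 := d6_1 D81788 (iv5 D37396) D37395
def n81789 : Q := act 6 n37395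
theorem D81789 : act 6 n37395 = n81789 := rfl
def n81790 : Q := act 4 n37396
theorem D81790 : act 4 n37396 = n81790 := rfl
theorem F125719 : act 5 n81790 = n81745 := d16_1 D81790 (iv4 F125698) (iv5 D81774) (iv4 D37381) (iv5 D17942) D17941 D37376 (iv7 F125468) F125467
theorem F125720 : act 0 n81774 = n81757 := d17_0 (iv5 D81757) (iv1 F58300) D37396 D81790 F125719 (iv0 D81745) D81748 F125661 (iv4 F125698)
theorem F125721 : act 1 n56334 = n44589 := d17_8 (iv1 D81772) D81774 F125720 (iv5 D81757) (iv4 F121326) F69993 (iv0 F121328) D56334 F125694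
def n81791 : Q := act 6 n37396
theorem D81791 : act 6 n37396 = n81791 := rfl
def n81792 : Q := act 0 n37397
theorem D81792 : act 0 n37397 = n81792 := rfl
def n81793 : Q := act 1 n37397
theorem D81793 : act 1 n37397 = n81793 := rfl
def n81794 : Q := act 5 n37397
theorem D81794 : act 5 n37397 = n81794 := rfl
theorem F125722 : act 1 n81794 = n81452 := d17_6 D17889 D37204 F58313 (iv5 D37401) (iv4 F58312) D81794 (iv5 D81452) (iv0 D37197) F29064
def n81795 : Q := act 3 n37398
theorem D81795 : act 3 n37398 = n81795 := rfl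
def n81796 : Q := act 5 n37398
theorem D81796 : act 5 n37398 = n81796 := rfl
theorem F125723 : act 1 n81796 = n81757 := d17_6 (iv1 F29080) F29077 (iv1 F29079) D17947 D37398 D81796 (iv5 D81757) (iv0 D37373) (iv4 D17941)
theorem F125724 : act 4 n81796 = n81746 := d18_5 (iv1 F125689) (iv4 D81770) (iv1 F58306) D37398 D81796 F125657 F125655 F125452 F119009
theorem F125725 : act 0 n81796 = n81574 := d21_7 D17912 D37272 F58229 D44486 F121264 F59935 D81796 (iv5 D81574) (iv6 D37267) (iv1 D17910)
theorem F125726 : act 5 n81765 = n81746 := d9_14 (iv5 D81796) (iv4 D37398) (iv5 D17947) D17946 D37396 D81790 F125719 (iv4 F125698) (iv5 D81774) (iv4 D37381) (iv5 D17942) D17941 D37376 D81765 (iv4 F125724)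
def n81797 : Q := act 4 n37401
theorem D81797 : act 4 n37401 = n81797 := rfl
def n81798 : Q := act 3 n37416
theorem D81798 : act 3 n37416 = n81798 := rfl
theorem F125727 : act 7 n81798 = n56944 := d8_2 (iv7 F121348) D81798 F90023
def n81799 : Q := act 5 n37416
theorem D81799 : act 5 n37416 = n81799 := rfl
theorem F125728 : act 7 n81799 = n56947 := d13_2 (iv7 F121348) D81799 (iv5 D56947)
def n81800 : Q := act 0 n37418
theorem D81800 : act 0 n37418 = n81800 := rfl
theorem F125729 : act 5 n81800 = n57304 := d21_2 D37418 D81800 (iv6 D57304) (iv1 D27436) (iv6 D13134) D13133 (iv1 F43036) (iv5 D26777) D26778 (iv1 F121343)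
theorem F125730 : act 2 n57760 = n81800 := d2_3 F125729 F90459 D57760
def n81801 : Q := act 1 n37418
theorem D81801 : act 1 n37418 = n81801 := rfl
theorem F125731 : act 7 n81801 = n57760 := d15_2 (iv0 D81800) D81801 F125730
theorem F125732 : act 5 n81801 = n57761 := d17_7 F44522 (iv5 D27623) F121110 (iv5 D17959) D17958 D37418 D81801 F123546 (iv4 D57030)
def n81802 : Q := act 4 n37418
theorem D81802 : act 4 n37418 = n81802 := rfl
def n81803 : Q := act 6 n37418
theorem D81803 : act 6 n37418 = n81803 := rfl
def n81804 : Q := act 0 n37419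
theorem D81804 : act 0 n37419 = n81804 := rfl
def n81805 : Q := act 1 n37419
theorem D81805 : act 1 n37419 = n81805 := rfl
def n81806 : Q := act 5 n37419
theorem D81806 : act 5 n37419 = n81806 := rfl
theorem F125733 : act 2 n81806 = n57636 := d2_1 D81806 (iv5 F121463) (iv2 F121521)
theorem F125734 : act 1 n81806 = n57638 := d17_6 (iv1 F44327) (iv5 F44415) F121132 F29895 (iv4 F58321) D81806 F90774 (iv0 F120793) (iv4 D57245)
theorem F125735 : act 0 n81806 = n57273 := d21_7 D13133 (iv1 F43036) (iv5 D26777) D26778 (iv1 F121343) D37419 D81806 (iv5 D57273) (iv6 D27428) (iv1 D13131)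
def n81807 : Q := act 7 n37419
theorem D81807 : act 7 n37419 = n81807 := rfl
theorem F125736 : act 4 n81807 = n37426 := d11_1 D81807 (iv7 D37426) (iv4 F58321)
theorem F125737 : act 5 n57635 = n81807 := d17_3 F120819 D27535 D57635 F125736 F121130 (iv0 D27511) (iv5 D13157) D13156 D27508
theorem F125738 : act 0 n76840 = n81807 := d20_7 (iv4 F57635) (iv1 D36746) F28774 (iv3 F28770) D36735 (iv3 F123214) F123215 F125736 F58324 F43139
theorem F125739 : act 7 n81806 = n57635 := d13_0 F125737 (iv7 D81807) D81806
def n81808 : Q := act 0 n37422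
theorem D81808 : act 0 n37422 = n81808 := rfl
theorem F125740 : act 2 n57761 = n81808 := d15_3 (iv0 D81808) F121420 D57761
theorem F125741 : act 1 n57405 = n81808 := d15_0 (iv0 D81808) F60027 F121087
theorem F125742 : act 7 n81808 = n57304 := d15_2 (iv0 F121421) F125741 F90459
theorem F125743 : act 6 n57747 = n81808 := d14_5 F125742 (iv6 D57304) F90420 D27569 D57747
def n81809 : Q := act 3 n37422
theorem D81809 : act 3 n37422 = n81809 := rfl
theorem F125744 : act 4 n81809 = n37427 := d5_2 D37422 D81809 (iv3 D37427) (iv4 D17968) (iv3 F29119)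
theorem F125745 : act 7 n81809 = n73678 := d8_2 (iv7 F60027) D81809 F110373
theorem F125746 : act 6 n73878 = n81809 := d10_0 F125744 F58327 D73878
def n81810 : Q := act 5 n37422
theorem D81810 : act 5 n37422 = n81810 := rfl
theorem F125747 : act 0 n81810 = n81799 := d17_2 (iv1 F121420) D81810 (iv5 D81799) F121346 F44227 (iv0 F121433) D80147 F123520 F90938
theorem F125748 : act 1 n81810 = n55440 := d17_6 (iv1 D26771) F21266 F121145 D17959 D37422 D81810 (iv5 D55440) (iv0 F121344) (iv4 D55421)
def n81811 : Q := act 6 n37422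
theorem D81811 : act 6 n37422 = n81811 := rfl
theorem F125749 : act 3 n81811 = n73878 := d7_1 D81811 F125746 (iv3 D81809)
theorem F125750 : act 4 n81811 = n37423 := d10_1 D81811 (iv6 D37423) D37422
theorem F125751 : act 7 n81811 = n57421 := d14_2 (iv7 F60027) D81811 (iv6 D57421) F121076 D39016
def n81812 : Q := act 1 n37423
theorem D81812 : act 1 n37423 = n81812 := rfl
theorem F125752 : act 1 n81812 = n57231 := d15_1 D81812 F90280 (iv2 F121106)
theorem F125753 : act 7 n81812 = n56897 := d15_2 (iv0 F121105) D81812 F124398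
theorem F125754 : act 5 n76824 = n81812 := d21_0 (iv1 D81812) (iv5 F60210) (iv6 D39254) (iv1 F121169) F44324 (iv5 D13197) (iv1 F12742) D17050 (iv6 F55808) D76824
theorem F125755 : act 6 n57529 = n81812 := d21_3 D27396 (iv1 F120638) F120639 (iv1 D81812) (iv6 D37423) (iv5 D17959) (iv1 F121146) F21866 (iv6 F43008) (iv1 F43010)
def n81813 : Q := act 4 n37424
theorem D81813 : act 4 n37424 = n81813 := rfl
theorem F125757 : act 2 n81813 = n76874 := d1_1 D81813 F115482 (iv2 F121206)
theorem F125758 : act 6 n81813 = n76821 := d10_2 (iv6 F121208) D81813 (iv4 D76821)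
def n81814 : Q := act 3 n37425
theorem D81814 : act 3 n37425 = n81814 := rfl
theorem F125759 : act 6 n81814 = n77424 := d7_2 (iv6 F121213) D81814 (iv3 F117609)
theorem F125760 : act 7 n81814 = n76871 := d8_2 (iv7 F121214) D81814 F115481
def n81815 : Q := act 4 n37425
theorem D81815 : act 4 n37425 = n81815 := rfl
theorem F125761 : act 7 n81815 = n76874 := d11_2 (iv7 F121214) D81815 F115482
def n81816 : Q := act 0 n37427
theorem D81816 : act 0 n37427 = n81816 := rfl
theorem F125762 : act 1 n73674 = n81816 := d15_0 (iv0 D81816) F58328 (iv2 F110370)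
def n81817 : Q := act 1 n37427
theorem D81817 : act 1 n37427 = n81817 := rfl
def n81818 : Q := act 2 n37427
theorem D81818 : act 2 n37427 = n81818 := rfl
theorem F125763 : act 5 n81818 = n72189 := d2_2 (iv5 F58326) D81818 (iv2 D72189)
theorem F125764 : act 6 n81818 = n73877 := d3_2 (iv6 F58327) D81818 (iv2 D73877)
theorem F125765 : act 7 n81818 = n73674 := d4_2 (iv7 F58328) D81818 F110370
theorem F125766 : act 1 n81818 = n73683 := d15_0 (iv0 D73683) (iv7 F58328) D81818
theorem F125767 : act 1 n81817 = n73674 := d15_1 D81817 (iv7 F125765) (iv2 D81818)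
theorem F125768 : act 1 n73684 = n81818 := d15_1 D73684 F125765 F110370
def n81819 : Q := act 0 n37442
theorem D81819 : act 0 n37442 = n81819 := rfl
theorem F125769 : act 1 n37933 = n81819 := d15_0 (iv0 D81819) (iv7 F89795) F117803
def n81820 : Q := act 4 n37442
theorem D81820 : act 4 n37442 = n81820 := rfl
def n81821 : Q := act 6 n37442
theorem D81821 : act 6 n37442 = n81821 := rfl
def n81822 : Q := act 0 n37443
theorem D81822 : act 0 n37443 = n81822 := rfl
def n81823 : Q := act 5 n37443
theorem D81823 : act 5 n37443 = n81823 := rfl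
def n81824 : Q := act 3 n37446
theorem D81824 : act 3 n37446 = n81824 := rfl
theorem F125770 : act 4 n81824 = n37450 := d5_2 D37446 D81824 (iv3 D37450) (iv4 D17980) (iv3 F29144)
theorem F125771 : act 6 n81824 = n54942 := d7_2 (iv6 F58344) D81824 F86900
def n81825 : Q := act 4 n37449
theorem D81825 : act 4 n37449 = n81825 := rfl
theorem F125772 : act 6 n81825 = n58058 := d10_2 (iv6 F58346) D81825 (iv4 D58058)
def n81826 : Q := act 0 n37450
theorem D81826 : act 0 n37450 = n81826 := rfl
def n81827 : Q := act 1 n37450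
theorem D81827 : act 1 n37450 = n81827 := rfl
def n81828 : Q := act 3 n37451
theorem D81828 : act 3 n37451 = n81828 := rfl
theorem F125773 : act 6 n81828 = n58060 := d7_2 (iv6 F58349) D81828 (iv3 D58060)
def n81829 : Q := act 5 n37451
theorem D81829 : act 5 n37451 = n81829 := rfl
theorem F125774 : act 4 n81829 = n73857 := d16_2 D37451 D81829 (iv5 D73857) (iv4 D33917) D33918 F53262 F45034 F45033 F29884
theorem F125775 : act 0 n81829 = n39854 := d17_2 (iv1 F58351) D81829 (iv5 D39854) F41677 (iv5 F28838) (iv0 D17732) D17734 (iv0 F28957) D33911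
theorem F125776 : act 1 n81829 = n39857 := d17_6 F22101 (iv5 F21290) F29271 D17983 D37451 D81829 (iv5 D39857) F45021 (iv4 D27885)
def n81830 : Q := act 5 n37452
theorem D81830 : act 5 n37452 = n81830 := rfl
theorem F125777 : act 3 n81830 = n38647 := d6_1 D81830 (iv5 D38647) (iv3 F91153)
theorem F125778 : act 6 n81830 = n77792 := d21_3 F54634 D37452 D81830 (iv1 D77792) (iv6 D35499) D35498 D77787 F119079 (iv6 D77315) F114048
def n81831 : Q := act 6 n37452
theorem D81831 : act 6 n37452 = n81831 := rfl
theorem F125780 : act 3 n81831 = n38648 := d7_1 D81831 (iv6 D38648) (iv3 F91153)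
theorem F125781 : act 5 n81831 = n40194 := d12_1 D81831 (iv6 F123451) (iv5 F123452) (iv6 F125778) (iv5 D81830)
theorem F125782 : act 7 n81831 = n81830 := d14_2 (iv7 F91154) D81831 F125778 F123454 F123451
def n81832 : Q := act 1 n37455
theorem D81832 : act 1 n37455 = n81832 := rfl
theorem F125783 : act 1 n81832 = n79411 := d15_1 D81832 F121996 F74195
theorem F125784 : act 5 n81832 = n44707 := d18_9 F72301 F72299 (iv1 D40691) F30851 D19226 D40749 (iv0 F61863) F60898 D81832
theorem F125785 : act 3 n72941 = n81832 := d20_3 D46276 (iv1 F115001) F114999 (iv1 D81832) (iv3 D37455) (iv4 F30209) (iv1 F30211) (iv4 F21993) D27657 (iv1 F44593)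
def n81833 : Q := act 6 n37455
theorem D81833 : act 6 n37455 = n81833 := rfl
theorem F125786 : act 3 n81833 = n37456 := d7_1 D81833 (iv6 D37456) D37455
def n81834 : Q := act 5 n37456
theorem D81834 : act 5 n37456 = n81834 := rfl
def n81835 : Q := act 5 n37457
theorem D81835 : act 5 n37457 = n81835 := rfl
def n81836 : Q := act 7 n37457
theorem D81836 : act 7 n37457 = n81836 := rfl
theorem F125788 : act 1 n39096 = n81836 := d15_1 (iv0 F118547) (iv7 D81836) (iv2 F60985)
theorem F125789 : act 1 n81836 = n39093 := d15_1 F125788 F117492 (iv2 F117483)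
def n81837 : Q := act 3 n37458
theorem D81837 : act 3 n37458 = n81837 := rfl
def n81838 : Q := act 5 n37458
theorem D81838 : act 5 n37458 = n81838 := rfl
def n81839 : Q := act 6 n37458
theorem D81839 : act 6 n37458 = n81839 := rfl
theorem F125790 : act 4 n81839 = n40196 := d10_1 D81839 (iv6 F61180) (iv4 F117236)
theorem F125791 : act 0 n58513 = n81839 := d18_2 D27843 D58513 F125790 (iv5 D40196) D40195 (iv0 F61130) (iv4 D27829) (iv0 D13277) D13281
theorem F125792 : act 1 n39168 = n81839 := d15_0 (iv0 F125791) (iv7 F117539) (iv2 F117540)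
def n81840 : Q := act 3 n37459
theorem D81840 : act 3 n37459 = n81840 := rfl
theorem F125793 : act 4 n81840 = n38216 := d5_2 (iv4 F117234) D81840 (iv3 D38216) D38217 (iv3 F61121)
theorem F125794 : act 7 n81840 = n38640 := d8_2 F117197 D81840 (iv3 F117195)
def n81841 : Q := act 5 n37459
theorem D81841 : act 5 n37459 = n81841 := rfl
def n81842 : Q := act 6 n37459
theorem D81842 : act 6 n37459 = n81842 := rfl
theorem F125795 : act 4 n81842 = n80353 := d10_1 D81842 F123451 (iv4 F117234)
theorem F125796 : act 1 n39739 = n81842 := d18_6 (iv1 D21936) (iv4 F34437) (iv1 F118896) (iv4 D27265) F117163 D39739 F125795 F123448 (iv5 D45868)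
theorem F125797 : act 0 n39744 = n81842 := d20_1 D39744 F125795 F123450 (iv1 D45951) (iv3 F72520) (iv4 F118940) (iv1 F125689) (iv4 D81770) F116763 (iv1 F60577)
def n81843 : Q := act 0 n37460
theorem D81843 : act 0 n37460 = n81843 := rfl
theorem F125798 : act 1 n39685 = n81843 := d15_0 (iv0 D81843) F117249 F92385
def n81844 : Q := act 1 n37460
theorem D81844 : act 1 n37460 = n81844 := rfl
theorem F125799 : act 1 n81844 = n39685 := d15_1 D81844 (iv7 F117200) F89608
def n81845 : Q := act 4 n37460
theorem D81845 : act 4 n37460 = n81845 := rfl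
def n81846 : Q := act 0 n37472
theorem D81846 : act 0 n37472 = n81846 := rfl
theorem F125800 : act 4 n81846 = n46050 := d18_3 (iv1 D37481) (iv4 F58357) D81846 F72632 F34933 F32579 (iv4 F35230) F35232 (iv5 F58369)
theorem F125801 : act 5 n81846 = n68840 := d19_1 D81846 (iv4 D68840) (iv3 F55639) (iv1 F55637) (iv5 D17011) D17010 (iv3 F32396) (iv1 F32397) (iv5 D9702) (iv4 D4379) (iv3 F6312) F12195 (iv5 D3831) (iv4 D1670) D1669 (iv1 F6873) D8486 D17992 D37472
theorem F125802 : act 1 n41127 = n81846 := d15_0 (iv0 D81846) (iv7 F89585) (iv2 F89586)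
theorem F125803 : act 2 n46051 = n81846 := d2_3 F125801 F105028 (iv5 F72633)
def n81847 : Q := act 1 n37472
theorem D81847 : act 1 n37472 = n81847 := rfl
theorem F125804 : act 1 n81847 = n41127 := d15_1 D81847 (iv7 F74423) F74422
theorem F125805 : act 7 n81847 = n46051 := d15_2 (iv0 D81846) D81847 F125803
theorem F125806 : act 4 n41528 = n81847 := d20_6 F30254 (iv1 F30253) F22000 (iv3 F22002) D19553 D41528 (iv1 D81847) F58357 (iv3 D17995) (iv1 F29153)
theorem F125807 : act 5 n81847 = n54138 := d9_2 (iv5 F64066) F125806 (iv4 D54138) (iv5 D26198) (iv4 F41581) (iv5 F41583) (iv4 F34933) (iv5 F72632) (iv4 F125800) F125801 (iv4 D68840) (iv5 D32019) (iv4 F31814) (iv5 D19984) (iv4 F31806)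
def n81848 : Q := act 5 n37472
theorem D81848 : act 5 n37472 = n81848 := rfl
theorem F125808 : act 2 n81848 = n55626 := d2_1 D81848 (iv5 F87992) F74422
theorem F125809 : act 3 n81848 = n37473 := d6_1 D81848 (iv5 D37473) D37472
theorem F125810 : act 7 n81848 = n55625 := d13_2 F89585 D81848 F89588
theorem F125811 : act 1 n81848 = n55628 := d17_6 (iv1 F58451) (iv5 F64271) F64273 (iv5 D37482) (iv4 F58357) D81848 F87996 (iv0 F74374) (iv4 D47128)
theorem F125812 : act 1 n55617 = n81848 := d15_0 F125811 (iv7 D55628) (iv2 F87978)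
def n81849 : Q := act 6 n37472
theorem D81849 : act 6 n37472 = n81849 := rfl
theorem F125813 : act 3 n81849 = n37474 := d7_1 D81849 (iv6 D37474) D37472
theorem F125814 : act 4 n81849 = n37483 := d10_1 D81849 (iv6 D37483) (iv4 F58357)
def n81850 : Q := act 6 n37473
theorem D81850 : act 6 n37473 = n81850 := rfl
def n81851 : Q := act 5 n37474
theorem D81851 : act 5 n37474 = n81851 := rfl
def n81852 : Q := act 2 n37475
theorem D81852 : act 2 n37475 = n81852 := rfl
theorem F125816 : act 7 n37476 = n81852 := d15_2 (iv0 D37475) D37476 (iv2 D81852)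
theorem F125817 : act 3 n81852 = n37793 := d8_1 F125816 (iv7 F58645) (iv3 F124357)
def n81853 : Q := act 3 n37475
theorem D81853 : act 3 n37475 = n81853 := rfl
theorem F125818 : act 2 n81853 = n37794 := d0_1 D81853 (iv3 D37794) D37793 (iv3 F125817) (iv2 D81852)
theorem F125819 : act 0 n81853 = n38829 := d20_4 (iv4 F28202) D35610 (iv4 F124380) D81853 F121851 D39785 (iv1 F121783) (iv4 D44498) (iv3 F121782) (iv1 D17251)
theorem F125820 : act 7 n81853 = n38830 := d15_2 D38829 (iv0 F125819) (iv2 D38830)
theorem E13462 : n38804 = n37794 := (c4_3 F125820 (iv2 D38830) (iv7 F59830) (iv2 F125818))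
theorem E13463 : n18449 = n18124 := ((((iv3 D37794)).symm.trans (sb E13462 (iv3 D38804)))).symm
theorem F125821 : act 7 n37794 = n18455 := (sb E13462 F59830)
theorem E13464 : n38802 = n8675 := ((((iv1 F29294)).symm.trans (sb E13463 D38802))).symm
theorem E13466 : n37793 = n8676 := ((D37793).symm.trans (sb E13463 (iv2 D18449)))
theorem E13467 : n38805 = n37795 := (((D37795).symm.trans (sb E13463 D38805))).symm
theorem E13468 : n38806 = n37796 := (((D37796).symm.trans (sb E13463 D38806))).symm
theorem E13469 : n38807 = n37797 := (((D37797).symm.trans (sb E13463 D38807))).symm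
theorem E13470 : n37798 = n8677 := ((D37798).symm.trans (sb E13463 (iv7 F29639)))
theorem E13471 : n18454 = n18125 := ((((iv1 F29289)).symm.trans (sb E13464 (iv1 F59828)))).symm
theorem F125822 : act 2 n8676 = n18124 := (sb E13466 (iv2 D37793))
theorem E13472 : n81852 = n18450 := (((D18450).symm.trans (sb E13466 (iv3 F125817)))).symm
theorem F125823 : act 2 n37795 = n18451 := (sb E13467 F59831)
theorem F125824 : act 7 n37795 = n18456 := (sb E13467 F59832)
theorem F125825 : act 2 n37796 = n18452 := (sb E13468 F59833)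
theorem F125826 : act 7 n37796 = n18457 := (sb E13468 F59834)
theorem F125827 : act 2 n37797 = n18453 := (sb E13469 F59835)
theorem F125828 : act 7 n8677 = n18124 := (sb E13470 (iv7 D37798))
theorem F125829 : act 2 n18125 = n8677 := (sb E13471 F29640)
theorem E13473 : n38814 = n37476 := ((((iv3 F124357)).symm.trans (sb E13471 (iv3 F59839)))).symm
theorem E13474 : n38820 = n37800 := (((D37800).symm.trans (sb E13471 (iv4 F59843)))).symm
theorem E13475 : n38824 = n37801 := (((D37801).symm.trans (sb E13471 (iv5 F59849)))).symm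
theorem E13476 : n38827 = n37802 := (((D37802).symm.trans (sb E13471 D38827))).symm
theorem F125830 : act 7 n18125 = n8676 := (sb E13471 (iv7 D18454))
theorem E13477 : n38810 = n37475 := ((D38810).symm.trans (sb E13472 (iv2 D81852)))
theorem F125831 : act 2 n37476 = n80091 := (sb E13473 F124429)
theorem F125832 : act 7 n37476 = n18450 := (sb E13473 (iv7 D38814))
theorem F125833 : act 2 n37800 = n18456 := (sb E13474 F59842)
theorem F125834 : act 7 n37800 = n18451 := (sb E13474 (iv7 D38820))
theorem F125835 : act 2 n37801 = n18457 := (sb E13475 F59848)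
theorem F125836 : act 7 n37801 = n18452 := (sb E13475 (iv7 D38824))
theorem F125837 : act 2 n37802 = n18458 := (sb E13476 F59852)
theorem F125838 : act 2 n37475 = n18450 := (sb E13477 (iv2 D38810))
theorem F125842 : act 1 n58657 = n38830 := d15_1 (iv0 F121895) (iv7 F125820) F125818
theorem F125843 : act 4 n78048 = n80091 := d20_2 (iv4 F56297) (iv1 F119239) F124430 (iv1 F125842) (iv3 D58657) D58658 F121842 (iv4 D44970) (iv3 F121831) (iv1 F56282)
theorem E13479 : n78080 = n78048 := (c1_4 F125843 (iv2 F125831) F124358 (iv2 F119272))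
theorem F125844 : act 2 n78048 = n35611 := (sb E13479 F119272)
theorem E13480 : n38840 = n38457 := ((c15_2 F59536 D38457 (iv7 D38840) (iv2 F125837))).symm
theorem F125847 : act 7 n38457 = n18458 := (sb E13480 (iv7 D38840))
theorem F125848 : act 7 n38839 = n37717 := d13_2 F125847 D38839 F117950
theorem F125849 : act 2 n37717 = n56854 := d15_3 (iv0 D56854) (iv0 F117958) F125848
theorem E13481 : n81389 = n38109 := ((c3_3 (iv6 F117951) F125849 F117960 F125194)).symm
theorem F125851 : act 2 n38109 = n37164 := (sb E13481 F125194)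
theorem F125852 : act 7 n38109 = n37163 := (sb E13481 (iv7 D81389))
theorem E13482 : n81384 = n38108 := (c15_4 (iv0 D38108) D38109 F125852 D81384)
theorem F125855 : act 7 n38108 = n37164 := (sb E13482 (iv7 F125189))
theorem F125856 : act 2 n81392 = n75794 := d2_3 F113662 F125851 D81392
theorem E13483 : n75791 = n75262 := (c3_4 (iv6 F125195) F125856 (iv6 D75794) D75791)
theorem F125857 : act 2 n75262 = n34661 := (sb E13483 (iv2 D75791))
theorem F125858 : act 7 n75262 = n34662 := (sb E13483 (iv7 F113661))
theorem E13484 : n75795 = n38825 := (c15_4 (iv0 F59851) F112835 F125858 (iv2 F113666))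
theorem F125859 : act 2 n38825 = n34662 := (sb E13484 F113666)
theorem F125860 : act 7 n38825 = n34661 := (sb E13484 (iv7 D75795))
theorem E13485 : n38826 = n38353 := ((c13_2 F125860 F59653 (iv7 D38826) D38825)).symm
theorem F125861 : act 7 n38353 = n18453 := (sb E13485 (iv7 D38826))
theorem F125862 : act 2 n38838 = n43103 := d3_3 F67479 F125835 D38838
theorem F125863 : act 7 n43104 = n38838 := d15_2 (iv0 D43103) D43104 F125862
theorem F125864 : act 7 n75282 = n43103 := d15_2 (iv0 F59856) D75282 (iv2 F125862)
theorem F125865 : act 2 n43104 = n75282 := d4_3 F125864 (iv2 F125862) (iv7 F125863)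
def n81854 : Q := act 5 n37475
theorem D81854 : act 5 n37475 = n81854 := rfl
theorem F125867 : act 2 n81854 = n38812 := d2_1 D81854 (iv5 D38812) (iv2 F125838)
def n81855 : Q := act 6 n37475
theorem D81855 : act 6 n37475 = n81855 := rfl
theorem F125868 : act 2 n81855 = n38813 := d3_1 D81855 (iv6 D38813) (iv2 F125838)
theorem F125869 : act 4 n81855 = n78079 := d10_1 D81855 (iv6 D78079) (iv4 F124380)
def n81856 : Q := act 5 n37476
theorem D81856 : act 5 n37476 = n81856 := rfl
theorem F125870 : act 3 n81856 = n37801 := d6_1 D81856 (iv5 D37801) (iv3 F124357)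
theorem F125871 : act 7 n81856 = n38812 := d13_2 (iv7 F125832) D81856 (iv5 D38812)
def n81857 : Q := act 6 n37476
theorem D81857 : act 6 n37476 = n81857 := rfl
theorem F125872 : act 3 n81857 = n37802 := d7_1 D81857 (iv6 D37802) (iv3 F124357)
theorem F125873 : act 4 n81857 = n78083 := d10_1 D81857 (iv6 D78083) (iv4 F124358)
def n81858 : Q := act 0 n37477
theorem D81858 : act 0 n37477 = n81858 := rfl
theorem F125874 : act 2 n38842 = n81858 := d15_3 (iv0 D81858) (iv0 F117616) (iv7 F113566)
def n81859 : Q := act 4 n37477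
theorem D81859 : act 4 n37477 = n81859 := rfl
theorem F125875 : act 6 n81859 = n37479 := d10_2 (iv6 F58362) D81859 (iv4 D37479)
def n81860 : Q := act 7 n37477
theorem D81860 : act 7 n37477 = n81860 := rfl
def n81861 : Q := act 3 n37479
theorem D81861 : act 3 n37479 = n81861 := rfl
theorem F125878 : act 4 n81861 = n37509 := d5_2 D37479 D81861 (iv3 D37509) (iv4 D18004) (iv3 F29156)
def n81862 : Q := act 5 n37479
theorem D81862 : act 5 n37479 = n81862 := rfl
theorem F125879 : act 0 n81862 = n77193 := d17_2 (iv1 F58365) D81862 (iv5 D77193) (iv4 D35237) (iv5 D17100) F13043 D17593 (iv0 F28599) D35240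
theorem F125880 : act 1 n81862 = n77187 := d17_6 (iv1 F54905) (iv5 D34664) (iv1 F28026) D17994 D37479 D81862 (iv5 D77187) (iv0 F112859) (iv4 D75273)
def n81863 : Q := act 3 n37480
theorem D81863 : act 3 n37480 = n81863 := rfl
theorem F125881 : act 2 n81863 = n58283 := d0_1 D81863 (iv3 D58283) F44833 (iv3 F74313) F74312
theorem F125882 : act 4 n81863 = n57351 := d5_2 F94803 D81863 F90538 (iv4 F109310) F109309
theorem F125883 : act 5 n81863 = n41068 := d6_2 (iv5 F62305) D81863 (iv3 D41068)
theorem F125884 : act 7 n81863 = n72942 := d8_2 F74366 D81863 F109452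
theorem F125885 : act 0 n81863 = n72941 := d19_4 (iv1 F106740) F108410 F94803 D81863 F109450 (iv4 D44045) F34101 (iv1 F27796) (iv5 F27692) F27691 (iv3 F12589) (iv1 F12593) D12152 D25562 F40436 F37293 (iv5 F56641) (iv4 F108404) (iv3 F108405)
theorem F125886 : act 1 n81863 = n72940 := d15_1 (iv0 F125885) (iv7 F109449) F109451
def n81864 : Q := act 6 n37480
theorem D81864 : act 6 n37480 = n81864 := rfl
def n81865 : Q := act 6 n37481
theorem D81865 : act 6 n37481 = n81865 := rfl
theorem F125887 : act 3 n81865 = n72936 := d7_1 D81865 (iv6 D72936) F58368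
theorem F125888 : act 4 n81865 = n73036 := d10_1 D81865 F109552 F94733
def n81866 : Q := act 6 n37482
theorem D81866 : act 6 n37482 = n81866 := rfl
theorem F125889 : act 2 n81866 = n40370 := d3_1 D81866 (iv6 D40370) (iv2 F58370)
theorem F125890 : act 3 n81866 = n37484 := d7_1 D81866 (iv6 D37484) (iv3 F58371)
theorem F125891 : act 4 n81866 = n43271 := d10_1 D81866 (iv6 D43271) F58372
def n81867 : Q := act 0 n37483
theorem D81867 : act 0 n37483 = n81867 := rfl
def n81868 : Q := act 1 n37483
theorem D81868 : act 1 n37483 = n81868 := rfl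
def n81869 : Q := act 5 n37483
theorem D81869 : act 5 n37483 = n81869 := rfl
theorem F125892 : act 3 n81869 = n37487 := d6_1 D81869 (iv5 D37487) (iv3 F58373)
def n81870 : Q := act 7 n37483
theorem D81870 : act 7 n37483 = n81870 := rfl
theorem F125893 : act 3 n81870 = n37488 := d8_1 D81870 (iv7 D37488) (iv3 F58373)
def n81871 : Q := act 0 n37484
theorem D81871 : act 0 n37484 = n81871 := rfl
def n81872 : Q := act 1 n37484
theorem D81872 : act 1 n37484 = n81872 := rfl
theorem F125895 : act 1 n81872 = n44290 := d15_1 D81872 F69703 F64017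
def n81873 : Q := act 5 n37484
theorem D81873 : act 5 n37484 = n81873 := rfl
theorem F125896 : act 6 n81873 = n37487 := d12_2 D37484 D81873 (iv5 D37487) (iv6 D17997) D17996
def n81874 : Q := act 7 n37484
theorem D81874 : act 7 n37484 = n81874 := rfl
theorem F125897 : act 2 n81874 = n44290 := d4_1 D81874 F69703 F64017
theorem F125898 : act 1 n44290 = n81871 := d15_0 (iv0 D81871) D81874 F125897
def n81875 : Q := act 3 n37485
theorem D81875 : act 3 n37485 = n81875 := rfl
theorem F125899 : act 4 n81875 = n38692 := d5_2 (iv4 F124359) D81875 (iv3 D38692) (iv4 F121884) D79312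
def n81876 : Q := act 5 n37485
theorem D81876 : act 5 n37485 = n81876 := rfl
def n81877 : Q := act 6 n37485
theorem D81877 : act 6 n37485 = n81877 := rfl
def n81878 : Q := act 3 n37486
theorem D81878 : act 3 n37486 = n81878 := rfl
def n81879 : Q := act 5 n37486
theorem D81879 : act 5 n37486 = n81879 := rfl
def n81880 : Q := act 6 n37486
theorem D81880 : act 6 n37486 = n81880 := rfl
def n81881 : Q := act 0 n37487
theorem D81881 : act 0 n37487 = n81881 := rfl
def n81882 : Q := act 1 n37487
theorem D81882 : act 1 n37487 = n81882 := rfl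
def n81883 : Q := act 4 n37487
theorem D81883 : act 4 n37487 = n81883 := rfl
def n81884 : Q := act 7 n37487
theorem D81884 : act 7 n37487 = n81884 := rfl
theorem F125900 : act 5 n81884 = n37488 := d13_1 D81884 (iv7 D37488) D37487
def n81885 : Q := act 3 n37496
theorem D81885 : act 3 n37496 = n81885 := rfl
def n81886 : Q := act 5 n37496
theorem D81886 : act 5 n37496 = n81886 := rfl
theorem F125901 : act 2 n81886 = n39827 := d2_1 D81886 (iv5 D39827) (iv2 F124332)
def n81887 : Q := act 6 n37496
theorem D81887 : act 6 n37496 = n81887 := rfl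
theorem F125902 : act 2 n81887 = n39828 := d3_1 D81887 (iv6 D39828) (iv2 F124332)
theorem F125903 : act 4 n81887 = n37498 := d10_1 D81887 (iv6 D37498) D37496
def n81888 : Q := act 4 n37497
theorem D81888 : act 4 n37497 = n81888 := rfl
theorem F125904 : act 2 n81888 = n39831 := d1_1 D81888 (iv4 D39831) (iv2 F124335)
def n81889 : Q := act 7 n37498
theorem D81889 : act 7 n37498 = n81889 := rfl
theorem F125905 : act 2 n81889 = n39157 := d4_1 D81889 F124317 (iv2 F124326)
theorem F125906 : act 1 n37659 = n81889 := d15_1 (iv0 F124307) (iv7 D81889) F124326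
theorem F125907 : act 1 n81889 = n37655 := d15_1 F125906 F117515 (iv2 F117495)
def n81890 : Q := act 4 n37500
theorem D81890 : act 4 n37500 = n81890 := rfl
theorem F125908 : act 2 n81890 = n39850 := d1_1 D81890 (iv4 D39850) (iv2 F117266)
theorem F125909 : act 0 n81890 = n77540 := d20_7 D77593 (iv1 F122316) (iv4 F122310) F122309 (iv1 F71151) (iv3 F117267) D81890 (iv4 D77540) F56119 D35418
theorem E13486 : n73983 = n17174 := (c18_4 (iv1 F44045) D37496 F124330 (iv4 F110747) D35400 D77540 (iv0 F125909) (iv4 D81890) F89572 F89569)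
theorem E13487 : n45832 = n35399 := (((D35399).symm.trans (sb E13486 (iv0 F121892)))).symm
theorem E13488 : n33956 = n8060 := (((F28134).symm.trans (sb E13486 (iv3 D73983)))).symm
theorem E13489 : n58641 = n18569 := ((((iv4 F29813)).symm.trans (sb E13486 F110747))).symm
theorem E13490 : n77533 = n40210 := (((iv2 F116422)).symm.trans (sb E13487 (iv2 F121794)))
theorem E13491 : n77534 = n21921 := ((D77534).symm.trans (sb E13487 (iv3 D45832)))
theorem E13492 : n77535 = n56625 := ((D77535).symm.trans (sb E13487 (iv4 F124441)))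
theorem E13493 : n79312 = n77528 := (((F116421).symm.trans (sb E13487 F124453))).symm
theorem E13494 : n40283 = n17177 := (((D17177).symm.trans (sb E13488 (iv1 F61300)))).symm
theorem E13495 : n17178 = n16412 := ((D17178).symm.trans (sb E13488 (iv0 D33956)))
theorem E13501 : n39110 = n27889 := ((D39110).symm.trans (sb E13489 (iv1 D58641)))
theorem E13502 : n39111 = n37496 := ((D39111).symm.trans (sb E13489 (iv0 F124330)))
theorem F125910 : act 2 n40210 = n35399 := (sb E13490 F116422)
theorem F125911 : act 7 n40210 = n35398 := (sb E13490 (iv7 D77533))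
theorem F125912 : act 3 n21921 = n35399 := (sb E13491 (iv3 D77534))
theorem F125913 : act 4 n56625 = n35399 := (sb E13492 (iv4 D77535))
theorem F125915 : act 4 n77528 = n37485 := (sb E13493 (iv4 F124359))
theorem E13503 : n33957 = n27040 := ((((iv1 F43699)).symm.trans (sb E13494 (iv1 F61302)))).symm
theorem E13504 : n27038 = n19037 := ((F116446).symm.trans (sb E13494 (iv2 D40283)))
theorem E13506 : n33958 = n27039 := (((F116447).symm.trans (sb E13494 F61299))).symm
theorem F125916 : act 0 n16412 = n8060 := (sb E13495 (iv1 D17178))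
theorem E13508 : n35415 = n33945 := ((((iv4 F53289)).symm.trans (sb E13495 D35415))).symm
theorem E13509 : n35416 = n33959 := (((D33959).symm.trans (sb E13495 D35416))).symm
theorem E13510 : n35417 = n33960 := (((D33960).symm.trans (sb E13495 D35417))).symm
theorem E13511 : n58640 = n57971 := ((D58640).symm.trans (sb E13501 (iv1 F91727)))
theorem F125917 : act 1 n27889 = n18569 := (sb E13501 (iv0 D39110))
theorem E13512 : n57968 = n56630 := ((((iv2 F124289)).symm.trans (sb E13501 (iv2 F125320)))).symm
theorem F125918 : act 0 n37496 = n18569 := (sb E13502 (iv1 D39111))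
theorem E13515 : n45152 = n17999 := ((((iv4 D37496)).symm.trans (sb E13502 (iv4 F122323)))).symm
theorem F125919 : act 0 n27040 = n16412 := (sb E13503 (iv1 D33957))
theorem E13516 : n73988 = n56047 := ((((iv3 F88710)).symm.trans (sb E13503 D73988))).symm
theorem E13520 : n40281 = n17180 := ((D40281).symm.trans (sb E13504 (iv1 F43697)))
theorem E13521 : n40282 = n12956 := ((D40282).symm.trans (sb E13504 (iv0 D27038)))
theorem E13523 : n56055 = n40284 := (((D40284).symm.trans (sb E13504 D56055))).symm
theorem E13524 : n56056 = n40285 := (((D40285).symm.trans (sb E13504 D56056))).symm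
theorem E13525 : n56057 = n40286 := (((D40286).symm.trans (sb E13504 D56057))).symm
theorem E13533 : n73939 = n56060 := (((D56060).symm.trans (sb E13506 (iv4 F110730)))).symm
theorem E13534 : n73992 = n56061 := (((D56061).symm.trans (sb E13506 D73992))).symm
theorem E13535 : n73993 = n56062 := (((D56062).symm.trans (sb E13506 D73993))).symm
theorem E13542 : n73937 = n17192 := ((D73937).symm.trans (sb E13508 F122320))
theorem E13543 : n73938 = n56073 := ((D73938).symm.trans (sb E13508 (iv0 F122321)))
theorem E13547 : n77578 = n73994 := (((D73994).symm.trans (sb E13509 (iv1 F116475)))).symm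
theorem E13548 : n73995 = n36642 := ((D73995).symm.trans (sb E13509 (iv0 F57499)))
theorem E13550 : n56161 = n55890 := ((((iv6 F88417)).symm.trans (sb E13509 (iv6 F88831)))).symm
theorem E13552 : n73998 = n56021 := ((D73998).symm.trans (sb E13510 (iv0 F123069)))
theorem E13553 : n77592 = n37017 := ((((iv5 F57956)).symm.trans (sb E13510 D77592))).symm
theorem E13554 : n56210 = n56116 := (((iv7 F88913)).symm.trans (sb E13510 F116442))
theorem F125923 : act 0 n57971 = n37496 := (sb E13511 (iv1 F124331))
theorem F125924 : act 1 n57971 = n27889 := (sb E13511 (iv0 D58640))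
theorem E13555 : n39826 = n39113 := ((F124287).symm.trans (sb E13512 (iv1 F91725)))
theorem E13556 : n39825 = n27658 := ((F124288).symm.trans (sb E13512 (iv0 D57968)))
theorem E13557 : n37202 = n27228 := ((((iv4 D56630)).symm.trans (sb E13512 (iv4 F119205)))).symm
theorem E13558 : n27897 = n21555 := (((iv3 F124329)).symm.trans (sb E13515 (iv3 D45152)))
theorem E13559 : n56935 = n44974 := (((iv1 F90003)).symm.trans (sb E13516 F124371))
theorem E13560 : n56934 = n35615 := ((F90009).symm.trans (sb E13516 F124372))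
theorem E13561 : n57882 = n57350 := ((((iv4 F90534)).symm.trans (sb E13516 (iv4 F110749)))).symm
theorem F125925 : act 1 n17180 = n19037 := (sb E13520 (iv0 D40281))
theorem F125926 : act 0 n12956 = n19037 := (sb E13521 (iv1 D40282))
theorem F125927 : act 0 n40284 = n35456 := (sb E13523 F119203)
theorem F125928 : act 1 n40284 = n27044 := (sb E13523 F119204)
theorem F125929 : act 2 n40284 = n35410 := (sb E13523 F116449)
theorem F125930 : act 0 n40285 = n35510 := (sb E13524 F88722)
theorem F125931 : act 1 n40285 = n80407 := (sb E13524 F123573)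
theorem F125932 : act 2 n40285 = n35411 := (sb E13524 F116451)
theorem F125934 : act 1 n40286 = n35530 := (sb E13525 (iv0 F88724))
theorem E13562 : n35336 = n35261 := ((((iv5 F61308)).symm.trans (sb E13525 F88723))).symm
theorem E13563 : n35716 = n35527 := (((iv7 F61309)).symm.trans (sb E13525 F116454))
theorem F125939 : act 2 n56060 = n33945 := (sb E13533 (iv2 D73939))
theorem F125940 : act 2 n56061 = n33959 := (sb E13534 F110750)
theorem F125943 : act 3 n56062 = n36134 := (sb E13535 F121763)
theorem F125944 : act 1 n17192 = n33945 := (sb E13542 (iv0 D73937))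
theorem F125945 : act 0 n56073 = n33945 := (sb E13543 (iv1 D73938))
theorem E13566 : n38829 = n36793 := (((F88747).symm.trans (sb E13543 (iv4 F121852)))).symm
theorem F125948 : act 5 n73994 = n80160 := (sb E13547 (iv5 F123086))
theorem F125949 : act 6 n73994 = n77398 := (sb E13547 (iv6 F116477))
theorem F125951 : act 0 n36642 = n33959 := (sb E13548 (iv1 D73995))
theorem F125952 : act 0 n55890 = n35559 := (sb E13550 (iv1 F88835))
theorem F125954 : act 2 n55890 = n35557 := (sb E13550 (iv2 F116463))
theorem E13567 : n35774 = n35558 := ((F88418).symm.trans (sb E13550 (iv7 F116465)))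
theorem F125956 : act 0 n56021 = n33960 := (sb E13552 (iv1 D73998))
theorem E13570 : n56559 = n56475 := (((iv7 F89445)).symm.trans (sb E13553 F116482))
theorem F125957 : act 3 n56116 = n27088 := (sb E13554 (iv3 D56210))
theorem F125959 : act 0 n39113 = n18842 := (sb E13555 (iv1 D39826))
theorem F125960 : act 1 n39113 = n56630 := (sb E13555 (iv0 F124287))
theorem F125961 : act 0 n27658 = n56630 := (sb E13556 (iv1 F124288))
theorem F125962 : act 1 n27658 = n18842 := (sb E13556 (iv0 D39825))
theorem E13573 : n18822 = n17889 := (((iv3 F124286)).symm.trans (sb E13557 (iv3 D37202)))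
theorem E13577 : n18820 = n17892 := (((F33917).symm.trans (sb E13558 F45044))).symm
theorem E13578 : n17890 = n13302 := ((F125298).symm.trans (sb E13558 (iv2 D27897)))
theorem F125963 : act 3 n21555 = n17999 := (sb E13558 F124329)
theorem E13579 : n45153 = n44965 := ((D45153).symm.trans (sb E13558 (iv4 F121720)))
theorem E13580 : n58667 = n45154 := (((D45154).symm.trans (sb E13558 D58667))).symm
theorem E13581 : n58668 = n45155 := (((D45155).symm.trans (sb E13558 D58668))).symm
theorem E13582 : n78095 = n27323 := (((iv1 F121834)).symm.trans (sb E13559 (iv1 D56935)))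
theorem F125964 : act 1 n44974 = n56047 := (sb E13559 F90003)
theorem E13583 : n81456 = n21473 := ((((iv3 D44974)).symm.trans (sb E13559 (iv3 F125285)))).symm
theorem F125965 : act 0 n35615 = n56047 := (sb E13560 (iv1 F90009))
theorem F125967 : act 1 n57350 = n27627 := (sb E13561 (iv0 D57882))
theorem E13584 : n77236 = n17149 := ((D77236).symm.trans (sb E13562 (iv1 D35336)))
theorem E13586 : n77238 = n36559 := ((D77238).symm.trans (sb E13562 (iv2 F116459)))
theorem E13588 : n77389 = n77239 := (((D77239).symm.trans (sb E13562 D77389))).symm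
theorem E13589 : n77390 = n77240 := (((D77240).symm.trans (sb E13562 D77390))).symm
theorem E13590 : n36558 = n36433 := ((((iv7 F57210)).symm.trans (sb E13562 (iv7 F116456)))).symm
theorem E13594 : n77857 = n17307 := ((D77857).symm.trans (sb E13563 (iv3 D35716)))
theorem F125968 : act 7 n35527 = n40286 := (sb E13563 F61309)
theorem E13597 : n56272 = n18455 := (((iv1 F89000)).symm.trans (sb E13566 (iv1 D38829)))
theorem E13598 : n81853 = n56271 := (((F89008).symm.trans (sb E13566 (iv0 F125819)))).symm
theorem E13601 : n78525 = n56162 := ((((iv2 F116466)).symm.trans (sb E13567 D78525))).symm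
theorem E13602 : n77935 = n17334 := ((D77935).symm.trans (sb E13567 (iv3 D35774)))
theorem E13604 : n78527 = n77937 := (((D77937).symm.trans (sb E13567 D78527))).symm
theorem E13605 : n78528 = n77938 := (((D77938).symm.trans (sb E13567 D78528))).symm
theorem F125971 : act 7 n35558 = n55890 := (sb E13567 (iv7 F88418))
theorem E13606 : n56514 = n37131 := ((F123288).symm.trans (sb E13570 F89444))
theorem E13607 : n27896 = n21557 := ((((iv1 F33924)).symm.trans (sb E13573 (iv1 F45045)))).symm
theorem E13608 : n27895 = n8438 := ((((iv0 D17889)).symm.trans (sb E13573 F45041))).symm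
theorem E13609 : n21554 = n8818 := ((F125300).symm.trans (sb E13573 (iv2 D18822)))
theorem F125976 : act 3 n17889 = n27228 := (sb E13573 F124286)
theorem E13610 : n38911 = n37203 := (((D37203).symm.trans (sb E13573 (iv4 F121779)))).symm
theorem E13611 : n39794 = n37204 := (((D37204).symm.trans (sb E13573 D39794))).symm
theorem E13612 : n39795 = n37205 := (((D37205).symm.trans (sb E13573 D39795))).symm
theorem E13620 : n39785 = n37200 := ((((iv4 F58163)).symm.trans (sb E13577 D39785))).symm
theorem F125977 : act 2 n13302 = n21555 := (sb E13578 (iv2 F125298))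
theorem E13625 : n37209 = n27899 := (((D27899).symm.trans (sb E13578 D37209))).symm
theorem E13626 : n37210 = n27900 := (((D27900).symm.trans (sb E13578 D37210))).symm
theorem F125978 : act 4 n44965 = n21555 := (sb E13579 (iv4 D45153))
theorem E13627 : n76024 = n39801 := ((F116925).symm.trans (sb E13580 (iv1 F92658)))
theorem F125980 : act 3 n45155 = n37498 := (sb E13581 (iv3 F124327))
theorem F125981 : act 0 n27323 = n35615 := (sb E13582 (iv1 D78095))
theorem F125982 : act 1 n27323 = n44974 := (sb E13582 F121834)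
theorem E13629 : n44975 = n37198 := ((D44975).symm.trans (sb E13583 (iv4 D81456)))
theorem E13630 : n79608 = n35335 := (((D35335).symm.trans (sb E13584 (iv1 F122289)))).symm
theorem F125983 : act 1 n17149 = n35261 := (sb E13584 (iv0 D77236))
theorem E13631 : n79992 = n17638 := ((((iv1 D36559)).symm.trans (sb E13586 (iv1 F122777)))).symm
theorem E13632 : n79991 = n35338 := (((F57418).symm.trans (sb E13586 F122776))).symm
theorem F125986 : act 3 n36559 = n36055 := (sb E13586 F121871)
theorem F125987 : act 0 n77239 = n35581 := (sb E13588 F117110)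
theorem E13634 : n80241 = n79993 := ((((iv7 F122778)).symm.trans (sb E13588 (iv7 F123282)))).symm
theorem F125990 : act 2 n77240 = n80245 := (sb E13589 (iv2 F123302))
theorem F125991 : act 5 n36433 = n35527 := (sb E13590 (iv5 F57427))
theorem E13635 : n80242 = n79794 := ((((iv6 F122506)).symm.trans (sb E13590 D80242))).symm
theorem F125993 : act 3 n17307 = n35527 := (sb E13594 (iv3 D77857))
theorem E13636 : n38828 = n27112 := ((D38828).symm.trans (sb E13597 (iv1 D56272)))
theorem F125994 : act 1 n18455 = n36793 := (sb E13597 F89000)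
theorem E13637 : n56050 = n38831 := (((D38831).symm.trans (sb E13597 F122314))).symm
theorem F125995 : act 2 n56271 = n37794 := (sb E13598 F125818)
theorem F125996 : act 3 n56271 = n37475 := (sb E13598 (iv3 D81853))
theorem F125998 : act 3 n56162 = n36275 := (sb E13601 (iv3 F121741))
theorem F125999 : act 3 n17334 = n35558 := (sb E13602 (iv3 D77935))
theorem E13638 : n56520 = n37105 := (((iv6 F119152)).symm.trans (sb E13604 (iv6 F119705)))
theorem F126002 : act 3 n77938 = n35777 := (sb E13605 F119706)
theorem E13639 : n81283 = n27188 := ((D81283).symm.trans (sb E13606 (iv1 D56514)))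
theorem E13640 : n81284 = n56522 := ((D81284).symm.trans (sb E13606 F89387))
theorem F126004 : act 0 n21557 = n13302 := (sb E13607 (iv1 D27896))
theorem F126005 : act 1 n8438 = n13302 := (sb E13608 (iv0 D27895))
theorem E13648 : n58657 = n17737 := ((((iv3 F28846)).symm.trans (sb E13608 D58657))).symm
theorem E13649 : n58658 = n17888 := ((((iv4 F29064)).symm.trans (sb E13608 D58658))).symm
theorem F126006 : act 0 n8818 = n17892 := (sb E13609 (iv1 F33922))
theorem F126007 : act 1 n8818 = n10296 := (sb E13609 (iv0 D21554))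
theorem F126008 : act 2 n8818 = n17889 := (sb E13609 (iv2 F125300))
theorem E13653 : n45148 = n18823 := (((D18823).symm.trans (sb E13609 D45148))).symm
theorem E13654 : n45149 = n18824 := (((D18824).symm.trans (sb E13609 D45149))).symm
theorem E13655 : n45150 = n18825 := (((D18825).symm.trans (sb E13609 D45150))).symm
theorem E13657 : n81475 = n18483 := ((D81475).symm.trans (sb E13610 (iv0 D38911)))
theorem F126009 : act 7 n37203 = n44965 := (sb E13610 F121780)
theorem E13658 : n58674 = n37401 := (((F58313).symm.trans (sb E13611 (iv1 F92667)))).symm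
theorem E13659 : n81479 = n58673 := ((D81479).symm.trans (sb E13611 F92666))
theorem F126010 : act 3 n37204 = n56631 := (sb E13611 (iv3 F124293))
theorem E13660 : n76959 = n37316 := (((F58262).symm.trans (sb E13612 (iv5 F115665)))).symm
theorem E13661 : n45143 = n44498 := (((iv1 F71137)).symm.trans (sb E13620 (iv1 F121783)))
theorem E13662 : n45142 = n44493 := ((F71142).symm.trans (sb E13620 F121849))
theorem F126012 : act 2 n27899 = n45154 := (sb E13625 F125313)
theorem E13673 : n81493 = n43114 := ((((iv6 F67506)).symm.trans (sb E13625 D81493))).symm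
theorem E13674 : n58676 = n39561 := ((D58676).symm.trans (sb E13626 (iv1 F116841)))
theorem E13675 : n58677 = n45292 := ((D58677).symm.trans (sb E13626 F117011))
theorem F126013 : act 2 n27900 = n45155 := (sb E13626 F125297)
theorem E13676 : n81494 = n37722 := ((((iv5 F58576)).symm.trans (sb E13626 D81494))).symm
theorem E13677 : n58218 = n58161 := (((iv7 F92018)).symm.trans (sb E13626 F125296))
theorem F126014 : act 1 n39801 = n45154 := (sb E13627 (iv0 F116925))
theorem F126015 : act 2 n39801 = n58673 := (sb E13627 (tr (iv2 F125331) E13659))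
theorem F126016 : act 5 n39801 = n34736 := (sb E13627 (iv5 D76024))
theorem F126017 : act 6 n39801 = n48516 := (sb E13627 F117034)
theorem F126018 : act 7 n39801 = n37401 := (sb E13627 (iv7 F116914))
theorem E13678 : n81454 = n44498 := (((iv2 F125284)).symm.trans (sb E13629 F121838))
theorem F126019 : act 4 n37198 = n21473 := (sb E13629 (iv4 D44975))
theorem E13679 : n81449 = n44493 := ((F125283).symm.trans (sb E13629 (iv7 F121845)))
theorem F126021 : act 3 n35335 = n36252 := (sb E13630 (iv3 D79608))
theorem F126022 : act 0 n17638 = n36433 := (sb E13631 (iv1 D79992))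
theorem F126023 : act 1 n35338 = n36433 := (sb E13632 (iv0 D79991))
theorem F126025 : act 1 n79993 = n77519 := (sb E13634 F123301)
theorem F126027 : act 0 n79794 = n77509 := (sb E13635 F123286)
theorem E13680 : n78404 = n77883 := ((F122507).symm.trans (sb E13635 F123294))
theorem F126030 : act 1 n27112 = n18455 := (sb E13636 (iv0 D38828))
theorem F126031 : act 0 n38831 = n27037 := (sb E13637 (iv1 D56050))
theorem F126032 : act 1 n38831 = n35407 := (sb E13637 F88713)
theorem E13681 : n81221 = n56515 := ((D81221).symm.trans (sb E13638 (iv1 F89386)))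
theorem E13682 : n81222 = n27191 := ((D81222).symm.trans (sb E13638 (iv0 D56520)))
theorem E13683 : n80912 = n56513 := (((iv2 F124632)).symm.trans (sb E13638 F123293))
theorem F126034 : act 1 n27188 = n37131 := (sb E13639 (iv0 D81283))
theorem F126035 : act 0 n56522 = n37131 := (sb E13640 (iv1 D81284))
theorem E13684 : n37794 = n36791 := (((D36791).symm.trans (sb E13648 F121895))).symm
theorem E13686 : n44970 = n37197 := (((D37197).symm.trans (sb E13649 F121842))).symm
theorem F126038 : act 2 n18823 = n37203 := (sb E13653 F125303)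
theorem F126039 : act 0 n18824 = n38963 := (sb E13654 F71146)
theorem F126040 : act 2 n18824 = n37204 := (sb E13654 F125305)
theorem E13687 : n39804 = n38902 := ((D39804).symm.trans (sb E13655 (iv1 F116887)))
theorem E13688 : n39805 = n38983 := ((D39805).symm.trans (sb E13655 (iv0 F71147)))
theorem F126041 : act 2 n18825 = n37205 := (sb E13655 F125307)
theorem E13689 : n45182 = n35160 := ((((iv5 F55886)).symm.trans (sb E13655 F71195))).symm
theorem E13690 : n39054 = n38980 := (((iv7 F60054)).symm.trans (sb E13655 F125308))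
theorem F126043 : act 0 n18483 = n37203 := (sb E13657 (iv1 D81475))
theorem F126044 : act 0 n37401 = n27899 := (sb E13658 (iv1 D58674))
theorem F126046 : act 5 n58673 = n75982 := (sb E13659 (iv5 F125330))
theorem F126048 : act 3 n37316 = n56714 := (sb E13660 (iv3 F124304))
theorem E13693 : n76180 = n45181 := ((((iv7 F125312)).symm.trans (sb E13660 F115666))).symm
theorem F126049 : act 0 n44498 = n21553 := (sb E13661 (iv1 D45143))
theorem F126050 : act 1 n44498 = n37200 := (sb E13661 F71137)
theorem F126051 : act 0 n44493 = n37200 := (sb E13662 (iv1 F71142))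
theorem F126052 : act 1 n44493 = n21553 := (sb E13662 (iv0 D45142))
theorem F126054 : act 1 n43114 = n39868 := (sb E13673 (iv0 F125340))
theorem F126055 : act 2 n43114 = n75168 := (sb E13673 F125339)
theorem E13694 : n75169 = n35881 := (((F67507).symm.trans (sb E13673 (iv7 F125341)))).symm
theorem F126056 : act 1 n39561 = n27900 := (sb E13674 (iv0 D58676))
theorem F126057 : act 0 n45292 = n27900 := (sb E13675 (iv1 D58677))
theorem F126059 : act 1 n37722 = n45061 := (sb E13676 (iv0 F125345))
theorem E13695 : n56834 = n45264 := (((iv7 F89850)).symm.trans (sb E13676 F125343))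
theorem F126061 : act 3 n58161 = n27737 := (sb E13677 (iv3 D58218))
theorem F126063 : act 2 n44498 = n37198 := (sb E13678 F125284)
theorem F126064 : act 7 n44493 = n37198 := (sb E13679 (iv7 F125283))
theorem F126065 : act 3 n77883 = n35733 := (sb E13680 (iv3 D78404))
theorem F126066 : act 5 n77883 = n37105 := (sb E13680 F119602)
theorem F126068 : act 1 n56515 = n37105 := (sb E13681 (iv0 D81221))
theorem F126069 : act 0 n27191 = n37105 := (sb E13682 (iv1 D81222))
theorem F126070 : act 2 n56513 = n37105 := (sb E13683 F124632)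
theorem F126071 : act 3 n56513 = n36961 := (sb E13683 (iv3 D80912))
theorem E13696 : n80614 = n56271 := ((D80614).symm.trans (sb E13684 (iv2 F125995)))
theorem E13697 : n80615 = n18124 := ((D80615).symm.trans (sb E13684 (iv3 D37794)))
theorem E13698 : n80619 = n18455 := ((D80619).symm.trans (sb E13684 F125821))
theorem F126072 : act 2 n37197 = n44493 := (sb E13686 F121848)
theorem E13700 : n81451 = n21472 := ((D81451).symm.trans (sb E13686 (iv4 D44970)))
theorem F126073 : act 7 n37197 = n44498 := (sb E13686 F121835)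
theorem F126074 : act 1 n38902 = n18825 := (sb E13687 (iv0 D39804))
theorem F126075 : act 0 n38983 = n18825 := (sb E13688 (iv1 D39805))
theorem E13701 : n76957 = n21565 := ((D76957).symm.trans (sb E13689 (iv1 D45182)))
theorem E13702 : n76958 = n37318 := ((D76958).symm.trans (sb E13689 F71194))
theorem F126076 : act 2 n35160 = n37316 := (sb E13689 F125310)
theorem E13703 : n37315 = n34798 := (((F55887).symm.trans (sb E13689 (iv7 F125309)))).symm
theorem F126077 : act 3 n38980 = n18543 := (sb E13690 (iv3 D39054))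
theorem F126078 : act 7 n38980 = n18825 := (sb E13690 F60054)
theorem F126079 : act 3 n45181 = n37556 := (sb E13693 (iv3 F124348))
theorem E13704 : n78816 = n34423 := ((D78816).symm.trans (sb E13694 (iv1 D75169)))
theorem F126080 : act 3 n45264 = n27289 := (sb E13695 (iv3 D56834))
theorem E13705 : n45303 = n37181 := ((F116973).symm.trans (sb E13695 F89849))
theorem F126082 : act 2 n56271 = n36791 := (sb E13696 (iv2 D80614))
theorem F126083 : act 4 n56271 = n77547 := (sb E13696 (iv4 F123962))
theorem F126084 : act 7 n56271 = n36792 := (sb E13696 (iv7 F123958))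
theorem F126085 : act 3 n18124 = n36791 := (sb E13697 (iv3 D80615))
theorem F126086 : act 2 n18455 = n36792 := (sb E13698 F123967)
theorem E13706 : n77552 = n38831 := (((D38831).symm.trans (sb E13698 F123968))).symm
theorem F126087 : act 7 n18455 = n36791 := (sb E13698 (iv7 D80619))
theorem F126089 : act 4 n21472 = n37197 := (sb E13700 (iv4 D81451))
theorem F126090 : act 1 n21565 = n35160 := (sb E13701 (iv0 D76957))
theorem F126091 : act 0 n37318 = n35160 := (sb E13702 (iv1 D76958))
theorem F126092 : act 0 n34798 = n45184 := (sb E13703 (iv1 F71203))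
theorem F126093 : act 1 n34798 = n17924 := (sb E13703 (iv0 D37315))
theorem F126094 : act 2 n34798 = n45181 := (sb E13703 F125311)
theorem F126095 : act 5 n34798 = n38980 := (sb E13703 (iv5 F71244))
theorem F126096 : act 1 n34423 = n35881 := (sb E13704 (iv0 D78816))
theorem E13710 : n81419 = n21601 := ((D81419).symm.trans (sb E13705 (iv1 D45303)))
theorem E13711 : n81420 = n45310 := ((D81420).symm.trans (sb E13705 F71366))
theorem F126098 : act 2 n38831 = n35405 := (sb E13706 F116430)
theorem F126099 : act 7 n38831 = n35404 := (sb E13706 (iv7 D77552))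
theorem E13712 : n81395 = n45302 := (((D45302).symm.trans (sb E13710 (iv1 F125230)))).symm
theorem F126100 : act 1 n21601 = n37181 := (sb E13710 (iv0 D81419))
theorem F126101 : act 0 n45310 = n37181 := (sb E13711 (iv1 D81420))
theorem F126103 : act 3 n45302 = n37673 := (sb E13712 F125197)
theorem F126104 : act 7 n45302 = n81421 := (sb E13712 (iv7 F125232))
theorem E13713 : n77547 = n56049 := (c15_4 (iv0 D56049) (iv0 F126031) F126099 D77547)
theorem F126106 : act 2 n56049 = n35404 := (sb E13713 (iv2 D77547))
theorem F126107 : act 4 n56049 = n56271 := (sb E13713 (iv4 F126083))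
theorem E13714 : n56621 = n40210 := (c20_11 (iv4 F124379) (iv1 D37486) F29157 (iv3 F29155) D37475 (iv3 F125996) (iv4 F126107) (iv1 F88718) F56122 (iv3 F56121) (iv1 F89544))
theorem F126109 : act 0 n40210 = n27225 := (sb E13714 (iv1 D56621))
theorem F126110 : act 1 n40210 = n35401 := (sb E13714 F89544)
theorem E13715 : n77528 = n56620 := ((c15_2 F126110 F89549 (iv7 F116421) (iv2 F125910))).symm
theorem F126111 : act 2 n56620 = n35398 := (sb E13715 (iv2 D77528))
theorem F126113 : act 4 n56620 = n37485 := (sb E13715 F125915)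
theorem F126115 : act 0 n40211 = n40555 := d20_7 (iv4 F126107) (iv1 F88718) F56122 (iv3 F56121) (iv1 F126110) (iv3 D40210) D40211 F61684 (iv3 F43828) D56271
theorem E13716 : n77530 = n56624 := ((c1_2 F126113 (iv2 F124452) (iv4 D77530) (iv2 F126111))).symm
theorem F126116 : act 4 n56624 = n35398 := (sb E13716 (iv4 D77530))
theorem E13717 : n57883 = n56933 := (c20_8 F126113 (iv1 F89561) F89557 (iv3 F89266) F124361 (iv3 D27631) D27632 (iv1 F91615) F90002 F44220 D56620)
theorem F126117 : act 0 n56933 = n27627 := (sb E13717 (iv1 D57883))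
theorem F126118 : act 1 n56933 = n27632 := (sb E13717 F91615)
theorem E13718 : n57875 = n45135 := (c20_5 (iv4 F90002) F126117 (iv4 D27627) D27626 D57875 F71114 (iv4 F71140) (iv1 F71143) F126019 D44974 (iv1 F125982))
theorem E13719 : n40556 = n27626 := ((F71118).symm.trans (sb E13718 (iv0 D57875)))
theorem F126119 : act 0 n27626 = n45135 := (sb E13719 (iv1 F71118))
theorem E13720 : n57876 = n19158 := ((D57876).symm.trans (sb E13719 (iv0 D40556)))
theorem F126120 : act 0 n19158 = n27626 := (sb E13720 (iv1 D57876))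
theorem F126121 : act 5 n57880 = n81609 := d21_6 (iv5 D4036) D4033 D9003 D19158 F126120 D57880 (iv1 D81609) (iv5 D37294) (iv6 D17918) F13809
theorem F126122 : act 0 n57879 = n81784 := d21_1 D57879 (iv5 D81784) (iv6 D37394) (iv1 F121277) (iv6 D9008) (iv5 D4036) D4033 D9003 D19158 F126120
theorem F126123 : act 7 n40557 = n57877 := d15_2 (iv0 F126120) D40557 (iv2 D57877)
theorem F126124 : act 2 n56899 = n40557 := d4_3 F126123 (iv2 D57877) (iv7 F124382)
theorem F126125 : act 3 n56409 = n40557 := d8_3 F126123 F124364 (iv7 F124449)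
theorem F126126 : act 0 n40555 = n40206 := d20_1 (iv4 F61684) (iv4 D40206) F121790 (iv1 F56864) F56860 (iv4 F56868) (iv1 F88076) (iv4 F124448) F126125 (iv1 D40557)
theorem F126127 : act 3 n81609 = n57892 := d6_1 F126121 (iv5 D57892) (iv3 F91613)
theorem F126128 : act 7 n76880 = n81609 := d8_0 F126127 F124405 D76880
theorem F126129 : act 4 n81609 = n79964 := d20_6 (iv4 F55008) (iv1 F55909) F55906 (iv3 F55827) F91626 (iv3 F126127) (iv1 D79964) F57191 F28580 D17590
theorem F126130 : act 2 n76880 = n81608 := d15_3 (iv0 D81608) D81609 (iv7 F126128)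
theorem E13721 : n77529 = n39978 := (c20_4 (iv4 F44038) D56624 F126116 D77529 (iv1 F60851) F30307 (iv4 F18167) (iv1 F18170) (iv4 F43124) D8823 F124283)
theorem F126131 : act 3 n39978 = n35398 := (sb E13721 (iv3 D77529))
theorem F126132 : act 3 n77531 = n80587 := d6_3 (iv5 F123914) F126131 D77531
theorem E13722 : n78324 = n77532 := ((c7_3 (iv6 F119486) F126131 D77532 (iv3 D78324))).symm
theorem F126134 : act 5 n77532 = n79971 := (sb E13722 (iv5 F122757))
theorem F126135 : act 0 n79971 = n45851 := d21_7 (iv5 D4759) F5733 (iv5 F13442) D17174 D35398 D77532 F126134 (iv5 D45851) (iv6 D21931) (iv1 D10466)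
theorem F126136 : act 0 n77343 = n79971 := d21_1 (iv5 F116154) (iv5 F126134) (iv6 D77532) (iv1 F89551) F89548 (iv5 F112743) (iv1 F112745) D80163 F123098 (iv1 F72411)
theorem F126137 : act 0 n80355 = n77532 := d21_10 F126134 F126135 (iv5 D45851) (iv6 D21931) (iv1 D10466) D10468 F16669 F118884 D36611 D80355
theorem F126138 : act 7 n78817 = n39868 := d15_2 F126096 D78817 F60664
theorem E13723 : n45308 = n37166 := (c21_5 (iv5 D10276) (iv1 F6777) D10318 D21603 D45308 F119971 (iv5 D78820) (iv1 F126096) F54623 (iv6 D21601) F16892)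
theorem E13724 : n81393 = n45304 := ((D81393).symm.trans (sb E13723 (iv1 F71365)))
theorem E13725 : n81394 = n21603 := ((D81394).symm.trans (sb E13723 (iv0 D45308)))
theorem E13726 : n81421 = n45309 := ((((iv1 F71362)).symm.trans (sb E13724 (iv1 F125233)))).symm
theorem F126139 : act 1 n45304 = n37166 := (sb E13724 (iv0 D81393))
theorem F126140 : act 0 n21603 = n37166 := (sb E13725 (iv1 D81394))
theorem F126141 : act 2 n45309 = n37181 := (sb E13726 (iv2 D81421))
theorem F126142 : act 3 n45309 = n37686 := (sb E13726 F125231)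
theorem F126143 : act 7 n45309 = n45302 := (sb E13726 (iv7 F126104))
theorem F126144 : act 2 n75170 = n78817 := d4_3 F126138 F60664 D75170
theorem F126145 : act 5 n45310 = n78817 := d13_3 F126138 F60665 D45310
theorem F126146 : act 6 n75178 = n78817 := d14_5 F126138 (iv6 D39868) F30105 D34426 D75178
theorem F126147 : act 0 n75168 = n78817 := d21_4 F58167 (iv1 F33917) D45154 (iv6 F112715) (iv6 F126146) F112724 (iv1 F117092) F88565 (iv6 D39841) F116793
theorem F126148 : act 7 n75168 = n78818 := d15_2 D78817 (iv0 F126147) (iv2 D78818)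
theorem F126149 : act 3 n78810 = n75168 := d8_3 F126148 (iv3 F124439) F124432
theorem F126150 : act 1 n39868 = n78818 := d15_1 F126054 (iv7 F126148) (iv2 F126055)
theorem F126152 : act 0 n76960 = n75180 := d18_2 F126091 D76960 F112726 (iv5 D40444) (iv4 F33965) F59805 (iv4 D35153) F116744 (iv5 F58263)
theorem F126153 : act 4 n81453 = n44972 := d10_3 (iv6 D44972) F126089 D81453
theorem F126154 : act 7 n80617 = n38832 := d13_2 F126087 D80617 (iv5 D38832)
theorem F126155 : act 3 n37796 = n80617 := d8_3 F126154 F59853 (iv7 F125826)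
theorem F126156 : act 2 n80621 = n38832 := d2_3 (iv5 D38832) F126086 D80621
theorem F126157 : act 2 n80622 = n38833 := d3_3 (iv6 D38833) F126086 D80622
theorem F126158 : act 3 n80618 = n37797 := d7_3 (iv6 D37797) F126085 D80618
theorem E13727 : n79583 = n75796 := ((c6_4 (iv5 F123959) F126158 F58646 D75796)).symm
theorem F126159 : act 0 n75796 = n36244 := (sb E13727 (iv1 D79583))
theorem F126162 : act 5 n75796 = n80618 := (sb E13727 (iv5 F123959))
theorem F126163 : act 2 n81644 = n76960 := d1_3 (iv4 D76960) F126076 D81644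
theorem F126164 : act 2 n81645 = n76961 := d3_3 (iv6 D76961) F126076 D81645
theorem F126165 : act 2 n39803 = n81481 := d2_3 (iv5 F125551) F126164 F115672
theorem E13728 : n77858 = n77754 := ((c20_8 (iv4 F46229) (iv1 D28683) F43122 (iv3 F30081) (iv1 F126074) (iv3 F117129) F117130 D77754 (iv4 D77858) (iv3 F125993) F28785)).symm
theorem F126166 : act 4 n77754 = n35527 := (sb E13728 (iv4 D77858))
theorem F126167 : act 5 n77754 = n80285 := (sb E13728 (iv5 F123377))
theorem E13729 : n56045 = n44492 := ((c20_4 (iv4 F33916) (iv1 F126052) (iv4 D44493) D44492 (iv1 F90011) F90008 (iv4 F91723) F125923 (iv4 D37496) (iv3 F125963) (iv1 D21555))).symm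
theorem F126169 : act 0 n44492 = n56937 := (sb E13729 (iv1 F90011))
theorem F126170 : act 1 n44492 = n27035 := (sb E13729 (iv0 D56045))
theorem E13730 : n57786 = n56046 := ((c15_2 F126170 D56046 F121809 (iv2 F121788))).symm
theorem F126172 : act 3 n56046 = n35602 := (sb E13730 F90946)
theorem F126173 : act 4 n56046 = n27581 := (sb E13730 (iv4 D57786))
theorem F126174 : act 7 n56046 = n35615 := (sb E13730 F121809)
theorem E13731 : n57877 = n45132 := ((c20_5 D44498 F126049 F33916 (iv3 F33906) D45132 F124364 (iv4 F124365) (iv1 F88083) F88079 F43363 (iv1 F33754))).symm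
theorem F126175 : act 2 n45132 = n27626 := (sb E13731 (iv2 D57877))
theorem F126176 : act 3 n45132 = n36478 := (sb E13731 F124364)
theorem F126177 : act 4 n45132 = n40166 := (sb E13731 (iv4 F124377))
theorem F126178 : act 7 n45132 = n40557 := (sb E13731 (iv7 F126123))
theorem E13732 : n56899 = n45133 := (c15_4 F71109 F71116 F126178 (iv2 F126124))
theorem F126180 : act 3 n45133 = n27311 := (sb E13732 (iv3 D56899))
theorem F126181 : act 4 n45133 = n40167 := (sb E13732 F89942)
theorem F126182 : act 7 n45133 = n27626 := (sb E13732 F124382)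
theorem E13733 : n57348 = n56900 := ((c20_7 D40284 F125927 (iv4 F89006) F89005 (iv1 F71109) F126180 D56900 (iv1 D57348) F44372 F43690 F125926)).symm
theorem F126183 : act 0 n56900 = n27454 := (sb E13733 (iv1 D57348))
theorem E13734 : n57347 = n56895 := ((c15_4 (iv0 D57347) (iv0 F126183) F124385 (iv2 F124394))).symm
theorem F126184 : act 1 n56895 = n27454 := (sb E13734 (iv0 D57347))
theorem F126185 : act 5 n81478 = n81687 := d21_6 D8461 D17932 F29102 D18483 F126043 D81478 (iv1 D81687) (iv5 D37337) (iv6 D17931) (iv1 D8460)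
theorem F126186 : act 0 n81477 = n81737 := d21_1 D81477 (iv5 D81737) (iv6 D37356) (iv1 D17936) (iv6 D8462) D8461 D17932 F29102 D18483 F126043
theorem F126187 : act 2 n81478 = n39799 := d1_3 F60628 F126041 (iv4 F125327)
theorem F126188 : act 2 n81480 = n39802 := d1_3 (iv4 D39802) F126040 D81480
theorem F126189 : act 2 n81477 = n39798 := d2_3 (iv5 D39798) F126038 D81477
theorem F126191 : act 0 n37693 = n81416 := d20_7 (iv4 F58082) (iv1 F67503) (iv4 D37132) D37131 (iv1 F126034) (iv3 F58533) (iv4 F58559) (iv4 D81416) (iv3 D37177) (iv1 F29053)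
theorem F126192 : act 4 n44977 = n81458 := d10_3 (iv6 D81458) F126019 D44977
theorem F126193 : act 4 n44979 = n81498 := d18_1 (iv1 F70712) (iv1 D81498) (iv4 D37213) (iv5 D17891) (iv4 F29064) D37198 F126019 F33748 (iv5 F70010)
theorem F126194 : act 0 n81455 = n79068 := d20_4 F59952 (iv1 F33748) (iv4 F126019) D81455 F120277 F56700 F110501 D28675 F46221 F121722
theorem F126195 : act 1 n44503 = n58691 := d18_6 F126004 D27898 (iv1 F121781) F29667 D21162 D44503 (iv4 D58691) (iv0 F116784) F71156
theorem F126196 : act 1 n81495 = n44503 := d15_0 F126195 F92726 (iv2 F125346)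
theorem F126197 : act 0 n75228 = n78811 := d20_7 (iv4 F67495) (iv1 F67505) (iv4 D35775) F125999 (iv1 D35558) (iv3 F56222) (iv4 F112776) (iv4 D78811) (iv3 D35878) (iv1 F32282)
theorem F126201 : act 0 n57886 = n77833 := d20_1 (iv4 F91616) F117650 F56201 D35527 (iv3 F125993) F53082 (iv1 F53095) F29128 (iv3 F58322) F121105
theorem F126203 : act 0 n77342 = n76952 := d20_7 D34784 (iv1 F55898) F55900 D35261 (iv1 F125983) (iv3 F56018) D77342 (iv4 D76952) (iv3 D35157) (iv1 F28011)
theorem F126204 : act 3 n79152 = n75262 := d20_3 D35337 D77391 F123316 (iv1 F112835) F54897 D34784 (iv1 F55898) F55900 D35261 (iv1 F125983)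
theorem F126205 : act 7 n75796 = n79152 := d8_0 F126204 F125858 D75796
theorem F126207 : act 2 n79152 = n79582 := d15_3 (iv0 D79582) (iv0 F126159) F126205
theorem F126213 : act 5 n78098 = n80208 := d21_6 (iv5 D6232) D6231 D13093 D27323 F125981 D78098 (iv1 D80208) (iv5 D36537) (iv6 D17632) (iv1 F14023)
theorem F126214 : act 0 n78097 = n80391 := d21_1 D78097 (iv5 D80391) (iv6 D36635) (iv1 F121297) (iv6 D13097) (iv5 D6232) D6231 D13093 D27323 F125981
theorem F126215 : act 3 n80208 = n77062 := d6_1 F126213 (iv5 F115791) (iv3 F119285)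
theorem F126216 : act 7 n77171 = n80208 := d8_0 F126215 F121856 D77171
theorem F126217 : act 4 n80208 = n76888 := d20_6 D35158 (iv1 F55993) F55991 (iv3 F55966) (iv1 F115790) (iv3 F126215) (iv1 D76888) (iv4 D35133) F27979 D17070
theorem F126218 : act 2 n77171 = n80207 := d15_3 (iv0 D80207) D80208 (iv7 F126216)
theorem F126221 : act 3 n77536 = n45834 := d6_3 (iv5 D45834) F125912 D77536
theorem F126222 : act 3 n77537 = n45835 := d7_3 (iv6 D45835) F125912 D77537
def n81891 : Q := act 6 n37500
theorem D81891 : act 6 n37500 = n81891 := rfl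
theorem F126224 : act 0 n39097 = n81891 := d21_4 (iv5 D34772) D34770 (iv5 F117444) F60102 (iv6 D81891) (iv5 F117280) F117526 (iv5 F124301) F124302 F117153
theorem F126225 : act 1 n39094 = n81891 := d15_0 (iv0 F126224) F117480 (iv2 F117493)
theorem F126226 : act 7 n81891 = n39151 := d15_2 F117559 F126225 (iv2 F117440)
def n81892 : Q := act 0 n37501
theorem D81892 : act 0 n37501 = n81892 := rfl
def n81893 : Q := act 1 n37501
theorem D81893 : act 1 n37501 = n81893 := rfl
theorem F126227 : act 4 n81893 = n78621 := d18_7 (iv1 F126110) (iv4 F124379) (iv1 D37486) F29157 D18000 D37501 D81893 F123095 F116426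
def n81894 : Q := act 3 n37501
theorem D81894 : act 3 n37501 = n81894 := rfl
theorem F126228 : act 6 n81894 = n37509 := d7_2 (iv6 F58377) D81894 (iv3 D37509)
def n81895 : Q := act 5 n37501
theorem D81895 : act 5 n37501 = n81895 := rfl
def n81896 : Q := act 7 n37501
theorem D81896 : act 7 n37501 = n81896 := rfl
theorem F126229 : act 4 n81896 = n37502 := d11_1 D81896 (iv7 D37502) D37501
def n81897 : Q := act 3 n37503
theorem D81897 : act 3 n37503 = n81897 := rfl
theorem F126230 : act 7 n81897 = n75204 := d8_2 (iv7 F58380) D81897 (iv3 D75204)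
def n81898 : Q := act 6 n37503
theorem D81898 : act 6 n37503 = n81898 := rfl
theorem F126231 : act 2 n81898 = n39882 := d3_1 D81898 (iv6 D39882) (iv2 F58379)
theorem F126232 : act 4 n81898 = n37504 := d10_1 D81898 (iv6 D37504) D37503
def n81899 : Q := act 1 n37504
theorem D81899 : act 1 n37504 = n81899 := rfl
theorem F126233 : act 1 n81899 = n39190 := d15_1 D81899 F60167 (iv2 F58383)
theorem F126234 : act 7 n81899 = n39883 := d15_2 (iv0 F91789) D81899 (iv2 F117407)
theorem F126235 : act 5 n39179 = n81899 := d21_6 (iv5 D8492) (iv1 F16990) D7794 (iv6 F13634) D18586 D39179 (iv1 D81899) (iv5 F58387) (iv6 D37506) (iv1 D18003)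
theorem F126236 : act 0 n58647 = n39179 := d21_10 F126235 (iv1 D81899) (iv5 F58387) (iv6 D37506) (iv1 D18003) (iv6 F29158) (iv5 D18000) (iv1 F124341) D27890 D58647
theorem F126237 : act 6 n81899 = n39829 := d21_9 (iv5 D56631) (iv1 F44044) (iv5 F58378) (iv6 F89695) F124346 D76190 F114155 F126236 F126235 (iv1 F124291)
theorem F126238 : act 2 n39884 = n81899 := d3_3 F126237 (iv2 F124353) (iv6 F124352)
def n81900 : Q := act 7 n37504
theorem D81900 : act 7 n37504 = n81900 := rfl
theorem F126240 : act 6 n81900 = n39102 := d14_1 D81900 (iv7 D39102) F29804 (iv7 F29160) D37504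
theorem F126241 : act 1 n39884 = n81900 := d15_1 D39884 (iv7 D81900) F58383
theorem F126242 : act 1 n81900 = n39883 := d15_1 F126241 (iv7 F126234) (iv2 F126238)
def n81901 : Q := act 3 n37505
theorem D81901 : act 3 n37505 = n81901 := rfl
def n81902 : Q := act 5 n37505
theorem D81902 : act 5 n37505 = n81902 := rfl
theorem F126243 : act 2 n81902 = n39895 := d2_1 D81902 (iv5 D39895) (iv2 F58384)
theorem F126244 : act 4 n81902 = n39970 := d16_2 D37505 D81902 (iv5 D39970) (iv4 D18902) (iv5 D8859) F5895 D8859 F13796 (iv2 F29165)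
def n81903 : Q := act 6 n37505
theorem D81903 : act 6 n37505 = n81903 := rfl
theorem F126245 : act 2 n81903 = n39896 := d3_1 D81903 (iv6 D39896) (iv2 F58384)
theorem F126246 : act 4 n81903 = n37506 := d10_1 D81903 (iv6 D37506) D37505
def n81904 : Q := act 0 n37506
theorem D81904 : act 0 n37506 = n81904 := rfl
def n81905 : Q := act 1 n37506
theorem D81905 : act 1 n37506 = n81905 := rfl
theorem F126247 : act 1 n81905 = n39899 := d15_1 D81905 (iv7 D39899) (iv2 F58386)
def n81906 : Q := act 7 n37506
theorem D81906 : act 7 n37506 = n81906 := rfl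
theorem F126248 : act 2 n81906 = n39899 := d4_1 D81906 (iv7 D39899) (iv2 F58386)
theorem F126249 : act 5 n81906 = n81900 := d13_1 D81906 (iv7 D81900) (iv5 F58387)
theorem F126250 : act 6 n81906 = n57966 := d14_1 D81906 (iv7 D57966) F44582 F30156 D37506
theorem F126251 : act 1 n39899 = n81904 := d15_0 (iv0 D81904) D81906 F126248
theorem F126252 : act 1 n39898 = n81906 := d15_1 D39898 (iv7 D81906) F58386
theorem F126253 : act 1 n81906 = n39897 := d15_0 (iv0 D39897) D39899 (iv2 F126248)
def n81907 : Q := act 3 n37507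
theorem D81907 : act 3 n37507 = n81907 := rfl
theorem F126254 : act 4 n81907 = n38874 := d5_2 (iv4 F58388) D81907 (iv3 D38874) F29655 (iv3 F31207)
def n81908 : Q := act 5 n37507
theorem D81908 : act 5 n37507 = n81908 := rfl
def n81909 : Q := act 6 n37507
theorem D81909 : act 6 n37507 = n81909 := rfl
theorem F126255 : act 4 n81909 = n41378 := d10_1 D81909 F63812 (iv4 F58388)
theorem F126256 : act 0 n58034 = n81909 := d18_2 (iv1 F91715) D58034 F126255 (iv5 D41378) (iv4 F63810) F118770 (iv4 D27672) F44587 (iv5 F91713)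
def n81910 : Q := act 3 n37508
theorem D81910 : act 3 n37508 = n81910 := rfl
theorem F126257 : act 4 n81910 = n78533 := d5_2 (iv4 F58391) D81910 (iv3 D78533) (iv4 D35778) F56025
def n81911 : Q := act 5 n37508
theorem D81911 : act 5 n37508 = n81911 := rfl
def n81912 : Q := act 6 n37508
theorem D81912 : act 6 n37508 = n81912 := rfl
theorem F126258 : act 4 n81912 = n77345 := d10_1 D81912 (iv6 D77345) (iv4 F58391)
def n81913 : Q := act 0 n37509
theorem D81913 : act 0 n37509 = n81913 := rfl
def n81914 : Q := act 1 n37509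
theorem D81914 : act 1 n37509 = n81914 := rfl
def n81915 : Q := act 2 n37509
theorem D81915 : act 2 n37509 = n81915 := rfl
def n81916 : Q := act 5 n37509
theorem D81916 : act 5 n37509 = n81916 := rfl
theorem F126259 : act 3 n81916 = n37510 := d6_1 D81916 (iv5 D37510) D37509
def n81917 : Q := act 0 n37510
theorem D81917 : act 0 n37510 = n81917 := rfl
theorem F126260 : act 5 n81917 = n47667 := d17_1 D81917 F74940 D75210 (iv4 F112774) (iv5 D75227) (iv0 F58381) (iv5 F112785) F112787 (iv4 F112780)
theorem F126261 : act 1 n75207 = n81917 := d15_0 (iv0 D81917) (iv7 F112753) (iv2 F112757)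
def n81918 : Q := act 1 n37510
theorem D81918 : act 1 n37510 = n81918 := rfl
theorem F126262 : act 1 n81918 = n75207 := d15_1 D81918 F112758 F89583
theorem F126263 : act 5 n81918 = n75208 := d17_7 (iv1 F29162) (iv5 D18002) (iv1 D8491) D8492 D18004 D37510 D81918 (iv0 D75208) (iv4 D34439)
def n81920 : Q := act 4 n37511
theorem D81920 : act 4 n37511 = n81920 := rfl
theorem F126264 : act 1 n81920 = n41467 := d18_6 (iv1 D10624) F7029 D10623 D22301 (iv5 F72916) D81920 (iv4 D41467) (iv0 F72920) (iv5 D22307)
def n81921 : Q := act 6 n37511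
theorem D81921 : act 6 n37511 = n81921 := rfl
def n81922 : Q := act 4 n37512
theorem D81922 : act 4 n37512 = n81922 := rfl
theorem F126265 : act 0 n81922 = n41467 := d18_2 (iv1 F85979) D81922 (iv4 D41467) (iv5 D19524) F14337 D19522 D41461 F72611 (iv5 F85976)
def n81923 : Q := act 6 n37512
theorem D81923 : act 6 n37512 = n81923 := rfl
def n81924 : Q := act 6 n37513
theorem D81924 : act 6 n37513 = n81924 := rfl
theorem F126266 : act 3 n81924 = n37515 := d7_1 D81924 (iv6 D37515) (iv3 F58392)
def n81927 : Q := act 5 n37514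
theorem D81927 : act 5 n37514 = n81927 := rfl
def n81928 : Q := act 7 n37514
theorem D81928 : act 7 n37514 = n81928 := rfl
theorem F126268 : act 3 n81928 = n37519 := d8_1 D81928 (iv7 D37519) (iv3 F58394)
def n81929 : Q := act 0 n37515
theorem D81929 : act 0 n37515 = n81929 := rfl
def n81930 : Q := act 1 n37515
theorem D81930 : act 1 n37515 = n81930 := rfl
theorem F126269 : act 1 n81930 = n37596 := d15_1 D81930 (iv7 D37596) (iv2 F58395)
def n81931 : Q := act 5 n37515
theorem D81931 : act 5 n37515 = n81931 := rfl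
theorem F126270 : act 2 n81931 = n37595 := d2_1 D81931 (iv5 D37595) (iv2 F58395)
theorem F126271 : act 6 n81931 = n37518 := d12_2 D37515 D81931 (iv5 D37518) (iv6 D18007) D18006
def n81932 : Q := act 7 n37515
theorem D81932 : act 7 n37515 = n81932 := rfl
theorem F126272 : act 2 n81932 = n37596 := d4_1 D81932 (iv7 D37596) (iv2 F58395)
theorem F126273 : act 4 n81932 = n56724 := d11_1 D81932 (iv7 D56724) (iv4 F58396)
theorem F126274 : act 6 n81932 = n46030 := d14_1 D81932 (iv7 D46030) (iv6 D21994) (iv7 F29167) D37515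
theorem F126275 : act 1 n37596 = n81929 := d15_0 (iv0 D81929) D81932 F126272
theorem F126276 : act 1 n37594 = n81932 := d15_1 D37594 (iv7 D81932) F58395
theorem F126277 : act 1 n81932 = n37593 := d15_0 (iv0 D37593) D37596 (iv2 F126272)
def n81933 : Q := act 3 n37516
theorem D81933 : act 3 n37516 = n81933 := rfl
theorem F126278 : act 4 n81933 = n56470 := d5_2 (iv4 F58397) D81933 (iv3 D56470) (iv4 D27174) D27173
theorem F126279 : act 7 n81933 = n37603 := d8_2 (iv7 F91564) D81933 (iv3 D37603)
def n81934 : Q := act 5 n37516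
theorem D81934 : act 5 n37516 = n81934 := rfl
theorem F126280 : act 2 n81934 = n37600 := d2_1 D81934 (iv5 D37600) (iv2 F91563)
theorem F126281 : act 7 n81934 = n37605 := d13_2 (iv7 F91564) D81934 (iv5 D37605)
def n81935 : Q := act 3 n37517
theorem D81935 : act 3 n37517 = n81935 := rfl
theorem F126282 : act 7 n81935 = n37598 := d8_2 (iv7 F91566) D81935 (iv3 D37598)
def n81936 : Q := act 5 n37517
theorem D81936 : act 5 n37517 = n81936 := rfl
theorem F126283 : act 2 n81936 = n37605 := d2_1 D81936 (iv5 D37605) (iv2 F91565)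
theorem F126284 : act 7 n81936 = n37600 := d13_2 (iv7 F91566) D81936 (iv5 D37600)
def n81937 : Q := act 0 n37518
theorem D81937 : act 0 n37518 = n81937 := rfl
def n81938 : Q := act 1 n37518
theorem D81938 : act 1 n37518 = n81938 := rfl
theorem F126286 : act 5 n39123 = n81938 := d21_6 (iv5 D10655) F13631 (iv5 D8726) D8727 D18572 D39123 (iv1 D81938) (iv5 D37518) (iv6 D18007) (iv1 F17200)
def n81940 : Q := act 7 n37518
theorem D81940 : act 7 n37518 = n81940 := rfl
theorem F126288 : act 2 n81940 = n37610 := d4_1 D81940 (iv7 D37610) (iv2 F58400)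
theorem F126289 : act 5 n81940 = n37519 := d13_1 D81940 (iv7 D37519) D37518
theorem F126291 : act 1 n37608 = n81940 := d15_1 D37608 (iv7 D81940) F58400
theorem F126292 : act 1 n81940 = n37607 := d15_0 (iv0 D37607) D37610 (iv2 F126288)
def n81941 : Q := act 0 n37522
theorem D81941 : act 0 n37522 = n81941 := rfl
theorem F126293 : act 4 n81941 = n45870 := d20_2 D37522 D81941 F72428 (iv1 F34466) D22113 (iv4 F118318) (iv1 D45055) F33837 F16266 D18008
theorem F126295 : act 1 n37526 = n81941 := d15_0 (iv0 D81941) F117468 (iv2 F117459)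
theorem F126296 : act 7 n81941 = n37541 := d15_2 F118260 F126295 (iv2 F60871)
theorem F126297 : act 6 n45859 = n81941 := d14_5 F126296 (iv6 D37541) F29188 D21934 D45859
def n81942 : Q := act 3 n37522
theorem D81942 : act 3 n37522 = n81942 := rfl
theorem F126298 : act 7 n81942 = n37645 := d8_2 (iv7 F117468) D81942 (iv3 D37645)
def n81943 : Q := act 5 n37522
theorem D81943 : act 5 n37522 = n81943 := rfl
theorem F126299 : act 2 n81943 = n37626 := d2_1 D81943 (iv5 D37626) (iv2 F117467)
theorem F126300 : act 7 n81943 = n37646 := d13_2 (iv7 F117468) D81943 (iv5 D37646)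
def n81944 : Q := act 1 n37523
theorem D81944 : act 1 n37523 = n81944 := rfl
theorem F126301 : act 1 n81944 = n37527 := d15_1 D81944 F117462 (iv2 F117469)
theorem F126302 : act 7 n81944 = n37629 := d15_2 F124440 D81944 (iv2 F124325)
theorem F126303 : act 5 n81889 = n81944 := d21_0 (iv1 D81944) (iv5 D37523) F117450 (iv1 D34771) (iv6 D16842) D16841 D34767 (iv5 F117501) (iv6 F117499) (iv1 F125907)
theorem F126305 : act 6 n81944 = n37686 := d21_3 D37655 (iv1 F125907) F126303 (iv1 D37686) (iv6 D18061) (iv5 D8523) (iv1 D3807) D3808 (iv6 F13282) D18048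
theorem F126306 : act 0 n37660 = n78812 := d21_4 (iv5 F126303) (iv1 F125906) (iv5 D37659) D37660 F119962 (iv5 D39834) (iv1 F124306) (iv5 D37655) F58408 (iv1 F126301)
def n81946 : Q := act 6 n37523
theorem D81946 : act 6 n37523 = n81946 := rfl
theorem F126310 : act 5 n81946 = n58035 := d12_1 D81946 (iv6 D58035) F117449 (iv6 F117450) D37523
theorem F126312 : act 0 n81946 = n81418 := d21_10 (iv5 F125225) (iv1 F124425) (iv5 D37675) (iv6 D18055) F16999 (iv6 F29175) (iv5 D18010) D18008 D37523 D81946
def n81947 : Q := act 5 n37526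
theorem D81947 : act 5 n37526 = n81947 := rfl
theorem F126313 : act 2 n81947 = n37646 := d2_1 D81947 (iv5 D37646) (iv2 F117459)
theorem F126314 : act 7 n81947 = n37626 := d13_2 (iv7 F117460) D81947 (iv5 D37626)
def n81948 : Q := act 4 n37527
theorem D81948 : act 4 n37527 = n81948 := rfl
theorem F126315 : act 2 n81948 = n37648 := d1_1 D81948 (iv4 D37648) (iv2 F117461)
theorem F126317 : act 7 n81948 = n37631 := d11_2 (iv7 F117462) D81948 (iv4 D37631)
def n81949 : Q := act 4 n37529
theorem D81949 : act 4 n37529 = n81949 := rfl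
theorem F126318 : act 2 n81949 = n37654 := d1_1 D81949 (iv4 D37654) (iv2 F117519)
theorem F126320 : act 7 n81949 = n37658 := d11_2 (iv7 F117520) D81949 (iv4 D37658)
def n81950 : Q := act 4 n37530
theorem D81950 : act 4 n37530 = n81950 := rfl
theorem F126321 : act 2 n81950 = n37658 := d1_1 D81950 (iv4 D37658) (iv2 F117517)
theorem F126322 : act 7 n81950 = n37654 := d11_2 (iv7 F117518) D81950 (iv4 D37654)
def n81951 : Q := act 6 n37530
theorem D81951 : act 6 n37530 = n81951 := rfl
theorem F126323 : act 2 n81951 = n37660 := d3_1 D81951 (iv6 D37660) (iv2 F117517)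
theorem F126324 : act 5 n81951 = n39154 := d12_1 D81951 (iv6 D39154) (iv5 D18579) D18580 F58411
theorem F126325 : act 7 n81951 = n37632 := d14_2 (iv7 F117518) D81951 (iv6 D37632) (iv7 F117462) (iv6 F58408)
theorem F126326 : act 0 n81417 = n39154 := d21_1 D81417 (iv5 F126324) (iv6 D81951) (iv1 D37530) F29175 (iv5 D8496) (iv1 F5798) D8523 D18061 F125227
def n81952 : Q := act 0 n37531
theorem D81952 : act 0 n37531 = n81952 := rfl
theorem F126328 : act 4 n81952 = n56497 := d20_2 D37531 D81952 (iv3 D56497) F89295 F89290 (iv4 F124068) (iv1 F124071) (iv4 F121019) F121017 (iv1 D37530)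
theorem F126329 : act 0 n81952 = n37665 := d20_7 (iv4 F44018) (iv1 D27218) (iv4 D13039) (iv3 F21662) D27182 D56497 (iv4 F126328) F58503 F29209 (iv1 F21796)
theorem F126330 : act 0 n45873 = n56497 := d18_0 (iv4 F126328) F126329 F58503 F29210 (iv4 F29205) (iv0 F58398) F58397 F118050 D45873
def n81953 : Q := act 1 n37531
theorem D81953 : act 1 n37531 = n81953 := rfl
theorem F126331 : act 1 n81953 = n37665 := d15_1 D81953 (iv7 D37665) (iv2 F58412)
def n81956 : Q := act 7 n37531
theorem D81956 : act 7 n37531 = n81956 := rfl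
theorem F126334 : act 2 n81956 = n37665 := d4_1 D81956 (iv7 D37665) (iv2 F58412)
theorem F126335 : act 4 n81956 = n37532 := d11_1 D81956 (iv7 D37532) D37531
theorem F126337 : act 1 n37662 = n81956 := d15_1 D37662 (iv7 D81956) F58412
theorem F126338 : act 1 n81956 = n37661 := d15_0 (iv0 D37661) D37665 (iv2 F126334)
def n81962 : Q := act 5 n37535
theorem D81962 : act 5 n37535 = n81962 := rfl
def n81964 : Q := act 6 n37536
theorem D81964 : act 6 n37536 = n81964 := rfl
theorem F126352 : act 2 n81964 = n76871 := d3_1 D81964 (iv6 D76871) (iv2 F117591)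
theorem F126353 : act 4 n81964 = n80695 := d10_1 D81964 (iv6 D80695) (iv4 F117593)
def n81965 : Q := act 0 n37537
theorem D81965 : act 0 n37537 = n81965 := rfl
theorem F126354 : act 4 n81965 = n79604 := d18_1 D81965 (iv1 F122280) F120474 F56795 (iv4 F56791) F57767 (iv4 F117347) (iv0 D37535) D37537
theorem F126355 : act 3 n81965 = n76824 := d20_3 (iv4 F56982) D79604 (iv4 F126354) (iv1 F115361) F55827 (iv4 F55906) (iv1 F55908) F55009 (iv3 F121774) (iv1 D36253)
theorem F126356 : act 2 n77358 = n81965 := d0_5 F126355 F124407 D76880 F126130 F125553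
theorem F126357 : act 7 n76884 = n81965 := d8_0 F126355 F124408 D76884
theorem E13736 : n77359 = n76884 := (c15_2 (iv0 D77358) D77359 F126357 (iv2 F126356))
theorem F126359 : act 0 n76884 = n35315 := (sb E13736 (iv1 D77359))
def n81966 : Q := act 1 n37537
theorem D81966 : act 1 n37537 = n81966 := rfl
theorem F126363 : act 1 n81966 = n77360 := d15_1 D81966 (iv7 D77360) (iv2 F58425)
theorem F126364 : act 7 n81966 = n77358 := d15_2 (iv0 D81965) D81966 F126356
theorem F126365 : act 5 n80097 = n81966 := d21_6 F21260 (iv1 F9711) D8278 D17612 D36478 D80097 (iv1 D81966) (iv5 D37537) (iv6 D18013) (iv1 F21262)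
theorem F126366 : act 2 n76884 = n81966 := d4_3 F126364 F126356 (iv7 F126357)
theorem F126368 : act 1 n77360 = n81965 := d15_1 F126363 (iv7 F126357) F126366
def n81967 : Q := act 4 n37537
theorem D81967 : act 4 n37537 = n81967 := rfl
theorem F126369 : act 2 n81967 = n55795 := d1_1 D81967 F88260 (iv2 F58425)
theorem F126370 : act 6 n81967 = n55660 := d10_2 (iv6 F58427) D81967 F88060
theorem F126371 : act 1 n81967 = n79193 := d18_6 (iv1 F28877) D36051 F117358 F43858 D37537 D81967 (iv4 D79193) F56988 F56986
theorem F126372 : act 0 n81967 = n77234 := d20_7 (iv4 F57205) (iv1 F57207) (iv4 D34802) D34801 (iv1 F124345) (iv3 F58426) D81967 (iv4 D77234) (iv3 D35259) (iv1 F28594)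
def n81968 : Q := act 7 n37537
theorem D81968 : act 7 n37537 = n81968 := rfl
theorem F126374 : act 3 n81968 = n37559 := d8_1 D81968 (iv7 D37559) (iv3 F58426)
theorem F126376 : act 1 n76884 = n81968 := d15_1 (iv0 F126359) (iv7 D81968) F58425
theorem F126377 : act 1 n81968 = n77358 := d15_1 F126376 (iv7 F126364) (iv2 F126366)
def n81969 : Q := act 0 n37539
theorem D81969 : act 0 n37539 = n81969 := rfl
theorem F126378 : act 5 n81969 = n45717 := d17_1 D81969 F72105 D46980 F74197 (iv5 D36868) D36865 F72245 (iv0 D45773) (iv4 F58434)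
theorem F126379 : act 3 n81969 = n45719 := d20_5 (iv4 F17201) (iv1 F16665) (iv4 F29184) D37539 D81969 F75474 (iv1 D45052) F33833 (iv3 D18005) (iv1 F17200)
theorem F126380 : act 1 n47001 = n81969 := d15_0 (iv0 D81969) (iv7 F60865) (iv2 F74221)
theorem F126381 : act 7 n46522 = n81969 := d8_0 F126379 F72112 (iv3 F73519)
def n81970 : Q := act 1 n37539
theorem D81970 : act 1 n37539 = n81970 := rfl
theorem F126382 : act 5 n81970 = n46521 := d18_9 (iv1 F73518) F70580 (iv1 D44916) F33672 D23342 (iv4 F72242) (iv0 D45773) (iv4 F58434) D81970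
theorem F126383 : act 3 n72591 = n81970 := d20_3 (iv4 F55667) D76679 F115029 (iv1 D81970) (iv3 D37539) F29184 (iv1 F27376) F27377 (iv3 F35062) F35064
theorem F126384 : act 0 n47001 = n81970 := d20_4 (iv4 D45907) (iv1 F54807) (iv4 F54814) D47001 (iv3 F126383) (iv4 F115029) (iv1 F115030) (iv4 D46261) (iv3 F72912) F72914
theorem F126385 : act 2 n46522 = n81970 := d15_3 (iv0 F126384) F126380 (iv7 F126381)
def n81971 : Q := act 2 n37539
theorem D81971 : act 2 n37539 = n81971 := rfl
theorem F126386 : act 3 n81971 = n45853 := d0_2 D37539 D81971 (iv2 D45853) (iv3 D21932) F29186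
theorem F126387 : act 4 n81971 = n45775 := d1_2 (iv4 F58434) D81971 (iv2 D45775)
theorem F126388 : act 7 n81971 = n47001 := d4_2 F60865 D81971 F74221
theorem F126389 : act 1 n81971 = n46522 := d15_0 (iv0 F73520) F60865 D81971
def n81972 : Q := act 6 n37539
theorem D81972 : act 6 n37539 = n81972 := rfl
theorem F126391 : act 4 n81972 = n45777 := d10_1 D81972 (iv6 D45777) (iv4 F58434)
def n81973 : Q := act 5 n37540
theorem D81973 : act 5 n37540 = n81973 := rfl
theorem F126392 : act 2 n81973 = n45858 := d2_1 D81973 (iv5 D45858) (iv2 F58435)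
def n81974 : Q := act 5 n37541
theorem D81974 : act 5 n37541 = n81974 := rfl
def n81975 : Q := act 3 n37542
theorem D81975 : act 3 n37542 = n81975 := rfl
def n81976 : Q := act 5 n37542
theorem D81976 : act 5 n37542 = n81976 := rfl
def n81977 : Q := act 6 n37542
theorem D81977 : act 6 n37542 = n81977 := rfl
theorem F126393 : act 4 n81977 = n77314 := d10_1 D81977 (iv6 F116118) (iv4 F117323)
def n81978 : Q := act 3 n37543
theorem D81978 : act 3 n37543 = n81978 := rfl
def n81979 : Q := act 5 n37543
theorem D81979 : act 5 n37543 = n81979 := rfl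
def n81980 : Q := act 6 n37543
theorem D81980 : act 6 n37543 = n81980 := rfl
theorem F126394 : act 4 n81980 = n77339 := d10_1 D81980 (iv6 D77339) (iv4 F117322)
def n81981 : Q := act 0 n37544
theorem D81981 : act 0 n37544 = n81981 := rfl
def n81982 : Q := act 1 n37544
theorem D81982 : act 1 n37544 = n81982 := rfl
theorem F126395 : act 5 n81877 = n81982 := d21_6 (iv5 F34384) (iv1 F34385) (iv5 D17996) D17997 D37485 D81877 (iv1 D81982) (iv5 D37544) (iv6 D18016) D18014
def n81983 : Q := act 4 n37544
theorem D81983 : act 4 n37544 = n81983 := rfl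
def n81984 : Q := act 7 n37544
theorem D81984 : act 7 n37544 = n81984 := rfl
theorem F126396 : act 5 n81984 = n37545 := d13_1 D81984 (iv7 D37545) D37544
def n81985 : Q := act 3 n37548
theorem D81985 : act 3 n37548 = n81985 := rfl
def n81986 : Q := act 5 n37548
theorem D81986 : act 5 n37548 = n81986 := rfl
theorem F126397 : act 2 n81986 = n76925 := d2_1 D81986 (iv5 D76925) (iv2 F117328)
def n81987 : Q := act 4 n37549
theorem D81987 : act 4 n37549 = n81987 := rfl
theorem F126398 : act 2 n81987 = n76928 := d1_1 D81987 (iv4 D76928) (iv2 F117332)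
def n81988 : Q := act 4 n37556
theorem D81988 : act 4 n37556 = n81988 := rfl
theorem F126399 : act 2 n81988 = n76952 := d1_1 D81988 (iv4 D76952) (iv2 F124347)
def n81989 : Q := act 5 n37556
theorem D81989 : act 5 n37556 = n81989 := rfl
theorem F126402 : act 7 n81989 = n56632 := d13_2 (iv7 F124349) D81989 F89690
theorem F126403 : act 0 n81989 = n58027 := d21_1 D81989 (iv5 F91794) (iv6 D39184) (iv1 D18587) F13634 (iv5 D7794) D7792 D16704 (iv6 F29191) D37556
theorem F126404 : act 6 n81989 = n81889 := d21_3 D18019 D37556 D81989 (iv1 F125906) F58500 D39094 (iv1 F117559) F92007 (iv6 D34796) F117286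
theorem F126405 : act 0 n57964 = n81989 := d21_10 (iv5 D81989) (iv1 F89698) F89694 F117242 (iv1 D16838) D16842 D34772 (iv1 F117408) (iv5 D57963) D57964
def n81990 : Q := act 6 n37556
theorem D81990 : act 6 n37556 = n81990 := rfl
theorem F126407 : act 5 n81990 = n37686 := d12_1 D81990 (iv6 F126305) (iv5 F126303) (iv6 F126404) (iv5 D81989)
theorem F126408 : act 0 n81990 = n58035 := d21_4 (iv5 F117432) F126405 (iv5 D81989) D81990 (iv6 D58035) F117449 (iv1 D34771) D34772 (iv6 F55861) D76926
def n81991 : Q := act 0 n37558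
theorem D81991 : act 0 n37558 = n81991 := rfl
def n81992 : Q := act 1 n37558
theorem D81992 : act 1 n37558 = n81992 := rfl
def n81993 : Q := act 3 n37558
theorem D81993 : act 3 n37558 = n81993 := rfl
theorem F126411 : act 6 n81993 = n75206 := d7_2 (iv6 F58443) D81993 (iv3 D75206)
def n81994 : Q := act 5 n37558
theorem D81994 : act 5 n37558 = n81994 := rfl
def n81995 : Q := act 7 n37558
theorem D81995 : act 7 n37558 = n81995 := rfl
theorem F126412 : act 4 n81995 = n37559 := d11_1 D81995 (iv7 D37559) D37558
def n81996 : Q := act 0 n37560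
theorem D81996 : act 0 n37560 = n81996 := rfl
theorem F126413 : act 5 n81996 = n55617 := d17_1 D81996 (iv1 F106455) F106453 (iv4 D41127) (iv5 F31389) D41675 F64302 (iv0 D37566) (iv4 F58445)
theorem F126414 : act 4 n81996 = n45993 := d18_1 D81996 (iv1 F73764) (iv4 F108876) F108874 (iv4 D68902) F51678 D70291 F106736 F105081
theorem F126415 : act 2 n45997 = n81996 := d15_3 (iv0 D81996) (iv0 F73832) F73831
theorem F126416 : act 1 n47128 = n81996 := d15_0 (iv0 D81996) (iv7 F89655) (iv2 F89656)
def n81997 : Q := act 6 n37560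
theorem D81997 : act 6 n37560 = n81997 := rfl
theorem F126417 : act 3 n81997 = n37562 := d7_1 D81997 (iv6 D37562) D37560
theorem F126418 : act 4 n81997 = n37568 := d10_1 D81997 (iv6 D37568) (iv4 F58445)
def n81998 : Q := act 6 n37561
theorem D81998 : act 6 n37561 = n81998 := rfl
def n81999 : Q := act 5 n37562
theorem D81999 : act 5 n37562 = n81999 := rfl
def n82000 : Q := act 3 n37566
theorem D82000 : act 3 n37566 = n82000 := rfl
theorem F126419 : act 2 n82000 = n47081 := d0_1 D82000 (iv3 D47081) F51856 (iv3 F62310) F62315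
theorem F126420 : act 4 n82000 = n46864 := d5_2 F108879 D82000 F74078 (iv4 F108790) (iv3 F108878)
theorem F126421 : act 7 n82000 = n72592 := d8_2 F62317 D82000 F109122
theorem F126422 : act 1 n72591 = n82000 := d15_1 D72591 F126421 (iv2 D72592)
theorem F126423 : act 0 n46531 = n82000 := d18_0 F126420 (iv1 F74076) F44238 F34697 (iv4 F68075) F68078 (iv4 F73523) (iv0 D46530) D46531
def n82001 : Q := act 6 n37566
theorem D82001 : act 6 n37566 = n82001 := rfl
def n82002 : Q := act 6 n37567
theorem D82002 : act 6 n37567 = n82002 := rfl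
theorem F126424 : act 3 n82002 = n47083 := d7_1 D82002 (iv6 D47083) F58452
def n82003 : Q := act 0 n37568
theorem D82003 : act 0 n37568 = n82003 := rfl
def n82004 : Q := act 1 n37568
theorem D82004 : act 1 n37568 = n82004 := rfl
def n82005 : Q := act 5 n37568
theorem D82005 : act 5 n37568 = n82005 := rfl
theorem F126425 : act 3 n82005 = n37572 := d6_1 D82005 (iv5 D37572) (iv3 F58453)
def n82006 : Q := act 0 n37569
theorem D82006 : act 0 n37569 = n82006 := rfl
def n82007 : Q := act 1 n37569
theorem D82007 : act 1 n37569 = n82007 := rfl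
theorem F126426 : act 1 n82007 = n42755 := d15_1 D82007 F66993 (iv2 F58454)
def n82008 : Q := act 5 n37569
theorem D82008 : act 5 n37569 = n82008 := rfl
theorem F126427 : act 2 n82008 = n46644 := d2_1 D82008 (iv5 D46644) (iv2 F58454)
theorem F126428 : act 6 n82008 = n37572 := d12_2 D37569 D82008 (iv5 D37572) (iv6 D18025) D18024
def n82009 : Q := act 7 n37569
theorem D82009 : act 7 n37569 = n82009 := rfl
theorem F126429 : act 2 n82009 = n42755 := d4_1 D82009 F66993 (iv2 F58454)
theorem F126430 : act 4 n82009 = n46695 := d11_1 D82009 (iv7 D46695) (iv4 F58455)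
theorem F126431 : act 1 n42755 = n82006 := d15_0 (iv0 D82006) D82009 F126429
theorem F126432 : act 1 n46643 = n82009 := d15_1 D46643 (iv7 D82009) F58454
theorem F126433 : act 4 n47012 = n82006 := d20_6 (iv4 D20074) F66041 F17245 (iv3 F17243) D22604 D47012 (iv1 F126431) F66991 F34953 (iv1 F65667)
theorem F126434 : act 0 n41104 = n47012 := d20_10 F126433 (iv1 F126431) F66991 F34953 (iv1 F65667) D42516 F65997 (iv1 F68094) (iv4 F74372) F74371
theorem F126435 : act 0 n47012 = n41108 := d20_1 (iv4 F126433) (iv4 F73360) F73359 (iv1 F34745) D22528 F62993 (iv1 F68395) F68139 F62307 D82006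
theorem F126436 : act 3 n46508 = n82006 := d20_5 (iv4 F62727) (iv1 F62617) F32422 (iv3 F34792) D46508 (iv4 F126433) F126435 (iv4 F73360) F73359 (iv1 F34745)
theorem F126437 : act 1 n82009 = n46642 := d15_0 (iv0 D46642) (iv7 F66993) (iv2 F126429)
def n82010 : Q := act 5 n37570
theorem D82010 : act 5 n37570 = n82010 := rfl
def n82011 : Q := act 6 n37570
theorem D82011 : act 6 n37570 = n82011 := rfl
def n82012 : Q := act 3 n37571
theorem D82012 : act 3 n37571 = n82012 := rfl
theorem F126438 : act 4 n82012 = n77316 := d5_2 (iv4 F117261) D82012 (iv3 D77316) (iv4 D35291) D35290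
def n82013 : Q := act 5 n37571
theorem D82013 : act 5 n37571 = n82013 := rfl
def n82014 : Q := act 6 n37571
theorem D82014 : act 6 n37571 = n82014 := rfl
theorem F126439 : act 4 n82014 = n77315 := d10_1 D82014 (iv6 D77315) (iv4 F117261)
theorem F126440 : act 0 n37627 = n82014 := d20_1 (iv4 F58481) F126439 F116119 (iv1 F118522) F57921 (iv4 F51770) (iv1 F51966) F51967 (iv3 F54986) (iv1 F117359)
def n82015 : Q := act 0 n37572
theorem D82015 : act 0 n37572 = n82015 := rfl
def n82016 : Q := act 1 n37572
theorem D82016 : act 1 n37572 = n82016 := rfl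
theorem F126441 : act 5 n82016 = n81839 := d17_7 (iv1 F44957) (iv5 D18785) (iv1 F117172) F21753 (iv4 F29197) D37572 D82016 (iv0 F125791) (iv4 D58513)
def n82017 : Q := act 4 n37572
theorem D82017 : act 4 n37572 = n82017 := rfl
def n82018 : Q := act 0 n37583
theorem D82018 : act 0 n37583 = n82018 := rfl
def n82019 : Q := act 1 n37583
theorem D82019 : act 1 n37583 = n82019 := rfl
def n82020 : Q := act 5 n37583
theorem D82020 : act 5 n37583 = n82020 := rfl
theorem F126442 : act 3 n82020 = n37586 := d6_1 D82020 (iv5 D37586) (iv3 F58459)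
def n82021 : Q := act 7 n37583
theorem D82021 : act 7 n37583 = n82021 := rfl
theorem F126443 : act 3 n82021 = n37587 := d8_1 D82021 (iv7 D37587) (iv3 F58459)
def n82022 : Q := act 0 n37586
theorem D82022 : act 0 n37586 = n82022 := rfl
def n82023 : Q := act 1 n37586
theorem D82023 : act 1 n37586 = n82023 := rfl
theorem F126444 : act 5 n58643 = n82023 := d21_6 F21756 (iv1 D10488) F13630 D18569 (iv1 F125917) D58643 (iv1 D82023) (iv5 D37586) (iv6 D18030) (iv1 F21758)
def n82024 : Q := act 4 n37586
theorem D82024 : act 4 n37586 = n82024 := rfl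
def n82025 : Q := act 7 n37586
theorem D82025 : act 7 n37586 = n82025 := rfl
def n82026 : Q := act 1 n37590
theorem D82026 : act 1 n37590 = n82026 := rfl
theorem F126446 : act 5 n39696 = n82026 := d21_6 D8509 D18032 F29199 D18568 (iv1 F91156) (iv6 F60570) (iv1 D82026) (iv5 D37590) (iv6 D18031) (iv1 D8508)
def n82027 : Q := act 4 n37590
theorem D82027 : act 4 n37590 = n82027 := rfl
def n82028 : Q := act 0 n37592
theorem D82028 : act 0 n37592 = n82028 := rfl
def n82029 : Q := act 5 n37592
theorem D82029 : act 5 n37592 = n82029 := rfl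
theorem F126448 : act 2 n82029 = n41526 := d2_1 D82029 (iv5 D41526) (iv2 F58461)
theorem F126449 : act 3 n82029 = n46271 := d6_1 D82029 (iv5 D46271) (iv3 F58462)
theorem F126450 : act 6 n82029 = n39108 := d12_2 D37592 D82029 (iv5 D39108) (iv6 D18568) (iv5 F29199)
def n82030 : Q := act 7 n37592
theorem D82030 : act 7 n37592 = n82030 := rfl
theorem F126451 : act 2 n82030 = n41527 := d4_1 D82030 (iv7 D41527) (iv2 F58461)
theorem F126452 : act 3 n82030 = n46272 := d8_1 D82030 (iv7 D46272) (iv3 F58462)
theorem F126453 : act 4 n82030 = n81874 := d11_1 D82030 (iv7 D81874) (iv4 F58463)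
theorem F126454 : act 6 n82030 = n46034 := d14_1 D82030 (iv7 D46034) (iv6 D21995) (iv7 F29203) D37592
theorem E13737 : n82028 = n46037 := ((c15_1 (iv0 F72624) (iv0 D82028) D82030 F126451)).symm
theorem F126455 : act 1 n46037 = n37592 := (sb E13737 (iv0 D82028))
theorem F126456 : act 1 n41525 = n82030 := d15_1 D41525 (iv7 D82030) F58461
theorem F126457 : act 1 n82030 = n41524 := d15_0 (iv0 D41524) D41527 (iv2 F126451)
def n82031 : Q := act 2 n37593
theorem D82031 : act 2 n37593 = n82031 := rfl
theorem F126458 : act 7 n37594 = n82031 := d15_2 (iv0 D37593) D37594 (iv2 D82031)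
def n82032 : Q := act 3 n37593
theorem D82032 : act 3 n37593 = n82032 := rfl
def n82033 : Q := act 4 n37593
theorem D82033 : act 4 n37593 = n82033 := rfl
def n82034 : Q := act 5 n37593
theorem D82034 : act 5 n37593 = n82034 := rfl
def n82035 : Q := act 6 n37593
theorem D82035 : act 6 n37593 = n82035 := rfl
def n82036 : Q := act 7 n37593
theorem D82036 : act 7 n37593 = n82036 := rfl
theorem F126459 : act 2 n82036 = n37594 := d4_1 D82036 F126458 (iv2 D82031)
def n82037 : Q := act 3 n37594
theorem D82037 : act 3 n37594 = n82037 := rfl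
def n82038 : Q := act 4 n37594
theorem D82038 : act 4 n37594 = n82038 := rfl
def n82039 : Q := act 5 n37594
theorem D82039 : act 5 n37594 = n82039 := rfl
def n82040 : Q := act 6 n37594
theorem D82040 : act 6 n37594 = n82040 := rfl
def n82041 : Q := act 0 n37595
theorem D82041 : act 0 n37595 = n82041 := rfl
def n82042 : Q := act 1 n37595
theorem D82042 : act 1 n37595 = n82042 := rfl
def n82044 : Q := act 7 n37595
theorem D82044 : act 7 n37595 = n82044 := rfl
theorem F126461 : act 5 n82044 = n37596 := d13_1 D82044 (iv7 D37596) D37595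
def n82045 : Q := act 0 n37598
theorem D82045 : act 0 n37598 = n82045 := rfl
def n82046 : Q := act 1 n37598
theorem D82046 : act 1 n37598 = n82046 := rfl
def n82047 : Q := act 2 n37598
theorem D82047 : act 2 n37598 = n82047 := rfl
def n82049 : Q := act 6 n37598
theorem D82049 : act 6 n37598 = n82049 := rfl
theorem F126463 : act 3 n82049 = n37601 := d7_1 D82049 (iv6 D37601) D37598
def n82050 : Q := act 5 n37599
theorem D82050 : act 5 n37599 = n82050 := rfl
theorem F126464 : act 2 n82050 = n56465 := d2_1 D82050 (iv5 D56465) (iv2 F91567)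
def n82051 : Q := act 6 n37599
theorem D82051 : act 6 n37599 = n82051 := rfl
theorem F126465 : act 2 n82051 = n56466 := d3_1 D82051 (iv6 D56466) (iv2 F91567)
theorem F126466 : act 4 n82051 = n37601 := d10_1 D82051 (iv6 D37601) D37599
def n82052 : Q := act 0 n37600
theorem D82052 : act 0 n37600 = n82052 := rfl
theorem F126467 : act 5 n82052 = n81887 := d17_3 D18034 D37600 D82052 F125903 (iv5 F58485) (iv0 D37629) (iv5 D18041) (iv0 D8511) (iv4 F13280)
theorem F126468 : act 1 n37605 = n82052 := d15_0 (iv0 D82052) (iv7 F126284) F126283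
def n82053 : Q := act 1 n37600
theorem D82053 : act 1 n37600 = n82053 := rfl
theorem F126469 : act 1 n82053 = n37605 := d15_1 D82053 (iv7 F126281) F126280
def n82055 : Q := act 6 n37600
theorem D82055 : act 6 n37600 = n82055 := rfl
def n82056 : Q := act 0 n37601
theorem D82056 : act 0 n37601 = n82056 := rfl
def n82057 : Q := act 1 n37601
theorem D82057 : act 1 n37601 = n82057 := rfl
def n82058 : Q := act 5 n37601
theorem D82058 : act 5 n37601 = n82058 := rfl
theorem F126470 : act 2 n82058 = n57984 := d2_1 D82058 (iv5 F114080) (iv2 F114079)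
theorem F126471 : act 0 n82058 = n57955 := d21_7 (iv5 F13630) F13279 (iv5 D8509) D8510 D18034 D37601 D82058 (iv5 D57955) (iv6 D27652) F21989
theorem E13738 : n82057 = n76094 := (c17_9 (iv1 F117359) D37636 F58491 (iv5 D27655) (iv4 F44577) D57955 (iv0 F126471) (iv5 D82058) D82057 F114081)
theorem F126472 : act 0 n76094 = n37601 := (sb E13738 (iv1 D82057))
theorem E13739 : n82056 = n76075 := ((c15_4 (iv0 D82056) (iv0 F126472) (iv7 D76094) (iv2 F114058))).symm
theorem F126473 : act 1 n76075 = n37601 := (sb E13739 (iv0 D82056))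
theorem F126474 : act 1 n82058 = n57986 := d15_1 (iv0 F126471) (iv7 D57986) (iv2 F91692)
def n82059 : Q := act 7 n37601
theorem D82059 : act 7 n37601 = n82059 := rfl
def n82060 : Q := act 0 n37603
theorem D82060 : act 0 n37603 = n82060 := rfl
def n82061 : Q := act 1 n37603
theorem D82061 : act 1 n37603 = n82061 := rfl
def n82062 : Q := act 2 n37603
theorem D82062 : act 2 n37603 = n82062 := rfl
def n82063 : Q := act 4 n37603
theorem D82063 : act 4 n37603 = n82063 := rfl
theorem F126475 : act 3 n82063 = n37977 := d5_1 D82063 F118207 (iv3 F58467) (iv4 D37604) D37603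
def n82064 : Q := act 5 n37603
theorem D82064 : act 5 n37603 = n82064 := rfl
def n82065 : Q := act 6 n37603
theorem D82065 : act 6 n37603 = n82065 := rfl
theorem F126478 : act 3 n82065 = n37606 := d7_1 D82065 (iv6 D37606) D37603
def n82066 : Q := act 5 n37604
theorem D82066 : act 5 n37604 = n82066 := rfl
theorem F126480 : act 7 n82066 = n56465 := d13_2 (iv7 F91515) D82066 (iv5 D56465)
theorem F126481 : act 6 n56497 = n82066 := d21_5 (iv5 D18053) F17611 D21939 (iv6 F72436) F126330 (iv5 D82066) F118209 D40004 F60874 F30200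
def n82067 : Q := act 6 n37604
theorem D82067 : act 6 n37604 = n82067 := rfl
theorem F126482 : act 3 n82067 = n56424 := d7_1 D82067 (iv6 D56424) (iv3 F58467)
theorem F126483 : act 4 n82067 = n37606 := d10_1 D82067 (iv6 D37606) D37604
theorem F126484 : act 0 n37606 = n55573 := d20_7 (iv4 F60348) F60352 F42954 (iv3 F91223) F91287 (iv3 F126482) F126483 (iv4 D55573) F43114 F30014
theorem F126485 : act 1 n82067 = n80163 := d18_8 (iv1 D36510) (iv4 F29198) F91443 (iv4 D26824) D26825 D55573 (iv0 F126484) (iv4 F126483) (iv5 D80163)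
def n82069 : Q := act 6 n37605
theorem D82069 : act 6 n37605 = n82069 := rfl
def n82070 : Q := act 2 n37607
theorem D82070 : act 2 n37607 = n82070 := rfl
theorem F126486 : act 7 n37608 = n82070 := d15_2 (iv0 D37607) D37608 (iv2 D82070)
def n82071 : Q := act 3 n37607
theorem D82071 : act 3 n37607 = n82071 := rfl
def n82072 : Q := act 4 n37607
theorem D82072 : act 4 n37607 = n82072 := rfl
def n82073 : Q := act 5 n37607
theorem D82073 : act 5 n37607 = n82073 := rfl
theorem F126487 : act 1 n82073 = n39828 := d17_8 (iv1 F124306) (iv5 D37655) F58419 F58415 (iv4 F58402) (iv5 F126289) F126292 D82073 F60644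
theorem F126488 : act 6 n82073 = n58521 := d21_3 D18036 D37607 D82073 (iv1 F92445) F60570 D58499 (iv1 F92418) F92419 (iv6 D37606) (iv1 D18035)
def n82075 : Q := act 7 n37607
theorem D82075 : act 7 n37607 = n82075 := rfl
theorem F126489 : act 2 n82075 = n37608 := d4_1 D82075 F126486 (iv2 D82070)
def n82076 : Q := act 3 n37608
theorem D82076 : act 3 n37608 = n82076 := rfl
def n82077 : Q := act 4 n37608
theorem D82077 : act 4 n37608 = n82077 := rfl
def n82078 : Q := act 5 n37608
theorem D82078 : act 5 n37608 = n82078 := rfl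
theorem F126490 : act 6 n82078 = n39087 := d21_3 (iv5 F126289) (iv1 F126291) D82078 F60093 (iv6 F44604) (iv5 F91741) (iv1 F126474) (iv5 D82058) (iv6 D37601) (iv1 F58404)
theorem F126491 : act 2 n39123 = n82078 := d3_3 F126490 F91558 D39123
theorem F126492 : act 4 n56102 = n82078 := d10_3 F126490 F60092 D56102
theorem F126493 : act 0 n82078 = n39828 := d20_7 F42745 (iv1 F53094) (iv4 F53075) (iv3 F125957) (iv1 D56116) (iv3 F88767) F126492 F60644 F30095 F29712
theorem E13740 : n82075 = n81938 := (c2_4 (iv5 F126286) F126491 (iv5 D82078) (iv2 F126489))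
theorem F126494 : act 2 n81938 = n37608 := (sb E13740 F126489)
theorem F126495 : act 7 n81938 = n37607 := (sb E13740 (iv7 D82075))
theorem F126496 : act 7 n82073 = n39123 := d13_2 F126495 D82073 F126286
theorem E13741 : n82070 = n81937 := (c15_4 (iv0 D81937) D81938 F126495 D82070)
theorem F126497 : act 2 n81937 = n37607 := (sb E13741 (iv2 D82070))
theorem F126498 : act 7 n81937 = n37608 := (sb E13741 (iv7 F126486))
def n82079 : Q := act 6 n37608
theorem D82079 : act 6 n37608 = n82079 := rfl
def n82086 : Q := act 0 n37620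
theorem D82086 : act 0 n37620 = n82086 := rfl
theorem F126500 : act 5 n82086 = n57900 := d17_3 F120706 D37620 D82086 (iv4 F121942) (iv5 F124553) (iv0 D80840) (iv5 D36917) (iv0 F120728) F57744
def n82087 : Q := act 1 n37620
theorem D82087 : act 1 n37620 = n82087 := rfl
def n82089 : Q := act 6 n37620
theorem D82089 : act 6 n37620 = n82089 := rfl
def n82090 : Q := act 0 n37621
theorem D82090 : act 0 n37621 = n82090 := rfl
def n82091 : Q := act 1 n37621
theorem D82091 : act 1 n37621 = n82091 := rfl
def n82092 : Q := act 5 n37621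
theorem D82092 : act 5 n37621 = n82092 := rfl
theorem F126504 : act 3 n82092 = n37636 := d6_1 D82092 (iv5 D37636) (iv3 F58478)
theorem F126505 : act 7 n82092 = n58029 := d13_2 (iv7 F117547) D82092 (iv5 F117447)
theorem F126506 : act 0 n82092 = n57211 := d21_7 (iv5 D8278) F5834 D8573 D18181 F120706 D37621 D82092 (iv5 D57211) (iv6 D27408) (iv1 F21897)
theorem F126507 : act 4 n82091 = n80844 := d17_9 (iv1 D80844) D80845 F124557 (iv5 D79282) F56832 D57211 (iv0 F126506) (iv5 D82092) D82091
theorem F126508 : act 7 n77429 = n82091 := d11_0 F126507 F124556 F120416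
theorem E13742 : n82090 = n55506 := ((c15_4 (iv0 D82090) D82091 (iv7 F126508) F117610)).symm
theorem F126509 : act 1 n55506 = n37621 := (sb E13742 (iv0 D82090))
theorem F126510 : act 4 n82092 = n55772 := d20_6 (iv4 F41956) (iv1 F44706) F44704 (iv3 F44609) F58492 (iv3 F126504) (iv1 D55772) (iv4 D26915) F21378 D12894
def n82093 : Q := act 3 n37623
theorem D82093 : act 3 n37623 = n82093 := rfl
def n82095 : Q := act 0 n37625
theorem D82095 : act 0 n37625 = n82095 := rfl
def n82096 : Q := act 1 n37625
theorem D82096 : act 1 n37625 = n82096 := rfl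
def n82097 : Q := act 2 n37625
theorem D82097 : act 2 n37625 = n82097 := rfl
def n82098 : Q := act 5 n37625
theorem D82098 : act 5 n37625 = n82098 := rfl
def n82099 : Q := act 6 n37625
theorem D82099 : act 6 n37625 = n82099 := rfl
theorem F126512 : act 3 n82099 = n37627 := d7_1 D82099 (iv6 D37627) D37625
def n82100 : Q := act 0 n37626
theorem D82100 : act 0 n37626 = n82100 := rfl
theorem F126513 : act 5 n82100 = n81880 := d21_2 D37626 D82100 (iv6 D81880) (iv1 D37486) (iv6 D17997) D17996 F34387 F34386 D37541 F118233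
theorem F126514 : act 1 n37646 = n82100 := d15_0 (iv0 D82100) (iv7 F126314) F126313
theorem F126515 : act 1 n81880 = n39149 := d17_8 (iv1 F117443) (iv5 F58485) (iv1 F58489) (iv5 D18046) D18045 D37646 F126514 F126513 F60147
def n82101 : Q := act 1 n37626
theorem D82101 : act 1 n37626 = n82101 := rfl
theorem F126516 : act 1 n82101 = n37646 := d15_1 D82101 (iv7 F126300) F126299
def n82104 : Q := act 1 n37627
theorem D82104 : act 1 n37627 = n82104 := rfl
def n82105 : Q := act 5 n37627
theorem D82105 : act 5 n37627 = n82105 := rfl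
theorem F126517 : act 0 n82105 = n81834 := d21_7 D17996 F34387 F34386 D37541 F118233 D37627 D82105 (iv5 D81834) (iv6 D37456) (iv1 F29152)
def n82107 : Q := act 6 n37629
theorem D82107 : act 6 n37629 = n82107 := rfl
theorem F126518 : act 2 n82107 = n78812 := d3_1 D82107 F119962 F124325
def n82109 : Q := act 0 n37631
theorem D82109 : act 0 n37631 = n82109 := rfl
theorem F126523 : act 1 n37648 = n82109 := d15_0 (iv0 D82109) (iv7 F126317) F126315
def n82114 : Q := act 0 n37632
theorem D82114 : act 0 n37632 = n82114 := rfl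
theorem F126526 : act 5 n82114 = n75221 := d21_0 (iv1 D75221) F54646 (iv6 D18061) F17005 (iv6 F13282) (iv5 D8513) D8511 D18041 D37632 D82114
theorem F126528 : act 1 n37660 = n82114 := d15_0 (iv0 D82114) (iv7 F126325) F126323
theorem F126529 : act 7 n82114 = n82107 := d15_2 (iv0 F126306) F126528 F126518
theorem F126530 : act 6 n37673 = n82114 := d14_5 F126529 (iv6 D82107) (iv7 F126302) F126305 F125229
def n82116 : Q := act 4 n37636
theorem D82116 : act 4 n37636 = n82116 := rfl
theorem F126535 : act 2 n82116 = n58034 := d1_1 D82116 (iv4 D58034) (iv2 F117472)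
theorem F126536 : act 7 n82116 = n58030 := d11_2 (iv7 F117473) D82116 (iv4 D58030)
def n82117 : Q := act 3 n37642
theorem D82117 : act 3 n37642 = n82117 := rfl
theorem F126537 : act 4 n82117 = n37645 := d5_2 D37642 D82117 (iv3 D37645) (iv4 D18045) D18044
def n82119 : Q := act 6 n37642
theorem D82119 : act 6 n37642 = n82119 := rfl
theorem F126538 : act 4 n82119 = n37644 := d10_1 D82119 (iv6 D37644) D37642
theorem F126539 : act 0 n77149 = n82119 := d20_1 (iv4 F115862) F126538 F58495 (iv1 F117179) F43114 D26832 (iv1 F57134) (iv4 D36378) (iv3 F57103) F120886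
def n82120 : Q := act 0 n37643
theorem D82120 : act 0 n37643 = n82120 := rfl
def n82123 : Q := act 0 n37644
theorem D82123 : act 0 n37644 = n82123 := rfl
def n82124 : Q := act 1 n37644
theorem D82124 : act 1 n37644 = n82124 := rfl
def n82125 : Q := act 0 n37645
theorem D82125 : act 0 n37645 = n82125 := rfl
def n82126 : Q := act 1 n37645
theorem D82126 : act 1 n37645 = n82126 := rfl
def n82127 : Q := act 2 n37645
theorem D82127 : act 2 n37645 = n82127 := rfl
def n82129 : Q := act 6 n37645
theorem D82129 : act 6 n37645 = n82129 := rfl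
def n82131 : Q := act 6 n37646
theorem D82131 : act 6 n37646 = n82131 := rfl
def n82132 : Q := act 0 n37647
theorem D82132 : act 0 n37647 = n82132 := rfl
def n82134 : Q := act 5 n37647
theorem D82134 : act 5 n37647 = n82134 := rfl
theorem F126542 : act 1 n82134 = n81838 := d17_6 F117175 D27838 (iv1 F44950) (iv5 F117173) (iv4 F58496) D82134 (iv5 D81838) (iv0 D37458) F29154
def n82137 : Q := act 0 n37653
theorem D82137 : act 0 n37653 = n82137 := rfl
def n82138 : Q := act 5 n37653
theorem D82138 : act 5 n37653 = n82138 := rfl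
theorem F126545 : act 7 n82138 = n39143 := d13_2 (iv7 F121018) D82138 F121016
def n82139 : Q := act 0 n37654
theorem D82139 : act 0 n37654 = n82139 := rfl
theorem F126546 : act 1 n37658 = n82139 := d15_0 (iv0 D82139) (iv7 F126322) F126321
def n82140 : Q := act 1 n37654
theorem D82140 : act 1 n37654 = n82140 := rfl
theorem F126547 : act 1 n82140 = n37658 := d15_1 D82140 (iv7 F126320) F126318
theorem F126548 : act 4 n45873 = n82140 := d18_5 (iv1 F29178) D18045 (iv1 F118234) F58437 D45873 F126547 (iv4 D37658) F58418 F58415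
theorem F126549 : act 0 n75398 = n37657 := d20_4 (iv4 F118476) (iv1 F113236) F113232 (iv3 F113147) (iv3 D37657) D37658 (iv1 F126547) (iv4 F126548) F72435 D45984
theorem F126550 : act 1 n75375 = n37657 := d15_0 (iv0 F126549) (iv7 D75398) (iv2 F113120)
theorem F126551 : act 6 n82140 = n37669 := d10_2 (iv6 F72436) F126548 F58511
theorem E13743 : n82137 = n57075 := (c20_11 (iv4 F124598) (iv1 F124599) (iv4 D36949) D36948 F118462 (iv3 F72435) F126548 (iv1 D82140) (iv4 D37654) D37653 D82137)
theorem F126552 : act 1 n57075 = n37653 := (sb E13743 (iv0 D82137))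
def n82143 : Q := act 4 n37655
theorem D82143 : act 4 n37655 = n82143 := rfl
theorem F126553 : act 6 n82143 = n58513 := d10_2 (iv6 F117499) D82143 (iv4 D58513)
theorem F126554 : act 7 n82143 = n39149 := d11_2 (iv7 F117515) D82143 F60147
def n82146 : Q := act 5 n37657
theorem D82146 : act 5 n37657 = n82146 := rfl
theorem F126557 : act 6 n38153 = n82146 := d21_5 F13306 F12812 (iv5 F13515) D18240 D38153 (iv5 D82146) (iv1 F126550) (iv5 D75375) (iv6 D34502) (iv1 F27475)
def n82151 : Q := act 4 n37659
theorem D82151 : act 4 n37659 = n82151 := rfl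
theorem F126560 : act 2 n82151 = n39149 := d1_1 D82151 F60147 (iv2 F117495)
theorem F126561 : act 6 n82151 = n39093 := d10_2 (iv6 F58500) D82151 (iv4 D39093)
def n82152 : Q := act 5 n37660
theorem D82152 : act 5 n37660 = n82152 := rfl
theorem F126563 : act 6 n82152 = n39094 := d12_2 D37660 D82152 (iv5 D39094) (iv6 F58500) (iv5 D37659)
def n82153 : Q := act 2 n37661
theorem D82153 : act 2 n37661 = n82153 := rfl
theorem F126566 : act 7 n37662 = n82153 := d15_2 (iv0 D37661) D37662 (iv2 D82153)
def n82155 : Q := act 4 n37661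
theorem D82155 : act 4 n37661 = n82155 := rfl
theorem F126567 : act 1 n82155 = n40004 := d18_8 (iv1 F118213) (iv4 D37599) (iv1 F58404) F58402 (iv5 F58415) (iv4 F126335) F126338 D82155 (iv5 D40004)
def n82156 : Q := act 5 n37661
theorem D82156 : act 5 n37661 = n82156 := rfl
def n82157 : Q := act 6 n37661
theorem D82157 : act 6 n37661 = n82157 := rfl
def n82158 : Q := act 7 n37661
theorem D82158 : act 7 n37661 = n82158 := rfl
theorem F126568 : act 2 n82158 = n37662 := d4_1 D82158 F126566 (iv2 D82153)
def n82160 : Q := act 4 n37662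
theorem D82160 : act 4 n37662 = n82160 := rfl
theorem F126569 : act 3 n82160 = n56117 := d20_3 (iv4 F126335) (iv1 F126337) D82160 F88781 F43917 D36812 D80657 F124072 (iv3 D37653) F58419
theorem F126570 : act 5 n56102 = n82160 := d6_0 F126569 (iv5 D56117) (iv3 F88767)
theorem F126571 : act 7 n56497 = n82160 := d8_0 F126569 F91509 D56497
theorem E13744 : n82153 = n81952 := (c11_3 F126571 (iv4 D82160) F126566 F126328)
theorem F126572 : act 2 n81952 = n37661 := (sb E13744 (iv2 D82153))
theorem F126573 : act 7 n81952 = n37662 := (sb E13744 (iv7 F126566))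
theorem E13745 : n82158 = n81953 := (c15_4 F126331 (iv0 F126329) F126573 (iv2 F126568))
theorem F126574 : act 2 n81953 = n37662 := (sb E13745 F126568)
theorem F126575 : act 7 n81953 = n37661 := (sb E13745 (iv7 D82158))
theorem F126576 : act 2 n82155 = n56497 := d1_3 (iv4 F126328) F126572 D82155
theorem F126577 : act 1 n40004 = n82160 := d15_1 F126567 (iv7 F126571) (iv2 F126576)
def n82161 : Q := act 5 n37662
theorem D82161 : act 5 n37662 = n82161 := rfl
def n82162 : Q := act 6 n37662
theorem D82162 : act 6 n37662 = n82162 := rfl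
def n82173 : Q := act 0 n37666
theorem D82173 : act 0 n37666 = n82173 := rfl
def n82174 : Q := act 1 n37666
theorem D82174 : act 1 n37666 = n82174 := rfl
def n82175 : Q := act 7 n37666
theorem D82175 : act 7 n37666 = n82175 := rfl
theorem F126586 : act 3 n82175 = n37676 := d8_1 D82175 (iv7 D37676) (iv3 F58505)
theorem F126587 : act 4 n82175 = n80951 := d11_1 D82175 (iv7 D80951) (iv4 F58506)
theorem E13746 : n80941 = n80915 := (c20_8 (iv4 F29009) D37101 F67518 D37177 (iv1 F125226) (iv3 F126586) F126587 (iv1 F124698) (iv4 D80915) F121756 (iv1 D17854))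
theorem F126589 : act 0 n80915 = n36973 := (sb E13746 (iv1 D80941))
theorem F126590 : act 1 n80915 = n80951 := (sb E13746 F124698)
theorem E13747 : n80940 = n80913 := (c15_2 F126590 F124699 (iv7 F124673) F124672)
theorem F126591 : act 0 n80913 = n80951 := (sb E13747 (iv1 F124699))
theorem F126592 : act 1 n80913 = n36973 := (sb E13747 (iv0 D80940))
def n82176 : Q := act 0 n37667
theorem D82176 : act 0 n37667 = n82176 := rfl
def n82177 : Q := act 1 n37667
theorem D82177 : act 1 n37667 = n82177 := rfl
def n82178 : Q := act 7 n37667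
theorem D82178 : act 7 n37667 = n82178 := rfl
def n82179 : Q := act 3 n37668
theorem D82179 : act 3 n37668 = n82179 := rfl
theorem F126594 : act 4 n82179 = n40030 := d5_2 (iv4 F58507) D82179 (iv3 D40030) (iv4 D18924) (iv3 F30198)
theorem F126595 : act 7 n82179 = n82179 := d8_2 F58509 D82179 (iv3 D82179)
def n82180 : Q := act 5 n37668
theorem D82180 : act 5 n37668 = n82180 := rfl
def n82181 : Q := act 6 n37668
theorem D82181 : act 6 n37668 = n82181 := rfl
theorem F126600 : act 2 n82181 = n82140 := d3_1 D82181 F126551 (iv2 F58512)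
theorem F126601 : act 4 n82181 = n40004 := d10_1 D82181 F60874 (iv4 F58507)
theorem F126602 : act 0 n81950 = n82181 := d18_2 (iv1 F58410) D81950 F126601 (iv5 D40004) (iv4 F60872) F118260 (iv4 D37526) F29173 (iv5 F29210)
theorem F126603 : act 1 n81949 = n82181 := d15_0 (iv0 F126602) F126322 (iv2 F126318)
theorem F126604 : act 7 n82139 = n82181 := d15_2 F126547 F126546 F126600
def n82182 : Q := act 3 n37669
theorem D82182 : act 3 n37669 = n82182 := rfl
theorem F126606 : act 4 n82182 = n45987 := d5_2 (iv4 F58511) D82182 (iv3 D45987) (iv4 D21973) (iv3 F34443)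
theorem F126607 : act 7 n82182 = n82182 := d8_2 F58513 D82182 (iv3 D82182)
def n82190 : Q := act 0 n37672
theorem D82190 : act 0 n37672 = n82190 := rfl
def n82191 : Q := act 1 n37672
theorem D82191 : act 1 n37672 = n82191 := rfl
def n82193 : Q := act 7 n37672
theorem D82193 : act 7 n37672 = n82193 := rfl
theorem F126621 : act 4 n82193 = n37676 := d11_1 D82193 (iv7 D37676) (iv4 F58517)
def n82194 : Q := act 4 n37673
theorem D82194 : act 4 n37673 = n82194 := rfl
def n82195 : Q := act 5 n37673
theorem D82195 : act 5 n37673 = n82195 := rfl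
def n82197 : Q := act 5 n37677
theorem D82197 : act 5 n37677 = n82197 := rfl
theorem F126630 : act 2 n82197 = n75218 := d2_1 D82197 (iv5 D75218) (iv2 F58521)
theorem F126631 : act 7 n82197 = n75210 := d13_2 (iv7 F58522) D82197 (iv5 D75210)
theorem F126632 : act 0 n82197 = n81911 := d17_2 F119132 D82197 (iv5 D81911) F58391 F56023 (iv0 D17218) D17220 D35548 D77908
theorem F126633 : act 1 n82197 = n81908 := d17_6 F13797 (iv5 D8859) (iv1 F17001) D18056 D37677 D82197 (iv5 D81908) (iv0 D37507) (iv4 D18004)
def n82198 : Q := act 6 n37678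
theorem D82198 : act 6 n37678 = n82198 := rfl
theorem F126635 : act 3 n82198 = n56509 := d7_1 D82198 (iv6 D56509) (iv3 F58524)
theorem F126636 : act 5 n82198 = n77913 := d12_1 D82198 (iv6 D77913) (iv5 D35550) (iv6 F29226) D37678
def n82204 : Q := act 7 n37680
theorem D82204 : act 7 n37680 = n82204 := rfl
theorem F126644 : act 3 n82204 = n37687 := d8_1 D82204 (iv7 D37687) (iv3 F58531)
def n82205 : Q := act 0 n37681
theorem D82205 : act 0 n37681 = n82205 := rfl
def n82206 : Q := act 1 n37681
theorem D82206 : act 1 n37681 = n82206 := rfl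
def n82207 : Q := act 7 n37681
theorem D82207 : act 7 n37681 = n82207 := rfl
theorem F126647 : act 2 n82207 = n82178 := d4_1 D82207 (iv7 D82178) (iv2 F58532)
theorem F126648 : act 3 n82207 = n56515 := d8_1 D82207 (iv7 D56515) (iv3 F58533)
theorem F126649 : act 5 n82207 = n77912 := d13_1 D82207 (iv7 D77912) (iv5 F58534)
theorem F126651 : act 1 n82178 = n82205 := d15_0 (iv0 D82205) D82207 F126647
theorem F126652 : act 1 n82177 = n82207 := d15_1 D82177 (iv7 D82207) F58532
theorem F126653 : act 1 n82207 = n82176 := d15_0 (iv0 D82176) D82178 (iv2 F126647)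
def n82214 : Q := act 0 n37684
theorem D82214 : act 0 n37684 = n82214 := rfl
def n82215 : Q := act 1 n37684
theorem D82215 : act 1 n37684 = n82215 := rfl
theorem F126662 : act 1 n82215 = n82193 := d15_1 D82215 (iv7 D82193) (iv2 F58538)
theorem F126663 : act 4 n82215 = n81196 := d20_2 (iv4 F126621) (iv1 F126662) (iv3 D81196) (iv1 D37095) F29007 (iv4 F29009) D37101 F67518 D37177 (iv1 F125226)
def n82217 : Q := act 7 n37684
theorem D82217 : act 7 n37684 = n82217 := rfl
theorem F126665 : act 2 n82217 = n82193 := d4_1 D82217 (iv7 D82193) (iv2 F58538)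
theorem F126666 : act 4 n82217 = n37687 := d11_1 D82217 (iv7 D37687) (iv4 F58539)
theorem F126668 : act 1 n82193 = n82214 := d15_0 (iv0 D82214) D82217 F126665
theorem F126669 : act 1 n82191 = n82217 := d15_1 D82191 (iv7 D82217) F58538
theorem F126670 : act 1 n82217 = n82190 := d15_0 (iv0 D82190) D82193 (iv2 F126665)
def n82218 : Q := act 4 n37686
theorem D82218 : act 4 n37686 = n82218 := rfl
theorem F126671 : act 2 n82218 = n81399 := d1_1 D82218 (iv4 D81399) (iv2 F125228)
theorem F126672 : act 7 n82218 = n82194 := d11_2 (iv7 F125229) D82218 (iv4 D82194)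
theorem F126673 : act 0 n82218 = n37693 := d20_1 D82218 F58559 F58533 D56513 F126071 D80913 F126591 (iv4 F126587) F126586 (iv1 F58540)
def n82225 : Q := act 0 n37690
theorem D82225 : act 0 n37690 = n82225 := rfl
def n82226 : Q := act 1 n37690
theorem D82226 : act 1 n37690 = n82226 := rfl
def n82228 : Q := act 7 n37690
theorem D82228 : act 7 n37690 = n82228 := rfl
theorem F126681 : act 4 n82228 = n82178 := d11_1 D82228 (iv7 D82178) (iv4 F58551)
theorem F126683 : act 1 n82218 = n82228 := d15_1 (iv0 F126673) (iv7 D82228) (iv2 F58558)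
theorem F126684 : act 1 n82228 = n81416 := d15_1 F126683 F125220 (iv2 F126671)
def n82236 : Q := act 7 n37693
theorem D82236 : act 7 n37693 = n82236 := rfl
theorem F126695 : act 2 n82236 = n82228 := d4_1 D82236 (iv7 D82228) (iv2 F58558)
theorem F126696 : act 4 n82236 = n82207 := d11_1 D82236 (iv7 D82207) (iv4 F58559)
theorem F126698 : act 1 n82226 = n82236 := d15_1 D82226 (iv7 D82236) F58558
theorem E13748 : n82226 = n81399 := (c20_8 (iv4 F29034) (iv1 F92763) (iv4 D37106) D37105 (iv1 F126068) (iv3 F126648) (iv4 F126696) (iv1 F126698) (iv4 D81399) (iv3 D37169) (iv1 D17875))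
theorem F126699 : act 0 n81399 = n37690 := (sb E13748 (iv1 D82226))
theorem F126700 : act 1 n81399 = n82236 := (sb E13748 F126698)
theorem F126701 : act 1 n82236 = n82194 := d15_1 F126700 (iv7 F126672) F126671
theorem E13749 : n82225 = n82194 := ((c15_1 F126701 (iv0 D82225) D82228 (iv2 F126695))).symm
theorem F126702 : act 1 n82194 = n37690 := (sb E13749 (iv0 D82225))
def n82237 : Q := act 2 n37694
theorem D82237 : act 2 n37694 = n82237 := rfl
theorem F126703 : act 7 n37695 = n82237 := d15_2 (iv0 D37694) D37695 (iv2 D82237)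
theorem F126704 : act 4 n82237 = n81347 := d11_1 F126703 (iv7 D81347) F58560
def n82239 : Q := act 4 n37694
theorem D82239 : act 4 n37694 = n82239 := rfl
theorem F126705 : act 2 n82239 = n81347 := d1_1 D82239 (iv4 F126704) (iv2 D82237)
theorem F126706 : act 3 n81366 = n82239 := d0_0 F126705 F125168 F58102 D37157 D81366
theorem F126707 : act 7 n81344 = n82239 := d4_0 F126705 (iv7 D81347) D81344
theorem F126708 : act 1 n82239 = n81342 := d15_0 (iv0 D81342) D81347 (iv2 F126705)
theorem F126709 : act 1 n81343 = n82239 := d15_1 D81343 (iv7 F126707) (iv2 D81344)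
theorem F126710 : act 0 n81366 = n81289 := d20_10 F125108 (iv1 D81184) F58015 (iv3 D17851) F13202 D8542 (iv4 F29246) D37694 D82239 (iv3 F126706)
def n82243 : Q := act 3 n37695
theorem D82243 : act 3 n37695 = n82243 := rfl
def n82244 : Q := act 5 n37695
theorem D82244 : act 5 n37695 = n82244 := rfl
def n82246 : Q := act 5 n37696
theorem D82246 : act 5 n37696 = n82246 := rfl
theorem F126715 : act 2 n82246 = n37697 := d2_1 D82246 (iv5 D37697) D37696
theorem F126716 : act 7 n82246 = n82246 := d13_2 F58562 D82246 (iv5 D82246)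
def n82248 : Q := act 1 n37697
theorem D82248 : act 1 n37697 = n82248 := rfl
theorem F126718 : act 1 n82248 = n82246 := d15_1 D82248 F126716 F126715
def n82254 : Q := act 0 n37714
theorem D82254 : act 0 n37714 = n82254 := rfl
theorem F126722 : act 1 n38086 = n82254 := d15_0 (iv0 D82254) (iv7 F89879) F117965
def n82255 : Q := act 1 n37714
theorem D82255 : act 1 n37714 = n82255 := rfl
def n82256 : Q := act 4 n37714
theorem D82256 : act 4 n37714 = n82256 := rfl
def n82257 : Q := act 6 n37714
theorem D82257 : act 6 n37714 = n82257 := rfl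
def n82259 : Q := act 4 n37716
theorem D82259 : act 4 n37716 = n82259 := rfl
theorem F126726 : act 0 n82259 = n80859 := d18_2 D37716 D82259 (iv4 D80859) (iv5 D36934) F118012 F54751 F54748 F117913 D18076
def n82260 : Q := act 6 n37716
theorem D82260 : act 6 n37716 = n82260 := rfl
theorem F126730 : act 0 n56868 = n82260 := d21_4 F117950 (iv1 D38457) (iv5 F118007) D56868 (iv6 D82260) F117949 F59535 F59533 F54757 F117961
def n82261 : Q := act 3 n37717
theorem D82261 : act 3 n37717 = n82261 := rfl
theorem F126731 : act 6 n82261 = n81390 := d7_2 (iv6 F117951) D82261 (iv3 D81390)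
def n82262 : Q := act 4 n37717
theorem D82262 : act 4 n37717 = n82262 := rfl
def n82264 : Q := act 1 n37718
theorem D82264 : act 1 n37718 = n82264 := rfl
theorem F126736 : act 4 n82264 = n46214 := d18_7 (iv1 D10537) (iv4 F16733) F117930 (iv4 D18075) D18076 D37718 D82264 F72876 (iv5 D22115)
def n82265 : Q := act 3 n37718
theorem D82265 : act 3 n37718 = n82265 := rfl
theorem F126737 : act 4 n82265 = n37727 := d5_2 D37718 D82265 (iv3 D37727) (iv4 D18087) (iv3 F29257)
def n82266 : Q := act 5 n37718
theorem D82266 : act 5 n37718 = n82266 := rfl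
def n82267 : Q := act 6 n37718
theorem D82267 : act 6 n37718 = n82267 := rfl
theorem F126739 : act 4 n82267 = n37719 := d10_1 D82267 (iv6 D37719) D37718
def n82269 : Q := act 4 n37722
theorem D82269 : act 4 n37722 = n82269 := rfl
theorem F126744 : act 0 n80827 = n82269 := d20_7 D18103 (iv1 F57966) (iv4 D37021) (iv3 F121759) (iv1 D36921) (iv3 F57842) D80827 (iv4 D82269) (iv3 D37722) (iv1 F29269)
theorem F126745 : act 5 n79487 = n80826 := d18_9 (iv1 D80826) D80827 F126744 (iv4 D82269) F58576 (iv4 F92665) (iv0 F122074) F122072 D79487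
def n82270 : Q := act 6 n37722
theorem D82270 : act 6 n37722 = n82270 := rfl
theorem F126746 : act 3 n82270 = n37724 := d7_1 D82270 (iv6 D37724) D37722
theorem F126749 : act 0 n82270 = n45266 := d21_4 D45292 F126057 (iv5 F58576) D82270 (iv6 D45266) (iv5 D21589) (iv1 F33847) (iv5 F70943) F70944 (iv1 F70946)
def n82280 : Q := act 0 n37744
theorem D82280 : act 0 n37744 = n82280 := rfl
def n82281 : Q := act 1 n37744
theorem D82281 : act 1 n37744 = n82281 := rfl
theorem F126758 : act 5 n57788 = n82281 := d21_6 (iv5 D57765) (iv1 F90391) F90388 (iv6 F89934) (iv1 F89936) D57788 (iv1 D82281) (iv5 D37744) D37745 F121582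
def n82284 : Q := act 5 n37745
theorem D82284 : act 5 n37745 = n82284 := rfl
theorem F126759 : act 2 n82284 = n57740 := d2_1 D82284 F90918 (iv2 F121575)
theorem F126760 : act 7 n82284 = n57741 := d13_2 F113972 D82284 (iv5 F121584)
theorem F126761 : act 1 n82284 = n57299 := d17_6 D13135 D27442 F120567 F29993 (iv4 F58600) D82284 (iv5 D57299) (iv0 D27435) F21910
theorem F126762 : act 1 n57303 = n82284 := d15_0 F126761 F90425 (iv2 F90458)
def n82285 : Q := act 3 n37746
theorem D82285 : act 3 n37746 = n82285 := rfl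
def n82286 : Q := act 4 n37746
theorem D82286 : act 4 n37746 = n82286 := rfl
def n82287 : Q := act 5 n37746
theorem D82287 : act 5 n37746 = n82287 := rfl
theorem F126766 : act 6 n82287 = n57424 := d12_2 F121038 D82287 (iv5 F91114) D76882 F115496
theorem F126768 : act 0 n39627 = n82287 := d21_10 (iv5 D82287) (iv1 F120645) (iv5 D55391) D55392 F91066 (iv6 D26799) D26798 F120577 (iv5 F29993) D39627
theorem F126769 : act 1 n57184 = n82287 := d15_0 (iv0 F126768) (iv7 F120578) (iv2 F91015)
def n82288 : Q := act 4 n37747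
theorem D82288 : act 4 n37747 = n82288 := rfl
def n82289 : Q := act 6 n37747
theorem D82289 : act 6 n37747 = n82289 := rfl
theorem F126770 : act 2 n82289 = n78783 := d3_1 D82289 (iv6 F120643) (iv2 F124409)
theorem F126772 : act 7 n82289 = n78787 := d14_2 (iv7 F124411) D82289 (iv6 F119951) F124416 (iv6 F120640)
theorem F126773 : act 0 n82289 = n56831 := d21_4 D57184 (iv1 F91071) (iv5 F120617) D82289 (iv6 D56831) (iv5 D27287) (iv1 F120612) (iv5 F87679) F87680 (iv1 F87682)
theorem F126774 : act 0 n57435 = n81409 := d21_1 (iv5 F120709) (iv5 D81409) D81410 (iv1 F125213) (iv6 D57185) D57184 (iv1 F91071) (iv5 F120617) D82289 F126773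
theorem F126776 : act 1 n37761 = n78787 := d15_1 (iv0 F121567) (iv7 F126772) F126770
def n82299 : Q := act 0 n37756
theorem D82299 : act 0 n37756 = n82299 := rfl
theorem F126783 : act 5 n82299 = n56854 := d21_2 D37756 D82299 F117960 (iv1 D38109) (iv6 D18225) (iv5 D8601) (iv1 D3854) D3855 (iv6 F13500) F118009
theorem F126784 : act 6 n82299 = n38353 := d21_5 D16782 F117908 (iv5 F117906) (iv6 F117947) D82299 (iv5 F59653) F112837 F112833 F54659 (iv1 F27469)
def n82300 : Q := act 4 n37756
theorem D82300 : act 4 n37756 = n82300 := rfl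
theorem F126788 : act 6 n82300 = n38656 := d10_2 (iv6 F117947) D82300 F59476
theorem F126790 : act 5 n82300 = n46190 := d17_5 (iv1 D8590) D8591 F118009 D37756 D82300 (iv0 D46190) (iv5 D22105) (iv0 F59466) (iv4 D18217)
theorem F126791 : act 0 n38700 = n82300 := d20_7 (iv4 F57066) (iv1 D36329) F28534 (iv3 F28531) D36317 (iv3 F121896) F121717 (iv4 D82300) F58601 (iv1 F44757)
theorem F126792 : act 1 n46238 = n79320 := d17_8 F126791 F126790 (iv1 F113397) F113394 F54826 D45973 F72550 D46238 F121717
theorem F126793 : act 0 n46242 = n79320 := d18_0 F121717 F126791 (iv4 D82300) (iv5 D37756) D37755 F118010 (iv4 D22119) D22118 D46242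
def n82334 : Q := act 4 n37770
theorem D82334 : act 4 n37770 = n82334 := rfl
def n82340 : Q := act 3 n37774
theorem D82340 : act 3 n37774 = n82340 := rfl
theorem F126851 : act 5 n82340 = n62891 := d6_2 (iv5 F58625) D82340 F98104
theorem F126852 : act 7 n82340 = n62890 := d8_2 F58626 D82340 F98102
def n82343 : Q := act 3 n37776
theorem D82343 : act 3 n37776 = n82343 := rfl
theorem F126855 : act 7 n82343 = n37782 := d8_2 F58631 D82343 (iv3 D37782)
def n82344 : Q := act 4 n37776
theorem D82344 : act 4 n37776 = n82344 := rfl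
theorem F126856 : act 2 n82344 = n37778 := d1_1 D82344 (iv4 D37778) D37776
theorem F126857 : act 7 n82344 = n37783 := d11_2 F58631 D82344 (iv4 D37783)
def n82345 : Q := act 5 n37776
theorem D82345 : act 5 n37776 = n82345 := rfl
theorem F126858 : act 2 n82345 = n37779 := d2_1 D82345 (iv5 D37779) D37776
theorem F126859 : act 7 n82345 = n37784 := d13_2 F58631 D82345 (iv5 D37784)
def n82347 : Q := act 0 n37777
theorem D82347 : act 0 n37777 = n82347 := rfl
def n82348 : Q := act 1 n37777
theorem D82348 : act 1 n37777 = n82348 := rfl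
def n82349 : Q := act 2 n37777
theorem D82349 : act 2 n37777 = n82349 := rfl
def n82350 : Q := act 5 n37777
theorem D82350 : act 5 n37777 = n82350 := rfl
theorem F126861 : act 3 n82350 = n37779 := d6_1 D82350 (iv5 D37779) D37777
def n82352 : Q := act 7 n37777
theorem D82352 : act 7 n37777 = n82352 := rfl
theorem F126863 : act 3 n82352 = n37781 := d8_1 D82352 (iv7 D37781) D37777
def n82353 : Q := act 0 n37778
theorem D82353 : act 0 n37778 = n82353 := rfl
theorem F126864 : act 4 n82353 = n81318 := d20_2 D37778 D82353 (iv3 D81318) (iv1 D37143) (iv3 D17867) F13224 F5781 D3813 D8542 D18119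
def n82354 : Q := act 1 n37778
theorem D82354 : act 1 n37778 = n82354 := rfl
theorem F126865 : act 1 n82354 = n37783 := d15_1 D82354 (iv7 F126857) F126856
def n82358 : Q := act 7 n37778
theorem D82358 : act 7 n37778 = n82358 := rfl
theorem F126867 : act 2 n82358 = n37783 := d4_1 D82358 (iv7 F126857) F126856
theorem F126869 : act 1 n37783 = n82353 := d15_0 (iv0 D82353) D82358 F126867
def n82359 : Q := act 0 n37779
theorem D82359 : act 0 n37779 = n82359 := rfl
def n82361 : Q := act 4 n37779
theorem D82361 : act 4 n37779 = n82361 := rfl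
def n82363 : Q := act 7 n37779
theorem D82363 : act 7 n37779 = n82363 := rfl
theorem F126871 : act 2 n82363 = n37784 := d4_1 D82363 (iv7 F126859) F126858
theorem F126872 : act 5 n82363 = n37781 := d13_1 D82363 (iv7 D37781) D37779
theorem F126873 : act 1 n37784 = n82359 := d15_0 (iv0 D82359) D82363 F126871
def n82369 : Q := act 0 n37782
theorem D82369 : act 0 n37782 = n82369 := rfl
theorem F126875 : act 4 n82369 = n81300 := d20_0 (iv1 F125113) (iv4 D81298) (iv3 F58084) (iv1 F58088) D81318 (iv4 F126864) (iv1 F126869) (iv4 D37783) D37782 D82369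
def n82371 : Q := act 2 n37782
theorem D82371 : act 2 n37782 = n82371 := rfl
def n82372 : Q := act 4 n37782
theorem D82372 : act 4 n37782 = n82372 := rfl
theorem F126876 : act 0 n81290 = n82372 := d20_1 D81290 (iv4 D82372) (iv3 D37782) (iv1 D18120) (iv3 D8542) (iv4 D3813) (iv1 F5775) (iv4 F13219) D17865 D37133
def n82373 : Q := act 5 n37782
theorem D82373 : act 5 n37782 = n82373 := rfl
theorem F126877 : act 3 n82373 = n37784 := d6_1 D82373 (iv5 D37784) D37782
def n82375 : Q := act 3 n37783
theorem D82375 : act 3 n37783 = n82375 := rfl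
theorem F126879 : act 0 n82182 = n82375 := d20_4 F29239 (iv1 F34446) (iv4 F58511) D82182 (iv3 D82375) (iv4 D37783) (iv1 D18120) (iv4 F29246) (iv3 D18064) D18062
def n82378 : Q := act 4 n37784
theorem D82378 : act 4 n37784 = n82378 := rfl
def n82384 : Q := act 3 n37786
theorem D82384 : act 3 n37786 = n82384 := rfl
theorem F126881 : act 7 n82384 = n38189 := d8_2 (iv7 F122976) D82384 (iv3 D38189)
theorem F126882 : act 4 n82384 = n44903 := d20_6 (iv4 D3872) (iv1 F5806) D8543 D18122 D37786 D82384 (iv1 D44903) F33657 (iv3 D18282) (iv1 D8623)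
theorem F126883 : act 7 n44903 = n38908 := d11_2 (iv7 F126881) F126882 (iv4 F59950)
theorem F126884 : act 2 n38908 = n44902 := d15_3 (iv0 D44902) D44903 F126883
theorem F126885 : act 2 n44903 = n38907 := d15_3 (iv0 D38907) D38908 (iv7 F126883)
theorem F126886 : act 7 n38907 = n44902 := d4_2 (iv7 F126883) F126885 (iv2 F126884)
def n82385 : Q := act 4 n37786
theorem D82385 : act 4 n37786 = n82385 := rfl
theorem F126887 : act 2 n82385 = n38195 := d1_1 D82385 (iv4 D38195) (iv2 F122974)
theorem F126888 : act 7 n82385 = n38190 := d11_2 (iv7 F122976) D82385 (iv4 D38190)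
theorem F126889 : act 1 n82385 = n73429 := d18_6 (iv1 D56412) F43911 D36794 (iv4 F86435) (iv5 F122975) D82385 F110136 (iv0 F90358) (iv5 F115015)
theorem F126890 : act 0 n82384 = n38491 := d20_4 (iv4 F110136) (iv1 F126889) (iv4 D82385) D82384 (iv3 D38491) D38492 F72937 (iv4 F74490) (iv3 F90356) F90358
def n82386 : Q := act 6 n37786
theorem D82386 : act 6 n37786 = n82386 := rfl
theorem F126891 : act 2 n82386 = n38197 := d3_1 D82386 (iv6 D38197) (iv2 F122974)
def n82387 : Q := act 3 n37787
theorem D82387 : act 3 n37787 = n82387 := rfl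
theorem F126892 : act 5 n82387 = n75458 := d6_2 (iv5 F122972) D82387 F113245
theorem F126893 : act 7 n82387 = n38194 := d8_2 (iv7 F122973) D82387 (iv3 D38194)
theorem F126894 : act 4 n82387 = n73606 := d20_6 (iv4 D12698) (iv1 F9342) (iv4 F13556) (iv3 F29448) (iv1 F58634) D82387 (iv1 D73606) F53181 (iv3 F46076) (iv1 D26563)
theorem F126895 : act 0 n38380 = n82387 := d20_10 F126894 (iv1 D73606) F53181 (iv3 F46076) (iv1 D26563) F28720 F28716 D36014 F56773 (iv3 F59244)
def n82388 : Q := act 4 n37787
theorem D82388 : act 4 n37787 = n82388 := rfl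
theorem F126896 : act 2 n82388 = n38190 := d1_1 D82388 (iv4 D38190) (iv2 F122971)
theorem F126897 : act 3 n82388 = n77602 := d5_1 D82388 F116494 (iv3 F110301) (iv4 F126894) (iv3 D82387)
theorem F126898 : act 7 n82388 = n38195 := d11_2 (iv7 F122973) D82388 (iv4 D38195)
theorem F126899 : act 0 n82388 = n73429 := d18_2 (iv1 F58634) D82388 F110136 (iv5 D35372) (iv4 F43320) (iv0 F74511) (iv4 D47262) F59059 (iv5 D38198)
def n82389 : Q := act 6 n37787
theorem D82389 : act 6 n37787 = n82389 := rfl
theorem F126900 : act 2 n82389 = n38192 := d3_1 D82389 (iv6 D38192) (iv2 F122971)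
def n82390 : Q := act 0 n37788
theorem D82390 : act 0 n37788 = n82390 := rfl
def n82391 : Q := act 1 n37788
theorem D82391 : act 1 n37788 = n82391 := rfl
def n82392 : Q := act 5 n37788
theorem D82392 : act 5 n37788 = n82392 := rfl
theorem F126901 : act 3 n82392 = n37791 := d6_1 D82392 (iv5 D37791) (iv3 F58635)
theorem F126902 : act 6 n82392 = n47268 := d12_2 D37788 D82392 (iv5 D47268) (iv6 D22729) (iv5 F29285)
def n82393 : Q := act 7 n37788
theorem D82393 : act 7 n37788 = n82393 := rfl
theorem F126903 : act 3 n82393 = n37792 := d8_1 D82393 (iv7 D37792) (iv3 F58635)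
theorem F126904 : act 6 n82393 = n38206 := d14_1 D82393 (iv7 D38206) (iv6 D18256) (iv7 F29286) D37788
def n82394 : Q := act 3 n37789
theorem D82394 : act 3 n37789 = n82394 := rfl
theorem F126905 : act 7 n82394 = n38697 := d8_2 (iv7 F124463) D82394 (iv3 D38697)
def n82395 : Q := act 5 n37789
theorem D82395 : act 5 n37789 = n82395 := rfl
theorem F126906 : act 2 n82395 = n38694 := d2_1 D82395 (iv5 D38694) (iv2 F124462)
theorem F126907 : act 7 n82395 = n38699 := d13_2 (iv7 F124463) D82395 (iv5 D38699)
theorem F126908 : act 0 n82395 = n81823 := d17_2 D37789 D82395 (iv5 D81823) F58343 D37449 F117724 (iv5 D37796) (iv0 D18124) (iv4 F29288)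
def n82396 : Q := act 6 n37789
theorem D82396 : act 6 n37789 = n82396 := rfl
theorem F126909 : act 2 n82396 = n38695 := d3_1 D82396 (iv6 D38695) (iv2 F124462)
theorem F126910 : act 4 n82396 = n45830 := d10_1 D82396 (iv6 D45830) F121789
theorem F126911 : act 5 n82396 = n75694 := d21_6 F13570 F13571 (iv5 F13299) D18123 D37789 D82396 (iv1 D75694) (iv5 D34607) (iv6 D16773) (iv1 F12384)
theorem F126912 : act 0 n82396 = n38350 := d20_7 (iv4 F46233) (iv1 F56401) F56398 (iv3 F56374) (iv1 F122686) (iv3 F121792) (iv4 F126910) F59206 (iv3 F117676) D18543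
def n82397 : Q := act 3 n37790
theorem D82397 : act 3 n37790 = n82397 := rfl
theorem F126913 : act 7 n82397 = n38692 := d8_2 (iv7 F124456) D82397 (iv3 D38692)
def n82398 : Q := act 5 n37790
theorem D82398 : act 5 n37790 = n82398 := rfl
theorem F126914 : act 2 n82398 = n38699 := d2_1 D82398 (iv5 D38699) (iv2 F124455)
theorem F126915 : act 7 n82398 = n38694 := d13_2 (iv7 F124456) D82398 (iv5 D38694)
theorem F126916 : act 1 n82398 = n81823 := d17_6 F123898 D45971 (iv1 F124498) (iv5 D45834) (iv4 F121891) D82398 (iv5 D81823) (iv0 F119035) F112954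
def n82399 : Q := act 6 n37790
theorem D82399 : act 6 n37790 = n82399 := rfl
theorem F126917 : act 2 n82399 = n38700 := d3_1 D82399 (iv6 D38700) (iv2 F124455)
theorem F126918 : act 4 n82399 = n45835 := d10_1 D82399 (iv6 D45835) (iv4 F121891)
theorem F126919 : act 5 n82254 = n82399 := d21_2 D37714 D82254 (iv6 D82399) (iv1 D37790) (iv6 D18123) F13299 (iv1 F13560) F13561 D10535 F117930
theorem F126920 : act 1 n82399 = n38449 := d17_8 (iv1 F59536) (iv5 F117949) (iv1 F117962) (iv5 D18218) D18217 D38086 F126722 F126919 F59293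
def n82400 : Q := act 0 n37791
theorem D82400 : act 0 n37791 = n82400 := rfl
theorem F126921 : act 2 n38701 = n82400 := d15_3 (iv0 D82400) (iv0 F113516) (iv7 F121907)
theorem F126922 : act 7 n82400 = n38702 := d4_2 (iv7 F121907) F126921 (iv2 F114006)
theorem F126923 : act 1 n38690 = n82400 := d15_1 (iv0 F113518) F126922 (iv2 F114006)
def n82401 : Q := act 4 n37791
theorem D82401 : act 4 n37791 = n82401 := rfl
theorem F126924 : act 2 n82401 = n38703 := d1_1 D82401 (iv4 D38703) (iv2 F58637)
theorem F126925 : act 6 n82401 = n47282 := d10_2 (iv6 F58638) D82401 (iv4 D47282)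
def n82402 : Q := act 7 n37791
theorem D82402 : act 7 n37791 = n82402 := rfl
theorem F126926 : act 2 n82402 = n38690 := d4_1 D82402 F59489 (iv2 F58637)
theorem F126927 : act 5 n82402 = n37792 := d13_1 D82402 (iv7 D37792) D37791
theorem F126928 : act 1 n38702 = n82402 := d15_1 D38702 (iv7 D82402) F58637
theorem F126929 : act 1 n82402 = n38701 := d15_1 F126928 F121907 F114006
theorem E13750 : n81822 = n75656 := ((c17_8 (iv1 F117792) F113011 (iv1 F58655) F58652 (iv4 F58640) (iv5 F126927) F126929 (iv5 F121906) (iv0 D81822) F58343)).symm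
theorem F126930 : act 1 n75656 = n37443 := (sb E13750 (iv0 D81822))
theorem F126931 : act 4 n38849 = n79321 := d18_3 (iv1 D18460) D18461 D38849 (iv5 F121903) F121905 F126930 F58343 (iv0 F117793) F54728
def n82403 : Q := act 3 n37795
theorem D82403 : act 3 n37795 = n82403 := rfl
theorem F126932 : act 4 n82403 = n77548 := d5_2 D37795 D82403 (iv3 D77548) (iv4 F123961) (iv3 F126085)
theorem F126933 : act 7 n82403 = n38834 := d8_2 (iv7 F125824) D82403 (iv3 D38834)
def n82404 : Q := act 5 n37795
theorem D82404 : act 5 n37795 = n82404 := rfl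
theorem F126934 : act 2 n82404 = n38818 := d2_1 D82404 (iv5 D38818) (iv2 F125823)
theorem F126935 : act 7 n82404 = n38835 := d13_2 (iv7 F125824) D82404 (iv5 D38835)
def n82405 : Q := act 6 n37795
theorem D82405 : act 6 n37795 = n82405 := rfl
theorem F126936 : act 2 n82405 = n38819 := d3_1 D82405 (iv6 D38819) (iv2 F125823)
theorem F126937 : act 4 n82405 = n37797 := d10_1 D82405 (iv6 D37797) D37795
def n82406 : Q := act 1 n37796
theorem D82406 : act 1 n37796 = n82406 := rfl
theorem F126938 : act 1 n82406 = n37801 := d15_1 D82406 F125836 (iv2 F125825)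
theorem F126940 : act 5 n75360 = n82406 := d21_0 (iv1 D82406) (iv5 D37796) D37797 F59651 (iv6 D18304) D18303 (iv1 F59193) (iv5 F113115) F113116 (iv1 F113071)
theorem F126942 : act 6 n82406 = n38866 := d21_3 (iv5 F113011) (iv1 F113071) F126940 (iv1 D38866) (iv6 D18468) (iv5 D8684) (iv1 D3891) D3892 (iv6 F13585) D18459
def n82407 : Q := act 4 n37796
theorem D82407 : act 4 n37796 = n82407 := rfl
theorem F126943 : act 2 n82407 = n38822 := d1_1 D82407 (iv4 D38822) (iv2 F125825)
theorem F126944 : act 7 n82407 = n38837 := d11_2 (iv7 F125826) D82407 (iv4 D38837)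
def n82408 : Q := act 6 n37796
theorem D82408 : act 6 n37796 = n82408 := rfl
theorem F126945 : act 2 n82408 = n38823 := d3_1 D82408 (iv6 D38823) (iv2 F125825)
theorem F126946 : act 5 n82408 = n75798 := d12_1 D82408 (iv6 D75798) (iv5 F58646) (iv6 D37797) D37796
def n82409 : Q := act 7 n37797
theorem D82409 : act 7 n37797 = n82409 := rfl
theorem F126949 : act 5 n82409 = n75262 := d13_1 D82409 F125858 (iv5 F58646)
theorem F126950 : act 6 n82409 = n38457 := d14_1 D82409 F125847 (iv6 D18458) F125828 D37797
theorem F126951 : act 1 n38356 = n82409 := d15_1 (iv0 F59209) (iv7 D82409) F125827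
theorem F126952 : act 1 n82409 = n38146 := d15_1 F126951 F58989 (iv2 F59650)
def n82410 : Q := act 3 n37800
theorem D82410 : act 3 n37800 = n82410 := rfl
theorem F126953 : act 4 n82410 = n78081 := d5_2 D37800 D82410 (iv3 D78081) (iv4 F124358) F124357
theorem F126954 : act 7 n82410 = n38817 := d8_2 (iv7 F125834) D82410 (iv3 D38817)
def n82411 : Q := act 5 n37800
theorem D82411 : act 5 n37800 = n82411 := rfl
theorem F126955 : act 2 n82411 = n38835 := d2_1 D82411 (iv5 D38835) (iv2 F125833)
theorem F126956 : act 7 n82411 = n38818 := d13_2 (iv7 F125834) D82411 (iv5 D38818)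
def n82412 : Q := act 6 n37800
theorem D82412 : act 6 n37800 = n82412 := rfl
theorem F126957 : act 2 n82412 = n38836 := d3_1 D82412 (iv6 D38836) (iv2 F125833)
theorem F126958 : act 4 n82412 = n37802 := d10_1 D82412 (iv6 D37802) D37800
def n82413 : Q := act 4 n37801
theorem D82413 : act 4 n37801 = n82413 := rfl
theorem F126959 : act 2 n82413 = n38837 := d1_1 D82413 (iv4 D38837) (iv2 F125835)
theorem F126960 : act 7 n82413 = n38822 := d11_2 (iv7 F125836) D82413 (iv4 D38822)
def n82414 : Q := act 4 n37803
theorem D82414 : act 4 n37803 = n82414 := rfl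
theorem F126961 : act 2 n82414 = n38843 := d1_1 D82414 (iv4 D38843) (iv2 F113059)
theorem F126962 : act 7 n82414 = n38847 := d11_2 (iv7 F113060) D82414 (iv4 D38847)
theorem F126963 : act 1 n38843 = n45838 := d15_0 F121806 (iv7 F126962) F126961
theorem F126964 : act 0 n37912 = n75727 := d18_2 F122150 (iv4 F118985) F113583 F113011 D38843 F126963 (iv4 D45838) D45837 (iv5 F113491)
theorem F126965 : act 1 n82414 = n79323 := d15_0 F121910 F113602 (iv2 F126961)
def n82415 : Q := act 0 n37804
theorem D82415 : act 0 n37804 = n82415 := rfl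
def n82416 : Q := act 1 n37804
theorem D82416 : act 1 n37804 = n82416 := rfl
theorem F126966 : act 1 n82416 = n38801 := d15_1 D82416 F59827 (iv2 F58649)
theorem F126967 : act 4 n82416 = n45837 := d18_7 (iv1 F56863) (iv4 F121891) (iv1 D37790) F29288 D18126 D37804 D82416 F121915 F121913
theorem F126968 : act 2 n38850 = n82416 := d1_3 F126967 (iv2 F121710) F121713
theorem F126969 : act 7 n38849 = n82416 := d11_0 F126967 (iv7 F121898) (iv4 F126931)
theorem F126970 : act 3 n45837 = n77539 := d20_3 D38801 (iv1 F126966) F126967 (iv1 D77539) F56119 D35420 D77597 F123963 F123965 (iv1 F58653)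
theorem F126971 : act 2 n77539 = n78621 := d0_1 F126970 (iv3 D78621) (iv2 F116110) (iv3 F121711) F121710
theorem F126972 : act 2 n38849 = n82415 := d15_3 (iv0 D82415) D82416 (iv7 F126969)
theorem F126973 : act 4 n82415 = n45836 := d1_2 (iv4 F126931) F126972 F121899
theorem F126974 : act 7 n82415 = n38850 := d4_2 (iv7 F126969) F126972 F126968
def n82417 : Q := act 3 n37804
theorem D82417 : act 3 n37804 = n82417 := rfl
theorem F126976 : act 6 n82417 = n37806 := d7_2 (iv6 F58650) D82417 (iv3 D37806)
def n82418 : Q := act 5 n37804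
theorem D82418 : act 5 n37804 = n82418 := rfl
theorem F126977 : act 2 n82418 = n38852 := d2_1 D82418 (iv5 D38852) (iv2 F58649)
def n82419 : Q := act 7 n37804
theorem D82419 : act 7 n37804 = n82419 := rfl
theorem F126978 : act 2 n82419 = n38801 := d4_1 D82419 F59827 (iv2 F58649)
theorem F126979 : act 4 n82419 = n37805 := d11_1 D82419 (iv7 D37805) D37804
theorem F126980 : act 1 n38850 = n82419 := d15_1 D38850 (iv7 D82419) F58649
theorem F126981 : act 1 n82419 = n38849 := d15_1 F126980 F126969 (iv2 F126968)
theorem F126982 : act 4 n57913 = n79359 := d20_6 (iv4 F126931) (iv1 F126981) F126979 (iv3 F89947) (iv1 F89950) D57913 (iv1 D79359) (iv4 D36137) (iv3 F56857) D79321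
def n82420 : Q := act 0 n37806
theorem D82420 : act 0 n37806 = n82420 := rfl
def n82421 : Q := act 1 n37806
theorem D82421 : act 1 n37806 = n82421 := rfl
def n82422 : Q := act 2 n37806
theorem D82422 : act 2 n37806 = n82422 := rfl
theorem F126983 : act 3 n82422 = n38882 := d0_2 D37806 D82422 (iv2 D38882) (iv3 D18474) (iv2 F29297)
def n82423 : Q := act 5 n37806
theorem D82423 : act 5 n37806 = n82423 := rfl
theorem F126984 : act 3 n82423 = n37807 := d6_1 D82423 (iv5 D37807) D37806
theorem F126985 : act 7 n82423 = n47757 := d13_2 F112839 D82423 (iv5 F112838)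
def n82424 : Q := act 6 n37807
theorem D82424 : act 6 n37807 = n82424 := rfl
theorem F126986 : act 2 n82424 = n38887 := d3_1 D82424 (iv6 D38887) (iv2 F58656)
theorem F126987 : act 4 n82424 = n41888 := d10_1 D82424 (iv6 D41888) (iv4 F58657)
def n82425 : Q := act 6 n37808
theorem D82425 : act 6 n37808 = n82425 := rfl
def n82426 : Q := act 5 n37809
theorem D82426 : act 5 n37809 = n82426 := rfl
def n82427 : Q := act 7 n37809
theorem D82427 : act 7 n37809 = n82427 := rfl
def n82428 : Q := act 4 n37811
theorem D82428 : act 4 n37811 = n82428 := rfl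
theorem F126990 : act 2 n82428 = n38237 := d1_1 D82428 (iv4 D38237) (iv2 F117222)
theorem F126991 : act 7 n82428 = n38714 := d11_2 (iv7 F117225) D82428 (iv4 D38714)
theorem F126992 : act 0 n82428 = n38249 := d18_2 (iv1 F117221) D82428 F59132 F30132 (iv4 F57503) D80411 (iv4 F123586) F117273 F113086
theorem F126993 : act 0 n38717 = n82428 := d20_1 (iv4 F59500) (iv4 D82428) F117223 F116634 F33887 (iv4 F33897) (iv1 F116724) (iv4 D44582) (iv3 F90433) (iv1 F60757)
theorem F126994 : act 6 n78202 = n82428 := d3_0 F126990 (iv6 F123775) F123779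
theorem F126995 : act 5 n80507 = n78202 := d21_2 D36729 D80507 F126994 F126992 (iv6 D38249) (iv5 F56291) F56292 (iv5 D18135) D18136 (iv1 F117810)
def n82429 : Q := act 6 n37811
theorem D82429 : act 6 n37811 = n82429 := rfl
theorem F126997 : act 3 n82429 = n38774 := d7_1 D82429 (iv6 D38774) (iv3 F117223)
theorem F126998 : act 4 n82429 = n78202 := d10_1 D82429 F126994 (iv4 D82428)
theorem F126999 : act 0 n38263 = n82429 := d18_0 F126998 (iv1 F123730) (iv4 D80497) (iv5 D36724) D36723 (iv0 F117814) F55954 (iv0 F117820) (iv5 F117823)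
def n82430 : Q := act 5 n37813
theorem D82430 : act 5 n37813 = n82430 := rfl
theorem F127002 : act 7 n82430 = n37839 := d13_2 (iv7 F118645) D82430 (iv5 D37839)
theorem F127003 : act 0 n82430 = n38724 := d18_0 F119408 (iv1 D78203) F56319 (iv5 F28224) D27151 F117807 F58677 F58665 D82430
theorem F127004 : act 0 n82429 = n82430 := d21_10 (iv5 D82430) (iv1 F58665) F29307 (iv6 F54741) F118232 D37644 (iv5 F118274) (iv1 F59506) (iv5 F117224) D82429
def n82431 : Q := act 6 n37813
theorem D82431 : act 6 n37813 = n82431 := rfl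
def n82435 : Q := act 5 n37819
theorem D82435 : act 5 n37819 = n82435 := rfl
def n82436 : Q := act 6 n37819
theorem D82436 : act 6 n37819 = n82436 := rfl
theorem F127011 : act 3 n82436 = n79151 := d7_1 D82436 (iv6 D79151) (iv3 F117569)
theorem F127012 : act 4 n82436 = n80511 := d10_1 D82436 F124859 (iv4 F117570)
def n82438 : Q := act 1 n37820
theorem D82438 : act 1 n37820 = n82438 := rfl
theorem F127013 : act 3 n79153 = n82438 := d20_3 (iv4 F123310) (iv1 F123313) F122231 (iv1 D82438) F58671 (iv4 F88260) (iv1 F122301) (iv4 D79609) (iv3 F126021) (iv1 F57429)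
theorem F127014 : act 5 n81855 = n82438 := d21_6 (iv5 D3825) (iv1 F6873) D8486 D17993 D37475 D81855 (iv1 D82438) (iv5 D37820) (iv6 D18133) (iv1 D8550)
def n82439 : Q := act 4 n37820
theorem D82439 : act 4 n37820 = n82439 := rfl
theorem F127015 : act 6 n82439 = n77042 := d10_2 (iv6 F58672) D82439 F115768
def n82440 : Q := act 7 n37820
theorem D82440 : act 7 n37820 = n82440 := rfl
theorem F127018 : act 5 n82440 = n37821 := d13_1 D82440 (iv7 D37821) D37820
def n82441 : Q := act 3 n37822
theorem D82441 : act 3 n37822 = n82441 := rfl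
theorem F127019 : act 4 n82441 = n81569 := d20_6 (iv4 D18132) (iv1 D8550) D8551 D18134 D37822 D82441 (iv1 D81569) F58214 (iv3 D35203) (iv1 F29301)
def n82442 : Q := act 6 n37822
theorem D82442 : act 6 n37822 = n82442 := rfl
def n82443 : Q := act 6 n37823
theorem D82443 : act 6 n37823 = n82443 := rfl
def n82444 : Q := act 6 n37824
theorem D82444 : act 6 n37824 = n82444 := rfl
theorem F127020 : act 2 n82444 = n37825 := d3_1 D82444 (iv6 D37825) D37824
theorem F127021 : act 4 n82444 = n37891 := d10_1 D82444 (iv6 D37891) (iv4 F58674)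
def n82445 : Q := act 0 n37825
theorem D82445 : act 0 n37825 = n82445 := rfl
def n82446 : Q := act 1 n37825
theorem D82446 : act 1 n37825 = n82446 := rfl
def n82447 : Q := act 5 n37825
theorem D82447 : act 5 n37825 = n82447 := rfl
theorem F127022 : act 3 n82447 = n37829 := d6_1 D82447 (iv5 D37829) (iv3 F58675)
def n82448 : Q := act 7 n37825
theorem D82448 : act 7 n37825 = n82448 := rfl
theorem F127023 : act 3 n82448 = n37830 := d8_1 D82448 (iv7 D37830) (iv3 F58675)
theorem F127024 : act 4 n82448 = n37895 := d11_1 D82448 (iv7 D37895) (iv4 F58676)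
theorem F127025 : act 6 n82448 = n81061 := d14_1 D82448 F124839 (iv6 D75379) F54734 D37825
def n82449 : Q := act 0 n37826
theorem D82449 : act 0 n37826 = n82449 := rfl
def n82450 : Q := act 1 n37826
theorem D82450 : act 1 n37826 = n82450 := rfl
def n82451 : Q := act 5 n37826
theorem D82451 : act 5 n37826 = n82451 := rfl
theorem F127026 : act 6 n82451 = n37829 := d12_2 D37826 D82451 (iv5 D37829) (iv6 D18136) D18135
def n82452 : Q := act 7 n37826
theorem D82452 : act 7 n37826 = n82452 := rfl
def n82455 : Q := act 6 n37828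
theorem D82455 : act 6 n37828 = n82455 := rfl
theorem F127033 : act 2 n82455 = n56401 := d3_1 D82455 (iv6 D56401) (iv2 F117811)
theorem F127034 : act 4 n82455 = n56397 := d10_1 D82455 (iv6 D56397) (iv4 F117812)
def n82456 : Q := act 1 n37829
theorem D82456 : act 1 n37829 = n82456 := rfl
theorem F127035 : act 1 n82456 = n80501 := d15_1 D82456 F123749 F115829
theorem F127036 : act 5 n78188 = n82456 := d21_0 (iv1 D82456) (iv5 D37829) (iv6 D18136) F13305 D17666 D36656 D80434 F123630 (iv6 F123781) (iv1 F123772)
def n82457 : Q := act 4 n37829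
theorem D82457 : act 4 n37829 = n82457 := rfl
def n82458 : Q := act 7 n37829
theorem D82458 : act 7 n37829 = n82458 := rfl
theorem F127038 : act 2 n82458 = n80501 := d4_1 D82458 F123749 F115829
theorem F127039 : act 5 n82458 = n37830 := d13_1 D82458 (iv7 D37830) D37829
def n82459 : Q := act 3 n37833
theorem D82459 : act 3 n37833 = n82459 := rfl
def n82461 : Q := act 6 n37833
theorem D82461 : act 6 n37833 = n82461 := rfl
theorem F127041 : act 4 n82461 = n37835 := d10_1 D82461 (iv6 D37835) D37833
def n82462 : Q := act 0 n37834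
theorem D82462 : act 0 n37834 = n82462 := rfl
theorem F127042 : act 5 n82462 = n82429 := d17_3 D18137 D37834 D82462 F126998 (iv5 F126995) (iv0 D80507) (iv5 D36729) F117810 F29305
theorem F127043 : act 4 n82462 = n80517 := d18_1 D82462 (iv1 F123772) F119394 (iv5 F56316) (iv4 F117812) (iv0 F117816) F117818 F58667 D37834
theorem F127045 : act 1 n37839 = n82462 := d15_0 (iv0 D82462) F118655 F118652
theorem F127047 : act 6 n38715 = n82462 := d21_9 (iv5 D37839) (iv1 D18138) F13375 (iv6 D8552) (iv1 F27412) D18022 (iv5 F44054) (iv1 F117190) D38715 (iv1 F127045)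
theorem E13751 : n75709 = n56770 := (c21_5 F117624 F122575 (iv5 D34618) D34619 D75709 (iv6 D56770) (iv5 F117823) F126999 (iv5 F127042) (iv6 F127047) (iv1 F59513))
theorem F127048 : act 1 n56770 = n34619 := (sb E13751 (iv0 D75709))
theorem F127049 : act 7 n75710 = n37840 := d15_2 F127048 D75710 (iv2 F118653)
def n82463 : Q := act 4 n37834
theorem D82463 : act 4 n37834 = n82463 := rfl
theorem F127050 : act 1 n82463 = n78224 := d18_6 (iv1 F121314) (iv4 F55946) (iv1 F121340) (iv4 D37833) D37834 D82463 (iv4 D78224) (iv0 D35656) (iv5 F28224)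
theorem F127051 : act 1 n78229 = n82463 := d15_0 F127050 (iv7 F123768) F123766
def n82464 : Q := act 6 n37834
theorem D82464 : act 6 n37834 = n82464 := rfl
theorem F127053 : act 7 n82464 = n58018 := d14_2 (iv7 F118655) D82464 (iv6 D58018) F117827 D38263
theorem F127054 : act 0 n82464 = n81855 := d21_10 F127014 (iv1 D82438) (iv5 D37820) (iv6 D18133) (iv1 D8550) D8552 F13375 D18137 D37834 D82464
theorem F127055 : act 1 n38268 = n81855 := d15_0 (iv0 F127054) F127053 F117835
def n82465 : Q := act 0 n37835
theorem D82465 : act 0 n37835 = n82465 := rfl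
def n82466 : Q := act 7 n37835
theorem D82466 : act 7 n37835 = n82466 := rfl
def n82467 : Q := act 5 n37837
theorem D82467 : act 5 n37837 = n82467 := rfl
theorem F127057 : act 3 n82467 = n37839 := d6_1 D82467 (iv5 D37839) D37837
theorem F127058 : act 7 n82467 = n57850 := d13_2 F121454 D82467 F122042
theorem F127059 : act 0 n82467 = n57843 := d18_0 (iv4 F121700) F125711 (iv4 D56344) (iv5 D27133) D27132 F121295 F56766 F121247 D82467
theorem F127061 : act 6 n55711 = n82467 := d21_5 (iv5 D8042) (iv1 F12796) (iv5 F21895) D27408 (iv1 F121472) (iv5 D82467) (iv1 F121247) F30787 (iv6 D19160) F14043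
theorem F127062 : act 4 n82467 = n55713 := d10_1 F127061 (iv6 D55713) D55711
theorem F127064 : act 1 n39738 = n57843 := d15_0 (iv0 F127059) F127058 (iv2 F122043)
def n82468 : Q := act 6 n37837
theorem D82468 : act 6 n37837 = n82468 := rfl
theorem F127065 : act 3 n82468 = n37840 := d7_1 D82468 (iv6 D37840) D37837
def n82469 : Q := act 3 n37838
theorem D82469 : act 3 n37838 = n82469 := rfl
def n82471 : Q := act 6 n37838
theorem D82471 : act 6 n37838 = n82471 := rfl
theorem F127066 : act 4 n82471 = n37840 := d10_1 D82471 (iv6 D37840) D37838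
def n82473 : Q := act 0 n37840
theorem D82473 : act 0 n37840 = n82473 := rfl
def n82474 : Q := act 1 n37840
theorem D82474 : act 1 n37840 = n82474 := rfl
def n82475 : Q := act 5 n37840
theorem D82475 : act 5 n37840 = n82475 := rfl
theorem F127070 : act 0 n81854 = n82475 := d21_1 D81854 (iv5 D82475) (iv6 D37840) (iv1 D18138) (iv6 D8552) (iv5 D3825) (iv1 F6873) D8486 D17993 D37475
def n82476 : Q := act 5 n37842
theorem D82476 : act 5 n37842 = n82476 := rfl
theorem F127071 : act 2 n82476 = n43373 := d2_1 D82476 (iv5 D43373) F66641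
theorem F127072 : act 3 n82476 = n42268 := d6_1 D82476 (iv5 D42268) (iv3 F66614)
theorem F127074 : act 1 n82476 = n43956 := d17_6 F66327 D44883 (iv1 F72146) (iv5 D45732) F66611 D82476 (iv5 D43956) (iv0 F74584) (iv4 F63931)
theorem F127076 : act 6 n43589 = n82476 := d21_5 (iv5 D19046) F27370 F16856 D20622 D43589 (iv5 D82476) (iv1 D37842) D37843 F58683 (iv1 F30554)
theorem F127077 : act 2 n42890 = n43589 := d3_3 F127076 F127071 (iv6 F68135)
theorem F127078 : act 7 n43590 = n42890 := d15_2 (iv0 D43589) D43590 F127077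
theorem F127079 : act 3 n42867 = n43590 := d8_3 F127078 (iv3 D42890) (iv7 F67173)
theorem F127080 : act 4 n43590 = n43131 := d20_6 F32134 (iv1 F32142) F32141 (iv3 F32128) (iv1 F67172) F127079 (iv1 D43131) F32286 F15003 D9636
def n82477 : Q := act 6 n37842
theorem D82477 : act 6 n37842 = n82477 := rfl
theorem F127083 : act 4 n82477 = n45733 := d10_1 D82477 (iv6 D45733) F66611
theorem F127084 : act 0 n43327 = n82477 := d18_0 F127083 F74766 F74763 F35427 D41551 (iv0 F69970) F69968 F64132 (iv5 F68008)
def n82478 : Q := act 1 n37843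
theorem D82478 : act 1 n37843 = n82478 := rfl
theorem F127085 : act 1 n82478 = n42649 := d15_1 D82478 (iv7 D42649) (iv2 F58681)
theorem F127086 : act 7 n82478 = n42647 := d15_2 (iv0 F72213) D82478 (iv2 F66692)
theorem F127087 : act 3 n42271 = n82478 := d20_3 (iv4 F70824) (iv1 F70827) (iv4 F125255) (iv1 D82478) F58682 (iv4 F76320) (iv1 F76321) (iv4 D44549) F63217 (iv1 F33805)
theorem F127088 : act 5 n41736 = n82478 := d21_6 F7321 F12191 D4253 D9367 (iv1 F35826) D41736 (iv1 D82478) (iv5 D37843) (iv6 D18141) F13380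
theorem F127089 : act 2 n82478 = n42648 := d2_1 F127088 (iv5 F66688) (iv2 F64372)
theorem F127090 : act 4 n82478 = n45750 := d18_5 (iv1 F63978) (iv4 F64382) (iv1 D41742) (iv4 F64373) F127088 F72203 (iv4 D22895) F34334 (iv5 F63976)
theorem E13752 : n46093 = n41808 := ((c18_6 (iv1 D82478) (iv4 F63857) (iv1 F72201) (iv4 D22936) (iv5 F63524) (iv4 F64465) (iv0 D46093) (iv4 F66279) (iv0 F66265) F127088)).symm
theorem F127091 : act 1 n41808 = n22017 := (sb E13752 (iv0 D46093))
theorem F127092 : act 6 n43513 = n82478 := d10_0 F127090 (iv6 F75681) F75678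
def n82479 : Q := act 7 n37843
theorem D82479 : act 7 n37843 = n82479 := rfl
theorem F127093 : act 2 n82479 = n42649 := d4_1 D82479 (iv7 D42649) (iv2 F58681)
theorem F127094 : act 3 n82479 = n81426 := d8_1 D82479 (iv7 D81426) (iv3 F58682)
theorem F127095 : act 5 n82479 = n37844 := d13_1 D82479 (iv7 D37844) D37843
theorem F127096 : act 1 n42648 = n82479 := d15_1 D42648 (iv7 D82479) F58681
theorem F127097 : act 1 n82479 = n42647 := d15_1 F127096 (iv7 F127086) F127089
def n82480 : Q := act 6 n37846
theorem D82480 : act 6 n37846 = n82480 := rfl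
theorem F127099 : act 3 n82480 = n40553 := d7_1 D82480 (iv6 D40553) (iv3 F66280)
theorem F127100 : act 4 n82480 = n41975 := d10_1 D82480 F76061 F66283
theorem F127101 : act 0 n43218 = n82480 := d21_4 F63081 (iv1 F67682) (iv5 D43217) D43218 (iv6 D82480) F66284 (iv1 F66289) (iv5 F66275) (iv6 F74573) F74575
def n82481 : Q := act 6 n37848
theorem D82481 : act 6 n37848 = n82481 := rfl
theorem F127102 : act 2 n82481 = n41752 := d3_1 D82481 (iv6 D41752) F63453
theorem F127103 : act 3 n82481 = n43220 := d7_1 D82481 (iv6 D43220) (iv3 F58694)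
theorem F127104 : act 4 n82481 = n41482 := d10_1 D82481 (iv6 D41482) F58693
theorem F127105 : act 0 n38005 = n82481 := d18_0 F127104 F74768 (iv4 D46799) (iv5 D22465) D22464 F66354 F36026 (iv0 F62935) F62933
def n82482 : Q := act 4 n37850
theorem D82482 : act 4 n37850 = n82482 := rfl
theorem F127106 : act 2 n82482 = n41627 := d1_1 D82482 (iv4 D41627) (iv2 F58715)
theorem F127107 : act 3 n82482 = n41624 := d5_1 D82482 (iv4 D41624) (iv3 F34432) F34434 (iv3 F58704)
theorem F127108 : act 7 n82482 = n41624 := d11_2 F58706 D82482 (iv4 D41624)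
theorem F127109 : act 0 n82482 = n44729 := d17_0 (iv5 F120352) F120354 (iv5 D46982) (iv4 D22594) D22595 F64239 (iv5 D41629) F58705 D82482
theorem F127110 : act 1 n82482 = n44710 := d18_6 F113366 (iv4 D75526) (iv1 D34556) D34558 (iv5 F58703) D82482 F70288 (iv0 D40590) D40592
def n82483 : Q := act 6 n37850
theorem D82483 : act 6 n37850 = n82483 := rfl
theorem F127111 : act 2 n82483 = n41628 := d3_1 D82483 (iv6 D41628) (iv2 F58715)
theorem F127112 : act 3 n82483 = n45799 := d7_1 D82483 (iv6 D45799) (iv3 F58704)
def n82484 : Q := act 3 n37851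
theorem D82484 : act 3 n37851 = n82484 := rfl
theorem F127113 : act 2 n82484 = n45797 := d0_1 D82484 (iv3 D45797) (iv2 F34431) F34432 F58713
theorem F127114 : act 4 n82484 = n45322 := d5_2 F70951 D82484 F71391 (iv4 D45074) D45073
theorem F127115 : act 5 n82484 = n81971 := d6_2 F72415 D82484 F126386
theorem F127116 : act 7 n82484 = n41626 := d8_2 F58714 D82484 (iv3 D41626)
theorem F127117 : act 0 n82484 = n45381 := d20_4 (iv4 F70306) F70954 F70951 D82484 F71559 (iv4 D43860) (iv1 F33091) F33088 D41579 (iv1 F64172)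
theorem F127118 : act 0 n41455 = n82484 := d20_4 F61720 F63905 (iv4 D41456) D41455 (iv3 D82484) (iv4 F70951) F71417 F70288 F72606 (iv1 F72604)
def n82485 : Q := act 6 n37851
theorem D82485 : act 6 n37851 = n82485 := rfl
theorem F127119 : act 2 n82485 = n41625 := d3_1 D82485 (iv6 D41625) F58713
def n82486 : Q := act 6 n37852
theorem D82486 : act 6 n37852 = n82486 := rfl
theorem F127120 : act 2 n82486 = n37853 := d3_1 D82486 (iv6 D37853) D37852
theorem F127121 : act 3 n82486 = n41651 := d7_1 D82486 (iv6 D41651) (iv3 F58707)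
theorem F127122 : act 4 n82486 = n45362 := d10_1 D82486 (iv6 D45362) (iv4 F58708)
def n82487 : Q := act 0 n37853
theorem D82487 : act 0 n37853 = n82487 := rfl
def n82488 : Q := act 1 n37853
theorem D82488 : act 1 n37853 = n82488 := rfl
def n82489 : Q := act 5 n37853
theorem D82489 : act 5 n37853 = n82489 := rfl
theorem F127123 : act 3 n82489 = n37856 := d6_1 D82489 (iv5 D37856) (iv3 F58718)
theorem F127124 : act 6 n82489 = n47220 := d12_2 D37853 D82489 (iv5 D47220) (iv6 D22714) (iv5 F29317)
def n82490 : Q := act 4 n37856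
theorem D82490 : act 4 n37856 = n82490 := rfl
theorem F127125 : act 2 n82490 = n41673 := d1_1 D82490 (iv4 D41673) (iv2 F58720)
theorem F127126 : act 6 n82490 = n47234 := d10_2 (iv6 F58721) D82490 (iv4 D47234)
def n82491 : Q := act 1 n37862
theorem D82491 : act 1 n37862 = n82491 := rfl
theorem F127127 : act 4 n82491 = n46118 := d17_9 (iv1 D46118) F66312 (iv1 D22670) (iv5 D10733) (iv4 F17257) D22653 (iv0 F68435) F68434 D82491
theorem F127128 : act 6 n41735 = n82491 := d21_3 (iv5 F17013) (iv1 F35826) D41735 (iv1 D82491) (iv6 D37862) D37861 F62401 F62398 (iv6 D22777) F35828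
theorem F127129 : act 5 n82491 = n43513 := d12_1 F127128 F127092 (iv5 F127088) (iv6 D41736) D41735
def n82492 : Q := act 7 n37862
theorem D82492 : act 7 n37862 = n82492 := rfl
theorem F127131 : act 4 n82492 = n46914 := d11_1 D82492 F74123 (iv4 F66304)
theorem F127132 : act 5 n82492 = n46954 := d13_1 D82492 F74172 F68434
def n82493 : Q := act 5 n37868
theorem D82493 : act 5 n37868 = n82493 := rfl
theorem F127138 : act 0 n38011 = n82493 := d21_10 (iv5 D82493) (iv1 F58734) D38009 (iv6 F73028) F73027 F58846 F58845 F62686 D20983 (iv6 F63037)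
def n82494 : Q := act 4 n37872
theorem D82494 : act 4 n37872 = n82494 := rfl
theorem F127139 : act 2 n82494 = n80755 := d1_1 D82494 F124257 F125499
theorem F127140 : act 3 n82494 = n71540 := d19_3 F116262 F116266 D82494 (iv1 D71540) D71541 (iv4 F116509) (iv3 D77608) (iv1 F56146) (iv5 D34559) D34558 F54811 (iv1 D18015) (iv5 F14159) (iv4 F17130) (iv3 D10610) (iv1 F14655) (iv5 F31299) F31300 D37896
theorem F127141 : act 0 n80626 = n82494 := d20_10 (iv4 D82494) (iv1 F72475) F72473 (iv3 F57749) (iv1 F57753) D79118 F120402 (iv1 F112933) (iv4 F86433) D80626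
theorem F127142 : act 2 n71540 = n80259 := d0_1 F127140 F123336 (iv2 F60970) D80755 (iv2 F127139)
theorem F127143 : act 5 n80256 = n71540 := d2_0 F127142 (iv5 D80259) (iv2 F123326)
def n82495 : Q := act 6 n37872
theorem D82495 : act 6 n37872 = n82495 := rfl
def n82496 : Q := act 5 n37873
theorem D82496 : act 5 n37873 = n82496 := rfl
theorem F127144 : act 3 n82496 = n73039 := d6_1 D82496 F109560 F113358
theorem F127145 : act 0 n82496 = n37896 := d17_2 (iv1 F72477) D82496 F58751 F29478 D36118 D79330 (iv5 F121927) F57787 (iv4 F72473)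
theorem F127146 : act 4 n78063 = n82496 := d5_0 F127144 (iv4 D73039) (iv3 F109319) F109320 (iv3 F119258)
def n82497 : Q := act 6 n37873
theorem D82497 : act 6 n37873 = n82497 := rfl
def n82498 : Q := act 6 n37874
theorem D82498 : act 6 n37874 = n82498 := rfl
theorem F127147 : act 2 n82498 = n37876 := d3_1 D82498 (iv6 D37876) D37874
theorem F127148 : act 4 n82498 = n80707 := d10_1 D82498 (iv6 D80707) (iv4 F58740)
def n82499 : Q := act 1 n37875
theorem D82499 : act 1 n37875 = n82499 := rfl
theorem F127149 : act 5 n82499 = n45843 := d17_7 F86935 (iv5 F124178) (iv1 D80709) (iv5 D36848) (iv4 F29327) D37875 D82499 F72396 F59145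
def n82500 : Q := act 4 n37875
theorem D82500 : act 4 n37875 = n82500 := rfl
theorem F127150 : act 3 n82500 = n46715 := d5_1 D82500 (iv4 D46715) (iv3 D22400) (iv4 F29328) (iv3 F58741)
theorem F127151 : act 0 n82500 = n72376 := d18_2 (iv1 D82499) D82500 F108863 F59370 (iv4 F88100) (iv0 D55683) F43368 D45843 (iv5 F127149)
theorem F127152 : act 4 n80416 = n82499 := d20_0 (iv1 D82499) D82500 F127150 F73832 (iv3 D37560) (iv4 D18021) (iv1 F27474) (iv4 F28735) D36649 D80416
def n82501 : Q := act 6 n37875
theorem D82501 : act 6 n37875 = n82501 := rfl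
theorem F127153 : act 3 n82501 = n37877 := d7_1 D82501 (iv6 D37877) (iv3 F58741)
def n82502 : Q := act 0 n37876
theorem D82502 : act 0 n37876 = n82502 := rfl
def n82503 : Q := act 1 n37876
theorem D82503 : act 1 n37876 = n82503 := rfl
def n82504 : Q := act 5 n37876
theorem D82504 : act 5 n37876 = n82504 := rfl
theorem F127154 : act 3 n82504 = n37880 := d6_1 D82504 (iv5 D37880) (iv3 F58742)
def n82505 : Q := act 0 n37877
theorem D82505 : act 0 n37877 = n82505 := rfl
def n82506 : Q := act 1 n37877
theorem D82506 : act 1 n37877 = n82506 := rfl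
def n82507 : Q := act 5 n37877
theorem D82507 : act 5 n37877 = n82507 := rfl
theorem F127155 : act 6 n82507 = n37880 := d12_2 D37877 D82507 (iv5 D37880) (iv6 D18154) D18153
def n82508 : Q := act 7 n37877
theorem D82508 : act 7 n37877 = n82508 := rfl
theorem F127156 : act 4 n82508 = n46720 := d11_1 D82508 (iv7 D46720) (iv4 F58744)
def n82509 : Q := act 0 n37880
theorem D82509 : act 0 n37880 = n82509 := rfl
theorem F127157 : act 5 n82509 = n38233 := d17_3 F59725 D37880 D82509 (iv4 D38233) (iv5 D18265) (iv0 D8614) (iv5 F12363) D16735 D34499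
theorem F127158 : act 2 n38759 = n82509 := d15_3 (iv0 D82509) (iv0 F59815) (iv7 F59664)
theorem F127159 : act 7 n82509 = n38798 := d4_2 (iv7 F59664) F127158 F59822
def n82510 : Q := act 4 n37880
theorem D82510 : act 4 n37880 = n82510 := rfl
theorem F127160 : act 0 n82510 = n75673 := d18_2 F59815 D82510 (iv4 D75673) (iv5 F61168) (iv4 F61166) F118484 (iv4 F118482) F113578 D38748
def n82511 : Q := act 6 n37882
theorem D82511 : act 6 n37882 = n82511 := rfl
theorem F127162 : act 2 n82511 = n37883 := d3_1 D82511 (iv6 D37883) D37882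
def n82512 : Q := act 0 n37883
theorem D82512 : act 0 n37883 = n82512 := rfl
def n82514 : Q := act 5 n37883
theorem D82514 : act 5 n37883 = n82514 := rfl
theorem F127163 : act 3 n82514 = n37887 := d6_1 D82514 (iv5 D37887) (iv3 F58746)
def n82515 : Q := act 7 n37883
theorem D82515 : act 7 n37883 = n82515 := rfl
theorem F127164 : act 3 n82515 = n37888 := d8_1 D82515 (iv7 D37888) (iv3 F58746)
def n82516 : Q := act 0 n37884
theorem D82516 : act 0 n37884 = n82516 := rfl
def n82517 : Q := act 1 n37884
theorem D82517 : act 1 n37884 = n82517 := rfl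
def n82518 : Q := act 5 n37884
theorem D82518 : act 5 n37884 = n82518 := rfl
theorem F127165 : act 6 n82518 = n37887 := d12_2 D37884 D82518 (iv5 D37887) (iv6 D18157) D18156
def n82519 : Q := act 7 n37884
theorem D82519 : act 7 n37884 = n82519 := rfl
theorem F127166 : act 4 n82519 = n46726 := d11_1 D82519 (iv7 D46726) (iv4 F58747)
def n82520 : Q := act 0 n37887
theorem D82520 : act 0 n37887 = n82520 := rfl
def n82521 : Q := act 1 n37887
theorem D82521 : act 1 n37887 = n82521 := rfl
theorem F127167 : act 5 n82405 = n82521 := d21_6 D8565 D18161 F29332 D18281 (iv1 F121894) D82405 (iv1 D82521) (iv5 D37887) (iv6 D18157) (iv1 D8563)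
def n82522 : Q := act 4 n37887
theorem D82522 : act 4 n37887 = n82522 := rfl
def n82523 : Q := act 7 n37887
theorem D82523 : act 7 n37887 = n82523 := rfl
theorem F127168 : act 5 n82523 = n37888 := d13_1 D82523 (iv7 D37888) D37887
def n82524 : Q := act 4 n37889
theorem D82524 : act 4 n37889 = n82524 := rfl
theorem F127169 : act 2 n82524 = n56981 := d1_1 D82524 F90062 F89077
theorem F127170 : act 3 n82524 = n72441 := d5_1 D82524 F108952 F108428 F52464 D37889
theorem F127171 : act 7 n82524 = n72444 := d11_2 F108307 D82524 F108959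
theorem F127172 : act 0 n82524 = n75318 := d18_2 (iv1 F116267) D82524 (iv4 D75318) F112919 D47262 (iv0 F74513) (iv4 F87044) (iv0 F87048) D77456
theorem F127173 : act 1 n82524 = n75314 := d18_6 (iv1 F108917) F108918 (iv1 F89015) (iv4 F86221) F86222 D82524 (iv4 D75314) (iv0 D34482) D34485
def n82525 : Q := act 6 n37889
theorem D82525 : act 6 n37889 = n82525 := rfl
theorem F127174 : act 3 n82525 = n37890 := d7_1 D82525 (iv6 D37890) D37889
def n82526 : Q := act 0 n37890
theorem D82526 : act 0 n37890 = n82526 := rfl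
def n82527 : Q := act 1 n37890
theorem D82527 : act 1 n37890 = n82527 := rfl
def n82528 : Q := act 5 n37890
theorem D82528 : act 5 n37890 = n82528 := rfl
def n82529 : Q := act 7 n37890
theorem D82529 : act 7 n37890 = n82529 := rfl
def n82530 : Q := act 0 n37891
theorem D82530 : act 0 n37891 = n82530 := rfl
def n82531 : Q := act 1 n37891
theorem D82531 : act 1 n37891 = n82531 := rfl
theorem F127175 : act 1 n82531 = n37895 := d15_1 D82531 (iv7 D37895) (iv2 F58748)
def n82532 : Q := act 5 n37891
theorem D82532 : act 5 n37891 = n82532 := rfl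
theorem F127176 : act 2 n82532 = n37894 := d2_1 D82532 (iv5 D37894) (iv2 F58748)
def n82533 : Q := act 7 n37891
theorem D82533 : act 7 n37891 = n82533 := rfl
theorem F127177 : act 2 n82533 = n37895 := d4_1 D82533 (iv7 D37895) (iv2 F58748)
theorem F127178 : act 1 n37895 = n82530 := d15_0 (iv0 D82530) D82533 F127177
theorem F127180 : act 1 n82533 = n37892 := d15_0 (iv0 D37892) D37895 (iv2 F127177)
def n82534 : Q := act 2 n37892
theorem D82534 : act 2 n37892 = n82534 := rfl
theorem F127181 : act 7 n37893 = n82534 := d15_2 (iv0 D37892) D37893 (iv2 D82534)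
def n82535 : Q := act 3 n37892
theorem D82535 : act 3 n37892 = n82535 := rfl
def n82536 : Q := act 4 n37892
theorem D82536 : act 4 n37892 = n82536 := rfl
def n82537 : Q := act 5 n37892
theorem D82537 : act 5 n37892 = n82537 := rfl
def n82538 : Q := act 6 n37892
theorem D82538 : act 6 n37892 = n82538 := rfl
def n82539 : Q := act 7 n37892
theorem D82539 : act 7 n37892 = n82539 := rfl
theorem F127182 : act 2 n82539 = n37893 := d4_1 D82539 F127181 (iv2 D82534)
def n82540 : Q := act 3 n37893
theorem D82540 : act 3 n37893 = n82540 := rfl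
def n82541 : Q := act 4 n37893
theorem D82541 : act 4 n37893 = n82541 := rfl
def n82542 : Q := act 5 n37893
theorem D82542 : act 5 n37893 = n82542 := rfl
def n82543 : Q := act 6 n37893
theorem D82543 : act 6 n37893 = n82543 := rfl
def n82544 : Q := act 0 n37894
theorem D82544 : act 0 n37894 = n82544 := rfl
def n82545 : Q := act 1 n37894
theorem D82545 : act 1 n37894 = n82545 := rfl
def n82546 : Q := act 4 n37894
theorem D82546 : act 4 n37894 = n82546 := rfl
def n82547 : Q := act 7 n37894
theorem D82547 : act 7 n37894 = n82547 := rfl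
theorem F127184 : act 5 n82547 = n37895 := d13_1 D82547 (iv7 D37895) D37894
def n82548 : Q := act 4 n37896
theorem D82548 : act 4 n37896 = n82548 := rfl
theorem F127185 : act 3 n82548 = n81847 := d5_1 D82548 (iv4 F125806) (iv3 D41528) F31300 D37896
theorem F127186 : act 0 n82548 = n72366 := d18_2 F127145 D82548 F108838 (iv5 F113431) F113430 (iv0 D36845) (iv4 F29327) D37873 D82496
def n82549 : Q := act 6 n37896
theorem D82549 : act 6 n37896 = n82549 := rfl
theorem F127187 : act 3 n82549 = n37897 := d7_1 D82549 (iv6 D37897) D37896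
def n82550 : Q := act 0 n37897
theorem D82550 : act 0 n37897 = n82550 := rfl
def n82551 : Q := act 1 n37897
theorem D82551 : act 1 n37897 = n82551 := rfl
def n82552 : Q := act 5 n37897
theorem D82552 : act 5 n37897 = n82552 := rfl
theorem F127188 : act 6 n82552 = n38279 := d12_2 D37897 D82552 (iv5 D38279) (iv6 D18281) (iv5 F29332)
def n82553 : Q := act 7 n37897
theorem D82553 : act 7 n37897 = n82553 := rfl
def n82554 : Q := act 0 n37898
theorem D82554 : act 0 n37898 = n82554 := rfl
def n82555 : Q := act 1 n37898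
theorem D82555 : act 1 n37898 = n82555 := rfl
def n82556 : Q := act 5 n37898
theorem D82556 : act 5 n37898 = n82556 := rfl
theorem F127189 : act 6 n82556 = n38285 := d12_2 D37898 D82556 (iv5 D38285) (iv6 D18283) (iv5 F29335)
def n82557 : Q := act 7 n37898
theorem D82557 : act 7 n37898 = n82557 := rfl
def n82558 : Q := act 2 n37899
theorem D82558 : act 2 n37899 = n82558 := rfl
theorem F127190 : act 7 n37900 = n82558 := d15_2 (iv0 D37899) D37900 (iv2 D82558)
def n82559 : Q := act 3 n37899
theorem D82559 : act 3 n37899 = n82559 := rfl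
def n82560 : Q := act 4 n37899
theorem D82560 : act 4 n37899 = n82560 := rfl
def n82561 : Q := act 5 n37899
theorem D82561 : act 5 n37899 = n82561 := rfl
def n82562 : Q := act 6 n37899
theorem D82562 : act 6 n37899 = n82562 := rfl
def n82563 : Q := act 7 n37899
theorem D82563 : act 7 n37899 = n82563 := rfl
theorem F127191 : act 2 n82563 = n37900 := d4_1 D82563 F127190 (iv2 D82558)
def n82564 : Q := act 3 n37900
theorem D82564 : act 3 n37900 = n82564 := rfl
def n82565 : Q := act 4 n37900
theorem D82565 : act 4 n37900 = n82565 := rfl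
def n82566 : Q := act 5 n37900
theorem D82566 : act 5 n37900 = n82566 := rfl
def n82567 : Q := act 6 n37900
theorem D82567 : act 6 n37900 = n82567 := rfl
def n82568 : Q := act 0 n37901
theorem D82568 : act 0 n37901 = n82568 := rfl
def n82569 : Q := act 1 n37901
theorem D82569 : act 1 n37901 = n82569 := rfl
def n82570 : Q := act 4 n37901
theorem D82570 : act 4 n37901 = n82570 := rfl
theorem F127192 : act 6 n82570 = n37915 := d10_2 (iv6 F58752) D82570 (iv4 D37915)
def n82571 : Q := act 7 n37901
theorem D82571 : act 7 n37901 = n82571 := rfl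
theorem F127193 : act 5 n82571 = n37902 := d13_1 D82571 (iv7 D37902) D37901
def n82574 : Q := act 2 n37904
theorem D82574 : act 2 n37904 = n82574 := rfl
def n82575 : Q := act 4 n37904
theorem D82575 : act 4 n37904 = n82575 := rfl
theorem F127194 : act 3 n82575 = n56288 := d5_1 D82575 (iv4 D56288) F118961 (iv4 F118962) D37904
theorem F127195 : act 7 n82575 = n56356 := d11_2 F118909 D82575 (iv4 F118908)
def n82576 : Q := act 5 n37904
theorem D82576 : act 5 n37904 = n82576 := rfl
theorem F127196 : act 3 n82576 = n37906 := d6_1 D82576 (iv5 D37906) D37904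
def n82577 : Q := act 6 n37904
theorem D82577 : act 6 n37904 = n82577 := rfl
theorem F127197 : act 3 n82577 = n37907 := d7_1 D82577 (iv6 D37907) D37904
def n82578 : Q := act 1 n37906
theorem D82578 : act 1 n37906 = n82578 := rfl
theorem F127198 : act 1 n82578 = n37911 := d15_1 D82578 (iv7 F118926) F118925
theorem F127199 : act 5 n82578 = n38760 := d17_7 D45950 F72528 F72888 (iv5 D45762) (iv4 F118962) D37906 D82578 F59820 F119016
def n82579 : Q := act 4 n37906
theorem D82579 : act 4 n37906 = n82579 := rfl
def n82580 : Q := act 6 n37906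
theorem D82580 : act 6 n37906 = n82580 := rfl
def n82581 : Q := act 0 n37907
theorem D82581 : act 0 n37907 = n82581 := rfl
def n82582 : Q := act 7 n37907
theorem D82582 : act 7 n37907 = n82582 := rfl
def n82583 : Q := act 1 n37909
theorem D82583 : act 1 n37909 = n82583 := rfl
def n82584 : Q := act 2 n37909
theorem D82584 : act 2 n37909 = n82584 := rfl
def n82585 : Q := act 5 n37909
theorem D82585 : act 5 n37909 = n82585 := rfl
theorem F127200 : act 3 n82585 = n37911 := d6_1 D82585 (iv5 D37911) D37909
def n82586 : Q := act 6 n37909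
theorem D82586 : act 6 n37909 = n82586 := rfl
theorem F127201 : act 3 n82586 = n37912 := d7_1 D82586 (iv6 D37912) D37909
def n82587 : Q := act 4 n37911
theorem D82587 : act 4 n37911 = n82587 := rfl
def n82588 : Q := act 6 n37911
theorem D82588 : act 6 n37911 = n82588 := rfl
def n82589 : Q := act 1 n37912
theorem D82589 : act 1 n37912 = n82589 := rfl
def n82590 : Q := act 5 n37912
theorem D82590 : act 5 n37912 = n82590 := rfl
theorem F127202 : act 0 n82404 = n82590 := d21_1 D82404 (iv5 D82590) (iv6 D37912) (iv1 D18165) (iv6 D8566) D8565 D18161 F29332 D18281 (iv1 F121894)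
theorem F127203 : act 1 n82411 = n82590 := d15_0 (iv0 F127202) F126935 (iv2 F126955)
theorem E13753 : n82589 = n75356 := (c17_9 F117793 D37449 F117723 (iv5 D37801) D37800 D82411 F127203 (iv5 D82590) D82589 F112987)
theorem F127204 : act 0 n75356 = n37912 := (sb E13753 (iv1 D82589))
def n82591 : Q := act 2 n37913
theorem D82591 : act 2 n37913 = n82591 := rfl
theorem F127205 : act 7 n37914 = n82591 := d15_2 (iv0 D37913) D37914 (iv2 D82591)
def n82592 : Q := act 3 n37913
theorem D82592 : act 3 n37913 = n82592 := rfl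
def n82593 : Q := act 4 n37913
theorem D82593 : act 4 n37913 = n82593 := rfl
def n82594 : Q := act 5 n37913
theorem D82594 : act 5 n37913 = n82594 := rfl
theorem F127206 : act 4 n82594 = n45762 := d17_4 (iv1 D18165) D18166 D37913 D82594 (iv5 D45762) (iv0 D21877) F16614 D21878 (iv4 F118974)
theorem F127207 : act 1 n82594 = n38241 := d17_8 (iv1 F29636) (iv5 D18171) (iv1 F27515) F27511 (iv4 F54797) (iv5 F113313) F113317 D82594 F59116
theorem F127208 : act 0 n75575 = n82593 := d18_2 (iv1 D75574) D75575 (iv4 D82593) D82594 F127206 (iv0 F72888) F59485 (iv0 F118931) F118805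
theorem F127209 : act 5 n82593 = n82587 := d16_3 (iv4 F127206) (iv5 D82594) D82593 (iv4 D82587) (iv5 D37911) F118974 (iv5 F63821) F118976 (iv2 F118963)
theorem F127210 : act 1 n38796 = n82594 := d15_0 F127207 (iv7 F59666) (iv2 F59817)
theorem F127211 : act 2 n38793 = n82594 := d1_3 F127206 F118963 (iv4 F119016)
theorem F127212 : act 7 n38307 = n82594 := d11_0 F127206 F118964 (iv4 F118917)
theorem F127213 : act 7 n37913 = n75501 := d13_2 F127212 (iv5 D82594) (iv5 F113310)
theorem F127214 : act 2 n75501 = n37914 := d4_1 F127213 F127205 (iv2 D82591)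
theorem E13754 : n82591 = n75500 := (c15_4 (iv0 D75500) D75501 (iv7 F127213) D82591)
theorem F127215 : act 2 n75500 = n37913 := (sb E13754 (iv2 D82591))
theorem F127216 : act 7 n75500 = n37914 := (sb E13754 (iv7 F127205))
def n82595 : Q := act 6 n37913
theorem D82595 : act 6 n37913 = n82595 := rfl
def n82596 : Q := act 3 n37914
theorem D82596 : act 3 n37914 = n82596 := rfl
def n82597 : Q := act 4 n37914
theorem D82597 : act 4 n37914 = n82597 := rfl
theorem F127217 : act 5 n82597 = n82579 := d16_1 D82597 (iv4 D82579) (iv5 D37906) F118962 D45762 (iv4 F127206) (iv5 D82594) F127213 F127214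
theorem F127218 : act 0 n82597 = n75575 := d18_2 (iv1 F113315) D82597 (iv4 D75575) (iv5 D34571) F27533 D21878 (iv4 F118974) F54800 (iv5 F113313)
def n82598 : Q := act 5 n37914
theorem D82598 : act 5 n37914 = n82598 := rfl
theorem F127220 : act 4 n82598 = n41385 := d9_1 D82598 F63821 (iv4 F118974) D37911 D82587 (iv5 F127209) (iv4 D82593) D82594 F127206 (iv5 D45762) (iv4 F118962) D37906 D82579 (iv5 F127217) (iv4 D82597)
theorem F127221 : act 7 n82598 = n38793 := d13_2 F127216 D82598 (iv5 F113316)
theorem F127222 : act 1 n82598 = n38796 := d17_8 F117733 (iv5 D17978) (iv1 F117764) F7215 (iv4 F13407) D18166 D37914 D82598 F59818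
theorem F127223 : act 6 n38134 = n82598 := d21_5 D18153 (iv1 F29405) (iv5 D18233) D18234 D38134 (iv5 D82598) (iv1 D37914) (iv5 D18166) (iv6 D8566) D8562
theorem F127224 : act 1 n38241 = n82598 := d15_0 F127222 (iv7 D38796) (iv2 F59115)
def n82599 : Q := act 6 n37914
theorem D82599 : act 6 n37914 = n82599 := rfl
def n82600 : Q := act 0 n37915
theorem D82600 : act 0 n37915 = n82600 := rfl
theorem F127225 : act 4 n82600 = n45927 := d18_3 (iv1 D37914) D37915 D82600 F118944 (iv4 D37936) F29636 (iv4 F59116) F127224 (iv5 D82598)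
theorem F127226 : act 5 n81820 = n82600 := d16_1 D81820 F127225 F118944 (iv4 D37936) (iv5 D18171) D18170 D37933 (iv7 F113343) (iv2 F117798)
def n82601 : Q := act 1 n37915
theorem D82601 : act 1 n37915 = n82601 := rfl
theorem F127227 : act 4 n82601 = n45928 := d18_7 (iv1 F118892) (iv4 D17977) (iv1 F117764) (iv4 F13407) D18166 D37915 D82601 F113426 F113424
def n82602 : Q := act 3 n37915
theorem D82602 : act 3 n37915 = n82602 := rfl
def n82603 : Q := act 5 n37915
theorem D82603 : act 5 n37915 = n82603 := rfl
theorem F127228 : act 4 n82603 = n75503 := d16_2 D37915 D82603 F113313 F54797 F27511 (iv4 F54797) (iv5 F113313) (iv7 D75503) F54795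
theorem F127229 : act 7 n82603 = n75502 := d16_8 (iv4 D37915) (iv5 D18166) F13407 F7215 (iv4 F13407) D18166 D37915 D82603 F113311
theorem F127230 : act 1 n82603 = n82600 := d17_8 (iv1 F113428) F113424 (iv1 F118892) D37442 D81820 F127226 (iv0 D82600) D82603 F127225
theorem F127231 : act 1 n82601 = n82603 := d15_1 D82601 F127229 F113311
def n82604 : Q := act 7 n37915
theorem D82604 : act 7 n37915 = n82604 := rfl
theorem F127232 : act 2 n82604 = n82603 := d4_1 D82604 F127229 F113311
theorem F127233 : act 4 n82604 = n37916 := d11_1 D82604 (iv7 D37916) D37915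
theorem F127234 : act 5 n82604 = n75502 := d13_1 D82604 (iv7 F127229) (iv5 D82603)
def n82605 : Q := act 6 n37916
theorem D82605 : act 6 n37916 = n82605 := rfl
def n82606 : Q := act 0 n37932
theorem D82606 : act 0 n37932 = n82606 := rfl
def n82607 : Q := act 1 n37932
theorem D82607 : act 1 n37932 = n82607 := rfl
def n82608 : Q := act 2 n37932
theorem D82608 : act 2 n37932 = n82608 := rfl
def n82609 : Q := act 5 n37932
theorem D82609 : act 5 n37932 = n82609 := rfl
theorem F127235 : act 3 n82609 = n37933 := d6_1 D82609 (iv5 D37933) D37932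
def n82610 : Q := act 6 n37932
theorem D82610 : act 6 n37932 = n82610 := rfl
theorem F127236 : act 3 n82610 = n37934 := d7_1 D82610 (iv6 D37934) D37932
def n82611 : Q := act 4 n37933
theorem D82611 : act 4 n37933 = n82611 := rfl
theorem F127237 : act 5 n82611 = n82601 := d9_2 D37933 D82611 F127227 F118939 (iv4 D37446) (iv5 D17978) D17977 D37442 D81820 F127226 F127225 F118944 (iv4 D37936) (iv5 D18171) D18170
def n82612 : Q := act 6 n37933
theorem D82612 : act 6 n37933 = n82612 := rfl
def n82613 : Q := act 0 n37934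
theorem D82613 : act 0 n37934 = n82613 := rfl
def n82614 : Q := act 1 n37934
theorem D82614 : act 1 n37934 = n82614 := rfl
theorem F127238 : act 4 n82614 = n45956 := d17_9 (iv1 D45956) F63881 (iv1 D41437) (iv5 D19514) F14330 D18358 D38542 (iv5 F118929) D82614
theorem F127239 : act 6 n38677 = n82614 := d21_3 D8662 D18399 D38677 (iv1 D82614) (iv6 D37934) D37933 F118928 (iv5 D38672) (iv6 D18398) (iv1 D8661)
def n82615 : Q := act 7 n37934
theorem D82615 : act 7 n37934 = n82615 := rfl
theorem F127240 : act 4 n82615 = n37940 := d11_1 D82615 (iv7 D37940) (iv4 F58769)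
def n82616 : Q := act 3 n37936
theorem D82616 : act 3 n37936 = n82616 := rfl
def n82617 : Q := act 6 n37936
theorem D82617 : act 6 n37936 = n82617 := rfl
theorem F127241 : act 4 n82617 = n37937 := d10_1 D82617 (iv6 D37937) D37936
theorem F127242 : act 0 n82617 = n82396 := d21_4 D21957 D45927 F118944 D82617 (iv6 D82396) D82395 F126908 (iv5 D81823) (iv6 D37443) (iv1 F118895)
def n82618 : Q := act 0 n37956
theorem D82618 : act 0 n37956 = n82618 := rfl
def n82619 : Q := act 1 n37956
theorem D82619 : act 1 n37956 = n82619 := rfl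
def n82623 : Q := act 5 n37959
theorem D82623 : act 5 n37959 = n82623 := rfl
theorem F127251 : act 3 n82623 = n40734 := d6_1 D82623 (iv5 D40734) (iv3 F120699)
theorem F127252 : act 7 n82623 = n37983 := d13_2 (iv7 F118225) D82623 (iv5 D37983)
theorem F127253 : act 6 n37990 = n82623 := d21_5 (iv5 D17789) F17604 D8580 (iv6 F29357) D37990 (iv5 D82623) (iv1 D37959) D37960 F58787 F29345
def n82624 : Q := act 1 n37960
theorem D82624 : act 1 n37960 = n82624 := rfl
theorem F127254 : act 1 n82624 = n37993 := d15_1 D82624 (iv7 D37993) (iv2 F58786)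
theorem F127255 : act 7 n82624 = n37990 := d15_2 (iv0 F118496) D82624 (iv2 F118450)
theorem F127256 : act 5 n38391 = n82624 := d21_6 (iv5 D8199) (iv1 F12204) F7226 D8634 D18314 D38391 (iv1 D82624) (iv5 D37960) (iv6 D18179) F13412
theorem F127257 : act 2 n82624 = n37991 := d2_1 F127256 (iv5 F118446) F118424
theorem F127258 : act 1 n37993 = n45286 := d15_1 F127254 F118448 (iv2 F127257)
def n82625 : Q := act 4 n37960
theorem D82625 : act 4 n37960 = n82625 := rfl
theorem F127259 : act 2 n82625 = n37992 := d1_1 D82625 (iv4 D37992) (iv2 F58786)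
theorem F127261 : act 1 n82625 = n56502 := d18_6 (iv1 F43923) D27179 (iv1 F118030) F56043 D37960 D82625 (iv4 D56502) F89294 F89291
def n82626 : Q := act 7 n37960
theorem D82626 : act 7 n37960 = n82626 := rfl
theorem F127263 : act 5 n82626 = n37961 := d13_1 D82626 (iv7 D37961) D37960
theorem F127265 : act 1 n37991 = n82626 := d15_1 D37991 (iv7 D82626) F58786
theorem F127266 : act 1 n82626 = n37990 := d15_1 F127265 (iv7 F127255) F127257
def n82627 : Q := act 3 n37962
theorem D82627 : act 3 n37962 = n82627 := rfl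
theorem F127268 : act 7 n82627 = n82627 := d8_2 F58793 D82627 (iv3 D82627)
def n82629 : Q := act 5 n37964
theorem D82629 : act 5 n37964 = n82629 := rfl
theorem F127274 : act 2 n82629 = n57070 := d2_1 D82629 (iv5 D57070) F120945
theorem F127276 : act 7 n82629 = n57065 := d13_2 (iv7 F120944) D82629 (iv5 D57065)
theorem F127279 : act 1 n82087 = n82629 := d15_1 D82087 F127276 F120984
theorem F127280 : act 4 n80852 = n82087 := d18_7 (iv1 D37964) (iv4 F57744) F120728 (iv4 D17774) D17775 D36922 D80852 F127279 (iv5 D82629)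
def n82630 : Q := act 6 n37964
theorem D82630 : act 6 n37964 = n82630 := rfl
theorem F127283 : act 3 n82630 = n75394 := d7_1 D82630 (iv6 D75394) (iv3 F120652)
theorem F127284 : act 4 n82630 = n80638 := d10_1 D82630 (iv6 D80638) (iv4 F120653)
theorem F127285 : act 0 n77219 = n80638 := d20_1 (iv4 F115981) (iv4 F127284) F127283 F122575 F54876 D34629 D75730 (iv4 F122138) F122135 (iv1 F59810)
theorem F127287 : act 1 n79145 = n80638 := d15_0 (iv0 F127285) (iv7 F123660) F123659
def n82631 : Q := act 1 n37965
theorem D82631 : act 1 n37965 = n82631 := rfl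
theorem F127290 : act 1 n82631 = n57075 := d15_1 D82631 (iv7 D57075) (iv2 F58797)
theorem F127291 : act 7 n82631 = n57072 := d15_2 (iv0 F120982) D82631 (iv2 F121020)
theorem F127292 : act 5 n57460 = n82631 := d21_6 F13466 F12770 (iv5 F14035) D13151 D27487 D57460 (iv1 D82631) (iv5 D37965) (iv6 D18181) F13474
theorem F127293 : act 2 n82631 = n57073 := d2_1 F127292 (iv5 F121016) F120929
def n82632 : Q := act 7 n37965
theorem D82632 : act 7 n37965 = n82632 := rfl
theorem F127298 : act 5 n82632 = n37966 := d13_1 D82632 (iv7 D37966) D37965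
theorem F127300 : act 1 n57073 = n82632 := d15_1 D57073 (iv7 D82632) F58797
theorem F127301 : act 1 n82632 = n57072 := d15_1 F127300 (iv7 F127291) F127293
def n82633 : Q := act 5 n37967
theorem D82633 : act 5 n37967 = n82633 := rfl
theorem F127302 : act 2 n82633 = n79149 := d2_1 D82633 (iv5 D79149) F117072
theorem F127303 : act 7 n82633 = n79150 := d13_2 (iv7 F117076) D82633 (iv5 D79150)
def n82634 : Q := act 4 n37970
theorem D82634 : act 4 n37970 = n82634 := rfl
theorem F127304 : act 2 n82634 = n37973 := d1_1 D82634 F113247 F113258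
theorem F127305 : act 5 n82634 = n37972 := d16_3 F59055 F113261 D82634 F58809 (iv5 F53182) F53181 (iv5 F87067) F110295 F110296
def n82635 : Q := act 6 n37970
theorem D82635 : act 6 n37970 = n82635 := rfl
def n82636 : Q := act 3 n37971
theorem D82636 : act 3 n37971 = n82636 := rfl
theorem F127306 : act 4 n82636 = n57055 := d5_2 F113256 D82636 F90109 (iv4 F54775) (iv3 F113254)
theorem F127308 : act 0 n82636 = n71959 := d20_7 (iv4 D55995) F43644 (iv4 F51935) (iv3 F51936) (iv1 F44256) (iv3 F90109) (iv4 F127306) F108457 (iv3 D69811) (iv1 F88632)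
def n82637 : Q := act 5 n37971
theorem D82637 : act 5 n37971 = n82637 := rfl
theorem F127309 : act 2 n82637 = n82387 := d2_1 D82637 F126892 (iv2 F113259)
theorem F127310 : act 4 n82637 = n38026 := d9_1 D82637 F87067 (iv4 F53181) F53182 (iv4 F58809) (iv5 F127305) (iv4 D82634) (iv5 F113261) (iv4 F59055) F58857 F54790 (iv5 D34540) (iv4 F54771) D75461 F113256
theorem F127311 : act 0 n82637 = n80171 := d17_2 (iv1 F113253) D82637 F123115 F58944 D38131 F59259 (iv5 D38022) F54787 (iv4 F113250)
def n82638 : Q := act 6 n37971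
theorem D82638 : act 6 n37971 = n82638 := rfl
def n82639 : Q := act 6 n37972
theorem D82639 : act 6 n37972 = n82639 := rfl
theorem F127312 : act 2 n82639 = n37974 := d3_1 D82639 (iv6 D37974) D37972
theorem F127313 : act 4 n82639 = n38024 := d10_1 D82639 (iv6 D38024) (iv4 F58809)
def n82640 : Q := act 1 n37973
theorem D82640 : act 1 n37973 = n82640 := rfl
theorem F127314 : act 4 n82640 = n38408 := d17_9 (iv1 D38408) (iv5 D18321) D18318 (iv5 F58857) F59055 F113261 (iv0 D37970) D37973 D82640
theorem F127315 : act 5 n82640 = n38378 := d18_9 (iv1 D38378) F29511 D18318 F54790 (iv5 D34540) (iv4 F54771) D75459 (iv4 F113247) D82640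
theorem F127316 : act 3 n81651 = n82640 := d19_19 (iv1 D82640) (iv5 D37973) F29352 (iv3 D8586) (iv1 F13406) D18156 F29330 D22402 F34959 (iv5 D19308) (iv4 F30953) (iv3 D19299) F14151 D10124 (iv4 F29103) D37339 F125559 (iv5 D81652) D81651
def n82641 : Q := act 6 n37973
theorem D82641 : act 6 n37973 = n82641 := rfl
def n82642 : Q := act 0 n37974
theorem D82642 : act 0 n37974 = n82642 := rfl
def n82645 : Q := act 7 n37974
theorem D82645 : act 7 n37974 = n82645 := rfl
theorem F127319 : act 3 n82645 = n37979 := d8_1 D82645 (iv7 D37979) (iv3 F58811)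
theorem F127320 : act 4 n82645 = n38032 := d11_1 D82645 (iv7 D38032) (iv4 F58812)
theorem F127321 : act 6 n82645 = n80360 := d14_1 D82645 F123470 (iv6 D75462) F54772 D37974
def n82648 : Q := act 5 n37975
theorem D82648 : act 5 n37975 = n82648 := rfl
theorem F127322 : act 6 n82648 = n37978 := d12_2 D37975 D82648 (iv5 D37978) (iv6 D18186) D18185
def n82650 : Q := act 3 n37976
theorem D82650 : act 3 n37976 = n82650 := rfl
theorem F127323 : act 7 n82650 = n56489 := d8_2 (iv7 F118205) D82650 (iv3 D56489)
def n82651 : Q := act 5 n37976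
theorem D82651 : act 5 n37976 = n82651 := rfl
theorem F127324 : act 2 n82651 = n56471 := d2_1 D82651 (iv5 D56471) (iv2 F118203)
theorem F127325 : act 7 n82651 = n56490 := d13_2 (iv7 F118205) D82651 (iv5 D56490)
def n82653 : Q := act 6 n37977
theorem D82653 : act 6 n37977 = n82653 := rfl
theorem F127328 : act 2 n82653 = n56491 := d3_1 D82653 (iv6 D56491) (iv2 F118206)
def n82655 : Q := act 1 n37978
theorem D82655 : act 1 n37978 = n82655 := rfl
theorem F127330 : act 5 n56108 = n82655 := d21_6 D17634 (iv1 F57357) F57359 D38372 F118391 D56108 (iv1 D82655) (iv5 D37978) (iv6 D18186) (iv1 F13483)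
def n82658 : Q := act 5 n37981
theorem D82658 : act 5 n37981 = n82658 := rfl
theorem F127334 : act 7 n82658 = n40734 := d13_2 (iv7 F120691) D82658 (iv5 D40734)
def n82659 : Q := act 6 n37981
theorem D82659 : act 6 n37981 = n82659 := rfl
theorem F127336 : act 2 n82659 = n40730 := d3_1 D82659 (iv6 D40730) (iv2 F120690)
theorem F127337 : act 3 n82659 = n37984 := d7_1 D82659 (iv6 D37984) D37981
theorem F127338 : act 5 n82659 = n57340 := d21_6 (iv5 D10293) F6764 (iv5 F14061) D19168 F120719 D82659 (iv1 D57340) (iv5 D27451) (iv6 D13139) (iv1 F16317)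
theorem F127339 : act 2 n57340 = n38990 := d2_1 F127338 F121034 (iv2 F127336)
def n82660 : Q := act 0 n37983
theorem D82660 : act 0 n37983 = n82660 := rfl
theorem F127340 : act 5 n82660 = n80622 := d21_2 D37983 D82660 (iv6 D80622) (iv1 D36792) (iv6 D17737) (iv5 D8355) F6668 D3847 D8577 D18187
def n82661 : Q := act 1 n37983
theorem D82661 : act 1 n37983 = n82661 := rfl
def n82664 : Q := act 0 n37984
theorem D82664 : act 0 n37984 = n82664 := rfl
def n82665 : Q := act 1 n37984
theorem D82665 : act 1 n37984 = n82665 := rfl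
def n82666 : Q := act 5 n37984
theorem D82666 : act 5 n37984 = n82666 := rfl
theorem F127343 : act 2 n82666 = n77893 := d2_1 D82666 F119110 F118491
theorem F127344 : act 3 n82666 = n57340 := d6_1 D82666 (iv5 F127338) F127337
theorem F127345 : act 0 n82666 = n79109 := d21_7 (iv5 D8355) F6668 D3847 D8577 D18187 D37984 D82666 (iv5 D79109) (iv6 D36003) F28427
theorem F127346 : act 7 n82666 = n77888 := d15_2 (iv0 F120378) (iv0 F127345) F119117
def n82667 : Q := act 7 n37984
theorem D82667 : act 7 n37984 = n82667 := rfl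
theorem F127348 : act 4 n82667 = n77761 := d11_1 D82667 F117139 (iv4 F118223)
theorem F127349 : act 5 n82667 = n77888 := d13_1 D82667 (iv7 F127346) (iv5 D82666)
def n82669 : Q := act 3 n37990
theorem D82669 : act 3 n37990 = n82669 := rfl
theorem F127350 : act 2 n82669 = n40736 := d0_1 D82669 (iv3 F121004) F116969 D45286 F118450
theorem F127351 : act 6 n82669 = n40734 := d7_2 (iv6 F127253) D82669 (iv3 F127251)
theorem F127352 : act 0 n40589 = n82669 := d21_4 (iv5 D19220) (iv1 F14114) D19169 (iv6 F61712) F127351 (iv5 D40734) (iv1 D19217) D19218 F30869 (iv1 F30873)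
theorem F127353 : act 1 n40589 = n45290 := d15_1 (iv0 F127352) (iv7 F121005) (iv2 F127350)
theorem F127354 : act 1 n45290 = n40739 := d15_1 F127353 (iv7 D40739) (iv2 F61710)
theorem F127355 : act 7 n40737 = n82669 := d15_2 (iv0 D40736) D40737 F127350
theorem F127356 : act 2 n40737 = n45290 := d4_3 (iv7 F121005) (iv2 F127350) (iv7 F127355)
theorem F127357 : act 3 n82624 = n40737 := d0_0 F127356 (iv3 D45290) (iv2 F117009) (iv3 F118447) (iv2 F127257)
theorem F127358 : act 1 n40739 = n82669 := d15_1 F127354 (iv7 F127355) F127356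
def n82670 : Q := act 4 n37990
theorem D82670 : act 4 n37990 = n82670 := rfl
def n82671 : Q := act 5 n37990
theorem D82671 : act 5 n37990 = n82671 := rfl
theorem F127359 : act 7 n82671 = n38391 := d13_2 F127255 D82671 F127256
def n82672 : Q := act 6 n37991
theorem D82672 : act 6 n37991 = n82672 := rfl
def n82673 : Q := act 0 n37992
theorem D82673 : act 0 n37992 = n82673 := rfl
def n82674 : Q := act 1 n37992
theorem D82674 : act 1 n37992 = n82674 := rfl
theorem F127360 : act 4 n82674 = n56117 := d18_7 (iv1 F43915) (iv4 F118207) (iv1 D37977) F29355 D18189 D37992 D82674 (iv0 F88782) F43938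
theorem F127361 : act 2 n56502 = n82674 := d1_3 F127360 F91508 D56502
theorem F127362 : act 7 n56498 = n82674 := d11_0 F127360 F91509 D56498
theorem F127363 : act 2 n56498 = n82673 := d15_3 (iv0 D82673) D82674 (iv7 F127362)
theorem F127365 : act 7 n82673 = n56502 := d4_2 (iv7 F127362) F127363 F127361
theorem F127366 : act 1 n56498 = n82625 := d15_0 F127261 (iv7 F127365) (iv2 F127363)
def n82677 : Q := act 7 n37992
theorem D82677 : act 7 n37992 = n82677 := rfl
theorem F127370 : act 4 n82677 = n37993 := d11_1 D82677 (iv7 D37993) D37992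
theorem F127372 : act 1 n56502 = n82677 := d15_1 F127261 (iv7 D82677) (iv2 F127259)
def n82680 : Q := act 2 n37994
theorem D82680 : act 2 n37994 = n82680 := rfl
theorem F127374 : act 4 n82680 = n38119 := d1_2 (iv4 F58820) D82680 (iv2 D38119)
def n82683 : Q := act 6 n37996
theorem D82683 : act 6 n37996 = n82683 := rfl
theorem F127380 : act 2 n82683 = n41648 := d3_1 D82683 (iv6 D41648) F58826
theorem F127381 : act 4 n82683 = n41650 := d10_1 D82683 (iv6 D41650) (iv4 F58825)
def n82684 : Q := act 6 n37997
theorem D82684 : act 6 n37997 = n82684 := rfl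
theorem F127382 : act 2 n82684 = n37998 := d3_1 D82684 (iv6 D37998) D37997
theorem F127383 : act 3 n82684 = n41630 := d7_1 D82684 (iv6 D41630) (iv3 F58828)
def n82685 : Q := act 0 n37998
theorem D82685 : act 0 n37998 = n82685 := rfl
def n82686 : Q := act 1 n37998
theorem D82686 : act 1 n37998 = n82686 := rfl
def n82687 : Q := act 5 n37998
theorem D82687 : act 5 n37998 = n82687 := rfl
theorem F127385 : act 6 n82687 = n47239 := d12_2 D37998 D82687 (iv5 D47239) (iv6 D22721) (iv5 F29360)
def n82688 : Q := act 0 n37999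
theorem D82688 : act 0 n37999 = n82688 := rfl
theorem F127386 : act 5 n82688 = n43982 := d17_3 (iv1 F35327) D37999 D82688 F69157 F33016 (iv0 F62677) (iv5 D4834) D4833 D10566
theorem F127387 : act 1 n41646 = n82688 := d15_0 (iv0 D82688) (iv7 F71983) F71982
theorem F127388 : act 2 n41643 = n82688 := d2_3 F127386 (iv2 F74762) F74765
def n82689 : Q := act 1 n37999
theorem D82689 : act 1 n37999 = n82689 := rfl
theorem F127393 : act 7 n82689 = n41643 := d15_2 (iv0 D82688) D82689 F127388
theorem F127394 : act 5 n46351 = n82689 := d21_6 (iv5 F14429) (iv1 F17160) (iv5 D10621) D10622 (iv1 F62713) (iv6 F73015) (iv1 D82689) (iv5 D37999) (iv6 D18193) F13491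
theorem F127395 : act 2 n82689 = n41644 := d2_1 F127394 (iv5 F64268) (iv2 F73014)
def n82690 : Q := act 4 n37999
theorem D82690 : act 4 n37999 = n82690 := rfl
theorem F127398 : act 6 n82690 = n47253 := d10_2 (iv6 F58835) D82690 (iv4 D47253)
def n82691 : Q := act 0 n38004
theorem D82691 : act 0 n38004 = n82691 := rfl
theorem F127399 : act 5 n82691 = n82477 := d17_3 D18194 D38004 D82691 F127083 (iv5 F72148) (iv0 D45629) (iv5 D21797) F62616 F29363
theorem F127402 : act 1 n38009 = n82691 := d15_0 (iv0 D82691) F62930 F62891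
def n82694 : Q := act 1 n38005
theorem D82694 : act 1 n38005 = n82694 := rfl
theorem F127410 : act 7 n82694 = n41752 := d15_2 (iv0 F127105) D82694 (iv2 F127102)
theorem F127412 : act 6 n44003 = n82694 := d21_3 D37843 F72213 (iv5 F69219) (iv1 D82694) (iv6 D38005) D38004 D82691 F127399 (iv6 D82477) (iv1 D37842)
theorem F127414 : act 5 n82694 = n42765 := d12_1 F127412 F75876 (iv5 F75874) (iv6 D48267) (iv5 F69219)
def n82695 : Q := act 7 n38005
theorem D82695 : act 7 n38005 = n82695 := rfl
theorem F127416 : act 4 n82695 = n46762 := d11_1 D82695 F73876 F64090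
theorem F127417 : act 5 n82695 = n40876 := d13_1 D82695 F63053 F62933
theorem F127418 : act 6 n82695 = n43516 := d14_1 D82695 F68387 (iv6 D20984) F62886 D38005
theorem F127419 : act 0 n41752 = n82695 := d17_0 F127417 (iv1 F74273) F74271 F35149 (iv5 F35160) (iv0 F73455) F73452 (iv0 D41755) (iv4 F64397)
def n82696 : Q := act 5 n38007
theorem D82696 : act 5 n38007 = n82696 := rfl
theorem F127420 : act 2 n82696 = n40709 := d2_1 D82696 (iv5 D40709) F62900
theorem F127422 : act 7 n82696 = n40704 := d13_2 (iv7 F62899) D82696 (iv5 D40704)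
theorem F127423 : act 0 n82696 = n44110 := d17_2 (iv1 F62913) D82696 (iv5 F71969) F75562 F75561 F71750 (iv5 D21733) F34164 F62597
theorem F127425 : act 6 n40711 = n82696 := d21_5 (iv5 D9976) (iv1 F17408) D9031 (iv6 F30856) D40711 (iv5 D82696) F62912 D40676 F61772 F30840
def n82697 : Q := act 6 n38007
theorem D82697 : act 6 n38007 = n82697 := rfl
theorem F127428 : act 2 n82697 = n40710 := d3_1 D82697 (iv6 D40710) F62900
theorem F127429 : act 3 n82697 = n38010 := d7_1 D82697 (iv6 D38010) D38007
theorem F127430 : act 4 n82697 = n42020 := d10_1 D82697 F64869 (iv4 F62909)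
theorem F127431 : act 5 n82697 = n48413 := d12_1 D82697 F76110 F75861 F127425 (iv5 D82696)
theorem F127432 : act 0 n40420 = n82697 := d17_0 F127431 F76112 (iv5 D41235) (iv4 F63179) D44946 (iv0 F71803) (iv5 D45525) F71452 F71448
def n82698 : Q := act 7 n38010
theorem D82698 : act 7 n38010 = n82698 := rfl
theorem F127433 : act 2 n82698 = n43516 := d4_1 D82698 F68387 F62892
theorem F127434 : act 4 n82698 = n47542 := d11_1 D82698 F74741 F64095
theorem F127435 : act 5 n82698 = n41201 := d13_1 D82698 F63017 F62406
theorem F127436 : act 1 n41751 = n82698 := d15_1 (iv0 F64393) (iv7 D82698) (iv2 F62892)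
theorem F127437 : act 1 n82698 = n41735 := d15_1 F127436 F67814 F67810
def n82699 : Q := act 5 n38011
theorem D82699 : act 5 n38011 = n82699 := rfl
theorem F127438 : act 3 n82699 = n41316 := d6_1 D82699 F63649 F63038
theorem F127439 : act 6 n82699 = n41200 := d12_2 (iv6 F63037) D82699 (iv5 F63009) (iv6 D20984) D20983
theorem F127441 : act 4 n82699 = n47559 := d17_4 (iv1 D18195) D18196 D38011 D82699 F74784 (iv0 D41542) (iv5 D19558) D19557 F62915
theorem F127442 : act 1 n82699 = n43374 := d17_8 F69160 (iv5 F127386) (iv1 F127387) F64269 (iv4 F58732) D82493 (iv0 F127138) D82699 F68137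
def n82700 : Q := act 3 n38012
theorem D82700 : act 3 n38012 = n82700 := rfl
theorem F127444 : act 5 n82700 = n40988 := d6_2 F74108 D82700 (iv3 F74106)
theorem F127446 : act 0 n82700 = n40676 := d20_4 (iv4 F34642) (iv1 F64122) (iv4 F73030) D82700 F61771 (iv4 F69968) F69970 (iv4 D41551) F62225 (iv1 F31330)
def n82704 : Q := act 1 n38015
theorem D82704 : act 1 n38015 = n82704 := rfl
theorem F127453 : act 1 n82704 = n44200 := d15_1 D82704 (iv7 D44200) (iv2 F58847)
theorem F127454 : act 4 n82704 = n46377 := d20_0 (iv1 D46377) F34649 F17614 D22214 (iv3 F73086) F73087 (iv1 F69568) F69564 (iv3 F69543) (iv1 F127453)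
theorem F127455 : act 3 n82704 = n44177 := d20_3 (iv4 F69971) (iv1 F73055) (iv4 F127454) (iv1 D44177) F33172 (iv4 F33186) D44191 (iv4 F73087) F73086 (iv1 F34654)
theorem F127457 : act 4 n44177 = n45571 := d20_6 F73087 (iv1 F69568) F69564 (iv3 F69543) (iv1 F127453) F127455 (iv1 D45571) F34196 (iv3 F33192) D44201
theorem F127459 : act 2 n45571 = n45590 := d1_1 F127457 F71881 (iv2 F75863)
theorem F127462 : act 7 n45570 = n45590 := d15_2 F71887 F71888 (iv2 F127459)
def n82705 : Q := act 7 n38015
theorem D82705 : act 7 n38015 = n82705 := rfl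
theorem F127465 : act 2 n82705 = n44200 := d4_1 D82705 (iv7 D44200) (iv2 F58847)
theorem F127469 : act 1 n44199 = n82705 := d15_1 D44199 (iv7 D82705) F58847
theorem F127471 : act 1 n82705 = n44198 := d15_0 (iv0 D44198) D44200 (iv2 F127465)
def n82709 : Q := act 5 n38016
theorem D82709 : act 5 n38016 = n82709 := rfl
theorem F127475 : act 3 n82709 = n38017 := d6_1 D82709 (iv5 D38017) D38016
def n82711 : Q := act 4 n38019
theorem D82711 : act 4 n38019 = n82711 := rfl
theorem F127478 : act 2 n82711 = n82640 := d1_1 D82711 F127314 (iv2 F59269)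
theorem F127479 : act 7 n82711 = n75317 := d11_2 (iv7 F59266) D82711 F112927
theorem F127480 : act 0 n82711 = n82634 := d18_2 F58970 D82711 (iv4 D82634) (iv5 F113261) (iv4 F59055) (iv0 D38025) D38027 (iv0 F58861) D38131
theorem F127481 : act 3 n82711 = n75248 := d19_3 D18200 D38019 D82711 (iv1 D75248) F54649 (iv4 F64333) (iv3 D41686) (iv1 F36437) F36435 (iv4 D13138) (iv3 D6254) (iv1 F9704) (iv5 D6225) F4211 F4210 (iv1 F2856) D1676 D3851 D8586
theorem F127482 : act 0 n75461 = n82711 := d20_10 (iv4 D82711) (iv1 F59261) (iv4 F59260) F86630 (iv1 F86628) F42464 (iv4 F43355) (iv1 F44256) (iv4 F54775) (iv3 F113254)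
def n82712 : Q := act 6 n38019
theorem D82712 : act 6 n38019 = n82712 := rfl
def n82713 : Q := act 0 n38020
theorem D82713 : act 0 n38020 = n82713 := rfl
def n82714 : Q := act 1 n38020
theorem D82714 : act 1 n38020 = n82714 := rfl
def n82715 : Q := act 5 n38020
theorem D82715 : act 5 n38020 = n82715 := rfl
def n82716 : Q := act 7 n38020
theorem D82716 : act 7 n38020 = n82716 := rfl
def n82717 : Q := act 4 n38022
theorem D82717 : act 4 n38022 = n82717 := rfl
theorem F127483 : act 2 n82717 = n75317 := d1_1 D82717 F112927 (iv2 F59265)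
theorem F127485 : act 0 n82717 = n75461 := d17_0 (iv5 D75461) D75458 (iv5 F126892) F126894 (iv5 F110300) (iv0 F58861) D38131 F59259 D82717
def n82718 : Q := act 6 n38022
theorem D82718 : act 6 n38022 = n82718 := rfl
def n82719 : Q := act 0 n38023
theorem D82719 : act 0 n38023 = n82719 := rfl
def n82721 : Q := act 5 n38023
theorem D82721 : act 5 n38023 = n82721 := rfl
def n82722 : Q := act 7 n38023
theorem D82722 : act 7 n38023 = n82722 := rfl
def n82723 : Q := act 0 n38024
theorem D82723 : act 0 n38024 = n82723 := rfl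
def n82724 : Q := act 1 n38024
theorem D82724 : act 1 n38024 = n82724 := rfl
theorem F127487 : act 1 n82724 = n38032 := d15_1 D82724 (iv7 D38032) (iv2 F58856)
def n82725 : Q := act 5 n38024
theorem D82725 : act 5 n38024 = n82725 := rfl
theorem F127488 : act 2 n82725 = n38031 := d2_1 D82725 (iv5 D38031) (iv2 F58856)
def n82726 : Q := act 7 n38024
theorem D82726 : act 7 n38024 = n82726 := rfl
theorem F127489 : act 2 n82726 = n38032 := d4_1 D82726 (iv7 D38032) (iv2 F58856)
theorem F127490 : act 1 n38032 = n82723 := d15_0 (iv0 D82723) D82726 F127489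
theorem F127491 : act 1 n38030 = n82726 := d15_1 D38030 (iv7 D82726) F58856
theorem F127492 : act 1 n82726 = n38029 := d15_0 (iv0 D38029) D38032 (iv2 F127489)
def n82727 : Q := act 3 n38025
theorem D82727 : act 3 n38025 = n82727 := rfl
theorem F127493 : act 4 n82727 = n57343 := d5_2 (iv4 F59055) D82727 F90526 (iv4 D38195) D38194
theorem F127494 : act 5 n82727 = n38401 := d6_2 (iv5 F58857) D82727 (iv3 D38401)
theorem F127495 : act 7 n82727 = n47216 := d8_2 F110298 D82727 (iv3 F110301)
theorem F127496 : act 0 n82727 = n73039 := d19_4 D37970 (iv5 F113261) (iv4 F59055) D82727 F109560 F74247 F61713 F30801 (iv5 D10967) (iv4 D4998) D4997 (iv1 F13245) (iv5 D8435) (iv4 D3777) (iv3 F5748) F6668 D3847 D8576 D18184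
theorem F127497 : act 1 n82727 = n73043 := d15_1 (iv0 F127496) F116272 (iv2 F116271)
def n82728 : Q := act 6 n38025
theorem D82728 : act 6 n38025 = n82728 := rfl
def n82729 : Q := act 6 n38026
theorem D82729 : act 6 n38026 = n82729 := rfl
def n82730 : Q := act 6 n38027
theorem D82730 : act 6 n38027 = n82730 := rfl
theorem F127498 : act 2 n82730 = n38404 := d3_1 D82730 (iv6 D38404) (iv2 F58858)
theorem F127499 : act 3 n82730 = n47217 := d7_1 D82730 (iv6 D47217) (iv3 F58859)
theorem F127500 : act 4 n82730 = n38028 := d10_1 D82730 (iv6 D38028) D38027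
def n82731 : Q := act 0 n38028
theorem D82731 : act 0 n38028 = n82731 := rfl
def n82732 : Q := act 1 n38028
theorem D82732 : act 1 n38028 = n82732 := rfl
def n82733 : Q := act 5 n38028
theorem D82733 : act 5 n38028 = n82733 := rfl
theorem F127501 : act 3 n82733 = n38035 := d6_1 D82733 (iv5 D38035) (iv3 F58863)
theorem F127502 : act 6 n82733 = n38031 := d12_2 D38028 D82733 (iv5 D38031) (iv6 D18204) D18203
def n82734 : Q := act 7 n38028
theorem D82734 : act 7 n38028 = n82734 := rfl
theorem F127503 : act 3 n82734 = n38036 := d8_1 D82734 (iv7 D38036) (iv3 F58863)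
def n82735 : Q := act 2 n38029
theorem D82735 : act 2 n38029 = n82735 := rfl
theorem F127504 : act 7 n38030 = n82735 := d15_2 (iv0 D38029) D38030 (iv2 D82735)
def n82736 : Q := act 3 n38029
theorem D82736 : act 3 n38029 = n82736 := rfl
def n82737 : Q := act 4 n38029
theorem D82737 : act 4 n38029 = n82737 := rfl
def n82738 : Q := act 5 n38029
theorem D82738 : act 5 n38029 = n82738 := rfl
def n82739 : Q := act 6 n38029
theorem D82739 : act 6 n38029 = n82739 := rfl
def n82740 : Q := act 7 n38029
theorem D82740 : act 7 n38029 = n82740 := rfl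
theorem F127505 : act 2 n82740 = n38030 := d4_1 D82740 F127504 (iv2 D82735)
def n82741 : Q := act 3 n38030
theorem D82741 : act 3 n38030 = n82741 := rfl
def n82742 : Q := act 4 n38030
theorem D82742 : act 4 n38030 = n82742 := rfl
def n82743 : Q := act 5 n38030
theorem D82743 : act 5 n38030 = n82743 := rfl
def n82744 : Q := act 6 n38030
theorem D82744 : act 6 n38030 = n82744 := rfl
def n82745 : Q := act 0 n38031
theorem D82745 : act 0 n38031 = n82745 := rfl
def n82746 : Q := act 1 n38031
theorem D82746 : act 1 n38031 = n82746 := rfl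
def n82747 : Q := act 4 n38031
theorem D82747 : act 4 n38031 = n82747 := rfl
def n82748 : Q := act 7 n38031
theorem D82748 : act 7 n38031 = n82748 := rfl
theorem F127506 : act 3 n82748 = n38050 := d8_1 D82748 (iv7 D38050) (iv3 F58864)
theorem F127507 : act 5 n82748 = n38032 := d13_1 D82748 (iv7 D38032) D38031
def n82749 : Q := act 2 n38033
theorem D82749 : act 2 n38033 = n82749 := rfl
theorem F127508 : act 7 n38034 = n82749 := d15_2 (iv0 D38033) D38034 (iv2 D82749)
def n82750 : Q := act 3 n38033
theorem D82750 : act 3 n38033 = n82750 := rfl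
def n82751 : Q := act 4 n38033
theorem D82751 : act 4 n38033 = n82751 := rfl
def n82752 : Q := act 5 n38033
theorem D82752 : act 5 n38033 = n82752 := rfl
def n82753 : Q := act 6 n38033
theorem D82753 : act 6 n38033 = n82753 := rfl
def n82754 : Q := act 7 n38033
theorem D82754 : act 7 n38033 = n82754 := rfl
theorem F127509 : act 2 n82754 = n38034 := d4_1 D82754 F127508 (iv2 D82749)
def n82755 : Q := act 3 n38034
theorem D82755 : act 3 n38034 = n82755 := rfl
def n82756 : Q := act 4 n38034
theorem D82756 : act 4 n38034 = n82756 := rfl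
def n82757 : Q := act 5 n38034
theorem D82757 : act 5 n38034 = n82757 := rfl
def n82758 : Q := act 6 n38034
theorem D82758 : act 6 n38034 = n82758 := rfl
def n82759 : Q := act 0 n38035
theorem D82759 : act 0 n38035 = n82759 := rfl
def n82760 : Q := act 1 n38035
theorem D82760 : act 1 n38035 = n82760 := rfl
def n82761 : Q := act 4 n38035
theorem D82761 : act 4 n38035 = n82761 := rfl
theorem F127510 : act 6 n82761 = n38049 := d10_2 (iv6 F58866) D82761 (iv4 D38049)
def n82762 : Q := act 7 n38035
theorem D82762 : act 7 n38035 = n82762 := rfl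
theorem F127511 : act 5 n82762 = n38036 := d13_1 D82762 (iv7 D38036) D38035
def n82763 : Q := act 0 n38038
theorem D82763 : act 0 n38038 = n82763 := rfl
def n82764 : Q := act 1 n38038
theorem D82764 : act 1 n38038 = n82764 := rfl
def n82765 : Q := act 2 n38038
theorem D82765 : act 2 n38038 = n82765 := rfl
def n82766 : Q := act 5 n38038
theorem D82766 : act 5 n38038 = n82766 := rfl
def n82767 : Q := act 6 n38038
theorem D82767 : act 6 n38038 = n82767 := rfl
theorem F127513 : act 3 n82767 = n38041 := d7_1 D82767 (iv6 D38041) D38038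
def n82768 : Q := act 0 n38040
theorem D82768 : act 0 n38040 = n82768 := rfl
theorem F127514 : act 5 n82768 = n82412 := d17_3 D18206 D38040 D82768 F126958 (iv5 F117949) (iv0 D37716) (iv5 D18076) (iv0 F117914) (iv4 F13499)
theorem F127515 : act 1 n38045 = n82768 := d15_0 (iv0 D82768) (iv7 F118294) F118293
theorem F127516 : act 1 n82412 = n38422 := d17_8 F126793 F124575 (iv1 D80858) (iv5 D36934) F118012 D38045 F127515 F127514 (iv4 F118453)
def n82769 : Q := act 1 n38040
theorem D82769 : act 1 n38040 = n82769 := rfl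
theorem F127517 : act 1 n82769 = n38045 := d15_1 D82769 (iv7 F118300) F118299
def n82771 : Q := act 6 n38040
theorem D82771 : act 6 n38040 = n82771 := rfl
def n82772 : Q := act 7 n38041
theorem D82772 : act 7 n38041 = n82772 := rfl
def n82773 : Q := act 0 n38043
theorem D82773 : act 0 n38043 = n82773 := rfl
def n82774 : Q := act 1 n38043
theorem D82774 : act 1 n38043 = n82774 := rfl
def n82775 : Q := act 2 n38043
theorem D82775 : act 2 n38043 = n82775 := rfl
def n82777 : Q := act 6 n38043
theorem D82777 : act 6 n38043 = n82777 := rfl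
theorem F127520 : act 3 n82777 = n38046 := d7_1 D82777 (iv6 D38046) D38043
theorem F127521 : act 4 n82777 = n80864 := d10_1 D82777 (iv6 D80864) (iv4 F118561)
def n82779 : Q := act 6 n38045
theorem D82779 : act 6 n38045 = n82779 := rfl
def n82780 : Q := act 2 n38047
theorem D82780 : act 2 n38047 = n82780 := rfl
theorem F127522 : act 7 n38048 = n82780 := d15_2 (iv0 D38047) D38048 (iv2 D82780)
def n82781 : Q := act 3 n38047
theorem D82781 : act 3 n38047 = n82781 := rfl
def n82782 : Q := act 4 n38047
theorem D82782 : act 4 n38047 = n82782 := rfl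
def n82783 : Q := act 5 n38047
theorem D82783 : act 5 n38047 = n82783 := rfl
theorem F127523 : act 1 n82783 = n38836 := d17_8 (iv1 F117945) (iv5 D37756) (iv1 F118008) F54763 (iv4 F54748) (iv5 F113168) F113171 D82783 F59855
theorem F127524 : act 6 n82783 = n38747 := d21_3 D18208 D38047 D82783 (iv1 D38747) (iv6 D18424) D18423 D38742 F59816 (iv6 D38046) (iv1 D18207)
theorem F127525 : act 7 n38422 = n82783 := d14_0 F127524 F118351 (iv6 F118374) F118375 D38422
theorem F127526 : act 7 n38047 = n75418 := d13_2 F127525 (iv5 D82783) (iv5 F113165)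
theorem F127527 : act 2 n75418 = n38048 := d4_1 F127526 F127522 (iv2 D82780)
theorem E13756 : n82780 = n75417 := (c15_4 (iv0 D75417) D75418 (iv7 F127526) D82780)
theorem F127528 : act 2 n75417 = n38047 := (sb E13756 (iv2 D82780))
theorem F127529 : act 7 n75417 = n38048 := (sb E13756 (iv7 F127522))
def n82784 : Q := act 6 n38047
theorem D82784 : act 6 n38047 = n82784 := rfl
def n82785 : Q := act 3 n38048
theorem D82785 : act 3 n38048 = n82785 := rfl
def n82786 : Q := act 4 n38048
theorem D82786 : act 4 n38048 = n82786 := rfl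
def n82787 : Q := act 5 n38048
theorem D82787 : act 5 n38048 = n82787 := rfl
theorem F127532 : act 4 n82787 = n41430 := d17_4 (iv1 F54752) (iv5 F113168) (iv1 F113170) D82787 (iv5 F118465) F118463 F34588 F34468 F118185
theorem F127533 : act 6 n38159 = n82787 := d21_5 D18156 (iv1 F29427) (iv5 D18242) D18243 D38159 (iv5 D82787) (iv1 D38048) (iv5 D18208) (iv6 D8588) (iv1 F13406)
def n82788 : Q := act 6 n38048
theorem D82788 : act 6 n38048 = n82788 := rfl
def n82791 : Q := act 3 n38049
theorem D82791 : act 3 n38049 = n82791 := rfl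
def n82792 : Q := act 5 n38049
theorem D82792 : act 5 n38049 = n82792 := rfl
def n82793 : Q := act 7 n38049
theorem D82793 : act 7 n38049 = n82793 := rfl
theorem F127535 : act 4 n82793 = n38050 := d11_1 D82793 (iv7 D38050) D38049
def n82794 : Q := act 6 n38050
theorem D82794 : act 6 n38050 = n82794 := rfl
def n82796 : Q := act 1 n38085
theorem D82796 : act 1 n38085 = n82796 := rfl
def n82797 : Q := act 2 n38085
theorem D82797 : act 2 n38085 = n82797 := rfl
def n82798 : Q := act 5 n38085
theorem D82798 : act 5 n38085 = n82798 := rfl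
def n82799 : Q := act 6 n38085
theorem D82799 : act 6 n38085 = n82799 := rfl
theorem F127537 : act 3 n82799 = n38087 := d7_1 D82799 (iv6 D38087) D38085
def n82800 : Q := act 4 n38086
theorem D82800 : act 4 n38086 = n82800 := rfl
def n82801 : Q := act 6 n38086
theorem D82801 : act 6 n38086 = n82801 := rfl
def n82802 : Q := act 0 n38087
theorem D82802 : act 0 n38087 = n82802 := rfl
theorem F127538 : act 5 n82802 = n38220 := d17_1 D82802 (iv1 F59084) F29567 F13576 (iv5 F12387) F27468 D34495 (iv0 F58892) (iv4 F58897)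
theorem F127539 : act 4 n82802 = n45881 := d18_3 F59599 (iv4 F58897) D82802 (iv5 D45881) F59765 (iv0 D34488) F27464 D16735 D34500
theorem F127540 : act 2 n38677 = n82802 := d15_3 (iv0 D82802) F113551 (iv7 F114010)
def n82804 : Q := act 5 n38088
theorem D82804 : act 5 n38088 = n82804 := rfl
def n82807 : Q := act 6 n38097
theorem D82807 : act 6 n38097 = n82807 := rfl
def n82808 : Q := act 4 n38098
theorem D82808 : act 4 n38098 = n82808 := rfl
theorem F127545 : act 6 n82808 = n38165 := d10_2 F58901 D82808 (iv4 D38165)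
theorem F127546 : act 5 n82808 = n46191 := d17_5 (iv1 F117913) (iv5 F54763) (iv1 F54766) D38098 D82808 F113396 F113394 F117929 (iv4 D18075)
def n82809 : Q := act 5 n38099
theorem D82809 : act 5 n38099 = n82809 := rfl
theorem F127547 : act 2 n82809 = n38454 := d2_1 D82809 (iv5 F117970) F117969
theorem F127548 : act 6 n82809 = n38166 := d12_2 D38099 D82809 (iv5 D38166) F58901 (iv5 D38098)
def n82811 : Q := act 5 n38100
theorem D82811 : act 5 n38100 = n82811 := rfl
def n82813 : Q := act 5 n38101
theorem D82813 : act 5 n38101 = n82813 := rfl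
def n82815 : Q := act 0 n38102
theorem D82815 : act 0 n38102 = n82815 := rfl
def n82816 : Q := act 1 n38102
theorem D82816 : act 1 n38102 = n82816 := rfl
def n82818 : Q := act 5 n38102
theorem D82818 : act 5 n38102 = n82818 := rfl
def n82821 : Q := act 1 n38103
theorem D82821 : act 1 n38103 = n82821 := rfl
theorem F127557 : act 5 n82821 = n80859 := d17_7 (iv1 F117962) (iv5 D18218) (iv1 D8590) D8591 D18222 D38103 D82821 (iv0 F126726) (iv4 D82259)
def n82822 : Q := act 4 n38103
theorem D82822 : act 4 n38103 = n82822 := rfl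
def n82824 : Q := act 7 n38103
theorem D82824 : act 7 n38103 = n82824 := rfl
theorem F127559 : act 5 n82824 = n38104 := d13_1 D82824 (iv7 D38104) D38103
def n82831 : Q := act 0 n38107
theorem D82831 : act 0 n38107 = n82831 := rfl
def n82832 : Q := act 1 n38107
theorem D82832 : act 1 n38107 = n82832 := rfl
theorem F127569 : act 1 n82832 = n81383 := d15_1 D82832 (iv7 D81383) (iv2 F58911)
def n82834 : Q := act 7 n38107
theorem D82834 : act 7 n38107 = n82834 := rfl
theorem F127571 : act 2 n82834 = n81383 := d4_1 D82834 (iv7 D81383) (iv2 F58911)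
theorem F127572 : act 4 n82834 = n38110 := d11_1 D82834 (iv7 D38110) (iv4 F58912)
theorem F127574 : act 1 n81383 = n82831 := d15_0 (iv0 D82831) D82834 F127571
theorem F127575 : act 1 n81381 = n82834 := d15_1 D81381 (iv7 D82834) F58911
theorem F127576 : act 4 n81193 = n82831 := d20_6 (iv4 F67514) (iv1 D37102) F29009 (iv3 F29007) D37094 D81193 (iv1 F127574) F125187 F58108 (iv1 F29049)
theorem F127577 : act 1 n82834 = n81380 := d15_0 (iv0 D81380) D81383 (iv2 F127571)
theorem F127578 : act 4 n46248 = n81380 := d20_0 (iv1 F127577) F127572 (iv3 F90214) (iv1 F90217) D81411 (iv4 F125214) (iv1 D80926) F57883 (iv3 F34590) D46248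
theorem F127579 : act 3 n46248 = n82176 := d20_9 (iv4 F126696) (iv1 F126700) (iv4 D81399) (iv3 D37169) (iv1 D17875) (iv3 F29044) (iv4 F58107) D81380 (iv4 F127578) (iv1 F126653)
theorem F127580 : act 0 n81412 = n57199 := d20_1 D81412 F90225 F90147 D82176 (iv3 F127579) F127578 (iv1 F127577) F127572 (iv3 F90214) (iv1 F90217)
def n82835 : Q := act 3 n38108
theorem D82835 : act 3 n38108 = n82835 := rfl
theorem F127581 : act 7 n82835 = n81390 := d8_2 (iv7 F125855) D82835 (iv3 D81390)
def n82836 : Q := act 4 n38108
theorem D82836 : act 4 n38108 = n82836 := rfl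
theorem F127583 : act 7 n82836 = n81391 := d11_2 (iv7 F125855) D82836 (iv4 D81391)
def n82837 : Q := act 5 n38108
theorem D82837 : act 5 n38108 = n82837 := rfl
theorem F127585 : act 7 n82837 = n81392 := d13_2 (iv7 F125855) D82837 (iv5 D81392)
theorem F127586 : act 0 n82837 = n38454 := d21_1 D82837 (iv5 F117970) (iv6 D56868) (iv1 F118021) F27487 (iv5 D8570) (iv1 F7213) D8601 D18225 D38108
def n82838 : Q := act 6 n38108
theorem D82838 : act 6 n38108 = n82838 := rfl
theorem F127589 : act 5 n82838 = n43104 := d21_6 (iv5 D8570) (iv1 F7213) D8601 D18225 D38108 D82838 (iv1 D43104) F32270 (iv6 D17873) F17441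
theorem F127590 : act 0 n75434 = n82838 := d21_4 (iv5 D16745) D16743 D34519 D75434 (iv6 D82838) D82837 F127586 (iv5 F117970) (iv6 D56868) (iv1 F118021)
theorem F127591 : act 1 n56868 = n82838 := d15_0 (iv0 F127590) F113193 (iv2 F117969)
def n82840 : Q := act 4 n38109
theorem D82840 : act 4 n38109 = n82840 := rfl
theorem F127594 : act 2 n82840 = n81391 := d1_1 D82840 (iv4 D81391) (iv2 F125851)
theorem F127595 : act 7 n82840 = n81386 := d11_2 (iv7 F125852) D82840 (iv4 D81386)
theorem F127596 : act 0 n82840 = n38116 := d20_1 D82840 F58933 F34590 D36968 F122106 D37129 F67500 F58082 (iv3 F58108) (iv1 F58913)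
def n82841 : Q := act 0 n38111
theorem D82841 : act 0 n38111 = n82841 := rfl
theorem F127598 : act 3 n82841 = n81295 := d20_5 (iv4 D21973) (iv1 F17028) (iv4 F29386) D38111 D82841 (iv4 D81295) (iv1 D37134) D37136 F58079 (iv1 F34475)
def n82842 : Q := act 1 n38111
theorem D82842 : act 1 n38111 = n82842 := rfl
def n82843 : Q := act 2 n38111
theorem D82843 : act 2 n38111 = n82843 := rfl
theorem F127599 : act 7 n82843 = n82843 := d4_2 F58919 D82843 (iv2 D82843)
theorem F127600 : act 1 n82843 = n82841 := d15_0 (iv0 D82841) F58919 D82843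
theorem F127601 : act 1 n82842 = n82843 := d15_1 D82842 F127599 (iv2 D82843)
def n82848 : Q := act 1 n38113
theorem D82848 : act 1 n38113 = n82848 := rfl
def n82850 : Q := act 7 n38113
theorem D82850 : act 7 n38113 = n82850 := rfl
theorem F127606 : act 4 n82850 = n46253 := d11_1 D82850 (iv7 D46253) (iv4 F58924)
theorem F127608 : act 1 n82840 = n82850 := d15_1 (iv0 F127596) (iv7 D82850) (iv2 F58932)
theorem F127609 : act 1 n82850 = n82836 := d15_1 F127608 F127583 (iv2 F127594)
def n82858 : Q := act 7 n38116
theorem D82858 : act 7 n38116 = n82858 := rfl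
theorem F127623 : act 4 n82858 = n46250 := d11_1 D82858 (iv7 D46250) (iv4 F58933)
theorem F127625 : act 1 n82848 = n82858 := d15_1 D82848 (iv7 D82858) F58932
theorem F127626 : act 0 n81386 = n82858 := d20_1 D81386 F127623 F72896 (iv1 F57889) F121756 D37108 F92760 F29034 (iv3 F29044) D37163
theorem E13758 : n82848 = n81391 := ((c15_4 F127625 (iv0 F127626) (iv7 F127595) F127594)).symm
theorem F127629 : act 0 n81391 = n38113 := (sb E13758 (iv1 D82848))
theorem F127630 : act 1 n81391 = n82858 := (sb E13758 F127625)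
def n82859 : Q := act 2 n38117
theorem D82859 : act 2 n38117 = n82859 := rfl
theorem F127631 : act 7 n38118 = n82859 := d15_2 (iv0 D38117) D38118 (iv2 D82859)
def n82865 : Q := act 3 n38118
theorem D82865 : act 3 n38118 = n82865 := rfl
def n82866 : Q := act 4 n38118
theorem D82866 : act 4 n38118 = n82866 := rfl
theorem F127633 : act 3 n56529 = n82866 := d20_5 (iv4 D27190) F21714 D13026 D27194 D56529 (iv4 D82866) (iv1 D38118) (iv4 F58820) (iv3 D37994) (iv1 F43952)
def n82879 : Q := act 0 n38123
theorem D82879 : act 0 n38123 = n82879 := rfl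
theorem F127645 : act 5 n82879 = n82711 := d17_1 D82879 F127480 F127305 F58809 (iv5 F53182) D73606 (iv5 F110300) (iv0 F58861) (iv4 F58944)
theorem F127646 : act 3 n82879 = n38201 := d20_5 F16296 (iv1 F21592) D18230 D38123 D82879 F71077 (iv1 D36063) (iv4 F43663) (iv3 D27023) F21522
theorem F127647 : act 1 n38379 = n82879 := d15_0 (iv0 D82879) F58945 D38379
theorem F127648 : act 7 n38377 = n82879 := d8_0 F127646 F125571 (iv3 F74512)
theorem F127649 : act 2 n82879 = n38378 := d16_9 (iv4 F123118) F123115 F58944 D38131 (iv4 F58966) (iv5 F59263) (iv4 F112927) F112926 F127648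
def n82880 : Q := act 1 n38123
theorem D82880 : act 1 n38123 = n82880 := rfl
theorem F127650 : act 7 n82880 = n38378 := d15_2 (iv0 D82879) D82880 (iv2 F127649)
theorem F127651 : act 4 n82880 = n38380 := d17_9 F126895 F126892 (iv1 F113246) (iv5 F127305) (iv4 D82634) (iv5 F113261) (iv0 F123117) F123115 D82880
theorem F127652 : act 5 n82880 = n82717 := d18_9 F127485 F113256 (iv1 D37971) F29352 D18203 D38027 (iv0 F58861) (iv4 F58944) D82880
theorem F127653 : act 2 n38377 = n82880 := d2_3 F127652 F127483 F112926
theorem F127654 : act 0 n38379 = n82880 := d17_0 F127652 F127485 (iv5 D75461) F54771 D34540 F110294 F110292 F58955 (iv4 F59243)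
def n82881 : Q := act 2 n38123
theorem D82881 : act 2 n38123 = n82881 := rfl
theorem F127655 : act 3 n82881 = n71813 := d0_2 D38123 D82881 (iv2 F108266) (iv3 D35402) (iv2 F29395)
theorem F127656 : act 4 n82881 = n38130 := d1_2 (iv4 F58944) D82881 (iv2 D38130)
theorem F127657 : act 7 n82881 = n38379 := d4_2 (iv7 F58945) D82881 (iv2 D38379)
theorem F127658 : act 1 n82881 = n38377 := d15_0 (iv0 D38377) (iv7 F58945) D82881
theorem F127659 : act 1 n38378 = n82881 := d15_0 F127658 F127648 F127649
def n82882 : Q := act 6 n38123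
theorem D82882 : act 6 n38123 = n82882 := rfl
theorem F127660 : act 3 n82882 = n38124 := d7_1 D82882 (iv6 D38124) D38123
theorem F127661 : act 4 n82882 = n38132 := d10_1 D82882 (iv6 D38132) (iv4 F58944)
theorem F127662 : act 7 n77794 = n82882 := d8_0 F127660 F117659 D77794
def n82883 : Q := act 5 n38124
theorem D82883 : act 5 n38124 = n82883 := rfl
theorem F127663 : act 2 n82883 = n77545 := d2_1 D82883 (iv5 D77545) (iv2 F58946)
theorem F127664 : act 7 n82883 = n77795 := d13_2 (iv7 F117659) D82883 (iv5 D77795)
def n82884 : Q := act 7 n38127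
theorem D82884 : act 7 n38127 = n82884 := rfl
theorem F127665 : act 3 n82884 = n38150 := d8_1 D82884 (iv7 D38150) (iv3 F58948)
theorem F127666 : act 4 n82884 = n77866 := d11_1 D82884 F122943 F122940
theorem F127667 : act 5 n82884 = n38128 := d13_1 D82884 (iv7 D38128) D38127
theorem F127668 : act 1 n82666 = n82884 := d15_1 (iv0 F127345) (iv7 D82884) (iv2 F120374)
theorem F127669 : act 1 n82884 = n38985 := d15_1 F127668 (iv7 F119111) (iv2 F127343)
def n82885 : Q := act 6 n38129
theorem D82885 : act 6 n38129 = n82885 := rfl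
theorem F127670 : act 2 n82885 = n38402 := d3_1 D82885 (iv6 D38402) F58953
theorem F127671 : act 3 n82885 = n39281 := d7_1 D82885 (iv6 D39281) F58954
def n82886 : Q := act 6 n38130
theorem D82886 : act 6 n38130 = n82886 := rfl
theorem F127672 : act 2 n82886 = n38132 := d3_1 D82886 (iv6 D38132) D38130
theorem F127673 : act 3 n82886 = n38289 := d7_1 D82886 (iv6 D38289) (iv3 F58956)
def n82887 : Q := act 6 n38131
theorem D82887 : act 6 n38131 = n82887 := rfl
theorem F127674 : act 2 n82887 = n72000 := d3_1 D82887 (iv6 D72000) (iv2 F58961)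
theorem F127675 : act 3 n82887 = n38133 := d7_1 D82887 (iv6 D38133) (iv3 F58962)
theorem F127676 : act 4 n82887 = n75478 := d10_1 D82887 (iv6 D75478) F58966
def n82888 : Q := act 0 n38132
theorem D82888 : act 0 n38132 = n82888 := rfl
def n82889 : Q := act 1 n38132
theorem D82889 : act 1 n38132 = n82889 := rfl
def n82890 : Q := act 5 n38132
theorem D82890 : act 5 n38132 = n82890 := rfl
theorem F127677 : act 3 n82890 = n38136 := d6_1 D82890 (iv5 D38136) (iv3 F58971)
def n82891 : Q := act 7 n38132
theorem D82891 : act 7 n38132 = n82891 := rfl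
theorem F127678 : act 3 n82891 = n38137 := d8_1 D82891 (iv7 D38137) (iv3 F58971)
theorem F127679 : act 4 n82891 = n77794 := d11_1 D82891 F127662 F127661
theorem F127680 : act 6 n82891 = n38413 := d14_1 D82891 (iv7 D38413) (iv6 D18322) (iv7 F29400) D38132
def n82892 : Q := act 0 n38133
theorem D82892 : act 0 n38133 = n82892 := rfl
def n82893 : Q := act 1 n38133
theorem D82893 : act 1 n38133 = n82893 := rfl
theorem F127681 : act 1 n82893 = n38302 := d15_1 D82893 (iv7 D38302) (iv2 F58972)
def n82894 : Q := act 5 n38133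
theorem D82894 : act 5 n38133 = n82894 := rfl
theorem F127682 : act 2 n82894 = n38301 := d2_1 D82894 (iv5 D38301) (iv2 F58972)
theorem F127683 : act 6 n82894 = n38136 := d12_2 D38133 D82894 (iv5 D38136) (iv6 D18234) D18233
def n82895 : Q := act 7 n38133
theorem D82895 : act 7 n38133 = n82895 := rfl
theorem F127684 : act 2 n82895 = n38302 := d4_1 D82895 (iv7 D38302) (iv2 F58972)
theorem F127685 : act 4 n82895 = n46515 := d11_1 D82895 (iv7 D46515) (iv4 F58973)
theorem F127686 : act 6 n82895 = n38417 := d14_1 D82895 (iv7 D38417) (iv6 D18323) (iv7 F29402) D38133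
theorem F127687 : act 1 n38302 = n82892 := d15_0 (iv0 D82892) D82895 F127684
theorem F127688 : act 1 n38300 = n82895 := d15_1 D38300 (iv7 D82895) F58972
theorem F127689 : act 1 n82895 = n38299 := d15_0 (iv0 D38299) D38302 (iv2 F127684)
def n82896 : Q := act 3 n38134
theorem D82896 : act 3 n38134 = n82896 := rfl
theorem F127690 : act 4 n82896 = n38929 := d5_2 (iv4 F119075) D82896 (iv3 D38929) D38930 F119071
theorem F127691 : act 7 n82896 = n38309 := d8_2 (iv7 F118627) D82896 (iv3 D38309)
def n82897 : Q := act 5 n38134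
theorem D82897 : act 5 n38134 = n82897 := rfl
theorem F127692 : act 2 n82897 = n38306 := d2_1 D82897 (iv5 D38306) (iv2 F118626)
theorem F127693 : act 7 n82897 = n38311 := d13_2 (iv7 F118627) D82897 (iv5 D38311)
def n82898 : Q := act 3 n38135
theorem D82898 : act 3 n38135 = n82898 := rfl
theorem F127694 : act 4 n82898 = n55754 := d5_2 (iv4 F118782) D82898 (iv3 D55754) (iv4 D26910) F118781
theorem F127695 : act 7 n82898 = n38304 := d8_2 (iv7 F118625) D82898 (iv3 D38304)
def n82899 : Q := act 5 n38135
theorem D82899 : act 5 n38135 = n82899 := rfl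
theorem F127696 : act 2 n82899 = n38311 := d2_1 D82899 (iv5 D38311) (iv2 F118624)
theorem F127697 : act 7 n82899 = n38306 := d13_2 (iv7 F118625) D82899 (iv5 D38306)
theorem F127698 : act 1 n38311 = n75762 := d15_0 F113618 (iv7 F127697) F127696
def n82900 : Q := act 6 n38135
theorem D82900 : act 6 n38135 = n82900 := rfl
theorem F127699 : act 2 n82900 = n38312 := d3_1 D82900 (iv6 D38312) (iv2 F118624)
theorem F127700 : act 4 n82900 = n41390 := d10_1 D82900 (iv6 D41390) (iv4 F118782)
theorem F127701 : act 0 n38819 = n82900 := d20_1 (iv4 F59841) F127700 F118784 D55759 F121749 F53042 F53044 F42733 (iv3 F117690) F59209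
def n82901 : Q := act 0 n38136
theorem D82901 : act 0 n38136 = n82901 := rfl
def n82902 : Q := act 1 n38136
theorem D82902 : act 1 n38136 = n82902 := rfl
theorem F127702 : act 1 n82902 = n38316 := d15_1 D82902 (iv7 D38316) (iv2 F58975)
theorem F127703 : act 5 n46211 = n82902 := d21_6 D21918 F34408 (iv5 D16741) D16742 F118288 D46211 (iv1 D82902) (iv5 D38136) (iv6 D18234) (iv1 F16653)
theorem F127704 : act 2 n82902 = n38314 := d2_1 F127703 (iv5 F59172) (iv2 F118485)
def n82903 : Q := act 4 n38136
theorem D82903 : act 4 n38136 = n82903 := rfl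
theorem F127705 : act 2 n82903 = n38315 := d1_1 D82903 (iv4 D38315) (iv2 F58975)
def n82904 : Q := act 7 n38136
theorem D82904 : act 7 n38136 = n82904 := rfl
theorem F127706 : act 2 n82904 = n38316 := d4_1 D82904 (iv7 D38316) (iv2 F58975)
theorem F127707 : act 5 n82904 = n38137 := d13_1 D82904 (iv7 D38137) D38136
theorem F127708 : act 1 n38316 = n82901 := d15_0 (iv0 D82901) D82904 F127706
theorem F127709 : act 1 n38314 = n82904 := d15_1 D38314 (iv7 D82904) F58975
theorem F127710 : act 7 n82901 = n38314 := d15_2 F127702 F127708 (iv2 F127704)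
theorem F127711 : act 5 n82901 = n75760 := d17_7 D34647 (iv5 F117870) (iv1 F117880) F29505 (iv4 F29499) (iv5 F59173) F127708 (iv0 D75760) F54895
theorem E13759 : n82772 = n75760 := ((c13_2 (iv7 F127710) F127711 (iv7 D82772) F59172)).symm
theorem F127712 : act 7 n75760 = n38041 := (sb E13759 (iv7 D82772))
theorem F127713 : act 2 n82901 = n38313 := d15_3 (iv0 D38313) D38314 (iv7 F127710)
theorem F127714 : act 7 n38313 = n82902 := d4_2 (iv7 F127710) F127713 F127704
theorem F127715 : act 1 n82904 = n38313 := d15_1 F127709 F127714 F127704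
def n82905 : Q := act 3 n38144
theorem D82905 : act 3 n38144 = n82905 := rfl
theorem F127716 : act 7 n82905 = n38332 := d8_2 (iv7 F59635) D82905 (iv3 D38332)
def n82906 : Q := act 5 n38144
theorem D82906 : act 5 n38144 = n82906 := rfl
theorem F127717 : act 2 n82906 = n38349 := d2_1 D82906 (iv5 D38349) (iv2 F59634)
theorem F127718 : act 7 n82906 = n38333 := d13_2 (iv7 F59635) D82906 (iv5 D38333)
theorem F127719 : act 1 n38349 = n75670 := d15_0 (iv0 F118804) (iv7 F127718) F127717
theorem E13760 : n75669 = n75431 := (c17_9 F59605 D34649 (iv1 F59200) (iv5 D18303) D18302 D38349 F127719 (iv5 D75670) D75669 F113188)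
theorem F127720 : act 0 n75431 = n34599 := (sb E13760 (iv1 D75669))
def n82907 : Q := act 6 n38144
theorem D82907 : act 6 n38144 = n82907 := rfl
theorem F127721 : act 2 n82907 = n38350 := d3_1 D82907 (iv6 D38350) (iv2 F59634)
theorem F127722 : act 4 n82907 = n38146 := d10_1 D82907 (iv6 D38146) D38144
theorem F127723 : act 7 n82907 = n82617 := d14_2 (iv7 F59635) D82907 (iv6 D82617) (iv7 F59657) (iv6 D38334)
def n82908 : Q := act 4 n38145
theorem D82908 : act 4 n38145 = n82908 := rfl
theorem F127724 : act 2 n82908 = n38351 := d1_1 D82908 (iv4 D38351) (iv2 F59636)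
theorem F127725 : act 7 n82908 = n38337 := d11_2 (iv7 F59637) D82908 (iv4 D38337)
def n82909 : Q := act 4 n38148
theorem D82909 : act 4 n38148 = n82909 := rfl
theorem F127726 : act 2 n82909 = n38363 := d1_1 D82909 (iv4 D38363) (iv2 F59597)
theorem F127727 : act 7 n82909 = n38359 := d11_2 (iv7 F59598) D82909 (iv4 D38359)
theorem F127728 : act 0 n82909 = n75815 := d18_2 (iv1 F58990) D82909 F113708 (iv5 D40061) F30237 (iv0 F118802) (iv4 D38144) F29409 (iv5 F29505)
def n82910 : Q := act 6 n38148
theorem D82910 : act 6 n38148 = n82910 := rfl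
theorem F127730 : act 5 n82910 = n75434 := d12_1 D82910 (iv6 D75434) (iv5 D34519) D34520 F58991
theorem F127733 : act 0 n75794 = n82910 := d21_4 (iv5 D38355) D38353 (iv5 F59653) D75794 (iv6 D82910) (iv5 F58991) F59605 D34649 (iv6 F112816) F112817
def n82911 : Q := act 0 n38149
theorem D82911 : act 0 n38149 = n82911 := rfl
def n82912 : Q := act 1 n38149
theorem D82912 : act 1 n38149 = n82912 := rfl
theorem F127734 : act 1 n82912 = n38369 := d15_1 D82912 (iv7 D38369) (iv2 F58992)
theorem F127735 : act 4 n41392 = n82912 := d20_6 (iv4 D77888) (iv1 F116392) F116388 (iv3 F88055) (iv1 F88058) (iv3 F118316) (iv1 D82912) (iv4 D38149) (iv3 F58948) (iv1 F119107)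
theorem F127736 : act 7 n82912 = n38365 := d11_2 (iv7 F122130) F127735 F122131
theorem F127737 : act 2 n38365 = n82911 := d15_3 (iv0 D82911) D82912 F127736
theorem F127738 : act 4 n82911 = n41391 := d1_2 (iv4 F122131) F127737 (iv2 F122127)
theorem F127739 : act 7 n38366 = n82911 := d15_2 (iv0 D38365) D38366 (iv2 F127737)
theorem F127740 : act 2 n82912 = n38366 := d4_3 F127739 (iv2 F127737) (iv7 F127736)
theorem F127741 : act 1 n38369 = n82911 := d15_1 F127734 (iv7 F127739) (iv2 F127740)
def n82913 : Q := act 3 n38149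
theorem D82913 : act 3 n38149 = n82913 := rfl
theorem F127742 : act 6 n82913 = n75266 := d7_2 (iv6 F58993) D82913 (iv3 D75266)
def n82914 : Q := act 5 n38149
theorem D82914 : act 5 n38149 = n82914 := rfl
theorem F127743 : act 2 n82914 = n38368 := d2_1 D82914 (iv5 D38368) (iv2 F58992)
def n82915 : Q := act 7 n38149
theorem D82915 : act 7 n38149 = n82915 := rfl
theorem F127744 : act 2 n82915 = n38369 := d4_1 D82915 (iv7 D38369) (iv2 F58992)
theorem F127745 : act 4 n82915 = n38150 := d11_1 D82915 (iv7 D38150) D38149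
theorem F127746 : act 1 n38366 = n82915 := d15_1 D38366 (iv7 D82915) F58992
theorem F127747 : act 1 n82915 = n38365 := d15_1 F127746 (iv7 F127736) F127740
def n82916 : Q := act 0 n38151
theorem D82916 : act 0 n38151 = n82916 := rfl
theorem F127748 : act 5 n82916 = n52938 := d17_1 D82916 F83657 F83181 F58674 (iv5 F42622) (iv0 D26610) D26612 F42625 (iv4 F59000)
theorem F127749 : act 4 n82916 = n38557 := d18_1 D82916 (iv1 F59382) (iv4 F110319) F110318 (iv4 D35958) D35957 (iv4 F108397) (iv0 D71899) (iv5 F59001)
theorem F127750 : act 0 n79083 = n38189 := d20_4 (iv4 F59000) D82916 F127749 (iv3 F120316) (iv3 D38189) D38190 (iv1 F110138) (iv4 F110265) F110263 (iv1 F53168)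
theorem F127751 : act 1 n38252 = n82916 := d15_0 (iv0 D82916) F59002 D38252
theorem F127752 : act 2 n38251 = n82916 := d1_3 F127749 F86962 F86964
theorem F127753 : act 7 n38250 = n82916 := d11_0 F127749 F86957 (iv4 F86958)
def n82917 : Q := act 1 n38151
theorem D82917 : act 1 n38151 = n82917 := rfl
theorem F127754 : act 1 n82917 = n38252 := d15_1 D82917 (iv7 F110311) F110309
theorem F127755 : act 7 n82917 = n38251 := d15_2 (iv0 D82916) D82917 F127752
theorem F127756 : act 5 n82917 = n71777 := d17_7 (iv1 D25550) (iv5 D12145) D12142 (iv5 F28356) D33224 (iv5 F59001) D82917 F108240 (iv4 D52642)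
theorem F127757 : act 4 n82917 = n38487 := d17_9 F71635 F29544 D35960 (iv5 F113438) F113439 (iv5 F108396) (iv0 D71899) (iv5 F59001) D82917
theorem F127758 : act 2 n38250 = n82917 := d1_3 F127757 F86956 (iv4 F86958)
def n82918 : Q := act 6 n38151
theorem D82918 : act 6 n38151 = n82918 := rfl
theorem F127759 : act 3 n82918 = n38152 := d7_1 D82918 (iv6 D38152) D38151
theorem F127760 : act 4 n82918 = n38157 := d10_1 D82918 (iv6 D38157) (iv4 F59000)
theorem F127761 : act 7 n79805 = n82918 := d8_0 F127759 (iv7 F118394) D79805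
def n82919 : Q := act 5 n38152
theorem D82919 : act 5 n38152 = n82919 := rfl
theorem F127763 : act 7 n82919 = n79806 := d13_2 F118394 D82919 (iv5 D79806)
def n82920 : Q := act 5 n38153
theorem D82920 : act 5 n38153 = n82920 := rfl
theorem F127765 : act 7 n82920 = n39164 := d13_2 (iv7 F118551) D82920 (iv5 D39164)
def n82921 : Q := act 5 n38154
theorem D82921 : act 5 n38154 = n82921 := rfl
def n82922 : Q := act 0 n38155
theorem D82922 : act 0 n38155 = n82922 := rfl
def n82923 : Q := act 1 n38155
theorem D82923 : act 1 n38155 = n82923 := rfl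
theorem F127767 : act 5 n82431 = n82923 := d21_6 (iv5 D13047) F9670 D8548 D18131 D37813 D82431 (iv1 D82923) (iv5 D38155) (iv6 D18240) (iv1 F21749)
def n82924 : Q := act 4 n38155
theorem D82924 : act 4 n38155 = n82924 := rfl
theorem F127769 : act 2 n82924 = n78467 := d1_1 D82924 F119666 F115727
theorem F127770 : act 6 n82924 = n38854 := d10_2 (iv6 F59006) D82924 (iv4 D38854)
theorem F127772 : act 0 n82924 = n56238 := d20_7 (iv4 F28558) (iv1 F43800) F43801 D27746 (iv1 F117739) (iv3 F59005) D82924 (iv4 D56238) (iv3 D27098) (iv1 F21582)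
theorem F127773 : act 7 n79882 = n82924 := d15_2 F121467 D79882 F127769
def n82925 : Q := act 7 n38155
theorem D82925 : act 7 n38155 = n82925 := rfl
theorem F127774 : act 3 n82925 = n38175 := d8_1 D82925 (iv7 D38175) (iv3 F59005)
theorem F127775 : act 4 n82925 = n79882 := d11_1 D82925 F127773 (iv4 D82924)
theorem F127776 : act 5 n82925 = n38156 := d13_1 D82925 (iv7 D38156) D38155
theorem F127777 : act 1 n39181 = n82925 := d15_1 (iv0 F118661) (iv7 D82925) (iv2 F115727)
def n82926 : Q := act 0 n38157
theorem D82926 : act 0 n38157 = n82926 := rfl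
def n82927 : Q := act 1 n38157
theorem D82927 : act 1 n38157 = n82927 := rfl
def n82928 : Q := act 5 n38157
theorem D82928 : act 5 n38157 = n82928 := rfl
theorem F127778 : act 3 n82928 = n38161 := d6_1 D82928 (iv5 D38161) (iv3 F59009)
theorem F127779 : act 6 n82928 = n72007 := d12_2 D38157 D82928 (iv5 D72007) (iv6 D33262) (iv5 F29429)
def n82929 : Q := act 7 n38157
theorem D82929 : act 7 n38157 = n82929 := rfl
theorem F127780 : act 3 n82929 = n38162 := d8_1 D82929 (iv7 D38162) (iv3 F59009)
theorem F127781 : act 4 n82929 = n79805 := d11_1 D82929 F127761 F127760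
theorem F127782 : act 6 n82929 = n38294 := d14_1 D82929 (iv7 D38294) (iv6 D18287) (iv7 F29422) D38157
def n82930 : Q := act 0 n38158
theorem D82930 : act 0 n38158 = n82930 := rfl
def n82931 : Q := act 1 n38158
theorem D82931 : act 1 n38158 = n82931 := rfl
theorem F127783 : act 1 n82931 = n38417 := d15_1 D82931 (iv7 D38417) (iv2 F59010)
def n82932 : Q := act 5 n38158
theorem D82932 : act 5 n38158 = n82932 := rfl
theorem F127784 : act 2 n82932 = n38416 := d2_1 D82932 (iv5 D38416) (iv2 F59010)
theorem F127785 : act 3 n82932 = n72007 := d6_1 D82932 (iv5 D72007) (iv3 F59011)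
theorem F127786 : act 6 n82932 = n38161 := d12_2 D38158 D82932 (iv5 D38161) (iv6 D18243) D18242
def n82933 : Q := act 7 n38158
theorem D82933 : act 7 n38158 = n82933 := rfl
theorem F127787 : act 2 n82933 = n38417 := d4_1 D82933 (iv7 D38417) (iv2 F59010)
theorem F127788 : act 3 n82933 = n72008 := d8_1 D82933 (iv7 D72008) (iv3 F59011)
theorem F127789 : act 4 n82933 = n46495 := d11_1 D82933 (iv7 D46495) (iv4 F59012)
theorem F127790 : act 6 n82933 = n38302 := d14_1 D82933 (iv7 D38302) (iv6 D18290) (iv7 F29425) D38158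
theorem F127791 : act 1 n38417 = n82930 := d15_0 (iv0 D82930) D82933 F127787
theorem F127792 : act 1 n38415 = n82933 := d15_1 D38415 (iv7 D82933) F59010
theorem F127793 : act 1 n82933 = n38414 := d15_0 (iv0 D38414) D38417 (iv2 F127787)
def n82934 : Q := act 3 n38159
theorem D82934 : act 3 n38159 = n82934 := rfl
theorem F127794 : act 4 n82934 = n79238 := d5_2 (iv4 F118378) D82934 (iv3 D79238) (iv4 D36071) F118361
theorem F127795 : act 7 n82934 = n38424 := d8_2 (iv7 F118377) D82934 (iv3 D38424)
def n82935 : Q := act 5 n38159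
theorem D82935 : act 5 n38159 = n82935 := rfl
theorem F127796 : act 2 n82935 = n38421 := d2_1 D82935 (iv5 D38421) (iv2 F118376)
theorem F127797 : act 7 n82935 = n38426 := d13_2 (iv7 F118377) D82935 (iv5 D38426)
def n82936 : Q := act 3 n38160
theorem D82936 : act 3 n38160 = n82936 := rfl
theorem F127798 : act 7 n82936 = n38419 := d8_2 (iv7 F118375) D82936 (iv3 D38419)
def n82937 : Q := act 5 n38160
theorem D82937 : act 5 n38160 = n82937 := rfl
theorem F127799 : act 2 n82937 = n38426 := d2_1 D82937 (iv5 D38426) (iv2 F118372)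
theorem F127800 : act 7 n82937 = n38421 := d13_2 (iv7 F118375) D82937 (iv5 D38421)
def n82938 : Q := act 0 n38161
theorem D82938 : act 0 n38161 = n82938 := rfl
def n82939 : Q := act 1 n38161
theorem D82939 : act 1 n38161 = n82939 := rfl
theorem F127801 : act 1 n82939 = n38431 := d15_1 D82939 (iv7 D38431) (iv2 F59014)
theorem F127802 : act 5 n45948 = n82939 := d21_6 D21926 F34421 (iv5 D16751) D16752 F118904 D45948 (iv1 D82939) (iv5 D38161) (iv6 D18243) (iv1 F16661)
theorem F127803 : act 2 n82939 = n38429 := d2_1 F127802 (iv5 F59279) (iv2 F118927)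
def n82940 : Q := act 4 n38161
theorem D82940 : act 4 n38161 = n82940 := rfl
theorem F127804 : act 2 n82940 = n38430 := d1_1 D82940 (iv4 D38430) (iv2 F59014)
def n82941 : Q := act 7 n38161
theorem D82941 : act 7 n38161 = n82941 := rfl
theorem F127805 : act 2 n82941 = n38431 := d4_1 D82941 (iv7 D38431) (iv2 F59014)
theorem F127806 : act 5 n82941 = n38162 := d13_1 D82941 (iv7 D38162) D38161
theorem F127807 : act 1 n38431 = n82938 := d15_0 (iv0 D82938) D82941 F127805
theorem F127808 : act 1 n38429 = n82941 := d15_1 D38429 (iv7 D82941) F59014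
theorem F127809 : act 7 n82938 = n38429 := d15_2 F127801 F127807 (iv2 F127803)
theorem F127810 : act 5 n82582 = n82938 := d13_3 F127809 (iv5 F59279) D82582
theorem F127811 : act 2 n82938 = n38428 := d15_3 (iv0 D38428) D38429 (iv7 F127809)
theorem F127812 : act 7 n38428 = n82939 := d4_2 (iv7 F127809) F127811 F127803
theorem F127813 : act 1 n82941 = n38428 := d15_1 F127808 F127812 F127803
def n82942 : Q := act 3 n38165
theorem D82942 : act 3 n38165 = n82942 := rfl
theorem F127814 : act 7 n82942 = n38465 := d8_2 (iv7 F59551) D82942 (iv3 D38465)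
def n82943 : Q := act 5 n38165
theorem D82943 : act 5 n38165 = n82943 := rfl
theorem F127815 : act 2 n82943 = n38448 := d2_1 D82943 (iv5 D38448) (iv2 F59550)
theorem F127816 : act 7 n82943 = n38466 := d13_2 (iv7 F59551) D82943 (iv5 D38466)
def n82944 : Q := act 4 n38166
theorem D82944 : act 4 n38166 = n82944 := rfl
theorem F127817 : act 2 n82944 = n38453 := d1_1 D82944 (iv4 D38453) (iv2 F59552)
theorem F127818 : act 7 n82944 = n38468 := d11_2 (iv7 F59553) D82944 (iv4 D38468)
def n82945 : Q := act 4 n38172
theorem D82945 : act 4 n38172 = n82945 := rfl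
theorem F127819 : act 2 n82945 = n38473 := d1_1 D82945 (iv4 D38473) (iv2 F59647)
theorem F127820 : act 7 n82945 = n38478 := d11_2 (iv7 F59649) D82945 (iv4 D38478)
theorem F127821 : act 0 n47670 = n82945 := d20_1 (iv4 F74946) (iv4 D82945) (iv3 F121124) (iv1 F90317) (iv3 F90642) (iv4 F122179) (iv1 F122180) (iv4 D36230) D36229 F118978
def n82946 : Q := act 6 n38172
theorem D82946 : act 6 n38172 = n82946 := rfl
theorem F127822 : act 2 n82946 = n38475 := d3_1 D82946 (iv6 D38475) (iv2 F59647)
theorem F127823 : act 5 n82946 = n38866 := d12_1 D82946 (iv6 F126942) (iv5 F126940) (iv6 F113073) (iv5 F59648)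
theorem F127824 : act 0 n38823 = n82946 := d21_4 (iv5 D8678) D8676 D18452 D38823 (iv6 D82946) F59648 (iv1 F117781) F117783 F112993 (iv1 D18460)
def n82947 : Q := act 0 n38174
theorem D82947 : act 0 n38174 = n82947 := rfl
theorem F127825 : act 4 n82947 = n41436 := d20_2 D38174 D82947 (iv3 F118953) (iv1 F56820) F28482 (iv4 F28558) (iv1 F43800) F43801 D27746 (iv1 F117739)
theorem F127826 : act 7 n38481 = n82947 := d11_0 F127825 F118952 F118980
theorem F127827 : act 1 n38484 = n82947 := d18_6 D19512 (iv4 F118378) (iv1 F59018) F29522 (iv5 F29528) (iv4 F59323) F127825 (iv0 D41436) (iv5 D19514)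
theorem F127828 : act 2 n82947 = n38480 := d15_3 (iv0 D38480) D38481 F127826
theorem F127829 : act 4 n38480 = n47671 := d1_2 (iv4 F127825) F127828 (iv2 F118983)
def n82948 : Q := act 1 n38174
theorem D82948 : act 1 n38174 = n82948 := rfl
theorem F127830 : act 1 n82948 = n38484 := d15_1 D82948 (iv7 D38484) (iv2 F59026)
theorem F127831 : act 7 n82948 = n38480 := d15_2 (iv0 D82947) D82948 (iv2 F127828)
theorem F127832 : act 4 n82948 = n41437 := d18_7 (iv1 F63828) (iv4 F118373) (iv1 D38160) F29431 D18246 D38174 D82948 F74952 F74950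
theorem F127833 : act 2 n38481 = n82948 := d1_3 F127832 F118951 F118980
def n82949 : Q := act 3 n38174
theorem D82949 : act 3 n38174 = n82949 := rfl
theorem F127834 : act 6 n82949 = n38858 := d7_2 (iv6 F59027) D82949 (iv3 D38858)
def n82950 : Q := act 5 n38174
theorem D82950 : act 5 n38174 = n82950 := rfl
theorem F127835 : act 2 n82950 = n38483 := d2_1 D82950 (iv5 D38483) (iv2 F59026)
def n82951 : Q := act 7 n38174
theorem D82951 : act 7 n38174 = n82951 := rfl
theorem F127836 : act 2 n82951 = n38484 := d4_1 D82951 (iv7 D38484) (iv2 F59026)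
theorem F127837 : act 4 n82951 = n38175 := d11_1 D82951 (iv7 D38175) D38174
theorem F127838 : act 1 n38481 = n82951 := d15_1 D38481 (iv7 D82951) F59026
theorem F127839 : act 1 n82951 = n38480 := d15_1 F127838 (iv7 F127831) (iv2 F127833)
def n82952 : Q := act 0 n38178
theorem D82952 : act 0 n38178 = n82952 := rfl
theorem F127840 : act 5 n82952 = n75668 := d17_3 F118802 D38178 D82952 F122408 (iv5 F117870) (iv0 F117881) (iv5 D18237) D18236 D38144
theorem F127841 : act 7 n38518 = n82952 := d13_0 F127840 F122409 F117878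
theorem F127842 : act 1 n38520 = n82952 := d17_6 F122140 (iv5 F122133) F122141 F63824 F31216 (iv5 F59356) F127840 (iv0 D75668) (iv4 F113527)
theorem F127843 : act 2 n82952 = n38517 := d15_3 (iv0 D38517) D38518 F127841
def n82953 : Q := act 1 n38178
theorem D82953 : act 1 n38178 = n82953 := rfl
theorem F127844 : act 1 n82953 = n38520 := d15_1 D82953 (iv7 D38520) (iv2 F59034)
theorem F127845 : act 7 n82953 = n38517 := d15_2 (iv0 D82952) D82953 (iv2 F127843)
theorem F127846 : act 5 n75431 = n82953 := d21_6 (iv5 F13575) (iv1 F27521) (iv5 D16757) D16758 F113501 D75431 (iv1 D82953) (iv5 D38178) (iv6 D18248) (iv1 F13520)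
theorem F127847 : act 2 n82953 = n38518 := d2_1 F127846 (iv5 F117878) F117877
def n82954 : Q := act 4 n38178
theorem D82954 : act 4 n38178 = n82954 := rfl
theorem F127848 : act 2 n82954 = n38519 := d1_1 D82954 (iv4 D38519) (iv2 F59034)
def n82955 : Q := act 7 n38178
theorem D82955 : act 7 n38178 = n82955 := rfl
theorem F127849 : act 2 n82955 = n38520 := d4_1 D82955 (iv7 D38520) (iv2 F59034)
theorem F127850 : act 5 n82955 = n38179 := d13_1 D82955 (iv7 D38179) D38178
theorem F127851 : act 1 n38518 = n82955 := d15_1 D38518 (iv7 D82955) F59034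
theorem F127852 : act 1 n82955 = n38517 := d15_1 F127851 (iv7 F127845) F127847
def n82956 : Q := act 4 n38180
theorem D82956 : act 4 n38180 = n82956 := rfl
theorem F127853 : act 2 n82956 = n38492 := d1_1 D82956 (iv4 D38492) (iv2 F59332)
theorem F127854 : act 7 n82956 = n38488 := d11_2 F59329 D82956 (iv4 D38488)
theorem F127855 : act 5 n82956 = n40591 := d16_1 D82956 (iv4 F70306) (iv5 F120352) F120351 F107995 F90776 (iv5 F59334) F59335 (iv2 F59332)
theorem F127856 : act 0 n82956 = n40613 := d17_0 F61730 D40880 F72915 (iv4 D45910) (iv5 F57399) (iv0 D35353) F29530 F59041 D82956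
def n82957 : Q := act 6 n38180
theorem D82957 : act 6 n38180 = n82957 := rfl
theorem F127857 : act 2 n82957 = n38494 := d3_1 D82957 (iv6 D38494) (iv2 F59332)
def n82958 : Q := act 4 n38181
theorem D82958 : act 4 n38181 = n82958 := rfl
theorem F127858 : act 2 n82958 = n38488 := d1_1 D82958 (iv4 D38488) (iv2 F59333)
theorem F127859 : act 3 n82958 = n57951 := d5_1 D82958 F91676 (iv3 F91678) D79079 F120305
theorem F127860 : act 5 n82958 = n40590 := d9_2 (iv5 F59334) D82958 (iv4 F70288) (iv5 F109577) (iv4 D73049) (iv5 D33656) D33655 (iv5 F59040) D82956 F127855 (iv4 F70306) (iv5 F120352) F120351 F107995 F90776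
theorem F127861 : act 7 n82958 = n38492 := d11_2 (iv7 F59335) D82958 (iv4 D38492)
theorem F127862 : act 1 n82958 = n40613 := d18_8 D40880 F74190 (iv1 D46972) (iv4 D22590) D22591 F35131 D38181 D82958 F61730
def n82959 : Q := act 6 n38181
theorem D82959 : act 6 n38181 = n82959 := rfl
theorem F127863 : act 2 n82959 = n38490 := d3_1 D82959 (iv6 D38490) (iv2 F59333)
def n82960 : Q := act 0 n38182
theorem D82960 : act 0 n38182 = n82960 := rfl
def n82961 : Q := act 1 n38182
theorem D82961 : act 1 n38182 = n82961 := rfl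
def n82962 : Q := act 5 n38182
theorem D82962 : act 5 n38182 = n82962 := rfl
theorem F127864 : act 3 n82962 = n38186 := d6_1 D82962 (iv5 D38186) (iv3 F59043)
def n82963 : Q := act 7 n38182
theorem D82963 : act 7 n38182 = n82963 := rfl
theorem F127865 : act 3 n82963 = n38187 := d8_1 D82963 (iv7 D38187) (iv3 F59043)
def n82964 : Q := act 0 n38183
theorem D82964 : act 0 n38183 = n82964 := rfl
def n82965 : Q := act 1 n38183
theorem D82965 : act 1 n38183 = n82965 := rfl
theorem F127867 : act 1 n82965 = n38530 := d15_1 D82965 (iv7 D38530) (iv2 F59044)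
def n82966 : Q := act 5 n38183
theorem D82966 : act 5 n38183 = n82966 := rfl
theorem F127868 : act 2 n82966 = n38529 := d2_1 D82966 (iv5 D38529) (iv2 F59044)
theorem F127869 : act 6 n82966 = n38186 := d12_2 D38183 D82966 (iv5 D38186) (iv6 D18251) D18250
def n82967 : Q := act 7 n38183
theorem D82967 : act 7 n38183 = n82967 := rfl
theorem F127870 : act 2 n82967 = n38530 := d4_1 D82967 (iv7 D38530) (iv2 F59044)
theorem F127871 : act 4 n82967 = n46436 := d11_1 D82967 (iv7 D46436) (iv4 F59045)
theorem F127872 : act 6 n82967 = n38506 := d14_1 D82967 (iv7 D38506) (iv6 D18348) (iv7 F29444) D38183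
theorem F127873 : act 1 n38530 = n82964 := d15_0 (iv0 D82964) D82967 F127870
theorem F127874 : act 1 n38528 = n82967 := d15_1 D38528 (iv7 D82967) F59044
theorem F127875 : act 1 n82967 = n38527 := d15_0 (iv0 D38527) D38530 (iv2 F127870)
def n82968 : Q := act 0 n38186
theorem D82968 : act 0 n38186 = n82968 := rfl
theorem F127876 : act 5 n82968 = n82615 := d17_3 (iv1 F118120) D38186 D82968 F127240 (iv5 F59648) (iv0 D38172) (iv5 D18246) F117932 D27741
theorem F127877 : act 7 n38542 = n82968 := d13_0 F127876 (iv7 D82615) F118929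
theorem F127878 : act 2 n82968 = n38541 := d15_3 (iv0 D38541) D38542 F127877
def n82969 : Q := act 1 n38186
theorem D82969 : act 1 n38186 = n82969 := rfl
theorem F127879 : act 1 n82969 = n38544 := d15_1 D82969 (iv7 D38544) (iv2 F59047)
theorem F127880 : act 7 n82969 = n38541 := d15_2 (iv0 D82968) D82969 (iv2 F127878)
theorem F127881 : act 5 n56792 = n82969 := d21_6 D8612 (iv1 F27531) (iv5 D16760) D16761 (iv1 F118882) D56792 (iv1 D82969) (iv5 D38186) (iv6 D18251) (iv1 D8610)
theorem F127882 : act 2 n82969 = n38542 := d2_1 F127881 (iv5 F118929) (iv2 F117786)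
theorem F127883 : act 1 n38544 = n82968 := d15_1 F127879 (iv7 F127877) (iv2 F127882)
def n82970 : Q := act 4 n38186
theorem D82970 : act 4 n38186 = n82970 := rfl
theorem F127884 : act 2 n82970 = n38543 := d1_1 D82970 (iv4 D38543) (iv2 F59047)
def n82971 : Q := act 7 n38186
theorem D82971 : act 7 n38186 = n82971 := rfl
theorem F127885 : act 2 n82971 = n38544 := d4_1 D82971 (iv7 D38544) (iv2 F59047)
theorem F127886 : act 5 n82971 = n38187 := d13_1 D82971 (iv7 D38187) D38186
theorem F127887 : act 1 n38542 = n82971 := d15_1 D38542 (iv7 D82971) F59047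
theorem F127888 : act 1 n82971 = n38541 := d15_1 F127887 (iv7 F127880) F127882
def n82972 : Q := act 2 n38189
theorem D82972 : act 2 n38189 = n82972 := rfl
theorem F127889 : act 3 n82972 = n82637 := d0_2 D38189 D82972 F127309 (iv3 D82387) F122971
theorem F127890 : act 4 n82972 = n44902 := d1_2 (iv4 F59950) D82972 (iv2 F126884)
theorem F127891 : act 1 n82972 = n38491 := d15_0 (iv0 F126890) F126881 D82972
theorem F127892 : act 5 n82972 = n82636 := d19_1 (iv1 F127891) F127306 F90109 F44255 (iv5 D26888) (iv4 D12869) F13449 F7236 (iv5 D4121) (iv4 D1771) D1770 (iv1 F12149) F6931 D10158 D21268 D44661 (iv5 F71577) (iv4 D38492) D38491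
def n82973 : Q := act 5 n38189
theorem D82973 : act 5 n38189 = n82973 := rfl
theorem F127895 : act 1 n82973 = n79008 := d17_8 F123328 F127143 (iv1 D71540) D71541 (iv4 F116509) F120307 (iv0 F120306) D82973 F120190
theorem F127896 : act 0 n82973 = n77430 := d18_0 (iv4 F116236) F116237 F60857 (iv5 F56164) (iv4 F115110) (iv0 F115109) D79079 (iv0 F120306) D82973
def n82974 : Q := act 6 n38189
theorem D82974 : act 6 n38189 = n82974 := rfl
theorem F127897 : act 3 n82974 = n38192 := d7_1 D82974 (iv6 D38192) D38189
def n82975 : Q := act 5 n38190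
theorem D82975 : act 5 n38190 = n82975 := rfl
def n82976 : Q := act 6 n38190
theorem D82976 : act 6 n38190 = n82976 := rfl
theorem F127898 : act 4 n82976 = n38192 := d10_1 D82976 (iv6 D38192) D38190
def n82977 : Q := act 6 n38191
theorem D82977 : act 6 n38191 = n82977 := rfl
def n82978 : Q := act 0 n38192
theorem D82978 : act 0 n38192 = n82978 := rfl
def n82979 : Q := act 1 n38192
theorem D82979 : act 1 n38192 = n82979 := rfl
def n82980 : Q := act 5 n38192
theorem D82980 : act 5 n38192 = n82980 := rfl
def n82981 : Q := act 7 n38192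
theorem D82981 : act 7 n38192 = n82981 := rfl
def n82982 : Q := act 0 n38194
theorem D82982 : act 0 n38194 = n82982 := rfl
theorem F127899 : act 5 n82982 = n38379 := d17_1 D82982 F127654 F127652 (iv4 D82717) (iv5 D38022) F54787 (iv5 F87063) (iv0 F87068) F59055
theorem F127900 : act 4 n82982 = n38377 := d18_1 D82982 (iv1 F127658) F127656 (iv5 F58960) F52494 F54787 (iv4 F113250) F113252 (iv5 F113261)
theorem F127901 : act 2 n38380 = n82982 := d15_3 (iv0 D82982) (iv0 F123117) F123116
theorem F127902 : act 1 n82637 = n82982 := d15_0 (iv0 D82982) (iv7 F126893) (iv2 F127309)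
theorem F127903 : act 3 n82982 = n38545 := d0_2 (iv3 F59244) F127901 (iv2 F86929) F86920 (iv2 F57360)
def n82983 : Q := act 2 n38194
theorem D82983 : act 2 n38194 = n82983 := rfl
theorem F127904 : act 4 n82983 = n73605 := d1_2 F59055 D82983 F110296
theorem F127905 : act 5 n82983 = n75459 := d2_2 (iv5 F113261) D82983 F113258
theorem F127906 : act 7 n82983 = n82637 := d4_2 F126893 D82983 F127309
theorem F127907 : act 1 n38380 = n82983 := d15_1 (iv0 F126895) F127906 F127309
def n82984 : Q := act 6 n38194
theorem D82984 : act 6 n38194 = n82984 := rfl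
theorem F127908 : act 3 n82984 = n38197 := d7_1 D82984 (iv6 D38197) D38194
theorem F127909 : act 4 n82984 = n82728 := d10_1 D82984 (iv6 D82728) F59055
def n82985 : Q := act 5 n38195
theorem D82985 : act 5 n38195 = n82985 := rfl
def n82986 : Q := act 6 n38195
theorem D82986 : act 6 n38195 = n82986 := rfl
theorem F127910 : act 4 n82986 = n38197 := d10_1 D82986 (iv6 D38197) D38195
def n82987 : Q := act 6 n38196
theorem D82987 : act 6 n38196 = n82987 := rfl
theorem F127911 : act 3 n82987 = n82635 := d7_1 D82987 (iv6 D82635) (iv3 F113264)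
def n82988 : Q := act 0 n38197
theorem D82988 : act 0 n38197 = n82988 := rfl
def n82989 : Q := act 1 n38197
theorem D82989 : act 1 n38197 = n82989 := rfl
def n82990 : Q := act 5 n38197
theorem D82990 : act 5 n38197 = n82990 := rfl
def n82991 : Q := act 7 n38197
theorem D82991 : act 7 n38197 = n82991 := rfl
def n82992 : Q := act 6 n38198
theorem D82992 : act 6 n38198 = n82992 := rfl
theorem F127912 : act 2 n82992 = n38202 := d3_1 D82992 (iv6 D38202) (iv2 F59056)
theorem F127913 : act 3 n82992 = n38565 := d7_1 D82992 (iv6 D38565) (iv3 F59057)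
def n82993 : Q := act 0 n38199
theorem D82993 : act 0 n38199 = n82993 := rfl
def n82994 : Q := act 1 n38199
theorem D82994 : act 1 n38199 = n82994 := rfl
theorem F127914 : act 1 n82994 = n38206 := d15_1 D82994 (iv7 D38206) (iv2 F59061)
def n82995 : Q := act 5 n38199
theorem D82995 : act 5 n38199 = n82995 := rfl
theorem F127915 : act 2 n82995 = n38205 := d2_1 D82995 (iv5 D38205) (iv2 F59061)
theorem F127916 : act 3 n82995 = n38568 := d6_1 D82995 (iv5 D38568) (iv3 F59062)
def n82996 : Q := act 7 n38199
theorem D82996 : act 7 n38199 = n82996 := rfl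
theorem F127917 : act 2 n82996 = n38206 := d4_1 D82996 (iv7 D38206) (iv2 F59061)
theorem F127918 : act 3 n82996 = n38569 := d8_1 D82996 (iv7 D38569) (iv3 F59062)
theorem F127919 : act 1 n38206 = n82993 := d15_0 (iv0 D82993) D82996 F127917
theorem F127920 : act 1 n38204 = n82996 := d15_1 D38204 (iv7 D82996) F59061
theorem F127921 : act 1 n82996 = n38203 := d15_0 (iv0 D38203) D38206 (iv2 F127917)
def n82997 : Q := act 3 n38200
theorem D82997 : act 3 n38200 = n82997 := rfl
theorem F127922 : act 5 n82997 = n81655 := d6_2 F115312 D82997 F125563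
theorem F127923 : act 7 n82997 = n47256 := d8_2 (iv7 F125567) D82997 (iv3 D47256)
theorem F127924 : act 0 n82997 = n77608 := d20_4 F43663 D36062 F74450 D82997 (iv3 D77608) (iv4 F90776) (iv1 F90780) D73043 F109566 (iv1 D56011)
theorem F127925 : act 0 n71785 = n82997 := d20_4 (iv4 F42616) (iv1 F51496) (iv4 F52407) D71785 (iv3 D82997) (iv4 F74450) F87153 F87150 (iv3 D33823) (iv1 F42614)
def n82998 : Q := act 6 n38200
theorem D82998 : act 6 n38200 = n82998 := rfl
theorem F127926 : act 2 n82998 = n47264 := d3_1 D82998 (iv6 D47264) (iv2 F125566)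
def n82999 : Q := act 6 n38201
theorem D82999 : act 6 n38201 = n82999 := rfl
theorem F127928 : act 2 n82999 = n47259 := d3_1 D82999 (iv6 D47259) (iv2 F125570)
def n83000 : Q := act 0 n38202
theorem D83000 : act 0 n38202 = n83000 := rfl
def n83001 : Q := act 1 n38202
theorem D83001 : act 1 n38202 = n83001 := rfl
def n83002 : Q := act 5 n38202
theorem D83002 : act 5 n38202 = n83002 := rfl
theorem F127930 : act 3 n83002 = n38209 := d6_1 D83002 (iv5 D38209) (iv3 F59065)
theorem F127931 : act 6 n83002 = n38205 := d12_2 D38202 D83002 (iv5 D38205) (iv6 D18256) D18255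
def n83003 : Q := act 7 n38202
theorem D83003 : act 7 n38202 = n83003 := rfl
theorem F127932 : act 3 n83003 = n38210 := d8_1 D83003 (iv7 D38210) (iv3 F59065)
theorem F127933 : act 6 n83003 = n47269 := d14_1 D83003 (iv7 D47269) (iv6 D22729) (iv7 F29450) D38202
def n83004 : Q := act 2 n38203
theorem D83004 : act 2 n38203 = n83004 := rfl
theorem F127934 : act 7 n38204 = n83004 := d15_2 (iv0 D38203) D38204 (iv2 D83004)
def n83005 : Q := act 3 n38203
theorem D83005 : act 3 n38203 = n83005 := rfl
def n83006 : Q := act 4 n38203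
theorem D83006 : act 4 n38203 = n83006 := rfl
def n83007 : Q := act 5 n38203
theorem D83007 : act 5 n38203 = n83007 := rfl
def n83008 : Q := act 6 n38203
theorem D83008 : act 6 n38203 = n83008 := rfl
def n83009 : Q := act 7 n38203
theorem D83009 : act 7 n38203 = n83009 := rfl
theorem F127935 : act 2 n83009 = n38204 := d4_1 D83009 F127934 (iv2 D83004)
def n83010 : Q := act 3 n38204
theorem D83010 : act 3 n38204 = n83010 := rfl
def n83011 : Q := act 4 n38204
theorem D83011 : act 4 n38204 = n83011 := rfl
def n83012 : Q := act 5 n38204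
theorem D83012 : act 5 n38204 = n83012 := rfl
def n83013 : Q := act 6 n38204
theorem D83013 : act 6 n38204 = n83013 := rfl
def n83014 : Q := act 0 n38205
theorem D83014 : act 0 n38205 = n83014 := rfl
def n83015 : Q := act 1 n38205
theorem D83015 : act 1 n38205 = n83015 := rfl
def n83016 : Q := act 4 n38205
theorem D83016 : act 4 n38205 = n83016 := rfl
def n83017 : Q := act 7 n38205
theorem D83017 : act 7 n38205 = n83017 := rfl
theorem F127936 : act 3 n83017 = n38223 := d8_1 D83017 (iv7 D38223) (iv3 F59066)
theorem F127937 : act 5 n83017 = n38206 := d13_1 D83017 (iv7 D38206) D38205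
def n83018 : Q := act 2 n38207
theorem D83018 : act 2 n38207 = n83018 := rfl
theorem F127938 : act 7 n38208 = n83018 := d15_2 (iv0 D38207) D38208 (iv2 D83018)
def n83019 : Q := act 3 n38207
theorem D83019 : act 3 n38207 = n83019 := rfl
def n83020 : Q := act 4 n38207
theorem D83020 : act 4 n38207 = n83020 := rfl
def n83021 : Q := act 5 n38207
theorem D83021 : act 5 n38207 = n83021 := rfl
def n83022 : Q := act 6 n38207
theorem D83022 : act 6 n38207 = n83022 := rfl
def n83023 : Q := act 7 n38207
theorem D83023 : act 7 n38207 = n83023 := rfl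
def n83024 : Q := act 3 n38208
theorem D83024 : act 3 n38208 = n83024 := rfl
def n83025 : Q := act 4 n38208
theorem D83025 : act 4 n38208 = n83025 := rfl
def n83026 : Q := act 5 n38208
theorem D83026 : act 5 n38208 = n83026 := rfl
def n83027 : Q := act 6 n38208
theorem D83027 : act 6 n38208 = n83027 := rfl
def n83028 : Q := act 0 n38209
theorem D83028 : act 0 n38209 = n83028 := rfl
def n83029 : Q := act 1 n38209
theorem D83029 : act 1 n38209 = n83029 := rfl
theorem F127940 : act 1 n83029 = n38626 := d15_1 D83029 (iv7 D38626) (iv2 F59069)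
theorem F127941 : act 5 n75618 = n83029 := d21_6 (iv5 D16760) (iv1 D7827) D7829 D16767 D34585 D75618 (iv1 D83029) (iv5 D38209) (iv6 D18257) (iv1 F27531)
def n83030 : Q := act 4 n38209
theorem D83030 : act 4 n38209 = n83030 := rfl
theorem F127942 : act 2 n83030 = n38625 := d1_1 D83030 (iv4 D38625) (iv2 F59069)
theorem F127943 : act 6 n83030 = n38222 := d10_2 (iv6 F59070) D83030 (iv4 D38222)
def n83031 : Q := act 7 n38209
theorem D83031 : act 7 n38209 = n83031 := rfl
theorem F127944 : act 2 n83031 = n38626 := d4_1 D83031 (iv7 D38626) (iv2 F59069)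
theorem F127945 : act 5 n83031 = n38210 := d13_1 D83031 (iv7 D38210) D38209
theorem F127946 : act 1 n38626 = n83028 := d15_0 (iv0 D83028) D83031 F127944
theorem F127947 : act 1 n38624 = n83031 := d15_1 D38624 (iv7 D83031) F59069
theorem F127948 : act 1 n83031 = n38623 := d15_0 (iv0 D38623) D38626 (iv2 F127944)
def n83032 : Q := act 0 n38212
theorem D83032 : act 0 n38212 = n83032 := rfl
theorem F127949 : act 1 n38662 = n83032 := d15_0 (iv0 D83032) F61152 D38662
def n83033 : Q := act 1 n38212
theorem D83033 : act 1 n38212 = n83033 := rfl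
def n83034 : Q := act 2 n38212
theorem D83034 : act 2 n38212 = n83034 := rfl
theorem F127950 : act 3 n83034 = n38639 := d0_2 D38212 D83034 (iv2 D38639) (iv3 D18390) F61151
theorem F127951 : act 7 n83034 = n38662 := d4_2 (iv7 F61152) D83034 (iv2 D38662)
theorem F127952 : act 1 n83034 = n38660 := d15_0 (iv0 D38660) (iv7 F61152) D83034
theorem F127953 : act 1 n83033 = n38662 := d15_1 D83033 (iv7 F127951) (iv2 D83034)
theorem F127954 : act 1 n38661 = n83034 := d15_1 D38661 F127951 (iv2 D38662)
def n83035 : Q := act 5 n38212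
theorem D83035 : act 5 n38212 = n83035 := rfl
theorem F127956 : act 7 n83035 = n38664 := d13_2 (iv7 F61152) D83035 (iv5 D38664)
def n83036 : Q := act 6 n38212
theorem D83036 : act 6 n38212 = n83036 := rfl
theorem F127957 : act 3 n83036 = n38214 := d7_1 D83036 (iv6 D38214) D38212
def n83037 : Q := act 0 n38213
theorem D83037 : act 0 n38213 = n83037 := rfl
theorem F127959 : act 5 n83037 = n56853 := d17_3 D18258 D38213 D83037 F89880 (iv5 F117906) F29598 (iv5 D18265) (iv0 D8614) (iv4 F13526)
theorem F127960 : act 1 n38218 = n83037 := d15_0 (iv0 D83037) F61154 (iv2 F61159)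
theorem F127961 : act 2 n38650 = n83037 := d2_3 F127959 F117912 (iv5 F59464)
theorem F127962 : act 7 n38651 = n83037 := d15_2 (iv0 D38650) D38651 (iv2 F127961)
def n83038 : Q := act 1 n38213
theorem D83038 : act 1 n38213 = n83038 := rfl
theorem F127963 : act 1 n83038 = n38218 := d15_1 D83038 F61160 (iv2 F61153)
theorem F127964 : act 7 n83038 = n38650 := d15_2 (iv0 D83037) D83038 F127961
theorem F127965 : act 5 n83038 = n75729 := d17_7 (iv1 F118344) F118345 (iv1 F118348) (iv5 D40176) F30441 D38213 D83038 (iv0 F113624) (iv4 F113488)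
theorem F127966 : act 2 n38651 = n83038 := d4_3 F127964 F127961 (iv7 F127962)
def n83039 : Q := act 4 n38213
theorem D83039 : act 4 n38213 = n83039 := rfl
theorem F127967 : act 2 n83039 = n38652 := d1_1 D83039 (iv4 D38652) (iv2 F61153)
theorem F127968 : act 7 n83039 = n38668 := d11_2 (iv7 F61154) D83039 (iv4 D38668)
def n83040 : Q := act 6 n38213
theorem D83040 : act 6 n38213 = n83040 := rfl
theorem F127969 : act 2 n83040 = n38653 := d3_1 D83040 (iv6 D38653) (iv2 F61153)
theorem F127970 : act 5 n83040 = n75677 := d12_1 D83040 (iv6 D75677) (iv5 F59078) (iv6 D38214) D38213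
def n83041 : Q := act 7 n38214
theorem D83041 : act 7 n38214 = n83041 := rfl
theorem F127972 : act 4 n83041 = n40176 := d11_1 D83041 (iv7 F61174) F59484
theorem F127973 : act 5 n83041 = n75340 := d13_1 D83041 F112960 (iv5 F59078)
theorem F127974 : act 6 n83041 = n38673 := d14_1 D83041 (iv7 D38673) (iv6 D18398) F61150 D38214
theorem F127975 : act 1 n38656 = n83041 := d15_1 D38656 (iv7 D83041) F61155
theorem F127976 : act 1 n83041 = n38467 := d15_1 F127975 (iv7 F59530) (iv2 F59659)
def n83042 : Q := act 0 n38216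
theorem D83042 : act 0 n38216 = n83042 := rfl
def n83043 : Q := act 1 n38216
theorem D83043 : act 1 n38216 = n83043 := rfl
def n83044 : Q := act 2 n38216
theorem D83044 : act 2 n38216 = n83044 := rfl
theorem F127978 : act 3 n83044 = n38662 := d0_2 D38216 D83044 (iv2 D38662) (iv3 D18395) (iv2 F61156)
theorem F127979 : act 7 n83044 = n38639 := d4_2 (iv7 F61158) D83044 (iv2 D38639)
theorem F127980 : act 1 n83044 = n38637 := d15_0 (iv0 D38637) (iv7 F61158) D83044
theorem F127981 : act 1 n83043 = n38639 := d15_1 D83043 (iv7 F127979) (iv2 D83044)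
theorem F127982 : act 1 n38638 = n83044 := d15_1 D38638 F127979 (iv2 D38639)
def n83045 : Q := act 5 n38216
theorem D83045 : act 5 n38216 = n83045 := rfl
theorem F127983 : act 3 n83045 = n38218 := d6_1 D83045 (iv5 D38218) D38216
theorem F127984 : act 7 n83045 = n38641 := d13_2 (iv7 F61158) D83045 (iv5 D38641)
def n83046 : Q := act 6 n38216
theorem D83046 : act 6 n38216 = n83046 := rfl
theorem F127985 : act 3 n83046 = n38219 := d7_1 D83046 (iv6 D38219) D38216
def n83047 : Q := act 4 n38218
theorem D83047 : act 4 n38218 = n83047 := rfl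
theorem F127986 : act 2 n83047 = n38668 := d1_1 D83047 (iv4 D38668) (iv2 F61159)
theorem F127987 : act 7 n83047 = n38652 := d11_2 (iv7 F61160) D83047 (iv4 D38652)
def n83048 : Q := act 6 n38218
theorem D83048 : act 6 n38218 = n83048 := rfl
theorem F127988 : act 2 n83048 = n38669 := d3_1 D83048 (iv6 D38669) (iv2 F61159)
def n83049 : Q := act 5 n38219
theorem D83049 : act 5 n38219 = n83049 := rfl
theorem F127989 : act 2 n83049 = n38672 := d2_1 D83049 (iv5 D38672) (iv2 F61161)
theorem F127990 : act 0 n83049 = n75520 := d17_2 (iv1 F118938) D83049 (iv5 D75520) (iv4 D34553) (iv5 F29501) (iv0 F29592) F29591 F117732 D37446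
theorem F127991 : act 0 n56791 = n83049 := d21_1 D56791 (iv5 D83049) (iv6 D38219) (iv1 D18259) (iv6 D8613) D8612 (iv1 F27531) (iv5 D16760) D16761 (iv1 F118882)
theorem F127992 : act 7 n81819 = n83049 := d15_2 (iv0 F118928) F125769 F127989
def n83050 : Q := act 7 n38219
theorem D83050 : act 7 n38219 = n83050 := rfl
theorem F127993 : act 2 n83050 = n38673 := d4_1 D83050 (iv7 D38673) (iv2 F61161)
theorem F127994 : act 5 n83050 = n81819 := d13_1 D83050 F127992 (iv5 D83049)
theorem F127995 : act 6 n83050 = n38658 := d14_1 D83050 (iv7 D38658) (iv6 D18393) (iv7 F61157) D38219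
theorem F127996 : act 1 n38334 = n83050 := d15_1 (iv0 F118931) (iv7 D83050) F61161
theorem F127997 : act 1 n83050 = n38670 := d15_1 F127996 F118935 F117718
def n83051 : Q := act 3 n38220
theorem D83051 : act 3 n38220 = n83051 := rfl
theorem F127998 : act 7 n83051 = n38680 := d8_2 (iv7 F114046) D83051 (iv3 D38680)
def n83052 : Q := act 4 n38220
theorem D83052 : act 4 n38220 = n83052 := rfl
theorem F127999 : act 2 n83052 = n38676 := d1_1 D83052 (iv4 D38676) (iv2 F114045)
theorem F128000 : act 7 n83052 = n38681 := d11_2 (iv7 F114046) D83052 (iv4 D38681)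
def n83053 : Q := act 6 n38220
theorem D83053 : act 6 n38220 = n83053 := rfl
theorem F128001 : act 2 n83053 = n38678 := d3_1 D83053 (iv6 D38678) (iv2 F114045)
def n83054 : Q := act 3 n38221
theorem D83054 : act 3 n38221 = n83054 := rfl
theorem F128002 : act 7 n83054 = n38675 := d8_2 (iv7 F114044) D83054 (iv3 D38675)
def n83055 : Q := act 4 n38221
theorem D83055 : act 4 n38221 = n83055 := rfl
theorem F128003 : act 2 n83055 = n38681 := d1_1 D83055 (iv4 D38681) (iv2 F114043)
theorem F128004 : act 7 n83055 = n38676 := d11_2 (iv7 F114044) D83055 (iv4 D38676)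
def n83056 : Q := act 6 n38221
theorem D83056 : act 6 n38221 = n83056 := rfl
theorem F128005 : act 2 n83056 = n38683 := d3_1 D83056 (iv6 D38683) (iv2 F114043)
def n83057 : Q := act 0 n38222
theorem D83057 : act 0 n38222 = n83057 := rfl
theorem F128006 : act 1 n38688 = n83057 := d15_0 (iv0 D83057) (iv7 F113540) F113538
def n83058 : Q := act 1 n38222
theorem D83058 : act 1 n38222 = n83058 := rfl
theorem F128007 : act 1 n83058 = n38688 := d15_1 D83058 (iv7 D38688) (iv2 F59081)
def n83059 : Q := act 3 n38222
theorem D83059 : act 3 n38222 = n83059 := rfl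
def n83060 : Q := act 6 n38223
theorem D83060 : act 6 n38223 = n83060 := rfl
theorem F128008 : act 2 n83060 = n38689 := d3_1 D83060 (iv6 D38689) (iv2 F59082)
def n83061 : Q := act 3 n38227
theorem D83061 : act 3 n38227 = n83061 := rfl
theorem F128009 : act 4 n83061 = n38231 := d5_2 D38227 D83061 (iv3 D38231) (iv4 D18264) D18263
theorem F128010 : act 7 n83061 = n38777 := d8_2 (iv7 F59093) D83061 (iv3 D38777)
def n83062 : Q := act 5 n38227
theorem D83062 : act 5 n38227 = n83062 := rfl
def n83063 : Q := act 0 n38228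
theorem D83063 : act 0 n38228 = n83063 := rfl
theorem F128013 : act 5 n83063 = n75746 := d21_2 D38228 D83063 F120391 (iv1 D37959) (iv6 D18179) (iv5 D8571) F6758 D10285 D21542 (iv1 F116633)
theorem F128014 : act 6 n83063 = n82671 := d21_5 (iv5 F123049) (iv1 D38784) D38785 F59680 D83063 (iv5 D82671) (iv1 F127266) F127263 (iv6 F113241) (iv1 F113243)
theorem F128015 : act 2 n38781 = n83063 := d15_3 (iv0 D83063) F123956 (iv7 F123059)
theorem F128016 : act 1 n38773 = n83063 := d15_0 (iv0 D83063) F59095 (iv2 F59671)
theorem F128017 : act 7 n83063 = n38780 := d15_2 F118402 F128016 (iv2 F123060)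
theorem F128018 : act 3 n57804 = n83063 := d8_3 F128017 F123061 F121027
def n83064 : Q := act 4 n38228
theorem D83064 : act 4 n38228 = n83064 := rfl
theorem F128019 : act 6 n83064 = n80376 := d10_2 F59680 D83064 F123492
theorem F128021 : act 5 n83064 = n80184 := d17_5 F116618 (iv5 F33889) (iv1 F116633) D38228 D83064 (iv0 D80184) (iv5 D36520) D36519 F113048
def n83065 : Q := act 3 n38229
theorem D83065 : act 3 n38229 = n83065 := rfl
theorem F128022 : act 4 n83065 = n39543 := d5_2 (iv4 F59754) D83065 (iv3 D39543) F59760 F59753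
theorem F128023 : act 7 n83065 = n38282 := d8_2 (iv7 F59724) D83065 F59151
theorem F128024 : act 0 n83065 = n39363 := d20_4 D18391 D38644 (iv4 F59754) D83065 (iv3 D39363) (iv4 D18660) (iv1 D8758) (iv4 F13559) F13558 D8660
def n83066 : Q := act 5 n38229
theorem D83066 : act 5 n38229 = n83066 := rfl
theorem F128025 : act 2 n83066 = n38730 := d2_1 D83066 (iv5 D38730) (iv2 F59723)
theorem F128026 : act 7 n83066 = n38285 := d13_2 (iv7 F59724) D83066 (iv5 D38285)
def n83067 : Q := act 0 n38231
theorem D83067 : act 0 n38231 = n83067 := rfl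
theorem F128027 : act 1 n38788 = n83067 := d15_0 (iv0 D83067) F59098 D38788
def n83068 : Q := act 1 n38231
theorem D83068 : act 1 n38231 = n83068 := rfl
def n83069 : Q := act 2 n38231
theorem D83069 : act 2 n38231 = n83069 := rfl
theorem F128028 : act 3 n83069 = n38739 := d0_2 D38231 D83069 (iv2 D38739) (iv3 D18422) (iv2 F29628)
theorem F128029 : act 7 n83069 = n38788 := d4_2 (iv7 F59098) D83069 (iv2 D38788)
theorem F128030 : act 1 n83069 = n38786 := d15_0 (iv0 D38786) (iv7 F59098) D83069
theorem F128031 : act 1 n83068 = n38788 := d15_1 D83068 (iv7 F128029) (iv2 D83069)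
theorem F128032 : act 1 n38787 = n83069 := d15_1 D38787 F128029 (iv2 D38788)
def n83070 : Q := act 5 n38231
theorem D83070 : act 5 n38231 = n83070 := rfl
theorem F128033 : act 3 n83070 = n38232 := d6_1 D83070 (iv5 D38232) D38231
theorem F128034 : act 7 n83070 = n38789 := d13_2 (iv7 F59098) D83070 (iv5 D38789)
def n83071 : Q := act 0 n38232
theorem D83071 : act 0 n38232 = n83071 := rfl
theorem F128035 : act 5 n83071 = n46230 := d17_3 F59721 D38232 D83071 F72884 D46233 (iv0 F72885) (iv5 D38647) (iv0 F59748) (iv4 F34425)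
theorem F128036 : act 1 n38240 = n83071 := d15_0 (iv0 D83071) F59100 (iv2 F59113)
theorem F128037 : act 2 n38742 = n83071 := d2_3 F128035 F118295 (iv5 F59816)
theorem F128038 : act 7 n38743 = n83071 := d15_2 (iv0 D38742) D38743 (iv2 F128037)
def n83072 : Q := act 1 n38232
theorem D83072 : act 1 n38232 = n83072 := rfl
theorem F128039 : act 1 n83072 = n38240 := d15_1 D83072 F59114 (iv2 F59099)
theorem F128040 : act 7 n83072 = n38742 := d15_2 (iv0 D83071) D83072 F128037
theorem F128041 : act 5 n83072 = n75730 := d17_7 D34627 F54884 (iv1 F59571) (iv5 D18265) D18264 D38232 D83072 (iv0 D75730) (iv4 D34629)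
theorem F128042 : act 2 n38743 = n83072 := d4_3 F128040 F128037 (iv7 F128038)
def n83073 : Q := act 4 n38232
theorem D83073 : act 4 n38232 = n83073 := rfl
theorem F128043 : act 2 n83073 = n38744 := d1_1 D83073 (iv4 D38744) (iv2 F59099)
theorem F128044 : act 7 n83073 = n38791 := d11_2 (iv7 F59100) D83073 (iv4 D38791)
def n83074 : Q := act 6 n38232
theorem D83074 : act 6 n38232 = n83074 := rfl
theorem F128045 : act 2 n83074 = n38745 := d3_1 D83074 (iv6 D38745) (iv2 F59099)
def n83075 : Q := act 3 n38233
theorem D83075 : act 3 n38233 = n83075 := rfl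
theorem F128046 : act 7 n83075 = n38797 := d8_2 (iv7 F59102) D83075 (iv3 D38797)
def n83076 : Q := act 1 n38237
theorem D83076 : act 1 n38237 = n83076 := rfl
theorem F128047 : act 1 n83076 = n38714 := d15_1 D83076 (iv7 F126991) F126990
theorem F128048 : act 7 n83076 = n38249 := d15_2 (iv0 F59110) D83076 F59131
theorem F128049 : act 4 n39937 = n83076 := d20_0 (iv1 D83076) (iv4 D38237) (iv3 D18267) (iv1 D8615) (iv3 F9752) (iv4 F21910) D27435 (iv4 F60787) (iv3 D39953) (iv1 F60759)
def n83077 : Q := act 3 n38237
theorem D83077 : act 3 n38237 = n83077 := rfl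
theorem F128052 : act 4 n83077 = n38239 := d5_2 D38237 D83077 (iv3 D38239) (iv4 D18268) D18267
theorem F128053 : act 7 n83077 = n38718 := d8_2 (iv7 F59109) D83077 (iv3 D38718)
def n83079 : Q := act 0 n38239
theorem D83079 : act 0 n38239 = n83079 := rfl
theorem F128055 : act 1 n38739 = n83079 := d15_0 (iv0 D83079) F59112 D38739
def n83080 : Q := act 1 n38239
theorem D83080 : act 1 n38239 = n83080 := rfl
def n83081 : Q := act 2 n38239
theorem D83081 : act 2 n38239 = n83081 := rfl
theorem F128056 : act 3 n83081 = n38788 := d0_2 D38239 D83081 (iv2 D38788) (iv3 D18441) (iv2 F29620)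
theorem F128057 : act 7 n83081 = n38739 := d4_2 (iv7 F59112) D83081 (iv2 D38739)
theorem F128058 : act 1 n83081 = n38737 := d15_0 (iv0 D38737) (iv7 F59112) D83081
theorem F128059 : act 1 n83080 = n38739 := d15_1 D83080 (iv7 F128057) (iv2 D83081)
theorem F128060 : act 1 n38738 = n83081 := d15_1 D38738 F128057 (iv2 D38739)
def n83082 : Q := act 5 n38239
theorem D83082 : act 5 n38239 = n83082 := rfl
theorem F128061 : act 3 n83082 = n38240 := d6_1 D83082 (iv5 D38240) D38239
theorem F128062 : act 7 n83082 = n38740 := d13_2 (iv7 F59112) D83082 (iv5 D38740)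
def n83083 : Q := act 6 n38239
theorem D83083 : act 6 n38239 = n83083 := rfl
theorem F128063 : act 3 n83083 = n38241 := d7_1 D83083 (iv6 D38241) D38239
def n83084 : Q := act 4 n38240
theorem D83084 : act 4 n38240 = n83084 := rfl
theorem F128064 : act 2 n83084 = n38791 := d1_1 D83084 (iv4 D38791) (iv2 F59113)
theorem F128065 : act 7 n83084 = n38744 := d11_2 (iv7 F59114) D83084 (iv4 D38744)
def n83085 : Q := act 6 n38240
theorem D83085 : act 6 n38240 = n83085 := rfl
theorem F128066 : act 2 n83085 = n38792 := d3_1 D83085 (iv6 D38792) (iv2 F59113)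
def n83086 : Q := act 5 n38241
theorem D83086 : act 5 n38241 = n83086 := rfl
theorem F128067 : act 2 n83086 = n38795 := d2_1 D83086 (iv5 D38795) (iv2 F59115)
theorem F128068 : act 7 n83086 = n82578 := d13_2 F59666 D83086 F127199
theorem F128069 : act 0 n83086 = n45966 := d17_2 (iv1 F127224) D83086 (iv5 D45966) (iv4 D21966) D21967 (iv0 F72532) F72528 (iv0 F118936) (iv4 F127220)
theorem F128070 : act 1 n83086 = n45947 := d17_6 (iv1 F117761) F117763 F29609 F29591 (iv4 F59116) D83086 (iv5 D45947) (iv0 F118904) F27508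
def n83087 : Q := act 0 n38242
theorem D83087 : act 0 n38242 = n83087 := rfl
theorem F128071 : act 3 n83087 = n57606 := d20_5 (iv4 D27233) F21748 D18270 D38242 D83087 (iv4 D57606) (iv1 D27527) D27529 F44420 (iv1 F44051)
theorem F128072 : act 1 n78065 = n83087 := d15_0 (iv0 D83087) F59118 D78065
theorem F128073 : act 7 n78063 = n83087 := d8_0 F128071 (iv7 F94810) (iv3 F119258)
def n83088 : Q := act 1 n38242
theorem D83088 : act 1 n38242 = n83088 := rfl
def n83089 : Q := act 2 n38242
theorem D83089 : act 2 n38242 = n83089 := rfl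
theorem F128074 : act 3 n83089 = n38252 := d0_2 D38242 D83089 (iv2 D38252) (iv3 D18273) (iv2 F29463)
theorem F128075 : act 4 n83089 = n71813 := d1_2 (iv4 F59117) D83089 (iv2 F108266)
theorem F128076 : act 5 n83089 = n71908 := d2_2 F123614 D83089 (iv2 F123613)
theorem F128077 : act 7 n83089 = n78065 := d4_2 (iv7 F59118) D83089 (iv2 D78065)
theorem F128078 : act 1 n83089 = n78063 := d15_0 (iv0 D78063) (iv7 F59118) D83089
theorem F128079 : act 1 n83088 = n78065 := d15_1 D83088 (iv7 F128077) (iv2 D83089)
theorem F128080 : act 2 n78063 = n83088 := d15_3 F128079 F128072 (iv7 F128073)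
theorem F128081 : act 7 n78064 = n83088 := d15_2 (iv0 D78063) D78064 (iv2 F128080)
theorem F128082 : act 2 n83087 = n78064 := d4_3 F128081 (iv2 F128080) F128073
theorem F128083 : act 1 n78064 = n83089 := d15_0 F128078 F128073 F128082
def n83090 : Q := act 6 n38242
theorem D83090 : act 6 n38242 = n83090 := rfl
theorem F128084 : act 3 n83090 = n38243 := d7_1 D83090 (iv6 D38243) D38242
theorem F128085 : act 4 n83090 = n77542 := d10_1 D83090 (iv6 D77542) (iv4 F59117)
theorem F128086 : act 7 n78191 = n83090 := d8_0 F128084 F118593 D78191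
def n83091 : Q := act 5 n38243
theorem D83091 : act 5 n38243 = n83091 := rfl
theorem F128087 : act 2 n83091 = n38257 := d2_1 D83091 (iv5 D38257) (iv2 F59119)
theorem F128088 : act 7 n83091 = n78192 := d13_2 (iv7 F118593) D83091 (iv5 D78192)
def n83092 : Q := act 5 n38244
theorem D83092 : act 5 n38244 = n83092 := rfl
theorem F128089 : act 2 n83092 = n38262 := d2_1 D83092 (iv5 D38262) (iv2 F117848)
theorem F128090 : act 6 n83092 = n82475 := d12_2 (iv6 F59121) D83092 (iv5 D82475) (iv6 D37840) D37839
theorem F128091 : act 7 n83092 = n38267 := d13_2 (iv7 F117850) D83092 (iv5 D38267)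
def n83093 : Q := act 0 n38246
theorem D83093 : act 0 n38246 = n83093 := rfl
theorem F128093 : act 6 n83093 = n82921 := d21_5 F59863 (iv1 F30163) D34462 (iv6 F59124) D83093 (iv5 D82921) (iv1 D38154) D38155 F59006 D38853
theorem F128094 : act 2 n38269 = n83093 := d15_3 (iv0 D83093) (iv0 F118256) (iv7 F118444)
theorem F128095 : act 7 n38270 = n83093 := d15_2 (iv0 D38269) D38270 (iv2 F128094)
theorem F128096 : act 2 n58033 = n38270 := d4_3 F128095 (iv2 F128094) F118444
def n83094 : Q := act 7 n38246
theorem D83094 : act 7 n38246 = n83094 := rfl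
theorem F128099 : act 5 n83094 = n38247 := d13_1 D83094 (iv7 D38247) D38246
theorem F128100 : act 1 n38270 = n83094 := d15_1 D38270 (iv7 D83094) F59123
theorem F128101 : act 1 n83094 = n38269 := d15_1 F128100 F118444 F128096
theorem F128102 : act 4 n78375 = n83094 := d18_3 F120816 D35721 D78375 F128099 (iv4 F118590) (iv0 D35647) (iv4 D17277) (iv0 F121250) D35186
theorem F128103 : act 7 n80006 = n78375 := d11_0 F128102 (iv7 D83094) (iv4 F122808)
def n83095 : Q := act 6 n38248
theorem D83095 : act 6 n38248 = n83095 := rfl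
theorem F128104 : act 3 n83095 = n38249 := d7_1 D83095 (iv6 D38249) D38248
theorem F128105 : act 4 n83095 = n40048 := d10_1 D83095 (iv6 D40048) (iv4 F59129)
def n83096 : Q := act 5 n38249
theorem D83096 : act 5 n38249 = n83096 := rfl
def n83097 : Q := act 3 n38250
theorem D83097 : act 3 n38250 = n83097 := rfl
theorem F128107 : act 4 n83097 = n81428 := d20_6 (iv4 D18129) F13534 D8620 D18273 D38250 D83097 (iv1 D81428) (iv4 F60773) (iv3 D39944) F30140
def n83098 : Q := act 6 n38250
theorem D83098 : act 6 n38250 = n83098 := rfl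
def n83099 : Q := act 6 n38251
theorem D83099 : act 6 n38251 = n83099 := rfl
def n83100 : Q := act 6 n38252
theorem D83100 : act 6 n38252 = n83100 := rfl
theorem F128108 : act 2 n83100 = n38253 := d3_1 D83100 (iv6 D38253) D38252
theorem F128109 : act 4 n83100 = n38289 := d10_1 D83100 (iv6 D38289) (iv4 F59134)
def n83101 : Q := act 0 n38253
theorem D83101 : act 0 n38253 = n83101 := rfl
def n83102 : Q := act 1 n38253
theorem D83102 : act 1 n38253 = n83102 := rfl
def n83103 : Q := act 5 n38253
theorem D83103 : act 5 n38253 = n83103 := rfl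
theorem F128110 : act 3 n83103 = n38257 := d6_1 D83103 (iv5 D38257) (iv3 F59136)
def n83104 : Q := act 7 n38253
theorem D83104 : act 7 n38253 = n83104 := rfl
theorem F128111 : act 3 n83104 = n38258 := d8_1 D83104 (iv7 D38258) (iv3 F59136)
theorem F128112 : act 4 n83104 = n38294 := d11_1 D83104 (iv7 D38294) (iv4 F59137)
def n83105 : Q := act 0 n38254
theorem D83105 : act 0 n38254 = n83105 := rfl
def n83106 : Q := act 1 n38254
theorem D83106 : act 1 n38254 = n83106 := rfl
def n83107 : Q := act 5 n38254
theorem D83107 : act 5 n38254 = n83107 := rfl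
theorem F128114 : act 6 n83107 = n38257 := d12_2 D38254 D83107 (iv5 D38257) (iv6 D18275) D18274
def n83108 : Q := act 7 n38254
theorem D83108 : act 7 n38254 = n83108 := rfl
def n83109 : Q := act 3 n38256
theorem D83109 : act 3 n38256 = n83109 := rfl
theorem F128115 : act 4 n83109 = n78276 := d5_2 (iv4 F117745) D83109 (iv3 D78276) (iv4 D35687) (iv3 F43443)
theorem F128116 : act 7 n83109 = n78186 := d8_2 (iv7 F117746) D83109 (iv3 D78186)
def n83110 : Q := act 5 n38256
theorem D83110 : act 5 n38256 = n83110 := rfl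
theorem F128117 : act 2 n83110 = n55847 := d2_1 D83110 (iv5 D55847) (iv2 F117744)
theorem F128118 : act 7 n83110 = n78187 := d13_2 (iv7 F117746) D83110 (iv5 D78187)
theorem F128119 : act 1 n78199 = n83110 := d15_1 D78199 F128118 F119392
theorem F128120 : act 1 n83110 = n78198 := d15_0 (iv0 D78198) (iv7 F88335) (iv2 F128117)
def n83111 : Q := act 6 n38256
theorem D83111 : act 6 n38256 = n83111 := rfl
theorem F128121 : act 2 n83111 = n55848 := d3_1 D83111 (iv6 D55848) (iv2 F117744)
theorem F128122 : act 4 n83111 = n55844 := d10_1 D83111 (iv6 D55844) (iv4 F117745)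
def n83112 : Q := act 0 n38257
theorem D83112 : act 0 n38257 = n83112 := rfl
theorem F128123 : act 5 n83112 = n78380 := d17_3 (iv1 D38256) D38257 D83112 (iv4 D78380) (iv5 D35722) (iv0 F120816) (iv5 D35186) F121251 (iv4 F117745)
def n83113 : Q := act 1 n38257
theorem D83113 : act 1 n38257 = n83113 := rfl
theorem F128124 : act 1 n83113 = n78192 := d15_1 D83113 (iv7 F128088) F128087
def n83114 : Q := act 4 n38257
theorem D83114 : act 4 n38257 = n83114 := rfl
def n83115 : Q := act 7 n38257
theorem D83115 : act 7 n38257 = n83115 := rfl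
theorem F128125 : act 2 n83115 = n78192 := d4_1 D83115 (iv7 F128088) F128087
theorem F128126 : act 5 n83115 = n38258 := d13_1 D83115 (iv7 D38258) D38257
theorem F128127 : act 1 n78192 = n83112 := d15_0 (iv0 D83112) D83115 F128125
def n83116 : Q := act 3 n38261
theorem D83116 : act 3 n38261 = n83116 := rfl
def n83117 : Q := act 5 n38261
theorem D83117 : act 5 n38261 = n83117 := rfl
def n83118 : Q := act 6 n38261
theorem D83118 : act 6 n38261 = n83118 := rfl
theorem F128129 : act 4 n83118 = n38263 := d10_1 D83118 (iv6 D38263) D38261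
def n83119 : Q := act 0 n38262
theorem D83119 : act 0 n38262 = n83119 := rfl
theorem F128133 : act 1 n38267 = n83119 := d15_0 (iv0 D83119) F118724 F117834
def n83120 : Q := act 1 n38262
theorem D83120 : act 1 n38262 = n83120 := rfl
theorem F128134 : act 1 n83120 = n38267 := d15_1 D83120 (iv7 F128091) F128089
theorem F128135 : act 4 n78216 = n83120 := d18_7 (iv1 D18277) (iv4 F29474) (iv1 F117742) (iv4 D17277) D17278 D35654 D78216 F128134 (iv5 D38267)
theorem F128136 : act 3 n38336 = n83120 := d20_5 D35668 F56348 (iv4 D18541) F117675 (iv1 F59193) (iv4 F128135) (iv1 D78216) (iv4 D35654) F28222 D17287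
def n83121 : Q := act 4 n38262
theorem D83121 : act 4 n38262 = n83121 := rfl
def n83122 : Q := act 6 n38262
theorem D83122 : act 6 n38262 = n83122 := rfl
theorem F128137 : act 2 n83122 = n82475 := d3_1 D83122 (iv6 F128090) F128089
theorem F128138 : act 3 n83122 = n39830 := d7_1 D83122 F124302 F118725
theorem F128139 : act 5 n83122 = n56770 := d12_1 D83122 (iv6 D56770) (iv5 F117823) (iv6 D38263) D38262
theorem F128140 : act 0 n38812 = n83122 := d21_1 D38812 F128139 (iv6 D56770) F117820 (iv6 D18131) (iv5 D8548) (iv1 F13101) D17610 D36477 F124310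
def n83123 : Q := act 5 n38265
theorem D83123 : act 5 n38265 = n83123 := rfl
theorem F128141 : act 3 n83123 = n38267 := d6_1 D83123 (iv5 D38267) D38265
def n83125 : Q := act 3 n38266
theorem D83125 : act 3 n38266 = n83125 := rfl
def n83126 : Q := act 5 n38266
theorem D83126 : act 5 n38266 = n83126 := rfl
def n83127 : Q := act 6 n38266
theorem D83127 : act 6 n38266 = n83127 := rfl
theorem F128143 : act 4 n83127 = n38268 := d10_1 D83127 (iv6 D38268) D38266
def n83128 : Q := act 4 n38267
theorem D83128 : act 4 n38267 = n83128 := rfl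
def n83129 : Q := act 6 n38267
theorem D83129 : act 6 n38267 = n83129 := rfl
theorem F128144 : act 0 n77185 = n83129 := d21_4 (iv5 D34434) F28061 D35234 D77185 (iv6 D83129) (iv5 D38267) (iv1 D18277) D18278 F29476 F54637
def n83130 : Q := act 0 n38268
theorem D83130 : act 0 n38268 = n83130 := rfl
def n83131 : Q := act 5 n38268
theorem D83131 : act 5 n38268 = n83131 := rfl
def n83132 : Q := act 7 n38268
theorem D83132 : act 7 n38268 = n83132 := rfl
theorem F128145 : act 2 n83132 = n82464 := d4_1 D83132 F127053 F117835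
theorem F128146 : act 6 n83132 = n82430 := d14_1 D83132 F127002 (iv6 F59121) F117850 D38268
theorem F128147 : act 1 n82464 = n83130 := d15_0 (iv0 D83130) D83132 F128145
theorem F128148 : act 7 n83130 = n38813 := d15_2 (iv0 F127054) F128147 (iv2 F125868)
theorem F128149 : act 3 n38353 = n83130 := d8_3 F128148 F59838 (iv7 F125861)
theorem F128150 : act 5 n83130 = n75792 := d6_2 F59653 F128149 (iv3 D75792)
theorem F128151 : act 0 n83132 = n38813 := d21_4 F29299 D37813 D82430 (iv6 F128146) (iv6 D38813) D38812 F128140 F128139 (iv6 D56770) F117820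
theorem F128152 : act 1 n58018 = n38813 := d15_0 (iv0 F128151) (iv7 D83132) (iv2 F117835)
def n83133 : Q := act 4 n38269
theorem D83133 : act 4 n38269 = n83133 := rfl
theorem F128153 : act 0 n79997 = n83133 := d20_1 (iv4 F122786) (iv4 D83133) (iv3 F118443) (iv1 F91714) F44609 (iv4 F44704) (iv1 F44705) F41952 D26949 (iv1 F120873)
def n83134 : Q := act 5 n38269
theorem D83134 : act 5 n38269 = n83134 := rfl
theorem F128155 : act 6 n83134 = n75705 := d12_2 (iv6 F118442) D83134 F118440 F118254 D39164
theorem F128156 : act 7 n83134 = n75389 := d13_2 (iv7 F118444) D83134 F118242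
theorem F128157 : act 1 n83134 = n75366 := d17_8 F123629 (iv5 F128123) (iv1 F128127) (iv5 D78192) F118590 (iv5 F128099) F128101 D83134 (iv4 F123628)
def n83135 : Q := act 3 n38270
theorem D83135 : act 3 n38270 = n83135 := rfl
theorem F128158 : act 2 n83135 = n82092 := d0_1 D83135 F126504 F117472 D58033 F128096
theorem F128159 : act 5 n57066 = n83135 := d2_0 F128158 (iv5 D82092) (iv2 F120985)
theorem F128160 : act 0 n83135 = n80106 := d21_7 (iv5 D13009) (iv1 F9636) D6240 D13110 D27365 D57066 F128159 F122927 (iv6 D40296) F30559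
def n83136 : Q := act 4 n38270
theorem D83136 : act 4 n38270 = n83136 := rfl
theorem F128161 : act 0 n83136 = n79997 := d18_2 (iv1 F128100) D83136 F122786 F57223 (iv4 F60766) F121254 (iv4 D38266) F59127 (iv5 F128099)
def n83137 : Q := act 5 n38270
theorem D83137 : act 5 n38270 = n83137 := rfl
theorem F128162 : act 2 n83137 = n75389 := d2_1 D83137 F118242 F128096
theorem F128164 : act 0 n83137 = n75366 := d18_0 (iv4 F123628) F123629 (iv4 D78380) (iv5 D35722) D35721 (iv0 F118572) (iv4 D38271) D38270 D83137
theorem F128165 : act 6 n83137 = n57063 := d21_3 (iv5 F128099) (iv1 F128100) D83137 F120938 F54741 F29307 F117821 (iv5 F117823) (iv6 D38263) (iv1 F59128)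
def n83138 : Q := act 6 n38270
theorem D83138 : act 6 n38270 = n83138 := rfl
def n83139 : Q := act 1 n38271
theorem D83139 : act 1 n38271 = n83139 := rfl
theorem F128166 : act 1 n83139 = n78375 := d15_1 D83139 (iv7 F128103) F122807
theorem F128167 : act 7 n83139 = n78373 := d15_2 (iv0 F118572) D83139 F119579
theorem F128168 : act 4 n83139 = n55866 := d18_7 (iv1 F43445) (iv4 F117745) (iv1 D38256) F29474 D18278 D38271 D83139 F121273 (iv5 D35637)
theorem F128169 : act 2 n55867 = n83139 := d1_3 F128168 (iv2 D55866) D55867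
def n83140 : Q := act 3 n38271
theorem D83140 : act 3 n38271 = n83140 := rfl
theorem F128170 : act 4 n83140 = n38367 := d5_2 D38271 D83140 (iv3 D38367) (iv4 D18307) (iv3 F29475)
theorem F128171 : act 6 n83140 = n75277 := d7_2 (iv6 F59142) D83140 (iv3 D75277)
def n83141 : Q := act 5 n38271
theorem D83141 : act 5 n38271 = n83141 := rfl
theorem F128172 : act 0 n83141 = n78218 := d17_2 (iv1 D83139) D83141 (iv5 D78218) (iv4 D35654) (iv5 D17278) (iv0 F121250) D35186 (iv0 F120820) (iv4 F128168)
def n83142 : Q := act 7 n38271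
theorem D83142 : act 7 n38271 = n83142 := rfl
theorem F128174 : act 4 n83142 = n38272 := d11_1 D83142 (iv7 D38272) D38271
theorem F128175 : act 1 n55867 = n83142 := d15_1 (iv0 F122809) (iv7 D83142) (iv2 F122807)
theorem F128176 : act 1 n83142 = n78373 := d15_1 F128175 (iv7 F128167) (iv2 F128169)
def n83143 : Q := act 6 n38272
theorem D83143 : act 6 n38272 = n83143 := rfl
theorem F128177 : act 3 n83143 = n38370 := d7_1 D83143 (iv6 D38370) (iv3 F59143)
theorem F128178 : act 7 n83143 = n75279 := d14_2 D38272 D83143 (iv6 D75279) (iv7 D34466) (iv6 F29476)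
def n83144 : Q := act 4 n38273
theorem D83144 : act 4 n38273 = n83144 := rfl
theorem F128179 : act 2 n83144 = n79386 := d1_1 D83144 F121978 F125372
theorem F128180 : act 3 n83144 = n73417 := d5_1 D83144 (iv4 F110118) (iv3 D57280) D57281 F90361
theorem F128181 : act 0 n79218 = n83144 := d20_10 (iv4 D83144) (iv1 F72395) (iv4 F88105) F88104 (iv1 F61036) (iv3 F74443) F74444 (iv1 F59064) F71077 D79218
def n83145 : Q := act 5 n38273
theorem D83145 : act 5 n38273 = n83145 := rfl
theorem F128182 : act 2 n83145 = n82499 := d2_1 D83145 F127149 F125372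
theorem F128183 : act 3 n83145 = n56411 := d6_1 D83145 F123980 F90361
theorem F128184 : act 7 n83145 = n80120 := d13_2 F125374 D83145 (iv5 F122978)
theorem F128185 : act 4 n83145 = n77107 := d16_2 (iv4 D83144) D83145 F125403 (iv4 D81527) (iv5 D37229) (iv4 F58173) D81519 F125369 (iv2 F128179)
theorem F128186 : act 0 n83145 = n80253 := d17_2 D38273 D83145 F123322 F58740 (iv5 F77347) F120451 F120450 (iv0 D36115) (iv4 F29478)
theorem F128187 : act 0 n38295 = n83145 := d19_0 (iv5 D83145) D83144 F128180 (iv1 D73417) (iv5 F108071) F116236 (iv3 D77430) (iv1 F57396) (iv5 F57398) (iv4 F35131) F35129 (iv1 D17987) F16637 F16636 (iv3 D4784) D4782 D10483 (iv4 F29489) D38295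
theorem F128188 : act 2 n77107 = n80416 := d1_1 F128185 F127152 (iv2 F128182)
theorem F128189 : act 7 n77107 = n80417 := d11_2 (iv7 F128184) F128185 (iv4 F123602)
theorem F128190 : act 2 n80417 = n77106 := d15_3 (iv0 D77106) D77107 F128189
theorem F128191 : act 7 n80416 = n77106 := d4_2 (iv7 F128189) F128188 (iv2 F128190)
theorem F128192 : act 7 n72332 = n72622 := d8_2 F128191 F115821 (iv3 F123600)
theorem F128193 : act 7 n55434 = n57079 := d11_2 F128192 (iv4 F109150) F108789
theorem F128194 : act 2 n72622 = n72331 := d15_3 (iv0 D72331) D72332 F128192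
theorem F128195 : act 2 n72332 = n72621 := d15_3 (iv0 D72621) D72622 (iv7 F128192)
theorem F128196 : act 2 n55433 = n57079 := d1_3 F108789 F128195 F109148
theorem F128197 : act 7 n72621 = n72331 := d4_2 (iv7 F128192) F128195 (iv2 F128194)
theorem F128198 : act 7 n57078 = n55433 := d11_2 F128197 F109157 (iv4 F109148)
theorem F128199 : act 2 n55434 = n57078 := d4_3 F128198 F128196 (iv7 F128193)
def n83146 : Q := act 6 n38273
theorem D83146 : act 6 n38273 = n83146 := rfl
def n83147 : Q := act 3 n38274
theorem D83147 : act 3 n38274 = n83147 := rfl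
theorem F128200 : act 2 n83147 = n47215 := d0_1 D83147 (iv3 F90356) (iv2 F125380) F122977 (iv2 F125373)
theorem F128201 : act 4 n83147 = n40613 := d5_2 F125370 D83147 (iv3 D40613) (iv4 F58176) (iv3 F125368)
theorem F128202 : act 7 n83147 = n47214 := d8_2 (iv7 F125371) D83147 F74489
theorem F128203 : act 1 n39278 = n83147 := d17_8 (iv1 F127862) F127860 (iv1 F64173) (iv5 F74064) F74248 (iv5 F109565) (iv0 F116556) F116555 F128201
theorem F128204 : act 0 n38401 = n83147 := d18_0 F128201 (iv1 F127862) (iv4 D82958) F59334 (iv4 F90776) F90778 D73039 (iv0 F127496) F127494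
def n83148 : Q := act 5 n38274
theorem D83148 : act 5 n38274 = n83148 := rfl
theorem F128205 : act 2 n83148 = n80120 := d2_1 D83148 (iv5 F122978) (iv2 F125373)
theorem F128206 : act 7 n83148 = n82499 := d13_2 (iv7 F125371) D83148 F127149
theorem F128207 : act 0 n83148 = n38295 := d17_2 (iv1 F72397) D83148 F59158 F34451 D36038 D79162 F120454 F88108 F88105
theorem F128208 : act 4 n77106 = n83148 := d16_0 (iv5 D83148) (iv4 F125370) (iv5 D81519) F58173 D37229 D81527 (iv5 F125403) F128189 F128190
theorem F128209 : act 0 n80253 = n83148 := d19_0 (iv5 D83148) (iv4 F125370) F125368 F58177 (iv5 D21888) (iv4 D10442) (iv3 F16628) (iv1 F27376) (iv5 D16699) (iv4 D7784) F5666 (iv1 F12796) (iv5 F21895) (iv4 F28457) D36087 D79278 (iv5 F123323) (iv4 D80254) D80253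
def n83149 : Q := act 6 n38274
theorem D83149 : act 6 n38274 = n83149 := rfl
def n83150 : Q := act 6 n38275
theorem D83150 : act 6 n38275 = n83150 := rfl
theorem F128210 : act 2 n83150 = n38276 := d3_1 D83150 (iv6 D38276) D38275
theorem F128211 : act 4 n83150 = n79328 := d10_1 D83150 (iv6 D79328) (iv4 F59145)
def n83152 : Q := act 1 n38276
theorem D83152 : act 1 n38276 = n83152 := rfl
def n83153 : Q := act 5 n38276
theorem D83153 : act 5 n38276 = n83153 := rfl
theorem F128212 : act 3 n83153 = n38279 := d6_1 D83153 (iv5 D38279) (iv3 F59146)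
def n83154 : Q := act 7 n38276
theorem D83154 : act 7 n38276 = n83154 := rfl
theorem F128213 : act 3 n83154 = n38280 := d8_1 D83154 (iv7 D38280) (iv3 F59146)
theorem F128214 : act 4 n83154 = n79335 := d11_1 D83154 (iv7 D79335) (iv4 F59147)
theorem F128215 : act 6 n83154 = n38728 := d14_1 D83154 F72401 (iv6 D45846) F34417 D38276
def n83155 : Q := act 0 n38279
theorem D83155 : act 0 n38279 = n83155 := rfl
def n83156 : Q := act 4 n38279
theorem D83156 : act 4 n38279 = n83156 := rfl
def n83157 : Q := act 7 n38279
theorem D83157 : act 7 n38279 = n83157 := rfl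
theorem F128216 : act 5 n83157 = n38280 := d13_1 D83157 (iv7 D38280) D38279
def n83158 : Q := act 6 n38281
theorem D83158 : act 6 n38281 = n83158 := rfl
theorem F128217 : act 2 n83158 = n38282 := d3_1 D83158 (iv6 D38282) D38281
theorem F128218 : act 1 n83158 = n39363 := d15_0 (iv0 F128024) F128023 (iv2 F128217)
def n83159 : Q := act 0 n38282
theorem D83159 : act 0 n38282 = n83159 := rfl
theorem F128219 : act 3 n83159 = n39316 := d20_5 D38217 (iv1 F59779) F32909 (iv3 F59151) D83159 (iv4 D39316) (iv1 F29921) (iv4 F29552) F29551 (iv1 F29454)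
def n83160 : Q := act 1 n38282
theorem D83160 : act 1 n38282 = n83160 := rfl
def n83161 : Q := act 5 n38282
theorem D83161 : act 5 n38282 = n83161 := rfl
theorem F128220 : act 3 n83161 = n38285 := d6_1 D83161 (iv5 D38285) (iv3 F59151)
def n83162 : Q := act 4 n38285
theorem D83162 : act 4 n38285 = n83162 := rfl
theorem F128221 : act 0 n83162 = n83052 := d18_2 F113625 D83162 (iv4 D83052) (iv5 F127538) F127539 (iv0 F72880) (iv4 F72884) (iv0 F72889) D75765
theorem F128222 : act 1 n83162 = n83055 := d18_6 (iv1 F29454) D38217 (iv1 F59779) F32909 D38285 D83162 (iv4 D83055) F59080 F29567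
def n83163 : Q := act 4 n38287
theorem D83163 : act 4 n38287 = n83163 := rfl
theorem F128223 : act 2 n83163 = n57359 := d1_1 D83163 F90547 F88149
theorem F128224 : act 3 n83163 = n58264 := d5_1 D83163 F92112 F90754 F56610 D38287
theorem F128225 : act 7 n83163 = n72857 := d11_2 F110264 D83163 (iv4 F110265)
theorem F128226 : act 0 n83163 = n82388 := d18_2 (iv1 F90362) D83163 (iv4 D82388) F122972 (iv4 F86433) F86432 F86430 F89272 F123980
theorem F128227 : act 1 n83163 = n82385 := d18_6 D22726 D47257 (iv1 F74509) (iv4 F87044) F87045 D83163 (iv4 D82385) (iv0 D37786) F29285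
def n83164 : Q := act 6 n38287
theorem D83164 : act 6 n38287 = n83164 := rfl
theorem F128228 : act 3 n83164 = n38288 := d7_1 D83164 (iv6 D38288) D38287
def n83165 : Q := act 0 n38288
theorem D83165 : act 0 n38288 = n83165 := rfl
def n83166 : Q := act 1 n38288
theorem D83166 : act 1 n38288 = n83166 := rfl
def n83167 : Q := act 5 n38288
theorem D83167 : act 5 n38288 = n83167 := rfl
def n83168 : Q := act 7 n38288
theorem D83168 : act 7 n38288 = n83168 := rfl
def n83169 : Q := act 0 n38289
theorem D83169 : act 0 n38289 = n83169 := rfl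
def n83170 : Q := act 1 n38289
theorem D83170 : act 1 n38289 = n83170 := rfl
theorem F128229 : act 1 n83170 = n38294 := d15_1 D83170 (iv7 D38294) (iv2 F59152)
theorem F128230 : act 3 n83170 = n80267 := d20_5 (iv4 D27682) (iv1 F117668) (iv4 F29499) (iv3 F59157) (iv1 F128229) F123350 (iv1 D79418) (iv4 F57363) F57362 (iv1 F118801)
def n83171 : Q := act 5 n38289
theorem D83171 : act 5 n38289 = n83171 := rfl
theorem F128231 : act 2 n83171 = n38293 := d2_1 D83171 (iv5 D38293) (iv2 F59152)
theorem F128232 : act 6 n83171 = n72003 := d12_2 D38289 D83171 (iv5 D72003) (iv6 D33261) F29486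
def n83172 : Q := act 7 n38289
theorem D83172 : act 7 n38289 = n83172 := rfl
theorem F128233 : act 2 n83172 = n38294 := d4_1 D83172 (iv7 D38294) (iv2 F59152)
theorem F128234 : act 1 n38294 = n83169 := d15_0 (iv0 D83169) D83172 F128233
theorem F128235 : act 1 n38292 = n83172 := d15_1 D38292 (iv7 D83172) F59152
theorem F128236 : act 1 n83172 = n38291 := d15_0 (iv0 D38291) D38294 (iv2 F128233)
def n83173 : Q := act 0 n38290
theorem D83173 : act 0 n38290 = n83173 := rfl
def n83174 : Q := act 1 n38290
theorem D83174 : act 1 n38290 = n83174 := rfl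
def n83175 : Q := act 5 n38290
theorem D83175 : act 5 n38290 = n83175 := rfl
theorem F128238 : act 2 n83175 = n72003 := d2_1 D83175 (iv5 D72003) (iv2 F59153)
theorem F128239 : act 3 n83175 = n38301 := d6_1 D83175 (iv5 D38301) (iv3 F59154)
theorem F128240 : act 6 n83175 = n38293 := d12_2 D38290 D83175 (iv5 D38293) (iv6 D18287) D18286
def n83176 : Q := act 7 n38290
theorem D83176 : act 7 n38290 = n83176 := rfl
theorem F128241 : act 2 n83176 = n72004 := d4_1 D83176 (iv7 D72004) (iv2 F59153)
theorem F128242 : act 3 n83176 = n38302 := d8_1 D83176 (iv7 D38302) (iv3 F59154)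
theorem F128243 : act 4 n83176 = n69856 := d11_1 D83176 (iv7 D69856) (iv4 F59155)
theorem F128244 : act 6 n83176 = n72008 := d14_1 D83176 (iv7 D72008) (iv6 D33262) (iv7 F29481) D38290
theorem F128245 : act 1 n72004 = n83173 := d15_0 (iv0 D83173) D83176 F128241
theorem F128246 : act 1 n72002 = n83176 := d15_1 D72002 (iv7 D83176) F59153
theorem F128247 : act 1 n83176 = n72001 := d15_0 (iv0 D72001) D72004 (iv2 F128241)
def n83177 : Q := act 2 n38291
theorem D83177 : act 2 n38291 = n83177 := rfl
theorem F128248 : act 7 n38292 = n83177 := d15_2 (iv0 D38291) D38292 (iv2 D83177)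
def n83178 : Q := act 4 n38291
theorem D83178 : act 4 n38291 = n83178 := rfl
def n83179 : Q := act 5 n38291
theorem D83179 : act 5 n38291 = n83179 := rfl
def n83180 : Q := act 6 n38291
theorem D83180 : act 6 n38291 = n83180 := rfl
def n83181 : Q := act 7 n38291
theorem D83181 : act 7 n38291 = n83181 := rfl
theorem F128249 : act 2 n83181 = n38292 := d4_1 D83181 F128248 (iv2 D83177)
def n83182 : Q := act 3 n38292
theorem D83182 : act 3 n38292 = n83182 := rfl
def n83183 : Q := act 4 n38292
theorem D83183 : act 4 n38292 = n83183 := rfl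
def n83184 : Q := act 5 n38292
theorem D83184 : act 5 n38292 = n83184 := rfl
def n83185 : Q := act 6 n38292
theorem D83185 : act 6 n38292 = n83185 := rfl
def n83186 : Q := act 0 n38293
theorem D83186 : act 0 n38293 = n83186 := rfl
def n83187 : Q := act 1 n38293
theorem D83187 : act 1 n38293 = n83187 := rfl
def n83188 : Q := act 4 n38293
theorem D83188 : act 4 n38293 = n83188 := rfl
def n83189 : Q := act 7 n38293
theorem D83189 : act 7 n38293 = n83189 := rfl
theorem F128250 : act 3 n83189 = n38316 := d8_1 D83189 (iv7 D38316) (iv3 F59156)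
theorem F128251 : act 5 n83189 = n38294 := d13_1 D83189 (iv7 D38294) D38293
def n83190 : Q := act 2 n38295
theorem D83190 : act 2 n38295 = n83190 := rfl
theorem F128252 : act 3 n83190 = n56429 := d0_2 D38295 D83190 (iv2 F89300) F57431 F29491
theorem F128253 : act 5 n83190 = n45889 := d2_2 (iv5 F59158) D83190 (iv2 D45889)
theorem F128254 : act 7 n83190 = n80253 := d4_2 (iv7 F59159) D83190 F123321
theorem F128255 : act 1 n83190 = n80120 := d15_0 (iv0 F122965) (iv7 F59159) D83190
theorem F128256 : act 1 n82499 = n83190 := d15_0 F128255 (iv7 F128184) F128182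
def n83191 : Q := act 4 n38295
theorem D83191 : act 4 n38295 = n83191 := rfl
theorem F128257 : act 3 n83191 = n45997 := d5_1 D83191 (iv4 D45997) F34478 (iv4 F29489) D38295
theorem F128258 : act 7 n83191 = n82500 := d11_2 (iv7 F59159) D83191 (iv4 D82500)
theorem F128259 : act 5 n83191 = n55627 := d16_1 D83191 F87993 (iv5 F58186) (iv4 F77346) F77347 (iv4 F58740) (iv5 F123322) (iv7 F128254) (iv2 D83190)
theorem F128260 : act 0 n83191 = n60067 := d18_2 F128207 D83191 F94606 F86931 (iv4 F86937) (iv0 D36115) (iv4 F29478) D38274 D83148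
def n83192 : Q := act 6 n38295
theorem D83192 : act 6 n38295 = n83192 := rfl
theorem F128261 : act 3 n83192 = n38296 := d7_1 D83192 (iv6 D38296) D38295
def n83193 : Q := act 0 n38296
theorem D83193 : act 0 n38296 = n83193 := rfl
def n83194 : Q := act 1 n38296
theorem D83194 : act 1 n38296 = n83194 := rfl
theorem F128262 : act 1 n83194 = n82519 := d15_1 D83194 (iv7 D82519) (iv2 F59160)
def n83195 : Q := act 5 n38296
theorem D83195 : act 5 n38296 = n83195 := rfl
theorem F128263 : act 2 n83195 = n82518 := d2_1 D83195 (iv5 D82518) (iv2 F59160)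
theorem F128264 : act 6 n83195 = n45893 := d12_2 D38296 D83195 (iv5 D45893) (iv6 D21946) (iv5 F29488)
def n83196 : Q := act 7 n38296
theorem D83196 : act 7 n38296 = n83196 := rfl
theorem F128265 : act 2 n83196 = n82519 := d4_1 D83196 (iv7 D82519) (iv2 F59160)
theorem F128266 : act 4 n83196 = n46005 := d11_1 D83196 (iv7 D46005) (iv4 F59161)
theorem F128267 : act 6 n83196 = n82508 := d14_1 D83196 (iv7 D82508) (iv6 D37877) F29492 D38296
theorem F128268 : act 1 n82519 = n83193 := d15_0 (iv0 D83193) D83196 F128265
theorem F128269 : act 1 n82517 = n83196 := d15_1 D82517 (iv7 D83196) F59160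
theorem F128270 : act 1 n83196 = n82516 := d15_0 (iv0 D82516) D82519 (iv2 F128265)
def n83197 : Q := act 4 n38297
theorem D83197 : act 4 n38297 = n83197 := rfl
theorem F128272 : act 3 n83197 = n46010 := d5_1 D83197 (iv4 D46010) F34491 (iv4 F29496) D38297
theorem F128274 : act 0 n83197 = n57055 := d17_0 (iv5 D57055) D57052 (iv5 F122985) (iv4 D77632) F86809 F72365 F57433 F59165 D83197
theorem F128275 : act 5 n57447 = n83197 := d17_1 (iv1 F121677) F128274 (iv5 D57055) F44254 D27381 D57112 F107827 F90260 (iv4 F121670)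
def n83198 : Q := act 6 n38297
theorem D83198 : act 6 n38297 = n83198 := rfl
theorem F128276 : act 2 n83198 = n80255 := d3_1 D83198 (iv6 D80255) (iv2 F60276)
theorem F128277 : act 3 n83198 = n38298 := d7_1 D83198 (iv6 D38298) D38297
def n83199 : Q := act 0 n38298
theorem D83199 : act 0 n38298 = n83199 := rfl
def n83200 : Q := act 1 n38298
theorem D83200 : act 1 n38298 = n83200 := rfl
theorem F128278 : act 1 n83200 = n82508 := d15_1 D83200 (iv7 D82508) (iv2 F59166)
def n83201 : Q := act 5 n38298
theorem D83201 : act 5 n38298 = n83201 := rfl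
theorem F128279 : act 2 n83201 = n82507 := d2_1 D83201 (iv5 D82507) (iv2 F59166)
theorem F128280 : act 6 n83201 = n45878 := d12_2 D38298 D83201 (iv5 D45878) (iv6 D21941) (iv5 F29495)
def n83202 : Q := act 7 n38298
theorem D83202 : act 7 n38298 = n83202 := rfl
theorem F128281 : act 2 n83202 = n82508 := d4_1 D83202 (iv7 D82508) (iv2 F59166)
theorem F128282 : act 4 n83202 = n46019 := d11_1 D83202 (iv7 D46019) (iv4 F59167)
theorem F128283 : act 6 n83202 = n82519 := d14_1 D83202 (iv7 D82519) (iv6 D37884) (iv7 F29494) D38298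
theorem F128284 : act 1 n82508 = n83199 := d15_0 (iv0 D83199) D83202 F128281
theorem F128285 : act 1 n82506 = n83202 := d15_1 D82506 (iv7 D83202) F59166
theorem F128286 : act 1 n83202 = n82505 := d15_0 (iv0 D82505) D82508 (iv2 F128281)
def n83203 : Q := act 2 n38299
theorem D83203 : act 2 n38299 = n83203 := rfl
theorem F128287 : act 7 n38300 = n83203 := d15_2 (iv0 D38299) D38300 (iv2 D83203)
def n83204 : Q := act 3 n38299
theorem D83204 : act 3 n38299 = n83204 := rfl
def n83205 : Q := act 4 n38299
theorem D83205 : act 4 n38299 = n83205 := rfl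
def n83206 : Q := act 5 n38299
theorem D83206 : act 5 n38299 = n83206 := rfl
def n83207 : Q := act 6 n38299
theorem D83207 : act 6 n38299 = n83207 := rfl
theorem F128288 : act 5 n83207 = n82760 := d21_6 F29335 (iv1 D8623) D8625 D18290 D38299 D83207 (iv1 D82760) (iv5 D38035) (iv6 D18205) (iv1 F29334)
def n83208 : Q := act 7 n38299
theorem D83208 : act 7 n38299 = n83208 := rfl
theorem F128289 : act 2 n83208 = n38300 := d4_1 D83208 F128287 (iv2 D83203)
def n83209 : Q := act 3 n38300
theorem D83209 : act 3 n38300 = n83209 := rfl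
def n83210 : Q := act 4 n38300
theorem D83210 : act 4 n38300 = n83210 := rfl
def n83211 : Q := act 5 n38300
theorem D83211 : act 5 n38300 = n83211 := rfl
def n83212 : Q := act 6 n38300
theorem D83212 : act 6 n38300 = n83212 := rfl
def n83213 : Q := act 0 n38301
theorem D83213 : act 0 n38301 = n83213 := rfl
def n83214 : Q := act 1 n38301
theorem D83214 : act 1 n38301 = n83214 := rfl
def n83215 : Q := act 4 n38301
theorem D83215 : act 4 n38301 = n83215 := rfl
theorem F128290 : act 6 n83215 = n38315 := d10_2 (iv6 F59168) D83215 (iv4 D38315)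
def n83216 : Q := act 7 n38301
theorem D83216 : act 7 n38301 = n83216 := rfl
theorem F128291 : act 5 n83216 = n38302 := d13_1 D83216 (iv7 D38302) D38301
def n83217 : Q := act 0 n38304
theorem D83217 : act 0 n38304 = n83217 := rfl
def n83218 : Q := act 1 n38304
theorem D83218 : act 1 n38304 = n83218 := rfl
def n83219 : Q := act 2 n38304
theorem D83219 : act 2 n38304 = n83219 := rfl
def n83220 : Q := act 4 n38304
theorem D83220 : act 4 n38304 = n83220 := rfl
theorem F128292 : act 3 n83220 = n55652 := d5_1 D83220 (iv4 D55652) (iv3 F118621) (iv4 D38305) D38304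
theorem F128293 : act 7 n83220 = n55754 := d11_2 F127695 D83220 (iv4 F127694)
def n83221 : Q := act 5 n38304
theorem D83221 : act 5 n38304 = n83221 := rfl
theorem F128294 : act 3 n83221 = n38306 := d6_1 D83221 (iv5 D38306) D38304
def n83223 : Q := act 5 n38305
theorem D83223 : act 5 n38305 = n83223 := rfl
theorem F128296 : act 2 n83223 = n41384 := d2_1 D83223 (iv5 D41384) (iv2 F118785)
theorem F128298 : act 6 n83223 = n45971 := d12_2 (iv6 F118920) D83223 (iv5 D45971) (iv6 D21968) D21967
theorem F128299 : act 7 n83223 = n41389 := d13_2 (iv7 F118786) D83223 (iv5 D41389)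
def n83224 : Q := act 1 n38306
theorem D83224 : act 1 n38306 = n83224 := rfl
theorem F128300 : act 1 n83224 = n38311 := d15_1 D83224 (iv7 F127693) F127692
def n83225 : Q := act 4 n38306
theorem D83225 : act 4 n38306 = n83225 := rfl
def n83226 : Q := act 6 n38306
theorem D83226 : act 6 n38306 = n83226 := rfl
def n83227 : Q := act 1 n38309
theorem D83227 : act 1 n38309 = n83227 := rfl
theorem F128301 : act 7 n83227 = n80261 := d15_2 (iv0 F119015) D83227 F123343
theorem F128302 : act 3 n80269 = n83227 := d8_3 F128301 F123344 D80269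
theorem F128303 : act 4 n80174 = n80686 := d20_0 (iv1 F124132) (iv4 F123354) F128302 (iv1 D83227) (iv3 D38309) D38310 F119010 F30237 (iv3 F57362) D80174
def n83228 : Q := act 2 n38309
theorem D83228 : act 2 n38309 = n83228 := rfl
def n83229 : Q := act 4 n38309
theorem D83229 : act 4 n38309 = n83229 := rfl
theorem F128304 : act 3 n83229 = n38892 := d5_1 D83229 (iv4 F121500) F121499 (iv4 D38310) D38309
theorem F128305 : act 7 n83229 = n38929 := d11_2 F127691 D83229 (iv4 F127690)
def n83230 : Q := act 5 n38309
theorem D83230 : act 5 n38309 = n83230 := rfl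
theorem F128306 : act 3 n83230 = n38311 := d6_1 D83230 (iv5 D38311) D38309
def n83231 : Q := act 6 n38309
theorem D83231 : act 6 n38309 = n83231 := rfl
theorem F128307 : act 3 n83231 = n38312 := d7_1 D83231 (iv6 D38312) D38309
def n83232 : Q := act 5 n38310
theorem D83232 : act 5 n38310 = n83232 := rfl
theorem F128308 : act 2 n83232 = n41389 := d2_1 D83232 (iv5 D41389) (iv2 F118779)
theorem F128309 : act 7 n83232 = n41384 := d13_2 (iv7 F118780) D83232 (iv5 D41384)
def n83233 : Q := act 6 n38310
theorem D83233 : act 6 n38310 = n83233 := rfl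
theorem F128310 : act 2 n83233 = n41390 := d3_1 D83233 (iv6 D41390) (iv2 F118779)
theorem F128311 : act 4 n83233 = n38312 := d10_1 D83233 (iv6 D38312) D38310
theorem F128312 : act 7 n83233 = n45953 := d14_2 (iv7 F118780) D83233 (iv6 D45953) (iv7 F118976) (iv6 D41385)
theorem F128313 : act 1 n41390 = n45830 := d15_0 (iv0 F72538) (iv7 F128312) F128310
def n83234 : Q := act 4 n38311
theorem D83234 : act 4 n38311 = n83234 := rfl
def n83235 : Q := act 6 n38311
theorem D83235 : act 6 n38311 = n83235 := rfl
def n83236 : Q := act 0 n38312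
theorem D83236 : act 0 n38312 = n83236 := rfl
def n83237 : Q := act 1 n38312
theorem D83237 : act 1 n38312 = n83237 := rfl
def n83238 : Q := act 5 n38312
theorem D83238 : act 5 n38312 = n83238 := rfl
def n83239 : Q := act 7 n38312
theorem D83239 : act 7 n38312 = n83239 := rfl
theorem F128314 : act 4 n83239 = n45953 := d11_1 D83239 (iv7 F128312) F128311
theorem F128315 : act 6 n83239 = n38793 := d14_1 D83239 (iv7 F127221) (iv6 F127223) F118627 D38312
theorem F128316 : act 1 n38819 = n83239 := d15_1 (iv0 F127701) (iv7 D83239) (iv2 F127699)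
def n83240 : Q := act 3 n38313
theorem D83240 : act 3 n38313 = n83240 := rfl
def n83241 : Q := act 4 n38313
theorem D83241 : act 4 n38313 = n83241 := rfl
def n83242 : Q := act 5 n38313
theorem D83242 : act 5 n38313 = n83242 := rfl
theorem F128317 : act 2 n83242 = n75760 := d2_1 D83242 (iv5 F127711) F127713
theorem F128318 : act 7 n83242 = n46211 := d13_2 (iv7 F127714) D83242 F127703
theorem F128319 : act 4 n83242 = n46220 := d17_4 (iv1 D18292) D18293 D38313 D83242 (iv5 F122133) (iv0 F122129) (iv5 D40061) (iv0 F119010) (iv4 D38310)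
theorem F128320 : act 1 n83242 = n75369 := d17_8 F59601 (iv5 D38360) (iv1 F58999) F58995 (iv4 F58977) (iv5 F127707) F127715 D83242 F113103
theorem F128321 : act 0 n82954 = n83241 := d18_2 (iv1 D82953) D82954 (iv4 D83241) D83242 F128319 (iv0 F122140) F113527 (iv0 F127720) F127846
theorem F128322 : act 6 n83242 = n75730 := d21_9 D75765 F113625 (iv5 D38285) (iv6 D18283) (iv1 D8623) D8626 D18293 D38313 D83242 (iv1 F113589)
theorem F128323 : act 1 n75763 = n83242 := d15_1 F113620 F128318 F118485
theorem E13761 : n75761 = n46211 := (c15_2 (iv0 D75760) D75761 (iv7 F128318) F128317)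
theorem F128324 : act 0 n46211 = n34645 := (sb E13761 (iv1 D75761))
def n83243 : Q := act 6 n38313
theorem D83243 : act 6 n38313 = n83243 := rfl
def n83244 : Q := act 3 n38314
theorem D83244 : act 3 n38314 = n83244 := rfl
theorem F128325 : act 5 n83244 = n82767 := d6_2 F59172 D83244 F127513
def n83245 : Q := act 4 n38314
theorem D83245 : act 4 n38314 = n83245 := rfl
theorem F128326 : act 0 n83245 = n82954 := d18_2 (iv1 F127709) D83245 (iv4 D82954) (iv5 D38178) (iv4 F30237) (iv0 F119010) (iv4 D38310) F58980 (iv5 F127707)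
def n83246 : Q := act 6 n38314
theorem D83246 : act 6 n38314 = n83246 := rfl
theorem F128327 : act 5 n83246 = n82771 := d12_1 D83246 (iv6 D82771) (iv5 D38040) D38041 F59172
def n83247 : Q := act 0 n38315
theorem D83247 : act 0 n38315 = n83247 := rfl
def n83248 : Q := act 1 n38315
theorem D83248 : act 1 n38315 = n83248 := rfl
theorem F128328 : act 4 n83248 = n38518 := d18_7 F118798 (iv4 D18302) (iv1 D8628) (iv4 F13540) D18293 D38315 D83248 F127851 F127850
def n83249 : Q := act 3 n38315
theorem D83249 : act 3 n38315 = n83249 := rfl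
def n83250 : Q := act 5 n38315
theorem D83250 : act 5 n38315 = n83250 := rfl
def n83251 : Q := act 7 n38315
theorem D83251 : act 7 n38315 = n83251 := rfl
theorem F128329 : act 4 n83251 = n38316 := d11_1 D83251 (iv7 D38316) D38315
def n83252 : Q := act 6 n38316
theorem D83252 : act 6 n38316 = n83252 := rfl
def n83253 : Q := act 0 n38332
theorem D83253 : act 0 n38332 = n83253 := rfl
def n83254 : Q := act 1 n38332
theorem D83254 : act 1 n38332 = n83254 := rfl
def n83255 : Q := act 2 n38332
theorem D83255 : act 2 n38332 = n83255 := rfl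
theorem F128330 : act 3 n83255 = n39289 := d0_2 D38332 D83255 (iv2 F86899) F86900 F117683
def n83256 : Q := act 5 n38332
theorem D83256 : act 5 n38332 = n83256 := rfl
theorem F128331 : act 3 n83256 = n38333 := d6_1 D83256 (iv5 D38333) D38332
def n83257 : Q := act 6 n38332
theorem D83257 : act 6 n38332 = n83257 := rfl
theorem F128332 : act 3 n83257 = n38334 := d7_1 D83257 (iv6 D38334) D38332
theorem F128333 : act 7 n82616 = n83257 := d8_0 F128332 F59657 D82616
def n83258 : Q := act 1 n38333
theorem D83258 : act 1 n38333 = n83258 := rfl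
theorem F128334 : act 1 n83258 = n38349 := d15_1 D83258 F117681 (iv2 F118744)
def n83259 : Q := act 4 n38333
theorem D83259 : act 4 n38333 = n83259 := rfl
def n83260 : Q := act 6 n38333
theorem D83260 : act 6 n38333 = n83260 := rfl
def n83261 : Q := act 4 n38336
theorem D83261 : act 4 n38336 = n83261 := rfl
def n83262 : Q := act 0 n38337
theorem D83262 : act 0 n38337 = n83262 := rfl
theorem F128335 : act 1 n38351 = n83262 := d15_0 (iv0 D83262) (iv7 F127725) F127724
def n83263 : Q := act 1 n38337
theorem D83263 : act 1 n38337 = n83263 := rfl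
theorem F128336 : act 1 n83263 = n38351 := d15_1 D83263 F117685 (iv2 F118743)
def n83264 : Q := act 3 n38337
theorem D83264 : act 3 n38337 = n83264 := rfl
def n83265 : Q := act 5 n38337
theorem D83265 : act 5 n38337 = n83265 := rfl
def n83266 : Q := act 6 n38337
theorem D83266 : act 6 n38337 = n83266 := rfl
theorem F128337 : act 2 n83266 = n81825 := d3_1 D83266 F125772 (iv2 F118743)
theorem F128338 : act 4 n83266 = n38338 := d10_1 D83266 (iv6 D38338) D38337
def n83267 : Q := act 4 n38349
theorem D83267 : act 4 n38349 = n83267 := rfl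
def n83268 : Q := act 6 n38349
theorem D83268 : act 6 n38349 = n83268 := rfl
def n83269 : Q := act 0 n38350
theorem D83269 : act 0 n38350 = n83269 := rfl
def n83270 : Q := act 5 n38350
theorem D83270 : act 5 n38350 = n83270 := rfl
def n83271 : Q := act 7 n38350
theorem D83271 : act 7 n38350 = n83271 := rfl
theorem F128339 : act 2 n83271 = n82617 := d4_1 D83271 (iv7 F127723) F127721
theorem F128340 : act 4 n83271 = n38356 := d11_1 D83271 (iv7 D38356) (iv4 F59206)
theorem F128341 : act 6 n83271 = n38670 := d14_1 D83271 F118935 F58344 F117684 D38350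
theorem F128342 : act 1 n82617 = n83269 := d15_0 (iv0 D83269) D83271 F128339
theorem F128343 : act 7 n83269 = n38695 := d15_2 (iv0 F127242) F128342 (iv2 F126909)
def n83272 : Q := act 3 n38351
theorem D83272 : act 3 n38351 = n83272 := rfl
theorem F128344 : act 4 n83272 = n39052 := d5_2 D38351 D83272 (iv3 D39052) (iv4 D18541) F117675
def n83273 : Q := act 5 n38351
theorem D83273 : act 5 n38351 = n83273 := rfl
def n83274 : Q := act 6 n38351
theorem D83274 : act 6 n38351 = n83274 := rfl
theorem F128345 : act 4 n83274 = n38352 := d10_1 D83274 (iv6 D38352) D38351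
theorem F128346 : act 0 n47685 = n83274 := d20_7 (iv4 F92083) (iv1 F92088) (iv4 F60703) D56270 F119056 F56452 (iv4 F74969) F128345 F117686 F44800
def n83275 : Q := act 5 n38352
theorem D83275 : act 5 n38352 = n83275 := rfl
theorem F128348 : act 6 n83275 = n38355 := d12_2 D38352 D83275 (iv5 D38355) (iv6 D18304) D18303
theorem F128349 : act 7 n83275 = n38475 := d13_2 F117722 D83275 F117755
theorem F128350 : act 1 n38823 = n83275 := d15_1 (iv0 F127824) F128349 (iv2 F127822)
def n83276 : Q := act 4 n38353
theorem D83276 : act 4 n38353 = n83276 := rfl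
theorem F128351 : act 7 n83276 = n38819 := d11_2 (iv7 F125861) D83276 F59841
theorem F128352 : act 5 n83276 = n82520 := d17_5 (iv1 D16786) D16787 D34661 F59653 D83276 (iv0 D82520) (iv5 D37887) (iv0 F113038) (iv4 D34658)
def n83277 : Q := act 4 n38355
theorem D83277 : act 4 n38355 = n83277 := rfl
def n83278 : Q := act 0 n38359
theorem D83278 : act 0 n38359 = n83278 := rfl
theorem F128353 : act 1 n38363 = n83278 := d15_0 (iv0 D83278) (iv7 F127727) F127726
theorem F128354 : act 7 n83278 = n75815 := d15_2 F119073 F128353 F113707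
def n83279 : Q := act 3 n38359
theorem D83279 : act 3 n38359 = n83279 := rfl
def n83280 : Q := act 5 n38359
theorem D83280 : act 5 n38359 = n83280 := rfl
def n83281 : Q := act 4 n38360
theorem D83281 : act 4 n38360 = n83281 := rfl
theorem F128355 : act 2 n83281 = n75668 := d1_1 D83281 F122408 F59568
theorem F128356 : act 6 n83281 = n75729 := d10_2 (iv6 F59214) D83281 (iv4 D75729)
theorem F128357 : act 7 n83281 = n75431 := d11_2 F59596 D83281 F113188
theorem F128358 : act 5 n83281 = n38517 := d17_5 (iv1 D8628) D8629 D18305 D38360 D83281 (iv0 D38517) (iv5 D18351) (iv0 F118788) (iv4 D18302)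
theorem F128359 : act 4 n38517 = n83247 := d18_5 (iv1 F113621) F113103 F59601 D83281 F128358 (iv0 D83247) (iv4 D38315) D38314 (iv5 F59172)
theorem F128360 : act 1 n83281 = n75339 := d18_6 (iv1 D41392) (iv4 F59905) (iv1 F119074) (iv4 D38359) D38360 D83281 F112958 F123904 F63823
theorem F128361 : act 1 n75671 = n83281 := d15_1 F123905 F128357 (iv2 F117877)
def n83282 : Q := act 5 n38363
theorem D83282 : act 5 n38363 = n83282 := rfl
def n83283 : Q := act 6 n38363
theorem D83283 : act 6 n38363 = n83283 := rfl
theorem F128362 : act 4 n83283 = n38364 := d10_1 D83283 (iv6 D38364) D38363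
def n83284 : Q := act 3 n38365
theorem D83284 : act 3 n38365 = n83284 := rfl
def n83285 : Q := act 5 n38365
theorem D83285 : act 5 n38365 = n83285 := rfl
def n83286 : Q := act 3 n38366
theorem D83286 : act 3 n38366 = n83286 := rfl
def n83287 : Q := act 4 n38366
theorem D83287 : act 4 n38366 = n83287 := rfl
theorem F128363 : act 2 n83287 = n41392 := d1_1 D83287 F127735 F127740
theorem F128364 : act 7 n83287 = n41391 := d11_2 (iv7 F127739) D83287 (iv4 F127738)
theorem F128365 : act 5 n83287 = n45978 := d18_4 (iv1 F58999) (iv4 F127745) (iv1 F127746) D83287 (iv4 F118486) F113620 F113619 F113058 (iv5 D38360)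
theorem F128366 : act 1 n83287 = n41393 := d18_8 (iv1 F119011) (iv4 D38310) (iv1 D18292) F13540 D8629 D18307 D38366 D83287 F63824
theorem F128367 : act 1 n40061 = n83287 := d15_0 F128366 (iv7 D41393) (iv2 F60949)
theorem F128368 : act 0 n45978 = n75665 := d18_0 F113527 D75668 F122408 (iv5 F117870) D58092 (iv0 F118558) F113708 F128367 F128365
def n83288 : Q := act 5 n38366
theorem D83288 : act 5 n38366 = n83288 := rfl
def n83289 : Q := act 6 n38366
theorem D83289 : act 6 n38366 = n83289 := rfl
def n83290 : Q := act 0 n38367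
theorem D83290 : act 0 n38367 = n83290 := rfl
def n83291 : Q := act 1 n38367
theorem D83291 : act 1 n38367 = n83291 := rfl
def n83292 : Q := act 2 n38367
theorem D83292 : act 2 n38367 = n83292 := rfl
theorem F128369 : act 6 n83292 = n75288 := d3_2 (iv6 F59228) D83292 (iv2 D75288)
def n83293 : Q := act 5 n38367
theorem D83293 : act 5 n38367 = n83293 := rfl
theorem F128370 : act 3 n83293 = n38368 := d6_1 D83293 (iv5 D38368) D38367
def n83294 : Q := act 7 n38367
theorem D83294 : act 7 n38367 = n83294 := rfl
theorem F128371 : act 3 n83294 = n38369 := d8_1 D83294 (iv7 D38369) D38367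
def n83295 : Q := act 0 n38368
theorem D83295 : act 0 n38368 = n83295 := rfl
def n83296 : Q := act 1 n38368
theorem D83296 : act 1 n38368 = n83296 := rfl
def n83297 : Q := act 4 n38368
theorem D83297 : act 4 n38368 = n83297 := rfl
def n83298 : Q := act 6 n38368
theorem D83298 : act 6 n38368 = n83298 := rfl
theorem F128372 : act 5 n83298 = n75293 := d12_1 D83298 (iv6 D75293) (iv5 D34471) (iv6 F29504) D38368
def n83299 : Q := act 7 n38368
theorem D83299 : act 7 n38368 = n83299 := rfl
theorem F128373 : act 5 n83299 = n38369 := d13_1 D83299 (iv7 D38369) D38368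
def n83300 : Q := act 6 n38369
theorem D83300 : act 6 n38369 = n83300 := rfl
theorem F128374 : act 4 n83300 = n38370 := d10_1 D83300 (iv6 D38370) (iv4 F59229)
theorem F128375 : act 7 n83300 = n75295 := d14_2 D38369 D83300 (iv6 D75295) (iv7 D34472) (iv6 F29504)
def n83301 : Q := act 2 n38371
theorem D83301 : act 2 n38371 = n83301 := rfl
theorem F128376 : act 3 n83301 = n38379 := d0_2 D38371 D83301 (iv2 D38379) (iv3 D18311) (iv2 F29506)
theorem F128377 : act 4 n83301 = n78065 := d1_2 (iv4 F59231) D83301 (iv2 D78065)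
theorem F128378 : act 5 n83301 = n38545 := d2_2 F86919 D83301 (iv2 F86929)
theorem F128379 : act 7 n83301 = n71813 := d4_2 (iv7 F59232) D83301 (iv2 F108266)
theorem F128380 : act 1 n83301 = n54551 := d15_0 (iv0 F86209) (iv7 F59232) D83301
theorem F128381 : act 1 n38570 = n83301 := d15_0 F128380 F86208 (iv2 F59395)
def n83302 : Q := act 6 n38371
theorem D83302 : act 6 n38371 = n83302 := rfl
theorem F128382 : act 3 n83302 = n38372 := d7_1 D83302 (iv6 D38372) D38371
theorem F128383 : act 4 n83302 = n78066 := d10_1 D83302 (iv6 D78066) (iv4 F59231)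
def n83303 : Q := act 5 n38372
theorem D83303 : act 5 n38372 = n83303 := rfl
theorem F128384 : act 2 n83303 = n38385 := d2_1 D83303 (iv5 D38385) (iv2 F59234)
def n83304 : Q := act 7 n38372
theorem D83304 : act 7 n38372 = n83304 := rfl
theorem F128385 : act 2 n83304 = n38386 := d4_1 D83304 (iv7 D38386) (iv2 F59234)
theorem F128386 : act 4 n83304 = n38376 := d11_1 D83304 (iv7 D38376) (iv4 F59235)
theorem F128388 : act 1 n38384 = n83304 := d15_1 D38384 (iv7 D83304) F59234
theorem F128389 : act 1 n83304 = n38383 := d15_1 F128388 F118567 (iv2 F118562)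
def n83305 : Q := act 5 n38374
theorem D83305 : act 5 n38374 = n83305 := rfl
theorem F128390 : act 2 n83305 = n38395 := d2_1 D83305 (iv5 D38395) (iv2 F118400)
theorem F128391 : act 7 n83305 = n38390 := d13_2 F118409 D83305 (iv5 D38390)
theorem F128392 : act 6 n77888 = n83305 := d21_5 (iv5 D26921) (iv1 F27431) D34458 (iv6 F58949) (iv1 F119107) (iv5 D83305) (iv1 D38374) D38375 F59238 F54700
theorem F128393 : act 4 n83305 = n77890 := d10_1 F128392 (iv6 D77890) D77888
def n83306 : Q := act 0 n38375
theorem D83306 : act 0 n38375 = n83306 := rfl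
def n83307 : Q := act 1 n38375
theorem D83307 : act 1 n38375 = n83307 := rfl
theorem F128395 : act 1 n83307 = n38400 := d15_1 D83307 (iv7 D38400) (iv2 F59237)
theorem F128396 : act 5 n75472 = n83307 := d21_6 (iv5 D10285) F6757 (iv5 F12369) D16749 D34534 D75472 (iv1 D83307) (iv5 D38375) (iv6 D18310) (iv1 F16295)
theorem F128397 : act 2 n83307 = n38398 := d2_1 F128396 (iv5 F118729) F118683
theorem F128398 : act 7 n38397 = n83307 := d4_0 F128397 (iv7 F118731) F118733
theorem F128399 : act 1 n38400 = n58178 := d15_1 F128395 F118731 (iv2 F128397)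
theorem E13762 : n83306 = n58178 := ((c15_4 (iv0 D83306) D83307 (iv7 F128398) (iv2 F118733))).symm
theorem F128400 : act 1 n58178 = n38375 := (sb E13762 (iv0 D83306))
def n83308 : Q := act 4 n38375
theorem D83308 : act 4 n38375 = n83308 := rfl
theorem F128401 : act 2 n83308 = n38399 := d1_1 D83308 (iv4 D38399) (iv2 F59237)
theorem F128402 : act 6 n83308 = n56150 := d10_2 (iv6 F59238) D83308 F88808
theorem F128403 : act 1 n83308 = n56140 := d18_6 (iv1 F43675) D27057 (iv1 F118392) F59235 D38375 D83308 (iv4 D56140) F88684 F88682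
def n83309 : Q := act 7 n38375
theorem D83309 : act 7 n38375 = n83309 := rfl
theorem F128405 : act 5 n83309 = n38376 := d13_1 D83309 (iv7 D38376) D38375
theorem F128406 : act 1 n38398 = n83309 := d15_1 D38398 (iv7 D83309) F59237
theorem F128407 : act 1 n83309 = n38397 := d15_1 F128406 F128398 F128397
def n83310 : Q := act 6 n38377
theorem D83310 : act 6 n38377 = n83310 := rfl
theorem F128408 : act 3 n83310 = n47264 := d7_1 D83310 (iv6 D47264) (iv3 F74512)
def n83311 : Q := act 3 n38378
theorem D83311 : act 3 n38378 = n83311 := rfl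
theorem F128409 : act 2 n83311 = n47256 := d0_1 D83311 (iv3 D47256) (iv2 F125570) (iv3 F127646) F127649
theorem F128410 : act 4 n83311 = n57449 := d5_2 F123118 D83311 F90635 (iv4 F57352) D80171
theorem F128411 : act 5 n83311 = n81651 := d6_2 F127315 D83311 F127316
theorem F128412 : act 0 n83311 = n71785 := d20_4 (iv4 F127310) F127311 F123118 D83311 (iv3 D71785) F52407 (iv1 F51561) F51559 D55052 (iv1 F87065)
theorem F128413 : act 0 n77608 = n83311 := d20_4 (iv4 D73039) (iv1 F90778) F90776 D77608 (iv3 D83311) (iv4 F123118) F123117 (iv4 F59055) D82727 F127496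
def n83312 : Q := act 6 n38378
theorem D83312 : act 6 n38378 = n83312 := rfl
def n83313 : Q := act 6 n38379
theorem D83313 : act 6 n38379 = n83313 := rfl
theorem F128414 : act 2 n83313 = n38381 := d3_1 D83313 (iv6 D38381) D38379
theorem F128415 : act 4 n83313 = n38406 := d10_1 D83313 (iv6 D38406) (iv4 F59243)
def n83314 : Q := act 6 n38380
theorem D83314 : act 6 n38380 = n83314 := rfl
theorem F128416 : act 3 n83314 = n38382 := d7_1 D83314 (iv6 D38382) (iv3 F59244)
def n83315 : Q := act 0 n38381
theorem D83315 : act 0 n38381 = n83315 := rfl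
def n83316 : Q := act 1 n38381
theorem D83316 : act 1 n38381 = n83316 := rfl
def n83317 : Q := act 5 n38381
theorem D83317 : act 5 n38381 = n83317 := rfl
theorem F128417 : act 3 n83317 = n38385 := d6_1 D83317 (iv5 D38385) (iv3 F59245)
def n83318 : Q := act 7 n38381
theorem D83318 : act 7 n38381 = n83318 := rfl
theorem F128418 : act 3 n83318 = n38386 := d8_1 D83318 (iv7 D38386) (iv3 F59245)
theorem F128419 : act 4 n83318 = n38413 := d11_1 D83318 (iv7 D38413) (iv4 F59246)
theorem F128420 : act 6 n83318 = n77794 := d14_1 D83318 F127662 (iv6 D82882) F58945 D38381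
def n83319 : Q := act 0 n38382
theorem D83319 : act 0 n38382 = n83319 := rfl
def n83320 : Q := act 1 n38382
theorem D83320 : act 1 n38382 = n83320 := rfl
def n83321 : Q := act 5 n38382
theorem D83321 : act 5 n38382 = n83321 := rfl
theorem F128421 : act 6 n83321 = n38385 := d12_2 D38382 D83321 (iv5 D38385) (iv6 D18313) D18312
def n83322 : Q := act 7 n38382
theorem D83322 : act 7 n38382 = n83322 := rfl
def n83323 : Q := act 3 n38383
theorem D83323 : act 3 n38383 = n83323 := rfl
theorem F128422 : act 7 n83323 = n56126 := d8_2 (iv7 F118567) D83323 (iv3 D56126)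
def n83324 : Q := act 5 n38383
theorem D83324 : act 5 n38383 = n83324 := rfl
theorem F128423 : act 2 n83324 = n56107 := d2_1 D83324 (iv5 D56107) (iv2 F118565)
theorem F128424 : act 7 n83324 = n56127 := d13_2 (iv7 F118567) D83324 (iv5 D56127)
def n83325 : Q := act 6 n38383
theorem D83325 : act 6 n38383 = n83325 := rfl
theorem F128426 : act 4 n83325 = n56021 := d10_1 D83325 (iv6 D56021) (iv4 F118566)
def n83326 : Q := act 3 n38384
theorem D83326 : act 3 n38384 = n83326 := rfl
theorem F128427 : act 4 n83326 = n39125 := d5_2 (iv4 F118563) D83326 (iv3 D39125) D39126 F60133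
def n83327 : Q := act 5 n38384
theorem D83327 : act 5 n38384 = n83327 := rfl
theorem F128429 : act 2 n83327 = n56127 := d2_1 D83327 (iv5 D56127) (iv2 F118562)
theorem F128430 : act 7 n83327 = n56107 := d13_2 (iv7 F118564) D83327 (iv5 D56107)
def n83328 : Q := act 6 n38384
theorem D83328 : act 6 n38384 = n83328 := rfl
theorem F128432 : act 4 n83328 = n40268 := d10_1 D83328 F91552 (iv4 F118563)
theorem F128433 : act 1 n83064 = n83328 := d17_8 (iv1 F61250) (iv5 D40259) (iv1 F91192) F28152 (iv4 F56070) (iv5 F116250) F123150 (iv5 F128021) F128432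
def n83330 : Q := act 4 n38385
theorem D83330 : act 4 n38385 = n83330 := rfl
def n83331 : Q := act 7 n38385
theorem D83331 : act 7 n38385 = n83331 := rfl
theorem F128434 : act 5 n83331 = n38386 := d13_1 D83331 (iv7 D38386) D38385
def n83332 : Q := act 5 n38388
theorem D83332 : act 5 n38388 = n83332 := rfl
theorem F128435 : act 3 n83332 = n38390 := d6_1 D83332 (iv5 D38390) D38388
def n83333 : Q := act 6 n38388
theorem D83333 : act 6 n38388 = n83333 := rfl
theorem F128436 : act 3 n83333 = n38391 := d7_1 D83333 (iv6 D38391) D38388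
theorem F128437 : act 5 n83333 = n40737 := d21_6 (iv5 F13805) F13807 D9328 D19831 F120716 D83333 (iv1 D40737) (iv5 D19218) (iv6 D9033) (iv1 F13810)
def n83334 : Q := act 0 n38390
theorem D83334 : act 0 n38390 = n83334 := rfl
theorem F128438 : act 5 n83334 = n79151 := d21_2 D38390 D83334 (iv6 D79151) (iv1 D36032) (iv6 D17441) (iv5 D8199) (iv1 F12204) F7226 D8634 D18314
theorem F128439 : act 1 n38395 = n83334 := d15_0 (iv0 D83334) (iv7 F128391) F128390
theorem F128440 : act 0 n75472 = n79151 := d21_10 (iv5 F128438) (iv1 F128439) (iv5 D38395) D38396 (iv1 F123956) (iv6 F59680) (iv5 D38785) D38783 F123055 D75472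
def n83335 : Q := act 1 n38390
theorem D83335 : act 1 n38390 = n83335 := rfl
theorem F128441 : act 1 n83335 = n38395 := d15_1 D83335 F118436 F118423
def n83336 : Q := act 4 n38390
theorem D83336 : act 4 n38390 = n83336 := rfl
theorem F128442 : act 7 n83336 = n77890 := d11_2 F128391 D83336 (iv4 F128393)
def n83337 : Q := act 6 n38390
theorem D83337 : act 6 n38390 = n83337 := rfl
def n83338 : Q := act 0 n38391
theorem D83338 : act 0 n38391 = n83338 := rfl
def n83339 : Q := act 1 n38391
theorem D83339 : act 1 n38391 = n83339 := rfl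
def n83340 : Q := act 4 n38395
theorem D83340 : act 4 n38395 = n83340 := rfl
theorem F128443 : act 2 n83340 = n77890 := d1_1 D83340 (iv4 F128393) F128390
theorem F128444 : act 6 n83340 = n77510 := d10_2 (iv6 F118438) D83340 (iv4 F116391)
def n83341 : Q := act 3 n38397
theorem D83341 : act 3 n38397 = n83341 := rfl
def n83342 : Q := act 4 n38397
theorem D83342 : act 4 n38397 = n83342 := rfl
def n83343 : Q := act 5 n38397
theorem D83343 : act 5 n38397 = n83343 := rfl
theorem F128445 : act 2 n83343 = n81755 := d2_1 D83343 F125677 F118733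
theorem F128446 : act 7 n83343 = n75472 := d13_2 (iv7 F128398) D83343 F128396
theorem F128447 : act 4 n80322 = n83343 := d11_3 F128446 F118573 D80322
theorem F128450 : act 5 n56088 = n80322 := d17_3 (iv1 D27047) D27048 D56088 F128447 (iv5 D83343) (iv0 D38397) (iv5 D18316) D18315 F118399
theorem F128451 : act 7 n80321 = n56088 := d13_0 F128450 (iv7 D80322) D80321
theorem F128452 : act 1 n83343 = n75784 := d15_0 F125675 D81755 (iv2 F128445)
def n83344 : Q := act 6 n38397
theorem D83344 : act 6 n38397 = n83344 := rfl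
def n83345 : Q := act 6 n38398
theorem D83345 : act 6 n38398 = n83345 := rfl
theorem F128453 : act 3 n83345 = n76942 := d7_1 D83345 (iv6 F116934) (iv3 F118730)
theorem F128454 : act 5 n83345 = n81752 := d12_1 D83345 (iv6 D81752) (iv5 D37370) D37371 F118729
theorem F128455 : act 0 n79150 = n83345 := d21_1 D79150 F128454 (iv6 D81752) (iv1 F118594) F59680 (iv5 D38228) (iv1 F116640) F57705 (iv6 F58805) (iv1 F58807)
theorem F128456 : act 0 n83345 = n79149 := d21_7 (iv5 F128013) (iv1 F128016) (iv5 D38773) D38774 (iv1 F118680) D81752 (iv5 F128454) (iv5 D79149) F117068 D75746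
def n83346 : Q := act 0 n38399
theorem D83346 : act 0 n38399 = n83346 := rfl
theorem F128457 : act 2 n56135 = n83346 := d15_3 (iv0 D83346) (iv0 F123514) F123513
theorem F128458 : act 4 n83346 = n56025 := d1_2 D56135 F128457 F91375
theorem F128459 : act 7 n83346 = n56140 := d4_2 F123513 F128457 (iv2 F123512)
theorem F128460 : act 1 n56135 = n83308 := d15_0 F128403 (iv7 F128459) (iv2 F128457)
theorem F128461 : act 0 n77373 = n80373 := d18_2 F128440 F120437 F123480 F91374 D56135 F128460 (iv4 D83308) D83307 (iv5 F128396)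
def n83347 : Q := act 3 n38399
theorem D83347 : act 3 n38399 = n83347 := rfl
theorem F128462 : act 4 n83347 = n38482 := d5_2 D38399 D83347 (iv3 D38482) (iv4 D18340) (iv3 F29515)
def n83348 : Q := act 5 n38399
theorem D83348 : act 5 n38399 = n83348 := rfl
def n83349 : Q := act 7 n38399
theorem D83349 : act 7 n38399 = n83349 := rfl
theorem F128464 : act 4 n83349 = n38400 := d11_1 D83349 (iv7 D38400) D38399
theorem F128465 : act 1 n56140 = n83349 := d15_1 F128403 (iv7 D83349) (iv2 F128401)
theorem F128466 : act 1 n83349 = n56135 := d15_1 F128465 (iv7 F123513) F123512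
theorem F128467 : act 0 n47668 = n56134 := d20_4 D58246 F118514 F74946 (iv3 F74943) (iv3 D56134) D56135 (iv1 F128466) F128464 F59251 (iv1 F117706)
def n83350 : Q := act 6 n38400
theorem D83350 : act 6 n38400 = n83350 := rfl
theorem F128468 : act 3 n83350 = n38485 := d7_1 D83350 (iv6 D38485) (iv3 F59251)
theorem F128469 : act 7 n83350 = n38861 := d14_2 D38400 D83350 (iv6 D38861) F29647 (iv6 F29516)
def n83351 : Q := act 1 n38401
theorem D83351 : act 1 n38401 = n83351 := rfl
theorem F128470 : act 1 n83351 = n39278 := d15_1 D83351 (iv7 F86862) F86860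
theorem F128471 : act 7 n83351 = n47215 := d15_2 (iv0 F128204) D83351 (iv2 F128200)
theorem F128472 : act 3 n80127 = n83351 := d20_3 (iv4 F44181) D56886 (iv4 F122987) (iv1 D83351) (iv3 D38401) F54790 (iv1 F110297) (iv4 F126894) (iv3 D82387) (iv1 D37787)
theorem F128473 : act 2 n83351 = n47214 := d0_1 F128472 F74489 F125372 (iv3 F90361) F125381
theorem F128474 : act 5 n83351 = n80125 := d6_2 D80127 F128472 (iv3 D80125)
def n83352 : Q := act 6 n38401
theorem D83352 : act 6 n38401 = n83352 := rfl
theorem F128475 : act 3 n83352 = n38402 := d7_1 D83352 (iv6 D38402) D38401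
theorem F128476 : act 4 n83352 = n41634 := d10_1 D83352 (iv6 D41634) (iv4 F59253)
def n83353 : Q := act 0 n38402
theorem D83353 : act 0 n38402 = n83353 := rfl
def n83354 : Q := act 1 n38402
theorem D83354 : act 1 n38402 = n83354 := rfl
def n83355 : Q := act 5 n38402
theorem D83355 : act 5 n38402 = n83355 := rfl
def n83356 : Q := act 7 n38402
theorem D83356 : act 7 n38402 = n83356 := rfl
def n83357 : Q := act 0 n38404
theorem D83357 : act 0 n38404 = n83357 := rfl
def n83358 : Q := act 1 n38404
theorem D83358 : act 1 n38404 = n83358 := rfl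
def n83359 : Q := act 5 n38404
theorem D83359 : act 5 n38404 = n83359 := rfl
def n83360 : Q := act 7 n38404
theorem D83360 : act 7 n38404 = n83360 := rfl
def n83361 : Q := act 6 n38405
theorem D83361 : act 6 n38405 = n83361 := rfl
theorem F128477 : act 2 n83361 = n38409 := d3_1 D83361 (iv6 D38409) (iv2 F59255)
theorem F128478 : act 3 n83361 = n54567 := d7_1 D83361 (iv6 D54567) (iv3 F59256)
theorem F128479 : act 4 n83361 = n75479 := d10_1 D83361 (iv6 D75479) F59260
def n83362 : Q := act 0 n38406
theorem D83362 : act 0 n38406 = n83362 := rfl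
def n83363 : Q := act 1 n38406
theorem D83363 : act 1 n38406 = n83363 := rfl
theorem F128480 : act 1 n83363 = n38413 := d15_1 D83363 (iv7 D38413) (iv2 F59262)
def n83364 : Q := act 5 n38406
theorem D83364 : act 5 n38406 = n83364 := rfl
theorem F128481 : act 2 n83364 = n38412 := d2_1 D83364 (iv5 D38412) (iv2 F59262)
def n83365 : Q := act 7 n38406
theorem D83365 : act 7 n38406 = n83365 := rfl
theorem F128482 : act 2 n83365 = n38413 := d4_1 D83365 (iv7 D38413) (iv2 F59262)
theorem F128483 : act 1 n38413 = n83362 := d15_0 (iv0 D83362) D83365 F128482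
theorem F128484 : act 1 n38411 = n83365 := d15_1 D38411 (iv7 D83365) F59262
theorem F128485 : act 1 n83365 = n38410 := d15_0 (iv0 D38410) D38413 (iv2 F128482)
def n83366 : Q := act 3 n38407
theorem D83366 : act 3 n38407 = n83366 := rfl
theorem F128486 : act 2 n83366 = n80274 := d0_1 D83366 (iv3 D80274) F60264 (iv3 F60265) F59265
theorem F128487 : act 4 n83366 = n80198 := d5_2 F112927 D83366 F123191 (iv4 D75318) D75317
theorem F128488 : act 5 n83366 = n46506 := d6_2 (iv5 F59263) D83366 F73485
theorem F128489 : act 7 n83366 = n47005 := d8_2 F59266 D83366 F74249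
theorem F128490 : act 7 n56963 = n80198 := d11_2 F128489 (iv4 F90045) (iv4 F128487)
theorem F128491 : act 2 n80198 = n56964 := d15_3 F123199 F123197 F128490
theorem F128494 : act 0 n80125 = n83366 := d17_2 (iv1 F128470) F128474 F128488 (iv4 D46506) (iv5 D22292) D22290 F64250 F64246 (iv4 F60249)
def n83367 : Q := act 6 n38407
theorem D83367 : act 6 n38407 = n83367 := rfl
theorem F128495 : act 2 n83367 = n82718 := d3_1 D83367 (iv6 D82718) F59265
def n83368 : Q := act 6 n38408
theorem D83368 : act 6 n38408 = n83368 := rfl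
def n83369 : Q := act 0 n38409
theorem D83369 : act 0 n38409 = n83369 := rfl
def n83370 : Q := act 1 n38409
theorem D83370 : act 1 n38409 = n83370 := rfl
def n83371 : Q := act 5 n38409
theorem D83371 : act 5 n38409 = n83371 := rfl
theorem F128498 : act 3 n83371 = n38416 := d6_1 D83371 (iv5 D38416) (iv3 F59271)
theorem F128499 : act 6 n83371 = n38412 := d12_2 D38409 D83371 (iv5 D38412) (iv6 D18322) D18321
def n83372 : Q := act 7 n38409
theorem D83372 : act 7 n38409 = n83372 := rfl
theorem F128500 : act 3 n83372 = n38417 := d8_1 D83372 (iv7 D38417) (iv3 F59271)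
theorem F128501 : act 4 n83372 = n82716 := d11_1 D83372 (iv7 D82716) (iv4 F59272)
def n83373 : Q := act 2 n38410
theorem D83373 : act 2 n38410 = n83373 := rfl
theorem F128502 : act 7 n38411 = n83373 := d15_2 (iv0 D38410) D38411 (iv2 D83373)
def n83374 : Q := act 3 n38410
theorem D83374 : act 3 n38410 = n83374 := rfl
def n83375 : Q := act 4 n38410
theorem D83375 : act 4 n38410 = n83375 := rfl
def n83376 : Q := act 5 n38410
theorem D83376 : act 5 n38410 = n83376 := rfl
def n83377 : Q := act 6 n38410
theorem D83377 : act 6 n38410 = n83377 := rfl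
def n83378 : Q := act 7 n38410
theorem D83378 : act 7 n38410 = n83378 := rfl
theorem F128503 : act 2 n83378 = n38411 := d4_1 D83378 F128502 (iv2 D83373)
def n83379 : Q := act 3 n38411
theorem D83379 : act 3 n38411 = n83379 := rfl
def n83380 : Q := act 4 n38411
theorem D83380 : act 4 n38411 = n83380 := rfl
def n83381 : Q := act 5 n38411
theorem D83381 : act 5 n38411 = n83381 := rfl
def n83382 : Q := act 6 n38411
theorem D83382 : act 6 n38411 = n83382 := rfl
def n83383 : Q := act 0 n38412
theorem D83383 : act 0 n38412 = n83383 := rfl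
def n83384 : Q := act 1 n38412
theorem D83384 : act 1 n38412 = n83384 := rfl
def n83385 : Q := act 4 n38412
theorem D83385 : act 4 n38412 = n83385 := rfl
def n83386 : Q := act 7 n38412
theorem D83386 : act 7 n38412 = n83386 := rfl
theorem F128504 : act 3 n83386 = n38431 := d8_1 D83386 (iv7 D38431) (iv3 F59273)
theorem F128505 : act 5 n83386 = n38413 := d13_1 D83386 (iv7 D38413) D38412
def n83387 : Q := act 2 n38414
theorem D83387 : act 2 n38414 = n83387 := rfl
theorem F128506 : act 7 n38415 = n83387 := d15_2 (iv0 D38414) D38415 (iv2 D83387)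
def n83388 : Q := act 3 n38414
theorem D83388 : act 3 n38414 = n83388 := rfl
def n83389 : Q := act 4 n38414
theorem D83389 : act 4 n38414 = n83389 := rfl
def n83390 : Q := act 5 n38414
theorem D83390 : act 5 n38414 = n83390 := rfl
def n83391 : Q := act 6 n38414
theorem D83391 : act 6 n38414 = n83391 := rfl
theorem F128507 : act 5 n83391 = n82569 := d21_6 F29332 (iv1 F13537) D8636 D18323 D38414 D83391 (iv1 D82569) (iv5 D37901) (iv6 D18163) D18161
def n83392 : Q := act 7 n38414
theorem D83392 : act 7 n38414 = n83392 := rfl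
theorem F128508 : act 2 n83392 = n38415 := d4_1 D83392 F128506 (iv2 D83387)
def n83393 : Q := act 3 n38415
theorem D83393 : act 3 n38415 = n83393 := rfl
def n83394 : Q := act 4 n38415
theorem D83394 : act 4 n38415 = n83394 := rfl
def n83395 : Q := act 5 n38415
theorem D83395 : act 5 n38415 = n83395 := rfl
def n83396 : Q := act 6 n38415
theorem D83396 : act 6 n38415 = n83396 := rfl
def n83397 : Q := act 0 n38416
theorem D83397 : act 0 n38416 = n83397 := rfl
def n83398 : Q := act 1 n38416
theorem D83398 : act 1 n38416 = n83398 := rfl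
def n83399 : Q := act 4 n38416
theorem D83399 : act 4 n38416 = n83399 := rfl
theorem F128509 : act 6 n83399 = n38430 := d10_2 (iv6 F59275) D83399 (iv4 D38430)
def n83400 : Q := act 7 n38416
theorem D83400 : act 7 n38416 = n83400 := rfl
theorem F128510 : act 5 n83400 = n38417 := d13_1 D83400 (iv7 D38417) D38416
def n83401 : Q := act 0 n38419
theorem D83401 : act 0 n38419 = n83401 := rfl
def n83402 : Q := act 1 n38419
theorem D83402 : act 1 n38419 = n83402 := rfl
def n83403 : Q := act 2 n38419
theorem D83403 : act 2 n38419 = n83403 := rfl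
def n83404 : Q := act 5 n38419
theorem D83404 : act 5 n38419 = n83404 := rfl
theorem F128511 : act 3 n83404 = n38421 := d6_1 D83404 (iv5 D38421) D38419
def n83405 : Q := act 6 n38419
theorem D83405 : act 6 n38419 = n83405 := rfl
theorem F128512 : act 3 n83405 = n38422 := d7_1 D83405 (iv6 D38422) D38419
def n83406 : Q := act 5 n38420
theorem D83406 : act 5 n38420 = n83406 := rfl
theorem F128513 : act 2 n83406 = n41429 := d2_1 D83406 (iv5 D41429) (iv2 F118364)
theorem F128514 : act 3 n83406 = n79477 := d6_1 D83406 (iv5 D79477) (iv3 F118365)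
theorem F128515 : act 7 n83406 = n41434 := d13_2 (iv7 F118367) D83406 (iv5 D41434)
theorem F128516 : act 0 n83406 = n79518 := d21_1 D83406 (iv5 F122125) (iv6 D45901) (iv1 D21948) (iv6 D10474) (iv5 F12103) (iv1 F12104) (iv5 F14311) D19497 (iv1 F118363)
theorem F128517 : act 0 n79517 = n83406 := d21_7 F124575 (iv1 D80858) (iv5 D36934) D36935 (iv1 F118343) F113489 (iv5 F122123) (iv5 D83406) F118366 F126793
def n83407 : Q := act 0 n38421
theorem D83407 : act 0 n38421 = n83407 := rfl
theorem F128518 : act 1 n38426 = n83407 := d15_0 (iv0 D83407) (iv7 F127800) F127799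
def n83408 : Q := act 1 n38421
theorem D83408 : act 1 n38421 = n83408 := rfl
theorem F128519 : act 1 n83408 = n38426 := d15_1 D83408 (iv7 F127797) F127796
def n83409 : Q := act 4 n38421
theorem D83409 : act 4 n38421 = n83409 := rfl
def n83410 : Q := act 6 n38421
theorem D83410 : act 6 n38421 = n83410 := rfl
def n83411 : Q := act 1 n38422
theorem D83411 : act 1 n38422 = n83411 := rfl
theorem F128520 : act 7 n83411 = n38836 := d15_2 F127516 D83411 (iv2 F126957)
theorem F128521 : act 4 n83411 = n38457 := d17_9 (iv1 D38457) (iv5 F118007) (iv1 F118021) (iv5 D16745) (iv4 F27484) D34514 D75418 (iv5 F113165) D83411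
theorem F128522 : act 5 n82769 = n83411 := d17_3 (iv1 F54751) D38045 (iv1 F127517) F128521 (iv5 F117950) (iv0 F117961) (iv5 D18218) F27491 (iv4 F54748)
def n83413 : Q := act 1 n38424
theorem D83413 : act 1 n38424 = n83413 := rfl
def n83414 : Q := act 2 n38424
theorem D83414 : act 2 n38424 = n83414 := rfl
theorem F128523 : act 4 n83414 = n79525 := d1_2 (iv4 F118559) D83414 (iv2 D79525)
def n83415 : Q := act 5 n38424
theorem D83415 : act 5 n38424 = n83415 := rfl
theorem F128524 : act 3 n83415 = n38426 := d6_1 D83415 (iv5 D38426) D38424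
def n83416 : Q := act 6 n38424
theorem D83416 : act 6 n38424 = n83416 := rfl
theorem F128525 : act 3 n83416 = n38427 := d7_1 D83416 (iv6 D38427) D38424
theorem F128526 : act 4 n83416 = n79527 := d10_1 D83416 (iv6 D79527) (iv4 F118559)
def n83417 : Q := act 4 n38426
theorem D83417 : act 4 n38426 = n83417 := rfl
def n83418 : Q := act 6 n38426
theorem D83418 : act 6 n38426 = n83418 := rfl
def n83419 : Q := act 3 n38428
theorem D83419 : act 3 n38428 = n83419 := rfl
def n83420 : Q := act 4 n38428
theorem D83420 : act 4 n38428 = n83420 := rfl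
def n83421 : Q := act 5 n38428
theorem D83421 : act 5 n38428 = n83421 := rfl
theorem F128527 : act 2 n83421 = n82582 := d2_1 D83421 F127810 F127811
theorem F128528 : act 7 n83421 = n45948 := d13_2 (iv7 F127812) D83421 F127802
theorem F128529 : act 4 n83421 = n45957 := d17_4 (iv1 D18325) D18326 D38428 D83421 F118984 (iv0 D47671) F36005 (iv0 F118121) F118051
theorem F128530 : act 1 n83421 = n75787 := d17_8 F113020 (iv5 D38474) (iv1 F59032) F59029 (iv4 F59016) (iv5 F127806) F127813 D83421 F113653
theorem F128531 : act 6 n83421 = n75725 := d21_3 D18326 D38428 D83421 (iv1 D75725) (iv6 D34625) D34624 D75720 F113575 (iv6 D38427) (iv1 D18325)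
theorem E13763 : n82581 = n75787 := ((c15_1 F128530 (iv0 D82581) D82582 (iv2 F128527))).symm
theorem F128532 : act 1 n75787 = n37907 := (sb E13763 (iv0 D82581))
theorem F128533 : act 1 n75733 = n83421 := d15_1 (iv0 F113594) F128528 F118927
def n83422 : Q := act 6 n38428
theorem D83422 : act 6 n38428 = n83422 := rfl
def n83423 : Q := act 3 n38429
theorem D83423 : act 3 n38429 = n83423 := rfl
theorem F128534 : act 5 n83423 = n82577 := d6_2 F59279 D83423 F127197
def n83424 : Q := act 4 n38429
theorem D83424 : act 4 n38429 = n83424 := rfl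
theorem F128535 : act 0 n83424 = n82970 := d18_2 (iv1 F127808) D83424 (iv4 D82970) (iv5 D38186) (iv4 F31218) (iv0 F118121) F118051 F59019 (iv5 F127806)
def n83425 : Q := act 6 n38429
theorem D83425 : act 6 n38429 = n83425 := rfl
theorem F128536 : act 5 n83425 = n82580 := d12_1 D83425 (iv6 D82580) (iv5 D37906) D37907 F59279
def n83426 : Q := act 0 n38430
theorem D83426 : act 0 n38430 = n83426 := rfl
def n83427 : Q := act 1 n38430
theorem D83427 : act 1 n38430 = n83427 := rfl
theorem F128537 : act 4 n83427 = n38542 := d18_7 F113497 (iv4 D18335) (iv1 D8639) (iv4 F13546) D18326 D38430 D83427 F127887 F127886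
def n83428 : Q := act 3 n38430
theorem D83428 : act 3 n38430 = n83428 := rfl
def n83429 : Q := act 5 n38430
theorem D83429 : act 5 n38430 = n83429 := rfl
def n83430 : Q := act 7 n38430
theorem D83430 : act 7 n38430 = n83430 := rfl
theorem F128538 : act 4 n83430 = n38431 := d11_1 D83430 (iv7 D38431) D38430
def n83431 : Q := act 6 n38431
theorem D83431 : act 6 n38431 = n83431 := rfl
def n83432 : Q := act 0 n38448
theorem D83432 : act 0 n38448 = n83432 := rfl
theorem F128539 : act 1 n38466 = n83432 := d15_0 (iv0 D83432) F118005 F118568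
def n83433 : Q := act 1 n38448
theorem D83433 : act 1 n38448 = n83433 := rfl
theorem F128540 : act 1 n83433 = n38466 := d15_1 D83433 (iv7 F127816) F127815
def n83434 : Q := act 4 n38448
theorem D83434 : act 4 n38448 = n83434 := rfl
def n83435 : Q := act 6 n38448
theorem D83435 : act 6 n38448 = n83435 := rfl
def n83436 : Q := act 1 n38449
theorem D83436 : act 1 n38449 = n83436 := rfl
theorem F128541 : act 7 n83436 = n38700 := d15_2 F126920 D83436 (iv2 F126917)
def n83437 : Q := act 3 n38451
theorem D83437 : act 3 n38451 = n83437 := rfl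
theorem F128542 : act 4 n83437 = n79825 := d20_6 D36333 F57074 (iv4 D18603) F117936 D38451 D83437 (iv1 D79825) (iv4 D36362) F28546 (iv1 F28539)
def n83438 : Q := act 4 n38451
theorem D83438 : act 4 n38451 = n83438 := rfl
theorem F128543 : act 0 n83438 = n79519 := d18_2 D38451 D83438 (iv4 D79519) (iv5 D36212) F118051 F59019 F59016 F29439 D18331
def n83439 : Q := act 3 n38452
theorem D83439 : act 3 n38452 = n83439 := rfl
def n83440 : Q := act 4 n38452
theorem D83440 : act 4 n38452 = n83440 := rfl
theorem F128545 : act 6 n83440 = n38847 := d10_2 (iv6 F112993) D83440 (iv4 D38847)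
def n83441 : Q := act 0 n38453
theorem D83441 : act 0 n38453 = n83441 := rfl
theorem F128546 : act 1 n38468 = n83441 := d15_0 (iv0 D83441) F117937 F118570
def n83442 : Q := act 1 n38453
theorem D83442 : act 1 n38453 = n83442 := rfl
theorem F128547 : act 1 n83442 = n38468 := d15_1 D83442 (iv7 F127818) F127817
def n83443 : Q := act 3 n38453
theorem D83443 : act 3 n38453 = n83443 := rfl
theorem F128548 : act 4 n83443 = n39218 := d5_2 D38453 D83443 (iv3 D39218) (iv4 D18603) F117936
def n83444 : Q := act 5 n38453
theorem D83444 : act 5 n38453 = n83444 := rfl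
def n83445 : Q := act 6 n38453
theorem D83445 : act 6 n38453 = n83445 := rfl
theorem F128549 : act 4 n83445 = n38454 := d10_1 D83445 (iv6 D38454) D38453
def n83446 : Q := act 3 n38457
theorem D83446 : act 3 n38457 = n83446 := rfl
theorem F128551 : act 5 n83446 = n82261 := d6_2 F117950 D83446 (iv3 D82261)
theorem F128552 : act 7 n83446 = n38833 := d8_2 (iv7 F125847) D83446 F59854
def n83447 : Q := act 0 n38465
theorem D83447 : act 0 n38465 = n83447 := rfl
def n83448 : Q := act 1 n38465
theorem D83448 : act 1 n38465 = n83448 := rfl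
def n83449 : Q := act 2 n38465
theorem D83449 : act 2 n38465 = n83449 := rfl
def n83450 : Q := act 5 n38465
theorem D83450 : act 5 n38465 = n83450 := rfl
theorem F128553 : act 3 n83450 = n38466 := d6_1 D83450 (iv5 D38466) D38465
def n83451 : Q := act 6 n38465
theorem D83451 : act 6 n38465 = n83451 := rfl
theorem F128554 : act 3 n83451 = n38467 := d7_1 D83451 (iv6 D38467) D38465
def n83452 : Q := act 4 n38466
theorem D83452 : act 4 n38466 = n83452 := rfl
def n83453 : Q := act 6 n38466
theorem D83453 : act 6 n38466 = n83453 := rfl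
def n83454 : Q := act 3 n38468
theorem D83454 : act 3 n38468 = n83454 := rfl
theorem F128555 : act 6 n83454 = n83279 := d7_2 (iv6 F59307) D83454 (iv3 D83279)
def n83455 : Q := act 5 n38468
theorem D83455 : act 5 n38468 = n83455 := rfl
def n83456 : Q := act 0 n38473
theorem D83456 : act 0 n38473 = n83456 := rfl
theorem F128556 : act 4 n83456 = n47673 := d18_3 D18338 D38473 D83456 F74950 F63826 F113498 (iv4 D18330) (iv0 D8638) D8640
theorem F128557 : act 1 n38478 = n83456 := d15_0 (iv0 D83456) F117790 F118742
theorem F128558 : act 7 n83456 = n47670 := d15_2 F113509 F128557 F74945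
def n83457 : Q := act 5 n38473
theorem D83457 : act 5 n38473 = n83457 := rfl
def n83458 : Q := act 6 n38473
theorem D83458 : act 6 n38473 = n83458 := rfl
theorem F128559 : act 4 n83458 = n38475 := d10_1 D83458 (iv6 D38475) D38473
def n83459 : Q := act 4 n38474
theorem D83459 : act 4 n38474 = n83459 := rfl
theorem F128560 : act 2 n83459 = n82615 := d1_1 D83459 F127240 (iv2 F59310)
theorem F128561 : act 6 n83459 = n75654 := d10_2 (iv6 F59311) D83459 F113517
theorem F128562 : act 7 n83459 = n56792 := d11_2 (iv7 F117788) D83459 F89796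
theorem F128563 : act 5 n83459 = n38541 := d17_5 (iv1 D8639) D8640 D18338 D38474 D83459 (iv0 D38541) (iv5 D18358) (iv0 F113496) (iv4 D18335)
theorem F128564 : act 4 n38541 = n83426 := d18_5 (iv1 F128532) F113653 F113020 D83459 F128563 (iv0 D83426) (iv4 D38430) D38429 (iv5 F59279)
theorem F128565 : act 0 n75692 = n83459 := d20_7 (iv4 F52071) (iv1 D32891) F41746 (iv3 F43878) D56384 F119040 (iv4 F113554) (iv4 D83459) F117787 (iv1 F29847)
theorem E13764 : n45955 = n45901 := (c18_1 D45955 (iv4 F113554) F128565 (iv4 D83459) (iv5 D38474) D38473 (iv0 F119055) (iv4 D41438) D41437 (iv5 F63881))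
theorem F128566 : act 1 n45901 = n21963 := (sb E13764 (iv0 D45955))
theorem E13765 : n82613 = n75692 := ((c15_1 (iv0 F128565) (iv0 D82613) D82615 (iv2 F128560))).symm
theorem F128567 : act 1 n75692 = n37934 := (sb E13765 (iv0 D82613))
theorem F128568 : act 1 n82614 = n83459 := d15_1 D82614 F128562 F117786
theorem F128569 : act 3 n45956 = n80357 := d20_3 D83459 (iv1 F128568) F127238 (iv1 D80357) F57472 (iv4 F57475) F123255 F123254 F113652 F113020
def n83460 : Q := act 0 n38475
theorem D83460 : act 0 n38475 = n83460 := rfl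
theorem F128570 : act 6 n83460 = n75282 := d21_5 F117899 F113020 (iv5 D38474) D38475 D83460 (iv5 F125191) (iv1 F125193) D82809 F127548 F117926
theorem F128571 : act 7 n38823 = n83460 := d14_0 F128570 F125864 F67479 F125836 D38823
def n83461 : Q := act 3 n38478
theorem D83461 : act 3 n38478 = n83461 := rfl
def n83462 : Q := act 5 n38478
theorem D83462 : act 5 n38478 = n83462 := rfl
def n83463 : Q := act 6 n38478
theorem D83463 : act 6 n38478 = n83463 := rfl
theorem F128572 : act 4 n83463 = n38479 := d10_1 D83463 (iv6 D38479) D38478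
def n83464 : Q := act 3 n38480
theorem D83464 : act 3 n38480 = n83464 := rfl
def n83465 : Q := act 5 n38480
theorem D83465 : act 5 n38480 = n83465 := rfl
def n83466 : Q := act 6 n38480
theorem D83466 : act 6 n38480 = n83466 := rfl
def n83467 : Q := act 3 n38481
theorem D83467 : act 3 n38481 = n83467 := rfl
theorem F128573 : act 4 n83467 = n79553 := d5_2 F118980 D83467 (iv3 D79553) (iv4 D36230) D36229
def n83468 : Q := act 5 n38481
theorem D83468 : act 5 n38481 = n83468 := rfl
def n83469 : Q := act 6 n38481
theorem D83469 : act 6 n38481 = n83469 := rfl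
theorem F128574 : act 4 n83469 = n79552 := d10_1 D83469 (iv6 D79552) F118980
def n83470 : Q := act 0 n38482
theorem D83470 : act 0 n38482 = n83470 := rfl
def n83471 : Q := act 1 n38482
theorem D83471 : act 1 n38482 = n83471 := rfl
def n83472 : Q := act 2 n38482
theorem D83472 : act 2 n38482 = n83472 := rfl
theorem F128575 : act 6 n83472 = n75307 := d3_2 (iv6 F59322) D83472 (iv2 D75307)
def n83473 : Q := act 5 n38482
theorem D83473 : act 5 n38482 = n83473 := rfl
theorem F128576 : act 3 n83473 = n38483 := d6_1 D83473 (iv5 D38483) D38482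
def n83475 : Q := act 0 n38483
theorem D83475 : act 0 n38483 = n83475 := rfl
def n83476 : Q := act 1 n38483
theorem D83476 : act 1 n38483 = n83476 := rfl
theorem F128578 : act 5 n83476 = n79519 := d17_7 (iv1 F59300) (iv5 D18336) (iv1 D8639) D8640 D18340 D38483 D83476 (iv0 F128543) (iv4 D83438)
def n83477 : Q := act 4 n38483
theorem D83477 : act 4 n38483 = n83477 := rfl
def n83478 : Q := act 6 n38483
theorem D83478 : act 6 n38483 = n83478 := rfl
theorem F128579 : act 5 n83478 = n75311 := d12_1 D83478 (iv6 D75311) (iv5 D34481) (iv6 F29527) D38483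
def n83479 : Q := act 7 n38483
theorem D83479 : act 7 n38483 = n83479 := rfl
theorem F128580 : act 5 n83479 = n38484 := d13_1 D83479 (iv7 D38484) D38483
def n83480 : Q := act 6 n38484
theorem D83480 : act 6 n38484 = n83480 := rfl
theorem F128581 : act 4 n83480 = n38485 := d10_1 D83480 (iv6 D38485) (iv4 F59323)
theorem F128582 : act 7 n83480 = n38865 := d14_2 D38484 D83480 (iv6 D38865) F29651 (iv6 F29527)
def n83481 : Q := act 6 n38487
theorem D83481 : act 6 n38487 = n83481 := rfl
theorem F128583 : act 3 n83481 = n38490 := d7_1 D83481 (iv6 D38490) D38487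
def n83482 : Q := act 6 n38488
theorem D83482 : act 6 n38488 = n83482 := rfl
theorem F128584 : act 4 n83482 = n38490 := d10_1 D83482 (iv6 D38490) D38488
def n83483 : Q := act 6 n38489
theorem D83483 : act 6 n38489 = n83483 := rfl
theorem F128585 : act 2 n83483 = n77609 := d3_1 D83483 (iv6 D77609) (iv2 F59330)
theorem F128586 : act 3 n83483 = n71787 := d7_1 D83483 (iv6 D71787) F71638
theorem F128587 : act 4 n83483 = n57642 := d10_1 D83483 (iv6 D57642) (iv4 F59327)
def n83484 : Q := act 0 n38490
theorem D83484 : act 0 n38490 = n83484 := rfl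
def n83485 : Q := act 1 n38490
theorem D83485 : act 1 n38490 = n83485 := rfl
def n83486 : Q := act 5 n38490
theorem D83486 : act 5 n38490 = n83486 := rfl
def n83487 : Q := act 7 n38490
theorem D83487 : act 7 n38490 = n83487 := rfl
def n83488 : Q := act 5 n38491
theorem D83488 : act 5 n38491 = n83488 := rfl
theorem F128588 : act 2 n83488 = n71785 := d2_1 D83488 (iv5 F120315) F120314
theorem F128589 : act 3 n83488 = n38493 := d6_1 D83488 (iv5 D38493) D38491
theorem F128590 : act 7 n83488 = n77608 := d13_2 (iv7 F120308) D83488 F120307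
theorem F128591 : act 4 n83488 = n73427 := d18_5 F34404 F55689 D76733 F115112 D83488 F116533 (iv4 D77634) F72370 (iv5 D45819)
theorem F128592 : act 0 n47256 = n83488 := d20_10 F128591 F110133 F60962 (iv3 D27041) (iv1 F21548) D17162 (iv4 F43320) F74508 (iv4 D47257) D47256
def n83489 : Q := act 6 n38491
theorem D83489 : act 6 n38491 = n83489 := rfl
theorem F128593 : act 3 n83489 = n38494 := d7_1 D83489 (iv6 D38494) D38491
def n83490 : Q := act 6 n38492
theorem D83490 : act 6 n38492 = n83490 := rfl
theorem F128594 : act 4 n83490 = n38494 := d10_1 D83490 (iv6 D38494) D38492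
def n83491 : Q := act 6 n38493
theorem D83491 : act 6 n38493 = n83491 := rfl
theorem F128595 : act 2 n83491 = n73047 := d3_1 D83491 (iv6 D73047) (iv2 F59338)
def n83492 : Q := act 0 n38494
theorem D83492 : act 0 n38494 = n83492 := rfl
def n83493 : Q := act 1 n38494
theorem D83493 : act 1 n38494 = n83493 := rfl
def n83494 : Q := act 5 n38494
theorem D83494 : act 5 n38494 = n83494 := rfl
def n83495 : Q := act 7 n38494
theorem D83495 : act 7 n38494 = n83495 := rfl
def n83496 : Q := act 0 n38495
theorem D83496 : act 0 n38495 = n83496 := rfl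
def n83497 : Q := act 1 n38495
theorem D83497 : act 1 n38495 = n83497 := rfl
theorem F128597 : act 1 n83497 = n38502 := d15_1 D83497 (iv7 D38502) (iv2 F59343)
def n83498 : Q := act 5 n38495
theorem D83498 : act 5 n38495 = n83498 := rfl
theorem F128598 : act 2 n83498 = n38501 := d2_1 D83498 (iv5 D38501) (iv2 F59343)
theorem F128599 : act 3 n83498 = n77440 := d6_1 D83498 (iv5 D77440) (iv3 F59344)
theorem F128600 : act 6 n83498 = n77436 := d12_2 D38495 D83498 (iv5 D77436) (iv6 D35355) F29530
def n83499 : Q := act 7 n38495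
theorem D83499 : act 7 n38495 = n83499 := rfl
theorem F128601 : act 2 n83499 = n38502 := d4_1 D83499 (iv7 D38502) (iv2 F59343)
theorem F128602 : act 3 n83499 = n77441 := d8_1 D83499 (iv7 D77441) (iv3 F59344)
theorem F128603 : act 1 n38502 = n83496 := d15_0 (iv0 D83496) D83499 F128601
theorem F128604 : act 1 n38500 = n83499 := d15_1 D38500 (iv7 D83499) F59343
theorem F128605 : act 1 n83499 = n38499 := d15_0 (iv0 D38499) D38502 (iv2 F128601)
def n83500 : Q := act 0 n38496
theorem D83500 : act 0 n38496 = n83500 := rfl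
def n83501 : Q := act 1 n38496
theorem D83501 : act 1 n38496 = n83501 := rfl
def n83502 : Q := act 5 n38496
theorem D83502 : act 5 n38496 = n83502 := rfl
def n83503 : Q := act 7 n38496
theorem D83503 : act 7 n38496 = n83503 := rfl
theorem F128606 : act 4 n83503 = n38502 := d11_1 D83503 (iv7 D38502) (iv4 F59345)
def n83504 : Q := act 5 n38497
theorem D83504 : act 5 n38497 = n83504 := rfl
theorem F128607 : act 2 n83504 = n56965 := d2_1 D83504 (iv5 D56965) (iv2 F59346)
theorem F128608 : act 3 n83504 = n46865 := d6_1 D83504 (iv5 D46865) (iv3 F59347)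
theorem F128609 : act 7 n83504 = n76643 := d13_2 F123196 D83504 (iv5 F123195)
def n83505 : Q := act 6 n38497
theorem D83505 : act 6 n38497 = n83505 := rfl
theorem F128610 : act 2 n83505 = n56966 := d3_1 D83505 (iv6 D56966) (iv2 F59346)
theorem F128611 : act 3 n83505 = n46866 := d7_1 D83505 (iv6 D46866) (iv3 F59347)
theorem F128612 : act 4 n83505 = n38498 := d10_1 D83505 (iv6 D38498) D38497
def n83506 : Q := act 0 n38498
theorem D83506 : act 0 n38498 = n83506 := rfl
def n83507 : Q := act 1 n38498
theorem D83507 : act 1 n38498 = n83507 := rfl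
theorem F128613 : act 1 n83507 = n77437 := d15_1 D83507 (iv7 D77437) (iv2 F59348)
def n83508 : Q := act 5 n38498
theorem D83508 : act 5 n38498 = n83508 := rfl
theorem F128614 : act 2 n83508 = n77436 := d2_1 D83508 (iv5 D77436) (iv2 F59348)
theorem F128615 : act 3 n83508 = n38505 := d6_1 D83508 (iv5 D38505) (iv3 F59349)
theorem F128616 : act 6 n83508 = n38501 := d12_2 D38498 D83508 (iv5 D38501) (iv6 D18347) D18346
def n83509 : Q := act 7 n38498
theorem D83509 : act 7 n38498 = n83509 := rfl
theorem F128617 : act 2 n83509 = n77437 := d4_1 D83509 (iv7 D77437) (iv2 F59348)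
theorem F128618 : act 3 n83509 = n38506 := d8_1 D83509 (iv7 D38506) (iv3 F59349)
theorem F128619 : act 1 n77437 = n83506 := d15_0 (iv0 D83506) D83509 F128617
theorem F128620 : act 1 n77435 = n83509 := d15_1 D77435 (iv7 D83509) F59348
theorem F128621 : act 1 n83509 = n77434 := d15_0 (iv0 D77434) D77437 (iv2 F128617)
def n83510 : Q := act 2 n38499
theorem D83510 : act 2 n38499 = n83510 := rfl
theorem F128622 : act 7 n38500 = n83510 := d15_2 (iv0 D38499) D38500 (iv2 D83510)
def n83511 : Q := act 3 n38499
theorem D83511 : act 3 n38499 = n83511 := rfl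
def n83512 : Q := act 4 n38499
theorem D83512 : act 4 n38499 = n83512 := rfl
def n83513 : Q := act 5 n38499
theorem D83513 : act 5 n38499 = n83513 := rfl
def n83514 : Q := act 6 n38499
theorem D83514 : act 6 n38499 = n83514 := rfl
def n83515 : Q := act 7 n38499
theorem D83515 : act 7 n38499 = n83515 := rfl
theorem F128623 : act 2 n83515 = n38500 := d4_1 D83515 F128622 (iv2 D83510)
def n83516 : Q := act 3 n38500
theorem D83516 : act 3 n38500 = n83516 := rfl
def n83517 : Q := act 4 n38500
theorem D83517 : act 4 n38500 = n83517 := rfl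
def n83518 : Q := act 5 n38500
theorem D83518 : act 5 n38500 = n83518 := rfl
def n83519 : Q := act 6 n38500
theorem D83519 : act 6 n38500 = n83519 := rfl
def n83520 : Q := act 0 n38501
theorem D83520 : act 0 n38501 = n83520 := rfl
def n83521 : Q := act 1 n38501
theorem D83521 : act 1 n38501 = n83521 := rfl
def n83522 : Q := act 4 n38501
theorem D83522 : act 4 n38501 = n83522 := rfl
def n83523 : Q := act 7 n38501
theorem D83523 : act 7 n38501 = n83523 := rfl
theorem F128624 : act 3 n83523 = n38520 := d8_1 D83523 (iv7 D38520) (iv3 F59350)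
theorem F128625 : act 5 n83523 = n38502 := d13_1 D83523 (iv7 D38502) D38501
def n83524 : Q := act 2 n38503
theorem D83524 : act 2 n38503 = n83524 := rfl
theorem F128626 : act 7 n38504 = n83524 := d15_2 (iv0 D38503) D38504 (iv2 D83524)
def n83525 : Q := act 3 n38503
theorem D83525 : act 3 n38503 = n83525 := rfl
def n83526 : Q := act 4 n38503
theorem D83526 : act 4 n38503 = n83526 := rfl
theorem F128627 : act 3 n46645 = n83526 := d20_5 (iv4 D16840) F117239 (iv4 F44081) F44080 D46645 (iv4 D83526) (iv1 F123114) F123110 (iv3 F91394) (iv1 D34763)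
def n83527 : Q := act 5 n38503
theorem D83527 : act 5 n38503 = n83527 := rfl
def n83528 : Q := act 6 n38503
theorem D83528 : act 6 n38503 = n83528 := rfl
def n83529 : Q := act 7 n38503
theorem D83529 : act 7 n38503 = n83529 := rfl
theorem F128628 : act 2 n83529 = n38504 := d4_1 D83529 F128626 (iv2 D83524)
def n83530 : Q := act 3 n38504
theorem D83530 : act 3 n38504 = n83530 := rfl
theorem F128629 : act 4 n83530 = n81579 := d20_6 (iv4 D35297) (iv1 F91257) (iv4 F57367) (iv3 F123109) (iv1 F123113) D83530 (iv1 D81579) (iv4 F60268) F60267 (iv1 F116609)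
def n83531 : Q := act 4 n38504
theorem D83531 : act 4 n38504 = n83531 := rfl
def n83532 : Q := act 5 n38504
theorem D83532 : act 5 n38504 = n83532 := rfl
def n83533 : Q := act 6 n38504
theorem D83533 : act 6 n38504 = n83533 := rfl
def n83534 : Q := act 0 n38505
theorem D83534 : act 0 n38505 = n83534 := rfl
def n83535 : Q := act 1 n38505
theorem D83535 : act 1 n38505 = n83535 := rfl
def n83536 : Q := act 4 n38505
theorem D83536 : act 4 n38505 = n83536 := rfl
theorem F128630 : act 6 n83536 = n38519 := d10_2 (iv6 F59352) D83536 (iv4 D38519)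
def n83537 : Q := act 7 n38505
theorem D83537 : act 7 n38505 = n83537 := rfl
theorem F128631 : act 5 n83537 = n38506 := d13_1 D83537 (iv7 D38506) D38505
def n83538 : Q := act 3 n38517
theorem D83538 : act 3 n38517 = n83538 := rfl
def n83539 : Q := act 6 n38517
theorem D83539 : act 6 n38517 = n83539 := rfl
def n83540 : Q := act 3 n38518
theorem D83540 : act 3 n38518 = n83540 := rfl
theorem F128632 : act 5 n83540 = n71695 := d6_2 F117878 D83540 F108176
def n83541 : Q := act 6 n38518
theorem D83541 : act 6 n38518 = n83541 := rfl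
theorem F128633 : act 5 n83541 = n82257 := d12_1 D83541 (iv6 D82257) (iv5 D37714) D37715 F117878
def n83542 : Q := act 0 n38519
theorem D83542 : act 0 n38519 = n83542 := rfl
def n83543 : Q := act 1 n38519
theorem D83543 : act 1 n38519 = n83543 := rfl
theorem F128634 : act 4 n83543 = n82902 := d18_7 (iv1 F58974) F118782 (iv1 D19494) F14308 D18351 D38519 D83543 F127702 F59173
theorem F128635 : act 2 n83245 = n83543 := d1_3 F128634 F127704 D83245
theorem F128636 : act 7 n83241 = n83543 := d11_0 F128634 (iv7 F127714) D83241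
theorem F128637 : act 2 n83241 = n83542 := d15_3 (iv0 D83542) D83543 (iv7 F128636)
theorem F128638 : act 4 n83542 = n82901 := d1_2 D83241 F128637 F127713
theorem F128639 : act 7 n83542 = n83245 := d4_2 (iv7 F128636) F128637 F128635
def n83544 : Q := act 3 n38519
theorem D83544 : act 3 n38519 = n83544 := rfl
def n83545 : Q := act 5 n38519
theorem D83545 : act 5 n38519 = n83545 := rfl
def n83546 : Q := act 7 n38519
theorem D83546 : act 7 n38519 = n83546 := rfl
theorem F128640 : act 4 n83546 = n38520 := d11_1 D83546 (iv7 D38520) D38519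
theorem F128641 : act 1 n83245 = n83546 := d15_1 (iv0 F128326) (iv7 D83546) (iv2 F127848)
theorem F128642 : act 1 n83546 = n83241 := d15_1 F128641 F128636 (iv2 F128635)
def n83547 : Q := act 6 n38520
theorem D83547 : act 6 n38520 = n83547 := rfl
def n83548 : Q := act 4 n38521
theorem D83548 : act 4 n38521 = n83548 := rfl
theorem F128643 : act 2 n83548 = n79218 := d1_1 D83548 F120495 (iv2 F86927)
theorem F128644 : act 0 n83548 = n79386 := d18_2 F59358 D83548 F121978 (iv5 F127149) (iv4 F127152) (iv0 D80416) F57513 F86942 (iv5 D38547)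
def n83549 : Q := act 6 n38521
theorem D83549 : act 6 n38521 = n83549 := rfl
theorem F128645 : act 3 n83549 = n38522 := d7_1 D83549 (iv6 D38522) D38521
def n83550 : Q := act 0 n38522
theorem D83550 : act 0 n38522 = n83550 := rfl
def n83551 : Q := act 1 n38522
theorem D83551 : act 1 n38522 = n83551 := rfl
def n83552 : Q := act 5 n38522
theorem D83552 : act 5 n38522 = n83552 := rfl
theorem F128646 : act 6 n83552 = n77545 := d12_2 D38522 D83552 (iv5 D77545) (iv6 D35403) (iv5 F29536)
def n83553 : Q := act 7 n38522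
theorem D83553 : act 7 n38522 = n83553 := rfl
def n83554 : Q := act 2 n38523
theorem D83554 : act 2 n38523 = n83554 := rfl
theorem F128647 : act 7 n38524 = n83554 := d15_2 (iv0 D38523) D38524 (iv2 D83554)
def n83555 : Q := act 3 n38523
theorem D83555 : act 3 n38523 = n83555 := rfl
def n83556 : Q := act 4 n38523
theorem D83556 : act 4 n38523 = n83556 := rfl
def n83557 : Q := act 5 n38523
theorem D83557 : act 5 n38523 = n83557 := rfl
def n83558 : Q := act 6 n38523
theorem D83558 : act 6 n38523 = n83558 := rfl
def n83559 : Q := act 7 n38523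
theorem D83559 : act 7 n38523 = n83559 := rfl
theorem F128648 : act 2 n83559 = n38524 := d4_1 D83559 F128647 (iv2 D83554)
def n83560 : Q := act 3 n38524
theorem D83560 : act 3 n38524 = n83560 := rfl
def n83561 : Q := act 4 n38524
theorem D83561 : act 4 n38524 = n83561 := rfl
def n83562 : Q := act 5 n38524
theorem D83562 : act 5 n38524 = n83562 := rfl
def n83563 : Q := act 6 n38524
theorem D83563 : act 6 n38524 = n83563 := rfl
def n83564 : Q := act 0 n38525
theorem D83564 : act 0 n38525 = n83564 := rfl
def n83565 : Q := act 1 n38525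
theorem D83565 : act 1 n38525 = n83565 := rfl
def n83566 : Q := act 4 n38525
theorem D83566 : act 4 n38525 = n83566 := rfl
theorem F128649 : act 6 n83566 = n77376 := d10_2 (iv6 F59360) D83566 (iv4 D77376)
def n83567 : Q := act 7 n38525
theorem D83567 : act 7 n38525 = n83567 := rfl
theorem F128650 : act 3 n83567 = n38544 := d8_1 D83567 (iv7 D38544) (iv3 F59359)
theorem F128651 : act 5 n83567 = n38526 := d13_1 D83567 (iv7 D38526) D38525
def n83568 : Q := act 2 n38527
theorem D83568 : act 2 n38527 = n83568 := rfl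
theorem F128652 : act 7 n38528 = n83568 := d15_2 (iv0 D38527) D38528 (iv2 D83568)
def n83569 : Q := act 3 n38527
theorem D83569 : act 3 n38527 = n83569 := rfl
def n83570 : Q := act 4 n38527
theorem D83570 : act 4 n38527 = n83570 := rfl
def n83571 : Q := act 5 n38527
theorem D83571 : act 5 n38527 = n83571 := rfl
def n83572 : Q := act 6 n38527
theorem D83572 : act 6 n38527 = n83572 := rfl
def n83573 : Q := act 7 n38527
theorem D83573 : act 7 n38527 = n83573 := rfl
theorem F128653 : act 2 n83573 = n38528 := d4_1 D83573 F128652 (iv2 D83568)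
def n83574 : Q := act 3 n38528
theorem D83574 : act 3 n38528 = n83574 := rfl
def n83575 : Q := act 4 n38528
theorem D83575 : act 4 n38528 = n83575 := rfl
theorem F128654 : act 3 n47135 = n83575 := d20_5 (iv4 D35147) F117265 (iv4 F58438) (iv3 F62341) (iv1 F74379) (iv4 D83575) (iv1 D38528) F29539 (iv3 F34950) (iv1 F91296)
def n83576 : Q := act 5 n38528
theorem D83576 : act 5 n38528 = n83576 := rfl
def n83577 : Q := act 6 n38528
theorem D83577 : act 6 n38528 = n83577 := rfl
def n83578 : Q := act 0 n38529
theorem D83578 : act 0 n38529 = n83578 := rfl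
def n83579 : Q := act 1 n38529
theorem D83579 : act 1 n38529 = n83579 := rfl
def n83580 : Q := act 4 n38529
theorem D83580 : act 4 n38529 = n83580 := rfl
theorem F128655 : act 6 n83580 = n38543 := d10_2 (iv6 F59363) D83580 (iv4 D38543)
def n83581 : Q := act 7 n38529
theorem D83581 : act 7 n38529 = n83581 := rfl
theorem F128656 : act 3 n83581 = n77377 := d8_1 D83581 (iv7 D77377) (iv3 F59362)
theorem F128657 : act 5 n83581 = n38530 := d13_1 D83581 (iv7 D38530) D38529
def n83582 : Q := act 3 n38541
theorem D83582 : act 3 n38541 = n83582 := rfl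
def n83583 : Q := act 6 n38541
theorem D83583 : act 6 n38541 = n83583 := rfl
def n83584 : Q := act 3 n38542
theorem D83584 : act 3 n38542 = n83584 := rfl
theorem F128658 : act 5 n83584 = n82610 := d6_2 F118929 D83584 F127236
def n83585 : Q := act 6 n38542
theorem D83585 : act 6 n38542 = n83585 := rfl
theorem F128659 : act 5 n83585 = n82612 := d12_1 D83585 (iv6 D82612) (iv5 D37933) D37934 F118929
def n83586 : Q := act 0 n38543
theorem D83586 : act 0 n38543 = n83586 := rfl
def n83587 : Q := act 1 n38543
theorem D83587 : act 1 n38543 = n83587 := rfl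
theorem F128660 : act 4 n83587 = n82939 := d18_7 (iv1 F59013) F118373 (iv1 D19513) F14330 D18358 D38543 D83587 F127801 F59280
theorem F128661 : act 2 n83424 = n83587 := d1_3 F128660 F127803 D83424
theorem F128662 : act 7 n83420 = n83587 := d11_0 F128660 (iv7 F127812) D83420
theorem F128663 : act 2 n83420 = n83586 := d15_3 (iv0 D83586) D83587 (iv7 F128662)
theorem F128664 : act 4 n83586 = n82938 := d1_2 D83420 F128663 F127811
theorem F128665 : act 7 n83586 = n83424 := d4_2 (iv7 F128662) F128663 F128661
theorem F128666 : act 1 n83420 = n82970 := d15_0 (iv0 F128535) (iv7 F128665) (iv2 F128663)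
def n83588 : Q := act 3 n38543
theorem D83588 : act 3 n38543 = n83588 := rfl
def n83589 : Q := act 5 n38543
theorem D83589 : act 5 n38543 = n83589 := rfl
def n83590 : Q := act 7 n38543
theorem D83590 : act 7 n38543 = n83590 := rfl
theorem F128667 : act 4 n83590 = n38544 := d11_1 D83590 (iv7 D38544) D38543
theorem F128668 : act 1 n83424 = n83590 := d15_1 (iv0 F128535) (iv7 D83590) (iv2 F127884)
theorem F128669 : act 1 n83590 = n83420 := d15_1 F128668 F128662 (iv2 F128661)
def n83591 : Q := act 6 n38544
theorem D83591 : act 6 n38544 = n83591 := rfl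
def n83592 : Q := act 4 n38545
theorem D83592 : act 4 n38545 = n83592 := rfl
theorem F128670 : act 3 n83592 = n47262 := d5_1 D83592 (iv4 D47262) (iv3 F74512) (iv4 F127900) F127903
theorem F128671 : act 7 n83592 = n79218 := d11_2 (iv7 F86928) D83592 F120495
theorem F128672 : act 0 n79386 = n83592 := d20_10 (iv4 D83592) (iv1 D38545) F56865 F86372 (iv1 D54634) F42212 F35265 (iv1 F33444) (iv4 F56883) D79386
def n83593 : Q := act 6 n38545
theorem D83593 : act 6 n38545 = n83593 := rfl
def n83594 : Q := act 6 n38546
theorem D83594 : act 6 n38546 = n83594 := rfl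
theorem F128673 : act 2 n83594 = n38548 := d3_1 D83594 (iv6 D38548) D38546
theorem F128674 : act 3 n83594 = n79032 := d7_1 D83594 (iv6 D79032) (iv3 F59369)
def n83595 : Q := act 4 n38547
theorem D83595 : act 4 n38547 = n83595 := rfl
theorem F128675 : act 2 n83595 = n72376 := d1_1 D83595 F108863 (iv2 F59371)
theorem F128676 : act 3 n83595 = n80081 := d5_1 D83595 F122887 F107408 (iv4 D38551) (iv3 F59372)
theorem F128677 : act 0 n83595 = n83191 := d18_2 (iv1 F108471) D83595 (iv4 D83191) F59158 F34451 D36036 (iv4 F56788) D75577 F113436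
def n83596 : Q := act 6 n38547
theorem D83596 : act 6 n38547 = n83596 := rfl
theorem F128678 : act 2 n83596 = n79031 := d3_1 D83596 (iv6 D79031) (iv2 F59371)
theorem F128679 : act 3 n83596 = n38552 := d7_1 D83596 (iv6 D38552) (iv3 F59372)
def n83597 : Q := act 0 n38548
theorem D83597 : act 0 n38548 = n83597 := rfl
def n83598 : Q := act 1 n38548
theorem D83598 : act 1 n38548 = n83598 := rfl
def n83599 : Q := act 5 n38548
theorem D83599 : act 5 n38548 = n83599 := rfl
theorem F128680 : act 3 n83599 = n38555 := d6_1 D83599 (iv5 D38555) (iv3 F59373)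
def n83600 : Q := act 7 n38548
theorem D83600 : act 7 n38548 = n83600 := rfl
theorem F128681 : act 3 n83600 = n38556 := d8_1 D83600 (iv7 D38556) (iv3 F59373)
def n83601 : Q := act 0 n38549
theorem D83601 : act 0 n38549 = n83601 := rfl
def n83602 : Q := act 1 n38549
theorem D83602 : act 1 n38549 = n83602 := rfl
def n83603 : Q := act 7 n38549
theorem D83603 : act 7 n38549 = n83603 := rfl
theorem F128682 : act 4 n83603 = n38556 := d11_1 D83603 (iv7 D38556) (iv4 F59374)
def n83604 : Q := act 6 n38550
theorem D83604 : act 6 n38550 = n83604 := rfl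
theorem F128683 : act 2 n83604 = n55309 := d3_1 D83604 (iv6 D55309) F59376
theorem F128684 : act 4 n83604 = n81575 := d10_1 D83604 (iv6 D81575) (iv4 F59379)
def n83605 : Q := act 6 n38551
theorem D83605 : act 6 n38551 = n83605 := rfl
theorem F128685 : act 2 n83605 = n70572 := d3_1 D83605 (iv6 D70572) (iv2 F59380)
theorem F128686 : act 4 n83605 = n38552 := d10_1 D83605 (iv6 D38552) D38551
def n83606 : Q := act 0 n38552
theorem D83606 : act 0 n38552 = n83606 := rfl
def n83607 : Q := act 1 n38552
theorem D83607 : act 1 n38552 = n83607 := rfl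
def n83608 : Q := act 5 n38552
theorem D83608 : act 5 n38552 = n83608 := rfl
theorem F128687 : act 6 n83608 = n38555 := d12_2 D38552 D83608 (iv5 D38555) (iv6 D18364) D18363
def n83609 : Q := act 7 n38552
theorem D83609 : act 7 n38552 = n83609 := rfl
def n83610 : Q := act 2 n38553
theorem D83610 : act 2 n38553 = n83610 := rfl
theorem F128688 : act 7 n38554 = n83610 := d15_2 (iv0 D38553) D38554 (iv2 D83610)
def n83611 : Q := act 3 n38553
theorem D83611 : act 3 n38553 = n83611 := rfl
def n83612 : Q := act 4 n38553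
theorem D83612 : act 4 n38553 = n83612 := rfl
def n83613 : Q := act 5 n38553
theorem D83613 : act 5 n38553 = n83613 := rfl
def n83614 : Q := act 6 n38553
theorem D83614 : act 6 n38553 = n83614 := rfl
def n83615 : Q := act 7 n38553
theorem D83615 : act 7 n38553 = n83615 := rfl
theorem F128689 : act 2 n83615 = n38554 := d4_1 D83615 F128688 (iv2 D83610)
def n83620 : Q := act 0 n38555
theorem D83620 : act 0 n38555 = n83620 := rfl
def n83621 : Q := act 1 n38555
theorem D83621 : act 1 n38555 = n83621 := rfl
def n83622 : Q := act 4 n38555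
theorem D83622 : act 4 n38555 = n83622 := rfl
def n83623 : Q := act 7 n38555
theorem D83623 : act 7 n38555 = n83623 := rfl
theorem F128690 : act 5 n83623 = n38556 := d13_1 D83623 (iv7 D38556) D38555
def n83624 : Q := act 6 n38557
theorem D83624 : act 6 n38557 = n83624 := rfl
def n83625 : Q := act 0 n38559
theorem D83625 : act 0 n38559 = n83625 := rfl
def n83626 : Q := act 1 n38559
theorem D83626 : act 1 n38559 = n83626 := rfl
def n83627 : Q := act 5 n38559
theorem D83627 : act 5 n38559 = n83627 := rfl
theorem F128691 : act 3 n83627 = n38563 := d6_1 D83627 (iv5 D38563) (iv3 F59385)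
theorem F128692 : act 6 n83627 = n79013 := d12_2 D38559 D83627 (iv5 D79013) (iv6 D35962) (iv5 F29544)
def n83628 : Q := act 7 n38559
theorem D83628 : act 7 n38559 = n83628 := rfl
theorem F128693 : act 3 n83628 = n38564 := d8_1 D83628 (iv7 D38564) (iv3 F59385)
def n83629 : Q := act 0 n38560
theorem D83629 : act 0 n38560 = n83629 := rfl
def n83630 : Q := act 1 n38560
theorem D83630 : act 1 n38560 = n83630 := rfl
def n83631 : Q := act 5 n38560
theorem D83631 : act 5 n38560 = n83631 := rfl
theorem F128694 : act 3 n83631 = n79013 := d6_1 D83631 (iv5 D79013) (iv3 F59386)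
theorem F128695 : act 6 n83631 = n38563 := d12_2 D38560 D83631 (iv5 D38563) (iv6 D18368) D18367
def n83632 : Q := act 7 n38560
theorem D83632 : act 7 n38560 = n83632 := rfl
theorem F128696 : act 3 n83632 = n79014 := d8_1 D83632 (iv7 D79014) (iv3 F59386)
def n83633 : Q := act 2 n38561
theorem D83633 : act 2 n38561 = n83633 := rfl
theorem F128697 : act 7 n38562 = n83633 := d15_2 (iv0 D38561) D38562 (iv2 D83633)
def n83638 : Q := act 7 n38561
theorem D83638 : act 7 n38561 = n83638 := rfl
theorem F128698 : act 2 n83638 = n38562 := d4_1 D83638 F128697 (iv2 D83633)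
def n83639 : Q := act 3 n38562
theorem D83639 : act 3 n38562 = n83639 := rfl
def n83640 : Q := act 4 n38562
theorem D83640 : act 4 n38562 = n83640 := rfl
def n83641 : Q := act 5 n38562
theorem D83641 : act 5 n38562 = n83641 := rfl
def n83642 : Q := act 6 n38562
theorem D83642 : act 6 n38562 = n83642 := rfl
def n83643 : Q := act 0 n38563
theorem D83643 : act 0 n38563 = n83643 := rfl
def n83644 : Q := act 1 n38563
theorem D83644 : act 1 n38563 = n83644 := rfl
def n83645 : Q := act 4 n38563
theorem D83645 : act 4 n38563 = n83645 := rfl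
def n83646 : Q := act 7 n38563
theorem D83646 : act 7 n38563 = n83646 := rfl
theorem F128699 : act 5 n83646 = n38564 := d13_1 D83646 (iv7 D38564) D38563
def n83647 : Q := act 0 n38565
theorem D83647 : act 0 n38565 = n83647 := rfl
def n83648 : Q := act 1 n38565
theorem D83648 : act 1 n38565 = n83648 := rfl
theorem F128700 : act 1 n83648 = n38581 := d15_1 D83648 (iv7 D38581) (iv2 F59387)
def n83649 : Q := act 5 n38565
theorem D83649 : act 5 n38565 = n83649 := rfl
theorem F128701 : act 2 n83649 = n38580 := d2_1 D83649 (iv5 D38580) (iv2 F59387)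
theorem F128702 : act 6 n83649 = n38568 := d12_2 D38565 D83649 (iv5 D38568) (iv6 D18370) D18369
def n83650 : Q := act 7 n38565
theorem D83650 : act 7 n38565 = n83650 := rfl
theorem F128703 : act 2 n83650 = n38581 := d4_1 D83650 (iv7 D38581) (iv2 F59387)
theorem F128704 : act 1 n38581 = n83647 := d15_0 (iv0 D83647) D83650 F128703
theorem F128705 : act 1 n38579 = n83650 := d15_1 D38579 (iv7 D83650) F59387
theorem F128706 : act 1 n83650 = n38578 := d15_0 (iv0 D38578) D38581 (iv2 F128703)
def n83651 : Q := act 2 n38566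
theorem D83651 : act 2 n38566 = n83651 := rfl
def n83652 : Q := act 3 n38566
theorem D83652 : act 3 n38566 = n83652 := rfl
def n83653 : Q := act 5 n38566
theorem D83653 : act 5 n38566 = n83653 := rfl
def n83654 : Q := act 6 n38566
theorem D83654 : act 6 n38566 = n83654 := rfl
theorem F128708 : act 5 n83654 = n75611 := d21_6 (iv5 F42575) (iv1 F42576) (iv5 D18369) D18370 D38566 D83654 (iv1 D75611) (iv5 D34583) (iv6 D16766) D16762
def n83655 : Q := act 7 n38566
theorem D83655 : act 7 n38566 = n83655 := rfl
def n83656 : Q := act 3 n38567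
theorem D83656 : act 3 n38567 = n83656 := rfl
def n83657 : Q := act 4 n38567
theorem D83657 : act 4 n38567 = n83657 := rfl
def n83658 : Q := act 5 n38567
theorem D83658 : act 5 n38567 = n83658 := rfl
def n83659 : Q := act 6 n38567
theorem D83659 : act 6 n38567 = n83659 := rfl
def n83660 : Q := act 0 n38568
theorem D83660 : act 0 n38568 = n83660 := rfl
def n83661 : Q := act 1 n38568
theorem D83661 : act 1 n38568 = n83661 := rfl
theorem F128710 : act 1 n83661 = n38595 := d15_1 D83661 (iv7 D38595) (iv2 F59389)
def n83662 : Q := act 4 n38568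
theorem D83662 : act 4 n38568 = n83662 := rfl
theorem F128711 : act 2 n83662 = n38594 := d1_1 D83662 (iv4 D38594) (iv2 F59389)
def n83663 : Q := act 7 n38568
theorem D83663 : act 7 n38568 = n83663 := rfl
theorem F128712 : act 2 n83663 = n38595 := d4_1 D83663 (iv7 D38595) (iv2 F59389)
theorem F128713 : act 5 n83663 = n38569 := d13_1 D83663 (iv7 D38569) D38568
theorem F128714 : act 1 n38595 = n83660 := d15_0 (iv0 D83660) D83663 F128712
theorem F128715 : act 1 n38593 = n83663 := d15_1 D38593 (iv7 D83663) F59389
theorem F128716 : act 1 n83663 = n38592 := d15_0 (iv0 D38592) D38595 (iv2 F128712)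
def n83664 : Q := act 4 n38570
theorem D83664 : act 4 n38570 = n83664 := rfl
theorem F128717 : act 2 n83664 = n60196 := d1_1 D83664 F94750 (iv2 F59395)
theorem F128718 : act 0 n83664 = n82548 := d18_2 (iv1 F128381) D83664 (iv4 D82548) F58751 F29478 D36116 (iv4 F56865) D38545 (iv5 F128378)
def n83665 : Q := act 6 n38570
theorem D83665 : act 6 n38570 = n83665 := rfl
theorem F128719 : act 2 n83665 = n71815 := d3_1 D83665 (iv6 D71815) (iv2 F59395)
theorem F128720 : act 3 n83665 = n38572 := d7_1 D83665 (iv6 D38572) D38570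
def n83666 : Q := act 0 n38571
theorem D83666 : act 0 n38571 = n83666 := rfl
theorem F128721 : act 5 n83666 = n54782 := d17_1 D83666 F86669 (iv5 F52024) F52023 (iv5 D18367) F21092 D26555 F42519 D38571
theorem F128722 : act 4 n83666 = n54820 := d18_1 D83666 (iv1 D54820) (iv4 F42460) (iv5 F42492) (iv4 D26537) F42430 D54793 F86701 F83539
theorem F128723 : act 1 n38573 = n83666 := d15_0 (iv0 D83666) (iv7 F83611) F83609
theorem F128724 : act 3 n44902 = n83666 := d20_3 F115112 (iv1 F127891) F127890 (iv1 F128723) F59397 F41713 (iv1 F21498) (iv4 F27886) (iv3 F55688) D76733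
theorem F128725 : act 7 n83666 = n70435 := d8_2 F126886 F128724 (iv3 F106900)
theorem F128726 : act 2 n83666 = n70434 := d15_3 (iv0 D70434) D70435 (iv7 F128725)
def n83667 : Q := act 1 n38571
theorem D83667 : act 1 n38571 = n83667 := rfl
theorem F128727 : act 1 n83667 = n38573 := d15_1 D83667 F59398 (iv2 F59396)
theorem F128728 : act 7 n83667 = n70434 := d15_2 (iv0 D83666) D83667 (iv2 F128726)
theorem F128729 : act 5 n83667 = n54785 := d17_7 (iv1 D25692) (iv5 D12206) (iv1 F37262) D25661 D52872 F83539 D83667 F86678 (iv4 F51661)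
theorem F128730 : act 4 n83667 = n54819 := d17_9 (iv1 F86750) (iv5 D26542) (iv1 F42450) (iv5 F60263) (iv4 F107039) F107038 F86701 F83539 D83667
theorem F128731 : act 2 n70435 = n83667 := d1_3 F128730 (iv2 F86751) (iv4 F106899)
def n83668 : Q := act 3 n38571
theorem D83668 : act 3 n38571 = n83668 := rfl
theorem F128732 : act 2 n83668 = n54329 := d0_1 D83668 (iv3 D54329) (iv2 F41708) D32688 (iv2 F59396)
theorem F128733 : act 5 n83668 = n70309 := d6_2 F83539 D83668 F106766
theorem F128734 : act 7 n83668 = n70428 := d8_2 F83611 D83668 F106890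
theorem F128735 : act 1 n70427 = n83668 := d15_1 D70427 F128734 (iv2 D70428)
theorem F128736 : act 1 n83668 = n70426 := d15_0 (iv0 D70426) (iv7 F85737) (iv2 F128732)
def n83669 : Q := act 6 n38571
theorem D83669 : act 6 n38571 = n83669 := rfl
theorem F128737 : act 2 n83669 = n70436 := d3_1 D83669 (iv6 D70436) (iv2 F59396)
theorem F128738 : act 4 n83669 = n38572 := d10_1 D83669 (iv6 D38572) D38571
def n83670 : Q := act 0 n38572
theorem D83670 : act 0 n38572 = n83670 := rfl
def n83671 : Q := act 1 n38572
theorem D83671 : act 1 n38572 = n83671 := rfl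
def n83672 : Q := act 5 n38572
theorem D83672 : act 5 n38572 = n83672 := rfl
def n83673 : Q := act 7 n38572
theorem D83673 : act 7 n38572 = n83673 := rfl
def n83674 : Q := act 6 n38573
theorem D83674 : act 6 n38573 = n83674 := rfl
theorem F128739 : act 3 n83674 = n54331 := d7_1 D83674 (iv6 D54331) (iv3 F59397)
theorem F128740 : act 4 n83674 = n38574 := d10_1 D83674 (iv6 D38574) D38573
def n83675 : Q := act 0 n38574
theorem D83675 : act 0 n38574 = n83675 := rfl
def n83676 : Q := act 1 n38574
theorem D83676 : act 1 n38574 = n83676 := rfl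
def n83677 : Q := act 5 n38574
theorem D83677 : act 5 n38574 = n83677 := rfl
theorem F128741 : act 3 n83677 = n71792 := d6_1 D83677 (iv5 D71792) (iv3 F59400)
def n83678 : Q := act 7 n38574
theorem D83678 : act 7 n38574 = n83678 := rfl
theorem F128742 : act 3 n83678 = n71793 := d8_1 D83678 (iv7 D71793) (iv3 F59400)
def n83679 : Q := act 0 n38576
theorem D83679 : act 0 n38576 = n83679 := rfl
theorem F128743 : act 4 n83679 = n39082 := d18_1 D83679 F85863 F85860 (iv5 F75477) F75476 F75464 (iv4 F115099) (iv0 F115100) F83632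
theorem F128744 : act 3 n83679 = n76733 := d20_5 (iv4 D38573) (iv1 D18372) D18373 D38576 D83679 F115112 (iv1 F127891) F127890 F128724 (iv1 F128723)
theorem F128745 : act 1 n46540 = n83679 := d15_0 (iv0 D83679) F59402 (iv2 F73533)
theorem F128746 : act 7 n46556 = n83679 := d8_0 F128744 (iv7 F120309) F91678
theorem F128747 : act 2 n83679 = n46557 := d15_3 F73556 F73555 F128746
theorem F128748 : act 2 n81427 = n79082 := d0_3 (iv3 F128744) F128747 (iv3 F125264) (iv3 D79082) (iv2 F120310)
theorem F128749 : act 7 n81428 = n79082 := d15_2 (iv0 D81427) D81428 (iv2 F128748)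
theorem F128750 : act 3 n76734 = n81428 := d8_3 F128749 (iv3 D79082) (iv7 F120312)
def n83680 : Q := act 1 n38576
theorem D83680 : act 1 n38576 = n83680 := rfl
theorem F128751 : act 1 n83680 = n46540 := d15_1 D83680 F73535 F61940
theorem F128752 : act 7 n83680 = n46557 := d15_2 (iv0 D83679) D83680 (iv2 F128747)
theorem F128753 : act 4 n83680 = n39083 := d18_7 F73794 (iv4 D45721) (iv1 D21856) F16597 (iv5 F29558) (iv4 F59401) D83680 F85864 F85861
theorem F128754 : act 2 n46556 = n83680 := d1_3 F128753 F91679 F91676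
def n83681 : Q := act 6 n38576
theorem D83681 : act 6 n38576 = n83681 := rfl
theorem F128755 : act 3 n83681 = n38577 := d7_1 D83681 (iv6 D38577) D38576
theorem F128756 : act 4 n83681 = n38608 := d10_1 D83681 (iv6 D38608) (iv4 F59401)
def n83682 : Q := act 0 n38577
theorem D83682 : act 0 n38577 = n83682 := rfl
def n83683 : Q := act 1 n38577
theorem D83683 : act 1 n38577 = n83683 := rfl
def n83684 : Q := act 5 n38577
theorem D83684 : act 5 n38577 = n83684 := rfl
def n83685 : Q := act 7 n38577
theorem D83685 : act 7 n38577 = n83685 := rfl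
theorem F128757 : act 4 n83685 = n38581 := d11_1 D83685 (iv7 D38581) (iv4 F59403)
def n83686 : Q := act 2 n38578
theorem D83686 : act 2 n38578 = n83686 := rfl
theorem F128758 : act 7 n38579 = n83686 := d15_2 (iv0 D38578) D38579 (iv2 D83686)
def n83687 : Q := act 3 n38578
theorem D83687 : act 3 n38578 = n83687 := rfl
def n83688 : Q := act 4 n38578
theorem D83688 : act 4 n38578 = n83688 := rfl
def n83689 : Q := act 5 n38578
theorem D83689 : act 5 n38578 = n83689 := rfl
def n83690 : Q := act 6 n38578
theorem D83690 : act 6 n38578 = n83690 := rfl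
def n83691 : Q := act 7 n38578
theorem D83691 : act 7 n38578 = n83691 := rfl
theorem F128759 : act 2 n83691 = n38579 := d4_1 D83691 F128758 (iv2 D83686)
def n83692 : Q := act 3 n38579
theorem D83692 : act 3 n38579 = n83692 := rfl
def n83693 : Q := act 4 n38579
theorem D83693 : act 4 n38579 = n83693 := rfl
def n83694 : Q := act 5 n38579
theorem D83694 : act 5 n38579 = n83694 := rfl
def n83695 : Q := act 6 n38579
theorem D83695 : act 6 n38579 = n83695 := rfl
def n83696 : Q := act 0 n38580
theorem D83696 : act 0 n38580 = n83696 := rfl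
def n83697 : Q := act 1 n38580
theorem D83697 : act 1 n38580 = n83697 := rfl
def n83698 : Q := act 4 n38580
theorem D83698 : act 4 n38580 = n83698 := rfl
theorem F128760 : act 6 n83698 = n38594 := d10_2 (iv6 F59405) D83698 (iv4 D38594)
def n83699 : Q := act 7 n38580
theorem D83699 : act 7 n38580 = n83699 := rfl
theorem F128761 : act 3 n83699 = n38626 := d8_1 D83699 (iv7 D38626) (iv3 F59404)
theorem F128762 : act 5 n83699 = n38581 := d13_1 D83699 (iv7 D38581) D38580
def n83700 : Q := act 0 n38582
theorem D83700 : act 0 n38582 = n83700 := rfl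
theorem F128763 : act 1 n38587 = n83700 := d15_0 (iv0 D83700) (iv7 F59407) (iv2 F59408)
def n83702 : Q := act 3 n38582
theorem D83702 : act 3 n38582 = n83702 := rfl
theorem F128765 : act 7 n83702 = n38588 := d8_2 F59407 D83702 (iv3 D38588)
def n83703 : Q := act 4 n38582
theorem D83703 : act 4 n38582 = n83703 := rfl
theorem F128766 : act 2 n83703 = n38584 := d1_1 D83703 (iv4 D38584) D38582
theorem F128767 : act 7 n83703 = n38589 := d11_2 F59407 D83703 (iv4 D38589)
def n83704 : Q := act 5 n38582
theorem D83704 : act 5 n38582 = n83704 := rfl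
theorem F128768 : act 2 n83704 = n38585 := d2_1 D83704 (iv5 D38585) D38582
theorem F128769 : act 7 n83704 = n38590 := d13_2 F59407 D83704 (iv5 D38590)
def n83705 : Q := act 6 n38582
theorem D83705 : act 6 n38582 = n83705 := rfl
theorem F128770 : act 2 n83705 = n38586 := d3_1 D83705 (iv6 D38586) D38582
def n83706 : Q := act 0 n38583
theorem D83706 : act 0 n38583 = n83706 := rfl
def n83707 : Q := act 1 n38583
theorem D83707 : act 1 n38583 = n83707 := rfl
def n83708 : Q := act 2 n38583
theorem D83708 : act 2 n38583 = n83708 := rfl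
def n83709 : Q := act 4 n38583
theorem D83709 : act 4 n38583 = n83709 := rfl
def n83710 : Q := act 5 n38583
theorem D83710 : act 5 n38583 = n83710 := rfl
theorem F128771 : act 3 n83710 = n38585 := d6_1 D83710 (iv5 D38585) D38583
def n83711 : Q := act 6 n38583
theorem D83711 : act 6 n38583 = n83711 := rfl
theorem F128772 : act 3 n83711 = n38586 := d7_1 D83711 (iv6 D38586) D38583
def n83712 : Q := act 7 n38583
theorem D83712 : act 7 n38583 = n83712 := rfl
theorem F128773 : act 3 n83712 = n38587 := d8_1 D83712 (iv7 D38587) D38583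
def n83713 : Q := act 0 n38584
theorem D83713 : act 0 n38584 = n83713 := rfl
def n83714 : Q := act 1 n38584
theorem D83714 : act 1 n38584 = n83714 := rfl
theorem F128774 : act 1 n83714 = n38589 := d15_1 D83714 (iv7 F128767) F128766
def n83715 : Q := act 3 n38584
theorem D83715 : act 3 n38584 = n83715 := rfl
theorem F128775 : act 0 n83715 = n39592 := d20_4 (iv4 F13559) D18375 D38584 D83715 (iv3 D39592) D39593 F60469 (iv4 D39360) (iv3 D18659) (iv1 D8758)
def n83716 : Q := act 5 n38584
theorem D83716 : act 5 n38584 = n83716 := rfl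
def n83717 : Q := act 6 n38584
theorem D83717 : act 6 n38584 = n83717 := rfl
theorem F128776 : act 4 n83717 = n38586 := d10_1 D83717 (iv6 D38586) D38584
def n83718 : Q := act 7 n38584
theorem D83718 : act 7 n38584 = n83718 := rfl
theorem F128777 : act 2 n83718 = n38589 := d4_1 D83718 (iv7 F128767) F128766
theorem F128778 : act 4 n83718 = n38587 := d11_1 D83718 (iv7 D38587) D38584
theorem F128779 : act 1 n38589 = n83713 := d15_0 (iv0 D83713) D83718 F128777
def n83719 : Q := act 0 n38585
theorem D83719 : act 0 n38585 = n83719 := rfl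
def n83720 : Q := act 1 n38585
theorem D83720 : act 1 n38585 = n83720 := rfl
theorem F128780 : act 1 n83720 = n38590 := d15_1 D83720 (iv7 F128769) F128768
def n83721 : Q := act 4 n38585
theorem D83721 : act 4 n38585 = n83721 := rfl
def n83722 : Q := act 6 n38585
theorem D83722 : act 6 n38585 = n83722 := rfl
def n83723 : Q := act 7 n38585
theorem D83723 : act 7 n38585 = n83723 := rfl
theorem F128781 : act 2 n83723 = n38590 := d4_1 D83723 (iv7 F128769) F128768
theorem F128782 : act 5 n83723 = n38587 := d13_1 D83723 (iv7 D38587) D38585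
theorem F128783 : act 1 n38590 = n83719 := d15_0 (iv0 D83719) D83723 F128781
def n83724 : Q := act 0 n38586
theorem D83724 : act 0 n38586 = n83724 := rfl
def n83725 : Q := act 1 n38586
theorem D83725 : act 1 n38586 = n83725 := rfl
def n83726 : Q := act 5 n38586
theorem D83726 : act 5 n38586 = n83726 := rfl
theorem F128784 : act 0 n83726 = n75593 := d21_7 F42856 (iv1 D18372) (iv5 D8653) D8654 D18375 D38586 D83726 (iv5 D75593) (iv6 D34578) (iv1 F42854)
theorem F128785 : act 4 n83725 = n39353 := d17_9 (iv1 D39353) D39354 F60318 F50664 (iv4 F54854) D75593 (iv0 F128784) (iv5 D83726) D83725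
theorem F128786 : act 1 n83726 = n75613 := d15_1 (iv0 F128784) (iv7 D75613) (iv2 F113447)
def n83727 : Q := act 7 n38586
theorem D83727 : act 7 n38586 = n83727 := rfl
def n83728 : Q := act 6 n38587
theorem D83728 : act 6 n38587 = n83728 := rfl
theorem F128787 : act 2 n83728 = n38591 := d3_1 D83728 (iv6 D38591) (iv2 F59408)
def n83729 : Q := act 0 n38588
theorem D83729 : act 0 n38588 = n83729 := rfl
def n83730 : Q := act 1 n38588
theorem D83730 : act 1 n38588 = n83730 := rfl
def n83731 : Q := act 2 n38588
theorem D83731 : act 2 n38588 = n83731 := rfl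
def n83732 : Q := act 4 n38588
theorem D83732 : act 4 n38588 = n83732 := rfl
def n83733 : Q := act 5 n38588
theorem D83733 : act 5 n38588 = n83733 := rfl
theorem F128788 : act 3 n83733 = n38590 := d6_1 D83733 (iv5 D38590) D38588
def n83734 : Q := act 6 n38588
theorem D83734 : act 6 n38588 = n83734 := rfl
theorem F128789 : act 3 n83734 = n38591 := d7_1 D83734 (iv6 D38591) D38588
def n83735 : Q := act 5 n38589
theorem D83735 : act 5 n38589 = n83735 := rfl
def n83736 : Q := act 6 n38589
theorem D83736 : act 6 n38589 = n83736 := rfl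
theorem F128790 : act 4 n83736 = n38591 := d10_1 D83736 (iv6 D38591) D38589
def n83737 : Q := act 4 n38590
theorem D83737 : act 4 n38590 = n83737 := rfl
def n83738 : Q := act 6 n38590
theorem D83738 : act 6 n38590 = n83738 := rfl
def n83739 : Q := act 0 n38591
theorem D83739 : act 0 n38591 = n83739 := rfl
def n83740 : Q := act 1 n38591
theorem D83740 : act 1 n38591 = n83740 := rfl
def n83741 : Q := act 5 n38591
theorem D83741 : act 5 n38591 = n83741 := rfl
def n83742 : Q := act 7 n38591
theorem D83742 : act 7 n38591 = n83742 := rfl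
def n83743 : Q := act 2 n38592
theorem D83743 : act 2 n38592 = n83743 := rfl
theorem F128791 : act 7 n38593 = n83743 := d15_2 (iv0 D38592) D38593 (iv2 D83743)
def n83744 : Q := act 3 n38592
theorem D83744 : act 3 n38592 = n83744 := rfl
def n83745 : Q := act 4 n38592
theorem D83745 : act 4 n38592 = n83745 := rfl
def n83746 : Q := act 5 n38592
theorem D83746 : act 5 n38592 = n83746 := rfl
def n83747 : Q := act 6 n38592
theorem D83747 : act 6 n38592 = n83747 := rfl
def n83748 : Q := act 7 n38592
theorem D83748 : act 7 n38592 = n83748 := rfl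
theorem F128792 : act 2 n83748 = n38593 := d4_1 D83748 F128791 (iv2 D83743)
def n83749 : Q := act 3 n38593
theorem D83749 : act 3 n38593 = n83749 := rfl
def n83750 : Q := act 4 n38593
theorem D83750 : act 4 n38593 = n83750 := rfl
def n83751 : Q := act 5 n38593
theorem D83751 : act 5 n38593 = n83751 := rfl
def n83752 : Q := act 6 n38593
theorem D83752 : act 6 n38593 = n83752 := rfl
def n83753 : Q := act 0 n38594
theorem D83753 : act 0 n38594 = n83753 := rfl
def n83754 : Q := act 1 n38594
theorem D83754 : act 1 n38594 = n83754 := rfl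
def n83755 : Q := act 3 n38594
theorem D83755 : act 3 n38594 = n83755 := rfl
theorem F128793 : act 4 n83755 = n38686 := d5_2 D38594 D83755 (iv3 D38686) (iv4 D18401) (iv3 F29550)
def n83756 : Q := act 5 n38594
theorem D83756 : act 5 n38594 = n83756 := rfl
def n83757 : Q := act 7 n38594
theorem D83757 : act 7 n38594 = n83757 := rfl
theorem F128794 : act 4 n83757 = n38595 := d11_1 D83757 (iv7 D38595) D38594
def n83758 : Q := act 6 n38595
theorem D83758 : act 6 n38595 = n83758 := rfl
theorem F128795 : act 3 n83758 = n38689 := d7_1 D83758 (iv6 D38689) (iv3 F59409)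
def n83759 : Q := act 6 n38596
theorem D83759 : act 6 n38596 = n83759 := rfl
theorem F128796 : act 2 n83759 = n77605 := d3_1 D83759 (iv6 D77605) (iv2 F59411)
theorem F128797 : act 3 n83759 = n46278 := d7_1 D83759 (iv6 D46278) (iv3 F59412)
theorem F128798 : act 4 n83759 = n38597 := d10_1 D83759 (iv6 D38597) D38596
def n83760 : Q := act 0 n38597
theorem D83760 : act 0 n38597 = n83760 := rfl
def n83761 : Q := act 1 n38597
theorem D83761 : act 1 n38597 = n83761 := rfl
theorem F128799 : act 1 n83761 = n77613 := d15_1 D83761 (iv7 D77613) (iv2 F59415)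
def n83762 : Q := act 5 n38597
theorem D83762 : act 5 n38597 = n83762 := rfl
theorem F128800 : act 2 n83762 = n77612 := d2_1 D83762 (iv5 D77612) (iv2 F59415)
theorem F128801 : act 3 n83762 = n38600 := d6_1 D83762 (iv5 D38600) (iv3 F59416)
theorem F128802 : act 6 n83762 = n45915 := d12_2 D38597 D83762 (iv5 D45915) (iv6 D21954) (iv5 F29554)
def n83763 : Q := act 7 n38597
theorem D83763 : act 7 n38597 = n83763 := rfl
theorem F128803 : act 2 n83763 = n77613 := d4_1 D83763 (iv7 D77613) (iv2 F59415)
theorem F128804 : act 3 n83763 = n38601 := d8_1 D83763 (iv7 D38601) (iv3 F59416)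
theorem F128805 : act 1 n77613 = n83760 := d15_0 (iv0 D83760) D83763 F128803
theorem F128806 : act 1 n77611 = n83763 := d15_1 D77611 (iv7 D83763) F59415
theorem F128807 : act 4 n57677 = n83760 := d20_6 (iv4 D13189) (iv1 D6270) (iv4 F9757) (iv3 F21950) D27550 D57677 (iv1 F128805) F116512 (iv3 D57806) (iv1 F44499)
theorem F128808 : act 0 n58359 = n46278 := d20_4 F90834 (iv1 F44867) D27784 D58359 (iv3 F128797) F128798 D83760 (iv4 F128807) (iv3 D57677) (iv1 F90839)
theorem F128809 : act 1 n83763 = n77610 := d15_0 (iv0 D77610) D77613 (iv2 F128803)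
def n83764 : Q := act 2 n38598
theorem D83764 : act 2 n38598 = n83764 := rfl
theorem F128810 : act 7 n38599 = n83764 := d15_2 (iv0 D38598) D38599 (iv2 D83764)
def n83765 : Q := act 3 n38598
theorem D83765 : act 3 n38598 = n83765 := rfl
def n83766 : Q := act 4 n38598
theorem D83766 : act 4 n38598 = n83766 := rfl
theorem F128811 : act 3 n45805 = n83766 := d20_5 (iv4 D8806) F117181 (iv4 F29154) (iv3 F34398) D45805 (iv4 D83766) (iv1 F113417) F113413 (iv3 D39706) (iv1 D18788)
def n83767 : Q := act 5 n38598
theorem D83767 : act 5 n38598 = n83767 := rfl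
def n83768 : Q := act 6 n38598
theorem D83768 : act 6 n38598 = n83768 := rfl
def n83769 : Q := act 7 n38598
theorem D83769 : act 7 n38598 = n83769 := rfl
theorem F128812 : act 2 n83769 = n38599 := d4_1 D83769 F128810 (iv2 D83764)
def n83770 : Q := act 3 n38599
theorem D83770 : act 3 n38599 = n83770 := rfl
def n83771 : Q := act 4 n38599
theorem D83771 : act 4 n38599 = n83771 := rfl
def n83772 : Q := act 5 n38599
theorem D83772 : act 5 n38599 = n83772 := rfl
def n83773 : Q := act 6 n38599
theorem D83773 : act 6 n38599 = n83773 := rfl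
def n83774 : Q := act 0 n38600
theorem D83774 : act 0 n38600 = n83774 := rfl
def n83775 : Q := act 1 n38600
theorem D83775 : act 1 n38600 = n83775 := rfl
theorem F128813 : act 5 n83572 = n83775 := d21_6 (iv5 F13299) F13300 D8648 D18355 D38527 D83572 (iv1 D83775) (iv5 D38600) (iv6 D18380) F13571
def n83776 : Q := act 4 n38600
theorem D83776 : act 4 n38600 = n83776 := rfl
theorem F128814 : act 6 n83776 = n45929 := d10_2 (iv6 F59417) D83776 (iv4 D45929)
def n83777 : Q := act 7 n38600
theorem D83777 : act 7 n38600 = n83777 := rfl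
theorem F128815 : act 5 n83777 = n38601 := d13_1 D83777 (iv7 D38601) D38600
def n83778 : Q := act 2 n38602
theorem D83778 : act 2 n38602 = n83778 := rfl
theorem F128816 : act 7 n38603 = n83778 := d15_2 (iv0 D38602) D38603 (iv2 D83778)
def n83779 : Q := act 3 n38602
theorem D83779 : act 3 n38602 = n83779 := rfl
def n83780 : Q := act 4 n38602
theorem D83780 : act 4 n38602 = n83780 := rfl
def n83781 : Q := act 5 n38602
theorem D83781 : act 5 n38602 = n83781 := rfl
def n83782 : Q := act 6 n38602
theorem D83782 : act 6 n38602 = n83782 := rfl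
def n83783 : Q := act 7 n38602
theorem D83783 : act 7 n38602 = n83783 := rfl
theorem F128817 : act 2 n83783 = n38603 := d4_1 D83783 F128816 (iv2 D83778)
def n83784 : Q := act 3 n38603
theorem D83784 : act 3 n38603 = n83784 := rfl
def n83785 : Q := act 4 n38603
theorem D83785 : act 4 n38603 = n83785 := rfl
theorem F128818 : act 3 n47155 = n83785 := d20_5 (iv4 D27889) F124340 (iv4 F89557) F89556 (iv1 F74427) (iv4 D83785) (iv1 D38603) F29557 (iv3 F29812) (iv1 F125917)
def n83786 : Q := act 5 n38603
theorem D83786 : act 5 n38603 = n83786 := rfl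
def n83787 : Q := act 6 n38603
theorem D83787 : act 6 n38603 = n83787 := rfl
def n83788 : Q := act 0 n38604
theorem D83788 : act 0 n38604 = n83788 := rfl
def n83789 : Q := act 1 n38604
theorem D83789 : act 1 n38604 = n83789 := rfl
theorem F128819 : act 5 n83528 = n83789 := d21_6 (iv5 D3883) D3880 D8644 D18348 D38503 D83528 (iv1 D83789) (iv5 D38604) (iv6 D18381) (iv1 D8656)
def n83790 : Q := act 4 n38604
theorem D83790 : act 4 n38604 = n83790 := rfl
theorem F128820 : act 6 n83790 = n46192 := d10_2 (iv6 F59420) D83790 (iv4 D46192)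
def n83791 : Q := act 7 n38604
theorem D83791 : act 7 n38604 = n83791 := rfl
theorem F128821 : act 3 n83791 = n77560 := d8_1 D83791 (iv7 D77560) (iv3 F59419)
theorem F128822 : act 5 n83791 = n38605 := d13_1 D83791 (iv7 D38605) D38604
def n83792 : Q := act 3 n38606
theorem D83792 : act 3 n38606 = n83792 := rfl
theorem F128823 : act 2 n83792 = n81832 := d0_1 D83792 (iv3 F125785) (iv2 F109451) (iv3 D46552) (iv2 F74228)
theorem F128824 : act 5 n83792 = n41455 := d6_2 (iv5 F72118) D83792 (iv3 D41455)
theorem F128825 : act 7 n83792 = n46547 := d8_2 (iv7 F74229) D83792 (iv3 D46547)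
theorem F128826 : act 0 n83792 = n46980 := d19_4 (iv1 F71692) F72119 (iv4 F59922) D83792 (iv5 D46980) (iv4 F70578) (iv3 F75343) F75345 (iv5 F120156) F120155 F106282 F54524 F43300 (iv4 F28409) (iv3 D17425) F26548 D15047 D31900 (iv3 F70351)

end Cfsg.Agent.Helper17.ONTC
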